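import Groth.Statements.S9783
import Groth.Agent.S9732
import Groth.Agent.ThickRingLib.Kaehler
import Groth.Agent.OmegaAffLib.Chart
import Groth.Agent.KFlatLib.AffinePull

set_option autoImplicit false
universe u
open OmegaSh

namespace Groth.Agent.S9783

open AlgebraicGeometry CategoryTheory Limits TensorProduct

/-- On affine charts a universal first order thickening is a universal thickening of rings. -/
theorem isUnivRing {Z Z' X : Scheme.{u}} (h : Z ⟶ X) (i : Z ⟶ Z') (h' : Z' ⟶ X)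
    (hu : OmegaSh.IsUnivThickening h i h')
    {U : X.Opens} (hU : IsAffineOpen U) {V : Z'.Opens} (hV : IsAffineOpen V) (e : V ≤ h' ⁻¹ᵁ U)
    [Algebra Γ(X, U) Γ(Z', V)] [Algebra Γ(Z', V) Γ(Z, i ⁻¹ᵁ V)] [Algebra Γ(X, U) Γ(Z, i ⁻¹ᵁ V)]
    [IsScalarTower Γ(X, U) Γ(Z', V) Γ(Z, i ⁻¹ᵁ V)]
    (h1 : algebraMap Γ(X, U) Γ(Z', V) = (h'.appLE U V e).hom)
    (h2 : algebraMap Γ(Z', V) Γ(Z, i ⁻¹ᵁ V) = (i.app V).hom) :
    OmegaSh.IsUnivThickeningRing Γ(X, U) Γ(Z, i ⁻¹ᵁ V) Γ(Z', V)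
      (IsScalarTower.toAlgHom Γ(X, U) Γ(Z', V) Γ(Z, i ⁻¹ᵁ V)) := by
  obtain ⟨⟨⟨hci, hsurj⟩, hsq⟩, hih, huniv⟩ := hu
  have hW : IsAffineOpen (i ⁻¹ᵁ V) := hV.preimage i
  refine ⟨(congrArg DFunLike.coe h2).symm ▸ i.app_surjective V hV, ?_, fun C _ _ I hI a => ?_⟩
  · have hk := congrArg (fun K : Z'.IdealSheafData => K.ideal ⟨V, hV⟩) hsq
    simp only [Scheme.IdealSheafData.ideal_mul, Pi.mul_apply, Scheme.IdealSheafData.ideal_bot, Pi.bot_apply,
      Scheme.Hom.ker_apply] at hk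
    rw [pow_two]
    change RingHom.ker (algebraMap Γ(Z', V) Γ(Z, i ⁻¹ᵁ V)) * RingHom.ker (algebraMap Γ(Z', V) Γ(Z, i ⁻¹ᵁ V)) = ⊥
    rw [h2]
    exact hk
  let q : CommRingCat.of C ⟶ CommRingCat.of (C ⧸ I) := CommRingCat.ofHom (Ideal.Quotient.mk I)
  let aT : Spec (CommRingCat.of (C ⧸ I)) ⟶ Z := Spec.map (CommRingCat.ofHom a.toRingHom) ≫ hW.fromSpec
  let b : Spec (CommRingCat.of C) ⟶ X := Spec.map (CommRingCat.ofHom (algebraMap Γ(X, U) C)) ≫ hU.fromSpec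
  have hi : hW.fromSpec ≫ i = Spec.map (i.app V) ≫ hV.fromSpec := by
    rw [← IsAffineOpen.SpecMap_appLE_fromSpec i hV hW le_rfl, Scheme.Hom.appLE_eq_app]
  have hh' : hV.fromSpec ≫ h' = Spec.map (h'.appLE U V e) ≫ hU.fromSpec :=
    (IsAffineOpen.SpecMap_appLE_fromSpec h' hU hV e).symm
  have hb : Spec.map q ≫ b = aT ≫ h := by
    simp only [aT, b, Category.assoc, ← hih]
    rw [reassoc_of% hi, hh', ← Spec.map_comp_assoc, ← Spec.map_comp_assoc, ← Spec.map_comp_assoc]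
    congr 2
    exact CommRingCat.hom_ext (RingHom.ext fun r => (a.commutes r).symm.trans (congrArg a (by rw [IsScalarTower.algebraMap_apply Γ(X, U) Γ(Z', V) Γ(Z, i ⁻¹ᵁ V), h1, h2]; rfl)))
  obtain ⟨a', ⟨ha1, ha2⟩, huniq⟩ := huniv _ _ (Spec.map q) b aT (Groth.Agent.S9732.fo_spec I hI) hb
  have haTi : aT ≫ i = Spec.map (CommRingCat.ofHom a.toRingHom) ≫ Spec.map (i.app V) ≫ hV.fromSpec := by
    simp only [aT, Category.assoc, hi]
  have hrange : Set.range a' ⊆ Set.range hV.fromSpec := by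
    rintro _ ⟨p, rfl⟩
    obtain ⟨p₀, rfl⟩ := (Groth.Agent.S9732.fo_spec I hI).1.2.1 p
    rw [← Scheme.Hom.comp_apply, ha1, haTi, ← Category.assoc, Scheme.Hom.comp_apply]
    exact ⟨_, rfl⟩
  let φ : Γ(Z', V) ⟶ CommRingCat.of C := Spec.preimage (IsOpenImmersion.lift hV.fromSpec a' hrange)
  have hφ : Spec.map φ ≫ hV.fromSpec = a' := by
    simp only [φ, Spec.map_preimage, IsOpenImmersion.lift_fac]
  have hφ1 : h'.appLE U V e ≫ φ = CommRingCat.ofHom (algebraMap Γ(X, U) C) := by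
    apply Spec.map_injective
    rw [← cancel_mono hU.fromSpec, Spec.map_comp, Category.assoc, ← hh', reassoc_of% hφ]
    exact ha2
  have hφ2 : φ ≫ q = i.app V ≫ CommRingCat.ofHom a.toRingHom := by
    apply Spec.map_injective
    rw [← cancel_mono hV.fromSpec, Spec.map_comp, Category.assoc, hφ, ha1, haTi, ← Spec.map_comp_assoc]
  refine ⟨{ toRingHom := φ.hom, commutes' := fun r => (congrArg φ.hom congr($h1 r)).trans congr($hφ1 r) }, ?_, fun g hg => ?_⟩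
  · exact AlgHom.ext fun x => (congr($hφ2 x) : _).trans (congrArg a congr($h2 x).symm)
  · have hg1 : Spec.map q ≫ Spec.map (CommRingCat.ofHom g.toRingHom) ≫ hV.fromSpec = aT ≫ i := by
      rw [haTi, ← Spec.map_comp_assoc, ← Spec.map_comp_assoc]
      congr 2
      exact CommRingCat.hom_ext (RingHom.ext fun x => (AlgHom.congr_fun hg x).trans (congrArg a congr($h2 x)))
    have hg2 : (Spec.map (CommRingCat.ofHom g.toRingHom) ≫ hV.fromSpec) ≫ h' = b := by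
      rw [Category.assoc, hh', ← Spec.map_comp_assoc]
      congr 2
      exact CommRingCat.hom_ext (RingHom.ext fun r => (congrArg g.toRingHom congr($h1 r).symm).trans (g.commutes r))
    have h3 := huniq _ ⟨hg1, hg2⟩
    rw [← hφ, cancel_mono] at h3
    exact AlgHom.ext fun x => congr($(Spec.map_injective h3) x)



theorem result_aux {Z X S Z' : Scheme.{u}} (h : Z ⟶ X) (q : X ⟶ S)
    (i : Z ⟶ Z') (h' : Z' ⟶ X) (hu : OmegaSh.IsUnivThickening h i h')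
    (ΩX : X.Modules) (dX : OmegaSh.Der q ΩX) (hdX : OmegaSh.IsUniversal dX)
    (ΩZ' : Z'.Modules) (dZ' : OmegaSh.Der (h' ≫ q) ΩZ') (hdZ' : OmegaSh.IsUniversal dZ')
    (c : (Scheme.Modules.pullback h').obj ΩX ⟶ ΩZ') (hc : OmegaSh.IsDiffCompat h' dX dZ' c) :
    IsIso ((Scheme.Modules.pullback i).map c) := by
  haveI : IsClosedImmersion i := hu.1.1.1
  haveI : Coh.IsQCoh ΩX := OmegaAffLib.isQCoh_of_isUniversal hdX
  haveI : Coh.IsQCoh ΩZ' := OmegaAffLib.isQCoh_of_isUniversal hdZ'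
  haveI : Coh.IsQCoh ((Scheme.Modules.pullback h').obj ΩX) := KFlatLib.isQCoh_pullback h' ΩX
  haveI : Coh.IsQCoh ((Scheme.Modules.pullback i).obj ((Scheme.Modules.pullback h').obj ΩX)) :=
    KFlatLib.isQCoh_pullback i _
  haveI : Coh.IsQCoh ((Scheme.Modules.pullback i).obj ΩZ') := KFlatLib.isQCoh_pullback i _
  refine OmegaAffLib.isIso_of_bijective_charts _ fun x => ?_
  obtain ⟨W, hW, hxW, -⟩ := exists_isAffineOpen_mem_and_subset
    (show q (h' (i x)) ∈ (⊤ : S.Opens) from trivial)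
  obtain ⟨U, hU, hxU, e₁⟩ := exists_isAffineOpen_mem_and_subset (show h' (i x) ∈ q ⁻¹ᵁ W from hxW)
  obtain ⟨V, hV, hxV, e₃⟩ := exists_isAffineOpen_mem_and_subset (show i x ∈ h' ⁻¹ᵁ U from hxU)
  have e₂ : V ≤ (h' ≫ q) ⁻¹ᵁ W := fun y hy => e₁ (e₃ hy)
  refine ⟨i ⁻¹ᵁ V, hV.preimage i, hxV, ?_⟩
  letI := (q.appLE W U e₁).hom.toAlgebra
  letI := (h'.appLE U V e₃).hom.toAlgebra
  letI := (i.app V).hom.toAlgebra
  letI : Algebra Γ(X, U) Γ(Z, i ⁻¹ᵁ V) := ((i.app V).hom.comp (h'.appLE U V e₃).hom).toAlgebra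
  haveI : IsScalarTower Γ(X, U) Γ(Z', V) Γ(Z, i ⁻¹ᵁ V) := IsScalarTower.of_algebraMap_eq fun _ => rfl
  letI : Algebra Γ(S, W) Γ(Z', V) := ((h'.appLE U V e₃).hom.comp (q.appLE W U e₁).hom).toAlgebra
  haveI : IsScalarTower Γ(S, W) Γ(X, U) Γ(Z', V) := IsScalarTower.of_algebraMap_eq fun _ => rfl
  have hR : algebraMap Γ(S, W) Γ(Z', V) = ((h' ≫ q).appLE W V e₂).hom := by
    rw [← Scheme.Hom.appLE_comp_appLE h' q W U V e₁ e₃]
    rfl
  obtain ⟨e, he⟩ := OmegaAffLib.exists_equiv_alg hdX hW hU e₁ rfl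
  obtain ⟨e', he'⟩ := OmegaAffLib.exists_equiv_alg hdZ' hW hV e₂ hR
  letI : Module Γ(X, U) Γ(KFlatLib.pb h' ΩX, V) := Module.compHom _ (h'.appLE U V e₃).hom
  haveI : IsScalarTower Γ(X, U) Γ(Z', V) Γ(KFlatLib.pb h' ΩX, V) :=
    IsScalarTower.of_algebraMap_smul fun a t => rfl
  letI : Module Γ(Z', V) Γ(KFlatLib.pb i (KFlatLib.pb h' ΩX), i ⁻¹ᵁ V) := Module.compHom _ (i.app V).hom
  haveI : IsScalarTower Γ(Z', V) Γ(Z, i ⁻¹ᵁ V) Γ(KFlatLib.pb i (KFlatLib.pb h' ΩX), i ⁻¹ᵁ V) :=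
    IsScalarTower.of_algebraMap_smul fun a t => rfl
  letI : Module Γ(Z', V) Γ(KFlatLib.pb i ΩZ', i ⁻¹ᵁ V) := Module.compHom _ (i.app V).hom
  haveI : IsScalarTower Γ(Z', V) Γ(Z, i ⁻¹ᵁ V) Γ(KFlatLib.pb i ΩZ', i ⁻¹ᵁ V) :=
    IsScalarTower.of_algebraMap_smul fun a t => rfl
  have hi : i.appLE V (i ⁻¹ᵁ V) le_rfl = i.app V := Scheme.Hom.appLE_eq_app i
  let ψ₁ : Γ(ΩX, U) →ₗ[Γ(X, U)] Γ(KFlatLib.pb h' ΩX, V) :=
    { toFun := KFlatLib.puSecLE h' ΩX e₃
      map_add' := map_add _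
      map_smul' := fun r m => KFlatLib.puSecLE_smul h' ΩX e₃ r m }
  have hψ₁ : IsBaseChange Γ(Z', V) ψ₁ :=
    KFlatLib.isBaseChange_puSec h' ΩX hU hV e₃ (fun r => rfl) ψ₁ fun _ => rfl
  let ψ₂ : Γ(KFlatLib.pb h' ΩX, V) →ₗ[Γ(Z', V)] Γ(KFlatLib.pb i (KFlatLib.pb h' ΩX), i ⁻¹ᵁ V) :=
    { toFun := KFlatLib.puSecLE i _ le_rfl
      map_add' := map_add _
      map_smul' := fun r m => by rw [KFlatLib.puSecLE_smul, hi]; rfl }
  have hψ₂ : IsBaseChange Γ(Z, i ⁻¹ᵁ V) ψ₂ :=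
    KFlatLib.isBaseChange_puSec i _ hV (hV.preimage i) le_rfl (fun r => by rw [hi]; rfl) ψ₂ fun _ => rfl
  let ψ₃ : Γ(ΩZ', V) →ₗ[Γ(Z', V)] Γ(KFlatLib.pb i ΩZ', i ⁻¹ᵁ V) :=
    { toFun := KFlatLib.puSecLE i _ le_rfl
      map_add' := map_add _
      map_smul' := fun r m => by rw [KFlatLib.puSecLE_smul, hi]; rfl }
  have hψ₃ : IsBaseChange Γ(Z, i ⁻¹ᵁ V) ψ₃ :=
    KFlatLib.isBaseChange_puSec i _ hV (hV.preimage i) le_rfl (fun r => by rw [hi]; rfl) ψ₃ fun _ => rfl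
  have key : ∀ w, c.app V (ψ₁ (e w)) = e' (KaehlerDifferential.map Γ(S, W) Γ(S, W) Γ(X, U) Γ(Z', V) w) := by
    intro w
    have hw : w ∈ Submodule.span Γ(X, U) (Set.range (KaehlerDifferential.D Γ(S, W) Γ(X, U))) := by
      rw [KaehlerDifferential.span_range_derivation]; trivial
    induction hw using Submodule.span_induction with
    | mem y hy =>
      obtain ⟨a, rfl⟩ := hy
      rw [he, KaehlerDifferential.map_D, he']
      exact OmegaAffLib.chartMap_d hc e₃ a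
    | zero => simp only [map_zero]
    | add y z _ _ hy hz =>
      simp only [map_add]
      exact congrArg₂ (· + ·) hy hz
    | smul a y _ hy =>
      rw [map_smul e, map_smul (KaehlerDifferential.map Γ(S, W) Γ(S, W) Γ(X, U) Γ(Z', V)),
        ← algebraMap_smul Γ(Z', V) a (KaehlerDifferential.map _ _ _ _ y), map_smul e', ← hy]
      exact OmegaAffLib.chartMap_smul (c := c) e₃ a (e y)
  let E : Γ(Z', V) ⊗[Γ(X, U)] Ω[Γ(X, U)⁄Γ(S, W)] ≃ₗ[Γ(Z', V)] Γ(KFlatLib.pb h' ΩX, V) :=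
    (TensorProduct.AlgebraTensorModule.congr (LinearEquiv.refl Γ(Z', V) Γ(Z', V)) e).trans hψ₁.equiv
  have hE : ∀ y, c.app V (E y) = e' (KaehlerDifferential.mapBaseChange Γ(S, W) Γ(X, U) Γ(Z', V) y) := by
    intro y
    induction y using TensorProduct.induction_on with
    | zero => simp only [map_zero]
    | add a b ha hb => simp only [map_add, ha, hb]
    | tmul b w =>
      rw [KaehlerDifferential.mapBaseChange_tmul, map_smul e', ← key]
      refine (congrArg (c.app V) (hψ₁.equiv_tmul b (e w))).trans ?_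
      exact Scheme.Modules.Hom.app_smul c b _
  let L₁ := (TensorProduct.AlgebraTensorModule.congr (LinearEquiv.refl Γ(Z, i ⁻¹ᵁ V) Γ(Z, i ⁻¹ᵁ V)) E).trans
    hψ₂.equiv
  let L₂ := (TensorProduct.AlgebraTensorModule.congr (LinearEquiv.refl Γ(Z, i ⁻¹ᵁ V) Γ(Z, i ⁻¹ᵁ V)) e').trans
    hψ₃.equiv
  have hnat : ∀ m, ((Scheme.Modules.pullback i).map c).app (i ⁻¹ᵁ V) (ψ₂ m) = ψ₃ (c.app V m) := fun m =>
    (QCohLib.app_map ((Scheme.Modules.pullback i).map c) (homOfLE le_rfl) _).trans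
      (congrArg ((KFlatLib.pb i ΩZ').presheaf.map (homOfLE le_rfl).op) (KFlatLib.puSec_natural i c m))
  have hL : ∀ z, ((Scheme.Modules.pullback i).map c).app (i ⁻¹ᵁ V) (L₁ z) =
      L₂ ((KaehlerDifferential.mapBaseChange Γ(S, W) Γ(X, U) Γ(Z', V)).baseChange Γ(Z, i ⁻¹ᵁ V) z) := by
    intro z
    induction z using TensorProduct.induction_on with
    | zero => simp only [map_zero]
    | add a b ha hb => simp only [map_add, ha, hb]
    | tmul b y =>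
      refine (congrArg _ (hψ₂.equiv_tmul b (E y))).trans ?_
      refine (Scheme.Modules.Hom.app_smul _ b _).trans ?_
      rw [hnat, hE, LinearMap.baseChange_tmul]
      exact (hψ₃.equiv_tmul b _).symm
  have hb := ThickRingLib.baseChange_bijective Γ(S, W) (isUnivRing h i h' hu hU hV e₃ rfl rfl)
  have h4 : Function.Bijective (fun z => ((Scheme.Modules.pullback i).map c).app (i ⁻¹ᵁ V) (L₁ z)) := by
    rw [funext hL]
    exact L₂.bijective.comp hb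
  exact (Function.Bijective.of_comp_iff _ L₁.bijective).mp h4


open AlgebraicGeometry CategoryTheory Limits in
/-- Let q : X ⟶ S be a morphism, h : Z ⟶ X formally unramified, and (i : Z ⟶ Z', h' : Z' ⟶ X) the
universal first order thickening attached to h. Let d_X : O_X → Ω_X be a universal S-derivation,
d_{Z'} : O_{Z'} → Ω_{Z'} a universal S-derivation for Z' over S via h' ≫ q, and c : (h')^*Ω_X ⟶
Ω_{Z'} the O_{Z'}-linear map compatible with them (the canonical map c_{h'}). Then the pullback of c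
along i, a map h^*Ω_X ⟶ Ω_{Z'} ⊗ O_Z, is an isomorphism. -/
theorem result {Z X S Z' : Scheme.{u}} (h : Z ⟶ X) (q : X ⟶ S) [FormallyUnramified h]
    (i : Z ⟶ Z') (h' : Z' ⟶ X) (hu : OmegaSh.IsUnivThickening h i h')
    (ΩX : X.Modules) (dX : OmegaSh.Der q ΩX) (hdX : OmegaSh.IsUniversal dX)
    (ΩZ' : Z'.Modules) (dZ' : OmegaSh.Der (h' ≫ q) ΩZ') (hdZ' : OmegaSh.IsUniversal dZ')
    (c : (Scheme.Modules.pullback h').obj ΩX ⟶ ΩZ') (hc : OmegaSh.IsDiffCompat h' dX dZ' c) :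
    IsIso ((Scheme.Modules.pullback i).map c) := by
  exact result_aux h q i h' hu ΩX dX hdX ΩZ' dZ' hdZ' c hc

end Groth.Agent.S9783
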