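import Groth.Statements.S9772
import Groth.Agent.S9783
import Groth.Agent.KoszAtLib.Mor
import Groth.Agent.NLKerLib.Main
import Groth.Agent.CohBCLib.FreeNhd
import Groth.Agent.ConormalInjLib.Comp

set_option autoImplicit false
universe u
open OmegaSh

namespace Groth.Agent.S9772

open CategoryTheory CategoryTheory.Limits AlgebraicGeometry TopologicalSpace Opposite Algebra

theorem toAlgHom_surjective {R S : Type u} [CommRing R] [CommRing S] [Algebra R S] (E : Extension.{u} R S) :
    Function.Surjective (IsScalarTower.toAlgHom R E.Ring S) := fun x => ⟨E.σ x, E.algebraMap_σ x⟩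

set_option backward.isDefEq.respectTransparency false in
/-- The kernel of a universal thickening is a summand of the conormal module of any smooth presentation. -/
theorem finite_projective_of_univ {R S : Type u} [CommRing R] [CommRing S] [Algebra R S] (E P : Extension.{u} R S)
    (h : OmegaSh.IsUnivThickeningRing R S E.Ring (IsScalarTower.toAlgHom R E.Ring S))
    [Algebra.FormallySmooth R P.Ring] [Module.Finite S P.Cotangent] [Module.Projective S P.Cotangent] :
    Module.Finite S E.Cotangent ∧ Module.Projective S E.Cotangent := by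
  obtain ⟨-, hsqE, huniv⟩ := h
  have hE : E.ker ^ 2 = ⊥ := hsqE
  -- the smooth presentation maps to the thickening
  let lift : P.Ring →ₐ[R] E.Ring := FormallySmooth.liftOfSurjective
    (IsScalarTower.toAlgHom R P.Ring S) (IsScalarTower.toAlgHom R E.Ring S) E.algebraMap_surjective ⟨2, hE⟩
  have hlift : ∀ r, algebraMap E.Ring S (lift r) = algebraMap P.Ring S r :=
    fun r => FormallySmooth.liftOfSurjective_apply _ (IsScalarTower.toAlgHom R E.Ring S) _ _ r
  have hkill : P.ker ^ 2 ≤ RingHom.ker lift := by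
    rw [pow_two, Ideal.mul_le]
    intro r hr s hs
    rw [RingHom.mem_ker, map_mul, ← Ideal.mem_bot, ← hE, pow_two]
    exact Ideal.mul_mem_mul ((hlift r).trans hr) ((hlift s).trans hs)
  let ψ : P.infinitesimal.Hom E :=
    { toRingHom := (Ideal.Quotient.liftₐ (P.ker ^ 2) lift hkill).toRingHom
      toRingHom_algebraMap := by simp
      algebraMap_toRingHom := fun x => by
        obtain ⟨x, rfl⟩ := Ideal.Quotient.mk_surjective x
        exact hlift x }
  -- and universality maps the thickening back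
  let π₂ := IsScalarTower.toAlgHom R P.infinitesimal.Ring S
  let e₂ := Ideal.quotientKerAlgEquivOfSurjective (toAlgHom_surjective P.infinitesimal)
  have hI₂ : RingHom.ker π₂ ^ 2 = ⊥ := by
    show P.infinitesimal.ker ^ 2 = ⊥
    rw [Extension.ker_infinitesimal]
    exact Ideal.cotangentIdeal_square _
  obtain ⟨a, ha, -⟩ := huniv P.infinitesimal.Ring (RingHom.ker π₂) hI₂ e₂.symm.toAlgHom
  have ha' : ∀ x, algebraMap P.infinitesimal.Ring S (a x) = algebraMap E.Ring S x := fun x =>
    (congrArg e₂ (AlgHom.congr_fun ha x)).trans (e₂.apply_symm_apply _)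
  let φ : E.Hom P.infinitesimal :=
    { toRingHom := a.toRingHom
      toRingHom_algebraMap := fun r => a.commutes r
      algebraMap_toRingHom := ha' }
  -- uniqueness: the round trip is the identity
  let π₁ := IsScalarTower.toAlgHom R E.Ring S
  let e₁ := Ideal.quotientKerAlgEquivOfSurjective (toAlgHom_surjective E)
  obtain ⟨c, -, hc⟩ := huniv E.Ring (RingHom.ker π₁) hE e₁.symm.toAlgHom
  have hcond : ∀ g : E.Ring →ₐ[R] E.Ring, (∀ x, π₁ (g x) = π₁ x) →
      (Ideal.Quotient.mkₐ R (RingHom.ker π₁)).comp g = e₁.symm.toAlgHom.comp π₁ := fun g hg =>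
    AlgHom.ext fun x => e₁.injective ((hg x).trans (e₁.apply_symm_apply _).symm)
  let g₁ : E.Ring →ₐ[R] E.Ring := (Ideal.Quotient.liftₐ (P.ker ^ 2) lift hkill).comp a
  have hid : ψ.comp φ = Extension.Hom.id E := by
    have h1 : g₁ = AlgHom.id R E.Ring := (hc g₁ (hcond g₁ fun x => (ψ.algebraMap_toRingHom _).trans (ha' x))).trans
      (hc _ (hcond _ fun _ => rfl)).symm
    exact Extension.Hom.ext (congrArg AlgHom.toRingHom h1)
  have hfp : Module.Finite S P.infinitesimal.Cotangent ∧ Module.Projective S P.infinitesimal.Cotangent := by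
    let L := LinearEquiv.ofBijective _ (Extension.Cotangent.map_toInfinitesimal_bijective P)
    exact ⟨Module.Finite.equiv L, Module.Projective.of_equiv L⟩
  haveI := hfp.1
  haveI := hfp.2
  have hp : Extension.Cotangent.map ψ ∘ₗ Extension.Cotangent.map φ = LinearMap.id := LinearMap.ext fun z => by
    have h1 := LinearMap.congr_fun (Extension.Cotangent.map_comp (g := ψ) (f := φ)) z
    rw [hid, Extension.Cotangent.map_id] at h1
    exact h1.symm
  exact ⟨Module.Finite.of_surjective (Extension.Cotangent.map ψ) fun z => ⟨_, LinearMap.congr_fun hp z⟩,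
    Module.Projective.of_split (Extension.Cotangent.map φ) (Extension.Cotangent.map ψ) hp⟩

/-- Two semilinear quotients of a module with the same kernel are isomorphic. -/
theorem nonempty_equiv_of_ker {A B Q M N : Type u} [CommRing A] [CommRing B] [AddCommGroup Q] [Module A Q]
    [AddCommGroup M] [Module B M] [AddCommGroup N] [Module B N] (ρ : A →+* B) (hρ : Function.Surjective ρ)
    (p : Q →+ M) (q : Q →+ N) (hp : Function.Surjective p) (hq : Function.Surjective q)
    (hps : ∀ a x, p (a • x) = ρ a • p x) (hqs : ∀ a x, q (a • x) = ρ a • q x)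
    (hk : ∀ x, p x = 0 ↔ q x = 0) : Nonempty (M ≃ₗ[B] N) := by
  choose s hs using hp
  have key : ∀ {x y : Q}, p x = p y → q x = q y := fun {x y} h => by
    rw [← sub_eq_zero, ← map_sub, ← hk, map_sub, h, sub_self]
  let f : M →ₗ[B] N :=
    { toFun := fun m => q (s m)
      map_add' := fun m m' => by rw [← map_add]; exact key (by rw [map_add, hs, hs, hs])
      map_smul' := fun b m => by
        obtain ⟨a, rfl⟩ := hρ b
        rw [RingHom.id_apply, ← hqs]
        exact key (by rw [hps, hs, hs]) }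
  refine ⟨LinearEquiv.ofBijective f ⟨(injective_iff_map_eq_zero f).mpr fun m hm => ?_, fun n => ?_⟩⟩
  · rw [← hs m]; exact (hk _).mpr hm
  · obtain ⟨x, rfl⟩ := hq n
    exact ⟨p x, key (hs _)⟩

/-- Sections of the conormal sheaf of a closed immersion on an affine chart. -/
theorem exists_conormalSect_eq {Z Y : Scheme.{u}} (j : Z ⟶ Y) [IsClosedImmersion j] {V : Y.Opens}
    (hV : IsAffineOpen V) (m : Γ(Omega.conormal j, j ⁻¹ᵁ V)) : ∃ s, OmegaSh.conormalSect j V s = m := by
  letI := (j.app V).hom.toAlgebra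
  let Q := ClSub.idealMod j.ker
  haveI : Coh.IsQCoh Q := SweepSix.ConormalSpec.isQCoh_idealMod _
  have halg : ∀ r, algebraMap Γ(Y, V) Γ(Z, j ⁻¹ᵁ V) r = (j.appLE V (j ⁻¹ᵁ V) le_rfl).hom r := fun r => by
    rw [ConormalInjLib.appLE_self]; rfl
  letI : Module Γ(Y, V) Γ(KFlatLib.pb j Q, j ⁻¹ᵁ V) := Module.compHom _ (j.app V).hom
  haveI : IsScalarTower Γ(Y, V) Γ(Z, j ⁻¹ᵁ V) Γ(KFlatLib.pb j Q, j ⁻¹ᵁ V) :=
    IsScalarTower.of_algebraMap_smul fun a t => rfl
  let θ : Γ(Q, V) →ₗ[Γ(Y, V)] Γ(KFlatLib.pb j Q, j ⁻¹ᵁ V) :=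
    { toFun := KFlatLib.puSecLE j Q le_rfl
      map_add' := map_add _
      map_smul' := fun r m => (KFlatLib.puSecLE_smul j Q le_rfl r m).trans (by rw [ConormalInjLib.appLE_self]; rfl) }
  have hθ := KFlatLib.isBaseChange_puSec j Q hV (hV.preimage j) le_rfl halg θ fun _ => rfl
  obtain ⟨w, rfl⟩ := hθ.equiv.surjective m
  induction w using TensorProduct.induction_on with
  | zero => exact ⟨0, (map_zero (OmegaSh.conormalSect j V).hom).trans (map_zero _).symm⟩
  | tmul a m =>
    obtain ⟨b, rfl⟩ := j.app_surjective V hV a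
    refine ⟨b • m, ?_⟩
    rw [IsBaseChange.equiv_tmul]
    refine (OmegaSh.pullSect_smul j _ V b m).trans ?_
    show _ = j.app V b • KFlatLib.puSecLE j Q le_rfl m
    rw [KFlatLib.puSecLE_apply, Subsingleton.elim (homOfLE (le_refl (j ⁻¹ᵁ V))).op (𝟙 _),
      CategoryTheory.Functor.map_id]
    rfl
  | add a b ha hb =>
    obtain ⟨x, hx⟩ := ha
    obtain ⟨y, hy⟩ := hb
    exact ⟨x + y, by rw [map_add, map_add, hx, hy]; rfl⟩

theorem result_aux {X Y X' : Scheme.{u}} (f : X ⟶ Y)
    (hf : ∀ x : X, Synt.IsKoszulAt f x) (i : X ⟶ X') (h' : X' ⟶ Y)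
    (hu : OmegaSh.IsUnivThickening f i h') : FlatMod.IsFinLocFree (Omega.conormal i) := by
  haveI : IsClosedImmersion i := hu.1.1.1
  have hL := (KoszAtLib.forall_isKoszulAt_iff f).1 hf
  intro x
  obtain ⟨W, hW, hxW, -⟩ := exists_isAffineOpen_mem_and_subset (show h' (i x) ∈ (⊤ : Y.Opens) from trivial)
  obtain ⟨V, hV, hxV, e₀⟩ := exists_isAffineOpen_mem_and_subset (show i x ∈ h' ⁻¹ᵁ W from hxW)
  have e : V ≤ h' ⁻¹ᵁ W := e₀
  have hU := hV.preimage i
  have eU : i ⁻¹ᵁ V ≤ f ⁻¹ᵁ W := (i.preimage_mono e).trans (congrArg (· ⁻¹ᵁ W) hu.2.1).le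
  have hcomp : h'.appLE W V e ≫ i.app V = f.appLE W (i ⁻¹ᵁ V) eU := by
    rw [← ConormalInjLib.appLE_self i V, Scheme.Hom.appLE_comp_appLE]
    exact OmegaSh.appLE_congr_hom hu.2.1 _ _
  letI := (h'.appLE W V e).hom.toAlgebra
  letI := (i.app V).hom.toAlgebra
  letI : Algebra Γ(Y, W) Γ(X, i ⁻¹ᵁ V) := (f.appLE W (i ⁻¹ᵁ V) eU).hom.toAlgebra
  haveI : IsScalarTower Γ(Y, W) Γ(X', V) Γ(X, i ⁻¹ᵁ V) :=
    IsScalarTower.of_algebraMap_eq fun r => (congr($hcomp r)).symm
  have hlci : KoszAtLib.LCIHom (f.appLE W (i ⁻¹ᵁ V) eU).hom :=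
    HasRingHomProperty.appLE (P := KoszAtLib.LCIMor) f hL ⟨W, hW⟩ ⟨_, hU⟩ eU
  obtain ⟨n, G, hfin, hproj⟩ := NLKerLib.exists_generators (A := Γ(Y, W)) (B := Γ(X, i ⁻¹ᵁ V)) hlci
  haveI := hfin
  haveI := hproj
  haveI : Algebra.FormallySmooth Γ(Y, W) G.toExtension.Ring :=
    inferInstanceAs (Algebra.FormallySmooth Γ(Y, W) (MvPolynomial _ Γ(Y, W)))
  let E : Extension.{u} Γ(Y, W) Γ(X, i ⁻¹ᵁ V) :=
    { Ring := Γ(X', V)
      σ := Function.surjInv (i.app_surjective V hV)
      algebraMap_σ := Function.surjInv_eq (i.app_surjective V hV) }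
  obtain ⟨hEf, hEp⟩ := finite_projective_of_univ E G.toExtension
    (Groth.Agent.S9783.isUnivRing f i h' hu hW hV e rfl rfl)
  haveI : Coh.IsQCoh (ClSub.idealMod i.ker) := SweepSix.ConormalSpec.isQCoh_idealMod _
  haveI : Coh.IsQCoh (Omega.conormal i) := KFlatLib.isQCoh_pullback i (ClSub.idealMod i.ker)
  have hcb : V ≤ i.coborderRange := fun y _ => by
    show y ∈ coborder (Set.range i)
    rw [i.isClosedEmbedding.isClosed_range.coborder_eq]
    trivial
  let q : Γ(ClSub.idealMod i.ker, V) →+ E.Cotangent :=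
    Extension.Cotangent.mk.toAddMonoidHom.comp
      (AddMonoidHom.codRestrict (OmegaSh.idealSect i.ker V) E.ker (ConormalSecLib.app_idealSect i V))
  have hq : ∀ s, q s = Extension.Cotangent.mk ⟨OmegaSh.idealSect i.ker V s, ConormalSecLib.app_idealSect i V s⟩ :=
    fun _ => rfl
  obtain ⟨L⟩ := nonempty_equiv_of_ker (i.app V).hom (i.app_surjective V hV) q (OmegaSh.conormalSect i V).hom
    (fun z => by
      obtain ⟨⟨y, hy⟩, rfl⟩ := Extension.Cotangent.mk_surjective z
      refine ⟨ConormalSecLib.lift i V y hy, (hq _).trans ?_⟩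
      exact congrArg Extension.Cotangent.mk (Subtype.ext (ConormalSecLib.idealSect_lift i V y hy)))
    (exists_conormalSect_eq i hV)
    (fun a s => by
      rw [hq, hq]
      refine (congrArg Extension.Cotangent.mk (Subtype.ext (ConormalSecLib.idealSect_smul i V a s) :
        _ = a • (⟨OmegaSh.idealSect i.ker V s, ConormalSecLib.app_idealSect i V s⟩ : E.ker))).trans ?_
      rw [map_smul]
      exact (algebraMap_smul Γ(X, i ⁻¹ᵁ V) a _).symm)
    (fun a s => OmegaSh.pullSect_smul i _ V a s)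
    (fun s => by
      have h1 : q s = 0 ↔ OmegaSh.idealSect i.ker V s ∈ RingHom.ker (i.app V).hom ^ 2 := by
        rw [hq, Extension.Cotangent.ext_iff, Extension.Cotangent.val_mk, Extension.Cotangent.val_zero,
          Ideal.toCotangent_eq_zero]
        rfl
      rw [h1]
      exact ⟨fun h => ConormalInjLib.conormalSect_eq_zero_of_mem_ker_sq i s h,
        fun h => ConormalInjLib.mem_ker_sq_of_conormalSect_eq_zero i hV hcb s h⟩)
  haveI : Module.Finite Γ(X, i ⁻¹ᵁ V) Γ(Omega.conormal i, i ⁻¹ᵁ V) := Module.Finite.equiv L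
  haveI : Module.Projective Γ(X, i ⁻¹ᵁ V) Γ(Omega.conormal i, i ⁻¹ᵁ V) := Module.Projective.of_equiv L
  obtain ⟨U, hxU, hfree⟩ := CohBCLib.exists_free_nhd hU (Omega.conormal i)
    (hU.primeIdealOf ⟨x, hxV⟩) (n := FlatCxLib.fibreRank _ _) rfl
  rw [hU.fromSpec_primeIdealOf ⟨x, hxV⟩] at hxU
  exact ⟨U, _, hxU, hfree⟩


open AlgebraicGeometry CategoryTheory Limits in
/-- Suppose f : X ⟶ Y is Koszul at every point of X (a local complete intersection morphism) and
formally unramified, and (i : X ⟶ X', h' : X' ⟶ Y) is universal first order thickening data for f.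
Then the conormal sheaf of i (the conormal sheaf of f) is finite locally free. The published
statement also asserts that for a local complete intersection morphism unramified and formally
unramified are equivalent; this row states only the conormal clause. -/
theorem result {X Y X' : Scheme.{u}} (f : X ⟶ Y)
    (hf : ∀ x : X, Synt.IsKoszulAt f x) [FormallyUnramified f] (i : X ⟶ X') (h' : X' ⟶ Y)
    (hu : OmegaSh.IsUnivThickening f i h') : FlatMod.IsFinLocFree (Omega.conormal i) := by
  exact result_aux f hf i h' hu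

end Groth.Agent.S9772
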