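import Groth.Statements.S17667
import Groth.Agent.RibbonPicLib.Main

set_option autoImplicit false
set_option linter.style.haveILetI false
set_option backward.isDefEq.respectTransparency false
set_option backward.isDefEq.respectTransparency.types false
set_option maxHeartbeats 1000000

universe u
open CategoryTheory CategoryTheory.Limits AlgebraicGeometry
open Ribbon

namespace Groth.Agent.S17667

/-- Let C be a ribbon of arithmetic genus g on the projective line over a field k — a proper k-scheme
with a quasi-coherent ideal I ⊂ O_C, I² = 0, whose closed subscheme D is k-isomorphic to P^1 and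
such that I, as an O_D-module, is isomorphic to O_{P^1}(-g-1) — and take the group law on Pic C
given by the tensor product. Then H^1(C, I) = H^1(P^1, O(-g-1)) is a k-vector space of dimension g
and Pic C ≅ H^1(C, I) × ℤ as abelian groups, by an isomorphism whose ℤ-component on the class of an
invertible O_C-module L is the degree χ(L|_D) - χ(O_D) of the restriction of L to D. (Existence of
such an isomorphism; the source derives it from the units sequence 0 → I → O_C^× → O_D^× → 1. Stated
over an arbitrary field.) -/
theorem result (k : Type u) [Field k] (C : Scheme.{u}) [C.Over (Spec (CommRingCat.of k))]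
    [IsProper (C ↘ (Spec (CommRingCat.of k)))]
    (I : C.IdealSheafData) (hI : I ^ 2 = ⊥)
    (e : I.subscheme ≅ CohB1.ProjSpace 1 k)
    (he : e.hom ≫ CohB1.ProjSpace.toSpec 1 k = I.subschemeι ≫ (C ↘ (Spec (CommRingCat.of k))))
    (g : ℕ)
    (hconormal : Nonempty ((Scheme.Modules.pullback I.subschemeι).obj (ClSub.idealMod I) ≅
      (Scheme.Modules.pullback e.hom).obj (Twist.twistProjSpace 1 k (-((g : ℤ) + 1)))))
    [PicGrp.Law C] :
    Module.finrank k (Coh.HH C (ClSub.idealMod I) 1) = g ∧
    ∃ φ : Additive (PicLoc.PicSet C) ≃+ Coh.HH C (ClSub.idealMod I) 1 × ℤ,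
      ∀ (L : C.Modules) (hL : PicF.IsInvertible L),
        (φ (Additive.ofMul (PicGrp.cls L hL))).2 =
          @Curv2.deg k _ I.subscheme ⟨I.subschemeι ≫ (C ↘ (Spec (CommRingCat.of k)))⟩
            ((Scheme.Modules.pullback I.subschemeι).obj L) 1 := by
  have hj := RibbonDualLib.exists_rib hI e he g hconormal
  haveI := hj.imm
  letI : I.subscheme.Over (Spec (CommRingCat.of k)) := ⟨I.subschemeι ≫ (C ↘ (Spec (CommRingCat.of k)))⟩
  haveI : IsProper (I.subscheme ↘ Spec (CommRingCat.of k)) :=
    show IsProper (I.subschemeι ≫ (C ↘ (Spec (CommRingCat.of k)))) from inferInstance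
  have hker : (e.inv ≫ I.subschemeι).ker = I := by
    refine le_antisymm ?_ ?_
    · intro U x hx
      rw [← I.ker_subschemeι, Scheme.Hom.ker_apply, RingHom.mem_ker]
      rw [Scheme.Hom.ker_apply, RingHom.mem_ker, Scheme.Hom.comp_app, CommRingCat.comp_apply] at hx
      exact (ConcreteCategory.bijective_of_isIso (e.inv.app _)).1 (hx.trans (map_zero _).symm)
    · exact I.ker_subschemeι.symm.le.trans (Scheme.Hom.le_ker_comp _ _)
  haveI := GenusZeroLib.isIntegral_projSpace k 1
  haveI : Nonempty I.subscheme := ⟨e.inv (GenusZeroLib.genPt k 1)⟩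
  haveI : IsIntegral I.subscheme := isIntegral_of_isOpenImmersion e.hom
  refine ⟨?_, RibbonPicLib.exists_pic_equiv (pow_two I ▸ hI) hj.dim rfl e he
    ((IsHomeomorph.topologicalKrullDim_eq _ (Scheme.homeoOfIso e).isHomeomorph).trans (RibbonDualLib.pLine_dim k))⟩
  obtain ⟨ec⟩ := hj.con
  obtain ⟨eI⟩ := Groth.Agent.S17660.idealIso _ hj.sq ec
  have h := (RibbonDualLib.hh_push hj eI 1).trans (RibbonPicLib.finrank_twist k g)
  rwa [hker] at h

end Groth.Agent.S17667
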