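import Groth.Statements.S17673
import Groth.Agent.LinkLib.Curve
import Groth.Agent.StratLib.Light

set_option autoImplicit false
set_option backward.isDefEq.respectTransparency false
set_option backward.isDefEq.respectTransparency.types false
set_option maxHeartbeats 1000000

universe u
open CategoryTheory CategoryTheory.Limits AlgebraicGeometry
attribute [local instance] HasDerivedCategory.standard
open CIDisc

namespace Groth.Agent.S17673

/-- Let Z ⊂ P^n_k be a closed subscheme over a field k, equidimensional of dimension one, with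
Gorenstein local rings, whose dualizing module ω_Z (degree -1 cohomology sheaf of the upper-shriek
of O for Z → Spec k, existence hypotheses carried) is isomorphic to O_Z(m) — for Z a complete
intersection of hypersurfaces of degrees d_1, …, d_{n-1} one has m = d_1 + ⋯ + d_{n-1} - n - 1. Let
X ⊂ Z be the closed subscheme of a quasi-coherent ideal I_X, equidimensional of dimension one with
Cohen–Macaulay local rings and equal to Z at the generic point of each of its irreducible
components, and let I_W = (0 : I_X) (affine-locally the annihilator) be the ideal of the residual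
curve W. Then 2 p_a(X) - 2 = m · deg X - I(X, W), written here as -2 χ(O_X) = m · (χ(O_X(1)) -
χ(O_X)) - χ(O_{X ∩ W}), where p_a(X) = 1 - χ(O_X), deg X = χ(O_X(1)) - χ(O_X), and X ∩ W is the
closed subscheme cut out by I_X + I_W, whose (finite) total length over k is I(X, W). (The source
states the formula for Z a complete intersection; its proof uses exactly that Z is Gorenstein with
ω_Z ≅ O_Z(m).) (Stated over an arbitrary field k; the published setting is an algebraically closed
field, which the argument does not use.) -/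
theorem result (k : Type u) [Field k] (n : ℕ) (IZ : (CohB1.ProjSpace n k).IdealSheafData)
    (hZdim : ∀ T ∈ irreducibleComponents (IZ.subscheme : Type u), topologicalKrullDim T = 1)
    (hZgor : ∀ z : IZ.subscheme, LocCoh.IsGorensteinLocalRing (IZ.subscheme.presheaf.stalk z))
    [DCoh.HasRpush (IZ.subschemeι ≫ CohB1.ProjSpace.toSpec n k)] (hZ : DCoh.RpushPreservesQCoh (IZ.subschemeι ≫ CohB1.ProjSpace.toSpec n k)) [DCoh.HasShriek (IZ.subschemeι ≫ CohB1.ProjSpace.toSpec n k) hZ]
    (OY : DCoh.DQCoh (Spec (CommRingCat.of k)))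
    (hOY : Nonempty (OY.obj ≅ DCoh.inD (Spec (CommRingCat.of k)) (Coh.structureModule (Spec (CommRingCat.of k)))))
    (m : ℤ) (hωZ : Nonempty (DCoh.dualizingMod (IZ.subschemeι ≫ CohB1.ProjSpace.toSpec n k) hZ OY 1 ≅
      (Scheme.Modules.pullback IZ.subschemeι).obj (Twist.twistProjSpace n k m)))
    (IX : IZ.subscheme.IdealSheafData)
    (hXdim : ∀ T ∈ irreducibleComponents (IX.subscheme : Type u), topologicalKrullDim T = 1)
    (hXcm : ∀ x : IX.subscheme, LocCoh.IsCohenMacaulayLocalRing (IX.subscheme.presheaf.stalk x))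
    (hgen : ∀ T (hT : T ∈ irreducibleComponents (IX.subscheme : Type u)),
      Subsingleton ((ClSub.idealMod IX).presheaf.stalk (IX.subschemeι.base hT.1.genericPoint)))
    (IW : IZ.subscheme.IdealSheafData) (hW : ∀ U : IZ.subscheme.affineOpens, IW.ideal U = (IX.ideal U).annihilator) :
    (-2 : ℤ) * @Curv2.euler k _ IX.subscheme ⟨IX.subschemeι ≫ IZ.subschemeι ≫ CohB1.ProjSpace.toSpec n k⟩ (Coh.structureModule IX.subscheme) =
      m * @Curv2.deg k _ IX.subscheme ⟨IX.subschemeι ≫ IZ.subschemeι ≫ CohB1.ProjSpace.toSpec n k⟩ ((Scheme.Modules.pullback (IX.subschemeι ≫ IZ.subschemeι)).obj (Twist.twistProjSpace n k 1)) 1 - @Curv2.euler k _ (IX ⊔ IW).subscheme ⟨(IX ⊔ IW).subschemeι ≫ IZ.subschemeι ≫ CohB1.ProjSpace.toSpec n k⟩ (Coh.structureModule (IX ⊔ IW).subscheme) := by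
  letI : IZ.subscheme.Over (Spec (CommRingCat.of k)) := ⟨IZ.subschemeι ≫ CohB1.ProjSpace.toSpec n k⟩
  haveI : IsProper (CohB1.ProjSpace.toSpec n k) := StratLib.isProper_toSpec n k
  haveI : IsProper (IZ.subscheme ↘ Spec (CommRingCat.of k)) :=
    show IsProper (IZ.subschemeι ≫ CohB1.ProjSpace.toSpec n k) from inferInstance
  haveI : DCoh.HasRpush (IZ.subscheme ↘ Spec (CommRingCat.of k)) :=
    show DCoh.HasRpush (IZ.subschemeι ≫ CohB1.ProjSpace.toSpec n k) from inferInstance
  haveI : DCoh.HasShriek (IZ.subscheme ↘ Spec (CommRingCat.of k)) hZ :=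
    show DCoh.HasShriek (IZ.subschemeι ≫ CohB1.ProjSpace.toSpec n k) hZ from inferInstance
  exact LinkLib.genus_formula k IZ.subschemeι hZdim hZgor hZ OY hOY m hωZ IX hXdim hXcm hgen IW hW

end Groth.Agent.S17673
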