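import Groth.Statements.S17674
import Groth.Agent.LinkLib.Curve
import Groth.Agent.StratLib.Light
import Groth.Agent.CurveDualModLib.Bidual

set_option autoImplicit false
set_option backward.isDefEq.respectTransparency false
set_option backward.isDefEq.respectTransparency.types false
set_option maxHeartbeats 1000000

universe u
open CategoryTheory CategoryTheory.Limits AlgebraicGeometry
attribute [local instance] HasDerivedCategory.standard
open CIDisc

namespace Groth.Agent.S17674

/-- Let Z ⊂ P^n_k be a closed subscheme over a field k, equidimensional of dimension one, with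
Gorenstein local rings and dualizing module ω_Z ≅ O_Z(m) (upper-shriek presentation, existence
hypotheses carried; m = d_1 + ⋯ + d_{n-1} - n - 1 when Z is a complete intersection of hypersurfaces
of degrees d_i). Let X = V(I_X) and W = V(I_W) be reduced closed subschemes of Z, equidimensional of
dimension one, each equal to Z at the generic points of its irreducible components, and directly
linked by Z: affine-locally I_W = (0 : I_X) and I_X = (0 : I_W). Then p_a(X) - p_a(W) = (deg X - deg
W) · m / 2 (the genus-difference formula of linkage), written here as 2 (χ(O_W) - χ(O_X)) = m · (deg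
X - deg W) with deg Y = χ(O_Y(1)) - χ(O_Y). (The source takes Z a complete intersection cut out by
forms of degrees d_1, …, d_{n-1}; its argument uses that Z is Gorenstein with ω_Z ≅ O_Z(m).) (Stated
over an arbitrary field k; the published setting is an algebraically closed field, which the
argument does not use.) -/
theorem result (k : Type u) [Field k] (n : ℕ) (IZ : (CohB1.ProjSpace n k).IdealSheafData)
    (hZdim : ∀ T ∈ irreducibleComponents (IZ.subscheme : Type u), topologicalKrullDim T = 1)
    (hZgor : ∀ z : IZ.subscheme, LocCoh.IsGorensteinLocalRing (IZ.subscheme.presheaf.stalk z))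
    [DCoh.HasRpush (IZ.subschemeι ≫ CohB1.ProjSpace.toSpec n k)] (hZ : DCoh.RpushPreservesQCoh (IZ.subschemeι ≫ CohB1.ProjSpace.toSpec n k)) [DCoh.HasShriek (IZ.subschemeι ≫ CohB1.ProjSpace.toSpec n k) hZ]
    (OY : DCoh.DQCoh (Spec (CommRingCat.of k)))
    (hOY : Nonempty (OY.obj ≅ DCoh.inD (Spec (CommRingCat.of k)) (Coh.structureModule (Spec (CommRingCat.of k)))))
    (m : ℤ) (hωZ : Nonempty (DCoh.dualizingMod (IZ.subschemeι ≫ CohB1.ProjSpace.toSpec n k) hZ OY 1 ≅
      (Scheme.Modules.pullback IZ.subschemeι).obj (Twist.twistProjSpace n k m)))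
    (IX IW : IZ.subscheme.IdealSheafData)
    [AlgebraicGeometry.IsReduced IX.subscheme] [AlgebraicGeometry.IsReduced IW.subscheme]
    (hXdim : ∀ T ∈ irreducibleComponents (IX.subscheme : Type u), topologicalKrullDim T = 1)
    (hWdim : ∀ T ∈ irreducibleComponents (IW.subscheme : Type u), topologicalKrullDim T = 1)
    (hgenX : ∀ T (hT : T ∈ irreducibleComponents (IX.subscheme : Type u)),
      Subsingleton ((ClSub.idealMod IX).presheaf.stalk (IX.subschemeι.base hT.1.genericPoint)))
    (hgenW : ∀ T (hT : T ∈ irreducibleComponents (IW.subscheme : Type u)),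
      Subsingleton ((ClSub.idealMod IW).presheaf.stalk (IW.subschemeι.base hT.1.genericPoint)))
    (hW : ∀ U : IZ.subscheme.affineOpens, IW.ideal U = (IX.ideal U).annihilator)
    (hX : ∀ U : IZ.subscheme.affineOpens, (IW.ideal U).annihilator = IX.ideal U) :
    (2 : ℤ) * (@Curv2.euler k _ IW.subscheme ⟨IW.subschemeι ≫ IZ.subschemeι ≫ CohB1.ProjSpace.toSpec n k⟩ (Coh.structureModule IW.subscheme) - @Curv2.euler k _ IX.subscheme ⟨IX.subschemeι ≫ IZ.subschemeι ≫ CohB1.ProjSpace.toSpec n k⟩ (Coh.structureModule IX.subscheme)) =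
      m * (@Curv2.deg k _ IX.subscheme ⟨IX.subschemeι ≫ IZ.subschemeι ≫ CohB1.ProjSpace.toSpec n k⟩ ((Scheme.Modules.pullback (IX.subschemeι ≫ IZ.subschemeι)).obj (Twist.twistProjSpace n k 1)) 1 - @Curv2.deg k _ IW.subscheme ⟨IW.subschemeι ≫ IZ.subschemeι ≫ CohB1.ProjSpace.toSpec n k⟩ ((Scheme.Modules.pullback (IW.subschemeι ≫ IZ.subschemeι)).obj (Twist.twistProjSpace n k 1)) 1) := by
  letI : IZ.subscheme.Over (Spec (CommRingCat.of k)) := ⟨IZ.subschemeι ≫ CohB1.ProjSpace.toSpec n k⟩
  haveI : IsProper (CohB1.ProjSpace.toSpec n k) := StratLib.isProper_toSpec n k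
  haveI : IsProper (IZ.subscheme ↘ Spec (CommRingCat.of k)) :=
    show IsProper (IZ.subschemeι ≫ CohB1.ProjSpace.toSpec n k) from inferInstance
  haveI : DCoh.HasRpush (IZ.subscheme ↘ Spec (CommRingCat.of k)) :=
    show DCoh.HasRpush (IZ.subschemeι ≫ CohB1.ProjSpace.toSpec n k) from inferInstance
  haveI : DCoh.HasShriek (IZ.subscheme ↘ Spec (CommRingCat.of k)) hZ :=
    show DCoh.HasShriek (IZ.subschemeι ≫ CohB1.ProjSpace.toSpec n k) hZ from inferInstance
  haveI : IsLocallyNoetherian IZ.subscheme :=
    LocallyOfFiniteType.isLocallyNoetherian (IZ.subscheme ↘ Spec (CommRingCat.of k))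
  haveI : IsLocallyNoetherian IX.subscheme := LocallyOfFiniteType.isLocallyNoetherian IX.subschemeι
  haveI : IsLocallyNoetherian IW.subscheme := LocallyOfFiniteType.isLocallyNoetherian IW.subschemeι
  haveI : CompactSpace IZ.subscheme :=
    QuasiCompact.compactSpace_of_compactSpace (IZ.subscheme ↘ Spec (CommRingCat.of k))
  haveI : AlgebraicGeometry.IsNoetherian IZ.subscheme := ⟨⟩
  haveI : CompactSpace IX.subscheme := QuasiCompact.compactSpace_of_compactSpace IX.subschemeι
  haveI : CompactSpace IW.subscheme := QuasiCompact.compactSpace_of_compactSpace IW.subschemeι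
  haveI : QuasiSeparatedSpace IZ.subscheme :=
    quasiSeparatedSpace_of_quasiSeparated (IZ.subscheme ↘ Spec (CommRingCat.of k))
  haveI : QuasiSeparatedSpace IX.subscheme := quasiSeparatedSpace_of_quasiSeparated IX.subschemeι
  haveI : QuasiSeparatedSpace IW.subscheme := quasiSeparatedSpace_of_quasiSeparated IW.subschemeι
  have dX : topologicalKrullDim IX.subscheme ≤ ((1 : ℕ) : WithBot ℕ∞) :=
    EquidimLib.topologicalKrullDim_le_of_components fun T hT => (hXdim T hT).le
  have dW : topologicalKrullDim IW.subscheme ≤ ((1 : ℕ) : WithBot ℕ∞) :=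
    EquidimLib.topologicalKrullDim_le_of_components fun T hT => (hWdim T hT).le
  have a := LinkLib.genus_formula k IZ.subschemeι hZdim hZgor hZ OY hOY m hωZ IX hXdim
    (CurveDualModLib.isCM_of_reduced dX) hgenX IW hW
  have b := LinkLib.genus_formula k IZ.subschemeι hZdim hZgor hZ OY hOY m hωZ IW hWdim
    (CurveDualModLib.isCM_of_reduced dW) hgenW IX fun U => (hX U).symm
  rw [sup_comm IW IX] at b
  change (2 : ℤ) * (@Curv2.euler k _ IW.subscheme ⟨IW.subschemeι ≫ (IZ.subscheme ↘ Spec (CommRingCat.of k))⟩ _ -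
    @Curv2.euler k _ IX.subscheme ⟨IX.subschemeι ≫ (IZ.subscheme ↘ Spec (CommRingCat.of k))⟩ _) =
    m * (@Curv2.deg k _ IX.subscheme ⟨IX.subschemeι ≫ (IZ.subscheme ↘ Spec (CommRingCat.of k))⟩ _ 1 -
      @Curv2.deg k _ IW.subscheme ⟨IW.subschemeι ≫ (IZ.subscheme ↘ Spec (CommRingCat.of k))⟩ _ 1)
  linarith [a, b]

end Groth.Agent.S17674
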