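import Groth.Statements.S17677
import Groth.Agent.ComodLib.Cohom
-- import your own Groth.Agent.* helpers here

set_option autoImplicit false
universe u
open Hoch

namespace Groth.Agent.S17677
open scoped TensorProduct

/-- Let k be a commutative ring, M a commutative monoid and V a right comodule over the monoid bialgebra
k[M] (a quasi-coherent module with an action of the diagonalizable monoid scheme Spec k[M]). Then
every 1-cocycle of the Hochschild complex of V is a 1-coboundary, i.e. the first Hochschild
cohomology module of the diagonalizable monoid with coefficients in V is zero. (The source works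
over an algebraic space with M finitely generated and cancellative, hypotheses it uses only to
identify modules under the monoid with comodules; the cocycle computation, which is the affine
statement given here, uses neither.) -/
theorem result (k : Type u) [CommRing k] (M : Type u)
    [AddCommMonoid M] (V : Type u) [AddCommGroup V] [Module k V]
    [HopfRep.Comod k (AddMonoidAlgebra k M) V] :
    Hoch.cocycles k (AddMonoidAlgebra k M) V 1 ≤ Hoch.coboundaries k (AddMonoidAlgebra k M) V 1 := by
  intro z hz
  let c : AddMonoidAlgebra k M →ₗ[k] k :=
    (Finsupp.lapply 0) ∘ₗ (AddMonoidAlgebra.coeffLinearEquiv k).toLinearMap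
  have h1 : c 1 = 1 := by simp [c, AddMonoidAlgebra.one_def]
  have hc : ∀ f : AddMonoidAlgebra k M,
      TensorProduct.rid k _ (c.lTensor _ (CoalgebraStruct.comul (R := k) f)) =
        c f • (1 : AddMonoidAlgebra k M) := by
    intro f
    induction f using AddMonoidAlgebra.induction_linear with
    | zero => simp
    | add f g hf hg => simp only [map_add, add_smul, hf, hg]
    | single a r =>
      rcases eq_or_ne a 0 with rfl | ha
      · simp [c, AddMonoidAlgebra.one_def]
      · simp [c, AddMonoidAlgebra.one_def, ha]
  let w : V := TensorProduct.rid k V (c.lTensor V z)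
  refine ⟨-w, ?_⟩
  have hz' : Hoch.d k (AddMonoidAlgebra k M) V 1 z = 0 := hz
  rw [ComodLib.d_one_eq] at hz'
  have key := congrArg (fun t => TensorProduct.rid k (V ⊗[k] AddMonoidAlgebra k M) (c.lTensor _ t)) hz'
  simp only [LinearMap.add_apply, LinearMap.sub_apply, LinearMap.comp_apply, map_add, map_sub,
    LinearEquiv.coe_coe, LinearMap.flip_apply, TensorProduct.mk_apply, map_zero,
    LinearMap.lTensor_tmul, TensorProduct.rid_tmul] at key
  have e1 : ∀ y : V ⊗[k] AddMonoidAlgebra k M,
      TensorProduct.rid k (V ⊗[k] AddMonoidAlgebra k M) (c.lTensor _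
        ((HopfRep.Comod.coact (k := k) (A := AddMonoidAlgebra k M)).rTensor _ y)) =
      HopfRep.Comod.coact (k := k) (A := AddMonoidAlgebra k M) (TensorProduct.rid k V (c.lTensor V y)) := by
    intro y
    induction y with
    | zero => simp
    | tmul v a => simp
    | add y y' hy hy' => simp only [map_add, hy, hy']
  have e2 : ∀ y : V ⊗[k] AddMonoidAlgebra k M,
      TensorProduct.rid k (V ⊗[k] AddMonoidAlgebra k M) (c.lTensor _
        ((TensorProduct.assoc k V _ _).symm ((CoalgebraStruct.comul (R := k)).lTensor V y))) =
      TensorProduct.rid k V (c.lTensor V y) ⊗ₜ[k] (1 : AddMonoidAlgebra k M) := by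
    intro y
    induction y with
    | zero => simp
    | tmul v a =>
      have : ∀ t : AddMonoidAlgebra k M ⊗[k] AddMonoidAlgebra k M,
          TensorProduct.rid k (V ⊗[k] AddMonoidAlgebra k M) (c.lTensor _
            ((TensorProduct.assoc k V _ _).symm (v ⊗ₜ[k] t))) =
          v ⊗ₜ[k] TensorProduct.rid k _ (c.lTensor _ t) := by
        intro t
        induction t with
        | zero => simp
        | tmul p q => simp [TensorProduct.tmul_smul]
        | add t t' ht ht' => simp only [TensorProduct.tmul_add, map_add, ht, ht']
      rw [LinearMap.lTensor_tmul, this, hc]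
      simp [TensorProduct.smul_tmul']
    | add y y' hy hy' => simp only [map_add, TensorProduct.add_tmul, hy, hy']
  rw [e1, e2, h1, one_smul] at key
  show HopfRep.Comod.coact (k := k) (A := AddMonoidAlgebra k M) (-w) - (-w) ⊗ₜ[k] (1 : AddMonoidAlgebra k M) = z
  rw [map_neg, TensorProduct.neg_tmul]
  have key' : z = w ⊗ₜ[k] (1 : AddMonoidAlgebra k M) -
      HopfRep.Comod.coact (k := k) (A := AddMonoidAlgebra k M) w :=
    (eq_neg_of_add_eq_zero_right key).trans (neg_sub _ _)
  rw [key']
  abel

end Groth.Agent.S17677
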