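import Groth.Statements.S17678
import Mathlib.Algebra.MonoidAlgebra.Basic
import Mathlib.Algebra.MonoidAlgebra.Module
import Mathlib.RingTheory.RingHom.Flat
import Mathlib.Algebra.MonoidAlgebra.MapDomain

set_option autoImplicit false
universe u v
open DiagMon

namespace Groth.Agent.S17678

/-- Let R be a commutative ring and N an abelian group. Then the ring map R[N] → R[N × N] of monoid
algebras induced by the diagonal n ↦ (n, n), which is the comorphism of the multiplication morphism
of the diagonalizable group scheme Spec R[N] over Spec R, is flat. (The published statement asserts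
flatness for every cancellative commutative monoid N, on the ground that N acts freely on N × N
through the diagonal; but for the submonoid N of the natural numbers generated by 2 and 3, the pairs
(x, x − 1) with x ≥ 3 form one orbit class that is not a free orbit, and the corresponding direct
summand of k[N × N] is the ideal t³k[t] viewed as a module over k[t², t³], which is not flat. The
statement is therefore given for groups, where N × N is a free N-set with basis the pairs (0, b).) -/
theorem result (R : Type u) [CommRing R] (N : Type v)
    [AddCommGroup N] :
    (AddMonoidAlgebra.mapDomainRingHom R ((AddMonoidHom.id N).prod (AddMonoidHom.id N))).Flat := by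
  classical
  let shear : N × N ≃+ N × N :=
    { toFun := fun p => (p.2 - p.1, p.1)
      invFun := fun p => (p.2, p.1 + p.2)
      left_inv := fun p => by simp
      right_inv := fun p => by simp
      map_add' := fun p q => by ext <;> simp; abel }
  let e : AddMonoidAlgebra R (N × N) ≃+* AddMonoidAlgebra (AddMonoidAlgebra R N) N :=
    (AddMonoidAlgebra.mapDomainRingEquiv R shear).trans AddMonoidAlgebra.curryRingEquiv
  have h1 : (algebraMap (AddMonoidAlgebra R N) (AddMonoidAlgebra (AddMonoidAlgebra R N) N)).Flat :=
    RingHom.flat_algebraMap_iff.2 inferInstance
  have h2 : AddMonoidAlgebra.mapDomainRingHom R ((AddMonoidHom.id N).prod (AddMonoidHom.id N)) =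
      (e.symm : _ →+* _).comp (algebraMap (AddMonoidAlgebra R N) (AddMonoidAlgebra (AddMonoidAlgebra R N) N)) := by
    have h3 : (e : _ →+* _).comp (AddMonoidAlgebra.mapDomainRingHom R ((AddMonoidHom.id N).prod (AddMonoidHom.id N))) =
        algebraMap (AddMonoidAlgebra R N) (AddMonoidAlgebra (AddMonoidAlgebra R N) N) := by
      refine AddMonoidAlgebra.ringHom_ext (fun r => ?_) (fun n => ?_)
      · simp [e, shear, AddMonoidAlgebra.coe_algebraMap]
      · simp [e, shear, AddMonoidAlgebra.coe_algebraMap]
    rw [← h3]
    exact RingHom.ext fun x => (e.symm_apply_apply _).symm
  rw [h2]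
  exact h1.comp (RingHom.Flat.of_bijective e.symm.bijective)

end Groth.Agent.S17678
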