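import Groth.Statements.S17679
import Mathlib


-- import your own Groth.Agent.* helpers here

set_option autoImplicit false
open DiagMon

namespace Groth.Agent.S17679

/-- For n ≥ 1 the minimal number of generators of ℤ^n as an additive monoid is n + 1: some n + 1
elements generate ℤ^n as a monoid, and every finite set generating ℤ^n as a monoid has at least n +
1 elements. (For n = 0 the empty set generates the zero monoid, so the count n + 1 is stated for n ≥
1 only.) -/
theorem result (n : ℕ) (hn : 1 ≤ n) :
    (∃ s : Finset (Fin n → ℤ), s.card = n + 1 ∧ AddSubmonoid.closure (s : Set (Fin n → ℤ)) = ⊤) ∧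
    ∀ s : Finset (Fin n → ℤ), AddSubmonoid.closure (s : Set (Fin n → ℤ)) = ⊤ → n + 1 ≤ s.card := by
  classical
  let b : Fin n → (Fin n → ℤ) := fun i => Pi.single i 1
  let t : Fin n → ℤ := fun _ => -1
  have hb : Function.Injective b := fun i j h => by
    by_contra hij
    simpa [b, hij] using congrFun h i
  have htb : ∀ i, t ≠ b i := fun i h => by simpa [t, b] using congrFun h i
  refine ⟨⟨insert t (Finset.univ.image b), ?_, ?_⟩, fun s hs => ?_⟩
  · rw [Finset.card_insert_of_notMem (by simpa using fun i h => htb i h.symm), Finset.card_image_of_injective _ hb,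
      Finset.card_univ, Fintype.card_fin]
  · rw [eq_top_iff]
    intro x _
    set S := AddSubmonoid.closure ((insert t (Finset.univ.image b) : Finset (Fin n → ℤ)) : Set (Fin n → ℤ))
    let m : ℕ := ∑ i, (x i).natAbs
    have hx : x = m • t + ∑ i, (x i + m).toNat • b i := by
      ext j
      have : (x j).natAbs ≤ m := Finset.single_le_sum (f := fun i => (x i).natAbs) (fun i _ => Nat.zero_le _) (Finset.mem_univ j)
      simp [t, b, Finset.sum_apply, Pi.single_apply]
      omega
    rw [hx]
    exact add_mem (nsmul_mem (AddSubmonoid.subset_closure (Finset.mem_insert_self _ _)) _)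
      (sum_mem fun i _ => nsmul_mem (AddSubmonoid.subset_closure (Finset.mem_insert_of_mem (Finset.mem_image_of_mem b (Finset.mem_univ i)))) _)
  · by_contra hlt
    have hsc : s.card ≤ n := by omega
    let F : (s → ℤ) →ₗ[ℤ] (Fin n → ℤ) := Fintype.linearCombination ℤ (fun v : s => (v : Fin n → ℤ))
    have hF : Function.Surjective F := by
      intro x
      have hx : x ∈ AddSubmonoid.closure (s : Set (Fin n → ℤ)) := by rw [hs]; trivial
      induction hx using AddSubmonoid.closure_induction with
      | mem v hv => exact ⟨Pi.single ⟨v, hv⟩ 1, by simp [F]⟩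
      | zero => exact ⟨0, map_zero _⟩
      | add u v _ _ hu hv =>
        obtain ⟨a, rfl⟩ := hu; obtain ⟨c, rfl⟩ := hv
        exact ⟨a + c, map_add _ _ _⟩
    have hj : Fintype.card s ≤ Fintype.card (Fin n) := by simpa using hsc
    obtain ⟨j⟩ := Function.Embedding.nonempty_of_card_le hj
    let G : (Fin n → ℤ) →ₗ[ℤ] (s → ℤ) := LinearMap.funLeft ℤ ℤ j
    have hG : Function.Surjective G := LinearMap.funLeft_surjective_of_injective _ _ _ j.injective
    have hFG : Function.Injective (F.comp G) :=
      OrzechProperty.injective_of_surjective_endomorphism _ (hF.comp hG)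
    have hFi : Function.Injective F := fun a c hac => by
      obtain ⟨a', rfl⟩ := hG a; obtain ⟨c', rfl⟩ := hG c
      rw [hFG hac]
    obtain ⟨v, hv⟩ : s.Nonempty := by
      by_contra hne
      rw [Finset.not_nonempty_iff_eq_empty] at hne
      obtain ⟨a, ha⟩ := hF (Pi.single (⟨0, hn⟩ : Fin n) 1)
      have : IsEmpty s := by subst hne; infer_instance
      have h1 := congrFun ha ⟨0, hn⟩
      simp [F, Fintype.linearCombination_apply] at h1
    have hpos : ∀ x : Fin n → ℤ, ∃ a : s → ℤ, (∀ u, 0 ≤ a u) ∧ F a = x := by
      intro x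
      have hx : x ∈ AddSubmonoid.closure (s : Set (Fin n → ℤ)) := by rw [hs]; trivial
      induction hx using AddSubmonoid.closure_induction with
      | mem v hv => exact ⟨Pi.single ⟨v, hv⟩ 1, fun u => by rw [Pi.single_apply]; split_ifs <;> simp, by simp [F]⟩
      | zero => exact ⟨0, fun u => le_rfl, map_zero _⟩
      | add u w _ _ hu hw =>
        obtain ⟨a, ha, rfl⟩ := hu; obtain ⟨c, hc, rfl⟩ := hw
        exact ⟨a + c, fun i => add_nonneg (ha i) (hc i), map_add _ _ _⟩
    obtain ⟨a, ha, hFa⟩ := hpos (-(F (Pi.single ⟨v, hv⟩ 1)))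
    rw [← map_neg] at hFa
    have := congrFun (hFi hFa) ⟨v, hv⟩
    simp at this
    have := ha ⟨v, hv⟩
    omega

end Groth.Agent.S17679
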