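import Groth.Statements.S17682
import Mathlib
-- import your own Groth.Agent.* helpers here

set_option autoImplicit false
universe u v w u'
open DiagMon

namespace Groth.Agent.S17682

/-- Let R be a commutative ring, A a commutative R-algebra graded by a commutative monoid M, N a
submonoid of M and R' a commutative R-algebra. For every R-algebra homomorphism F : A → R' vanishing
on the homogeneous elements of degree outside N there is a unique R-algebra homomorphism f : A →
R'[M] which is graded (a homogeneous element of degree m goes to a multiple of X^m), vanishes on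
homogeneous elements of degree outside N, and composes with the augmentation X^m ↦ 1 to F. In the
dictionary where an M-grading of A is an action of the diagonalizable monoid scheme Spec R[M] on
Spec A and graded maps A → R'[M] supported on N are equivariant maps from the monoid scheme of N
over R', this says that the attractor of Spec A for the magnet N is represented by the closed
subscheme of Spec A defined by the homogeneous elements of degree outside N. -/
theorem result (R : Type u) [CommRing R]
    (A : Type v) [CommRing A] [Algebra R A] (M : Type w) [AddCommMonoid M] [DecidableEq M]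
    (𝒜 : M → Submodule R A) [GradedAlgebra 𝒜] (N : AddSubmonoid M) (R' : Type u') [CommRing R']
    [Algebra R R'] (F : A →ₐ[R] R') (hF : ∀ m, m ∉ N → ∀ a ∈ 𝒜 m, F a = 0) :
    ∃! f : A →ₐ[R] AddMonoidAlgebra R' M,
      (∀ m, ∀ a ∈ 𝒜 m, f a =
          AddMonoidAlgebra.single m (Bialgebra.counitAlgHom R' (AddMonoidAlgebra R' M) (f a))) ∧
      (∀ m, m ∉ N → ∀ a ∈ 𝒜 m, f a = 0) ∧
      ∀ a, Bialgebra.counitAlgHom R' (AddMonoidAlgebra R' M) (f a) = F a := by
  classical
  let Φ : DirectSum M (fun m => 𝒜 m) →ₗ[R] AddMonoidAlgebra R' M := DirectSum.toModule R M _ fun m =>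
    { toFun := fun a => AddMonoidAlgebra.single m (F a)
      map_add' := fun a b => by simp [AddMonoidAlgebra.single_add]
      map_smul' := fun c a => by simp [AddMonoidAlgebra.smul_single] }
  let f₀ : A →ₗ[R] AddMonoidAlgebra R' M := Φ ∘ₗ (DirectSum.decomposeLinearEquiv 𝒜).toLinearMap
  have hf₀ : ∀ {m a}, a ∈ 𝒜 m → f₀ a = AddMonoidAlgebra.single m (F a) := by
    intro m a ha
    show Φ (DirectSum.decompose 𝒜 a) = _
    rw [DirectSum.decompose_of_mem 𝒜 ha]
    exact DirectSum.toModule_lof (M := fun m => 𝒜 m) R m (⟨a, ha⟩ : 𝒜 m)
  have hone : f₀ 1 = 1 := by rw [hf₀ SetLike.GradedOne.one_mem, map_one]; rfl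
  have hmul : ∀ x y, f₀ (x * y) = f₀ x * f₀ y := by
    intro x y
    induction x using DirectSum.Decomposition.inductionOn 𝒜 with
    | zero => simp
    | @homogeneous i a =>
      induction y using DirectSum.Decomposition.inductionOn 𝒜 with
      | zero => simp
      | @homogeneous j b =>
        rw [hf₀ (SetLike.mul_mem_graded a.2 b.2), hf₀ a.2, hf₀ b.2, AddMonoidAlgebra.single_mul_single, map_mul]
      | add y z hy hz => rw [mul_add, map_add, map_add, hy, hz, mul_add]
    | add w z hw hz => rw [add_mul, map_add, map_add, hw, hz, add_mul]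
  let f : A →ₐ[R] AddMonoidAlgebra R' M := AlgHom.ofLinearMap f₀ hone hmul
  have hf : ∀ {m a}, a ∈ 𝒜 m → f a = AddMonoidAlgebra.single m (F a) := hf₀
  have hc : ∀ m r, Bialgebra.counitAlgHom R' (AddMonoidAlgebra R' M) (AddMonoidAlgebra.single m r) = r := fun m r => by
    simp
  refine ⟨f, ⟨fun m a ha => by rw [hf ha, hc], fun m hm a ha => by rw [hf ha, hF m hm a ha]; simp, fun a => ?_⟩, ?_⟩
  · induction a using DirectSum.Decomposition.inductionOn 𝒜 with
    | zero => simp
    | @homogeneous i a => rw [hf a.2, hc]
    | add y z hy hz => rw [map_add, map_add, hy, hz, map_add]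
  · rintro g ⟨hg1, -, hg3⟩
    refine AlgHom.ext fun a => ?_
    induction a using DirectSum.Decomposition.inductionOn 𝒜 with
    | zero => simp
    | @homogeneous i a => rw [hg1 i a a.2, hg3, hf a.2]
    | add y z hy hz => rw [map_add, map_add, hy, hz]


end Groth.Agent.S17682
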