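import Groth.Statements.S17683
import Mathlib


-- import your own Groth.Agent.* helpers here

set_option autoImplicit false
universe u
open DiagMon

namespace Groth.Agent.S17683

/-- Let N be a commutative monoid and F a submonoid of N. The additive projection ℤ[N] → ℤ[F] of monoid
algebras keeping the monomials with exponent in F and killing the others is multiplicative, i.e. F
is a face of N, if and only if for all x, y in N the sum x + y lies in F exactly when both x and y
do. -/
theorem result {N : Type u} [AddCommMonoid N] (F : AddSubmonoid N) :
    (∀ a b : AddMonoidAlgebra ℤ N,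
        AddMonoidAlgebra.comapDomain ((↑) : F → N) Subtype.val_injective (a * b) =
          AddMonoidAlgebra.comapDomain ((↑) : F → N) Subtype.val_injective a *
            AddMonoidAlgebra.comapDomain ((↑) : F → N) Subtype.val_injective b) ↔
      ∀ x y : N, x + y ∈ F ↔ (x ∈ F ∧ y ∈ F) := by
  classical
  constructor
  · intro h x y
    refine ⟨fun hxy => ?_, fun ⟨hx, hy⟩ => F.add_mem hx hy⟩
    by_contra hnot
    have h1 := congrArg (fun c => AddMonoidAlgebra.coeff c (⟨x + y, hxy⟩ : F)) (h (AddMonoidAlgebra.single x 1) (AddMonoidAlgebra.single y 1))
    have hzero : ∀ z : N, z ∉ F → AddMonoidAlgebra.comapDomain ((↑) : F → N) Subtype.val_injective (AddMonoidAlgebra.single z (1 : ℤ)) = 0 := fun z hz => by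
      ext w
      have : z ≠ (w : N) := fun hh => hz (hh ▸ w.2)
      simp [AddMonoidAlgebra.comapDomain, this]
    rw [AddMonoidAlgebra.single_mul_single, one_mul] at h1
    rcases not_and_or.1 hnot with hx | hy
    · rw [hzero x hx, zero_mul] at h1
      simp [AddMonoidAlgebra.comapDomain] at h1
    · rw [hzero y hy, mul_zero] at h1
      simp [AddMonoidAlgebra.comapDomain] at h1
  · intro h
    let φ := AddMonoidAlgebra.comapDomainAddMonoidHom (R := ℤ) ((↑) : F → N) Subtype.val_injective
    have hs : ∀ (z : N) (r : ℤ), φ (AddMonoidAlgebra.single z r) = if hz : z ∈ F then AddMonoidAlgebra.single (⟨z, hz⟩ : F) r else 0 := by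
      intro z r
      ext w
      change (AddMonoidAlgebra.comapDomain ((↑) : F → N) Subtype.val_injective (AddMonoidAlgebra.single z r)).coeff w = _
      split_ifs with hz
      · simp [AddMonoidAlgebra.comapDomain, Finsupp.single_apply, Subtype.ext_iff]
      · have : z ≠ (w : N) := fun hh => hz (hh ▸ w.2)
        simp [AddMonoidAlgebra.comapDomain, this]
    intro a b
    change φ (a * b) = φ a * φ b
    induction a using AddMonoidAlgebra.induction_linear with
    | zero => rw [zero_mul, map_zero, zero_mul]
    | add u v hu hv => rw [add_mul, map_add, map_add, hu, hv, add_mul]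
    | single x r =>
      induction b using AddMonoidAlgebra.induction_linear with
      | zero => rw [mul_zero, map_zero, mul_zero]
      | add u v hu hv => rw [mul_add, map_add, map_add, hu, hv, mul_add]
      | single y s =>
        rw [AddMonoidAlgebra.single_mul_single, hs, hs, hs]
        by_cases hx : x ∈ F
        · by_cases hy : y ∈ F
          · rw [dif_pos hx, dif_pos hy, dif_pos (F.add_mem hx hy), AddMonoidAlgebra.single_mul_single]; rfl
          · rw [dif_neg hy, mul_zero, dif_neg (fun hh => hy ((h x y).1 hh).2)]
        · rw [dif_neg hx, zero_mul, dif_neg (fun hh => hx ((h x y).1 hh).1)]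

end Groth.Agent.S17683
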