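import Groth.Statements.S17685
import Groth.Agent.FinHomLib.Affine
import Groth.Agent.WeilResLib.Stable


-- import your own Groth.Agent.* helpers here

set_option autoImplicit false
universe u
open CategoryTheory MonoidalCategory CartesianMonoidalCategory MonObj GrpObj AlgebraicGeometry
open AlgGrp

namespace Groth.Agent.S17685

/-- Let S be a scheme, F an S-scheme that is finite locally free over S (finite, flat and locally of
finite presentation) with a section e of F over S which is a surjective closed immersion (an
infinitesimal pointed S-scheme), and X an S-scheme with an action of the pointed scheme F, i.e. an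
S-morphism F ×_S X → X through which e acts as the identity. Then the subfunctor of F-fixed points
of X, whose T-points are the T-points x of X with g · x_{T'} = x_{T'} for every S-scheme T' over T
and every T'-point g of F, is represented by a closed subscheme of X. (The source allows F and X to
be algebraic spaces over S; this row is the case of schemes.) -/
theorem result (S : Scheme.{u})
    (F X : Over S) (e : 𝟙_ (Over S) ⟶ F) (act : F ⊗ X ⟶ X) (he : (e ▷ X) ≫ act = (λ_ X).hom)
    [IsFinite F.hom] [Flat F.hom] [LocallyOfFinitePresentation F.hom]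
    [IsClosedImmersion e.left] [Surjective e.left] :
    ∃ (Z : Scheme.{u}) (i : Z ⟶ X.left), IsClosedImmersion i ∧
      ∀ (T : Over S) (x : T ⟶ X), (∃ y : T.left ⟶ Z, y ≫ i = x.left) ↔
        ∀ (T' : Over S) (t : T' ⟶ T) (g : T' ⟶ F), lift g (t ≫ x) ≫ act = t ≫ x := by
  let a0 : X ⊗ F ⟶ X := lift (snd X F) (fst X F) ≫ act
  let σ : X ⟶ X ⊗ F := lift (𝟙 X) (toUnit X ≫ e)
  have hσa : σ ≫ a0 = 𝟙 X := by
    have e1 : σ ≫ lift (snd X F) (fst X F) = (λ_ X).inv ≫ (e ▷ X) :=
      CartesianMonoidalCategory.hom_ext _ _ (by simp [σ]) (by simp [σ])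
    rw [← Category.assoc, e1, Category.assoc, he, Iso.inv_hom_id]
  haveI : Surjective σ.left := by
    haveI : IsIso (ρ_ X).inv.left := ((Over.forget S).mapIso (ρ_ X)).isIso_inv
    rw [show σ = (ρ_ X).inv ≫ (X ◁ e) from CartesianMonoidalCategory.hom_ext _ _ (by simp [σ]) (by simp [σ]),
      Over.comp_left]
    haveI : Surjective (X ◁ e).left :=
      MorphismProperty.of_isPullback (Groth.Agent.FinHom.isPullback_whiskerLeft X e).flip ‹Surjective e.left›
    infer_instance
  obtain ⟨Z, z, hz, hZ⟩ := Groth.Agent.WeilRes.exists_fixed_of_stable a0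
    (Groth.Agent.WeilRes.isEssentiallyFree_of_finite_flat F.hom) (fun U w hw => by
      obtain ⟨x, rfl⟩ := σ.left.surjective w
      have h1 : (fst X F).left (σ.left x) = x := by
        rw [← Scheme.Hom.comp_apply, ← Over.comp_left, lift_fst]; rfl
      have h2 : a0.left (σ.left x) = x := by
        rw [← Scheme.Hom.comp_apply, ← Over.comp_left, hσa]; rfl
      show a0.left (σ.left x) ∈ U
      rw [h2, ← h1]
      exact hw)
  refine ⟨Z.left, z.left, hz, fun T x => Iff.trans ⟨?_, ?_⟩ ((hZ T x).trans (forall₃_congr fun S'' s g => ?_))⟩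
  · rintro ⟨y, hy⟩
    exact ⟨Over.homMk y (by rw [← Over.w z, ← Category.assoc, hy, Over.w]), Over.OverMorphism.ext hy⟩
  · rintro ⟨w, hw⟩
    exact ⟨w.left, congrArg CommaMorphism.left hw⟩
  · simp only [a0, comp_lift_assoc, lift_fst, lift_snd]

end Groth.Agent.S17685
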