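import Groth.Statements.S17687
import Mathlib


-- import your own Groth.Agent.* helpers here

set_option autoImplicit false
universe u v w
open DiagMon

namespace Groth.Agent.S17687

/-- Let R be a commutative ring and A a commutative R-algebra of finite type graded by a commutative
monoid M. Then the set of ideals J_N, N running over all submonoids of M, where J_N is generated by
the homogeneous elements of degree not in N (the ideal of the attractor of Spec A for the magnet N),
is finite: Spec A has finitely many attractors and hence finitely many pure magnets. (The source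
assumes Spec A of finite presentation over the base; its proof uses only a finite set of homogeneous
algebra generators, so finite type is assumed here.) -/
theorem result (R : Type u) [CommRing R] (A : Type v) [CommRing A]
    [Algebra R A] [Algebra.FiniteType R A] (M : Type w) [AddCommMonoid M] [DecidableEq M]
    (𝒜 : M → Submodule R A) [GradedAlgebra 𝒜] :
    (Set.range fun N : AddSubmonoid M => Ideal.span {a : A | ∃ m : M, m ∉ N ∧ a ∈ 𝒜 m}).Finite := by
  classical
  obtain ⟨s, hs⟩ := ‹Algebra.FiniteType R A›.out
  let T : Finset (M × A) := s.biUnion fun a => (DirectSum.decompose 𝒜 a).support.image fun m => (m, ((DirectSum.decompose 𝒜 a) m : A))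
  refine (Set.finite_range fun P : T.powerset => Ideal.span ((fun t : M × A => t.2) '' (P.1 : Set (M × A)))).subset ?_
  rintro _ ⟨N, rfl⟩
  let P := T.filter fun t => t.1 ∉ N
  refine ⟨⟨P, Finset.mem_powerset.mpr (Finset.filter_subset _ _)⟩, ?_⟩
  let J := Ideal.span ((fun t : M × A => t.2) '' (P : Set (M × A)))
  have hT : ∀ t ∈ T, t.2 ∈ 𝒜 t.1 := by
    intro t ht
    simp only [T, Finset.mem_biUnion, Finset.mem_image] at ht
    obtain ⟨a, -, m, -, rfl⟩ := ht
    exact ((DirectSum.decompose 𝒜 a) m).2
  refine le_antisymm (Ideal.span_le.mpr ?_) (Ideal.span_le.mpr ?_)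
  · rintro _ ⟨t, ht, rfl⟩
    obtain ⟨ht, htN⟩ := Finset.mem_filter.mp ht
    exact Ideal.subset_span ⟨t.1, htN, hT t ht⟩
  · rintro a ⟨m, hm, ha⟩
    -- every element has all components outside `N` in `J`
    have key : ∀ b : A, ∀ n ∉ N, ((DirectSum.decompose 𝒜 b) n : A) ∈ J := by
      intro b
      have hb : b ∈ Algebra.adjoin R (s : Set A) := hs ▸ Algebra.mem_top
      induction hb using Algebra.adjoin_induction with
      | mem x hx =>
        intro n hn
        by_cases h0 : (DirectSum.decompose 𝒜 x) n = 0
        · rw [h0]; exact J.zero_mem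
        · refine Ideal.subset_span ⟨(n, _), Finset.mem_filter.mpr ⟨?_, hn⟩, rfl⟩
          exact Finset.mem_biUnion.mpr ⟨x, hx, Finset.mem_image.mpr ⟨n, DFinsupp.mem_support_iff.mpr h0, rfl⟩⟩
      | algebraMap r =>
        intro n hn
        have h0 : algebraMap R A r ∈ 𝒜 0 := SetLike.algebraMap_mem_graded 𝒜 r
        rw [DirectSum.decompose_of_mem_ne 𝒜 h0 (fun h => hn (by rw [← h]; exact N.zero_mem))]
        exact J.zero_mem
      | add x y _ _ hx hy =>
        intro n hn
        rw [DirectSum.decompose_add]
        exact J.add_mem (hx n hn) (hy n hn)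
      | mul x y _ _ hx hy =>
        intro n hn
        rw [DirectSum.decompose_mul, DirectSum.coe_mul_apply]
        refine J.sum_mem fun ij hij => ?_
        obtain ⟨-, hsum⟩ := Finset.mem_filter.mp hij
        by_cases h1 : ij.1 ∈ N
        · exact J.mul_mem_left _ (hy _ fun h2 => hn (hsum ▸ N.add_mem h1 h2))
        · exact J.mul_mem_right _ (hx _ h1)
    have := key a m hm
    rwa [DirectSum.decompose_of_mem_same 𝒜 ha] at this

end Groth.Agent.S17687
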