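import Groth.Statements.S17688
import Groth.Agent.TorsExtLib.Neron

set_option autoImplicit false
universe u
open CategoryTheory CategoryTheory.Limits AlgebraicGeometry MonObj
open Neron

namespace Groth.Agent.S17688

/-- Let R be a discrete valuation ring whose fraction field K has characteristic p > 0, and let U be a
flat, separated, commutative group scheme over Spec R whose generic fibre U_K is annihilated by a
power p^N of p (in the group of endomorphisms of U_K as a K-scheme, the p^N-th power of the identity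
is the unit). Then for every prime ℓ invertible in R the ℓ-th power map of U (the ℓ-th power of the
identity in the group of R-morphisms U → U) is an isomorphism. -/
theorem result
    (R : Type u) [CommRing R] [IsDomain R] [IsDiscreteValuationRing R]
    (p : ℕ) (hp : p.Prime) [CharP (FractionRing R) p]
    (U : Over (Spec (CommRingCat.of R))) [GrpObj U] [IsCommMonObj U] [Flat U.hom] [IsSeparated U.hom]
    (N : ℕ) (hN : (𝟙 (Red.bc (Neron.genPt R) U) : Red.bc (Neron.genPt R) U ⟶ Red.bc (Neron.genPt R) U) ^ (p ^ N) = 1)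
    (ℓ : ℕ) (hℓ : ℓ.Prime) (hℓu : IsUnit (ℓ : R)) :
    IsIso ((𝟙 U : U ⟶ U) ^ ℓ) := by
  have hmap : ∀ n : ℕ, (Over.pullback (Neron.genPt R)).map ((𝟙 U : U ⟶ U) ^ n) =
      (𝟙 (Red.bc (Neron.genPt R) U) : Red.bc (Neron.genPt R) U ⟶ Red.bc (Neron.genPt R) U) ^ n := by
    intro n
    induction n with
    | zero => rw [pow_zero, pow_zero, Functor.map_one]
    | succ n ih => rw [pow_succ, pow_succ, Functor.map_mul, ih, CategoryTheory.Functor.map_id]
  have h1 : (𝟙 U : U ⟶ U) ^ (p ^ N) = 1 := by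
    refine TorsExtLib.hom_ext_generic (Over.OverMorphism.ext ?_)
    rw [Over.comp_left, Over.comp_left, ← TorsExtLib.pullbackMap_left_fst, ← TorsExtLib.pullbackMap_left_fst]
    erw [hmap, hN, Functor.map_one]
  have hne : ℓ ≠ p := fun h => by
    have h2 : IsUnit ((ℓ : ℕ) : FractionRing R) := by
      have := hℓu.map (algebraMap R (FractionRing R))
      rwa [map_natCast] at this
    rw [h, CharP.cast_eq_zero] at h2
    exact not_isUnit_zero h2
  have hco : Nat.Coprime ℓ (p ^ N) := ((Nat.coprime_primes hℓ hp).2 hne).pow_right N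
  obtain ⟨a, ha⟩ : ∃ a, ℓ * a % (p ^ N) = 1 % (p ^ N) := by
    by_cases hk : 1 < p ^ N
    · obtain ⟨a, -, ha⟩ := Nat.exists_mul_mod_eq_one_of_coprime hco hk
      exact ⟨a, by rw [ha, Nat.one_mod_eq_one.2 (by omega)]⟩
    · have : p ^ N = 1 := by have := Nat.pow_pos (n := N) hp.pos; omega
      exact ⟨0, by rw [this]; simp [Nat.mod_one]⟩
  have hmod : ∀ n : ℕ, (𝟙 U : U ⟶ U) ^ n = (𝟙 U : U ⟶ U) ^ (n % p ^ N) := fun n => by
    conv_lhs => rw [← Nat.mod_add_div n (p ^ N), pow_add, pow_mul, h1, one_pow, _root_.mul_one]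
  have key : (𝟙 U : U ⟶ U) ^ (ℓ * a) = 𝟙 U := by rw [hmod, ha, ← hmod, pow_one]
  refine ⟨(𝟙 U : U ⟶ U) ^ a, ?_, ?_⟩
  · rw [MonObj.comp_pow, Category.comp_id, ← pow_mul, key]
  · rw [MonObj.comp_pow, Category.comp_id, ← pow_mul, mul_comm, key]

end Groth.Agent.S17688
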