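import Groth.Statements.S17689
import Groth.Agent.TowerLib.Main
import Groth.Agent.AWNLib.Basic

set_option autoImplicit false
universe u
open CategoryTheory AlgebraicGeometry
open Neron

namespace Groth.Agent.S17689

/-- Let R ⊆ S be a finite extension of discrete valuation rings (the structure map R → S is injective
and S is a finite R-module) such that the induced extension K ⊆ L of fraction fields is purely
inseparable. Then the morphism Spec S → Spec R is a universal homeomorphism: every base change of it
is a homeomorphism on underlying spaces. (No excellence hypothesis is needed here.) -/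
theorem result
    (R S K L : Type u) [CommRing R] [IsDomain R] [IsDiscreteValuationRing R]
    [CommRing S] [IsDomain S] [IsDiscreteValuationRing S] [Algebra R S] [Module.Finite R S] [FaithfulSMul R S]
    [Field K] [Field L] [Algebra R K] [IsFractionRing R K] [Algebra S L] [IsFractionRing S L]
    [Algebra K L] [Algebra R L] [IsScalarTower R S L] [IsScalarTower R K L] [IsPurelyInseparable K L] :
    FlatMor.IsUnivHomeo (Spec.map (CommRingCat.ofHom (algebraMap R S))) := by
  haveI : Algebra.IsIntegral R S := Algebra.IsIntegral.of_finite R S
  have hinj : Function.Injective (algebraMap R S) := FaithfulSMul.algebraMap_injective R S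
  refine (AWNLib.univHomeo_iff _).2 ⟨algebraMap_isIntegral_iff.2 inferInstance, ?_, fun F _ g₁ g₂ hg => ?_⟩
  · exact (TowerLib.surjective_of_integral_injective hinj).surj
  · let q := ringExpChar K
    haveI : ExpChar K q := inferInstanceAs (ExpChar K (ringExpChar K))
    haveI : ExpChar R q := (algebraMap R K).expChar (IsFractionRing.injective R K) q
    haveI : ExpChar S q := expChar_of_injective_ringHom hinj q
    have key : ∀ s : S, ∃ (n : ℕ) (r : R), algebraMap R S r = s ^ q ^ n := fun s => by
      obtain ⟨n, y, hy⟩ := IsPurelyInseparable.pow_mem K q (algebraMap S L s)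
      have hint : IsIntegral R (algebraMap K L y) := by
        rw [hy, ← map_pow]
        exact (Algebra.IsIntegral.isIntegral (R := R) (s ^ q ^ n)).algebraMap
      obtain ⟨r, hr⟩ := (IsIntegrallyClosed.isIntegral_iff (R := R) (K := K)).1
        (hint.tower_bot (algebraMap K L).injective)
      refine ⟨n, r, IsFractionRing.injective S L ?_⟩
      rw [← IsScalarTower.algebraMap_apply R S L, IsScalarTower.algebraMap_apply R K L, hr, hy, map_pow]
    refine RingHom.ext fun s => ?_
    obtain ⟨n, r, hr⟩ := key s
    have heq := RingHom.congr_fun hg r
    rw [RingHom.comp_apply, RingHom.comp_apply, hr, map_pow, map_pow] at heq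
    clear_value q
    cases ‹ExpChar R q› with
    | zero => simpa using heq
    | prime hq =>
      haveI : CharP F q := (CharP.charP_iff_prime_eq_zero hq).2 (by
        have h0 := congrArg (g₁.comp (algebraMap R S)) (CharP.cast_eq_zero R q)
        rwa [map_natCast, map_zero] at h0)
      haveI := Fact.mk hq
      exact iterateFrobenius_inj F q n heq

end Groth.Agent.S17689
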