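import Groth.Statements.S17690
import Groth.Agent.S0573
import Groth.Agent.S2654
-- import your own Groth.Agent.* helpers here

set_option autoImplicit false
universe u
open Neron

namespace Groth.Agent.S17690

/-- Let R be an excellent discrete valuation ring (Noetherian, universally catenary, G-ring, J-2) with
fraction field K, and let L be a finite purely inseparable field extension of K. Then the integral
closure S of R in L is a discrete valuation ring, and S is a finite R-module. -/
theorem result
    (R K L : Type u) [CommRing R] [IsDomain R] [IsDiscreteValuationRing R] (hR : EGA4.IsExcellent R)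
    [Field K] [Algebra R K] [IsFractionRing R K] [Field L] [Algebra K L] [FiniteDimensional K L]
    [IsPurelyInseparable K L] [Algebra R L] [IsScalarTower R K L] :
    IsDiscreteValuationRing ↥(integralClosure R L) ∧ Module.Finite R ↥(integralClosure R L) := by
  have hN : CAlg.IsNagata R := Groth.Agent.S2654.result R ⟨hR.1, hR.2.2⟩
  obtain ⟨π, hπ⟩ := IsDiscreteValuationRing.exists_irreducible R
  haveI : Algebra.FiniteType R K := by
    refine ⟨⟨{(algebraMap R K π)⁻¹}, eq_top_iff.2 fun x _ => ?_⟩⟩
    obtain ⟨a, b, hb, rfl⟩ := IsFractionRing.div_surjective R x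
    obtain ⟨n, w, rfl⟩ := IsDiscreteValuationRing.eq_unit_mul_pow_irreducible (nonZeroDivisors.ne_zero hb) hπ
    rw [show algebraMap R K a / algebraMap R K (w * π ^ n) = algebraMap R K (a * (w⁻¹ : Rˣ)) * (algebraMap R K π)⁻¹ ^ n by
      rw [map_mul, map_mul, map_pow, map_units_inv, inv_pow, div_eq_mul_inv, mul_inv]; ring]
    exact mul_mem (Subalgebra.algebraMap_mem _ _) (pow_mem (Algebra.subset_adjoin (Finset.mem_coe.2 (Finset.mem_singleton_self _))) n)
  haveI : Algebra.FiniteType R L := Algebra.FiniteType.trans (S := K) inferInstance inferInstance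
  have hfin : Module.Finite R (integralClosure R L) := S0573.finite_integralClosure_domain hN L
  haveI := hfin
  refine ⟨?_, hfin⟩
  let S := integralClosure R L
  haveI : IsFractionRing S L := integralClosure.isFractionRing_of_finite_extension K L
  haveI : IsIntegrallyClosed S := integralClosure.isIntegrallyClosedOfFiniteExtension K
  haveI : IsNoetherianRing S := isNoetherian_of_tower R inferInstance
  haveI : IsDedekindDomain S := { Ring.DimensionLEOne.integralClosure R L with }
  obtain ⟨q, hq⟩ := ExpChar.exists K
  have hinj : Function.Injective (algebraMap R S) := fun a b h =>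
    IsFractionRing.injective R K ((algebraMap K L).injective (by
      rw [← IsScalarTower.algebraMap_apply, ← IsScalarTower.algebraMap_apply]; exact congrArg Subtype.val h))
  have key : ∀ M N : Ideal S, M.IsMaximal → N.IsMaximal → M ≤ N := by
    intro M N hM hN x hx
    obtain ⟨n, k, hk⟩ := IsPurelyInseparable.pow_mem K q (x : L)
    have hint : IsIntegral R k := (isIntegral_algebraMap_iff (algebraMap K L).injective).1 (hk ▸ x.2.pow _)
    obtain ⟨r, rfl⟩ := IsIntegrallyClosed.isIntegral_iff.1 hint
    have hr : algebraMap R S r = x ^ q ^ n := Subtype.ext (by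
      rw [SubmonoidClass.coe_pow, ← hk, ← IsScalarTower.algebraMap_apply]; rfl)
    have hcomap : M.comap (algebraMap R S) = N.comap (algebraMap R S) :=
      (IsLocalRing.eq_maximalIdeal (Ideal.isMaximal_comap_of_isIntegral_of_isMaximal M)).trans
        (IsLocalRing.eq_maximalIdeal (Ideal.isMaximal_comap_of_isIntegral_of_isMaximal N)).symm
    have h1 : r ∈ N.comap (algebraMap R S) := by
      rw [← hcomap, Ideal.mem_comap, hr]
      exact Ideal.pow_mem_of_mem _ hx _ (pow_pos (expChar_pos K q) n)
    rw [Ideal.mem_comap, hr] at h1
    exact hN.isPrime.mem_of_pow_mem _ h1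
  haveI : IsLocalRing S := by
    obtain ⟨M, hM⟩ := Ideal.exists_maximal S
    exact IsLocalRing.of_unique_max_ideal ⟨M, hM, fun N hN => hN.eq_of_le hM.ne_top (key N M hN hM)⟩
  refine ((IsDiscreteValuationRing.TFAE S ?_).out 0 2 rfl rfl).2 (inferInstanceAs (IsDedekindDomain S))
  intro hF
  exact IsDiscreteValuationRing.not_isField R (isField_of_isIntegral_of_isField hinj hF)

end Groth.Agent.S17690
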