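import Groth.Statements.S17692
import Groth.Agent.WeilExistLib.Main

set_option linter.style.haveILetI false
set_option backward.isDefEq.respectTransparency false

set_option autoImplicit false
universe u
open CategoryTheory CategoryTheory.Limits AlgebraicGeometry
open WeilRes

namespace Groth.Agent.S17692


open MonoidalCategory CartesianMonoidalCategory Opposite

variable {S S' : Scheme.{u}} (f : S' ⟶ S) (X' : Over S')

/-- The target as a scheme over `S`. -/
noncomputable abbrev tgt : Over S := Over.mk (X'.hom ≫ f)

/-- Its morphism to the source. -/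
noncomputable abbrev prj : tgt f X' ⟶ Over.mk f := Over.homMk X'.hom rfl

theorem toFun_aux {T : Over S} (φ : Over.mk f ⊗ T ⟶ tgt f X') (hφ : φ ≫ prj f X' = fst (Over.mk f) T) :
    φ.left ≫ X'.hom = pullback.fst f T.hom :=
  congrArg CommaMorphism.left hφ

/-- Morphisms over `S'` out of the base change are the sections. -/
noncomputable def comparison (T : Over S) :
    (WeilExistLib.sectFun (Over.mk f) (tgt f X') (prj f X')).obj (op T) ≃ (Red.bc f T ⟶ X') where
  toFun φ := Over.homMk ((pullbackSymmetry T.hom f).hom ≫ φ.1.left) (by
    show ((pullbackSymmetry T.hom f).hom ≫ φ.1.left) ≫ X'.hom = pullback.snd T.hom f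
    rw [Category.assoc, toFun_aux f X' φ.1 φ.2]
    exact pullbackSymmetry_hom_comp_fst _ _)
  invFun ψ := ⟨Over.homMk ((pullbackSymmetry T.hom f).inv ≫ ψ.left) (by
      show ((pullbackSymmetry T.hom f).inv ≫ ψ.left) ≫ X'.hom ≫ f = pullback.fst f T.hom ≫ f
      rw [Category.assoc, ← Category.assoc ψ.left, Over.w ψ]
      show (pullbackSymmetry T.hom f).inv ≫ pullback.snd T.hom f ≫ f = _
      rw [pullbackSymmetry_inv_comp_snd_assoc]), Over.OverMorphism.ext (by
      show ((pullbackSymmetry T.hom f).inv ≫ ψ.left) ≫ X'.hom = pullback.fst f T.hom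
      rw [Category.assoc, Over.w ψ]
      exact pullbackSymmetry_inv_comp_snd _ _)⟩
  left_inv φ := Subtype.ext (Over.OverMorphism.ext (Iso.inv_hom_id_assoc _ _))
  right_inv ψ := Over.OverMorphism.ext (Iso.hom_inv_id_assoc _ _)

theorem comparison_natural {T T₁ : Over S} (t : T₁ ⟶ T)
    (φ : (WeilExistLib.sectFun (Over.mk f) (tgt f X') (prj f X')).obj (op T)) :
    comparison f X' T₁ ((WeilExistLib.sectFun (Over.mk f) (tgt f X') (prj f X')).map t.op φ) =
      (Over.pullback f).map t ≫ comparison f X' T φ := by
  refine Over.OverMorphism.ext ?_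
  show (pullbackSymmetry T₁.hom f).hom ≫ (Over.mk f ◁ t).left ≫ φ.1.left =
    ((Over.pullback f).map t).left ≫ (pullbackSymmetry T.hom f).hom ≫ φ.1.left
  rw [← Category.assoc, ← Category.assoc]
  refine congrArg (· ≫ φ.1.left) (pullback.hom_ext ?_ ?_)
  · simp only [Over.pullback, Category.assoc, pullback.lift_fst, pullback.lift_snd]
    refine (congrArg (_ ≫ ·) (Over.whiskerLeft_left_fst t)).trans ?_
    simp
  · simp only [Over.pullback, Category.assoc, pullback.lift_fst, pullback.lift_snd]
    refine (congrArg (_ ≫ ·) (Over.whiskerLeft_left_snd t)).trans ?_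
    simp

/-- Suppose f : S' → S is a finite, locally free morphism of schemes (i.e. finite, flat and locally of
finite presentation) that is also a universal homeomorphism, and let X' be an arbitrary scheme over
S' (no condition on finite sets of points lying in a common affine open). Then the Weil restriction
of X' along f is representable by an S-scheme: there exist an S-scheme R and an S'-morphism q from
the base change R ×_S S' to X' such that, for every S-scheme T, sending an S-morphism g : T → R to
(g ×_S S') followed by q is a bijection onto the S'-morphisms T ×_S S' → X'. (The published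
statement writes X' as a scheme over S; the proof treats an S'-scheme, as here.) -/
theorem result
    {S S' : Scheme.{u}} (f : S' ⟶ S) [IsFinite f] [Flat f] [LocallyOfFinitePresentation f]
    (hf : FlatMor.IsUnivHomeo f) (X' : Over S') :
    ∃ (R : Over S) (q : Red.bc f R ⟶ X'), WeilRes.IsWeilRes f X' R q := by
  haveI : IsFinite (Over.mk f).hom := inferInstanceAs (IsFinite f)
  haveI : Flat (Over.mk f).hom := inferInstanceAs (Flat f)
  haveI : LocallyOfFinitePresentation (Over.mk f).hom := inferInstanceAs (LocallyOfFinitePresentation f)
  obtain ⟨A, ⟨R⟩⟩ := WeilExistLib.exists_rep_sectFun (Over.mk f) (tgt f X') (prj f X') hf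
  let e : (WeilRes.functor f X').RepresentableBy A :=
    { homEquiv := fun {T} => R.homEquiv.trans (comparison f X' T)
      homEquiv_comp := fun {T T₁} t g => by
        show comparison f X' T (R.homEquiv (t ≫ g)) = (Over.pullback f).map t ≫ comparison f X' T₁ (R.homEquiv g)
        rw [R.homEquiv_comp]
        exact comparison_natural f X' t (R.homEquiv g) }
  exact ⟨A, _, WeilRes.IsWeilRes.of_representableBy (f := f) e⟩

end Groth.Agent.S17692
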