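import Groth.Statements.S17693
import Groth.Agent.S17692
import Groth.Agent.WeilFinLib.Main

set_option autoImplicit false
set_option backward.isDefEq.respectTransparency false
set_option backward.isDefEq.respectTransparency.types false
set_option maxHeartbeats 1000000
set_option synthInstance.maxHeartbeats 400000
universe u
open CategoryTheory CategoryTheory.Limits AlgebraicGeometry
open WeilRes

set_option backward.isDefEq.respectTransparency false
namespace Groth.Agent.S17693

/-- Let k be a field, A a finite k-algebra and G a group scheme of finite type over Spec A, not
necessarily smooth. Then the Weil restriction of G along Spec A → Spec k is representable: there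
exist a k-scheme R and an A-morphism q : R ×_k Spec A → G such that for every k-scheme T the map g ↦
(g ×_k Spec A) ≫ q is a bijection from k-morphisms T → R onto A-morphisms T ×_k Spec A → G. (The
published statement adds that the representing k-group scheme is quasi-projective; only
representability is stated here.) -/
theorem result
    (k A : Type u) [Field k] [CommRing A] [Algebra k A] [Module.Finite k A]
    (G : Over (Spec (CommRingCat.of A))) [GrpObj G] [LocallyOfFiniteType G.hom] [QuasiCompact G.hom] :
    ∃ (R : Over (Spec (CommRingCat.of k)))
      (q : Red.bc (Spec.map (CommRingCat.ofHom (algebraMap k A))) R ⟶ G),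
      WeilRes.IsWeilRes (Spec.map (CommRingCat.ofHom (algebraMap k A))) G R q := by
  haveI : IsArtinianRing A := IsArtinianRing.of_finite k A
  let f := Spec.map (CommRingCat.ofHom (algebraMap k A))
  haveI : IsFinite f := (IsFinite.SpecMap_iff _).2 (RingHom.finite_algebraMap.2 inferInstance)
  haveI : Flat f := by
    rw [HasRingHomProperty.Spec_iff (P := @Flat)]
    exact RingHom.flat_algebraMap_iff.2 inferInstance
  haveI : LocallyOfFinitePresentation f := by
    rw [HasRingHomProperty.Spec_iff (P := @LocallyOfFinitePresentation)]
    haveI : Algebra.FinitePresentation k A := Algebra.FinitePresentation.of_finiteType.1 inferInstance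
    exact RingHom.finitePresentation_algebraMap.2 inferInstance
  haveI : IsFinite (Over.mk f).hom := inferInstanceAs (IsFinite f)
  haveI : Flat (Over.mk f).hom := inferInstanceAs (Flat f)
  haveI : LocallyOfFinitePresentation (Over.mk f).hom := inferInstanceAs (LocallyOfFinitePresentation f)
  obtain ⟨R, ⟨e⟩⟩ := WeilExistLib.exists_rep_sectFun_of_finite (Over.mk f) (Groth.Agent.S17692.tgt f G)
    (Groth.Agent.S17692.prj f G) (fun F hF => WeilFinLib.exists_affine_finite G F hF)
  let e' : (WeilRes.functor f G).RepresentableBy R :=
    { homEquiv := fun {T} => e.homEquiv.trans (Groth.Agent.S17692.comparison f G T)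
      homEquiv_comp := fun {T T₁} t g => by
        show Groth.Agent.S17692.comparison f G T (e.homEquiv (t ≫ g)) =
          (Over.pullback f).map t ≫ Groth.Agent.S17692.comparison f G T₁ (e.homEquiv g)
        rw [e.homEquiv_comp]
        exact Groth.Agent.S17692.comparison_natural f G t (e.homEquiv g) }
  exact ⟨R, _, WeilRes.IsWeilRes.of_representableBy (f := f) e'⟩

end Groth.Agent.S17693
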