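import Groth.Statements.S17694
import Groth.Agent.TorusHomZeroLib.Counit
import Groth.Agent.RedRankLib.CommRel
import Groth.Agent.GitBoundLib.Main
import Groth.Agent.H0Lib.Group

set_option autoImplicit false
set_option linter.style.haveILetI false
set_option backward.isDefEq.respectTransparency false
set_option maxHeartbeats 400000
universe u
open CategoryTheory CategoryTheory.Limits AlgebraicGeometry MonObj
open WeilRes

open Groth.Agent
attribute [-instance] CategoryTheory.Hom.commGroup

namespace Groth.Agent.S17694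

/-- Let κ be a field, B a finite κ-algebra and E an abelian scheme over B, that is a proper smooth
B-group scheme whose geometric fibres are connected. Let R be a κ-group scheme which, with the
homomorphism q : R ×_κ Spec B → E, is the Weil restriction of E along Spec B → Spec κ. Then the
maximal torus of R is trivial; precisely, as the proof establishes, for every algebraically closed
field Ω over κ every homomorphism of Ω-group schemes from the multiplicative group over Ω to the
base change of R to Ω is trivial. -/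
theorem result
    (κ B : Type u) [Field κ] [CommRing B] [Algebra κ B] [Module.Finite κ B]
    (E : Over (Spec (CommRingCat.of B))) [GrpObj E] [IsProper E.hom] [Smooth E.hom]
    (hEc : ∀ (Ω' : Type u) [Field Ω'] (t : Spec (CommRingCat.of Ω') ⟶ Spec (CommRingCat.of B)),
      ConnectedSpace ↥(pullback E.hom t))
    (R : Over (Spec (CommRingCat.of κ))) [GrpObj R]
    (q : Red.bc (Spec.map (CommRingCat.ofHom (algebraMap κ B))) R ⟶ E) [IsMonHom q]
    (hR : WeilRes.IsWeilRes (Spec.map (CommRingCat.ofHom (algebraMap κ B))) E R q)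
    (Ω : Type u) [Field Ω] [IsAlgClosed Ω] [Algebra κ Ω]
    (φ : Red.Gm (Spec (CommRingCat.of Ω)) ⟶ Red.bc (Spec.map (CommRingCat.ofHom (algebraMap κ Ω))) R)
    [IsMonHom φ] :
    φ = 1 := by
  let f := Spec.map (CommRingCat.ofHom (algebraMap κ B))
  let g := Spec.map (CommRingCat.ofHom (algebraMap κ Ω))
  have hfib : ∀ s : ↥(Spec (CommRingCat.of B)), ConnectedSpace ↥(E.hom.fiber s) := fun s =>
    hEc _ ((Spec (CommRingCat.of B)).fromSpecResidueField s)
  haveI : GeometricallyReduced E.hom := AbSchLib.geometricallyReduced_of_smooth E.hom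
  haveI : GeometricallyConnected E.hom := WeilRes.geometricallyConnected_of_grp E hfib
  haveI : IsCommMonObj E := H0Lib.isCommMonObj
  let Tm : Over (Spec (CommRingCat.of Ω)) := Red.Gm (Spec (CommRingCat.of Ω))
  let φ' : (Over.map g).obj Tm ⟶ R := ((Over.mapPullbackAdj g).homEquiv Tm R).symm φ
  let ψ' : Red.bc f ((Over.map g).obj Tm) ⟶ E := WeilRes.restr f q _ φ'
  suffices hψ : ψ' = 1 by
    have h1 : φ' = 1 := (hR _).1 (hψ.trans (WeilRes.restr_one f q _).symm)
    rw [← ((Over.mapPullbackAdj g).homEquiv Tm R).apply_symm_apply φ]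
    exact (congrArg _ h1).trans (TorusHomZeroLib.homEquiv_one g Tm)
  let pΩ : pullback g f ⟶ Spec (CommRingCat.of Ω) := pullback.fst g f
  let π : pullback g f ⟶ Spec (CommRingCat.of B) := pullback.snd g f
  let TP : Over (pullback g f) := Red.bc pΩ Tm
  haveI : IsCommMonObj TP := Functor.isCommMonObj_obj (F := Over.pullback pΩ)
  let θ : (Over.map π).obj TP ⟶ Red.bc f ((Over.map g).obj Tm) :=
    Over.homMk (pullback.lift (pullback.fst Tm.hom pΩ) (pullback.snd Tm.hom pΩ ≫ π) (by
      show pullback.fst Tm.hom pΩ ≫ Tm.hom ≫ g = (pullback.snd Tm.hom pΩ ≫ π) ≫ f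
      rw [pullback.condition_assoc, Category.assoc, pullback.condition])) (pullback.lift_snd _ _ _)
  let ζ : Red.bc f ((Over.map g).obj Tm) ⟶ (Over.map π).obj TP :=
    Over.homMk (pullback.lift (pullback.fst _ f) (pullback.lift (pullback.fst _ f ≫ Tm.hom) (pullback.snd _ f) (by
      rw [Category.assoc]
      exact pullback.condition)) (by rw [pullback.lift_fst])) (by
      show pullback.lift _ _ _ ≫ pullback.snd Tm.hom pΩ ≫ π = pullback.snd _ f
      rw [pullback.lift_snd_assoc, pullback.lift_snd])
  have hζ : ζ ≫ θ = 𝟙 _ := by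
    refine Over.OverMorphism.ext (pullback.hom_ext ?_ ?_) <;> simp [ζ, θ, π]
  suffices hθ : θ ≫ ψ' = 1 by
    rw [← Category.id_comp ψ', ← hζ, Category.assoc, hθ, MonObj.comp_one]
  refine TorusHomZeroLib.eq_one_of_mul π hfib (RedRank.isTorus_bc (GitBoundLib.isTorus_gm) pΩ) (θ ≫ ψ') fun {Z} a b => ?_
  let W := (Over.map g).obj ((Over.map pΩ).obj Z)
  let ξ : (Over.map π).obj Z ⟶ Red.bc f W := Over.homMk (pullback.lift (𝟙 _) (Z.hom ≫ π) (by
      show 𝟙 _ ≫ (Z.hom ≫ pΩ) ≫ g = (Z.hom ≫ π) ≫ f
      rw [Category.id_comp, Category.assoc, Category.assoc, pullback.condition])) (pullback.lift_snd _ _ _)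
  let pt : (Z ⟶ TP) → ((Over.map pΩ).obj Z ⟶ Tm) := fun c =>
    (Over.map pΩ).map c ≫ TorusHomZeroLib.proj pΩ Tm
  have key : ∀ c : Z ⟶ TP, (Over.map π).map c ≫ θ ≫ ψ' =
      ξ ≫ WeilRes.restr f q W (((Over.mapPullbackAdj g).homEquiv _ R).symm (pt c ≫ φ)) := by
    intro c
    have e : (Over.map π).map c ≫ θ = ξ ≫ (Over.pullback f).map ((Over.map g).map (pt c)) := by
      refine Over.OverMorphism.ext (pullback.hom_ext ?_ ?_)
      · simp [θ, ξ, pt]
        exact (Category.id_comp _).symm
      · simp [θ, ξ, pt, π]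
        rw [← Over.w c]
        simp [TP]
    rw [(Over.mapPullbackAdj g).homEquiv_naturality_left_symm, WeilRes.restr_comp, ← Category.assoc, e,
      Category.assoc]
  have hm : pt (a * b) ≫ φ = (pt a ≫ φ) * (pt b ≫ φ) := by
    show ((Over.map pΩ).map (a * b) ≫ _) ≫ φ = _
    rw [TorusHomZeroLib.counit_mul, MonObj.mul_comp]
  rw [key, key, key, hm]
  have hs : ∀ u v : (Over.map pΩ).obj Z ⟶ Red.bc g R, ((Over.mapPullbackAdj g).homEquiv _ R).symm (u * v) =
      ((Over.mapPullbackAdj g).homEquiv _ R).symm u * ((Over.mapPullbackAdj g).homEquiv _ R).symm v := fun u v => by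
    refine ((Over.mapPullbackAdj g).homEquiv _ R).injective ?_
    rw [AlgGrp.Action.homEquiv_mul, Equiv.apply_symm_apply, Equiv.apply_symm_apply, Equiv.apply_symm_apply]
  rw [hs, WeilRes.restr_mul, MonObj.comp_mul]

end Groth.Agent.S17694
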