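import Groth.Statements.S17703
import Groth.Agent.GeomRedFibLib.GRing
import Groth.Agent.GeomRedFibLib.CplFibres
import Groth.Agent.GeomRedFibLib.LocalPropInst
import Groth.Agent.GeomRedFieldLib.Scheme
import Groth.Agent.S9257
import Groth.Agent.S2617
import Groth.Agent.CatLib.Univ
import Groth.Agent.CommAlgDim.GlobalDim
import Groth.Prelude.Def_EGA4b
-- import your own Groth.Agent.* helpers here

set_option autoImplicit false
universe u
open Neron

namespace Groth.Agent.S17703

/-- Let R be a discrete valuation ring with fraction field K, R̂ its completion and K̂ = Frac R̂. Then R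
is excellent (Noetherian, universally catenary, G-ring and J-2) if and only if K̂ is geometrically
reduced over K, i.e. K ⊆ K̂ is separable; here K̂ is written as the generic formal fibre κ(0) ⊗_R R̂
of R, which is R̂ with the uniformizer inverted. -/
theorem result
    (R : Type u) [CommRing R] [IsDomain R] [IsDiscreteValuationRing R] :
    EGA4.IsExcellent R ↔
      Algebra.IsGeometricallyReduced (⊥ : Ideal R).ResidueField (EGA4.formalFibre R (⊥ : Ideal R)) := by
  classical
  obtain ⟨π, hπ⟩ := IsDiscreteValuationRing.exists_irreducible R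
  have hmax : IsLocalRing.maximalIdeal R = Ideal.span {π} := hπ.maximalIdeal_eq
  let p₀ : Ideal R := ⊥
  let C := EGA4.Cpl R
  haveI := GeomRedFibLib.isNoetherianRing_cpl R
  haveI := GeomRedFibLib.isNoetherianRing_fiber R C p₀
  -- the generic fibre has a single point
  have hcmax : IsLocalRing.maximalIdeal C = Ideal.span {algebraMap R C π} :=
    AdicCompletion.maximalIdeal_eq_map.trans ((congrArg (Ideal.map (algebraMap R C)) hmax).trans
      (by rw [Ideal.map_span, Set.image_singleton]))
  have hprime : ∀ q : PrimeSpectrum C, q.asIdeal.comap (algebraMap R C) = ⊥ → q.asIdeal = ⊥ := by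
    intro q hq
    have hπq : algebraMap R C π ∉ q.asIdeal := fun h ↦ hπ.ne_zero (by
      rw [← Ideal.mem_comap, hq] at h
      exact h)
    refine Submodule.eq_bot_of_le_smul_of_le_jacobson_bot (IsLocalRing.maximalIdeal C) q.asIdeal
      (IsNoetherian.noetherian _) (fun x hx ↦ ?_) (IsLocalRing.maximalIdeal_le_jacobson _)
    have hx' : x ∈ IsLocalRing.maximalIdeal C := IsLocalRing.le_maximalIdeal q.2.ne_top hx
    rw [hcmax, Ideal.mem_span_singleton'] at hx'
    obtain ⟨y, rfl⟩ := hx'
    have hy : y ∈ q.asIdeal := (q.2.mem_or_mem hx).resolve_right hπq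
    rw [mul_comm y]
    exact Submodule.smul_mem_smul (hcmax ▸ Ideal.mem_span_singleton_self _) hy
  haveI : Subsingleton (PrimeSpectrum (p₀.Fiber C)) := by
    haveI : Subsingleton ↑(PrimeSpectrum.comap (algebraMap R C) ⁻¹' {⟨p₀, inferInstance⟩}) := ⟨fun a b ↦ ?_⟩
    · exact (PrimeSpectrum.preimageEquivFiber R C ⟨p₀, inferInstance⟩).symm.subsingleton
    exact Subtype.ext (PrimeSpectrum.ext ((hprime a.1 (congrArg PrimeSpectrum.asIdeal a.2)).trans
      (hprime b.1 (congrArg PrimeSpectrum.asIdeal b.2)).symm))
  haveI : Ring.KrullDimLE 0 (p₀.Fiber C) := Ring.KrullDimLE.mk₀ fun I hI ↦ by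
    obtain ⟨M, hM, hIM⟩ := Ideal.exists_le_maximal I hI.ne_top
    have : (⟨I, hI⟩ : PrimeSpectrum (p₀.Fiber C)) = ⟨M, hM.isPrime⟩ := Subsingleton.elim _ _
    rw [show I = M from congrArg PrimeSpectrum.asIdeal this]
    exact hM
  haveI : IsArtinianRing (p₀.Fiber C) := isArtinianRing_iff_isNoetherianRing_krullDimLE_zero.mpr ⟨inferInstance, inferInstance⟩
  have hgen : CAlg.IsGeometricallyRegular p₀.ResidueField (p₀.Fiber C) ↔
      Algebra.IsGeometricallyReduced p₀.ResidueField (p₀.Fiber C) := by
    refine ⟨fun h ↦ GeomRedFieldLib.isGeometricallyReduced_of_finite_purelyInseparable _ fun k' _ _ _ _ ↦ ?_,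
      fun h k' _ _ hk ↦ ?_⟩
    · haveI := h k' inferInstance
      refine isReduced_ofLocalizationMaximal _ fun M hM ↦ ?_
      haveI := CommAlgDim.isDomain_of_isRegularLocalRing (Localization.AtPrime M)
      infer_instance
    · haveI := hk
      haveI := h
      let T := TensorProduct p₀.ResidueField k' (p₀.Fiber C)
      haveI : IsArtinianRing (TensorProduct p₀.ResidueField (p₀.Fiber C) k') :=
        IsArtinianRing.of_finite (p₀.Fiber C) (TensorProduct p₀.ResidueField (p₀.Fiber C) k')
      haveI : IsArtinianRing T :=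
        Function.Surjective.isArtinianRing (f := (Algebra.TensorProduct.comm p₀.ResidueField (p₀.Fiber C) k').toRingEquiv.toRingHom)
          (Algebra.TensorProduct.comm p₀.ResidueField (p₀.Fiber C) k').surjective
      haveI : _root_.IsReduced T :=
        haveI := GeomRedFieldLib.isReduced_tensor_geomRed (k := p₀.ResidueField) (p₀.Fiber C) k'
        isReduced_of_injective (Algebra.TensorProduct.comm p₀.ResidueField k' (p₀.Fiber C)) (AlgEquiv.injective _)
      refine (GeomRedFibLib.isRegularRing_iff T).mpr fun P hP ↦ ?_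
      haveI : _root_.IsReduced (Localization.AtPrime P) :=
        isReduced_localizationPreserves P.primeCompl (Localization.AtPrime P) inferInstance
      letI := (IsArtinianRing.isField_of_isReduced_of_isLocalRing (Localization.AtPrime P)).toField
      exact inferInstanceAs (IsRegularLocalRing (Localization.AtPrime P))
  refine Iff.trans ?_ hgen
  -- local rings of quotients
  have hiso : ∀ (P : Ideal (R ⧸ (⊥ : Ideal R))) [P.IsPrime], P.IsMaximal →
      (CAlg.IsGeometricallyRegular (⊥ : Ideal (Localization.AtPrime P)).ResidueField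
          (EGA4.formalFibre (Localization.AtPrime P) (⊥ : Ideal (Localization.AtPrime P))) ↔
        CAlg.IsGeometricallyRegular p₀.ResidueField (p₀.Fiber C)) := by
    intro P _ hP
    haveI : IsLocalRing (R ⧸ (⊥ : Ideal R)) :=
      IsLocalRing.of_surjective' (Ideal.Quotient.mk (⊥ : Ideal R)) Ideal.Quotient.mk_surjective
    let A' := Localization.AtPrime P
    haveI : IsDomain A' := IsLocalization.isDomain_localization P.primeCompl_le_nonZeroDivisors
    let j : R →+* A' := (algebraMap (R ⧸ (⊥ : Ideal R)) A').comp (Ideal.Quotient.mk ⊥)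
    letI := j.toAlgebra
    have hu : ∀ x : P.primeCompl, IsUnit (x : R ⧸ (⊥ : Ideal R)) := fun x ↦ by
      by_contra hx
      exact x.2 ((IsLocalRing.eq_maximalIdeal hP).ge ((IsLocalRing.mem_maximalIdeal _).mpr hx))
    have hs : Function.Surjective (algebraMap R A') := fun z ↦ by
      obtain ⟨x, s, rfl⟩ := IsLocalization.exists_mk'_eq P.primeCompl z
      obtain ⟨r, hr⟩ := Ideal.Quotient.mk_surjective (x * (((hu s).unit⁻¹ : (R ⧸ (⊥ : Ideal R))ˣ) : R ⧸ (⊥ : Ideal R)))
      refine ⟨r, ?_⟩
      show algebraMap (R ⧸ (⊥ : Ideal R)) A' (Ideal.Quotient.mk ⊥ r) = _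
      rw [hr, IsLocalization.eq_mk'_iff_mul_eq, ← map_mul, mul_assoc, IsUnit.val_inv_mul, mul_one]
    obtain ⟨e⟩ := GeomRedFibLib.exists_cplSurjEquiv R A' hs
    refine GeomRedFibLib.isGeometricallyRegular_fiber_iff e p₀ ⊥ (RingHom.surjectiveOnStalks_of_surjective hs) ?_
    refine (Ideal.comap_bot_of_injective _ ?_).symm
    exact (IsLocalization.injective A' P.primeCompl_le_nonZeroDivisors).comp
      ((RingHom.injective_iff_ker_eq_bot _).mpr (Ideal.mk_ker (I := (⊥ : Ideal R))))
  constructor
  · intro h
    haveI : IsLocalRing (R ⧸ (⊥ : Ideal R)) :=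
      IsLocalRing.of_surjective' (Ideal.Quotient.mk (⊥ : Ideal R)) Ideal.Quotient.mk_surjective
    exact (hiso (IsLocalRing.maximalIdeal _) inferInstance).mp
      ((Groth.Agent.S9257.result R).mp h.2.2.1 ⊥ (IsLocalRing.maximalIdeal _))
  intro h
  refine ⟨inferInstance, CatLib.isUniversallyCatenary_of_isCMRing CatLib.isCMRing_of_isRegularRing,
    (Groth.Agent.S9257.result R).mpr fun q _ P _ ↦ ?_, (Groth.Agent.S2617.result R).mpr fun B _ _ _ hfin ↦ ?_⟩
  · by_cases hPm : q = ⊥ ∧ P.IsMaximal
    · obtain ⟨rfl, hPm⟩ := hPm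
      exact (hiso P hPm).mpr h
    · -- the local ring is a field
      let k := Localization.AtPrime P
      have hP0 : P = ⊥ := by
        by_contra hP0
        by_cases hq : q = ⊥
        · subst hq
          haveI : IsPrincipalIdealRing (R ⧸ (⊥ : Ideal R)) :=
            IsPrincipalIdealRing.of_surjective (Ideal.Quotient.mk (⊥ : Ideal R)) Ideal.Quotient.mk_surjective
          exact hPm ⟨rfl, (inferInstance : P.IsPrime).isMaximal hP0⟩
        · haveI : q.IsMaximal := (inferInstance : q.IsPrime).isMaximal hq
          letI : Field (R ⧸ q) := Ideal.Quotient.field q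
          exact hP0 ((Ideal.eq_bot_or_top P).resolve_right (Ideal.IsPrime.ne_top inferInstance))
      haveI : IsDomain k := IsLocalization.isDomain_localization P.primeCompl_le_nonZeroDivisors
      have hk : IsField k := by
        subst hP0
        exact (IsLocalRing.isField_iff_maximalIdeal_eq).mpr (by
          rw [← IsLocalization.AtPrime.map_eq_maximalIdeal (⊥ : Ideal (R ⧸ q)) k, Ideal.map_bot])
      haveI : IsAdicComplete (IsLocalRing.maximalIdeal k) k := by
        rw [IsLocalRing.isField_iff_maximalIdeal_eq.mp hk]; infer_instance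
      let p : Ideal k := ⊥
      let e : EGA4.Cpl k ≃ₐ[k] k := (AdicCompletion.ofAlgEquiv (IsLocalRing.maximalIdeal k)).symm
      let f : p.Fiber (EGA4.Cpl k) ≃ₐ[p.ResidueField] p.ResidueField :=
        (Algebra.TensorProduct.congr AlgEquiv.refl e).trans (Algebra.TensorProduct.rid k p.ResidueField p.ResidueField)
      intro L _ _ _
      exact IsRegularRing.of_ringEquiv (R := L)
        ((Algebra.TensorProduct.congr (AlgEquiv.refl (R := p.ResidueField) (A₁ := L)) f).trans
          (Algebra.TensorProduct.rid p.ResidueField p.ResidueField L)).toRingEquiv.symm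
  · haveI := hfin
    let η : PrimeSpectrum B := ⟨⊥, Ideal.isPrime_bot⟩
    have hη : η ∈ EGA4.regLocus B := by
      show IsRegularLocalRing (Localization.AtPrime η.asIdeal)
      letI : Field (Localization.AtPrime η.asIdeal) :=
        ((IsLocalRing.isField_iff_maximalIdeal_eq).2 (by
          rw [← IsLocalization.AtPrime.map_eq_maximalIdeal η.asIdeal (Localization.AtPrime η.asIdeal)]
          exact Ideal.map_bot)).toField
      infer_instance
    by_cases hπ0 : algebraMap R B π = 0
    · refine ⟨Set.univ, isOpen_univ, ⟨η, trivial⟩, fun Q _ ↦ ?_⟩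
      have hsub : Q.asIdeal = ⊥ := by
        refine (Algebra.QuasiFinite.eq_of_le_of_under_eq (R := R) ⊥ Q.asIdeal bot_le ?_).symm
        have h1 : ∀ (I : Ideal B) [I.IsPrime], I.under R = IsLocalRing.maximalIdeal R := fun I _ ↦
          le_antisymm (IsLocalRing.le_maximalIdeal (Ideal.IsPrime.ne_top inferInstance)) (by
            rw [hmax, Ideal.span_le, Set.singleton_subset_iff]
            show algebraMap R B π ∈ I
            rw [hπ0]
            exact zero_mem _)
        rw [h1 ⊥, h1 Q.asIdeal]
      rw [show Q = η from PrimeSpectrum.ext hsub]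
      exact hη
    · refine ⟨PrimeSpectrum.basicOpen (algebraMap R B π), (PrimeSpectrum.basicOpen _).2, ⟨η, ?_⟩, fun Q hQ ↦ ?_⟩
      · simpa [η] using hπ0
      · have hQπ : algebraMap R B π ∉ Q.asIdeal := by simpa using hQ
        have hsub : Q.asIdeal = ⊥ := by
          refine Ideal.eq_bot_of_comap_eq_bot (R := R) ?_
          by_contra hc
          have := ((inferInstance : (Q.asIdeal.comap (algebraMap R B)).IsPrime).isMaximal hc)
          have h2 := IsLocalRing.eq_maximalIdeal this
          exact hQπ (show π ∈ Q.asIdeal.comap (algebraMap R B) by rw [h2, hmax]; exact Ideal.mem_span_singleton_self _)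
        rw [show Q = η from PrimeSpectrum.ext hsub]
        exact hη

end Groth.Agent.S17703
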