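import Groth.Statements.S17713
import Mathlib

-- import your own Groth.Agent.* helpers here

set_option autoImplicit false
open MoretBailly

namespace Groth.Agent.S17713
open PowerSeries Finset

local notation "B" => bernoulli'PowerSeries ℚ

theorem rescale_neg_mul_exp : rescale (-1 : ℚ) B * exp ℚ = B := by
  have h0 : B * (exp ℚ - 1) = X * exp ℚ := bernoulli'PowerSeries_mul_exp_sub_one ℚ
  have h1 := congrArg (rescale (-1 : ℚ)) h0
  rw [map_mul, map_mul, map_sub, map_one, rescale_X] at h1
  have hE : exp ℚ * rescale (-1 : ℚ) (exp ℚ) = 1 := exp_mul_exp_neg_eq_one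
  have hne : exp ℚ - 1 ≠ 0 := fun h => by
    have := congrArg (coeff 1) h
    simp at this
  apply mul_right_cancel₀ hne
  rw [h0]
  have hC : (C (-1 : ℚ)) = -1 := by simp
  rw [hC] at h1
  linear_combination (-(exp ℚ) ^ 2) * h1 + (rescale (-1 : ℚ) B * exp ℚ + X * exp ℚ) * hE

theorem coeff_one_mul' (f g : PowerSeries ℚ) : coeff 1 (f * g) = coeff 1 f * constantCoeff g + constantCoeff f * coeff 1 g := by
  rw [coeff_mul, Finset.Nat.sum_antidiagonal_succ]
  simp [add_comm]

theorem constB : constantCoeff B = 1 := by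
  rw [← coeff_zero_eq_constantCoeff_apply]; simp [bernoulli'PowerSeries]

theorem oneB : coeff 1 B = 1 / 2 := by simp [bernoulli'PowerSeries]

theorem oneB_pow (m : ℕ) : coeff 1 ((B) ^ m) = (m : ℚ) / 2 := by
  induction m with
  | zero => simp
  | succ m ih => rw [pow_succ, coeff_one_mul', ih, map_pow, constB, one_pow, oneB]; push_cast; ring

theorem oneB_inv (d : ℕ) : coeff 1 ((rescale (-(d : ℚ)) B)⁻¹) = (d : ℚ) / 2 := by
  have hc : constantCoeff (rescale (-(d : ℚ)) B) = 1 := by
    rw [← coeff_zero_eq_constantCoeff_apply, coeff_rescale, coeff_zero_eq_constantCoeff_apply, constB]; simp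
  have h := congrArg (coeff 1) (PowerSeries.mul_inv_cancel (rescale (-(d : ℚ)) B) (by rw [hc]; exact one_ne_zero))
  rw [coeff_one_mul', constantCoeff_inv, hc, coeff_rescale, oneB] at h
  simp at h
  linarith


/-- Let n ≥ 2 and d ≥ 1 be natural numbers and s an integer, and write B(x) = x/(1 - e^(-x)) for the
exponential generating series of the Bernoulli numbers B'_i (convention B'_1 = 1/2). For a natural
number p consider the product B(-dx)^(-1) B(-dpx) B(x)^(n+1) e^((dp-d-n-1+s)x) in ℚ[[x]] (the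
Todd-class integrand of a Hirzebruch–Riemann–Roch computation) and let λ_n(p) be its coefficient of
x^n. Then λ_n(p) is a polynomial in p whose two top terms are B'_n (dp)^n/n! and ((2s-d-n-1)/2)
B'_(n-1) (dp)^(n-1)/(n-1)!: there is a polynomial P over ℚ of degree at most n - 2 with λ_n(p) equal
to the sum of these two terms and P(p), for every p. -/
theorem result (n d : ℕ) (s : ℤ) (hn : 2 ≤ n) (hd : 1 ≤ d) :
    ∃ P : Polynomial ℚ, P.natDegree ≤ n - 2 ∧ ∀ p : ℕ,
      PowerSeries.coeff n ((PowerSeries.rescale (-(d : ℚ)) (bernoulli'PowerSeries ℚ))⁻¹ * PowerSeries.rescale (-((d : ℚ) * p)) (bernoulli'PowerSeries ℚ) * bernoulli'PowerSeries ℚ ^ (n + 1) * PowerSeries.rescale ((d : ℚ) * p - d - n - 1 + s) (PowerSeries.exp ℚ)) =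
        bernoulli' n * ((d : ℚ) * p) ^ n / (Nat.factorial n : ℚ) +
          (2 * (s : ℚ) - d - n - 1) / 2 * bernoulli' (n - 1) * ((d : ℚ) * p) ^ (n - 1) / (Nat.factorial (n - 1) : ℚ) +
          P.eval (p : ℚ) := by
  let c : ℚ := -(d : ℚ) - n - 1 + s
  let R0 : PowerSeries ℚ := (PowerSeries.rescale (-(d : ℚ)) (bernoulli'PowerSeries ℚ))⁻¹ *
    bernoulli'PowerSeries ℚ ^ (n + 1) * PowerSeries.rescale c (PowerSeries.exp ℚ)
  let a : ℕ → ℚ := fun j => PowerSeries.coeff (n - j) R0 * PowerSeries.coeff j (bernoulli'PowerSeries ℚ)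
  have hF : ∀ p : ℕ, PowerSeries.coeff n ((PowerSeries.rescale (-(d : ℚ)) (bernoulli'PowerSeries ℚ))⁻¹ * PowerSeries.rescale (-((d : ℚ) * p)) (bernoulli'PowerSeries ℚ) * bernoulli'PowerSeries ℚ ^ (n + 1) * PowerSeries.rescale ((d : ℚ) * p - d - n - 1 + s) (PowerSeries.exp ℚ))
      = ∑ j ∈ Finset.range (n + 1), a j * ((d : ℚ) * p) ^ j := by
    intro p
    have h1 := congrArg (PowerSeries.rescale ((d : ℚ) * p)) rescale_neg_mul_exp
    rw [map_mul, PowerSeries.rescale_rescale, neg_one_mul] at h1
    rw [show (d : ℚ) * p - d - n - 1 + s = (d : ℚ) * p + c by simp only [c]; ring, ← PowerSeries.exp_mul_exp_eq_exp_add]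
    rw [show ∀ (i r b e f : PowerSeries ℚ), i * r * b * (e * f) = (r * e) * (i * b * f) from fun i r b e f => by ring, h1]
    rw [PowerSeries.coeff_mul, Finset.Nat.sum_antidiagonal_eq_sum_range_succ_mk]
    refine Finset.sum_congr rfl fun j _ => ?_
    simp only [a, R0, PowerSeries.coeff_rescale]
    ring
  have hconst : PowerSeries.constantCoeff R0 = 1 := by
    simp only [R0, map_mul, map_pow, PowerSeries.constantCoeff_inv]
    rw [← PowerSeries.coeff_zero_eq_constantCoeff_apply (PowerSeries.rescale _ _), PowerSeries.coeff_rescale,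
      ← PowerSeries.coeff_zero_eq_constantCoeff_apply (PowerSeries.rescale c _), PowerSeries.coeff_rescale]
    simp [constB]
  have hone : PowerSeries.coeff 1 R0 = (2 * (s : ℚ) - d - n - 1) / 2 := by
    simp only [R0]
    rw [coeff_one_mul', coeff_one_mul', oneB_inv, oneB_pow, map_mul, map_pow, constB,
      PowerSeries.constantCoeff_inv, ← PowerSeries.coeff_zero_eq_constantCoeff_apply (PowerSeries.rescale _ _), PowerSeries.coeff_rescale,
      ← PowerSeries.coeff_zero_eq_constantCoeff_apply (PowerSeries.rescale c _), PowerSeries.coeff_rescale, PowerSeries.coeff_rescale]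
    simp [constB, c]
    ring
  refine ⟨∑ j ∈ Finset.range (n - 1), Polynomial.C (a j * (d : ℚ) ^ j) * Polynomial.X ^ j, ?_, fun p => ?_⟩
  · refine Polynomial.natDegree_sum_le_of_forall_le _ _ fun j hj => ?_
    refine (Polynomial.natDegree_C_mul_X_pow_le _ _).trans ?_
    simp only [Finset.mem_range] at hj; omega
  · rw [hF p]
    obtain ⟨m, rfl⟩ : ∃ m, n = m + 1 := ⟨n - 1, by omega⟩
    rw [Finset.sum_range_succ, Finset.sum_range_succ]
    simp only [Polynomial.eval_finsetSum, Polynomial.eval_mul, Polynomial.eval_C, Polynomial.eval_pow, Polynomial.eval_X, Nat.add_sub_cancel]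
    have h0 : a (m + 1) = bernoulli' (m + 1) / ((m + 1).factorial : ℚ) := by
      simp only [a, Nat.sub_self, PowerSeries.coeff_zero_eq_constantCoeff_apply, hconst, one_mul]
      simp [bernoulli'PowerSeries]
    have h1 : a m = (2 * (s : ℚ) - d - (m + 1 : ℕ) - 1) / 2 * (bernoulli' m / (m.factorial : ℚ)) := by
      simp only [a, Nat.add_sub_cancel_left, hone]
      simp [bernoulli'PowerSeries]
    rw [h0, h1]
    simp only [mul_pow, mul_assoc]
    ring

end Groth.Agent.S17713
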