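import Groth.Statements.S17714
import Mathlib

-- import your own Groth.Agent.* helpers here

set_option autoImplicit false
open MoretBailly

namespace Groth.Agent.S17714
open PowerSeries Finset

local notation "B" => bernoulli'PowerSeries ℚ

theorem rescale_neg_mul_exp : rescale (-1 : ℚ) B * exp ℚ = B := by
  have h0 : B * (exp ℚ - 1) = X * exp ℚ := bernoulli'PowerSeries_mul_exp_sub_one ℚ
  have h1 := congrArg (rescale (-1 : ℚ)) h0
  rw [map_mul, map_mul, map_sub, map_one, rescale_X] at h1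
  have hE : exp ℚ * rescale (-1 : ℚ) (exp ℚ) = 1 := exp_mul_exp_neg_eq_one
  have hne : exp ℚ - 1 ≠ 0 := fun h => by
    have := congrArg (coeff 1) h
    simp at this
  apply mul_right_cancel₀ hne
  rw [h0]
  have hC : (C (-1 : ℚ)) = -1 := by simp
  rw [hC] at h1
  linear_combination (-(exp ℚ) ^ 2) * h1 + (rescale (-1 : ℚ) B * exp ℚ + X * exp ℚ) * hE

theorem coeff_one_mul' (f g : PowerSeries ℚ) : coeff 1 (f * g) = coeff 1 f * constantCoeff g + constantCoeff f * coeff 1 g := by
  rw [coeff_mul, Finset.Nat.sum_antidiagonal_succ]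
  simp [add_comm]

theorem constB : constantCoeff B = 1 := by
  rw [← coeff_zero_eq_constantCoeff_apply]; simp [bernoulli'PowerSeries]

theorem oneB : coeff 1 B = 1 / 2 := by simp [bernoulli'PowerSeries]

theorem oneB_pow (m : ℕ) : coeff 1 ((B) ^ m) = (m : ℚ) / 2 := by
  induction m with
  | zero => simp
  | succ m ih => rw [pow_succ, coeff_one_mul', ih, map_pow, constB, one_pow, oneB]; push_cast; ring

theorem oneB_inv (d : ℕ) : coeff 1 ((rescale (-(d : ℚ)) B)⁻¹) = (d : ℚ) / 2 := by
  have hc : constantCoeff (rescale (-(d : ℚ)) B) = 1 := by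
    rw [← coeff_zero_eq_constantCoeff_apply, coeff_rescale, coeff_zero_eq_constantCoeff_apply, constB]; simp
  have h := congrArg (coeff 1) (PowerSeries.mul_inv_cancel (rescale (-(d : ℚ)) B) (by rw [hc]; exact one_ne_zero))
  rw [coeff_one_mul', constantCoeff_inv, hc, coeff_rescale, oneB] at h
  simp at h
  linarith

theorem bernoulli'_neg {k : ℕ} (hk : k ≠ 0) (he : Even k) : bernoulli' (2 * k) < 0 := by
  have h := hasSum_zeta_nat hk
  have hpos : 0 < (-1 : ℝ) ^ (k + 1) * (2 : ℝ) ^ (2 * k - 1) * Real.pi ^ (2 * k) *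
      bernoulli (2 * k) / ((2 * k).factorial : ℕ) := by
    rw [← h.tsum_eq]
    exact h.summable.tsum_pos (fun n => by positivity) 1 (by norm_num)
  have h1 : (-1 : ℝ) ^ (k + 1) = -1 := by rw [pow_succ, he.neg_one_pow, one_mul]
  rw [h1] at hpos
  have h2 : (bernoulli (2 * k) : ℝ) < 0 := by
    by_contra hcon
    push_neg at hcon
    have : (0 : ℝ) ≤ (2 : ℝ) ^ (2 * k - 1) * Real.pi ^ (2 * k) * bernoulli (2 * k) / ((2 * k).factorial : ℕ) := by positivity
    have : (-1 : ℝ) * (2 : ℝ) ^ (2 * k - 1) * Real.pi ^ (2 * k) * bernoulli (2 * k) / ((2 * k).factorial : ℕ) ≤ 0 := by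
      rw [neg_one_mul, neg_mul, neg_mul, neg_div]; linarith
    linarith
  rw [← bernoulli_eq_bernoulli'_of_ne_one (by omega)]
  exact_mod_cast h2

theorem coeffB_neg {m : ℕ} (hm : m ≠ 0) (h4 : m % 4 = 0) : coeff m B < 0 := by
  obtain ⟨k, rfl⟩ : ∃ k, m = 2 * (2 * k) := ⟨m / 4, by omega⟩
  have := bernoulli'_neg (k := 2 * k) (by omega) (even_two_mul k)
  simp only [bernoulli'PowerSeries, coeff_mk, Algebra.algebraMap_self, RingHom.id_apply]
  exact div_neg_of_neg_of_pos this (by positivity)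

theorem eventually_neg (N m : ℕ) (a : ℕ → ℚ) (hm : m ≠ 0) (hmN : m ≤ N) (hneg : a m < 0)
    (hz : ∀ j, m < j → j ≤ N → a j = 0) :
    ∃ T : ℚ, ∀ t : ℚ, T ≤ t → ∑ j ∈ range (N + 1), a j * t ^ j < 0 := by
  obtain ⟨m, rfl⟩ := Nat.exists_eq_succ_of_ne_zero hm
  let S := ∑ j ∈ range (m + 1), |a j|
  refine ⟨max 1 (S / (-a (m + 1)) + 1), fun t ht => ?_⟩
  have ht1 : 1 ≤ t := le_trans (le_max_left _ _) ht
  have htS : S / (-a (m + 1)) + 1 ≤ t := le_trans (le_max_right _ _) ht
  have hsub : ∑ j ∈ range (N + 1), a j * t ^ j = ∑ j ∈ range (m + 2), a j * t ^ j := by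
    symm
    refine Finset.sum_subset (fun x hx => by simp at hx ⊢; omega) fun j hj hj' => ?_
    simp at hj hj'
    rw [hz j (by omega) (by omega), zero_mul]
  rw [hsub, Finset.sum_range_succ]
  have h1 : ∑ j ∈ range (m + 1), a j * t ^ j ≤ S * t ^ m := by
    rw [Finset.sum_mul]
    refine Finset.sum_le_sum fun j hj => ?_
    simp at hj
    exact (mul_le_mul_of_nonneg_right (le_abs_self _) (by positivity)).trans
      (mul_le_mul_of_nonneg_left (pow_le_pow_right₀ ht1 (by omega)) (abs_nonneg _))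
  have h2 : S + a (m + 1) * t < 0 := by
    have h3 : S < -a (m + 1) * t := by
      have := mul_le_mul_of_nonneg_left htS (neg_nonneg.2 hneg.le)
      rw [mul_add, mul_div_cancel₀ _ (by linarith), mul_one] at this
      linarith
    linarith
  calc _ ≤ (S + a (m + 1) * t) * t ^ m := by rw [add_mul, mul_assoc, ← pow_succ']; linarith
    _ < 0 := mul_neg_of_neg_of_pos h2 (by positivity)


/-- Let n ≥ 2 and d ≥ 1 be natural numbers with n congruent to 0 or 1 modulo 4, and s an integer with 2s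
> n + d + 1. Write B(x) = x/(1 - e^(-x)) for the exponential generating series of the Bernoulli
numbers (B'_1 = 1/2). Then for all sufficiently large natural numbers p the coefficient of x^n in
B(-dx)^(-1) B(-dpx) B(x)^(n+1) e^((dp-d-n-1+s)x) is strictly negative. (The published statement
asserts this for every n ≥ 2 not congruent to 2 modulo 4. For n congruent to 3 modulo 4 the
coefficient is a polynomial in p of degree n - 1 with leading coefficient (2s-d-n-1) B'_(n-1)
d^(n-1)/(2 (n-1)!) > 0, so it is eventually positive: for n = 3, d = 1, s = 3 it equals (p^2 -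
1)/24. The residues 0 and 1 are exactly the ones the leading-term argument gives.) -/
theorem result (n d : ℕ) (s : ℤ) (hn : 2 ≤ n)
    (hmod : n % 4 = 0 ∨ n % 4 = 1) (hd : 1 ≤ d) (hs : (n : ℤ) + d + 1 < 2 * s) :
    ∃ P : ℕ, ∀ p : ℕ, P ≤ p →
      PowerSeries.coeff n ((PowerSeries.rescale (-(d : ℚ)) (bernoulli'PowerSeries ℚ))⁻¹ * PowerSeries.rescale (-((d : ℚ) * p)) (bernoulli'PowerSeries ℚ) * bernoulli'PowerSeries ℚ ^ (n + 1) * PowerSeries.rescale ((d : ℚ) * p - d - n - 1 + s) (PowerSeries.exp ℚ)) < 0 := by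
  let c : ℚ := -(d : ℚ) - n - 1 + s
  let R0 : PowerSeries ℚ := (PowerSeries.rescale (-(d : ℚ)) (bernoulli'PowerSeries ℚ))⁻¹ *
    bernoulli'PowerSeries ℚ ^ (n + 1) * PowerSeries.rescale c (PowerSeries.exp ℚ)
  let a : ℕ → ℚ := fun j => PowerSeries.coeff (n - j) R0 * PowerSeries.coeff j (bernoulli'PowerSeries ℚ)
  have hF : ∀ p : ℕ, PowerSeries.coeff n ((PowerSeries.rescale (-(d : ℚ)) (bernoulli'PowerSeries ℚ))⁻¹ * PowerSeries.rescale (-((d : ℚ) * p)) (bernoulli'PowerSeries ℚ) * bernoulli'PowerSeries ℚ ^ (n + 1) * PowerSeries.rescale ((d : ℚ) * p - d - n - 1 + s) (PowerSeries.exp ℚ))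
      = ∑ j ∈ Finset.range (n + 1), a j * ((d : ℚ) * p) ^ j := by
    intro p
    have h1 := congrArg (PowerSeries.rescale ((d : ℚ) * p)) rescale_neg_mul_exp
    rw [map_mul, PowerSeries.rescale_rescale, neg_one_mul] at h1
    rw [show (d : ℚ) * p - d - n - 1 + s = (d : ℚ) * p + c by simp only [c]; ring, ← PowerSeries.exp_mul_exp_eq_exp_add]
    rw [show ∀ (i r b e f : PowerSeries ℚ), i * r * b * (e * f) = (r * e) * (i * b * f) from fun i r b e f => by ring, h1]
    rw [PowerSeries.coeff_mul, Finset.Nat.sum_antidiagonal_eq_sum_range_succ_mk]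
    refine Finset.sum_congr rfl fun j _ => ?_
    simp only [a, R0, PowerSeries.coeff_rescale]
    ring
  have hconst : PowerSeries.constantCoeff R0 = 1 := by
    simp only [R0, map_mul, map_pow, PowerSeries.constantCoeff_inv]
    rw [← PowerSeries.coeff_zero_eq_constantCoeff_apply (PowerSeries.rescale _ _), PowerSeries.coeff_rescale,
      ← PowerSeries.coeff_zero_eq_constantCoeff_apply (PowerSeries.rescale c _), PowerSeries.coeff_rescale]
    simp [constB]
  have hone : 0 < PowerSeries.coeff 1 R0 := by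
    have e : PowerSeries.coeff 1 R0 = (d : ℚ) / 2 + ((n + 1 : ℕ) : ℚ) / 2 + c := by
      simp only [R0]
      rw [coeff_one_mul', coeff_one_mul', oneB_inv, oneB_pow, map_mul, map_pow, constB,
        PowerSeries.constantCoeff_inv, ← PowerSeries.coeff_zero_eq_constantCoeff_apply (PowerSeries.rescale _ _), PowerSeries.coeff_rescale,
        ← PowerSeries.coeff_zero_eq_constantCoeff_apply (PowerSeries.rescale c _), PowerSeries.coeff_rescale, PowerSeries.coeff_rescale]
      simp [constB]
    rw [e]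
    have hs' : (n : ℚ) + d + 1 < 2 * s := by exact_mod_cast hs
    push_cast; simp only [c]; linarith
  obtain ⟨T, hT⟩ : ∃ T : ℚ, ∀ t : ℚ, T ≤ t → ∑ j ∈ Finset.range (n + 1), a j * t ^ j < 0 := by
    rcases hmod with h4 | h4
    · refine eventually_neg n n a (by omega) le_rfl ?_ (by omega)
      simp only [a, Nat.sub_self, PowerSeries.coeff_zero_eq_constantCoeff_apply, hconst, one_mul]
      exact coeffB_neg (by omega) h4
    · refine eventually_neg n (n - 1) a (by omega) (by omega) ?_ ?_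
      · simp only [a, show n - (n - 1) = 1 by omega]
        exact mul_neg_of_pos_of_neg hone (coeffB_neg (by omega) (by omega))
      · intro j hj hjn
        obtain rfl : j = n := by omega
        simp only [a, bernoulli'PowerSeries, PowerSeries.coeff_mk]
        rw [bernoulli'_eq_zero_of_odd (Nat.odd_iff.2 (by omega)) (by omega)]
        simp
  obtain ⟨P, hP⟩ := exists_nat_ge T
  refine ⟨P, fun p hp => ?_⟩
  rw [hF p]
  refine hT _ (hP.trans ?_)
  have h1 : (P : ℚ) ≤ p := by exact_mod_cast hp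
  have h2 : (1 : ℚ) ≤ d := by exact_mod_cast hd
  nlinarith [Nat.cast_nonneg (α := ℚ) p]

end Groth.Agent.S17714
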