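import Groth.Statements.S17715
import Mathlib.NumberTheory.Bernoulli
import Mathlib.RingTheory.PowerSeries.Inverse
import Mathlib.RingTheory.PowerSeries.Exp
import Mathlib.Tactic.LinearCombination
import Mathlib.Tactic.NormNum
-- import your own Groth.Agent.* helpers here

set_option autoImplicit false
open MoretBailly

namespace Groth.Agent.S17715

/-- Write B(x) = x/(1 - e^(-x)) for the exponential generating series of the Bernoulli numbers (B'_1 =
1/2). For all natural numbers d and p the coefficient of x^3 in B(-dx)^(-1) B(-dpx) B(x)^4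
e^((dp-d-3)x), i.e. the case n = 3, s = 1 of the Todd-class integrand, equals
-d(d+2)(p-1)(dp-d-2)/24 = -(d^3+2d^2) p^2/24 + (d^3+3d^2+2d) p/12 - (d^3+4d^2+4d)/24. (The published
closed form has the same p^2 and p coefficients but constant term -(d^3+2d^2+2d)/24; direct
expansion gives the value stated here, which vanishes at p = 1.) -/
theorem result (d p : ℕ) :
    PowerSeries.coeff 3 ((PowerSeries.rescale (-(d : ℚ)) (bernoulli'PowerSeries ℚ))⁻¹ * PowerSeries.rescale (-((d : ℚ) * p)) (bernoulli'PowerSeries ℚ) * bernoulli'PowerSeries ℚ ^ (4) * PowerSeries.rescale ((d : ℚ) * p - d - 3) (PowerSeries.exp ℚ)) =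
      -((d : ℚ) * (d + 2) * (p - 1) * (d * p - d - 2)) / 24 := by
  set R := PowerSeries.rescale (-(d : ℚ)) (bernoulli'PowerSeries ℚ) with hR
  have b : ∀ n, PowerSeries.coeff n (bernoulli'PowerSeries ℚ) = bernoulli' n / n.factorial := fun n => by
    simp [bernoulli'PowerSeries, PowerSeries.coeff_mk]
  have b0 : PowerSeries.coeff 0 (bernoulli'PowerSeries ℚ) = 1 := by rw [b, bernoulli'_zero]; norm_num
  have b1 : PowerSeries.coeff 1 (bernoulli'PowerSeries ℚ) = 1 / 2 := by rw [b, bernoulli'_one]; norm_num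
  have b2 : PowerSeries.coeff 2 (bernoulli'PowerSeries ℚ) = 1 / 12 := by rw [b, bernoulli'_two]; norm_num [Nat.factorial]
  have b3 : PowerSeries.coeff 3 (bernoulli'PowerSeries ℚ) = 0 := by rw [b, bernoulli'_three]; norm_num
  have hR0 : PowerSeries.constantCoeff R ≠ 0 := by
    rw [← PowerSeries.coeff_zero_eq_constantCoeff_apply, hR, PowerSeries.coeff_rescale, b0]; norm_num
  have hinv := PowerSeries.mul_inv_cancel R hR0
  have h0 := congrArg (PowerSeries.coeff 0) hinv
  have h1 := congrArg (PowerSeries.coeff 1) hinv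
  have h2 := congrArg (PowerSeries.coeff 2) hinv
  have h3 := congrArg (PowerSeries.coeff 3) hinv
  simp only [PowerSeries.coeff_mul, Finset.Nat.sum_antidiagonal_succ, Finset.Nat.antidiagonal_zero, Finset.sum_singleton,
    PowerSeries.coeff_one, hR, PowerSeries.coeff_rescale, b0, b1, b2, b3, pow_zero, pow_one, zero_add, Nat.reduceAdd,
    one_mul, mul_one, if_true, Nat.succ_ne_zero, if_false] at h0 h1 h2 h3
  norm_num at h0 h1 h2 h3
  rw [← hR] at h0 h1 h2 h3
  have i0 : PowerSeries.coeff 0 R⁻¹ = 1 := by rw [PowerSeries.coeff_zero_eq_constantCoeff_apply, PowerSeries.constantCoeff_inv, ← PowerSeries.coeff_zero_eq_constantCoeff_apply, hR, PowerSeries.coeff_rescale, b0]; norm_num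
  have c0 : PowerSeries.constantCoeff R = 1 := by
    rw [← PowerSeries.coeff_zero_eq_constantCoeff_apply, hR, PowerSeries.coeff_rescale, b0]; norm_num
  simp only [c0, inv_one, one_mul, mul_one, PowerSeries.coeff_zero_eq_constantCoeff_apply, PowerSeries.constantCoeff_inv] at h1 h2 h3
  have i1 : PowerSeries.coeff 1 R⁻¹ = (d : ℚ) / 2 := by
    linear_combination h1
  have i2 : PowerSeries.coeff 2 R⁻¹ = (d : ℚ) ^ 2 / 6 := by
    simp only [i1] at h2
    linear_combination h2
  have i3 : PowerSeries.coeff 3 R⁻¹ = (d : ℚ) ^ 3 / 24 := by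
    simp only [i1, i2] at h3
    linear_combination h3
  rw [show bernoulli'PowerSeries ℚ ^ 4 = bernoulli'PowerSeries ℚ * bernoulli'PowerSeries ℚ * (bernoulli'PowerSeries ℚ * bernoulli'PowerSeries ℚ) by ring]
  simp only [PowerSeries.coeff_mul, Finset.Nat.sum_antidiagonal_succ, Finset.Nat.antidiagonal_zero, Finset.sum_singleton,
    PowerSeries.coeff_rescale, PowerSeries.coeff_exp, b0, b1, b2, b3, i0, i1, i2, i3, Nat.reduceAdd, zero_add]
  norm_num [Nat.factorial]
  ring

end Groth.Agent.S17715
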