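import Groth.Statements.S17716
import Mathlib


-- import your own Groth.Agent.* helpers here

set_option autoImplicit false
open MoretBailly

namespace Groth.Agent.S17716

/-- Write B(x) = x/(1 - e^(-x)) for the exponential generating series of the Bernoulli numbers (B'_1 =
1/2). For natural numbers d ≥ 1 and p ≥ 4 the coefficient of x^3 in B(-dx)^(-1) B(-dpx) B(x)^4
e^((dp-d-3)x) (the case n = 3, s = 1 of the Todd-class integrand) is strictly negative. The
published argument needs only primes p ≥ 7; this row covers every natural p ≥ 4. -/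
theorem result (d p : ℕ) (hd : 1 ≤ d) (hp : 4 ≤ p) :
    PowerSeries.coeff 3 ((PowerSeries.rescale (-(d : ℚ)) (bernoulli'PowerSeries ℚ))⁻¹ * PowerSeries.rescale (-((d : ℚ) * p)) (bernoulli'PowerSeries ℚ) * bernoulli'PowerSeries ℚ ^ (4) * PowerSeries.rescale ((d : ℚ) * p - d - 3) (PowerSeries.exp ℚ)) < 0 := by
  set a : ℚ := (d : ℚ) - 1 with ha
  set b : ℚ := (p : ℚ) - 4 with hb
  have ha0 : 0 ≤ a := by rw [ha]; simp [hd]
  have hb0 : 0 ≤ b := by rw [hb]; simp [hp]
  have hd' : (d : ℚ) = a + 1 := by rw [ha]; ring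
  have hp' : (p : ℚ) = b + 4 := by rw [hb]; ring
  have hm : ∀ f g : PowerSeries ℚ,
      PowerSeries.constantCoeff (f * g) = PowerSeries.constantCoeff f * PowerSeries.constantCoeff g ∧
      PowerSeries.coeff 1 (f * g) = PowerSeries.constantCoeff f * PowerSeries.coeff 1 g + PowerSeries.coeff 1 f * PowerSeries.constantCoeff g ∧
      PowerSeries.coeff 2 (f * g) = PowerSeries.constantCoeff f * PowerSeries.coeff 2 g + PowerSeries.coeff 1 f * PowerSeries.coeff 1 g + PowerSeries.coeff 2 f * PowerSeries.constantCoeff g ∧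
      PowerSeries.coeff 3 (f * g) = PowerSeries.constantCoeff f * PowerSeries.coeff 3 g + PowerSeries.coeff 1 f * PowerSeries.coeff 2 g + PowerSeries.coeff 2 f * PowerSeries.coeff 1 g + PowerSeries.coeff 3 f * PowerSeries.constantCoeff g := by
    intro f g
    refine ⟨map_mul _ f g, ?_, ?_, ?_⟩ <;>
    simp [PowerSeries.coeff_mul, Finset.Nat.sum_antidiagonal_eq_sum_range_succ_mk, Finset.sum_range_succ, PowerSeries.coeff_zero_eq_constantCoeff]
  set B := bernoulli'PowerSeries ℚ with hB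
  have hB0 : PowerSeries.constantCoeff B = 1 := by simp [hB, bernoulli'PowerSeries]
  have hB1 : PowerSeries.coeff 1 B = 1 / 2 := by simp [hB, bernoulli'PowerSeries]
  have hB2 : PowerSeries.coeff 2 B = 1 / 12 := by simp [hB, bernoulli'PowerSeries]; norm_num
  have hB3 : PowerSeries.coeff 3 B = 0 := by simp [hB, bernoulli'PowerSeries]
  have hr : ∀ (s : ℚ) (f : PowerSeries ℚ), PowerSeries.constantCoeff (PowerSeries.rescale s f) = PowerSeries.constantCoeff f := fun s f => by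
    rw [← PowerSeries.coeff_zero_eq_constantCoeff_apply, ← PowerSeries.coeff_zero_eq_constantCoeff_apply, PowerSeries.coeff_rescale, pow_zero, one_mul]
  set W := (PowerSeries.rescale (-(d : ℚ)) B)⁻¹ with hW
  have hWu : W * PowerSeries.rescale (-(d : ℚ)) B = 1 := PowerSeries.inv_mul_cancel _ (by rw [hr, hB0]; exact one_ne_zero)
  obtain ⟨w0, w1, w2, w3⟩ := hm W (PowerSeries.rescale (-(d : ℚ)) B)
  rw [hWu] at w0 w1 w2 w3
  simp only [map_one, PowerSeries.coeff_one, hr, hB0, hB1, hB2, hB3, PowerSeries.coeff_rescale, mul_one, one_ne_zero, OfNat.ofNat_ne_zero, if_false, mul_zero, zero_add] at w0 w1 w2 w3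
  have e0 : PowerSeries.constantCoeff W = 1 := w0.symm
  simp only [e0] at w1 w2 w3
  have e1 : PowerSeries.coeff 1 W = (d : ℚ) / 2 := by linear_combination -w1
  simp only [e1] at w2 w3
  have e2 : PowerSeries.coeff 2 W = (d : ℚ) ^ 2 / 6 := by linear_combination -w2
  simp only [e2] at w3
  have e3 : PowerSeries.coeff 3 W = (d : ℚ) ^ 3 / 24 := by linear_combination -w3
  rw [show B ^ 4 = (B * B) * (B * B) by ring]
  obtain ⟨f0, f1, f2, f3⟩ := hm B B
  obtain ⟨g0, g1, g2, g3⟩ := hm (B * B) (B * B)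
  obtain ⟨h0, h1, h2, h3⟩ := hm W (PowerSeries.rescale (-((d : ℚ) * p)) B)
  obtain ⟨i0, i1, i2, i3⟩ := hm (W * PowerSeries.rescale (-((d : ℚ) * p)) B) (B * B * (B * B))
  rw [(hm _ _).2.2.2, i0, i1, i2, i3, h0, h1, h2, h3, g0, g1, g2, g3, f0, f1, f2, f3]
  simp only [hr, hB0, hB1, hB2, hB3, e0, e1, e2, e3, PowerSeries.coeff_rescale, PowerSeries.coeff_exp, PowerSeries.constantCoeff_exp]
  norm_num [Nat.factorial]
  rw [hd', hp']
  refine lt_of_eq_of_lt (b := -((3/8 : ℚ) * a ^ 0 * b ^ 0 + (1/2 : ℚ) * a ^ 0 * b ^ 1 + (1/8 : ℚ) * a ^ 0 * b ^ 2 + (13/8 : ℚ) * a ^ 1 * b ^ 0 + (17/12 : ℚ) * a ^ 1 * b ^ 1 + (7/24 : ℚ) * a ^ 1 * b ^ 2 + (13/8 : ℚ) * a ^ 2 * b ^ 0 + (7/6 : ℚ) * a ^ 2 * b ^ 1 + (5/24 : ℚ) * a ^ 2 * b ^ 2 + (3/8 : ℚ) * a ^ 3 * b ^ 0 + (1/4 : ℚ) * a ^ 3 * b ^ 1 + (1/24 : ℚ) * a ^ 3 * b ^ 2)) ?_ (neg_neg_of_pos (by positivity))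
  ring

end Groth.Agent.S17716
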