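import Groth.Statements.S17717
import Mathlib
-- import your own Groth.Agent.* helpers here

set_option autoImplicit false
open MoretBailly

namespace Groth.Agent.S17717

/-- Write B(x) = x/(1 - e^(-x)) for the exponential generating series of the Bernoulli numbers (B'_1 =
1/2). For all natural numbers d, p and every integer s the coefficient of x in B(-dx)^(-1) B(-dpx)
B(x)^2 e^((dp-d-2+s)x), i.e. the case n = 1 of the Todd-class integrand, equals d(p-1)/2 + s - 1. -/
theorem result (d p : ℕ) (s : ℤ) :
    PowerSeries.coeff 1 ((PowerSeries.rescale (-(d : ℚ)) (bernoulli'PowerSeries ℚ))⁻¹ * PowerSeries.rescale (-((d : ℚ) * p)) (bernoulli'PowerSeries ℚ) * bernoulli'PowerSeries ℚ ^ (2) * PowerSeries.rescale ((d : ℚ) * p - d - 2 + s) (PowerSeries.exp ℚ)) =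
      (d : ℚ) * (p - 1) / 2 + s - 1 := by
  have h0 : PowerSeries.constantCoeff (bernoulli'PowerSeries ℚ) = 1 := by
    simp [← PowerSeries.coeff_zero_eq_constantCoeff, bernoulli'PowerSeries]
  have h1 : PowerSeries.coeff 1 (bernoulli'PowerSeries ℚ) = 1 / 2 := by
    simp [bernoulli'PowerSeries, bernoulli'_one]
  have hr0 : ∀ (a : ℚ) (F : PowerSeries ℚ), PowerSeries.constantCoeff (PowerSeries.rescale a F) =
      PowerSeries.constantCoeff F := fun a F => by
    rw [← PowerSeries.coeff_zero_eq_constantCoeff, PowerSeries.coeff_rescale]; simp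
  have hinv : PowerSeries.coeff 1 (PowerSeries.rescale (-(d : ℚ)) (bernoulli'PowerSeries ℚ))⁻¹ = (d : ℚ) / 2 := by
    have hne : PowerSeries.constantCoeff (PowerSeries.rescale (-(d : ℚ)) (bernoulli'PowerSeries ℚ)) ≠ 0 := by
      rw [hr0, h0]; norm_num
    have h := congrArg (PowerSeries.coeff 1) (PowerSeries.mul_inv_cancel _ hne)
    rw [PowerSeries.coeff_one_mul, PowerSeries.constantCoeff_inv, hr0, h0,
      PowerSeries.coeff_rescale, h1] at h
    simp at h
    linarith
  simp only [PowerSeries.coeff_one_mul, map_mul, map_pow, PowerSeries.constantCoeff_inv, hr0, h0,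
    PowerSeries.coeff_rescale, h1, hinv, PowerSeries.constantCoeff_exp, PowerSeries.coeff_exp, pow_two]
  simp
  ring

end Groth.Agent.S17717
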