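import Groth.Statements.S17718
import Mathlib
-- import your own Groth.Agent.* helpers here

set_option autoImplicit false
open MoretBailly

namespace Groth.Agent.S17718

/-- Let n ≥ 2 and d ≥ 1 be natural numbers with n not congruent to 2 modulo 4, and write B(x) = x/(1 -
e^(-x)) for the exponential generating series of the Bernoulli numbers (B'_1 = 1/2). Then there is
an integer s ≥ 1 such that for all sufficiently large natural numbers p the coefficient of x^n in
B(-dx)^(-1) B(-dpx) B(x)^(n+1) e^((dp-d-n-1+s)x) is strictly negative. (The published argument fixes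
any s with 2s > n + d + 1, which gives the sign only for n congruent to 0 or 1 modulo 4; for n
congruent to 3 modulo 4 the choice s = 1 makes the leading coefficient (2s-d-n-1) B'_(n-1)
d^(n-1)/(2 (n-1)!) negative instead.) -/
theorem result (n d : ℕ) (hn : 2 ≤ n)
    (hmod : n % 4 ≠ 2) (hd : 1 ≤ d) :
    ∃ s : ℤ, 1 ≤ s ∧ ∃ P : ℕ, ∀ p : ℕ, P ≤ p →
      PowerSeries.coeff n ((PowerSeries.rescale (-(d : ℚ)) (bernoulli'PowerSeries ℚ))⁻¹ * PowerSeries.rescale (-((d : ℚ) * p)) (bernoulli'PowerSeries ℚ) * bernoulli'PowerSeries ℚ ^ (n + 1) * PowerSeries.rescale ((d : ℚ) * p - d - n - 1 + s) (PowerSeries.exp ℚ)) < 0 := by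
  have sign : ∀ k : ℕ, k ≠ 0 → 0 < (-1 : ℚ) ^ (k + 1) * bernoulli' (2 * k) := fun k hk => by
    have h := hasSum_zeta_nat hk
    have hpos : (0 : ℝ) < ∑' m : ℕ, 1 / (m : ℝ) ^ (2 * k) :=
      h.summable.tsum_pos (fun m => by positivity) 1 (by simp)
    rw [h.tsum_eq] at hpos
    have h' : (0 : ℝ) < ((-1 : ℝ) ^ (k + 1) * (bernoulli (2 * k) : ℝ)) *
        ((2 : ℝ) ^ (2 * k - 1) * Real.pi ^ (2 * k) / ((2 * k).factorial : ℝ)) := by
      refine lt_of_lt_of_eq hpos ?_
      ring
    have h2 := pos_of_mul_pos_left h' (by positivity)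
    rw [bernoulli'_eq_bernoulli, pow_mul]
    simp only [neg_one_sq, one_pow, one_mul]
    exact_mod_cast h2
  set B := bernoulli'PowerSeries ℚ with hB
  have hBc : ∀ i, PowerSeries.coeff i B = bernoulli' i / (i.factorial : ℚ) := fun i => by
    simp [hB, bernoulli'PowerSeries]
  have hne : PowerSeries.exp ℚ - 1 ≠ 0 := fun h => by
    have := congrArg (PowerSeries.coeff 1) h
    simp [PowerSeries.coeff_one] at this
  have hrefl : PowerSeries.evalNegHom B * PowerSeries.exp ℚ = B := by
    refine mul_right_cancel₀ hne ?_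
    have h := congrArg PowerSeries.evalNegHom (bernoulli'PowerSeries_mul_exp_sub_one ℚ)
    simp only [map_mul, map_sub, map_one, PowerSeries.evalNegHom_X] at h
    rw [← hB] at h
    have he := PowerSeries.exp_mul_exp_neg_eq_one (A := ℚ)
    have h1 := bernoulli'PowerSeries_mul_exp_sub_one ℚ
    rw [← hB] at h1
    rw [h1]
    linear_combination (-(PowerSeries.exp ℚ) ^ 2) * h +
      ((PowerSeries.evalNegHom B) * PowerSeries.exp ℚ + PowerSeries.X * PowerSeries.exp ℚ) * he
  let s : ℤ := if n % 4 = 3 then 1 else n + d + 1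
  refine ⟨s, by dsimp only [s]; split_ifs <;> omega, ?_⟩
  set c : ℚ := (s : ℚ) - d - n - 1 with hc
  set F := (PowerSeries.rescale (-(d : ℚ)) B)⁻¹ * B ^ (n + 1) * PowerSeries.rescale c (PowerSeries.exp ℚ)
    with hF
  let a : ℕ → ℚ := fun i => (d : ℚ) ^ i * (bernoulli' i / (i.factorial : ℚ)) * PowerSeries.coeff (n - i) F
  have hcoeff : ∀ p : ℕ, PowerSeries.coeff n ((PowerSeries.rescale (-(d : ℚ)) B)⁻¹ *
      PowerSeries.rescale (-((d : ℚ) * p)) B * B ^ (n + 1) *
      PowerSeries.rescale ((d : ℚ) * p - d - n - 1 + s) (PowerSeries.exp ℚ)) =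
        ∑ i ∈ Finset.range (n + 1), a i * (p : ℚ) ^ i := fun p => by
    have h1 : PowerSeries.rescale (-((d : ℚ) * p)) B * PowerSeries.rescale ((d : ℚ) * p) (PowerSeries.exp ℚ) =
        PowerSeries.rescale ((d : ℚ) * p) B := by
      conv_rhs => rw [← hrefl, map_mul]
      congr 1
      rw [PowerSeries.evalNegHom, PowerSeries.rescale_rescale]
      simp
    have h2 : PowerSeries.rescale ((d : ℚ) * p - d - n - 1 + s) (PowerSeries.exp ℚ) =
        PowerSeries.rescale ((d : ℚ) * p) (PowerSeries.exp ℚ) * PowerSeries.rescale c (PowerSeries.exp ℚ) := by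
      rw [PowerSeries.exp_mul_exp_eq_exp_add]; congr 2; rw [hc]; ring
    rw [h2, show ∀ u v w x y : PowerSeries ℚ, u * v * w * (x * y) = (v * x) * (u * w * y) from
      fun u v w x y => by ring, h1, ← hF, PowerSeries.coeff_mul,
      Finset.Nat.sum_antidiagonal_eq_sum_range_succ
        (fun i j => PowerSeries.coeff i (PowerSeries.rescale ((d : ℚ) * p) B) * PowerSeries.coeff j F)]
    refine Finset.sum_congr rfl fun i _ => ?_
    simp only [PowerSeries.coeff_rescale, hBc, a, mul_pow]
    ring
  have hF0 : PowerSeries.coeff 0 F = 1 := by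
    have h0 : ∀ a : ℚ, PowerSeries.constantCoeff (PowerSeries.rescale a B) = 1 := fun a => by
      rw [← PowerSeries.coeff_zero_eq_constantCoeff_apply, PowerSeries.coeff_rescale, hBc]; simp
    have h1 : PowerSeries.constantCoeff B = 1 := by
      rw [← PowerSeries.coeff_zero_eq_constantCoeff_apply, hBc]; simp
    have h2 : PowerSeries.constantCoeff (PowerSeries.rescale c (PowerSeries.exp ℚ)) = 1 := by
      rw [← PowerSeries.coeff_zero_eq_constantCoeff_apply, PowerSeries.coeff_rescale]; simp
    rw [PowerSeries.coeff_zero_eq_constantCoeff_apply, hF, map_mul, map_mul, map_pow,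
      PowerSeries.constantCoeff_inv, h0, h1, h2]
    simp
  have hF1 : PowerSeries.coeff 1 F = (s : ℚ) - (d + n + 1) / 2 := by
    have hB0 : PowerSeries.constantCoeff B = 1 := by
      rw [← PowerSeries.coeff_zero_eq_constantCoeff_apply, hBc]; simp
    have hR : PowerSeries.constantCoeff (PowerSeries.rescale (-(d : ℚ)) B) = 1 := by
      rw [← PowerSeries.coeff_zero_eq_constantCoeff_apply, PowerSeries.coeff_rescale, hBc]; simp
    have hmul : ∀ f g : PowerSeries ℚ, PowerSeries.coeff 1 (f * g) =
        PowerSeries.constantCoeff f * PowerSeries.coeff 1 g + PowerSeries.coeff 1 f * PowerSeries.constantCoeff g :=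
      fun f g => by simp [PowerSeries.coeff_mul, Finset.Nat.antidiagonal_succ]
    have hinv : PowerSeries.coeff 1 (PowerSeries.rescale (-(d : ℚ)) B)⁻¹ = (d : ℚ) / 2 := by
      have h := congrArg (PowerSeries.coeff 1) (PowerSeries.mul_inv_cancel (PowerSeries.rescale (-(d : ℚ)) B)
        (by rw [hR]; exact one_ne_zero))
      rw [hmul, hR, PowerSeries.constantCoeff_inv, hR, PowerSeries.coeff_rescale, hBc] at h
      simp at h
      linarith
    have hpow : ∀ m : ℕ, PowerSeries.coeff 1 (B ^ m) = (m : ℚ) / 2 := fun m => by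
      induction m with
      | zero => simp [PowerSeries.coeff_one]
      | succ m ih =>
        rw [pow_succ, hmul, ih, map_pow, hB0, hBc]
        simp
        ring
    rw [hF, hmul, hmul, hinv, hpow, map_mul, map_pow, PowerSeries.constantCoeff_inv, hR, hB0,
      PowerSeries.coeff_rescale, ← PowerSeries.coeff_zero_eq_constantCoeff_apply (φ := PowerSeries.rescale c _),
      PowerSeries.coeff_rescale]
    simp [hc]
    ring
  obtain ⟨t, ht, hat, hzero⟩ : ∃ t, t + 1 ≤ n ∧ a (t + 1) < 0 ∧ ∀ i, t + 1 < i → i ≤ n → a i = 0 := by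
    have hd0 : (0 : ℚ) < d := by exact_mod_cast hd
    rcases Nat.even_or_odd n with ⟨k, hk⟩ | ⟨k, hk⟩
    · obtain ⟨e, he⟩ : Even k := Nat.even_iff.2 (by omega)
      refine ⟨n - 1, by omega, ?_, fun i h1 h2 => absurd h2 (by omega)⟩
      have h := sign k (by omega)
      rw [Odd.neg_one_pow ⟨e, by omega⟩, show 2 * k = n by omega] at h
      simp only [a, show n - 1 + 1 = n by omega, Nat.sub_self, hF0, mul_one]
      exact mul_neg_of_pos_of_neg (by positivity) (div_neg_of_neg_of_pos (by linarith) (by positivity))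
    · refine ⟨n - 2, by omega, ?_, fun i h1 h2 => ?_⟩
      · simp only [a, show n - 2 + 1 = n - 1 by omega, show n - (n - 1) = 1 by omega, hF1]
        have h := sign k (by omega)
        rw [show 2 * k = n - 1 by omega] at h
        by_cases h3 : n % 4 = 3
        · rw [Even.neg_one_pow (Nat.even_iff.2 (by omega)), one_mul] at h
          refine mul_neg_of_pos_of_neg (mul_pos (by positivity) (div_pos h (by positivity))) ?_
          have : (2 : ℚ) < d + n + 1 := by
            have : (2 : ℚ) ≤ n := by exact_mod_cast hn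
            linarith
          simp only [s, if_pos h3]
          push_cast
          linarith
        · rw [Odd.neg_one_pow (Nat.odd_iff.2 (by omega))] at h
          refine mul_neg_of_neg_of_pos (mul_neg_of_pos_of_neg (by positivity)
            (div_neg_of_neg_of_pos (by linarith) (by positivity))) ?_
          simp only [s, if_neg h3]
          push_cast
          linarith [(Nat.cast_nonneg n : (0 : ℚ) ≤ n)]
      · obtain rfl : i = n := by omega
        simp only [a, bernoulli'_eq_zero_of_odd ⟨k, hk⟩ (by omega : 1 < i), zero_div, mul_zero, zero_mul]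
  let S : ℚ := ∑ i ∈ Finset.range (n + 1), |a i|
  obtain ⟨P, hP⟩ := exists_nat_gt (S / -a (t + 1))
  refine ⟨max P 1, fun p hp => ?_⟩
  rw [hcoeff]
  have hp1 : (1 : ℚ) ≤ p := by exact_mod_cast le_trans (le_max_right P 1) hp
  have hpP : S / -a (t + 1) < p := hP.trans_le (by exact_mod_cast le_trans (le_max_left P 1) hp)
  have hmem : t + 1 ∈ Finset.range (n + 1) := Finset.mem_range.2 (by omega)
  rw [← Finset.add_sum_erase _ _ hmem]
  have hle : ∑ i ∈ (Finset.range (n + 1)).erase (t + 1), a i * (p : ℚ) ^ i ≤ S * (p : ℚ) ^ t := by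
    rw [Finset.sum_mul]
    refine (Finset.sum_le_sum fun i hi => ?_).trans
      (Finset.sum_le_sum_of_subset_of_nonneg (Finset.erase_subset _ _) fun i _ _ => by positivity)
    obtain ⟨hne', hi'⟩ := Finset.mem_erase.1 hi
    rcases lt_or_gt_of_ne hne' with hlt | hgt
    · exact mul_le_mul (le_abs_self _) (pow_le_pow_right₀ hp1 (by omega)) (by positivity) (abs_nonneg _)
    · rw [hzero i hgt (by have := Finset.mem_range.1 hi'; omega)]
      simp
  have hlt : a (t + 1) * (p : ℚ) + S < 0 := by
    rw [div_lt_iff₀ (by linarith)] at hpP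
    linarith
  calc _ ≤ a (t + 1) * (p : ℚ) ^ (t + 1) + S * (p : ℚ) ^ t := by linarith
    _ = (a (t + 1) * p + S) * (p : ℚ) ^ t := by ring
    _ < 0 := mul_neg_of_neg_of_pos hlt (by positivity)

end Groth.Agent.S17718
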