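import Groth.Statements.S17719
import Groth.Agent.NodeFactLib.Main
import Groth.Agent.RegUFDLib.Basic
import Groth.Agent.CommAlgDim.Regular

set_option autoImplicit false
universe u
open scoped TensorProduct
open CAlg

namespace Groth.Agent.S17719

open MvPowerSeries in
/-- negative exponents do not occur -/
theorem cancel_aux {R : Type u} [CommRing R] [IsDomain R] [UniqueFactorizationMonoid R] (r : R) (hr : r ≠ 0) :
    ∀ (l : ℕ) (s : R) (z : NodeFactLib.Nd r), z * NodeFactLib.cc r (r ^ l) = NodeFactLib.cc r s * NodeFactLib.xv r 1 ^ l →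
      ∃ s', z = NodeFactLib.cc r s' * NodeFactLib.xv r 1 ^ l := by
  intro l
  induction l with
  | zero => intro s z h; exact ⟨s, by simpa using h⟩
  | succ l ih =>
    intro s z h
    have h0 := congrArg (NodeFactLib.br r r dvd_rfl 1) h
    rw [map_mul, map_mul, map_pow, map_pow, map_pow, NodeFactLib.br_cc_self, zero_pow (Nat.succ_ne_zero l),
      mul_zero, NodeFactLib.br_cc, NodeFactLib.br_xv_self] at h0
    have h1 := congrArg (PowerSeries.coeff (l + 1)) h0
    rw [map_zero, PowerSeries.coeff_C_mul, PowerSeries.coeff_X_pow_self, mul_one, eq_comm,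
      Ideal.Quotient.eq_zero_iff_mem, Ideal.mem_span_singleton] at h1
    obtain ⟨s₁, rfl⟩ := h1
    have h3 : z * NodeFactLib.cc r (r ^ l) = NodeFactLib.cc r s₁ * NodeFactLib.xv r 1 ^ l * NodeFactLib.xv r 1 :=
      sub_eq_zero.1 (NodeFactLib.cc_regular r r hr _ (by
        simp only [map_mul, map_pow, pow_succ] at h ⊢
        linear_combination h))
    have h4 : (NodeFactLib.xv r 0 * z) * NodeFactLib.cc r (r ^ l) = NodeFactLib.cc r (s₁ * r) * NodeFactLib.xv r 1 ^ l := by
      rw [mul_assoc, h3, map_mul, ← NodeFactLib.xv_mul]; ring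
    obtain ⟨s', hs'⟩ := ih (s₁ * r) (NodeFactLib.xv r 0 * z) h4
    have h5 := congrArg (NodeFactLib.br r r dvd_rfl 1) hs'
    rw [map_mul, map_mul, map_pow, NodeFactLib.br_xv_ne r r dvd_rfl (show (1 : Fin 2) ≠ 0 by decide), zero_mul,
      NodeFactLib.br_cc, NodeFactLib.br_xv_self] at h5
    have h6 := congrArg (PowerSeries.coeff l) h5
    rw [map_zero, PowerSeries.coeff_C_mul, PowerSeries.coeff_X_pow_self, mul_one, eq_comm,
      Ideal.Quotient.eq_zero_iff_mem, Ideal.mem_span_singleton] at h6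
    obtain ⟨s₃, rfl⟩ := h6
    refine ⟨s₃, sub_eq_zero.1 (NodeFactLib.xv_regular r hr 0 _ ?_)⟩
    rw [mul_sub, hs', map_mul, ← NodeFactLib.xv_mul]
    ring

open MvPowerSeries in
/-- Let R be a regular local ring, complete for its maximal ideal, with fraction field K; let r be a
non-zero element of R and A the quotient of the power series ring in two variables x, y over R by
the ideal generated by xy − r. If an element a of A maps to a unit of A ⊗_R K, then there are an
element s of R, natural numbers m and n with mn = 0 and a unit u of A with a = s xⁿ yᵐ u. -/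
theorem result
    (R : Type u) [CommRing R] [IsRegularLocalRing R]
    [IsAdicComplete (IsLocalRing.maximalIdeal R) R]
    (r : R) (hr : r ≠ 0)
    (a : (MvPowerSeries (Fin 2) R ⧸ Ideal.span {(X 0 * X 1 - C r : MvPowerSeries (Fin 2) R)}))
    (ha : IsUnit (a ⊗ₜ[R] (1 : FractionRing R) :
      (MvPowerSeries (Fin 2) R ⧸ Ideal.span {(X 0 * X 1 - C r : MvPowerSeries (Fin 2) R)}) ⊗[R] FractionRing R)) :
    ∃ (s : R) (m n : ℕ) (u : (MvPowerSeries (Fin 2) R ⧸ Ideal.span {(X 0 * X 1 - C r : MvPowerSeries (Fin 2) R)})ˣ),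
      m * n = 0 ∧ a = Ideal.Quotient.mk _ (C s * X 0 ^ n * X 1 ^ m) * (u : (MvPowerSeries (Fin 2) R ⧸ Ideal.span {(X 0 * X 1 - C r : MvPowerSeries (Fin 2) R)})) := by
  haveI : IsDomain R := CommAlgDim.isDomain_of_isRegularLocalRing R
  haveI : UniqueFactorizationMonoid R := RegUFDLib.uniqueFactorizationMonoid R
  by_cases hru : IsUnit r
  · have hsub : Subsingleton (MvPowerSeries (Fin 2) R ⧸ Ideal.span {(X 0 * X 1 - C r : MvPowerSeries (Fin 2) R)}) := by
      rw [Ideal.Quotient.subsingleton_iff, Ideal.span_singleton_eq_top, MvPowerSeries.isUnit_iff_constantCoeff]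
      simpa using hru
    exact ⟨1, 0, 0, 1, rfl, Subsingleton.elim _ _⟩
  have hrm : r ∈ IsLocalRing.maximalIdeal R := hru
  haveI : IsLocalization (Algebra.algebraMapSubmonoid (NodeFactLib.Nd r) (nonZeroDivisors R))
      (NodeFactLib.Nd r ⊗[R] FractionRing R) :=
    IsLocalization.tensor (FractionRing R) (nonZeroDivisors R)
  obtain ⟨b, t, ht, hab⟩ : ∃ (b : NodeFactLib.Nd r) (t : R), t ≠ 0 ∧ a * b = NodeFactLib.cc r t := by
    obtain ⟨v, hv⟩ := ha.exists_right_inv
    obtain ⟨⟨z, ⟨_, s, hs, rfl⟩⟩, hz⟩ := IsLocalization.surj (R := NodeFactLib.Nd r) (S := NodeFactLib.Nd r ⊗[R] FractionRing R) (Algebra.algebraMapSubmonoid (NodeFactLib.Nd r) (nonZeroDivisors R)) v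
    simp only [Algebra.TensorProduct.algebraMap_apply, Algebra.algebraMap_self, RingHom.id_apply] at hz
    have h1 : (a * z) ⊗ₜ[R] (1 : FractionRing R) = (algebraMap R (NodeFactLib.Nd r) s) ⊗ₜ[R] (1 : FractionRing R) := by
      rw [← mul_one (1 : FractionRing R), ← Algebra.TensorProduct.tmul_mul_tmul, ← hz, ← mul_assoc, hv, one_mul, mul_one]
    obtain ⟨⟨_, c, hc, rfl⟩, hc'⟩ := (IsLocalization.eq_iff_exists (R := NodeFactLib.Nd r) (S := NodeFactLib.Nd r ⊗[R] FractionRing R)
      (Algebra.algebraMapSubmonoid (NodeFactLib.Nd r) (nonZeroDivisors R))).1 h1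
    refine ⟨z * algebraMap R (NodeFactLib.Nd r) c, s * c, mul_ne_zero (nonZeroDivisors.ne_zero hs) (nonZeroDivisors.ne_zero hc), ?_⟩
    have e : ∀ x, algebraMap R (NodeFactLib.Nd r) x = NodeFactLib.cc r x := fun x => by
      show Ideal.Quotient.mk _ (algebraMap R (MvPowerSeries (Fin 2) R) x) = _
      rw [MvPowerSeries.algebraMap_apply, Algebra.algebraMap_self]
      rfl
    simp only [← Ideal.Quotient.mk_algebraMap] at hc'
    simp only [e, Ideal.Quotient.mk_algebraMap] at hc' ⊢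
    rw [map_mul]
    exact (mul_assoc a z _).symm.trans ((mul_comm _ _).trans (hc'.trans (mul_comm _ _)))
  obtain ⟨s, K, n, u, h⟩ := NodeFactLib.exists_monomial r hr hrm a b t ht hab
  suffices H : ∃ (s : R) (m n : ℕ) (u : (NodeFactLib.Nd r)ˣ), m * n = 0 ∧
      a = NodeFactLib.cc r s * NodeFactLib.xv r 0 ^ n * NodeFactLib.xv r 1 ^ m * u by
    obtain ⟨s, m, n, u, hmn, h⟩ := H
    exact ⟨s, m, n, u, hmn, by rw [h, map_mul, map_mul, map_pow, map_pow]; rfl⟩
  have hcancel : ∀ (K : ℕ) (z : NodeFactLib.Nd r), z * NodeFactLib.xv r 0 ^ K = 0 → z = 0 := by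
    intro K
    induction K with
    | zero => simp
    | succ K ih => exact fun z hz => ih z (NodeFactLib.xv_regular r hr 0 _ (by rw [← hz, pow_succ]; ring))
  rcases le_total K n with hKn | hnK
  · obtain ⟨j, rfl⟩ := Nat.exists_eq_add_of_le hKn
    refine ⟨s, 0, j, u, zero_mul _, ?_⟩
    refine sub_eq_zero.1 (hcancel K _ ?_)
    rw [sub_mul, h, pow_add, pow_zero]; ring
  · obtain ⟨l, rfl⟩ := Nat.exists_eq_add_of_le hnK
    have h1 : a * NodeFactLib.xv r 0 ^ l * (u⁻¹ : (NodeFactLib.Nd r)ˣ) = NodeFactLib.cc r s := by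
      refine sub_eq_zero.1 (hcancel n _ ?_)
      have e := u.mul_inv
      rw [pow_add] at h
      linear_combination (u⁻¹ : (NodeFactLib.Nd r)ˣ).val * h + NodeFactLib.cc r s * NodeFactLib.xv r 0 ^ n * e
    have h2 : (a * (u⁻¹ : (NodeFactLib.Nd r)ˣ)) * NodeFactLib.cc r (r ^ l) =
        NodeFactLib.cc r s * NodeFactLib.xv r 1 ^ l := by
      rw [← h1, map_pow, ← NodeFactLib.xv_mul, mul_pow]; ring
    obtain ⟨s', hs'⟩ := cancel_aux r hr l s _ h2
    refine ⟨s', l, 0, u, mul_zero _, ?_⟩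
    rw [pow_zero, mul_one, ← hs', mul_assoc, Units.inv_mul, mul_one]

end Groth.Agent.S17719
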