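import Groth.Statements.S17721
import Mathlib

set_option autoImplicit false
universe u
open CAlg

namespace Groth.Agent.S17721

open Polynomial IsLocalRing in
/-- Let R be a complete discrete valuation ring with fraction field K, and f a polynomial over R with
non-zero constant term a₀ such that a₀ does not divide some coefficient of f of positive degree
(equivalently, the Newton polygon of f has a side of negative slope). Let b be the power series over
K with b · f = a₀, the expansion of the geometric series in 1 − f/a₀. Then the valuations of the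
coefficients b_j are not bounded below: for every non-zero c in R there is an index j with c · b_j
outside R. -/
theorem result
    (R : Type u) [CommRing R] [IsDomain R] [IsDiscreteValuationRing R]
    [IsAdicComplete (maximalIdeal R) R]
    (K : Type u) [Field K] [Algebra R K] [IsFractionRing R K]
    (f : R[X]) (h0 : f.coeff 0 ≠ 0) (hslope : ∃ i : ℕ, 0 < i ∧ ¬ (f.coeff 0 ∣ f.coeff i))
    (b : PowerSeries K)
    (hb : b * ((f.map (algebraMap R K) : K[X]) : PowerSeries K) = PowerSeries.C (algebraMap R K (f.coeff 0))) :
    ∀ c : R, c ≠ 0 → ∃ j : ℕ, algebraMap R K c * PowerSeries.coeff j b ∉ (algebraMap R K).range := by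
  intro c hc
  by_contra hall
  push Not at hall
  choose b' hb' using hall
  obtain ⟨π, hπ⟩ := IsDiscreteValuationRing.exists_irreducible R
  have hπp : Prime π := hπ.prime
  have hbc : PowerSeries.mk b' * ((f : R[X]) : PowerSeries R) = PowerSeries.C (c * f.coeff 0) := by
    refine PowerSeries.map_injective (algebraMap R K) (IsFractionRing.injective R K) ?_
    rw [map_mul, ← Polynomial.polynomial_map_coe, PowerSeries.map_C]
    have : PowerSeries.map (algebraMap R K) (PowerSeries.mk b') = PowerSeries.C (algebraMap R K c) * b := by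
      ext j; simp [hb']
    rw [this, mul_assoc, hb, map_mul, map_mul]
  obtain ⟨i, hi, hnd⟩ := hslope
  have hmain : ∀ (s : R) (g : PowerSeries R), (∀ j, s ∣ PowerSeries.coeff j g) →
      ∃ g', g = PowerSeries.C s * g' := fun s g hg => by
    choose g' hg' using hg
    exact ⟨PowerSeries.mk g', by ext j; simp [hg']⟩
  have key : ∀ (d : R), d ≠ 0 → ∀ g h : PowerSeries R, g * h = PowerSeries.C d →
      ∀ j, PowerSeries.coeff 0 h ∣ PowerSeries.coeff j h := by
    intro d
    refine wellFounded_dvdNotUnit.induction (C := fun d : R => d ≠ 0 → ∀ g h : PowerSeries R,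
      g * h = PowerSeries.C d → ∀ j, PowerSeries.coeff 0 h ∣ PowerSeries.coeff j h) d ?_
    intro d ih hd g h hgh j
    by_cases hu : IsUnit d
    · have h1 : PowerSeries.constantCoeff g * PowerSeries.constantCoeff h = d := by
        rw [← map_mul, hgh, PowerSeries.constantCoeff_C]
      rw [PowerSeries.coeff_zero_eq_constantCoeff]
      exact (isUnit_of_mul_isUnit_right (h1 ▸ hu)).dvd
    obtain ⟨d', rfl⟩ : π ∣ d :=
      Ideal.mem_span_singleton.1 ((IsDiscreteValuationRing.irreducible_iff_uniformizer π).1 hπ ▸
        (IsLocalRing.mem_maximalIdeal d).2 hu)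
    have hdn : DvdNotUnit d' (π * d') := ⟨right_ne_zero_of_mul hd, π, hπ.not_isUnit, mul_comm _ _⟩
    have hP : (Ideal.span {π}).IsPrime := (Ideal.span_singleton_prime hπ.ne_zero).2 hπp
    have h0 := congrArg (PowerSeries.map (Ideal.Quotient.mk (Ideal.span {π}))) hgh
    rw [map_mul, PowerSeries.map_C, Ideal.Quotient.eq_zero_iff_mem.2
      (Ideal.mul_mem_right _ _ (Ideal.mem_span_singleton_self π)), map_zero, mul_eq_zero] at h0
    have hdvd : ∀ q : PowerSeries R, PowerSeries.map (Ideal.Quotient.mk (Ideal.span {π})) q = 0 →
        ∀ l, π ∣ PowerSeries.coeff l q := fun q hq l => by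
      have := congrArg (PowerSeries.coeff l) hq
      rwa [PowerSeries.coeff_map, map_zero, Ideal.Quotient.eq_zero_iff_mem,
        Ideal.mem_span_singleton] at this
    rcases h0 with h0 | h0 <;> obtain ⟨q, rfl⟩ := hmain π _ (hdvd _ h0)
    · rw [mul_assoc, map_mul] at hgh
      exact ih d' hdn (right_ne_zero_of_mul hd) q h
        (mul_left_cancel₀ ((map_ne_zero_iff _ PowerSeries.C_injective).2 hπ.ne_zero) hgh) j
    · rw [mul_left_comm, map_mul] at hgh
      simp only [PowerSeries.coeff_C_mul]
      exact mul_dvd_mul_left π (ih d' hdn (right_ne_zero_of_mul hd) g q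
        (mul_left_cancel₀ ((map_ne_zero_iff _ PowerSeries.C_injective).2 hπ.ne_zero) hgh) j)
  have := key _ (mul_ne_zero hc h0) _ _ hbc i
  rw [Polynomial.coeff_coe, Polynomial.coeff_coe] at this
  exact hnd this

end Groth.Agent.S17721
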