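import Groth.Statements.S17722
import Mathlib.RingTheory.Flat.FaithfullyFlat.Algebra

set_option autoImplicit false
universe u
open CAlg

namespace Groth.Agent.S17722

/-- Let R → R' be a faithfully flat ring map between Noetherian integrally closed local domains, and p
an ideal of R. If the ideal pR' generated by the image of p is principal, then p is principal. (The
second assertion of the published lemma, descent of unique factorization, is not part of this row.) -/
theorem result
    (R R' : Type u) [CommRing R] [CommRing R'] [IsDomain R] [IsDomain R']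
    [IsNoetherianRing R] [IsNoetherianRing R'] [IsLocalRing R] [IsLocalRing R']
    [IsIntegrallyClosed R] [IsIntegrallyClosed R']
    [Algebra R R'] [Module.FaithfullyFlat R R']
    (p : Ideal R) (hp : (p.map (algebraMap R R')).IsPrincipal) :
    p.IsPrincipal := by
  classical
  obtain ⟨⟨x, hx⟩⟩ := hp
  rw [Ideal.submodule_span_eq] at hx
  have hcontract := Ideal.comap_map_eq_self_of_faithfullyFlat (B := R') p
  rcases eq_or_ne x 0 with rfl | hx0
  · refine ⟨⟨0, ?_⟩⟩
    rw [← hcontract, hx, Ideal.span_singleton_eq_bot.2 rfl, Ideal.submodule_span_eq,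
      Ideal.span_singleton_eq_bot.2 rfl, ← RingHom.ker_eq_comap_bot,
      (RingHom.injective_iff_ker_eq_bot _).1 (FaithfulSMul.algebraMap_injective R R')]
  obtain ⟨a, hap, u, hu⟩ : ∃ a ∈ p, ∃ u : R'ˣ, algebraMap R R' a = x * u := by
    by_contra hcon
    push Not at hcon
    have hle : p.map (algebraMap R R') ≤ Ideal.span {x} * IsLocalRing.maximalIdeal R' := by
      refine Ideal.map_le_iff_le_comap.2 fun a ha => ?_
      obtain ⟨b, hb⟩ := Ideal.mem_span_singleton'.1 (hx ▸ Ideal.mem_map_of_mem (algebraMap R R') ha)
      rw [Ideal.mem_comap, ← hb, mul_comm b x]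
      refine Ideal.mul_mem_mul (Ideal.mem_span_singleton_self x) ?_
      rw [IsLocalRing.mem_maximalIdeal, mem_nonunits_iff]
      intro hbu
      exact hcon a ha hbu.unit (by rw [IsUnit.unit_spec, ← hb, mul_comm])
    obtain ⟨c, hc, hxc⟩ := Ideal.mem_span_singleton_mul.1 (hle (hx ▸ Ideal.mem_span_singleton_self x))
    have h1 : c = 1 := mul_left_cancel₀ hx0 (hxc.trans (mul_one x).symm)
    exact (IsLocalRing.mem_maximalIdeal _).1 hc (h1 ▸ isUnit_one)
  refine ⟨⟨a, ?_⟩⟩
  rw [Ideal.submodule_span_eq, ← hcontract, ← Ideal.comap_map_eq_self_of_faithfullyFlat (B := R') (Ideal.span {a}),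
    Ideal.map_span, Set.image_singleton, hx, hu, Ideal.span_singleton_mul_right_unit u.isUnit]

end Groth.Agent.S17722
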