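import Groth.Statements.S17723
import Mathlib.Data.Nat.Factorization.Basic
import Mathlib.RingTheory.Int.Basic
import Mathlib.LinearAlgebra.Span.Basic
import Mathlib.Logic.Relation

set_option autoImplicit false
universe u
open LabGraph

namespace Groth.Agent.S17723

/-- Let G be a finite connected multigraph with endpoint map ends and edge labels l taking positive
integer values. We say g : V → ℤ is elementary-Cartier if, for some integer n ≥ 1, all values of g
are multiples of n and, for each edge whose label fails to divide n, g agrees at its two endpoints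
(equivalently, once the edges with label dividing n are removed, g takes a single value on each
connected piece of what remains). Then every Cartier function f (for each edge, the label divides
the difference of the values of f at its endpoints) lies in the ℤ-span of the elementary-Cartier
functions. -/
theorem result
    {V E : Type u} [Fintype V] [Fintype E] [DecidableEq V] [DecidableEq E]
    (ends : E → V × V) (l : E → ℕ) (hl : ∀ e, 0 < l e) (hconn : LabGraph.Connected ends)
    (f : V → ℤ) (hf : LabGraph.IsCartier ends l f) :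
    f ∈ Submodule.span ℤ {g : V → ℤ | ∃ n : ℕ, 0 < n ∧ (∀ v, (n : ℤ) ∣ g v) ∧
      ∀ e, ¬ (l e ∣ n) → g (ends e).1 = g (ends e).2} := by
  classical
  set G : Submodule ℤ (V → ℤ) := Submodule.span ℤ {g : V → ℤ | ∃ n : ℕ, 0 < n ∧ (∀ v, (n : ℤ) ∣ g v) ∧ ∀ e, ¬ (l e ∣ n) → g (ends e).1 = g (ends e).2}
  have helem : ∀ (g : V → ℤ) (n : ℕ), 0 < n → (∀ v, (n : ℤ) ∣ g v) → (∀ e, ¬ (l e ∣ n) → g (ends e).1 = g (ends e).2) → g ∈ G :=
    fun g n h1 h2 h3 => Submodule.subset_span ⟨n, h1, h2, h3⟩
  let L : ℕ := ∏ e, l e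
  have hL : 0 < L := Finset.prod_pos fun e _ => hl e
  have hLG : ∀ g : V → ℤ, (L : ℤ) • g ∈ G := fun g => helem _ L hL (fun v => ⟨g v, rfl⟩)
    fun e he => absurd (Finset.dvd_prod_of_mem l (Finset.mem_univ e)) he
  -- for each prime, a multiplier prime to it
  have key : ∀ p : ℕ, p.Prime → ∃ a : ℤ, ¬ (p : ℤ) ∣ a ∧ a • f ∈ G := by
    intro p hp
    let L' := ordCompl[p] L
    let K := L.factorization p
    have hL' : 0 < L' := Nat.ordCompl_pos p hL.ne'
    have hLK : p ^ K * L' = L := Nat.ordProj_mul_ordCompl_eq_self L p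
    have hedge : ∀ (e : E) (k : ℕ), ¬ p ^ (k + 1) ∣ l e → l e ∣ p ^ k * L' := by
      intro e k he
      have hle : (l e).factorization p ≤ k := by
        by_contra hc
        exact he ((pow_dvd_pow p (Nat.lt_of_not_le hc)).trans (Nat.ordProj_dvd _ _))
      rw [← Nat.ordProj_mul_ordCompl_eq_self (l e) p]
      exact Nat.mul_dvd_mul (pow_dvd_pow p hle) (Nat.ordCompl_dvd_ordCompl_of_dvd (Finset.dvd_prod_of_mem l (Finset.mem_univ e)) p)
    -- induction on the power of `p`
    have step : ∀ k : ℕ, ∃ r : V → ℤ, (∀ v, (p : ℤ) ^ k ∣ r v) ∧ LabGraph.IsCartier ends l r ∧ (L' : ℤ) ^ k • f - r ∈ G := by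
      intro k
      induction k with
      | zero => exact ⟨f, fun v => by simp, hf, by simp⟩
      | succ k ih =>
        obtain ⟨r, hr1, hr2, hr3⟩ := ih
        let s : Setoid V := Relation.EqvGen.setoid fun u v => ∃ e, p ^ (k + 1) ∣ l e ∧ ends e = (u, v)
        have hcong : ∀ u v, s.r u v → (p : ℤ) ^ (k + 1) ∣ r u - r v := by
          intro u v huv
          induction huv with
          | rel u v h =>
            obtain ⟨e, he, heq⟩ := h
            have h1 := hr2 e
            rw [heq] at h1
            exact (by exact_mod_cast he : (p : ℤ) ^ (k + 1) ∣ (l e : ℤ)).trans h1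
          | refl u => simp
          | symm u v _ h => rw [← neg_sub]; exact dvd_neg.2 h
          | trans u v w _ _ h1 h2 => rw [← sub_add_sub_cancel (r u) (r v) (r w)]; exact dvd_add h1 h2
        let g : V → ℤ := fun v => (L' : ℤ) * r (Quotient.out (s := s) (Quotient.mk s v))
        have hgd : ∀ v, ((p ^ k * L' : ℕ) : ℤ) ∣ g v := fun v => by
          push_cast
          rw [mul_comm ((p : ℤ) ^ k)]
          exact mul_dvd_mul_left _ (hr1 _)
        have hge : ∀ e, ¬ (l e ∣ p ^ k * L') → g (ends e).1 = g (ends e).2 := fun e he => by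
          have : s.r (ends e).1 (ends e).2 :=
            Relation.EqvGen.rel _ _ ⟨e, by_contra fun hc => he (hedge e k hc), rfl⟩
          simp only [g, Quotient.sound this]
        have hg : g ∈ G := helem g _ (Nat.mul_pos (pow_pos hp.pos k) hL') hgd hge
        refine ⟨(L' : ℤ) • r - g, fun v => ?_, fun e => ?_, ?_⟩
        · simp only [Pi.sub_apply, Pi.smul_apply, smul_eq_mul, g, ← mul_sub]
          exact Dvd.dvd.mul_left (hcong _ _ (s.iseqv.symm (Quotient.mk_out (s := s) v))) _
        · simp only [Pi.sub_apply, Pi.smul_apply, smul_eq_mul]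
          rw [sub_sub_sub_comm, ← mul_sub]
          refine dvd_sub (Dvd.dvd.mul_left (hr2 e) _) ?_
          by_cases he : l e ∣ p ^ k * L'
          · exact (Int.natCast_dvd_natCast.2 he).trans (dvd_sub (hgd _) (hgd _))
          · rw [hge e he, sub_self]; exact dvd_zero _
        · rw [show (L' : ℤ) ^ (k + 1) • f - ((L' : ℤ) • r - g) = (L' : ℤ) • ((L' : ℤ) ^ k • f - r) + g by
            rw [smul_sub, smul_smul, pow_succ']; abel]
          exact add_mem (Submodule.smul_mem _ _ hr3) hg
    obtain ⟨r, hr1, -, hr3⟩ := step K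
    refine ⟨(L' : ℤ) ^ (K + 1), fun h => ?_, ?_⟩
    · have h' : (p : ℤ) ∣ (L' : ℤ) := (Nat.prime_iff_prime_int.1 hp).dvd_of_dvd_pow h
      exact Nat.not_dvd_ordCompl hp hL.ne' (Int.natCast_dvd_natCast.1 h')
    · choose c hc using hr1
      have hr : (L' : ℤ) • r ∈ G := by
        rw [show (L' : ℤ) • r = (L : ℤ) • c from funext fun v => by
          simp only [Pi.smul_apply, smul_eq_mul, hc v, ← hLK]; push_cast; ring]
        exact hLG c
      rw [show (L' : ℤ) ^ (K + 1) • f = (L' : ℤ) • ((L' : ℤ) ^ K • f - r) + (L' : ℤ) • r by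
        rw [smul_sub, smul_smul, pow_succ']; abel]
      exact add_mem (Submodule.smul_mem _ _ hr3) hr
  -- the annihilating ideal is everything
  let I : Ideal ℤ := Submodule.comap (LinearMap.toSpanSingleton ℤ (V → ℤ) f) G
  have hI : I = ⊤ := by
    obtain ⟨g, hg⟩ := (IsPrincipalIdealRing.principal I).principal
    by_contra hne
    obtain ⟨p, hp, hpg⟩ := Nat.exists_prime_and_dvd (n := g.natAbs) fun h1 => hne (by
      rw [hg]; exact Ideal.span_singleton_eq_top.2 (Int.isUnit_iff_natAbs_eq.2 h1))
    obtain ⟨a, ha, haG⟩ := key p hp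
    have haI : a ∈ I := haG
    rw [hg] at haI
    exact ha ((Int.natCast_dvd.2 hpg).trans (Ideal.mem_span_singleton.1 haI))
  have h1 : (1 : ℤ) ∈ I := hI ▸ Submodule.mem_top
  simpa [I] using h1

end Groth.Agent.S17723
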