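import Groth.Statements.S17724
import Groth.Agent.LabGraphLib.Surj

set_option autoImplicit false
universe u v
open LabGraph

namespace Groth.Agent.S17724

/-- Let G be a finite connected multigraph with endpoint map ends, whose edges carry labels lab in a set
L and positive integer labels n, and suppose the L-labels are constant along every circuit. Say g :
V → ℤ is pre-achievable when for some finite set B of edges all carrying the same L-label, g takes
equal values at the two endpoints of every edge outside B (so g is constant on the connected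
components of the graph with B deleted); say g is Cartier when for every edge e the integer n(e)
divides the difference of the values of g at its endpoints. Then every Cartier function f is a
finite sum of functions each of which is Cartier and pre-achievable, and when f vanishes at a vertex
v₀ the summands can all be taken to vanish at v₀. -/
theorem result
    {V E : Type u} [Fintype V] [Fintype E] [DecidableEq V] [DecidableEq E] {L : Type v}
    (ends : E → V × V) (lab : E → L) (n : E → ℕ) (hn : ∀ e, 0 < n e)
    (hconn : LabGraph.Connected ends)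
    (hcirc : ∀ C : Finset E, LabGraph.IsCircuit ends C → ∀ e ∈ C, ∀ e' ∈ C, lab e = lab e')
    (f : V → ℤ) (hf : LabGraph.IsCartier ends n f) :
    f ∈ AddSubmonoid.closure {g : V → ℤ | LabGraph.IsCartier ends n g ∧ (∃ B : Finset E, (∀ e ∈ B, ∀ e' ∈ B, lab e = lab e') ∧ ∀ e, e ∉ B → g (ends e).1 = g (ends e).2)} ∧
    ∀ v₀ : V, f v₀ = 0 →
      f ∈ AddSubmonoid.closure {g : V → ℤ | LabGraph.IsCartier ends n g ∧ (∃ B : Finset E, (∀ e ∈ B, ∀ e' ∈ B, lab e = lab e') ∧ ∀ e, e ∉ B → g (ends e).1 = g (ends e).2) ∧ g v₀ = 0} := by
  classical
  open LabGraphLib in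
  have hbd : ∀ (γ : E → ℚ), (∀ v, bd ends γ v = 0) → ∀ lam : L,
      ∑ e, γ e * (if lab e = lam then ((f (ends e).2 : ℚ) - f (ends e).1) else 0) = 0 := by
    intro γ
    induction hN : (Finset.univ.filter fun e => γ e ≠ 0).card using Nat.strong_induction_on generalizing γ with
    | _ N ih =>
      intro hγ lam
      set S := Finset.univ.filter fun e => γ e ≠ 0 with hSdef
      rcases S.eq_empty_or_nonempty with hS | hS
      · refine Finset.sum_eq_zero fun e _ => ?_
        have : γ e = 0 := by
          by_contra h
          have : e ∈ S := by simp [hSdef, h]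
          simp [hS] at this
        simp [this]
      · obtain ⟨C, hCS, hC⟩ := exists_circuit ends hS (endCount_ne_one ends hγ (by simp [hSdef]))
        obtain ⟨δ, hδ0, ⟨e₀, he₀, hne⟩, hδ⟩ := exists_cycle ends hC.1
          (fun v h1 => by have := hC.2.1 v; rw [h1] at this; exact Nat.not_even_one this) ℚ
        let c := γ e₀ / δ e₀
        have hcd : c * δ e₀ = γ e₀ := div_mul_cancel₀ _ hne
        have hsum : ∑ e, δ e * (if lab e = lam then ((f (ends e).2 : ℚ) - f (ends e).1) else 0) = 0 := by
          by_cases hl : lab e₀ = lam
          · have h := sum_bd_mul ends δ fun v => (f v : ℚ)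
            simp only [hδ, zero_mul, Finset.sum_const_zero] at h
            rw [h]
            refine Finset.sum_congr rfl fun e _ => ?_
            by_cases heC : e ∈ C
            · rw [if_pos ((hcirc C hC e heC e₀ he₀).trans hl)]
            · simp [hδ0 e heC]
          · refine Finset.sum_eq_zero fun e _ => ?_
            by_cases heC : e ∈ C
            · rw [if_neg fun h => hl ((hcirc C hC e₀ he₀ e heC).trans h), mul_zero]
            · simp [hδ0 e heC]
        have hlt : (Finset.univ.filter fun e => γ e - c * δ e ≠ 0).card < N := by
          rw [← hN]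
          refine Finset.card_lt_card ⟨fun e he => ?_, fun hsub => ?_⟩
          · simp only [Finset.mem_filter, Finset.mem_univ, true_and, hSdef] at he ⊢
            intro h0
            have : e ∉ C := fun hc => (Finset.mem_filter.1 (hCS hc)).2 h0
            simp [h0, hδ0 e this] at he
          · have := hsub (show e₀ ∈ S from hCS he₀)
            simp [hcd] at this
        have h2 := ih _ hlt (fun e => γ e - c * δ e) rfl (fun v => by
          have e1 : bd ends (fun e => γ e - c * δ e) v = bd ends γ v - c * bd ends δ v := by
            simp only [bd, Finset.mul_sum, ← Finset.sum_sub_distrib]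
            refine Finset.sum_congr rfl fun e _ => ?_
            split_ifs <;> ring
          rw [e1, hγ, hδ, mul_zero, sub_zero]) lam
        simp only [sub_mul, Finset.sum_sub_distrib, mul_assoc, ← Finset.mul_sum, hsum, mul_zero, sub_zero] at h2
        exact h2
  have key : ∀ (v₀ : V) (lam : L), ∃ g : V → ℤ, g v₀ = 0 ∧
      ∀ e, g (ends e).2 - g (ends e).1 = if lab e = lam then f (ends e).2 - f (ends e).1 else 0 := by
    intro v₀ lam
    let d : (V → ℚ) →ₗ[ℚ] (E → ℚ) :=
      { toFun := fun φ e => φ (ends e).2 - φ (ends e).1
        map_add' := fun a b => funext fun e => by simp only [Pi.add_apply]; ring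
        map_smul' := fun c a => funext fun e => by simp only [Pi.smul_apply, smul_eq_mul, RingHom.id_apply]; ring }
    let x : E → ℚ := fun e => if lab e = lam then ((f (ends e).2 : ℚ) - f (ends e).1) else 0
    have hx : x ∈ LinearMap.range d := by
      by_contra hnot
      obtain ⟨μ, hμx, hμ⟩ := Submodule.exists_dual_map_eq_bot_of_notMem hnot inferInstance
      have hμg : ∀ g : E → ℚ, μ g = ∑ e : E, g e * μ (Pi.single e 1) := fun g => by
        conv_lhs => rw [pi_eq_sum_univ' g]
        simp
      apply hμx
      have hγ : ∀ v, LabGraphLib.bd ends (fun e => μ (Pi.single e 1)) v = 0 := fun v => by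
        have h0 := LabGraphLib.sum_bd_mul ends (fun e => μ (Pi.single e 1)) (Pi.single v (1 : ℚ))
        rw [Finset.sum_eq_single v (fun w _ hw => by simp [Pi.single_eq_of_ne hw]) (by simp), Pi.single_eq_same,
          mul_one] at h0
        rw [h0]
        have h2 : μ (d (Pi.single v 1)) = 0 := by
          have : μ (d (Pi.single v 1)) ∈ (LinearMap.range d).map μ := ⟨_, ⟨_, rfl⟩, rfl⟩
          rwa [hμ, Submodule.mem_bot] at this
        rw [hμg] at h2
        rw [← h2]
        exact Finset.sum_congr rfl fun e _ => mul_comm _ _
      rw [hμg, ← hbd _ hγ lam]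
      exact Finset.sum_congr rfl fun e _ => mul_comm _ _
    obtain ⟨g, hg⟩ := hx
    have hg' : ∀ e, g (ends e).2 - g (ends e).1 = ((if lab e = lam then f (ends e).2 - f (ends e).1 else 0 : ℤ) : ℚ) := fun e => by
      have := congrFun hg e
      simp only [d, x, LinearMap.coe_mk, AddHom.coe_mk] at this
      rw [this]; push_cast; rfl
    have hint : ∀ v, ∃ k : ℤ, (k : ℚ) = g v - g v₀ := by
      intro v
      induction hconn.2 v₀ v with
      | refl => exact ⟨0, by simp⟩
      | @tail a b _ hab ih =>
        obtain ⟨k, hk⟩ := ih
        obtain ⟨e, he | he⟩ := hab <;> have hge := hg' e <;> rw [he] at hge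
        · exact ⟨k + (if lab e = lam then f b - f a else 0), by rw [Int.cast_add, hk, ← hge]; ring⟩
        · exact ⟨k - (if lab e = lam then f a - f b else 0), by rw [Int.cast_sub, hk, ← hge]; ring⟩
    choose k hk using hint
    refine ⟨k, Int.cast_injective (α := ℚ) (by rw [hk]; simp), fun e => Int.cast_injective (α := ℚ) ?_⟩
    rw [Int.cast_sub, hk, hk, ← hg' e]
    ring
  obtain ⟨hV⟩ := hconn.1
  have dec : ∀ v₀ : V, ∃ G : L → V → ℤ, (∀ lam, G lam v₀ = 0) ∧
      (∀ lam, LabGraph.IsCartier ends n (G lam) ∧ (∃ B : Finset E, (∀ e ∈ B, ∀ e' ∈ B, lab e = lab e') ∧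
        ∀ e, e ∉ B → G lam (ends e).1 = G lam (ends e).2)) ∧
      f = (fun _ => f v₀) + ∑ lam ∈ Finset.univ.image lab, G lam := by
    intro v₀
    choose G hG0 hG using key v₀
    refine ⟨G, hG0, fun lam => ⟨fun e => ?_, Finset.univ.filter fun e => lab e = lam, ?_, fun e he => ?_⟩, ?_⟩
    · rw [← neg_sub (G lam (ends e).2), hG lam e]
      split_ifs
      · rw [neg_sub]; exact hf e
      · simp
    · intro e he e' he'
      rw [(Finset.mem_filter.1 he).2, (Finset.mem_filter.1 he').2]
    · have := hG lam e
      rw [if_neg fun h => he (by simp [h])] at this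
      omega
    · funext v
      simp only [Pi.add_apply, Finset.sum_apply]
      induction hconn.2 v₀ v with
      | refl => simp [hG0]
      | @tail a b _ hab ih =>
        obtain ⟨e, he | he⟩ := hab
        all_goals
          have hs : ∑ lam ∈ Finset.univ.image lab, (G lam (ends e).2 - G lam (ends e).1) = f (ends e).2 - f (ends e).1 := by
            simp only [hG]
            rw [Finset.sum_ite_eq, if_pos (Finset.mem_image_of_mem lab (Finset.mem_univ e))]
          rw [Finset.sum_sub_distrib, he] at hs
          simp only at hs
          omega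
  constructor
  · obtain ⟨G, -, hG, hfG⟩ := dec hV
    rw [hfG]
    refine add_mem (AddSubmonoid.subset_closure ⟨fun e => by simp, ∅, by simp, fun e _ => rfl⟩)
      (sum_mem fun lam _ => AddSubmonoid.subset_closure (hG lam))
  · intro v₀ h0
    obtain ⟨G, hG0, hG, hfG⟩ := dec v₀
    have hz : (fun _ : V => f v₀) = 0 := by funext; simpa using h0
    rw [hz, zero_add] at hfG
    rw [hfG]
    exact sum_mem fun lam _ => AddSubmonoid.subset_closure ⟨(hG lam).1, (hG lam).2, hG0 lam⟩

end Groth.Agent.S17724
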