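import Groth.Statements.S17725
import Mathlib.AlgebraicGeometry.Noetherian
import Mathlib.Topology.NoetherianSpace
import Mathlib.Topology.Sober
import Mathlib.AlgebraicGeometry.Properties
-- import your own Groth.Agent.* helpers here

set_option autoImplicit false
universe u
open SpecSp

namespace Groth.Agent.S17725

open AlgebraicGeometry in
/-- In a connected Noetherian scheme any two points p, q are linked by a finite chain of points p = x₁,
…, xₙ = q such that for each i one of x_i, x_{i+1} is a specialization of the other; equivalently, p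
and q are related by the equivalence relation generated by the specialization relation. -/
theorem result
    (X : Scheme.{u}) [IsNoetherian X] [ConnectedSpace X] (p q : X) :
    Relation.EqvGen (fun x y : X => x ⤳ y) p q := by
  let r : X → X → Prop := fun x y => x ⤳ y
  let C : Set X := {x | Relation.EqvGen r p x}
  have hfin := TopologicalSpace.NoetherianSpace.finite_irreducibleComponents (α := X)
  have key : ∀ D : Set X, (∀ x y, x ⤳ y → (x ∈ D ↔ y ∈ D)) → IsClosed D := fun D hD => by
    have : D = ⋃ Z ∈ {Z ∈ irreducibleComponents X | Z ⊆ D}, Z := by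
      refine Set.Subset.antisymm (fun x hx => ?_) (Set.iUnion₂_subset fun Z hZ => hZ.2)
      refine Set.mem_iUnion₂.mpr ⟨irreducibleComponent x, ⟨irreducibleComponent_mem_irreducibleComponents x, fun y hy => ?_⟩, mem_irreducibleComponent⟩
      obtain ⟨η, hη⟩ := QuasiSober.sober (isIrreducible_irreducibleComponent (x := x)) isClosed_irreducibleComponent
      exact (hD η y (hη.specializes hy)).mp ((hD η x (hη.specializes mem_irreducibleComponent)).mpr hx)
    rw [this]
    exact Set.Finite.isClosed_biUnion (hfin.subset fun Z hZ => hZ.1) fun Z hZ => isClosed_of_mem_irreducibleComponents Z hZ.1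
  have hC : ∀ x y : X, x ⤳ y → (x ∈ C ↔ y ∈ C) := fun x y h =>
    ⟨fun hx => Relation.EqvGen.trans _ _ _ hx (Relation.EqvGen.rel _ _ h),
      fun hy => Relation.EqvGen.trans _ _ _ hy (Relation.EqvGen.symm _ _ (Relation.EqvGen.rel _ _ h))⟩
  have hclopen : IsClopen C := ⟨key C hC, isClosed_compl_iff.mp (key Cᶜ fun x y h => not_congr (hC x y h))⟩
  have : C = Set.univ := hclopen.eq_univ ⟨p, Relation.EqvGen.refl p⟩
  exact (this ▸ Set.mem_univ q : q ∈ C)

end Groth.Agent.S17725
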