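import Groth.Statements.S17726
import Mathlib.RingTheory.Ideal.Span
import Mathlib.Algebra.GroupWithZero.NonZeroDivisors
import Mathlib.RingTheory.Ideal.Basic
import Mathlib.Algebra.Ring.NonZeroDivisors

set_option autoImplicit false
universe u
open CAlg

namespace Groth.Agent.S17726

/-- Let f and g be non-zero-divisors of a commutative ring A, not both units; think of them as local
equations, at a point of the union of the supports, of two effective Cartier divisors E and D. If
the ideals generated by g^{m₁} and f^{n₁} coincide, and likewise for g^{m₂} and f^{n₂}, then m₁ n₂ =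
m₂ n₁. So all pairs (m, n) with m D = n E locally at the point are proportional, and the saturation
of the monoid they form is generated by a single element. -/
theorem result
    (A : Type u) [CommRing A] (f g : A)
    (hf : f ∈ nonZeroDivisors A) (hg : g ∈ nonZeroDivisors A) (hfg : ¬ (IsUnit f ∧ IsUnit g))
    (m₁ n₁ m₂ n₂ : ℕ)
    (h₁ : Ideal.span {g ^ m₁} = Ideal.span {f ^ n₁})
    (h₂ : Ideal.span {g ^ m₂} = Ideal.span {f ^ n₂}) :
    m₁ * n₂ = m₂ * n₁ := by
  have u₁ := Ideal.span_singleton_le_span_singleton.1 h₁.le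
  have v₁ := Ideal.span_singleton_le_span_singleton.1 h₁.ge
  have u₂ := Ideal.span_singleton_le_span_singleton.1 h₂.le
  have v₂ := Ideal.span_singleton_le_span_singleton.1 h₂.ge
  have hunit : ∀ {a b : ℕ}, g ^ a ∣ f ^ b → IsUnit f → a = 0 ∨ IsUnit g := fun {a b} h hfu => by
    rcases Nat.eq_zero_or_pos a with ha | ha
    · exact Or.inl ha
    · exact Or.inr ((isUnit_pow_iff ha.ne').1 (isUnit_of_dvd_unit h (hfu.pow b)))
  by_cases hfu : IsUnit f
  · rcases hunit v₁ hfu with h1 | h1
    · rcases hunit v₂ hfu with h2 | h2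
      · rw [h1, h2, zero_mul, zero_mul]
      · exact absurd ⟨hfu, h2⟩ hfg
    · exact absurd ⟨hfu, h1⟩ hfg
  · by_cases hgu : IsUnit g
    · have hzero : ∀ {a b : ℕ}, f ^ b ∣ g ^ a → b = 0 := fun {a b} h => by
        rcases Nat.eq_zero_or_pos b with hb | hb
        · exact hb
        · exact absurd ((isUnit_pow_iff hb.ne').1 (isUnit_of_dvd_unit h (hgu.pow a))) hfu
      rw [hzero u₁, hzero u₂, mul_zero, mul_zero]
    · have key : ∀ {a b : ℕ}, g ^ a ∣ g ^ b → a ≤ b := fun {a b} h => by
        by_contra hlt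
        obtain ⟨c, hc⟩ := h
        obtain ⟨d, rfl⟩ : ∃ d, a = b + (d + 1) := ⟨a - b - 1, by omega⟩
        refine hgu (IsUnit.of_mul_eq_one (g ^ d * c) ?_)
        refine ((isRegular_iff_mem_nonZeroDivisors.2 (pow_mem hg b)).left ?_)
        show g ^ b * (g * (g ^ d * c)) = g ^ b * 1
        rw [mul_one]
        conv_rhs => rw [hc]
        ring
      have e1 : g ^ (m₁ * n₂) ∣ g ^ (m₂ * n₁) := by
        calc g ^ (m₁ * n₂) ∣ f ^ (n₁ * n₂) := by rw [pow_mul, pow_mul]; exact pow_dvd_pow_of_dvd v₁ n₂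
          _ ∣ g ^ (m₂ * n₁) := by rw [mul_comm n₁, pow_mul, pow_mul]; exact pow_dvd_pow_of_dvd u₂ n₁
      have e2 : g ^ (m₂ * n₁) ∣ g ^ (m₁ * n₂) := by
        calc g ^ (m₂ * n₁) ∣ f ^ (n₂ * n₁) := by rw [pow_mul, pow_mul]; exact pow_dvd_pow_of_dvd v₂ n₁
          _ ∣ g ^ (m₁ * n₂) := by rw [mul_comm n₂ n₁, pow_mul, pow_mul]; exact pow_dvd_pow_of_dvd u₁ n₂
      exact le_antisymm (key e1) (key e2)

end Groth.Agent.S17726
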