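import Groth.Statements.S17727
import Groth.Agent.SchDenseLib.Ext
-- import your own Groth.Agent.* helpers here

set_option autoImplicit false
universe u
open Neron

namespace Groth.Agent.S17727

open CategoryTheory AlgebraicGeometry TopologicalSpace in
theorem dense_restrict {X : Scheme.{u}} (W U : X.Opens) (h : CInt.IsSchematicallyDense U) :
    CInt.IsSchematicallyDense (W.ι ⁻¹ᵁ U) := by
  intro V
  rw [injective_iff_map_eq_zero]
  intro s hs
  have hle : W.ι ''ᵁ V ⊓ U ≤ W.ι ''ᵁ (V ⊓ W.ι ⁻¹ᵁ U) := by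
    rintro x ⟨⟨v, hv, rfl⟩, hxU⟩
    exact ⟨v, ⟨hv, hxU⟩, rfl⟩
  refine h (W.ι ''ᵁ V) (Eq.trans ?_ (map_zero _).symm)
  have h1 : X.presheaf.map (homOfLE (Scheme.Hom.image_mono W.ι (inf_le_left : V ⊓ W.ι ⁻¹ᵁ U ≤ V))).op s = 0 := hs
  have h2 := (congrArg (X.presheaf.map (homOfLE hle).op).hom h1).trans (map_zero _)
  rw [← h2]
  exact congrArg (fun φ => CommRingCat.Hom.hom φ s) (X.presheaf.map_comp (homOfLE (Scheme.Hom.image_mono W.ι inf_le_left)).op (homOfLE hle).op)

open CategoryTheory AlgebraicGeometry in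
/-- Let f : E → S be a morphism of schemes and U ⊆ S a schematically dense open subscheme such that f
restricts to an isomorphism over U and the preimage of U is schematically dense in E. Then for every
section σ of f and every point s of S there is an open neighbourhood W of σ(s) in E on which f
restricts to an open immersion. (The published statements conclude that the section lands in the
étale locus of f, in one published form for an algebraic space E, in another for f locally of finite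
type over a Noetherian base; the affine-local argument gives the sharper conclusion recorded here,
for schemes.) -/
theorem result
    {E S : Scheme.{u}} (f : E ⟶ S) (U : S.Opens) (hU : CInt.IsSchematicallyDense U)
    (hiso : IsIso (morphismRestrict f U)) (hdense : CInt.IsSchematicallyDense (f ⁻¹ᵁ U))
    (σ : S ⟶ E) (hσ : σ ≫ f = 𝟙 S) (s : S) :
    ∃ W : E.Opens, σ.base s ∈ W ∧ IsOpenImmersion (W.ι ≫ f) := by
  haveI : IsImmersion (σ ≫ f) := by rw [hσ]; infer_instance
  haveI : IsImmersion σ := IsImmersion.of_comp σ f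
  let W := σ.coborderRange
  let c : S ⟶ W := σ.liftCoborder
  have hc : c ≫ W.ι = σ := σ.liftCoborder_ι
  refine ⟨W, ?_, ?_⟩
  · rw [← hc]; exact (c s).2
  let g := W.ι ≫ f
  have hcg : c ≫ g = 𝟙 S := by rw [← Category.assoc, hc, hσ]
  let W' := W.ι ⁻¹ᵁ (f ⁻¹ᵁ U)
  have hfac : (W'.ι ≫ g) ≫ c = W'.ι := by
    rw [← cancel_mono W.ι, Category.assoc, hc]
    have hr : Set.range (W'.ι ≫ W.ι).base ⊆ Set.range (f ⁻¹ᵁ U).ι.base := by
      rintro _ ⟨z, rfl⟩
      rw [Scheme.Opens.range_ι]
      exact z.2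
    let t := IsOpenImmersion.lift (f ⁻¹ᵁ U).ι (W'.ι ≫ W.ι) hr
    have ht : t ≫ (f ⁻¹ᵁ U).ι = W'.ι ≫ W.ι := IsOpenImmersion.lift_fac _ _ _
    have hσU : (f ∣_ U) ≫ U.ι ≫ σ = (f ⁻¹ᵁ U).ι := by
      have hr2 : Set.range (U.ι ≫ σ).base ⊆ Set.range (f ⁻¹ᵁ U).ι.base := by
        rintro _ ⟨z, rfl⟩
        rw [Scheme.Opens.range_ι]
        show f (σ (U.ι z)) ∈ U
        rw [← Scheme.Hom.comp_apply, hσ]
        exact z.2
      let σU := IsOpenImmersion.lift (f ⁻¹ᵁ U).ι (U.ι ≫ σ) hr2
      have hσU' : σU ≫ (f ∣_ U) = 𝟙 _ := by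
        rw [← cancel_mono U.ι, Category.assoc, morphismRestrict_ι, IsOpenImmersion.lift_fac_assoc, Category.assoc, hσ,
          Category.comp_id, Category.id_comp]
      have h2 : (f ∣_ U) ≫ σU = 𝟙 _ := by
        rw [← cancel_mono (f ∣_ U), Category.assoc, hσU', Category.comp_id, Category.id_comp]
      rw [← IsOpenImmersion.lift_fac (f ⁻¹ᵁ U).ι (U.ι ≫ σ) hr2, reassoc_of% h2]
    show (W'.ι ≫ W.ι ≫ f) ≫ σ = W'.ι ≫ W.ι
    rw [← reassoc_of% ht, ← morphismRestrict_ι, ← ht]
    simp only [Category.assoc]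
    rw [hσU]
  haveI : IsIso c := SchDenseLib.isIso_of_factor W' (dense_restrict W _ hdense) c (W'.ι ≫ g) hfac
  show IsOpenImmersion g
  have : g = inv c := (IsIso.eq_inv_of_hom_inv_id hcg)
  rw [this]; infer_instance

end Groth.Agent.S17727
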