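import Groth.Statements.S17728
import Groth.Agent.NeronDescLib.Basic
import Groth.Agent.S0386
-- import your own Groth.Agent.* helpers here

set_option autoImplicit false
universe u
open Neron

namespace Groth.Agent.S17728

open CategoryTheory AlgebraicGeometry in
theorem eq_of_iso_restrict {X S Z : Scheme.{u}} (f : X ⟶ S) (U : S.Opens) (hiso : IsIso (morphismRestrict f U))
    (a b : Z ⟶ (f ⁻¹ᵁ U : X.Opens)) (h : a ≫ (f ⁻¹ᵁ U).ι ≫ f = b ≫ (f ⁻¹ᵁ U).ι ≫ f) : a = b := by
  rw [← cancel_mono (morphismRestrict f U), ← cancel_mono U.ι, Category.assoc, Category.assoc, morphismRestrict_ι]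
  exact h

open CategoryTheory CategoryTheory.Limits AlgebraicGeometry in
theorem openImmersion_of_flat {X S : Scheme.{u}} [IsLocallyNoetherian S] (f : X ⟶ S) [LocallyOfFiniteType f]
    (U : S.Opens) (hiso : IsIso (morphismRestrict f U)) (hdense : CInt.IsSchematicallyDense (f ⁻¹ᵁ U))
    (x : X) (hx : (f.stalkMap x).hom.Flat) :
    ∃ W : X.Opens, x ∈ W ∧ IsOpenImmersion (W.ι ≫ f) := by
  haveI : IsLocallyNoetherian X := LocallyOfFiniteType.isLocallyNoetherian f
  haveI : LocallyOfFinitePresentation f := inferInstance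
  obtain ⟨W, hW, hxW, hWF⟩ := exists_isAffineOpen_mem_and_subset (X := X) (x := x)
    (U := ⟨_, Groth.Agent.S0386.result f⟩) hx
  refine ⟨W, hxW, ?_⟩
  let g := W.ι ≫ f
  haveI : IsAffine W.toScheme := hW
  haveI : IsSeparated g := by
    haveI : IsSeparated (g ≫ terminal.from S) := by
      rw [terminal.hom_ext (g ≫ terminal.from S) (terminal.from _)]; infer_instance
    exact IsSeparated.of_comp g (terminal.from S)
  haveI : Flat g := by
    rw [Flat.iff_flat_stalkMap]
    intro w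
    rw [Scheme.Hom.stalkMap_comp]
    exact RingHom.Flat.comp (hWF w.2) (Flat.stalkMap W.ι w)
  haveI : LocallyOfFinitePresentation g := inferInstance
  let P := (pullback.fst g g) ⁻¹ᵁ (W.ι ⁻¹ᵁ (f ⁻¹ᵁ U))
  have hP : CInt.IsSchematicallyDense P :=
    Groth.Agent.S3844.result (pullback.fst g g) _ (NeronDescLib.dense_restrict W _ hdense)
  have key : pullback.fst g g = pullback.snd g g := by
    refine SchDenseLib.ext_of_isSchematicallyDense P hP g pullback.condition ?_
    rw [← cancel_mono W.ι]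
    have h1 : Set.range ((P.ι ≫ pullback.fst g g) ≫ W.ι).base ⊆ Set.range (f ⁻¹ᵁ U).ι.base := by
      rintro _ ⟨z, rfl⟩
      rw [Scheme.Opens.range_ι]
      exact z.2
    have h2 : Set.range ((P.ι ≫ pullback.snd g g) ≫ W.ι).base ⊆ Set.range (f ⁻¹ᵁ U).ι.base := by
      rintro _ ⟨z, rfl⟩
      rw [Scheme.Opens.range_ι]
      show (pullback.snd g g ≫ g) (P.ι z) ∈ U
      rw [← pullback.condition]
      exact z.2
    rw [← IsOpenImmersion.lift_fac _ _ h1, ← IsOpenImmersion.lift_fac _ _ h2]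
    congr 1
    refine eq_of_iso_restrict f U hiso _ _ ?_
    rw [IsOpenImmersion.lift_fac_assoc, IsOpenImmersion.lift_fac_assoc]
    simp only [Category.assoc]
    exact congrArg (P.ι ≫ ·) pullback.condition
  haveI : Mono g := ⟨fun a b h => by
    have := congrArg (pullback.lift a b h ≫ ·) key
    simp only [pullback.lift_fst, pullback.lift_snd] at this
    exact this⟩
  exact IsOpenImmersion.of_flat_of_mono g

open CategoryTheory CategoryTheory.Limits AlgebraicGeometry in
theorem openImmersion_of_section {X S : Scheme.{u}} (f : X ⟶ S)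
    (U : S.Opens) (hiso : IsIso (morphismRestrict f U)) (hdense : CInt.IsSchematicallyDense (f ⁻¹ᵁ U))
    (V : S.Opens) (σ : (V : Scheme.{u}) ⟶ X) (hσ : σ ≫ f = V.ι) (v : V) :
    ∃ W : X.Opens, σ v ∈ W ∧ IsOpenImmersion (W.ι ≫ f) := by
  haveI : IsImmersion (σ ≫ f) := by rw [hσ]; infer_instance
  haveI : IsImmersion σ := IsImmersion.of_comp σ f
  let W := σ.coborderRange ⊓ f ⁻¹ᵁ V
  have hσV : ∀ y, σ y ∈ W := fun y => by
    refine ⟨?_, ?_⟩
    · exact (congrArg (· ∈ σ.coborderRange) (congrArg (fun t : (V : Scheme.{u}) ⟶ X => t y) σ.liftCoborder_ι)).mp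
        (σ.liftCoborder y).2
    · show (σ ≫ f) y ∈ V
      rw [hσ]; exact y.2
  have hr : Set.range σ.base ⊆ Set.range W.ι.base := by
    rintro _ ⟨y, rfl⟩
    rw [Scheme.Opens.range_ι]
    exact hσV y
  let c : (V : Scheme.{u}) ⟶ W := IsOpenImmersion.lift W.ι σ hr
  have hc : c ≫ W.ι = σ := IsOpenImmersion.lift_fac _ _ _
  haveI : IsClosedImmersion (c ≫ X.homOfLE (inf_le_left : W ≤ σ.coborderRange)) := by
    rw [show c ≫ X.homOfLE (inf_le_left : W ≤ σ.coborderRange) = σ.liftCoborder from by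
      rw [← cancel_mono σ.coborderRange.ι, Category.assoc, X.homOfLE_ι, hc, σ.liftCoborder_ι]]
    infer_instance
  haveI : IsClosedImmersion c := IsClosedImmersion.of_comp c (X.homOfLE (inf_le_left : W ≤ σ.coborderRange))
  refine ⟨W, hσV v, ?_⟩
  let g : (W : Scheme.{u}) ⟶ V := X.homOfLE (inf_le_right : W ≤ f ⁻¹ᵁ V) ≫ morphismRestrict f V
  have hg : g ≫ V.ι = W.ι ≫ f := by rw [Category.assoc, morphismRestrict_ι, X.homOfLE_ι_assoc]
  have hcg : c ≫ g = 𝟙 _ := by rw [← cancel_mono V.ι, Category.assoc, hg, reassoc_of% hc, hσ, Category.id_comp]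
  let W' := W.ι ⁻¹ᵁ (f ⁻¹ᵁ U)
  have hfac : (W'.ι ≫ g) ≫ c = W'.ι := by
    rw [← cancel_mono W.ι, Category.assoc, hc]
    have h1 : Set.range ((W'.ι ≫ g) ≫ σ).base ⊆ Set.range (f ⁻¹ᵁ U).ι.base := by
      rintro _ ⟨z, rfl⟩
      rw [Scheme.Opens.range_ι]
      show (((W'.ι ≫ g) ≫ σ) ≫ f) z ∈ U
      rw [Category.assoc, hσ, Category.assoc, hg]
      exact z.2
    have h2 : Set.range (W'.ι ≫ W.ι).base ⊆ Set.range (f ⁻¹ᵁ U).ι.base := by
      rintro _ ⟨z, rfl⟩
      rw [Scheme.Opens.range_ι]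
      exact z.2
    rw [← IsOpenImmersion.lift_fac _ _ h1, ← IsOpenImmersion.lift_fac _ _ h2]
    congr 1
    refine eq_of_iso_restrict f U hiso _ _ ?_
    rw [IsOpenImmersion.lift_fac_assoc, IsOpenImmersion.lift_fac_assoc]
    simp only [Category.assoc, hσ, hg]
  haveI : IsIso c := SchDenseLib.isIso_of_factor W' (NeronDescLib.dense_restrict W _ hdense) c (W'.ι ≫ g) hfac
  rw [← hg, IsIso.eq_inv_of_hom_inv_id hcg]
  infer_instance

open CategoryTheory AlgebraicGeometry in
/-- Let S be a Noetherian scheme, U ⊆ S a dense open subscheme and f : X → S a morphism locally of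
finite type which restricts to an isomorphism over U and for which the preimage of U is
schematically dense in X. For a point x of X the following are equivalent: f is étale on some open
neighbourhood of x; f is flat at x, that is, the local ring of X at x is flat over the local ring of
S at f(x); some open neighbourhood V of f(x) carries a section σ of f over V passing through x. -/
theorem result
    {X S : Scheme.{u}} [IsNoetherian S] (f : X ⟶ S) [LocallyOfFiniteType f]
    (U : S.Opens) (hU : Dense (U : Set S))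
    (hiso : IsIso (morphismRestrict f U)) (hdense : CInt.IsSchematicallyDense (f ⁻¹ᵁ U))
    (x : X) :
    List.TFAE [
      ∃ W : X.Opens, x ∈ W ∧ Etale (W.ι ≫ f),
      (f.stalkMap x).hom.Flat,
      ∃ (V : S.Opens) (hV : f.base x ∈ V) (σ : (V : Scheme.{u}) ⟶ X),
        σ ≫ f = V.ι ∧ σ.base ⟨f.base x, hV⟩ = x] := by
  tfae_have 2 → 1 := fun h => by
    obtain ⟨W, hxW, hW⟩ := openImmersion_of_flat f U hiso hdense x h
    exact ⟨W, hxW, inferInstance⟩
  tfae_have 1 → 2 := by
    rintro ⟨W, hxW, hW⟩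
    have := Flat.stalkMap (W.ι ≫ f) ⟨x, hxW⟩
    rw [Scheme.Hom.stalkMap_comp] at this
    let w : W.toScheme := ⟨x, hxW⟩
    have h2 : ((f.stalkMap (W.ι w) ≫ W.ι.stalkMap w) ≫ inv (W.ι.stalkMap w)).hom.Flat :=
      RingHom.Flat.comp this (RingHom.Flat.of_bijective (ConcreteCategory.bijective_of_isIso (inv (W.ι.stalkMap w))))
    rw [Category.assoc, IsIso.hom_inv_id, Category.comp_id] at h2
    exact h2
  tfae_have 2 → 3 := fun h => by
    obtain ⟨W, hxW, hW⟩ := openImmersion_of_flat f U hiso hdense x h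
    let g := W.ι ≫ f
    have hV : f.base x ∈ g.opensRange := ⟨⟨x, hxW⟩, rfl⟩
    refine ⟨g.opensRange, hV, g.isoOpensRange.inv ≫ W.ι, ?_, ?_⟩
    · rw [Category.assoc]
      exact Scheme.Hom.isoOpensRange_inv_comp g
    · have e : g.isoOpensRange.hom ⟨x, hxW⟩ = ⟨f.base x, hV⟩ := Subtype.ext (by
        show (g.isoOpensRange.hom ≫ g.opensRange.ι) ⟨x, hxW⟩ = _
        rw [Scheme.Hom.isoOpensRange_hom_ι]
        rfl)
      rw [← e]
      show (g.isoOpensRange.hom ≫ g.isoOpensRange.inv ≫ W.ι) ⟨x, hxW⟩ = x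
      rw [Iso.hom_inv_id_assoc]
      rfl
  tfae_have 3 → 1 := by
    rintro ⟨V, hV, σ, hσ, hσx⟩
    obtain ⟨W, hxW, hW⟩ := openImmersion_of_section f U hiso hdense V σ hσ ⟨f.base x, hV⟩
    exact ⟨W, hσx ▸ hxW, inferInstance⟩
  tfae_finish

end Groth.Agent.S17728
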