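import Groth.Statements.S17729
import Groth.Agent.NodeThickJetLib.Point
import Groth.Agent.StrictSSLib.Ev
import Groth.Agent.Unram17Lib.ArtinLiftingScheme
import Groth.Agent.AffContLib.Semi
-- import your own Groth.Agent.* helpers here

set_option autoImplicit false
universe u
open DualGr

namespace Groth.Agent.S17729

open IsLocalRing NodeThickJetLib

theorem fst_eq_zero_of_mem {R : Type u} [CommRing R] {A : Type u} [CommRing A] [IsLocalRing A]
    {k : Type u} [Field k] (g : A →+* T k) (hg : Function.Surjective g) {x : A} (hx : x ∈ maximalIdeal A) :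
    (g x).fst = 0 := by
  haveI : Nontrivial (T k) := ⟨⟨0, 1, fun h => zero_ne_one (congrArg TrivSqZeroExt.fst h)⟩⟩
  haveI : IsLocalHom g := IsLocalHom.of_surjective g hg
  by_contra h
  exact hx (IsLocalHom.map_nonunit x (TrivSqZeroExt.isUnit_iff_isUnit_fst.2 (isUnit_iff_ne_zero.2 h)))

theorem exists_tangents {R A : Type u} [CommRing R] [IsLocalRing R] [IsNoetherianRing R]
    [CommRing A] [IsLocalRing A] [IsNoetherianRing A] (a : R) (e : Curv2.cpl A ≃+* DualGr.nodeRing R a)
    {k : Type u} [Field k] (θ : Curv2.cpl R →+* k) (hθ : Function.Surjective θ)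
    (ha : θ (algebraMap R _ a) = 0) :
    ∃ x : Fin 2 → A, ∀ j, (nodeJet θ a ha (e (algebraMap A _ (x j)))).snd = Pi.single j 1 := by
  let g : Curv2.cpl A →+* T k := (nodeJet θ a ha).comp e.toRingHom
  have hg : Function.Surjective g := (nodeJet_surjective θ hθ a ha).comp e.surjective
  have hm : ∀ r ∈ maximalIdeal A ^ 2, g (algebraMap A _ r) = 0 := by
    intro r hr
    have h1 : ∀ r ∈ maximalIdeal A, (g (algebraMap A _ r)).fst = 0 := fun r hr =>
      fst_eq_zero_of_mem (R := R) g hg (by
        rw [AdicCompletion.maximalIdeal_eq_map]; exact Ideal.mem_map_of_mem _ hr)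
    suffices maximalIdeal A ^ 2 ≤ RingHom.ker (g.comp (algebraMap A (Curv2.cpl A))) from this hr
    rw [pow_two, Ideal.mul_le]
    intro s hs t ht
    show g (algebraMap A _ (s * t)) = 0
    rw [map_mul, map_mul]
    refine TrivSqZeroExt.ext ?_ ?_
    · simp [h1 s hs]
    · simp [TrivSqZeroExt.snd_mul, h1 s hs, h1 t ht]
  have hx : ∀ j, ∃ x : A, (g (algebraMap A _ x)).snd = Pi.single j 1 := fun j => by
    obtain ⟨z, hz⟩ := hg (TrivSqZeroExt.inr (Pi.single j 1))
    obtain ⟨x, hx⟩ := comp_eq_of_vanish g 2 hm z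
    exact ⟨x, by rw [← hx, hz]; simp⟩
  choose x hx using hx
  exact ⟨x, hx⟩

theorem exists_point {R A : Type u} [CommRing R] [IsLocalRing R] [IsNoetherianRing R]
    [IsAdicComplete (maximalIdeal R) R] [CommRing A] [IsLocalRing A] [IsNoetherianRing A] (φ : R →+* A) (a : R)
    (hnode : DualGr.IsThickNode φ a) (p : Ideal R) [p.IsPrime] (hap : a ∈ p) :
    ∃ q : PrimeSpectrum A, q.asIdeal.comap φ = p ∧
      ¬ ((algebraMap A (Localization.AtPrime q.asIdeal)).comp φ).FormallySmooth := by
  obtain ⟨e, he⟩ := hnode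
  let ω := (AdicCompletion.ofAlgEquiv (maximalIdeal R)).symm.toRingEquiv
  have hω : ∀ r, ω (algebraMap R _ r) = r := fun r => AdicCompletion.ofAlgEquiv_symm_of (maximalIdeal R) r
  have hbij : Function.Surjective (algebraMap R (Curv2.cpl R)) := fun z =>
    ⟨ω z, ω.injective (hω _)⟩
  haveI : Nontrivial (R ⧸ p) := Ideal.Quotient.nontrivial_iff.2 ‹p.IsPrime›.ne_top
  haveI : IsLocalRing (R ⧸ p) := IsLocalRing.of_surjective' _ Ideal.Quotient.mk_surjective
  haveI : IsDomain (R ⧸ p) := Ideal.Quotient.isDomain p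
  let θ : Curv2.cpl R →+* R ⧸ p := (Ideal.Quotient.mk p).comp ω.toRingHom
  have hθ : ∀ r, θ (algebraMap R _ r) = Ideal.Quotient.mk p r := fun r => congrArg (Ideal.Quotient.mk p) (hω r)
  have ha : θ (algebraMap R _ a) = 0 := (hθ a).trans (Ideal.Quotient.eq_zero_iff_mem.2 hap)
  let fst₀ := (TrivSqZeroExt.fstHom (R ⧸ p) (R ⧸ p) (Fin 2 → R ⧸ p)).toRingHom
  let Qb : Ideal (DualGr.nodeRing R a) := RingHom.ker (fst₀.comp (nodeJet θ a ha))
  haveI : Qb.IsPrime := RingHom.ker_isPrime _
  let inc : A →+* DualGr.nodeRing R a := e.toRingHom.comp (algebraMap A (Curv2.cpl A))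
  let q : PrimeSpectrum A := ⟨Qb.comap inc, inferInstance⟩
  have hinc : ∀ r, nodeJet θ a ha (inc (φ r)) = TrivSqZeroExt.inl (Ideal.Quotient.mk p r) := fun r => by
    show nodeJet θ a ha (e (algebraMap A _ (φ r))) = _
    rw [he, nodeJet_mk, MvPowerSeries.map_C, jet_C, hθ]
  have hqp : q.asIdeal.comap φ = p := by
    ext r
    show fst₀ (nodeJet θ a ha (inc (φ r))) = 0 ↔ _
    rw [hinc]
    simp [fst₀, Ideal.Quotient.eq_zero_iff_mem]
  refine ⟨q, hqp, fun hFS => ?_⟩
  let L := Localization.AtPrime q.asIdeal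
  letI : Algebra R L := ((algebraMap A L).comp φ).toAlgebra
  haveI : Algebra.FormallySmooth R L := hFS
  -- jets with values in the fraction field
  let K := FractionRing (R ⧸ p)
  let θK : Curv2.cpl R →+* K := (algebraMap (R ⧸ p) K).comp θ
  have haK : θK (algebraMap R _ a) = 0 := by rw [RingHom.comp_apply, ha, map_zero]
  let ΨA : A →+* T K := (nodeJet θK a haK).comp inc
  have hΨfst : ∀ x, (ΨA x).fst = algebraMap (R ⧸ p) K (nodeJet θ a ha (inc x)).fst := fun x =>
    (nodeJet_comp (algebraMap (R ⧸ p) K) θ a ha (inc x)).1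
  have hΨsnd : ∀ x i, (ΨA x).snd i = algebraMap (R ⧸ p) K ((nodeJet θ a ha (inc x)).snd i) := fun x =>
    (nodeJet_comp (algebraMap (R ⧸ p) K) θ a ha (inc x)).2
  have hu : ∀ s : q.asIdeal.primeCompl, IsUnit (ΨA s) := fun s => by
    refine TrivSqZeroExt.isUnit_iff_isUnit_fst.2 (isUnit_iff_ne_zero.2 fun h => s.2 ?_)
    rw [hΨfst] at h
    exact IsFractionRing.injective (R ⧸ p) K (h.trans (map_zero _).symm)
  let Ψ : L →+* T K := IsLocalization.lift hu
  have hΨ : ∀ x, Ψ (algebraMap A L x) = ΨA x := fun x => IsLocalization.lift_eq hu x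
  let pL : Ideal L := p.map (algebraMap R L)
  have hpL : pL ≤ RingHom.ker Ψ := by
    rw [Ideal.map_le_iff_le_comap]
    intro r hr
    show Ψ (algebraMap A L (φ r)) = 0
    rw [hΨ]
    refine TrivSqZeroExt.ext ?_ ?_
    · rw [hΨfst, hinc, Ideal.Quotient.eq_zero_iff_mem.2 hr]; simp
    · funext i; rw [hΨsnd, hinc]; simp
  let F := L ⧸ pL
  let ΨF : F →+* T K := Ideal.Quotient.lift pL Ψ fun x hx => hpL hx
  haveI : Nontrivial (T K) := ⟨⟨0, 1, fun h => zero_ne_one (congrArg TrivSqZeroExt.fst h)⟩⟩
  haveI : Nontrivial F := ΨF.domain_nontrivial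
  haveI : IsLocalRing F := IsLocalRing.of_surjective' _ Ideal.Quotient.mk_surjective
  haveI : IsNoetherianRing L := IsLocalization.isNoetherianRing q.asIdeal.primeCompl L inferInstance
  haveI : IsNoetherianRing F := inferInstance
  -- the fibre is formally smooth over the residue field
  haveI : Algebra.FormallySmooth (R ⧸ p) F := CohenLib.formallySmooth_quotient R L p
  have hunit : ∀ s : nonZeroDivisors (R ⧸ p), IsUnit (algebraMap (R ⧸ p) F s) := by
    rintro ⟨s, hs⟩
    obtain ⟨r, rfl⟩ := Ideal.Quotient.mk_surjective s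
    have hr : φ r ∉ q.asIdeal := fun h => nonZeroDivisors.ne_zero hs
      (Ideal.Quotient.eq_zero_iff_mem.2 (hqp.le h))
    exact (IsLocalization.map_units L (⟨φ r, hr⟩ : q.asIdeal.primeCompl)).map (Ideal.Quotient.mk pL)
  letI : Algebra K F := (IsLocalization.lift hunit : K →+* F).toAlgebra
  haveI : IsScalarTower (R ⧸ p) K F :=
    IsScalarTower.of_algebraMap_eq fun r => (IsLocalization.lift_eq hunit r).symm
  haveI : Algebra.FormallyEtale (R ⧸ p) K := Algebra.FormallyEtale.of_isLocalization (nonZeroDivisors (R ⧸ p))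
  haveI : Algebra.FormallySmooth K F := Algebra.FormallySmooth.iff_restrictScalars.1 ‹_›
  haveI : IsRegularLocalRing F := CohenLib.isRegularLocalRing_of_formallySmooth (k := K)
  -- two tangents
  let k := ResidueField (R ⧸ p)
  let θk : Curv2.cpl R →+* k := (residue (R ⧸ p)).comp θ
  have hak : θk (algebraMap R _ a) = 0 := by rw [RingHom.comp_apply, ha, map_zero]
  obtain ⟨x, hx⟩ := exists_tangents a e θk (fun y => by
    obtain ⟨y, rfl⟩ := residue_surjective y
    obtain ⟨r, rfl⟩ := Ideal.Quotient.mk_surjective y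
    exact ⟨algebraMap R _ r, congrArg (residue (R ⧸ p)) (hθ r)⟩) hak
  have hx' : ∀ j, ∃ y : A, (nodeJet θ a ha (inc y)).fst = 0 ∧ ∀ i,
      residue (R ⧸ p) ((nodeJet θ a ha (inc y)).snd i) = (Pi.single j 1 : Fin 2 → k) i := fun j => by
    obtain ⟨r, hr⟩ := Ideal.Quotient.mk_surjective (nodeJet θ a ha (inc (x j))).fst
    refine ⟨x j - φ r, ?_, fun i => ?_⟩
    · rw [map_sub, map_sub, hinc, TrivSqZeroExt.fst_sub, TrivSqZeroExt.fst_inl, hr, sub_self]
    · rw [map_sub, map_sub, hinc, TrivSqZeroExt.snd_sub, TrivSqZeroExt.snd_inl, sub_zero,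
        ← (nodeJet_comp (residue (R ⧸ p)) θ a ha (inc (x j))).2 i]
      exact congrFun (hx j) i
  choose y hy0 hy using hx'
  have hd : algebraMap (R ⧸ p) K ((nodeJet θ a ha (inc (y 0))).snd 0 * (nodeJet θ a ha (inc (y 1))).snd 1 -
      (nodeJet θ a ha (inc (y 0))).snd 1 * (nodeJet θ a ha (inc (y 1))).snd 0) ≠ 0 := by
    intro h
    have h' := congrArg (residue (R ⧸ p)) (IsFractionRing.injective (R ⧸ p) K (h.trans (map_zero _).symm))
    simp [map_sub, map_mul, hy] at h'
  let toF : A →+* F := (Ideal.Quotient.mk pL).comp (algebraMap A L)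
  have hΨF : ∀ x, ΨF (toF x) = ΨA x := fun x => hΨ x
  have hMq : ∀ x : A, toF x ∈ maximalIdeal F ↔ x ∈ q.asIdeal := fun x => by
    haveI : IsLocalHom (Ideal.Quotient.mk pL) := IsLocalHom.of_surjective _ Ideal.Quotient.mk_surjective
    exact (IsLocalRing.maximalIdeal_comap (Ideal.Quotient.mk pL) ▸ Iff.rfl :
      toF x ∈ maximalIdeal F ↔ algebraMap A L x ∈ maximalIdeal L).trans
      (IsLocalization.AtPrime.to_map_mem_maximal_iff L q.asIdeal x)
  have hM : ∀ z ∈ maximalIdeal F, (ΨF z).fst = 0 := by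
    intro z hz
    obtain ⟨l, rfl⟩ := Ideal.Quotient.mk_surjective z
    obtain ⟨x, s, rfl⟩ := IsLocalization.exists_mk'_eq q.asIdeal.primeCompl l
    have h1 : toF x = Ideal.Quotient.mk pL (IsLocalization.mk' L x s) * toF s := by
      show Ideal.Quotient.mk pL _ = Ideal.Quotient.mk pL _ * Ideal.Quotient.mk pL _
      rw [← map_mul, IsLocalization.mk'_spec]
    have h2 : x ∈ q.asIdeal := (hMq x).1 (h1 ▸ Ideal.mul_mem_right _ _ hz)
    have h3 := congrArg (fun t => (ΨF t).fst) h1
    simp only [map_mul, hΨF, TrivSqZeroExt.fst_mul] at h3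
    rw [hΨfst, show (nodeJet θ a ha (inc x)).fst = 0 from h2, map_zero] at h3
    exact (mul_eq_zero.1 h3.symm).resolve_right fun h => s.2 (by
      rw [hΨfst] at h
      exact IsFractionRing.injective (R ⧸ p) K (h.trans (map_zero _).symm))
  refine not_principal ΨF (maximalIdeal F) (fun j => toF (y j)) (fun j => (hMq _).2 (hy0 j)) hM ?_
    (isPrincipal_of_regular F ?_)
  · simpa [hΨF, hΨsnd] using hd
  -- no chain of length two
  by_contra hdim
  have h2 : (2 : ℕ) ≤ Order.krullDim (PrimeSpectrum F) := by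
    have h := not_le.1 hdim
    obtain ⟨n, hn⟩ : ∃ n : ℕ, ringKrullDim F = n := ⟨_, ((isRegularLocalRing_iff F).1 inferInstance).symm⟩
    change (2 : ℕ) ≤ ringKrullDim F
    rw [hn] at h ⊢
    norm_cast at h ⊢
  obtain ⟨l, hl⟩ := Order.le_krullDim_iff.1 h2
  let P : Fin (l.length + 1) → PrimeSpectrum A := fun i => PrimeSpectrum.comap toF (l i)
  have hPinj : Function.Injective (PrimeSpectrum.comap toF) := by
    intro u v huv
    have := (PrimeSpectrum.localization_comap_injective L q.asIdeal.primeCompl).comp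
      (PrimeSpectrum.comap_injective_of_surjective _ (Ideal.Quotient.mk_surjective (I := pL)))
    exact this huv
  have hmono : StrictMono (PrimeSpectrum.comap toF) :=
    Monotone.strictMono_of_injective (fun u v h => Ideal.comap_mono h) hPinj
  have h01 : (P ⟨0, by omega⟩).asIdeal < (P ⟨1, by omega⟩).asIdeal := hmono (l.strictMono (by simp [Fin.lt_def]))
  have h12 : (P ⟨1, by omega⟩).asIdeal < q.asIdeal := by
    refine lt_of_lt_of_le (hmono (l.strictMono (show (⟨1, by omega⟩ : Fin (l.length + 1)) < ⟨2, by omega⟩ by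
      simp [Fin.lt_def]))) fun z hz => (hMq z).1 (le_maximalIdeal (l ⟨2, by omega⟩).2.ne_top hz)
  letI : Algebra A (DualGr.nodeRing R a) := inc.toAlgebra
  haveI : Module.Flat A (DualGr.nodeRing R a) := by
    haveI : Module.Flat A (Curv2.cpl A) := AdicCompletion.flat_of_isNoetherian (maximalIdeal A)
    exact RingHom.Flat.comp (RingHom.flat_algebraMap_iff.2 ‹_›) (RingHom.Flat.of_bijective e.bijective)
  haveI : Qb.LiesOver q.asIdeal := ⟨rfl⟩
  haveI : Algebra.HasGoingDown A (DualGr.nodeRing R a) := Algebra.HasGoingDown.of_flat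
  obtain ⟨Q₁, hQ1lt, hQ1p, hQ1o⟩ :=
    Ideal.exists_ideal_lt_liesOver_of_lt (p := (P ⟨1, by omega⟩).asIdeal) (q := q.asIdeal) Qb h12
  haveI := hQ1p
  haveI := hQ1o
  obtain ⟨Q₀, hQ0lt, hQ0p, hQ0o⟩ :=
    Ideal.exists_ideal_lt_liesOver_of_lt (p := (P ⟨0, by omega⟩).asIdeal) Q₁ h01
  haveI := hQ0p
  refine no_chain_node p hbij θ hθ a ha Q₀ Q₁ (fun r hr => ?_) hQ0lt hQ1lt
  rw [← he r]
  have : φ r ∈ (P ⟨0, by omega⟩).asIdeal := by
    show toF (φ r) ∈ (l ⟨0, by omega⟩).asIdeal
    rw [show toF (φ r) = 0 from Ideal.Quotient.eq_zero_iff_mem.2 (Ideal.mem_map_of_mem (algebraMap R L) hr)]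
    exact zero_mem _
  rw [hQ0o.over] at this
  exact this

open CategoryTheory AlgebraicGeometry IsLocalRing in
/-- Let R be a complete Noetherian local ring and C → Spec R a morphism locally of finite type, smooth
over a schematically dense open subscheme U of Spec R. Let c be a point of C over the closed point
whose local ring is formally a node of thickness (a) over R for an element a of R: the completion of
the local ring at c is isomorphic, compatibly with R, to R̂[[x,y]]/(xy − a). Then a is a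
non-zero-divisor in R. (The published statement is for a semistable curve over a locally Noetherian
base and a non-smooth point over a separably closed field, with the node presentation supplied by
the local structure of such curves; it is stated here over the spectrum of a complete Noetherian
local ring with the node presentation as a hypothesis, the case to which the argument reduces, and
semistability plays no further role.) -/
theorem result
    (R : Type u) [CommRing R] [IsNoetherianRing R] [IsLocalRing R]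
    [IsAdicComplete (maximalIdeal R) R]
    {C : Scheme.{u}} (f : C ⟶ Spec (CommRingCat.of R)) [LocallyOfFiniteType f]
    (U : (Spec (CommRingCat.of R)).Opens) (hU : CInt.IsSchematicallyDense U)
    (hsm : Smooth (morphismRestrict f U))
    (c : C) (hc : f.base c = closedPoint R) (a : R)
    (hnode : DualGr.IsThickNode (DualGr.stalkHom f c) a) :
    a ∈ nonZeroDivisors R := by
  haveI : IsLocallyNoetherian C := LocallyOfFiniteType.isLocallyNoetherian f
  rw [mem_nonZeroDivisors_iff_right]
  intro b hb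
  have hU' : U ≤ PrimeSpectrum.basicOpen a := by
    intro P hP
    by_contra hPa
    have hap : a ∈ P.asIdeal := Classical.not_not.1 hPa
    haveI : P.asIdeal.IsPrime := P.isPrime
    obtain ⟨q, hqp, hns⟩ := exists_point (DualGr.stalkHom f c) a hnode P.asIdeal hap
    apply hns
    have hsm' := hsm
    let g := C.fromSpecStalk c
    have hgf : g ≫ f = Spec.map (CommRingCat.ofHom (DualGr.stalkHom f c)) := by
      simp [g, DualGr.stalkHom, Coh.toGlobal, CommRingCat.ofHom_comp, Spec.map_comp]
      rw [← Scheme.fromSpecStalk_toSpecΓ_assoc, ← Scheme.toSpecΓ_naturality_assoc]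
      simp
    let qq : Spec (C.presheaf.stalk c) := q
    have hfz : f (g qq) = P := by
      show (g ≫ f) qq = P
      rw [hgf]
      exact PrimeSpectrum.ext hqp
    have hz : g qq ∈ f ⁻¹ᵁ U := by
      show f (g qq) ∈ U
      rw [hfz]; exact hP
    have h1 : (f.stalkMap (g qq)).hom.FormallySmooth := by
      refine (Unram17Lib.ArtinLifting.smooth_nhd_iff f (g qq)).1 ⟨f ⁻¹ᵁ U, hz, ?_⟩
      rw [← morphismRestrict_ι]
      infer_instance
    haveI := AlgSpLib.flat_fromSpecStalk c
    have h2 : IsIso (g.stalkMap qq) := AffContLib.isIso_stalkMap_of_flat_preimmersion g qq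
    haveI : (f (g qq)).asIdeal.IsPrime := PrimeSpectrum.isPrime _
    have h3 : (StrictSSLib.ev (𝟙 (Spec (CommRingCat.of R))) (f (g qq))).FormallySmooth := by
      have e : StrictSSLib.ev (𝟙 (Spec (CommRingCat.of R))) (f (g qq)) =
          (StrictSSLib.stalkEquiv _ (f (g qq))).symm.toRingHom.comp
            (algebraMap R (Localization.AtPrime (f (g qq)).asIdeal)) := RingHom.ext fun r =>
        (StrictSSLib.stalkEquiv _ (f (g qq))).injective
          ((StrictSSLib.stalkEquiv_ev _ _ r).trans ((StrictSSLib.stalkEquiv _ _).apply_symm_apply _).symm)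
      rw [e]
      exact (RingHom.formallySmooth_algebraMap.2
        (Algebra.FormallySmooth.of_isLocalization (f (g qq)).asIdeal.primeCompl)).comp
        (RingHom.FormallySmooth.of_bijective (StrictSSLib.stalkEquiv _ (f (g qq))).symm.bijective)
    have h4 : (StrictSSLib.ev f (g qq)).FormallySmooth := by
      rw [← Category.comp_id f, StrictSSLib.ev_comp]
      exact h3.comp h1
    have h5 : (StrictSSLib.ev (g ≫ f) qq).FormallySmooth := by
      rw [StrictSSLib.ev_comp]
      exact h4.comp (RingHom.FormallySmooth.of_bijective ((ConcreteCategory.isIso_iff_bijective _).1 h2))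
    rw [hgf, ← Category.id_comp (Spec.map _), StrictSSLib.ev_base] at h5
    have h6 := h5.comp (RingHom.FormallySmooth.of_bijective (StrictSSLib.stalkEquiv (C.presheaf.stalk c) qq).bijective)
    have e6 : (StrictSSLib.stalkEquiv (C.presheaf.stalk c) qq).toRingHom.comp
        ((StrictSSLib.ev (𝟙 _) qq).comp (DualGr.stalkHom f c)) =
        (algebraMap (C.presheaf.stalk c) (Localization.AtPrime q.asIdeal)).comp (DualGr.stalkHom f c) :=
      RingHom.ext fun r => StrictSSLib.stalkEquiv_ev _ qq _
    rw [← e6]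
    exact h6
  let ι := (Scheme.ΓSpecIso (CommRingCat.of R)).inv.hom
  let res := ((Spec (CommRingCat.of R)).presheaf.map (homOfLE (inf_le_left : ⊤ ⊓ U ≤ ⊤)).op).hom
  have hu : IsUnit (res (ι a)) := by
    have hle : ⊤ ⊓ U ≤ (Spec (CommRingCat.of R)).basicOpen (ι a) := by
      rw [top_inf_eq, AlgebraicGeometry.basicOpen_eq_of_affine']
      simpa [ι] using hU'
    have := RingedSpace.isUnit_res_basicOpen _ (ι a)
    have e : res = ((Spec (CommRingCat.of R)).presheaf.map (homOfLE hle).op).hom.comp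
        ((Spec (CommRingCat.of R)).presheaf.map (homOfLE le_top).op).hom := by
      rw [← CommRingCat.hom_comp, ← Functor.map_comp]
      rfl
    rw [e]
    exact IsUnit.map ((Spec (CommRingCat.of R)).presheaf.map (homOfLE hle).op).hom this
  have hb0 : res (ι b) = 0 := by
    refine hu.mul_left_eq_zero.1 ?_
    rw [← map_mul, ← map_mul, hb, map_zero, map_zero]
  have := hU ⊤ (a₁ := ι b) (a₂ := 0) (hb0.trans (map_zero res).symm)
  exact (Scheme.ΓSpecIso (CommRingCat.of R)).commRingCatIsoToRingEquiv.symm.injective (this.trans (map_zero _).symm)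

end Groth.Agent.S17729
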