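import Groth.Statements.S17734
import Groth.Agent.SpreadLocLib.Spread
import Groth.Agent.RichLib.LimitBaseChange
import Groth.Agent.LimHomLib.Descend
import Groth.Agent.LimLocFreeLib.Main
import Groth.Agent.CurvLib.EulerTensor
import Groth.Agent.AmpleQSecLib.Main
import Groth.Agent.AmpleDevLib.Devissage
import Groth.Agent.TwistLib.SpecSections
import Groth.Agent.MiscFlat6.FreeStalks

set_option autoImplicit false
set_option linter.style.haveILetI false
set_option backward.isDefEq.respectTransparency false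
universe u
open PicF

namespace Groth.Agent.S17734

section
open CategoryTheory CategoryTheory.Limits AlgebraicGeometry TopologicalSpace Opposite

variable {B : Type u} [CommRing B] (M : Submonoid B) (A : Type u) [CommRing A] [Algebra B A] [IsLocalization M A]

/-- The neighbourhoods of a localization, as a system of schemes affine over the spectrum. -/
noncomputable abbrev sys : RichLib.LimBC.Sys (Finset M)ᵒᵖ (Spec (CommRingCat.of B)) where
  D := SpreadLocLib.diag M
  t k := (SpreadLocLib.nbhd M k.unop).ι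
  w a := SpreadLocLib.diag_map_ι M a
  c := SpreadLocLib.cone M A
  hc := SpreadLocLib.isLimit M A
  affine k := by
    haveI : IsAffine (SpreadLocLib.nbhd M k.unop : Scheme.{u}) := SpreadLocLib.isAffineOpen_nbhd M k.unop
    exact isAffineHom_of_isAffine _
  s := SpreadLocLib.proj A
  hs k := SpreadLocLib.cone_app_ι M A k

/-- An invertible module over a localization of the base comes from a neighbourhood. -/
theorem exists_stage {W : Scheme.{u}} (g : W ⟶ Spec (CommRingCat.of B)) [QuasiCompact g] [QuasiSeparated g]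
    (L : (pullback g (SpreadLocLib.proj (B := B) A)).Modules) (hL : PicF.IsInvertible L) :
    ∃ (k : Finset M) (L' : (pullback g (SpreadLocLib.nbhd M k).ι).Modules), PicF.IsInvertible L' ∧
      ∀ π : pullback g (SpreadLocLib.proj (B := B) A) ⟶ pullback g (SpreadLocLib.nbhd M k).ι,
        π ≫ pullback.fst _ _ = pullback.fst _ _ →
        Nonempty ((Scheme.Modules.pullback π).obj L' ≅ L) := by
  let P := RichLib.LimBC.pb (sys M A) g
  haveI : ∀ (i j : (Finset M)ᵒᵖ) (f : i ⟶ j), IsAffineHom (P.D.map f) := fun i j f => P.affine_map f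
  haveI : CompactSpace W := QuasiCompact.compactSpace_of_compactSpace g
  haveI : QuasiSeparatedSpace W := quasiSeparatedSpace_of_quasiSeparated g
  haveI : CompactSpace (P.D.obj (op ∅)) := P.compactSpace_obj _
  haveI : QuasiSeparatedSpace (P.D.obj (op ∅)) := P.quasiSeparatedSpace_obj _
  let L₀ : P.c.pt.Modules := L
  haveI : Coh.IsQCoh L₀ := TwistLib.isQCoh_of_isInvertible hL
  have hfp : CohB1.IsFP L₀ := (MiscFlat6.isFlat_and_isFP_iff.2 (AmpleDevLib.isFinLocFree_of_isInvertible hL)).2
  obtain ⟨φ, F, hFq, hFfp, ⟨e⟩⟩ := LimHomLib.exists_descend P.hc (i₀ := op ∅) L₀ hfp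
  haveI := hFq
  haveI : CompactSpace (P.D.obj φ.left) := P.compactSpace_obj _
  have hgood : LimLocFreeLib.Good (fun r => r = 1) F (P.c.π.app φ.left) := by
    refine (LimLocFreeLib.isFinLocFreeOfRank_iff F 1 _).1 ?_
    intro x
    obtain ⟨U, hU, ⟨e'⟩⟩ := CurvLib.locFree_of_isInvertible hL x
    exact ⟨U, hU, ⟨(Scheme.Modules.restrictFunctor U.ι).mapIso e ≪≫ e'⟩⟩
  obtain ⟨j, ψ, hj⟩ := (LimLocFreeLib.good_iff P.D P.c P.hc φ.left (fun r => r = 1) F hFfp).1 hgood
  refine ⟨j.unop, (Scheme.Modules.pullback (P.D.map ψ)).obj F,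
    AmpleQSecLib.isInvertible_of_rank_one ((LimLocFreeLib.isFinLocFreeOfRank_iff F 1 _).2 hj), fun π hπ => ?_⟩
  obtain rfl : π = P.c.π.app j := by
    rw [← cancel_mono (pullback.fst g (SpreadLocLib.nbhd M j.unop).ι), hπ]
    exact (P.hs j).symm
  exact ⟨(Scheme.Modules.pullbackComp _ _).app F ≪≫ (Scheme.Modules.pullbackCongr (P.c.w ψ)).app F ≪≫ e⟩

end

open CategoryTheory AlgebraicGeometry Limits in
/-- Let f : X → S be a proper morphism of finite presentation, s a point of S, and L an invertible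
module on the base change X^s of X to the spectrum of the local ring of S at s. Then there are an
open neighbourhood V of s in S and an invertible module L' on the open subscheme f⁻¹(V) = X ×_S V
such that the pullback of L' along the canonical morphism X^s → f⁻¹(V) (the unique one compatible
with the projection X^s → X) is isomorphic to L. -/
theorem result
    {X S : Scheme.{u}} (f : X ⟶ S) [IsProper f] [LocallyOfFinitePresentation f] (s : S)
    (L : (pullback f (S.fromSpecStalk s)).Modules) (hL : PicF.IsInvertible L) :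
    ∃ (V : S.Opens) (_ : s ∈ V) (L' : (↑(f ⁻¹ᵁ V) : Scheme.{u}).Modules), PicF.IsInvertible L' ∧
      ∀ (ι : pullback f (S.fromSpecStalk s) ⟶ ↑(f ⁻¹ᵁ V)),
        ι ≫ (f ⁻¹ᵁ V).ι = pullback.fst f (S.fromSpecStalk s) →
        Nonempty ((Scheme.Modules.pullback ι).obj L' ≅ L) := by
  obtain ⟨U, hU, hsU, -⟩ := exists_isAffineOpen_mem_and_subset (x := s) (U := ⊤) trivial
  let B : CommRingCat := Γ(S, U)
  let p : PrimeSpectrum B := hU.primeIdealOf ⟨s, hsU⟩
  letI : Algebra B (S.presheaf.stalk s) := (S.presheaf.germ U s hsU).hom.toAlgebra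
  haveI : IsLocalization p.asIdeal.primeCompl (S.presheaf.stalk s) := hU.isLocalization_stalk ⟨s, hsU⟩
  let g := pullback.snd f hU.fromSpec
  have hprj : SpreadLocLib.proj (B := B) (S.presheaf.stalk s) ≫ hU.fromSpec = S.fromSpecStalk s :=
    hU.fromSpecStalk_eq_fromSpecStalk hsU
  let E := pullbackLeftPullbackSndIso f hU.fromSpec (SpreadLocLib.proj (B := B) (S.presheaf.stalk s)) ≪≫
    pullback.congrHom rfl hprj
  have hL₁ : PicF.IsInvertible ((Scheme.Modules.pullback E.hom).obj L) :=
    AmpleDevLib.isInvertible_pb (f := E.hom) hL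
  obtain ⟨k, L₁, hinv, hπ⟩ := exists_stage p.asIdeal.primeCompl (S.presheaf.stalk s) g _ hL₁
  let V := hU.fromSpec ''ᵁ SpreadLocLib.nbhd p.asIdeal.primeCompl k
  have hsV : s ∈ V := by
    refine ⟨p, ?_, hU.fromSpec_primeIdealOf ⟨s, hsU⟩⟩
    have h := SpreadLocLib.proj_mem_nbhd (B := B) p.asIdeal.primeCompl (S.presheaf.stalk s) k
      (IsLocalRing.closedPoint _)
    have hp : SpreadLocLib.proj (B := B) (S.presheaf.stalk s) (IsLocalRing.closedPoint _) = p := by
      apply hU.fromSpec.isOpenEmbedding.injective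
      refine Eq.trans ?_ (hU.fromSpec_primeIdealOf ⟨s, hsU⟩).symm
      exact (congr($(hprj).base (IsLocalRing.closedPoint _))).trans (Scheme.fromSpecStalk_closedPoint)
    rw [hp] at h
    exact h
  let j : pullback g (SpreadLocLib.nbhd p.asIdeal.primeCompl k).ι ⟶ X := pullback.fst _ _ ≫ pullback.fst f hU.fromSpec
  have hr : Set.range j = Set.range (f ⁻¹ᵁ V).ι := by
    rw [Scheme.Opens.range_ι]
    ext x
    constructor
    · rintro ⟨z, rfl⟩
      refine ⟨(SpreadLocLib.nbhd p.asIdeal.primeCompl k).ι (pullback.snd g _ z), (pullback.snd g _ z).2, ?_⟩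
      show _ = f (j z)
      have h : pullback.snd g (SpreadLocLib.nbhd p.asIdeal.primeCompl k).ι ≫
          (SpreadLocLib.nbhd p.asIdeal.primeCompl k).ι ≫ hU.fromSpec = j ≫ f := by
        simp only [j, g, Category.assoc, pullback.condition]
        rw [← pullback.condition_assoc]
      exact congr($(h).base z)
    · rintro ⟨q, hq, hqx⟩
      obtain ⟨y, hy1, hy2⟩ := Scheme.Pullback.exists_preimage_pullback (f := f) (g := hU.fromSpec) x q hqx.symm
      obtain ⟨z, hz1, -⟩ := Scheme.Pullback.exists_preimage_pullback (f := g)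
        (g := (SpreadLocLib.nbhd p.asIdeal.primeCompl k).ι) y ⟨q, hq⟩ hy2
      exact ⟨z, by rw [Scheme.Hom.comp_apply, hz1, hy1]⟩
  let e := IsOpenImmersion.isoOfRangeEq j (f ⁻¹ᵁ V).ι hr
  refine ⟨V, hsV, (Scheme.Modules.pullback e.inv).obj L₁, AmpleDevLib.isInvertible_pb (f := e.inv) hinv, fun ι hι => ?_⟩
  obtain ⟨i⟩ := hπ (E.hom ≫ ι ≫ e.inv) (by
    rw [← cancel_mono (pullback.fst f hU.fromSpec)]
    simp only [Category.assoc]
    rw [show e.inv ≫ pullback.fst g _ ≫ pullback.fst f hU.fromSpec = (f ⁻¹ᵁ V).ι from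
      IsOpenImmersion.isoOfRangeEq_inv_fac _ _ _, hι]
    simp [E, g])
  refine ⟨(Scheme.Modules.pullbackComp ι e.inv).app L₁ ≪≫ ?_⟩
  exact ((Scheme.Modules.pullbackId _).app _).symm ≪≫
    (Scheme.Modules.pullbackCongr E.inv_hom_id.symm).app _ ≪≫
    ((Scheme.Modules.pullbackComp E.inv E.hom).app _).symm ≪≫
    (Scheme.Modules.pullback E.inv).mapIso ((Scheme.Modules.pullbackComp E.hom (ι ≫ e.inv)).app L₁ ≪≫ i) ≪≫
    (Scheme.Modules.pullbackComp E.inv E.hom).app L ≪≫ (Scheme.Modules.pullbackCongr E.inv_hom_id).app L ≪≫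
    (Scheme.Modules.pullbackId _).app L

end Groth.Agent.S17734
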