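import Groth.Statements.S17735
import Groth.Agent.NodeDomLib.Fibral
import Groth.Agent.RegUFDLib.Basic
import Groth.Agent.CommAlgDim.Regular
import Mathlib.RingTheory.MvPowerSeries.Equiv
import Mathlib.RingTheory.PowerSeries.NoZeroDivisors
-- import your own Groth.Agent.* helpers here

set_option autoImplicit false
universe u
open CAlg

namespace Groth.Agent.S17735

open IsLocalRing in
/-- Let R be a regular local ring complete for its maximal ideal, r a non-zero element of R, A the
quotient of the power series ring in x, y over R by xy − r, B the quotient of the polynomial ring in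
x, y over R by xy − r, ι : B → A the natural map, P the ideal of B generated by x, y and the maximal
ideal of R, à the localization of B at P and φ : à → A the map extending ι. Call a prime of height
one of A (or of Ã) fibral when it contains a non-zero element of R. Then contraction along φ is a
bijection from the set of fibral height-one primes of A onto the set of fibral height-one primes of
Ã; equivalently it induces an isomorphism between the free abelian groups of fibral Weil divisors. -/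
theorem result
    (R : Type u) [CommRing R] [IsRegularLocalRing R]
    [IsAdicComplete (maximalIdeal R) R]
    (r : R) (hr : r ≠ 0)
    (ι : (MvPolynomial (Fin 2) R ⧸ Ideal.span {(MvPolynomial.X 0 * MvPolynomial.X 1 - MvPolynomial.C r : MvPolynomial (Fin 2) R)}) →+*
      (MvPowerSeries (Fin 2) R ⧸ Ideal.span {(MvPowerSeries.X 0 * MvPowerSeries.X 1 - MvPowerSeries.C r : MvPowerSeries (Fin 2) R)}))
    (hι : ι.comp (Ideal.Quotient.mk _) =
      (Ideal.Quotient.mk _).comp (MvPolynomial.coeToMvPowerSeries.ringHom : MvPolynomial (Fin 2) R →+* MvPowerSeries (Fin 2) R))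
    (P : Ideal (MvPolynomial (Fin 2) R ⧸ Ideal.span {(MvPolynomial.X 0 * MvPolynomial.X 1 - MvPolynomial.C r : MvPolynomial (Fin 2) R)})) [P.IsPrime]
    (hP : P = Ideal.span {Ideal.Quotient.mk _ (MvPolynomial.X 0), Ideal.Quotient.mk _ (MvPolynomial.X 1)} ⊔
      (maximalIdeal R).map (algebraMap R _))
    (φ : Localization.AtPrime P →+* (MvPowerSeries (Fin 2) R ⧸ Ideal.span {(MvPowerSeries.X 0 * MvPowerSeries.X 1 - MvPowerSeries.C r : MvPowerSeries (Fin 2) R)}))
    (hφ : φ.comp (algebraMap _ (Localization.AtPrime P)) = ι) :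
    Set.BijOn (fun 𝔓 => Ideal.comap φ 𝔓)
      {𝔓 | 𝔓.IsPrime ∧ 𝔓.height = 1 ∧ Ideal.comap (algebraMap R _) 𝔓 ≠ ⊥}
      {𝔮 : Ideal (Localization.AtPrime P) | 𝔮.IsPrime ∧ @Ideal.height (Localization.AtPrime P) _ 𝔮 = 1 ∧ Ideal.comap (algebraMap R (Localization.AtPrime P)) 𝔮 ≠ ⊥} := by
  classical
  haveI : IsDomain R := CommAlgDim.isDomain_of_isRegularLocalRing R
  haveI : UniqueFactorizationMonoid R := RegUFDLib.uniqueFactorizationMonoid R
  let polyRel : MvPolynomial (Fin 2) R := MvPolynomial.X 0 * MvPolynomial.X 1 - MvPolynomial.C r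
  let B := MvPolynomial (Fin 2) R ⧸ Ideal.span {polyRel}
  let A := NodeDomLib.PS R ⧸ Ideal.span {NodeDomLib.rel r}
  let mkB : MvPolynomial (Fin 2) R →+* B := Ideal.Quotient.mk _
  let mkA : NodeDomLib.PS R →+* A := Ideal.Quotient.mk _
  have hι' : ∀ f, ι (mkB f) = mkA (f : NodeDomLib.PS R) := fun f => RingHom.congr_fun hι f
  have hrm : r ∈ maximalIdeal R := by
    by_contra h
    have hu : IsUnit (mkB (MvPolynomial.C r)) :=
      ((IsLocalRing.notMem_maximalIdeal.1 h).map MvPolynomial.C).map mkB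
    have hx : mkB (MvPolynomial.X 0) ∈ P := hP ▸ Ideal.mem_sup_left (Ideal.subset_span (Or.inl rfl))
    have heq : mkB (MvPolynomial.X 0) * mkB (MvPolynomial.X 1) = mkB (MvPolynomial.C r) := by
      rw [← map_mul]; exact Ideal.Quotient.eq.2 (Ideal.mem_span_singleton_self _)
    exact (Ideal.IsPrime.ne_top inferInstance) (Ideal.eq_top_of_isUnit_mem _ (heq ▸ P.mul_mem_right _ hx) hu)
  obtain ⟨ser, hser⟩ := NodeDomLib.exists_ser hrm
  haveI := NodeDomLib.rel_span_isPrime hrm hr hser
  haveI : IsDomain A := Ideal.Quotient.isDomain _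
  have hιinj : Function.Injective ι := by
    rw [injective_iff_map_eq_zero]
    intro b hb
    obtain ⟨f, rfl⟩ := Ideal.Quotient.mk_surjective b
    change mkB f = 0
    rw [Ideal.Quotient.eq_zero_iff_mem]
    apply NodeDomLib.poly_mem_span_of_mem (NodeDomLib.sep_of_mem hrm)
    rw [← Ideal.Quotient.eq_zero_iff_mem]
    exact (hι' f) ▸ hb
  let L := Localization.AtPrime P
  let φ' : L →+* A := φ
  let α : B →+* L := algebraMap B L
  have hφα : ∀ b, φ' (α b) = ι b := fun b => RingHom.congr_fun hφ b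
  have hφinj : Function.Injective φ' := by
    rw [injective_iff_map_eq_zero]
    intro z hz
    obtain ⟨⟨b, s⟩, hbs⟩ := IsLocalization.surj P.primeCompl z
    have hb : φ' (α b) = 0 := by rw [← hbs, map_mul, hz, zero_mul]
    rw [hφα, ← map_zero ι] at hb
    rw [show b = 0 from hιinj hb, map_zero] at hbs
    exact (IsLocalization.map_units L s).mul_left_eq_zero.1 hbs
  haveI : IsDomain L := hφinj.isDomain φ'
  haveI : IsNoetherianRing L := IsLocalization.isNoetherianRing (R := B) P.primeCompl L inferInstance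
  haveI : IsNoetherianRing A := inferInstance
  let iA : R →+* A := algebraMap R A
  let iL : R →+* L := algebraMap R L
  have hiA : ∀ a, iA a = mkA (MvPowerSeries.C a) := fun a => by
    show algebraMap R A a = _
    rw [← Ideal.Quotient.mk_algebraMap]; rfl
  let xA : A := mkA (MvPowerSeries.X 0)
  let yA : A := mkA (MvPowerSeries.X 1)
  let xL : L := α (mkB (MvPolynomial.X 0))
  let yL : L := α (mkB (MvPolynomial.X 1))
  have hiL : ∀ a, iL a = α (mkB (MvPolynomial.C a)) := fun a => by
    show algebraMap R L a = _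
    rw [IsScalarTower.algebraMap_apply R B L]; rfl
  have hφi : ∀ a, φ' (iL a) = iA a := fun a => by rw [hiL, hφα, hι', hiA, MvPolynomial.coe_C]
  have hφx : φ' xL = xA := by rw [hφα, hι', MvPolynomial.coe_X]
  have hφy : φ' yL = yA := by rw [hφα, hι', MvPolynomial.coe_X]
  have hiAinj : Function.Injective iA := by
    rw [injective_iff_map_eq_zero]
    intro a ha
    have h0 : ι (mkB (MvPolynomial.C a)) = 0 := by rw [hι', MvPolynomial.coe_C, ← hiA, ha]
    rw [← map_zero ι] at h0
    have := hιinj h0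
    rw [Ideal.Quotient.eq_zero_iff_mem, Ideal.mem_span_singleton] at this
    obtain ⟨g, hg⟩ := this
    by_contra ha0
    let ev : MvPolynomial (Fin 2) R →+* Polynomial (FractionRing R) := MvPolynomial.eval₂Hom
      (Polynomial.C.comp (algebraMap R (FractionRing R)))
      ![Polynomial.C (algebraMap R (FractionRing R) r), 1]
    have hev : ev polyRel = 0 := by simp [ev, polyRel]
    have hz := congrArg ev hg
    rw [map_mul, hev, zero_mul] at hz
    simp only [ev, MvPolynomial.eval₂Hom_C, RingHom.comp_apply, Polynomial.C_eq_zero] at hz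
    exact ha0 ((map_eq_zero_iff _ (IsFractionRing.injective R (FractionRing R))).1 hz)
  have hiLinj : Function.Injective iL := fun a b h => hiAinj (by rw [← hφi, ← hφi, h])
  have hxyA : xA * yA = iA r := by
    rw [hiA, ← map_mul]; exact Ideal.Quotient.eq.2 (Ideal.mem_span_singleton_self _)
  have hxyL : xL * yL = iL r := hφinj (by rw [map_mul, hφx, hφy, hφi, hxyA])
  have hcomapA : ∀ J : Ideal (NodeDomLib.PS R), (J.map mkA).comap mkA = J ⊔ Ideal.span {NodeDomLib.rel r} := by
    intro J
    rw [Ideal.comap_map_of_surjective _ Ideal.Quotient.mk_surjective, ← RingHom.ker_eq_comap_bot, Ideal.mk_ker]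
  have hrelbr : ∀ p, p ∣ r → ∀ j : Fin 2,
      NodeDomLib.rel r ∈ Ideal.span {(MvPowerSeries.C p : NodeDomLib.PS R), MvPowerSeries.X j} := by
    intro p ⟨c, hc⟩ j
    refine sub_mem ?_ (hc ▸ (map_mul MvPowerSeries.C p c) ▸ Ideal.mul_mem_right _ _ (Ideal.subset_span (Or.inl rfl)))
    fin_cases j
    · exact Ideal.mul_mem_right _ _ (Ideal.subset_span (Or.inr rfl))
    · exact Ideal.mul_mem_left _ _ (Ideal.subset_span (Or.inr rfl))
  -- primality of the branches and their contraction to `B`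
  have hq : ∀ (p x : R), Ideal.Quotient.mk (Ideal.span {p}) x = 0 ↔ p ∣ x := fun p x =>
    Ideal.Quotient.eq_zero_iff_mem.trans Ideal.mem_span_singleton
  have hbranch : ∀ p, Prime p → p ∣ r → ∀ i j : Fin 2, i ≠ j →
      (Ideal.span {iA p, mkA (MvPowerSeries.X j)}).IsPrime ∧
      mkA (MvPowerSeries.X i) ∉ Ideal.span {iA p, mkA (MvPowerSeries.X j)} ∧
      (Ideal.span {iA p, mkA (MvPowerSeries.X j)}).comap ι =
        Ideal.span {mkB (MvPolynomial.C p), mkB (MvPolynomial.X j)} := by
    intro p hp hpr i j hij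
    haveI : (Ideal.span {p}).IsPrime := (Ideal.span_singleton_prime hp.ne_zero).2 hp
    let J := Ideal.span {(MvPowerSeries.C p : NodeDomLib.PS R), MvPowerSeries.X j}
    have hJ : J = RingHom.ker (NodeDomLib.axisHom (Ideal.Quotient.mk (Ideal.span {p})) i) :=
      (NodeDomLib.ker_axisHom (hq p) hij).symm
    haveI : J.IsPrime := hJ ▸ RingHom.ker_isPrime _
    have hmap : Ideal.span {iA p, mkA (MvPowerSeries.X j)} = J.map mkA := by
      rw [Ideal.map_span, Set.image_pair, hiA]
    have hcm : (J.map mkA).comap mkA = J := by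
      rw [hcomapA, sup_eq_left, Ideal.span_le, Set.singleton_subset_iff]
      exact hrelbr p hpr j
    refine ⟨hmap ▸ Ideal.map_isPrime_of_surjective Ideal.Quotient.mk_surjective
      (by rw [Ideal.mk_ker, Ideal.span_le, Set.singleton_subset_iff]; exact hrelbr p hpr j), ?_, ?_⟩
    · rw [hmap, ← Ideal.mem_comap, hcm, hJ, RingHom.mem_ker, NodeDomLib.axisHom_X_self]
      exact PowerSeries.X_ne_zero
    · refine le_antisymm (fun b hb => ?_) ?_
      · obtain ⟨f, rfl⟩ := Ideal.Quotient.mk_surjective b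
        rw [Ideal.mem_comap, hι', hmap, ← Ideal.mem_comap, hcm] at hb
        have := Ideal.mem_map_of_mem mkB (NodeDomLib.poly_mem_branch (hq p) hij f hb)
        rwa [Ideal.map_span, Set.image_pair] at this
      · rw [Ideal.span_le]
        rintro z (rfl | rfl) <;> rw [SetLike.mem_coe, Ideal.mem_comap, hι'] <;>
          simp only [MvPolynomial.coe_C, MvPolynomial.coe_X, ← hiA]
        · exact Ideal.subset_span (Or.inl rfl)
        · exact Ideal.subset_span (Or.inr rfl)
  have hfibre : ∀ p, Prime p → ¬ p ∣ r →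
      (Ideal.span {iA p}).IsPrime ∧ (Ideal.span {iA p}).comap ι = Ideal.span {mkB (MvPolynomial.C p)} := by
    intro p hp hpr
    haveI : (Ideal.span {p}).IsPrime := (Ideal.span_singleton_prime hp.ne_zero).2 hp
    let q := Ideal.Quotient.mk (Ideal.span {p})
    have hqs : Function.Surjective q := Ideal.Quotient.mk_surjective
    haveI : IsLocalRing (R ⧸ Ideal.span {p}) := IsLocalRing.of_surjective' q hqs
    haveI : IsLocalHom q := hqs.isLocalHom q
    have hqr : q r ∈ maximalIdeal (R ⧸ Ideal.span {p}) := map_nonunit q r hrm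
    have hqr0 : q r ≠ 0 := fun h => hpr ((hq p r).1 h)
    let l := Function.surjInv hqs
    have hserD : NodeDomLib.IsSer (q r) (fun c => q (ser fun n => l (c n))) := fun c => by
      show q (ser fun n => l (c n)) = _
      rw [hser, map_add, map_mul, Function.surjInv_eq hqs]
    have hPD := NodeDomLib.rel_span_isPrime hqr hqr0 hserD
    let J := Ideal.span {(MvPowerSeries.C p : NodeDomLib.PS R)}
    have hJ := NodeDomLib.series_span_eq (hq p) hqs r
    haveI hJp : (J ⊔ Ideal.span {NodeDomLib.rel r}).IsPrime := hJ ▸ hPD.comap _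
    have hmap : Ideal.span {iA p} = (J ⊔ Ideal.span {NodeDomLib.rel r}).map mkA := by
      rw [Ideal.map_sup, Ideal.map_span, Ideal.map_span, Set.image_singleton, Set.image_singleton, hiA,
        show mkA (NodeDomLib.rel r) = 0 from Ideal.Quotient.mk_singleton_self _]
      simp
    refine ⟨hmap ▸ Ideal.map_isPrime_of_surjective Ideal.Quotient.mk_surjective
      (by rw [Ideal.mk_ker]; exact le_sup_right), le_antisymm (fun b hb => ?_) ?_⟩
    · obtain ⟨f, rfl⟩ := Ideal.Quotient.mk_surjective b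
      rw [Ideal.mem_comap, hι', hmap, ← Ideal.mem_comap, hcomapA, sup_assoc, sup_idem] at hb
      have := Ideal.mem_map_of_mem mkB
        (NodeDomLib.poly_mem_fibre (hq p) hqs r (NodeDomLib.sep_of_mem hqr) f hb)
      rw [Ideal.map_sup, Ideal.map_span, Ideal.map_span, Set.image_singleton, Set.image_singleton,
        show mkB polyRel = 0 from Ideal.Quotient.mk_singleton_self _] at this
      simpa using this
    · rw [Ideal.span_le, Set.singleton_subset_iff, SetLike.mem_coe, Ideal.mem_comap, hι', MvPolynomial.coe_C,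
        ← hiA]
      exact Ideal.mem_span_singleton_self _
  have hPA : ∀ Q, NodeDomLib.IsFibBranch iA r xA yA Q → Q.IsPrime := by
    rintro Q ⟨p, hp, ⟨hd, rfl⟩ | ⟨hd, rfl | rfl⟩⟩
    · exact (hfibre p hp hd).1
    · exact (hbranch p hp hd 1 0 (by decide)).1
    · exact (hbranch p hp hd 0 1 (by decide)).1
  have hneA : ∀ p, Prime p → p ∣ r → xA ∉ Ideal.span {iA p, yA} ∧ yA ∉ Ideal.span {iA p, xA} := fun p hp hd =>
    ⟨(hbranch p hp hd 0 1 (by decide)).2.1, (hbranch p hp hd 1 0 (by decide)).2.1⟩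
  -- contraction to the localisation
  have hcomapL : ∀ (I : Ideal A) (J : Ideal B), I.comap ι = J → I.comap φ' = J.map α := by
    intro I J h
    rw [← IsLocalization.map_comap P.primeCompl L (I.comap φ'), Ideal.under_def, Ideal.comap_comap, ← h]
    exact congrArg (fun g => Ideal.map α (Ideal.comap g I)) hφ
  have hkey : ∀ Q, NodeDomLib.IsFibBranch iL r xL yL Q →
      NodeDomLib.IsFibBranch iA r xA yA (Q.map φ') ∧ (Q.map φ').comap φ' = Q := by
    rintro Q ⟨p, hp, ⟨hd, rfl⟩ | ⟨hd, rfl | rfl⟩⟩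
    · rw [Ideal.map_span, Set.image_singleton, hφi]
      refine ⟨⟨p, hp, Or.inl ⟨hd, rfl⟩⟩, ?_⟩
      rw [hcomapL _ _ (hfibre p hp hd).2, Ideal.map_span, Set.image_singleton, hiL]
    · rw [Ideal.map_span, Set.image_pair, hφi, hφx]
      refine ⟨⟨p, hp, Or.inr ⟨hd, Or.inl rfl⟩⟩, ?_⟩
      rw [hcomapL _ _ (hbranch p hp hd 1 0 (by decide)).2.2, Ideal.map_span, Set.image_pair, hiL]
    · rw [Ideal.map_span, Set.image_pair, hφi, hφy]
      refine ⟨⟨p, hp, Or.inr ⟨hd, Or.inr rfl⟩⟩, ?_⟩
      rw [hcomapL _ _ (hbranch p hp hd 0 1 (by decide)).2.2, Ideal.map_span, Set.image_pair, hiL]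
  have hkey' : ∀ Q : Ideal A, NodeDomLib.IsFibBranch iA r xA yA Q →
      NodeDomLib.IsFibBranch iL r xL yL (Q.comap φ' :) ∧ (Q.comap φ').map φ' = Q := by
    rintro Q ⟨p, hp, hc⟩
    obtain ⟨Q', hQ', rfl⟩ : ∃ Q', NodeDomLib.IsFibBranch iL r xL yL Q' ∧ Q'.map φ' = Q := by
      rcases hc with ⟨hd, rfl⟩ | ⟨hd, rfl | rfl⟩
      · exact ⟨_, ⟨p, hp, Or.inl ⟨hd, rfl⟩⟩, by rw [Ideal.map_span, Set.image_singleton, hφi]⟩
      · exact ⟨_, ⟨p, hp, Or.inr ⟨hd, Or.inl rfl⟩⟩, by rw [Ideal.map_span, Set.image_pair, hφi, hφx]⟩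
      · exact ⟨_, ⟨p, hp, Or.inr ⟨hd, Or.inr rfl⟩⟩, by rw [Ideal.map_span, Set.image_pair, hφi, hφy]⟩
    rw [(hkey Q' hQ').2]
    exact ⟨hQ', rfl⟩
  have hPL : ∀ Q, NodeDomLib.IsFibBranch iL r xL yL Q → Q.IsPrime := fun Q hQ =>
    (hkey Q hQ).2 ▸ (hPA _ (hkey Q hQ).1).comap φ'
  have hneL : ∀ p, Prime p → p ∣ r → xL ∉ Ideal.span {iL p, yL} ∧ yL ∉ Ideal.span {iL p, xL} := by
    intro p hp hd
    refine ⟨fun h => (hneA p hp hd).1 ?_, fun h => (hneA p hp hd).2 ?_⟩ <;>
      have := Ideal.mem_map_of_mem φ' h <;>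
      simpa only [Ideal.map_span, Set.image_pair, hφi, hφx, hφy] using this
  have hA := NodeDomLib.fibral_iff hiAinj hxyA hPA hneA
  have hL := NodeDomLib.fibral_iff hiLinj hxyL hPL hneL
  show Set.BijOn (fun Q => Ideal.comap φ' Q) _ _
  refine ⟨fun Q hQ => (hL _).2 (hkey' Q ((hA Q).1 hQ)).1, fun Q hQ Q' hQ' h => ?_, fun Q hQ => ?_⟩
  · rw [← (hkey' Q ((hA Q).1 hQ)).2, ← (hkey' Q' ((hA Q').1 hQ')).2]
    exact congrArg (Ideal.map φ') h
  · exact ⟨Q.map φ', (hA _).2 (hkey Q ((hL Q).1 hQ)).1, (hkey Q ((hL Q).1 hQ)).2⟩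

end Groth.Agent.S17735
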