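import Groth.Statements.S17736
import Groth.Agent.S13201
import Groth.Agent.S0548
import Groth.Agent.UFDDescLib.Basic
import Groth.Agent.AdicRingLib.Completion
-- import your own Groth.Agent.* helpers here

set_option autoImplicit false
universe u
open DualGr

namespace Groth.Agent.S17736

open CategoryTheory AlgebraicGeometry IsLocalRing in
/-- Let R be a regular local ring, X a locally Noetherian scheme over Spec R, and x a point of X whose
local ring is formally a node of thickness (Δ) over R, that is, its completion is isomorphic,
compatibly with R, to R̂[[u,v]]/(uv − Δ), where R̂ is the completion of R and Δ is an element of R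
whose image in R̂ is a prime element. Then the local ring of X at x is a unique factorization
domain. (The published statement is for a quasisplit nodal curve, smooth over a dense open, over an
excellent base all of whose smooth schemes are locally factorial, and a singular point with prime
thickness. Its argument passes through unique factorization in R̂[[u,v]]/(uv − Δ) for R̂ an
arbitrary complete local unique factorization domain, which fails in that generality: that ring is
free of rank two over the power series ring R̂[[u + v]], and a power series ring over a complete
local unique factorization domain need not be factorial. The base is therefore taken regular here,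
the case in which the completed ring is factorial; factoriality then descends to the local ring of X
at x along the faithfully flat completion map.) -/
theorem result
    (R : Type u) [CommRing R] [IsRegularLocalRing R]
    {X : Scheme.{u}} [IsLocallyNoetherian X] (f : X ⟶ Spec (CommRingCat.of R)) (x : X) (Δ : R)
    (hnode : DualGr.IsThickNode (DualGr.stalkHom f x) Δ)
    (hprime : Prime (algebraMap R (Curv2.cpl R) Δ)) :
    IsDomain (X.presheaf.stalk x) ∧ UniqueFactorizationMonoid (X.presheaf.stalk x) := by
  classical
  obtain ⟨e, he⟩ := hnode
  let R' := Curv2.cpl R
  haveI : IsRegularLocalRing R' := (Groth.Agent.S0548.result R).1 inferInstance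
  haveI : IsAdicComplete (IsLocalRing.maximalIdeal R') R' := by
    show IsAdicComplete (maximalIdeal (AdicCompletion (maximalIdeal R) R)) (AdicCompletion (maximalIdeal R) R)
    rw [AdicCompletion.maximalIdeal_eq_map]
    exact AdicRingLib.isAdicComplete_map (maximalIdeal R).fg_of_isNoetherianRing
  have hΔ : algebraMap R R' Δ ∈ maximalIdeal R' := hprime.not_isUnit
  have h := (Groth.Agent.S13201.result R' (algebraMap R R' Δ) hΔ).2 hprime
  haveI : IsNoetherianRing (X.presheaf.stalk x) := inferInstance
  haveI : IsDomain (Curv2.cpl (X.presheaf.stalk x)) := e.toMulEquiv.isDomain_iff.2 h.1
  haveI : UniqueFactorizationMonoid (Curv2.cpl (X.presheaf.stalk x)) :=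
    e.symm.toMulEquiv.uniqueFactorizationMonoid h.2
  haveI : IsDomain (X.presheaf.stalk x) :=
    (AdicCompletion.of_injective (maximalIdeal (X.presheaf.stalk x)) (X.presheaf.stalk x)).isDomain
      (algebraMap (X.presheaf.stalk x) (Curv2.cpl (X.presheaf.stalk x)))
  haveI : Module.FaithfullyFlat (X.presheaf.stalk x) (Curv2.cpl (X.presheaf.stalk x)) :=
    Module.FaithfullyFlat.of_flat_of_isLocalHom
  exact ⟨inferInstance, UFDDescLib.ufd (R' := Curv2.cpl (X.presheaf.stalk x))⟩

end Groth.Agent.S17736
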