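import Groth.Statements.S17745
import Groth.Agent.CycPBLib.Func

set_option autoImplicit false
universe u
open CategoryTheory AlgebraicGeometry
open QsChow

namespace Groth.Agent.S17745

set_option backward.isDefEq.respectTransparency false

theorem residueDegree_one {A B : Scheme.{u}} (f : A ⟶ B) (x : A) (h : Function.Bijective (f.residueFieldMap x)) :
    f.residueDegree x = 1 := by
  letI := (f.residueFieldMap x).hom.toAlgebra
  exact (LinearEquiv.finrank_eq (AlgEquiv.ofBijective (Algebra.ofId (B.residueField (f x)) (A.residueField x)) h).toLinearEquiv).symm.trans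
    (Module.finrank_self _)

theorem exists_preimage_cycle {A B : Scheme.{u}} (p : A ⟶ B) [IsAffineHom p] (s : B ⟶ A)
    (hs : s ≫ p = 𝟙 B) (δ : B → ℤ) {j : ℤ} (α : AlgebraicCycle B ℤ) (hα : α ∈ Cyc.Zk B δ j) :
    ∃ β : AlgebraicCycle A ℤ, β ∈ Cyc.Zk A (δ ∘ ⇑p.base) j ∧
      AlgebraicCycle.map p (δ ∘ ⇑p.base) δ β = α := by
  haveI : IsClosedImmersion (s ≫ p) := by rw [hs]; infer_instance
  haveI : IsClosedImmersion s := IsClosedImmersion.of_comp s p
  have hps : ∀ y, p (s y) = y := fun y => by rw [← Scheme.Hom.comp_apply, hs]; rfl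
  have hbij : ∀ y, Function.Bijective (s.residueFieldMap y) ∧ Function.Bijective (p.residueFieldMap (s y)) := fun y => by
    have h : Function.Bijective ((s ≫ p).residueFieldMap y) := by
      rw [Scheme.Hom.residueFieldMap_congr hs, Scheme.residueFieldMap_id]
      exact (ConcreteCategory.isIso_iff_bijective _).mp (IsIso.comp_isIso' inferInstance (IsIso.id _))
    rw [Scheme.residueFieldMap_comp] at h
    have hsurj : Function.Surjective (s.residueFieldMap y) := Function.Surjective.of_comp (g := ⇑(ConcreteCategory.hom (p.residueFieldMap (s y)))) h.2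
    refine ⟨⟨RingHom.injective _, hsurj⟩, RingHom.injective _, fun z => ?_⟩
    obtain ⟨w, hw⟩ := h.2 (s.residueFieldMap y z)
    exact ⟨w, RingHom.injective (s.residueFieldMap y).hom hw⟩
  have hc : ∀ y, AlgebraicCycle.mapCoeff s δ (δ ∘ ⇑p.base) y = 1 := fun y => by
    simp only [AlgebraicCycle.mapCoeff, Function.comp_apply, hps, if_true]
    exact residueDegree_one s y (hbij y).1
  have hp : ∀ y, AlgebraicCycle.mapCoeff p (δ ∘ ⇑p.base) δ (s y) = 1 := fun y => by
    simp only [AlgebraicCycle.mapCoeff, Function.comp_apply, if_true]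
    exact residueDegree_one p (s y) (hbij y).2
  refine ⟨AlgebraicCycle.map s δ (δ ∘ ⇑p.base) α, CycPBLib.map_mem_Zk s hα, ?_⟩
  have hval : ∀ z : A, AlgebraicCycle.map s δ (δ ∘ ⇑p.base) α z =
      ∑ᶠ x ∈ s.base ⁻¹' {z}, α x * (AlgebraicCycle.mapCoeff s δ (δ ∘ ⇑p.base) x : ℤ) := fun z => rfl
  ext y
  show ∑ᶠ z ∈ p.base ⁻¹' {y}, AlgebraicCycle.map s δ (δ ∘ ⇑p.base) α z *
    (AlgebraicCycle.mapCoeff p (δ ∘ ⇑p.base) δ z : ℤ) = α y
  have hy : AlgebraicCycle.map s δ (δ ∘ ⇑p.base) α (s y) = α y := by
    have e : s.base ⁻¹' {s y} = {y} := by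
      ext x
      exact ⟨fun hx => (hps x).symm.trans ((congrArg (fun z => p z) hx).trans (hps y)), fun hx => congrArg s.base hx⟩
    rw [hval, e, finsum_mem_singleton, hc, Nat.cast_one, mul_one]
  rw [finsum_mem_inter_support_eq' _ _ ({s y} : Set A), finsum_mem_singleton, hy, hp, Nat.cast_one, mul_one]
  intro z hz
  have hz' : ∃ x, s x = z := by
    by_contra hne
    refine hz ?_
    have h0 : AlgebraicCycle.map s δ (δ ∘ ⇑p.base) α z = 0 := by
      rw [hval]
      exact finsum_mem_eq_zero_of_forall_eq_zero fun x hx => absurd ⟨x, hx⟩ hne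
    show AlgebraicCycle.map s δ (δ ∘ ⇑p.base) α z * _ = 0
    rw [h0, zero_mul]
  obtain ⟨x, rfl⟩ := hz'
  exact ⟨fun h => congrArg s.base ((hps x).symm.trans h), fun h => (congrArg p.base h).trans (hps y)⟩

/-- For a field extension K of k (separable algebraic) and a k-scheme X with weight function δ, call
norm subgroup of CH_j(X) the subgroup generated by the classes of the push-forwards to X of j-cycles
on the base changes X_F, over the intermediate fields F of K over k that are finite over k and
different from k (the quotient by it is the degree-j part of the conormed Chow group of X relative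
to K over k). Let F be an intermediate field of K over k, finite over k and different from k, and
let X be a smooth variety over F (a scheme with a smooth, separated and quasi-compact morphism g to
Spec F), regarded as a k-scheme by composing g with Spec F → Spec k. Then for every weight function
δ on X (a dimension function induced from weight 0 on Spec k) and every integer j the norm subgroup
of CH_j(X) relative to K over k is the whole Chow group: all conormed Chow groups of X vanish. (The
source's F is tacitly different from k; for F = k the assertion fails, e.g. with K = k.) -/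
theorem result
    (k : Type u) [Field k] (K : Type u) [Field K] [Algebra k K] [Algebra.IsSeparable k K]
    (F : IntermediateField k K) [FiniteDimensional k F] (hF : F ≠ ⊥)
    (X : Scheme.{u}) [X.Over (Spec (CommRingCat.of k))] (g : X ⟶ Spec (CommRingCat.of F))
    (hg : g ≫ Spec.map (CommRingCat.ofHom (algebraMap k F)) = X ↘ Spec (CommRingCat.of k))
    (hsm : Smooth g) [IsSeparated g] [QuasiCompact g]
    (δ : X → ℤ) (hδ : Cyc.IsSetup X δ)
    (hcompat : Cyc.DeltaCompat (X ↘ Spec (CommRingCat.of k)) δ (fun _ => 0)) (j : ℤ) :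
    QsChow.normSubgroup k K X δ j = ⊤ := by
  refine eq_top_iff.mpr fun c _ => AddSubgroup.subset_closure ?_
  induction c using QuotientAddGroup.induction_on with
  | _ a =>
    obtain ⟨α, hα⟩ := a
    let s : X ⟶ Curv2.bc k X F := Limits.pullback.lift (𝟙 X) g (by rw [Category.id_comp, hg])
    haveI : IsAffineHom (Curv2.bcFst k X F) :=
      MorphismProperty.pullback_fst (P := (@IsAffineHom : MorphismProperty Scheme.{u})) _ _ (isAffineHom_of_isAffine _)
    obtain ⟨β, hβ, hmap⟩ := exists_preimage_cycle (Curv2.bcFst k X F) s (Limits.pullback.lift_fst _ _ _) δ α hα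
    refine ⟨F, inferInstance, hF, β, hβ, hmap.symm ▸ hα, ?_⟩
    show QuotientAddGroup.mk _ = QuotientAddGroup.mk _
    exact congrArg _ (Subtype.ext hmap.symm)

end Groth.Agent.S17745
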