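import Groth.Statements.S17746
import Mathlib
import Groth.Agent.S17745
import Groth.Agent.S7791
import Groth.Agent.LocFFLib.Basic
import Groth.Agent.HurwitzLib.SmoothCurve
import Groth.Agent.AlgSpLib.Basic

set_option autoImplicit false
universe u
open CategoryTheory AlgebraicGeometry
open QsChow

set_option linter.style.haveILetI false

namespace Groth.Agent.S17746

open scoped TensorProduct

set_option backward.isDefEq.respectTransparency false in
/-- If a finite Galois extension meets a field only in the base, its tensor product with it is a field. -/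
theorem isField_tensor {k K₀ L Ω : Type u} [Field k] [Field K₀] [Field L] [Field Ω] [Algebra k K₀] [Algebra k L]
    [FiniteDimensional k L] [IsGalois k L] [Algebra K₀ Ω] [Algebra k Ω] [IsScalarTower k K₀ Ω] (σ : L →ₐ[k] Ω)
    (h : ∀ (c : L) (d : K₀), algebraMap K₀ Ω d = σ c → c ∈ (⊥ : IntermediateField k L)) :
    IsField (K₀ ⊗[k] L) := by
  classical
  obtain ⟨α, hα⟩ := Field.exists_primitive_element k L
  have hint : IsIntegral k α := IsIntegral.of_finite k α
  let f := minpoly k α
  have hdeg : f.natDegree = Module.finrank k L := by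
    rw [← IntermediateField.adjoin.finrank hint, hα, IntermediateField.finrank_top']
  have hβ : IsIntegral K₀ (σ α) := (hint.map σ).tower_top
  let g := minpoly K₀ (σ α)
  have hev : Polynomial.aeval (σ α) f = 0 := by rw [Polynomial.aeval_algHom_apply, minpoly.aeval, map_zero]
  have hdvd : g.map (algebraMap K₀ Ω) ∣ (f.map (algebraMap k L)).map (σ : L →+* Ω) := by
    rw [Polynomial.map_map, σ.comp_algebraMap, IsScalarTower.algebraMap_eq k K₀ Ω, ← Polynomial.map_map]
    exact Polynomial.map_dvd _ (minpoly.dvd K₀ (σ α) (by rw [Polynomial.aeval_map_algebraMap]; exact hev))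
  have hne : (f.map (algebraMap k L)).map (σ : L →+* Ω) ≠ 0 := ((((minpoly.monic hint).map _).map _).ne_zero)
  have hsp : ((f.map (algebraMap k L)).map (σ : L →+* Ω)).Splits := (IsGalois.splits k α).map _
  have hgl : g.map (algebraMap K₀ Ω) ∈ Polynomial.lifts (σ : L →+* Ω) := by
    have hgs : (g.map (algebraMap K₀ Ω)).Splits := hsp.of_dvd hne hdvd
    rw [hgs.eq_prod_roots_of_monic ((minpoly.monic hβ).map _)]
    refine multiset_prod_mem _ fun q hq => ?_
    obtain ⟨r, hr, rfl⟩ := Multiset.mem_map.1 hq
    have hr2 : r ∈ ((f.map (algebraMap k L)).map (σ : L →+* Ω)).roots :=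
      Multiset.mem_of_le (Polynomial.roots.le_of_dvd hne hdvd) hr
    rw [(IsGalois.splits k α).roots_map] at hr2
    obtain ⟨s, -, rfl⟩ := Multiset.mem_map.1 hr2
    exact (Polynomial.mem_lifts _).2 ⟨Polynomial.X - Polynomial.C s, by simp⟩
  obtain ⟨q, hq⟩ := (Polynomial.mem_lifts _).1 hgl
  have hg0 : g ∈ Polynomial.lifts (algebraMap k K₀) := by
    refine (Polynomial.lifts_iff_coeff_lifts g).2 fun n => ?_
    have hn := congrArg (fun p : Polynomial Ω => p.coeff n) hq
    simp only [Polynomial.coeff_map] at hn
    obtain ⟨a, ha⟩ := IntermediateField.mem_bot.1 (h (q.coeff n) (g.coeff n) hn.symm)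
    refine ⟨a, (algebraMap K₀ Ω).injective ?_⟩
    rw [← hn, ← ha, ← IsScalarTower.algebraMap_apply]
    exact (σ.commutes a).symm
  obtain ⟨g0, hg0⟩ := (Polynomial.mem_lifts _).1 hg0
  have hle : f.natDegree ≤ g.natDegree := by
    rw [← hg0, Polynomial.natDegree_map]
    refine Polynomial.natDegree_le_of_dvd (minpoly.dvd k α ((σ : L →+* Ω).injective ?_)) fun h0 => ?_
    · show σ (Polynomial.aeval α g0) = σ 0
      rw [map_zero, ← Polynomial.aeval_algHom_apply, ← Polynomial.aeval_map_algebraMap K₀, hg0]
      exact minpoly.aeval _ _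
    · exact minpoly.ne_zero hβ (show g = 0 by rw [← hg0, h0, Polynomial.map_zero])
  let Φ : K₀ ⊗[k] L →ₐ[K₀] Ω := Algebra.TensorProduct.lift (Algebra.ofId K₀ Ω) σ fun a b => Commute.all _ _
  have hΦ : Function.Injective Φ.toLinearMap := by
    rw [← LinearMap.ker_eq_bot, ← Submodule.finrank_eq_zero (R := K₀)]
    have h1 := Φ.toLinearMap.finrank_range_add_finrank_ker
    rw [Module.finrank_baseChange] at h1
    have h2 : Subalgebra.toSubmodule (Algebra.adjoin K₀ {σ α}) ≤ LinearMap.range Φ.toLinearMap := by
      have : Algebra.adjoin K₀ {σ α} ≤ Φ.range :=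
        Algebra.adjoin_le (Set.singleton_subset_iff.2 ⟨1 ⊗ₜ α, by simp [Φ]⟩)
      exact fun x hx => this hx
    have h3 := Submodule.finrank_mono h2
    have h4 : Module.finrank K₀ (Subalgebra.toSubmodule (Algebra.adjoin K₀ {σ α})) = g.natDegree := by
      rw [← IntermediateField.adjoin_simple_toSubalgebra_of_isAlgebraic hβ.isAlgebraic]
      exact IntermediateField.adjoin.finrank hβ
    omega
  haveI : IsDomain (K₀ ⊗[k] L) := Function.Injective.isDomain Φ hΦ
  exact isField_of_isIntegral_of_isField' (Field.toIsField K₀)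

set_option backward.isDefEq.respectTransparency false
set_option backward.isDefEq.respectTransparency.types false

theorem str_eq {k : Type u} [Field k] {X : Scheme.{u}} (f : X ⟶ Spec (CommRingCat.of k)) :
    X.toSpecΓ ≫ Spec.map ((Scheme.ΓSpecIso (CommRingCat.of k)).inv ≫ f.appTop) = f := by
  rw [Spec.map_comp, ← Category.assoc, ← Scheme.toSpecΓ_naturality, Category.assoc,
    ← SpecMap_ΓSpecIso_hom, ← Spec.map_comp]
  simp

/-- A flat surjection whose fibre over the generic point is a point has connected source. -/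
theorem connectedSpace_of_fibre {A X : Scheme.{u}} [IrreducibleSpace X] (p : A ⟶ X) [Flat p] [Surjective p]
    (h : ∀ w w' : A, p.base w = genericPoint X → p.base w' = genericPoint X → w = w') : ConnectedSpace A := by
  obtain ⟨w, hw⟩ := p.surjective (genericPoint X)
  have hall : ∀ z : A, w ⤳ z := fun z => by
    obtain ⟨w', hz, hw'⟩ := Flat.generalizingMap p ((genericPoint_spec X).specializes (y := p.base z) trivial)
    exact h w' w hw' hw ▸ hz
  have hu : (Set.univ : Set A) = closure {w} :=
    Set.ext fun z => ⟨fun _ => specializes_iff_mem_closure.1 (hall z), fun _ => trivial⟩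
  haveI : Nonempty A := ⟨w⟩
  haveI : PreirreducibleSpace A := ⟨hu ▸ isIrreducible_singleton.closure.2⟩
  haveI : IrreducibleSpace A := ⟨inferInstance⟩
  infer_instance

/-- If the generic fibre ring is a field, the base change is connected. -/
theorem connectedSpace_bc {k L K₀ : Type u} [Field k] [Field L] [Field K₀] [Algebra k L] [Algebra k K₀]
    {X : Scheme.{u}} [IrreducibleSpace X] (f : X ⟶ Spec (CommRingCat.of k)) (ξ : Spec (CommRingCat.of K₀) ⟶ X)
    (hξ : genericPoint X ∈ Set.range ξ.base)
    (hf : ξ ≫ f = Spec.map (CommRingCat.ofHom (algebraMap k K₀))) (hF : IsField (K₀ ⊗[k] L)) :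
    ConnectedSpace ↥(Limits.pullback f (Spec.map (CommRingCat.ofHom (algebraMap k L)))) := by
  let l := Spec.map (CommRingCat.ofHom (algebraMap k L))
  haveI : Flat l := Flat.SpecMap_iff.2 ((RingHom.flat_algebraMap_iff).2 inferInstance)
  haveI : Surjective l := ⟨fun z => ⟨IsLocalRing.closedPoint L, Subsingleton.elim (α := PrimeSpectrum k) _ _⟩⟩
  letI := hF.toField
  haveI : Subsingleton (PrimeSpectrum (K₀ ⊗[k] L)) := inferInstance
  let e : Limits.pullback ξ (Limits.pullback.fst f l) ≅ Spec (CommRingCat.of (K₀ ⊗[k] L)) :=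
    Limits.pullbackRightPullbackFstIso f l ξ ≪≫ Limits.pullback.congrHom hf rfl ≪≫ pullbackSpecIso k K₀ L
  refine connectedSpace_of_fibre (Limits.pullback.fst f l) fun w w' hw hw' => ?_
  obtain ⟨η, hη⟩ := hξ
  obtain ⟨a, -, ha⟩ := Scheme.Pullback.exists_preimage_pullback η w (hη.trans hw.symm)
  obtain ⟨b, -, hb⟩ := Scheme.Pullback.exists_preimage_pullback η w' (hη.trans hw'.symm)
  rw [← ha, ← hb, show a = b from (Scheme.homeoOfIso e).injective (Subsingleton.elim (α := PrimeSpectrum (K₀ ⊗[k] L)) _ _)]

/-- A field of elements of the function field algebraic over the base gives a morphism. -/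
theorem exists_hom {k F : Type u} [Field k] [Field F] [Algebra k F] [Algebra.IsIntegral k F]
    {X : Scheme.{u}} [IsIntegral X] (hn : Pi1.IsNormalScheme X) (f : X ⟶ Spec (CommRingCat.of k))
    (h : F →+* X.functionField)
    (hh : h.comp (algebraMap k F) = (X.presheaf.germ ⊤ (genericPoint X) trivial).hom.comp
      ((Scheme.ΓSpecIso (CommRingCat.of k)).inv ≫ f.appTop).hom) :
    ∃ g : X ⟶ Spec (CommRingCat.of F), g ≫ Spec.map (CommRingCat.ofHom (algebraMap k F)) = f := by
  haveI : Nonempty (⊤ : X.Opens) := ⟨⟨genericPoint X, trivial⟩⟩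
  let j : Γ(X, ⊤) →+* X.functionField := algebraMap Γ(X, ⊤) X.functionField
  have hj : Function.Injective j := X.germToFunctionField_injective ⊤
  let φ := ((Scheme.ΓSpecIso (CommRingCat.of k)).inv ≫ f.appTop).hom
  have hj2 : h.comp (algebraMap k F) = j.comp φ := hh
  have hr : ∀ c : F, h c ∈ j.range := fun c => by
    obtain ⟨P, hP, hP0⟩ := Algebra.IsIntegral.isIntegral (R := k) c
    obtain ⟨s, hs⟩ := LocFFLib.exists_section_of_integral hn ⊤ (h c)
      ⟨P.map φ, hP.map φ, by
        rw [Polynomial.eval₂_map]
        show Polynomial.eval₂ (j.comp φ) (h c) P = 0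
        rw [← hj2, ← Polynomial.hom_eval₂, hP0, map_zero]⟩
    exact ⟨s, hs⟩
  let E := RingEquiv.ofBijective j.rangeRestrict ⟨fun a b hab => hj (congrArg Subtype.val hab), j.rangeRestrict_surjective⟩
  let ψ : F →+* Γ(X, ⊤) := E.symm.toRingHom.comp (h.codRestrict j.range hr)
  have hψ : ∀ c, j (ψ c) = h c := fun c => congrArg Subtype.val (E.apply_symm_apply (h.codRestrict j.range hr c))
  refine ⟨X.toSpecΓ ≫ Spec.map (CommRingCat.ofHom ψ), ?_⟩
  rw [Category.assoc, ← Spec.map_comp]
  refine Eq.trans ?_ (str_eq f)
  congr 2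
  refine CommRingCat.hom_ext (RingHom.ext fun a => hj ?_)
  exact (hψ (algebraMap k F a)).trans (congrFun (congrArg DFunLike.coe hj2) a)


/-- For a field extension K of k (separable algebraic) and a k-scheme X with weight function δ, call
norm subgroup of CH_j(X) the subgroup generated by the classes of the push-forwards to X of j-cycles
on the base changes X_F, over the intermediate fields F of K over k that are finite over k and
different from k (the quotient by it is the degree-j part of the conormed Chow group of X relative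
to K over k). Let L be an intermediate field of K over k that is finite Galois over k, and let X be
a smooth variety over k (smooth, separated and quasi-compact structure morphism) that is connected
and whose base change X_L is not connected. Then for every weight function δ on X (a dimension
function induced from weight 0 on Spec k) and every integer j the norm subgroup of CH_j(X) relative
to K over k is the whole Chow group: all conormed Chow groups of X vanish. -/
theorem result
    (k : Type u) [Field k] (K : Type u) [Field K] [Algebra k K] [Algebra.IsSeparable k K]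
    (L : IntermediateField k K) [FiniteDimensional k L] [IsGalois k L]
    (X : Scheme.{u}) [X.Over (Spec (CommRingCat.of k))]
    (hsm : Smooth (X ↘ Spec (CommRingCat.of k))) [IsSeparated (X ↘ Spec (CommRingCat.of k))]
    [QuasiCompact (X ↘ Spec (CommRingCat.of k))]
    [ConnectedSpace X] (hdisc : ¬ ConnectedSpace ↥(Curv2.bc k X L))
    (δ : X → ℤ) (hδ : Cyc.IsSetup X δ)
    (hcompat : Cyc.DeltaCompat (X ↘ Spec (CommRingCat.of k)) δ (fun _ => 0)) (j : ℤ) :
    QsChow.normSubgroup k K X δ j = ⊤ := by
  classical
  haveI := hsm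
  haveI : IsIntegral X := S7791.isIntegral_of_smooth_connected k X (X ↘ Spec (CommRingCat.of k))
  have hn : Pi1.IsNormalScheme X := HurwitzLib.isNormalScheme_of_smooth (k := k)
  let φ : k →+* X.functionField :=
    (X.presheaf.germ ⊤ (genericPoint X) trivial).hom.comp ((Scheme.ΓSpecIso (CommRingCat.of k)).inv ≫ (X ↘ Spec (CommRingCat.of k)).appTop).hom
  letI : Algebra k X.functionField := φ.toAlgebra
  let σ : L →ₐ[k] AlgebraicClosure X.functionField := IsAlgClosed.lift
  let ι : X.functionField →ₐ[k] AlgebraicClosure X.functionField := IsScalarTower.toAlgHom _ _ _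
  let L' : IntermediateField k L := ι.fieldRange.comap σ
  have hne : L' ≠ ⊥ := fun hbot => hdisc (by
    refine connectedSpace_bc (K₀ := X.functionField) (X ↘ Spec (CommRingCat.of k))
      (X.fromSpecStalk (genericPoint X)) ?_ ?_ (isField_tensor σ fun c d hd => hbot ▸ ⟨d, hd⟩)
    · exact ⟨IsLocalRing.closedPoint _, Scheme.fromSpecStalk_closedPoint⟩
    · conv_lhs => rw [← str_eq (X ↘ Spec (CommRingCat.of k))]
      rw [← Category.assoc, Scheme.fromSpecStalk_toSpecΓ, ← Spec.map_comp]
      rfl)
  let e := (AlgEquiv.ofInjectiveField ι).symm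
  let h : L' →ₐ[k] X.functionField := e.toAlgHom.comp
    (((σ.comp L'.val)).codRestrict ι.range fun c => c.2)
  obtain ⟨g₀, hg₀⟩ := exists_hom hn (X ↘ Spec (CommRingCat.of k)) (h : L' →+* X.functionField)
    (h.comp_algebraMap)
  let F : IntermediateField k K := IntermediateField.lift L'
  let eF : L' ≃ₐ[k] F := IntermediateField.liftAlgEquiv L'
  haveI : FiniteDimensional k F := eF.toLinearEquiv.finiteDimensional
  have hF : F ≠ ⊥ := fun h0 => hne (IntermediateField.lift_injective L (h0.trans (IntermediateField.lift_bot k L).symm))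
  let g : X ⟶ Spec (CommRingCat.of F) := g₀ ≫ Spec.map (CommRingCat.ofHom (eF.symm : F →+* L'))
  have hg : g ≫ Spec.map (CommRingCat.ofHom (algebraMap k F)) = X ↘ Spec (CommRingCat.of k) := by
    refine Eq.trans ?_ hg₀
    rw [Category.assoc, ← Spec.map_comp]
    exact congrArg (fun z => g₀ ≫ Spec.map z) (CommRingCat.hom_ext (RingHom.ext fun a => eF.symm.commutes a))
  haveI : Algebra.IsSeparable k F := Algebra.isSeparable_tower_bot_of_isSeparable k F K
  haveI : Algebra.FormallyEtale k F := Algebra.FormallyEtale.of_isSeparable k F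
  haveI : Algebra.FinitePresentation k F := Algebra.FinitePresentation.of_finiteType.1 inferInstance
  haveI : Algebra.Etale k F := { }
  haveI : Etale (Spec.map (CommRingCat.ofHom (algebraMap k F))) :=
    (HasRingHomProperty.Spec_iff (P := @Etale)).2 (RingHom.etale_algebraMap.2 inferInstance)
  haveI : Smooth (g ≫ Spec.map (CommRingCat.ofHom (algebraMap k F))) := by rw [hg]; exact hsm
  haveI : IsSeparated (g ≫ Spec.map (CommRingCat.ofHom (algebraMap k F))) := by rw [hg]; infer_instance
  haveI : QuasiCompact (g ≫ Spec.map (CommRingCat.ofHom (algebraMap k F))) := by rw [hg]; infer_instance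
  haveI : IsSeparated g := IsSeparated.of_comp g (Spec.map (CommRingCat.ofHom (algebraMap k F)))
  haveI : QuasiCompact g := QuasiCompact.of_comp g (Spec.map (CommRingCat.ofHom (algebraMap k F)))
  exact Groth.Agent.S17745.result k K F hF X g hg
    (AlgSpLib.smooth_of_comp_etale g (Spec.map (CommRingCat.ofHom (algebraMap k F)))) δ hδ hcompat j

end Groth.Agent.S17746
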