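import Groth.Statements.S17750
import Groth.Agent.MurthyLib.Basic
import Groth.Agent.DualCxLib.QuotDual

set_option autoImplicit false
universe u
open Goren

namespace Groth.Agent.S17750

/-- Let B be a regular local ring and p a prime ideal of B such that the integral domain B ⧸ p is a
unique factorization domain. If the local ring B ⧸ p is Cohen–Macaulay then it is Gorenstein, i.e.
has finite injective dimension as a module over itself. (For a unique factorization domain that is a
quotient of a regular local ring, Cohen–Macaulay and Gorenstein are equivalent; the converse
implication holds for every Noetherian local ring.) -/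
theorem result (B : Type u) [CommRing B] [IsRegularLocalRing B] (p : Ideal B) [p.IsPrime] [UniqueFactorizationMonoid (B ⧸ p)] [LocCoh.IsCohenMacaulayLocalRing (B ⧸ p)] : LocCoh.IsGorensteinLocalRing (B ⧸ p) := by
  haveI := Groth.Agent.DualCxLib.gorenstein_of_regular B
  haveI : IsDomain (B ⧸ p) := Ideal.Quotient.isDomain p
  exact MurthyLib.gorenstein_of_ufd B (Ideal.Quotient.mk p) Ideal.Quotient.mk_surjective

end Groth.Agent.S17750
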