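import Groth.Statements.S17756
import Groth.Agent.InjHullLib.Coext
-- import your own Groth.Agent.* helpers here

set_option autoImplicit false
universe u
open Matlis

namespace Groth.Agent.S17756

/-- Let R be a Noetherian local ring with maximal ideal m and residue field k, E an injective hull of k,
and M a finitely generated R-module with Matlis dual M^v = Hom_R(M, E). Then the minimal number of
generators of M equals the k-dimension of the socle of M^v, the submodule of elements of M^v killed
by m (stated as its length as an R-module). -/
theorem result (R : Type u) [CommRing R] [IsNoetherianRing R] [IsLocalRing R] (E : Type u) [AddCommGroup E] [Module R E] (f : IsLocalRing.ResidueField R →ₗ[R] E) (hf : InjHull.IsInjectiveHull f) (M : Type u) [AddCommGroup M] [Module R M] [Module.Finite R M] : ((⊤ : Submodule R M).spanFinrank : ℕ∞) = Module.length R (LocCoh.torsionBy (IsLocalRing.maximalIdeal R) (M →ₗ[R] E)) := by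
  have hkill : ∀ a ∈ IsLocalRing.maximalIdeal R, ∀ q : M ⧸ IsLocalRing.maximalIdeal R • (⊤ : Submodule R M), a • q = 0 :=
    fun a ha q => by
      obtain ⟨q, rfl⟩ := Submodule.Quotient.mk_surjective _ q
      exact (Submodule.Quotient.mk_eq_zero _).2 (Submodule.smul_mem_smul ha trivial)
  rw [InjHullLib.spanFinrank_eq_length, ← (InjHullLib.socleDualEquiv E).length_eq]
  exact (InjHullLib.length_hom (m := IsLocalRing.maximalIdeal R) hf
    (Module.length_ne_top_iff.1 (InjHullLib.length_ne_top_of_killed hkill)) (n := 1) (fun a ha => hkill a (by rwa [pow_one] at ha))).symm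

end Groth.Agent.S17756
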