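import Groth.Statements.S17758
import Groth.Agent.HLVTLib.ConnMain

set_option autoImplicit false
universe u
open LocCoh

namespace Groth.Agent.S17758

/-- Let R be a complete Noetherian local domain of Krull dimension d with maximal ideal m, and I a
proper ideal of R of arithmetic rank at most d − 2: there are elements f_1, …, f_t with t + 2 ≤ d
such that I and (f_1, …, f_t) have the same radical. Then the punctured spectrum of R ⧸ I, viewed as
the set of prime ideals of R that contain I and differ from m, is a nonempty connected subset of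
Spec R. (Connectedness is taken here to include nonemptiness, so the unit ideal, whose punctured
spectrum is empty, is excluded; for a proper I nonemptiness is automatic, since otherwise I would be
m-primary and m would be minimal over an ideal generated by t ≤ d − 2 elements, against Krull's
height bound.) -/
theorem result (R : Type u) [CommRing R] [IsDomain R] [IsNoetherianRing R] [IsLocalRing R] [IsAdicComplete (IsLocalRing.maximalIdeal R) R] (d : ℕ) (hd : ringKrullDim R = d) (t : ℕ) (ht : t + 2 ≤ d) (f : Fin t → R) (I : Ideal R) (hItop : I ≠ ⊤) (hI : I.radical = (Ideal.span (Set.range f)).radical) : IsConnected {x : PrimeSpectrum R | I ≤ x.asIdeal ∧ x.asIdeal ≠ IsLocalRing.maximalIdeal R} := by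
  classical
  haveI : Nontrivial (R ⧸ I) := Ideal.Quotient.nontrivial_iff.2 hItop
  haveI : IsLocalRing (R ⧸ I) := IsLocalRing.of_surjective' _ Ideal.Quotient.mk_surjective
  let T := PrimeSpectrum (R ⧸ I)
  let c : T → PrimeSpectrum R := PrimeSpectrum.comap (Ideal.Quotient.mk I)
  let Z : Set T := {IsLocalRing.closedPoint (R ⧸ I)}
  have hmin : minimalPrimes R = {⊥} := IsDomain.minimalPrimes_eq_singleton_bot R
  have hcR : LocCoh.connDim (PrimeSpectrum R) = (d : WithBot ℕ∞) := by
    rw [HLVTLib.Conn.connDim_eq_of_singleton hmin, ← hd]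
    exact ringKrullDim_eq_of_ringEquiv (RingEquiv.quotientBot R)
  have hsR : (d : WithBot ℕ∞) ≤ LocCoh.subdim (PrimeSpectrum R) :=
    HLVTLib.Conn.connDim_eq_subdim_of_singleton hmin ▸ hcR.ge
  have hb := HLVTLib.min_le_ara hItop (Finset.univ.image f) (by simp [hI])
  have hconn : IsConnected Zᶜ := by
    by_contra hZ
    have h0 : LocCoh.connDim T ≤ ((0 : ℕ) : WithBot ℕ∞) := by
      refine (iInf₂_le Z ⟨(IsLocalRing.isClosed_singleton_closedPoint _), hZ⟩).trans ?_
      rw [Nat.cast_zero]
      haveI : DiscreteTopology Z := discreteTopology_iff_forall_isClosed.2 fun s => by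
        rcases Set.subsingleton_of_subsingleton (s := s) |>.eq_empty_or_singleton with h | ⟨z, h⟩
        · rw [h]; exact isClosed_empty
        · rw [h, show ({z} : Set Z) = Set.univ from Set.eq_univ_of_forall fun w => Subsingleton.elim w z]
          exact isClosed_univ
      exact topologicalKrullDim_zero_of_discreteTopology Z
    have h1 : (d : WithBot ℕ∞) ≤ (t + 1 : ℕ) := by
      refine le_trans (le_min (le_trans hcR.ge (le_add_of_nonneg_right zero_le_one)) hsR) (hb.trans ?_)
      refine le_trans (add_le_add (add_le_add h0 le_rfl) le_rfl) ?_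
      have hcard : (Finset.univ.image f).card ≤ t := Finset.card_image_le.trans (by simp)
      exact_mod_cast (show 0 + (Finset.univ.image f).card + 1 ≤ t + 1 by omega)
    have : d ≤ t + 1 := by exact_mod_cast h1
    omega
  have himg : c '' Zᶜ = {x : PrimeSpectrum R | I ≤ x.asIdeal ∧ x.asIdeal ≠ IsLocalRing.maximalIdeal R} := by
    have hm : (IsLocalRing.maximalIdeal (R ⧸ I)).comap (Ideal.Quotient.mk I) = IsLocalRing.maximalIdeal R :=
      IsLocalRing.eq_maximalIdeal (Ideal.comap_isMaximal_of_surjective _ Ideal.Quotient.mk_surjective)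
    ext x
    constructor
    · rintro ⟨y, hy, rfl⟩
      refine ⟨fun w hw => ?_, fun he => hy (PrimeSpectrum.ext ?_)⟩
      · show Ideal.Quotient.mk I w ∈ y.asIdeal
        rw [Ideal.Quotient.eq_zero_iff_mem.2 hw]
        exact zero_mem _
      · refine Ideal.comap_injective_of_surjective _ Ideal.Quotient.mk_surjective ?_
        exact he.trans hm.symm
    · rintro ⟨hIx, hxm⟩
      obtain ⟨y, rfl⟩ : x ∈ Set.range c := by
        rw [range_comap_of_surjective _ _ Ideal.Quotient.mk_surjective, Ideal.mk_ker]
        exact hIx
      exact ⟨y, fun hy => hxm (by rw [Set.mem_singleton_iff.1 hy]; exact hm), rfl⟩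
  rw [← himg]
  exact hconn.image c (PrimeSpectrum.continuous_comap _).continuousOn

end Groth.Agent.S17758
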