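import Groth.Statements.S17763
import Groth.Agent.HLVTLib.Main

set_option autoImplicit false
universe u
open LocCoh

namespace Groth.Agent.S17763

theorem exists_prime_dim_one {R : Type u} [CommRing R] [IsNoetherianRing R] [IsLocalRing R] (I : Ideal R)
    (hI : 0 < ringKrullDim (R ⧸ I)) :
    ∃ p : Ideal R, p.IsPrime ∧ I ≤ p ∧ ringKrullDim (R ⧸ p) = 1 := by
  let S : Set (Ideal R) := {q | q.IsPrime ∧ I ≤ q ∧ q ≠ IsLocalRing.maximalIdeal R}
  have hS : S.Nonempty := by
    by_contra h
    rw [Set.not_nonempty_iff_eq_empty, Set.eq_empty_iff_forall_notMem] at h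
    refine absurd hI (not_lt.2 ?_)
    rw [ringKrullDim_quotient, Order.krullDim_nonpos_iff_forall_isMax]
    intro x y _
    have e : ∀ z : PrimeSpectrum.zeroLocus (I : Set R), z.1.asIdeal = IsLocalRing.maximalIdeal R := fun z => by
      by_contra hne
      exact h z.1.asIdeal ⟨z.1.2, z.2, hne⟩
    exact le_of_eq (Subtype.ext (PrimeSpectrum.ext ((e y).trans (e x).symm)))
  obtain ⟨p, ⟨hp, hIp, hpm⟩, hmax⟩ := set_has_maximal_iff_noetherian.2 inferInstance S hS
  refine ⟨p, hp, hIp, le_antisymm ?_ ?_⟩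
  · rw [ringKrullDim_quotient, Order.krullDim_le_one_iff]
    intro x
    by_cases hx : x.1.asIdeal = IsLocalRing.maximalIdeal R
    · right
      intro y hy
      show y.1.asIdeal ≤ x.1.asIdeal
      rw [hx]
      exact IsLocalRing.le_maximalIdeal y.1.2.ne_top
    · left
      intro y hy
      have hpx : p = x.1.asIdeal := by
        by_contra hne
        exact hmax x.1.asIdeal ⟨x.1.2, hIp.trans x.2, hx⟩ (lt_of_le_of_ne x.2 hne)
      show x.1.asIdeal ≤ y.1.asIdeal
      rw [← hpx]
      exact y.2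
  · haveI := hp
    rw [ringKrullDim_quotient, Order.one_le_krullDim_iff]
    exact ⟨⟨⟨p, hp⟩, show (p : Set R) ⊆ p from le_rfl⟩,
      ⟨IsLocalRing.closedPoint R, IsLocalRing.le_maximalIdeal hp.ne_top⟩,
      lt_of_le_of_ne (IsLocalRing.le_maximalIdeal hp.ne_top)
        fun h => hpm (congrArg (fun z => z.1.asIdeal) h)⟩

/-- Let R be a Noetherian local ring of Krull dimension d. Then the following are equivalent: (1)
H^d_I(R) = 0 for every ideal I of R such that R ⧸ I has positive dimension; (2) H^d_p(R) = 0 for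
every prime ideal p of R such that R ⧸ p has dimension one. -/
theorem result (R : Type u) [CommRing R] [IsNoetherianRing R] [IsLocalRing R] (d : ℕ) (hd : ringKrullDim R = d) : (∀ I : Ideal R, 0 < ringKrullDim (R ⧸ I) → Subsingleton (LocCoh.H I d R)) ↔ (∀ (p : Ideal R) [p.IsPrime], ringKrullDim (R ⧸ p) = 1 → Subsingleton (LocCoh.H p d R)) := by
  refine ⟨fun h p _ hp => h p (by rw [hp]; exact zero_lt_one), fun h I hI => ?_⟩
  obtain ⟨p, hp, hIp, hp1⟩ := exists_prime_dim_one I hI
  haveI := hp
  haveI : IsNoetherianRing (AdicCompletion (IsLocalRing.maximalIdeal R) R) :=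
    AdicRingLib.isNoetherianRing_adicCompletion _
  refine HLVTLib.subsingleton_H_hlvt hd I (fun P hP hPd => ?_) R le_rfl
  haveI : P.IsPrime := hP.1.1
  refine (HLVTLib.one_le_dim_of_subsingleton_H hd.le p hp.ne_top (h p hp1) P hPd).trans ?_
  exact ringKrullDim_le_of_surjective (Ideal.Quotient.factor (sup_le_sup_right (Ideal.map_mono hIp) P))
    (Ideal.Quotient.factor_surjective _)

end Groth.Agent.S17763
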