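import Groth.Statements.S17765
import Groth.Agent.DepthLib.AB
-- import your own Groth.Agent.* helpers here

set_option autoImplicit false
universe u
open CategoryTheory
open LocCoh

namespace Groth.Agent.S17765

/-- Let B be a regular local ring, M a finitely generated B-module and p an associated prime ideal of M.
Then the height of p is at most the projective dimension of M: for every n such that M has
projective dimension at most n, ht p ≤ n. -/
theorem result (B : Type u) [CommRing B] [IsRegularLocalRing B] (M : Type u) [AddCommGroup M] [Module B M] [Module.Finite B M] (p : Ideal B) (hp : p ∈ associatedPrimes B M) (n : ℕ) (hn : HasProjectiveDimensionLE (ModuleCat.of B M) n) : p.height ≤ n := by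
  haveI : p.IsPrime := IsAssociatedPrime.isPrime hp
  by_contra hlt
  rw [not_le] at hlt
  haveI := CommAlgDim.isRegularLocalRing_localization B p
  have hd : ringKrullDim (Localization.AtPrime p) = (p.height : WithBot ℕ∞) :=
    IsLocalization.AtPrime.ringKrullDim_eq_height p (Localization.AtPrime p)
  obtain ⟨d, hd'⟩ := ENat.ne_top_iff_exists.1 (Ideal.height_ne_top (Ideal.IsPrime.ne_top inferInstance : p ≠ ⊤))
  rw [← hd'] at hd hlt
  have hnd : n < d := by exact_mod_cast hlt
  have h1 : CommAlgDim.PDLT B M (n + 1) := hn
  have h2 := (h1.localization p.primeCompl (LocalizedModule.mkLinearMap p.primeCompl M)).mono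
    (show n + 1 ≤ d + 1 - 1 by omega)
  have h3 := (DepthLib.le_depth_iff_pdlt (Localization.AtPrime p) (LocalizedModule p.primeCompl M)
    (d := d) hd (n := 1) (by omega)).2 h2
  exact CommAlgDim.maximalIdeal_notMem_of_hasSeqIn_one ((CommAlgDim.le_depth_iff 1).1 h3) hp

end Groth.Agent.S17765
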