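import Groth.Statements.S17774
import Mathlib
import Groth.Agent.CanonModLib.Ext
import Groth.Agent.DualCxLib.LocDualGor
import Groth.Agent.RegImmKindLib.Codim
import Groth.Agent.GorLib.Basic
-- import your own Groth.Agent.* helpers here

set_option autoImplicit false
universe u
open CategoryTheory Opposite
open LocCoh

namespace Groth.Agent.S17774

/-- Let (S, n) be a Gorenstein local ring, I an ideal of S of height g such that R = S ⧸ I is a
Cohen–Macaulay local ring, of Krull dimension d, and E an injective hull of the residue field of S.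
Then the canonical module of R is Ext^g_S(R, S), in the following sense: the Matlis dual
Hom_S(Ext^g_S(R, S), E) is isomorphic as an S-module to the top local cohomology H^d_n(R) of R
regarded as an S-module (existence of an S-linear isomorphism; Hom into E over S and local
cohomology with support in n agree with the corresponding notions over R for R-modules). -/
theorem result (S : Type u) [CommRing S] [LocCoh.IsGorensteinLocalRing S] (I : Ideal S) (g : ℕ) (hg : I.height = g) [LocCoh.IsCohenMacaulayLocalRing (S ⧸ I)] (d : ℕ) (hd : ringKrullDim (S ⧸ I) = d) (E : Type u) [AddCommGroup E] [Module S E] (f : IsLocalRing.ResidueField S →ₗ[S] E) (hf : InjHull.IsInjectiveHull f) : Nonempty ((((Ext S (ModuleCat.{u} S) g).obj (op (ModuleCat.of S (S ⧸ I)))).obj (ModuleCat.of S S) →ₗ[S] E) ≃ₗ[S] LocCoh.H (IsLocalRing.maximalIdeal S) d (S ⧸ I)) := by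
  haveI : Nontrivial (S ⧸ I) := inferInstance
  have hI : I ≠ ⊤ := Ideal.Quotient.nontrivial_iff.1 inferInstance
  have hCM : CommAlgDim.IsCM S := GorLib.isCM_of_gorenstein
  obtain ⟨N, hN⟩ := CommAlgDim.exists_ringKrullDim_eq (R := S)
  obtain ⟨p, hp, hle, hpg⟩ := Ideal.exists_isPrime_height_eq hg
  have hsum : d + g = N := by
    have h2 := RegImmKindLib.dim_quotient_add_le hCM I hI g fun Q _ hQ => hg ▸ Ideal.height_mono hQ
    have h3 := CatLib.ringKrullDim_quotient_add_height hCM p
    rw [hd, hN] at h2
    rw [hpg, hN] at h3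
    have h4 : ringKrullDim (S ⧸ p) ≤ d := hd ▸ ringKrullDim_le_of_surjective (Ideal.Quotient.factor hle) (Ideal.Quotient.factor_surjective _)
    have h5 : (N : WithBot ℕ∞) ≤ ((d + g : ℕ) : WithBot ℕ∞) := by
      rw [← h3, Nat.cast_add]
      exact add_le_add h4 le_rfl
    have h2' : d + g ≤ N := by exact_mod_cast h2
    have h5' : N ≤ d + g := by exact_mod_cast h5
    omega
  obtain ⟨hvan, f₀, hf₀⟩ := Groth.Agent.DualCxLib.gorenstein_localCohomology (A := S) N hN
  obtain ⟨e, -⟩ := InjHullLib.hull_unique hf hf₀
  obtain ⟨D⟩ := CanonModLib.local_duality (R := S) (n := N) (K := S) hN.le hf.isInjective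
    ((LinearMap.ringLmapEquivSelf S S E).trans e) (fun q hq => hvan q (by omega)) (S ⧸ I) g (by omega)
  exact ⟨D.symm.trans (by rw [show N - g = d from by omega])⟩

end Groth.Agent.S17774
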