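import Groth.Statements.S17768
import Mathlib
import Groth.Agent.GrModLib.Pieces

set_option autoImplicit false
universe u
open GrLC

namespace Groth.Agent.S17768

/-- Let R = ⊕_{n ≥ 0} R_n be a Noetherian positively ℤ-graded ring which is *local with unique
homogeneous maximal ideal m (equivalently R_0 is local), and let M be a finitely generated graded
R-module. Then for every i and every n the homogeneous piece H^i_m(M)_n of the graded local
cohomology with support in m, computed from any *injective resolution of M in the graded category,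
is an Artinian R_0-module. -/
theorem result (R : Type u) [CommRing R] [IsNoetherianRing R] (𝒜 : ℤ → AddSubgroup R) [GradedRing 𝒜] (hpos : ∀ n : ℤ, n < 0 → 𝒜 n = ⊥) (m : HomogeneousIdeal 𝒜) (hm : GrLC.IsStarLocal 𝒜 m) (M : Type u) [AddCommGroup M] [Module R M] [Module.Finite R M] (ℳ : ℤ → AddSubgroup M) [DirectSum.Decomposition ℳ] [SetLike.GradedSMul 𝒜 ℳ] (E : GrLC.StarInjRes 𝒜 ℳ) (i : ℕ) (n : ℤ) : IsArtinian (GrLC.deg0 𝒜) (E.Hcomp m i n) := by
  haveI hmax := GrModLib.isMaximal_of_starLocal hpos hm
  refine GrModLib.piece_induction hpos m (GrModLib.posIdeal_le_of_starLocal hpos hm)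
    (fun X _ _ => IsArtinian (GrLC.deg0 𝒜) X) (fun X _ _ _ => inferInstance)
    (fun A B D _ _ _ _ _ _ f g hfg hA hD =>
      haveI := hA; haveI := hD; isArtinian_of_range_eq_ker f g hfg) ?_ ?_ i (GrLC.GMod.of 𝒜 M ℳ)
    (inferInstanceAs (Module.Finite R M)) E n
  · intro N hN F k
    haveI := isNoetherian_of_isNoetherianRing_of_finite R N.carrier
    obtain ⟨e⟩ := GrModLib.nonempty_H_equiv F m 0
    haveI : IsArtinian R (DRing.torsionSub m.toIdeal N.carrier) := by
      obtain ⟨c, hc⟩ := GrModLib.exists_pow_smul_eq_zero (M := DRing.torsionSub m.toIdeal N.carrier) (I := m.toIdeal)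
        (eq_top_iff.2 fun y _ => y.2.imp fun c hc r hr => Subtype.ext (hc r hr))
      refine (isFiniteLength_iff_isNoetherian_isArtinian.1 (Module.length_ne_top_iff.1
        (CommAlgDim.length_ne_top_of_support fun p hp => ?_))).2
      rw [Module.mem_support_iff_of_finite] at hp
      have hle : m.toIdeal ^ c ≤ p.asIdeal := fun r hr => hp (Module.mem_annihilator.2 (hc r hr))
      have hc0 : c ≠ 0 := by
        intro h0
        rw [h0, pow_zero, Ideal.one_eq_top] at hle
        exact p.2.ne_top (eq_top_iff.2 hle)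
      exact hmax.eq_of_le p.2.ne_top ((p.2.pow_le_iff hc0).1 hle) ▸ hmax
    haveI : IsArtinian R (F.H m 0) :=
      isArtinian_of_linearEquiv ((LocCohLib.H0Equiv m.toIdeal N.carrier).symm.trans e.symm)
    exact GrModLib.isArtinian_piece (F.Hgr m 0) (P := F.Hcomp m 0 k) fun x hx => hx
  · intro j N _ F k x hx hK
    refine LocCohLib.isArtinian_of_torsion x (fun y => ?_) hK
    obtain ⟨z, hz⟩ := Submodule.mkQ_surjective ((F.cobdy m (j + 1)).comap (F.cocyc m (j + 1)).subtype) y.1
    obtain ⟨c, hc⟩ := z.2.1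
    refine ⟨c, Subtype.ext ?_⟩
    show (x : R) ^ c • y.1 = 0
    rw [← hz, ← map_smul, show (x : R) ^ c • z = 0 from Subtype.ext (hc _ (Ideal.pow_mem_pow hx c)), map_zero]

end Groth.Agent.S17768
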