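import Groth.Statements.S17769
import Mathlib
import Groth.Agent.GrModLib.StarDim
import Groth.Agent.S14424

set_option autoImplicit false
universe u
open GrLC

namespace Groth.Agent.S17769

/-- Let R = ⊕_{n ≥ 0} R_n be a Noetherian positively ℤ-graded ring which is standard graded (its
irrelevant ideal is generated by R_1), *local with unique homogeneous maximal ideal m,
Cohen–Macaulay, and of Krull dimension d + 1. Let x be a homogeneous element of degree k lying in m
which is a non-zerodivisor on R, and let N be R ⧸ xR as a graded R-module, presented by a surjective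
degree-preserving R-linear map π : R → N with kernel xR. Writing a(·) for the largest degree in
which the top graded local cohomology with support in m is nonzero (computed from *injective
resolutions I of R and F of N), one has a(R ⧸ xR) = a(R) + k, that is, the end of H^d_m(N) equals
the end of H^{d+1}_m(R) plus k. (The published statement does not require x to lie in m; for a
homogeneous unit x of degree 0 one has R ⧸ xR = 0, whose local cohomology vanishes, and the formula
fails. The proof uses that H^d_m(R ⧸ xR) is the top local cohomology, i.e. that x is not a unit, so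
x is taken in m here; for a standard graded ring this excludes only the units of degree 0.) -/
theorem result (R : Type u) [CommRing R] [LocCoh.IsCohenMacaulayRing R] (𝒜 : ℤ → AddSubgroup R) [GradedRing 𝒜] (hpos : ∀ n : ℤ, n < 0 → 𝒜 n = ⊥) (hstd : Ideal.span (⋃ n ∈ Set.Ioi (0 : ℤ), (𝒜 n : Set R)) = Ideal.span ((𝒜 1 : AddSubgroup R) : Set R)) (m : HomogeneousIdeal 𝒜) (hm : GrLC.IsStarLocal 𝒜 m) (d : ℕ) (hd : ringKrullDim R = (d + 1 : ℕ)) (I : GrLC.StarInjRes 𝒜 𝒜) (x : R) (k : ℤ) (hxk : x ∈ 𝒜 k) (hxm : x ∈ m.toIdeal) (hx : IsSMulRegular R x) (N : Type u) [AddCommGroup N] [Module R N] (𝒩 : ℤ → AddSubgroup N) [DirectSum.Decomposition 𝒩] [SetLike.GradedSMul 𝒜 𝒩] (π : R →ₗ[R] N) (hπ : GrLC.IsGrHom 𝒜 𝒩 π) (hπs : Function.Surjective π) (hπk : LinearMap.ker π = Ideal.span {x}) (F : GrLC.StarInjRes 𝒜 𝒩) : GrLC.endDeg (F.Hgr m d) = GrLC.endDeg (I.Hgr m (d + 1)) + ((k : WithTop ℤ) : WithBot (WithTop ℤ)) := by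
  haveI : IsNoetherianRing R := inferInstance
  have hmax := GrModLib.isMaximal_of_starLocal hpos hm
  have hk : 0 ≤ k := by
    by_contra hk
    have hx0 : x = 0 := GrModLib.eq_zero_of_neg hpos (by omega) hxk
    have h10 : (1 : R) = 0 := hx (by rw [hx0]; simp)
    exact hmax.ne_top ((Ideal.eq_top_iff_one _).2 (by rw [h10]; exact zero_mem _))
  have hh : m.toIdeal.height = ((d + 1 : ℕ) : ℕ∞) := by
    have h := (GrModLib.ringKrullDim_eq_height hpos hm).symm.trans hd
    exact_mod_cast h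
  haveI hsub : Subsingleton (LocCoh.H m.toIdeal d R) := by
    refine (LocCohLib.le_idealDepth_iff_subsingleton_H (I := m.toIdeal) R (d + 1)).1 ?_ d (Nat.lt_succ_self d)
    rw [(S14424.result R).1 inferInstance m.toIdeal hmax.ne_top, hh]
  have hf : GrLC.IsGrHomDeg 𝒜 𝒜 (x • (LinearMap.id : R →ₗ[R] R)) k := fun j v hv => by
    rw [add_comm]; exact GrModLib.smul_mem 𝒜 𝒜 hxk hv
  have hπdeg : GrLC.IsGrHomDeg 𝒜 𝒩 π 0 := fun j v hv => by rw [add_zero]; exact hπ j v hv
  have hex : LinearMap.ker π = LinearMap.range (x • (LinearMap.id : R →ₗ[R] R)) := by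
    rw [hπk]
    ext r
    rw [Ideal.mem_span_singleton', LinearMap.mem_range]
    exact ⟨fun ⟨c, hc⟩ => ⟨c, by simp [← hc, mul_comm]⟩, fun ⟨c, hc⟩ => ⟨c, by simp [← hc, mul_comm]⟩⟩
  obtain ⟨δ, hδ, -, hle⟩ := GrModLib.exists_les hf hπdeg hx hπs hex I I F m
  have hxmap : ∀ w, GrModLib.Hmap I I m (x • (LinearMap.id : R →ₗ[R] R)) k hf (d + 1) w = x • w := fun w => by
    rw [GrModLib.Hmap_smul I m x hf hxk]; rfl
  have hinj : ∀ w, δ d w = 0 → w = 0 := fun w hw => by
    obtain ⟨v, rfl⟩ := ((hle d).2.1 w).1 hw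
    obtain ⟨e⟩ := GrModLib.nonempty_H_equiv I m d
    rw [e.injective (Subsingleton.elim (e v) (e 0)), map_zero]
  have hne : ∀ {M' : Type u} [AddCommGroup M'] (ℳ' : ℤ → AddSubgroup M') (n : ℤ), ℳ' n ≠ ⊥ →
      ((n : WithTop ℤ) : WithBot (WithTop ℤ)) ≤ GrLC.endDeg ℳ' := fun ℳ' n h => le_iSup₂_of_le n h le_rfl
  have hup : ∀ n, F.Hgr m d n ≠ ⊥ → I.Hgr m (d + 1) (n - k) ≠ ⊥ := by
    intro n hn h
    refine hn ((AddSubgroup.eq_bot_iff_forall _).2 fun w hw => hinj w ?_)
    have h1 := hδ d n w hw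
    rw [show n + -(k + 0) = n - k by ring, h] at h1
    exact AddSubgroup.mem_bot.1 h1
  have hdown : ∀ n, I.Hgr m (d + 1) n ≠ ⊥ → ∃ n', n + k ≤ n' ∧ F.Hgr m d n' ≠ ⊥ := by
    intro n hn
    obtain ⟨y, hy, hy0⟩ : ∃ y ∈ I.Hgr m (d + 1) n, y ≠ 0 := by
      by_contra h
      push Not at h
      exact hn ((AddSubgroup.eq_bot_iff_forall _).2 h)
    obtain ⟨z, rfl⟩ := Submodule.mkQ_surjective _ y
    obtain ⟨c, hc⟩ := z.2.1
    have hc0 : x ^ c • (I.toH m (d + 1) z) = 0 := by
      rw [← map_smul, show x ^ c • z = 0 from Subtype.ext (hc _ (Ideal.pow_mem_pow hxm c)), map_zero]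
    clear hn hc
    generalize hYdef : I.toH m (d + 1) z = Y at hc0
    replace hy : Y ∈ I.Hgr m (d + 1) n := hYdef ▸ hy
    replace hy0 : Y ≠ 0 := hYdef ▸ hy0
    clear hYdef
    induction c generalizing n Y with
    | zero => exact absurd (by simpa using hc0) hy0
    | succ c ih =>
      by_cases hx1 : x • Y = 0
      · refine ⟨n + k, le_rfl, fun h => ?_⟩
        obtain ⟨v, hv, hvY⟩ := GrModLib.preimage_homogeneous (hδ d) (g := n + k)
          (show Y ∈ I.Hgr m (d + 1) (n + k + -(k + 0)) by rw [show n + k + -(k + 0) = n by ring]; exact hy)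
          (((hle d).2.2 Y).1 ((hxmap Y).trans hx1))
        rw [h] at hv
        rw [AddSubgroup.mem_bot.1 hv, map_zero] at hvY
        exact hy0 hvY.symm
      · obtain ⟨n', hn', h'⟩ := ih (n + k) (x • Y) (by rwa [← mul_smul, ← pow_succ])
          (by rw [add_comm n k]; exact GrModLib.smul_mem 𝒜 (I.Hgr m (d + 1)) hxk hy) hx1
        exact ⟨n', by omega, h'⟩
  refine le_antisymm (iSup₂_le fun n hn => ?_) ?_
  · refine le_of_eq_of_le ?_ (add_le_add (hne _ _ (hup n hn)) le_rfl)
    rw [← WithBot.coe_add, ← WithTop.coe_add, sub_add_cancel]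
  · rcases hA : GrLC.endDeg (F.Hgr m d) with _ | (_ | z)
    · have : GrLC.endDeg (I.Hgr m (d + 1)) = ⊥ := eq_bot_iff.2 (iSup₂_le fun n hn => by
        obtain ⟨n', -, h'⟩ := hdown n hn
        have := hne _ _ h'
        rw [hA] at this
        exact absurd this (WithBot.bot_lt_coe _).not_ge)
      rw [this, WithBot.bot_add]
      exact le_rfl
    · exact le_top (α := WithBot (WithTop ℤ))
    · have : GrLC.endDeg (I.Hgr m (d + 1)) ≤ (((z - k : ℤ) : WithTop ℤ) : WithBot (WithTop ℤ)) :=
        iSup₂_le fun n hn => by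
          obtain ⟨n', hn', h'⟩ := hdown n hn
          have := hne _ _ h'
          rw [hA] at this
          have h2 : n' ≤ z := WithTop.coe_le_coe.1 (WithBot.coe_le_coe.1 this)
          exact WithBot.coe_le_coe.2 (WithTop.coe_le_coe.2 (by omega))
      refine (add_le_add this le_rfl).trans (le_of_eq ?_)
      rw [← WithBot.coe_add, ← WithTop.coe_add, sub_add_cancel]
      rfl

end Groth.Agent.S17769
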