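import Groth.Statements.S17771
import Mathlib
import Groth.Agent.GrModLib.CMLib

set_option autoImplicit false
universe u
open GrLC

namespace Groth.Agent.S17771

/-- Let R = ⊕_{n ≥ 0} R_n be a positively ℤ-graded ring which is standard graded (irrelevant ideal
generated by R_1), with R_0 Artinian, *local with unique homogeneous maximal ideal m, and
Cohen–Macaulay of Krull dimension d. Then the a-invariant of R is at least −d: the end (largest
nonzero degree) of the graded local cohomology module H^d_m(R), computed from any *injective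
resolution of R in the graded category, is ≥ −d. (Equality holds exactly for polynomial rings
R_0[T_1, …, T_d]; that characterisation is not part of this statement.) -/
theorem result (R : Type u) [CommRing R] [LocCoh.IsCohenMacaulayRing R] (𝒜 : ℤ → AddSubgroup R) [GradedRing 𝒜] (hpos : ∀ n : ℤ, n < 0 → 𝒜 n = ⊥) (hstd : Ideal.span (⋃ n ∈ Set.Ioi (0 : ℤ), (𝒜 n : Set R)) = Ideal.span ((𝒜 1 : AddSubgroup R) : Set R)) [IsArtinianRing (GrLC.deg0 𝒜)] (m : HomogeneousIdeal 𝒜) (hm : GrLC.IsStarLocal 𝒜 m) (d : ℕ) (hd : ringKrullDim R = d) (I : GrLC.StarInjRes 𝒜 𝒜) : (((-(d : ℤ) : ℤ) : WithTop ℤ) : WithBot (WithTop ℤ)) ≤ GrLC.endDeg (I.Hgr m d) := by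
  have hle : (GrModLib.posIdeal 𝒜).toIdeal ≤ m.toIdeal := GrModLib.posIdeal_le_of_starLocal hpos hm
  obtain ⟨c, hc⟩ := Ideal.exists_pow_le_of_le_radical_of_fg (GrModLib.starLocal_le_radical hpos hm)
    (IsNoetherian.noetherian _)
  have hgam : ∀ (X : Type u) [AddCommGroup X] [Module R X],
      GrLC.gam (GrModLib.posIdeal 𝒜).toIdeal X = GrLC.gam m.toIdeal X := fun X _ _ => by
    refine le_antisymm (fun v ⟨k, hk⟩ => ⟨c * k, fun r hr => hk r ?_⟩) (GrModLib.gam_mono hle)
    rw [pow_mul] at hr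
    exact Ideal.pow_right_mono hc k hr
  by_contra hlt
  have hE : GrLC.endDeg (I.Hgr m d) ≤ (((-(d : ℤ) - 1 : ℤ) : WithTop ℤ) : WithBot (WithTop ℤ)) := by
    rcases hA : GrLC.endDeg (I.Hgr m d) with _ | (_ | z)
    · exact bot_le
    · exact absurd (le_top (α := WithBot (WithTop ℤ))) (by rwa [hA] at hlt)
    · rw [hA] at hlt
      refine WithBot.coe_le_coe.2 (WithTop.coe_le_coe.2 ?_)
      by_contra hz
      exact hlt (WithBot.coe_le_coe.2 (WithTop.coe_le_coe.2 (by omega)))
  have hreg : GrModLib.RegLE (GrModLib.posIdeal 𝒜) 𝒜 (-1) := by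
    intro i n hn
    refine GrModLib.van_of_gam_eq hgam ?_
    rcases lt_trichotomy i d with hi | hi | hi
    · exact GrModLib.van_below_dim hpos hm hd i hi n
    · subst hi
      exact (GrModLib.endDeg_le_iff I i _).1 hE n (by omega)
    · refine GrModLib.van_of_subsingleton_H (LocCohLib.subsingleton_H_of_supportDim_lt i R ?_) n
      rw [Module.supportDim_self_eq_ringKrullDim, hd]
      exact_mod_cast hi
  have h1 : (1 : R) ∈ (GrModLib.posIdeal 𝒜).toIdeal • (⊤ : Submodule R R) :=
    GrModLib.mem_smul_top (ℳ := 𝒜) hstd (fun j => hreg (j + 1) _ (by push_cast; omega))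
      (hreg 0 0 (by simp)) (SetLike.one_mem_graded 𝒜)
  rw [smul_eq_mul, Ideal.mul_top] at h1
  exact (GrModLib.isMaximal_of_starLocal hpos hm).ne_top ((Ideal.eq_top_iff_one _).2 (hle h1))

end Groth.Agent.S17771
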