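import Groth.Statements.S17772
import Mathlib
import Groth.Agent.GrModLib.Hilbert

set_option autoImplicit false
universe u
open GrLC

namespace Groth.Agent.S17772

/-- Let R = ⊕_{n ≥ 0} R_n be a positively ℤ-graded ring which is standard graded (irrelevant ideal
generated by R_1), with R_0 Artinian, *local with unique homogeneous maximal ideal m, and
Cohen–Macaulay of Krull dimension d; let H_R(n) = ℓ_{R_0}(R_n) be its Hilbert function and P_R ∈
ℚ[X] its Hilbert polynomial (a polynomial agreeing with H_R for all large n, taken as given). Then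
the a-invariant of R, the largest degree in which H^d_m(R) is nonzero (computed from any *injective
resolution of R), equals the supremum of the integers n with P_R(n) ≠ H_R(n). (The published text
writes 'min' for this supremum; the set of such n is unbounded below whenever it is nonempty, e.g.
all n < 0 for a polynomial ring over a field, and the published one-line proof H_R(n) − P_R(n) =
(−1)^d ℓ(H^d_m(R)_n) identifies the set with the nonzero degrees of H^d_m(R), whose largest element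
is a(R).) -/
theorem result (R : Type u) [CommRing R] [LocCoh.IsCohenMacaulayRing R] (𝒜 : ℤ → AddSubgroup R) [GradedRing 𝒜] (hpos : ∀ n : ℤ, n < 0 → 𝒜 n = ⊥) (hstd : Ideal.span (⋃ n ∈ Set.Ioi (0 : ℤ), (𝒜 n : Set R)) = Ideal.span ((𝒜 1 : AddSubgroup R) : Set R)) [IsArtinianRing (GrLC.deg0 𝒜)] (m : HomogeneousIdeal 𝒜) (hm : GrLC.IsStarLocal 𝒜 m) (d : ℕ) (hd : ringKrullDim R = d) (I : GrLC.StarInjRes 𝒜 𝒜) (P : Polynomial ℚ) (hP : ∃ N : ℤ, ∀ n : ℤ, N ≤ n → P.eval (n : ℚ) = ((Module.length (GrLC.deg0 𝒜) (GrLC.comp 𝒜 𝒜 n)).toNat : ℚ)) : GrLC.endDeg (I.Hgr m d) = ⨆ (n : ℤ) (_ : P.eval (n : ℚ) ≠ ((Module.length (GrLC.deg0 𝒜) (GrLC.comp 𝒜 𝒜 n)).toNat : ℚ)), ((n : WithTop ℤ) : WithBot (WithTop ℤ)) := by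
  haveI : Module.Finite R (GrLC.GMod.of 𝒜 R 𝒜).carrier := inferInstanceAs (Module.Finite R R)
  have ha := GrModLib.posIdeal_le_of_starLocal hpos hm
  have har := GrModLib.starLocal_le_radical hpos hm
  have key : ∀ n : ℤ, P.eval (n : ℚ) ≠ ((Module.length (GrLC.deg0 𝒜) (GrLC.comp 𝒜 𝒜 n)).toNat : ℚ) ↔
      I.Hgr m d n ≠ ⊥ := by
    intro n
    have h := GrModLib.hf_sub_eval_eq_chi hpos ha har hd.le P (GrLC.GMod.of 𝒜 R 𝒜) hP I n
    change ((Module.length (GrLC.deg0 𝒜) (GrLC.comp 𝒜 𝒜 n)).toNat : ℚ) - P.eval (n : ℚ) = _ at h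
    rw [GrModLib.chi, Finset.sum_eq_single d
      (fun i hi hid => by
        have hlt : i < d := lt_of_le_of_ne (Nat.lt_succ_iff.1 (Finset.mem_range.1 hi)) hid
        rw [GrModLib.qlen_Hcomp_of_van (N := GrLC.GMod.of 𝒜 R 𝒜) (GrModLib.van_below_dim hpos hm hd i hlt n) I,
          mul_zero])
      (fun h => absurd (Finset.self_mem_range_succ d) h)] at h
    refine not_congr ⟨fun he => ?_, fun he => ?_⟩
    · rw [he, sub_self] at h
      have h0 := (mul_eq_zero.1 h.symm).resolve_left (pow_ne_zero _ (by norm_num))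
      haveI := GrModLib.isNoetherian_Hcomp hpos m ha har (GrLC.GMod.of 𝒜 R 𝒜) I d n
      have hss := GrModLib.qlen_eq_zero h0
      exact (AddSubgroup.eq_bot_iff_forall _).2 fun y hy =>
        congrArg Subtype.val (hss.elim ⟨y, hy⟩ 0)
    · have h0 : GrModLib.qlen (K := GrLC.deg0 𝒜) (I.Hcomp m d n) = 0 := by
        haveI : Subsingleton (I.Hcomp m d n) := ⟨fun u v => Subtype.ext
          (((AddSubgroup.eq_bot_iff_forall _).1 he _ u.2).trans ((AddSubgroup.eq_bot_iff_forall _).1 he _ v.2).symm)⟩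
        exact GrModLib.qlen_subsingleton _
      erw [h0, mul_zero, sub_eq_zero] at h
      exact h.symm
  exact iSup_congr fun n => iSup_congr_Prop (key n).symm fun _ => rfl

end Groth.Agent.S17772
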