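import Groth.Statements.S17773
import Mathlib
import Groth.Agent.TorBalLib.Basic
-- import your own Groth.Agent.* helpers here

set_option autoImplicit false
universe u
open CategoryTheory CategoryTheory.Limits
open CAlg

namespace Groth.Agent.S17773

/-- Let R be a commutative ring, M and N two R-modules, and F a flat resolution of M: a chain complex F
of flat R-modules concentrated in non-negative degrees together with a quasi-isomorphism from F to M
placed in degree 0. Then for every i ≥ 0 the i-th homology module of the complex F ⊗_R N is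
isomorphic to Tor_i^R(M, N), the i-th left derived functor of − ⊗_R N evaluated at M (existence of
an isomorphism of R-modules). -/
theorem result (R : Type u) [CommRing R] (M N : Type u) [AddCommGroup M] [Module R M] [AddCommGroup N] [Module R N] (F : ChainComplex (ModuleCat.{u} R) ℕ) (hF : ∀ i : ℕ, Module.Flat R (F.X i)) (φ : F ⟶ (ChainComplex.single₀ (ModuleCat.{u} R)).obj (ModuleCat.of R M)) [QuasiIso φ] (i : ℕ) : Nonempty ((((MonoidalCategory.tensorRight (ModuleCat.of R N)).mapHomologicalComplex (ComplexShape.down ℕ)).obj F).homology i ≅ ((Tor' (ModuleCat.{u} R) i).obj (ModuleCat.of R M)).obj (ModuleCat.of R N)) := by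
  let M' := ModuleCat.of R M
  let N' := ModuleCat.of R N
  let Q := projectiveResolution N'
  let Fc : CochainComplex (ModuleCat.{u} R) ℤ := F.extend ComplexShape.embeddingDownNat
  let π : Fc ⟶ (CochainComplex.singleFunctor (ModuleCat.{u} R) 0).obj M' :=
    (ComplexShape.embeddingDownNat.extendFunctor _).map φ ≫
      (HomologicalComplex.extendSingleIso _ _ _ _ (by simp)).hom
  haveI : QuasiIso π := by
    haveI : QuasiIso ((ComplexShape.embeddingDownNat.extendFunctor (ModuleCat.{u} R)).map φ) :=
      (HomologicalComplex.quasiIso_extendMap_iff φ ComplexShape.embeddingDownNat).2 ‹_›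
    exact (quasiIso_iff_comp_right _ _).2 ‹_›
  haveI hle : Fc.IsStrictlyLE 0 := by dsimp [Fc]; infer_instance
  have hF' : DRing.IsKFlat R Fc := KFlatLib.isKFlat_of_bounded_flat _ 0
    (fun j hj => CochainComplex.isZero_of_isStrictlyLE Fc 0 j hj) fun j => by
      by_cases hj : j ≤ 0
      · have := hF (-j).toNat
        exact Module.Flat.of_linearEquiv
          (F.extendXIso ComplexShape.embeddingDownNat (i := (-j).toNat) (by simp; lia)).toLinearEquiv
      · haveI := ModuleCat.subsingleton_of_isZero (CochainComplex.isZero_of_isStrictlyLE Fc 0 j (by lia))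
        infer_instance
  obtain ⟨eM⟩ := Groth.Agent.DRingLib.nonempty_singleTensorIso M' Q.cochainComplex
  obtain ⟨eN⟩ := Groth.Agent.DRingLib.nonempty_singleTensorIso N' Fc
  let N₀ := (CochainComplex.singleFunctor (ModuleCat.{u} R) 0).obj N'
  have q₁ : QuasiIso (KFlatLib.tMap π (𝟙 Q.cochainComplex)) :=
    KFlatLib.quasiIso_tMap_right (Groth.Agent.DRingLib.isKFlat_projectiveResolution Q) π
  have q₂ : QuasiIso (KFlatLib.tMap (𝟙 Fc) Q.π') := KFlatLib.quasiIso_tMap_left hF' Q.π'
  have i₁ : IsIso (HomologicalComplex.homologyMap (KFlatLib.tMap π (𝟙 Q.cochainComplex)) (-(i : ℤ))) :=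
    (quasiIsoAt_iff_isIso_homologyMap _ _).mp (q₁.quasiIsoAt _)
  have i₂ : IsIso (HomologicalComplex.homologyMap (KFlatLib.tMap (𝟙 Fc) Q.π') (-(i : ℤ))) :=
    (quasiIsoAt_iff_isIso_homologyMap _ _).mp (q₂.quasiIsoAt _)
  let H := HomologicalComplex.homologyFunctor (ModuleCat.{u} R) (ComplexShape.up ℤ) (-(i : ℤ))
  let eT : KFlatLib.tensorN Fc N' ≅ KFlatLib.tT Fc N₀ :=
    ((NatIso.mapHomologicalComplex (BraidedCategory.tensorLeftIsoTensorRight N')
      (ComplexShape.up ℤ)).app Fc).symm ≪≫ eN.symm ≪≫ KFlatLib.tensorFlipIso Fc N₀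
  let e := H.mapIso eT ≪≫ (@asIso _ _ _ _ _ i₂).symm ≪≫ (@asIso _ _ _ _ _ i₁) ≪≫ H.mapIso eM
  obtain ⟨eQ⟩ := TorBalLib.nonempty_homology_mapExtend (MonoidalCategory.tensorLeft M') Q i
  let eF : (((MonoidalCategory.tensorRight N').mapHomologicalComplex (ComplexShape.up ℤ)).obj Fc).homology (-(i : ℤ)) ≅
      (((MonoidalCategory.tensorRight N').mapHomologicalComplex (ComplexShape.down ℕ)).obj F).homology i :=
    H.mapIso (TorBalLib.mapExtendIso (MonoidalCategory.tensorRight N') F) ≪≫
      HomologicalComplex.extendHomologyIso _ ComplexShape.embeddingDownNat (j := i) (j' := -(i : ℤ)) (by simp)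
  let P := projectiveResolution M'
  obtain ⟨eP⟩ := TorBalLib.nonempty_tor_iso M' N' P i
  let TorI : ((CategoryTheory.Tor (ModuleCat.{u} R) i).obj M').obj N' ≅
      ((Tor' (ModuleCat.{u} R) i).obj M').obj N' :=
    eP ≪≫ (P.isoLeftDerivedObj (MonoidalCategory.tensorRight N') i).symm
  exact ⟨eF.symm ≪≫ e ≪≫ eQ ≪≫ (Q.isoLeftDerivedObj (MonoidalCategory.tensorLeft M') i).symm ≪≫ TorI⟩

end Groth.Agent.S17773
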