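import Groth.Statements.S17776
import Groth.Agent.LocCohLib.Cech

set_option autoImplicit false
universe u
open CategoryTheory CategoryTheory.Limits
attribute [local instance] HasDerivedCategory.standard
open LocCoh

namespace Groth.Agent.S17776

/-- Let R be an arbitrary commutative ring, x_1, …, x_n a finite list of elements of R generating the
ideal I, and M an R-module. Then the degree-zero cohomology of the extended Čech complex 0 → M → ⊕
M_{x_i} → ⊕ M_{x_i x_j} → ⋯ is isomorphic to Γ_I(M), the submodule of elements of M annihilated by
some power of I (existence of an isomorphism of R-modules; R need not be Noetherian). -/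
theorem result (R : Type u) [CommRing R] (fs : List R) (M : Type u) [AddCommGroup M] [Module R M] : Nonempty (DerCA.extCechH fs (ModuleCat.of R M) 0 ≅ (DRing.gammaI (Ideal.span {x | x ∈ fs})).obj (ModuleCat.of R M)) := by
  exact ⟨((LinearEquiv.ofInjective (LocCohLib.toM fs (ModuleCat.of R M)).hom
    (LocCohLib.toM_spec (ModuleCat.of R M) fs).1).trans
    (LinearEquiv.ofEq _ _ (LocCohLib.toM_spec (ModuleCat.of R M) fs).2)).toModuleIso⟩

end Groth.Agent.S17776
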