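import Groth.Statements.S17779
import Mathlib.Data.Nat.Choose.Sum
import Mathlib.Data.Nat.Choose.Basic
import Mathlib.Tactic.LinearCombination

set_option autoImplicit false
open DRR

namespace Groth.Agent.S17779

/-- For natural numbers n and k with k ≤ n + 1, the alternating sum over j = 0, …, n of (−1)^(n−j) C(n,
j) j^k (with the convention 0^0 = 1) equals n! · n(n+1)/2 when k = n + 1, equals n! when k = n, and
vanishes when k < n. (The published statement takes n ≥ 1 and divides through by n!; the case n = 0
holds as well and is included.) -/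
theorem result (n k : ℕ) (hk : k ≤ n + 1) :
    (∑ j ∈ Finset.range (n + 1), (-1 : ℤ) ^ (n - j) * (n.choose j : ℤ) * (j : ℤ) ^ k) =
      (if k = n + 1 then (((n + 1).choose 2 * n.factorial : ℕ) : ℤ)
        else if k = n then (n.factorial : ℤ) else 0) := by
  let S : ℕ → ℕ → ℤ := fun n k =>
    ∑ j ∈ Finset.range (n + 1), (-1 : ℤ) ^ (n - j) * (n.choose j : ℤ) * (j : ℤ) ^ k
  have h0 : ∀ n, S n 0 = if n = 0 then 1 else 0 := fun n => by
    rcases Nat.eq_zero_or_pos n with rfl | hn
    · simp [S]
    · rw [if_neg (by omega)]
      have := add_pow (1 : ℤ) (-1) n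
      rw [add_neg_cancel, zero_pow (by omega)] at this
      rw [this]
      refine Finset.sum_congr rfl fun j _ => ?_
      simp
  have hrec : ∀ n k, S (n + 1) (k + 1) = (n + 1 : ℤ) * (S (n + 1) k + S n k) := fun n k => by
    simp only [S]
    rw [Finset.sum_range_succ _ (n + 1), Finset.sum_range_succ _ (n + 1), Nat.sub_self, pow_zero,
      Nat.choose_self, Nat.cast_one, one_mul, one_mul, mul_add, mul_add, Finset.mul_sum, Finset.mul_sum,
      add_right_comm, ← Finset.sum_add_distrib]
    congr 1
    · refine Finset.sum_congr rfl fun j hj => ?_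
      have hj' : j ≤ n := Nat.lt_succ_iff.mp (Finset.mem_range.mp hj)
      obtain ⟨l, rfl⟩ := Nat.exists_eq_add_of_le hj'
      have e := (j + l).choose_mul_succ_eq j
      rw [show j + l + 1 - j = l + 1 by omega] at e
      have e' : ((j + l).choose j : ℤ) * ((j + l + 1 : ℕ) : ℤ) =
          ((j + l + 1).choose j : ℤ) * ((l + 1 : ℕ) : ℤ) := by exact_mod_cast e
      rw [show j + l + 1 - j = l + 1 by omega, show j + l - j = l by omega, pow_succ, pow_succ]
      push_cast at e' ⊢
      linear_combination (-(-1 : ℤ) ^ l * (j : ℤ) ^ k) * e'
    · push_cast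
      ring
  have main : ∀ n k, k ≤ n + 1 → S n k =
      if k = n + 1 then (((n + 1).choose 2 * n.factorial : ℕ) : ℤ)
        else if k = n then (n.factorial : ℤ) else 0 := by
    intro n
    induction n with
    | zero =>
      intro k hk
      rcases Nat.le_one_iff_eq_zero_or_eq_one.mp hk with rfl | rfl <;> simp [S]
    | succ n ih =>
      intro k
      induction k with
      | zero =>
        intro _
        rw [h0]
        simp
      | succ k ihk =>
        intro hk
        rw [hrec, ihk (by omega), ih k (by omega)]
        rw [if_neg (show ¬ k = n + 1 + 1 by omega)]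
        rcases Nat.lt_trichotomy k n with hlt | rfl | hgt
        · rw [if_neg (show ¬ k = n + 1 by omega), if_neg (show ¬ k = n + 1 by omega),
            if_neg (show ¬ k = n by omega), if_neg (by omega), if_neg (by omega)]
          simp
        · rw [if_neg (show ¬ k = k + 1 by omega), if_neg (show ¬ k = k + 1 by omega), if_pos rfl,
            if_neg (by omega), if_pos rfl, Nat.factorial_succ]
          push_cast
          ring
        · obtain rfl : k = n + 1 := by omega
          rw [if_pos rfl, if_pos rfl, if_pos rfl, Nat.choose_succ_succ' (n + 1) 1, Nat.choose_one_right,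
            Nat.factorial_succ]
          push_cast
          ring
  exact main n k hk

end Groth.Agent.S17779
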