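import Groth.Statements.S17780
import Mathlib


-- import your own Groth.Agent.* helpers here

set_option autoImplicit false
universe u
open DRR

namespace Groth.Agent.S17780

/-- For x, y in a commutative ring and a natural number n, (n+1)! · x · y^n equals the sum over j = 0,
…, n of (−1)^(n−j) C(n, j) (x + j y)^(n+1), minus (n · (n+1)!/2) · y^(n+1). (The published identity
is stated in ℚ[x, y] with an overall factor 1/(n+1) and the coefficients C(n, j)(−1)^(n−j)/n!; it is
given here multiplied through by (n+1)!, which makes it an identity with integer coefficients valid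
in every commutative ring; n · (n+1)!/2 is an integer.) -/
theorem result (A : Type u) [CommRing A] (x y : A) (n : ℕ) :
    ((n + 1).factorial : A) * x * y ^ n =
      (∑ j ∈ Finset.range (n + 1), (-1 : A) ^ (n - j) * (n.choose j : A) * (x + (j : A) * y) ^ (n + 1))
        - ((n * (n + 1).factorial / 2 : ℕ) : A) * y ^ (n + 1) := by
  set T : ℕ → ℕ → ℤ := fun m k => ∑ j ∈ Finset.range (m + 1), (-1) ^ (m - j) * (m.choose j : ℤ) * (j : ℤ) ^ k with hT
  have hrec : ∀ m k, T (m + 1) (k + 1) = (m + 1) * ∑ i ∈ Finset.range (k + 1), (k.choose i : ℤ) * T m i := by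
    intro m k
    simp only [hT]
    rw [Finset.sum_range_succ', Finset.mul_sum]
    simp only [Nat.cast_zero, zero_pow (Nat.succ_ne_zero k), mul_zero, add_zero]
    simp only [Finset.mul_sum]
    rw [Finset.sum_comm]
    refine Finset.sum_congr rfl fun j hj => ?_
    have hc : ((j + 1 : ℕ) : ℤ) * ((m + 1).choose (j + 1) : ℤ) = (m + 1 : ℤ) * (m.choose j : ℤ) := by
      have := Nat.add_one_mul_choose_eq m j
      have h' : (j + 1) * (m + 1).choose (j + 1) = (m + 1) * m.choose j := by rw [this]; ring
      exact_mod_cast h' 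
    rw [show m + 1 - (j + 1) = m - j by omega, pow_succ (((j + 1 : ℕ)) : ℤ) k]
    have hb : (((j + 1 : ℕ)) : ℤ) ^ k = ∑ i ∈ Finset.range (k + 1), (k.choose i : ℤ) * (j : ℤ) ^ i := by
      push_cast
      rw [add_pow]
      exact Finset.sum_congr rfl fun i _ => by rw [one_pow, mul_one, mul_comm]
    calc (-1 : ℤ) ^ (m - j) * ((m + 1).choose (j + 1) : ℤ) * ((((j + 1 : ℕ)) : ℤ) ^ k * ((j + 1 : ℕ) : ℤ))
        = (-1 : ℤ) ^ (m - j) * (((j + 1 : ℕ) : ℤ) * ((m + 1).choose (j + 1) : ℤ)) * (((j + 1 : ℕ)) : ℤ) ^ k := by ring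
      _ = _ := by
        rw [hc, hb, Finset.mul_sum]
        exact Finset.sum_congr rfl fun i _ => by ring
  have hzero : ∀ m, T (m + 1) 0 = 0 := by
    intro m
    simp only [hT, pow_zero, mul_one]
    have h := add_pow (1 : ℤ) (-1) (m + 1)
    rw [add_neg_cancel, zero_pow (Nat.succ_ne_zero m)] at h
    simp only [one_pow, one_mul] at h
    exact h.symm
  have key : ∀ m, (∀ k < m, T m k = 0) ∧ T m m = m.factorial ∧ 2 * T m (m + 1) = (m * (m + 1).factorial : ℕ) := by
    intro m
    induction m with
    | zero => simp [hT]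
    | succ m ih =>
      obtain ⟨h0, h1, h2⟩ := ih
      have hlow : ∀ k ≤ m + 1, ∀ i ∈ Finset.range k, i < m → (k.choose i : ℤ) * T m i = 0 := fun k _ i _ hi => by rw [h0 i hi, mul_zero]
      refine ⟨fun k hk => ?_, ?_, ?_⟩
      · rcases k with _ | k
        · exact hzero m
        · rw [hrec, Finset.sum_eq_zero fun i hi => by rw [h0 i (by simp at hi; omega), mul_zero], mul_zero]
      · rw [hrec, Finset.sum_range_succ, Finset.sum_eq_zero fun i hi => by rw [h0 i (by simpa using hi), mul_zero], zero_add,
          h1, Nat.choose_self, Nat.factorial_succ]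
        push_cast; ring
      · rw [hrec, Finset.sum_range_succ, Finset.sum_range_succ,
          Finset.sum_eq_zero fun i hi => by rw [h0 i (by simpa using hi), mul_zero], zero_add, h1, Nat.choose_self,
          Nat.choose_succ_self_right, Nat.factorial_succ (m + 1), Nat.factorial_succ m]
        rw [Nat.factorial_succ m] at h2
        push_cast at h2 ⊢
        linear_combination (m + 1 : ℤ) * h2
  obtain ⟨h0, h1, h2⟩ := key n
  have hE : ∑ j ∈ Finset.range (n + 1), (-1 : A) ^ (n - j) * (n.choose j : A) * (x + (j : A) * y) ^ (n + 1) =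
      ∑ k ∈ Finset.range (n + 2), ((n + 1).choose k : A) * x ^ (n + 1 - k) * y ^ k * (T n k : A) := by
    simp only [hT, Int.cast_sum, Finset.mul_sum]
    rw [Finset.sum_comm]
    refine Finset.sum_congr rfl fun j _ => ?_
    rw [add_comm x, add_pow, Finset.mul_sum]
    refine Finset.sum_congr rfl fun k _ => ?_
    push_cast
    ring
  rw [hE, Finset.sum_range_succ, Finset.sum_range_succ, Finset.sum_eq_zero fun k hk => by
    rw [h0 k (by simpa using hk), Int.cast_zero, mul_zero], zero_add, h1, Nat.choose_self, Nat.choose_succ_self_right]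
  have hhalf : T n (n + 1) = ((n * (n + 1).factorial / 2 : ℕ) : ℤ) := by
    have hev : 2 ∣ n * (n + 1).factorial := by
      rcases Nat.eq_zero_or_pos n with rfl | hn
      · simp
      · exact Dvd.dvd.mul_left (Nat.dvd_factorial (by norm_num) (by omega)) _
    obtain ⟨q, hq⟩ := hev
    rw [hq, Nat.mul_div_cancel_left _ (by norm_num)]
    rw [hq] at h2
    push_cast at h2
    linarith
  rw [hhalf, Int.cast_natCast, Int.cast_natCast, Nat.sub_self, pow_zero, show n + 1 - n = 1 by omega, pow_one,
    Nat.factorial_succ]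
  push_cast
  ring

end Groth.Agent.S17780
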