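import Groth.Statements.S17781
import Mathlib.Data.Nat.Choose.Lucas
-- import your own Groth.Agent.* helpers here

set_option autoImplicit false
open Variety

namespace Groth.Agent.S17781

/-- Let d ≥ 1 and N ≥ 1 be integers and let I(d, N) be the greatest common divisor of the quotients d/δ
over the divisors δ of d with 1 ≤ δ ≤ N. Then I(d, N) equals the greatest common divisor of the
integers χ(d, n) = 1 − (−1)^n C(d − 1, n) for 1 ≤ n ≤ N (χ(d, n) is the Euler characteristic of O_H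
for a degree-d hypersurface H in projective n-space). Both greatest common divisors are taken in ℤ,
normalised to be non-negative. -/
theorem result (d N : ℕ) (hd : 1 ≤ d) (hN : 1 ≤ N) :
    (Finset.Icc 1 N).gcd (fun n => 1 - (-1 : ℤ) ^ n * ((d - 1).choose n : ℤ)) =
      ((Finset.Icc 1 N).filter (fun δ => δ ∣ d)).gcd (fun δ => ((d / δ : ℕ) : ℤ)) := by
  classical
  obtain ⟨e, rfl⟩ := Nat.exists_eq_add_of_le' hd
  simp only [Nat.add_sub_cancel]
  set χ : ℕ → ℤ := fun n => 1 - (-1 : ℤ) ^ n * (e.choose n : ℤ) with hχ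
  set G := (Finset.Icc 1 N).gcd χ with hG
  set I := ((Finset.Icc 1 N).filter (fun δ => δ ∣ e + 1)).gcd (fun δ => (((e + 1) / δ : ℕ) : ℤ)) with hI
  have step : ∀ n, χ (n + 1) - χ n = (-1 : ℤ) ^ n * ((e + 1).choose (n + 1) : ℤ) := by
    intro n
    simp only [hχ, Nat.choose_succ_succ', Nat.cast_add, pow_succ]
    ring
  have h0 : χ 0 = 0 := by simp [hχ]
  have hGχ : ∀ n, n ≤ N → G ∣ χ n := by
    intro n hn
    rcases Nat.eq_zero_or_pos n with rfl | h
    · rw [h0]; exact dvd_zero _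
    · exact Finset.gcd_dvd (Finset.mem_Icc.mpr ⟨h, hn⟩)
  have hGC : ∀ k, k + 1 ≤ N → G ∣ ((e + 1).choose (k + 1) : ℤ) := by
    intro k hk
    have h : G ∣ (-1 : ℤ) ^ k * ((e + 1).choose (k + 1) : ℤ) :=
      step k ▸ dvd_sub (hGχ _ hk) (hGχ _ (by omega))
    rcases neg_one_pow_eq_or ℤ k with hs | hs <;> rw [hs] at h <;> simpa using h
  have hIC : ∀ k, k + 1 ≤ N → I ∣ ((e + 1).choose (k + 1) : ℤ) := by
    intro k hk
    have hm : Nat.gcd (e + 1) (k + 1) ∈ (Finset.Icc 1 N).filter (fun δ => δ ∣ e + 1) :=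
      Finset.mem_filter.mpr ⟨Finset.mem_Icc.mpr ⟨Nat.gcd_pos_of_pos_left _ (Nat.succ_pos e),
        (Nat.gcd_le_right _ (Nat.succ_pos k)).trans hk⟩, Nat.gcd_dvd_left _ _⟩
    refine (Finset.gcd_dvd hm).trans (Int.natCast_dvd_natCast.mpr ?_)
    obtain ⟨hg, a, b, hco, ha, hb⟩ : 0 < Nat.gcd (e + 1) (k + 1) ∧ ∃ a b, Nat.Coprime a b ∧
        e + 1 = a * Nat.gcd (e + 1) (k + 1) ∧ k + 1 = b * Nat.gcd (e + 1) (k + 1) := by
      have hg := Nat.gcd_pos_of_pos_left (k + 1) (Nat.succ_pos e)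
      obtain ⟨a, b, hco, ha, hb⟩ := Nat.exists_coprime (e + 1) (k + 1)
      exact ⟨hg, a, b, hco, ha, hb⟩
    have hid : (e + 1) * e.choose k = (e + 1).choose (k + 1) * (k + 1) := Nat.add_one_mul_choose_eq e k
    have hq : (e + 1) / Nat.gcd (e + 1) (k + 1) = a := Nat.div_eq_of_eq_mul_left hg ha
    rw [hq]
    generalize hC : (e + 1).choose (k + 1) = C at hid ⊢
    generalize hgg : Nat.gcd (e + 1) (k + 1) = g at ha hb hg
    refine hco.dvd_of_dvd_mul_right ⟨e.choose k, ?_⟩
    have : g * (a * e.choose k) = g * (C * b) := by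
      rw [ha, hb] at hid; linarith
    exact (Nat.eq_of_mul_eq_mul_left hg this).symm
  refine dvd_antisymm_of_normalize_eq Finset.normalize_gcd Finset.normalize_gcd ?_ ?_
  · refine Finset.dvd_gcd fun δ hδ => ?_
    obtain ⟨hδI, hδd⟩ := Finset.mem_filter.mp hδ
    obtain ⟨hδ1, hδN⟩ := Finset.mem_Icc.mp hδI
    rw [← Int.natAbs_dvd, Int.natCast_dvd_natCast]
    refine Nat.dvd_iff_prime_pow_dvd_dvd _ _ |>.mpr fun p t hp ht => ?_
    haveI := Fact.mk hp
    obtain ⟨j, r, hr, rfl⟩ := Nat.exists_eq_pow_mul_and_not_dvd (Nat.one_le_iff_ne_zero.mp hδ1) p hp.ne_one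
    have lucas : ∀ j m, ¬ p ∣ (m * p ^ j + (p ^ j - 1)).choose (p ^ j - 1) := by
      intro j
      induction j with
      | zero => intro m; simp [hp.ne_one]
      | succ j ih =>
        intro m hdvd
        have hpos : 1 ≤ p ^ j := Nat.one_le_pow _ _ hp.pos
        have e1 : p ^ (j + 1) - 1 = (p ^ j - 1) * p + (p - 1) := by
          rw [pow_succ, Nat.sub_mul, one_mul]
          have : p ≤ p ^ j * p := Nat.le_mul_of_pos_left _ hpos
          have := hp.pos
          omega
        have e2 : m * p ^ (j + 1) + (p ^ (j + 1) - 1) = (m * p ^ j + (p ^ j - 1)) * p + (p - 1) := by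
          rw [e1, pow_succ]; ring
        rw [e2, e1] at hdvd
        have hL := Choose.choose_modEq_choose_mod_mul_choose_div_nat (p := p)
          (n := (m * p ^ j + (p ^ j - 1)) * p + (p - 1)) (k := (p ^ j - 1) * p + (p - 1))
        have hlt : p - 1 < p := Nat.sub_lt hp.pos one_pos
        rw [Nat.mul_add_mod', Nat.mul_add_mod', Nat.mod_eq_of_lt hlt, Nat.choose_self, one_mul,
          Nat.mul_comm _ p, Nat.mul_comm _ p, Nat.mul_add_div hp.pos, Nat.mul_add_div hp.pos,
          Nat.div_eq_of_lt hlt, add_zero, add_zero, Nat.mul_comm p _, Nat.mul_comm p _] at hL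
        exact ih m ((Nat.ModEq.dvd_iff hL dvd_rfl).mp hdvd)
    have hqN : p ^ j ≤ N := (Nat.le_mul_of_pos_right _ (by rcases r with - | r <;> simp at *)).trans hδN
    have hqd : p ^ j ∣ e + 1 := (dvd_mul_right _ r).trans hδd
    obtain ⟨k, hk⟩ := Nat.exists_eq_add_of_le' (Nat.one_le_pow j p hp.pos)
    have htC : p ^ t ∣ (e + 1).choose (k + 1) := Int.natCast_dvd_natCast.mp
      ((Int.natCast_dvd.mpr ht).trans (hGC k (hk ▸ hqN)))
    have hid : (e + 1) * e.choose k = (e + 1).choose (k + 1) * (k + 1) := Nat.add_one_mul_choose_eq e k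
    obtain ⟨c, hc⟩ := hqd
    obtain ⟨c', rfl⟩ : ∃ c', c = c' + 1 := Nat.exists_eq_succ_of_ne_zero (by rintro rfl; simp at hc)
    have hnd : ¬ p ∣ e.choose k := by
      have h := lucas j c'
      rwa [show p ^ j - 1 = k by omega, show c' * p ^ j + k = e by rw [mul_comm]; rw [mul_add, mul_one] at hc; omega] at h
    have h1 : p ^ t * p ^ j ∣ e + 1 := by
      have hcp : Nat.Coprime (p ^ t * p ^ j) (e.choose k) := by
        rw [← pow_add]; exact Nat.Coprime.pow_left _ (hp.coprime_iff_not_dvd.mpr hnd)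
      refine hcp.dvd_of_dvd_mul_right ?_
      rw [hid, ← hk]
      exact Nat.mul_dvd_mul (by rw [hk]; exact htC) dvd_rfl
    have h2 : p ^ t * (p ^ j * r) ∣ e + 1 := by
      rw [← mul_assoc]
      refine Nat.Coprime.mul_dvd_of_dvd_of_dvd ?_ h1 ((dvd_mul_left r _).trans hδd)
      rw [← pow_add]
      exact Nat.Coprime.pow_left _ (hp.coprime_iff_not_dvd.mpr hr)
    rw [Nat.dvd_div_iff_mul_dvd hδd, mul_comm]
    exact h2
  · refine Finset.dvd_gcd fun n hn => ?_
    suffices ∀ n, n ≤ N → I ∣ χ n from this n (Finset.mem_Icc.mp hn).2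
    intro n
    induction n with
    | zero => intro _; rw [h0]; exact dvd_zero _
    | succ n ih =>
      intro hn
      rw [show χ (n + 1) = χ n + (-1 : ℤ) ^ n * ((e + 1).choose (n + 1) : ℤ) by rw [← step n]; ring]
      exact dvd_add (ih (by omega)) (dvd_mul_of_dvd_right (hIC n hn) _)

end Groth.Agent.S17781
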