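import Groth.Statements.S17783
import Groth.Agent.MultFibLib.Basic
import Groth.Agent.CycIntLib.Main

set_option autoImplicit false
set_option maxHeartbeats 1000000
set_option backward.isDefEq.respectTransparency false
set_option backward.isDefEq.respectTransparency.types false
universe u
open CategoryTheory CategoryTheory.Limits AlgebraicGeometry
open Variety

namespace Groth.Agent.S17783

/-- Let R be a discrete valuation ring with fraction field K, let 𝒳 be a normal scheme, proper and flat
over Spec R, with generic fibre the K-scheme X, and let m ≥ 1 be an integer such that the special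
fibre of 𝒳 is m times an effective Cartier divisor D, i.e. the ideal sheaf 𝔪_R · O_𝒳 of the special
fibre is the m-th power of the ideal sheaf of D. Then m divides the Euler characteristic χ(X, O_X).
(The published statement asks only that the special fibre be divisible by m as a Cartier divisor and
deduces from normality that the quotient divisor is effective; the divisor is taken effective here.) -/
theorem result (R : Type u) [CommRing R] [IsDomain R]
    [IsDiscreteValuationRing R] (𝒳 : Scheme.{u}) (p : 𝒳 ⟶ Spec (CommRingCat.of R)) [IsProper p] [Flat p]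
    (hn : Pi1.IsNormalScheme 𝒳) (X : Scheme.{u}) [X.Over (Spec (CommRingCat.of (FractionRing R)))]
    (hX : Models.IsModel R 𝒳 p X (X ↘ Spec (CommRingCat.of (FractionRing R)))) (m : ℕ) (hm : 1 ≤ m)
    (I : 𝒳.IdealSheafData) (hI : BlowUp.IsEffCartierIdeal I)
    (hIm : I ^ m = Models.specialFibreIdeal R (Over.mk p)) :
    (m : ℤ) ∣ Curv2.euler (FractionRing R) X (Coh.structureModule X) := by
  obtain ⟨-, -, -, g, hg⟩ := hX
  haveI : IsLocallyNoetherian 𝒳 := LocallyOfFiniteType.isLocallyNoetherian p
  haveI : CompactSpace 𝒳 := QuasiCompact.compactSpace_of_compactSpace p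
  haveI : IsNoetherian 𝒳 := ⟨⟩
  haveI : Flat (Over.mk p).hom := inferInstanceAs (Flat p)
  let v := Spec.map (CommRingCat.ofHom (IsLocalRing.residue R))
  haveI : IsClosedImmersion v := IsClosedImmersion.spec_of_surjective _ IsLocalRing.residue_surjective
  let Z := pullback p v
  let ι : Z ⟶ 𝒳 := pullback.fst p v
  let q : Z ⟶ Spec (CommRingCat.of (IsLocalRing.ResidueField R)) := pullback.snd p v
  haveI : IsClosedImmersion ι := inferInstanceAs (IsClosedImmersion (pullback.fst p v))
  letI : Z.Over (Spec (CommRingCat.of (IsLocalRing.ResidueField R))) := ⟨q⟩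
  haveI : IsProper (Z ↘ Spec (CommRingCat.of (IsLocalRing.ResidueField R))) := inferInstanceAs (IsProper q)
  have hJ : Models.specialFibreIdeal R (Over.mk p) = ι.ker := by
    rw [Models.specialFibreIdeal]
    rw [← VertChiLib.comap_ker p v, VertChiLib.ker_specMap, IsLocalRing.ker_residue]
    rfl
  have htriv := MultFibLib.nonempty_idealMod_specialFibre (Over.mk p)
  rw [hJ] at htriv hIm
  obtain ⟨d, hd⟩ := CycIntLib.exists_dim_bound (X := Z) (IsLocalRing.ResidueField R)
  have hdvd := MultFibLib.dvd_euler (κ := IsLocalRing.ResidueField R) ι I hI m hm hIm htriv hd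
  haveI : LocallyOfFinitePresentation p := LocallyOfFinitePresentation.iff_locallyOfFiniteType.2 inferInstance
  obtain ⟨-, hfp, hfl⟩ := CohCmpLib.rank_one_hyps p
    ((CohCmpLib.invertible_iff_rank_one (Coh.structureModule 𝒳)).1 CurvLib.isInvertible_structureModule)
  have h2 := CohCmpLib.euler_bc hfp hfl (IsPullback.of_hasPullback p v) (IsLocalRing.closedPoint (IsLocalRing.ResidueField R))
  have h3 := CohCmpLib.euler_bc hfp hfl hg (IsLocalRing.closedPoint (FractionRing R))
  convert hdvd using 1
  refine ((CurvLib.euler_congr (k := FractionRing R) (KFlatLib.pullUnitIso g)).symm.trans h3).trans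
    (((CohCmpLib.isLocallyConstant_eulerChar hfp hfl).apply_eq_of_preconnectedSpace _ _).trans
    (h2.symm.trans (CurvLib.euler_congr (k := IsLocalRing.ResidueField R) (KFlatLib.pullUnitIso ι))))

end Groth.Agent.S17783
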