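import Groth.Statements.S17785
import Groth.Agent.IndexLib.Basic
import Mathlib.GroupTheory.Archimedean
-- import your own Groth.Agent.* helpers here

set_option autoImplicit false
universe u
open Variety

namespace Groth.Agent.S17785

/-- Let R be a discrete valuation ring with fraction field K and uniformizer π, and let d, N ≥ 1.
Consider the hypersurface X in projective N-space over K defined by x_0^d = π x_1^d + π^2 x_2^d + ⋯
+ π^N x_N^d. Its index over K — the greatest common divisor of the degrees of its closed points,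
equivalently of the degrees [L : K] of the finite field extensions L over which the equation has a
non-zero solution — equals I(d, N), the greatest common divisor of the quotients d/δ over the
divisors δ of d with 1 ≤ δ ≤ N. Stated as an equality of subgroups of ℤ: the subgroup generated by
those degrees [L : K] is the subgroup generated by I(d, N). -/
theorem result (R : Type u) [CommRing R] [IsDomain R]
    [IsDiscreteValuationRing R] (K : Type u) [Field K] [Algebra R K] [IsFractionRing R K]
    (ϖ : R) (hϖ : Irreducible ϖ) (d N : ℕ) (hd : 1 ≤ d) (hN : 1 ≤ N) :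
    AddSubgroup.closure {m : ℤ | ∃ (L : Type u) (_ : Field L) (_ : Algebra K L),
        FiniteDimensional K L ∧ m = (Module.finrank K L : ℤ) ∧
        ∃ x : Fin (N + 1) → L, x ≠ 0 ∧
          x 0 ^ d = ∑ i : Fin N, algebraMap K L (algebraMap R K (ϖ ^ ((i : ℕ) + 1))) * x i.succ ^ d} =
      AddSubgroup.zmultiples ((((Finset.Icc 1 N).filter (fun δ => δ ∣ d)).gcd (fun δ => d / δ) : ℕ) : ℤ) := by
  classical
  set S := (Finset.Icc 1 N).filter (fun δ => δ ∣ d) with hS
  set I := S.gcd (fun δ => d / δ) with hI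
  have hmem : ∀ δ, δ ∈ S ↔ 1 ≤ δ ∧ δ ≤ N ∧ δ ∣ d := fun δ => by simp [hS, and_assoc]
  refine le_antisymm ?_ ?_
  · rw [AddSubgroup.closure_le]
    rintro m ⟨L, _, _, hfd, rfl, x, hx, heq⟩
    have h := IndexLib.dvd_finrank K ϖ hϖ d N hd
      (fun δ h1 h2 h3 => (Finset.gcd_dvd ((hmem δ).2 ⟨h1, h2, h3⟩) : I ∣ d / δ)) L x hx heq
    exact AddSubgroup.mem_zmultiples_iff.2 (by
      obtain ⟨c, hc⟩ := h
      exact ⟨c, by rw [hc, smul_eq_mul, Nat.cast_mul, mul_comm]⟩)
  · rw [AddSubgroup.zmultiples_le]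
    obtain ⟨a, ha⟩ := Int.subgroup_cyclic (AddSubgroup.closure {m : ℤ | ∃ (L : Type u) (_ : Field L) (_ : Algebra K L),
        FiniteDimensional K L ∧ m = (Module.finrank K L : ℤ) ∧
        ∃ x : Fin (N + 1) → L, x ≠ 0 ∧
          x 0 ^ d = ∑ i : Fin N, algebraMap K L (algebraMap R K (ϖ ^ ((i : ℕ) + 1))) * x i.succ ^ d})
    rw [ha, ← AddSubgroup.zmultiples_eq_closure, Int.mem_zmultiples_iff]
    rw [← Int.natAbs_dvd, Int.natCast_dvd_natCast]
    refine Finset.dvd_gcd fun δ hδ => ?_
    obtain ⟨h1, h2, h3⟩ := (hmem δ).1 hδ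
    obtain ⟨L, _, _, hfd, hrank, hx⟩ := IndexLib.exists_solution K ϖ hϖ d N hd δ h1 h2 h3
    have hin : ((d / δ : ℕ) : ℤ) ∈ AddSubgroup.closure {a} := by
      rw [← ha]
      exact AddSubgroup.subset_closure ⟨L, ‹_›, ‹_›, hfd, by rw [hrank], hx⟩
    rw [← AddSubgroup.zmultiples_eq_closure, Int.mem_zmultiples_iff, ← Int.natAbs_dvd, Int.natCast_dvd_natCast] at hin
    exact hin

end Groth.Agent.S17785
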