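import Groth.Statements.S1779
import Mathlib
import Groth.Agent.DualBCLib.Closed
import Groth.Agent.AdicRingLib.Completion
-- import your own Groth.Agent.* helpers here

set_option autoImplicit false
universe u
open CategoryTheory
attribute [local instance] HasDerivedCategory.standard
open Dual

namespace Groth.Agent.S1779

/-- Let A be a Noetherian ring, I an ideal and ω a dualizing complex for A. Assuming the derived base
change functor to the I-adic completion exists, the base change of ω is a dualizing complex for the
I-adic completion of A. -/
theorem result (A : Type u) [CommRing A] [IsNoetherianRing A] (I : Ideal A) [DRing.HasLBaseChange (algebraMap A (AdicCompletion I A))] (ω : Dual.D A) (hω : Dual.IsDualizing A ω) : Dual.IsDualizing (AdicCompletion I A) ((DRing.LBaseChange (algebraMap A (AdicCompletion I A))).obj ω) := by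
  haveI := AdicRingLib.isNoetherianRing_adicCompletion (C := A) I
  have hI : I.FG := IsNoetherian.noetherian I
  haveI := AdicRingLib.isAdicComplete_map hI
  refine DualBCLib.isDualizing_iso_mod_ideal I (fun y => ?_) (IsAdicComplete.le_jacobson_bot _) hω
  obtain ⟨x, rfl⟩ := Ideal.Quotient.mk_surjective y
  obtain ⟨c, hc⟩ := AdicRingLib.exists_sub_mem_map_pow hI 1 x
  rw [pow_one] at hc
  exact ⟨c, (Ideal.Quotient.eq.2 hc).symm⟩

end Groth.Agent.S1779
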