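import Groth.Statements.S2946
import Groth.Agent.LefConnLib.Basic

set_option autoImplicit false
set_option linter.all false
universe u
open CategoryTheory CategoryTheory.Limits AlgebraicGeometry
open Lef

namespace Groth.Agent.S2946

/-- Let X be a locally Noetherian scheme and 𝓘 a quasi-coherent ideal sheaf with Y = V(𝓘), and suppose
Lef(X, Y) holds (this prelude's Lef.LefCond). Then for every open U of X containing Y, Y is
connected if and only if U is connected. -/
theorem result (X : Scheme.{u}) [IsLocallyNoetherian X] (𝓘 : X.IdealSheafData) (h : Lef.LefCond X 𝓘) (U : X.Opens) (hU : (𝓘.support : Set X) ⊆ (U : Set X)) : ConnectedSpace (𝓘.support : Set X) ↔ ConnectedSpace U := by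
  have hL := h U hU (Coh.structureModule _) (Formal2VBLib.isFinLocFree_structureModule _)
  have key := LefConnLib.isConnected_support_iff (𝓘.comap U.ι) hL
  rw [← isConnected_iff_connectedSpace]
  refine Iff.trans ?_ key
  have himg : U.ι '' ((𝓘.comap U.ι).support : Set ↑(U : Scheme.{u})) = (𝓘.support : Set X) := by
    rw [Scheme.IdealSheafData.support_comap, TopologicalSpace.Closeds.coe_preimage,
      Set.image_preimage_eq_of_subset]
    rw [Scheme.Opens.range_ι]
    exact hU
  rw [← himg]
  constructor
  · intro hc
    exact ⟨hc.nonempty.of_image, U.ι.isOpenEmbedding.isInducing.isPreconnected_image.mp hc.2⟩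
  · intro hc
    exact hc.image _ U.ι.continuous.continuousOn

end Groth.Agent.S2946
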