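import Groth.Statements.S17790
import Mathlib
import Groth.Agent.S0252
import Groth.Agent.S2946
import Groth.Agent.PurePairLib.Main
-- import your own Groth.Agent.* helpers here

set_option autoImplicit false
set_option linter.style.haveILetI false
universe u
open CategoryTheory CategoryTheory.Limits AlgebraicGeometry
open Pi1

namespace Groth.Agent.S17790

/-- Let A be a Noetherian local ring and I an ideal for which A is I-adically complete and A/I is local;
write X = Spec A, Y = V(I) and U for the punctured spectrum. Suppose that A is pure (the pair formed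
by X and its closed point is pure) and that the effective Lefschetz condition Leff(U, U ∩ Y) holds.
Then Y minus the closed point, i.e. U ∩ Y, is a connected (nonempty) subset of X. -/
theorem result (A : Type u) [CommRing A] [IsLocalRing A] [IsNoetherianRing A] (I : Ideal A) [IsAdicComplete I A] [IsLocalRing (A ⧸ I)] (hpure : SGA2.IsPurePair (Spec (CommRingCat.of A)) (FEt.puncturedSpec A)) (hleff : LefX.LeffCond (↑(FEt.puncturedSpec A) : Scheme.{u}) ((Spec.map (CommRingCat.ofHom (Ideal.Quotient.mk I))).ker.comap (FEt.puncturedSpec A).ι)) : IsConnected (((Spec.map (CommRingCat.ofHom (Ideal.Quotient.mk I))).ker.support : Set ↥(Spec (CommRingCat.of A))) ∩ (FEt.puncturedSpec A : Set ↥(Spec (CommRingCat.of A)))) := by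
  set U := FEt.puncturedSpec A with hU
  haveI : IsNoetherian (Spec (CommRingCat.of A)) := inferInstance
  haveI : IsLocallyNoetherian (U : Scheme.{u}) := inferInstance
  haveI : TopologicalSpace.NoetherianSpace (U : Scheme.{u}) :=
    U.ι.isOpenEmbedding.isInducing.noetherianSpace
  haveI : QuasiSeparatedSpace (U : Scheme.{u}) := inferInstance
  have heq : (FEt.restrict U.ι).IsEquivalence := by
    have h1 := hpure ⊤
    let e : (U : Scheme.{u}) ≅ ((⊤ ⊓ U : (Spec (CommRingCat.of A)).Opens) : Scheme.{u}) :=
      (Spec (CommRingCat.of A)).isoOfEq (top_inf_eq U).symm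
    have h2 := Groth.Agent.PurePair.restrict_isEquivalence_of_iso _ (e.hom ≫ (Spec (CommRingCat.of A)).homOfLE inf_le_left) e rfl h1
    haveI := h2
    haveI := Groth.Agent.PurePair.restrict_iso_isEquivalence (Spec (CommRingCat.of A)).topIso
    let c := MorphismProperty.Over.pullbackComp (P := FEt.prop.{u}) (Q := ⊤) (e.hom ≫ (Spec (CommRingCat.of A)).homOfLE (inf_le_left : ⊤ ⊓ U ≤ ⊤))
      (Spec (CommRingCat.of A)).topIso.hom U.ι (by simp [e])
    haveI : (FEt.restrict (Spec (CommRingCat.of A)).topIso.hom ⋙
        FEt.restrict (e.hom ≫ (Spec (CommRingCat.of A)).homOfLE (inf_le_left : ⊤ ⊓ U ≤ ⊤))).IsEquivalence := inferInstance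
    exact @Functor.isEquivalence_of_iso _ _ _ _ _ _ c.symm this
  have hhom := Groth.Agent.S0252.result U.ι heq
  haveI : PreconnectedSpace ↥(Spec (CommRingCat.of A)) := ⟨isPreconnected_of_forall (IsLocalRing.closedPoint A) fun y _ =>
    ⟨closure {y}, Set.subset_univ _, (IsLocalRing.specializes_closedPoint y).mem_closure, subset_closure rfl,
      isPreconnected_singleton.closure⟩⟩
  haveI : Subsingleton (_root_.ConnectedComponents ↥(Spec (CommRingCat.of A))) := by infer_instance
  have hsub : Subsingleton (_root_.ConnectedComponents ↥(U : Scheme.{u})) := hhom.bijective.injective.subsingleton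
  have hne : Nonempty ↥(U : Scheme.{u}) := by
    obtain ⟨c, -⟩ := hhom.bijective.surjective (_root_.ConnectedComponents.mk (IsLocalRing.closedPoint A))
    obtain ⟨x, -⟩ := _root_.ConnectedComponents.surjective_coe c
    exact ⟨x⟩
  haveI hconn : ConnectedSpace ↥(U : Scheme.{u}) := by
    haveI : PreconnectedSpace ↥(U : Scheme.{u}) := preconnectedSpace_iff_connectedComponent.mpr fun x =>
      Set.eq_univ_of_forall fun y => _root_.ConnectedComponents.coe_eq_coe'.mp (Subsingleton.elim _ _)
    exact { toNonempty := hne }
  have hT : ConnectedSpace ↥(⊤ : (U : Scheme.{u}).Opens) :=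
    isConnected_iff_connectedSpace.mp (show _root_.IsConnected (((⊤ : (U : Scheme.{u}).Opens) : Set ↥(U : Scheme.{u}))) by
      rw [TopologicalSpace.Opens.coe_top]; exact isConnected_univ)
  have hY := isConnected_iff_connectedSpace.mpr
    ((Groth.Agent.S2946.result (U : Scheme.{u}) ((Spec.map (CommRingCat.ofHom (Ideal.Quotient.mk I))).ker.comap U.ι)
      hleff.1 ⊤ (fun x _ => trivial)).mpr hT)
  have himg : U.ι '' (((Spec.map (CommRingCat.ofHom (Ideal.Quotient.mk I))).ker.comap U.ι).support : Set ↥(U : Scheme.{u})) =
      ((Spec.map (CommRingCat.ofHom (Ideal.Quotient.mk I))).ker.support : Set ↥(Spec (CommRingCat.of A))) ∩ (U : Set ↥(Spec (CommRingCat.of A))) := by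
    rw [Scheme.IdealSheafData.support_comap, TopologicalSpace.Closeds.coe_preimage,
      Set.image_preimage_eq_inter_range, Scheme.Opens.range_ι]
  rw [← himg]
  exact hY.image _ U.ι.continuous.continuousOn

end Groth.Agent.S17790
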