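import Groth.Statements.S17791
import Groth.Agent.VDimLib.PurePair

set_option autoImplicit false
set_option backward.isDefEq.respectTransparency false
set_option backward.isDefEq.respectTransparency.types false
set_option maxRecDepth 8000
set_option maxHeartbeats 1000000
universe u
open CategoryTheory CategoryTheory.Limits AlgebraicGeometry
open Pi1

namespace Groth.Agent.S17791

/-- Write A = R/I with R a regular local ring and I generated by a finite set s of elements of the
maximal ideal, let c = dim R − dim A, and call δ = |s| − c the deviation of this presentation (for a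
minimal generating set this is the deviation of A). Suppose A is excellent, equidimensional of Krull
dimension at least 3, and a complete intersection in codimension at most 2 + δ: for every prime Q of
A with height(Q) + c ≤ 2 + |s|, the ideal generated by s in the localization of R at the preimage of
Q is generated by a regular sequence. Then A is pure: for every open V of Spec A, restriction of
finite étale covers from V to V minus the closed point is an equivalence of categories. -/
theorem result (R : Type u) [CommRing R] [IsRegularLocalRing R] (s : Finset R) (hs : ∀ x ∈ s, x ∈ IsLocalRing.maximalIdeal R) [IsLocalRing (R ⧸ Ideal.span (↑s : Set R))] (hexc : EGA4.IsExcellent (R ⧸ Ideal.span (↑s : Set R))) (heq : EGA4.IsEquidim (R ⧸ Ideal.span (↑s : Set R))) (hdim : (3 : WithBot ℕ∞) ≤ ringKrullDim (R ⧸ Ideal.span (↑s : Set R))) (c : ℕ) (hc : ringKrullDim R = ringKrullDim (R ⧸ Ideal.span (↑s : Set R)) + (c : WithBot ℕ∞)) (hci : ∀ (Q : Ideal (R ⧸ Ideal.span (↑s : Set R))) [Q.IsPrime], Q.height + (c : ℕ∞) ≤ ((2 + s.card : ℕ) : ℕ∞) → CInt.IsRegularIdeal ((Ideal.span (↑s : Set R)).map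 (algebraMap R (Localization.AtPrime (Q.comap (Ideal.Quotient.mk (Ideal.span (↑s : Set R)))))))) : SGA2.IsPurePair (Spec (CommRingCat.of (R ⧸ Ideal.span (↑s : Set R)))) (FEt.puncturedSpec (R ⧸ Ideal.span (↑s : Set R))) := by
  classical
  haveI : IsNoetherianRing (R ⧸ Ideal.span (↑s : Set R)) := inferInstance
  obtain ⟨n, hn⟩ := CommAlgDim.exists_ringKrullDim_eq (R := R ⧸ Ideal.span (↑s : Set R))
  have hd : ringKrullDim R = ((n + c : ℕ) : WithBot ℕ∞) := by rw [hc, hn]; exact (Nat.cast_add _ _).symm
  refine VDimLib.isPurePair_of_presentation R _ (Ideal.Quotient.mk _) Ideal.Quotient.mk_surjective s Ideal.mk_ker hd ?_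
  rcases le_or_gt (n + c) (2 + s.card) with h | h
  · right
    have hmax : (IsLocalRing.maximalIdeal (R ⧸ Ideal.span (↑s : Set R))).height = n :=
      WithBot.coe_inj.1 ((IsLocalRing.maximalIdeal_height_eq_ringKrullDim).trans hn)
    have h1 := hci (IsLocalRing.maximalIdeal _) (by rw [hmax]; exact_mod_cast h)
    refine ⟨?_, hdim⟩
    set P := (IsLocalRing.maximalIdeal (R ⧸ Ideal.span (↑s : Set R))).comap (Ideal.Quotient.mk (Ideal.span (↑s : Set R)))
    haveI : IsLocalHom (Ideal.Quotient.mk (Ideal.span (↑s : Set R))) :=
      IsLocalHom.of_surjective _ Ideal.Quotient.mk_surjective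
    have hP : P = IsLocalRing.maximalIdeal R := IsLocalRing.maximalIdeal_comap _
    let e := (IsLocalization.atUnits R P.primeCompl (S := Localization.AtPrime P) (fun x hx => by
      by_contra hu
      exact hx (hP.ge (show x ∈ IsLocalRing.maximalIdeal R from hu)))).toRingEquiv.symm
    have h2 := VDimLib.isRegularIdeal_of_equiv e h1
    rw [Ideal.map_map] at h2
    have h3 : (e : Localization.AtPrime P →+* R).comp (algebraMap R (Localization.AtPrime P)) = RingHom.id R := by
      ext x
      exact e.apply_eq_iff_eq_symm_apply.2 (by simp [e])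
    rwa [h3, Ideal.map_id] at h2
  · left
    omega

end Groth.Agent.S17791
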