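import Groth.Statements.S17792
import Groth.Agent.VDimLib.PurePair

set_option autoImplicit false
set_option backward.isDefEq.respectTransparency false
set_option backward.isDefEq.respectTransparency.types false
set_option maxRecDepth 8000
set_option maxHeartbeats 1000000
universe u
open CategoryTheory CategoryTheory.Limits AlgebraicGeometry
open Pi1

namespace Groth.Agent.S17792

/-- Write A = R/I with R a regular local ring and I generated by a finite set s of elements of the
maximal ideal, let c = dim R − dim A, and call δ = |s| − c the deviation of this presentation (for a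
minimal generating set this is the deviation of A). Suppose A is excellent, equidimensional, and a
complete intersection in codimension at most 2 + δ: for every prime Q of A with height(Q) + c ≤ 2 +
|s|, the ideal generated by s in the localization of R at the preimage of Q is generated by a
regular sequence. Then A is pure in codimension at least 3: for every prime Q of A of height at
least 3, the completion of A_Q at its maximal ideal is pure (for every open V of its spectrum,
restriction of finite étale covers from V to V minus the closed point is an equivalence). -/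
theorem result (R : Type u) [CommRing R] [IsRegularLocalRing R] (s : Finset R) (hs : ∀ x ∈ s, x ∈ IsLocalRing.maximalIdeal R) [IsLocalRing (R ⧸ Ideal.span (↑s : Set R))] (hexc : EGA4.IsExcellent (R ⧸ Ideal.span (↑s : Set R))) (heq : EGA4.IsEquidim (R ⧸ Ideal.span (↑s : Set R))) (c : ℕ) (hc : ringKrullDim R = ringKrullDim (R ⧸ Ideal.span (↑s : Set R)) + (c : WithBot ℕ∞)) (hci : ∀ (Q : Ideal (R ⧸ Ideal.span (↑s : Set R))) [Q.IsPrime], Q.height + (c : ℕ∞) ≤ ((2 + s.card : ℕ) : ℕ∞) → CInt.IsRegularIdeal ((Ideal.span (↑s : Set R)).map (algebraMap R (Localization.AtPrime (Q.comap (Ideal.Quotient.mk (Ideal.span (↑s : Set R)))))))) (Q : Ideal (R ⧸ Ideal.span (↑s : Set R))) [Q.IsPrime] (hQ : (3 : ℕ∞) ≤ Q.height) : SGA2.IsPurePair (Spec (CommRingCat.of (AdicCompletion (IsLocalRing.maximalIdeal (Localization.AtPrime Q)) (Localization.AtPrime Q)))) (FEt.puncturedSpec (AdicCompletion (IsLocalRing.maximalIdeal (Localization.AtPrime Q)) (Localization.AtPrime Q))) := by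
  classical
  let π := Ideal.Quotient.mk (Ideal.span (↑s : Set R))
  let P := Q.comap π
  haveI : P.IsPrime := Ideal.comap_isPrime π Q
  have hP : P.height = Q.height + c := VDimLib.height_comap_eq R _ heq c hc Q
  obtain ⟨y, hy⟩ := ENat.ne_top_iff_exists.1 (Ideal.height_ne_top (Ideal.IsPrime.ne_top ‹Q.IsPrime›) : Q.height ≠ ⊤)
  let RP := Localization.AtPrime P
  let AQ := Localization.AtPrime Q
  haveI : IsRegularLocalRing RP := CommAlgDim.isRegularLocalRing_localization R P
  haveI : IsNoetherianRing AQ := IsLocalization.isNoetherianRing Q.primeCompl _ inferInstance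
  haveI := CIRingLib.isNoetherianRing_cpl RP
  haveI := CIRingLib.isNoetherianRing_cpl AQ
  haveI := CIRingLib.flat_cpl RP
  haveI : IsRegularLocalRing (CIRingLib.Cpl RP) := (Groth.Agent.S0548.result RP).1 inferInstance
  let πQ : RP →+* AQ := Localization.localRingHom P Q π rfl
  have hπQ : Function.Surjective πQ :=
    RingHom.surjective_localRingHom_of_surjective π Ideal.Quotient.mk_surjective Q
  obtain ⟨σ, hσ, -, hk⟩ := CIRingLib.exists_cplMap πQ hπQ
  let s' : Finset (CIRingLib.Cpl RP) := s.image ((algebraMap RP (CIRingLib.Cpl RP)).comp (algebraMap R RP))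
  have hs' : Ideal.span (s' : Set (CIRingLib.Cpl RP)) = ((Ideal.span (↑s : Set R)).map (algebraMap R RP)).map (algebraMap RP (CIRingLib.Cpl RP)) := by
    rw [Ideal.map_map, Ideal.map_span, Finset.coe_image]
  have hker : RingHom.ker σ = Ideal.span (s' : Set (CIRingLib.Cpl RP)) := by
    rw [hk, hs', CIRingLib.ker_localRingHom π Ideal.Quotient.mk_surjective Q, Ideal.mk_ker]
  have hd : ringKrullDim (CIRingLib.Cpl RP) = ((y + c : ℕ) : WithBot ℕ∞) := by
    rw [CatLib.ringKrullDim_cpl, IsLocalization.AtPrime.ringKrullDim_eq_height P, hP, ← hy]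
    rfl
  refine VDimLib.isPurePair_of_presentation (CIRingLib.Cpl RP) _ σ hσ s' hker hd ?_
  rcases le_or_gt (y + c) (2 + s.card) with h | h
  · right
    obtain ⟨rs, hreg, hrs⟩ := hci Q (by rw [← hy]; exact_mod_cast h)
    refine ⟨⟨rs.map (algebraMap RP (CIRingLib.Cpl RP)), ?_, ?_⟩, ?_⟩
    · refine RingTheory.Sequence.IsRegular.of_isWeaklyRegular_of_mem_maximalIdeal _ (fun x hx => ?_)
        hreg.toIsWeaklyRegular.of_flat
      obtain ⟨z, hz, rfl⟩ := List.mem_map.1 hx
      exact map_nonunit (algebraMap RP (CIRingLib.Cpl RP)) z (CommAlgDim.mem_maximalIdeal_of_isRegular hreg z hz)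
    · rw [← Ideal.map_ofList, hrs, hs']
    · rw [CatLib.ringKrullDim_cpl, IsLocalization.AtPrime.ringKrullDim_eq_height Q]
      exact WithBot.coe_le_coe.2 hQ
  · left
    have : s'.card ≤ s.card := Finset.card_image_le
    omega

end Groth.Agent.S17792
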