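import Groth.Statements.S17794
import Groth.Agent.AlgSpLib.Bootstrap
import Groth.Agent.AlgSpLib.SheafDesc
import Groth.Agent.S5223
import Groth.Agent.Unram17Lib.FibreMap
-- import your own Groth.Agent.* helpers here

set_option autoImplicit false
set_option backward.isDefEq.respectTransparency false
set_option backward.isDefEq.respectTransparency.types false
universe u
open CategoryTheory CategoryTheory.Limits MonoidalCategory CartesianMonoidalCategory MonObj GrpObj AlgebraicGeometry
open GrpSch

namespace Groth.Agent.S17794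

open AlgSpLib in
theorem epi_repMap_iff {S : Scheme.{u}} {G H : Over S} (f : G ⟶ H) :
    Epi (QuotSh.repMap Scheme.fppfPrecoverage f) ↔ Sheaf.IsLocallySurjective ((AlgSp.yon S).map f) := by
  rw [Sheaf.isLocallySurjective_iff_epi]
  let i := QuotSh.repIsoUliftYoneda Scheme.fppfPrecoverage (S := S)
  have e1 : QuotSh.repMap Scheme.fppfPrecoverage f = (i G).hom ≫ (AlgSp.yon S).map f ≫ (i H).inv := by
    rw [← Category.assoc, ← repIso_naturality f, Category.assoc, Iso.hom_inv_id, Category.comp_id]
  have e2 : (AlgSp.yon S).map f = (i G).inv ≫ QuotSh.repMap Scheme.fppfPrecoverage f ≫ (i H).hom := by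
    rw [repIso_naturality f, Iso.inv_hom_id_assoc]
  constructor
  · intro h; rw [e2]; infer_instance
  · intro h; rw [e1]; infer_instance

theorem isPullback_of_lift {S : Scheme.{u}} {G H N T : Over S} [GrpObj G] [GrpObj H] (f : G ⟶ H) [IsMonHom f]
    {i : N ⟶ G} (hi : AlgGrp.IsKernel i f) (e : T ⟶ H) (x : T ⟶ G) (hx : x ≫ f = e) :
    IsPullback (fst T N) ((fst T N ≫ x) * (snd T N ≫ i)) e f := by
  have hiw : i ≫ f = 1 := by rw [hi.w, Hom.one_def]
  have mulf : ∀ {Z : Over S} (a b : Z ⟶ G), (a * b) ≫ f = (a ≫ f) * (b ≫ f) := fun a b => map_mul (IsMonHom.monoidHom f _) a b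
  refine ⟨⟨?_⟩, ⟨PullbackCone.IsLimit.mk _
    (fun s => CartesianMonoidalCategory.lift s.fst (hi.lift ((s.fst ≫ x)⁻¹ * s.snd) (toUnit _) ?_)) ?_ ?_ ?_⟩⟩
  · rw [mulf, Category.assoc, Category.assoc, hx, hiw, MonObj.comp_one, _root_.mul_one]
  · rw [mulf, show (s.fst ≫ x)⁻¹ ≫ f = ((s.fst ≫ x) ≫ f)⁻¹ from GrpObj.inv_comp _ _,
      Category.assoc, hx, s.condition, inv_mul_cancel, Hom.one_def]
  · intro s; simp
  · intro s
    rw [MonObj.comp_mul, lift_fst_assoc, lift_snd_assoc, hi.lift_fst, mul_inv_cancel_left]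
  · intro s m h1 h2
    refine CartesianMonoidalCategory.hom_ext _ _ (by simpa using h1) (hi.hom_ext ?_ (toUnit_unique _ _))
    rw [lift_snd, hi.lift_fst, ← h2, MonObj.comp_mul, ← h1]
    simp only [Category.assoc, inv_mul_cancel_left]

/-- Let S be a scheme and f : G → H a homomorphism of S-group schemes, both of finite presentation over
S (locally of finite presentation, quasi-compact and quasi-separated), and let i : N → G be the
kernel of f (the square formed by i, f, the unit section of H and N → S is cartesian). Then f is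
faithfully flat (flat and surjective) if and only if the map of representable sheaves h_G → h_H
induced by f on the big fppf site of S is an epimorphism of sheaves of sets and N is flat over S. -/
theorem result {S : Scheme.{u}} {G H N : Over S} [GrpObj G] [GrpObj H] (f : G ⟶ H) [IsMonHom f] [LocallyOfFinitePresentation G.hom] [QuasiCompact G.hom] [QuasiSeparated G.hom] [LocallyOfFinitePresentation H.hom] [QuasiCompact H.hom] [QuasiSeparated H.hom] (i : N ⟶ G) (hi : AlgGrp.IsKernel i f) : (Flat f.left ∧ Surjective f.left) ↔ (Epi (QuotSh.repMap Scheme.fppfPrecoverage f) ∧ Flat N.hom) := by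
  rw [epi_repMap_iff]
  constructor
  · rintro ⟨h1, h2⟩
    haveI : LocallyOfFinitePresentation (f.left ≫ H.hom) := (Over.w f).symm ▸ inferInstance
    haveI : LocallyOfFinitePresentation f.left := Unram17Lib.lfp_of_comp_lft f.left H.hom
    refine ⟨AlgSpLib.isLocallySurjective_yon_map f, ?_⟩
    have h := hi.map (Over.forget S)
    have e : (toUnit N).left = N.hom := Over.toUnit_left
    exact e ▸ MorphismProperty.of_isPullback (P := @Flat) h h1
  · rintro ⟨h1, h2⟩
    obtain ⟨V, h, hfl, -, hcov, hl⟩ := AlgSpLib.exists_lift_of_isLocallySurjective ((AlgSp.yon S).map f) (𝟙 ((AlgSp.yon S).obj H))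
    choose l hl using hl
    have hx : ∀ t, (AlgSp.yon S).preimage (l t) ≫ f = h t := fun t => (AlgSp.yon S).map_injective (by
      rw [Functor.map_comp, Functor.map_preimage, hl, Category.comp_id])
    have sq := fun t => (isPullback_of_lift f hi (h t) _ (hx t)).map (Over.forget S)
    haveI : Surjective N.hom := ⟨fun s => by
      have h1' : (1 : 𝟙_ (Over S) ⟶ G) ≫ f = toUnit _ ≫ η[H] := by
        rw [← Hom.one_def, MonObj.one_comp]
      refine ⟨(hi.lift 1 (toUnit _) h1').left s, ?_⟩
      rw [← Scheme.Hom.comp_apply, Over.w]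
      rfl⟩
    have hfst : ∀ t, Flat (fst (V t) N).left ∧ Surjective (fst (V t) N).left := fun t =>
      ⟨MorphismProperty.pullback_fst (P := @Flat) _ _ h2, MorphismProperty.pullback_fst (P := @Surjective) _ _ inferInstance⟩
    refine ⟨Flat.of_stalkMap _ fun g => ?_, ⟨fun y => ?_⟩⟩
    · let t := f.left g
      obtain ⟨v, hv⟩ := hcov t
      obtain ⟨z, hz, -⟩ := Scheme.exists_preimage_of_isPullback (sq t).flip g v hv.symm
      haveI : Flat ((Over.forget S).map (h t)) := hfl t
      haveI : Flat ((Over.forget S).map (fst (V t) N)) := (hfst t).1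
      have := (Groth.Agent.S5223.result (sq t).flip z).mp (Flat.stalkMap _ z)
      rwa [hz] at this
    · obtain ⟨v, hv⟩ := hcov y
      obtain ⟨z, hz⟩ := (hfst y).2.surj v
      refine ⟨((fst (V y) N ≫ (AlgSp.yon S).preimage (l y)) * (snd (V y) N ≫ i)).left z, ?_⟩
      refine Eq.trans ?_ ((congrArg (h y).left hz).trans hv)
      rw [← Scheme.Hom.comp_apply, ← Scheme.Hom.comp_apply]
      exact congrArg (fun m : (V y ⊗ N).left ⟶ H.left => m z) (sq y).w.symm

end Groth.Agent.S17794
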