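import Groth.Statements.S17797
import Mathlib.RingTheory.LocalRing.ResidueField.Basic
import Mathlib.RingTheory.AlgebraicIndependent.TranscendenceBasis
import Mathlib.RingTheory.IntegralClosure.IsIntegralClosure.Basic
import Mathlib.RingTheory.Localization.FractionRing
-- import your own Groth.Agent.* helpers here

set_option autoImplicit false
universe u
open CAlg

namespace Groth.Agent.S17797

/-- Suppose k is a field of characteristic zero and S is a local domain that is an essentially
finite-type k-algebra. Then there are an extension field K of k, a K-algebra A of finite type and a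
maximal ideal m of A such that S is isomorphic over k to the localization A_m. -/
theorem result (k : Type u) [Field k] [CharZero k] (S : Type u) [CommRing S] [IsDomain S] [IsLocalRing S] [Algebra k S] [Algebra.EssFiniteType k S] : ∃ (K : Type u) (_ : Field K) (_ : Algebra k K) (A : Type u) (_ : CommRing A) (_ : Algebra K A) (_ : Algebra k A) (_ : IsScalarTower k K A) (_ : Algebra.FiniteType K A) (m : Ideal A) (_ : m.IsMaximal), Nonempty (S ≃ₐ[k] Localization.AtPrime m) := by
  classical
  let κ := IsLocalRing.ResidueField S
  obtain ⟨T, hT⟩ := exists_isTranscendenceBasis k κ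
  choose lift hlift using IsLocalRing.residue_surjective (R := S)
  let φ : MvPolynomial T k →ₐ[k] S := MvPolynomial.aeval fun i : T => lift (i : κ)
  have hφ : ∀ p, IsLocalRing.residue S (φ p) = MvPolynomial.aeval ((↑) : T → κ) p := by
    have h1 : (IsScalarTower.toAlgHom k S κ).comp φ = MvPolynomial.aeval ((↑) : T → κ) := by
      refine MvPolynomial.algHom_ext fun i => ?_
      simp only [AlgHom.comp_apply, φ, MvPolynomial.aeval_X, IsScalarTower.coe_toAlgHom']
      exact hlift _
    exact fun p => AlgHom.congr_fun h1 p
  have hunit : ∀ p : nonZeroDivisors (MvPolynomial T k), IsUnit (φ p) := fun p => by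
    rw [← IsLocalRing.residue_ne_zero_iff_isUnit, hφ]
    exact fun h => nonZeroDivisors.ne_zero p.2 (hT.1 (by rw [h, map_zero]))
  let K := FractionRing (MvPolynomial T k)
  letI : Algebra K S := (IsLocalization.lift (M := nonZeroDivisors (MvPolynomial T k))
    (g := (φ : MvPolynomial T k →+* S)) hunit).toAlgebra
  have hKS : ∀ p : MvPolynomial T k, algebraMap K S (algebraMap _ K p) = φ p := fun p => IsLocalization.lift_eq hunit p
  haveI : IsScalarTower k K S := IsScalarTower.of_algebraMap_eq fun c => by
    rw [IsScalarTower.algebraMap_apply k (MvPolynomial T k) K, hKS, φ.commutes]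
  haveI : Algebra.EssFiniteType K S := Algebra.EssFiniteType.of_comp k K S
  let A := Algebra.EssFiniteType.subalgebra K S
  let m : Ideal A := (IsLocalRing.maximalIdeal S).comap (algebraMap A S)
  haveI hloc : IsLocalization m.primeCompl S := IsLocalization.of_le (M := Algebra.EssFiniteType.submonoid K S)
    (S := S) m.primeCompl
    (fun a ha hm => hm ha)
    fun a ha => IsLocalRing.notMem_maximalIdeal.1 ha
  haveI halg : Algebra.IsAlgebraic K κ := by
    constructor
    intro x
    have h1 : (Algebra.adjoin k (Set.range ((↑) : T → κ)) : Set κ) ⊆ Set.range (algebraMap K κ) := by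
      rintro y hy
      obtain ⟨p, rfl⟩ : y ∈ (MvPolynomial.aeval ((↑) : T → κ) : MvPolynomial T k →ₐ[k] κ).range := by
        rw [← Algebra.adjoin_range_eq_range_aeval]; exact hy
      refine ⟨algebraMap _ K p, ?_⟩
      rw [IsScalarTower.algebraMap_apply K S κ, hKS]
      exact hφ p
    obtain ⟨q, hq0, hq⟩ := hT.isAlgebraic.isAlgebraic x
    let f : Algebra.adjoin k (Set.range ((↑) : T → κ)) →+* K :=
      { toFun := fun y => Classical.choose (h1 y.2)
        map_one' := (algebraMap K κ).injective (by rw [Classical.choose_spec (h1 (Subalgebra.one_mem _)), map_one])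
        map_mul' := fun y z => (algebraMap K κ).injective (by
          rw [map_mul, Classical.choose_spec (h1 y.2), Classical.choose_spec (h1 z.2), Classical.choose_spec (h1 (y * z).2)]
          rfl)
        map_zero' := (algebraMap K κ).injective (by rw [Classical.choose_spec (h1 (Subalgebra.zero_mem _)), map_zero])
        map_add' := fun y z => (algebraMap K κ).injective (by
          rw [map_add, Classical.choose_spec (h1 y.2), Classical.choose_spec (h1 z.2), Classical.choose_spec (h1 (y + z).2)]
          rfl) }
    have hf : (algebraMap K κ).comp f = algebraMap _ κ := RingHom.ext fun y => Classical.choose_spec (h1 y.2)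
    refine ⟨q.map f, ?_, by rw [Polynomial.aeval_def, Polynomial.eval₂_map, hf]; exact hq⟩
    refine (Polynomial.map_ne_zero_iff fun y z h => Subtype.ext ?_).2 hq0
    have := congrArg (algebraMap K κ) h
    rwa [← RingHom.comp_apply, ← RingHom.comp_apply, hf] at this
  haveI hm : m.IsMaximal := by
    haveI : m.IsPrime := Ideal.IsPrime.comap _
    let g : A ⧸ m →ₐ[K] κ := Ideal.Quotient.liftₐ m ((IsScalarTower.toAlgHom K S κ).comp A.val) fun a ha =>
      (IsLocalRing.residue_eq_zero_iff _).2 ha
    have hg : Function.Injective g := by
      rw [injective_iff_map_eq_zero]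
      intro x hx
      obtain ⟨a, rfl⟩ := Ideal.Quotient.mk_surjective x
      exact Ideal.Quotient.eq_zero_iff_mem.2 ((IsLocalRing.residue_eq_zero_iff _).1 hx)
    haveI : Algebra.IsIntegral K κ := Algebra.IsAlgebraic.isIntegral
    haveI : Algebra.IsIntegral K (A ⧸ m) := ⟨fun x => (isIntegral_algHom_iff g hg).1 (Algebra.IsIntegral.isIntegral _)⟩
    haveI : IsDomain (A ⧸ m) := Ideal.Quotient.isDomain m
    have hfield : IsField (A ⧸ m) := @isField_of_isIntegral_of_isField' K (A ⧸ m) _ (Ideal.Quotient.commRing m) _ _ _ (Field.toIsField K)
    exact Ideal.Quotient.maximal_of_isField m hfield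
  exact ⟨K, inferInstance, inferInstance, A, inferInstance, inferInstance, inferInstance, inferInstance,
    inferInstance, m, hm, ⟨(IsLocalization.algEquiv m.primeCompl S (Localization.AtPrime m)).restrictScalars k⟩⟩

end Groth.Agent.S17797
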