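import Groth.Statements.S17807
import Groth.Agent.JacAlbLib.Twist

set_option autoImplicit false
set_option backward.isDefEq.respectTransparency false
set_option backward.isDefEq.respectTransparency.types false
set_option maxRecDepth 8000
set_option maxHeartbeats 1000000
universe u
open CategoryTheory CategoryTheory.Limits AlgebraicGeometry
open JacVar

namespace Groth.Agent.S17807

/-- Let C be a smooth proper geometrically connected curve of genus g > 0 over a field k with a
k-rational point, and let L be an invertible module on C with h¹(C, L) > 0. Under these hypotheses,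
C contains some nonempty open U with the following property: whenever Q is a k-rational point of C
and M is an invertible module satisfying M ⊗ I_Q ≅ L (so M is L(Q)), one has h¹(C, M) = h¹(C, L) − 1
if Q belongs to U, and h¹(C, M) = h¹(C, L) if Q does not. (The published statement is phrased for
all closed points Q; for a closed point of degree d > 1 the drop can exceed one, so this row states
it for k-rational points Q.) -/
theorem result (k : Type u) [Field k]
    (C : Scheme.{u}) [C.Over (Spec (CommRingCat.of k))]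
    [IsProper (C ↘ Spec (CommRingCat.of k))] [Smooth (C ↘ Spec (CommRingCat.of k))] [GeometricallyConnected (C ↘ Spec (CommRingCat.of k))]
    (hdim : topologicalKrullDim ↥C = 1)
    (hg : 0 < Curv2.genus k C)
    (σ₀ : Spec (CommRingCat.of k) ⟶ C) (hσ₀ : σ₀ ≫ (C ↘ Spec (CommRingCat.of k)) = 𝟙 _)
    (L : C.Modules) (hL : PicF.IsInvertible L) (hL1 : 0 < Module.finrank k (Coh.HH C L 1)) :
    ∃ U : C.Opens, (U : Set ↥C).Nonempty ∧
      ∀ (σ : Spec (CommRingCat.of k) ⟶ C) (hσ : σ ≫ (C ↘ Spec (CommRingCat.of k)) = 𝟙 _) (M : C.Modules) (hM : PicF.IsInvertible M)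
        (hML : Nonempty (CohB1.tensorMod M (ClSub.idealMod σ.ker) ≅ L)),
        ((∀ p, σ.base p ∈ U) → Module.finrank k (Coh.HH C M 1) = Module.finrank k (Coh.HH C L 1) - 1) ∧
        ((∀ p, σ.base p ∉ U) → Module.finrank k (Coh.HH C M 1) = Module.finrank k (Coh.HH C L 1)) := by
  obtain ⟨M₀, hM₀, eM₀, hh⟩ := JacAlbLib.exists_dual (k := k) hdim hL
  haveI := FibVALib.geometricallyIntegral_of_geometricallyConnected (C ↘ Spec (CommRingCat.of k))
  haveI : IsIntegral C := GeometricallyIntegral.isIntegral_of_subsingleton (C ↘ Spec (CommRingCat.of k))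
  have hnt : Nontrivial (Coh.HH C M₀ 0) := Module.nontrivial_of_finrank_pos (R := k) (by omega)
  obtain ⟨τ, hτ⟩ := CurvLib.exists_hom_ne_zero hnt
  refine ⟨⨆ s : Γ(M₀, ⊤), TwistLib.genSet hM₀ s, ?_, fun σ hσ M hM hML => ?_⟩
  · exact (AVAmpleLib.genSet_nonempty hM₀ τ hτ).mono (SetLike.coe_subset_coe.2 (le_iSup (fun s => TwistLib.genSet hM₀ s) _))
  have e : CubeConsLib.cl M * EllLawLib.idCls σ.ker = CubeConsLib.cl L :=
    (CubeConsLib.cl_tensor _ _).symm.trans (CubeConsLib.cl_eq_iff.2 hML)
  obtain ⟨hgen, hng⟩ := JacAlbLib.h1_add_point hdim σ hσ hL hM₀ hM eM₀ e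
  refine ⟨fun hU => ?_, fun hU => hng fun s hs => hU _ (TopologicalSpace.Opens.mem_iSup.2 ⟨s, hs⟩)⟩
  obtain ⟨s, hs⟩ := TopologicalSpace.Opens.mem_iSup.1 (hU (IsLocalRing.closedPoint k))
  have := hgen ⟨s, hs⟩
  omega

end Groth.Agent.S17807
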