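import Groth.Statements.S17808
import Groth.Agent.JacAlbLib.PointClass

set_option autoImplicit false
universe u
open CategoryTheory CategoryTheory.Limits AlgebraicGeometry
open JacVar
open CubeConsLib (pull cl cl_eq_iff cl_tensor)
open EllLawLib (idCls)
open MonoidalCategory CartesianMonoidalCategory
open scoped MonObj

set_option maxHeartbeats 1000000

namespace Groth.Agent.S17808

/-- Let C be a smooth proper connected curve of genus g > 0 over an algebraically closed field k (with a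
chosen point), and let r ≤ g. Then there is a nonempty open subset U of the r-fold fibre power C ×_k
⋯ ×_k C such that for every k-point (P_1, …, P_r) of U (closed points, k being algebraically closed)
and every invertible module M on C with M ⊗ I_{P_1} ⊗ ⋯ ⊗ I_{P_r} ≅ O_C (so M is O(P_1 + ⋯ + P_r)),
h⁰(C, M) = 1. (The published statement, over the ground field of the section, says only that U is
open; this row also asserts that U is non-empty; k is taken algebraically closed so that the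
k-points of U are its closed points.) -/
theorem result (k : Type u) [Field k] [IsAlgClosed k]
    (C : Scheme.{u}) [C.Over (Spec (CommRingCat.of k))]
    [IsProper (C ↘ Spec (CommRingCat.of k))] [Smooth (C ↘ Spec (CommRingCat.of k))] [GeometricallyConnected (C ↘ Spec (CommRingCat.of k))]
    (hdim : topologicalKrullDim ↥C = 1)
    (hg : 0 < Curv2.genus k C)
    (σ₀ : Spec (CommRingCat.of k) ⟶ C) (hσ₀ : σ₀ ≫ (C ↘ Spec (CommRingCat.of k)) = 𝟙 _)
    (r : ℕ) (hr : r ≤ Curv2.genus k C) :
    ∃ U : (SymProd.fibPow (C ↘ Spec (CommRingCat.of k)) r).Opens, (U : Set ↥(SymProd.fibPow (C ↘ Spec (CommRingCat.of k)) r)).Nonempty ∧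
      ∀ (x : Spec (CommRingCat.of k) ⟶ SymProd.fibPow (C ↘ Spec (CommRingCat.of k)) r)
        (hx : x ≫ WidePullback.base (fun (_ : Fin r) => (C ↘ Spec (CommRingCat.of k))) = 𝟙 _)
        (hxU : ∀ p, x.base p ∈ U) (M : C.Modules) (hM : PicF.IsInvertible M)
        (hMD : Nonempty (CohB1.tensorMod M (FGA.tensorList (List.ofFn fun i : Fin r =>
          ClSub.idealMod (x ≫ WidePullback.π (fun (_ : Fin r) => (C ↘ Spec (CommRingCat.of k))) i).ker)) ≅ Coh.structureModule C)),
        Module.finrank k (Coh.HH C M 0) = 1 := by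
  classical
  have hf : PicCurveLib.Fam (C ↘ Spec (CommRingCat.of k)) := ⟨inferInstance, inferInstance, inferInstance,
    fun s => (EllLawLib.dim_fiber_spec (C ↘ Spec (CommRingCat.of k)) s).trans hdim⟩
  obtain ⟨J, ξ, hp, hs, hcn, hξ, hu⟩ := PicCurveLib.exists_jacobian rfl hf σ₀ hσ₀
  haveI := hp; haveI := hs; haveI := hcn
  haveI := FibVALib.geometricallyIntegral_of_geometricallyConnected J.hom
  obtain ⟨grp, c, hc⟩ := JacAlbLib.exists_grp_rigJac hf ξ hξ hu
  letI := grp
  haveI : IsCommMonObj J := CubeConsLib.isCommMonObj_field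
  obtain ⟨j, hj⟩ := JacAlbLib.exists_abel hf hc
  obtain ⟨W, hW, w, hw⟩ := JacAlbLib.exists_good_open hdim hf hc hj
  let p₀ : ↥(Spec (CommRingCat.of k)) := IsLocalRing.closedPoint k
  obtain ⟨d, hd⟩ := Nat.le.dest hr
  let v : Fin (r + d) → (𝟙_ (Over (Spec (CommRingCat.of k))) ⟶ Over.mk (C ↘ Spec (CommRingCat.of k))) := fun i => w (Fin.cast hd i)
  have hv : (∏ i, v i ≫ j).left p₀ ∈ W := by
    rw [Fintype.prod_equiv (finCongr hd) (fun i => v i ≫ j) (fun i => w i ≫ j) fun i => rfl]
    exact hw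
  let P : Over (Spec (CommRingCat.of k)) := Over.mk (HilbPts.SC.fb (C ↘ Spec (CommRingCat.of k)) r)
  let last : Fin d → (Spec (CommRingCat.of k) ⟶ C) := fun i => (v (Fin.natAdd r i)).left
  have hlast : ∀ i, last i ≫ (C ↘ Spec (CommRingCat.of k)) = 𝟙 _ := fun i => Over.w (v (Fin.natAdd r i))
  let Sg : P ⟶ J := (∏ i : Fin r, JacAlbLib.xi i ≫ j) * ∏ i : Fin d, (toUnit P ≫ v (Fin.natAdd r i)) ≫ j
  have hSg : ∀ (y : 𝟙_ (Over (Spec (CommRingCat.of k))) ⟶ P), y ≫ Sg =
      ∏ i, Fin.append (fun i => y ≫ JacAlbLib.xi i) (fun i => v (Fin.natAdd r i)) i ≫ j := by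
    intro y
    rw [MonObj.comp_mul, JacAlbLib.comp_prod, JacAlbLib.comp_prod, Fin.prod_univ_add]
    refine congrArg₂ (· * ·) (Finset.prod_congr rfl fun i _ => ?_) (Finset.prod_congr rfl fun i _ => ?_)
    · rw [Fin.append_left, Category.assoc]
    · rw [Fin.append_right, ← Category.assoc, ← Category.assoc, toUnit_unique (y ≫ toUnit P) (𝟙 _), Category.id_comp]
  let x₁ : Spec (CommRingCat.of k) ⟶ SymProd.fibPow (C ↘ Spec (CommRingCat.of k)) r :=
    WidePullback.lift (𝟙 _) (fun i => (v (Fin.castAdd d i)).left) fun i => Over.w (v (Fin.castAdd d i))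
  let y₁ : 𝟙_ (Over (Spec (CommRingCat.of k))) ⟶ P := Over.homMk x₁ (WidePullback.lift_base _ _ _ _)
  refine ⟨Sg.left ⁻¹ᵁ W, ⟨x₁ p₀, ?_⟩, fun x hx hxU M hM hMD => ?_⟩
  · have e : y₁ ≫ Sg = ∏ i, v i ≫ j := by
      rw [hSg]
      refine Finset.prod_congr rfl fun i _ => ?_
      congr 1
      refine Fin.addCases (fun i => ?_) (fun i => ?_) i
      · rw [Fin.append_left]
        exact Over.OverMorphism.ext (WidePullback.lift_π _ _ _ _ i)
      · rw [Fin.append_right]
    show (y₁ ≫ Sg).left p₀ ∈ W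
    rw [e]
    exact hv
  let y : 𝟙_ (Over (Spec (CommRingCat.of k))) ⟶ P := Over.homMk x hx
  let u := Fin.append (fun i => y ≫ JacAlbLib.xi i) (fun i => v (Fin.natAdd r i))
  have hM1 : cl M * ∏ i : Fin r, idCls (x ≫ WidePullback.π (fun (_ : Fin r) => (C ↘ Spec (CommRingCat.of k))) i).ker = 1 := by
    rw [← JacAlbLib.cl_tensorList_ofFn, ← cl_tensor]
    exact CubeConsLib.cl_eq_one_iff.2 hMD
  obtain ⟨Q, ⟨Q', hQ', rfl⟩, hQ⟩ := (JacAlbLib.invC_prod_pc hf Finset.univ fun i => v (Fin.natAdd r i)).exists_inv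
  let Qc := (Scheme.Modules.pullback (JacAlbLib.toXT₀ (k := k) (C := C))).obj Q'
  have hQc : cl Qc * ∏ i, idCls (last i).ker = 1 := by
    have h := congrArg (pull (JacAlbLib.toXT₀ (k := k) (C := C))) hQ
    rw [map_mul, map_prod, map_one, mul_comm, CubeConsLib.pull_cl] at h
    simpa only [JacAlbLib.pull_toXT₀_pc hdim hf] using h
  let M' := CohB1.tensorMod M Qc
  have hM' : PicF.IsInvertible M' := HilbPolyLib.isInvertible_tensor hM (AmpleDevLib.isInvertible_pb _ hQ')
  have hall : cl M' * ∏ i, JacAlbLib.pid (u i) = 1 := by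
    rw [Fin.prod_univ_add]
    simp only [u, Fin.append_left, Fin.append_right, JacAlbLib.pid]
    rw [cl_tensor, mul_mul_mul_comm]
    exact (congrArg₂ (· * ·) hM1 hQc).trans (_root_.one_mul _)
  have hcls := JacAlbLib.class_prod hdim hf hc hj u
  rw [show (∏ i, u i ≫ j) = y ≫ Sg from (hSg y).symm] at hcls
  have h0 : Module.finrank k (Coh.HH C M' 0) = 1 := by
    refine hW (y ≫ Sg) (hxU p₀) M' hM' ?_
    rw [show Curv2.genus k C = r + d from hd.symm, ← hcls, mul_left_comm, hall, _root_.mul_one]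
  refine le_antisymm ?_ (JacAlbLib.one_le_h0_of_points hdim _ (fun i => JacAlbLib.fp_pt x hx i) hM hM1)
  refine (JacAlbLib.h0_points_le hdim last hlast hM' ?_).trans h0.le
  rw [cl_tensor, _root_.mul_assoc, hQc, _root_.mul_one]

end Groth.Agent.S17808
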