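import Groth.Statements.S1781
import Mathlib
import Groth.Agent.ShriekRingLib.Indep
-- import your own Groth.Agent.* helpers here

set_option autoImplicit false
universe u
open CategoryTheory
attribute [local instance] HasDerivedCategory.standard
open Dual2

namespace Groth.Agent.S1781

/-- Let R → A be a ring map of finite type between Noetherian rings. Here φ^!(K) is formed from a
presentation ψ : R[x_1, …, x_n] → A as RHom_P(A, K ⊗^L_R P)[n], assuming the derived base change to
P exists and taking for RHom_P(A, −) a right adjoint of restriction of scalars along ψ. For two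
presentations (with n and m variables) the resulting objects of D(A) are isomorphic, for every K in
D(R). -/
theorem result (R A : Type u) [CommRing R] [CommRing A] [IsNoetherianRing R] [IsNoetherianRing A] [Algebra R A] (n : ℕ) (ψ : MvPolynomial (Fin n) R →ₐ[R] A) (hψ : Function.Surjective ψ) [DRing.HasLBaseChange (algebraMap R (MvPolynomial (Fin n) R))] (Rψ : Dual.D (MvPolynomial (Fin n) R) ⥤ Dual.D A) (adj : DRing.restrictD ψ.toRingHom ⊣ Rψ) (m : ℕ) (ψ' : MvPolynomial (Fin m) R →ₐ[R] A) (hψ' : Function.Surjective ψ') [DRing.HasLBaseChange (algebraMap R (MvPolynomial (Fin m) R))] (Rψ' : Dual.D (MvPolynomial (Fin m) R) ⥤ Dual.D A) (adj' : DRing.restrictD ψ'.toRingHom ⊣ Rψ') (K : Dual.D R) : Nonempty (Dual2.shriekVia n Rψ K ≅ Dual2.shriekVia m Rψ' K) := by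
  obtain ⟨η, -, hη⟩ := DualBCLib.exists_bc_univ_base (S := MvPolynomial (Fin n) R) K
  obtain ⟨η', -, hη'⟩ := DualBCLib.exists_bc_univ_base (S := MvPolynomial (Fin m) R) K
  obtain ⟨ε, hε⟩ := ShriekRingLib.exists_coUniv_shriekVia n ψ adj K
  obtain ⟨ε', hε'⟩ := ShriekRingLib.exists_coUniv_shriekVia m ψ' adj' K
  exact ShriekRingLib.nonempty_iso_presentations ψ.toRingHom hψ ψ'.toRingHom hψ' (RingHom.ext fun r => (ψ.commutes r).trans (ψ'.commutes r).symm) hη hη' hε hε'

end Groth.Agent.S1781
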