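import Groth.Statements.S17810
import Groth.Agent.JacAlbLib.Setup
import Groth.Agent.S11993

set_option autoImplicit false
universe u
open CategoryTheory CategoryTheory.Limits AlgebraicGeometry MonoidalCategory CartesianMonoidalCategory MonObj
open JacVar

namespace Groth.Agent.S17810

/-- The case of a curve with a rational point. Let C be a smooth proper geometrically connected curve of
genus g > 0 over a field k with a k-rational point P, (J, ψ) its Jacobian (a commutative group
scheme over k, coarse moduli scheme on all k-schemes for degree-0 line bundles on C modulo twisting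
from the base, group law induced by tensor product), j : C ⟶ J the Abel map with base point P, and F
: C ×_k C ⟶ J the morphism (x, y) ↦ j(x) · j(y)⁻¹, which sends (x, y) to the class of O(x − y) and
does not depend on P. Then for every abelian variety A over k (commutative group scheme, proper,
smooth and geometrically irreducible over k) and every morphism φ : C ×_k C ⟶ A over k which maps
the diagonal to the zero of A, there is a unique homomorphism of group schemes J ⟶ A whose composite
with F is φ. (Stated when C has a rational point, through which F is written; the published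
statement covers every C by descent.) -/
theorem result (k : Type u) [Field k]
    (C : Scheme.{u}) [C.Over (Spec (CommRingCat.of k))]
    [IsProper (C ↘ Spec (CommRingCat.of k))] [Smooth (C ↘ Spec (CommRingCat.of k))] [GeometricallyConnected (C ↘ Spec (CommRingCat.of k))]
    (hdim : topologicalKrullDim ↥C = 1)
    (hg : 0 < Curv2.genus k C)
    (σ : Spec (CommRingCat.of k) ⟶ C) (hσ : σ ≫ (C ↘ Spec (CommRingCat.of k)) = 𝟙 _)
    (J : Over (Spec (CommRingCat.of k))) [GrpObj J] [IsCommMonObj J]
    (ψ : (ModFun.PicDeg (C ↘ Spec (CommRingCat.of k)) 0).Hom ⊤ J) (hJ : Jac.IsJacobian (C ↘ Spec (CommRingCat.of k)) ⊤ J ψ)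
    (j : Over.mk (C ↘ Spec (CommRingCat.of k)) ⟶ J) (hj : Jac.IsAbelJacobiAt (C ↘ Spec (CommRingCat.of k)) σ ψ j)
    (A : Over (Spec (CommRingCat.of k))) [GrpObj A] [IsCommMonObj A]
    [IsProper A.hom] [Smooth A.hom] [GeometricallyIrreducible A.hom]
    (φ : Over.mk (C ↘ Spec (CommRingCat.of k)) ⊗ Over.mk (C ↘ Spec (CommRingCat.of k)) ⟶ A)
    (hφ : lift (𝟙 (Over.mk (C ↘ Spec (CommRingCat.of k)))) (𝟙 (Over.mk (C ↘ Spec (CommRingCat.of k)))) ≫ φ = toUnit _ ≫ η[A]) :
    ∃! χ : J ⟶ A, IsMonHom χ ∧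
      ((fst (Over.mk (C ↘ Spec (CommRingCat.of k))) (Over.mk (C ↘ Spec (CommRingCat.of k))) ≫ j) * (snd (Over.mk (C ↘ Spec (CommRingCat.of k))) (Over.mk (C ↘ Spec (CommRingCat.of k))) ≫ j)⁻¹) ≫ χ = φ := by
  have hf : PicCurveLib.Fam (C ↘ Spec (CommRingCat.of k)) := ⟨inferInstance, inferInstance, inferInstance,
    fun s => (EllLawLib.dim_fiber_spec (C ↘ Spec (CommRingCat.of k)) s).trans hdim⟩
  obtain ⟨c, hc, hψ, hp, hs, hi⟩ := JacAlbLib.exists_setup_field (σ := σ) (hσ := hσ) hf ψ hJ
  haveI := hp; haveI := hs; haveI := hi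
  haveI := AbSchLib.geometricallyReduced_of_smooth A.hom
  haveI := GeometricallyIntegral.of_geometricallyReduced_of_geometricallyIrreducible A.hom
  haveI := FibVALib.geometricallyIntegral_of_geometricallyConnected (C ↘ Spec (CommRingCat.of k))
  let X : Over (Spec (CommRingCat.of k)) := Over.mk (C ↘ Spec (CommRingCat.of k))
  haveI : IsProper X.hom := inferInstanceAs (IsProper (C ↘ Spec (CommRingCat.of k)))
  haveI : Smooth X.hom := inferInstanceAs (Smooth (C ↘ Spec (CommRingCat.of k)))
  haveI : GeometricallyIntegral X.hom := inferInstanceAs (GeometricallyIntegral (C ↘ Spec (CommRingCat.of k)))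
  let P : 𝟙_ (Over (Spec (CommRingCat.of k))) ⟶ X := Over.homMk σ hσ
  obtain ⟨f₁, f₂, hsum⟩ := (Groth.Agent.S11993.result k X X A P φ).1
  have hd : f₁ * f₂ = 1 := by
    have h := congrArg (lift (𝟙 X) (𝟙 X) ≫ ·) hsum
    simp only [MonObj.comp_mul, lift_fst_assoc, lift_snd_assoc, Category.id_comp] at h
    rw [← h]
    exact hφ.trans (by rw [MonObj.one_eq_one, MonObj.comp_one])
  let a := P ≫ f₁
  let φ₁ : X ⟶ A := f₁ * (toUnit X ≫ a)⁻¹
  have hP : ∀ (T : Over (Spec (CommRingCat.of k))), JacAlbLib.base σ hσ T = toUnit T ≫ P := fun T => by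
    rw [← JacAlbLib.comp_base (σ := σ) (hσ := hσ) (toUnit T)]
    congr 1
  have h₁ : σ ≫ φ₁.left = η[A].left := by
    have : P ≫ φ₁ = η[A] := by
      rw [MonObj.comp_mul, GrpObj.comp_inv, ← Category.assoc, toUnit_unique (P ≫ toUnit X) (𝟙 _), Category.id_comp,
        mul_inv_cancel, MonObj.one_eq_one]
    exact congrArg CommaMorphism.left this
  have hφ₁ : φ = (fst X X ≫ φ₁) * (snd X X ≫ φ₁)⁻¹ := by
    rw [hsum, eq_inv_of_mul_eq_one_right hd]
    simp only [φ₁, MonObj.comp_mul, GrpObj.comp_inv, ← Category.assoc,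
      toUnit_unique (fst X X ≫ toUnit X) (toUnit _), toUnit_unique (snd X X ≫ toUnit X) (toUnit _)]
    rw [mul_inv, inv_inv, _root_.mul_mul_mul_comm, inv_mul_cancel, _root_.mul_one]
  have hj1 : JacAlbLib.base σ hσ X ≫ j = 1 := JacAlbLib.base_comp hf hc (hψ j hj) X
  haveI : IsCommMonObj A := inferInstance
  obtain ⟨χ, ⟨hχ, e⟩, hu⟩ := JacAlbLib.existsUnique_hom hf hc (hψ j hj) hg A φ₁ h₁
  refine ⟨χ, ⟨hχ, ?_⟩, fun χ' ⟨hχ', e'⟩ => hu χ' ⟨hχ', ?_⟩⟩
  · haveI := hχ
    rw [hφ₁, MonObj.mul_comp, GrpObj.inv_comp, Category.assoc, Category.assoc, e]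
  · haveI := hχ'
    have h := congrArg (lift (𝟙 X) (JacAlbLib.base σ hσ X) ≫ ·) (e'.trans hφ₁)
    rw [MonObj.mul_comp, GrpObj.inv_comp] at h
    simp only [MonObj.comp_mul, GrpObj.comp_inv, Category.assoc] at h
    erw [lift_fst_assoc, lift_fst_assoc, lift_snd_assoc, lift_snd_assoc, Category.id_comp, Category.id_comp] at h
    rw [← Category.assoc, hj1, MonObj.one_comp, inv_one, _root_.mul_one] at h
    refine h.trans ?_
    rw [hP, Category.assoc, show P ≫ φ₁ = η[A] from Over.OverMorphism.ext h₁, MonObj.one_eq_one, MonObj.comp_one,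
      inv_one, _root_.mul_one]

end Groth.Agent.S17810
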