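import Groth.Statements.S17811
import Groth.Agent.JacAlbLib.TorelliMain

set_option autoImplicit false
set_option backward.isDefEq.respectTransparency false
set_option backward.isDefEq.respectTransparency.types false
set_option maxRecDepth 8000
set_option maxHeartbeats 1000000
universe u
open CategoryTheory CategoryTheory.Limits AlgebraicGeometry MonoidalCategory CartesianMonoidalCategory MonObj
open JacVar

namespace Groth.Agent.S17811

/-- Torelli's statement. Let k be an algebraically closed field, C and C' smooth proper connected curves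
of the same genus g ≥ 2 over k with k-points P and P', (J, ψ) and (J', ψ') their Jacobians
(commutative group schemes over k which are coarse moduli schemes, on all k-schemes, for degree-0
line bundles modulo twisting from the base, group law induced by tensor product), j : C ⟶ J and j' :
C' ⟶ J' the Abel maps with base points P and P', and N, N' invertible modules of degree g − 1 on C
and C'. Let Θ ⊂ J and Θ' ⊂ J' be the theta loci of N and N' (closures of the loci of classes ξ with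
a nonzero global section of ξ ⊗ N, resp. of ξ ⊗ N'); they are translates of the images of the (g −
1)-st symmetric powers. Suppose β : J ≅ J' is an isomorphism of group schemes over k mapping Θ onto
the translate of Θ' by some k-point; this says that β respects the canonical principal
polarizations. Then there are an isomorphism α : C ≅ C' over k, a k-point c of J' and a sign s ∈ {1,
−1} such that j' ∘ α = (β ∘ j)^s · c in the group of morphisms C ⟶ J'. (The published statement does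
not restrict the genus; this row assumes g ≥ 2.) -/
theorem result (k : Type u) [Field k] [IsAlgClosed k]
    (C : Scheme.{u}) [C.Over (Spec (CommRingCat.of k))]
    [IsProper (C ↘ Spec (CommRingCat.of k))] [Smooth (C ↘ Spec (CommRingCat.of k))] [GeometricallyConnected (C ↘ Spec (CommRingCat.of k))]
    (hdim : topologicalKrullDim ↥C = 1)
    (C' : Scheme.{u}) [C'.Over (Spec (CommRingCat.of k))]
    [IsProper (C' ↘ Spec (CommRingCat.of k))] [Smooth (C' ↘ Spec (CommRingCat.of k))] [GeometricallyConnected (C' ↘ Spec (CommRingCat.of k))]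
    (hdim' : topologicalKrullDim ↥C' = 1)
    (g : ℕ) (hg : Curv2.genus k C = g) (hg' : Curv2.genus k C' = g) (hg2 : 2 ≤ g)
    (σ : Spec (CommRingCat.of k) ⟶ C) (hσ : σ ≫ (C ↘ Spec (CommRingCat.of k)) = 𝟙 _) (σ' : Spec (CommRingCat.of k) ⟶ C') (hσ' : σ' ≫ (C' ↘ Spec (CommRingCat.of k)) = 𝟙 _)
    (J : Over (Spec (CommRingCat.of k))) [GrpObj J] [IsCommMonObj J]
    (ψ : (ModFun.PicDeg (C ↘ Spec (CommRingCat.of k)) 0).Hom ⊤ J) (hJ : Jac.IsJacobian (C ↘ Spec (CommRingCat.of k)) ⊤ J ψ)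
    (J' : Over (Spec (CommRingCat.of k))) [GrpObj J'] [IsCommMonObj J']
    (ψ' : (ModFun.PicDeg (C' ↘ Spec (CommRingCat.of k)) 0).Hom ⊤ J') (hJ' : Jac.IsJacobian (C' ↘ Spec (CommRingCat.of k)) ⊤ J' ψ')
    (j : Over.mk (C ↘ Spec (CommRingCat.of k)) ⟶ J) (hj : Jac.IsAbelJacobiAt (C ↘ Spec (CommRingCat.of k)) σ ψ j)
    (j' : Over.mk (C' ↘ Spec (CommRingCat.of k)) ⟶ J') (hj' : Jac.IsAbelJacobiAt (C' ↘ Spec (CommRingCat.of k)) σ' ψ' j')
    (N : C.Modules) (hN : PicF.IsInvertible N) (hNdeg : Curv2.deg k C N 1 = (g : ℤ) - 1)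
    (N' : C'.Modules) (hN' : PicF.IsInvertible N') (hNdeg' : Curv2.deg k C' N' 1 = (g : ℤ) - 1)
    (β : J ≅ J') [IsMonHom β.hom] (c₀ : 𝟙_ (Over (Spec (CommRingCat.of k))) ⟶ J')
    (hβ : β.hom.left.base '' Jac.thetaLocus (C ↘ Spec (CommRingCat.of k)) 0 ψ N =
      (Jac.transl J' c₀).left.base ⁻¹' Jac.thetaLocus (C' ↘ Spec (CommRingCat.of k)) 0 ψ' N') :
    ∃ (α : C ≅ C') (hα : α.hom ≫ (C' ↘ Spec (CommRingCat.of k)) = (C ↘ Spec (CommRingCat.of k))) (c : 𝟙_ (Over (Spec (CommRingCat.of k))) ⟶ J') (s : ℤ),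
      (s = 1 ∨ s = -1) ∧
      Over.homMk α.hom hα ≫ j' = (j ≫ β.hom) ^ s * (toUnit (Over.mk (C ↘ Spec (CommRingCat.of k))) ≫ c) := by
  obtain ⟨hf, cu, hc, hψ, hp, hs, hi⟩ := JacAlbLib.exists_setup_field' (σ := σ) (hσ := hσ) hdim ψ hJ
  obtain ⟨hf', cu', hc', hψ', hp', hs', hi'⟩ := JacAlbLib.exists_setup_field' (σ := σ') (hσ := hσ') hdim' ψ' hJ'
  haveI := hp; haveI := hs; haveI := hi; haveI := hp'; haveI := hs'; haveI := hi'
  have hA := JacAlbLib.isAbel_of_isAbelJacobiAt hf hc hψ hj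
  have hA' := JacAlbLib.isAbel_of_isAbelJacobiAt hf' hc' hψ' hj'
  obtain ⟨l, rfl⟩ : ∃ l, g = l + 2 := ⟨g - 2, by omega⟩
  obtain ⟨a, ha⟩ := JacAlbLib.exists_thetaLocus_eq hdim hf hc hA hψ (n := l + 1) (by omega) hN
    (by rw [hNdeg]; push_cast; ring)
  obtain ⟨a', ha'⟩ := JacAlbLib.exists_thetaLocus_eq hdim' hf' hc' hA' hψ' (n := l + 1) (by omega) hN'
    (by rw [hNdeg']; push_cast; ring)
  rw [ha, ha'] at hβ
  haveI : IsMonHom β.symm.hom := inferInstanceAs (IsMonHom β.inv)
  have hc₁ := JacAlbLib.isRigJac_of_iso hf β.symm hc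
  have hj₁ : JacAlbLib.IsAbel σ hσ (CubeConsLib.pull (PicF.XTmap (C ↘ Spec (CommRingCat.of k)) β.symm.hom) cu)
      (j ≫ β.hom) := JacAlbLib.isAbel_of_iso β.symm hA
  obtain ⟨α, hα, t, s, hs, he⟩ := JacAlbLib.exists_iso_of_theta hdim hdim' hf hf' hc₁ hc' hj₁ hA' hg.symm hg'.symm
    ((a ≫ β.hom) * c₀ * a'⁻¹)⁻¹ (fun z => by
      rw [JacAlbLib.WSet_comp, JacAlbLib.mem_image_of_theta β c₀ a a' hβ z, inv_inv, mul_assoc z, mul_assoc z])
  exact ⟨α, hα, t, s, hs, he⟩

end Groth.Agent.S17811
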