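import Groth.Statements.S17814
import Groth.Agent.HilbPtsLib.LeLocus
import Groth.Agent.HilbPtsLib.SmoothCurve
import Mathlib.AlgebraicGeometry.ZariskisMainTheorem

set_option autoImplicit false
universe u
open CategoryTheory CategoryTheory.Limits AlgebraicGeometry
open SDiv

namespace Groth.Agent.S17814

/-- Let T be a reduced locally Noetherian scheme, π : 𝒞 ⟶ T a proper smooth morphism of relative
dimension 1, and D, D' relative effective divisors on 𝒞/T: closed subschemes whose ideal sheaves are
locally generated by a single nonzerodivisor and which are flat over T. If for every point t of T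
the fibre of D over t contains the fibre of D' as closed subschemes of 𝒞_t (containment of ideal
sheaves the other way), then D contains D': the ideal sheaf of D is contained in that of D'. (The
published statement has no hypothesis on T; over T = Spec k[ε] the divisors x = 0 and x = ε on the
projective line have equal fibres while neither contains the other. This row assumes T reduced and
locally Noetherian.) -/
theorem result {𝒞 T : Scheme.{u}} [IsLocallyNoetherian T] [AlgebraicGeometry.IsReduced T]
    (π : 𝒞 ⟶ T) [IsProper π] [SmoothOfRelativeDimension 1 π]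
    (D D' : 𝒞.IdealSheafData)
    (hD : BlowUp.IsEffCartierIdeal D ∧ Flat (D.subschemeι ≫ π))
    (hD' : BlowUp.IsEffCartierIdeal D' ∧ Flat (D'.subschemeι ≫ π))
    (hfib : ∀ t : ↥T, D.comap (pullback.fst π (T.fromSpecResidueField t)) ≤
      D'.comap (pullback.fst π (T.fromSpecResidueField t))) :
    D ≤ D' := by
  obtain ⟨hqf, hfl, hfp⟩ := (HilbPts.SC.effCartier_iff π D').1 hD'
  haveI := hqf
  haveI : IsFinite (D'.subschemeι ≫ π) := IsFinite.of_isProper_of_locallyQuasiFinite _
  obtain ⟨K, hK⟩ := HilbPts.exists_le_locus π D D' ⟨inferInstance, hfl, hfp⟩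
  have hbot : K = ⊥ := by
    refine Scheme.IdealSheafData.support_eq_top_iff.1 (SetLike.ext fun t => iff_of_true ?_ trivial)
    obtain ⟨w, hw⟩ := (HilbPts.factors_iff (T.fromSpecResidueField t)).2 ((hK _ _).2 (hfib t))
    rw [← SetLike.mem_coe, ← Scheme.IdealSheafData.range_subschemeι]
    refine ⟨w (IsLocalRing.closedPoint _), ?_⟩
    rw [← Scheme.Hom.comp_apply, hw]
    exact T.fromSpecResidueField_apply t _
  have h := (hK T (𝟙 T)).1 (by rw [hbot, Scheme.IdealSheafData.comap_bot])
  haveI : IsIso (pullback.fst π (𝟙 T)) := inferInstance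
  have e : ∀ J : 𝒞.IdealSheafData, (J.comap (pullback.fst π (𝟙 T))).comap (inv (pullback.fst π (𝟙 T))) = J := fun J => by
    rw [← Scheme.IdealSheafData.comap_comp, IsIso.inv_hom_id, Scheme.IdealSheafData.comap_id]
  rw [← e D, ← e D']
  exact (Scheme.IdealSheafData.map_gc _).monotone_l h

end Groth.Agent.S17814
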