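import Groth.Statements.S17815
import Groth.Agent.JacAlbLib.WShift
import Groth.Agent.S19877

set_option autoImplicit false
set_option backward.isDefEq.respectTransparency false
set_option backward.isDefEq.respectTransparency.types false
set_option maxRecDepth 8000
set_option maxHeartbeats 1000000
universe u
open CategoryTheory CategoryTheory.Limits AlgebraicGeometry MonoidalCategory CartesianMonoidalCategory MonObj
open JacVar

namespace Groth.Agent.S17815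

/-- The non-hyperelliptic case. Let k be an algebraically closed field, C and C' smooth proper connected
curves of genus g ≥ 2 over k with k-points P and P', (J, ψ) and (J', ψ') their Jacobians
(commutative group schemes over k, coarse moduli schemes on all k-schemes for degree-0 line bundles
modulo twisting from the base, group law induced by tensor product), j and j' the Abel maps with
base points P and P', and β : J ≅ J' an isomorphism of group schemes over k. Suppose C is not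
hyperelliptic: no invertible module of degree 2 on C has a two-dimensional space of global sections.
Then the isomorphism, the sign and the translation in Torelli's conclusion are uniquely determined
by β, P and P': if isomorphisms α₁, α₂ : C ≅ C' over k, k-points c₁, c₂ of J' and signs s₁, s₂ ∈ {1,
−1} satisfy j' ∘ α_i = (β ∘ j)^{s_i} · c_i for i = 1, 2, then α₁ = α₂, s₁ = s₂ and c₁ = c₂. (The
published statement takes β an isomorphism of the canonically polarized Jacobians; this row allows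
any isomorphism of group schemes β.) -/
theorem result (k : Type u) [Field k] [IsAlgClosed k]
    (C : Scheme.{u}) [C.Over (Spec (CommRingCat.of k))]
    [IsProper (C ↘ Spec (CommRingCat.of k))] [Smooth (C ↘ Spec (CommRingCat.of k))] [GeometricallyConnected (C ↘ Spec (CommRingCat.of k))]
    (hdim : topologicalKrullDim ↥C = 1)
    (C' : Scheme.{u}) [C'.Over (Spec (CommRingCat.of k))]
    [IsProper (C' ↘ Spec (CommRingCat.of k))] [Smooth (C' ↘ Spec (CommRingCat.of k))] [GeometricallyConnected (C' ↘ Spec (CommRingCat.of k))]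
    (hdim' : topologicalKrullDim ↥C' = 1)
    (g : ℕ) (hg : Curv2.genus k C = g) (hg' : Curv2.genus k C' = g) (hg2 : 2 ≤ g)
    (σ : Spec (CommRingCat.of k) ⟶ C) (hσ : σ ≫ (C ↘ Spec (CommRingCat.of k)) = 𝟙 _) (σ' : Spec (CommRingCat.of k) ⟶ C') (hσ' : σ' ≫ (C' ↘ Spec (CommRingCat.of k)) = 𝟙 _)
    (J : Over (Spec (CommRingCat.of k))) [GrpObj J] [IsCommMonObj J]
    (ψ : (ModFun.PicDeg (C ↘ Spec (CommRingCat.of k)) 0).Hom ⊤ J) (hJ : Jac.IsJacobian (C ↘ Spec (CommRingCat.of k)) ⊤ J ψ)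
    (J' : Over (Spec (CommRingCat.of k))) [GrpObj J'] [IsCommMonObj J']
    (ψ' : (ModFun.PicDeg (C' ↘ Spec (CommRingCat.of k)) 0).Hom ⊤ J') (hJ' : Jac.IsJacobian (C' ↘ Spec (CommRingCat.of k)) ⊤ J' ψ')
    (j : Over.mk (C ↘ Spec (CommRingCat.of k)) ⟶ J) (hj : Jac.IsAbelJacobiAt (C ↘ Spec (CommRingCat.of k)) σ ψ j)
    (j' : Over.mk (C' ↘ Spec (CommRingCat.of k)) ⟶ J') (hj' : Jac.IsAbelJacobiAt (C' ↘ Spec (CommRingCat.of k)) σ' ψ' j')
    (β : J ≅ J') [IsMonHom β.hom]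
    (hnh : ¬ ∃ L : C.Modules, PicF.IsInvertible L ∧ Curv2.deg k C L 1 = 2 ∧ Module.finrank k (Coh.HH C L 0) = 2)
    (α₁ α₂ : C ≅ C') (hα₁ : α₁.hom ≫ (C' ↘ Spec (CommRingCat.of k)) = (C ↘ Spec (CommRingCat.of k))) (hα₂ : α₂.hom ≫ (C' ↘ Spec (CommRingCat.of k)) = (C ↘ Spec (CommRingCat.of k)))
    (c₁ c₂ : 𝟙_ (Over (Spec (CommRingCat.of k))) ⟶ J') (s₁ s₂ : ℤ) (hs₁ : s₁ = 1 ∨ s₁ = -1) (hs₂ : s₂ = 1 ∨ s₂ = -1)
    (h₁ : Over.homMk α₁.hom hα₁ ≫ j' = (j ≫ β.hom) ^ s₁ * (toUnit (Over.mk (C ↘ Spec (CommRingCat.of k))) ≫ c₁))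
    (h₂ : Over.homMk α₂.hom hα₂ ≫ j' = (j ≫ β.hom) ^ s₂ * (toUnit (Over.mk (C ↘ Spec (CommRingCat.of k))) ≫ c₂)) :
    α₁ = α₂ ∧ s₁ = s₂ ∧ c₁ = c₂ := by
  by_cases hss : s₁ = s₂
  · subst hss
    obtain ⟨hα, hc'⟩ := Groth.Agent.S19877.result k C hdim C' hdim' g hg hg' hg2 σ hσ σ' hσ' J ψ hJ J' ψ' hJ' j hj j' hj'
      β α₁ α₂ hα₁ hα₂ c₁ c₂ s₁ hs₁ h₁ h₂
    exact ⟨hα, rfl, hc'⟩
  exfalso
  obtain ⟨hf, c, hc, hψ, hp, hsm, hi⟩ := JacAlbLib.exists_setup_field' (σ := σ) (hσ := hσ) hdim ψ hJ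
  haveI := hp; haveI := hsm; haveI := hi
  have hA := JacAlbLib.isAbel_of_isAbelJacobiAt hf hc hψ hj
  have key : ∀ (b₁ b₂ : C ≅ C') (hb₁ : b₁.hom ≫ (C' ↘ Spec (CommRingCat.of k)) = (C ↘ Spec (CommRingCat.of k)))
      (hb₂ : b₂.hom ≫ (C' ↘ Spec (CommRingCat.of k)) = (C ↘ Spec (CommRingCat.of k)))
      (d₁ d₂ : 𝟙_ (Over (Spec (CommRingCat.of k))) ⟶ J'),
      Over.homMk b₁.hom hb₁ ≫ j' = (j ≫ β.hom) ^ (1 : ℤ) * (toUnit (Over.mk (C ↘ Spec (CommRingCat.of k))) ≫ d₁) →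
      Over.homMk b₂.hom hb₂ ≫ j' = (j ≫ β.hom) ^ (-1 : ℤ) * (toUnit (Over.mk (C ↘ Spec (CommRingCat.of k))) ≫ d₂) →
      False := by
    intro b₁ b₂ hb₁ hb₂ d₁ d₂ e₁ e₂
    refine hnh (JacAlbLib.exists_pencil hdim hf hc hA (by omega) ((d₂ * d₁⁻¹) ≫ β.inv) fun u => ?_)
    obtain ⟨w, hw⟩ := JacAlbLib.exists_lift_of_iso b₂ hb₂
      (u ≫ (Over.homMk b₁.hom hb₁ : Over.mk (C ↘ Spec (CommRingCat.of k)) ⟶ Over.mk (C' ↘ Spec (CommRingCat.of k))))
    refine ⟨w, ?_⟩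
    have hu : ∀ (u : 𝟙_ (Over (Spec (CommRingCat.of k))) ⟶ Over.mk (C ↘ Spec (CommRingCat.of k)))
        (e : 𝟙_ (Over (Spec (CommRingCat.of k))) ⟶ J'),
        u ≫ toUnit (Over.mk (C ↘ Spec (CommRingCat.of k))) ≫ e = e := fun u e => by
      rw [← Category.assoc, toUnit_unique (u ≫ toUnit _) (𝟙 _), Category.id_comp]
    have h := congrArg (fun z => z ≫ j') hw
    erw [Category.assoc, Category.assoc, e₁, e₂] at h
    rw [MonObj.comp_mul, MonObj.comp_mul, hu, hu, zpow_one, zpow_neg_one, GrpObj.comp_inv] at h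
    rw [← cancel_mono β.hom, Category.assoc, β.inv_hom_id, Category.comp_id, MonObj.mul_comp, Category.assoc,
      Category.assoc, eq_mul_inv_iff_mul_eq, _root_.mul_assoc, mul_comm (w ≫ j ≫ β.hom), ← _root_.mul_assoc, ← h,
      mul_comm _ d₂, inv_mul_cancel_right]
  rcases hs₁ with rfl | rfl <;> rcases hs₂ with rfl | rfl
  · exact hss rfl
  · exact key α₁ α₂ hα₁ hα₂ c₁ c₂ h₁ h₂
  · exact key α₂ α₁ hα₂ hα₁ c₂ c₁ h₂ h₁
  · exact hss rfl

end Groth.Agent.S17815
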