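import Groth.Statements.S17816
import Groth.Agent.JacAlbLib.Corr

set_option autoImplicit false
universe u
open CategoryTheory CategoryTheory.Limits AlgebraicGeometry MonoidalCategory CartesianMonoidalCategory MonObj
open JacVar

namespace Groth.Agent.S17816

/-- Let k be a field and C₁, C₂ smooth proper geometrically connected curves of positive genus over k
with k-points P₁ and P₂; let (J₁, ψ₁) and (J₂, ψ₂) be their Jacobians (commutative group schemes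
over k, coarse moduli schemes on all k-schemes for degree-0 line bundles modulo twisting from the
base, group law induced by tensor product), j₁ : C₁ ⟶ J₁ the Abel map with base point P₁, and M a
universal degree-0 family on C₂ × J₂ which is trivial along P₂ × J₂ and whose classifying morphism
under ψ₂ is the identity of J₂ (the sheaf M^{P₂}). For a homomorphism χ : J₁ ⟶ J₂ let Φ(χ) be the
class of the pullback of M along 1 × (χ ∘ j₁) : C₂ × C₁ ⟶ C₂ × J₂. Then χ ↦ Φ(χ) is a bijection from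
the homomorphisms of group schemes J₁ ⟶ J₂ onto the isomorphism classes of divisorial
correspondences between (C₂, P₂) and (C₁, P₁), i.e. classes of invertible modules on C₂ ×_k C₁
trivial on P₂ × C₁ and on C₂ × P₁: each Φ(χ) is such a class, Φ is injective on homomorphisms, and
every such class is Φ(χ) for a homomorphism χ. -/
theorem result (k : Type u) [Field k]
    (C₁ : Scheme.{u}) [C₁.Over (Spec (CommRingCat.of k))]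
    [IsProper (C₁ ↘ Spec (CommRingCat.of k))] [Smooth (C₁ ↘ Spec (CommRingCat.of k))] [GeometricallyConnected (C₁ ↘ Spec (CommRingCat.of k))]
    (hdim₁ : topologicalKrullDim ↥C₁ = 1)
    (C₂ : Scheme.{u}) [C₂.Over (Spec (CommRingCat.of k))]
    [IsProper (C₂ ↘ Spec (CommRingCat.of k))] [Smooth (C₂ ↘ Spec (CommRingCat.of k))] [GeometricallyConnected (C₂ ↘ Spec (CommRingCat.of k))]
    (hdim₂ : topologicalKrullDim ↥C₂ = 1)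
    (hg₁ : 0 < Curv2.genus k C₁) (hg₂ : 0 < Curv2.genus k C₂)
    (σ₁ : Spec (CommRingCat.of k) ⟶ C₁) (hσ₁ : σ₁ ≫ (C₁ ↘ Spec (CommRingCat.of k)) = 𝟙 _) (σ₂ : Spec (CommRingCat.of k) ⟶ C₂) (hσ₂ : σ₂ ≫ (C₂ ↘ Spec (CommRingCat.of k)) = 𝟙 _)
    (J₁ : Over (Spec (CommRingCat.of k))) [GrpObj J₁] [IsCommMonObj J₁]
    (ψ₁ : (ModFun.PicDeg (C₁ ↘ Spec (CommRingCat.of k)) 0).Hom ⊤ J₁) (hJ₁ : Jac.IsJacobian (C₁ ↘ Spec (CommRingCat.of k)) ⊤ J₁ ψ₁)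
    (J₂ : Over (Spec (CommRingCat.of k))) [GrpObj J₂] [IsCommMonObj J₂]
    (ψ₂ : (ModFun.PicDeg (C₂ ↘ Spec (CommRingCat.of k)) 0).Hom ⊤ J₂) (hJ₂ : Jac.IsJacobian (C₂ ↘ Spec (CommRingCat.of k)) ⊤ J₂ ψ₂)
    (j₁ : Over.mk (C₁ ↘ Spec (CommRingCat.of k)) ⟶ J₁) (hj₁ : Jac.IsAbelJacobiAt (C₁ ↘ Spec (CommRingCat.of k)) σ₁ ψ₁ j₁)
    (Pu : (PicF.XT (C₂ ↘ Spec (CommRingCat.of k)) J₂).Modules) (hPu : ModFun.IsUnivFamily ⊤ (ModFun.PicDeg (C₂ ↘ Spec (CommRingCat.of k)) 0) J₂ Pu)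
    (hPn : Jac.IsNormAlong (C₂ ↘ Spec (CommRingCat.of k)) σ₂ hσ₂ J₂ Pu)
    (hT₂ : (⊤ : ObjectProperty (Over (Spec (CommRingCat.of k)))) J₂) (hPuψ : ψ₂.app J₂ Pu hT₂ hPu.1 = 𝟙 J₂) :
    (∀ χ : J₁ ⟶ J₂, IsMonHom χ →
      (PicF.IsInvertibleCl (PicF.pullCl (PicF.XTmap (C₂ ↘ Spec (CommRingCat.of k)) (j₁ ≫ χ)) (PicF.cl Pu)) ∧
        PicF.IsTrivialCl (PicF.pullCl (PicF.secT (C₂ ↘ Spec (CommRingCat.of k)) σ₂ hσ₂ (Over.mk (C₁ ↘ Spec (CommRingCat.of k)))) (PicF.pullCl (PicF.XTmap (C₂ ↘ Spec (CommRingCat.of k)) (j₁ ≫ χ)) (PicF.cl Pu))) ∧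
        PicF.IsTrivialCl (PicF.pullCl (PicF.XTmap (C₂ ↘ Spec (CommRingCat.of k)) (Over.homMk σ₁ hσ₁ : 𝟙_ (Over (Spec (CommRingCat.of k))) ⟶ Over.mk (C₁ ↘ Spec (CommRingCat.of k)))) (PicF.pullCl (PicF.XTmap (C₂ ↘ Spec (CommRingCat.of k)) (j₁ ≫ χ)) (PicF.cl Pu))))) ∧
    (∀ χ₁ χ₂ : J₁ ⟶ J₂, IsMonHom χ₁ → IsMonHom χ₂ →
      PicF.pullCl (PicF.XTmap (C₂ ↘ Spec (CommRingCat.of k)) (j₁ ≫ χ₁)) (PicF.cl Pu) = PicF.pullCl (PicF.XTmap (C₂ ↘ Spec (CommRingCat.of k)) (j₁ ≫ χ₂)) (PicF.cl Pu) → χ₁ = χ₂) ∧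
    (∀ c : PicF.Cl (PicF.XT (C₂ ↘ Spec (CommRingCat.of k)) (Over.mk (C₁ ↘ Spec (CommRingCat.of k)))),
      (PicF.IsInvertibleCl (c) ∧
        PicF.IsTrivialCl (PicF.pullCl (PicF.secT (C₂ ↘ Spec (CommRingCat.of k)) σ₂ hσ₂ (Over.mk (C₁ ↘ Spec (CommRingCat.of k)))) (c)) ∧
        PicF.IsTrivialCl (PicF.pullCl (PicF.XTmap (C₂ ↘ Spec (CommRingCat.of k)) (Over.homMk σ₁ hσ₁ : 𝟙_ (Over (Spec (CommRingCat.of k))) ⟶ Over.mk (C₁ ↘ Spec (CommRingCat.of k)))) (c))) →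
      ∃ χ : J₁ ⟶ J₂, IsMonHom χ ∧ PicF.pullCl (PicF.XTmap (C₂ ↘ Spec (CommRingCat.of k)) (j₁ ≫ χ)) (PicF.cl Pu) = c) := by
  obtain ⟨hf₁, c₁, hc₁, hψ₁, hp₁, hs₁, hi₁⟩ :=
    JacAlbLib.exists_setup_field' (σ := σ₁) (hσ := hσ₁) hdim₁ ψ₁ hJ₁
  obtain ⟨hf₂, c₂, hc₂, hψ₂, hp₂, hs₂, hi₂⟩ :=
    JacAlbLib.exists_setup_field' (σ := σ₂) (hσ := hσ₂) hdim₂ ψ₂ hJ₂
  haveI := hp₁; haveI := hs₁; haveI := hi₁; haveI := hp₂; haveI := hs₂; haveI := hi₂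
  have hj := JacAlbLib.isAbel_of_isAbelJacobiAt hf₁ hc₁ hψ₁ hj₁
  have hPc : CubeConsLib.cl Pu = c₂ := JacAlbLib.cl_univ_eq hf₂ hc₂ hψ₂ hPu.1 hPn hPuψ
  have hPi := ((JacAlbLib.ok_iff hf₂ 0 J₂ Pu).1 hPu.1).1
  let o : 𝟙_ (Over (Spec (CommRingCat.of k))) ⟶ Over.mk (C₁ ↘ Spec (CommRingCat.of k)) := Over.homMk σ₁ hσ₁
  have ho : o ≫ j₁ = 1 := by
    rw [← JacAlbLib.base_comp hf₁ hc₁ hj (𝟙_ _)]
    congr 1
  refine ⟨fun χ hχ => ?_, fun χ₁ χ₂ hχ₁ hχ₂ e => ?_, fun cc hcc => ?_⟩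
  · haveI := hχ
    have hr := PicCurveLib.rigZero_pull hf₂ σ₂ hσ₂ (j₁ ≫ χ) hc₂.rigZero
    rw [← hPc] at hr
    refine ⟨⟨_, rfl, AmpleDevLib.isInvertible_pb (PicF.XTmap (C₂ ↘ Spec (CommRingCat.of k)) (j₁ ≫ χ)) hPi⟩, ?_, ?_⟩
    · exact (JacAlbLib.isTrivialCl_pullCl_iff _ ((Scheme.Modules.pullback _).obj Pu)).2 hr.rig
    · refine (JacAlbLib.isTrivialCl_pullCl_iff _ ((Scheme.Modules.pullback _).obj Pu)).2 ?_
      rw [← CubeConsLib.pull_cl, hPc, CubeConsLib.pull_comp, DescAppLib.XTmap_comp, ← Category.assoc, ho,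
        MonObj.one_comp]
      exact JacAlbLib.pull_one hf₂ hc₂ _
  · haveI := hχ₁; haveI := hχ₂
    refine JacAlbLib.hom_unique hf₁ hc₁ hj J₂ χ₁ χ₂ (JacAlbLib.hom_ext hf₂ hc₂ ?_)
    rw [← hPc]
    exact EllLawLib.toCl_eq.1 e
  · obtain ⟨⟨L, rfl, hL⟩, hr, h0⟩ := hcc
    haveI := FibVALib.geometricallyIntegral_of_geometricallyConnected (C₁ ↘ Spec (CommRingCat.of k))
    haveI : IsIntegral C₁ := GeometricallyIntegral.isIntegral_of_subsingleton (C₁ ↘ Spec (CommRingCat.of k))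
    haveI : PreconnectedSpace ↥(Over.mk (C₁ ↘ Spec (CommRingCat.of k))).left := inferInstanceAs (PreconnectedSpace C₁)
    haveI : Nonempty ↥(𝟙_ (Over (Spec (CommRingCat.of k)))).left := ⟨IsLocalRing.closedPoint k⟩
    have h0' := (JacAlbLib.isTrivialCl_pullCl_iff _ L).1 h0
    have hz := JacAlbLib.rigZero_of_trivial_at hf₂ hL ((JacAlbLib.isTrivialCl_pullCl_iff _ L).1 hr) o h0'
    obtain ⟨g, hg, -⟩ := hc₂.bij _ _ hz
    have hg0 : o ≫ g = 1 := by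
      refine JacAlbLib.hom_ext hf₂ hc₂ ?_
      rw [← DescAppLib.XTmap_comp, ← CubeConsLib.pull_comp, hg, h0', JacAlbLib.pull_one hf₂ hc₂]
    obtain ⟨χ, ⟨hχ, hχg⟩, -⟩ := JacAlbLib.existsUnique_hom hf₁ hc₁ hj hg₁ J₂ g
      (congrArg CommaMorphism.left (hg0.trans (MonObj.one_eq_one (M := J₂)).symm))
    refine ⟨χ, hχ, EllLawLib.toCl_eq.2 ?_⟩
    rw [← CubeConsLib.pull_cl, hPc, hχg, hg]

end Groth.Agent.S17816
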