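import Groth.Statements.S17817
import Groth.Agent.AmpleSliceLib.Generate
import Groth.Agent.JacAlbLib.Setup

set_option autoImplicit false
set_option backward.isDefEq.respectTransparency false
set_option backward.isDefEq.respectTransparency.types false
set_option maxRecDepth 8000
set_option maxHeartbeats 1000000
universe u
open CategoryTheory CategoryTheory.Limits AlgebraicGeometry MonoidalCategory CartesianMonoidalCategory MonObj
open JacVar

namespace Groth.Agent.S17817

/-- Let k be an infinite field and A an abelian variety over k (a commutative group scheme, proper,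
smooth and geometrically irreducible over k) of positive dimension. Then there is a closed subscheme
C of A which is a smooth proper geometrically connected curve over k such that, for every k-rational
point P of C, every Jacobian (J, ψ) of C (commutative group scheme over k, coarse moduli scheme on
all k-schemes for degree-0 line bundles modulo twisting from the base, group law induced by tensor
product), every Abel map j : C ⟶ J with base point P and every homomorphism χ : J ⟶ A with χ ∘ j
equal to the inclusion of C followed by translation by the inverse of P, the morphism χ is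
surjective: A is a quotient of the Jacobian of C. (The universal property is expressed through a
rational point of C; for C without rational points only the existence of the curve is asserted
here.) -/
theorem result (k : Type u) [Field k] [Infinite k]
    (A : Over (Spec (CommRingCat.of k))) [GrpObj A] [IsCommMonObj A]
    [IsProper A.hom] [Smooth A.hom] [GeometricallyIrreducible A.hom]
    (hA : 1 ≤ topologicalKrullDim ↥A.left) :
    ∃ (C : Scheme.{u}) (i : C ⟶ A.left), IsClosedImmersion i ∧ IsProper (i ≫ A.hom) ∧ Smooth (i ≫ A.hom) ∧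
      GeometricallyConnected (i ≫ A.hom) ∧ topologicalKrullDim ↥C = 1 ∧
      ∀ (σ : Spec (CommRingCat.of k) ⟶ C) (hσ : σ ≫ (i ≫ A.hom) = 𝟙 _)
        (J : Over (Spec (CommRingCat.of k))) [GrpObj J] [IsCommMonObj J] (ψ : (ModFun.PicDeg (i ≫ A.hom) 0).Hom ⊤ J),
        Jac.IsJacobian (i ≫ A.hom) ⊤ J ψ →
        ∀ (j : Over.mk (i ≫ A.hom) ⟶ J), Jac.IsAbelJacobiAt (i ≫ A.hom) σ ψ j →
        ∀ (χ : J ⟶ A), IsMonHom χ →
          j ≫ χ = (Over.homMk i rfl : Over.mk (i ≫ A.hom) ⟶ A) *
            (toUnit (Over.mk (i ≫ A.hom)) ≫ (Over.homMk (σ ≫ i) ((Category.assoc σ i A.hom).trans hσ) : 𝟙_ (Over (Spec (CommRingCat.of k))) ⟶ A))⁻¹ →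
          Function.Surjective χ.left.base := by
  haveI : GeometricallyConnected A.hom := Groth.Agent.WeilRes.geometricallyConnected_of_geometricallyIrreducible A.hom
  haveI : GeometricallyIntegral A.hom := FibVALib.geometricallyIntegral_of_geometricallyConnected A.hom
  haveI : IsIntegral A.left := GeometricallyIntegral.isIntegral_of_subsingleton A.hom
  obtain ⟨d, hd⟩ := LichtLib.exists_dim A.hom
  rw [hd] at hA
  obtain ⟨e, rfl⟩ := Nat.exists_eq_add_of_le' (show 1 ≤ d by exact_mod_cast hA)
  obtain ⟨L, hL⟩ := AVAmpleLib.exists_ample A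
  obtain ⟨C, i, hi, hip, his, hic, hid, hmeet⟩ := AmpleSliceLib.exists_curve e A.hom hL hd
  refine ⟨C, i, hi, hip, his, hic, hid, fun σ hσ J _ _ ψ hJ j _ χ hχ hj => ?_⟩
  letI : C.Over (Spec (CommRingCat.of k)) := ⟨i ≫ A.hom⟩
  haveI := hip; haveI := his; haveI := hic; haveI := hχ
  have hf : PicCurveLib.Fam (C ↘ Spec (CommRingCat.of k)) := ⟨hip, his, hic,
    fun s => (EllLawLib.dim_fiber_spec (C ↘ Spec (CommRingCat.of k)) s).trans hid⟩
  haveI : IsProper (C ↘ Spec (CommRingCat.of k)) := hip
  haveI : Smooth (C ↘ Spec (CommRingCat.of k)) := his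
  haveI : GeometricallyConnected (C ↘ Spec (CommRingCat.of k)) := hic
  obtain ⟨-, -, -, hp, hs, -⟩ := JacAlbLib.exists_setup_field (σ := σ) (hσ := hσ) hf ψ hJ
  haveI := hp; haveI := hs
  haveI : Flat J.hom := inferInstance
  exact AmpleSliceLib.surjective_of_meets hd (Over.homMk i rfl : Over.mk (i ≫ A.hom) ⟶ A) hmeet _ χ j hj

end Groth.Agent.S17817
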