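import Groth.Statements.S17818
import Groth.Agent.JacAlbLib.Corr

set_option autoImplicit false
universe u
open CategoryTheory CategoryTheory.Limits AlgebraicGeometry MonoidalCategory CartesianMonoidalCategory MonObj
open JacVar

namespace Groth.Agent.S17818

/-- Let C be a smooth proper geometrically connected curve of genus g > 0 over a field k with a
k-rational point P, (J, ψ) its Jacobian (a commutative group scheme over k, coarse moduli scheme on
all k-schemes for degree-0 line bundles modulo twisting from the base, group law induced by tensor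
product), M the universal family on C × J normalised along P × J whose classifying morphism under ψ
is the identity (the sheaf M^P), j : C ⟶ J the Abel map with base point P, and L^P the module on C ×
C with L^P ⊗ I_Δ ≅ pr₁^* I_P ⊗ pr₂^* I_P, i.e. O(Δ − C × P − P × C). If N is an invertible module on
C × J, trivial along P × J and along C × 0 (a divisorial correspondence between (C, P) and J), whose
pullback along 1 × j is isomorphic to L^P, then N is isomorphic to M. -/
theorem result (k : Type u) [Field k]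
    (C : Scheme.{u}) [C.Over (Spec (CommRingCat.of k))]
    [IsProper (C ↘ Spec (CommRingCat.of k))] [Smooth (C ↘ Spec (CommRingCat.of k))] [GeometricallyConnected (C ↘ Spec (CommRingCat.of k))]
    (hdim : topologicalKrullDim ↥C = 1)
    (hg : 0 < Curv2.genus k C)
    (σ : Spec (CommRingCat.of k) ⟶ C) (hσ : σ ≫ (C ↘ Spec (CommRingCat.of k)) = 𝟙 _)
    (J : Over (Spec (CommRingCat.of k))) [GrpObj J] [IsCommMonObj J]
    (ψ : (ModFun.PicDeg (C ↘ Spec (CommRingCat.of k)) 0).Hom ⊤ J) (hJ : Jac.IsJacobian (C ↘ Spec (CommRingCat.of k)) ⊤ J ψ)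
    (Pu : (PicF.XT (C ↘ Spec (CommRingCat.of k)) J).Modules) (hPu : ModFun.IsUnivFamily ⊤ (ModFun.PicDeg (C ↘ Spec (CommRingCat.of k)) 0) J Pu)
    (hPn : Jac.IsNormAlong (C ↘ Spec (CommRingCat.of k)) σ hσ J Pu)
    (hT : (⊤ : ObjectProperty (Over (Spec (CommRingCat.of k)))) J) (hPuψ : ψ.app J Pu hT hPu.1 = 𝟙 J)
    (j : Over.mk (C ↘ Spec (CommRingCat.of k)) ⟶ J) (hj : Jac.IsAbelJacobiAt (C ↘ Spec (CommRingCat.of k)) σ ψ j)
    (LP : (PicF.XT (C ↘ Spec (CommRingCat.of k)) (Over.mk (C ↘ Spec (CommRingCat.of k)))).Modules) (hLPi : PicF.IsInvertible LP)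
    (hLP : Nonempty (CohB1.tensorMod LP (ClSub.idealMod (pullback.diagonal (C ↘ Spec (CommRingCat.of k))).ker) ≅
      CohB1.tensorMod ((Scheme.Modules.pullback (pullback.fst (C ↘ Spec (CommRingCat.of k)) (C ↘ Spec (CommRingCat.of k)))).obj (ClSub.idealMod σ.ker))
        ((Scheme.Modules.pullback (pullback.snd (C ↘ Spec (CommRingCat.of k)) (C ↘ Spec (CommRingCat.of k)))).obj (ClSub.idealMod σ.ker))))
    (N : (PicF.XT (C ↘ Spec (CommRingCat.of k)) J).Modules) (hN : PicF.IsInvertible N)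
    (hNP : Jac.IsNormAlong (C ↘ Spec (CommRingCat.of k)) σ hσ J N)
    (hN0 : PicF.IsTrivialCl (PicF.pullCl (PicF.XTmap (C ↘ Spec (CommRingCat.of k)) (η[J])) (PicF.cl N)))
    (hNj : Nonempty ((Scheme.Modules.pullback (PicF.XTmap (C ↘ Spec (CommRingCat.of k)) j)).obj N ≅ LP)) :
    Nonempty (N ≅ Pu) := by
  obtain ⟨hf, c, hc, hψ, hp, hs, hi⟩ := JacAlbLib.exists_setup_field' (σ := σ) (hσ := hσ) hdim ψ hJ
  haveI := hp; haveI := hs; haveI := hi
  have hj' := JacAlbLib.isAbel_of_isAbelJacobiAt hf hc hψ hj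
  have hPc : CubeConsLib.cl Pu = c := JacAlbLib.cl_univ_eq hf hc hψ hPu.1 hPn hPuψ
  haveI : IsIntegral J.left := GeometricallyIntegral.isIntegral_of_subsingleton J.hom
  haveI : Nonempty ↥(𝟙_ (Over (Spec (CommRingCat.of k)))).left := ⟨IsLocalRing.closedPoint k⟩
  have h0 := (JacAlbLib.isTrivialCl_pullCl_iff _ N).1 hN0
  have hz := JacAlbLib.rigZero_of_trivial_at hf hN ((JacAlbLib.isTrivialCl_pullCl_iff _ N).1 hNP) η[J] h0
  obtain ⟨u, hu, -⟩ := hc.bij J _ hz
  have hu0 : η[J] ≫ u = η[J] := by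
    refine JacAlbLib.hom_ext hf hc ?_
    rw [← DescAppLib.XTmap_comp, ← CubeConsLib.pull_comp, hu, h0, MonObj.one_eq_one, JacAlbLib.pull_one hf hc]
  haveI := Groth.Agent.S11994.result k J J u hu0
  obtain ⟨n, hn, en⟩ := hj'.rel _ (𝟙 (Over.mk (C ↘ Spec (CommRingCat.of k))))
  rw [Category.id_comp] at en
  obtain ⟨b, -, hb⟩ := (PicCurveLib.invC_pc hf (JacAlbLib.base σ hσ (Over.mk (C ↘ Spec (CommRingCat.of k))))).exists_inv
  have hLP' : CubeConsLib.cl LP * PicCurveLib.pc (𝟙 (Over.mk (C ↘ Spec (CommRingCat.of k)))) =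
      PicCurveLib.pc (JacAlbLib.base σ hσ (Over.mk (C ↘ Spec (CommRingCat.of k)))) *
        CubeConsLib.pull (PicF.XTproj (C ↘ Spec (CommRingCat.of k)) (Over.mk (C ↘ Spec (CommRingCat.of k)))) (EllLawLib.idCls σ.ker) := by
    rw [← JacAlbLib.idCls_diagonal hf, ← JacAlbLib.pull_fst_idCls_section (σ := σ) (hσ := hσ) hf]
    refine ((CubeConsLib.cl_tensor _ _).symm.trans (CubeConsLib.cl_eq_iff.2 hLP)).trans ?_
    rw [CubeConsLib.cl_tensor]
    rfl
  have hju : j ≫ u = j := by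
    have e : CubeConsLib.pull (PicF.XTmap (C ↘ Spec (CommRingCat.of k)) (j ≫ u)) c = CubeConsLib.cl LP := by
      rw [← DescAppLib.XTmap_comp, ← CubeConsLib.pull_comp, hu, CubeConsLib.pull_cl]
      exact CubeConsLib.cl_eq_iff.2 hNj
    refine JacAlbLib.hom_ext hf hc (JacAlbLib.eq_of_rel hf
      (PicCurveLib.rigZero_pull hf σ hσ j hc.rigZero) (PicCurveLib.rigZero_pull hf σ hσ (j ≫ u) hc.rigZero)
      (U := PicCurveLib.pc (𝟙 (Over.mk (C ↘ Spec (CommRingCat.of k)))) * b) (n := n) (n' := EllLawLib.idCls σ.ker) hn ?_ ?_).symm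
    · rw [← _root_.mul_assoc, en, mul_right_comm, hb, _root_.one_mul]
    · rw [e, ← _root_.mul_assoc, hLP', mul_right_comm, hb, _root_.one_mul]
  have hu1 : u = 𝟙 J := JacAlbLib.hom_unique hf hc hj' J u (𝟙 J) (by rw [hju, Category.comp_id])
  rw [hu1, show PicF.XTmap (C ↘ Spec (CommRingCat.of k)) (𝟙 J) = 𝟙 _ by apply pullback.hom_ext <;> simp [PicF.XTmap],
    DescAppLib.pull_id, ← hPc] at hu
  exact CubeConsLib.cl_eq_iff.1 hu.symm

end Groth.Agent.S17818
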