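import Groth.Statements.S17820
import Groth.Agent.JacAlbLib.ThetaClass

set_option autoImplicit false
set_option backward.isDefEq.respectTransparency false
set_option backward.isDefEq.respectTransparency.types false
set_option maxRecDepth 8000
set_option maxHeartbeats 1000000
universe u
open CategoryTheory CategoryTheory.Limits AlgebraicGeometry MonoidalCategory CartesianMonoidalCategory MonObj
open JacVar

namespace Groth.Agent.S17820

/-- Let k be an algebraically closed field, C a smooth proper connected curve of genus g ≥ 1 over k with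
a k-point P, (J, ψ) its Jacobian (a commutative group scheme over k, coarse moduli scheme on all
k-schemes for degree-0 line bundles modulo twisting from the base, group law induced by tensor
product) and j : C ⟶ J the Abel map with base point P. Let Θ = W^{g−1} ⊂ J be the image of the (g −
1)-fold product C ×_k ⋯ ×_k C under (x_1, …, x_{g−1}) ↦ j(x_1) ⋯ j(x_{g−1}), Θ⁻ its image under
inversion, and for an effective divisor D = P_1 + ⋯ + P_g of degree g on C (k-points P_i) let a =
j(P_1) ⋯ j(P_g) be its image in J and Θ⁻_a the translate of Θ⁻ by a. If L(Θ⁻_a) is an invertible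
module on J inverse to the ideal of the reduced closed subscheme Θ⁻_a, then its pullback along j is
isomorphic to O_C(D), the invertible module with O_C(D) ⊗ I_{P_1} ⊗ ⋯ ⊗ I_{P_g} ≅ O_C. -/
theorem result (k : Type u) [Field k] [IsAlgClosed k]
    (C : Scheme.{u}) [C.Over (Spec (CommRingCat.of k))]
    [IsProper (C ↘ Spec (CommRingCat.of k))] [Smooth (C ↘ Spec (CommRingCat.of k))] [GeometricallyConnected (C ↘ Spec (CommRingCat.of k))]
    (hdim : topologicalKrullDim ↥C = 1)
    (g : ℕ) (hg : Curv2.genus k C = g) (hg1 : 1 ≤ g)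
    (σ : Spec (CommRingCat.of k) ⟶ C) (hσ : σ ≫ (C ↘ Spec (CommRingCat.of k)) = 𝟙 _)
    (J : Over (Spec (CommRingCat.of k))) [GrpObj J] [IsCommMonObj J]
    (ψ : (ModFun.PicDeg (C ↘ Spec (CommRingCat.of k)) 0).Hom ⊤ J) (hJ : Jac.IsJacobian (C ↘ Spec (CommRingCat.of k)) ⊤ J ψ)
    (j : Over.mk (C ↘ Spec (CommRingCat.of k)) ⟶ J) (hj : Jac.IsAbelJacobiAt (C ↘ Spec (CommRingCat.of k)) σ ψ j)
    (D : Fin g → (Spec (CommRingCat.of k) ⟶ C)) (hD : ∀ i, D i ≫ (C ↘ Spec (CommRingCat.of k)) = 𝟙 _)
    (MD : C.Modules) (hMD : PicF.IsInvertible MD)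
    (hMDD : Nonempty (CohB1.tensorMod MD (FGA.tensorList (List.ofFn fun i : Fin g => ClSub.idealMod (D i).ker)) ≅
      Coh.structureModule C))
    (La : J.left.Modules) (hLa : PicF.IsInvertible La)
    (hLaΘ : ClSub.IsInverseOf La (ClSub.idealMod (Scheme.IdealSheafData.vanishingIdeal
      ⟨closure ((Jac.transl J ((List.ofFn fun i : Fin g => (Over.homMk (D i) (hD i) : (𝟙_ (Over (Spec (CommRingCat.of k)))) ⟶ Over.mk (C ↘ Spec (CommRingCat.of k))) ≫ j).prod)).left.base '' (((𝟙 J)⁻¹).left.base '' Set.range ((List.ofFn fun i : Fin (g - 1) =>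
        (Over.homMk (WidePullback.π (fun (_ : Fin (g - 1)) => (C ↘ Spec (CommRingCat.of k))) i)
          (WidePullback.π_arrow (fun (_ : Fin (g - 1)) => (C ↘ Spec (CommRingCat.of k))) i) : Over.mk (WidePullback.base fun (_ : Fin (g - 1)) => (C ↘ Spec (CommRingCat.of k))) ⟶ Over.mk (C ↘ Spec (CommRingCat.of k))) ≫ j).prod).left.base)), isClosed_closure⟩))) :
    Nonempty ((Scheme.Modules.pullback j.left).obj La ≅ MD) := by
  obtain ⟨hf, c, hc, hψ, hp, hs, hi⟩ := JacAlbLib.exists_setup_field' (σ := σ) (hσ := hσ) hdim ψ hJ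
  haveI := hp; haveI := hs; haveI := hi
  have hA := JacAlbLib.isAbel_of_isAbelJacobiAt hf hc hψ hj
  obtain ⟨n, rfl⟩ : ∃ n, g = n + 1 := ⟨g - 1, by omega⟩
  have hmd : CubeConsLib.cl MD * ∏ i, EllLawLib.idCls (D i).ker = 1 := by
    rw [← JacAlbLib.cl_tensorList_ofFn (fun i => (D i).ker), ← CubeConsLib.cl_tensor]
    exact CubeConsLib.cl_eq_iff.2 hMDD
  refine CubeConsLib.cl_eq_iff.1 ?_
  rw [← CubeConsLib.pull_cl]
  refine (JacAlbLib.isUnit_pts hdim hf D hD).mul_right_cancel (Eq.trans ?_ hmd.symm)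
  refine JacAlbLib.pullback_thetaMinus_cls hdim hf hc hA hg.symm D hD _ ?_ hLa hLaΘ
  rw [← List.prod_ofFn]
  exact (JacAlbLib.isClosed_transl _ (JacAlbLib.isClosed_inv (JacAlbLib.isClosed_WSet j n))).closure_eq

end Groth.Agent.S17820
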