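import Groth.Statements.S17824
import Groth.Agent.JacAlbLib.PointClass

set_option autoImplicit false
universe u
open CategoryTheory CategoryTheory.Limits AlgebraicGeometry
open JacVar
open CubeConsLib (pull cl cl_eq_iff cl_tensor)
open EllLawLib (idCls)
open MonoidalCategory CartesianMonoidalCategory
open scoped MonObj

set_option maxHeartbeats 1000000

namespace Groth.Agent.S17824

/-- Parts (a) and (b) over an algebraically closed field. Let C be a smooth proper connected curve of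
genus g > 0 over an algebraically closed field k with a k-point P, and consider the 2g-fold fibre
power C ×_k ⋯ ×_k C, a k-rational point of which is a pair (D, D') of g-tuples of k-points (the
first g and the last g coordinates). (a) There is a nonempty open subset U of it such that for every
k-rational point (P_1, …, P_{2g}) of U and every invertible module M with M ⊗ I_{P_1} ⊗ ⋯ ⊗
I_{P_{2g}} ≅ I_P^{⊗g}, i.e. M ≅ O(D + D' − gP), one has h⁰(C, M) = 1. (b) There is a nonempty open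
subset V such that for every k-rational point of V and every invertible M with M ⊗ I_{P_{g+1}} ⊗ ⋯ ⊗
I_{P_{2g}} ⊗ I_P^{⊗g} ≅ I_{P_1} ⊗ ⋯ ⊗ I_{P_g}, i.e. M ≅ O(D' − D + gP), one has h⁰(C, M) = 1. (The
published lemma is phrased on C^(g) × C^(g), over the ground field, and for points with values in
every field containing it; this row takes k algebraically closed and k-points of the 2g-fold fibre
power.) -/
theorem result (k : Type u) [Field k] [IsAlgClosed k]
    (C : Scheme.{u}) [C.Over (Spec (CommRingCat.of k))]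
    [IsProper (C ↘ Spec (CommRingCat.of k))] [Smooth (C ↘ Spec (CommRingCat.of k))] [GeometricallyConnected (C ↘ Spec (CommRingCat.of k))]
    (hdim : topologicalKrullDim ↥C = 1)
    (g : ℕ) (hg : Curv2.genus k C = g) (hg1 : 1 ≤ g)
    (σ : Spec (CommRingCat.of k) ⟶ C) (hσ : σ ≫ (C ↘ Spec (CommRingCat.of k)) = 𝟙 _) :
    (∃ U : (SymProd.fibPow (C ↘ Spec (CommRingCat.of k)) (2 * g)).Opens, (U : Set ↥(SymProd.fibPow (C ↘ Spec (CommRingCat.of k)) (2 * g))).Nonempty ∧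
      ∀ (x : Spec (CommRingCat.of k) ⟶ SymProd.fibPow (C ↘ Spec (CommRingCat.of k)) (2 * g))
        (hx : x ≫ WidePullback.base (fun (_ : Fin (2 * g)) => (C ↘ Spec (CommRingCat.of k))) = 𝟙 _)
        (hxU : ∀ p, x.base p ∈ U) (M : C.Modules) (hM : PicF.IsInvertible M)
        (hMD : Nonempty (CohB1.tensorMod M (FGA.tensorList (List.ofFn fun i : Fin (2 * g) => ClSub.idealMod (x ≫ WidePullback.π (fun (_ : Fin (2 * g)) => (C ↘ Spec (CommRingCat.of k))) i).ker)) ≅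
          CohB1.tensorPow (ClSub.idealMod σ.ker) g)),
        Module.finrank k (Coh.HH C M 0) = 1) ∧
    (∃ V : (SymProd.fibPow (C ↘ Spec (CommRingCat.of k)) (2 * g)).Opens, (V : Set ↥(SymProd.fibPow (C ↘ Spec (CommRingCat.of k)) (2 * g))).Nonempty ∧
      ∀ (x : Spec (CommRingCat.of k) ⟶ SymProd.fibPow (C ↘ Spec (CommRingCat.of k)) (2 * g))
        (hx : x ≫ WidePullback.base (fun (_ : Fin (2 * g)) => (C ↘ Spec (CommRingCat.of k))) = 𝟙 _)
        (hxV : ∀ p, x.base p ∈ V) (M : C.Modules) (hM : PicF.IsInvertible M)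
        (hMD : Nonempty (CohB1.tensorMod M (CohB1.tensorMod
            (FGA.tensorList (List.ofFn fun i : Fin g => ClSub.idealMod (x ≫ WidePullback.π (fun (_ : Fin (2 * g)) => (C ↘ Spec (CommRingCat.of k))) (Fin.cast (two_mul g).symm (Fin.natAdd g i))).ker))
            (CohB1.tensorPow (ClSub.idealMod σ.ker) g)) ≅
          FGA.tensorList (List.ofFn fun i : Fin g => ClSub.idealMod (x ≫ WidePullback.π (fun (_ : Fin (2 * g)) => (C ↘ Spec (CommRingCat.of k))) (Fin.cast (two_mul g).symm (Fin.castAdd g i))).ker))),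
        Module.finrank k (Coh.HH C M 0) = 1) := by
  subst hg
  classical
  have hf : PicCurveLib.Fam (C ↘ Spec (CommRingCat.of k)) := ⟨inferInstance, inferInstance, inferInstance,
    fun s => (EllLawLib.dim_fiber_spec (C ↘ Spec (CommRingCat.of k)) s).trans hdim⟩
  obtain ⟨J, ξ, hp, hs, hcn, hξ, hu⟩ := PicCurveLib.exists_jacobian rfl hf σ hσ
  haveI := hp; haveI := hs; haveI := hcn
  haveI := FibVALib.geometricallyIntegral_of_geometricallyConnected J.hom
  obtain ⟨grp, c, hc⟩ := JacAlbLib.exists_grp_rigJac hf ξ hξ hu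
  letI := grp
  haveI : IsCommMonObj J := CubeConsLib.isCommMonObj_field
  obtain ⟨j, hj⟩ := JacAlbLib.exists_abel hf hc
  obtain ⟨W, hW, w, hw⟩ := JacAlbLib.exists_good_open hdim hf hc hj
  let p₀ : ↥(Spec (CommRingCat.of k)) := IsLocalRing.closedPoint k
  let g := Curv2.genus k C
  let P : Over (Spec (CommRingCat.of k)) := Over.mk (HilbPts.SC.fb (C ↘ Spec (CommRingCat.of k)) (2 * g))
  let lo : Fin g → Fin (2 * g) := fun i => Fin.cast (two_mul g).symm (Fin.castAdd g i)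
  let hi : Fin g → Fin (2 * g) := fun i => Fin.cast (two_mul g).symm (Fin.natAdd g i)
  let Sl : P ⟶ J := ∏ i, JacAlbLib.xi (lo i) ≫ j
  let Sh : P ⟶ J := ∏ i, JacAlbLib.xi (hi i) ≫ j
  have hsplit : ∀ {α : Type (u + 1)} [CommMonoid α] (F : Fin (2 * g) → α), ∏ i, F i = (∏ i, F (lo i)) * ∏ i, F (hi i) := by
    intro α _ F
    rw [← Fintype.prod_equiv (finCongr (two_mul g).symm) (fun i => F (Fin.cast (two_mul g).symm i)) F (fun i => rfl),
      Fin.prod_univ_add]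
  have hev : ∀ (x : Spec (CommRingCat.of k) ⟶ SymProd.fibPow (C ↘ Spec (CommRingCat.of k)) (2 * g))
      (hx : x ≫ HilbPts.SC.fb (C ↘ Spec (CommRingCat.of k)) (2 * g) = 𝟙 _) (q : Fin g → Fin (2 * g)),
      (Over.homMk x hx : 𝟙_ (Over (Spec (CommRingCat.of k))) ⟶ P) ≫ (∏ i, JacAlbLib.xi (q i) ≫ j) =
        ∏ i, JacAlbLib.pt (x ≫ HilbPts.SC.fp (C ↘ Spec (CommRingCat.of k)) (q i)) (JacAlbLib.fp_pt x hx (q i)) ≫ j := fun x hx q => by
    rw [JacAlbLib.comp_prod]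
    refine Finset.prod_congr rfl fun i _ => ?_
    rw [← Category.assoc, JacAlbLib.homMk_xi]
  have hcl : ∀ (x : Spec (CommRingCat.of k) ⟶ SymProd.fibPow (C ↘ Spec (CommRingCat.of k)) (2 * g))
      (hx : x ≫ HilbPts.SC.fb (C ↘ Spec (CommRingCat.of k)) (2 * g) = 𝟙 _) (q : Fin g → Fin (2 * g)),
      pull JacAlbLib.toXT₀ (pull (PicF.XTmap _ ((Over.homMk x hx : 𝟙_ (Over (Spec (CommRingCat.of k))) ⟶ P) ≫ (∏ i, JacAlbLib.xi (q i) ≫ j))) c) *
        ∏ i, idCls (x ≫ HilbPts.SC.fp (C ↘ Spec (CommRingCat.of k)) (q i)).ker = idCls σ.ker ^ g := fun x hx q => by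
    rw [hev]
    exact JacAlbLib.class_prod hdim hf hc hj _
  have hbase : ∀ u : Fin g → (𝟙_ (Over (Spec (CommRingCat.of k))) ⟶ Over.mk (C ↘ Spec (CommRingCat.of k))), (∀ i, u i = JacAlbLib.base σ hσ _) → ∏ i, u i ≫ j = 1 :=
    fun u hu => Finset.prod_eq_one fun i _ => by rw [hu, JacAlbLib.base_comp hf hc hj]
  have hpt : ∀ a b : Fin g → (𝟙_ (Over (Spec (CommRingCat.of k))) ⟶ Over.mk (C ↘ Spec (CommRingCat.of k))),
      ∃ (x : Spec (CommRingCat.of k) ⟶ SymProd.fibPow (C ↘ Spec (CommRingCat.of k)) (2 * g)) (hx : x ≫ HilbPts.SC.fb (C ↘ Spec (CommRingCat.of k)) (2 * g) = 𝟙 _),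
        (Over.homMk x hx : 𝟙_ (Over (Spec (CommRingCat.of k))) ⟶ P) ≫ Sl = ∏ i, a i ≫ j ∧ (Over.homMk x hx : 𝟙_ (Over (Spec (CommRingCat.of k))) ⟶ P) ≫ Sh = ∏ i, b i ≫ j := by
    intro a b
    let f' : Fin (2 * g) → (𝟙_ (Over (Spec (CommRingCat.of k))) ⟶ Over.mk (C ↘ Spec (CommRingCat.of k))) := fun i => Fin.append a b (Fin.cast (two_mul g) i)
    let x : Spec (CommRingCat.of k) ⟶ SymProd.fibPow (C ↘ Spec (CommRingCat.of k)) (2 * g) :=
      WidePullback.lift (𝟙 _) (fun i => (f' i).left) fun i => Over.w (f' i)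
    have hx : x ≫ HilbPts.SC.fb (C ↘ Spec (CommRingCat.of k)) (2 * g) = 𝟙 _ := WidePullback.lift_base _ _ _ _
    have hxi : ∀ i, JacAlbLib.pt (x ≫ HilbPts.SC.fp (C ↘ Spec (CommRingCat.of k)) i) (JacAlbLib.fp_pt x hx i) = f' i := fun i =>
      Over.OverMorphism.ext (WidePullback.lift_π _ _ _ _ i)
    refine ⟨x, hx, ?_, ?_⟩ <;> rw [hev] <;> refine Finset.prod_congr rfl fun i _ => ?_ <;> rw [hxi]
    · show Fin.append a b (Fin.castAdd g i) ≫ j = _
      rw [Fin.append_left]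
    · show Fin.append a b (Fin.natAdd g i) ≫ j = _
      rw [Fin.append_right]
  refine ⟨⟨(Sl * Sh).left ⁻¹ᵁ W, ?_, fun x hx hxU M hM hMD => ?_⟩, ⟨(Sh * Sl⁻¹).left ⁻¹ᵁ W, ?_, fun x hx hxV M hM hMD => ?_⟩⟩
  · obtain ⟨x, hx, e₁, e₂⟩ := hpt w fun _ => JacAlbLib.base σ hσ _
    refine ⟨x p₀, ?_⟩
    show ((Over.homMk x hx : 𝟙_ (Over (Spec (CommRingCat.of k))) ⟶ P) ≫ (Sl * Sh)).left p₀ ∈ W
    rw [MonObj.comp_mul, e₁, e₂, hbase _ fun _ => rfl, _root_.mul_one]
    exact hw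
  · refine hW ((Over.homMk x hx : 𝟙_ (Over (Spec (CommRingCat.of k))) ⟶ P) ≫ (Sl * Sh)) (hxU p₀) M hM ?_
    have hu := (JacAlbLib.isUnit_pts hdim hf _ fun i => JacAlbLib.fp_pt x hx i)
    refine hu.mul_right_cancel ?_
    have hD : cl M * ∏ i : Fin (2 * g), idCls (x ≫ HilbPts.SC.fp (C ↘ Spec (CommRingCat.of k)) i).ker = idCls σ.ker ^ g := by
      rw [← JacAlbLib.cl_tensorList_ofFn, ← cl_tensor]
      exact (cl_eq_iff.2 hMD).trans (JacAlbLib.cl_tensorPow' _ g)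
    rw [MonObj.comp_mul, hc.mul, map_mul, mul_right_comm, hD, hsplit fun i => idCls (x ≫ HilbPts.SC.fp (C ↘ Spec (CommRingCat.of k)) i).ker,
      mul_mul_mul_comm, hcl x hx lo, hcl x hx hi]
  · obtain ⟨x, hx, e₁, e₂⟩ := hpt (fun _ => JacAlbLib.base σ hσ _) w
    refine ⟨x p₀, ?_⟩
    show ((Over.homMk x hx : 𝟙_ (Over (Spec (CommRingCat.of k))) ⟶ P) ≫ (Sh * Sl⁻¹)).left p₀ ∈ W
    rw [MonObj.comp_mul, GrpObj.comp_inv, e₁, e₂, hbase _ fun _ => rfl, inv_one, _root_.mul_one]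
    exact hw
  · let y : 𝟙_ (Over (Spec (CommRingCat.of k))) ⟶ P := Over.homMk x hx
    refine hW (y ≫ (Sh * Sl⁻¹)) (hxV p₀) M hM ?_
    have hsum : (y ≫ (Sh * Sl⁻¹)) * (y ≫ Sl) = y ≫ Sh := by rw [MonObj.comp_mul, GrpObj.comp_inv, inv_mul_cancel_right]
    have hcx := congrArg (fun z => pull JacAlbLib.toXT₀ (pull (PicF.XTmap _ z) c)) hsum
    simp only [hc.mul, map_mul] at hcx
    have hu := (JacAlbLib.isUnit_pts hdim hf _ fun i => JacAlbLib.fp_pt x hx (lo i))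
    have hu' := (JacAlbLib.isUnit_pts hdim hf _ fun i => JacAlbLib.fp_pt x hx (hi i))
    have hD : cl M * ((∏ i, idCls (x ≫ HilbPts.SC.fp (C ↘ Spec (CommRingCat.of k)) (hi i)).ker) * idCls σ.ker ^ g) =
        ∏ i, idCls (x ≫ HilbPts.SC.fp (C ↘ Spec (CommRingCat.of k)) (lo i)).ker := by
      rw [← JacAlbLib.cl_tensorList_ofFn, ← JacAlbLib.cl_tensorList_ofFn,
        show idCls σ.ker ^ g = cl (CohB1.tensorPow (ClSub.idealMod σ.ker) g) from
          (JacAlbLib.cl_tensorPow' _ g).symm, ← cl_tensor, ← cl_tensor]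
      exact cl_eq_iff.2 hMD
    refine (hu.mul hu').mul_right_cancel ?_
    set A := ∏ i, idCls (x ≫ HilbPts.SC.fp (C ↘ Spec (CommRingCat.of k)) (lo i)).ker with hA
    set B := ∏ i, idCls (x ≫ HilbPts.SC.fp (C ↘ Spec (CommRingCat.of k)) (hi i)).ker with hB
    set Cx := pull JacAlbLib.toXT₀ (pull (PicF.XTmap _ (y ≫ (Sh * Sl⁻¹))) c)
    set Cl' := pull JacAlbLib.toXT₀ (pull (PicF.XTmap _ (y ≫ Sl)) c)
    set Ch := pull JacAlbLib.toXT₀ (pull (PicF.XTmap _ (y ≫ Sh)) c)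
    have h1 : Cl' * A = idCls σ.ker ^ g := hcl x hx lo
    have h2 : Ch * B = idCls σ.ker ^ g := hcl x hx hi
    have hI : IsUnit (idCls σ.ker ^ g) :=
      ((PicCurveLib.invC_idCls (AlgEquivCurveLib.isEffCartier_pt hdim σ hσ)).isUnit).pow g
    refine hI.mul_right_cancel ?_
    calc cl M * idCls σ.ker ^ g * (A * B) * idCls σ.ker ^ g = cl M * (B * idCls σ.ker ^ g) * A * idCls σ.ker ^ g := by ac_rfl
      _ = A * A * idCls σ.ker ^ g := by rw [hD]
      _ = A * A * (Ch * B) := by rw [h2]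
      _ = A * A * (Cx * Cl' * B) := by rw [hcx]
      _ = Cx * (A * B) * (Cl' * A) := by ac_rfl
      _ = _ := by rw [h1]

end Groth.Agent.S17824
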