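import Groth.Statements.S17825
import Mathlib
-- helpers

set_option autoImplicit false
universe u
open CategoryTheory CategoryTheory.Limits AlgebraicGeometry
open JacVar

namespace Groth.Agent.S17825

/-- Let S be a scheme, Y an S-scheme separated over S, F a presheaf of sets on the category of
S-schemes, f : h_Y ⟶ F a morphism from the functor of points of Y, and s : F ⟶ h_Y a section of f (s
followed by f is the identity). Then F is represented by a closed subscheme of Y: there are an
S-scheme Z, a morphism i : Z ⟶ Y over S which is a closed immersion, and an isomorphism F ≅ h_Z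
whose composite with h_i : h_Z ⟶ h_Y is s. (The published lemma treats the case where Y is the r-th
symmetric power of a curve, F the functor of degree-r invertible families modulo twisting and f the
divisor-class map.) -/
theorem result {S : Scheme.{u}} (Y : Over S) [IsSeparated Y.hom]
    (F : (Over S)ᵒᵖ ⥤ Type u) (f : yoneda.obj Y ⟶ F) (s : F ⟶ yoneda.obj Y) (hsf : s ≫ f = 𝟙 F) :
    ∃ (Z : Over S) (i : Z ⟶ Y), IsClosedImmersion i.left ∧
      ∃ e : F ≅ yoneda.obj Z, e.hom ≫ yoneda.map i = s := by
  have ha0 : (s.app (Opposite.op Y)) ((f.app (Opposite.op Y)) (𝟙 Y)) = yonedaEquiv (f ≫ s) := rfl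
  let a : Y ⟶ Y := yonedaEquiv (f ≫ s)
  have hf : f ≫ s = yoneda.map a := yonedaEquiv.injective (yonedaEquiv_yoneda_map a).symm
  have haa : a ≫ a = a := by
    apply yoneda.map_injective
    rw [Functor.map_comp, ← hf]
    simp only [Category.assoc]
    rw [reassoc_of% hsf]
  haveI : IsSeparated Y.hom := ‹_›
  let i := equalizer.ι (𝟙 Y) a
  have hi : i ≫ a = i := by
    have := equalizer.condition (𝟙 Y) a
    rwa [Category.comp_id, eq_comm] at this
  let r : Y ⟶ equalizer (𝟙 Y) a := equalizer.lift a (by rw [Category.comp_id, haa])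
  refine ⟨equalizer (𝟙 Y) a, i, inferInstance, ⟨s ≫ yoneda.map r, yoneda.map i ≫ f, ?_, ?_⟩, ?_⟩
  · rw [Category.assoc, ← Functor.map_comp_assoc, equalizer.lift_ι, ← hf]
    simp only [Category.assoc]
    rw [hsf, Category.comp_id, hsf]
  · rw [Category.assoc, reassoc_of% hf, ← Functor.map_comp, ← Functor.map_comp]
    refine Eq.trans ?_ (yoneda.map_id _)
    congr 1
    apply equalizer.hom_ext
    simp [i, r, haa]
    exact hi
  · show (s ≫ yoneda.map r) ≫ yoneda.map i = s
    rw [Category.assoc, ← Functor.map_comp, equalizer.lift_ι, ← hf, reassoc_of% hsf]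

end Groth.Agent.S17825
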