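import Groth.Statements.S17826
import Groth.Agent.JacAlbLib.ThetaDual
import Groth.Agent.AVIndexLib.SwapFam

set_option autoImplicit false
set_option backward.isDefEq.respectTransparency false
set_option backward.isDefEq.respectTransparency.types false
set_option maxRecDepth 8000
set_option maxHeartbeats 1000000
universe u
open CategoryTheory CategoryTheory.Limits AlgebraicGeometry MonoidalCategory CartesianMonoidalCategory MonObj
open JacVar

namespace Groth.Agent.S17826

/-- Let C be a smooth proper geometrically connected curve of genus g > 0 over a field k with a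
k-rational point P, (J, ψ) its Jacobian (a commutative group scheme over k, coarse moduli scheme on
all k-schemes for degree-0 line bundles modulo twisting from the base, group law induced by tensor
product) with universal family M on C × J normalised along P × J and classified by the identity of
J, and j : C ⟶ J the Abel map with base point P. Let N be an invertible module of degree g − 1 on C
and Θ_J the theta line bundle on J (an invertible module inverse to the ideal of the closure of the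
locus of classes ξ with a nonzero section of ξ ⊗ N — a translate of W^{g−1}, which has the same
associated homomorphism). Let (Jt, φ) be an fppf dual of J with normalised Poincaré module 𝒫 on J ×
Jt, lam : J ⟶ Jt the homomorphism attached to Θ_J through φ, and fd : Jt ⟶ J a homomorphism such
that (1 × fd)^* M and (j × 1)^* 𝒫 have the same class on C × Jt. Then lam followed by fd is the
inversion of J and fd followed by lam is the inversion of Jt: −fd is inverse to lam, so lam is an
isomorphism. -/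
theorem result (k : Type u) [Field k]
    (C : Scheme.{u}) [C.Over (Spec (CommRingCat.of k))]
    [IsProper (C ↘ Spec (CommRingCat.of k))] [Smooth (C ↘ Spec (CommRingCat.of k))] [GeometricallyConnected (C ↘ Spec (CommRingCat.of k))]
    (hdim : topologicalKrullDim ↥C = 1)
    (g : ℕ) (hg : Curv2.genus k C = g) (hg1 : 1 ≤ g)
    (σ : Spec (CommRingCat.of k) ⟶ C) (hσ : σ ≫ (C ↘ Spec (CommRingCat.of k)) = 𝟙 _)
    (J : Over (Spec (CommRingCat.of k))) [GrpObj J] [IsCommMonObj J]
    (ψ : (ModFun.PicDeg (C ↘ Spec (CommRingCat.of k)) 0).Hom ⊤ J) (hJ : Jac.IsJacobian (C ↘ Spec (CommRingCat.of k)) ⊤ J ψ)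
    (Pu : (PicF.XT (C ↘ Spec (CommRingCat.of k)) J).Modules) (hPu : ModFun.IsUnivFamily ⊤ (ModFun.PicDeg (C ↘ Spec (CommRingCat.of k)) 0) J Pu)
    (hPn : Jac.IsNormAlong (C ↘ Spec (CommRingCat.of k)) σ hσ J Pu)
    (hT : (⊤ : ObjectProperty (Over (Spec (CommRingCat.of k)))) J) (hPuψ : ψ.app J Pu hT hPu.1 = 𝟙 J)
    (j : Over.mk (C ↘ Spec (CommRingCat.of k)) ⟶ J) (hj : Jac.IsAbelJacobiAt (C ↘ Spec (CommRingCat.of k)) σ ψ j)
    (N : C.Modules) (hN : PicF.IsInvertible N) (hNdeg : Curv2.deg k C N 1 = (g : ℤ) - 1)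
    (ΘJ : J.left.Modules) (hΘJ : Jac.IsThetaLB (C ↘ Spec (CommRingCat.of k)) 0 ψ N ΘJ)
    (Jt : Over (Spec (CommRingCat.of k))) [GrpObj Jt] [IsCommMonObj Jt]
    (φ : AgPol.DualMap J Jt) (hJt : AbDual.IsDualAV Scheme.fppfPrecoverage J Jt φ)
    (P : (PicF.XT J.hom Jt).Modules) (hP : PicF.IsInvertible P) (hPP : AbDual.IsPoincareCl J Jt φ (PicF.cl P))
    (lam : J ⟶ Jt) (hlam : AgPol.IsLambda J Jt φ ΘJ lam)
    (fd : Jt ⟶ J) [IsMonHom fd]
    (hfd : PicF.cl ((Scheme.Modules.pullback (PicF.XTmap (C ↘ Spec (CommRingCat.of k)) fd)).obj Pu) =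
      PicF.cl ((Scheme.Modules.pullback (AbDual.bcMap j Jt)).obj P)) :
    lam ≫ fd = (𝟙 J)⁻¹ ∧ fd ≫ lam = (𝟙 Jt)⁻¹ := by
  subst hg
  obtain ⟨hf, c, hc, hψ, hp, hs, hi⟩ := JacAlbLib.exists_setup_field' (σ := σ) (hσ := hσ) hdim ψ hJ
  haveI := hp; haveI := hs; haveI := hi
  have hA := JacAlbLib.isAbel_of_isAbelJacobiAt hf hc hψ hj
  obtain ⟨n, hn⟩ : ∃ n, n + 1 = Curv2.genus k C := ⟨Curv2.genus k C - 1, by omega⟩
  obtain ⟨a, ha⟩ := JacAlbLib.exists_thetaLocus_eq hdim hf hc hA hψ hn hN (by rw [hNdeg]; omega)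
  have hL := hΘJ.1
  have hinv := hΘJ.2
  obtain ⟨Λ, hΛ, hΛL, hΛlam⟩ := id hlam
  obtain ⟨Λ', hΛ', cΛ', hΛlam'⟩ := AVIndexLib.exists_of_isLambda hL hlam
  haveI : IsIso lam.left :=
    JacAlbLib.isIso_lambda_transl hdim hf hc hA hn a ⟨_, isClosed_closure⟩ ha hL hinv hJt hlam
  haveI : IsProper Jt.hom := by
    rw [show Jt.hom = inv lam.left ≫ J.hom by rw [IsIso.eq_inv_comp]; exact Over.w _]
    infer_instance
  haveI : GeometricallyIntegral Jt.hom := by
    have H : IsPullback (inv lam.left) Jt.hom J.hom (𝟙 _) := IsPullback.of_horiz_isIso ⟨by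
      rw [Category.comp_id, IsIso.inv_comp_eq]; exact (Over.w _).symm⟩
    exact MorphismProperty.of_isPullback H hi
  haveI : IsMonHom lam := hΛlam' ▸ AVIndexLib.isMonHom_phiL hJt hL hΛ' cΛ'
  have hN0 : AbDual.IsPicZeroCl J.hom J (PicF.cl Λ') := AVIndexLib.isPicZeroCl_mumford hL cΛ'
  haveI : AlgebraicGeometry.IsReduced J.left := AlgSpLib.isReduced_of_smooth J.hom
  have e := AVIndexLib.clA_eq_pullA_poincare_add hJt hP hPP hΛ' hN0
  rw [hΛlam'] at e
  have e' : CubeConsLib.cl Λ' = CubeConsLib.pull (PicF.XTmap J.hom lam) (CubeConsLib.cl P) *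
      CubeConsLib.pull (PicF.XTproj J.hom J)
        (CubeConsLib.pull (PicF.secT J.hom η[J].left (Over.w η[J]) J) (CubeConsLib.cl Λ')) :=
    congrArg (fun x : CubeConsLib.PicA (PicF.XT J.hom J) =>
      ((Additive.toMul x : (CubeConsLib.IsoCls (PicF.XT J.hom J))ˣ) : CubeConsLib.IsoCls (PicF.XT J.hom J))) e
  have eu : CubeConsLib.cl Pu = c := JacAlbLib.cl_univ_eq hf hc hψ hPu.1 hPn hPuψ
  have efd : CubeConsLib.pull (PicF.XTmap (C ↘ Spec (CommRingCat.of k)) fd) c =
      CubeConsLib.pull (AbDual.bcMap j Jt) (CubeConsLib.cl P) := by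
    rw [← eu, CubeConsLib.pull_cl, CubeConsLib.pull_cl]
    exact congrArg CubeConsLib.toI hfd
  have h1 : lam ≫ fd = (𝟙 J)⁻¹ := by
    refine JacAlbLib.eq_inv_of_pull_lambda hdim hf hc hA hn a ⟨_, isClosed_closure⟩ ha hL hinv
      (AVIndexLib.isLambdaSheaf_of_clA hL hΛ' cΛ') (lam ≫ fd)
      (m := CubeConsLib.pull (PicF.secT J.hom η[J].left (Over.w η[J]) J) (CubeConsLib.cl Λ')) ?_
    rw [← DescAppLib.XTmap_comp, ← CubeConsLib.pull_comp, efd, CubeConsLib.pull_comp]
    have w1 : PicF.XTmap (C ↘ Spec (CommRingCat.of k)) lam ≫ AbDual.bcMap j Jt =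
        AbDual.bcMap j J ≫ PicF.XTmap J.hom lam := by
      apply pullback.hom_ext <;> simp [PicF.XTmap, AbDual.bcMap]
    have w2 : AbDual.bcMap j J ≫ PicF.XTproj J.hom J = PicF.XTproj (C ↘ Spec (CommRingCat.of k)) J := by
      refine (pullback.lift_snd _ _ _).trans ?_
      exact Category.comp_id _
    conv_lhs => rw [e']
    rw [map_mul, CubeConsLib.pull_comp, CubeConsLib.pull_comp, w2]
    rw [← w1, CubeConsLib.pull_comp]
    exact congrArg (· * _) (CubeConsLib.pull_comp _ _ _).symm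
  refine ⟨h1, ?_⟩
  haveI : IsIso lam := by
    haveI : IsIso ((Over.forget _).map lam) := ‹IsIso lam.left›
    exact isIso_of_reflects_iso lam (Over.forget _)
  rw [← cancel_epi lam, ← Category.assoc, h1, GrpObj.inv_comp, Category.id_comp, GrpObj.comp_inv, Category.comp_id]

end Groth.Agent.S17826
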