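import Groth.Statements.S17828
import Groth.Agent.JacAlbLib.TorelliBC

set_option autoImplicit false
set_option backward.isDefEq.respectTransparency false
set_option backward.isDefEq.respectTransparency.types false
set_option maxRecDepth 8000
set_option maxHeartbeats 1000000
universe u
open CategoryTheory CategoryTheory.Limits AlgebraicGeometry MonoidalCategory CartesianMonoidalCategory MonObj
open JacVar

namespace Groth.Agent.S17828

/-- The case of curves with rational points. Let k be a perfect field, C and C' smooth proper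
geometrically connected curves of the same genus g ≥ 2 over k with k-rational points P and P', (J,
ψ) and (J', ψ') their Jacobians (commutative group schemes over k, coarse moduli schemes on all
k-schemes for degree-0 line bundles modulo twisting from the base, group law induced by tensor
product), N and N' invertible modules of degree g − 1 on C and C', and Θ ⊂ J, Θ' ⊂ J' the theta loci
of N and N' (closures of the loci of classes ξ with a nonzero global section of ξ ⊗ N, resp. ξ ⊗
N'). If β : J ≅ J' is an isomorphism of group schemes over k mapping Θ onto the translate of Θ' by a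
k-rational point of J' — for curves with rational points this is an isomorphism of the canonically
polarized Jacobians over k — then C and C' are isomorphic over k. (The published corollary does not
assume rational points on C and C'; it is stated here for curves having them, through which the
theta divisors are defined over k.) -/
theorem result (k : Type u) [Field k] [PerfectField k]
    (C : Scheme.{u}) [C.Over (Spec (CommRingCat.of k))]
    [IsProper (C ↘ Spec (CommRingCat.of k))] [Smooth (C ↘ Spec (CommRingCat.of k))] [GeometricallyConnected (C ↘ Spec (CommRingCat.of k))]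
    (hdim : topologicalKrullDim ↥C = 1)
    (C' : Scheme.{u}) [C'.Over (Spec (CommRingCat.of k))]
    [IsProper (C' ↘ Spec (CommRingCat.of k))] [Smooth (C' ↘ Spec (CommRingCat.of k))] [GeometricallyConnected (C' ↘ Spec (CommRingCat.of k))]
    (hdim' : topologicalKrullDim ↥C' = 1)
    (g : ℕ) (hg : Curv2.genus k C = g) (hg' : Curv2.genus k C' = g) (hg2 : 2 ≤ g)
    (σ : Spec (CommRingCat.of k) ⟶ C) (hσ : σ ≫ (C ↘ Spec (CommRingCat.of k)) = 𝟙 _) (σ' : Spec (CommRingCat.of k) ⟶ C') (hσ' : σ' ≫ (C' ↘ Spec (CommRingCat.of k)) = 𝟙 _)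
    (J : Over (Spec (CommRingCat.of k))) [GrpObj J] [IsCommMonObj J]
    (ψ : (ModFun.PicDeg (C ↘ Spec (CommRingCat.of k)) 0).Hom ⊤ J) (hJ : Jac.IsJacobian (C ↘ Spec (CommRingCat.of k)) ⊤ J ψ)
    (J' : Over (Spec (CommRingCat.of k))) [GrpObj J'] [IsCommMonObj J']
    (ψ' : (ModFun.PicDeg (C' ↘ Spec (CommRingCat.of k)) 0).Hom ⊤ J') (hJ' : Jac.IsJacobian (C' ↘ Spec (CommRingCat.of k)) ⊤ J' ψ')
    (N : C.Modules) (hN : PicF.IsInvertible N) (hNdeg : Curv2.deg k C N 1 = (g : ℤ) - 1)
    (N' : C'.Modules) (hN' : PicF.IsInvertible N') (hNdeg' : Curv2.deg k C' N' 1 = (g : ℤ) - 1)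
    (β : J ≅ J') [IsMonHom β.hom] (c₀ : 𝟙_ (Over (Spec (CommRingCat.of k))) ⟶ J')
    (hβ : β.hom.left.base '' Jac.thetaLocus (C ↘ Spec (CommRingCat.of k)) 0 ψ N =
      (Jac.transl J' c₀).left.base ⁻¹' Jac.thetaLocus (C' ↘ Spec (CommRingCat.of k)) 0 ψ' N') :
    ∃ α : C ≅ C', α.hom ≫ (C' ↘ Spec (CommRingCat.of k)) = (C ↘ Spec (CommRingCat.of k)) := by
  obtain ⟨hf, cu, hc, hψ, hp, hs, hi⟩ := JacAlbLib.exists_setup_field' (σ := σ) (hσ := hσ) hdim ψ hJ
  obtain ⟨hf', cu', hc', hψ', hp', hs', hi'⟩ := JacAlbLib.exists_setup_field' (σ := σ') (hσ := hσ') hdim' ψ' hJ'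
  haveI := hp; haveI := hs; haveI := hi; haveI := hp'; haveI := hs'; haveI := hi'
  obtain ⟨j, hA⟩ := JacAlbLib.exists_abel hf hc
  obtain ⟨j', hA'⟩ := JacAlbLib.exists_abel hf' hc'
  obtain ⟨l, rfl⟩ : ∃ l, g = l + 2 := ⟨g - 2, by omega⟩
  obtain ⟨a, ha⟩ := JacAlbLib.exists_thetaLocus_eq hdim hf hc hA hψ (n := l + 1) (by omega) hN
    (by rw [hNdeg]; push_cast; ring)
  obtain ⟨a', ha'⟩ := JacAlbLib.exists_thetaLocus_eq hdim' hf' hc' hA' hψ' (n := l + 1) (by omega) hN'
    (by rw [hNdeg']; push_cast; ring)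
  rw [ha, ha'] at hβ
  haveI : IsMonHom β.symm.hom := inferInstanceAs (IsMonHom β.inv)
  have hc₁ := JacAlbLib.isRigJac_of_iso hf β.symm hc
  have hj₁ : JacAlbLib.IsAbel σ hσ (CubeConsLib.pull (PicF.XTmap (C ↘ Spec (CommRingCat.of k)) β.symm.hom) cu)
      (j ≫ β.hom) := JacAlbLib.isAbel_of_iso β.symm hA
  exact JacAlbLib.exists_iso_of_theta_perfect hdim hdim' hf hf' hc₁ hc' hj₁ hA' hg.symm hg'.symm
    ((a ≫ β.hom) * c₀ * a'⁻¹)⁻¹ (fun {K} _ _ s z => by
      rw [JacAlbLib.WSet_comp, JacAlbLib.gpt_image_of_theta s β.hom c₀ a a' hβ z, GrpObj.comp_inv, inv_inv])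

end Groth.Agent.S17828
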