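import Groth.Statements.S17833
import Groth.Agent.AntiAffLib.Supplement
import Groth.Agent.AlgSpLib.ReducedSmooth

set_option autoImplicit false
universe u
open CategoryTheory MonoidalCategory CartesianMonoidalCategory MonObj GrpObj AlgebraicGeometry
open AlgGrp

namespace Groth.Agent.S17833

/-- Over an algebraically closed field k, let G be a connected smooth k-group scheme of finite type (in
the terminology of the notes, a smooth connected algebraic group), and H an affine normal subgroup
scheme of G such that the quotient G/H is an abelian variety: here j : H → G is the kernel of a flat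
surjective homomorphism q : G → Q of k-group schemes with Q proper over k, and H is affine. Then an
automorphism u of the algebraic group G which fixes H pointwise (j ∘ u = j) and induces the identity
of Q (q ∘ u = q) is the identity. Equivalently, the map from the group of automorphisms of G fixing
H pointwise to the automorphism group of G/H is injective. -/
theorem result (k : Type u) [Field k] [IsAlgClosed k]
    (G H Q : Over (Spec (CommRingCat.of k))) [GrpObj G] [GrpObj H] [GrpObj Q]
    [Smooth G.hom] [QuasiCompact G.hom] [ConnectedSpace ↥G.left]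
    [IsAffine H.left] [IsProper Q.hom]
    (j : H ⟶ G) [IsMonHom j] (q : G ⟶ Q) [IsMonHom q] [Flat q.left] [Surjective q.left]
    (hker : AlgGrp.IsKernel j q)
    (u : G ≅ G) [IsMonHom u.hom] (hH : j ≫ u.hom = j) (hQ : u.hom ≫ q = q) :
    u.hom = 𝟙 G := by
  haveI : LocallyOfFiniteType Q.hom := inferInstance
  haveI : IsReduced G.left := AlgSpLib.isReduced_of_smooth G.hom
  haveI : IsReduced Q.left := AlgSpLib.isReduced_of_flat_surjective q.left
  haveI : ConnectedSpace Q.left := q.left.surjective.connectedSpace q.left.continuous
  haveI := AntiAffLib.antiAff_of_universallyClosed Q η[Q]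
  haveI := AntiAffLib.lfp_of_lft q
  haveI : Mono j := ⟨fun p p' h => hker.hom_ext h (toUnit_unique _ _)⟩
  have hu : ∀ {T : Over (Spec (CommRingCat.of k))} (c d : T ⟶ G), (c * d) ≫ u.hom = (c ≫ u.hom) * (d ≫ u.hom) :=
    fun c d => MonObj.mul_comp c d u.hom
  let x : G ⟶ G := u.hom * (𝟙 G)⁻¹
  obtain ⟨ψ, hψ⟩ := AntiAffLib.exists_lift_kernel hker x (by
    simp only [x, MonObj.mul_comp, GrpObj.inv_comp, hQ, Category.id_comp, mul_inv_cancel])
  obtain ⟨y, hy⟩ := Groth.Agent.MonoQuot.exists_desc_over q ψ (fun T c d e => by
    obtain ⟨h, hh⟩ := AntiAffLib.exists_lift_kernel hker (d⁻¹ * c) (by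
      rw [MonObj.mul_comp, GrpObj.inv_comp, e, inv_mul_cancel])
    have hc : c = d * (h ≫ j) := by rw [hh, mul_inv_cancel_left]
    rw [← cancel_mono j, Category.assoc, Category.assoc, hψ, MonObj.comp_mul, MonObj.comp_mul, GrpObj.comp_inv,
      GrpObj.comp_inv, Category.comp_id, Category.comp_id, hc, hu, Category.assoc, hH, _root_.mul_inv_rev, ← _root_.mul_assoc,
      mul_inv_cancel_right])
  have hx : x = 1 := by
    rw [← hψ, ← hy, AntiAffLib.eq_const y η[Q], ← IsMonHom.one_hom q]
    simp only [Category.assoc]
    rw [reassoc_of% hy, hψ, ← Category.assoc q]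
    simp only [x, MonObj.comp_mul, GrpObj.comp_inv, IsMonHom.one_hom, Category.comp_id, mul_inv_cancel, MonObj.comp_one]
  exact (mul_inv_eq_one.1 hx)

end Groth.Agent.S17833
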