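import Groth.Statements.S17840
import Mathlib
import Groth.Agent.CycLimLib.Dim
import Groth.Agent.EquidimLib.OpenComponent
import Groth.Agent.EquidimLib.DimIrreducible
import Groth.Agent.FibDimLib.Comps
-- import your own Groth.Agent.* helpers here

set_option autoImplicit false
universe u
open CategoryTheory AlgebraicGeometry
open Cyc

namespace Groth.Agent.S17840

/-- Let (Y, δY) be a locally Noetherian scheme with universally catenary local rings and a dimension
function, f : X ⟶ Y a flat morphism locally of finite type between irreducible schemes with generic
points ξ and η, and δX the induced function on X, δX(x) = δY(f x) + trdeg_{κ(f x)} κ(x). Put d =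
δX(ξ) − δY(η). Then d ≥ 0, every irreducible component of every fibre of f has dimension d, and for
every point x of X the fibre of f over f(x) has dimension d. (The published statement is for schemes
separated of finite type over a Noetherian excellent regular separated base S with δ the S-dimension
— transcendence degree of the residue field minus the dimension of the local ring of S at the image
point — and for the fibre over every point of Y; the fibre over a point outside f(X) is empty, so
the dimension statement is made here at points of the image; this row allows any dimension function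
δY on a locally Noetherian Y with universally catenary local rings, with δX induced from it.) -/
theorem result {X Y : Scheme.{u}} (f : X ⟶ Y) [Flat f] [LocallyOfFiniteType f]
    [IrreducibleSpace X] [IrreducibleSpace Y] (δX : X → ℤ) (δY : Y → ℤ) (hY : Cyc.IsSetup Y δY)
    (hδ : Cyc.DeltaCompat f δX δY) :
    0 ≤ δX (genericPoint X) - δY (genericPoint Y) ∧
      Cyc.HasRelDim f (δX (genericPoint X) - δY (genericPoint Y)).toNat ∧
      ∀ x : X, topologicalKrullDim ↥(f.fiber (f x)) =
        ((δX (genericPoint X) - δY (genericPoint Y)).toNat : WithBot ℕ∞) := by
  haveI := hY.1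
  haveI := LocallyOfFiniteType.isLocallyNoetherian f
  have hη : f (genericPoint X) = genericPoint Y := by
    obtain ⟨z, hz, hfz⟩ := (Flat.generalizingMap f) (genericPoint_specializes (f (genericPoint X)))
    rw [(hz.antisymm (genericPoint_specializes z)).eq] at hfz
    exact hfz
  obtain ⟨n, hn, en⟩ := hδ (genericPoint X)
  rw [hη] at en
  have hd : (δX (genericPoint X) - δY (genericPoint Y)).toNat = n := by omega
  rw [hd]
  have hgen : ∀ x : X, (∀ x', f.base x' = f.base x → x ∈ closure {x'} → x' = x) →
      UOpenLib.fibreClosureDim f x = (n : WithBot ℕ∞) := by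
    intro x hmax
    obtain ⟨r, hr, er⟩ := hδ x
    obtain ⟨D, hD⟩ := EquidimLib.exists_stalk_dim_eq_nat x
    obtain ⟨E, hE⟩ := EquidimLib.exists_stalk_dim_eq_nat (f x)
    have hξD : EquidimLib.dimBetween (genericPoint X) x = D :=
      (CycLimLib.dimBetween_eq_stalk fun w _ => genericPoint_specializes w).trans hD
    have hηE : EquidimLib.dimBetween (genericPoint Y) (f x) = E :=
      (CycLimLib.dimBetween_eq_stalk fun w _ => genericPoint_specializes w).trans hE
    have e1 := CycLimLib.delta_drop_of_deltaCompat f hY hδ (genericPoint_specializes x) hξD
    have e2 := CycLimLib.delta_eq_add hY (genericPoint_specializes (f x)) hηE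
    have h0 : ringKrullDim ((f.fiber (f x)).presheaf.stalk (f.asFiber x)) = 0 := by
      have h := EquidimLib.fibreDimAt_eq_add_stalk f x
      rw [UOpenLib.fibreDimAt_eq_of_max f hmax] at h
      obtain ⟨c, hc⟩ := UOpenLib.exists_fibreClosureDim_eq_nat f x
      haveI : IsLocallyNoetherian (f.fiber (f x)) := by
        haveI : LocallyOfFiniteType (f.fiberToSpecResidueField (f x)) := UOpenLib.lft_fiberToSpec f _
        exact LocallyOfFiniteType.isLocallyNoetherian (f.fiberToSpecResidueField (f x))
      obtain ⟨s, hs⟩ := EquidimLib.exists_stalk_dim_eq_nat (f.asFiber x)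
      rw [hc, hs] at h
      have h' : c = c + s := by exact_mod_cast h
      rw [hs]
      exact_mod_cast (show s = 0 by omega)
    have hDE : D ≤ E := by
      have h := DimIneqLib.ringKrullDim_stalk_le_add_fibre f x
      rw [h0, add_zero, hD, hE] at h
      exact_mod_cast h
    have hED : E ≤ D := by
      have h := EquidimLib.dim_base_le_stalk f x hmax fun y hy => (Flat.generalizingMap f) hy
      rw [hD, hE] at h
      exact_mod_cast h
    rw [AlgSpLib.fibreClosureDim_eq_resTrdeg, Dual3.resTrdeg, hr, map_natCast]
    exact_mod_cast (show r = n by omega)
  have hcomp : Cyc.HasRelDim f n := by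
    intro y T hT
    obtain ⟨w, hw, hwd⟩ := @FibDimLib.exists_generic_of_component (Y.residueField y) _ _
      (f.fiberToSpecResidueField y) (UOpenLib.lft_fiberToSpec f y) _ hT
    have hmax := UOpenLib.max_of_closure_mem f (z := w) (hw ▸ hT)
    rw [← hwd, ← FibDimLib.fibreDimAt_fiberι, UOpenLib.fibreDimAt_eq_of_max f hmax, hgen _ hmax]
  refine ⟨by omega, hcomp, fun x => le_antisymm ?_ ?_⟩
  · exact EquidimLib.topologicalKrullDim_le_of_components fun T hT => (hcomp _ T hT).le
  · have hT := irreducibleComponent_mem_irreducibleComponents (f.asFiber x)
    rw [← hcomp _ _ hT]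
    exact Topology.IsInducing.subtypeVal.topologicalKrullDim_le

end Groth.Agent.S17840
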