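import Groth.Statements.S17843
import Mathlib.RingTheory.FinitePresentation
import Mathlib.RingTheory.Localization.Integer
import Mathlib.Algebra.Polynomial.Lifts
import Mathlib.Algebra.Polynomial.Eval.Degree
import Mathlib.RingTheory.Localization.Away.Basic

set_option autoImplicit false
universe u v
open CAlg

namespace Groth.Agent.S17843

/-- In the case of an affine scheme of finite presentation, let B be a finitely presented R-algebra, r ∈
R, and x : B → R[1/r][T] an R-algebra homomorphism whose value at T = 0, a homomorphism B → R[1/r],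
is induced by a homomorphism x̃₀ : B → R. Then for every large enough n, the homomorphism x(rⁿT) : B
→ R[1/r][T] is induced by a homomorphism x̃ : B → R[T] whose value at T = 0 is x̃₀. The published
statement is for algebraic spaces locally of finite presentation over R; this row takes an affine
scheme of finite presentation. -/
theorem result
    (R : Type u) (B : Type v) [CommRing R] [CommRing B] [Algebra R B]
    [Algebra.FinitePresentation R B] (r : R)
    (x : B →ₐ[R] Polynomial (Localization.Away r))
    (x₀ : B →ₐ[R] R)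
    (hx₀ : (algebraMap R (Localization.Away r)).comp x₀.toRingHom =
      (Polynomial.evalRingHom 0).comp x.toRingHom) :
    ∃ N : ℕ, ∀ n : ℕ, N ≤ n →
      ∃ y : B →ₐ[R] Polynomial R,
        (Polynomial.evalRingHom 0).comp y.toRingHom = x₀.toRingHom ∧
        (Polynomial.mapRingHom (algebraMap R (Localization.Away r))).comp y.toRingHom =
          (Polynomial.aeval (Polynomial.C (algebraMap R (Localization.Away r) (r ^ n)) * Polynomial.X) :
              Polynomial (Localization.Away r) →ₐ[Localization.Away r] Polynomial (Localization.Away r)).toRingHom.comp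
            x.toRingHom := by
  classical
  obtain ⟨g, π, hπ, hfg⟩ := Algebra.FinitePresentation.out (R := R) (A := B)
  obtain ⟨G, hG⟩ := hfg
  let L := Localization.Away r
  let Φ : Polynomial R →ₐ[R] Polynomial L := Polynomial.mapAlgHom (Algebra.ofId R L)
  have hΦ : ∀ p, Φ p = p.map (algebraMap R L) := fun p => rfl
  let σ : ℕ → Polynomial L →ₐ[R] Polynomial L := fun n =>
    (Polynomial.aeval (Polynomial.C (algebraMap R L (r ^ n)) * Polynomial.X)).restrictScalars R
  have hσ : ∀ n p d, (σ n p).coeff d = p.coeff d * algebraMap R L ((r ^ n) ^ d) := fun n p d => by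
    show (Polynomial.aeval (Polynomial.C (algebraMap R L (r ^ n)) * Polynomial.X : Polynomial L) p).coeff d = _
    rw [← Polynomial.comp_eq_aeval, Polynomial.comp_C_mul_X_coeff, ← map_pow]
  let c : Fin g → Polynomial L := fun i => x (π (MvPolynomial.X i))
  have hx0 : ∀ b, (x b).coeff 0 = algebraMap R L (x₀ b) := fun b => by
    have := RingHom.congr_fun hx₀ b
    simpa [Polynomial.coeff_zero_eq_eval_zero] using this.symm
  obtain ⟨⟨s, hs⟩, hmult⟩ := IsLocalization.exist_integer_multiples (Submonoid.powers r)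
    (Finset.univ.biUnion fun i => (c i).support.image fun d => (i, d))
    (fun q : Fin g × ℕ => (c q.1).coeff q.2)
  obtain ⟨K, rfl⟩ := hs
  have hlift : ∀ i, ∃ q : Polynomial R, Φ q = σ K (c i) ∧ q.coeff 0 = x₀ (π (MvPolynomial.X i)) := by
    intro i
    have hmem : σ K (c i) ∈ Polynomial.lifts (algebraMap R L) := by
      rw [Polynomial.lifts_iff_coeff_lifts]
      intro d
      rw [hσ]
      rcases Nat.eq_zero_or_pos d with rfl | hd
      · exact ⟨x₀ (π (MvPolynomial.X i)), by rw [pow_zero, map_one, mul_one, hx0]⟩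
      · by_cases hsupp : d ∈ (c i).support
        · obtain ⟨a, ha⟩ := hmult (i, d) (Finset.mem_biUnion.2 ⟨i, Finset.mem_univ i,
            Finset.mem_image_of_mem _ hsupp⟩)
          refine ⟨r ^ (K * d - K) * a, ?_⟩
          rw [map_mul, ha]
          show algebraMap R L (r ^ (K * d - K)) * (r ^ K • (c i).coeff d) = _
          rw [Algebra.smul_def, ← mul_assoc, ← map_mul, ← pow_add,
            Nat.sub_add_cancel (Nat.le_mul_of_pos_right K hd), mul_comm, pow_mul]
        · exact ⟨0, by rw [Polynomial.notMem_support_iff.1 hsupp, zero_mul, map_zero]⟩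
    obtain ⟨q, hq⟩ := hmem
    change Φ q = σ K (c i) at hq
    refine ⟨q - Polynomial.C (q.coeff 0) + Polynomial.C (x₀ (π (MvPolynomial.X i))), ?_, by simp⟩
    rw [map_add, map_sub, hq, hΦ, hΦ, Polynomial.map_C, Polynomial.map_C]
    have h0 : algebraMap R L (q.coeff 0) = algebraMap R L (x₀ (π (MvPolynomial.X i))) := by
      have := congrArg (fun p => Polynomial.coeff p 0) hq
      simp only [hΦ, Polynomial.coeff_map, hσ, pow_zero, map_one, mul_one] at this
      rw [this, hx0]
    rw [h0, sub_add_cancel]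
  choose q hqmap hq0 using hlift
  let ψ : MvPolynomial (Fin g) R →ₐ[R] Polynomial R := MvPolynomial.aeval q
  have hψmap : Φ.comp ψ = ((σ K).comp x).comp π := MvPolynomial.algHom_ext fun i => by
    show Φ (ψ (MvPolynomial.X i)) = σ K (c i)
    rw [show ψ (MvPolynomial.X i) = q i from MvPolynomial.aeval_X _ _]
    exact hqmap i
  have hψ0 : ∀ f, (ψ f).coeff 0 = x₀ (π f) := by
    intro f
    induction f using MvPolynomial.induction_on with
    | C a =>
      show (ψ (algebraMap R _ a)).coeff 0 = x₀ (π (algebraMap R _ a))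
      rw [AlgHom.commutes, AlgHom.commutes, AlgHom.commutes]
      simp
    | add a b ha hb => simp [map_add, ha, hb]
    | mul_X a i ha =>
      rw [map_mul, map_mul, map_mul, Polynomial.mul_coeff_zero, ha,
        show ψ (MvPolynomial.X i) = q i from MvPolynomial.aeval_X _ _, hq0]
  have hker : ∀ f : G, ∀ d : ℕ, ∃ e : ℕ, r ^ e * (ψ (f : MvPolynomial (Fin g) R)).coeff d = 0 := by
    intro f d
    have hf : π (f : MvPolynomial (Fin g) R) = 0 := RingHom.mem_ker.1 (hG ▸ Submodule.subset_span f.2)
    have h := AlgHom.congr_fun hψmap (f : MvPolynomial (Fin g) R)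
    simp only [AlgHom.comp_apply, hf, map_zero] at h
    have h2 : algebraMap R L ((ψ (f : MvPolynomial (Fin g) R)).coeff d) = 0 := by
      rw [← Polynomial.coeff_map, ← hΦ, h, Polynomial.coeff_zero]
    obtain ⟨⟨_, e, rfl⟩, he⟩ := (IsLocalization.map_eq_zero_iff (Submonoid.powers r) L _).1 h2
    exact ⟨e, he⟩
  choose e he using hker
  let E : ℕ := Finset.univ.sup fun f : G => (ψ (f : MvPolynomial (Fin g) R)).support.sup (e f)
  have hE : ∀ (f : G) (d : ℕ), d ∈ (ψ (f : MvPolynomial (Fin g) R)).support → e f d ≤ E := fun f d hd => by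
    have h1 : e f d ≤ (ψ (f : MvPolynomial (Fin g) R)).support.sup (e f) := Finset.le_sup hd
    have h2 : (ψ (f : MvPolynomial (Fin g) R)).support.sup (e f) ≤ E :=
      Finset.le_sup (s := (Finset.univ : Finset G))
        (f := fun f : G => (ψ (f : MvPolynomial (Fin g) R)).support.sup (e f)) (Finset.mem_univ f)
    exact h1.trans h2
  clear_value E
  refine ⟨K + E, fun n hn => ?_⟩
  let τ : Polynomial R →ₐ[R] Polynomial R := Polynomial.aeval (Polynomial.C (r ^ (n - K)) * Polynomial.X)
  have hτ : ∀ p d, (τ p).coeff d = p.coeff d * (r ^ (n - K)) ^ d := fun p d => by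
    show (Polynomial.aeval (Polynomial.C (r ^ (n - K)) * Polynomial.X : Polynomial R) p).coeff d = _
    rw [← Polynomial.comp_eq_aeval, Polynomial.comp_C_mul_X_coeff]
  have hzero : ∀ f ∈ RingHom.ker π, τ (ψ f) = 0 := by
    suffices hle : RingHom.ker π.toRingHom ≤ RingHom.ker (τ.comp ψ).toRingHom from
      fun f hf => RingHom.mem_ker.1 (hle hf)
    rw [← hG]
    refine Ideal.span_le.2 fun f hf => ?_
    refine RingHom.mem_ker.2 (Polynomial.ext fun d => ?_)
    show (τ (ψ f)).coeff d = _
    rw [hτ, Polynomial.coeff_zero]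
    have hf' : π f = 0 := RingHom.mem_ker.1 (hG ▸ Submodule.subset_span hf)
    by_cases hd : d ∈ (ψ f).support
    · rcases Nat.eq_zero_or_pos d with rfl | hdpos
      · rw [hψ0, hf', map_zero, zero_mul]
      · have hle : e ⟨f, hf⟩ d ≤ E := hE ⟨f, hf⟩ d hd
        obtain ⟨k, hk⟩ : ∃ k, (n - K) * d = e ⟨f, hf⟩ d + k :=
          Nat.exists_eq_add_of_le (by
            calc e ⟨f, hf⟩ d ≤ n - K := by omega
              _ ≤ (n - K) * d := Nat.le_mul_of_pos_right _ hdpos)
        rw [← pow_mul, hk, pow_add, ← mul_assoc, mul_comm (Polynomial.coeff _ _), he, zero_mul]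
    · rw [Polynomial.notMem_support_iff.1 hd, zero_mul]
  let eB := Ideal.quotientKerAlgEquivOfSurjective hπ
  let y : B →ₐ[R] Polynomial R :=
    (Ideal.Quotient.liftₐ (RingHom.ker π) (τ.comp ψ) hzero).comp eB.symm.toAlgHom
  have hy : ∀ f, y (π f) = τ (ψ f) := fun f => by
    have h1 : eB.symm (π f) = Ideal.Quotient.mk (RingHom.ker π) f := by
      rw [AlgEquiv.symm_apply_eq]; rfl
    show Ideal.Quotient.liftₐ (RingHom.ker π) (τ.comp ψ) hzero (eB.symm (π f)) = _
    rw [h1]
    rfl
  refine ⟨y, RingHom.ext fun b => ?_, RingHom.ext fun b => ?_⟩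
  · obtain ⟨f, rfl⟩ := hπ b
    show Polynomial.eval 0 (y (π f)) = x₀ (π f)
    rw [hy, ← Polynomial.coeff_zero_eq_eval_zero, hτ, pow_zero, mul_one, hψ0]
  · obtain ⟨f, rfl⟩ := hπ b
    show (y (π f)).map (algebraMap R L) = σ n (x (π f))
    rw [hy]
    refine Polynomial.ext fun d => ?_
    rw [Polynomial.coeff_map, hτ, hσ, map_mul, ← Polynomial.coeff_map, ← hΦ, ← AlgHom.comp_apply Φ ψ, hψmap,
      AlgHom.comp_apply, AlgHom.comp_apply, hσ, mul_assoc, ← map_mul, ← mul_pow, ← pow_add,
      Nat.add_sub_cancel' (show K ≤ n by omega)]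

end Groth.Agent.S17843
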