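import Groth.Statements.S17844
import Groth.Agent.TorsPatchLib.Ideal
-- import your own Groth.Agent.* helpers here

set_option autoImplicit false
open CategoryTheory CategoryTheory.Limits MonoidalCategory CartesianMonoidalCategory MonObj GrpObj AlgebraicGeometry
universe u
open NonAbH1

namespace Groth.Agent.S17844

/-- For torsors under a group scheme locally of finite presentation, let S be an affine scheme, G an
S-group scheme locally of finite presentation and X an fppf torsor over the affine space 𝔸ⁿ_S (n
finite) under the base change of G. Suppose that Zariski locally on S the torsor X descends: every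
point of S has an open neighbourhood U ↪ S and a torsor P under G_U over U whose base change to 𝔸ⁿ_U
is equivariantly isomorphic to the restriction of X (both regarded as actions of the base change of
G along 𝔸ⁿ_U → S through the canonical identifications of iterated base changes). Then X is
equivariantly isomorphic to the base change of a G-torsor over S. The published statement also
allows more general group functors and graded algebras in place of the polynomial algebra;
affineness of S cannot be dropped. -/
theorem result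
    (S : Scheme.{u}) [IsAffine S] (n : Type u) [Finite n]
    (G : Over S) [GrpObj G] [LocallyOfFinitePresentation G.hom]
    (X : NonAbH1.TorsorSch (Red.bc (𝔸(n; S) ↘ S) G) Scheme.fppfPrecoverage)
    (hloc : ∀ s : S, ∃ (U : Scheme.{u}) (j : U ⟶ S) (_ : IsOpenImmersion j), s ∈ Set.range j.base ∧
      ∃ P : NonAbH1.TorsorSch (Red.bc j G) Scheme.fppfPrecoverage,
        Nonempty (NonAbH1.EquivIso
          ((P.act.bc (pullback.snd (𝔸(n; S) ↘ S) j)).restrict
            (ActBC.bcCompIso (pullback.snd (𝔸(n; S) ↘ S) j) j G rfl).inv)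
          ((X.act.bc (pullback.fst (𝔸(n; S) ↘ S) j)).restrict
            (ActBC.bcCompIso (pullback.fst (𝔸(n; S) ↘ S) j) (𝔸(n; S) ↘ S) G pullback.condition).inv))) :
    ∃ P : NonAbH1.TorsorSch G Scheme.fppfPrecoverage,
      Nonempty (NonAbH1.EquivIso (P.act.bc (𝔸(n; S) ↘ S)) X.act) := by
  classical
  have hz := TorsPatchLib.zsec_over S n
  let s : Spec (CommRingCat.of Γ(S, ⊤)) ⟶ S := S.isoSpec.inv
  obtain ⟨R1, _, _, hT1, ⟨x0⟩⟩ := TorsPatchLib.exists_affine_point s (TorsPatchLib.fibre _ hz X).isTorsor.2
  obtain ⟨I, hI⟩ := TorsPatchLib.exists_ideal s X x0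
  have hI1 : (1 : Γ(S, ⊤)) ∈ I := by
    rw [← Ideal.eq_top_iff_one]
    by_contra hne
    obtain ⟨m, hm, hIm⟩ := Ideal.exists_le_maximal I hne
    let x : Spec (CommRingCat.of Γ(S, ⊤)) := ⟨m, hm.isPrime⟩
    obtain ⟨U, j, hj, hx, P, hP⟩ := hloc (s x)
    have hU : IsOpen (s ⁻¹' Set.range j) := j.isOpenEmbedding.isOpen_range.preimage s.continuous
    obtain ⟨_, ⟨r, rfl⟩, hxr, hrU⟩ :=
      PrimeSpectrum.isTopologicalBasis_basic_opens.exists_subset_of_mem_open (a := x) hx hU
    have hrange : Set.range (TorsPatchLib.jj s (Localization.Away r)) ⊆ Set.range j := by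
      rintro _ ⟨y, rfl⟩
      refine hrU ?_
      show _ ∈ (PrimeSpectrum.basicOpen r : Set (PrimeSpectrum Γ(S, ⊤)))
      rw [← PrimeSpectrum.localization_away_comap_range (Localization.Away r) r]
      exact ⟨y, rfl⟩
    have hr : r ∈ I := (hI r).2 (TorsPatchLib.hasFrame_of_hom s X x0 (IsOpenImmersion.lift j _ hrange)
      (IsOpenImmersion.lift_fac _ _ _) (TorsPatchLib.hasFrame_of_desc _ hz X j x0 ⟨P, hP⟩))
    exact hxr (hIm hr)
  obtain ⟨y, hy⟩ := (hI 1).1 hI1
  let a : CommRingCat.of Γ(S, ⊤) ⟶ CommRingCat.of (Localization.Away (1 : Γ(S, ⊤))) :=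
    CommRingCat.ofHom (algebraMap _ _)
  haveI : IsIso a := (IsLocalization.atOne Γ(S, ⊤) (Localization.Away (1 : Γ(S, ⊤)))).toRingEquiv.toCommRingCatIso.isIso_hom
  haveI : IsIso (TorsPatchLib.jj s (Localization.Away (1 : Γ(S, ⊤)))) := by
    show IsIso (Spec.map a ≫ s)
    infer_instance
  let p := 𝔸(n; S) ↘ S
  let g : Over.mk p ⟶ TorsPatchLib.W0 p (TorsPatchLib.jj s (Localization.Away (1 : Γ(S, ⊤)))) :=
    Over.homMk (pullback.lift (𝟙 _) (p ≫ inv (TorsPatchLib.jj s (Localization.Away (1 : Γ(S, ⊤))))) (by
      rw [Category.id_comp, Category.assoc, IsIso.inv_hom_id, Category.comp_id])) (by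
      show _ ≫ pullback.snd _ _ ≫ _ = p
      rw [pullback.lift_snd_assoc, Category.assoc, IsIso.inv_hom_id, Category.comp_id])
  exact TorsPatchLib.nonempty_equivIso _ hz X x0 hT1 _
    (hy.pull g (Over.OverMorphism.ext (pullback.lift_fst _ _ _)))

end Groth.Agent.S17844
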