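import Groth.Statements.S17845
import Groth.Agent.GrpPatchLib.Main

set_option autoImplicit false
open CategoryTheory CategoryTheory.Limits MonoidalCategory CartesianMonoidalCategory MonObj GrpObj AlgebraicGeometry
universe u
open Red

namespace Groth.Agent.S17845

/-- Let S be an affine scheme and H a reductive group scheme over the affine space 𝔸ⁿ_S (n finite). If H
descends to a reductive group scheme Zariski locally on S (every point of S has an open
neighbourhood U ↪ S and a reductive U-group H₀ whose base change to 𝔸ⁿ_U is isomorphic as a group
scheme to the restriction of H), then H is isomorphic as a group scheme to the base change of a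
reductive S-group scheme. The published statement also allows suitable graded algebras in place of
the polynomial algebra. -/
theorem result
    (S : Scheme.{u}) [IsAffine S] (n : Type u) [Finite n]
    (H : Over (𝔸(n; S))) [GrpObj H] (hH : Red.IsReductive H)
    (hloc : ∀ s : S, ∃ (U : Scheme.{u}) (j : U ⟶ S) (_ : IsOpenImmersion j), s ∈ Set.range j.base ∧
      ∃ (H₀ : Over U) (_ : GrpObj H₀), Red.IsReductive H₀ ∧
        Nonempty (Grp.mk (Red.bc (pullback.snd (𝔸(n; S) ↘ S) j) H₀) ≅
          Grp.mk (Red.bc (pullback.fst (𝔸(n; S) ↘ S) j) H))) :
    ∃ (H₀ : Over S) (_ : GrpObj H₀), Red.IsReductive H₀ ∧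
      Nonempty (Grp.mk (Red.bc (𝔸(n; S) ↘ S) H₀) ≅ Grp.mk H) := by
  exact GrpPatchLib.main H hH hloc

end Groth.Agent.S17845
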