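import Groth.Statements.S17847
import Groth.Agent.TorusFinHomLib.Isogeny

set_option autoImplicit false
set_option backward.isDefEq.respectTransparency false
set_option backward.isDefEq.respectTransparency.types false
set_option maxHeartbeats 1000000
set_option synthInstance.maxHeartbeats 400000
open CategoryTheory CategoryTheory.Limits MonoidalCategory CartesianMonoidalCategory MonObj GrpObj AlgebraicGeometry
universe u
open Red

attribute [-instance] CategoryTheory.Hom.commGroup
namespace Groth.Agent.S17847

/-- Suppose G' and G are reductive S-group schemes and f : G' → G is a central isogeny between them,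
meaning a homomorphism that is finite, flat and surjective with central kernel (every point of G'
killed by f commutes with every point of G'). Then the centre of G' is the preimage of the centre of
G: a point x of G' with values in an S-scheme T is central (commutes with all points of G' with
values in T-schemes) if and only if f(x) is central in G in the same sense. -/
theorem result
    {S : Scheme.{u}} {G' G : Over S} [GrpObj G'] [GrpObj G]
    (hG' : Red.IsReductive G') (hG : Red.IsReductive G) (f : G' ⟶ G) [IsMonHom f]
    (hfin : IsFinite f.left) (hfl : Flat f.left) (hsurj : Surjective f.left)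
    (hcen : ∀ (T : Over S) (k y : T ⟶ G'), k ≫ f = 1 → k * y = y * k)
    (T : Over S) (x : T ⟶ G') :
    (∀ (T' : Over S) (p : T' ⟶ T) (y : T' ⟶ G'), (p ≫ x) * y = y * (p ≫ x)) ↔
      (∀ (T' : Over S) (p : T' ⟶ T) (z : T' ⟶ G), (p ≫ x ≫ f) * z = z * (p ≫ x ≫ f)) := by
  haveI := hfin; haveI := hfl; haveI := hsurj
  constructor
  · intro h T' p z
    let P : Over S := Over.mk (Limits.pullback.fst z.left f.left ≫ T'.hom)
    let c : P ⟶ T' := Over.homMk (Limits.pullback.fst z.left f.left) rfl
    let y : P ⟶ G' := Over.homMk (Limits.pullback.snd z.left f.left) (by
      show Limits.pullback.snd z.left f.left ≫ G'.hom = Limits.pullback.fst z.left f.left ≫ T'.hom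
      rw [← Over.w f, ← Category.assoc, ← Limits.pullback.condition, Category.assoc, Over.w z])
    have hy : y ≫ f = c ≫ z := Over.OverMorphism.ext Limits.pullback.condition.symm
    haveI : Flat c.left := MorphismProperty.pullback_fst (P := @Flat) _ _ hfl
    haveI : Surjective c.left := MorphismProperty.pullback_fst (P := @Surjective) _ _ hsurj
    haveI : Epi c.left := Flat.epi_of_flat_of_surjective c.left
    haveI : Epi c := Over.epi_of_epi_left c
    apply (cancel_epi c).1
    have h' := congrArg (· ≫ f) (h P (c ≫ p) y)
    simp only [MonObj.mul_comp, Category.assoc, hy] at h'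
    simpa only [MonObj.comp_mul, Category.assoc] using h'
  · intro h T' p y
    obtain ⟨Z, _, j, hj, -, -⟩ := Groth.Agent.S5510.result G' hG'
    obtain ⟨z, hz⟩ := TorsTuple.le_centre_of_inAllTori hG'
      (TorusFinHom.inAllTori_of_central_image hG' f hcen x h) hj
    have := (hj.2.2 T x).1 ⟨z, hz⟩ T' p y
    simpa only [Category.comp_id] using this

end Groth.Agent.S17847
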