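import Groth.Statements.S17850
import Groth.Agent.TorsPatchLib.Ideal
-- import your own Groth.Agent.* helpers here

set_option autoImplicit false
open CategoryTheory CategoryTheory.Limits MonoidalCategory CartesianMonoidalCategory MonObj GrpObj AlgebraicGeometry
universe u
open NonAbH1

namespace Groth.Agent.S17850

/-- In ideal form, let R be a ring, G an R-group scheme locally of finite presentation and X an fppf
torsor over 𝔸ⁿ_R (n finite) under the base change of G. Say that X descends over R[1/r] when there
is a torsor P under the base change of G to R[1/r] whose base change to 𝔸ⁿ over R[1/r] is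
equivariantly isomorphic to the restriction of X (both compared as actions of the base change of G
to 𝔸ⁿ over R[1/r] through the canonical identifications of iterated base changes). Then the set of r
∈ R over which X descends is an ideal. The published statement also allows more general group
functors and graded algebras. -/
theorem result
    (R : Type u) [CommRing R] (n : Type u) [Finite n]
    (G : Over (Spec (CommRingCat.of R))) [GrpObj G] [LocallyOfFinitePresentation G.hom]
    (X : NonAbH1.TorsorSch (Red.bc (𝔸(n; Spec (CommRingCat.of R)) ↘ Spec (CommRingCat.of R)) G) Scheme.fppfPrecoverage) :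
    ∃ I : Ideal R, ∀ r : R, r ∈ I ↔
      ∃ P : NonAbH1.TorsorSch
          (Red.bc (Spec.map (CommRingCat.ofHom (algebraMap R (Localization.Away r)))) G) Scheme.fppfPrecoverage,
        Nonempty (NonAbH1.EquivIso
          ((P.act.bc (pullback.snd (𝔸(n; Spec (CommRingCat.of R)) ↘ Spec (CommRingCat.of R))
              (Spec.map (CommRingCat.ofHom (algebraMap R (Localization.Away r)))))).restrict
            (ActBC.bcCompIso (pullback.snd (𝔸(n; Spec (CommRingCat.of R)) ↘ Spec (CommRingCat.of R))
                (Spec.map (CommRingCat.ofHom (algebraMap R (Localization.Away r)))))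
              (Spec.map (CommRingCat.ofHom (algebraMap R (Localization.Away r)))) G rfl).inv)
          ((X.act.bc (pullback.fst (𝔸(n; Spec (CommRingCat.of R)) ↘ Spec (CommRingCat.of R))
              (Spec.map (CommRingCat.ofHom (algebraMap R (Localization.Away r)))))).restrict
            (ActBC.bcCompIso (pullback.fst (𝔸(n; Spec (CommRingCat.of R)) ↘ Spec (CommRingCat.of R))
                (Spec.map (CommRingCat.ofHom (algebraMap R (Localization.Away r)))))
              (𝔸(n; Spec (CommRingCat.of R)) ↘ Spec (CommRingCat.of R)) G pullback.condition).inv)) := by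
  have hz := TorsPatchLib.zsec_over (Spec (CommRingCat.of R)) n
  obtain ⟨R1, _, _, hT1, ⟨x0⟩⟩ := TorsPatchLib.exists_affine_point (𝟙 (Spec (CommRingCat.of R)))
    (TorsPatchLib.fibre _ hz X).isTorsor.2
  obtain ⟨I, hI⟩ := TorsPatchLib.exists_ideal (𝟙 (Spec (CommRingCat.of R))) X x0
  have key : ∀ {V : Scheme.{u}} (j : V ⟶ Spec (CommRingCat.of R)),
      TorsPatchLib.HasFrame _ hz X j x0 ↔ TorsPatchLib.Desc X j := fun j =>
    ⟨TorsPatchLib.desc_of_hasFrame _ hz X j x0 hT1, fun h => TorsPatchLib.hasFrame_of_desc _ hz X j x0 h⟩
  refine ⟨I, fun r => (hI r).trans ?_⟩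
  have h := key (Spec.map (CommRingCat.ofHom (algebraMap R (Localization.Away r))))
  unfold TorsPatchLib.Good TorsPatchLib.jj
  rw [Category.comp_id]
  exact h

end Groth.Agent.S17850
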