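import Groth.Statements.S17851
import Groth.Agent.TorsLineGlueLib.Main
-- import your own Groth.Agent.* helpers here

set_option autoImplicit false
open CategoryTheory CategoryTheory.Limits MonoidalCategory CartesianMonoidalCategory MonObj GrpObj AlgebraicGeometry
universe u
open NonAbH1

namespace Groth.Agent.S17851

/-- Let R be a ring and G an R-group scheme locally of finite presentation. Call an fppf torsor over the
affine line Spec A[t] (under the base change of the group) trivial away from an A-finite closed
subscheme when it has a section over the open complement of V(I) for some ideal I of A[t] with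
A[t]/I a finite A-module. If for every maximal ideal m of R every torsor under the base change of G
over Spec R_m[t] which is trivial away from an R_m-finite closed subscheme is trivial, then every
torsor under the base change of G over Spec R[t] which is trivial away from an R-finite closed
subscheme is trivial. The published statement also allows more general group functors. -/
theorem result
    (R : Type u) [CommRing R]
    (G : Over (Spec (CommRingCat.of R))) [GrpObj G] [LocallyOfFinitePresentation G.hom]
    (hloc : ∀ (m : Ideal R) [m.IsMaximal]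
      (Y : NonAbH1.TorsorSch (Red.bc (Spec.map (CommRingCat.ofHom (algebraMap (Localization.AtPrime m) (Polynomial (Localization.AtPrime m))))) (Red.bc (Spec.map (CommRingCat.ofHom (algebraMap R (Localization.AtPrime m)))) G)) Scheme.fppfPrecoverage),
      (∃ I : Ideal (Polynomial (Localization.AtPrime m)), Module.Finite (Localization.AtPrime m) (Polynomial (Localization.AtPrime m) ⧸ I) ∧
        NonAbH1.HasSectionOver Y.X (Scheme.Opens.ι
          (⟨(PrimeSpectrum.zeroLocus (I : Set (Polynomial (Localization.AtPrime m))))ᶜ,
            (PrimeSpectrum.isClosed_zeroLocus _).isOpen_compl⟩ : (Spec (CommRingCat.of (Polynomial (Localization.AtPrime m)))).Opens))) →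
      NonAbH1.HasSectionOver Y.X (𝟙 (Spec (CommRingCat.of (Polynomial (Localization.AtPrime m))))))
    (X : NonAbH1.TorsorSch (Red.bc (Spec.map (CommRingCat.ofHom (algebraMap R (Polynomial R)))) G) Scheme.fppfPrecoverage)
    (I : Ideal (Polynomial R)) (hI : Module.Finite R (Polynomial R ⧸ I))
    (hX : NonAbH1.HasSectionOver X.X (Scheme.Opens.ι
      (⟨(PrimeSpectrum.zeroLocus (I : Set (Polynomial R)))ᶜ,
        (PrimeSpectrum.isClosed_zeroLocus _).isOpen_compl⟩ : (Spec (CommRingCat.of (Polynomial R))).Opens))) :
    NonAbH1.HasSectionOver X.X (𝟙 (Spec (CommRingCat.of (Polynomial R)))) := by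
  have hint : IsIntegral R (Ideal.Quotient.mk I Polynomial.X) := IsIntegral.of_finite R _
  obtain ⟨f, hf, hf0⟩ := hint
  have hfI : f ∈ I := by
    rw [← Ideal.Quotient.eq_zero_iff_mem]
    have h := Polynomial.aeval_algHom_apply (Ideal.Quotient.mkₐ R I) Polynomial.X f
    rw [Polynomial.aeval_X_left_apply] at h
    exact h.symm.trans hf0
  refine TorsLineGlueLib.hasSection (fun m _ Z g hg hs => ?_) X I f hf hfI hX
  let c := Spec.map (CommRingCat.ofHom (algebraMap (Localization.AtPrime m) (Polynomial (Localization.AtPrime m))))
  let a := Spec.map (CommRingCat.ofHom (algebraMap R (Localization.AtPrime m)))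
  let q := Spec.map (CommRingCat.ofHom (Polynomial.mapRingHom (algebraMap R (Localization.AtPrime m))))
  have h : q ≫ TorsLineGlueLib.pL R = c ≫ a := by
    rw [← Spec.map_comp, ← Spec.map_comp]
    congr 1
    refine CommRingCat.hom_ext (RingHom.ext fun x => ?_)
    simp [Polynomial.algebraMap_apply]
  let Y : TorsorSch (Red.bc c (Red.bc a G)) Scheme.fppfPrecoverage :=
    ⟨Red.bc q Z.X, ((Z.act.bc q).restrict (ActBC.bcCompIso q (TorsLineGlueLib.pL R) G h).inv).restrict
        (ActBC.bcCompIso c a G rfl).hom,
      TorsPatchLib.isPseudoTorsorSch_restrict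
        (TorsPatchLib.isPseudoTorsorSch_restrict (NonAbH1.isPseudoTorsorSch_bc q Z.isTorsor.1) _) _,
      NonAbH1.isLocallyTrivialFor_bc q _ Z.isTorsor.2⟩
  obtain ⟨t, ht⟩ := hs
  obtain ⟨σ, hσ⟩ := hloc m Y ⟨Ideal.span {g}, Polynomial.Monic.finite_quotient hg,
    pullback.lift t (TorsLineGlueLib.compl (Ideal.span {g})).ι ht, pullback.lift_snd _ _ _⟩
  refine ⟨σ ≫ pullback.fst Z.X.hom q, ?_⟩
  rw [Category.assoc, pullback.condition, ← Category.assoc]
  exact (congrArg (· ≫ q) hσ).trans (Category.id_comp _)

end Groth.Agent.S17851
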