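import Groth.Statements.S17854
import Groth.Agent.EtaleChartLib.Basic

set_option autoImplicit false
open TensorProduct
universe u
open EtAlg

namespace Groth.Agent.S17854

/-- In the case of a base with finite residue field, let k be a local ring whose residue field is
finite, R a finitely presented k-algebra and m a maximal ideal of R over the maximal ideal of k such
that R is smooth over k at m of relative dimension d > 0 (the module of Kähler differentials of R
over k has rank d at m). Then there are g ∉ m and an étale k-algebra homomorphism φ : k[x₁, …, x_d]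
→ R[1/g] which induces an isomorphism of residue fields at m, i.e. k[x₁, …, x_d] → R[1/g]/m R[1/g]
is surjective. The published statement is for any local ring k; this row takes the residue field of
k finite. -/
theorem result
    (k : Type u) [CommRing k] [IsLocalRing k] [Finite (IsLocalRing.ResidueField k)]
    (R : Type u) [CommRing R] [Algebra k R] [Algebra.FinitePresentation k R]
    (m : Ideal R) [m.IsMaximal] (hm : m.comap (algebraMap k R) = IsLocalRing.maximalIdeal k)
    [Algebra.IsSmoothAt k m] (d : ℕ) (hd : 0 < d)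
    (hdim : Module.finrank (R ⧸ m) ((R ⧸ m) ⊗[R] KaehlerDifferential k R) = d) :
    ∃ g : R, g ∉ m ∧ ∃ φ : MvPolynomial (Fin d) k →ₐ[k] Localization.Away g,
      φ.toRingHom.Etale ∧
      Function.Surjective
        ((Ideal.Quotient.mk (m.map (algebraMap R (Localization.Away g)))).comp φ.toRingHom) := by
  classical
  obtain ⟨g₀, hg₀, hsm⟩ := Algebra.IsSmoothAt.exists_notMem_smooth k m
  let R' := Localization.Away g₀
  let _ := Ideal.Quotient.field m
  have hfin : Finite (R ⧸ m) := by
    let _ : Algebra (IsLocalRing.ResidueField k) (R ⧸ m) :=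
      (Ideal.Quotient.lift (IsLocalRing.maximalIdeal k) (algebraMap k (R ⧸ m)) fun x hx => by
        rw [IsScalarTower.algebraMap_apply k R (R ⧸ m), Ideal.Quotient.algebraMap_eq,
          Ideal.Quotient.eq_zero_iff_mem]
        exact hm.ge hx : IsLocalRing.ResidueField k →+* R ⧸ m).toAlgebra
    have : IsScalarTower k (IsLocalRing.ResidueField k) (R ⧸ m) := IsScalarTower.of_algebraMap_eq fun x => rfl
    have : Algebra.FiniteType (IsLocalRing.ResidueField k) (R ⧸ m) :=
      Algebra.FiniteType.of_restrictScalars_finiteType k _ _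
    have := finite_of_finite_type_of_isJacobsonRing (IsLocalRing.ResidueField k) (R ⧸ m)
    exact Module.finite_of_finite (IsLocalRing.ResidueField k)
  let π : R' →+* R ⧸ m := IsLocalization.Away.lift (S := R') g₀ (g := Ideal.Quotient.mk m)
    (Ne.isUnit fun h => hg₀ (Ideal.Quotient.eq_zero_iff_mem.1 h))
  have hπ : ∀ x, π (algebraMap R R' x) = Ideal.Quotient.mk m x := fun x => IsLocalization.Away.lift_eq g₀ _ x
  have hπs : Function.Surjective π := fun z => by
    obtain ⟨x, rfl⟩ := Ideal.Quotient.mk_surjective z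
    exact ⟨_, hπ x⟩
  let m' := RingHom.ker π
  have : m'.IsMaximal := RingHom.ker_isMaximal_of_surjective π hπs
  have hm' : m.map (algebraMap R R') = m' := by
    refine le_antisymm (Ideal.map_le_iff_le_comap.2 fun x hx => ?_) fun z hz => ?_
    · rw [Ideal.mem_comap, RingHom.mem_ker, hπ, Ideal.Quotient.eq_zero_iff_mem]; exact hx
    · obtain ⟨x, s, rfl⟩ := IsLocalization.exists_mk'_eq (Submonoid.powers g₀) z
      have h := congrArg π (IsLocalization.mk'_spec R' x s)
      rw [map_mul, RingHom.mem_ker.1 hz, zero_mul, hπ] at h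
      rw [IsLocalization.mk'_eq_mul_mk'_one]
      exact Ideal.mul_mem_right _ _ (Ideal.mem_map_of_mem _ (Ideal.Quotient.eq_zero_iff_mem.1 h.symm))
  let _ : Algebra R' (R ⧸ m) := π.toAlgebra
  have : IsScalarTower R R' (R ⧸ m) := IsScalarTower.of_algebraMap_eq fun x => (hπ x).symm
  let ψ : R' ⧸ m' →+* R ⧸ m := RingHom.kerLift π
  let _ : Algebra (R' ⧸ m') (R ⧸ m) := ψ.toAlgebra
  have : IsScalarTower R' (R' ⧸ m') (R ⧸ m) := IsScalarTower.of_algebraMap_eq (R := R') (S := R' ⧸ m') (A := R ⧸ m) fun x => rfl
  have : Finite (R' ⧸ m') := Finite.of_injective ψ (RingHom.kerLift_injective π)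
  let _ := Ideal.Quotient.field m'
  have hdim' : Module.finrank (R' ⧸ m') ((R' ⧸ m') ⊗[R'] KaehlerDifferential k R') = d := by
    have := Algebra.FormallyEtale.of_isLocalization (Rₘ := R') (Submonoid.powers g₀)
    rw [← Module.finrank_baseChange (R := R ⧸ m), ← hdim,
      (AlgebraTensorModule.cancelBaseChange R' (R' ⧸ m') (R ⧸ m) (R ⧸ m) (KaehlerDifferential k R')).finrank_eq,
      ← (AlgebraTensorModule.congr (LinearEquiv.refl (R ⧸ m) (R ⧸ m))
        (KaehlerDifferential.tensorKaehlerEquivOfFormallyEtale k R R')).finrank_eq,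
      (AlgebraTensorModule.cancelBaseChange R R' (R ⧸ m) (R ⧸ m) (KaehlerDifferential k R)).finrank_eq]
  obtain ⟨g', hg', φ, hφ, hsurj⟩ := EtaleChartLib.exists_chart_of_smooth m' d hd hdim'
  obtain ⟨x, s, hxs⟩ := IsLocalization.exists_mk'_eq (Submonoid.powers g₀) g'
  let T' := Localization.Away g'
  have hu : IsUnit (algebraMap R R' s) := IsLocalization.map_units R' s
  have hassoc : Associated g' (algebraMap R R' x) := ⟨hu.unit, by
    rw [IsUnit.unit_spec, ← hxs, IsLocalization.mk'_spec]⟩
  have : IsLocalization.Away (algebraMap R R' x) T' := IsLocalization.Away.of_associated hassoc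
  have : IsLocalization.Away (g₀ * x) T' := IsLocalization.Away.mul' R' T' g₀ x
  have hx : x ∉ m := fun h => hg' (RingHom.mem_ker.2 (by
    have h2 := congrArg π (IsLocalization.mk'_spec R' x s)
    rw [map_mul, hπ x, Ideal.Quotient.eq_zero_iff_mem.2 h, hxs] at h2
    exact (hu.map π).mul_left_eq_zero.1 h2))
  refine ⟨g₀ * x, fun h => ((inferInstance : m.IsPrime).mem_or_mem h).elim hg₀ hx, ?_⟩
  let e : T' ≃ₐ[R] Localization.Away (g₀ * x) :=
    IsLocalization.algEquiv (Submonoid.powers (g₀ * x)) T' (Localization.Away (g₀ * x))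
  let ek : T' →ₐ[k] Localization.Away (g₀ * x) := (e.restrictScalars k).toAlgHom
  refine ⟨ek.comp φ, ?_, ?_⟩
  · have he : ek.toRingHom.Etale := RingHom.Etale.of_bijective e.bijective
    exact RingHom.Etale.stableUnderComposition _ _ hφ he
  · intro z
    obtain ⟨z, rfl⟩ := Ideal.Quotient.mk_surjective z
    obtain ⟨p, hp⟩ := hsurj (Ideal.Quotient.mk _ (e.symm z))
    refine ⟨p, ?_⟩
    rw [RingHom.comp_apply, Ideal.Quotient.eq] at hp
    rw [RingHom.comp_apply, Ideal.Quotient.eq]
    have h1 : m'.map (algebraMap R' T') = m.map (algebraMap R T') := by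
      rw [← hm', Ideal.map_map, ← IsScalarTower.algebraMap_eq]
    rw [h1] at hp
    have h2 := Ideal.mem_map_of_mem (e.toAlgHom.toRingHom) hp
    rw [Ideal.map_map, show e.toAlgHom.toRingHom.comp (algebraMap R T') = algebraMap R _ from
      RingHom.ext fun a => e.commutes a, map_sub] at h2
    simpa [ek] using h2

end Groth.Agent.S17854
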