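import Groth.Statements.S17855
import Groth.Agent.PatchLib.Main

set_option autoImplicit false
open CategoryTheory CategoryTheory.Limits MonoidalCategory CartesianMonoidalCategory MonObj GrpObj AlgebraicGeometry
universe u
open NonAbH1

namespace Groth.Agent.S17855

/-- For a group scheme locally of finite presentation, let R be a ring, G an R-group scheme locally of
finite presentation over S = Spec R, and r, r' ∈ R generating the unit ideal; let A = R[1/r], A' =
R[1/r'], B = R[1/rr']. For an R-algebra C write G₀(C) for the set of S-morphisms Spec C[T] → G whose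
restriction along T ↦ 0 (the S-morphism Spec C → Spec C[T]) is the unit. Then G₀(B) = G₀(A)·G₀(A'):
every g ∈ G₀(B) is the product, in the group of Spec B[T]-points of G, of the pullback of some g₁ ∈
G₀(A) and the pullback of some g₂ ∈ G₀(A') along Spec B[T] → Spec A[T], Spec A'[T]. The S-morphisms
induced by T ↦ 0 and by the localisation maps are taken as data determined by their underlying
scheme maps. The published statement also allows more general group functors and graded algebras. -/
theorem result
    (R : Type u) [CommRing R]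
    (G : Over (Spec (CommRingCat.of R))) [GrpObj G] [LocallyOfFinitePresentation G.hom]
    (r r' : R) (hrr : Ideal.span ({r, r'} : Set R) = ⊤)
    (A A' B : Type u) [CommRing A] [CommRing A'] [CommRing B] [Algebra R A] [Algebra R A'] [Algebra R B]
    [IsLocalization.Away r A] [IsLocalization.Away r' A'] [IsLocalization.Away (r * r') B]
    [Algebra A B] [Algebra A' B] [IsScalarTower R A B] [IsScalarTower R A' B]
    (eA : Over.mk (Spec.map (CommRingCat.ofHom (algebraMap R (A)))) ⟶ Over.mk (Spec.map (CommRingCat.ofHom (algebraMap R (Polynomial A)))))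
    (heA : eA.left = Spec.map (CommRingCat.ofHom (Polynomial.evalRingHom (0 : A))))
    (eA' : Over.mk (Spec.map (CommRingCat.ofHom (algebraMap R (A')))) ⟶ Over.mk (Spec.map (CommRingCat.ofHom (algebraMap R (Polynomial A')))))
    (heA' : eA'.left = Spec.map (CommRingCat.ofHom (Polynomial.evalRingHom (0 : A'))))
    (eB : Over.mk (Spec.map (CommRingCat.ofHom (algebraMap R (B)))) ⟶ Over.mk (Spec.map (CommRingCat.ofHom (algebraMap R (Polynomial B)))))
    (heB : eB.left = Spec.map (CommRingCat.ofHom (Polynomial.evalRingHom (0 : B))))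
    (tA : Over.mk (Spec.map (CommRingCat.ofHom (algebraMap R (Polynomial B)))) ⟶ Over.mk (Spec.map (CommRingCat.ofHom (algebraMap R (Polynomial A)))))
    (htA : tA.left = Spec.map (CommRingCat.ofHom (Polynomial.mapRingHom (algebraMap A B))))
    (tA' : Over.mk (Spec.map (CommRingCat.ofHom (algebraMap R (Polynomial B)))) ⟶ Over.mk (Spec.map (CommRingCat.ofHom (algebraMap R (Polynomial A')))))
    (htA' : tA'.left = Spec.map (CommRingCat.ofHom (Polynomial.mapRingHom (algebraMap A' B))))
    (g : Over.mk (Spec.map (CommRingCat.ofHom (algebraMap R (Polynomial B)))) ⟶ G) (hg : eB ≫ g = 1) :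
    ∃ (g₁ : Over.mk (Spec.map (CommRingCat.ofHom (algebraMap R (Polynomial A)))) ⟶ G) (g₂ : Over.mk (Spec.map (CommRingCat.ofHom (algebraMap R (Polynomial A')))) ⟶ G),
      eA ≫ g₁ = 1 ∧ eA' ≫ g₂ = 1 ∧ g = (tA ≫ g₁) * (tA' ≫ g₂) := by
  have key : ∀ (C : Type u) [CommRing C] [Algebra R C]
      (e : Over.mk (Spec.map (CommRingCat.ofHom (algebraMap R C))) ⟶
        Over.mk (Spec.map (CommRingCat.ofHom (algebraMap R (Polynomial C)))))
      (_ : e.left = Spec.map (CommRingCat.ofHom (Polynomial.evalRingHom (0 : C)))),
      e = PatchLib.ptMap (PatchLib.sub₁ (AlgHom.id R C) 0) := fun C _ _ e he =>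
    Over.OverMorphism.ext (he.trans (congrArg Spec.map (congrArg CommRingCat.ofHom
      (Polynomial.ringHom_ext (fun c => by simp) (by simp)))))
  have keyt : ∀ (C : Type u) [CommRing C] [Algebra R C] [Algebra C B] [IsScalarTower R C B]
      (t : Over.mk (Spec.map (CommRingCat.ofHom (algebraMap R (Polynomial B)))) ⟶
        Over.mk (Spec.map (CommRingCat.ofHom (algebraMap R (Polynomial C)))))
      (_ : t.left = Spec.map (CommRingCat.ofHom (Polynomial.mapRingHom (algebraMap C B)))),
      t = PatchLib.ptMap (PatchLib.sub₁ (PatchLib.cst.comp (IsScalarTower.toAlgHom R C B))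
        (Polynomial.X : Polynomial B)) := fun C _ _ _ _ t ht =>
    Over.OverMorphism.ext (ht.trans (congrArg Spec.map (congrArg CommRingCat.ofHom
      (Polynomial.ringHom_ext (fun c => by simp) (by simp)))))
  rw [key B eB heB] at hg
  rw [key A eA heA, key A' eA' heA', keyt A tA htA, keyt A' tA' htA']
  exact PatchLib.exists_mul G hrr A A' B g hg

end Groth.Agent.S17855
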