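import Groth.Statements.S17856
import Mathlib
-- import your own Groth.Agent.* helpers here

set_option autoImplicit false
open CategoryTheory AlgebraicGeometry
universe u
open Algz

namespace Groth.Agent.S17856

open CategoryTheory CategoryTheory.Limits AlgebraicGeometry

section ring
variable {ι : Type u} {A : ι → CommRingCat.{u}}

/-- The pointwise powers of an element of a product of rings. -/
def powS (g : ∀ i, A i) : Submonoid (∀ i, A i) where
  carrier := {a | ∃ N : ι → ℕ, a = fun i => g i ^ N i}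
  one_mem' := ⟨fun _ => 0, by funext i; simp⟩
  mul_mem' := by
    rintro _ _ ⟨N, rfl⟩ ⟨M, rfl⟩
    exact ⟨fun i => N i + M i, by funext i; simp [pow_add]⟩

/-- The family of localizations. -/
abbrev lz (g : ∀ i, A i) (i : ι) : CommRingCat.{u} := CommRingCat.of (Localization.Away (g i))

/-- The map to the product of localizations. -/
def loc (g : ∀ i, A i) : (∀ i, A i) →+* (∀ i, lz g i) :=
  RingHom.pi fun i => (algebraMap (A i) (Localization.Away (g i))).comp
    (Pi.evalRingHom (fun j => (A j : Type u)) i)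

theorem isLocalization_loc (g : ∀ i, A i) :
    @IsLocalization _ _ (powS g) (∀ i, lz g i) _ (loc g).toAlgebra := by
  let := (loc g).toAlgebra
  rw [isLocalization_iff]
  refine ⟨?_, ?_, ?_⟩
  · rintro ⟨_, N, rfl⟩
    rw [Pi.isUnit_iff]
    intro i
    show IsUnit (algebraMap (A i) (Localization.Away (g i)) (g i ^ N i))
    rw [map_pow]
    exact (IsLocalization.Away.algebraMap_isUnit (g i)).pow _
  · intro z
    have h : ∀ i, ∃ (n : ℕ) (a : A i),
        z i * algebraMap (A i) (Localization.Away (g i)) (g i ^ n) = algebraMap _ _ a := fun i => by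
      obtain ⟨n, a, h⟩ := IsLocalization.Away.surj (g i) (z i)
      exact ⟨n, a, by rw [map_pow]; exact h⟩
    choose N a ha using h
    exact ⟨(a, ⟨fun i => g i ^ N i, N, rfl⟩), funext ha⟩
  · intro a b h
    have h' : ∀ i, ∃ n : ℕ, g i ^ n * a i = g i ^ n * b i := fun i => by
      obtain ⟨⟨_, n, rfl⟩, hn⟩ :=
        (IsLocalization.eq_iff_exists (Submonoid.powers (g i)) (Localization.Away (g i))).1
          (congrFun h i)
      exact ⟨n, hn⟩
    choose N hN using h'
    exact ⟨⟨fun i => g i ^ N i, N, rfl⟩, funext hN⟩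

theorem flat_loc (g : ∀ i, A i) : (loc g).Flat := by
  let := (loc g).toAlgebra
  have := isLocalization_loc g
  exact IsLocalization.flat (∀ i, lz g i) (powS g)

theorem isUnit_loc (g : ∀ i, A i) {a : ∀ i, A i} (ha : a ∈ powS g) : IsUnit (loc g a) := by
  let := (loc g).toAlgebra
  have := isLocalization_loc g
  exact IsLocalization.map_units (M := powS g) (∀ i, lz g i) ⟨a, ha⟩

theorem loc_lift (g : ∀ i, A i) {C : Type u} [CommRing C] (γ : (∀ i, A i) →+* C)
    (h : ∀ a ∈ powS g, IsUnit (γ a)) : ∃ μ : (∀ i, lz g i) →+* C, μ.comp (loc g) = γ := by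
  let := (loc g).toAlgebra
  have := isLocalization_loc g
  exact ⟨IsLocalization.lift (M := powS g) (fun a => h a.1 a.2), IsLocalization.lift_comp _⟩

theorem loc_ext (g : ∀ i, A i) {C : Type u} [CommRing C] (α β : (∀ i, lz g i) →+* C)
    (h : α.comp (loc g) = β.comp (loc g)) : α = β := by
  let := (loc g).toAlgebra
  have := isLocalization_loc g
  exact IsLocalization.ringHom_ext (powS g) h

theorem exists_prime {n : Type u} [Fintype n] (g : n → ∀ i, A i)
    (hg : ∀ i, Ideal.span (Set.range fun j => g j i) = ⊤) (P : PrimeSpectrum (∀ i, A i)) :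
    ∃ j, ∃ Q : PrimeSpectrum (∀ i, lz (g j) i), PrimeSpectrum.comap (loc (g j)) Q = P := by
  classical
  by_contra hne
  push Not at hne
  have hmeet : ∀ j, ∃ N : ι → ℕ, (fun i => g j i ^ N i) ∈ P.asIdeal := by
    intro j
    let := (loc (g j)).toAlgebra
    have := isLocalization_loc (g j)
    by_contra h
    push Not at h
    obtain ⟨Q, hQ⟩ : P ∈ Set.range (PrimeSpectrum.comap (algebraMap (∀ i, A i) (∀ i, lz (g j) i))) := by
      rw [PrimeSpectrum.localization_comap_range (∀ i, lz (g j) i) (powS (g j))]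
      rw [Set.mem_ofPred_eq, Set.disjoint_left]
      rintro _ ⟨N, rfl⟩ hmem
      exact h N hmem
    exact hne j Q hQ
  choose N hN using hmeet
  let M : ι → ℕ := fun i => Finset.univ.sup fun j => N j i
  have hc : ∀ i, ∃ c : n → A i, ∑ j, c j * g j i ^ M i = 1 := fun i => by
    have h := Ideal.span_pow_eq_top _ (hg i) (M i)
    rw [← Set.range_comp, Ideal.eq_top_iff_one, Ideal.mem_span_range_iff_exists_fun] at h
    exact h
  choose c hc using hc
  apply P.2.ne_top
  rw [Ideal.eq_top_iff_one]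
  have : (1 : ∀ i, A i) = ∑ j, (fun i => c i j * g j i ^ (M i - N j i)) * (fun i => g j i ^ N j i) := by
    funext i
    rw [Finset.sum_apply, Pi.one_apply, ← hc i]
    refine Finset.sum_congr rfl fun j _ => ?_
    rw [Pi.mul_apply, mul_assoc, ← pow_add,
      Nat.sub_add_cancel (Finset.le_sup (f := fun j => N j i) (Finset.mem_univ j))]
  rw [this]
  exact Ideal.sum_mem _ fun j _ => P.asIdeal.mul_mem_left _ (hN j)

end ring

theorem exists_covering_elts {n : Type u} [Fintype n] {R : CommRingCat.{u}}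
    (V : n → (Spec R).Opens) (hV : ∀ p, ∃ j, p ∈ V j) :
    ∃ g : n → R, Ideal.span (Set.range g) = ⊤ ∧
      ∀ (j : n) (p : PrimeSpectrum R), g j ∉ p.asIdeal → (show (Spec R : Scheme.{u}) from p) ∈ V j := by
  classical
  choose s hs using fun j => (PrimeSpectrum.isOpen_iff (R := R) (V j).carrier).1 (V j).2
  have h1 : (1 : R) ∈ ⨆ j, Ideal.span (s j) := by
    by_contra h
    obtain ⟨m, hm, hle⟩ := Ideal.exists_le_maximal (⨆ j, Ideal.span (s j))
      (fun e => h (e ▸ Submodule.mem_top))
    obtain ⟨j, hj⟩ := hV (⟨m, hm.isPrime⟩ : PrimeSpectrum R)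
    have hz : (⟨m, hm.isPrime⟩ : PrimeSpectrum R) ∈ PrimeSpectrum.zeroLocus (s j) := fun r hr =>
      hle (le_iSup (fun j => Ideal.span (s j)) j (Ideal.subset_span hr))
    have hz' : (⟨m, hm.isPrime⟩ : PrimeSpectrum R) ∈ ((V j).carrier)ᶜ := (hs j).symm ▸ hz
    exact hz' hj
  obtain ⟨c, hc, hsum⟩ := (Submodule.mem_iSup_iff_exists_finsupp _ _).1 h1
  refine ⟨fun j => c j, ?_, fun j p hp => ?_⟩
  · rw [Ideal.eq_top_iff_one, ← hsum]
    exact Ideal.sum_mem _ fun j _ => Ideal.subset_span ⟨j, rfl⟩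
  · by_contra hpV
    have hz : p ∈ PrimeSpectrum.zeroLocus (s j) := (hs j) ▸ hpV
    exact hp (Ideal.span_le.2 hz (hc j))

theorem exists_lift (X : Scheme.{u}) [CompactSpace X] [QuasiSeparatedSpace X] {ι : Type u}
    (A : ι → CommRingCat.{u}) (f : ∀ i, Spec (A i) ⟶ X) :
    ∃ F : Spec (CommRingCat.of (∀ i, A i)) ⟶ X, pointsPi A X F = f := by
  classical
  let 𝒰 : X.OpenCover := X.affineCover.finiteSubcover
  let := Fintype.ofFinite 𝒰.I₀
  choose g hg hgV using fun i => exists_covering_elts (fun j => f i ⁻¹ᵁ (𝒰.f j).opensRange)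
    (fun p => ⟨_, 𝒰.covers (f i p)⟩)
  let G : 𝒰.I₀ → ∀ i, A i := fun j i => g i j
  let al : ∀ j i, Spec (lz (G j) i) ⟶ Spec (A i) := fun j i =>
    Spec.map (CommRingCat.ofHom (algebraMap (A i) (Localization.Away (G j i))))
  have hal : ∀ j i, Set.range (al j i ≫ f i) ⊆ Set.range (𝒰.f j) := by
    intro j i
    rintro _ ⟨q, rfl⟩
    refine hgV i j (PrimeSpectrum.comap (algebraMap (A i) (Localization.Away (G j i))) q) ?_
    exact (PrimeSpectrum.localization_away_comap_range (Localization.Away (G j i)) (G j i)).subset ⟨q, rfl⟩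
  choose φ hφ using fun j => pointsPi_surjective_of_isAffine (lz (G j)) (𝒰.X j)
    (fun i => IsOpenImmersion.lift (𝒰.f j) (al j i ≫ f i) (hal j i))
  simp only [funext_iff, pointsPi] at hφ
  let W : 𝒰.I₀ → Scheme.{u} := fun j => Spec (CommRingCat.of (∀ i, lz (G j) i))
  let ψ : ∀ j, W j ⟶ X := fun j => φ j ≫ 𝒰.f j
  have hψ : ∀ j i, Spec.map (CommRingCat.ofHom (Pi.evalRingHom (fun i => (lz (G j) i : Type u)) i)) ≫
      ψ j = al j i ≫ f i := fun j i => by
    rw [← Category.assoc, hφ, IsOpenImmersion.lift_fac]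
  let p : ∀ j, W j ⟶ Spec (CommRingCat.of (∀ i, A i)) := fun j =>
    Spec.map (CommRingCat.ofHom (loc (G j)))
  let π := Sigma.desc p
  haveI : Flat π := IsZariskiLocalAtSource.sigmaDesc fun j =>
    (HasRingHomProperty.Spec_iff (P := @Flat)).2 (flat_loc (G j))
  haveI : Surjective π := ⟨fun P => by
    obtain ⟨j, Q, hQ⟩ := exists_prime G hg P
    refine ⟨Sigma.ι W j Q, ?_⟩
    rw [← Scheme.Hom.comp_apply, Sigma.ι_desc]
    exact hQ⟩
  haveI : QuasiCompact π := inferInstance
  have loc_agree : ∀ (j k : 𝒰.I₀) (C : CommRingCat.{u}) (a : Spec C ⟶ W j) (b : Spec C ⟶ W k),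
      a ≫ p j = b ≫ p k → a ≫ ψ j = b ≫ ψ k := by
    intro j k C a b hab
    obtain ⟨α, rfl⟩ := Spec.map_surjective a
    obtain ⟨β, rfl⟩ := Spec.map_surjective b
    simp only [p, ← Spec.map_comp] at hab
    have hab' := congrArg CommRingCat.Hom.hom (Spec.map_injective hab)
    simp only [CommRingCat.hom_comp, CommRingCat.hom_ofHom] at hab'
    let M : ∀ i, A i := fun i => G j i * G k i
    have hu : ∀ a ∈ powS M, IsUnit ((α.hom.comp (loc (G j))) a) := by
      rintro _ ⟨N, rfl⟩
      rw [show (fun i => M i ^ N i) = (fun i => G j i ^ N i) * (fun i => G k i ^ N i) from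
        funext fun i => mul_pow _ _ _, map_mul]
      refine IsUnit.mul ((isUnit_loc (G j) ⟨N, rfl⟩).map α.hom) ?_
      rw [hab']
      exact (isUnit_loc (G k) ⟨N, rfl⟩).map β.hom
    obtain ⟨μ, hμ⟩ := loc_lift M _ hu
    have hM : ∀ i, IsUnit (algebraMap (A i) (Localization.Away (M i)) (G j i)) ∧
        IsUnit (algebraMap (A i) (Localization.Away (M i)) (G k i)) := fun i =>
      IsUnit.mul_iff.1 (map_mul (algebraMap (A i) (Localization.Away (M i))) (G j i) (G k i) ▸
        IsLocalization.Away.algebraMap_isUnit (M i))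
    let tj : ∀ i, lz (G j) i →+* lz M i := fun i => IsLocalization.Away.lift (G j i) (hM i).1
    let tk : ∀ i, lz (G k) i →+* lz M i := fun i => IsLocalization.Away.lift (G k i) (hM i).2
    let θj : (∀ i, lz (G j) i) →+* (∀ i, lz M i) :=
      RingHom.pi fun i => (tj i).comp (Pi.evalRingHom _ i)
    let θk : (∀ i, lz (G k) i) →+* (∀ i, lz M i) :=
      RingHom.pi fun i => (tk i).comp (Pi.evalRingHom _ i)
    have hθj : θj.comp (loc (G j)) = loc M := RingHom.ext fun a => funext fun i =>
      IsLocalization.Away.lift_eq (G j i) (hM i).1 (a i)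
    have hθk : θk.comp (loc (G k)) = loc M := RingHom.ext fun a => funext fun i =>
      IsLocalization.Away.lift_eq (G k i) (hM i).2 (a i)
    have e1 : α.hom = μ.comp θj := loc_ext _ _ _ (by rw [RingHom.comp_assoc, hθj, hμ])
    have e2 : β.hom = μ.comp θk := loc_ext _ _ _ (by rw [RingHom.comp_assoc, hθk, hμ, hab'])
    have key : Spec.map (CommRingCat.ofHom θj) ≫ ψ j = Spec.map (CommRingCat.ofHom θk) ≫ ψ k := by
      refine pointsPi_injective (lz M) X (funext fun i => ?_)
      have h1 : CommRingCat.ofHom θj ≫ CommRingCat.ofHom (Pi.evalRingHom (fun i => (lz M i : Type u)) i) =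
          CommRingCat.ofHom (Pi.evalRingHom (fun i => (lz (G j) i : Type u)) i) ≫ CommRingCat.ofHom (tj i) := rfl
      have h2 : CommRingCat.ofHom θk ≫ CommRingCat.ofHom (Pi.evalRingHom (fun i => (lz M i : Type u)) i) =
          CommRingCat.ofHom (Pi.evalRingHom (fun i => (lz (G k) i : Type u)) i) ≫ CommRingCat.ofHom (tk i) := rfl
      simp only [pointsPi, ← Category.assoc, ← Spec.map_comp]
      rw [h1, h2, Spec.map_comp, Spec.map_comp, Category.assoc, Category.assoc, hψ, hψ]
      simp only [al, ← Category.assoc, ← Spec.map_comp, ← CommRingCat.ofHom_comp, tj, tk,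
        IsLocalization.Away.lift_comp]
    have ea : α = CommRingCat.ofHom θj ≫ CommRingCat.ofHom μ := CommRingCat.hom_ext e1
    have eb : β = CommRingCat.ofHom θk ≫ CommRingCat.ofHom μ := CommRingCat.hom_ext e2
    rw [ea, eb, Spec.map_comp, Spec.map_comp, Category.assoc, Category.assoc, key]
  have cond : ∀ {Z : Scheme.{u}} (a b : Z ⟶ ∐ W), a ≫ π = b ≫ π →
      a ≫ Sigma.desc ψ = b ≫ Sigma.desc ψ := by
    intro Z a b hab
    have hloc : ∀ z : Z, ∃ (U : Z.Opens), z ∈ U ∧ U.ι ≫ a ≫ Sigma.desc ψ = U.ι ≫ b ≫ Sigma.desc ψ := by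
      intro z
      obtain ⟨j, wj, hwj⟩ := (sigmaOpenCover W).exists_eq (a z)
      obtain ⟨k, wk, hwk⟩ := (sigmaOpenCover W).exists_eq (b z)
      obtain ⟨U, hU, hzU, hUle⟩ := exists_isAffineOpen_mem_and_subset (x := z)
        (U := a ⁻¹ᵁ (Sigma.ι W j).opensRange ⊓ b ⁻¹ᵁ (Sigma.ι W k).opensRange)
        ⟨⟨wj, hwj⟩, ⟨wk, hwk⟩⟩
      refine ⟨U, hzU, ?_⟩
      have ha : Set.range (hU.fromSpec ≫ a) ⊆ Set.range (Sigma.ι W j) := by
        rintro _ ⟨x, rfl⟩
        exact (hUle (hU.range_fromSpec.subset ⟨x, rfl⟩)).1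
      have hb : Set.range (hU.fromSpec ≫ b) ⊆ Set.range (Sigma.ι W k) := by
        rintro _ ⟨x, rfl⟩
        exact (hUle (hU.range_fromSpec.subset ⟨x, rfl⟩)).2
      let a' := IsOpenImmersion.lift (Sigma.ι W j) (hU.fromSpec ≫ a) ha
      let b' := IsOpenImmersion.lift (Sigma.ι W k) (hU.fromSpec ≫ b) hb
      have ha' : a' ≫ Sigma.ι W j = hU.fromSpec ≫ a := IsOpenImmersion.lift_fac _ _ _
      have hb' : b' ≫ Sigma.ι W k = hU.fromSpec ≫ b := IsOpenImmersion.lift_fac _ _ _
      have h := loc_agree j k _ a' b' (by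
        have := congrArg (hU.fromSpec ≫ ·) hab
        simp only [← Category.assoc, ← ha', ← hb'] at this
        simpa [π] using this)
      have h' : hU.fromSpec ≫ a ≫ Sigma.desc ψ = hU.fromSpec ≫ b ≫ Sigma.desc ψ := by
        rw [← Category.assoc, ← Category.assoc, ← ha', ← hb']
        simpa using h
      rw [← IsAffineOpen.isoSpec_hom_fromSpec hU, Category.assoc, h', Category.assoc]
    choose U hzU hU using hloc
    exact (Z.openCoverOfIsOpenCover U (TopologicalSpace.IsOpenCover.mk (top_le_iff.1 fun z _ =>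
      TopologicalSpace.Opens.mem_iSup.2 ⟨z, hzU z⟩))).hom_ext _ _ hU
  let F : Spec (CommRingCat.of (∀ i, A i)) ⟶ X := EffectiveEpi.desc π (Sigma.desc ψ) (fun a b h => cond a b h)
  have hF : π ≫ F = Sigma.desc ψ := EffectiveEpi.fac _ _ _
  have hFj : ∀ j, p j ≫ F = ψ j := fun j => by
    rw [show p j = Sigma.ι W j ≫ π from (Sigma.ι_desc _ _).symm, Category.assoc, hF, Sigma.ι_desc]
  refine ⟨F, funext fun i => ?_⟩
  apply ((Scheme.affineOpenCoverOfSpanRangeEqTop (g i) (hg i)).openCover).hom_ext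
  intro j
  show al j i ≫ pointsPi A X F i = al j i ≫ f i
  rw [← hψ j i, ← hFj j]
  simp only [pointsPi, al, p, ← Category.assoc, ← Spec.map_comp]
  rfl

/-- Let `X` be a quasi-compact quasi-separated scheme and `A i` an arbitrary family of commutative
rings. Sending a morphism from the spectrum of the product ring to `X` to the family of its
composites with the morphisms `Spec (A i) ⟶ Spec (∏ A i)` induced by the projections is a bijection
onto the set of all families of morphisms `Spec (A i) ⟶ X`. (Both quasi-compactness and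
quasi-separatedness of `X` are needed.) -/
theorem result (X : Scheme.{u}) [CompactSpace X] [QuasiSeparatedSpace X]
    {ι : Type u} (A : ι → CommRingCat.{u}) :
    Function.Bijective (fun f : Spec (CommRingCat.of (∀ i, A i)) ⟶ X =>
      fun i : ι => Spec.map (CommRingCat.ofHom (Pi.evalRingHom (fun j => (A j : Type u)) i)) ≫ f) := by
  refine ⟨pointsPi_injective A X, fun f => ?_⟩
  exact exists_lift X A f

end Groth.Agent.S17856
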