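import Groth.Statements.S17858
import Mathlib
import Groth.Agent.AlgzCohLib.PiSections
-- import your own Groth.Agent.* helpers here

set_option autoImplicit false
open CategoryTheory AlgebraicGeometry
universe u
open Algz

namespace Groth.Agent.S17858

/-- Let `j : W ⟶ Y` be a quasi-affine morphism of quasi-compact quasi-separated schemes. There is a
natural number `m` such that for every commutative ring `B` and every morphism `Spec B ⟶ Y`, the
fibre product `W ×_Y Spec B` is the union of `m` affine open subschemes. -/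
theorem result {W Y : Scheme.{u}} (j : W ⟶ Y)
    [CompactSpace W] [QuasiSeparatedSpace W] [CompactSpace Y] [QuasiSeparatedSpace Y]
    (hj : Mor2.IsQuasiAffine j) :
    ∃ m : ℕ, ∀ (B : CommRingCat.{u}) (g : Spec B ⟶ Y),
      ∃ U : Fin m → (Limits.pullback j g).Opens, (∀ k, IsAffineOpen (U k)) ∧ ⨆ k, U k = ⊤ := by
  classical
  have key' : ∀ y : Y, ∃ V : Y.Opens, IsAffineOpen V ∧ y ∈ V := fun y => by
    obtain ⟨V, hV, hy, -⟩ := exists_isAffineOpen_mem_and_subset (X := Y) (x := y) (U := ⊤) trivial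
    exact ⟨V, hV, hy⟩
  choose V₁ hV₁ hyV₁ using key'
  obtain ⟨τ, hτ⟩ := isCompact_univ.elim_finite_subcover (fun y => (V₁ y : Set Y)) (fun y => (V₁ y).2)
    (fun y _ => Set.mem_iUnion_of_mem y (hyV₁ y))
  -- over each member of the cover of `Y`, a finite affine cover of the preimage
  have hc : ∀ y : Y, IsCompact (j ⁻¹ᵁ (V₁ y) : Set W) := fun y =>
    hj.1.isCompact_preimage _ (V₁ y).2 (hV₁ y).isCompact
  have hfin : ∀ y : Y, ∃ s : Set W.affineOpens, s.Finite ∧
      (j ⁻¹ᵁ (V₁ y) : Set W) = ⋃ U ∈ s, ((U : W.Opens) : Set W) := fun y =>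
    isCompact_and_isOpen_iff_finite_and_eq_biUnion_affineOpens.mp ⟨hc y, (j ⁻¹ᵁ (V₁ y)).2⟩
  choose s hs he using hfin
  let ι := Σ y : τ, (hs y.1).toFinset
  refine ⟨Fintype.card ι, fun B g => ?_⟩
  obtain ⟨b, hb, hble⟩ := AlgzCohLib.exists_split_one (fun a : Fin τ.card => g ⁻¹ᵁ V₁ (τ.equivFin.symm a).1) (by
    refine eq_top_iff.mpr fun p _ => ?_
    obtain ⟨y, hy, hp⟩ := Set.mem_iUnion₂.mp (hτ (Set.mem_univ (g p)))
    refine TopologicalSpace.Opens.mem_iSup.mpr ⟨τ.equivFin ⟨y, hy⟩, ?_⟩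
    change g p ∈ V₁ _
    simp only [Equiv.symm_apply_apply]
    exact hp)
  let D : τ → (Spec B).Opens := fun y => (Spec B).basicOpen (b (τ.equivFin y))
  have hD : ∀ y : τ, D y ≤ g ⁻¹ᵁ V₁ y.1 := fun y => by
    have h := hble (τ.equivFin y)
    simp only [Equiv.symm_apply_apply] at h
    exact h
  let O : ι → (Limits.pullback j g).Opens := fun p =>
    Limits.pullback.fst j g ⁻¹ᵁ (p.2.1 : W.Opens) ⊓ Limits.pullback.snd j g ⁻¹ᵁ D p.1
  refine ⟨fun k => O ((Fintype.equivFin ι).symm k), fun k => ?_, eq_top_iff.mpr fun x _ => ?_⟩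
  · show IsAffineOpen (O ((Fintype.equivFin ι).symm k))
    generalize (Fintype.equivFin ι).symm k = p
    obtain ⟨y, U, hU⟩ := p
    rw [Set.Finite.mem_toFinset] at hU
    have hUV : (U : W.Opens) ≤ j ⁻¹ᵁ V₁ y.1 := fun w hw => by
      change w ∈ (j ⁻¹ᵁ (V₁ y.1) : Set W)
      rw [he]
      exact Set.mem_biUnion hU hw
    exact AlgzCohLib.isAffineOpen_pullback_inf (f := j) (g := g) U.2 ((isAffineOpen_top (Spec B)).basicOpen _) (hV₁ y.1) hUV (hD y)
  · have hz : Limits.pullback.snd j g x ∈ (⨆ a, (Spec B).basicOpen (b a) : (Spec B).Opens) := by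
      have e : (⨆ r : Set.range b, (Spec B).basicOpen (r : Γ(Spec B, ⊤))) = ⊤ :=
        ((isAffineOpen_top (Spec B)).iSup_basicOpen_eq_self_iff).mpr hb
      have hm : Limits.pullback.snd j g x ∈ (⨆ r : Set.range b, (Spec B).basicOpen (r : Γ(Spec B, ⊤))) := by rw [e]; trivial
      obtain ⟨⟨_, a, rfl⟩, ha⟩ := TopologicalSpace.Opens.mem_iSup.mp hm
      exact TopologicalSpace.Opens.mem_iSup.mpr ⟨a, ha⟩
    obtain ⟨a, ha⟩ := TopologicalSpace.Opens.mem_iSup.mp hz
    let y : τ := τ.equivFin.symm a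
    have hw : Limits.pullback.fst j g x ∈ (j ⁻¹ᵁ (V₁ y.1) : Set W) := by
      change (Limits.pullback.fst j g ≫ j) x ∈ V₁ y.1
      rw [Limits.pullback.condition]
      exact hble a ha
    rw [he] at hw
    obtain ⟨U, hU, hxU⟩ := Set.mem_iUnion₂.mp hw
    refine TopologicalSpace.Opens.mem_iSup.mpr ⟨Fintype.equivFin ι ⟨y, U, (hs y.1).mem_toFinset.mpr hU⟩, ?_⟩
    simp only [Equiv.symm_apply_apply, O]
    refine ⟨hxU, ?_⟩
    change Limits.pullback.snd j g x ∈ (Spec B).basicOpen (b (τ.equivFin y))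
    simpa [y] using ha

end Groth.Agent.S17858
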