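import Groth.Statements.S17859
import Mathlib.RingTheory.Finiteness.Projective
import Mathlib.LinearAlgebra.Contraction
-- import your own Groth.Agent.* helpers here

set_option autoImplicit false
open CategoryTheory MonoidalCategory
universe u
open Algz

namespace Groth.Agent.S17859

/-- Over an affine scheme, that is for modules over a commutative ring `R`, a finitely generated
projective `R`-module `M`, viewed as an object of the monoidal category of `R`-modules (tensor
product over `R`), has a right dual. (The published statement is the equivalence, for quasi-coherent
sheaves on a quasi-compact quasi-separated scheme, between being dualizable and being a vector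
bundle; stated here is the affine case of the implication from vector bundle to dualizable. The
converse implication, that a module admitting a dual is finitely generated projective, is stated
separately and is not repeated here.) -/
theorem result (R : Type u) [CommRing R] (M : ModuleCat.{u} R)
    [Module.Finite R M] [Module.Projective R M] : Nonempty (HasRightDual M) := by
  obtain ⟨n, f, g, -, -, hfg⟩ := Module.Finite.exists_comp_eq_id_of_projective R M
  have key : ∀ v : M, ∑ i, g v i • f (Pi.single i 1) = v := fun v => by
    conv_rhs => rw [← LinearMap.id_apply (R := R) v, ← hfg, LinearMap.comp_apply,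
      pi_eq_sum_univ' (g v), map_sum]
    simp
  let φ : Fin n → Module.Dual R M := fun i => (LinearMap.proj i).comp g
  let e : Fin n → M := fun i => f (Pi.single i 1)
  let D : ModuleCat.{u} R := ModuleCat.of R (Module.Dual R M)
  let coev : R →ₗ[R] TensorProduct R M (Module.Dual R M) :=
    LinearMap.toSpanSingleton R _ (∑ i, e i ⊗ₜ[R] φ i)
  let c : 𝟙_ (ModuleCat.{u} R) ⟶ M ⊗ D := ModuleCat.ofHom coev
  let ε : D ⊗ M ⟶ 𝟙_ (ModuleCat.{u} R) := ModuleCat.ofHom (contractLeft R M)
  have h1 : (contractLeft R M).rTensor _ ∘ₗ
      (TensorProduct.assoc R _ _ _).symm.toLinearMap ∘ₗ coev.lTensor (Module.Dual R M) =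
      (TensorProduct.lid R _).symm.toLinearMap ∘ₗ (TensorProduct.rid R _).toLinearMap := by
    apply TensorProduct.ext'
    intro ψ r
    apply (TensorProduct.lid R (Module.Dual R M)).injective
    simp only [LinearMap.coe_comp, Function.comp_apply, LinearEquiv.coe_coe,
      LinearMap.lTensor_tmul, coev, LinearMap.toSpanSingleton_apply, TensorProduct.tmul_smul,
      TensorProduct.tmul_sum, map_smul, map_sum, TensorProduct.assoc_symm_tmul,
      LinearMap.rTensor_tmul, contractLeft_apply, TensorProduct.lid_tmul,
      TensorProduct.rid_tmul, LinearEquiv.apply_symm_apply]
    congr 1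
    ext v
    conv_rhs => rw [← key v, map_sum]
    simp [e, φ, mul_comm]
  have h2 : (contractLeft R M).lTensor _ ∘ₗ
      (TensorProduct.assoc R _ _ _).toLinearMap ∘ₗ coev.rTensor M =
      (TensorProduct.rid R _).symm.toLinearMap ∘ₗ (TensorProduct.lid R _).toLinearMap := by
    apply TensorProduct.ext'
    intro r v
    apply (TensorProduct.rid R M).injective
    simp only [LinearMap.coe_comp, Function.comp_apply, LinearEquiv.coe_coe,
      LinearMap.rTensor_tmul, coev, LinearMap.toSpanSingleton_apply, ← TensorProduct.smul_tmul',
      TensorProduct.sum_tmul, map_smul, map_sum, TensorProduct.assoc_tmul,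
      LinearMap.lTensor_tmul, contractLeft_apply, TensorProduct.lid_tmul,
      TensorProduct.rid_tmul, LinearEquiv.apply_symm_apply]
    congr 1
    exact key v
  letI : ExactPairing M D :=
    { coevaluation' := c
      evaluation' := ε
      coevaluation_evaluation' := by
        ext : 1
        exact h1
      evaluation_coevaluation' := by
        ext : 1
        exact h2 }
  exact ⟨⟨D⟩⟩

end Groth.Agent.S17859
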