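import Groth.Statements.S17860
import Groth.Agent.QCohLib.SerreCrit
import Groth.Agent.QCohLib.QCoh
import Groth.Agent.QCohLib.Gen
-- import your own Groth.Agent.* helpers here

set_option autoImplicit false
open CategoryTheory AlgebraicGeometry
universe u
open Algz

namespace Groth.Agent.S17860

open CategoryTheory CategoryTheory.Limits AlgebraicGeometry TopologicalSpace Opposite

theorem app_surjective {X : Scheme.{u}} {M N : X.Modules} (φ : M ⟶ N) [Epi φ] [Coh.IsQCoh M]
    [Coh.IsQCoh N] {U : X.Opens} (hU : IsAffineOpen U) : Function.Surjective (φ.app U) := by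
  have hS : (ShortComplex.mk _ _ (kernel.condition φ)).ShortExact :=
    { exact := ShortComplex.exact_of_f_is_kernel _ (kernelIsKernel φ) }
  have : Coh.IsQCoh (ShortComplex.mk _ _ (kernel.condition φ)).X₁ := QCohLib.isQCoh_kernel φ
  exact QCohLib.app_surjective_of_affine hS hU

theorem free_span {X : Scheme.{u}} (n : ℕ) (V : X.Opens) (e : Γ(FlatMod.freeMod X n, V)) :
    ∃ c : Fin n → Γ(X, V), e = ∑ j, c j •
      (Sigma.ι (fun _ : Fin n => Coh.structureModule X) j).app V (1 : Γ(X, V)) := by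
  classical
  let L := fun _ : Fin n => Coh.structureModule X
  let π : ∀ j, FlatMod.freeMod X n ⟶ Coh.structureModule X := fun j =>
    Sigma.desc fun i => if i = j then 𝟙 _ else 0
  have hid : ∑ j, π j ≫ Sigma.ι L j = 𝟙 (∐ L) := by
    refine Sigma.hom_ext _ _ fun i => ?_
    rw [Preadditive.comp_sum, Finset.sum_eq_single i]
    · simp [π]; rfl
    · intro j _ hj
      rw [Sigma.ι_desc_assoc, if_neg hj.symm, zero_comp]
    · simp
  refine ⟨fun j => (π j).app V e, ?_⟩
  let ev : (∐ L ⟶ ∐ L) →+ Γ(∐ L, V) :=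
    AddMonoidHom.mk' (fun f => f.app V e) fun f g => rfl
  refine (congrArg ev hid).symm.trans ?_
  rw [map_sum]
  refine Finset.sum_congr rfl fun j _ => ?_
  change (Sigma.ι L j).app V ((π j).app V e) = _
  let r : Γ(X, V) := (π j).app V e
  refine Eq.trans ?_ (QCohLib.app_smul (Sigma.ι L j) V r (1 : Γ(X, V)))
  exact congrArg _ (mul_one r).symm

theorem local_gens {R : CommRingCat.{u}} (M : ModuleCat.{u} R) (n : ℕ) (U : (Spec R).Opens)
    (φ : FlatMod.freeMod (↑U) n ⟶ (AlgebraicGeometry.tilde M).restrict U.ι) [Epi φ]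
    {D : (Spec R).Opens} (hD : IsAffineOpen D) (hDU : D ≤ U) :
    ∃ σ : Fin n → Γ(AlgebraicGeometry.tilde M, D), ∀ (N : (Spec R).Modules)
      (q : AlgebraicGeometry.tilde M ⟶ N), (∀ j, q.app D (σ j) = 0) → ∀ t, q.app D t = 0 := by
  obtain ⟨D', hD', rfl⟩ : ∃ D' : (U : Scheme.{u}).Opens, IsAffineOpen D' ∧ U.ι ''ᵁ D' = D := by
    refine ⟨U.ι ⁻¹ᵁ D, hD.preimage_of_isOpenImmersion U.ι (by simpa using hDU), ?_⟩
    rw [Scheme.Hom.image_preimage_eq_opensRange_inf, Scheme.Opens.opensRange_ι]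
    exact inf_eq_right.mpr hDU
  have : Coh.IsQCoh (AlgebraicGeometry.tilde M) := inferInstanceAs (tilde M).IsQuasicoherent
  have : Coh.IsQCoh ((AlgebraicGeometry.tilde M).restrict U.ι) := inferInstance
  have : Coh.IsQCoh (FlatMod.freeMod (↑U) n) :=
    QCohLib.isQCoh_of_isColimit (fun _ => inferInstance) (fun _ => QCohLib.isQCoh_unit)
      (colimit.isColimit _)
  refine ⟨fun j => φ.app D' ((Sigma.ι (fun _ : Fin n => Coh.structureModule (↑U : Scheme.{u})) j).app D'
    (1 : Γ(U, D'))), fun N q hq t => ?_⟩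
  obtain ⟨e, rfl⟩ := app_surjective φ hD' t
  obtain ⟨c, rfl⟩ := free_span n D' e
  refine (congrArg (q.app _) (map_sum (φ.app D').hom _ _)).trans ?_
  refine (map_sum (q.app (U.ι ''ᵁ D')).hom _ _).trans ?_
  refine Finset.sum_eq_zero fun j _ => ?_
  refine (congrArg (q.app _) (QCohLib.app_smul φ D' _ _)).trans ?_
  refine (QCohLib.app_smul q (U.ι ''ᵁ D') _ _).trans ?_
  rw [hq j, smul_zero]

theorem step (R : CommRingCat.{u}) (M : ModuleCat.{u} R) (n : ℕ) (U : (Spec R).Opens)
    (φ : FlatMod.freeMod (↑U) n ⟶ (AlgebraicGeometry.tilde M).restrict U.ι) [Epi φ]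
    (g : R) (hg : PrimeSpectrum.basicOpen g ≤ U) :
    ∃ a : Fin n → M, ∀ x : M, ∃ k : ℕ, g ^ k • x ∈ Submodule.span R (Set.range a) := by
  let D : (Spec R).Opens := PrimeSpectrum.basicOpen g
  obtain ⟨σ, hσ⟩ := local_gens M n U φ (D := D) (IsAffineOpen.Spec_basicOpen g) hg
  choose ak hak using fun j =>
    IsLocalizedModule.surj (Submonoid.powers g) (tilde.toOpen M D).hom (σ j)
  let a : Fin n → M := fun j => (ak j).1
  refine ⟨a, fun x => ?_⟩
  let P : Submodule R M := Submodule.span R (Set.range a)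
  let π : M ⟶ ModuleCat.of R (M ⧸ P) := ModuleCat.ofHom P.mkQ
  let q : AlgebraicGeometry.tilde M ⟶ AlgebraicGeometry.tilde (ModuleCat.of R (M ⧸ P)) :=
    tilde.map π
  let qD := ((modulesSpecToSheaf.map q).1.app (op D)).hom
  have hcomm : ∀ y, qD ((tilde.toOpen M D).hom y) = (tilde.toOpen _ D).hom (π.hom y) :=
    fun y => congr($(tilde.toOpen_map_app π D).hom y)
  have hz : ∀ j, qD (σ j) = 0 := fun j => by
    obtain ⟨k, hk⟩ := (ak j).2.2
    have h1 : qD (((ak j).2 : R) • σ j) = 0 := by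
      refine (congrArg qD (hak j)).trans ?_
      rw [hcomm, show π.hom (ak j).1 = 0 from (Submodule.Quotient.mk_eq_zero P).mpr
        (Submodule.subset_span ⟨j, rfl⟩), map_zero]
    have h1' := (qD.map_smul ((ak j).2 : R) (σ j)).symm.trans h1
    have hle : D ≤ PrimeSpectrum.basicOpen ((ak j).2 : R) := fun p hp hmem => hp (by
      rw [← hk] at hmem
      exact p.2.mem_of_pow_mem k hmem)
    exact ((AlgebraicGeometry.tilde (ModuleCat.of R (M ⧸ P))).isSMulRegular_of_le_basicOpen hle)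
      (h1'.trans (smul_zero _).symm)
  have h := hσ _ q hz ((tilde.toOpen M D).hom x)
  have h' : (tilde.toOpen _ D).hom (π.hom x) = 0 := (hcomm x).symm.trans h
  obtain ⟨⟨_, k, rfl⟩, hk⟩ :=
    (IsLocalizedModule.eq_zero_iff (Submonoid.powers g) (tilde.toOpen _ D).hom).mp h'
  refine ⟨k, (Submodule.Quotient.mk_eq_zero P).mp ?_⟩
  exact (Submodule.Quotient.mk_smul P (g ^ k) x).trans hk

/-- Let `R` be a commutative ring and `M` a finite `R`-module. Suppose `Spec R` is covered by opens `U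
0, …, U (m-1)` (not necessarily affine) such that over each `U i` the restriction of the associated
sheaf of modules `M~` is a quotient of the free module of rank `n` (it is generated by `n` sections
over `U i`). Then `M` is generated by `n * m` elements. -/
theorem result (R : CommRingCat.{u}) (M : ModuleCat.{u} R)
    [Module.Finite R M] (n m : ℕ) (U : Fin m → (Spec R).Opens) (hU : ⨆ i, U i = ⊤)
    (hgen : ∀ i, ∃ φ : FlatMod.freeMod (↑(U i)) n ⟶ (AlgebraicGeometry.tilde M).restrict (U i).ι, Epi φ) :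
    ∃ s : Fin (n * m) → M, Submodule.span R (Set.range s) = ⊤ := by
  classical
  have hI : ∀ i, ∃ I : Ideal R, (SetLike.coe (U i) : Set (PrimeSpectrum R))ᶜ = PrimeSpectrum.zeroLocus (I : Set R) :=
    fun i => ((PrimeSpectrum.isClosed_iff_zeroLocus_ideal _).mp (U i).2.isClosed_compl)
  choose I hI using hI
  have htop : ⨆ i, I i = ⊤ := by
    by_contra hne
    obtain ⟨p, hp, hle⟩ := Ideal.exists_le_maximal _ hne
    have hx : (⟨p, hp.isPrime⟩ : PrimeSpectrum R) ∈ (⨆ i, U i : (Spec R).Opens) := by rw [hU]; trivial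
    obtain ⟨i, hi⟩ := Opens.mem_iSup.mp hx
    exact ((Set.ext_iff.mp (hI i) _).mpr ((le_iSup I i).trans hle)) hi
  obtain ⟨g, hg⟩ := (Submodule.mem_iSup_finset_iff_exists_sum (s := Finset.univ) I (1 : R)).mp
    (by simp [htop])
  have hgU : ∀ i, PrimeSpectrum.basicOpen (g i : R) ≤ U i := fun i p hp => by
    by_contra hc
    exact hp ((Set.ext_iff.mp (hI i) p).mp hc (g i).2)
  choose φ hφ using hgen
  choose a ha using fun i => @step R M n (U i) (φ i) (hφ i) (g i : R) (hgU i)
  refine ⟨fun k => a (finProdFinEquiv.symm k).2 (finProdFinEquiv.symm k).1, ?_⟩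
  refine eq_top_iff.mpr fun x _ => ?_
  refine Submodule.mem_of_span_eq_top_of_smul_pow_mem _ (Set.range fun i => (g i : R)) ?_ x ?_
  · rw [Ideal.eq_top_iff_one, ← hg]
    exact Ideal.sum_mem _ fun i _ => Ideal.subset_span ⟨i, rfl⟩
  · rintro ⟨_, i, rfl⟩
    obtain ⟨k, hk⟩ := ha i x
    refine ⟨k, Submodule.span_mono ?_ hk⟩
    rintro _ ⟨j, rfl⟩
    exact ⟨finProdFinEquiv (j, i), by simp⟩

end Groth.Agent.S17860
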