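import Groth.Statements.S17862
import Mathlib
import Groth.Agent.AlgSpLib.RepDescent
import Groth.Agent.AlgSpLib.Sep
-- import your own Groth.Agent.* helpers here

set_option autoImplicit false
open CategoryTheory AlgebraicGeometry
universe u
open Algz

namespace Groth.Agent.S17862

theorem toSpecΓ_eq (R : CommRingCat.{u}) : (Spec R).toSpecΓ = Spec.map (Scheme.ΓSpecIso R).hom := by
  rw [← cancel_mono (Spec.map (Scheme.ΓSpecIso R).inv), toSpecΓ_SpecMap_ΓSpecIso_inv, ← Spec.map_comp,
    Iso.inv_hom_id, Spec.map_id]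

/-- A quasi-affine scheme over `Spec (∏ A i)` through which all factors factor has a section. -/
theorem exists_section {ι : Type u} (A : ι → CommRingCat.{u}) {E : Scheme.{u}} [E.IsQuasiAffine]
    (e : E ⟶ Spec (CommRingCat.of (∀ i, A i))) (l : ∀ i, Spec (A i) ⟶ E)
    (hl : ∀ i, l i ≫ e = Spec.map (CommRingCat.ofHom (Pi.evalRingHom (fun j => (A j : Type u)) i))) :
    ∃ s : Spec (CommRingCat.of (∀ i, A i)) ⟶ E, s ≫ e = 𝟙 _ := by
  classical
  let R := CommRingCat.of (∀ i, A i)
  let σi : ∀ i, Γ(E, ⊤) ⟶ A i := fun i => (l i).appTop ≫ (Scheme.ΓSpecIso (A i)).hom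
  let σ : Γ(E, ⊤) ⟶ R := CommRingCat.ofHom (RingHom.pi fun i => (σi i).hom)
  have hσi : ∀ i, σ ≫ CommRingCat.ofHom (Pi.evalRingHom (fun j => (A j : Type u)) i) = σi i := fun i => rfl
  have hli : ∀ i, Spec.map (σi i) = l i ≫ E.toSpecΓ := fun i => by
    rw [Scheme.toSpecΓ_naturality, Spec.map_comp, toSpecΓ_eq]
  have hO : IsCompact (Set.range E.toSpecΓ) := isCompact_range E.toSpecΓ.continuous
  obtain ⟨t, ht⟩ := PrimeSpectrum.isCompact_isOpen_iff.mp ⟨hO, E.toSpecΓ.isOpenEmbedding.isOpen_range⟩
  have hspan : ∀ i, Ideal.span ((σi i).hom '' (t : Set Γ(E, ⊤))) = ⊤ := fun i => by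
    rw [← PrimeSpectrum.zeroLocus_empty_iff_eq_top, PrimeSpectrum.zeroLocus_span, Set.eq_empty_iff_forall_notMem]
    intro p hp
    have hmem : Spec.map (σi i) p ∈ Set.range E.toSpecΓ := ⟨l i p, by rw [hli i]; rfl⟩
    rw [← ht] at hmem
    exact hmem fun c hc => hp ⟨c, hc, rfl⟩
  have hspan' : Ideal.span (σ.hom '' (t : Set Γ(E, ⊤))) = ⊤ := by
    rw [Ideal.eq_top_iff_one]
    have : ∀ i, ∃ a : t → A i, ∑ c : t, a c * (σi i).hom c = 1 := fun i => by
      have h1 : (1 : A i) ∈ Ideal.span (Set.range fun c : t => (σi i).hom c) := by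
        rw [show (Set.range fun c : t => (σi i).hom c) = (σi i).hom '' (t : Set Γ(E, ⊤)) by
          ext; simp, hspan i]
        trivial
      exact Ideal.mem_span_range_iff_exists_fun.mp h1
    choose a ha using this
    let P : ∀ i, R →+* A i := fun i => Pi.evalRingHom (fun j => (A j : Type u)) i
    have e1 : (1 : R) = ∑ c : t, ((fun i => a i c) : R) * σ.hom c := by
      funext i
      refine (ha i).symm.trans ?_
      change _ = P i (∑ c : t, ((fun i => a i c) : R) * σ.hom c)
      rw [map_sum]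
      refine Finset.sum_congr rfl fun c _ => ?_
      rfl
    rw [e1]
    exact Ideal.sum_mem _ fun c _ => Ideal.mul_mem_left _ _ (Ideal.subset_span ⟨c, c.2, rfl⟩)
  have hrange : Set.range (Spec.map σ) ⊆ Set.range E.toSpecΓ := by
    rintro _ ⟨p, rfl⟩
    rw [← ht]
    intro hp
    exact p.2.ne_top (top_le_iff.mp (hspan' ▸ Ideal.span_le.mpr (by rintro _ ⟨c, hc, rfl⟩; exact hp hc)))
  refine ⟨IsOpenImmersion.lift E.toSpecΓ (Spec.map σ) hrange, ?_⟩
  rw [← cancel_mono (Spec R).toSpecΓ, Category.assoc, Scheme.toSpecΓ_naturality,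
    IsOpenImmersion.lift_fac_assoc, ← Spec.map_comp, Category.id_comp, toSpecΓ_eq]
  congr 1
  ext c i
  have h1 := congrArg (fun f => Scheme.Hom.appTop f ≫ (Scheme.ΓSpecIso (A i)).hom) (hl i)
  simp only [Scheme.Hom.comp_appTop, Category.assoc, Scheme.ΓSpecIso_naturality] at h1
  exact congrFun (congrArg (fun f => (f : _ → A i)) (congrArg (fun f => f.hom) h1)) c

/-- Let `S` be an affine scheme, `X` a quasi-compact and quasi-separated algebraic space over `S`, and
`A i` a family of commutative rings indexed by an arbitrary type, with a morphism `h` from the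
spectrum of the product ring to `S`. Two `S`-morphisms `Spec (Π i, A i) ⟶ X` that agree after
composition with every `Spec (A i) ⟶ Spec (Π i, A i)` are equal. (For schemes this is the
injectivity half of the corresponding bijection; the algebraic-space case is the one stated here.
Over an affine base, relative and absolute quasi-separatedness agree.) -/
theorem result (S : Scheme.{u}) [IsAffine S]
    (X : AlgSp.Space S) (hqc : AlgSp.IsQuasiCompactSp X.obj) (hqs : AlgSp.IsQuasiSeparatedSp X.obj)
    {ι : Type u} (A : ι → CommRingCat.{u}) (h : Spec (CommRingCat.of (∀ i, A i)) ⟶ S) :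
    Function.Injective (fun g : (AlgSp.ofScheme S).obj (Over.mk h) ⟶ X => fun i : ι =>
      (AlgSp.ofScheme S).map (Over.homMk
        (Spec.map (CommRingCat.ofHom (Pi.evalRingHom (fun j => (A j : Type u)) i)))
        rfl : Over.mk (Spec.map (CommRingCat.ofHom (Pi.evalRingHom (fun j => (A j : Type u)) i)) ≫ h) ⟶
          Over.mk h) ≫ g) := by
  intro g₁ g₂ hg
  let T : Over S := Over.mk h
  let a₁ : (AlgSp.yon S).obj T ⟶ X.obj := g₁.hom
  let a₂ : (AlgSp.yon S).obj T ⟶ X.obj := g₂.hom
  let u := Limits.prod.lift a₁ a₂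
  have hX := X.property
  have hr : AlgSp.Representable (Limits.diag X.obj) := hX.diag
  obtain ⟨W, snd, fst, sq⟩ := hr u
  have hlq := (AlgSpLib.repWith_lqf_lft_diag hX).2 u fst snd sq
  haveI hlq1 : LocallyQuasiFinite snd.left := hlq.1
  haveI hlq2 : LocallyOfFiniteType snd.left := hlq.2
  haveI hq : QuasiCompact snd.left := hqs.2 u fst snd sq
  haveI hsep : IsSeparated snd.left :=
    (AlgSpLib.repWith_isSeparated_of_mono (f := Limits.diag X.obj) hr).2 u fst snd sq
  haveI : IsAffine T.left := inferInstanceAs (IsAffine (Spec _))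
  haveI : W.left.IsQuasiAffine := AlgSpLib.quasiAffine_of_lqf snd.left
  have hl : ∀ i, ∃ l : Spec (A i) ⟶ W.left,
      l ≫ snd.left = Spec.map (CommRingCat.ofHom (Pi.evalRingHom (fun j => (A j : Type u)) i)) := fun i => by
    let k : Over.mk (Spec.map (CommRingCat.ofHom (Pi.evalRingHom (fun j => (A j : Type u)) i)) ≫ h) ⟶ T :=
      Over.homMk (Spec.map (CommRingCat.ofHom (Pi.evalRingHom (fun j => (A j : Type u)) i))) rfl
    have hk : (AlgSp.yon S).map k ≫ a₁ = (AlgSp.yon S).map k ≫ a₂ :=
      congrArg (fun f => f.hom) (congrFun hg i)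
    obtain ⟨l, hl⟩ := (AlgSp.yon S).map_surjective (sq.lift ((AlgSp.yon S).map k ≫ a₁) ((AlgSp.yon S).map k) (by
      apply Limits.prod.hom_ext
      · simp only [u, Limits.diag, Category.assoc]; erw [Limits.prod.lift_fst, Limits.prod.lift_fst, Category.comp_id]
      · simp only [u, Limits.diag, Category.assoc]; erw [Limits.prod.lift_snd, Limits.prod.lift_snd, Category.comp_id]; exact hk))
    refine ⟨l.left, ?_⟩
    have : l ≫ snd = k := (AlgSp.yon S).map_injective (by rw [Functor.map_comp, hl, sq.lift_snd])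
    exact congrArg (fun f => f.left) this
  choose l hl using hl
  obtain ⟨s, hs⟩ := exists_section A snd.left l hl
  let s' : T ⟶ W := Over.homMk s (by
    rw [← Over.w snd, reassoc_of% hs])
  have hs' : s' ≫ snd = 𝟙 T := Over.OverMorphism.ext hs
  have hu : u = ((AlgSp.yon S).map s' ≫ fst) ≫ Limits.diag X.obj := by
    rw [Category.assoc, sq.w, ← Category.assoc, ← Functor.map_comp, hs', CategoryTheory.Functor.map_id, Category.id_comp]
  have h1 := congrArg (fun f => f ≫ Limits.prod.fst) hu
  have h2 := congrArg (fun f => f ≫ Limits.prod.snd) hu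
  simp only [u, Category.assoc, Limits.diag, Limits.prod.lift_fst, Limits.prod.lift_snd, Category.comp_id] at h1 h2
  exact InducedCategory.Hom.ext (h1.trans h2.symm)

end Groth.Agent.S17862
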