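import Groth.Statements.S17861
import Mathlib
import Groth.Agent.S17862
import Groth.Agent.NisChartLib
-- import your own Groth.Agent.* helpers here

set_option autoImplicit false
open CategoryTheory AlgebraicGeometry
universe u
open Algz

namespace Groth.Agent.S17861

/-- Let `S` be an affine scheme, `X` a quasi-compact and quasi-separated algebraic space over `S`, and
`A i` a family of henselian local rings indexed by an arbitrary type, with a morphism `h` from the
spectrum of the product ring `Π i, A i` to `S` (so that each `Spec (A i)` is an `S`-scheme through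
the projection). Sending an `S`-morphism `Spec (Π i, A i) ⟶ X` to the family of its composites with
the morphisms `Spec (A i) ⟶ Spec (Π i, A i)` is a bijection onto the set of families of
`S`-morphisms `Spec (A i) ⟶ X`. (Over an affine base, quasi-separatedness relative to `S` agrees
with the absolute notion.) -/
theorem result (S : Scheme.{u}) [IsAffine S]
    (X : AlgSp.Space S) (hqc : AlgSp.IsQuasiCompactSp X.obj) (hqs : AlgSp.IsQuasiSeparatedSp X.obj)
    {ι : Type u} (A : ι → CommRingCat.{u}) [∀ i, HenselianLocalRing (A i)]
    (h : Spec (CommRingCat.of (∀ i, A i)) ⟶ S) :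
    Function.Bijective (fun g : (AlgSp.ofScheme S).obj (Over.mk h) ⟶ X => fun i : ι =>
      (AlgSp.ofScheme S).map (Over.homMk
        (Spec.map (CommRingCat.ofHom (Pi.evalRingHom (fun j => (A j : Type u)) i)))
        rfl : Over.mk (Spec.map (CommRingCat.ofHom (Pi.evalRingHom (fun j => (A j : Type u)) i)) ≫ h) ⟶
          Over.mk h) ≫ g) := by
  refine ⟨Groth.Agent.S17862.result S X hqc hqs A h, fun z => ?_⟩
  obtain ⟨Z, c, hZ, hlift⟩ := NisChartLib.exists_affine_chart X.property hqc hqs
  haveI := hZ
  choose g hg using fun i => hlift (A i) _ (z i).hom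
  obtain ⟨σ, hσ, hev⟩ := NisChartLib.exists_of_family Z.hom A h (fun i => (g i).left) fun i => Over.w (g i)
  refine ⟨InducedCategory.homMk ((AlgSp.yon S).map (Over.homMk σ hσ : Over.mk h ⟶ Z) ≫ c), funext fun i => ?_⟩
  refine InducedCategory.Hom.ext ?_
  refine Eq.trans ?_ (hg i)
  change (AlgSp.yon S).map _ ≫ (AlgSp.yon S).map _ ≫ c = (AlgSp.yon S).map (g i) ≫ c
  rw [← Category.assoc, ← Functor.map_comp]
  congr 2
  exact Over.OverMorphism.ext (hev i)

end Groth.Agent.S17861
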