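import Groth.Statements.S17863
import Mathlib
import Mathlib.AlgebraicGeometry.QuasiAffine
import Mathlib.RingTheory.AdicCompletion.RingHom
-- import your own Groth.Agent.* helpers here

set_option autoImplicit false
open CategoryTheory AlgebraicGeometry
universe u
open Algz

namespace Groth.Agent.S17863

/-- Let `A` be a commutative ring which is `I`-adically complete for an ideal `I` and let `X` be a
quasi-affine scheme. Then the natural map from `X(A)` to compatible systems in the `X(A/I^n)` is
bijective: two morphisms `Spec A ⟶ X` with the same restriction to every `Spec (A/I^n)` are equal,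
and every family of morphisms `Spec (A/I^n) ⟶ X` compatible with the transition maps `Spec (A/I^n) ⟶
Spec (A/I^(n+1))` is the family of restrictions of a morphism `Spec A ⟶ X`. -/
theorem result (A : Type u) [CommRing A] (I : Ideal A) [IsAdicComplete I A]
    (X : Scheme.{u}) [X.IsQuasiAffine] :
    (∀ f g : Spec (CommRingCat.of A) ⟶ X,
      (∀ n : ℕ, Spec.map (CommRingCat.ofHom (Ideal.Quotient.mk (I ^ n))) ≫ f =
        Spec.map (CommRingCat.ofHom (Ideal.Quotient.mk (I ^ n))) ≫ g) → f = g) ∧
    (∀ e : ∀ n : ℕ, Spec (CommRingCat.of (A ⧸ I ^ n)) ⟶ X,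
      (∀ n : ℕ, Spec.map (CommRingCat.ofHom (Ideal.Quotient.factorPowSucc I n)) ≫ e (n + 1) = e n) →
      ∃ f : Spec (CommRingCat.of A) ⟶ X,
        ∀ n : ℕ, Spec.map (CommRingCat.ofHom (Ideal.Quotient.mk (I ^ n))) ≫ f = e n) := by
  let S := CommRingCat.of A
  let q : ∀ n : ℕ, S ⟶ CommRingCat.of (A ⧸ I ^ n) := fun n => CommRingCat.ofHom (Ideal.Quotient.mk (I ^ n))
  refine ⟨fun f g h => ?_, fun e he => ?_⟩
  · rw [← cancel_mono X.toSpecΓ]
    obtain ⟨α, hα⟩ := Spec.map_surjective (f ≫ X.toSpecΓ)
    obtain ⟨β, hβ⟩ := Spec.map_surjective (g ≫ X.toSpecΓ)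
    rw [← hα, ← hβ]
    refine congrArg Spec.map (CommRingCat.hom_ext (RingHom.ext fun x => ?_))
    have key : ∀ n, α ≫ q n = β ≫ q n := fun n => Spec.map_injective (by
      rw [Spec.map_comp, Spec.map_comp, hα, hβ, ← Category.assoc, ← Category.assoc, h n])
    refine sub_eq_zero.mp (IsHausdorff.haus (I := I) inferInstance _ fun n => ?_)
    rw [SModEq.zero, smul_eq_mul, Ideal.mul_top, ← Ideal.Quotient.eq]
    exact congrArg (fun φ => φ.hom x) (key n)
  · let g : ∀ n : ℕ, Γ(X, ⊤) ⟶ CommRingCat.of (A ⧸ I ^ n) := fun n => Spec.preimage (e n ≫ X.toSpecΓ)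
    have hg : ∀ n, g (n + 1) ≫ CommRingCat.ofHom (Ideal.Quotient.factorPowSucc I n) = g n := fun n =>
      Spec.map_injective (by
        simp only [g, Spec.map_comp, Spec.map_preimage]
        rw [← Category.assoc, he n])
    have hf : ∀ {m n : ℕ} (hle : m ≤ n), (Ideal.Quotient.factorPow I hle).comp (g n).hom = (g m).hom := by
      intro m n hle
      induction hle with
      | refl => exact RingHom.ext fun x => by obtain ⟨y, hy⟩ := Ideal.Quotient.mk_surjective ((g m).hom x); simp [← hy]
      | @step k hk ih =>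
        refine Eq.trans ?_ ih
        rw [← hg k, CommRingCat.hom_comp, CommRingCat.hom_ofHom, ← RingHom.comp_assoc]
        congr 1
        exact (Ideal.Quotient.factor_comp _ _).symm
    let φ : Γ(X, ⊤) ⟶ S := CommRingCat.ofHom (IsAdicComplete.liftRingHom I (fun n => (g n).hom) hf)
    have hφ : ∀ n, Spec.map (q n) ≫ Spec.map φ = e n ≫ X.toSpecΓ := fun n => by
      rw [← Spec.map_comp, show φ ≫ q n = g n from CommRingCat.hom_ext (IsAdicComplete.mk_comp_liftRingHom I _ hf n)]
      exact Spec.map_preimage _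
    have hrange : Set.range (Spec.map φ) ⊆ Set.range X.toSpecΓ := by
      rintro _ ⟨p, rfl⟩
      obtain ⟨m, hm, hpm⟩ := Ideal.exists_le_maximal p.asIdeal p.2.ne_top
      let pm : Spec S := ⟨m, hm.isPrime⟩
      have hIm : I ≤ m :=
        ((IsAdicComplete.le_jacobson_bot I).trans (sInf_le ⟨bot_le, hm⟩))
      obtain ⟨x, hx⟩ : pm ∈ Set.range (Spec.map (q 1)) := by
        change pm ∈ Set.range (PrimeSpectrum.comap (Ideal.Quotient.mk (I ^ 1)))
        rw [range_comap_of_surjective _ _ Ideal.Quotient.mk_surjective, Ideal.mk_ker, pow_one]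
        exact hIm
      have hpm' : Spec.map φ pm ∈ Set.range X.toSpecΓ := by
        refine ⟨e 1 x, ?_⟩
        rw [← hx, ← Scheme.Hom.comp_apply, ← hφ 1, Scheme.Hom.comp_apply]
      have hspec : @Specializes (Spec S) _ p pm := (PrimeSpectrum.le_iff_specializes p pm).mp hpm
      exact (hspec.map (Spec.map φ).continuous).mem_open X.toSpecΓ.isOpenEmbedding.isOpen_range hpm'
    refine ⟨IsOpenImmersion.lift X.toSpecΓ (Spec.map φ) hrange, fun n => ?_⟩
    rw [← cancel_mono X.toSpecΓ, Category.assoc, IsOpenImmersion.lift_fac]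
    exact hφ n

end Groth.Agent.S17863
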