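import Groth.Statements.S17864
import Mathlib
import Mathlib
-- import your own Groth.Agent.* helpers here

set_option autoImplicit false
universe u
open Algz

namespace Groth.Agent.S17864

/-- The full-faithfulness assertion. Let `A` be a commutative ring which is `I`-adically complete for an
ideal `I`, and `P`, `Q` finitely generated projective `A`-modules. An `A`-linear map `P → Q` is
determined by its reductions modulo the powers `I^n`, and every family of `A`-linear maps `P/I^n P →
Q/I^n Q` compatible with the transition maps is the family of reductions of an `A`-linear map `P →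
Q`. (The companion assertion, that compatible systems of finite projective modules over the rings
`A/I^n` lift to `A`, is not restated here.) -/
theorem result (A : Type u) [CommRing A] (I : Ideal A)
    [IsAdicComplete I A] (P Q : Type u) [AddCommGroup P] [Module A P] [Module.Finite A P]
    [Module.Projective A P] [AddCommGroup Q] [Module A Q] [Module.Finite A Q] [Module.Projective A Q] :
    (∀ f f' : P →ₗ[A] Q, (∀ n : ℕ, f.reduceModIdeal (I ^ n) = f'.reduceModIdeal (I ^ n)) → f = f') ∧
    (∀ g : ∀ n : ℕ, P ⧸ (I ^ n • ⊤ : Submodule A P) →ₗ[A] Q ⧸ (I ^ n • ⊤ : Submodule A Q),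
      (∀ n : ℕ, AdicCompletion.transitionMap I Q (Nat.le_succ n) ∘ₗ g (n + 1) =
        g n ∘ₗ AdicCompletion.transitionMap I P (Nat.le_succ n)) →
      ∃ f : P →ₗ[A] Q, ∀ n : ℕ, f.reduceModIdeal (I ^ n) = g n) := by
  obtain ⟨N, π, s, -, -, hπs⟩ := Module.Finite.exists_comp_eq_id_of_projective A Q
  have fm : ∀ {M : Type u} [AddCommGroup M] [Module A M] {p p' : Submodule A M} (H : p ≤ p') (x : M),
      Submodule.factor H (Submodule.Quotient.mk x) = Submodule.Quotient.mk x := fun H x => Submodule.factor_mk H x
  have hco : ∀ (n : ℕ) (j : Fin N), (I ^ n • ⊤ : Submodule A Q) ≤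
      (I ^ n • ⊤ : Submodule A A).comap ((LinearMap.proj j).comp s) := fun n j => by
    refine Submodule.map_le_iff_le_comap.1 ?_
    rw [Submodule.map_smul'']
    exact Submodule.smul_mono le_rfl le_top
  have hjoin : ∀ (n : ℕ) (v : Fin N → A), (∀ j, v j ∈ (I ^ n • ⊤ : Submodule A A)) → π v ∈ (I ^ n • ⊤ : Submodule A Q) := by
    intro n v hv
    rw [pi_eq_sum_univ v, map_sum]
    refine Submodule.sum_mem _ fun j _ => ?_
    rw [map_smul]
    refine Submodule.smul_mem_smul ?_ Submodule.mem_top
    simpa [Ideal.smul_eq_mul] using hv j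
  have hid : ∀ q : Q, π (s q) = q := fun q => LinearMap.congr_fun hπs q
  refine ⟨fun f f' h => ?_, fun g hg => ?_⟩
  · refine LinearMap.ext fun x => ?_
    rw [← hid (f x), ← hid (f' x)]
    refine congrArg π (funext fun j => ?_)
    refine IsHausdorff.eq_iff_smodEq (I := I).2 fun n => ?_
    have hx := LinearMap.congr_fun (h n) (Submodule.Quotient.mk x)
    simp only [LinearMap.reduceModIdeal_apply] at hx
    rw [SModEq.sub_mem]
    have := hco n j ((Submodule.Quotient.eq _).1 hx)
    simpa using this
  · have hg' : ∀ {m n : ℕ} (hle : m ≤ n), AdicCompletion.transitionMap I Q hle ∘ₗ g n =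
        g m ∘ₗ AdicCompletion.transitionMap I P hle := by
      intro m n hle
      induction hle with
      | refl =>
        refine LinearMap.ext fun y => ?_
        obtain ⟨x, rfl⟩ := Submodule.Quotient.mk_surjective _ y
        obtain ⟨q, hq⟩ := Submodule.Quotient.mk_surjective _ (g m (Submodule.Quotient.mk x))
        simp [AdicCompletion.transitionMap, Submodule.factorPow, fm, ← hq]
      | @step k hk ih =>
        refine LinearMap.ext fun y => ?_
        obtain ⟨x, rfl⟩ := Submodule.Quotient.mk_surjective _ y
        obtain ⟨q, hq⟩ := Submodule.Quotient.mk_surjective _ (g (k + 1) (Submodule.Quotient.mk x))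
        have h1 := LinearMap.congr_fun (hg k) (Submodule.Quotient.mk x)
        simp only [LinearMap.comp_apply, AdicCompletion.transitionMap, Submodule.factorPow, fm, ← hq] at h1
        have h2 := LinearMap.congr_fun ih (Submodule.Quotient.mk x)
        simp only [LinearMap.comp_apply, AdicCompletion.transitionMap, Submodule.factorPow, fm, ← h1] at h2
        simp only [LinearMap.comp_apply, AdicCompletion.transitionMap, Submodule.factorPow, fm, ← hq]
        exact h2
    let c : ∀ j : Fin N, ∀ n, P →ₗ[A] A ⧸ (I ^ n • ⊤ : Submodule A A) := fun j n =>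
      (Submodule.mapQ _ _ ((LinearMap.proj j).comp s) (hco n j)) ∘ₗ (g n) ∘ₗ (I ^ n • ⊤ : Submodule A P).mkQ
    have hc : ∀ (j : Fin N) {m n : ℕ} (hle : m ≤ n), Submodule.factorPow I A hle ∘ₗ c j n = c j m := by
      intro j m n hle
      refine LinearMap.ext fun x => ?_
      obtain ⟨q, hq⟩ := Submodule.Quotient.mk_surjective _ (g n (Submodule.Quotient.mk x))
      have h2 := LinearMap.congr_fun (hg' hle) (Submodule.Quotient.mk x)
      simp only [LinearMap.comp_apply, AdicCompletion.transitionMap, Submodule.factorPow, fm, ← hq] at h2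
      simp only [c, LinearMap.comp_apply, Submodule.mkQ_apply, ← hq, ← h2, Submodule.factorPow, fm, Submodule.mapQ_apply]
    refine ⟨π ∘ₗ LinearMap.pi fun j => IsAdicComplete.lift I (c j) (hc j), fun n => LinearMap.ext fun y => ?_⟩
    obtain ⟨x, rfl⟩ := Submodule.Quotient.mk_surjective _ y
    obtain ⟨q, hq⟩ := Submodule.Quotient.mk_surjective _ (g n (Submodule.Quotient.mk x))
    rw [← hq]
    show Submodule.Quotient.mk (π _) = _
    rw [Submodule.Quotient.eq]
    nth_rewrite 1 [← hid q]
    rw [← map_sub]
    refine hjoin n _ fun j => ?_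
    rw [Pi.sub_apply, ← Submodule.Quotient.eq]
    show Submodule.Quotient.mk (IsAdicComplete.lift I (c j) (hc j) x) = _
    rw [IsAdicComplete.mk_lift]
    simp [c, ← hq]

end Groth.Agent.S17864
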