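import Groth.Statements.S17865
import Mathlib
import Mathlib.AlgebraicGeometry.Morphisms.QuasiSeparated
import Mathlib.AlgebraicGeometry.PullbackCarrier
-- import your own Groth.Agent.* helpers here

set_option autoImplicit false
open CategoryTheory AlgebraicGeometry
universe u
open Algz

namespace Groth.Agent.S17865

open Limits Topology

/-- In the case of schemes. Let `f : U ⟶ Y` be a Nisnevich cover of length at most `m` of quasi-compact
quasi-separated schemes (an etale morphism together with a chain of `m` closed constructible subsets
`∅ = Z_0 ⊆ ⋯ ⊆ Z_m = Y` such that `f` has a section over each `Z_(k+1) ∖ Z_k`), and `g : Y' ⟶ Y` a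
morphism from a quasi-compact quasi-separated scheme. Then the base change `U ×_Y Y' ⟶ Y'` is a
Nisnevich cover of length at most `m`. (The original form is for quasi-compact quasi-separated
algebraic spaces; stated here for schemes.) -/
theorem result {U Y Y' : Scheme.{u}} (f : U ⟶ Y) (g : Y' ⟶ Y)
    [CompactSpace U] [QuasiSeparatedSpace U] [CompactSpace Y] [QuasiSeparatedSpace Y]
    [CompactSpace Y'] [QuasiSeparatedSpace Y'] (m : ℕ)
    (hf : W4c5algebraiztannaka.IsNisCoverLen f m) :
    W4c5algebraiztannaka.IsNisCoverLen (Limits.pullback.snd f g) m := by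
  have hqc : QuasiCompact g := inferInstance
  obtain ⟨he, Z, h0, hl, hmono, hZ, hsec⟩ := hf
  haveI := he
  have hret : ∀ s : Set Y, IsOpen s → IsRetrocompact s → IsRetrocompact (g ⁻¹' s) := by
    intro s hs hr t ht hto
    have h1 : IsCompact s := by simpa using hr isCompact_univ isOpen_univ
    exact (QuasiCompact.isCompact_preimage (f := g) s hs h1).inter_of_isOpen ht
      (hs.preimage g.continuous) hto
  refine ⟨inferInstance, fun i => g ⁻¹' (Z i), by simp [h0], by simp [hl],
    fun a b h => Set.preimage_mono (hmono h),
    fun i => ⟨(hZ i).1.preimage g.continuous, (hZ i).2.preimage g.continuous hret⟩, fun i => ?_⟩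
  obtain ⟨T, j, s, hj, hr, hs⟩ := hsec i
  haveI := hj
  refine ⟨pullback g j, pullback.fst g j, pullback.lift (pullback.snd g j ≫ s) (pullback.fst g j)
    (by rw [Category.assoc, hs, pullback.condition]), inferInstance, ?_, pullback.lift_snd _ _ _⟩
  exact (Scheme.Pullback.range_fst g j).trans (by rw [← Set.preimage_diff, ← hr])

end Groth.Agent.S17865
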