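import Groth.Statements.S17866
import Mathlib
-- import your own Groth.Agent.* helpers here

set_option autoImplicit false
open CategoryTheory AlgebraicGeometry
universe u
open Algz

namespace Groth.Agent.S17866

/-- In the case of schemes. Let `g₁ : Y₁ ⟶ Y₂` and `g₂ : Y₂ ⟶ Y₃` be Nisnevich covers of quasi-compact
quasi-separated schemes of lengths at most `m₁` and `m₂` respectively. Then `g₁ ≫ g₂` is a Nisnevich
cover of length at most `m₁ * m₂`. (The original form is for quasi-compact quasi-separated algebraic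
spaces; stated here for schemes.) -/
theorem result {Y₁ Y₂ Y₃ : Scheme.{u}} (g₁ : Y₁ ⟶ Y₂) (g₂ : Y₂ ⟶ Y₃)
    [CompactSpace Y₁] [QuasiSeparatedSpace Y₁] [CompactSpace Y₂] [QuasiSeparatedSpace Y₂]
    [CompactSpace Y₃] [QuasiSeparatedSpace Y₃] (m₁ m₂ : ℕ)
    (h₁ : W4c5algebraiztannaka.IsNisCoverLen g₁ m₁) (h₂ : W4c5algebraiztannaka.IsNisCoverLen g₂ m₂) :
    W4c5algebraiztannaka.IsNisCoverLen (g₁ ≫ g₂) (m₁ * m₂) := by
  classical
  obtain ⟨Z, hZ0, hZl, hZm, hZc, hZs⟩ := h₁.flag
  obtain ⟨Z', hZ'0, hZ'l, hZ'm, hZ'c, hZ's⟩ := h₂.flag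
  haveI := h₁.etale
  haveI := h₂.etale
  have hcpt : ∀ {Y : Scheme.{u}} [CompactSpace Y] [QuasiSeparatedSpace Y] {K : Set Y}, Topology.IsConstructible K → IsCompact K := by
    intro Y _ _ K hK
    haveI : Nonempty Y.affineOpens := ⟨⟨⊥, isAffineOpen_bot Y⟩⟩
    induction K, hK using Topology.IsConstructible.induction_of_isTopologicalBasis
      (fun U : Y.affineOpens ↦ (U.1 : Set Y)) with
    | basis =>
      have h := Y.isBasis_affineOpens
      rw [TopologicalSpace.Opens.IsBasis] at h
      convert h using 1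
      ext t
      constructor
      · rintro ⟨U, rfl⟩; exact ⟨U.1, U.2, rfl⟩
      · rintro ⟨U, hU, rfl⟩; exact ⟨⟨U, hU⟩, rfl⟩
    | isCompact_basis U => exact U.2.isCompact
    | sdiff U s hs => exact U.2.isCompact.diff (isOpen_biUnion fun V _ ↦ V.1.isOpen)
    | union s hs t ht hs' ht' => exact hs'.union ht'
  -- refine one step of the flag of g₂
  have hstep : ∀ i : Fin m₂, ∃ F : ℕ → Set Y₃, F 0 = Z' i.castSucc ∧ F m₁ = Z' i.succ ∧
      (∀ j ≤ m₁, IsClosed (F j) ∧ Topology.IsConstructible (F j)) ∧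
      ∀ j < m₁, F j ⊆ F (j + 1) ∧ W4c5algebraiztannaka.HasSectOver (g₁ ≫ g₂) (F (j + 1) \ F j) := by
    intro i
    obtain ⟨T, g', s, hg', hrange, hs⟩ := hZ's i
    haveI := hg'
    have hemb : Topology.IsEmbedding g' := g'.isEmbedding
    have hWc : IsCompact (Z' i.succ \ Z' i.castSucc) := hcpt ((hZ'c _).2.sdiff (hZ'c _).2)
    haveI : CompactSpace T := by
      refine ⟨hemb.isCompact_iff.mpr ?_⟩
      rw [Set.image_univ]
      exact hrange ▸ hWc
    let Zj : ℕ → Set Y₂ := fun j => if h : j ≤ m₁ then Z ⟨j, by omega⟩ else Set.univ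
    have hZjc : ∀ j, IsClosed (Zj j) ∧ Topology.IsConstructible (Zj j) := by
      intro j
      simp only [Zj]
      split_ifs
      · exact hZc _
      · exact ⟨isClosed_univ, Topology.IsConstructible.univ⟩
    let F : ℕ → Set Y₃ := fun j => Z' i.castSucc ∪ g' '' (s ⁻¹' Zj j)
    have hsub : Z' i.castSucc ⊆ Z' i.succ := hZ'm (by simp [Fin.le_def])
    have hmem : ∀ t : T, g' t ∈ Z' i.succ ∧ g' t ∉ Z' i.castSucc := fun t => hrange.le ⟨t, rfl⟩
    have hFcompl : ∀ j, (F j)ᶜ = (Z' i.succ)ᶜ ∪ g' '' (s ⁻¹' (Zj j)ᶜ) := by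
      intro j
      ext y
      constructor
      · intro hy
        by_cases h : y ∈ Z' i.succ
        · obtain ⟨t, rfl⟩ := hrange.ge ⟨h, fun h' => hy (Or.inl h')⟩
          exact Or.inr ⟨t, fun ht => hy (Or.inr ⟨t, ht, rfl⟩), rfl⟩
        · exact Or.inl h
      · rintro (hy | ⟨t, ht, rfl⟩) (h | ⟨t', ht', h'⟩)
        · exact hy (hsub h)
        · exact hy (h' ▸ (hmem t').1)
        · exact (hmem t).2 h
        · exact ht (hemb.injective h' ▸ ht')
    have hFclosed : ∀ j, IsClosed (F j) := by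
      intro j
      obtain ⟨C, hC, hCeq⟩ := hemb.isInducing.isClosed_iff.mp ((hZjc j).1.preimage s.continuous)
      have : F j = Z' i.castSucc ∪ (C ∩ Z' i.succ) := by
        ext y
        constructor
        · rintro (h | ⟨t, ht, rfl⟩)
          · exact Or.inl h
          · exact Or.inr ⟨hCeq.ge ht, (hmem t).1⟩
        · rintro (h | ⟨hyC, hy⟩)
          · exact Or.inl h
          · by_cases h : y ∈ Z' i.castSucc
            · exact Or.inl h
            · obtain ⟨t, rfl⟩ := hrange.ge ⟨hy, h⟩
              exact Or.inr ⟨t, hCeq.le hyC, rfl⟩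
      rw [this]
      exact (hZ'c _).1.union (hC.inter (hZ'c _).1)
    have hFcons : ∀ j, Topology.IsConstructible (F j) := by
      intro j
      rw [← Topology.isConstructible_compl]
      refine IsCompact.isConstructible ?_ (hFclosed j).isOpen_compl
      rw [hFcompl]
      refine (hcpt (Topology.isConstructible_compl.mpr (hZ'c _).2)).union (IsCompact.image ?_ g'.continuous)
      exact s.isSpectralMap.isCompact_preimage_of_isOpen (hZjc j).1.isOpen_compl (hcpt (Topology.isConstructible_compl.mpr (hZjc j).2))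
    refine ⟨F, ?_, ?_, fun j _ => ⟨hFclosed j, hFcons j⟩, ?_⟩
    · have : Zj 0 = ∅ := by simp only [Zj, dif_pos (Nat.zero_le _)]; exact hZ0
      simp [F, this]
    · have : Zj m₁ = Set.univ := by simp only [Zj, dif_pos le_rfl]; exact hZl
      simp only [F, this, Set.preimage_univ, Set.image_univ]
      rw [hrange, Set.union_sdiff_self, Set.union_eq_self_of_subset_left hsub]
    · intro j hj
      obtain ⟨T₁, g1, s1, hg1, hr1, hs1⟩ := hZs ⟨j, hj⟩
      haveI := hg1
      have hle : Zj j ⊆ Zj (j + 1) := by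
        simp only [Zj, dif_pos hj.le, dif_pos (show j + 1 ≤ m₁ from hj)]
        exact hZm (by simp [Fin.le_def])
      refine ⟨Set.union_subset_union_right _ (Set.image_mono (Set.preimage_mono hle)), ?_⟩
      refine ⟨Limits.pullback s g1, Limits.pullback.fst s g1 ≫ g', Limits.pullback.snd s g1 ≫ s1, inferInstance, ?_, ?_⟩
      · have hrange2 : Set.range (Limits.pullback.fst s g1) = s ⁻¹' Set.range g1 := Scheme.Pullback.range_fst s g1
        have hcomp : Set.range (fun t => (Limits.pullback.fst s g1 ≫ g') t) = g' '' Set.range (Limits.pullback.fst s g1) := by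
          rw [← Set.range_comp]; rfl
        rw [hcomp, hrange2, show Set.range g1 = _ from hr1]
        ext y
        constructor
        · rintro ⟨t, ⟨h1, h2⟩, rfl⟩
          refine ⟨Or.inr ⟨t, ?_, rfl⟩, ?_⟩
          · simp only [Set.mem_preimage, Zj, dif_pos (show j + 1 ≤ m₁ from hj)]; exact h1
          · rintro (h | ⟨t', ht', h'⟩)
            · exact (hmem t).2 h
            · obtain rfl := hemb.injective h'
              simp only [Set.mem_preimage, Zj, dif_pos hj.le] at ht'
              exact h2 ht'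
        · rintro ⟨h | ⟨t, ht, rfl⟩, h2⟩
          · exact absurd (Or.inl h) h2
          · refine ⟨t, ⟨?_, fun h3 => h2 (Or.inr ⟨t, ?_, rfl⟩)⟩, rfl⟩
            · simp only [Set.mem_preimage, Zj, dif_pos (show j + 1 ≤ m₁ from hj)] at ht; exact ht
            · simp only [Set.mem_preimage, Zj, dif_pos hj.le]; exact h3
      · simp only [Category.assoc]
        rw [reassoc_of% hs1, ← reassoc_of% (Limits.pullback.condition (f := s) (g := g1)), hs]
  choose F hF0 hFl hFc hFs using hstep
  have hchain : ∀ i : ℕ, (hi : i ≤ m₂) → ∃ C : ℕ → Set Y₃, C 0 = ∅ ∧ C (m₁ * i) = Z' ⟨i, by omega⟩ ∧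
      (∀ t ≤ m₁ * i, IsClosed (C t) ∧ Topology.IsConstructible (C t)) ∧
      ∀ t < m₁ * i, C t ⊆ C (t + 1) ∧ W4c5algebraiztannaka.HasSectOver (g₁ ≫ g₂) (C (t + 1) \ C t) := by
    intro i
    induction i with
    | zero =>
      intro _
      exact ⟨fun _ => ∅, rfl, hZ'0.symm, fun _ _ => ⟨isClosed_empty, Topology.IsConstructible.empty⟩, fun t ht => absurd ht (by simp)⟩
    | succ i ih =>
      intro hi
      obtain ⟨C, hC0, hCl, hCc, hCs⟩ := ih (by omega)
      let k : Fin m₂ := ⟨i, by omega⟩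
      have hC' : ∀ t, m₁ * i ≤ t → (if t ≤ m₁ * i then C t else F k (t - m₁ * i)) = F k (t - m₁ * i) := by
        intro t ht
        split_ifs with h
        · obtain rfl : t = m₁ * i := by omega
          rw [Nat.sub_self, hF0, hCl]; rfl
        · rfl
      refine ⟨fun t => if t ≤ m₁ * i then C t else F k (t - m₁ * i), by simp [hC0], ?_, ?_, ?_⟩
      · show (if m₁ * (i + 1) ≤ m₁ * i then _ else _) = _
        rw [hC' _ (Nat.mul_le_mul_left _ (Nat.le_succ i)), show m₁ * (i + 1) - m₁ * i = m₁ by rw [Nat.mul_succ]; omega, hFl]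
        rfl
      · intro t ht
        simp only
        split_ifs with h
        · exact hCc t h
        · exact hFc k _ (by rw [Nat.mul_succ] at ht; omega)
      · intro t ht
        simp only
        rw [Nat.mul_succ] at ht
        by_cases h : t + 1 ≤ m₁ * i
        · rw [if_pos h, if_pos (by omega : t ≤ m₁ * i)]
          exact hCs t (by omega)
        · rw [hC' (t + 1) (by omega), hC' t (by omega), show t + 1 - m₁ * i = (t - m₁ * i) + 1 by omega]
          exact hFs k _ (by omega)
  obtain ⟨C, hC0, hCl, hCc, hCs⟩ := hchain m₂ le_rfl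
  refine ⟨inferInstance, fun t => C t, hC0, by simp only [Fin.val_last]; rw [hCl]; exact hZ'l, ?_, fun t => hCc t (by omega), fun t => (hCs t t.2).2⟩
  rw [Fin.monotone_iff_le_succ]
  exact fun t => (hCs t t.2).1

end Groth.Agent.S17866
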