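import Groth.Statements.S17868
import Mathlib
import Groth.Agent.AlgzCohLib.NisRefine
import Groth.Agent.S17858
-- import your own Groth.Agent.* helpers here

set_option autoImplicit false
open CategoryTheory AlgebraicGeometry
universe u
open Algz

namespace Groth.Agent.S17868

/-- In the case of schemes with an affine source. Let `f : U ⟶ Y` be a Nisnevich cover of length at most
`m'` with `U` affine and `Y` quasi-compact quasi-separated. There is a natural number `m` such that
for every commutative ring `B` and every morphism `g : Spec B ⟶ Y` there exist an affine scheme `V`,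
a Nisnevich cover `v : V ⟶ Spec B` of length at most `m`, and a morphism `w : V ⟶ U` over `Y` (that
is, `w ≫ f = v ≫ g`). (The original form allows `U` to be any quasi-compact quasi-separated
algebraic space; `U` is taken affine here, which makes `f` quasi-affine.) -/
theorem result {U Y : Scheme.{u}} [IsAffine U]
    [CompactSpace Y] [QuasiSeparatedSpace Y] (f : U ⟶ Y) (m' : ℕ)
    (hf : W4c5algebraiztannaka.IsNisCoverLen f m') :
    ∃ m : ℕ, ∀ (B : CommRingCat.{u}) (g : Spec B ⟶ Y),
      ∃ (V : Scheme.{u}) (_ : IsAffine V) (v : V ⟶ Spec B) (w : V ⟶ U),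
        W4c5algebraiztannaka.IsNisCoverLen v m ∧ w ≫ f = v ≫ g := by
  haveI : QuasiSeparatedSpace U := inferInstance
  haveI hqc : QuasiCompact f := QuasiCompact.of_comp f (Limits.terminal.from Y)
  have hj : Mor2.IsQuasiAffine f := ⟨hqc, fun V hV => by
    haveI : CompactSpace (f ⁻¹ᵁ V : Scheme.{u}) := isCompact_iff_compactSpace.mp
      (QuasiCompact.isCompact_preimage (f := f) _ V.2 hV.isCompact)
    exact Scheme.IsQuasiAffine.of_isImmersion (f ⁻¹ᵁ V).ι⟩
  obtain ⟨n, hn⟩ := S17858.result f hj
  refine ⟨m' * n, fun B g => ?_⟩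
  obtain ⟨O, hO, hcov⟩ := hn B g
  obtain ⟨Z, h0, hlast, hmono, hc, hsec⟩ := hf.flag
  let p : Limits.pullback f g ⟶ Spec B := Limits.pullback.snd f g
  haveI : QuasiSeparated f := QuasiSeparated.of_comp f (Limits.terminal.from Y)
  haveI : QuasiSeparated p := MorphismProperty.pullback_snd _ _ inferInstance
  have hp : Etale p := MorphismProperty.pullback_snd _ _ hf.etale
  haveI : ∀ i, IsAffine ((O i : Scheme.{u})) := hO
  haveI : QuasiCompact g := QuasiCompact.of_comp g (Limits.terminal.from Y)
  refine ⟨∐ fun i => (O i : Scheme.{u}), inferInstance, Limits.Sigma.desc fun i => (O i).ι ≫ p,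
    Limits.Sigma.desc fun i => (O i).ι ≫ Limits.pullback.fst f g, ?_, ?_⟩
  · refine AlgzCohLib.isNisCoverLen_sigma p hp (fun k => g ⁻¹' Z k) ?_ ?_ (fun a b h => Set.preimage_mono (hmono h))
      (fun k => ⟨(hc k).1.preimage g.continuous, AlgzCohLib.isConstructible_preimage_scheme g (hc k).2⟩)
      (fun k => ?_) O (fun i => (hO i).isCompact) hcov
    · simp [h0]
    · simp [hlast]
    · obtain ⟨T, gT, s, hgT, hr, hs⟩ := hsec k
      refine ⟨Limits.pullback gT g, Limits.pullback.snd gT g,
        Limits.pullback.lift (Limits.pullback.fst gT g ≫ s) (Limits.pullback.snd gT g)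
          (by rw [Category.assoc, hs, Limits.pullback.condition]),
        MorphismProperty.pullback_snd _ _ hgT, ?_, Limits.pullback.lift_snd _ _ _⟩
      change Set.range (Limits.pullback.snd gT g) = _
      rw [Scheme.Pullback.range_snd, show Set.range gT = _ from hr]
      rfl
  · refine Limits.Sigma.hom_ext _ _ fun i => ?_
    simp [p, Limits.pullback.condition]

end Groth.Agent.S17868
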