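import Groth.Statements.S17869
import Mathlib
import Mathlib.AlgebraicGeometry.Morphisms.QuasiSeparated
import Mathlib.AlgebraicGeometry.IdealSheaf.Subscheme
import Mathlib.AlgebraicGeometry.Morphisms.ClosedImmersion
import Mathlib.AlgebraicGeometry.Limits
-- import your own Groth.Agent.* helpers here

set_option autoImplicit false
open CategoryTheory AlgebraicGeometry
universe u
open Algz

namespace Groth.Agent.S17869

/-- In the case of schemes. Let `U` be a quasi-compact quasi-separated scheme and `V 0, …, V (k-1)`
quasi-compact open subschemes which cover `U`. Then the canonical morphism from the disjoint union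
`∐ V i` to `U` is a Nisnevich cover of length at most `k`. (The published example states more
generally that, for a Nisnevich cover of `Y` of length at most `m` with source `U`, the composite
from the disjoint union `∐ V i` to `Y` has length at most `m * k`; stated here is the case of the
identity of `U`, to which the published argument reduces, and the general bound follows by composing
Nisnevich covers. The original form is for quasi-compact quasi-separated algebraic spaces, with the
members of the cover quasi-compact; stated here for schemes.) -/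
theorem result {U : Scheme.{u}} [CompactSpace U] [QuasiSeparatedSpace U]
    (k : ℕ) (V : Fin k → U.Opens) (hV : ∀ i, IsCompact (V i : Set U)) (hcov : ⨆ i, V i = ⊤) :
    W4c5algebraiztannaka.IsNisCoverLen
      (Limits.Sigma.desc (fun i => (V i).ι) : (∐ fun i => ((V i : U.Opens) : Scheme.{u})) ⟶ U) k := by
  classical
  let W : Fin (k + 1) → U.Opens := fun i => ⨆ j : {j : Fin k // i ≤ j.castSucc}, V j.1
  have hWc : ∀ i, IsCompact (W i : Set U) := fun i => by
    rw [TopologicalSpace.Opens.coe_iSup]; exact isCompact_iUnion fun j => hV j.1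
  have memW : ∀ i x, x ∈ (W i : Set U) ↔ ∃ j : Fin k, i ≤ j.castSucc ∧ x ∈ V j := fun i x => by
    simp [W]
  haveI : Etale (Limits.Sigma.desc (fun i => (V i).ι)) :=
    IsZariskiLocalAtSource.sigmaDesc (P := @Etale) fun i => inferInstance
  refine ⟨this, fun i => (W i : Set U)ᶜ, ?_, ?_, ?_, fun i => ⟨(W i).2.isClosed_compl, ?_⟩, fun i => ?_⟩
  · ext x
    simp only [Set.mem_compl_iff, Set.mem_empty_iff_false, iff_false, not_not]
    have hx : x ∈ (⨆ i, V i : U.Opens) := hcov ▸ trivial
    obtain ⟨j, hj⟩ := TopologicalSpace.Opens.mem_iSup.mp hx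
    exact (memW _ _).mpr ⟨j, Fin.zero_le _, hj⟩
  · ext x
    simp only [Set.mem_compl_iff, Set.mem_univ, iff_true, memW]
    rintro ⟨j, hj, -⟩
    exact absurd hj (not_le.mpr (Fin.castSucc_lt_last j))
  · intro a b h x hx hb
    obtain ⟨j, hj, hxj⟩ := (memW _ _).mp hb
    exact hx ((memW _ _).mpr ⟨j, h.trans hj, hxj⟩)
  · refine (IsRetrocompact.isConstructible (W i).2 ?_).compl
    exact fun t ht hto => (hWc i).inter_of_isOpen ht (W i).2 hto
  · let C : TopologicalSpace.Closeds (V i).toScheme :=
      ⟨(V i).ι ⁻¹' (W i.succ : Set U)ᶜ, (W i.succ).2.isClosed_compl.preimage (V i).ι.continuous⟩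
    let I := Scheme.IdealSheafData.vanishingIdeal C
    refine ⟨I.subscheme, I.subschemeι ≫ (V i).ι,
      I.subschemeι ≫ Limits.Sigma.ι (fun i => ((V i : U.Opens) : Scheme.{u})) i, inferInstance, ?_,
      by simp⟩
    have hr : Set.range I.subschemeι = (C : Set (V i).toScheme) := by
      rw [Scheme.IdealSheafData.range_subschemeι, Scheme.IdealSheafData.coe_support_vanishingIdeal]
    ext x
    constructor
    · rintro ⟨t, rfl⟩
      have ht : I.subschemeι t ∈ (C : Set (V i).toScheme) := hr ▸ ⟨t, rfl⟩
      exact ⟨ht, fun h => h ((memW _ _).mpr ⟨i, le_rfl, (I.subschemeι t).2⟩)⟩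
    · rintro ⟨h1, h2⟩
      obtain ⟨j, hj, hxj⟩ := (memW _ _).mp (not_not.mp h2)
      obtain rfl : j = i := by
        by_contra hne
        exact h1 ((memW _ _).mpr ⟨j, Fin.succ_le_castSucc_iff.mpr
          (lt_of_le_of_ne (Fin.castSucc_le_castSucc_iff.mp hj) (Ne.symm hne)), hxj⟩)
      obtain ⟨t, ht⟩ : (⟨x, hxj⟩ : (V j).toScheme) ∈ Set.range I.subschemeι := by
        rw [hr]; exact h1
      exact ⟨t, congr((V j).ι $ht)⟩

end Groth.Agent.S17869
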