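import Groth.Statements.S1787
import Groth.Agent.DualCxLib.LocAway

set_option autoImplicit false
set_option linter.style.haveILetI false
universe u
open CategoryTheory
attribute [local instance] HasDerivedCategory.standard
open Dual

namespace Groth.Agent.S1787

/-- Let A be a Noetherian ring and f_1, …, f_n elements generating the unit ideal. Let ω be an object of
D(A) such that for each i, assuming the derived base change functor D(A) → D(A_{f_i}) exists, the
base change of ω is a dualizing complex for A_{f_i}. Then ω is a dualizing complex for A. -/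
theorem result (A : Type u) [CommRing A] [IsNoetherianRing A] (n : ℕ) (f : Fin n → A) (hf : Ideal.span (Set.range f) = ⊤) (ω : Dual.D A) (h : ∀ i : Fin n, ∃ _ : DRing.HasLBaseChange (algebraMap A (Localization.Away (f i))), Dual.IsDualizing (Localization.Away (f i)) ((DRing.LBaseChange (algebraMap A (Localization.Away (f i)))).obj ω)) : Dual.IsDualizing A ω := by
  have H : ∀ k : Fin n, ∃ (Z : Dual.D (Localization.Away (f k)))
      (η : ω ⟶ (DRing.restrictD (Groth.Agent.DualCxLib.awayMap (f k))).obj Z),
      Groth.Agent.DualCxLib.IsUniv (Groth.Agent.DualCxLib.awayMap (f k)) η ∧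
        Groth.Agent.DualCxLib.IsLocH (Groth.Agent.DualCxLib.awayMap (f k)) (Submonoid.powers (f k)) η ∧
          Dual.IsDualizing (Localization.Away (f k)) Z := fun k => by
    obtain ⟨_, hk⟩ := h k
    obtain ⟨η, hη, hL⟩ :=
      Groth.Agent.DualCxLib.exists_loc_base (S := Localization.Away (f k)) (Submonoid.powers (f k)) ω
    exact ⟨_, η, hη, hL, hk⟩
  choose Z η hη hL hZ using H
  exact Groth.Agent.DualCxLib.isDualizing_of_away f hf Z η hη hL hZ

end Groth.Agent.S1787
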