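import Groth.Statements.S17870
import Mathlib
import Groth.Agent.AlgzCohLib.SizeBound
-- import your own Groth.Agent.* helpers here

set_option autoImplicit false
open CategoryTheory
universe u
attribute [local instance] HasDerivedCategory.standard
open Algz

namespace Groth.Agent.S17870

/-- There is a function `F : ℕ → ℕ`, independent of the ring, such that for every commutative ring `R`
and every perfect complex over `R`, given as a bounded complex `E` of finitely generated projective
modules: if `E` locally has size at most `N` (after base change to some Nisnevich cover `Spec B ⟶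
Spec R` of length at most `N` it becomes isomorphic in `D(B)` to a complex vanishing outside `[-N,
N]` whose terms are projective quotients of `B^N`), then it globally has size at most `F N` (it is
isomorphic in `D(R)` to such a complex over `R` with bound `F N`). -/
theorem result :
    ∃ F : ℕ → ℕ, ∀ (R : Type u) [CommRing R] (E : DRing.Cx R) (a b : ℤ),
      DRing.VanishesOutside E a b → DRing.TermwiseFiniteProjective E →
      ∀ N : ℕ, W4c5algebraiztannaka.LocSize E N → W4c5algebraiztannaka.GlobSize R (DRing.toD E) (F N) := by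
  classical
  refine ⟨fun N => max N (AlgzCohLib.szBound N (2 * N + 1) N), fun R _ E a b hv hp N hloc => ?_⟩
  obtain ⟨B, _, φ, hf, P, ⟨hPv, hPp⟩, ⟨eP⟩⟩ := hloc
  letI : Algebra R B := φ.toAlgebra
  have hflat : φ.Flat := by
    haveI := hf.etale
    haveI : AlgebraicGeometry.Flat (AlgebraicGeometry.Spec.map (CommRingCat.ofHom φ)) := inferInstance
    exact (AlgebraicGeometry.HasRingHomProperty.Spec_iff (P := @AlgebraicGeometry.Flat)).mp this
  haveI : Module.Flat R B := hflat
  have hsurj : Function.Surjective (PrimeSpectrum.comap φ) := fun y => by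
    obtain ⟨Z, h0, hlast, -, -, hsec⟩ := hf.flag
    have key : ∀ k : Fin (N + 1), y ∈ (Z k : Set (PrimeSpectrum R)) → ∃ x, PrimeSpectrum.comap φ x = y := fun k => by
      induction k using Fin.induction with
      | zero => rw [h0]; exact fun h => h.elim
      | succ k ih =>
        intro hk
        by_cases hk' : y ∈ (Z k.castSucc : Set (PrimeSpectrum R))
        · exact ih hk'
        · obtain ⟨T, g, s, -, hr, hs⟩ := hsec k
          obtain ⟨t, ht⟩ := (hr.ge ⟨hk, hk'⟩ : y ∈ Set.range fun t : T => g t)
          refine ⟨s t, ?_⟩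
          rw [← hs] at ht
          exact ht
    exact key (Fin.last N) (by rw [hlast]; trivial)
  haveI : Module.FaithfullyFlat R B := Module.FaithfullyFlat.of_comap_surjective hsurj
  have hEB : AlgzCohLib.Sz (DerivedCategory.Q.obj ((Groth.Agent.DRingLib.extCx (algebraMap R B)).obj E))
      ((N : ℤ) + 1 - (2 * N + 1 : ℕ)) N N :=
    ⟨P, fun i hi => hPv i (by push_cast at hi; omega), fun i => ⟨(hPp i).1, (hPp i).2⟩, ⟨eP⟩⟩
  obtain ⟨P₀, hv₀, hp₀, ⟨e₀⟩⟩ := (AlgzCohLib.sz_descend (R := R) (B := B) hf (2 * N + 1) N N E a b hv hp hEB).mono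
    (lo' := -((max N (AlgzCohLib.szBound N (2 * N + 1) N) : ℕ) : ℤ))
    (hi' := ((max N (AlgzCohLib.szBound N (2 * N + 1) N) : ℕ) : ℤ)) (by push_cast; omega) (by push_cast; omega)
    (le_max_right _ _)
  exact ⟨P₀, ⟨hv₀, hp₀⟩, ⟨e₀⟩⟩

end Groth.Agent.S17870
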