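import Groth.Statements.S17872
import Mathlib.Algebra.Polynomial.Roots
import Mathlib.LinearAlgebra.Dual.Lemmas

set_option autoImplicit false
universe u v
open GRRSing

namespace Groth.Agent.S17872

/-- Let H be a vector space over a field K and let b_0, …, b_l be elements of H. If the sum of the t ^ i
• b_i vanishes for infinitely many scalars t of K, then all the b_i are zero. -/
theorem result {K : Type u} {H : Type v} [Field K] [AddCommGroup H] [Module K H]
    (l : ℕ) (b : Fin (l + 1) → H)
    (h : Set.Infinite {t : K | ∑ i : Fin (l + 1), t ^ (i : ℕ) • b i = 0}) :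
    b = 0 := by
  open Polynomial in
  funext i
  refine (Module.forall_dual_apply_eq_zero_iff K (b i)).mp fun φ => ?_
  have hp : (∑ j : Fin (l + 1), C (φ (b j)) * X ^ (j : ℕ) : K[X]) = 0 := by
    refine eq_zero_of_infinite_isRoot _ (h.mono fun t ht => ?_)
    have e := congrArg φ (Set.mem_setOf_eq ▸ ht)
    simp only [map_sum, map_smul, map_zero, smul_eq_mul] at e
    simp only [Set.mem_setOf_eq, IsRoot, eval_finsetSum, eval_mul, eval_C, eval_pow, eval_X]
    rw [← e]
    exact Finset.sum_congr rfl fun j _ => mul_comm _ _
  have := congrArg (fun q : K[X] => q.coeff (i : ℕ)) hp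
  simp only [finsetSum_coeff, coeff_C_mul_X_pow, coeff_zero] at this
  rw [Fintype.sum_eq_single i (fun j hj => if_neg fun h => hj (Fin.ext h.symm)), if_pos rfl] at this
  exact this

end Groth.Agent.S17872
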