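import Groth.Statements.S17873
import Groth.Agent.GenPrefLib.Basic

set_option autoImplicit false
universe u
open GRRSing

namespace Groth.Agent.S17873

/-- Let T be a Cohen–Macaulay Noetherian local ring, J a proper ideal of T, j the grade of J (the
J-depth of T, i.e. the supremum of the lengths of T-regular sequences inside J; a natural number
here) and c the minimal number of generators of J (equal to the dimension of J/𝔪J over the residue
field). Then j ≤ c and there is a generating sequence t_1, …, t_c of J such that t_1, …, t_j is a
T-regular sequence. (The published statement does not exclude J = T; there c = 1 while the grade,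
read as the depth of T, can exceed 1, so this row assumes J proper.) -/
theorem result {T : Type u} [CommRing T] [LocCoh.IsCohenMacaulayLocalRing T]
    (J : Ideal T) (hJ : J ≠ ⊤) (j : ℕ) (hj : LocCoh.idealDepth J T = j) :
    j ≤ Submodule.spanFinrank J ∧
      ∃ ts : List T, ts.length = Submodule.spanFinrank J ∧ Ideal.ofList ts = J ∧
        RingTheory.Sequence.IsRegular T (ts.take j) := by
  have hJm : J ≤ IsLocalRing.maximalIdeal T := IsLocalRing.le_maximalIdeal hJ
  obtain ⟨hle, ts, hl, hJ', hr⟩ :=
    GenPrefLib.exists_generators j T J hJm ((CommAlgDim.le_idealDepth_iff J j).1 hj.ge)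
  refine ⟨hle, ts, hl, hJ', (IsLocalRing.isRegular_iff_isWeaklyRegular_of_subset_maximalIdeal fun r hr' => ?_).2 hr⟩
  exact hJm (hJ' ▸ Ideal.subset_span (List.mem_of_mem_take hr'))
end Groth.Agent.S17873
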