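import Groth.Statements.S17876
import Groth.Agent.CohGenLib.Twist
import Groth.Agent.VBResLib.Euler

set_option autoImplicit false
universe u
open CategoryTheory CategoryTheory.Limits AlgebraicGeometry
attribute [local instance] HasDerivedCategory.standard
open GRRSing

namespace Groth.Agent.S17876

/-- Let W be a Noetherian scheme and V a finite locally free O_W-module of constant rank r. Tensoring
with V is exact and preserves coherence (carried here as hypotheses), so it induces an endomorphism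
[V] ⊗ (−) of K_0(Coh W), the Grothendieck group of coherent O_W-modules. Then [V] ⊗ (−) − r · id is
a nilpotent endomorphism of K_0(Coh W): some iterate of it vanishes identically. (Equivalently:
rk(V) − V is nilpotent in the quotient of K^0(W) by the annihilator of K_0(W).) -/
theorem result {W : Scheme.{u}} [IsNoetherian W] (r : ℕ) (V : W.Modules)
    (hV : FlatMod.IsFinLocFreeOfRank r V)
    [((DCoh.tensorBi (X := W)).obj V).Additive] [PreservesFiniteLimits ((DCoh.tensorBi (X := W)).obj V)]
    [PreservesFiniteColimits ((DCoh.tensorBi (X := W)).obj V)]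
    (hVc : ∀ M : W.Modules, Coh.IsCoh M → Coh.IsCoh (((DCoh.tensorBi (X := W)).obj V).obj M)) :
    ∃ n : ℕ, ∀ y : SGA6.Kcoh W,
      (⇑(SGA6.mapSub ((DCoh.tensorBi (X := W)).obj V) (fun M : W.Modules => Coh.IsCoh M) (fun M : W.Modules => Coh.IsCoh M) hVc -
        r • AddMonoidHom.id (SGA6.Kcoh W)))^[n] y = 0 := by
  classical
  let Δ := SGA6.mapSub ((DCoh.tensorBi (X := W)).obj V) (fun M : W.Modules => Coh.IsCoh M)
    (fun M : W.Modules => Coh.IsCoh M) hVc - r • AddMonoidHom.id (SGA6.Kcoh W)
  choose U hU e using hV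
  obtain ⟨s, hs⟩ : ∃ s : Finset W, (Set.univ : Set W) ⊆ ⋃ y ∈ s, (U y : Set W) :=
    isCompact_univ.elim_finite_subcover (fun y => (U y : Set W)) (fun y => (U y).isOpen)
      fun x _ => Set.mem_iUnion.2 ⟨x, hU x⟩
  have hstep : ∀ (T : W → Prop) (O : W.Opens), Nonempty (V.restrict O.ι ≅ FlatMod.freeMod (O : Scheme.{u}) r) →
      ∀ y ∈ CohGenLib.lower T, Δ y ∈ CohGenLib.lower (fun x => T x ∧ x ∉ O) := by
    rintro T O ⟨e'⟩ y hy
    refine (AddSubgroup.closure_le ((CohGenLib.lower _).comap Δ)).2 ?_ hy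
    rintro _ ⟨G, hG, rfl⟩
    show SGA6.mapSub _ _ _ hVc (CohGenLib.cl G) - r • CohGenLib.cl G ∈ CohGenLib.lower (fun x => T x ∧ x ∉ O)
    erw [VBResLib.mapSub_clSub _ _ _ hVc hG.coh]
    exact CohGenLib.cl_tensor_sub_mem (fun x => ⟨U x, hU x, e x⟩) O e' hG
  have key : ∀ s : Finset W, ∀ y : SGA6.Kcoh W,
      (⇑Δ)^[s.card] y ∈ CohGenLib.lower (fun x : W => ∀ a ∈ s, x ∉ U a) := by
    intro s
    induction s using Finset.induction_on with
    | empty =>
      intro y
      obtain ⟨F, G, hF, hG, rfl⟩ := CohGenLib.exists_diff y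
      exact sub_mem (CohGenLib.cl_mem_lower (CycK0Lib.P.mk hF fun x _ a ha => absurd ha (Finset.notMem_empty a)))
        (CohGenLib.cl_mem_lower (CycK0Lib.P.mk hG fun x _ a ha => absurd ha (Finset.notMem_empty a)))
    | insert a s ha ih =>
      intro y
      rw [Finset.card_insert_of_notMem ha, Function.iterate_succ_apply']
      refine (AddSubgroup.closure_le _).2 ?_ (hstep _ (U a) (e a) _ (ih y))
      rintro _ ⟨G, hG, rfl⟩
      refine CohGenLib.cl_mem_lower (hG.mono' fun x hx b hb => ?_)
      rcases Finset.mem_insert.1 hb with rfl | hb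
      · exact hx.2
      · exact hx.1 b hb
  refine ⟨s.card, fun y => ?_⟩
  refine (AddSubgroup.closure_le (⊥ : AddSubgroup (SGA6.Kcoh W))).2 ?_ (key s y)
  rintro _ ⟨G, hG, rfl⟩
  refine (CohGenLib.addOn_cl (fun _ : W => True)).zero (DevissLib.isZero_of_support_empty
    (Set.eq_empty_iff_forall_notMem.2 fun x hx => ?_))
  obtain ⟨a, ha, hxa⟩ := Set.mem_iUnion₂.1 (hs (Set.mem_univ x))
  exact hG.supp hx a ha hxa

end Groth.Agent.S17876
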