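import Groth.Statements.S17878
import Mathlib
-- import your own Groth.Agent.* helpers here

set_option autoImplicit false
universe u
open Filter Topology
open GRRSing

namespace Groth.Agent.S17878


noncomputable def f (j : ℕ) (y : ℂ) : ℂ := ∑' k : ℕ, (k : ℂ) ^ j * y ^ k

theorem f_rec (j : ℕ) {y : ℂ} (hy : ‖y‖ < 1) :
    (1 - y) * f j y = (if j = 0 then 1 else 0) + y * ∑ i ∈ Finset.range j, (j.choose i : ℂ) * f i y := by
  have hs := fun i => summable_pow_mul_geometric_of_norm_lt_one (R := ℂ) i hy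
  have h1 : f j y = (if j = 0 then 1 else 0) + y * ∑ i ∈ Finset.range (j + 1), (j.choose i : ℂ) * f i y := by
    have h2 : y * ∑ i ∈ Finset.range (j + 1), (j.choose i : ℂ) * f i y =
        ∑' k : ℕ, ((k + 1 : ℕ) : ℂ) ^ j * y ^ (k + 1) := by
      simp only [f, ← tsum_mul_left]
      rw [← Summable.tsum_finsetSum (fun i _ => (hs i).mul_left _), ← tsum_mul_left]
      refine tsum_congr fun k => ?_
      rw [Nat.cast_add, Nat.cast_one, add_pow, Finset.sum_mul, Finset.mul_sum]
      refine Finset.sum_congr rfl fun i _ => ?_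
      rw [one_pow, mul_one, pow_succ]
      ring
    rw [h2, f, (hs j).tsum_eq_zero_add]
    congr 1
    simp [zero_pow_eq]
  rw [Finset.sum_range_succ, Nat.choose_self, Nat.cast_one, one_mul] at h1
  linear_combination h1

theorem E_rec (E : ℕ → ℚ)
    (hE : PowerSeries.mk (fun j => E j / (j.factorial : ℚ)) * (PowerSeries.exp ℚ + 1) = 2) (j : ℕ) :
    2 * E j + ∑ i ∈ Finset.range j, (j.choose i : ℚ) * E i = if j = 0 then 2 else 0 := by
  have h := congrArg (fun p : PowerSeries ℚ => (j.factorial : ℚ) * PowerSeries.coeff j p) hE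
  simp only [mul_add, mul_one, map_add, PowerSeries.coeff_mul, PowerSeries.coeff_mk,
    PowerSeries.coeff_exp, Algebra.algebraMap_self, RingHom.id_apply] at h
  have h2 : (j.factorial : ℚ) * PowerSeries.coeff j (2 : PowerSeries ℚ) = if j = 0 then 2 else 0 := by
    rw [show (2 : PowerSeries ℚ) = PowerSeries.C 2 from (map_ofNat _ 2).symm, PowerSeries.coeff_C]
    split_ifs with h0
    · subst h0; simp
    · simp
  rw [← h2, ← h, Finset.Nat.sum_antidiagonal_eq_sum_range_succ_mk, Finset.mul_sum,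
    mul_div_cancel₀ _ (Nat.cast_ne_zero.mpr j.factorial_ne_zero)]
  simp only [Finset.sum_range_succ, Nat.sub_self, Nat.factorial_zero, Nat.cast_one, div_one, mul_one]
  have e : ∀ i ∈ Finset.range j, (j.factorial : ℚ) * (E i / (i.factorial : ℚ) * (1 / ((j - i).factorial : ℚ))) =
      (j.choose i : ℚ) * E i := fun i hi => by
    rw [Nat.cast_choose ℚ (Finset.mem_range.mp hi).le]
    field_simp
  rw [Finset.sum_congr rfl e]
  field_simp
  ring

theorem tendsto_f (E : ℕ → ℚ)
    (hE : PowerSeries.mk (fun j => E j / (j.factorial : ℚ)) * (PowerSeries.exp ℚ + 1) = 2) (j : ℕ) :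
    Tendsto (fun y : ℝ => f j (y : ℂ)) (𝓝[Set.Ioo (-1 : ℝ) 1] (-1 : ℝ)) (𝓝 ((2 : ℂ)⁻¹ * (E j : ℂ))) := by
  induction j using Nat.strong_induction_on with
  | _ j ih =>
    have hy : Tendsto (fun y : ℝ => (y : ℂ)) (𝓝[Set.Ioo (-1 : ℝ) 1] (-1 : ℝ)) (𝓝 (-1)) := by
      have : Tendsto (fun y : ℝ => (y : ℂ)) (𝓝 (-1 : ℝ)) (𝓝 ((-1 : ℝ) : ℂ)) :=
        Complex.continuous_ofReal.tendsto _
      simpa using this.mono_left nhdsWithin_le_nhds
    have hsum : Tendsto (fun y : ℝ => ∑ i ∈ Finset.range j, (j.choose i : ℂ) * f i (y : ℂ))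
        (𝓝[Set.Ioo (-1 : ℝ) 1] (-1 : ℝ))
        (𝓝 (∑ i ∈ Finset.range j, (j.choose i : ℂ) * ((2 : ℂ)⁻¹ * (E i : ℂ)))) :=
      tendsto_finset_sum _ fun i hi => (ih i (Finset.mem_range.mp hi)).const_mul _
    have hlim := ((hy.mul hsum).const_add (if j = 0 then (1 : ℂ) else 0)).div (hy.const_sub 1)
      (by norm_num)
    have hval : ((if j = 0 then (1 : ℂ) else 0) +
        -1 * ∑ i ∈ Finset.range j, (j.choose i : ℂ) * ((2 : ℂ)⁻¹ * (E i : ℂ))) / (1 - -1) =
        (2 : ℂ)⁻¹ * (E j : ℂ) := by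
      have h := congrArg (fun q : ℚ => (q : ℂ)) (E_rec E hE j)
      simp only [Rat.cast_add, Rat.cast_mul, Rat.cast_sum, Rat.cast_natCast, Rat.cast_ofNat,
        apply_ite (fun q : ℚ => (q : ℂ)), Rat.cast_zero] at h
      have e : ∑ i ∈ Finset.range j, (j.choose i : ℂ) * ((2 : ℂ)⁻¹ * (E i : ℂ)) =
          (2 : ℂ)⁻¹ * ∑ i ∈ Finset.range j, (j.choose i : ℂ) * (E i : ℂ) := by
        rw [Finset.mul_sum]
        exact Finset.sum_congr rfl fun i _ => by ring
      rw [e]
      split_ifs at h ⊢ <;> linear_combination (-1 / 4 : ℂ) * h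
    rw [hval] at hlim
    refine hlim.congr' ?_
    filter_upwards [self_mem_nhdsWithin] with y hy'
    have hn : ‖(y : ℂ)‖ < 1 := by
      rw [Complex.norm_real, Real.norm_eq_abs, abs_lt]
      exact hy'
    have hne : (1 : ℂ) - (y : ℂ) ≠ 0 := by
      refine sub_ne_zero.mpr fun h => ?_
      rw [← h, norm_one] at hn
      exact lt_irrefl _ hn
    show ((if j = 0 then (1 : ℂ) else 0) + (y : ℂ) * _) / (1 - (y : ℂ)) = _
    rw [← f_rec j hn, mul_div_cancel_left₀ _ hne]

/-- Let T be a nonzero commutative normed ℂ-algebra such that the map ℂ → T/nilradical(T) is surjective,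
let P = Σ_j d_j x ^ j be a polynomial over T and put h_k = P(k). Let E_0, E_1, … be the rational
numbers with 2/(e^t + 1) = Σ_j E_j t ^ j / j! (so E_0 = 1, E_1 = -1/2). Then for every complex y
with |y| < 1 the series Σ_k h_k y ^ k converges in T, and as y → -1 along real y in (-1, 1) its sum
tends to (1/2) Σ_j E_j d_j. (The published statement allows any norm topology on T as a complex
vector space; this row takes T a normed ℂ-algebra.) -/
theorem result {T : Type u} [NormedCommRing T] [NormedAlgebra ℂ T] [Nontrivial T]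
    (hT : Function.Surjective (algebraMap ℂ (T ⧸ nilradical T)))
    (E : ℕ → ℚ) (hE : PowerSeries.mk (fun j => E j / (j.factorial : ℚ)) * (PowerSeries.exp ℚ + 1) = 2)
    (P : Polynomial T) :
    (∀ y : ℂ, ‖y‖ < 1 → Summable (fun k : ℕ => y ^ k • P.eval (k : T))) ∧
    Tendsto (fun y : ℝ => ∑' k : ℕ, ((y : ℂ) ^ k) • P.eval (k : T)) (𝓝[Set.Ioo (-1 : ℝ) 1] (-1 : ℝ))
      (𝓝 ((2 : ℂ)⁻¹ • ∑ j ∈ Finset.range (P.natDegree + 1), ((E j : ℚ) : ℂ) • P.coeff j)) := by
  have hev : ∀ (y : ℂ) (k : ℕ), y ^ k • P.eval (k : T) =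
      ∑ j ∈ Finset.range (P.natDegree + 1), ((k : ℂ) ^ j * y ^ k) • P.coeff j := fun y k => by
    rw [Polynomial.eval_eq_sum_range, Finset.smul_sum]
    refine Finset.sum_congr rfl fun j _ => ?_
    rw [mul_comm ((k : ℂ) ^ j), ← smul_smul, Algebra.smul_def ((k : ℂ) ^ j), map_pow, map_natCast,
      mul_comm (P.coeff j)]
  have hs : ∀ (y : ℂ), ‖y‖ < 1 → ∀ j, Summable fun k : ℕ => ((k : ℂ) ^ j * y ^ k) • P.coeff j :=
    fun y hy j => (summable_pow_mul_geometric_of_norm_lt_one (R := ℂ) j hy).smul_const _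
  refine ⟨fun y hy => ?_, ?_⟩
  · simp only [hev]
    exact summable_sum fun j _ => hs y hy j
  · have hlim := tendsto_finset_sum (Finset.range (P.natDegree + 1)) fun j _ =>
      (tendsto_f E hE j).smul_const (P.coeff j)
    have hval : ∑ j ∈ Finset.range (P.natDegree + 1), ((2 : ℂ)⁻¹ * (E j : ℂ)) • P.coeff j =
        (2 : ℂ)⁻¹ • ∑ j ∈ Finset.range (P.natDegree + 1), (E j : ℂ) • P.coeff j := by
      rw [Finset.smul_sum]
      exact Finset.sum_congr rfl fun j _ => (smul_smul _ _ _).symm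
    rw [hval] at hlim
    refine hlim.congr' ?_
    filter_upwards [self_mem_nhdsWithin] with y hy'
    have hn : ‖(y : ℂ)‖ < 1 := by
      rw [Complex.norm_real, Real.norm_eq_abs, abs_lt]
      exact hy'
    simp only [hev]
    rw [Summable.tsum_finsetSum fun j _ => hs _ hn j]
    refine Finset.sum_congr rfl fun j _ => ?_
    exact ((summable_pow_mul_geometric_of_norm_lt_one (R := ℂ) j hn).tsum_smul_const _).symm

end Groth.Agent.S17878
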