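import Groth.Statements.S17880
import Groth.Agent.NoethApproxLib.Systems
-- import your own Groth.Agent.* helpers here

set_option autoImplicit false
universe u
open CategoryTheory AlgebraicGeometry
open Lim

namespace Groth.Agent.S17880

/-- Let f : Y → X be a morphism of schemes with X and Y quasi-compact and quasi-separated. Then f is the
composite of an affine morphism Y → Z and a morphism Z → X of finite presentation (locally of finite
presentation, quasi-compact and quasi-separated); if f is separated, Z → X can in addition be chosen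
separated. Both assertions are packaged in one existential. -/
theorem result {X Y : Scheme.{u}} (f : Y ⟶ X)
    [CompactSpace X] [QuasiSeparatedSpace X] [CompactSpace Y] [QuasiSeparatedSpace Y] :
    ∃ (Z : Scheme.{u}) (g : Y ⟶ Z) (h : Z ⟶ X), IsAffineHom g ∧ LocallyOfFinitePresentation h ∧
      QuasiCompact h ∧ QuasiSeparated h ∧ (IsSeparated f → IsSeparated h) ∧ g ≫ h = f := by
  obtain ⟨P⟩ := NoethApproxLib.exists_system f
  obtain ⟨i, hi⟩ : ∃ i, IsSeparated f → IsSeparated (P.D.obj i).hom := by
    by_cases hf : IsSeparated f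
    · obtain ⟨i₁, h⟩ := P.exists_isSeparated
      exact ⟨i₁, fun _ ↦ h i₁ (𝟙 i₁)⟩
    · obtain ⟨i⟩ := IsCofiltered.nonempty (C := P.Jᵒᵖ)
      exact ⟨i, fun h ↦ absurd h hf⟩
  exact ⟨_, P.proj i, (P.D.obj i).hom, P.isAffineHom_proj i, P.lfp i, P.qc i, P.qs i, hi, P.proj_hom i⟩

end Groth.Agent.S17880
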