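import Groth.Statements.S17879
import Groth.Agent.NagataCompLib.Nagata
import Groth.Agent.S17880

set_option autoImplicit false
universe u
open CategoryTheory AlgebraicGeometry
open Lim

namespace Groth.Agent.S17879

/-- Let f : Y → X be a morphism of schemes with X and Y quasi-compact and quasi-separated. Then f is
separated if and only if it is the composite of an affine morphism Y → Z and a proper morphism Z →
X, for some scheme Z. -/
theorem result {X Y : Scheme.{u}} (f : Y ⟶ X)
    [CompactSpace X] [QuasiSeparatedSpace X] [CompactSpace Y] [QuasiSeparatedSpace Y] :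
    IsSeparated f ↔
      ∃ (Z : Scheme.{u}) (g : Y ⟶ Z) (h : Z ⟶ X), IsAffineHom g ∧ IsProper h ∧ g ≫ h = f := by
  refine ⟨fun hf => ?_, ?_⟩
  · obtain ⟨Z, g, h, hg, hlfp, hqc, -, hsep, rfl⟩ := Groth.Agent.S17880.result f
    haveI := hg
    haveI := hlfp
    haveI := hqc
    haveI := hsep hf
    obtain ⟨Zc, j, p, hj, hjq, hp, rfl⟩ := NagataCompLib.exists_compactification h
    haveI := hj
    haveI := hjq
    haveI := hp
    haveI : CompactSpace Zc := QuasiCompact.compactSpace_of_compactSpace p
    haveI : QuasiSeparatedSpace Zc := quasiSeparatedSpace_of_quasiSeparated p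
    haveI : CompactSpace Z := QuasiCompact.compactSpace_of_compactSpace (j ≫ p)
    have hU : IsCompact (j.opensRange : Set Zc) := by
      rw [Scheme.Hom.coe_opensRange]; exact isCompact_range j.continuous
    obtain ⟨I, hI, hIs⟩ := MiscFlat6.exists_finiteType_idealSheaf j.opensRange hU
    have ha : BlowUp.IsAdmissibleFor j.opensRange I := ⟨hI, by rw [hIs]; exact disjoint_compl_left⟩
    obtain ⟨W, b, hb⟩ := BlowUpLib.exists_isBlowUp Zc I
    haveI := BlowUpLib.isProper_of_isBlowUp hb hI
    haveI := NagataCompLib.isIso_restrict_of_admissible hb ha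
    have hint : ModPair.interior (I.comap b) = b ⁻¹ᵁ j.opensRange := by
      rw [ModPairLib.interior_comap]
      congr 1
      exact TopologicalSpace.Opens.ext ((congrArg (·ᶜ) hIs).trans (compl_compl _))
    haveI : IsAffineHom (b ⁻¹ᵁ j.opensRange).ι := hint ▸ ModPairLib.isAffineHom_interior hb.1
    refine ⟨W, g ≫ j.isoOpensRange.hom ≫ inv (b ∣_ j.opensRange) ≫ (b ⁻¹ᵁ j.opensRange).ι, b ≫ p, inferInstance,
      inferInstance, ?_⟩
    simp only [Category.assoc]
    rw [← morphismRestrict_ι_assoc, IsIso.inv_hom_id_assoc]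
    simp [Scheme.Hom.isoOpensRange]
  · rintro ⟨Z, g, h, hg, hh, rfl⟩
    infer_instance

end Groth.Agent.S17879
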