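import Groth.Statements.S17881
import Mathlib.RingTheory.LocalRing.Basic
import Mathlib.RingTheory.Coprime.Basic
import Mathlib.Tactic.LinearCombination

set_option autoImplicit false
universe u
open CAlg

namespace Groth.Agent.S17881

/-- Let O be a subring of a nontrivial commutative ring A. The following are equivalent: (i) A is a
local ring, every non-unit of A belongs to O, and for every unit u of A one of u, u⁻¹ belongs to O —
equivalently O is the preimage in the local ring A of a valuation ring of the residue field of A,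
which makes O a semi-valuation ring with semi-fraction ring A; (ii) for all f, g in A generating the
unit ideal, either f ∈ gO or g ∈ fO. (A is taken nontrivial: over the zero ring (ii) holds and (i)
fails.) -/
theorem result (A : Type u) [CommRing A] [Nontrivial A]
    (O : Subring A) :
    (IsLocalRing A ∧ (∀ a : A, ¬ IsUnit a → a ∈ O) ∧ (∀ u : Aˣ, (u : A) ∈ O ∨ ((u⁻¹ : Aˣ) : A) ∈ O)) ↔
      ∀ f g : A, IsCoprime f g → (∃ o ∈ O, f = g * o) ∨ (∃ o ∈ O, g = f * o) := by
  constructor
  · rintro ⟨hl, hnon, hunit⟩ f g hc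
    obtain ⟨a, b, hab⟩ := hc
    have key : ∀ f g : A, IsUnit g → (∃ o ∈ O, f = g * o) ∨ (∃ o ∈ O, g = f * o) := by
      intro f g hg
      obtain ⟨u, rfl⟩ := hg
      by_cases hf : IsUnit f
      · obtain ⟨v, rfl⟩ := hf
        rcases hunit (u⁻¹ * v) with h | h
        · exact Or.inl ⟨_, h, by rw [Units.val_mul, Units.mul_inv_cancel_left]⟩
        · refine Or.inr ⟨_, h, ?_⟩
          rw [mul_inv_rev, inv_inv, Units.val_mul, Units.mul_inv_cancel_left]
      · exact Or.inl ⟨((u⁻¹ : Aˣ) : A) * f, hnon _ fun h => hf (isUnit_of_mul_isUnit_right h),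
          by rw [Units.mul_inv_cancel_left]⟩
    by_cases hg : IsUnit g
    · exact key f g hg
    · have hf : IsUnit f := by
        rcases IsLocalRing.isUnit_or_isUnit_of_add_one (a := a * f) (b := b * g) hab with h | h
        · exact isUnit_of_mul_isUnit_right h
        · exact absurd (isUnit_of_mul_isUnit_right h) hg
      exact (key g f hf).symm
  · intro h
    have h1 : ∀ a : A, a ∈ O ∨ ∃ o ∈ O, a * o = 1 := fun a => by
      rcases h a 1 isCoprime_one_right with ⟨o, ho, he⟩ | ⟨o, ho, he⟩
      · exact Or.inl (by rw [he, one_mul]; exact ho)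
      · exact Or.inr ⟨o, ho, he.symm⟩
    refine ⟨IsLocalRing.of_isUnit_or_isUnit_one_sub_self fun a => ?_, fun a ha => ?_, fun u => ?_⟩
    · rcases h a (1 - a) ⟨1, 1, by ring⟩ with ⟨o, -, he⟩ | ⟨o, -, he⟩
      · exact Or.inr (IsUnit.of_mul_eq_one (1 + o) (by linear_combination -he))
      · exact Or.inl (IsUnit.of_mul_eq_one (1 + o) (by linear_combination -he))
    · rcases h1 a with h2 | ⟨o, -, ho⟩
      · exact h2
      · exact absurd (IsUnit.of_mul_eq_one o ho) ha
    · rcases h1 u with h2 | ⟨o, ho, he⟩
      · exact Or.inl h2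
      · exact Or.inr (by rwa [← left_inv_eq_right_inv (Units.inv_mul u) he] at ho)

end Groth.Agent.S17881
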