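import Groth.Statements.S17882
import Mathlib.LinearAlgebra.Matrix.Adjugate
import Mathlib.LinearAlgebra.Matrix.NonsingularInverse

set_option autoImplicit false
universe u
open CAlg

namespace Groth.Agent.S17882

/-- Let B be a commutative ring, r ≥ 1, N a finitely generated submodule of B^r, and n_1, …, n_r ∈ N.
Suppose the determinant of the matrix with rows n_1, …, n_r is a nonzerodivisor of B and that the
determinant of every matrix whose rows lie in N is a multiple of it (the image of the top exterior
power of N in that of B^r ≅ B is the principal ideal generated by n_1 ∧ ⋯ ∧ n_r, a nonzerodivisor).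
Then n_1, …, n_r are linearly independent over B and span N: N is free of rank r with this basis. -/
theorem result (B : Type u) [CommRing B] (r : ℕ) (hr : 0 < r)
    (N : Submodule B (Fin r → B)) (hN : N.FG) (n : Fin r → (Fin r → B)) (hn : ∀ i, n i ∈ N)
    (hgen : ∀ m : Fin r → (Fin r → B), (∀ i, m i ∈ N) →
      Matrix.det (Matrix.of m) ∈ Ideal.span {Matrix.det (Matrix.of n)})
    (hnzd : Matrix.det (Matrix.of n) ∈ nonZeroDivisors B) :
    LinearIndependent B n ∧ Submodule.span B (Set.range n) = N := by
  classical
  let M : Matrix (Fin r) (Fin r) B := Matrix.of n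
  have hcomb : ∀ c : Fin r → B, ∑ i, c i • n i = M.transpose.mulVec c := by
    intro c
    funext j
    rw [Finset.sum_apply]
    simp only [Matrix.mulVec, dotProduct, Matrix.transpose_apply, Pi.smul_apply, smul_eq_mul]
    exact Finset.sum_congr rfl fun i _ => by rw [mul_comm]; rfl
  refine ⟨?_, le_antisymm (Submodule.span_le.2 (by rintro _ ⟨i, rfl⟩; exact hn i)) fun v hv => ?_⟩
  · rw [Fintype.linearIndependent_iff]
    intro c hc i
    rw [hcomb] at hc
    have h := congrArg M.transpose.adjugate.mulVec hc
    rw [Matrix.mulVec_mulVec, Matrix.adjugate_mul, Matrix.smul_mulVec, Matrix.one_mulVec,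
      Matrix.mulVec_zero, Matrix.det_transpose] at h
    have h2 := congrFun h i
    rw [Pi.smul_apply, smul_eq_mul, Pi.zero_apply, mul_comm] at h2
    exact (mem_nonZeroDivisors_iff_right.1 hnzd) _ h2
  · have hd : ∀ i, ∃ e, e * M.det = Matrix.cramer M.transpose v i := fun i => by
      refine Ideal.mem_span_singleton'.1 ?_
      rw [Matrix.cramer_apply, Matrix.updateCol_transpose, Matrix.det_transpose]
      exact hgen (M.updateRow i v) fun j => by
        rcases eq_or_ne j i with rfl | hj
        · rw [Matrix.updateRow_self]; exact hv
        · rw [Matrix.updateRow_ne hj]; exact hn j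
    choose e he using hd
    have h : M.det • v = M.det • (M.transpose.mulVec e) := by
      rw [← Matrix.mulVec_smul, show M.det • e = Matrix.cramer M.transpose v from funext fun i => by
        rw [Pi.smul_apply, smul_eq_mul, mul_comm, he], Matrix.mulVec_cramer, Matrix.det_transpose]
    have hv' : v = M.transpose.mulVec e := funext fun j => by
      have h2 := congrFun h j
      rw [Pi.smul_apply, Pi.smul_apply, smul_eq_mul, smul_eq_mul] at h2
      exact (isRegular_iff_mem_nonZeroDivisors.2 hnzd).left h2
    rw [hv', ← hcomb]
    exact Submodule.sum_mem _ fun i _ => Submodule.smul_mem _ _ (Submodule.subset_span ⟨i, rfl⟩)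

end Groth.Agent.S17882
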