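import Groth.Statements.S17883
import Groth.Agent.StrictModLib.Extend
import Groth.Agent.NagataCompLib.Nagata

set_option autoImplicit false
universe u v
open CategoryTheory AlgebraicGeometry
open FlatMor

namespace Groth.Agent.S17883

/-- Let S be a Noetherian scheme and f : X → S a separated morphism of finite type, and let (E_i) be a
finite family of finite locally free O_X-modules. Then there exist a scheme X', an open immersion j
: X → X' with schematically dense image (scheme-theoretically dominant and quasi-compact) and a
proper morphism g : X' → S with j ≫ g = f, and for each i a finite locally free module E'_i on X'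
whose pullback along j is isomorphic to E_i. For the empty family this is Nagata's embedding into a
proper S-scheme with schematically dense image. -/
theorem result {S X : Scheme.{u}} (f : X ⟶ S)
    [IsNoetherian S] [IsSeparated f] [QuasiCompact f] [LocallyOfFiniteType f]
    {ι : Type v} [Finite ι] (E : ι → X.Modules) (hE : ∀ i, FlatMod.IsFinLocFree (E i)) :
    ∃ (X' : Scheme.{u}) (j : X ⟶ X') (g : X' ⟶ S), IsOpenImmersion j ∧ QuasiCompact j ∧
      IsSchemeTheoreticallyDominant j ∧ IsProper g ∧ j ≫ g = f ∧
      ∀ i, ∃ E' : X'.Modules, FlatMod.IsFinLocFree E' ∧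
        Nonempty ((Scheme.Modules.pullback j).obj E' ≅ E i) := by
  obtain ⟨Y, j₀, p, hj₀, _, hp, hjp⟩ := NagataCompLib.exists_compactification f
  haveI := hp
  haveI := hj₀
  haveI : IsLocallyNoetherian Y := LocallyOfFiniteType.isLocallyNoetherian p
  haveI : CompactSpace Y := QuasiCompact.compactSpace_of_compactSpace p
  haveI : IsNoetherian Y := { }
  obtain ⟨Y', h, j, hQ, h1, h2, h3, h4, hE'⟩ := StrictModLib.exists_extend_finLocFree @IsProper
    (fun A B _ b I hb => BlowUpLib.isProper_of_isBlowUp hb (Groth.Agent.LocImmLib.isFiniteTypeIdeal I))
    (fun A B _ i hi => by haveI := hi; infer_instance) j₀ E hE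
  haveI : IsProper h := hQ
  exact ⟨Y', j, h ≫ p, h1, h2, h3, inferInstance, by rw [← Category.assoc, h4, hjp], hE'⟩

end Groth.Agent.S17883
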