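import Groth.Statements.S17884
import Groth.Agent.LinSysLib.QProj
import Groth.Agent.StrictModLib.Extend
import Groth.Agent.LocImmLib.Modify

set_option autoImplicit false
universe u v
open CategoryTheory AlgebraicGeometry
open FlatMor

namespace Groth.Agent.S17884

/-- Let S be a Noetherian scheme and f : X → S a separated quasi-projective morphism (of finite type,
with an f-ample invertible module), and let (E_i) be a finite family of finite locally free
O_X-modules. Then there exist a scheme X', an open immersion j : X → X' with schematically dense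
image and a projective morphism g : X' → S with j ≫ g = f, and for each i a finite locally free
module on X' whose pullback along j is isomorphic to E_i. -/
theorem result {S X : Scheme.{u}} (f : X ⟶ S)
    [IsNoetherian S] [IsSeparated f] (hf : RelProj.IsQuasiProjective f)
    {ι : Type v} [Finite ι] (E : ι → X.Modules) (hE : ∀ i, FlatMod.IsFinLocFree (E i)) :
    ∃ (X' : Scheme.{u}) (j : X ⟶ X') (g : X' ⟶ S), IsOpenImmersion j ∧ QuasiCompact j ∧
      IsSchemeTheoreticallyDominant j ∧ RelProj.IsProjective g ∧ j ≫ g = f ∧
      ∀ i, ∃ E' : X'.Modules, FlatMod.IsFinLocFree E' ∧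
        Nonempty ((Scheme.Modules.pullback j).obj E' ≅ E i) := by
  obtain ⟨P, j₀, p, hj₀, -, -, hp, hjp⟩ := LinSysLib.exists_projective_compactification hf
  haveI := hj₀
  haveI := RelProjLib.isProper_of_isProjective hp
  haveI : IsLocallyNoetherian P := LocallyOfFiniteType.isLocallyNoetherian p
  haveI : CompactSpace P := QuasiCompact.compactSpace_of_compactSpace p
  haveI : IsNoetherian P := { }
  obtain ⟨P', h, j, hQ, h1, h2, h3, h4, hE'⟩ := StrictModLib.exists_extend_finLocFree LinSysLib.projOverNoetherian
    (fun A B _ b I hb _ => LinSysLib.isProjective_of_isBlowUp hb (Groth.Agent.LocImmLib.isFiniteTypeIdeal I))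
    (fun A B _ i hi _ => by haveI := hi; exact LinSysLib.isProjective_of_isFinite i) j₀ E hE
  exact ⟨P', j, h ≫ p, h1, h2, h3, LinSysLib.isProjective_comp (hQ inferInstance) hp,
    by rw [← Category.assoc, h4, hjp], hE'⟩

end Groth.Agent.S17884
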