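import Groth.Statements.S2336
import Groth.Agent.AmpleThLib.Ample

set_option autoImplicit false
universe u
open CategoryTheory CategoryTheory.Limits AlgebraicGeometry
open EGA2

namespace Groth.Agent.S2336

/-- Let X be a quasi-compact separated scheme (the source also allows a prescheme with Noetherian
underlying space). Then X is quasi-affine if and only if O_X is an ample invertible module. -/
theorem result (X : Scheme.{u}) [CompactSpace X] [X.IsSeparated] :
    X.IsQuasiAffine ↔ CohB1.IsAmple (Coh.structureModule X) := by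
  have hg : AmpleLib.GenOn (Coh.structureModule X) (W := ⊤) (1 : Γ(X, ⊤)) := AmpleLib.one_genOn ⊤
  have hO : PicF.IsInvertible (Coh.structureModule X) :=
    fun x => ⟨⊤, trivial, TwistLib.nonempty_iso_of_genOn _ hg⟩
  refine ⟨fun _ => AmpleThLib.isAmple_of_isQuasiAffine hO, fun h => ?_⟩
  refine Scheme.IsQuasiAffine.of_forall_exists_mem_basicOpen X fun x => ?_
  obtain ⟨n, V, -, hV, hxV, haff⟩ := ((AmpleThLib.isAmple_iff (hL := hO)).mp h).2 x
  obtain ⟨f, rfl⟩ := hV.exists_basicOpen hg
  exact ⟨f, haff, hxV⟩

end Groth.Agent.S2336
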