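import Groth.Statements.S17886
import Groth.Agent.NagataCompLib.Tools
import Groth.Agent.S2336
import Groth.Agent.MiscFlat6.QALocus
import Groth.Agent.AmpleDevLib.Components
import Groth.Agent.ParaFLib.Basic

set_option autoImplicit false
universe u
open CategoryTheory AlgebraicGeometry
open FlatMor

namespace Groth.Agent.S17886

/-- Let S be a Noetherian scheme and f : X → S separated and of finite type. Then X is covered by
finitely many affine opens U_1, …, U_n each of which is dense in X and quasi-projective over S (of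
finite type with a relatively ample invertible module). -/
theorem result {S X : Scheme.{u}} (f : X ⟶ S)
    [IsNoetherian S] [IsSeparated f] [QuasiCompact f] [LocallyOfFiniteType f] :
    ∃ (n : ℕ) (U : Fin n → X.Opens), (⨆ i, U i) = ⊤ ∧
      ∀ i, IsAffineOpen (U i) ∧ Dense ((U i : Set X)) ∧ RelProj.IsQuasiProjective ((U i).ι ≫ f) := by
  classical
  haveI : IsLocallyNoetherian X := LocallyOfFiniteType.isLocallyNoetherian f
  haveI : CompactSpace X := QuasiCompact.compactSpace_of_compactSpace f
  haveI : IsNoetherian X := { }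
  have key : ∀ x : X, ∃ U : X.Opens, x ∈ U ∧ IsAffineOpen U ∧ Dense (U : Set X) := by
    intro x
    obtain ⟨A, hA, hxA, -⟩ := exists_isAffineOpen_mem_and_subset (x := x) (U := ⊤) trivial
    obtain ⟨M, ⟨hxM, hM⟩, hmax⟩ := (wellFounded_gt (α := X.Opens)).has_min {U | x ∈ U ∧ IsAffineOpen U} ⟨A, hxA, hA⟩
    refine ⟨M, hxM, hM, fun y => ?_⟩
    by_contra hy
    obtain ⟨W, hW, hyW, hWM⟩ := exists_isAffineOpen_mem_and_subset (x := y)
      (U := ⟨(closure (M : Set X))ᶜ, isClosed_closure.isOpen_compl⟩) hy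
    have hd : Disjoint M W := disjoint_iff_inf_le.mpr fun z hz => hWM hz.2 (subset_closure hz.1)
    refine hmax (M ⊔ W) ⟨Or.inl hxM, hM.sup_of_disjoint hW hd⟩ (lt_of_le_of_ne le_sup_left fun h => ?_)
    exact hy (subset_closure (h.ge (Or.inr hyW)))
  choose U hxU hUa hUd using key
  obtain ⟨t, ht⟩ := isCompact_univ.elim_finite_subcover (fun x => (U x : Set X)) (fun x => (U x).isOpen)
    (fun x _ => Set.mem_iUnion.mpr ⟨x, hxU x⟩)
  refine ⟨t.card, fun i => U (t.equivFin.symm i), eq_top_iff.mpr fun x _ => ?_, fun i => ⟨hUa _, hUd _, ?_⟩⟩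
  · obtain ⟨y, hy, hxy⟩ := Set.mem_iUnion₂.mp (ht (Set.mem_univ x))
    exact TopologicalSpace.Opens.mem_iSup.mpr ⟨t.equivFin ⟨y, hy⟩, by simpa using hxy⟩
  · let W := U (t.equivFin.symm i)
    haveI : IsAffine W := hUa _
    refine ⟨inferInstance, inferInstance, Coh.structureModule W, inferInstance, fun V => ?_⟩
    let T := (W.ι ≫ f) ⁻¹ᵁ V.1
    haveI : CompactSpace T := isCompact_iff_compactSpace.mp ((W.ι ≫ f).isCompact_preimage V.2.isCompact)
    haveI : QuasiCompact T.ι := NagataCompLib.quasiCompact_of_compactSpace _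
    haveI : (T : Scheme).IsQuasiAffine := Scheme.IsQuasiAffine.of_isImmersion T.ι
    have hT := (Groth.Agent.S2336.result (T : Scheme)).mp inferInstance
    obtain ⟨e⟩ := MiscFlat6.nonempty_restrict_structureModule T.ι
    exact AmpleDevLib.isAmple_of_iso hT.1 (ParaFLib.isInvertible_restrict T.ι (MiscFlat6.isInvertible_structureModule _)) e.symm hT

end Groth.Agent.S17886
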