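import Groth.Statements.S17887
import Groth.Agent.BlowUpLib.Strict

set_option autoImplicit false
universe u
open CategoryTheory AlgebraicGeometry
open BlowUp

namespace Groth.Agent.S17887

open CategoryTheory AlgebraicGeometry

theorem dominant_homOfLE {X : Scheme.{u}} {U C : X.Opens} (h : U ≤ C) [QuasiCompact U.ι]
    [IsSchemeTheoreticallyDominant U.ι] : IsSchemeTheoreticallyDominant (X.homOfLE h) := by
  have h1 : IsPullback (𝟙 (U : Scheme.{u})) (X.homOfLE h) U.ι C.ι :=
    IsOpenImmersion.isPullback _ _ _ _ (by simp) (by simp)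
  exact IsSchemeTheoreticallyDominant.of_isPullback h1


/-- Let X be a Noetherian scheme, U ⊆ X an open subscheme that is schematically dense in X, I a
quasi-coherent ideal sheaf on X whose support does not meet U, and π : X' → X a blowing-up of X
along I. Then π⁻¹(U) is schematically dense in X'. -/
theorem result {X X' : Scheme.{u}} [IsNoetherian X]
    (U : X.Opens) [IsSchemeTheoreticallyDominant U.ι] (𝓘 : X.IdealSheafData)
    (hU : Disjoint (𝓘.support : Set X) (U : Set X)) (π : X' ⟶ X) (hπ : BlowUp.IsBlowUp π 𝓘) :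
    IsSchemeTheoreticallyDominant (π ⁻¹ᵁ U).ι := by
  let C : X.Opens := 𝓘.support.compl
  have hUC : U ≤ C := fun x hx hs => Set.disjoint_left.mp hU hs hx
  have hq : ∀ (W : X.Opens), QuasiCompact W.ι := fun W => inferInstance
  have hiso : IsIso (π ∣_ C) := EffCartLib.isIso_off_center 𝓘 π hπ C le_rfl
  have h1 : IsSchemeTheoreticallyDominant (X.homOfLE hUC) := dominant_homOfLE hUC
  have hsq : IsPullback (π ∣_ U) (X'.homOfLE (π.preimage_mono hUC)) (X.homOfLE hUC) (π ∣_ C) := by
    refine IsPullback.of_bot (t := isPullback_morphismRestrict π C) ?_ ?_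
    · rw [Scheme.homOfLE_ι, Scheme.homOfLE_ι]
      exact isPullback_morphismRestrict π U
    · rw [← cancel_mono C.ι]
      simp
  have : QuasiCompact (X.homOfLE hUC) := by
    have : QuasiCompact (X.homOfLE hUC ≫ C.ι) := by rw [Scheme.homOfLE_ι]; infer_instance
    exact QuasiCompact.of_comp (X.homOfLE hUC) C.ι
  haveI hfl : Flat (π ∣_ C) := @MorphismProperty.of_isIso _ _ @Flat _ _ _ _ _ hiso
  have h2 : IsSchemeTheoreticallyDominant (X'.homOfLE (π.preimage_mono hUC)) :=
    IsSchemeTheoreticallyDominant.of_isPullback hsq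
  have hC : IsSchemeTheoreticallyDominant (π ⁻¹ᵁ C).ι := by
    have h := ModPairLib.isDominant_interior hπ.1
    rwa [ModPairLib.interior_comap] at h
  rw [← Scheme.homOfLE_ι X' (π.preimage_mono hUC)]
  infer_instance
end Groth.Agent.S17887
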