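import Groth.Statements.S17889
import Groth.Agent.LocImmLib.Modify
import Groth.Agent.ModPairLib.Product

set_option autoImplicit false
universe u
open CategoryTheory AlgebraicGeometry TopologicalSpace
open BlowUp

namespace Groth.Agent.S17889
open CategoryTheory.Limits

/-- Let X be a Noetherian scheme, X₀ ⊆ X an open subscheme, p : Z → X a morphism of finite type with Z
Noetherian, and F ⊆ X, G ⊆ Z closed subsets with p⁻¹(F ∩ X₀) ∩ G = ∅. Let a be a quasi-coherent
ideal sheaf on X whose support does not meet X₀, which contains the vanishing ideal I_F of F, and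
which is contained in the kernel ideal of V(I_F·O_Z + I_G) → Z → X (the ideal of the
scheme-theoretic image under p of p⁻¹(F) ∩ G). Let π : X' → X be a blowing-up along a, Z' = Z ×_X X'
with projections π' : Z' → Z and p' : Z' → X'. Then p'⁻¹ of the closure in X' of π⁻¹(F ∩ X₀) is
disjoint from the closure in Z' of π'⁻¹(G ∩ p⁻¹(X₀)). Taking a to be that kernel ideal shows such an
a exists. -/
theorem result
    {X Z : Scheme.{u}} [IsNoetherian X] [IsNoetherian Z] (p : Z ⟶ X) [LocallyOfFiniteType p]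
    (X₀ : X.Opens) (F : Closeds X) (G : Closeds Z)
    (hFG : p.base ⁻¹' ((F : Set X) ∩ (X₀ : Set X)) ∩ (G : Set Z) = ∅)
    (𝔞 : X.IdealSheafData) (h₁ : Disjoint (𝔞.support : Set X) (X₀ : Set X))
    (h₂ : Scheme.IdealSheafData.vanishingIdeal F ≤ 𝔞)
    (h₃ : 𝔞 ≤ (((Scheme.IdealSheafData.vanishingIdeal F).comap p ⊔
      Scheme.IdealSheafData.vanishingIdeal G).subschemeι ≫ p).ker)
    {X' : Scheme.{u}} (π : X' ⟶ X) (hπ : BlowUp.IsBlowUp π 𝔞) :
    (Limits.pullback.snd p π).base ⁻¹' closure (π.base ⁻¹' ((F : Set X) ∩ (X₀ : Set X))) ∩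
      closure ((Limits.pullback.fst p π).base ⁻¹' ((G : Set Z) ∩ (p ⁻¹ᵁ X₀ : Set Z))) = ∅ := by
  classical
  haveI := BlowUpLib.isProper_of_isBlowUp hπ (Groth.Agent.LocImmLib.isFiniteTypeIdeal 𝔞)
  haveI : IsNoetherian X' := Groth.Agent.LocImmLib.isNoetherian_of_isBlowUp hπ
  haveI : IsLocallyNoetherian (pullback p π) := LocallyOfFiniteType.isLocallyNoetherian (pullback.fst p π)
  haveI : CompactSpace ↥(pullback p π) := QuasiCompact.compactSpace_of_compactSpace (pullback.fst p π)
  haveI : IsNoetherian (pullback p π) := { }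
  refine Set.eq_empty_iff_forall_notMem.mpr fun z ⟨hzF, hzG⟩ => ?_
  -- a generization of `z` in the strict part of the preimage of `G`
  obtain ⟨η, ⟨hηG, hηX⟩, hηz⟩ : ∃ η : ↥(pullback p π),
      (pullback.fst p π η ∈ (G : Set Z) ∧ p (pullback.fst p π η) ∈ X₀) ∧ η ⤳ z := by
    let S₀ : Set ↥(pullback p π) := (pullback.fst p π) ⁻¹' ((G : Set Z) ∩ (p ⁻¹ᵁ X₀ : Set Z))
    obtain ⟨T, hTf, hTc, hTi, hT⟩ :=
      TopologicalSpace.NoetherianSpace.exists_finite_set_isClosed_irreducible (isClosed_closure (s := S₀))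
    obtain ⟨K, ⟨hK, w, hwK, hw⟩, hzK⟩ : z ∈ ⋃₀ {K ∈ T | (K ∩ S₀).Nonempty} :=
      closure_minimal (fun y hy => by
        obtain ⟨K, hK, hyK⟩ := hT ▸ subset_closure hy
        exact ⟨K, ⟨hK, y, hyK, hy⟩, hyK⟩)
        (Set.sUnion_eq_biUnion ▸ (hTf.subset fun K hK => hK.1).isClosed_biUnion fun K hK => hTc K hK.1) hzG
    have hη : IsGenericPoint (hTi K hK).genericPoint K := (hTi K hK).isGenericPoint_genericPoint (hTc K hK)
    refine ⟨(hTi K hK).genericPoint, ⟨?_, ?_⟩, hη.specializes hzK⟩
    · have h1 : (hTi K hK).genericPoint ∈ closure S₀ := hT ▸ ⟨K, hK, hη.mem⟩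
      exact closure_minimal (fun y hy => hy.1) (G.isClosed.preimage (pullback.fst p π).continuous) h1
    · exact (hη.mem_open_set_iff ((p ⁻¹ᵁ X₀).isOpen.preimage (pullback.fst p π).continuous)).mpr ⟨w, hwK, hw.2⟩
  let P := pullback p π
  obtain ⟨q, hq⟩ : η ∈ Set.range (P.fromSpecStalk z) := by rw [Scheme.range_fromSpecStalk]; exact hηz
  let D : CommRingCat.{u} := CommRingCat.of (P.presheaf.stalk z ⧸ q.asIdeal)
  let ι : Spec D ⟶ P := Spec.map (CommRingCat.ofHom (Ideal.Quotient.mk q.asIdeal)) ≫ P.fromSpecStalk z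
  haveI : IsDomain D := inferInstanceAs (IsDomain (P.presheaf.stalk z ⧸ q.asIdeal))
  haveI : IsNoetherianRing D := inferInstanceAs (IsNoetherianRing (P.presheaf.stalk z ⧸ q.asIdeal))
  haveI : IsLocalRing D :=
    IsLocalRing.of_surjective' (Ideal.Quotient.mk q.asIdeal) Ideal.Quotient.mk_surjective
  let gp : Spec D := ⟨⊥, Ideal.isPrime_bot⟩
  let cp : Spec D := IsLocalRing.closedPoint D
  have hgp : ι gp = η := by
    rw [← hq, Scheme.Hom.comp_apply]
    congr 1
    refine PrimeSpectrum.ext ?_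
    show Ideal.comap (Ideal.Quotient.mk q.asIdeal) ⊥ = q.asIdeal
    rw [← RingHom.ker_eq_comap_bot, Ideal.mk_ker]
  have hcp : ι cp = z := by
    rw [Scheme.Hom.comp_apply]
    haveI : IsLocalHom (Ideal.Quotient.mk q.asIdeal) := .of_surjective _ Ideal.Quotient.mk_surjective
    rw [show (Spec.map (CommRingCat.ofHom (Ideal.Quotient.mk q.asIdeal))) cp =
      IsLocalRing.closedPoint (P.presheaf.stalk z) from IsLocalRing.comap_closedPoint (Ideal.Quotient.mk q.asIdeal)]
    exact Scheme.fromSpecStalk_closedPoint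
  have hgen : ∀ y : Spec D, gp ⤳ y := fun y => (PrimeSpectrum.le_iff_specializes gp y).mp bot_le
  let t : Spec D ⟶ X := ι ≫ pullback.fst p π ≫ p
  let I_F := Scheme.IdealSheafData.vanishingIdeal F
  let I_G := Scheme.IdealSheafData.vanishingIdeal G
  -- `G` pulls back to zero
  have hG : I_G.comap (ι ≫ pullback.fst p π) = ⊥ := by
    refine le_bot_iff.mp ?_
    have hs : (I_G.comap (ι ≫ pullback.fst p π)).support = ⊤ := SetLike.ext fun y => iff_of_true (by
      rw [← SetLike.mem_coe, Scheme.IdealSheafData.support_comap]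
      show (ι ≫ pullback.fst p π) y ∈ (I_G.support : Set Z)
      rw [Scheme.IdealSheafData.coe_support_vanishingIdeal]
      refine ((hgen y).map (ι ≫ pullback.fst p π).continuous).mem_closed G.isClosed ?_
      rw [Scheme.Hom.comp_apply, hgp]
      exact hηG) trivial
    haveI hred : IsReduced (Spec D) := inferInstance
    exact le_of_eq (Scheme.IdealSheafData.support_eq_top_iff.mp hs)
  have hle : 𝔞.comap t ≤ I_F.comap t := by
    have h := Scheme.IdealSheafData.le_map_iff_comap_le.mp
      (show 𝔞 ≤ (I_F.comap p ⊔ I_G).map p from h₃)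
    calc 𝔞.comap t = (𝔞.comap p).comap (ι ≫ pullback.fst p π) := by
          rw [← Scheme.IdealSheafData.comap_comp, Category.assoc]
      _ ≤ (I_F.comap p ⊔ I_G).comap (ι ≫ pullback.fst p π) := Scheme.IdealSheafData.comap_mono _ h
      _ = I_F.comap t := by
          rw [Scheme.IdealSheafData.comap_sup, hG, sup_bot_eq, ← Scheme.IdealSheafData.comap_comp, Category.assoc]
  obtain ⟨J, hJ⟩ := ModPairLib.exists_mul_eq hπ.1 (Scheme.IdealSheafData.comap_mono π h₂)
  have hJF : closure (π.base ⁻¹' ((F : Set X) ∩ (X₀ : Set X))) ⊆ (J.support : Set X') := by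
    refine closure_minimal (fun y hy => ?_) J.support.isClosed
    have h : y ∈ ((I_F.comap π).support : Set X') := by
      rw [Scheme.IdealSheafData.support_comap]
      show π y ∈ (I_F.support : Set X)
      rw [Scheme.IdealSheafData.coe_support_vanishingIdeal]
      exact hy.1
    rw [← show J * 𝔞.comap π = I_F.comap π from hJ, Scheme.IdealSheafData.support_mul] at h
    refine h.resolve_right fun h' => ?_
    rw [SetLike.mem_coe, ← SetLike.mem_coe, Scheme.IdealSheafData.support_comap] at h'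
    exact Set.disjoint_left.mp h₁ h' hy.2
  -- the equation on the local domain
  have ht : ι ≫ pullback.snd p π ≫ π = t := by rw [← pullback.condition]
  have heq : J.comap (ι ≫ pullback.snd p π) * 𝔞.comap t = 𝔞.comap t := by
    have h := congrArg (fun K : X'.IdealSheafData => K.comap (ι ≫ pullback.snd p π)) hJ
    simp only [BlowUpLib.comap_mul, ← Scheme.IdealSheafData.comap_comp, Category.assoc, ht] at h
    rw [h]
    exact le_antisymm (Scheme.IdealSheafData.comap_mono _ h₂) hle
  haveI : IsLocalRing Γ(Spec D, ⊤) := (Scheme.ΓSpecIso D).commRingCatIsoToRingEquiv.symm.isLocalRing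
  haveI : IsNoetherianRing Γ(Spec D, ⊤) :=
    isNoetherianRing_of_ringEquiv D (Scheme.ΓSpecIso D).commRingCatIsoToRingEquiv.symm
  let Φ := Scheme.IdealSheafData.equivOfIsAffine (X := Spec D)
  have hne : Φ (𝔞.comap t) ≠ ⊥ := fun h => by
    have h0 : 𝔞.comap t = ⊥ := Φ.injective (h.trans (map_zero Φ.toRingEquiv).symm)
    have : gp ∈ ((𝔞.comap t).support : Set (Spec D)) := by
      rw [h0, Scheme.IdealSheafData.support_bot]; trivial
    rw [Scheme.IdealSheafData.support_comap] at this
    refine Set.disjoint_left.mp h₁ this ?_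
    show t gp ∈ X₀
    rw [show t gp = p (pullback.fst p π (ι gp)) from rfl, hgp]
    exact hηX
  have hJne : Φ (J.comap (ι ≫ pullback.snd p π)) ≠ ⊤ := fun h => by
    have h0 : J.comap (ι ≫ pullback.snd p π) = ⊤ :=
      Φ.injective (h.trans (Ideal.one_eq_top.symm.trans (map_one Φ.toRingEquiv).symm |>.trans (by
        congr 1)))
    have : cp ∈ ((J.comap (ι ≫ pullback.snd p π)).support : Set (Spec D)) := by
      rw [Scheme.IdealSheafData.support_comap]
      show (ι ≫ pullback.snd p π) cp ∈ (J.support : Set X')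
      rw [Scheme.Hom.comp_apply, hcp]
      exact hJF hzF
    rw [h0, Scheme.IdealSheafData.support_top] at this
    exact this
  refine hne (Submodule.eq_bot_of_le_smul_of_le_jacobson_bot (Φ (J.comap (ι ≫ pullback.snd p π))) _
    (IsNoetherian.noetherian _) ?_ ?_)
  · rw [smul_eq_mul, ← map_mul, heq]
  · rw [IsLocalRing.jacobson_eq_maximalIdeal ⊥ bot_ne_top]
    exact IsLocalRing.le_maximalIdeal hJne

end Groth.Agent.S17889
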