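import Groth.Statements.S17891
import Groth.Agent.MiscFlat6.AmpleTensor
import Groth.Agent.MiscFlat6.RelAmpleCompPowers
import Groth.Agent.LimAmpleLib.RelAmple
import Groth.Agent.AlgSpRegLib.ImageScheme
import Groth.Agent.S2359
import Groth.Agent.AmpleDevLib.Pull
import Groth.Agent.DescAppLib.LineData

set_option autoImplicit false
universe u
open CategoryTheory AlgebraicGeometry
open FlatMor

namespace Groth.Agent.S17891

theorem unitHom_one {W : Scheme.{u}} (M : W.Modules) (p : Γ(M, ⊤)) :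
    (QCohLib.unitHom M p).app ⊤ (1 : Γ(W, ⊤)) = p := by
  rw [QCohLib.unitHom_app, one_smul]
  exact congr($(M.presheaf.map_id _) p)

theorem isIso_pullback_map_iff {Y Z : Scheme.{u}} (g : Y ⟶ Z) {L : Z.Modules} (hL : PicF.IsInvertible L)
    (ε : Coh.structureModule Z ⟶ L) :
    IsIso ((Scheme.Modules.pullback g).map ε) ↔
      ∀ y, g y ∈ TwistLib.genSet hL (ε.app ⊤ (1 : Γ(Z, ⊤))) := by
  have he : AmpleLib.GenOn (KFlatLib.pb g (Coh.structureModule Z))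
      (KFlatLib.puSec g (show Γ(Coh.structureModule Z, ⊤) from (1 : Γ(Z, ⊤))) :
        Γ(KFlatLib.pb g (Coh.structureModule Z), ⊤)) :=
    AmpleDevLib.puSec_genOn g (AmpleLib.one_genOn ⊤)
  have hnat : ((Scheme.Modules.pullback g).map ε).app ⊤
      (KFlatLib.puSec g (show Γ(Coh.structureModule Z, ⊤) from (1 : Γ(Z, ⊤)))) =
        KFlatLib.puSec g (ε.app ⊤ (1 : Γ(Z, ⊤))) :=
    KFlatLib.puSec_natural g ε (U := ⊤) _
  constructor
  · intro h y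
    have h1 := DescAppLib.genOn_app_iso (asIso ((Scheme.Modules.pullback g).map ε)) he
    rw [asIso_hom, hnat] at h1
    have h2 : y ∈ TwistLib.genSet (AmpleDevLib.isInvertible_pb g hL)
        (KFlatLib.puSec g (ε.app ⊤ (1 : Γ(Z, ⊤))) : Γ(KFlatLib.pb g L, ⊤)) := h1.genAt _
    rw [AmpleDevLib.genSet_puSec g hL] at h2
    exact h2
  · intro h
    refine DescAppLib.isIso_of_gen he _ ?_
    rw [hnat]
    refine TwistLib.genOn_of_genAt fun y _ ↦ ?_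
    have h2 := (AmpleDevLib.genSet_puSec g hL (ε.app ⊤ (1 : Γ(Z, ⊤)))).ge (show y ∈ g ⁻¹ᵁ _ from h y)
    exact h2

/-- Here f : Y → X is an affine morphism with X and Y quasi-compact and quasi-separated; a
Y-modification of X is a factorization f = fᵢ ≫ gᵢ with fᵢ : Y → Xᵢ schematically dominant and gᵢ :
Xᵢ → X proper, and it is a Y-blow-up of X when Xᵢ carries a gᵢ-ample module L with a section ε : O →
L whose pullback along fᵢ is an isomorphism (a Y-trivialization). Given two Y-blow-ups (X₁, f₁, g₁),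
(X₂, f₂, g₂) of X there is a Y-blow-up (X₃, f₃, g₃) of X together with morphisms dᵢ : X₃ → Xᵢ
satisfying f₃ ≫ dᵢ = fᵢ and dᵢ ≫ gᵢ = g₃. -/
theorem result {X Y : Scheme.{u}} (f : Y ⟶ X)
    [CompactSpace X] [QuasiSeparatedSpace X] [CompactSpace Y] [QuasiSeparatedSpace Y] [IsAffineHom f]
    {X₁ X₂ : Scheme.{u}} (f₁ : Y ⟶ X₁) (g₁ : X₁ ⟶ X) (f₂ : Y ⟶ X₂) (g₂ : X₂ ⟶ X)
    (h₁ : IsSchemeTheoreticallyDominant f₁ ∧ IsProper g₁ ∧ f₁ ≫ g₁ = f ∧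
        ∃ (L : X₁.Modules) (ε : Coh.structureModule X₁ ⟶ L),
          RelAmple.IsRelAmple g₁ L ∧ IsIso ((Scheme.Modules.pullback f₁).map ε))
    (h₂ : IsSchemeTheoreticallyDominant f₂ ∧ IsProper g₂ ∧ f₂ ≫ g₂ = f ∧
        ∃ (L : X₂.Modules) (ε : Coh.structureModule X₂ ⟶ L),
          RelAmple.IsRelAmple g₂ L ∧ IsIso ((Scheme.Modules.pullback f₂).map ε)) :
    ∃ (X₃ : Scheme.{u}) (f₃ : Y ⟶ X₃) (g₃ : X₃ ⟶ X) (d₁ : X₃ ⟶ X₁) (d₂ : X₃ ⟶ X₂),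
      (IsSchemeTheoreticallyDominant f₃ ∧ IsProper g₃ ∧ f₃ ≫ g₃ = f ∧
        ∃ (L : X₃.Modules) (ε : Coh.structureModule X₃ ⟶ L),
          RelAmple.IsRelAmple g₃ L ∧ IsIso ((Scheme.Modules.pullback f₃).map ε)) ∧
      f₃ ≫ d₁ = f₁ ∧ d₁ ≫ g₁ = g₃ ∧ f₃ ≫ d₂ = f₂ ∧ d₂ ≫ g₂ = g₃ := by
  obtain ⟨hd1, hp1, hf1, L1, ε1, hL1, hε1⟩ := h₁
  obtain ⟨hd2, hp2, hf2, L2, ε2, hL2, hε2⟩ := h₂
  haveI : QuasiCompact g₁ := inferInstance
  haveI : QuasiCompact g₂ := inferInstance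
  let p₁ := CategoryTheory.Limits.pullback.fst (g₁ ≫ 𝟙 X) (g₂ ≫ 𝟙 X)
  let p₂ := CategoryTheory.Limits.pullback.snd (g₁ ≫ 𝟙 X) (g₂ ≫ 𝟙 X)
  let m := CategoryTheory.Limits.pullback.map (g₁ ≫ 𝟙 X) (g₂ ≫ 𝟙 X) (𝟙 X) (𝟙 X) g₁ g₂ (𝟙 X)
    (Category.comp_id (g₁ ≫ 𝟙 X)) (Category.comp_id (g₂ ≫ 𝟙 X))
  let gQ := m ≫ CategoryTheory.Limits.pullback.fst (𝟙 X) (𝟙 X)
  have hgQ1 : gQ = p₁ ≫ g₁ := CategoryTheory.Limits.pullback.lift_fst _ _ _
  have hgQ2 : gQ = p₂ ≫ g₂ := by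
    rw [hgQ1]
    exact (congrArg (p₁ ≫ ·) (Category.comp_id g₁)).symm.trans
      (CategoryTheory.Limits.pullback.condition.trans (congrArg (p₂ ≫ ·) (Category.comp_id g₂)))
  haveI : IsProper (g₁ ≫ 𝟙 X) := by rwa [Category.comp_id]
  haveI : IsProper (g₂ ≫ 𝟙 X) := by rwa [Category.comp_id]
  haveI : IsProper gQ := by rw [hgQ1]; infer_instance
  haveI : IsIso (CategoryTheory.Limits.pullback.fst (𝟙 X) (𝟙 X)) := inferInstance
  let φ : Y ⟶ CategoryTheory.Limits.pullback (g₁ ≫ 𝟙 X) (g₂ ≫ 𝟙 X) :=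
    CategoryTheory.Limits.pullback.lift f₁ f₂ ((congrArg (f₁ ≫ ·) (Category.comp_id g₁)).trans
      (hf1.trans (hf2.symm.trans (congrArg (f₂ ≫ ·) (Category.comp_id g₂)).symm)))
  have hφ1 : φ ≫ p₁ = f₁ := CategoryTheory.Limits.pullback.lift_fst _ _ _
  have hφ2 : φ ≫ p₂ = f₂ := CategoryTheory.Limits.pullback.lift_snd _ _ _
  have hφQ : φ ≫ gQ = f := by rw [hgQ1, ← Category.assoc, hφ1, hf1]
  haveI : QuasiCompact (φ ≫ gQ) := by rw [hφQ]; infer_instance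
  haveI : QuasiCompact φ := QuasiCompact.of_comp φ gQ
  haveI : IsSchemeTheoreticallyDominant φ.toImage := AlgSpRegLib.dominant_toImage φ
  have hL1' := MiscFlat6.invertible_of_relAmple hL1
  have hL2' := MiscFlat6.invertible_of_relAmple hL2
  have hA := AmpleDevLib.isInvertible_pb p₁ hL1'
  have hB := AmpleDevLib.isInvertible_pb p₂ hL2'
  have hM := AmpleThLib.shT_isInvertible hA hB
  let σ1 : Γ(L1, ⊤) := ε1.app ⊤ (1 : Γ(X₁, ⊤))
  let σ2 : Γ(L2, ⊤) := ε2.app ⊤ (1 : Γ(X₂, ⊤))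
  let τ : Γ(CohB1.tensorMod (KFlatLib.pb p₁ L1) (KFlatLib.pb p₂ L2), ⊤) :=
    AmpleLib.shT (KFlatLib.puSec p₁ σ1 : Γ(KFlatLib.pb p₁ L1, ⊤)) (KFlatLib.puSec p₂ σ2 : Γ(KFlatLib.pb p₂ L2, ⊤))
  have hm := MiscFlat6.isRelAmple_externalTensor (𝟙 X) (𝟙 X) g₁ g₂ hL1 hL2
  have hQ : RelAmple.IsRelAmple gQ (CohB1.tensorMod (KFlatLib.pb p₁ L1) (KFlatLib.pb p₂ L2)) :=
    LimAmpleLib.relAmple_comp_iso m (asIso (CategoryTheory.Limits.pullback.fst (𝟙 X) (𝟙 X))) hm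
  have hk := AmpleDevLib.isInvertible_pb φ.imageι hM
  refine ⟨φ.image, φ.toImage, φ.imageι ≫ gQ, φ.imageι ≫ p₁, φ.imageι ≫ p₂,
    ⟨inferInstance, inferInstance, ?_, _, QCohLib.unitHom _ (KFlatLib.puSec φ.imageι τ :
      Γ(KFlatLib.pb φ.imageι (CohB1.tensorMod (KFlatLib.pb p₁ L1) (KFlatLib.pb p₂ L2)), ⊤)), ?_, ?_⟩, ?_, ?_, ?_, ?_⟩
  · rw [Scheme.Hom.toImage_imageι_assoc, hφQ]
  · exact Groth.Agent.S2359.result gQ φ.imageι φ.imageι.isEmbedding _ hQ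
  · rw [isIso_pullback_map_iff φ.toImage hk]
    intro y
    rw [unitHom_one, AmpleDevLib.genSet_puSec φ.imageι hM, AmpleThLib.genSet_shT hA hB,
      AmpleDevLib.genSet_puSec p₁ hL1', AmpleDevLib.genSet_puSec p₂ hL2']
    have hy : φ.imageι (φ.toImage y) = φ y := by rw [← Scheme.Hom.comp_apply, Scheme.Hom.toImage_imageι]
    refine ⟨?_, ?_⟩
    · show p₁ (φ.imageι (φ.toImage y)) ∈ TwistLib.genSet hL1' σ1
      rw [hy, ← Scheme.Hom.comp_apply, hφ1]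
      exact (isIso_pullback_map_iff f₁ hL1' ε1).mp hε1 y
    · show p₂ (φ.imageι (φ.toImage y)) ∈ TwistLib.genSet hL2' σ2
      rw [hy, ← Scheme.Hom.comp_apply, hφ2]
      exact (isIso_pullback_map_iff f₂ hL2' ε2).mp hε2 y
  · rw [Scheme.Hom.toImage_imageι_assoc, hφ1]
  · rw [Category.assoc, hgQ1]
  · rw [Scheme.Hom.toImage_imageι_assoc, hφ2]
  · rw [Category.assoc, hgQ2]
end Groth.Agent.S17891
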