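import Groth.Statements.S17892
import Groth.Agent.MiscFlat6.RelAmpleCompPowers
import Groth.Agent.AmpleDevLib.Pull
import Groth.Agent.DescAppLib.LineData

set_option autoImplicit false
universe u
open CategoryTheory AlgebraicGeometry
open FlatMor

namespace Groth.Agent.S17892

theorem unitHom_one {W : Scheme.{u}} (M : W.Modules) (p : Γ(M, ⊤)) :
    (QCohLib.unitHom M p).app ⊤ (1 : Γ(W, ⊤)) = p := by
  rw [QCohLib.unitHom_app, one_smul]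
  exact congr($(M.presheaf.map_id _) p)

theorem isIso_pullback_map_iff {Y Z : Scheme.{u}} (g : Y ⟶ Z) {L : Z.Modules} (hL : PicF.IsInvertible L)
    (ε : Coh.structureModule Z ⟶ L) :
    IsIso ((Scheme.Modules.pullback g).map ε) ↔
      ∀ y, g y ∈ TwistLib.genSet hL (ε.app ⊤ (1 : Γ(Z, ⊤))) := by
  have he : AmpleLib.GenOn (KFlatLib.pb g (Coh.structureModule Z))
      (KFlatLib.puSec g (show Γ(Coh.structureModule Z, ⊤) from (1 : Γ(Z, ⊤))) :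
        Γ(KFlatLib.pb g (Coh.structureModule Z), ⊤)) :=
    AmpleDevLib.puSec_genOn g (AmpleLib.one_genOn ⊤)
  have hnat : ((Scheme.Modules.pullback g).map ε).app ⊤
      (KFlatLib.puSec g (show Γ(Coh.structureModule Z, ⊤) from (1 : Γ(Z, ⊤)))) =
        KFlatLib.puSec g (ε.app ⊤ (1 : Γ(Z, ⊤))) :=
    KFlatLib.puSec_natural g ε (U := ⊤) _
  constructor
  · intro h y
    have h1 := DescAppLib.genOn_app_iso (asIso ((Scheme.Modules.pullback g).map ε)) he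
    rw [asIso_hom, hnat] at h1
    have h2 : y ∈ TwistLib.genSet (AmpleDevLib.isInvertible_pb g hL)
        (KFlatLib.puSec g (ε.app ⊤ (1 : Γ(Z, ⊤))) : Γ(KFlatLib.pb g L, ⊤)) := h1.genAt _
    rw [AmpleDevLib.genSet_puSec g hL] at h2
    exact h2
  · intro h
    refine DescAppLib.isIso_of_gen he _ ?_
    rw [hnat]
    refine TwistLib.genOn_of_genAt fun y _ ↦ ?_
    have h2 := (AmpleDevLib.genSet_puSec g hL (ε.app ⊤ (1 : Γ(Z, ⊤)))).ge (show y ∈ g ⁻¹ᵁ _ from h y)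
    exact h2

/-- Here f : Y → X is an affine morphism with X and Y quasi-compact and quasi-separated; a
Y-modification of X is a factorization f = fᵢ ≫ gᵢ with fᵢ : Y → Xᵢ schematically dominant and gᵢ :
Xᵢ → X proper, and it is a Y-blow-up of X when Xᵢ carries a gᵢ-ample module L with a section ε : O →
L whose pullback along fᵢ is an isomorphism (a Y-trivialization). If (Xᵢ, fᵢ, gᵢ) is a Y-blow-up of
X and (Xⱼ, fⱼ, gᵢⱼ) is a Y-blow-up of Xᵢ (with respect to fᵢ : Y → Xᵢ), then (Xⱼ, fⱼ, gᵢⱼ ≫ gᵢ) is a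
Y-blow-up of X. -/
theorem result {X Y : Scheme.{u}} (f : Y ⟶ X)
    [CompactSpace X] [QuasiSeparatedSpace X] [CompactSpace Y] [QuasiSeparatedSpace Y] [IsAffineHom f]
    {Xᵢ Xⱼ : Scheme.{u}} (fᵢ : Y ⟶ Xᵢ) (gᵢ : Xᵢ ⟶ X) (fⱼ : Y ⟶ Xⱼ) (gᵢⱼ : Xⱼ ⟶ Xᵢ)
    (hᵢ : IsSchemeTheoreticallyDominant fᵢ ∧ IsProper gᵢ ∧ fᵢ ≫ gᵢ = f ∧
        ∃ (L : Xᵢ.Modules) (ε : Coh.structureModule Xᵢ ⟶ L),
          RelAmple.IsRelAmple gᵢ L ∧ IsIso ((Scheme.Modules.pullback fᵢ).map ε))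
    (hⱼ : IsSchemeTheoreticallyDominant fⱼ ∧ IsProper gᵢⱼ ∧ fⱼ ≫ gᵢⱼ = fᵢ ∧
        ∃ (L : Xⱼ.Modules) (ε : Coh.structureModule Xⱼ ⟶ L),
          RelAmple.IsRelAmple gᵢⱼ L ∧ IsIso ((Scheme.Modules.pullback fⱼ).map ε)) :
    IsSchemeTheoreticallyDominant fⱼ ∧ IsProper (gᵢⱼ ≫ gᵢ) ∧ fⱼ ≫ (gᵢⱼ ≫ gᵢ) = f ∧
        ∃ (L : Xⱼ.Modules) (ε : Coh.structureModule Xⱼ ⟶ L),
          RelAmple.IsRelAmple (gᵢⱼ ≫ gᵢ) L ∧ IsIso ((Scheme.Modules.pullback fⱼ).map ε) := by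
  obtain ⟨hdi, hpi, hfi, Li, εi, hLi, hεi⟩ := hᵢ
  obtain ⟨hdj, hpj, hfj, Lj, εj, hLj, hεj⟩ := hⱼ
  haveI : QuasiCompact gᵢ := inferInstance
  haveI : QuasiCompact gᵢⱼ := inferInstance
  refine ⟨hdj, inferInstance, by rw [← Category.assoc, hfj, hfi], ?_⟩
  obtain ⟨n₀, hn₀, hamp⟩ := MiscFlat6.relAmple_comp_tensor_pullback_powers gᵢⱼ gᵢ Lj Li hLj hLi
  have hLi' := MiscFlat6.invertible_of_relAmple hLi
  have hLj' := MiscFlat6.invertible_of_relAmple hLj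
  have hP := AmpleThLib.tensorPow_isInvertible hLi' n₀
  have hQ := AmpleDevLib.isInvertible_pb gᵢⱼ hP
  let σi : Γ(Li, ⊤) := εi.app ⊤ (1 : Γ(Xᵢ, ⊤))
  let σj : Γ(Lj, ⊤) := εj.app ⊤ (1 : Γ(Xⱼ, ⊤))
  let τ : Γ(CohB1.tensorMod Lj ((Scheme.Modules.pullback gᵢⱼ).obj (CohB1.tensorPow Li n₀)), ⊤) :=
    AmpleLib.shT σj (KFlatLib.puSec gᵢⱼ (AmpleThLib.pS σi n₀) : Γ(KFlatLib.pb gᵢⱼ (CohB1.tensorPow Li n₀), ⊤))
  refine ⟨_, QCohLib.unitHom _ τ, hamp n₀ le_rfl, ?_⟩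
  rw [isIso_pullback_map_iff fⱼ (AmpleThLib.shT_isInvertible hLj' hQ)]
  intro y
  have h1 : (QCohLib.unitHom (CohB1.tensorMod Lj ((Scheme.Modules.pullback gᵢⱼ).obj (CohB1.tensorPow Li n₀))) τ).app ⊤
      (1 : Γ(Xⱼ, ⊤)) = τ := unitHom_one _ τ
  rw [h1, AmpleThLib.genSet_shT hLj' hQ, AmpleDevLib.genSet_puSec gᵢⱼ hP, AmpleThLib.genSet_pS hLi' σi hn₀]
  refine ⟨(isIso_pullback_map_iff fⱼ hLj' εj).mp hεj y, ?_⟩
  show gᵢⱼ (fⱼ y) ∈ TwistLib.genSet hLi' σi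
  have h2 : gᵢⱼ (fⱼ y) = fᵢ y := by rw [← Scheme.Hom.comp_apply, hfj]
  rw [h2]
  exact (isIso_pullback_map_iff fᵢ hLi' εi).mp hεi y
end Groth.Agent.S17892
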