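import Groth.Statements.S17899
import Groth.Agent.RGFlatLib.Semival

set_option autoImplicit false
universe u
open TensorProduct
open CAlg

namespace Groth.Agent.S17899

/-- Let A be a local ring with residue field K, R a valuation ring of K and O ⊆ A the preimage of R
under A → K (so O is a semi-valuation ring with semi-fraction ring A, S = Spec O is glued from U =
Spec A and T = Spec R). Let C be an O-algebra of finite type which is U-admissible (C → A ⊗_O C
injective) and such that A ⊗_O C is flat and of finite presentation over A. Then C is flat and of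
finite presentation over O. (The published assertion is more general: the base may be any
quasi-compact quasi-separated U-admissible scheme over Spec O, and the scheme over it any
quasi-compact quasi-separated admissible scheme. This row is the case of an affine scheme over Spec
O itself, the case in which the published proof carries out its argument.) -/
theorem result
    (A : Type u) [CommRing A] [IsLocalRing A] (R : ValuationSubring (IsLocalRing.ResidueField A))
    (O : Subring A) (hO : O = R.toSubring.comap (IsLocalRing.residue A))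
    (C : Type u) [CommRing C] [Algebra ↥O C] [Algebra.FiniteType ↥O C]
    (hadm : Function.Injective (Algebra.TensorProduct.includeRight : C →ₐ[↥O] A ⊗[↥O] C))
    (hflat : Module.Flat A (A ⊗[↥O] C)) (hfp : Algebra.FinitePresentation A (A ⊗[↥O] C)) :
    Module.Flat ↥O C ∧ Algebra.FinitePresentation ↥O C := by
  have hmem : ∀ a : A, a ∈ O ↔ IsLocalRing.residue A a ∈ R := fun a => by rw [hO]; rfl
  let P : Ideal O := (IsLocalRing.maximalIdeal A).comap O.subtype
  have hPiff : ∀ x : O, x ∈ P ↔ IsLocalRing.residue A x = 0 := fun x =>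
    (IsLocalRing.residue_eq_zero_iff (x : A)).symm
  let g : O →+* R := ((IsLocalRing.residue A).comp O.subtype).codRestrict R.toSubring fun x => (hmem x).1 x.2
  have hg : Function.Surjective g := fun r => by
    obtain ⟨a, ha⟩ := IsLocalRing.residue_surjective (r : IsLocalRing.ResidueField A)
    exact ⟨⟨a, (hmem a).2 (by rw [ha]; exact r.2)⟩, Subtype.ext ha⟩
  haveI : P.IsPrime := Ideal.IsPrime.comap _
  have hker : RingHom.ker g = P := by
    ext x
    rw [RingHom.mem_ker, hPiff]
    exact Subtype.ext_iff
  haveI : ValuationRing (O ⧸ P) := by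
    haveI : IsDomain (O ⧸ P) := Ideal.Quotient.isDomain P
    exact Function.Surjective.valuationRing
      ((RingHom.quotientKerEquivOfSurjective hg).symm.trans (Ideal.quotEquivOfEq hker)).toRingHom
      (RingEquiv.surjective _)
  have hinj : Function.Injective (algebraMap O A) := Subtype.val_injective
  have hunit : ∀ t : O, t ∉ P → IsUnit (t : A) := fun t ht => by
    by_contra h
    exact ht ((IsLocalRing.mem_maximalIdeal _).2 h)
  haveI : IsLocalization P.primeCompl A := by
    refine (isLocalization_iff P.primeCompl A).2 ⟨fun t => hunit t.1 t.2, fun a => ?_, fun {x y} e => ⟨1, by rw [hinj e]⟩⟩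
    rcases R.mem_or_inv_mem (IsLocalRing.residue A a) with h | h
    · exact ⟨(⟨a, (hmem a).2 h⟩, 1), by rw [Submonoid.coe_one, map_one, mul_one]; rfl⟩
    · by_cases h0 : IsLocalRing.residue A a = 0
      · exact ⟨(⟨a, (hmem a).2 (by rw [h0]; exact zero_mem R)⟩, 1), by rw [Submonoid.coe_one, map_one, mul_one]; rfl⟩
      · have hu : IsUnit a := by
          by_contra hn
          exact h0 ((IsLocalRing.residue_eq_zero_iff a).2 ((IsLocalRing.mem_maximalIdeal a).2 hn))
        obtain ⟨v, rfl⟩ := hu
        have hv : IsLocalRing.residue A (↑v⁻¹ : A) = (IsLocalRing.residue A (v : A))⁻¹ :=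
          eq_inv_of_mul_eq_one_left (by rw [← map_mul, Units.inv_mul, map_one])
        refine ⟨(1, ⟨⟨(↑v⁻¹ : A), (hmem _).2 (by rw [hv]; exact h)⟩, fun hP => ?_⟩), ?_⟩
        · rw [SetLike.mem_coe, hPiff, hv] at hP
          exact inv_ne_zero h0 hP
        · exact (Units.mul_inv v).trans (map_one (algebraMap O A)).symm
  have hdiv : ∀ t ∉ P, ∀ p ∈ P, ∃ p' ∈ P, p = t * p' := fun t ht p hp => by
    obtain ⟨v, hv⟩ := hunit t ht
    have h0 : IsLocalRing.residue A ((↑v⁻¹ : A) * (p : A)) = 0 := by
      rw [map_mul, (hPiff p).1 hp, mul_zero]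
    refine ⟨⟨(↑v⁻¹ : A) * (p : A), (hmem _).2 (by rw [h0]; exact zero_mem R)⟩, (hPiff _).2 h0, Subtype.ext ?_⟩
    change (p : A) = (t : A) * ((↑v⁻¹ : A) * (p : A))
    rw [← hv, Units.mul_inv_cancel_left]
  let φ : C →ₐ[O] A ⊗[O] C := Algebra.TensorProduct.includeRight
  haveI : IsLocalizedModule P.primeCompl φ.toLinearMap :=
    (isLocalizedModule_iff_isBaseChange P.primeCompl A _).2 (TensorProduct.isBaseChange O C A)
  have hC : ∀ t ∉ P, ∀ c : C, t • c = 0 → c = 0 := fun t ht c hc => by
    refine hadm ?_
    obtain ⟨k, hk⟩ : ∃ k : P.primeCompl, (k : O) • c = 0 := ⟨⟨t, ht⟩, hc⟩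
    exact ((IsLocalizedModule.eq_zero_iff P.primeCompl φ.toLinearMap).2 ⟨k, hk⟩).trans (map_zero φ).symm
  haveI := hflat
  haveI := hfp
  haveI : Module.Flat O C := RGFlatLib.flat_of_semival (B := A) (C' := A ⊗[O] C) hdiv hinj hC φ
  exact ⟨inferInstance, RGFlatLib.finitePresentation_of_semival (B := A) (C' := A ⊗[O] C) hdiv hinj hC φ⟩

end Groth.Agent.S17899
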