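import Groth.Statements.S17900
import Mathlib
import Groth.Agent.DepthTwoLib.FourTerm

set_option autoImplicit false
universe u
open TensorProduct
open Pinch

namespace Groth.Agent.S17900

open TensorProduct in
theorem flat_prod_self {R : Type u} [CommRing R] {M N : Type u} [AddCommGroup M] [AddCommGroup N]
    [Module R M] [Module R N] [Module.Flat R M] [Module.Flat R N] : Module.Flat R (M × N) := by
  rw [Module.Flat.iff_lTensor_injectiveₛ]
  intro P _ _ Q
  let e := TensorProduct.prodLeft R R M N Q
  let e' := TensorProduct.prodLeft R R M N P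
  have h : ∀ z, e' (Q.subtype.lTensor (M × N) z) =
      Prod.map (Q.subtype.lTensor M) (Q.subtype.lTensor N) (e z) := by
    intro z
    induction z using TensorProduct.induction_on with
    | zero => simp [Prod.map, Prod.ext_iff]
    | tmul m q => obtain ⟨a, b⟩ := m; simp [e, e']
    | add a b ha hb => simp [map_add, ha, hb, Prod.map]
  intro a b hab
  refine e.injective ?_
  have := congr_arg e' hab
  rw [h, h] at this
  exact (Function.Injective.prodMap (Module.Flat.lTensor_preserves_injective_linearMap _
    Q.subtype_injective) (Module.Flat.lTensor_preserves_injective_linearMap _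
      Q.subtype_injective)) this

/-- Let R be a commutative ring and let B' → B → A, B' → A' → A be a commutative square of R-algebras
which is a fibre square (B' = B ×_A A') with A' → A surjective. If B, A' and A are flat over R then
B' is flat over R. -/
theorem result (R B' B A' A : Type u) [CommRing R] [CommRing B'] [CommRing B] [CommRing A'] [CommRing A]
    [Algebra B' B] [Algebra B' A'] [Algebra B A] [Algebra A' A] [Algebra B' A]
    [IsScalarTower B' B A] [IsScalarTower B' A' A]
    [Algebra R B'] [Algebra R B] [Algebra R A'] [Algebra R A]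
    [IsScalarTower R B' B] [IsScalarTower R B' A'] [IsScalarTower R B' A] [IsScalarTower R B A] [IsScalarTower R A' A]
    (hsq : EtMil.IsFibreSquare B' B A' A)
    [Module.Flat R B] [Module.Flat R A'] [Module.Flat R A] :
    Module.Flat R B' := by
  let i : B' →ₗ[R] B × A' :=
    (IsScalarTower.toAlgHom R B' B).toLinearMap.prod (IsScalarTower.toAlgHom R B' A').toLinearMap
  let v : B × A' →ₗ[R] A :=
    (IsScalarTower.toAlgHom R B A).toLinearMap.coprod (-(IsScalarTower.toAlgHom R A' A).toLinearMap)
  have hi : Function.Injective i := fun a b hab => by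
    obtain ⟨z, -, hz⟩ := hsq.2 (algebraMap B' B a) (algebraMap B' A' a) (by
      rw [← IsScalarTower.algebraMap_apply, ← IsScalarTower.algebraMap_apply])
    exact (hz a ⟨rfl, rfl⟩).trans (hz b ⟨(congrArg Prod.fst hab).symm, (congrArg Prod.snd hab).symm⟩).symm
  have hiv : Function.Exact i v := fun p => by
    constructor
    · intro hp
      obtain ⟨z, hz, -⟩ := hsq.2 p.1 p.2 (by
        have : algebraMap B A p.1 + -algebraMap A' A p.2 = 0 := hp
        rwa [← sub_eq_add_neg, sub_eq_zero] at this)
      exact ⟨z, Prod.ext hz.1 hz.2⟩
    · rintro ⟨z, rfl⟩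
      change algebraMap B A (algebraMap B' B z) + -algebraMap A' A (algebraMap B' A' z) = 0
      rw [← IsScalarTower.algebraMap_apply, ← IsScalarTower.algebraMap_apply, add_neg_cancel]
  have hv : Function.Surjective v := fun a => by
    obtain ⟨a', ha⟩ := hsq.1 a
    refine ⟨(0, -a'), ?_⟩
    simp [v, ha]
  haveI : Module.Flat R (B × A') := flat_prod_self
  exact DepthTwoLib.flat_kernel i v hi hiv hv

end Groth.Agent.S17900
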