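import Groth.Statements.S17902
import Mathlib.Algebra.Module.LocalizedModule.Basic
import Mathlib.RingTheory.Localization.Away.Basic
import Mathlib.RingTheory.Localization.Integer
import Mathlib.LinearAlgebra.Matrix.Adjugate
import Mathlib.RingTheory.Spectrum.Prime.Topology
import Mathlib.LinearAlgebra.Basis.Basic

set_option autoImplicit false
universe u
open CAlg

namespace Groth.Agent.S17902

/-- Let A be a commutative ring, M a finitely generated projective A-module, n a natural number and P a
finite set of prime ideals of A such that for every p in P there is g outside p with M_g free of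
rank n over A_g. Then there exist n elements of M and an open subset U of Spec A containing P such
that for every prime q in U the images of these elements in M_q form a basis of M_q over A_q. (The
published conclusion is that the associated sheaf is free of rank n on some open neighbourhood of P;
the form given here, with n global elements of M, is what its proof produces.) -/
theorem result (A : Type u) [CommRing A] (M : Type u) [AddCommGroup M] [Module A M]
    [Module.Finite A M] [Module.Projective A M] (n : ℕ) (P : Finset (PrimeSpectrum A))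
    (hP : ∀ p ∈ P, ∃ g : A, g ∉ p.asIdeal ∧
      Nonempty (Module.Basis (Fin n) (Localization.Away g) (LocalizedModule (Submonoid.powers g) M))) :
    ∃ (s : Fin n → M) (U : Set (PrimeSpectrum A)), IsOpen U ∧ (∀ p ∈ P, p ∈ U) ∧
      ∀ q ∈ U,
        LinearIndependent (Localization.AtPrime q.asIdeal)
            (fun j => LocalizedModule.mkLinearMap q.asIdeal.primeCompl M (s j)) ∧
          Submodule.span (Localization.AtPrime q.asIdeal)
            (Set.range fun j => LocalizedModule.mkLinearMap q.asIdeal.primeCompl M (s j)) = ⊤ := by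
  classical
  let lmap : (Fin n → M) → (Fin n → A) →ₗ[A] M := fun s => Fintype.linearCombination A s
  have hlmap : ∀ s c, lmap s c = ∑ j, c j • s j := fun s c => Fintype.linearCombination_apply A s c
  -- a frame near each prime
  have hloc : ∀ p ∈ P, ∃ (g : A) (b : Fin n → M), g ∉ p.asIdeal ∧
      (∀ y : M, ∃ k : ℕ, ∃ v, g ^ k • y = lmap b v) ∧
      (∀ c, lmap b c = 0 → ∃ k : ℕ, g ^ k • c = 0) := by
    intro p hp
    obtain ⟨g, hg, ⟨B⟩⟩ := hP p hp
    let Ag := Localization.Away g
    let mk := LocalizedModule.mkLinearMap (Submonoid.powers g) M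
    choose bb hbb using fun j => IsLocalizedModule.surj (Submonoid.powers g) mk (B j)
    let b : Fin n → M := fun j => (bb j).1
    have hb : ∀ j, mk (b j) = ((bb j).2 : A) • B j := fun j => (hbb j).symm
    refine ⟨g, b, hg, fun y => ?_, fun c hc => ?_⟩
    · have hy : mk y = ∑ j, B.repr (mk y) j • B j := (B.sum_repr _).symm
      have hu : ∀ j, IsUnit (algebraMap A Ag ((bb j).2 : A)) := fun j => IsLocalization.map_units Ag (bb j).2
      obtain ⟨⟨t, ht⟩, hint⟩ := IsLocalization.exist_integer_multiples (Submonoid.powers g) Finset.univ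
        (fun j => B.repr (mk y) j * ((hu j).unit⁻¹ : Agˣ))
      choose a ha using fun j => hint j (Finset.mem_univ j)
      have h1 : mk (t • y) = mk (lmap b a) := by
        rw [map_smul, hy, Finset.smul_sum, hlmap, map_sum]
        refine Finset.sum_congr rfl fun j _ => ?_
        rw [map_smul, hb, ← IsScalarTower.algebraMap_smul Ag (a j), ← IsScalarTower.algebraMap_smul Ag ((bb j).2 : A),
          smul_smul, ha, smul_mul_assoc, mul_assoc, IsUnit.val_inv_mul, mul_one, smul_assoc]
      obtain ⟨⟨t', ht'⟩, he⟩ := (IsLocalizedModule.eq_iff_exists (Submonoid.powers g) mk).1 h1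
      obtain ⟨k', hk'⟩ := ht'
      obtain ⟨k, hk⟩ := ht
      refine ⟨k' + k, t' • a, ?_⟩
      rw [map_smul, pow_add, mul_smul]
      show g ^ k' • g ^ k • y = t' • lmap b a
      rw [show g ^ k' = t' from hk', show g ^ k = t from hk]
      exact he
    · have h1 : ∑ j, (algebraMap A Ag (c j) * algebraMap A Ag ((bb j).2 : A)) • B j = 0 := by
        have h2 := congrArg mk hc
        rw [hlmap, map_sum, map_zero] at h2
        rw [← h2]
        refine Finset.sum_congr rfl fun j _ => ?_
        rw [map_smul, hb, mul_smul, IsScalarTower.algebraMap_smul, IsScalarTower.algebraMap_smul]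
      have h3 := fun j => Fintype.linearIndependent_iff.1 B.linearIndependent _ h1 j
      have h4 : ∀ j, ∃ k : ℕ, g ^ k * c j = 0 := fun j => by
        have h5 := (IsLocalization.map_units Ag (bb j).2).mul_left_eq_zero.1 (h3 j)
        obtain ⟨⟨_, k, rfl⟩, hk⟩ := (IsLocalization.map_eq_zero_iff (Submonoid.powers g) Ag _).1 h5
        exact ⟨k, hk⟩
      choose k hk using h4
      refine ⟨Finset.univ.sup k, funext fun j => ?_⟩
      obtain ⟨e, he⟩ := Nat.exists_eq_add_of_le (Finset.le_sup (f := k) (Finset.mem_univ j))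
      rw [Pi.smul_apply, smul_eq_mul, he, pow_add, mul_comm (g ^ k j), mul_assoc, hk, mul_zero]
      rfl
  choose! g b hg hsurj hinj using hloc
  let S := P.filter fun p => ∀ q ∈ P, p ≤ q → p = q
  have hS : ∀ p ∈ S, p ∈ P := fun p hp => (Finset.mem_filter.1 hp).1
  have hmax : ∀ p ∈ P, ∃ q ∈ S, p ≤ q := fun p hp => by
    obtain ⟨q, hpq, hq⟩ := P.exists_le_maximal hp
    exact ⟨q, Finset.mem_filter.2 ⟨hq.1, fun q' hq' hle => le_antisymm hle (hq.2 hq' hle)⟩, hpq⟩
  have hsep : ∀ p ∈ S, ∃ e : A, e ∉ p.asIdeal ∧ ∀ q ∈ S, q ≠ p → e ∈ q.asIdeal := by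
    intro p hp
    have : ∀ q ∈ S.erase p, ∃ e ∈ q.asIdeal, e ∉ p.asIdeal := fun q hq => by
      refine SetLike.not_le_iff_exists.1 fun hle => Finset.ne_of_mem_erase hq ?_
      exact (Finset.mem_filter.1 (Finset.mem_of_mem_erase hq)).2 p (hS p hp) hle
    choose! e he hep using this
    refine ⟨∏ q ∈ S.erase p, e q, fun h => ?_, fun q hq hqp => ?_⟩
    · obtain ⟨q, hq, hqe⟩ := p.isPrime.prod_mem_iff.1 h
      exact hep q hq hqe
    · exact Ideal.mem_of_dvd _ (Finset.dvd_prod_of_mem e (Finset.mem_erase.2 ⟨hqp, hq⟩))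
        (he q (Finset.mem_erase.2 ⟨hqp, hq⟩))
  choose! e hep heq using hsep
  let s : Fin n → M := fun j => ∑ q ∈ S, e q • b q j
  have hgood : ∀ p ∈ S, ∃ h : A, h ∉ p.asIdeal ∧ (∀ y : M, ∃ k : ℕ, ∃ v, h ^ k • y = lmap s v) ∧
      (∀ c, lmap s c = 0 → ∃ k : ℕ, h ^ k • c = 0) := by
    intro p hp
    choose K V hV using fun q : PrimeSpectrum A => fun j => hsurj p (hS p hp) (b q j)
    let N := (S ×ˢ Finset.univ).sup fun qj : PrimeSpectrum A × Fin n => K qj.1 qj.2
    have hV' : ∀ q ∈ S, ∀ j, ∃ v, g p ^ N • b q j = lmap (b p) v := fun q hq j => by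
      obtain ⟨d, hd⟩ := Nat.exists_eq_add_of_le (Finset.le_sup (f := fun qj : PrimeSpectrum A × Fin n =>
        K qj.1 qj.2) (Finset.mem_product.2 ⟨hq, Finset.mem_univ j⟩ : (q, j) ∈ S ×ˢ Finset.univ))
      refine ⟨g p ^ d • V q j, ?_⟩
      rw [show N = K q j + d from hd, pow_add, mul_comm, mul_smul, hV, map_smul]
    choose! w hw using hV'
    let col : Fin n → Fin n → A := fun j =>
      (g p ^ N * e p) • Pi.single j 1 + ∑ q ∈ S.erase p, e q • w q j
    let C : Matrix (Fin n) (Fin n) A := Matrix.of fun i j => col j i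
    have hsingle : ∀ j, lmap (b p) (Pi.single j 1) = b p j := fun j => by
      rw [hlmap, Finset.sum_eq_single j (fun i _ hij => by rw [Pi.single_eq_of_ne hij, zero_smul])
        (fun h => absurd (Finset.mem_univ j) h), Pi.single_eq_same, one_smul]
    have hcol : ∀ j, g p ^ N • s j = lmap (b p) (col j) := fun j => by
      show g p ^ N • ∑ q ∈ S, e q • b q j = _
      rw [map_add, map_smul, map_sum, hsingle, Finset.smul_sum, ← Finset.add_sum_erase _ _ hp, smul_smul]
      congr 1
      refine Finset.sum_congr rfl fun q hq => ?_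
      rw [map_smul, smul_comm, hw q (Finset.mem_of_mem_erase hq)]
    have hC : ∀ x, g p ^ N • lmap s x = lmap (b p) (C.mulVec x) := fun x => by
      have h1 : C.mulVec x = ∑ j, x j • col j := funext fun i => by
        rw [Finset.sum_apply]
        simp only [Matrix.mulVec, dotProduct, C, Matrix.of_apply, Pi.smul_apply, smul_eq_mul, mul_comm]
      rw [h1, map_sum, hlmap, Finset.smul_sum]
      refine Finset.sum_congr rfl fun j _ => ?_
      rw [smul_comm, hcol, map_smul]
    have hdet : C.det ∉ p.asIdeal := by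
      rw [← Ideal.Quotient.eq_zero_iff_mem, RingHom.map_det,
        show (Ideal.Quotient.mk p.asIdeal).mapMatrix C =
          Matrix.diagonal fun _ => Ideal.Quotient.mk p.asIdeal (g p ^ N * e p) by
          ext i j
          rw [RingHom.mapMatrix_apply, Matrix.map_apply, Matrix.diagonal_apply]
          show Ideal.Quotient.mk p.asIdeal (((g p ^ N * e p) • Pi.single j 1 + ∑ q ∈ S.erase p, e q • w q j : Fin n → A) i) = _
          have hrest : Ideal.Quotient.mk p.asIdeal ((∑ q ∈ S.erase p, e q • w q j) i) = 0 := by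
            rw [Ideal.Quotient.eq_zero_iff_mem, Finset.sum_apply]
            refine sum_mem fun q hq => ?_
            rw [Pi.smul_apply, smul_eq_mul]
            exact Ideal.mul_mem_right _ _ (heq q (Finset.mem_of_mem_erase hq) p hp (Finset.ne_of_mem_erase hq).symm)
          rw [Pi.add_apply, map_add, hrest, add_zero, Pi.smul_apply, smul_eq_mul]
          rcases eq_or_ne i j with rfl | hij
          · rw [Pi.single_eq_same, mul_one, if_pos rfl]
          · rw [Pi.single_eq_of_ne hij, mul_zero, map_zero, if_neg hij],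
        Matrix.det_diagonal, Finset.prod_const]
      intro h
      rcases p.isPrime.mem_or_mem (Ideal.Quotient.eq_zero_iff_mem.1 (eq_zero_of_pow_eq_zero h)) with h1 | h1
      · exact hg p (hS p hp) (p.isPrime.mem_of_pow_mem N h1)
      · exact hep p hp h1
    refine ⟨g p * C.det, fun h => ?_, fun y => ?_, fun c hc => ?_⟩
    · rcases p.isPrime.mem_or_mem h with h | h
      · exact hg p (hS p hp) h
      · exact hdet h
    · obtain ⟨k, v, hv⟩ := hsurj p (hS p hp) y
      refine ⟨k + 1, (C.det ^ k * g p ^ (N + 1)) • C.adjugate.mulVec v, ?_⟩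
      have h1 : g p ^ N • lmap s (C.adjugate.mulVec v) = C.det • g p ^ k • y := by
        rw [hC, Matrix.mulVec_mulVec, Matrix.mul_adjugate, Matrix.smul_mulVec, Matrix.one_mulVec,
          map_smul, hv]
      rw [map_smul, pow_succ' (g p) N, ← mul_assoc, mul_smul, h1, smul_smul, smul_smul]
      congr 1
      ring
    · have h1 : lmap (b p) (C.mulVec c) = 0 := by rw [← hC, hc, smul_zero]
      obtain ⟨k, hk⟩ := hinj p (hS p hp) _ h1
      refine ⟨k + 1, ?_⟩
      have h2 : C.adjugate.mulVec (g p ^ k • C.mulVec c) = 0 := by rw [hk, Matrix.mulVec_zero]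
      rw [Matrix.mulVec_smul, Matrix.mulVec_mulVec, Matrix.adjugate_mul, Matrix.smul_mulVec, Matrix.one_mulVec,
        smul_smul] at h2
      rw [show (g p * C.det) ^ (k + 1) = (C.det ^ k * g p) * (g p ^ k * C.det) by ring, mul_smul, h2, smul_zero]
  choose! h hh hhsurj hhinj using hgood
  refine ⟨s, ⋃ p ∈ S, (PrimeSpectrum.basicOpen (h p) : Set (PrimeSpectrum A)),
    isOpen_biUnion fun p _ => (PrimeSpectrum.basicOpen (h p)).2, fun p hp => ?_, fun q hq => ?_⟩
  · obtain ⟨r, hr, hpr⟩ := hmax p hp
    exact Set.mem_iUnion₂.2 ⟨r, hr, fun hmem => hh r hr (hpr hmem)⟩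
  · obtain ⟨p, hp, hqh⟩ := Set.mem_iUnion₂.1 hq
    have hu : ∀ k : ℕ, h p ^ k ∈ q.asIdeal.primeCompl := fun k hmem => hqh (q.isPrime.mem_of_pow_mem k hmem)
    let Aq := Localization.AtPrime q.asIdeal
    let mkq := LocalizedModule.mkLinearMap q.asIdeal.primeCompl M
    refine ⟨?_, ?_⟩
    · rw [Fintype.linearIndependent_iff]
      intro a ha j
      obtain ⟨⟨t, ht⟩, hint⟩ := IsLocalization.exist_integer_multiples q.asIdeal.primeCompl Finset.univ a
      choose c hc using fun j => hint j (Finset.mem_univ j)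
      have h1 : mkq (lmap s c) = 0 := by
        rw [hlmap, map_sum, ← smul_zero t, ← ha, Finset.smul_sum]
        refine Finset.sum_congr rfl fun j _ => ?_
        rw [map_smul, ← IsScalarTower.algebraMap_smul Aq (c j), hc, smul_assoc]
      obtain ⟨⟨u, hu'⟩, he⟩ := (IsLocalizedModule.eq_zero_iff q.asIdeal.primeCompl mkq).1 h1
      obtain ⟨k, hk⟩ := hhinj p hp (u • c) (by rw [map_smul]; exact he)
      have h2 := congrFun hk j
      rw [Pi.smul_apply, Pi.smul_apply, smul_eq_mul, smul_eq_mul, Pi.zero_apply] at h2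
      have h3 : algebraMap A Aq (c j) = 0 :=
        (IsLocalization.map_eq_zero_iff q.asIdeal.primeCompl Aq _).2
          ⟨⟨h p ^ k * u, mul_mem (hu k) hu'⟩, by rw [mul_assoc]; exact h2⟩
      rw [hc, Algebra.smul_def] at h3
      exact (IsLocalization.map_units Aq ⟨t, ht⟩).mul_right_eq_zero.1 h3
    · rw [eq_top_iff]
      rintro z -
      obtain ⟨⟨y, u⟩, rfl⟩ := IsLocalizedModule.mk'_surjective q.asIdeal.primeCompl mkq z
      obtain ⟨k, v, hv⟩ := hhsurj p hp y
      have h1 : IsLocalizedModule.mk' mkq y u =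
          IsLocalization.mk' Aq 1 (⟨h p ^ k, hu k⟩ * u : q.asIdeal.primeCompl) • mkq (lmap s v) := by
        rw [← hv, ← IsLocalizedModule.mk'_one q.asIdeal.primeCompl mkq (h p ^ k • y),
          IsLocalizedModule.mk'_smul_mk', one_smul, mul_one]
        exact (IsLocalizedModule.mk'_cancel_left mkq y ⟨h p ^ k, hu k⟩ u).symm
      show IsLocalizedModule.mk' mkq y u ∈ _
      rw [h1, hlmap, map_sum]
      refine Submodule.smul_mem _ _ (Submodule.sum_mem _ fun j _ => ?_)
      rw [map_smul, ← IsScalarTower.algebraMap_smul Aq (v j)]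
      exact Submodule.smul_mem _ _ (Submodule.subset_span ⟨j, rfl⟩)

end Groth.Agent.S17902
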