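import Groth.Statements.S17903
import Groth.Agent.RSPushoutLib.Sections
import Groth.Agent.PDLib.PD
import Mathlib

set_option autoImplicit false
set_option backward.isDefEq.respectTransparency false
set_option backward.isDefEq.respectTransparency.types false
set_option maxHeartbeats 1000000
universe u
open CategoryTheory AlgebraicGeometry
open Pinch

namespace Groth.Agent.S17903


theorem flat_prod_aux {R : Type u} [CommRing R] {M N : Type u} [AddCommGroup M] [AddCommGroup N]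
    [Module R M] [Module R N] [Module.Flat R M] [Module.Flat R N] : Module.Flat R (M × N) := by
  rw [Module.Flat.iff_lTensor_injectiveₛ]
  intro P _ _ Q
  let e := TensorProduct.prodLeft R R M N Q
  let e' := TensorProduct.prodLeft R R M N P
  have h : ∀ z, e' (Q.subtype.lTensor (M × N) z) =
      Prod.map (Q.subtype.lTensor M) (Q.subtype.lTensor N) (e z) := by
    intro z
    induction z using TensorProduct.induction_on with
    | zero => simp [Prod.map, Prod.ext_iff]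
    | tmul m q => obtain ⟨a, b⟩ := m; simp [e, e']
    | add a b ha hb => simp [map_add, ha, hb, Prod.map]
  intro a b hab
  refine e.injective ?_
  have := congr_arg e' hab
  rw [h, h] at this
  exact (Function.Injective.prodMap (Module.Flat.lTensor_preserves_injective_linearMap _
    Q.subtype_injective) (Module.Flat.lTensor_preserves_injective_linearMap _
      Q.subtype_injective)) this

/-- A fibre product of flat algebras along a surjection onto a flat algebra is flat. -/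
theorem flat_fibreProduct {R A B C' C : Type u} [CommRing R] [CommRing A] [CommRing B] [CommRing C'] [CommRing C]
    [Algebra R A] [Algebra R B] [Algebra R C'] [Algebra R C] [Module.Flat R B] [Module.Flat R C'] [Module.Flat R C]
    (a : A →ₐ[R] B) (b : A →ₐ[R] C') (f : B →ₐ[R] C) (g : C' →ₐ[R] C) (hf : Function.Surjective f)
    (hinj : ∀ p, a p = 0 → b p = 0 → p = 0) (hw : ∀ p, f (a p) = g (b p))
    (hex : ∀ s t, f s = g t → ∃ p, a p = s ∧ b p = t) : Module.Flat R A := by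
  let δ : B × C' →ₗ[R] C := f.toLinearMap.comp (LinearMap.fst R B C') - g.toLinearMap.comp (LinearMap.snd R B C')
  have hδ : Function.Surjective δ := fun c => by
    obtain ⟨x, rfl⟩ := hf c
    exact ⟨(x, 0), by simp [δ]⟩
  haveI : Module.Flat R (B × C') := flat_prod_aux
  haveI := PDLib.flat_ker δ hδ
  let Φ : A →ₗ[R] LinearMap.ker δ := (a.toLinearMap.prod b.toLinearMap).codRestrict _ fun p => by
    simp [δ, hw p]
  refine Module.Flat.of_linearEquiv (LinearEquiv.ofBijective Φ ⟨(injective_iff_map_eq_zero Φ).mpr fun p hp => ?_, fun y => ?_⟩)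
  · have h := congrArg Subtype.val hp
    exact hinj p (congrArg Prod.fst h) (congrArg Prod.snd h)
  · obtain ⟨⟨s, t⟩, hy⟩ := y
    obtain ⟨p, hs, ht⟩ := hex s t (by simpa [δ, sub_eq_zero] using hy)
    exact ⟨p, Subtype.ext (Prod.ext hs ht)⟩

/-- Let S be a scheme and Z → X, Z → Z', X → X', Z' → X' a commutative square of S-schemes in which Z →
X and Z' → X' are closed immersions and Z → Z' and X → X' are affine, and which is a pushout square
in the category of ringed spaces. If X, Z and Z' are flat over S then X' is flat over S. -/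
theorem result {S X Z Z' X' : Scheme.{u}}
    (fX : X ⟶ S) (fZ' : Z' ⟶ S) (fX' : X' ⟶ S) (ι : Z ⟶ X) (q : Z ⟶ Z') (π : X ⟶ X') (ι' : Z' ⟶ X')
    [IsClosedImmersion ι] [IsClosedImmersion ι'] [IsAffineHom q] [IsAffineHom π]
    (hq : q ≫ fZ' = ι ≫ fX) (hπ : π ≫ fX' = fX) (hι' : ι' ≫ fX' = fZ')
    (hpo : IsPushout ((Scheme.forgetToLocallyRingedSpace ⋙ LocallyRingedSpace.forgetToSheafedSpace).map ι) ((Scheme.forgetToLocallyRingedSpace ⋙ LocallyRingedSpace.forgetToSheafedSpace).map q)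
      ((Scheme.forgetToLocallyRingedSpace ⋙ LocallyRingedSpace.forgetToSheafedSpace).map π) ((Scheme.forgetToLocallyRingedSpace ⋙ LocallyRingedSpace.forgetToSheafedSpace).map ι'))
    [Flat fX] [Flat (ι ≫ fX)] [Flat fZ'] :
    Flat fX' := by
  have hw : ι ≫ π = q ≫ ι' := by
    have h := hpo.w
    rw [← Functor.map_comp, ← Functor.map_comp] at h
    exact (Scheme.forgetToLocallyRingedSpace ⋙ LocallyRingedSpace.forgetToSheafedSpace).map_injective h
  rw [HasRingHomProperty.iff_appLE (P := @Flat)]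
  intro V U e
  obtain ⟨V, hV⟩ := V
  obtain ⟨U, hU⟩ := U
  have eX : π ⁻¹ᵁ U ≤ fX ⁻¹ᵁ V := by rw [← hπ, Scheme.Hom.comp_preimage]; exact Scheme.Hom.preimage_mono _ e
  have eZ' : ι' ⁻¹ᵁ U ≤ fZ' ⁻¹ᵁ V := by rw [← hι', Scheme.Hom.comp_preimage]; exact Scheme.Hom.preimage_mono _ e
  have eZ : ι ⁻¹ᵁ π ⁻¹ᵁ U ≤ (ι ≫ fX) ⁻¹ᵁ V := by rw [Scheme.Hom.comp_preimage]; exact Scheme.Hom.preimage_mono _ eX
  have ew : ι ⁻¹ᵁ π ⁻¹ᵁ U ≤ q ⁻¹ᵁ ι' ⁻¹ᵁ U := by
    rw [← Scheme.Hom.comp_preimage, ← Scheme.Hom.comp_preimage, hw]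
  letI : Algebra Γ(S, V) Γ(X', U) := (fX'.appLE V U e).hom.toAlgebra
  letI : Algebra Γ(S, V) Γ(X, π ⁻¹ᵁ U) := (fX.appLE V _ eX).hom.toAlgebra
  letI : Algebra Γ(S, V) Γ(Z', ι' ⁻¹ᵁ U) := (fZ'.appLE V _ eZ').hom.toAlgebra
  letI : Algebra Γ(S, V) Γ(Z, ι ⁻¹ᵁ π ⁻¹ᵁ U) := ((ι ≫ fX).appLE V _ eZ).hom.toAlgebra
  haveI : Module.Flat Γ(S, V) Γ(X, π ⁻¹ᵁ U) :=
    HasRingHomProperty.appLE (P := @Flat) fX ‹Flat fX› ⟨V, hV⟩ ⟨_, hU.preimage π⟩ eX
  haveI : Module.Flat Γ(S, V) Γ(Z', ι' ⁻¹ᵁ U) :=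
    HasRingHomProperty.appLE (P := @Flat) fZ' ‹Flat fZ'› ⟨V, hV⟩ ⟨_, hU.preimage ι'⟩ eZ'
  haveI : Module.Flat Γ(S, V) Γ(Z, ι ⁻¹ᵁ π ⁻¹ᵁ U) :=
    HasRingHomProperty.appLE (P := @Flat) (ι ≫ fX) ‹Flat (ι ≫ fX)› ⟨V, hV⟩ ⟨_, (hU.preimage π).preimage ι⟩ eZ
  have ca : fX'.appLE V U e ≫ π.app U = fX.appLE V _ eX := by
    subst hπ
    rw [π.app_eq_appLE, Scheme.Hom.appLE_comp_appLE]
  have cb : fX'.appLE V U e ≫ ι'.app U = fZ'.appLE V _ eZ' := by
    subst hι'
    rw [ι'.app_eq_appLE, Scheme.Hom.appLE_comp_appLE]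
  have cf : fX.appLE V _ eX ≫ ι.app (π ⁻¹ᵁ U) = (ι ≫ fX).appLE V _ eZ := by
    rw [ι.app_eq_appLE, Scheme.Hom.appLE_comp_appLE]
  have cg : fZ'.appLE V _ eZ' ≫ q.appLE (ι' ⁻¹ᵁ U) (ι ⁻¹ᵁ π ⁻¹ᵁ U) ew = (ι ≫ fX).appLE V _ eZ := by
    rw [Scheme.Hom.appLE_comp_appLE]
    congr 1
  have cw : π.app U ≫ ι.app (π ⁻¹ᵁ U) = ι'.app U ≫ q.appLE (ι' ⁻¹ᵁ U) (ι ⁻¹ᵁ π ⁻¹ᵁ U) ew := by
    rw [π.app_eq_appLE, ι.app_eq_appLE, ι'.app_eq_appLE, Scheme.Hom.appLE_comp_appLE, Scheme.Hom.appLE_comp_appLE]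
    congr 1
  obtain ⟨hinj, hex⟩ := RSPushoutLib.scheme_sections hw hpo U
  exact flat_fibreProduct (R := Γ(S, V))
    { (π.app U).hom with commutes' := fun r => ConcreteCategory.congr_hom ca r }
    { (ι'.app U).hom with commutes' := fun r => ConcreteCategory.congr_hom cb r }
    { (ι.app (π ⁻¹ᵁ U)).hom with commutes' := fun r => ConcreteCategory.congr_hom cf r }
    { (q.appLE (ι' ⁻¹ᵁ U) (ι ⁻¹ᵁ π ⁻¹ᵁ U) ew).hom with commutes' := fun r => ConcreteCategory.congr_hom cg r }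
    (ι.app_surjective _ (hU.preimage π)) hinj (fun p => ConcreteCategory.congr_hom cw p) hex

end Groth.Agent.S17903
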