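import Groth.Statements.S17907
import Groth.Agent.PinchBunLib.Main
import Groth.Agent.SeesawLib.Pulled

set_option autoImplicit false
set_option linter.style.haveILetI false
set_option backward.isDefEq.respectTransparency false
set_option backward.isDefEq.respectTransparency.types false

set_option autoImplicit false
universe u
open CategoryTheory AlgebraicGeometry
open Pinch

namespace Groth.Agent.S17907

/-- Let Z → X be a closed immersion and Z → Z' a finite surjective morphism such that every fibre of Z →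
Z' lies in an affine open of X; let X → X', Z' → X' complete a commutative square of schemes which
is a pushout square in the category of ringed spaces, with Z' → X' a closed immersion, X → X' finite
and an isomorphism over the open complement of the image of Z'. Given locally free modules L_X on X
and L_{Z'} on Z' of the same rank n and an isomorphism σ from the pullback of L_X to Z onto the
pullback of L_{Z'} to Z, there are a locally free module M of rank n on X', an isomorphism e_X from
the pullback of M to X onto L_X and an isomorphism e_{Z'} from the pullback of M to Z' onto L_{Z'},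
compatible with σ: the canonical isomorphism between the two iterated pullbacks of M to Z (through X
and through Z') followed by the pullback of e_{Z'} to Z equals the pullback of e_X to Z followed by
σ. (The published result is an equivalence of categories between locally free modules of rank n on
X' and such triples (L_X, L_{Z'}, σ); stated here is the essential surjectivity of the functor
towards triples, not its full faithfulness. Finiteness of X → X' and the isomorphism away from Z'
are part of the pinching construction and are taken as hypotheses.) -/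
theorem result {X Z Z' X' : Scheme.{u}}
    (ι : Z ⟶ X) (q : Z ⟶ Z') (π : X ⟶ X') (ι' : Z' ⟶ X')
    [IsClosedImmersion ι] [IsClosedImmersion ι'] [IsFinite q] [Surjective q] [IsFinite π]
    (hw : ι ≫ π = q ≫ ι')
    (hpo : IsPushout ((Scheme.forgetToLocallyRingedSpace ⋙ LocallyRingedSpace.forgetToSheafedSpace).map ι) ((Scheme.forgetToLocallyRingedSpace ⋙ LocallyRingedSpace.forgetToSheafedSpace).map q)
      ((Scheme.forgetToLocallyRingedSpace ⋙ LocallyRingedSpace.forgetToSheafedSpace).map π) ((Scheme.forgetToLocallyRingedSpace ⋙ LocallyRingedSpace.forgetToSheafedSpace).map ι'))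
    (hAF : ∀ z' : Z', ∃ U : X.Opens, IsAffineOpen U ∧ ∀ z : Z, q.base z = z' → ι.base z ∈ U)
    (U : X'.Opens) (hU : (U : Set X') = (Set.range ι'.base)ᶜ) (hiso : IsIso (π ∣_ U))
    (n : ℕ) (LX : X.Modules) (LZ' : Z'.Modules)
    (hLX : FlatMod.IsFinLocFreeOfRank n LX) (hLZ' : FlatMod.IsFinLocFreeOfRank n LZ')
    (σ : (Scheme.Modules.pullback ι).obj LX ≅ (Scheme.Modules.pullback q).obj LZ') :
    ∃ (M : X'.Modules) (eX : (Scheme.Modules.pullback π).obj M ≅ LX)
      (eZ' : (Scheme.Modules.pullback ι').obj M ≅ LZ'),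
      FlatMod.IsFinLocFreeOfRank n M ∧
      (Scheme.Modules.pullbackComp ι π).app M ≪≫ (Scheme.Modules.pullbackCongr hw).app M ≪≫
          ((Scheme.Modules.pullbackComp q ι').app M).symm ≪≫ (Scheme.Modules.pullback q).mapIso eZ' =
        (Scheme.Modules.pullback ι).mapIso eX ≪≫ σ := by
  haveI : Coh.IsQCoh LX :=
    FinLFAnn.isQCoh_of_isFinLocFree (fun x => let ⟨W, hW⟩ := hLX x; ⟨W, n, hW⟩)
  haveI : Coh.IsQCoh LZ' :=
    FinLFAnn.isQCoh_of_isFinLocFree (fun x => let ⟨W, hW⟩ := hLZ' x; ⟨W, n, hW⟩)
  haveI := PinchBunLib.isQCoh_glued ι q π ι' hw LX LZ' σ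
  let M := PinchBunLib.Glued ι q π ι' hw LX LZ' σ
  haveI := KFlatLib.isQCoh_pullback π M
  haveI := KFlatLib.isQCoh_pullback ι' M
  have hcov : ∀ x : X', ∃ V : X'.affineOpens, x ∈ V.1 := fun x => by
    obtain ⟨V, hV, hx, -⟩ := exists_isAffineOpen_mem_and_subset (x := x) (U := ⊤) trivial
    exact ⟨⟨V, hV⟩, hx⟩
  haveI hX : IsIso (PinchBunLib.eX ι q π ι' hw LX LZ' σ) := by
    refine GrTildeLib.isIso_of_bijective_cover _ (fun V : X'.affineOpens => π ⁻¹ᵁ V.1) (fun V => V.2.preimage π)
      (top_le_iff.1 fun x _ => ?_) fun V => (PinchBunLib.bijective_app ι q π ι' hw LX LZ' σ hpo V.2).1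
    obtain ⟨V, hV⟩ := hcov (π x)
    exact TopologicalSpace.Opens.mem_iSup.2 ⟨V, hV⟩
  haveI hZ : IsIso (PinchBunLib.eZ ι q π ι' hw LX LZ' σ) := by
    refine GrTildeLib.isIso_of_bijective_cover _ (fun V : X'.affineOpens => ι' ⁻¹ᵁ V.1) (fun V => V.2.preimage ι')
      (top_le_iff.1 fun x _ => ?_) fun V => (PinchBunLib.bijective_app ι q π ι' hw LX LZ' σ hpo V.2).2
    obtain ⟨V, hV⟩ := hcov (ι' x)
    exact TopologicalSpace.Opens.mem_iSup.2 ⟨V, hV⟩
  refine ⟨M, asIso (PinchBunLib.eX ι q π ι' hw LX LZ' σ), asIso (PinchBunLib.eZ ι q π ι' hw LX LZ' σ), ?_, ?_⟩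
  · have hM : ∀ V ∈ X'.affineOpens,
        RingHom.ker (π.app V).hom ⊓ RingHom.ker (ι'.app V).hom = ⊥ ∧
        ∀ a ∈ Ideal.map (π.app V).hom (RingHom.ker (ι'.app V).hom),
          ∃ i ∈ RingHom.ker (ι'.app V).hom, (π.app V).hom i = a := by
      intro V _
      obtain ⟨hi, hl⟩ := RSPushoutLib.scheme_sections hw hpo V
      refine ⟨le_bot_iff.1 fun a ha => hi a ha.1 ha.2, fun a ha => ?_⟩
      have hker : Ideal.map (π.app V).hom (RingHom.ker (ι'.app V).hom) ≤ RingHom.ker (ι.app (π ⁻¹ᵁ V)).hom := by
        rw [Ideal.map_le_iff_le_comap]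
        intro r hr
        have h := PinchBunLib.app_sq ι q π ι' hw V r
        rw [show ι'.app V r = 0 from hr, map_zero] at h
        exact h.symm
      obtain ⟨p, hp1, hp2⟩ := hl a 0 (by rw [map_zero]; exact hker ha)
      exact ⟨p, hp2, hp1⟩
    have hA : FlatMod.IsFinLocFreeOfRank n ((Scheme.Modules.pullback π).obj M) :=
      SeesawLib.isFinLocFreeOfRank_of_iso hLX (asIso (PinchBunLib.eX ι q π ι' hw LX LZ' σ))
    have hB : FlatMod.IsFinLocFreeOfRank n ((Scheme.Modules.pullback ι').obj M) :=
      SeesawLib.isFinLocFreeOfRank_of_iso hLZ' (asIso (PinchBunLib.eZ ι q π ι' hw LX LZ' σ))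
    have hF : FlatMod.IsFinLocFree M := PinchModLib.isFinLocFree π ι' hM M
      (fun x => let ⟨W, hW⟩ := hB x; ⟨W, n, hW⟩) (fun x => let ⟨W, hW⟩ := hA x; ⟨W, n, hW⟩)
    refine FComplFreeLib.isFinLocFreeOfRank_of_rankSet fun x => ?_
    by_cases hx : x ∈ U
    · haveI := hiso
      obtain ⟨y, hy⟩ := (π ∣_ U).surjective ⟨x, hx⟩
      have hy' : π y.1 = x := (congr($(morphismRestrict_ι π U) y)).symm.trans (congrArg Subtype.val hy)
      exact hy' ▸ (SeesawLib.mem_rankSet_pullback_iff hF π y.1 n).1 (SeesawLib.rankSet_of_rank hA y.1)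
    · obtain ⟨y, rfl⟩ : x ∈ Set.range ι'.base := by
        by_contra h
        exact hx (show x ∈ (U : Set X') from hU ▸ h)
      exact (SeesawLib.mem_rankSet_pullback_iff hF ι' y n).1 (SeesawLib.rankSet_of_rank hB y)
  · apply Iso.ext
    simpa [Groth.Agent.S19888.xi] using PinchBunLib.compat ι q π ι' hw LX LZ' σ

end Groth.Agent.S17907
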