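import Groth.Statements.S17913
import Groth.Agent.GerbeLib.Conj

set_option autoImplicit false
set_option linter.all false
set_option backward.isDefEq.respectTransparency false
set_option backward.isDefEq.respectTransparency.types false
universe u
open CategoryTheory AlgebraicGeometry
open Gerb

namespace Groth.Agent.S17913

/-- Let S be a scheme, 𝒳 and 𝒴 gerbes over the big fppf site of schemes over S, φ : 𝒳 → 𝒴 and ψ : 𝒴 → 𝒳
functors over Sch_S, and x an object of 𝒳 over S itself such that φ is surjective on automorphism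
groups along x: for every object x' of 𝒳 admitting a morphism to x (every pullback of x), every
automorphism of φ(x') over the identity is φ(α) for some automorphism α of x' over the identity. Let
g : ψ(φ(x)) → x be an isomorphism lying over the identity such that conjugation by g after ψ ∘ φ is
the identity of the automorphism sheaf of x: whenever c : x' → x is a morphism of 𝒳 and g' :
ψ(φ(x')) → x' is the morphism over the identity with ψ(φ(c)) ≫ g = g' ≫ c, every automorphism α of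
x' over the identity satisfies ψ(φ(α)) ≫ g' = g' ≫ α. Then φ ∘ ψ is isomorphic to the identity on
every fibre of 𝒴: there are isomorphisms σ_z : φ(ψ(z)) → z for all objects z of 𝒴, lying over
identities and natural in morphisms lying over identities, so that φ and ψ are mutually
quasi-inverse on every fibre. (The published corollary does not assume that φ is surjective on
automorphism groups; its proof uses that φ is full, and without that hypothesis the conclusion fails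
— take for 𝒳 the base category over itself, for 𝒴 the gerbe of torsors under the group of order two,
for φ the trivial torsor and for ψ the structure functor. The published corollary also concludes
that ψ ∘ φ is isomorphic to the identity on every fibre of 𝒳; that part follows from the hypotheses
on g alone and is stated separately.) -/
theorem result (S : Scheme.{u}) (𝒳 𝒴 : AlgSt.Cat S)
    (h𝒳 : Gerb.IsGerbe (QuotSh.J Scheme.fppfPrecoverage S) 𝒳)
    (h𝒴 : Gerb.IsGerbe (QuotSh.J Scheme.fppfPrecoverage S) 𝒴)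
    (φ : 𝒳 ⥤ᵇ 𝒴) (ψ : 𝒴 ⥤ᵇ 𝒳) (x : 𝒳.obj) (hx : 𝒳.p.obj x = Over.mk (𝟙 S))
    (hφ : ∀ (x' : 𝒳.obj) (c : x' ⟶ x), Function.Surjective (Gerb.autMap φ x'))
    (g : ψ.obj (φ.obj x) ⟶ x) [IsIso g] (hg : 𝒳.p.IsHomLift (𝟙 (𝒳.p.obj x)) g)
    (hconj : ∀ (x' : 𝒳.obj) (c : x' ⟶ x) (g' : ψ.obj (φ.obj x') ⟶ x'), 𝒳.p.IsHomLift (𝟙 (𝒳.p.obj x')) g' →
      ψ.map (φ.map c) ≫ g = g' ≫ c → ∀ α : Gerb.AutO x', ψ.map (φ.map α.hom.1) ≫ g' = g' ≫ α.hom.1) :
    ∃ σ : ∀ z : 𝒴.obj, φ.obj (ψ.obj z) ⟶ z,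
      (∀ z, IsIso (σ z) ∧ 𝒴.p.IsHomLift (𝟙 (𝒴.p.obj z)) (σ z)) ∧
      (∀ (z z' : 𝒴.obj) (f : z ⟶ z'), 𝒴.p.IsHomLift (𝟙 (𝒴.p.obj z)) f →
        φ.map (ψ.map f) ≫ σ z' = σ z ≫ f) := by
  haveI := h𝒳.1.1
  haveI := h𝒴.1.1
  have hy : 𝒴.p.obj (φ.obj x) = Over.mk (𝟙 S) := (φ.w_obj x).trans hx
  have hu : ∀ U : Over S, Subsingleton (U ⟶ 𝒴.p.obj (φ.obj x)) := fun U => by
    rw [hy]
    exact ⟨fun a b => Over.OverMorphism.ext ((Category.comp_id _).symm.trans
      ((Over.w a).trans ((Over.w b).symm.trans (Category.comp_id _))))⟩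
  have hg' : 𝒴.p.IsHomLift (𝟙 (𝒴.p.obj (φ.obj x))) (φ.map g) := by
    haveI := hg
    rw [φ.w_obj x]
    exact φ.preserves_isHomLift _ g
  refine GerbeLib.exists_fibrewise_iso (Φ := BasedFunctor.comp ψ φ) hg' hu ?_ h𝒴
    (fun U => ⟨(Over.homMk U.hom (by simp) : U ⟶ Over.mk (𝟙 S)) ≫ eqToHom hy.symm⟩)
  intro z c gz hgz ez β
  -- the source is isomorphic to the image of an object over `x`
  obtain ⟨w, c₀, hc₀⟩ := FibLib.exists_lift 𝒳.p (a := x) rfl (𝒴.p.map c ≫ eqToHom (φ.w_obj x))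
  haveI := hc₀
  have hwz : 𝒳.p.obj w = 𝒴.p.obj z := IsHomLift.domain_eq 𝒳.p (𝒴.p.map c ≫ eqToHom (φ.w_obj x)) c₀
  haveI hm : 𝒴.p.IsHomLift (𝒴.p.map c ≫ eqToHom (φ.w_obj x)) c :=
    IsHomLift.of_fac' _ _ _ rfl (φ.w_obj x) (by simp)
  obtain ⟨j, hj, ej⟩ := GerbeLib.exists_vert 𝒴.p _ c (φ.map c₀) hm (φ.preserves_isHomLift _ c₀)
  haveI := hj
  obtain ⟨g₁, hg₁, e₁⟩ := GerbeLib.exists_fill (Φ := BasedFunctor.comp φ ψ) hg rfl c₀
  haveI := hg₁
  have hji : 𝒴.p.IsHomLift (𝟙 (𝒴.p.obj z)) j.inv := @IsHomLift.lift_id_inv _ _ _ _ 𝒴.p _ _ _ j hj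
  -- the conjugating arrow at `z`
  have key : gz ≫ j.hom = φ.map (ψ.map j.hom) ≫ φ.map g₁ := by
    have h1 : 𝒴.p.IsHomLift (𝟙 (𝒴.p.obj z)) (φ.map g₁) := by
      rw [← hwz]; exact φ.preserves_isHomLift _ g₁
    have h2 : 𝒴.p.IsHomLift (𝟙 (𝒴.p.obj z)) (φ.map (ψ.map j.hom)) := by
      haveI : 𝒳.p.IsHomLift (𝟙 (𝒴.p.obj z)) (ψ.map j.hom) := ψ.preserves_isHomLift _ j.hom
      exact φ.preserves_isHomLift _ _
    refine GerbeLib.eq_of_comp_eq (φ.map c₀) _ _ (GerbeLib.isHomLift_id_comp _ _ _ _ hgz hj)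
      (GerbeLib.isHomLift_id_comp _ _ _ _ h2 h1) ?_
    have e₁' : φ.map (ψ.map (φ.map c₀)) ≫ φ.map g = φ.map g₁ ≫ φ.map c₀ := by
      rw [← φ.toFunctor.map_comp, ← φ.toFunctor.map_comp]
      exact congrArg (fun t => φ.map t) e₁
    rw [Category.assoc, ej, Category.assoc, ← e₁', ← φ.toFunctor.map_comp_assoc, ← ψ.toFunctor.map_comp, ej]
    exact ez.symm
  -- transport the automorphism
  haveI := β.hom.2
  have hb : 𝒴.p.IsHomLift (𝟙 (𝒴.p.obj (φ.obj w))) (j.inv ≫ β.hom.1 ≫ j.hom) := by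
    rw [φ.w_obj w, hwz]
    exact GerbeLib.isHomLift_id_comp _ _ _ _ hji (GerbeLib.isHomLift_id_comp _ _ _ _ β.hom.2 hj)
  let b : Gerb.AutO (φ.obj w) := FibLib.fiberIso 𝒴.p (a := fib (φ.obj w)) (b := fib (φ.obj w))
    (j.symm ≪≫ (Functor.Fiber.fiberInclusion).mapIso β ≪≫ j) hb
  obtain ⟨α, hα⟩ := hφ w c₀ b
  have eα : φ.map α.hom.1 = j.inv ≫ β.hom.1 ≫ j.hom := congrArg (fun t : Gerb.AutO (φ.obj w) => t.hom.1) hα
  have hc := hconj w c₀ g₁ hg₁ e₁ α
  have hc' : φ.map (ψ.map (φ.map α.hom.1)) ≫ φ.map g₁ = φ.map g₁ ≫ φ.map α.hom.1 := by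
    rw [← φ.toFunctor.map_comp, ← φ.toFunctor.map_comp]
    exact congrArg (fun t => φ.map t) hc
  show φ.map (ψ.map β.hom.1) ≫ gz = gz ≫ β.hom.1
  rw [← cancel_mono j.hom, Category.assoc, key, Category.assoc]
  have eb : β.hom.1 ≫ j.hom = j.hom ≫ φ.map α.hom.1 := by rw [eα, Iso.hom_inv_id_assoc]
  rw [eb, ← Category.assoc gz, key, Category.assoc, ← hc', ← φ.toFunctor.map_comp_assoc,
    ← φ.toFunctor.map_comp_assoc, ← ψ.toFunctor.map_comp, ← ψ.toFunctor.map_comp, eb]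

end Groth.Agent.S17913
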