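import Groth.Statements.S17914
import Groth.Agent.ZCLib.Mul
import Mathlib.RingTheory.Norm.Basic

set_option autoImplicit false
set_option backward.isDefEq.respectTransparency false
set_option backward.isDefEq.respectTransparency.types false
universe u
open scoped TensorProduct
open PolLaw

namespace Groth.Agent.S17914
section helpers

variable {R R' Q Q' : Type u} [CommRing R] [CommRing R'] [Algebra R R']
    [CommRing Q] [Algebra R Q] [CommRing Q'] [Algebra R Q'] [Algebra Q Q'] [Algebra R' Q']
    [IsScalarTower R Q Q'] [IsScalarTower R R' Q'] [Algebra.IsPushout R R' Q Q']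

variable {P : Type u} [CommRing P] [Algebra R P] [Algebra Q P] [IsScalarTower R Q P]

/-- The base change isomorphism of the test algebras. -/
noncomputable def bcEquiv (P : Type u) [CommRing P] [Algebra R P] [Algebra Q P] [IsScalarTower R Q P] :
    P ⊗[R] R' ≃ₐ[P] P ⊗[Q] Q' :=
  haveI : Algebra.IsPushout R Q R' Q' := Algebra.IsPushout.symm inferInstance
  (Algebra.TensorProduct.cancelBaseChange R Q P P R').symm.trans
    (Algebra.TensorProduct.congr AlgEquiv.refl (Algebra.IsPushout.equiv R Q R' Q'))

theorem bcAlong_tmul' {X Y : Type u} [AddCommGroup X] [Module R X] [AddCommGroup Y] [Module R Y] [Module Q Y]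
    [IsScalarTower R Q Y] (g : X →ₗ[R] Y) (p : P) (x : X) :
    PolLaw.bcAlong g P (p ⊗ₜ[R] x) = p ⊗ₜ[Q] g x := by
  simp [PolLaw.bcAlong]

theorem bcAlong_eq_bcEquiv (z : P ⊗[R] R') :
    PolLaw.bcAlong (IsScalarTower.toAlgHom R R' Q').toLinearMap P z = bcEquiv (Q := Q) (Q' := Q') P z := by
  induction z using TensorProduct.induction_on with
  | zero => simp
  | add x y hx hy => simp only [map_add, hx, hy]
  | tmul p x =>
    rw [bcAlong_tmul']
    simp [bcEquiv, Algebra.IsPushout.equiv_tmul]

theorem norm_bcAlong (z : P ⊗[R] R') :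
    Algebra.norm P (PolLaw.bcAlong (IsScalarTower.toAlgHom R R' Q').toLinearMap P z : P ⊗[Q] Q') =
      Algebra.norm P z := by
  rw [bcAlong_eq_bcEquiv]
  exact Algebra.norm_eq_of_algEquiv _ _

theorem lTensor_bcAlong {X Y Z : Type u} [AddCommGroup X] [Module R X] [AddCommGroup Y] [Module R Y] [Module Q Y]
    [IsScalarTower R Q Y] [AddCommGroup Z] [Module R Z] [Module Q Z] [IsScalarTower R Q Z]
    (g : X →ₗ[R] Y) (f : Y →ₗ[Q] Z) (z : P ⊗[R] X) :
    f.lTensor P (PolLaw.bcAlong g P z) = PolLaw.bcAlong (f.restrictScalars R ∘ₗ g) P z := by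
  induction z using TensorProduct.induction_on with
  | zero => simp
  | add x y hx hy => simp only [map_add, hx, hy]
  | tmul p x => rw [bcAlong_tmul', bcAlong_tmul']; simp

theorem bcAlong_lTensor {X Y Z : Type u} [AddCommGroup X] [Module R X] [AddCommGroup Y] [Module R Y]
    [AddCommGroup Z] [Module R Z] [Module Q Z] [IsScalarTower R Q Z]
    (g : X →ₗ[R] Y) (f : Y →ₗ[R] Z) (z : P ⊗[R] X) :
    PolLaw.bcAlong (Q := Q) f P (g.lTensor P z) = PolLaw.bcAlong (Q := Q) (f ∘ₗ g) P z := by
  induction z using TensorProduct.induction_on with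
  | zero => simp
  | add x y hx hy => simp only [map_add, hx, hy]
  | tmul p x => rw [LinearMap.lTensor_tmul, bcAlong_tmul', bcAlong_tmul']; simp

theorem coeff_bcAlong {X : Type u} [AddCommGroup X] [Module R X] {κ : Type u} (f : X →ₗ[R] Q)
    (c : (κ →₀ ℕ) →₀ X) (α : κ →₀ ℕ) :
    MvPolynomial.coeff α (TensorProduct.rid Q (MvPolynomial κ Q)
      (PolLaw.bcAlong f (MvPolynomial κ Q) (ZCLib.evalAt (fun j => MvPolynomial.X j) c))) = f (c α) := by
  classical
  induction c using Finsupp.induction_linear with
  | zero => simp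
  | add x y hx hy => simp only [map_add, MvPolynomial.coeff_add, Finsupp.add_apply, hx, hy]
  | single β x =>
    rw [ZCLib.evalAt_single, bcAlong_tmul', TensorProduct.rid_tmul, MvPolynomial.coeff_smul,
      Finsupp.prod, MvPolynomial.prod_X_pow_eq_monomial, MvPolynomial.coeff_monomial, Finsupp.single_apply]
    split_ifs with h
    · simp
    · simp

end helpers

/-- Affine-free form, stated through universal properties. Let R → R' be a commutative algebra that is
free of rank d as an R-module, Q a commutative R-algebra, and Q' a commutative ring under Q and R'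
which is their pushout over R and is free of rank d over Q. Let (C, γ) be the degree-d divided power
algebra of R' over R with its universal multiplicative law (hypothesis: every multiplicative law of
degree d out of R' factors uniquely through γ) and π : C → R the R-algebra map with π ∘ γ = the norm
law of R' over R; let (C', γ', π') be the analogous data for Q' over Q. Let θ : C → C' be an
R-algebra homomorphism compatible with the two universal laws over every commutative Q-algebra P:
γ'_P applied to the image of z ∈ P ⊗_R R' in P ⊗_Q Q' equals (p ⊗ c ↦ p ⊗ θ c) applied to γ_P(z) (so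
θ is the base-change homomorphism of divided power algebras). Then π' (θ c) is the image in Q of π c
for every c ∈ C: the algebra map attached to the norm commutes with base change. (The published
lemma is for a finite locally free extension of constant rank and states the commutativity of each
of three squares; this row assumes R' free over R and states the commutativity of the composite.) -/
theorem result {R R' Q Q' : Type u} [CommRing R] [CommRing R'] [Algebra R R']
    [CommRing Q] [Algebra R Q] [CommRing Q'] [Algebra R Q'] [Algebra Q Q'] [Algebra R' Q']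
    [IsScalarTower R Q Q'] [IsScalarTower R R' Q'] [Algebra.IsPushout R R' Q Q']
    [Module.Free R R'] [Module.Finite R R'] [Module.Free Q Q'] [Module.Finite Q Q']
    (d : ℕ) (hd : Module.finrank R R' = d) (hd' : Module.finrank Q Q' = d)
    {C : Type u} [CommRing C] [Algebra R C] (γ : PolLaw.MulLaw R R' C d) (hγ : PolLaw.IsGammaD γ)
    (π : C →ₐ[R] R) (hπ : PolLaw.MulLaw.postcomp π γ = PolLaw.normLaw R R' d hd)
    {C' : Type u} [CommRing C'] [Algebra R C'] [Algebra Q C'] [IsScalarTower R Q C']
    (γ' : PolLaw.MulLaw Q Q' C' d) (hγ' : PolLaw.IsGammaD γ')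
    (π' : C' →ₐ[Q] Q) (hπ' : PolLaw.MulLaw.postcomp π' γ' = PolLaw.normLaw Q Q' d hd')
    (θ : C →ₐ[R] C')
    (hθ : ∀ (P : Type u) [CommRing P] [Algebra R P] [Algebra Q P] [IsScalarTower R Q P] (z : P ⊗[R] R'),
      γ'.law.toFun' P (PolLaw.bcAlong (IsScalarTower.toAlgHom R R' Q').toLinearMap P z) =
        PolLaw.bcAlong θ.toLinearMap P (γ.law.toFun' P z)) :
    ∀ c : C, π' (θ c) = algebraMap R Q (π c) := by
  intro c
  have key : π'.toLinearMap.restrictScalars R ∘ₗ θ.toLinearMap = (Algebra.linearMap R Q) ∘ₗ π.toLinearMap := by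
    refine LinearMap.ext_on (ZCLib.span_coeffSet_eq_top hγ) ?_
    rintro _ ⟨κ, _, v, α, -, rfl⟩
    let P := MvPolynomial κ Q
    let z : P ⊗[R] R' := ∑ j, (MvPolynomial.X j : P) ⊗ₜ[R] v j
    have hz : γ.law.toFun' P z = ZCLib.evalAt (fun j => (MvPolynomial.X j : P)) (ZCLib.coeffs γ.law v) :=
      ZCLib.toFun'_sum γ.law _ v
    have e1 : π'.toLinearMap.lTensor P
        (γ'.law.toFun' P (PolLaw.bcAlong (IsScalarTower.toAlgHom R R' Q').toLinearMap P z)) =
        Algebra.norm P z ⊗ₜ[Q] (1 : Q) := by
      have h := congrArg (fun N : PolLaw.MulLaw Q Q' Q d =>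
        N.law.toFun' P (PolLaw.bcAlong (IsScalarTower.toAlgHom R R' Q').toLinearMap P z)) hπ'
      simp only [PolLaw.normLaw_apply, norm_bcAlong] at h
      exact h
    have e2 : π.toLinearMap.lTensor P (γ.law.toFun' P z) = Algebra.norm P z ⊗ₜ[R] (1 : R) := by
      have h := congrArg (fun N : PolLaw.MulLaw R R' R d => N.law.toFun' P z) hπ
      simp only [PolLaw.normLaw_apply] at h
      exact h
    have e3 : PolLaw.bcAlong (Q := Q) (π'.toLinearMap.restrictScalars R ∘ₗ θ.toLinearMap) P (γ.law.toFun' P z) =
        PolLaw.bcAlong (Q := Q) ((Algebra.linearMap R Q) ∘ₗ π.toLinearMap) P (γ.law.toFun' P z) := by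
      rw [← lTensor_bcAlong, ← hθ P z, e1, ← bcAlong_lTensor, e2, bcAlong_tmul']
      simp
    have h := congrArg (fun w => MvPolynomial.coeff α (TensorProduct.rid Q P w)) e3
    simp only [hz] at h
    rw [coeff_bcAlong, coeff_bcAlong] at h
    exact h
  exact LinearMap.congr_fun key c

end Groth.Agent.S17914
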