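import Groth.Statements.S17917
import Groth.Agent.RefNumLib.Main
import Groth.Agent.ChowLib.Embed

set_option autoImplicit false
set_option linter.style.haveILetI false
universe u
open CategoryTheory CategoryTheory.Limits AlgebraicGeometry
open RefCh

namespace Groth.Agent.S17917

/-- Let k be an algebraically closed field, X an integral normal scheme of dimension s + 2 admitting a
closed immersion into some P^N_k over k, and L_1, …, L_s invertible O_X-modules with inverses M_1,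
…, M_s. Let ℒ_1 be a coherent reflexive O_X-module of rank one (ℒ_1 = O_X(D_1) for a Weil divisor
D_1, with dual ℒ_1^∨ = O_X(-D_1)) and ℒ_2 an invertible O_X-module (a Cartier divisor D_2) with
inverse 𝓜_2. With q(ℱ) the limit of 2 χ(c_1(L_1) ⋯ c_1(L_s) · [ℱ^[m]]) / m^2 (reflexive powers,
FGA.intNum in the M_i), assumed to exist for ℒ_1, ℒ_2 and the reflexive hull ℒ_1 ⊗̂ ℒ_2 of ℒ_1 ⊗
ℒ_2, one has (q(ℒ_1 ⊗̂ ℒ_2) - q(ℒ_1) - q(ℒ_2)) / 2 = χ(c_1(ℒ_2) c_1(L_1) ⋯ c_1(L_s) · ([O_X] -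
[ℒ_1^∨])), the right side written as the difference of the alternating sums FGA.intNum in (𝓜_2, M_1,
…, M_s) of O_X and of ℒ_1^∨; that is, D_1 · D_2 · L_1 ⋯ L_s equals the usual intersection number of
the Cartier divisor D_2 and the L_i with the cycle of D_1. (The published text normalises D^2 · L_1
⋯ L_s as twice the limit of χ(c_1(L_1) ⋯ c_1(L_s) · ([O_X] - [O_X(-mD)])) / m^2, the negative of the
number used here, and with that sign the identity fails for two lines on the projective plane, where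
it would read -1 = 1.) -/
theorem result (k : Type u) [Field k] [IsAlgClosed k] (X : Scheme.{u}) [X.Over (Spec (CommRingCat.of k))]
    [AlgebraicGeometry.IsIntegral X] (hnorm : Pi1.IsNormalScheme X) (s : ℕ) (hdim : topologicalKrullDim X = (s + 2 : ℕ))
    (hproj : ∃ (N : ℕ) (ι : X ⟶ CohB1.ProjSpace N k), IsClosedImmersion ι ∧ ι ≫ CohB1.ProjSpace.toSpec N k = X ↘ Spec (CommRingCat.of k))
    (L M : Fin s → X.Modules) (hL : ∀ i, PicF.IsInvertible (L i))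
    (hLM : ∀ i, Nonempty (CohB1.tensorMod (L i) (M i) ≅ Coh.structureModule X))
    (ℒ₁ ℒ₂ 𝓜₂ : X.Modules) (h₁ : RefHull.IsRef1 ℒ₁) (h₂ : PicF.IsInvertible ℒ₂)
    (h₂' : Nonempty (CohB1.tensorMod ℒ₂ 𝓜₂ ≅ Coh.structureModule X))
    (q₁ q₂ q₁₂ : ℝ)
    (hq₁ : Filter.Tendsto (fun m : ℕ => (2 : ℝ) * (FGA.intNum k X (s + 2) M (RefPow.refPow ℒ₁ m) : ℝ) / ((m : ℝ) ^ 2)) Filter.atTop (nhds q₁))
    (hq₂ : Filter.Tendsto (fun m : ℕ => (2 : ℝ) * (FGA.intNum k X (s + 2) M (RefPow.refPow ℒ₂ m) : ℝ) / ((m : ℝ) ^ 2)) Filter.atTop (nhds q₂))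
    (hq₁₂ : Filter.Tendsto (fun m : ℕ => (2 : ℝ) * (FGA.intNum k X (s + 2) M (RefPow.refPow (RefPow.refTensor ℒ₁ ℒ₂) m) : ℝ) / ((m : ℝ) ^ 2)) Filter.atTop (nhds q₁₂)) :
    (q₁₂ - q₁ - q₂) / 2 =
      ((FGA.intNum k X (s + 2) (Fin.cons 𝓜₂ M) (Coh.structureModule X) -
        FGA.intNum k X (s + 2) (Fin.cons 𝓜₂ M) (RefHull.dual ℒ₁) : ℤ) : ℝ) := by
  obtain ⟨N, ι, hι, hιc⟩ := hproj
  haveI := hι
  haveI : IsProper (X ↘ Spec (CommRingCat.of k)) := by
    haveI := RelProjLib.isProper_polyToSpec (N + 1) k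
    haveI : IsProper (CohB1.ProjSpace.toSpec N k) := RelProjLib.isProper_polyToSpec (N + 1) k
    rw [← hιc]; infer_instance
  haveI : IsLocallyNoetherian X := (CurvLib.isNoetherian k (X := X)).1
  have hM : ∀ i, PicF.IsInvertible (M i) := fun i => IntMultLib.isInvertible_of_inverse (hL i) (hLM i).some
  obtain ⟨D₁, hD₁⟩ := Ref1Lib.exists_hasDiv h₁
  have h₂r := Ref1Lib.isRef1_of_invertible h₂
  obtain ⟨D₂, hD₂⟩ := Ref1Lib.exists_hasDiv h₂r
  let ψ := RefNumLib.num k (Fin.cons 𝓜₂ M) (s + 1 + 1)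
  let φ₀ := FGA.intNum k X (s + 1 + 1) (Fin.cons 𝓜₂ M) (Coh.structureModule X)
  let f : X.Modules → ℤ := FGA.intNum k X (s + 1 + 1) M
  -- the right side
  have hM' : ∀ i, PicF.IsInvertible ((Fin.cons 𝓜₂ M : Fin (s + 1) → X.Modules) i) :=
    Fin.cases (by simpa using IntMultLib.isInvertible_of_inverse h₂ h₂'.some) (fun i => by simpa using hM i)
  have hneg : ψ (-D₁) = -ψ D₁ := by
    have hf := RefNumLib.finite_div k hnorm h₁ hD₁
    have h := RefNumLib.num_add k (Fin.cons 𝓜₂ M) (s + 1 + 1) hf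
      (E := -D₁) (hf.subset fun x hx => ⟨hx.1, fun h0 => hx.2 (by rw [Pi.neg_apply, h0, neg_zero])⟩)
    rw [add_neg_cancel, show RefNumLib.num k (Fin.cons 𝓜₂ M) (s + 1 + 1) (0 : X → ℤ) = 0 by
      simp [RefNumLib.num]] at h
    linarith
  have hdual : FGA.intNum k X (s + 1 + 1) (Fin.cons 𝓜₂ M) (RefHull.dual ℒ₁) = φ₀ - ψ D₁ := by
    rw [RefNumLib.intNum_eq_num k (r := s + 1) hnorm hdim (Fin.cons 𝓜₂ M) hM' (Ref1Lib.isRef1_dual h₁)
      (Ref1Lib.hasDiv_dual hnorm h₁ hD₁)]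
    exact (congrArg (φ₀ + ·) hneg).trans (sub_eq_add_neg _ _).symm
  -- the three sequences
  have hkey : ∀ m : ℕ, 2 * f (RefPow.refPow (RefPow.refTensor ℒ₁ ℒ₂) m) - 2 * f (RefPow.refPow ℒ₁ m) -
      2 * f (RefPow.refPow ℒ₂ m) = 2 * (m : ℤ) ^ 2 * ψ D₁ - 2 * f (Coh.structureModule X) := by
    intro m
    have h₁₂ := Ref1Lib.isRef1_ddualTensor h₁ h₂r
    have hD₁m := RefNumLib.refPow_div hnorm h₁ hD₁ m
    obtain ⟨a1, a2, a3⟩ := RefNumLib.intNum_twists k hnorm hdim M hM h₂ h₂'.some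
      (RefPowLib.isRef1_refPow h₁ m) hD₂ hD₁m m
    obtain ⟨b1, b2, b3⟩ := RefNumLib.intNum_twists k hnorm hdim M hM h₂ h₂'.some
      (Ref1Lib.isRef1_unit (X := X)) hD₂ Ref1Lib.hasDiv_unit m
    obtain ⟨ea⟩ := Ref1Lib.nonempty_iso_of_hasDiv hnorm (RefPowLib.isRef1_refPow h₁₂ m) a1
      (RefNumLib.refPow_div hnorm h₁₂ (Ref1Lib.hasDiv_ddualTensor hnorm h₁ h₂r hD₁ hD₂) m)
      ((congrArg (Ref1Lib.HasDiv _) (funext fun x => by simp only [Pi.add_apply]; ring)).mp a2)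
    obtain ⟨eb⟩ := Ref1Lib.nonempty_iso_of_hasDiv hnorm (RefPowLib.isRef1_refPow h₂r m) b1
      (RefNumLib.refPow_div hnorm h₂r hD₂ m)
      ((congrArg (Ref1Lib.HasDiv _) (funext fun x => by simp)).mp b2)
    have hm1 : ψ (fun x => (m : ℤ) * D₁ x) = (m : ℤ) * ψ D₁ := by
      simp only [ψ, RefNumLib.num]
      rw [← smul_eq_mul (m : ℤ), smul_finsum]
      refine finsum_congr fun x => ?_
      rw [smul_eq_mul]
      split_ifs <;> ring
    have hm0 : RefNumLib.num k (Fin.cons 𝓜₂ M) (s + 1 + 1) (fun _ : X => (0 : ℤ)) = 0 := by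
      simp [RefNumLib.num]
    rw [hm0] at b3
    simp only [f]
    rw [HilbPolyLib.intNum_congr hdim.le M ea, HilbPolyLib.intNum_congr hdim.le M eb]
    change 2 * _ = 2 * _ + 2 * (m : ℤ) * (φ₀ + ψ (fun x => (m : ℤ) * D₁ x)) + _ at a3
    rw [hm1] at a3
    linarith
  have hlim : Filter.Tendsto (fun m : ℕ => (2 : ℝ) * (ψ D₁ : ℝ) -
      2 * (f (Coh.structureModule X) : ℝ) / ((m : ℝ) ^ 2)) Filter.atTop (nhds (2 * (ψ D₁ : ℝ))) := by
    have h0 : Filter.Tendsto (fun m : ℕ => 2 * (f (Coh.structureModule X) : ℝ) / ((m : ℝ) ^ 2))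
        Filter.atTop (nhds 0) :=
      Filter.Tendsto.div_atTop tendsto_const_nhds
        ((Filter.tendsto_pow_atTop two_ne_zero).comp tendsto_natCast_atTop_atTop)
    simpa using tendsto_const_nhds.sub h0
  have hq : q₁₂ - q₁ - q₂ = 2 * (ψ D₁ : ℝ) := by
    refine tendsto_nhds_unique (((hq₁₂.sub hq₁).sub hq₂).congr' ?_) hlim
    filter_upwards [Filter.eventually_gt_atTop 0] with m hm
    have hm' : (m : ℝ) ≠ 0 := by positivity
    have h := congrArg (fun z : ℤ => (z : ℝ)) (hkey m)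
    simp only [f] at h ⊢
    push_cast at h
    field_simp
    linarith
  rw [hq, show FGA.intNum k X (s + 2) (Fin.cons 𝓜₂ M) (RefHull.dual ℒ₁) = φ₀ - ψ D₁ from hdual,
    show FGA.intNum k X (s + 2) (Fin.cons 𝓜₂ M) (Coh.structureModule X) = φ₀ from rfl]
  push_cast
  ring

end Groth.Agent.S17917
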