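import Groth.Statements.S17918
import Groth.Agent.RefNumLib.Cube
import Groth.Agent.RefNumLib.Main
import Groth.Agent.ChowLib.Embed

set_option autoImplicit false
set_option linter.style.haveILetI false
universe u
open CategoryTheory CategoryTheory.Limits AlgebraicGeometry
open RefCh

namespace Groth.Agent.S17918

/-- Let k be an algebraically closed field, X an integral normal scheme of dimension s + 3 admitting a
closed immersion into some P^N_k over k, L_1, …, L_s, A and B invertible O_X-modules with inverses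
M_1, …, M_s, A' and B' (so that A' ⊗ B' is an inverse of A ⊗ B), and ℒ a coherent reflexive
O_X-module of rank one (ℒ = O_X(D)). Suppose 2 χ(c_1(A) c_1(L_1) ⋯ c_1(L_s) · [ℒ^[m]]) / m^2 → a, 2
χ(c_1(B) c_1(L_1) ⋯ c_1(L_s) · [ℒ^[m]]) / m^2 → b and 2 χ(c_1(A ⊗ B) c_1(L_1) ⋯ c_1(L_s) · [ℒ^[m]])
/ m^2 → c as m → ∞, the Euler characteristics being the alternating sums FGA.intNum in (A', M_1, …,
M_s), (B', M_1, …, M_s) and (A' ⊗ B', M_1, …, M_s) of the reflexive powers ℒ^[m]. Then c = a + b: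
the self-intersection number D^2 · L_0 · L_1 ⋯ L_s is additive in the invertible module L_0. -/
theorem result (k : Type u) [Field k] [IsAlgClosed k] (X : Scheme.{u}) [X.Over (Spec (CommRingCat.of k))]
    [AlgebraicGeometry.IsIntegral X] (hnorm : Pi1.IsNormalScheme X) (s : ℕ) (hdim : topologicalKrullDim X = (s + 3 : ℕ))
    (hproj : ∃ (N : ℕ) (ι : X ⟶ CohB1.ProjSpace N k), IsClosedImmersion ι ∧ ι ≫ CohB1.ProjSpace.toSpec N k = X ↘ Spec (CommRingCat.of k))
    (L M : Fin s → X.Modules) (hL : ∀ i, PicF.IsInvertible (L i))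
    (hLM : ∀ i, Nonempty (CohB1.tensorMod (L i) (M i) ≅ Coh.structureModule X))
    (A A' B B' : X.Modules) (hA : PicF.IsInvertible A) (hB : PicF.IsInvertible B)
    (hAA' : Nonempty (CohB1.tensorMod A A' ≅ Coh.structureModule X))
    (hBB' : Nonempty (CohB1.tensorMod B B' ≅ Coh.structureModule X))
    (ℒ : X.Modules) (hℒ : RefHull.IsRef1 ℒ) (a b c : ℝ)
    (ha : Filter.Tendsto (fun m : ℕ => (2 : ℝ) * (FGA.intNum k X (s + 3) (Fin.cons A' M) (RefPow.refPow ℒ m) : ℝ) / ((m : ℝ) ^ 2)) Filter.atTop (nhds a))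
    (hb : Filter.Tendsto (fun m : ℕ => (2 : ℝ) * (FGA.intNum k X (s + 3) (Fin.cons B' M) (RefPow.refPow ℒ m) : ℝ) / ((m : ℝ) ^ 2)) Filter.atTop (nhds b))
    (hc : Filter.Tendsto (fun m : ℕ => (2 : ℝ) * (FGA.intNum k X (s + 3) (Fin.cons (CohB1.tensorMod A' B') M) (RefPow.refPow ℒ m) : ℝ) / ((m : ℝ) ^ 2)) Filter.atTop (nhds c)) :
    c = a + b := by
  obtain ⟨N, ι, hι, hιc⟩ := hproj
  haveI := hι
  haveI : IsProper (X ↘ Spec (CommRingCat.of k)) := by
    haveI : IsProper (CohB1.ProjSpace.toSpec N k) := RelProjLib.isProper_polyToSpec (N + 1) k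
    rw [← hιc]; infer_instance
  haveI : IsLocallyNoetherian X := (CurvLib.isNoetherian k (X := X)).1
  have hM : ∀ i, PicF.IsInvertible (M i) := fun i => IntMultLib.isInvertible_of_inverse (hL i) (hLM i).some
  have hA' : PicF.IsInvertible A' := IntMultLib.isInvertible_of_inverse hA hAA'.some
  have hB' : PicF.IsInvertible B' := IntMultLib.isInvertible_of_inverse hB hBB'.some
  have hinv : ∀ i, PicF.IsInvertible ((Fin.cons A' (Fin.cons B' M) : Fin (s + 2) → X.Modules) i) :=
    Fin.cases (by simpa using hA') (Fin.cases (by simpa using hB') fun i => by simpa using hM i)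
  obtain ⟨D, hD⟩ := Ref1Lib.exists_hasDiv hℒ
  let f : X.Modules → ℤ := FGA.intNum k X (s + 2 + 1) (Fin.cons A' (Fin.cons B' M) : Fin (s + 2) → X.Modules)
  let ψ := RefNumLib.num k (Fin.cons A' (Fin.cons B' M) : Fin (s + 2) → X.Modules) (s + 2 + 1)
  have hkey : ∀ m : ℕ, FGA.intNum k X (s + 3) (Fin.cons A' M) (RefPow.refPow ℒ m) +
      FGA.intNum k X (s + 3) (Fin.cons B' M) (RefPow.refPow ℒ m) -
      FGA.intNum k X (s + 3) (Fin.cons (CohB1.tensorMod A' B') M) (RefPow.refPow ℒ m) =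
      f (Coh.structureModule X) + (m : ℤ) * ψ D := by
    intro m
    have h := RefNumLib.intNum_eq_num k (r := s + 2) hnorm hdim _ hinv (RefPowLib.isRef1_refPow hℒ m)
      (RefNumLib.refPow_div hnorm hℒ hD m)
    have hψ : ψ (fun x => (m : ℤ) * D x) = (m : ℤ) * ψ D := by
      simp only [ψ, RefNumLib.num]
      rw [← smul_eq_mul (m : ℤ), smul_finsum]
      refine finsum_congr fun x => ?_
      rw [smul_eq_mul]
      split_ifs <;> ring
    rw [← hψ]
    refine Eq.trans ?_ h
    simp only [HilbPolyLib.intNum_cons hdim.le]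
    rw [HilbPolyLib.intNum_congr hdim.le M (HilbPolyLib.congrLeft (HilbPolyLib.swapIso A' B') (RefPow.refPow ℒ m) ≪≫
        HilbPolyLib.assocIso B' A' (RefPow.refPow ℒ m))]
    ring
  have hlim : Filter.Tendsto (fun m : ℕ => (2 : ℝ) * (f (Coh.structureModule X) : ℝ) / ((m : ℝ) ^ 2) +
      2 * (ψ D : ℝ) / (m : ℝ)) Filter.atTop (nhds 0) := by
    have h1 : Filter.Tendsto (fun m : ℕ => (2 : ℝ) * (f (Coh.structureModule X) : ℝ) / ((m : ℝ) ^ 2))
        Filter.atTop (nhds 0) :=
      Filter.Tendsto.div_atTop tendsto_const_nhds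
        ((Filter.tendsto_pow_atTop two_ne_zero).comp tendsto_natCast_atTop_atTop)
    have h2 : Filter.Tendsto (fun m : ℕ => 2 * (ψ D : ℝ) / (m : ℝ)) Filter.atTop (nhds 0) :=
      Filter.Tendsto.div_atTop tendsto_const_nhds tendsto_natCast_atTop_atTop
    simpa using h1.add h2
  have h0 : a + b - c = 0 := by
    refine tendsto_nhds_unique (((ha.add hb).sub hc).congr' ?_) hlim
    filter_upwards [Filter.eventually_gt_atTop 0] with m hm
    have hm' : (m : ℝ) ≠ 0 := by positivity
    have h := congrArg (fun z : ℤ => (z : ℝ)) (hkey m)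
    push_cast at h
    field_simp
    linear_combination h
  linarith

end Groth.Agent.S17918
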