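import Groth.Statements.S17919
import Groth.Agent.RefDetNumLib.Det
import Groth.Agent.RefNumLib.Cube
import Groth.Agent.ChowLib.Embed
import Groth.Agent.AmpleDevLib.Devissage
import Groth.Agent.FormalCohLib.ProjAmple

set_option autoImplicit false
set_option linter.style.haveILetI false

set_option autoImplicit false
universe u
open CategoryTheory CategoryTheory.Limits AlgebraicGeometry
open RefCh

namespace Groth.Agent.S17919

/-- Let k be an algebraically closed field of characteristic p > 0, X an integral normal scheme of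
dimension s + 3 admitting a closed immersion into some P^N_k over k, L_1, …, L_s, A and B invertible
O_X-modules with inverses M_1, …, M_s, A' and B', E a coherent reflexive O_X-module, and (G_m) its
reflexive Frobenius pull-backs F_X^[m] E (G_0 = E, G_{m+1} ≅ (F_X^* G_m)^**). Suppose χ(c_1(A)
c_1(L_1) ⋯ c_1(L_s) · [G_m]) / p^{2m} → a, χ(c_1(B) c_1(L_1) ⋯ c_1(L_s) · [G_m]) / p^{2m} → b and
χ(c_1(A ⊗ B) c_1(L_1) ⋯ c_1(L_s) · [G_m]) / p^{2m} → c as m → ∞ (alternating sums FGA.intNum in (A',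
M_1, …, M_s), (B', M_1, …, M_s) and (A' ⊗ B', M_1, …, M_s)). Then c = a + b: the number ∫_X ch_2(E)
L_0 L_1 ⋯ L_s, defined as such a limit, is additive in the invertible module L_0. -/
theorem result (k : Type u) [Field k] [IsAlgClosed k] (X : Scheme.{u}) [X.Over (Spec (CommRingCat.of k))]
    [AlgebraicGeometry.IsIntegral X] (hnorm : Pi1.IsNormalScheme X) (s : ℕ) (hdim : topologicalKrullDim X = (s + 3 : ℕ))
    (hproj : ∃ (N : ℕ) (ι : X ⟶ CohB1.ProjSpace N k), IsClosedImmersion ι ∧ ι ≫ CohB1.ProjSpace.toSpec N k = X ↘ Spec (CommRingCat.of k))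
    (p : ℕ) [Fact p.Prime] [CharP k p] [FrobSch.IsCharP X p]
    (L M : Fin s → X.Modules) (hL : ∀ i, PicF.IsInvertible (L i))
    (hLM : ∀ i, Nonempty (CohB1.tensorMod (L i) (M i) ≅ Coh.structureModule X))
    (A A' B B' : X.Modules) (hA : PicF.IsInvertible A) (hB : PicF.IsInvertible B)
    (hAA' : Nonempty (CohB1.tensorMod A A' ≅ Coh.structureModule X))
    (hBB' : Nonempty (CohB1.tensorMod B B' ≅ Coh.structureModule X))
    (E : X.Modules) (hE : Coh.IsCoh E) (hEr : RefHull.IsReflexive E)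
    (G : ℕ → X.Modules) (hG0 : G 0 = E)
    (hG : ∀ m, Nonempty (G (m + 1) ≅ RefHull.ddual ((Scheme.Modules.pullback (FrobSch.frob X p)).obj (G m)))) (a b c : ℝ)
    (ha : Filter.Tendsto (fun m : ℕ => (FGA.intNum k X (s + 3) (Fin.cons A' M) (G m) : ℝ) / ((p : ℝ) ^ (2 * m))) Filter.atTop (nhds a))
    (hb : Filter.Tendsto (fun m : ℕ => (FGA.intNum k X (s + 3) (Fin.cons B' M) (G m) : ℝ) / ((p : ℝ) ^ (2 * m))) Filter.atTop (nhds b))
    (hc : Filter.Tendsto (fun m : ℕ => (FGA.intNum k X (s + 3) (Fin.cons (CohB1.tensorMod A' B') M) (G m) : ℝ) / ((p : ℝ) ^ (2 * m))) Filter.atTop (nhds c)) :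
    c = a + b := by
  classical
  obtain ⟨N, ι, hι, hιc⟩ := hproj
  haveI := hι
  haveI : IsProper (X ↘ Spec (CommRingCat.of k)) := by
    haveI : IsProper (CohB1.ProjSpace.toSpec N k) := RelProjLib.isProper_polyToSpec (N + 1) k
    rw [← hιc]; infer_instance
  haveI : IsLocallyNoetherian X := (CurvLib.isNoetherian k (X := X)).1
  have hA0 := FormalCohLib.isAmple_twistProjSpace N k
  have hamp : ∃ L : X.Modules, CohB1.IsAmple L :=
    ⟨_, AmpleDevLib.isAmple_pb ι hA0.1 hA0⟩
  have hM : ∀ i, PicF.IsInvertible (M i) := fun i => IntMultLib.isInvertible_of_inverse (hL i) (hLM i).some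
  have hA' : PicF.IsInvertible A' := IntMultLib.isInvertible_of_inverse hA hAA'.some
  have hB' : PicF.IsInvertible B' := IntMultLib.isInvertible_of_inverse hB hBB'.some
  let MM : Fin (s + 2) → X.Modules := Fin.cons A' (Fin.cons B' M)
  have hinv : ∀ i, PicF.IsInvertible (MM i) :=
    Fin.cases (by simpa [MM] using hA') (Fin.cases (by simpa [MM] using hB') fun i => by simpa [MM] using hM i)
  let f : X.Modules → ℤ := FGA.intNum k X (s + 3) MM
  have hΦ : RefNumLib.AddBelow f (s + 2) :=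
    ⟨fun P Q e => HilbPolyLib.intNum_congr hdim.le MM e,
     fun S hS h₁ h₂ h₃ => CycIntLib.intNum_add hdim.le hinv hS h₁ h₂ h₃,
     fun P hP h => HilbPolyLib.intNum_eq_zero hdim.le MM hinv P hP h⟩
  let r := Module.finrank (X.presheaf.stalk (genericPoint X)) (E.presheaf.stalk (genericPoint X))
  obtain ⟨B₀⟩ := RefDetNumLib.nonempty_basis_of_finrank (r := r) hE rfl
  choose mlat hm0 hm using fun (x : X) (hx : Order.coheight x = 1) => DetModLib.exists_lattice hnorm hE B₀ hx
  let D : X → ℤ := fun x => if hx : Order.coheight x = 1 then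
    -Scheme.ord (X := X) (B₀.det (fun j => Ref1Lib.spec E x (mlat x hx j))) x else 0
  have hD : RefDetNumLib.HasDet E B₀ D := fun x hx => ⟨mlat x hx, hm0 x hx, hm x hx, dif_pos hx⟩
  have hG' : ∀ m, Coh.IsCoh (G m) ∧ RefDetNumLib.TF (G m) ∧
      ∃ Bm : Module.Basis (Fin r) (X.presheaf.stalk (genericPoint X)) ((G m).presheaf.stalk (genericPoint X)),
        RefDetNumLib.HasDet (G m) Bm (fun x => ((p ^ m : ℕ) : ℤ) * D x) := by
    intro m
    induction m with
    | zero =>
      subst hG0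
      exact ⟨hE, RefDetNumLib.tf_of_isReflexive hE hEr, B₀,
        (congrArg (RefDetNumLib.HasDet (G 0) B₀) (funext fun x => by simp)).mp hD⟩
    | succ m ih =>
      obtain ⟨hc, -, Bm, hBm⟩ := ih
      obtain ⟨B', hB'⟩ := RefDetNumLib.hasDet_frob p hnorm hc Bm hBm
      have e := (hG m).some
      have hP : Coh.IsCoh ((Scheme.Modules.pullback (FrobSch.frob X p)).obj (G m)) :=
        ConsLib.isCoh_pullback _ hc
      have hH := RefHullLib.isCoh_dual (RefHullLib.isCoh_dual hP)
      have hHt := RefDetNumLib.tf_of_isReflexive hH (Ref1Lib.isReflexive_dual' (RefHullLib.isCoh_dual hP))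
      obtain ⟨B'', hB''⟩ := RefDetNumLib.hasDet_of_iso e.symm B' hB'
      exact ⟨QCohLib.isCoh_of_iso e.symm hH, RefDetNumLib.tf_of_iso e.symm hHt, B'',
        (congrArg (RefDetNumLib.HasDet (G (m + 1)) B'') (funext fun x => by push_cast; ring)).mp hB''⟩
  obtain ⟨-, hfin⟩ := RefDetNumLib.eq_gnum_det k hnorm hamp hdim hΦ hE (RefDetNumLib.tf_of_isReflexive hE hEr) B₀ hD
  let ψ : ℤ := RefNumLib.gnum f (s + 2) D
  have hval : ∀ m : ℕ, f (G m) = (r : ℤ) * f (Coh.structureModule X) + ((p ^ m : ℕ) : ℤ) * ψ := fun m => by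
    obtain ⟨hc, ht, Bm, hBm⟩ := hG' m
    rw [(RefDetNumLib.eq_gnum_det k hnorm hamp hdim hΦ hc ht Bm hBm).1, nsmul_eq_mul,
      RefDetNumLib.gnum_mul]
  have hkey : ∀ m : ℕ, FGA.intNum k X (s + 3) (Fin.cons A' M) (G m) +
      FGA.intNum k X (s + 3) (Fin.cons B' M) (G m) -
      FGA.intNum k X (s + 3) (Fin.cons (CohB1.tensorMod A' B') M) (G m) =
      (r : ℤ) * f (Coh.structureModule X) + ((p ^ m : ℕ) : ℤ) * ψ := by
    intro m
    rw [← hval m]
    simp only [f, MM, HilbPolyLib.intNum_cons hdim.le]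
    rw [HilbPolyLib.intNum_congr hdim.le M (HilbPolyLib.congrLeft (HilbPolyLib.swapIso A' B') (G m) ≪≫
        HilbPolyLib.assocIso B' A' (G m))]
    ring
  have hp : Filter.Tendsto (fun m : ℕ => ((p : ℝ) ^ m)) Filter.atTop Filter.atTop :=
    tendsto_pow_atTop_atTop_of_one_lt (by exact_mod_cast (Fact.out : p.Prime).one_lt)
  have hlim : Filter.Tendsto (fun m : ℕ => ((r : ℝ) * (f (Coh.structureModule X) : ℝ)) / ((p : ℝ) ^ m) ^ 2 +
      (ψ : ℝ) / ((p : ℝ) ^ m)) Filter.atTop (nhds 0) := by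
    simpa using ((Filter.Tendsto.div_atTop (tendsto_const_nhds (x := (r : ℝ) * (f (Coh.structureModule X) : ℝ)))
      ((Filter.tendsto_pow_atTop two_ne_zero).comp hp)).add
      (Filter.Tendsto.div_atTop (tendsto_const_nhds (x := (ψ : ℝ))) hp))
  have h0 : a + b - c = 0 := by
    refine tendsto_nhds_unique (((ha.add hb).sub hc).congr' (Filter.Eventually.of_forall fun m => ?_)) hlim
    have hp0 : (p : ℝ) ^ m ≠ 0 := pow_ne_zero _ (by exact_mod_cast (Fact.out : p.Prime).ne_zero)
    have h := congrArg (fun z : ℤ => (z : ℝ)) (hkey m)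
    push_cast at h
    rw [show (p : ℝ) ^ (2 * m) = ((p : ℝ) ^ m) ^ 2 by rw [← pow_mul, mul_comm]]
    field_simp
    linear_combination h
  linarith

end Groth.Agent.S17919
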