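import Groth.Statements.S17925
import Groth.Agent.RefDetNumLib.Det
import Groth.Agent.RefNumLib.Cube
import Groth.Agent.ChowLib.Embed
import Groth.Agent.AmpleDevLib.Devissage
import Groth.Agent.FormalCohLib.ProjAmple

set_option autoImplicit false
set_option linter.style.haveILetI false

set_option autoImplicit false
universe u
open CategoryTheory CategoryTheory.Limits AlgebraicGeometry
open RefCh

namespace Groth.Agent.S17925

/-- Let k be an algebraically closed field, X an integral normal scheme of dimension n = s + 2 admitting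
a closed immersion into some P^N_k over k, δ a dimension function on X (Cyc.IsSetup) with δ(generic
point) = n, and F a torsion-free coherent O_X-module whose stalk at the generic point has dimension
r, with W = Λ^r F and W^** coherent (as it is), so that det F = W^** = O_X(c_1(F)) and [O_{-c_1(F)}]
= [O_X] - [W^**]. With K_m(X) ⊆ K_0(Coh(X)) the subgroup generated by coherent modules with support
of dimension at most m, the class α(F) = [F] - r [O_X] + ([O_X] - [W^**]) lies in K_{n-2}(X): it
vanishes in K_0(Coh(X)) / K_{n-2}(X) (Cyc.toK0CohQuot δ n (n - 2)). -/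
theorem result (k : Type u) [Field k] [IsAlgClosed k] (X : Scheme.{u}) [X.Over (Spec (CommRingCat.of k))]
    [AlgebraicGeometry.IsIntegral X] (hnorm : Pi1.IsNormalScheme X) (s : ℕ) (hdim : topologicalKrullDim X = (s + 2 : ℕ))
    (hproj : ∃ (N : ℕ) (ι : X ⟶ CohB1.ProjSpace N k), IsClosedImmersion ι ∧ ι ≫ CohB1.ProjSpace.toSpec N k = X ↘ Spec (CommRingCat.of k))
    (δ : X → ℤ) (hδ : Cyc.IsSetup X δ) (hδη : δ (genericPoint X) = (s + 2 : ℕ))
    (r : ℕ) (F : X.Modules) (hF : Coh.IsCoh F) (hFtf : TorSh.IsTorsionFree F)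
    (hrk : Module.finrank (X.presheaf.stalk (genericPoint X)) (F.presheaf.stalk (genericPoint X)) = r) (W : X.Modules) (hW : ExtPow.IsExtPow r F W)
    (hWc : Coh.IsCoh (RefHull.ddual W)) :
    Cyc.toK0CohQuot δ (s + 2 : ℕ) (s : ℕ) F - (r : ℤ) • Cyc.toK0CohQuot δ (s + 2 : ℕ) (s : ℕ) (Coh.structureModule X) +
      (Cyc.toK0CohQuot δ (s + 2 : ℕ) (s : ℕ) (Coh.structureModule X) -
        Cyc.toK0CohQuot δ (s + 2 : ℕ) (s : ℕ) (RefHull.ddual W)) = 0 := by
  classical
  obtain ⟨N, ι, hι, hιc⟩ := hproj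
  haveI := hι
  haveI : IsProper (X ↘ Spec (CommRingCat.of k)) := by
    haveI : IsProper (CohB1.ProjSpace.toSpec N k) := RelProjLib.isProper_polyToSpec (N + 1) k
    rw [← hιc]; infer_instance
  haveI : IsLocallyNoetherian X := (CurvLib.isNoetherian k (X := X)).1
  have hA0 := FormalCohLib.isAmple_twistProjSpace N k
  have hamp : ∃ L : X.Modules, CohB1.IsAmple L :=
    ⟨_, AmpleDevLib.isAmple_pb ι hA0.1 hA0⟩
  obtain ⟨hN, B, ν, hν, hdν, hord⟩ :=
    RefDetNumLib.exists_ddual_data hnorm hF (RefDetNumLib.nonempty_basis_of_finrank hF hrk) hW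
  let D : X → ℤ := fun x => Cyc.secOrdAt (RefHull.ddual W) (genericPoint X) x
    (RefHullLib.specializes_generic x) (Submodule.Quotient.mk ν)
  have hdet : RefDetNumLib.HasDet F B D := fun x hx => by
    obtain ⟨m, hm0, hm⟩ := DetModLib.exists_lattice hnorm hF B hx
    refine ⟨m, hm0, hm, ?_⟩
    have h := hord x hx m hm0 hm (1 : X.functionField) one_ne_zero
    rw [one_smul, show Scheme.ord (1 : X.functionField) x = 0 by
      simpa using Ref1Lib.units_spec hx (isUnit_one (M := X.presheaf.stalk x))] at h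
    show Cyc.secOrdAt _ _ _ _ _ = _
    rw [h, zero_sub]
  have hdiv : Ref1Lib.HasDiv (RefHull.ddual W) D := ⟨ν, hν, fun x _ => rfl⟩
  haveI := hF.1
  have htf : RefDetNumLib.TF F := fun x _ => by
    haveI := hFtf x
    exact RefDetNumLib.tf_of_torsionFree x
  have hΦ := RefNumLib.addBelow_toK0CohQuot k hδ hdim hδη s
  obtain ⟨h1, -⟩ := RefDetNumLib.eq_gnum_det k hnorm hamp hdim hΦ hF htf B hdet
  have h2 := RefNumLib.add_eq_gnum k hnorm hdim hΦ hN hdiv
  rw [h1, h2, natCast_zsmul]
  abel

end Groth.Agent.S17925
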