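import Groth.Statements.S17945
import Groth.Agent.MultCrvLib.Ext
import Groth.Agent.MultCrvLib.QF

set_option autoImplicit false
universe u
open MultCrv

namespace Groth.Agent.S17945

/-- Let R be a discrete valuation ring, n ≥ 1, A = R[X]/(X^n) with z the class of X, and φ : M → N an
A-linear map of finitely generated A-modules. Then φ is surjective if and only if the induced map
M/zM → N/zN is surjective, i.e. every element of N differs from an element of the image of φ by an
element of zN. The induced maps z^i M/z^(i+1) M → z^i N/z^(i+1) N, 1 ≤ i < n, are then surjective as
well; that immediate consequence, which the published statement includes, is not part of this row.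
(Statement at a closed point of the sheaf statement on a primitive multiple curve of multiplicity n
with local rings R[X]/(X^n), where M/zM is the stalk of the restriction to the reduced curve; stated
for every discrete valuation ring R.) -/
theorem result (R : Type u) [CommRing R] [IsDomain R] [IsDiscreteValuationRing R] (n : ℕ) (hn : 1 ≤ n) (M N : Type u) [AddCommGroup M] [Module (MultCrv.Rn R n) M] [Module.Finite (MultCrv.Rn R n) M] [AddCommGroup N] [Module (MultCrv.Rn R n) N] [Module.Finite (MultCrv.Rn R n) N] (φ : M →ₗ[MultCrv.Rn R n] N) : Function.Surjective φ ↔ ∀ v : N, ∃ u : M, v - φ u ∈ MultCrv.filt R n N 1 := by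
  letI : Module R M := Module.compHom M (algebraMap R (MultCrv.Rn R n))
  haveI : IsScalarTower R (MultCrv.Rn R n) M := ⟨fun r a x => by rw [Algebra.smul_def (A := MultCrv.Rn R n), mul_smul]; rfl⟩
  letI : Module R N := Module.compHom N (algebraMap R (MultCrv.Rn R n))
  haveI : IsScalarTower R (MultCrv.Rn R n) N := ⟨fun r a x => by rw [Algebra.smul_def (A := MultCrv.Rn R n), mul_smul]; rfl⟩
  exact MultCrvLib.surjective_iff (R := R) φ

end Groth.Agent.S17945
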