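import Groth.Statements.S19882
import Groth.Agent.HensVanLib.Acyclic
import Groth.Agent.S17614

set_option autoImplicit false
set_option linter.style.haveILetI false
set_option backward.isDefEq.respectTransparency false
set_option backward.isDefEq.respectTransparency.types false

set_option autoImplicit false
open CategoryTheory CategoryTheory.Limits AlgebraicGeometry Opposite
universe u
open EtZar

namespace Groth.Agent.S19882

/-- Let (A, I) be a Henselian pair with A of prime characteristic p, let F be a quasi-coherent module on
X = Spec A with associated abelian sheaf G on the small étale site of X, and let i : Y = Spec(A/I) →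
X be the closed immersion. Then the Zariski cohomology groups H^j(Y, (i⁻¹G)|_{Y_Zar}) of the
restriction to the opens of Y of the étale inverse image of G vanish for all j ≥ 1. (The source
states the vanishing of H^j(Z, F^h) for the Henselian scheme Z = Sph(A, I), whose underlying space
is that of Y, and identifies F^h with (i⁻¹G)|_{Y_Zar}; this row states the vanishing for the latter
sheaf. Continuity of the opens-to-étale-schemes functor is carried as an instance binder.) -/
theorem result (A : Type u) [CommRing A]
    (I : Ideal A) [HenselianRing A I] (p : ℕ) [Fact p.Prime] [CharP A p]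
    (F : (Spec (CommRingCat.of A)).Modules) [F.IsQuasicoherent] (G : EtCoh.Ab (Spec (CommRingCat.of A)))
    (hG : EtAssoc.IsAssoc F G) [EtZar.ZarCont (Spec (CommRingCat.of (A ⧸ I)))]
    (j : ℕ) (hj : 1 ≤ j) :
    Subsingleton (EtZar.H ((EtZar.resZar (Spec (CommRingCat.of (A ⧸ I)))).obj
      ((EtCoh.pull (Spec.map (CommRingCat.ofHom (Ideal.Quotient.mk I)))).obj G)) j) := by
  obtain ⟨k, rfl⟩ : ∃ k, j = k + 1 := ⟨j - 1, by omega⟩
  refine Groth.Agent.S17614.result (Spec (CommRingCat.of (A ⧸ I))) _ (fun T hT i hi => ?_) (k + 1) hj
  obtain ⟨q, rfl⟩ : ∃ q, i = q + 1 := ⟨i - 1, by omega⟩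
  haveI := hT
  exact HensVanLib.subsingleton_H_affine I p (Fact.out : p.Prime).pos (CharP.cast_eq_zero A p) F G hG T q

end Groth.Agent.S19882
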