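import Groth.Statements.S17949
import Groth.Agent.HensSchLib.Chart

set_option autoImplicit false
universe u
open CategoryTheory AlgebraicGeometry Opposite
open HensSch

namespace Groth.Agent.S17949

/-- Let `X` be a Henselian scheme and let `U = Sph(A, I)`, `V = Sph(B, J)` be affine Henselian opens of
`X` (open immersions `iU`, `iV` of the affine Henselian spectra of Henselian pairs). Then every
point of `U ∩ V` lies in an open subset of `X` which is at the same time the image of a
distinguished open `D(f) ∩ V(I)` of `U` and the image of a distinguished open `D(g) ∩ V(J)` of `V`. -/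
theorem result (X : LocallyRingedSpace.{u}) (hX : HensSch.IsHensScheme X)
    (U V : LocallyRingedSpace.{u}) (iU : U ⟶ X) [LocallyRingedSpace.IsOpenImmersion iU]
    (iV : V ⟶ X) [LocallyRingedSpace.IsOpenImmersion iV]
    (A : Type u) [CommRing A] (I : Ideal A) [HenselianRing A I] (πU : U ⟶ HensSch.specLRS A)
    (hU : HensSch.IsSph A I U πU)
    (B : Type u) [CommRing B] (J : Ideal B) [HenselianRing B J] (πV : V ⟶ HensSch.specLRS B)
    (hV : HensSch.IsSph B J V πV)
    (x : X) (hxU : x ∈ Set.range iU.base) (hxV : x ∈ Set.range iV.base) :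
    ∃ (f : A) (g : B), x ∈ iU.base '' (HensSch.dOpen πU f : Set U) ∧
      iU.base '' (HensSch.dOpen πU f : Set U) = iV.base '' (HensSch.dOpen πV g : Set V) := by
  haveI hU' : PresheafedSpace.IsOpenImmersion iU.toShHom.hom := ‹LocallyRingedSpace.IsOpenImmersion iU›
  haveI hV' : PresheafedSpace.IsOpenImmersion iV.toShHom.hom := ‹LocallyRingedSpace.IsOpenImmersion iV›
  have heU : Topology.IsOpenEmbedding iU.base := hU'.base_open
  have heV : Topology.IsOpenEmbedding iV.base := hV'.base_open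
  obtain ⟨y, rfl⟩ := hxU
  obtain ⟨f, hyf, hfO⟩ := HensSchLib.exists_dOpen_le hU
    ((TopologicalSpace.Opens.map iU.base).obj ⟨Set.range iV.base, heV.isOpen_range⟩) y hxV
  let W : TopologicalSpace.Opens X := ⟨iU.base '' (HensSch.dOpen πU f : Set U), heU.isOpenMap _ (HensSch.dOpen πU f).isOpen⟩
  have hWU : (TopologicalSpace.Opens.map iU.base).obj W = HensSch.dOpen πU f := TopologicalSpace.Opens.ext (heU.injective.preimage_image _)
  have hWV : (W : Set X) ⊆ Set.range iV.base := by
    rintro _ ⟨z, hz, rfl⟩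
    exact hfO hz
  obtain ⟨y', hy'⟩ := hxV
  let W' := (TopologicalSpace.Opens.map iV.base).obj W
  obtain ⟨g, hyg, hgW⟩ := HensSchLib.exists_dOpen_le hV W' y'
    (show iV.base y' ∈ W from hy'.symm ▸ ⟨y, hyf, rfl⟩)
  obtain ⟨t, ht⟩ := (HensSchLib.bijective_secLE_of_isOpenImmersion iV W hWV W' rfl).2
    (HensSchLib.secLE πV ⊤ W' le_top (HensSchLib.toSec B ⊤ g))
  let s := HensSchLib.secLE iU W (HensSch.dOpen πU f) hWU.ge t
  obtain ⟨a, n, han⟩ := HensSchLib.exists_approx (hU.2.2 f) s
  have key : ∀ (z : U) (z' : V), z ∈ HensSch.dOpen πU f → iU.base z = iV.base z' →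
      (z ∈ HensSch.dOpen πU (f * a) ↔ z' ∈ HensSch.dOpen πV g) := by
    intro z z' hz hzz
    have hz' : z' ∈ W' := show iV.base z' ∈ W from hzz ▸ ⟨z, hz, rfl⟩
    have h1 : IsUnit ((U.presheaf.germ _ z hz).hom s) ↔
        g ∉ (πV.base z' : PrimeSpectrum B).asIdeal := by
      have h2 := HensSchLib.isUnit_germ_secLE_iff iV W W' le_rfl z' hz' t
      rw [ht, HensSchLib.isUnit_germ_secLE_iff] at h2
      rw [HensSchLib.isUnit_germ_secLE_iff]
      refine (HensSchLib.germ_unit_congr t (show iU.base z ∈ W from ⟨z, hz, rfl⟩) (show iV.base z' ∈ W from hz') hzz).trans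
        (h2.symm.trans ?_)
      exact HensSchLib.isUnit_germ_toSec_iff B ⊤ (πV.base z') trivial g
    have hw := HensSchLib.mem_vanish.mp
      (HensSchLib.map_le_vanish hU.2.1.le (PrimeSpectrum.basicOpen f) han) z hz
    have h3 : IsUnit ((U.presheaf.germ _ z hz).hom s) ↔ a ∉ (πU.base z : PrimeSpectrum A).asIdeal := by
      rw [← HensSchLib.isUnit_germ_secMap_iff πU _ z hz a]
      have hf : IsUnit ((U.presheaf.germ _ z hz).hom (HensSch.secMap πU (PrimeSpectrum.basicOpen f) f ^ n)) :=
        ((hU.2.2 f).1.pow n).map _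
      rw [map_sub, map_mul] at hw
      have hwm := (IsLocalRing.mem_maximalIdeal _).mpr hw
      constructor
      · intro h
        by_contra hn
        have := Ideal.add_mem _ hwm ((IsLocalRing.mem_maximalIdeal _).mpr hn)
        rw [sub_add_cancel] at this
        exact (IsLocalRing.mem_maximalIdeal _).mp this (h.mul hf)
      · intro h
        by_contra hn
        have := Ideal.sub_mem _ (Ideal.mul_mem_right ((U.presheaf.germ _ z hz).hom
          (HensSch.secMap πU (PrimeSpectrum.basicOpen f) f ^ n)) _ ((IsLocalRing.mem_maximalIdeal _).mpr hn)) hwm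
        rw [sub_sub_cancel] at this
        exact (IsLocalRing.mem_maximalIdeal _).mp this h
    have hf : f ∉ (πU.base z : PrimeSpectrum A).asIdeal := hz
    show f * a ∉ (πU.base z : PrimeSpectrum A).asIdeal ↔ g ∉ (πV.base z' : PrimeSpectrum B).asIdeal
    rw [← h1, h3]
    exact ⟨fun h ha ↦ h (Ideal.mul_mem_left _ f ha),
      fun ha h ↦ ((πU.base z : PrimeSpectrum A).isPrime.mem_or_mem h).elim hf ha⟩
  have hsub : ∀ z, z ∈ HensSch.dOpen πU (f * a) → z ∈ HensSch.dOpen πU f := fun z hz h ↦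
    hz (Ideal.mul_mem_right a _ h)
  refine ⟨f * a, g, ⟨y, (key y y' hyf hy'.symm).mpr hyg, rfl⟩, Set.ext fun p ↦ ⟨?_, ?_⟩⟩
  · rintro ⟨z, hz, rfl⟩
    obtain ⟨z', hz'⟩ := hfO (hsub z hz)
    exact ⟨z', (key z z' (hsub z hz) hz'.symm).mp hz, hz'⟩
  · rintro ⟨z', hz', rfl⟩
    obtain ⟨z, hz, hzz⟩ := hgW hz'
    exact ⟨z, (key z z' hz hzz).mpr hz', hzz⟩

end Groth.Agent.S17949
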