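import Groth.Statements.S17958
import Groth.Agent.HensNonVanLib.Main

set_option autoImplicit false
set_option linter.style.haveILetI false

set_option autoImplicit false
open CategoryTheory AlgebraicGeometry Opposite
open HensSch

namespace Groth.Agent.S17958

/-- Let `R` be a Henselization of the pair `(ℂ[x, y], (x y (x + y − 1)))` (with `x, y` the two variables
of `MvPolynomial (Fin 2) ℂ`), let `K` be an algebraic closure of the fraction field `ℂ(x, y)` into
which `R` is embedded over `ℂ[x, y]`, let `A` be the integral closure of `R` in `K` and `I = x y (x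
+ y − 1) A`. Then `(A, I)` is a Henselian pair and, for `(X, π)` the affine Henselian spectrum of
`(A, I)`, the first sheaf cohomology group `H¹(X, O_X)` is nonzero (so the vanishing of higher
cohomology of quasi-coherent modules on affine Henselian spectra fails in characteristic zero). -/
theorem result
    (R : Type) [CommRing R] [Algebra (MvPolynomial (Fin 2) ℂ) R]
    (hR : Hens2.IsPairHenselization (MvPolynomial (Fin 2) ℂ)
      (Ideal.span {MvPolynomial.X 0 * MvPolynomial.X 1 * (MvPolynomial.X 0 + MvPolynomial.X 1 - 1)}) R)
    (K : Type) [Field K] [Algebra (MvPolynomial (Fin 2) ℂ) K]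
    [NoZeroSMulDivisors (MvPolynomial (Fin 2) ℂ) K] [IsAlgClosure (MvPolynomial (Fin 2) ℂ) K]
    [Algebra R K] [IsScalarTower (MvPolynomial (Fin 2) ℂ) R K]
    (hinj : Function.Injective (algebraMap R K))
    (X : LocallyRingedSpace.{0}) (π : X ⟶ HensSch.specLRS (integralClosure R K))
    (hX : HensSch.IsSph (integralClosure R K)
      (Ideal.map (algebraMap R (integralClosure R K))
        (Ideal.map (algebraMap (MvPolynomial (Fin 2) ℂ) R)
          (Ideal.span {MvPolynomial.X 0 * MvPolynomial.X 1 * (MvPolynomial.X 0 + MvPolynomial.X 1 - 1)})))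
      X π) :
    HenselianRing (integralClosure R K)
      (Ideal.map (algebraMap R (integralClosure R K))
        (Ideal.map (algebraMap (MvPolynomial (Fin 2) ℂ) R)
          (Ideal.span {MvPolynomial.X 0 * MvPolynomial.X 1 * (MvPolynomial.X 0 + MvPolynomial.X 1 - 1)}))) ∧
    Nontrivial (ModSite.HC X.sheaf (ModSite.unit X.sheaf) 1) := by
  exact HensNonVanLib.main R hR K hinj X π hX

end Groth.Agent.S17958
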