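import Groth.Statements.S17960
import Groth.Agent.ProperClopenLib.HenselianApps
-- import your own Groth.Agent.* helpers here

set_option autoImplicit false
open CategoryTheory CategoryTheory.Limits AlgebraicGeometry
universe u
open Hensel

namespace Groth.Agent.S17960

/-- Suppose A is a Noetherian ring with an ideal I, and f : X ⟶ Spec A is a proper morphism; write i :
X₀ = X ×_{Spec A} Spec (A/I) ⟶ X for the first projection. Put B = Γ(X, O_X), and take J to be the
kernel of the restriction B → Γ(X₀, O_{X₀}). Assuming (B, J) is a henselian pair, the couple (X, X₀)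
is henselian: given any finite morphism g : Y ⟶ X, each open-closed subset of Y ×_X X₀ arises as the
inverse image, along the first projection, of a unique open-closed subset of Y. -/
theorem result
    (A : Type u) [CommRing A] [IsNoetherianRing A] (I : Ideal A) {X : Scheme.{u}}
    (f : X ⟶ Spec (CommRingCat.of A)) [IsProper f]
    (h : HenselianRing (Γ(X, ⊤) : Type u)
      (RingHom.ker (pullback.fst f (Spec.map (CommRingCat.ofHom (Ideal.Quotient.mk I)))).appTop.hom)) :
    ∀ (Y : Scheme.{u}) (g : Y ⟶ X), IsFinite g →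
      ∀ V : Set ↥(pullback g (pullback.fst f (Spec.map (CommRingCat.ofHom (Ideal.Quotient.mk I))))), IsClopen V →
        ∃! U : Set ↥Y, IsClopen U ∧ (pullback.fst g (pullback.fst f (Spec.map (CommRingCat.ofHom (Ideal.Quotient.mk I))))).base ⁻¹' U = V := by
  intro Y g hg V hV
  let i := pullback.fst f (Spec.map (CommRingCat.ofHom (Ideal.Quotient.mk I)))
  let σ : A →+* Γ(X, ⊤) := Coh.toGlobal f
  have hIJ : I.map σ ≤ RingHom.ker i.appTop.hom := Ideal.map_le_iff_le_comap.mpr fun a ha ↦ by
    show i.appTop (f.appTop ((Scheme.ΓSpecIso (CommRingCat.of A)).inv a)) = 0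
    rw [← CommRingCat.comp_apply, ← Scheme.Hom.comp_appTop, pullback.condition,
      Scheme.Hom.comp_appTop, CommRingCat.comp_apply]
    refine (congrArg _ ?_).trans (map_zero _)
    rw [← CommRingCat.comp_apply, ← Scheme.ΓSpecIso_inv_naturality, CommRingCat.comp_apply]
    refine (congrArg _ ?_).trans (map_zero _)
    exact Ideal.Quotient.eq_zero_iff_mem.mpr ha
  have hfac : X.toSpecΓ ≫ Spec.map (CommRingCat.ofHom σ) = f :=
    ProperClopenLib.toSpecΓ_comp_SpecMap_toGlobal f
  have : IsProper (X.toSpecΓ ≫ Spec.map (CommRingCat.ofHom σ)) := hfac.symm ▸ ‹IsProper f›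
  have : IsProper X.toSpecΓ := IsProper.of_comp X.toSpecΓ (Spec.map (CommRingCat.ofHom σ))
  refine ProperClopenLib.existsUnique_clopen_along_finite I f (RingHom.ker i.appTop.hom)
    (RingHom.id Γ(X, ⊤)) σ (RingHom.id_comp _) hIJ (fun j hj x hx ↦ ?_) (fun O hO ↦ ?_) g V hV
  · have hr : Set.range i = f ⁻¹' PrimeSpectrum.zeroLocus (I : Set A) := by
      rw [Scheme.Pullback.range_fst]
      exact congrArg (f ⁻¹' ·) ((range_comap_of_surjective _ _ Ideal.Quotient.mk_surjective).trans
        (congrArg (fun J : Ideal A ↦ PrimeSpectrum.zeroLocus (J : Set A)) Ideal.mk_ker))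
    obtain ⟨z, rfl⟩ := hr.ge hx
    intro hz
    have hz' := (Scheme.preimage_basicOpen_top i j).le hz
    rw [show i.appTop j = 0 from hj, Scheme.basicOpen_zero] at hz'
    exact hz'
  · refine ProperClopenLib.eq_top_of_closed_fibre (A := Γ(X, ⊤)) X.toSpecΓ _ h.jac O
      fun x hx ↦ hO x ?_
    rw [← hfac]
    intro a ha
    exact hx (hIJ (Ideal.mem_map_of_mem σ ha))

end Groth.Agent.S17960
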