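import Groth.Statements.S17961
import Groth.Agent.ProperClopenLib.HenselianApps
-- import your own Groth.Agent.* helpers here

set_option autoImplicit false
open CategoryTheory CategoryTheory.Limits AlgebraicGeometry
universe u
open Hensel

namespace Groth.Agent.S17961

/-- Let (A, I) be a henselian pair with A Noetherian, f : X ⟶ Spec A a proper morphism and i : X₀ = X
×_{Spec A} Spec (A/I) ⟶ X the first projection. Then (X, X₀) is a henselian couple: for every finite
morphism g : Y ⟶ X, every open-closed subset of Y ×_X X₀ is the inverse image under the first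
projection of exactly one open-closed subset of Y. -/
theorem result
    (A : Type u) [CommRing A] [IsNoetherianRing A] (I : Ideal A) [HenselianRing A I] {X : Scheme.{u}}
    (f : X ⟶ Spec (CommRingCat.of A)) [IsProper f] :
    ∀ (Y : Scheme.{u}) (g : Y ⟶ X), IsFinite g →
      ∀ V : Set ↥(pullback g (pullback.fst f (Spec.map (CommRingCat.ofHom (Ideal.Quotient.mk I))))), IsClopen V →
        ∃! U : Set ↥Y, IsClopen U ∧ (pullback.fst g (pullback.fst f (Spec.map (CommRingCat.ofHom (Ideal.Quotient.mk I))))).base ⁻¹' U = V := by
  intro Y g hg V hV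
  exact ProperClopenLib.existsUnique_clopen_along_finite I f (R := A) I
    (Coh.toGlobal f : A →+* Γ(X, ⊤)) (RingHom.id A) (RingHom.comp_id _) (Ideal.map_id I).le
    (fun j hj x hx ↦ ProperClopenLib.notMem_basicOpen_toGlobal f I j hj x hx)
    (fun O hO ↦ ProperClopenLib.eq_top_of_closed_fibre f I HenselianRing.jac O hO) g V hV

end Groth.Agent.S17961
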