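import Groth.Statements.S17965
import Groth.Agent.ProperClopenLib.CoupleToPair
-- import your own Groth.Agent.* helpers here

set_option autoImplicit false
open CategoryTheory CategoryTheory.Limits AlgebraicGeometry
universe u
open Hensel

namespace Groth.Agent.S17965

/-- Let A be a Noetherian ring, I an ideal of A, f : X ⟶ Spec A a proper morphism, i : X₀ = X ×_{Spec A}
Spec (A/I) ⟶ X the first projection, and assume that (X, X₀) is a henselian couple (for every finite
morphism g : Y ⟶ X, every open-closed subset of Y ×_X X₀ is the inverse image under the first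
projection of exactly one open-closed subset of Y). Then (X, X₀) is proper over a henselian pair:
there exist a Noetherian ring A' with an ideal I' such that (A', I') is a henselian pair, a proper
morphism f' : X ⟶ Spec A' and a morphism t : X₀ ⟶ Spec (A'/I') such that the square formed by i, t,
f' and Spec (A'/I') ⟶ Spec A' is cartesian. (The published statement asserts only that X is proper
over some henselian pair; this row also asks the ring of that pair to be Noetherian, which holds for
the henselization of (A, I) that the proof uses.) -/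
theorem result
    (A : Type u) [CommRing A] [IsNoetherianRing A] (I : Ideal A) {X : Scheme.{u}}
    (f : X ⟶ Spec (CommRingCat.of A)) [IsProper f]
    (hX : ∀ (Y : Scheme.{u}) (g : Y ⟶ X), IsFinite g →
      ∀ V : Set ↥(pullback g (pullback.fst f (Spec.map (CommRingCat.ofHom (Ideal.Quotient.mk I))))), IsClopen V →
        ∃! U : Set ↥Y, IsClopen U ∧ (pullback.fst g (pullback.fst f (Spec.map (CommRingCat.ofHom (Ideal.Quotient.mk I))))).base ⁻¹' U = V) :
    ∃ (A' : Type u) (_ : CommRing A') (I' : Ideal A') (_ : HenselianRing A' I') (_ : IsNoetherianRing A')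
      (f' : X ⟶ Spec (CommRingCat.of A')) (_ : IsProper f')
      (t : pullback f (Spec.map (CommRingCat.ofHom (Ideal.Quotient.mk I))) ⟶ Spec (CommRingCat.of (A' ⧸ I'))),
      IsPullback (pullback.fst f (Spec.map (CommRingCat.ofHom (Ideal.Quotient.mk I)))) t f' (Spec.map (CommRingCat.ofHom (Ideal.Quotient.mk I'))) := by
  let φ : A →+* Γ(X, ⊤) := Coh.toGlobal f
  have hφ : X.toSpecΓ ≫ Spec.map (CommRingCat.ofHom φ) = f := ProperClopenLib.toSpecΓ_comp_SpecMap_toGlobal f
  haveI : IsProper (X.toSpecΓ ≫ Spec.map (CommRingCat.ofHom φ)) := by rw [hφ]; infer_instance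
  haveI hf' : IsProper X.toSpecΓ := IsProper.of_comp X.toSpecΓ (Spec.map (CommRingCat.ofHom φ))
  haveI hnoeth : IsNoetherianRing Γ(X, ⊤) := by
    letI : X.Over (Spec (CommRingCat.of A)) := ⟨f⟩
    haveI : IsProper (X ↘ Spec (CommRingCat.of A)) := ‹IsProper f›
    letI := φ.toAlgebra
    haveI : Module.Finite A Γ(X, ⊤) := ProperClopenLib.finite_toGlobal
    exact IsNoetherianRing.of_finite A Γ(X, ⊤)
  let J : Ideal Γ(X, ⊤) := I.map φ
  let q := Spec.map (CommRingCat.ofHom (Ideal.Quotient.mk I))
  let q' := Spec.map (CommRingCat.ofHom (Ideal.Quotient.mk J))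
  let σ : Spec (CommRingCat.of (Γ(X, ⊤) ⧸ J)) ⟶ Spec (CommRingCat.of (A ⧸ I)) :=
    Spec.map (CommRingCat.ofHom (Ideal.quotientMap J φ Ideal.le_comap_map))
  have hσ : q' ≫ Spec.map (CommRingCat.ofHom φ) = σ ≫ q := by
    show Spec.map _ ≫ Spec.map _ = Spec.map _ ≫ Spec.map _
    rw [← Spec.map_comp, ← Spec.map_comp]
    rfl
  let X₀ := pullback f q
  let ψ : Γ(X, ⊤) →+* Γ(X₀, ⊤) := (pullback.fst f q).appTop.hom
  have hψ : ∀ z ∈ J, ψ z = 0 := by
    have : J ≤ RingHom.ker ψ := Ideal.map_le_iff_le_comap.mpr fun a ha ↦ by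
      show (pullback.fst f q).appTop (f.appTop ((Scheme.ΓSpecIso (CommRingCat.of A)).inv a)) = 0
      refine (congrArg (fun m : X₀ ⟶ Spec (CommRingCat.of A) ↦
        m.appTop ((Scheme.ΓSpecIso (CommRingCat.of A)).inv a)) pullback.condition).trans ?_
      show (pullback.snd f q).appTop (q.appTop ((Scheme.ΓSpecIso (CommRingCat.of A)).inv a)) = 0
      refine (congrArg (pullback.snd f q).appTop (congrArg
        (fun m : CommRingCat.of A ⟶ Γ(Spec (CommRingCat.of (A ⧸ I)), ⊤) ↦ m a)
        (Scheme.ΓSpecIso_inv_naturality (CommRingCat.ofHom (Ideal.Quotient.mk I))).symm)).trans ?_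
      show (pullback.snd f q).appTop ((Scheme.ΓSpecIso _).inv (Ideal.Quotient.mk I a)) = 0
      rw [Ideal.Quotient.eq_zero_iff_mem.mpr ha, map_zero, map_zero]
    exact fun z hz ↦ this hz
  let t : X₀ ⟶ Spec (CommRingCat.of (Γ(X, ⊤) ⧸ J)) :=
    X₀.toSpecΓ ≫ Spec.map (CommRingCat.ofHom (Ideal.Quotient.lift J ψ hψ))
  have ht : t ≫ q' = pullback.fst f q ≫ X.toSpecΓ := by
    show (X₀.toSpecΓ ≫ Spec.map _) ≫ Spec.map _ = _
    rw [Category.assoc, ← Spec.map_comp, Scheme.toSpecΓ_naturality]
    rfl
  haveI : IsClosedImmersion q := IsClosedImmersion.spec_of_surjective _ Ideal.Quotient.mk_surjective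
  haveI : IsClosedImmersion q' := IsClosedImmersion.spec_of_surjective _ Ideal.Quotient.mk_surjective
  refine ⟨Γ(X, ⊤), inferInstance, J,
    ProperClopenLib.henselianRing_of_couple f I hf' φ hφ (fun Y g hg ↦ hX Y g hg), hnoeth,
    X.toSpecΓ, hf', t, ⟨⟨ht.symm⟩, ⟨PullbackCone.IsLimit.mk _
      (fun s ↦ pullback.lift s.fst (s.snd ≫ σ) ?_) (fun s ↦ pullback.lift_fst _ _ _)
      (fun s ↦ (cancel_mono q').mp ?_) fun s m h₁ _ ↦ (cancel_mono (pullback.fst f q)).mp
        (h₁.trans (pullback.lift_fst _ _ _).symm)⟩⟩⟩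
  · rw [Category.assoc, ← hσ]
    conv_lhs => rw [← hφ]
    exact (Category.assoc _ _ _).symm.trans ((congrArg (· ≫ _) s.condition).trans (Category.assoc _ _ _))
  · rw [Category.assoc, ht, pullback.lift_fst_assoc]
    exact s.condition

end Groth.Agent.S17965
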