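import Groth.Statements.S17966
import Groth.Agent.FEtProperLib.Main
import Groth.Agent.S17965
import Groth.Agent.S0289

set_option autoImplicit false
set_option backward.isDefEq.respectTransparency false
set_option backward.isDefEq.respectTransparency.types false
set_option maxRecDepth 8000
set_option maxHeartbeats 1000000
open CategoryTheory CategoryTheory.Limits AlgebraicGeometry
universe u
open Pi1

namespace Groth.Agent.S17966

/-- Let A be a Noetherian ring, I an ideal of A, f : X ⟶ Spec A a proper morphism, i : X₀ = X ×_{Spec A}
Spec (A/I) ⟶ X the first projection, and assume that (X, X₀) is a henselian couple (for every finite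
morphism g : Y ⟶ X, every open-closed subset of Y ×_X X₀ is the inverse image under the first
projection of exactly one open-closed subset of Y). Then for every finite morphism g : X' ⟶ X, base
change of finite etale covers along the first projection X' ×_X X₀ ⟶ X' is an equivalence of
categories. -/
theorem result
    (A : Type u) [CommRing A] [IsNoetherianRing A] (I : Ideal A) {X : Scheme.{u}}
    (f : X ⟶ Spec (CommRingCat.of A)) [IsProper f]
    (hX : ∀ (Y : Scheme.{u}) (g : Y ⟶ X), IsFinite g →
      ∀ V : Set ↥(pullback g (pullback.fst f (Spec.map (CommRingCat.ofHom (Ideal.Quotient.mk I))))), IsClopen V →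
        ∃! U : Set ↥Y, IsClopen U ∧ (pullback.fst g (pullback.fst f (Spec.map (CommRingCat.ofHom (Ideal.Quotient.mk I))))).base ⁻¹' U = V)
    {X' : Scheme.{u}} (g : X' ⟶ X) [IsFinite g] :
    (FEt.restrict (pullback.fst g (pullback.fst f (Spec.map (CommRingCat.ofHom (Ideal.Quotient.mk I)))))).IsEquivalence := by
  obtain ⟨A', _, I', _, _, f', _, t, hq⟩ := Groth.Agent.S17965.result A I f hX
  have hp := (IsPullback.of_hasPullback g _).paste_vert hq
  haveI : IsProper (g ≫ f') := inferInstance
  let j' := pullback.fst (g ≫ f') (Spec.map (CommRingCat.ofHom (Ideal.Quotient.mk I')))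
  haveI : (FEt.restrict j').IsEquivalence := FEtProper.isEquivalence I' (g ≫ f')
  haveI : (FEt.restrict hp.isoPullback.hom).IsEquivalence := Groth.Agent.S0289.result hp.isoPullback.hom
  haveI : (FEt.restrict j' ⋙ FEt.restrict hp.isoPullback.hom).IsEquivalence := Functor.isEquivalence_trans _ _
  rw [← hp.isoPullback_hom_fst]
  exact Functor.isEquivalence_of_iso (F := FEt.restrict j' ⋙ FEt.restrict hp.isoPullback.hom)
    (MorphismProperty.Over.pullbackComp (P := FEt.prop.{u}) (Q := ⊤) hp.isoPullback.hom j').symm

end Groth.Agent.S17966
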