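import Groth.Statements.S17967
import Groth.Agent.EtPBCProperLib.Henselian
import Groth.Agent.S17965
-- import your own Groth.Agent.* helpers here

set_option autoImplicit false
open CategoryTheory CategoryTheory.Limits AlgebraicGeometry
universe u
open Opposite
open EtPBC

namespace Groth.Agent.S17967

/-- Let A be a Noetherian ring, I an ideal of A, f : X ⟶ Spec A a proper morphism, i : X₀ = X ×_{Spec A}
Spec (A/I) ⟶ X the first projection, and assume that (X, X₀) is a henselian couple (for every finite
morphism g : Y ⟶ X, every open-closed subset of Y ×_X X₀ is the inverse image under the first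
projection of exactly one open-closed subset of Y). Then for every torsion abelian sheaf F on the
small etale site of X and every q ≥ 0 the map H^q(X, F) → H^q(X, i_* i^* F) induced by the unit F →
i_* i^* F is bijective; since i_* is exact with vanishing higher direct images for the closed
immersion i, this is the comparison H^q(X, F) → H^q(X₀, i^* F) phrased on X. -/
theorem result
    (A : Type u) [CommRing A] [IsNoetherianRing A] (I : Ideal A) {X : Scheme.{u}}
    (f : X ⟶ Spec (CommRingCat.of A)) [IsProper f]
    (hX : ∀ (Y : Scheme.{u}) (g : Y ⟶ X), IsFinite g →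
      ∀ V : Set ↥(pullback g (pullback.fst f (Spec.map (CommRingCat.ofHom (Ideal.Quotient.mk I))))), IsClopen V →
        ∃! U : Set ↥Y, IsClopen U ∧ (pullback.fst g (pullback.fst f (Spec.map (CommRingCat.ofHom (Ideal.Quotient.mk I))))).base ⁻¹' U = V)
    (F : EtCoh.Ab X) (hF : EtCoh.IsTorsion F) (q : ℕ) :
    Function.Bijective
      (Sheaf.H.map ((EtCoh.pullPushAdj (pullback.fst f (Spec.map (CommRingCat.ofHom (Ideal.Quotient.mk I))))).unit.app F) q) := by
  obtain ⟨A', _, I', _, _, f', _, t, ht⟩ := Groth.Agent.S17965.result A I f hX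
  haveI : IsClosedImmersion (Spec.map (CommRingCat.ofHom (Ideal.Quotient.mk I))) :=
    IsClosedImmersion.spec_of_surjective _ Ideal.Quotient.mk_surjective
  let i := pullback.fst f (Spec.map (CommRingCat.ofHom (Ideal.Quotient.mk I)))
  haveI := EtSliceLib.pullExact i
  haveI := EtSliceLib.pullExact (pullback.fst f' (EtPBCProperLib.cq I'))
  haveI := EtSliceLib.pullExact ht.isoPullback.hom
  have hb : Function.Bijective (EtCore.Hpull i F q) :=
    EtExtLib.bijective_comp ht.isoPullback.hom (pullback.fst f' (EtPBCProperLib.cq I')) i ht.isoPullback_hom_fst F q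
      (EtPBCProperLib.bijective_of_iso _ _ _) (EtPBCProperLib.bijective_pair I' f' F hF q)
  have hu := Groth.Agent.S14451.result i ((EtCoh.pull i).obj F)
    (fun p hp => Groth.Agent.EtShLib.isZero_rightDerived_push_finite i _ p hp) q
  have e : ∀ x, EtLim.HofPush i ((EtCoh.pull i).obj F) q
      (Sheaf.H.map ((EtCoh.pullPushAdj i).unit.app F) q x) = EtCore.Hpull i F q x := fun x => by
    show Abelian.Ext.comp (EtCore.Hpull i _ q (Abelian.Ext.comp x
      (Abelian.Ext.mk₀ ((EtCoh.pullPushAdj i).unit.app F)) (add_zero q))) _ (add_zero q) = _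
    rw [EtAcycLib.Hpull_postcomp, Abelian.Ext.comp_assoc_of_second_deg_zero, Abelian.Ext.mk₀_comp_mk₀]
    refine (congrArg (fun t => Abelian.Ext.comp (EtCore.Hpull i F q x) (Abelian.Ext.mk₀ t) (add_zero q))
      ((EtCoh.pullPushAdj i).left_triangle_components F)).trans ?_
    exact Abelian.Ext.comp_mk₀_id _
  refine (Function.Bijective.of_comp_iff' hu _).1 ?_
  exact cast (congrArg Function.Bijective (funext e : (EtLim.HofPush i ((EtCoh.pull i).obj F) q ∘
    Sheaf.H.map ((EtCoh.pullPushAdj i).unit.app F) q : _ → _) = EtCore.Hpull i F q)).symm hb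

end Groth.Agent.S17967
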