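import Groth.Statements.S17968
import Mathlib


-- import your own Groth.Agent.* helpers here

set_option autoImplicit false
universe u
open Hensel

namespace Groth.Agent.S17968

/-- Let A be a commutative ring and I an ideal contained in the Jacobson radical of A. Suppose that for
every natural number m and every monic polynomial p over A whose reduction modulo I is the reduction
of (T^2 - T)^m, every idempotent of B/IB is the image of an idempotent of B, where B = A[T]/(p).
Then (A, I) is a henselian pair. -/
theorem result (A : Type u) [CommRing A]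
    (I : Ideal A) (hI : I ≤ Ideal.jacobson ⊥)
    (h : ∀ (m : ℕ) (p : Polynomial A), p.Monic →
      Polynomial.map (Ideal.Quotient.mk I) p =
        Polynomial.map (Ideal.Quotient.mk I) ((Polynomial.X ^ 2 - Polynomial.X) ^ m) →
      Set.SurjOn (Ideal.Quotient.mk (Ideal.map (algebraMap A (AdjoinRoot p)) I))
        {e : AdjoinRoot p | IsIdempotentElem e} {e | IsIdempotentElem e}) :
    HenselianRing A I := by
  classical
  refine { jac := hI, is_henselian := fun f hf a ha hu => ?_ }
  let B := AdjoinRoot f
  have : Module.Finite A B := hf.finite_adjoinRoot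
  have : Module.Free A B := hf.free_adjoinRoot
  let T : B := AdjoinRoot.root f
  let mI := Ideal.Quotient.mk I
  let ψ : B →+* A ⧸ I := AdjoinRoot.lift mI (mI a) (by
    rw [Polynomial.eval₂_at_apply]; exact Ideal.Quotient.eq_zero_iff_mem.mpr ha)
  let J : Ideal B := I.map (algebraMap A B)
  let g := f /ₘ (Polynomial.X - Polynomial.C a)
  have hfg : f = (Polynomial.X - Polynomial.C a) * g + Polynomial.C (f.eval a) := by
    have := Polynomial.modByMonic_add_div f (Polynomial.X - Polynomial.C a)
    rw [Polynomial.modByMonic_X_sub_C_eq_C_eval] at this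
    exact this.symm.trans (add_comm _ _)
  have hga : g.eval a = f.derivative.eval a := by
    have := congrArg (fun p => Polynomial.eval a (Polynomial.derivative p)) hfg
    simp at this
    exact this.symm
  obtain ⟨w', hw'⟩ := hu.exists_right_inv
  obtain ⟨w, rfl⟩ := Ideal.Quotient.mk_surjective w'
  let e0 : B := algebraMap A B w * Polynomial.aeval T g
  have hcJ : ∀ r ∈ I, algebraMap A B r ∈ J := fun r hr => Ideal.mem_map_of_mem _ hr
  have hTe : (T - algebraMap A B a) * e0 ∈ J := by
    have h0 : (T - algebraMap A B a) * Polynomial.aeval T g + algebraMap A B (f.eval a) = 0 := by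
      have := congrArg (Polynomial.aeval T) hfg
      rw [show Polynomial.aeval T f = 0 from AdjoinRoot.aeval_eq f ▸ AdjoinRoot.mk_self] at this
      simpa using this.symm
    have : (T - algebraMap A B a) * e0 = -(algebraMap A B w * algebraMap A B (f.eval a)) := by
      linear_combination (norm := (simp only [e0]; ring)) (algebraMap A B w) * h0
    rw [this]
    exact J.neg_mem (J.mul_mem_left _ (hcJ _ ha))
  have hhe : ∀ q : Polynomial A, (Polynomial.aeval T q - algebraMap A B (q.eval a)) * e0 ∈ J := by
    intro q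
    obtain ⟨q', hq'⟩ := Polynomial.X_sub_C_dvd_sub_C_eval (a := a) (p := q)
    have := congrArg (Polynomial.aeval T) hq'
    simp at this
    rw [this, mul_comm (T - algebraMap A B a), mul_assoc]
    exact J.mul_mem_left _ hTe
  have he0 : e0 * e0 - e0 ∈ J := by
    have h1 : algebraMap A B (w * g.eval a - 1) ∈ J := hcJ _ (Ideal.Quotient.eq_zero_iff_mem.mp (by
      rw [map_sub, map_mul, map_one, hga, mul_comm, hw', sub_self]))
    have h2 := J.add_mem (J.mul_mem_left (algebraMap A B w) (hhe g)) (J.mul_mem_left e0 h1)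
    convert h2 using 1
    simp [e0]; ring
  have hψ0 : ψ e0 = 1 := by
    have h1 : ψ (Polynomial.aeval T g) = mI (g.eval a) := by
      rw [Polynomial.aeval_def, Polynomial.hom_eval₂, ← Polynomial.eval₂_at_apply]
      congr 1
      · ext x; simp [ψ, B]
      · simp only [ψ, T]; erw [AdjoinRoot.lift_root]
    have hw1 : ψ (algebraMap A B w) = mI w := by simp [ψ, B]
    rw [map_mul, h1, hw1, hga, mul_comm]
    exact hw'
  -- a monic polynomial killing `e0` which reduces to a power of `X² - X`
  let N : Module.End A B := LinearMap.mulLeft A (e0 * e0 - e0)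
  have hJ' : ∀ b : B, b ∈ J ↔ b ∈ (I • ⊤ : Submodule A B) := fun b => by
    rw [Ideal.smul_top_eq_map]; rfl
  obtain ⟨q, hq, -, hqc, hq0⟩ := LinearMap.exists_monic_and_natDegree_eq_and_coeff_mem_pow_and_aeval_eq_zero A
    N I (by rintro _ ⟨b, rfl⟩; exact (hJ' _).mp (J.mul_mem_right _ he0))
  have hqmap : Polynomial.map mI q = Polynomial.X ^ q.natDegree := by
    ext k
    rw [Polynomial.coeff_map, Polynomial.coeff_X_pow]
    split_ifs with hk
    · subst hk; rw [hq.coeff_natDegree, map_one]
    · rcases lt_or_gt_of_ne hk with hk' | hk'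
      · exact Ideal.Quotient.eq_zero_iff_mem.mpr (Ideal.pow_le_self (by omega) (hqc k))
      · rw [Polynomial.coeff_eq_zero_of_natDegree_lt hk', map_zero]
  rcases subsingleton_or_nontrivial A with hA | hA
  · exact ⟨a, Subsingleton.elim _ _, by rw [sub_self]; exact I.zero_mem⟩
  let p := q.comp (Polynomial.X ^ 2 - Polynomial.X)
  have hdeg : (Polynomial.X ^ 2 - Polynomial.X : Polynomial A).natDegree = 2 := by compute_degree!
  have hp : p.Monic := hq.comp (by monicity!) (by rw [hdeg]; norm_num)
  have hpmap : Polynomial.map mI p = Polynomial.map mI ((Polynomial.X ^ 2 - Polynomial.X) ^ q.natDegree) := by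
    rw [Polynomial.map_comp, hqmap, Polynomial.pow_comp, Polynomial.X_comp, Polynomial.map_pow]
  have hpe : Polynomial.aeval e0 p = 0 := by
    rw [Polynomial.aeval_comp]
    have h1 : (Polynomial.aeval (e0 * e0 - e0) q) = (Polynomial.aeval N q) 1 := by
      rw [show N = Algebra.lmul A B (e0 * e0 - e0) from rfl, Polynomial.aeval_algHom_apply]
      simp
    simp only [pow_two, map_sub, map_mul, Polynomial.aeval_X]
    rw [h1, hq0, LinearMap.zero_apply]
  let C := AdjoinRoot p
  let φ : C →ₐ[A] B := AdjoinRoot.liftAlgHom p (Algebra.ofId A B) e0 (by simpa [Polynomial.aeval_def] using hpe)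
  let JC : Ideal C := I.map (algebraMap A C)
  let t : C := AdjoinRoot.root p
  have ht : IsNilpotent (Ideal.Quotient.mk JC (t * t - t)) := by
    refine ⟨q.natDegree, ?_⟩
    rw [← map_pow, Ideal.Quotient.eq_zero_iff_mem]
    have h1 : (p - (Polynomial.X ^ 2 - Polynomial.X) ^ q.natDegree) ∈ I.map Polynomial.C := by
      rw [Ideal.mem_map_C_iff]
      intro k
      rw [← Ideal.Quotient.eq_zero_iff_mem, Polynomial.coeff_sub, map_sub, ← Polynomial.coeff_map,
        ← Polynomial.coeff_map, hpmap, sub_self]
    have h2 := Ideal.mem_map_of_mem (AdjoinRoot.mk p) h1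
    rw [Ideal.map_map] at h2
    have h3 : AdjoinRoot.mk p (p - (Polynomial.X ^ 2 - Polynomial.X) ^ q.natDegree) = -((t * t - t) ^ q.natDegree) := by
      simp [t, pow_two]
    rw [h3] at h2
    exact (neg_mem_iff (H := I.map ((AdjoinRoot.mk p).comp Polynomial.C))).mp h2
  let x : C ⧸ JC := Ideal.Quotient.mk JC t
  let π := Ideal.Quotient.mk (Ideal.span {x * x - x})
  obtain ⟨ec, hec, hecx⟩ := exists_isIdempotentElem_eq_of_ker_isNilpotent π (fun z hz => by
    obtain ⟨r, rfl⟩ := Ideal.mem_span_singleton'.mp ((Ideal.Quotient.eq_zero_iff_mem).mp (RingHom.mem_ker.mp hz))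
    exact Commute.isNilpotent_mul_left (Commute.all _ _) (by simpa [x] using ht)) (π x) ⟨x, rfl⟩
    (by show π x * π x = π x; exact (map_mul π x x).symm.trans (Ideal.Quotient.eq.mpr (Ideal.subset_span rfl)))
  obtain ⟨eC, heC, heCe⟩ := h q.natDegree p hp hpmap (show ec ∈ {e | IsIdempotentElem e} from hec)
  let ε := φ eC
  have hεε : ε * ε = ε := by rw [← map_mul, show eC * eC = eC from heC]
  have hφJ : JC ≤ J.comap φ.toRingHom := by
    rw [Ideal.map_le_iff_le_comap]
    intro r hr
    show φ (algebraMap A C r) ∈ J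
    rw [φ.commutes]; exact hcJ r hr
  let φb : C ⧸ JC →+* B ⧸ J := Ideal.quotientMap J φ.toRingHom hφJ
  have hφt : φ t = e0 := by simp only [φ, t]; erw [AdjoinRoot.liftAlgHom_root]
  have hεe : ε - e0 ∈ J := by
    rw [← Ideal.Quotient.eq]
    have h1 : Ideal.Quotient.mk J ε = φb ec := by rw [← heCe]; rfl
    have h2 : Ideal.Quotient.mk J e0 = φb x := by rw [← hφt]; rfl
    refine eq_of_isNilpotent_sub_of_isIdempotentElem ?_ ?_ ?_
    · show _ * _ = _; rw [← map_mul, hεε]
    · show _ * _ = _; rw [← map_mul, Ideal.Quotient.eq]; exact he0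
    · rw [h1, h2, ← map_sub]
      refine IsNilpotent.map ?_ φb
      obtain ⟨r, hr⟩ := Ideal.mem_span_singleton'.mp (Ideal.Quotient.eq.mp hecx)
      rw [← hr]
      exact Commute.isNilpotent_mul_left (Commute.all _ _) (by simpa [x] using ht)
  have hψJ : J ≤ RingHom.ker ψ := by
    rw [Ideal.map_le_iff_le_comap]
    intro r hr
    show ψ (algebraMap A B r) = 0
    simp [ψ, B, mI, Ideal.Quotient.eq_zero_iff_mem.mpr hr]
  have hψε : ψ ε = 1 := by
    rw [← hψ0, ← sub_eq_zero, ← map_sub]; exact hψJ hεe
  let M : Submodule A B := LinearMap.range (LinearMap.mulLeft A ε)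
  have hMfg : M.FG := by
    rw [show M = (⊤ : Submodule A B).map (LinearMap.mulLeft A ε) from (Submodule.map_top _).symm]
    exact Module.Finite.fg_top.map _
  have hM : M ≤ Submodule.span A {ε} := by
    refine Submodule.le_of_le_smul_of_le_jacobson_bot hMfg hI ?_
    rintro _ ⟨b, rfl⟩
    obtain ⟨hq, rfl⟩ := AdjoinRoot.mk_surjective b
    rw [LinearMap.mulLeft_apply]
    have h1 : ε * AdjoinRoot.mk f hq - algebraMap A B (hq.eval a) * ε ∈ J := by
      have := J.add_mem (hhe hq) (J.mul_mem_right (AdjoinRoot.mk f hq - algebraMap A B (hq.eval a)) hεe)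
      convert this using 1
      rw [AdjoinRoot.aeval_eq]; ring
    rw [hJ'] at h1
    have h2 := Submodule.mem_map_of_mem (f := LinearMap.mulLeft A ε) h1
    rw [Submodule.map_smul'', Submodule.map_top] at h2
    refine Submodule.mem_sup.mpr ⟨(hq.eval a) • ε, Submodule.smul_mem _ _ (Submodule.subset_span rfl), _, h2, ?_⟩
    simp only [LinearMap.mulLeft_apply, Algebra.smul_def]
    linear_combination (AdjoinRoot.mk f hq - algebraMap A B (hq.eval a)) * hεε
  obtain ⟨r, hr⟩ := Submodule.mem_span_singleton.mp (hM ⟨T, rfl⟩)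
  rw [LinearMap.mulLeft_apply, Algebra.smul_def] at hr
  obtain ⟨s, hs⟩ := Module.projective_lifting_property
    ((LinearMap.toSpanSingleton A B ε).codRestrict (Submodule.span A {ε}) fun z =>
      Submodule.smul_mem _ z (Submodule.subset_span rfl))
    ((LinearMap.mulLeft A ε).codRestrict (Submodule.span A {ε}) fun b => hM ⟨b, rfl⟩)
    (fun ⟨y, hy⟩ => by
      obtain ⟨z, rfl⟩ := Submodule.mem_span_singleton.mp hy
      exact ⟨z, Subtype.ext rfl⟩)
  have hs' : ∀ b, s b • ε = ε * b := fun b => congrArg Subtype.val (DFunLike.congr_fun hs b)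
  have hcu : IsUnit (s ε) := by
    have h1 := congrArg ψ (hs' ε)
    rw [hεε, Algebra.smul_def, map_mul, hψε, mul_one] at h1
    have h2 : s ε - 1 ∈ I := Ideal.Quotient.eq_zero_iff_mem.mp (by
      rw [map_sub, map_one, sub_eq_zero]; simpa [ψ, B, mI] using h1)
    have h3 := Ideal.mem_jacobson_bot.mp (hI h2) 1
    rwa [mul_one, sub_add_cancel] at h3
  have hroot : algebraMap A B (f.eval r) * ε = 0 := by
    have key : ∀ k : Polynomial A, Polynomial.aeval T k * ε = algebraMap A B (k.eval r) * ε := by
      intro k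
      induction k using Polynomial.induction_on' with
      | add u v hu hv => simp [add_mul, hu, hv]
      | monomial j c =>
        have : ∀ j : ℕ, T ^ j * ε = algebraMap A B r ^ j * ε := fun j => by
          induction j with
          | zero => simp
          | succ j ihj => linear_combination T * ihj - (algebraMap A B r) ^ j * hr
        simp only [Polynomial.aeval_monomial, Polynomial.eval_monomial, map_mul, map_pow, mul_assoc, this j]
    rw [← key, show Polynomial.aeval T f = 0 from AdjoinRoot.aeval_eq f ▸ AdjoinRoot.mk_self, zero_mul]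
  refine ⟨r, ?_, ?_⟩
  · have h1 := congrArg s hroot
    rw [← Algebra.smul_def, map_smul, map_zero, smul_eq_mul] at h1
    exact hcu.mul_left_eq_zero.mp h1
  · have h1 := congrArg ψ hr
    rw [map_mul, map_mul, hψε, one_mul, mul_one] at h1
    rw [← Ideal.Quotient.eq]
    simpa [ψ, B, T, mI] using h1

end Groth.Agent.S17968
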