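import Groth.Statements.S17969
import Mathlib.RingTheory.Polynomial.GaussLemma
import Mathlib.LinearAlgebra.Charpoly.Basic
import Mathlib.FieldTheory.Minpoly.Field
import Mathlib.RingTheory.TensorProduct.Free
import Mathlib.RingTheory.Flat.Basic
import Mathlib.RingTheory.Localization.BaseChange

set_option autoImplicit false
universe u
open scoped TensorProduct
open CAlg

namespace Groth.Agent.S17969

/-- Let A be an integrally closed domain with fraction field K and B a commutative A-algebra which is
finite and torsion-free as an A-module and generated as an A-algebra by a single element x. Let P be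
the characteristic polynomial of multiplication by 1 ⊗ x on the finite free K-module K ⊗_A B. Then P
has coefficients in A, namely P is the image of a monic polynomial over A, and the kernel of the
A-algebra map A[T] → B sending T to x is generated by that polynomial, so that B is A[T]/(P). -/
theorem result
    (A : Type u) [CommRing A] [IsDomain A] [IsIntegrallyClosed A]
    (B : Type u) [CommRing B] [Algebra A B] [Module.Finite A B] [NoZeroSMulDivisors A B]
    (x : B) (hx : Algebra.adjoin A {x} = ⊤) :
    ∃ P : Polynomial A, P.Monic ∧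
      Polynomial.map (algebraMap A (FractionRing A)) P =
        (LinearMap.mulLeft (FractionRing A) ((1 : FractionRing A) ⊗ₜ[A] x)).charpoly ∧
      RingHom.ker (Polynomial.aeval x).toRingHom = Ideal.span {P} := by
  classical
  let K := FractionRing A
  let C := K ⊗[A] B
  let y : C := (1 : K) ⊗ₜ[A] x
  let L := LinearMap.mulLeft K y
  let χ := L.charpoly
  have haev : ∀ f : Polynomial K, Polynomial.aeval L f = LinearMap.mulLeft K (Polynomial.aeval y f) := fun f =>
    Polynomial.aeval_algHom_apply (Algebra.lmul K C) y f
  have hχ0 : Polynomial.aeval y χ = 0 := by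
    have h := haev χ
    rw [LinearMap.aeval_self_charpoly] at h
    have h1 := LinearMap.congr_fun h 1
    rw [LinearMap.zero_apply, LinearMap.mulLeft_apply, mul_one] at h1
    exact h1.symm
  set μ := minpoly K y with hμ
  have hint : IsIntegral K y := ⟨χ, L.charpoly_monic, hχ0⟩
  have hμm : μ.Monic := minpoly.monic hint
  have hyspan : Submodule.span K (Set.range fun i : Fin μ.natDegree => y ^ (i : ℕ)) = ⊤ := by
    rw [eq_top_iff]
    rintro c -
    obtain ⟨f, rfl⟩ : ∃ f : Polynomial K, Polynomial.aeval y f = c := by
      induction c using TensorProduct.induction_on with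
      | zero => exact ⟨0, map_zero _⟩
      | add c₁ c₂ h₁ h₂ =>
        obtain ⟨f, hf⟩ := h₁
        obtain ⟨g, hg⟩ := h₂
        exact ⟨f + g, by rw [map_add, hf, hg]⟩
      | tmul t b =>
        have hb : b ∈ Algebra.adjoin A {x} := hx ▸ Algebra.mem_top
        rw [Algebra.adjoin_singleton_eq_range_aeval] at hb
        obtain ⟨g, rfl⟩ := hb
        refine ⟨Polynomial.C t * g.map (algebraMap A K), ?_⟩
        rw [map_mul, Polynomial.aeval_C, Polynomial.aeval_map_algebraMap,
          show y = Algebra.TensorProduct.includeRight x from rfl, Polynomial.aeval_algHom_apply]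
        show (t ⊗ₜ[A] (1 : B)) * ((1 : K) ⊗ₜ[A] Polynomial.aeval x g) = _
        rw [Algebra.TensorProduct.tmul_mul_tmul, mul_one, one_mul]
        rfl
    rw [← Polynomial.aeval_modByMonic_eq_self_of_root (q := μ) (minpoly.aeval K y)]
    rcases eq_or_ne μ 1 with h1 | h1
    · rw [h1, Polynomial.modByMonic_one, map_zero]; exact zero_mem _
    rw [Polynomial.aeval_eq_sum_range' (Polynomial.natDegree_modByMonic_lt f hμm h1)]
    exact Submodule.sum_mem _ fun i hi => Submodule.smul_mem _ _
      (Submodule.subset_span ⟨⟨i, Finset.mem_range.1 hi⟩, rfl⟩)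
  have hdeg : Module.finrank K C ≤ μ.natDegree := by
    have h1 := finrank_range_le_card (R := K) fun i : Fin μ.natDegree => y ^ (i : ℕ)
    rw [Set.finrank, hyspan, finrank_top, Fintype.card_fin] at h1
    exact h1
  have hμχ : μ = χ := (Polynomial.eq_of_monic_of_dvd_of_natDegree_le hμm L.charpoly_monic
    (minpoly.dvd K y hχ0) (by rw [LinearMap.charpoly_natDegree]; exact hdeg)).symm
  obtain ⟨q, hq, hq0⟩ := Algebra.IsIntegral.isIntegral (R := A) x
  have hq' : Polynomial.aeval x q = 0 := hq0
  have hincl : ∀ f : Polynomial A, Polynomial.aeval y (f.map (algebraMap A K)) =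
      (1 : K) ⊗ₜ[A] Polynomial.aeval x f := fun f => by
    rw [Polynomial.aeval_map_algebraMap, show y = Algebra.TensorProduct.includeRight x from rfl,
      Polynomial.aeval_algHom_apply]
    rfl
  obtain ⟨P, hP⟩ := IsIntegrallyClosed.eq_map_mul_C_of_dvd K hq
    (show μ ∣ q.map (algebraMap A K) from minpoly.dvd K y (by rw [hincl, hq', TensorProduct.tmul_zero]))
  rw [hμm.leadingCoeff, Polynomial.C_1, mul_one] at hP
  have hPm : P.Monic := Polynomial.monic_of_injective (IsFractionRing.injective A K) (hP ▸ hμm)
  have hinj : ∀ b : B, (1 : K) ⊗ₜ[A] b = 0 → b = 0 := fun b hb => by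
    have h1 : (TensorProduct.mk A K B 1) b = (TensorProduct.mk A K B 1) 0 := by simpa using hb
    obtain ⟨c, hc⟩ := (IsLocalizedModule.eq_iff_exists (nonZeroDivisors A) (TensorProduct.mk A K B 1)).1 h1
    rw [smul_zero] at hc
    exact (smul_eq_zero.1 hc).resolve_left (nonZeroDivisors.coe_ne_zero c)
  refine ⟨P, hPm, hP.trans hμχ, ?_⟩
  ext f
  rw [RingHom.mem_ker, Ideal.mem_span_singleton]
  show Polynomial.aeval x f = 0 ↔ _
  constructor
  · intro hf
    rw [← Polynomial.map_dvd_map (algebraMap A K) (IsFractionRing.injective A K) hPm, hP]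
    exact minpoly.dvd K y (by rw [hincl, hf, TensorProduct.tmul_zero])
  · rintro ⟨g, rfl⟩
    refine hinj _ ?_
    rw [← hincl, Polynomial.map_mul, hP, map_mul, minpoly.aeval, zero_mul]

end Groth.Agent.S17969
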