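import Groth.Statements.S1802
import Groth.Agent.IdealTransLib.Exact
import Groth.Agent.S0825
import Mathlib.AlgebraicGeometry.Morphisms.Affine

set_option autoImplicit false
universe u
open AlgebraicGeometry
open LocCoh

namespace Groth.Agent.S1802

open CategoryTheory AlgebraicGeometry TopologicalSpace Opposite

section

variable {X : Scheme.{u}}

/-- Restriction. -/
noncomputable def rs {W W' : X.Opens} (h : W ≤ W') : Γ(X, W') →+* Γ(X, W) :=
  (X.presheaf.map (homOfLE h).op).hom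

theorem rs_rs {W W' W'' : X.Opens} (h : W ≤ W') (h' : W' ≤ W'') (s : Γ(X, W'')) :
    rs h (rs h' s) = rs (h.trans h') s := by
  show ((X.presheaf.map _) ≫ X.presheaf.map _).hom s = _
  rw [← X.presheaf.map_comp]
  rfl

end

/-- Nilpotent ideals have cohomological dimension zero. -/
theorem cdLE_zero_of_pow_eq_bot {A : Type u} [CommRing A] [IsNoetherianRing A] {I : Ideal A}
    (h1 : LocCoh.CdLE A I 1) {n : ℕ} (hn : I ^ n = ⊥) : LocCoh.CdLE A I 0 := by
  intro M _ _ i hi
  rcases Nat.lt_or_ge 1 i with h | h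
  · exact h1 M i h
  obtain rfl : i = 1 := by omega
  haveI : Subsingleton (LocCoh.DT I M) := ⟨fun x y => by
    suffices h : ∀ x : LocCoh.DT I M, x = 0 by rw [h x, h y]
    intro x
    obtain ⟨m, f, rfl⟩ := IdealTransLib.exists_mk x
    refine IdealTransLib.mk_eq_zero_iff.2 ⟨max m n, le_max_left _ _, LinearMap.ext fun a => ?_⟩
    have ha : a = 0 := Subtype.ext ((Submodule.mem_bot A).1 (hn ▸ Ideal.pow_le_pow_right (le_max_right m n) a.2))
    rw [ha, map_zero, map_zero]⟩
  exact (IdealTransLib.kappa_surjective (I := I) (ModuleCat.of A M)).subsingleton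

theorem isAffineOpen_punctured (A : Type u) [CommRing A] [IsNoetherianRing A] (I : Ideal A)
    (h1 : LocCoh.CdLE A I 1) (h0 : ¬ LocCoh.CdLE A I 0) : IsAffineOpen (LocCoh.puncturedOpen A I) := by
  classical
  obtain ⟨r, f, hf⟩ := Submodule.fg_iff_exists_fin_generating_family.1 (IsNoetherian.noetherian I)
  subst hf
  obtain ⟨c, φ, hφ⟩ := Groth.Agent.S0825.result A r f h1 h0
  let X : Scheme.{u} := Spec (CommRingCat.of A)
  let U : X.Opens := LocCoh.puncturedOpen A (Ideal.span (Set.range f))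
  let a : A →+* Γ(X, ⊤) := (Scheme.ΓSpecIso (CommRingCat.of A)).inv.hom
  let ρ : ∀ W : X.Opens, A →+* Γ(X, W) := fun W => (rs le_top).comp a
  have hρ : ∀ {W W' : X.Opens} (h : W ≤ W') (g : A), rs h (ρ W' g) = ρ W g := fun h g => rs_rs h le_top (a g)
  let J := Ideal.span (Set.range f) ^ (c + 1)
  let D : J → X.Opens := fun g => X.basicOpen (a g.1)
  have hD : ∀ g : A, X.basicOpen (a g) = PrimeSpectrum.basicOpen g := fun g => basicOpen_eq_of_affine (R := CommRingCat.of A) g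
  have hmem : ∀ (g : A) (p : X), p ∈ X.basicOpen (a g) ↔ g ∉ (p : PrimeSpectrum A).asIdeal := fun g p => by
    rw [hD]
    rfl
  have hle : ∀ g : J, D g ≤ U := fun g => by
    intro p hp hI
    have hp' := (hmem g.1 p).1 hp
    exact hp' (hI (Ideal.pow_le_self c.succ_ne_zero g.2))
  have hcov : U ≤ ⨆ g, D g := by
    intro p hp
    obtain ⟨_, ⟨j, rfl⟩, hj⟩ : ∃ x ∈ Set.range f, x ∉ p.asIdeal := by
      by_contra hne
      push Not at hne
      exact hp (Ideal.span_le.2 hne)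
    refine Opens.mem_iSup.2 ⟨⟨f j ^ (c + 1), Ideal.pow_mem_pow (Ideal.subset_span (Set.mem_range_self j)) _⟩, ?_⟩
    exact (hmem _ p).2 fun h => hj (p.isPrime.mem_of_pow_mem _ h)
  have hunit : ∀ g : J, IsUnit (ρ (D g) g.1) := fun g => X.toRingedSpace.isUnit_res_basicOpen (a g.1)
  let t : Fin r → ∀ g : J, Γ(X, D g) := fun j g => ρ (D g) (φ j g) * ↑(hunit g).unit⁻¹
  have ht : ∀ (j : Fin r) (g : J) {W : X.Opens} (h : W ≤ D g), ρ W g.1 * rs h (t j g) = ρ W (φ j g) :=
    fun j g W h => by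
      rw [← hρ h g.1, ← map_mul, ← mul_assoc, mul_comm (ρ (D g) g.1), mul_assoc, IsUnit.mul_val_inv, mul_one, hρ]
  have hcomm : ∀ (j : Fin r) (g g' : J), g'.1 * φ j g = g.1 * φ j g' := fun j g g' => by
    rw [← smul_eq_mul, ← map_smul, ← smul_eq_mul (a := g.1), ← map_smul]
    exact congrArg (φ j) (Subtype.ext (mul_comm g'.1 g.1))
  have hcompat : ∀ j : Fin r, TopCat.Presheaf.IsCompatible X.sheaf.obj D (t j) := fun j g g' => by
    have hu : IsUnit (ρ (D g ⊓ D g') g.1 * ρ (D g ⊓ D g') g'.1) := by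
      rw [← hρ (inf_le_left : D g ⊓ D g' ≤ D g), ← hρ (inf_le_right : D g ⊓ D g' ≤ D g')]
      exact ((hunit g).map _).mul ((hunit g').map _)
    refine hu.mul_left_cancel ?_
    show ρ (D g ⊓ D g') g.1 * ρ (D g ⊓ D g') g'.1 * rs (inf_le_left : D g ⊓ D g' ≤ D g) (t j g) =
      ρ (D g ⊓ D g') g.1 * ρ (D g ⊓ D g') g'.1 * rs (inf_le_right : D g ⊓ D g' ≤ D g') (t j g')
    rw [mul_assoc _ _ (rs inf_le_right _), ht, mul_comm (ρ _ g.1), mul_assoc, ht, ← map_mul, ← map_mul, hcomm]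
  have hT : ∀ j : Fin r, ∃ T : Γ(X, U), ∀ g : J, rs (hle g) T = t j g := fun j =>
    let ⟨T, hT, _⟩ := X.sheaf.existsUnique_gluing' D U (fun g => homOfLE (hle g)) hcov (t j) (hcompat j)
    ⟨T, hT⟩
  choose T hT using hT
  have hone : (1 : Γ(X, U)) = ∑ j, T j * ρ U (f j) := by
    refine X.sheaf.eq_of_locally_eq' D U (fun g => homOfLE (hle g)) hcov _ _ fun g => ?_
    show rs (hle g) 1 = rs (hle g) (∑ j, T j * ρ U (f j))
    rw [map_one, map_sum]
    refine (hunit g).mul_left_cancel ?_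
    rw [mul_one, Finset.mul_sum]
    conv_lhs => rw [hφ g, map_sum]
    refine Finset.sum_congr rfl fun j _ => ?_
    rw [map_mul, map_mul, hρ, hT, ← mul_assoc, show ρ (D g) g.1 * t j g = ρ (D g) (φ j g) by
      rw [← ht j g (le_refl (D g)), ← hT j g, rs_rs], mul_comm]
  refine isAffineOpen_of_isAffineOpen_basicOpen U (Set.range fun j => ρ U (f j)) ?_ ?_
  · refine (Ideal.eq_top_iff_one _).2 (hone.symm ▸ Ideal.sum_mem _ fun j _ => ?_)
    exact Ideal.mul_mem_left _ _ (Ideal.subset_span ⟨j, rfl⟩)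
  · rintro _ ⟨j, rfl⟩
    show IsAffineOpen (X.basicOpen (X.presheaf.map (homOfLE (le_top : U ≤ ⊤)).op (a (f j))))
    rw [Scheme.basicOpen_res, inf_eq_right.2 (show X.basicOpen (a (f j)) ≤ U from ?_)]
    · exact (isAffineOpen_top X).basicOpen _
    · intro p hp hI
      have hp' := (hmem (f j) p).1 hp
      exact hp' (hI (Ideal.subset_span ⟨j, rfl⟩))


/-- For a Noetherian ring. Let I be an ideal of a Noetherian ring A with cd(A, I) = 1, i.e. H^i_I(M) = 0
for all modules M and all i ≥ 2 but H^1_I(M) ≠ 0 for some M. Then the open subscheme Spec A minus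
V(I) is nonempty and affine. -/
theorem result (A : Type u) [CommRing A] [IsNoetherianRing A] (I : Ideal A) (h1 : LocCoh.CdLE A I 1) (h0 : ¬ LocCoh.CdLE A I 0) : Nonempty (↑(LocCoh.puncturedOpen A I) : Scheme.{u}) ∧ IsAffine (↑(LocCoh.puncturedOpen A I) : Scheme.{u}) := by
  refine ⟨?_, isAffineOpen_punctured A I h1 h0⟩
  by_contra hne
  have hI : I ≤ nilradical A := by
    rw [nilradical_eq_sInf]
    refine le_sInf fun p hp => ?_
    by_contra hp'
    exact hne ⟨⟨⟨p, hp⟩, hp'⟩⟩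
  obtain ⟨n, hn⟩ := Ideal.exists_pow_le_of_le_radical_of_fg (J := (⊥ : Ideal A)) hI (IsNoetherian.noetherian I)
  exact h0 (cdLE_zero_of_pow_eq_bot h1 (eq_bot_iff.2 hn))

end Groth.Agent.S1802
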