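import Groth.Statements.S1797
import Groth.Agent.HLVTLib.Main
import Groth.Agent.HLVTLib.Conn
import Groth.Agent.NorLocLib.AwayCpl
import Groth.Agent.NorLocLib.OnePlusCpl
import Groth.Agent.S11671
import Groth.Agent.S1802

set_option autoImplicit false
universe u
open LocCoh

namespace Groth.Agent.S1797

open IsLocalRing

theorem not_cdLE_zero (A : Type u) [CommRing A] [IsDomain A] [IsNoetherianRing A] (I : Ideal A) (h1 : I ≠ ⊤)
    (h0 : I ≠ ⊥) : ¬ LocCoh.CdLE A I 0 := by
  intro hk
  obtain ⟨m, hm, hle⟩ := I.exists_le_maximal h1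
  haveI := hm.isPrime
  obtain ⟨Q, hQ, -⟩ := Ideal.exists_minimalPrimes_le hle
  haveI := hQ.1.1
  let L := Localization.AtPrime Q
  haveI : IsNoetherianRing L := IsLocalization.isNoetherianRing Q.primeCompl _ inferInstance
  have hk' : LocCoh.CdLE L (I.map (algebraMap A L)) 0 := LocCohLib.cdLE_map hk
  have hrad : (I.map (algebraMap A L)).radical = maximalIdeal L := by
    refine le_antisymm ((maximalIdeal.isMaximal L).isPrime.radical_le_iff.2 ?_) ?_
    · rw [← Localization.AtPrime.map_eq_maximalIdeal]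
      exact Ideal.map_mono hQ.1.2
    · rw [Ideal.radical_eq_sInf]
      refine le_sInf fun P ⟨hP, hPp⟩ => ?_
      haveI := hPp
      have h2 : P.comap (algebraMap A L) ≤ Q :=
        (Ideal.comap_mono (le_maximalIdeal hPp.ne_top)).trans (Localization.AtPrime.under_maximalIdeal (I := Q)).le
      rw [← Localization.AtPrime.map_eq_maximalIdeal, Ideal.map_le_iff_le_comap]
      exact hQ.2 ⟨inferInstance, Ideal.map_le_iff_le_comap.1 hP⟩ h2
  obtain ⟨d, hd⟩ := CommAlgDim.exists_ringKrullDim_eq (R := L)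
  haveI := (LocCohLib.nonvanishing d L (by rw [Module.supportDim_self_eq_ringKrullDim, hd])).1
  have hd1 : 1 ≤ d := by
    by_contra hcon
    have h2 : Q.height = 0 := by
      have h3 := (IsLocalization.AtPrime.ringKrullDim_eq_height Q L).symm.trans hd
      rw [show d = 0 by omega] at h3
      exact WithBot.coe_inj.1 h3
    rw [Ideal.height_eq_zero_iff, IsDomain.minimalPrimes_eq_singleton_bot, Set.mem_singleton_iff] at h2
    exact h0 (le_bot_iff.1 (h2 ▸ hQ.1.2))
  haveI := hk' L d hd1
  have h4 : Subsingleton (LocCoh.H (maximalIdeal L) d L) :=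
    (HLVTLib.subsingleton_H_congr_radical (by rw [hrad, (maximalIdeal.isMaximal L).isPrime.radical]) d L).1 this
  exact not_subsingleton (LocCoh.H (maximalIdeal L) d L) h4

/-- Let A be an excellent normal Noetherian local ring (an integrally closed domain) and I an ideal with
dim V(I) ≥ 1, i.e. dim A/I ≥ 1. Then cd(A, I) < dim A: for every A-module M, H^i_I(M) = 0 whenever i
≥ dim A. Moreover, if dim A = 2 then the open subscheme Spec A ∖ V(I) is affine. -/
theorem result (A : Type u) [CommRing A] [IsDomain A] [IsLocalRing A] [IsNoetherianRing A] [IsIntegrallyClosed A] (hA : EGA4.IsExcellent A) (I : Ideal A) (hI : (1 : WithBot ℕ∞) ≤ ringKrullDim (A ⧸ I)) : (∀ (M : Type u) [AddCommGroup M] [Module A M] (i : ℕ), ringKrullDim A ≤ (i : WithBot ℕ∞) → Subsingleton (LocCoh.H I i M)) ∧ (ringKrullDim A = 2 → AlgebraicGeometry.IsAffine (↑(LocCoh.puncturedOpen A I) : AlgebraicGeometry.Scheme.{u})) := by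
  have hI1 : I ≠ ⊤ := fun h => by
    haveI : Subsingleton (A ⧸ I) := Ideal.Quotient.subsingleton_iff.2 h
    rw [ringKrullDim_eq_bot_of_subsingleton] at hI
    exact absurd (le_bot_iff.1 hI) (by simp)
  obtain ⟨d, hd⟩ := CommAlgDim.exists_ringKrullDim_eq (R := A)
  haveI := CatLib.isNoetherianRing_cpl A
  haveI : IsDomain (AdicCompletion (maximalIdeal A) A) := by
    refine (NorLocLib.domain_of_isNormalRing_of_trivIdem _ (NorLocLib.isNormalRing_adicCompletion_of_isGRing A hA.2.2.1
      (NorLocLib.isNormalRing_of_intClosed A) _) fun e he => ?_).1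
    rcases IsLocalRing.isUnit_or_isUnit_one_sub_self e with h | h
    · exact Or.inr (h.mul_left_cancel (by rw [mul_one]; exact he))
    · exact Or.inl (h.mul_left_cancel (by rw [mul_zero, sub_mul, one_mul, he.eq, sub_self]))
  have hvan : ∀ (M : Type u) [AddCommGroup M] [Module A M] (i : ℕ), ringKrullDim A ≤ (i : WithBot ℕ∞) →
      Subsingleton (LocCoh.H I i M) := fun M _ _ i hi => by
    refine HLVTLib.subsingleton_H_hlvt hd I (fun p hp _ => ?_) M (by rw [hd] at hi; exact_mod_cast hi)
    rw [IsDomain.minimalPrimes_eq_singleton_bot, Set.mem_singleton_iff] at hp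
    rw [hp, sup_bot_eq, S11671.dim_map I hI1]
    exact hI
  refine ⟨hvan, fun h2 => ?_⟩
  by_cases hI0 : I = ⊥
  · haveI : IsEmpty (↑(LocCoh.puncturedOpen A I) : AlgebraicGeometry.Scheme.{u}) :=
      ⟨fun ⟨p, hp⟩ => hp (show I ≤ p.asIdeal from hI0 ▸ bot_le)⟩
    infer_instance
  exact S1802.isAffineOpen_punctured A I (fun M _ _ i hi => hvan M i (by rw [h2]; exact_mod_cast hi))
    (not_cdLE_zero A I hI1 hI0)

end Groth.Agent.S1797
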