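import Groth.Statements.S17970
import Groth.Agent.HenselLib.FiniteLocalProd
-- import your own Groth.Agent.* helpers here

set_option autoImplicit false
universe u
open Hensel

namespace Groth.Agent.S17970

/-- Let A be a local ring with maximal ideal m and B a commutative A-algebra which is finitely generated
as an A-module. Then B is ring-isomorphic to a finite product of local rings if and only if every
idempotent of B/mB is the image of an idempotent of B. (Reduction modulo mB is always injective on
the idempotents of B, because mB lies in the Jacobson radical of B; so this surjectivity amounts to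
the bijectivity on idempotents in the printed assertion.) -/
theorem result
    (A : Type u) [CommRing A] [IsLocalRing A] (B : Type u) [CommRing B] [Algebra A B] [Module.Finite A B] :
    (∃ (ι : Type u) (_ : Fintype ι) (C : ι → Type u) (_ : ∀ j, CommRing (C j)),
        (∀ j, IsLocalRing (C j)) ∧ Nonempty (B ≃+* (∀ j, C j))) ↔
      Set.SurjOn (Ideal.Quotient.mk (Ideal.map (algebraMap A B) (IsLocalRing.maximalIdeal A)))
        {e : B | IsIdempotentElem e} {e | IsIdempotentElem e} := by
  classical
  let mB := (IsLocalRing.maximalIdeal A).map (algebraMap A B)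
  have hjac : mB ≤ Ideal.jacobson ⊥ :=
    HenselLib.map_le_jacobson_bot (IsLocalRing.jacobson_eq_maximalIdeal ⊥ bot_ne_top).ge
  constructor
  · rintro ⟨ι, _, C, _, hC, ⟨e⟩⟩ y hy
    obtain ⟨b, rfl⟩ := Ideal.Quotient.mk_surjective y
    obtain ⟨d, w, hd, hdw⟩ := HenselLib.exists_idem_eq_of_pi hC e b
    refine ⟨d, hd, Ideal.Quotient.eq.2 ?_⟩
    rw [hdw]
    exact Ideal.mul_mem_right _ _ (Ideal.Quotient.eq.1 (by rw [map_mul]; exact hy))
  · intro hs
    haveI : Finite (MaximalSpectrum B) := HenselLib.finite_maximalSpectrum A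
    haveI : Fintype (MaximalSpectrum B) := Fintype.ofFinite _
    refine HenselLib.exists_pi_local_of_lift fun b hb => ?_
    let m := IsLocalRing.maximalIdeal A
    letI : Field (A ⧸ m) := Ideal.Quotient.field m
    haveI : Module.Finite (A ⧸ m) (B ⧸ mB) := Module.Finite.of_restrictScalars_finite A _ _
    haveI : IsArtinianRing (B ⧸ mB) := IsArtinianRing.of_finite (A ⧸ m) _
    let J := (Ideal.jacobson (⊥ : Ideal B)).map (Ideal.Quotient.mk mB)
    have hJ : J ≤ Ideal.jacobson ⊥ := by
      refine le_sInf fun N hN => Ideal.map_le_iff_le_comap.2 (sInf_le ⟨bot_le, ?_⟩)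
      haveI := hN.2
      exact Ideal.comap_isMaximal_of_surjective _ Ideal.Quotient.mk_surjective
    have hnil : ∀ x ∈ RingHom.ker (Ideal.Quotient.mk J), IsNilpotent x := fun x hx => by
      rw [Ideal.mk_ker] at hx
      have := hJ hx
      rwa [IsArtinianRing.jacobson_eq_radical, ← Ideal.zero_eq_bot, ← nilradical, mem_nilradical] at this
    obtain ⟨ē, hē, hē2⟩ := exists_isIdempotentElem_eq_of_ker_isNilpotent (Ideal.Quotient.mk J) hnil
      (Ideal.Quotient.mk J (Ideal.Quotient.mk mB b)) ⟨_, rfl⟩ (by
        show _ * _ = _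
        rw [← map_mul, Ideal.Quotient.eq, ← map_mul, ← map_sub]
        exact Ideal.mem_map_of_mem _ hb)
    obtain ⟨d, hd, hde⟩ := hs hē
    refine ⟨d, hd, ?_⟩
    have h1 : Ideal.Quotient.mk mB (d - b) ∈ J := by
      rw [map_sub, hde]; exact Ideal.Quotient.eq.1 hē2
    obtain ⟨x, hx, hxe⟩ := (Ideal.mem_map_iff_of_surjective _ Ideal.Quotient.mk_surjective).1 h1
    have h2 := hjac (Ideal.Quotient.eq.1 hxe.symm)
    simpa using Ideal.add_mem _ h2 hx

end Groth.Agent.S17970
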