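import Groth.Statements.S17971
import Groth.Agent.ProperClopenLib.AffineLifts
import Groth.Agent.HenselLib.Criteria
-- import your own Groth.Agent.* helpers here

set_option autoImplicit false
open CategoryTheory CategoryTheory.Limits AlgebraicGeometry
universe u
open Hensel

namespace Groth.Agent.S17971

/-- For a commutative ring A and an ideal I, the pair (A, I) is henselian if and only if the couple
(Spec A, Spec (A/I)) is henselian, i.e. if and only if for every finite morphism g : Y ⟶ Spec A
every open-closed subset of Y ×_{Spec A} Spec (A/I) is the inverse image under the first projection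
of exactly one open-closed subset of Y. -/
theorem result (A : Type u) [CommRing A] (I : Ideal A) :
    HenselianRing A I ↔
    ∀ (Y : Scheme.{u}) (g : Y ⟶ Spec (CommRingCat.of A)), IsFinite g →
      ∀ V : Set ↥(pullback g (Spec.map (CommRingCat.ofHom (Ideal.Quotient.mk I)))), IsClopen V →
        ∃! U : Set ↥Y, IsClopen U ∧ (pullback.fst g (Spec.map (CommRingCat.ofHom (Ideal.Quotient.mk I)))).base ⁻¹' U = V := by
  let q := Spec.map (CommRingCat.ofHom (Ideal.Quotient.mk I))
  have := IsClosedImmersion.spec_of_surjective (CommRingCat.ofHom (Ideal.Quotient.mk I))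
    Ideal.Quotient.mk_surjective
  have hrange : ∀ (B : Type u) [CommRing B] [Algebra A B],
      Set.range (pullback.fst (Spec.map (CommRingCat.ofHom (algebraMap A B))) q) =
        Set.range (PrimeSpectrum.comap (Ideal.Quotient.mk (I.map (algebraMap A B)))) := by
    intro B _ _
    rw [Scheme.Pullback.range_fst]
    refine Eq.trans (congrArg ((Spec.map (CommRingCat.ofHom (algebraMap A B))) ⁻¹' ·)
      ((range_comap_of_surjective _ _ Ideal.Quotient.mk_surjective).trans
        (congrArg (fun J : Ideal A ↦ PrimeSpectrum.zeroLocus (J : Set A)) Ideal.mk_ker))) ?_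
    refine (PrimeSpectrum.preimage_comap_zeroLocus (algebraMap A B) (I : Set A)).trans ?_
    refine Eq.trans ?_ ((range_comap_of_surjective _ _ Ideal.Quotient.mk_surjective).trans
      (congrArg (fun J : Ideal B ↦ PrimeSpectrum.zeroLocus (J : Set B)) Ideal.mk_ker)).symm
    exact (PrimeSpectrum.zeroLocus_span _).symm
  have hemb : ∀ (B : Type u) [CommRing B] (J : Ideal B),
      Topology.IsEmbedding (PrimeSpectrum.comap (Ideal.Quotient.mk J)) := fun B _ J ↦
    (PrimeSpectrum.isClosedEmbedding_comap_of_surjective _ (Ideal.Quotient.mk J)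
      Ideal.Quotient.mk_surjective).isEmbedding
  constructor
  · intro h Y g hg
    have : IsAffine Y := isAffine_of_isAffineHom g
    obtain ⟨φ, hφ⟩ : ∃ φ : CommRingCat.of A ⟶ Γ(Y, ⊤), Spec.map φ = Y.isoSpec.inv ≫ g :=
      Spec.map_surjective _
    algebraize [φ.hom]
    have : Module.Finite A Γ(Y, ⊤) := (IsFinite.SpecMap_iff φ).mp (hφ ▸ inferInstance)
    have hl : ProperClopenLib.Lifts (PrimeSpectrum.comap
        (Ideal.Quotient.mk (I.map (algebraMap A Γ(Y, ⊤))))) :=
      (ProperClopenLib.lifts_comap_iff _).mpr HenselLib.idempotent_bijOn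
    let k := Scheme.homeoOfIso Y.isoSpec
    have hp : Topology.IsEmbedding (k ∘ pullback.fst g q) :=
      k.isEmbedding.comp (pullback.fst g q).isClosedEmbedding.isEmbedding
    have hr : Set.range (PrimeSpectrum.comap (Ideal.Quotient.mk (I.map (algebraMap A Γ(Y, ⊤))))) =
        Set.range (k ∘ pullback.fst g q) := by
      rw [← hrange, Scheme.Pullback.range_fst, Set.range_comp, Scheme.Pullback.range_fst,
        k.image_eq_preimage_symm, ← Set.preimage_comp]
      congr 1
      exact congrArg (fun m : Spec Γ(Y, ⊤) ⟶ _ ↦ (m : _ → _)) hφ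
    have := (ProperClopenLib.Lifts.congr_range (hemb _ _) hp hr hl).comp_right k.symm
    have e : (k.symm ∘ (k ∘ pullback.fst g q) : _ → Y) = pullback.fst g q :=
      funext fun z ↦ k.symm_apply_apply _
    exact e ▸ this
  · intro h
    refine HenselLib.henselianRing_of_idempotents fun B _ _ _ ↦
      (ProperClopenLib.lifts_comap_iff _).mp ?_
    let g := Spec.map (CommRingCat.ofHom (algebraMap A B))
    have hg : IsFinite g := (IsFinite.SpecMap_iff _).mpr (RingHom.finite_algebraMap.mpr ‹_›)
    exact ProperClopenLib.Lifts.congr_range (pullback.fst g q).isClosedEmbedding.isEmbedding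
      (hemb B _) (hrange B) (h _ g hg)

end Groth.Agent.S17971
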