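import Groth.Statements.S17973
import Groth.Agent.HenselLib.EssEtTrans
-- import your own Groth.Agent.* helpers here

set_option autoImplicit false
universe u
open EGA4loc

namespace Groth.Agent.S17973

/-- Let A be a local ring, B a local ring which is a local-etale A-algebra (isomorphic over A to the
localization of an etale A-algebra at a prime ideal lying over the maximal ideal of A), and C a
local-etale B-algebra, regarded as an A-algebra through B. Then C is a local-etale A-algebra. -/
theorem result (A : Type u) [CommRing A] [IsLocalRing A]
    (B : Type u) [CommRing B] [IsLocalRing B] [Algebra A B]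
    (C : Type u) [CommRing C] [Algebra B C] [Algebra A C] [IsScalarTower A B C]
    (hB : EGA4loc.IsEssentiallyEtale A B) (hC : EGA4loc.IsEssentiallyEtale B C) :
    EGA4loc.IsEssentiallyEtale A C := by
  obtain ⟨R, _, _, q, _, hR, hq, ⟨e⟩⟩ := hB
  obtain ⟨D, _, _, r, _, hD, hr, ⟨e'⟩⟩ := hC
  haveI := hR; haveI := hD
  letI : Algebra R B := (e.symm.toRingHom.comp (algebraMap R (Localization.AtPrime q))).toAlgebra
  haveI : IsScalarTower A R B := .of_algebraMap_eq fun a => by
    show algebraMap A B a = e.symm (algebraMap R (Localization.AtPrime q) (algebraMap A R a))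
    rw [← IsScalarTower.algebraMap_apply, AlgEquiv.commutes]
  haveI : IsLocalization q.primeCompl B := IsLocalization.isLocalization_of_algEquiv q.primeCompl
    ({ toRingEquiv := e.symm.toRingEquiv, commutes' := fun _ => rfl } : Localization.AtPrime q ≃ₐ[R] B)
  letI : Algebra A D := ((algebraMap B D).comp (algebraMap A B)).toAlgebra
  haveI : IsScalarTower A B D := .of_algebraMap_eq' rfl
  obtain ⟨E, _, _, Q, _, hE, hQ, ⟨ε⟩⟩ := HenselLib.exists_etale_model q.primeCompl B A D r
  refine ⟨E, inferInstance, inferInstance, Q, inferInstance, hE, ?_, ?_⟩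
  · rw [hQ, IsScalarTower.algebraMap_eq A B D, ← Ideal.comap_comap, hr, IsScalarTower.algebraMap_eq A R B,
      ← Ideal.comap_comap]
    have : (IsLocalRing.maximalIdeal B).comap (algebraMap R B) = q := IsLocalization.AtPrime.comap_maximalIdeal B q
    rw [this, hq]
  · haveI : IsScalarTower A B (Localization.AtPrime r) := .of_algebraMap_eq fun a => by
      rw [IsScalarTower.algebraMap_apply A D (Localization.AtPrime r),
        IsScalarTower.algebraMap_apply B D (Localization.AtPrime r), ← IsScalarTower.algebraMap_apply A B D]
    exact ⟨(e'.restrictScalars A).trans ε⟩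

end Groth.Agent.S17973
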