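import Groth.Statements.S17974
import Mathlib.RingTheory.Unramified.Finite
-- import your own Groth.Agent.* helpers here

set_option autoImplicit false
universe u
open Unram

namespace Groth.Agent.S17974

/-- Let A be a commutative ring, B an unramified A-algebra (formally unramified and of finite type), C
an A-algebra, p a prime ideal of C, and u, v : B → C two A-algebra homomorphisms which agree after
composition with C → C/p. Then there is an element f of C not in p such that u and v agree after
composition with the localization map C → C[1/f]. -/
theorem result
    (A : Type u) [CommRing A] (B : Type u) [CommRing B] [Algebra A B]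
    [Algebra.FormallyUnramified A B] [Algebra.FiniteType A B]
    (C : Type u) [CommRing C] [Algebra A C] (p : Ideal C) [p.IsPrime]
    (u v : B →ₐ[A] C)
    (huv : (Ideal.Quotient.mk p).comp u.toRingHom = (Ideal.Quotient.mk p).comp v.toRingHom) :
    ∃ f : C, f ∉ p ∧
      (algebraMap C (Localization.Away f)).comp u.toRingHom =
        (algebraMap C (Localization.Away f)).comp v.toRingHom := by
  obtain ⟨t, ht1, ht2⟩ := (Algebra.FormallyUnramified.iff_exists_tensorProduct (R := A) (S := B)).1 ‹_›
  let Ψ : TensorProduct A B B →ₐ[A] C := Algebra.TensorProduct.lift u v fun _ _ => .all _ _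
  have key : ∀ z : TensorProduct A B B, Ideal.Quotient.mk p (Ψ z) =
      Ideal.Quotient.mk p (u (Algebra.TensorProduct.lmul' A z)) := fun z => by
    induction z using TensorProduct.induction_on with
    | zero => simp
    | tmul x y =>
      have hy : Ideal.Quotient.mk p (u y) = Ideal.Quotient.mk p (v y) := RingHom.congr_fun huv y
      simp [Ψ, hy]
    | add a b ha hb => simp only [map_add, ha, hb]
  refine ⟨Ψ t, fun h => ?_, RingHom.ext fun b => ?_⟩
  · have h1 := key t
    rw [ht2, map_one, map_one, Ideal.Quotient.eq_zero_iff_mem.2 h] at h1
    exact zero_ne_one h1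
  · show algebraMap C _ (u b) = algebraMap C _ (v b)
    refine (IsLocalization.Away.algebraMap_isUnit (S := Localization.Away (Ψ t)) (Ψ t)).mul_left_cancel ?_
    rw [← map_mul, ← map_mul]
    congr 1
    have h1 := congrArg Ψ (ht1 b)
    simp only [Ψ, map_mul, map_sub, Algebra.TensorProduct.lift_tmul, map_one, one_mul, mul_one, map_zero] at h1
    replace h1 : (v b - u b) * Ψ t = 0 := h1
    linear_combination -h1

end Groth.Agent.S17974
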