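import Groth.Statements.S17975
import Groth.Agent.HenselLib.Basic
import Mathlib.RingTheory.AdjoinRoot
-- import your own Groth.Agent.* helpers here

set_option autoImplicit false
universe u
open Hensel

namespace Groth.Agent.S17975

/-- Let A be a local ring with maximal ideal m and residue field k, C a commutative A-algebra which is
finitely generated as an A-module, Q₀ a monic polynomial of degree n over k, e an A-algebra
isomorphism from C/mC to k[T]/(Q₀), and x an element of C whose class is sent by e to the class of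
T. Then x generates C as an A-algebra, and x is a root of a monic polynomial Q over A of degree n
whose reduction modulo m equals Q₀. -/
theorem result
    (A : Type u) [CommRing A] [IsLocalRing A] (C : Type u) [CommRing C] [Algebra A C] [Module.Finite A C]
    (Q₀ : Polynomial (IsLocalRing.ResidueField A)) (hQ₀ : Q₀.Monic)
    (e : (C ⧸ Ideal.map (algebraMap A C) (IsLocalRing.maximalIdeal A)) ≃ₐ[A] AdjoinRoot Q₀)
    (x : C) (hx : e (Ideal.Quotient.mk (Ideal.map (algebraMap A C) (IsLocalRing.maximalIdeal A)) x) = AdjoinRoot.root Q₀) :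
    Algebra.adjoin A {x} = ⊤ ∧
      ∃ Q : Polynomial A, Q.Monic ∧ Q.natDegree = Q₀.natDegree ∧
        Polynomial.map (IsLocalRing.residue A) Q = Q₀ ∧ Polynomial.aeval x Q = 0 := by
  classical
  let m := IsLocalRing.maximalIdeal A
  let mC := m.map (algebraMap A C)
  let k := IsLocalRing.ResidueField A
  set n := Q₀.natDegree with hn
  let pb := AdjoinRoot.powerBasis' hQ₀
  let N : Submodule A C := Submodule.span A (Set.range fun i : Fin n => x ^ (i : ℕ))
  have hpow : ∀ j : ℕ, e (Ideal.Quotient.mk mC (x ^ j)) = AdjoinRoot.root Q₀ ^ j := fun j => by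
    rw [map_pow, map_pow]; exact congrArg (· ^ j) hx
  have hN : N = ⊤ := by
    refine top_le_iff.1 (Submodule.le_of_le_smul_of_le_jacobson_bot Module.Finite.fg_top
      (IsLocalRing.jacobson_eq_maximalIdeal ⊥ bot_ne_top).ge (I := m) fun c _ => ?_)
    rw [← HenselLib.map_eq_smul_top]
    obtain ⟨co, hco⟩ : ∃ co : Fin n → k, ∑ i, co i • (AdjoinRoot.root Q₀) ^ (i : ℕ) = e (Ideal.Quotient.mk mC c) := by
      refine ⟨fun i => (pb.basis).repr (e (Ideal.Quotient.mk mC c)) (Fin.cast (AdjoinRoot.powerBasis'_dim hQ₀).symm i), ?_⟩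
      conv_rhs => rw [← pb.basis.sum_repr (e (Ideal.Quotient.mk mC c))]
      refine Fintype.sum_equiv (finCongr (AdjoinRoot.powerBasis'_dim hQ₀).symm) _ _ fun i => ?_
      simp [pb, PowerBasis.coe_basis]
    choose a ha using fun i => IsLocalRing.residue_surjective (co i)
    refine Submodule.mem_sup.2 ⟨∑ i, a i • x ^ (i : ℕ), Submodule.sum_mem _ fun i _ =>
      Submodule.smul_mem _ _ (Submodule.subset_span ⟨i, rfl⟩), c - ∑ i, a i • x ^ (i : ℕ), ?_, add_sub_cancel _ _⟩
    rw [Submodule.restrictScalars_mem, ← Ideal.Quotient.eq_zero_iff_mem, map_sub, sub_eq_zero]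
    apply e.injective
    rw [map_sum, map_sum, ← hco]
    refine Finset.sum_congr rfl fun i _ => ?_
    rw [Algebra.smul_def (a i), map_mul, Ideal.Quotient.mk_algebraMap, map_mul, AlgEquiv.commutes, hpow, ← ha i,
      Algebra.smul_def]
    rfl
  refine ⟨top_le_iff.1 fun c _ => ?_, ?_⟩
  · have hc : c ∈ N := hN ▸ Submodule.mem_top
    exact (Submodule.span_le (p := (Algebra.adjoin A {x}).toSubmodule)).2
      (Set.range_subset_iff.2 fun i => pow_mem (Algebra.subset_adjoin (Set.mem_singleton x)) _) hc
  · obtain ⟨a, ha⟩ := (Submodule.mem_span_range_iff_exists_fun A).1 (hN ▸ Submodule.mem_top : x ^ n ∈ N)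
    nontriviality A
    let P : Polynomial A := ∑ i : Fin n, Polynomial.C (a i) * Polynomial.X ^ (i : ℕ)
    have hP : P.degree < n := by
      refine (Polynomial.degree_sum_le _ _).trans_lt ((Finset.sup_lt_iff (WithBot.bot_lt_coe n)).2 fun i _ =>
        lt_of_le_of_lt (Polynomial.degree_C_mul_X_pow_le _ _) (WithBot.coe_lt_coe.2 i.2))
    let Q := Polynomial.X ^ n - P
    have hQm : Q.Monic := Polynomial.monic_X_pow_sub hP
    have hQd : Q.natDegree = n := Polynomial.natDegree_eq_of_degree_eq_some
      ((Polynomial.degree_sub_eq_left_of_degree_lt (by simpa using hP)).trans (Polynomial.degree_X_pow n))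
    have hev : Polynomial.aeval x Q = 0 := by
      simp [Q, P, ← ha, Algebra.smul_def]
    refine ⟨Q, hQm, hQd, ?_, hev⟩
    refine Polynomial.eq_of_monic_of_dvd_of_natDegree_le hQ₀ (hQm.map _) ?_ (by rw [hQm.natDegree_map, hQd])
    rw [← AdjoinRoot.mk_eq_zero, ← AdjoinRoot.aeval_eq]
    have h1 := congrArg (fun z => e (Ideal.Quotient.mk mC z)) hev
    simp only [map_zero] at h1
    rw [← h1]
    rw [← Ideal.Quotient.algebraMap_eq, ← Polynomial.aeval_algebraMap_apply, ← Polynomial.aeval_algHom_apply,
      Ideal.Quotient.algebraMap_eq, hx]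
    exact Polynomial.aeval_map_algebraMap k (AdjoinRoot.root Q₀) Q

end Groth.Agent.S17975
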