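import Groth.Statements.S17977
import Groth.Agent.HenselLib.Basic
-- import your own Groth.Agent.* helpers here

set_option autoImplicit false
universe u
open EGA4loc

namespace Groth.Agent.S17977

/-- Let A be a local ring, B a local ring which is a local-etale A-algebra, and C a local ring with a
local structure map A → C. Then every A-algebra homomorphism B → C is local. (The source states this
for local ind-etale B, i.e. filtered colimits of local-etale algebras along local maps, and reduces
at once to the local-etale case stated here.) -/
theorem result (A : Type u) [CommRing A] [IsLocalRing A]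
    (B : Type u) [CommRing B] [IsLocalRing B] [Algebra A B] (hB : EGA4loc.IsEssentiallyEtale A B)
    (C : Type u) [CommRing C] [IsLocalRing C] [Algebra A C] [IsLocalHom (algebraMap A C)]
    (φ : B →ₐ[A] C) : IsLocalHom φ.toRingHom := by
  obtain ⟨D, _, _, q, _, hD, hq, ⟨e⟩⟩ := hB
  haveI := hD
  haveI : IsLocalHom (algebraMap A (Localization.AtPrime q)) := by
    refine ((IsLocalRing.local_hom_TFAE _).out 0 2 rfl rfl).2 (Ideal.map_le_iff_le_comap.2 fun a ha => ?_)
    rw [← hq] at ha
    show algebraMap A (Localization.AtPrime q) a ∈ IsLocalRing.maximalIdeal (Localization.AtPrime q)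
    rw [IsScalarTower.algebraMap_apply A D (Localization.AtPrime q)]
    exact (IsLocalization.AtPrime.to_map_mem_maximal_iff (Localization.AtPrime q) q (algebraMap A D a)).2 ha
  haveI : Algebra.FormallyUnramified D (Localization.AtPrime q) := .of_isLocalization q.primeCompl
  haveI : Algebra.FormallyUnramified A (Localization.AtPrime q) := .comp A D _
  haveI : Algebra.EssFiniteType D (Localization.AtPrime q) := .of_isLocalization _ q.primeCompl
  haveI : Algebra.EssFiniteType A (Localization.AtPrime q) := .comp A D _
  have hm := Algebra.FormallyUnramified.map_maximalIdeal (R := A) (S := Localization.AtPrime q)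
  let ψ : Localization.AtPrime q →ₐ[A] C := φ.comp e.symm.toAlgHom
  haveI hψ : IsLocalHom ψ.toRingHom := by
    refine ((IsLocalRing.local_hom_TFAE _).out 0 2 rfl rfl).2 ?_
    rw [← hm, Ideal.map_map, AlgHom.toRingHom_eq_coe, ψ.comp_algebraMap]
    exact ((IsLocalRing.local_hom_TFAE (algebraMap A C)).out 0 2 rfl rfl).1 ‹_›
  refine ⟨fun b hb => ?_⟩
  have h1 : IsUnit (e b) := hψ.map_nonunit _ (by
    show IsUnit (φ (e.symm (e b)))
    rwa [e.symm_apply_apply])
  simpa using h1.map e.symm

end Groth.Agent.S17977
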