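import Groth.Statements.S17979
import Mathlib.RingTheory.AdjoinRoot
import Mathlib.RingTheory.Nakayama
import Mathlib.Tactic.LinearCombination
import Mathlib.RingTheory.Polynomial.Quotient
-- import your own Groth.Agent.* helpers here

set_option autoImplicit false
universe u
open Hensel

namespace Groth.Agent.S17979

/-- Let A be a local ring with residue field k and Q, R polynomials over A with Q monic. If the images
of Q and R in k[T] generate the unit ideal, then Q and R already generate the unit ideal of A[T]. -/
theorem result (A : Type u) [CommRing A] [IsLocalRing A]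
    (Q R : Polynomial A) (hQ : Q.Monic)
    (h : IsCoprime (Polynomial.map (IsLocalRing.residue A) Q) (Polynomial.map (IsLocalRing.residue A) R)) :
    IsCoprime Q R := by
  obtain ⟨a, b, hab⟩ := h
  obtain ⟨a, rfl⟩ := Polynomial.map_surjective _ IsLocalRing.residue_surjective a
  obtain ⟨b, rfl⟩ := Polynomial.map_surjective _ IsLocalRing.residue_surjective b
  have : Module.Finite A (AdjoinRoot Q) := hQ.finite_adjoinRoot
  set S := AdjoinRoot Q
  set r : S := AdjoinRoot.mk Q R
  set J : Ideal A := IsLocalRing.maximalIdeal A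
  set p := a * Q + b * R - 1 with hp
  have hp0 : p.map (IsLocalRing.residue A) = 0 := by
    simp only [hp, Polynomial.map_sub, Polynomial.map_add, Polynomial.map_mul, Polynomial.map_one, hab, sub_self]
  have hpJ : AdjoinRoot.mk Q p ∈ J • (⊤ : Submodule A S) := by
    rw [Ideal.smul_top_eq_map, Submodule.restrictScalars_mem]
    have h1 : p ∈ J.map Polynomial.C := by
      rw [Ideal.mem_map_C_iff]
      intro i
      rw [← IsLocalRing.residue_eq_zero_iff, ← Polynomial.coeff_map, hp0, Polynomial.coeff_zero]
    have h2 := Ideal.mem_map_of_mem (AdjoinRoot.mk Q) h1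
    rw [Ideal.map_map] at h2
    exact h2
  have key : (⊤ : Submodule A S) ≤ (Ideal.span {r}).restrictScalars A := by
    refine Submodule.le_of_le_smul_of_le_jacobson_bot Module.Finite.fg_top
      (IsLocalRing.maximalIdeal_le_jacobson ⊥) ?_
    intro s _
    have e : s = s * (AdjoinRoot.mk Q b * r) + -(s * AdjoinRoot.mk Q p) := by
      simp [r, hp]
      ring
    rw [e]
    refine Submodule.add_mem_sup ?_ (neg_mem ?_)
    · exact Ideal.mul_mem_left _ _ (Ideal.mul_mem_left _ _ (Ideal.subset_span rfl))
    · rw [Ideal.smul_top_eq_map] at hpJ ⊢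
      exact Ideal.mul_mem_left _ _ hpJ
  obtain ⟨c, hc⟩ := Ideal.mem_span_singleton'.1 (key (Submodule.mem_top (x := 1)))
  obtain ⟨c, rfl⟩ := AdjoinRoot.mk_surjective c
  rw [← map_mul, ← map_one (AdjoinRoot.mk Q), AdjoinRoot.mk_eq_mk] at hc
  obtain ⟨d, hd⟩ := hc
  exact ⟨-d, c, by linear_combination hd⟩

end Groth.Agent.S17979
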