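import Groth.Statements.S17983
import Mathlib
import Mathlib
-- import your own Groth.Agent.* helpers here

set_option autoImplicit false
universe u
open WeilNum

namespace Groth.Agent.S17983

/-- Let p be a prime number, e ≥ 1 and q = p^e. Let π be an element of a field of characteristic zero
which is integral over ℤ, with minimal polynomial P over ℤ, and assume that every complex root of P
has absolute value √q and that no complex root of P is real (π is a nonreal Weil q-number). Then the
degree of P is even, say 2d, and writing a_j for the coefficient of x^j in P one has a_{d−r} = q^r ·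
a_{d+r} for every 0 ≤ r ≤ d. -/
theorem result (p e : ℕ) [Fact p.Prime] (he : 0 < e)
    (K : Type u) [Field K] [CharZero K] (π : K) (hπ : IsIntegral ℤ π)
    (hweil : ∀ z ∈ (minpoly ℤ π).aroots ℂ, ‖z‖ = Real.sqrt ((p : ℝ) ^ e))
    (hnr : ∀ z ∈ (minpoly ℤ π).aroots ℂ, z.im ≠ 0) :
    Even (minpoly ℤ π).natDegree ∧
      ∀ r ≤ (minpoly ℤ π).natDegree / 2,
        (minpoly ℤ π).coeff ((minpoly ℤ π).natDegree / 2 - r) =
          (p : ℤ) ^ (e * r) * (minpoly ℤ π).coeff ((minpoly ℤ π).natDegree / 2 + r) := by
  classical
  set q : ℝ := (p : ℝ) ^ e with hq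
  have hq0 : 0 < q := pow_pos (by exact_mod_cast (Fact.out : p.Prime).pos) _
  set P : Polynomial ℂ := (minpoly ℤ π).map (Int.castRingHom ℂ) with hP
  have hm : (minpoly ℤ π).Monic := minpoly.monic hπ
  have hroots : (minpoly ℤ π).aroots ℂ = P.roots := by
    rw [Polynomial.aroots_def]; rfl
  have hconj : P.roots.map (starRingEnd ℂ) = P.roots := by
    rw [← Polynomial.Splits.roots_map (IsAlgClosed.splits P) (starRingEnd ℂ), hP, Polynomial.map_map]
    congr 2
    exact RingHom.ext_int _ _
  rw [hroots] at hweil hnr
  set S := P.roots.filter (fun z => 0 < z.im) with hS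
  have hSS : S + S.map (starRingEnd ℂ) = P.roots := by
    have : S.map (starRingEnd ℂ) = P.roots.filter (fun z => ¬ 0 < z.im) := by
      conv_rhs => rw [← hconj, Multiset.filter_map]
      rw [hS]
      refine congrArg _ (Multiset.filter_congr fun z hz => ?_)
      simp only [Function.comp_apply, Complex.conj_im, not_lt, neg_nonpos]
      exact ⟨fun h => h.le, fun h => lt_of_le_of_ne h (Ne.symm (hnr z hz))⟩
    rw [this, hS, Multiset.filter_add_not]
  have hdeg : (minpoly ℤ π).natDegree = 2 * Multiset.card S := by
    rw [← hm.natDegree_map (Int.castRingHom ℂ), ← hP, (IsAlgClosed.splits P).natDegree_eq_card_roots, ← hSS,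
      Multiset.card_add, Multiset.card_map]
    ring
  have hprod : P = (S.map (fun z => (Polynomial.X - Polynomial.C z) * (Polynomial.X - Polynomial.C (starRingEnd ℂ z)))).prod := by
    rw [Multiset.prod_map_mul, ← Multiset.prod_add]
    conv_lhs => rw [(IsAlgClosed.splits P).eq_prod_roots_of_monic (hm.map _), ← hSS]
    rw [Multiset.map_add, Multiset.map_map]
    rfl
  have key : ∀ T : Multiset ℂ, T ≤ P.roots →
      ((T.map (fun z => (Polynomial.X - Polynomial.C z) * (Polynomial.X - Polynomial.C (starRingEnd ℂ z)))).prod.natDegree ≤ 2 * Multiset.card T) ∧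
      (T.map (fun z => (Polynomial.X - Polynomial.C z) * (Polynomial.X - Polynomial.C (starRingEnd ℂ z)))).prod.comp (Polynomial.C (q : ℂ) * Polynomial.X) =
        Polynomial.C ((q : ℂ) ^ Multiset.card T) * Polynomial.reflect (2 * Multiset.card T)
          (T.map (fun z => (Polynomial.X - Polynomial.C z) * (Polynomial.X - Polynomial.C (starRingEnd ℂ z)))).prod := by
    intro T
    induction T using Multiset.induction_on with
    | empty => intro _; simp
    | cons z T ih =>
      intro hT
      obtain ⟨ih1, ih2⟩ := ih ((Multiset.le_cons_self _ _).trans hT)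
      have hz : (starRingEnd ℂ z) * z = (q : ℂ) := by
        rw [Complex.conj_mul', hweil z (Multiset.subset_of_le hT (Multiset.mem_cons_self _ _)), ← Complex.ofReal_pow,
          Real.sq_sqrt hq0.le]
      have hquad : ((Polynomial.X - Polynomial.C z) * (Polynomial.X - Polynomial.C (starRingEnd ℂ z))) =
          Polynomial.X ^ 2 + Polynomial.C (-(z + starRingEnd ℂ z)) * Polynomial.X + Polynomial.C (q : ℂ) := by
        rw [← hz]; simp only [map_neg, map_add, map_mul]; ring
      rw [Multiset.map_cons, Multiset.prod_cons, Multiset.card_cons, hquad]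
      set Q := Polynomial.X ^ 2 + Polynomial.C (-(z + starRingEnd ℂ z)) * Polynomial.X + Polynomial.C (q : ℂ) with hQ
      have hQd : Q.natDegree ≤ 2 := by rw [hQ]; compute_degree
      refine ⟨Polynomial.natDegree_mul_le.trans (by omega), ?_⟩
      rw [show 2 * (Multiset.card T + 1) = 2 + 2 * Multiset.card T by ring, Polynomial.reflect_mul _ _ hQd ih1,
        Polynomial.mul_comp, ih2, pow_succ]
      have : Q.comp (Polynomial.C (q : ℂ) * Polynomial.X) = Polynomial.C (q : ℂ) * Polynomial.reflect 2 Q := by
        refine Polynomial.ext fun k => ?_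
        rw [Polynomial.comp_C_mul_X_coeff, Polynomial.coeff_C_mul, Polynomial.coeff_reflect]
        match k with
        | 0 => simp [hQ, Polynomial.revAt_le, Polynomial.coeff_X, Polynomial.coeff_C]
        | 1 => simp [hQ, Polynomial.revAt_le, Polynomial.coeff_X, Polynomial.coeff_C, mul_comm]
        | 2 => simp [hQ, Polynomial.revAt_le, Polynomial.coeff_X, Polynomial.coeff_C, sq]
        | k + 3 =>
          rw [Polynomial.revAt_eq_self_of_lt (show 2 < k + 3 by omega),
            Polynomial.coeff_eq_zero_of_natDegree_lt (show Q.natDegree < k + 3 by omega)]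
          simp
      rw [this, map_mul]
      ring
  obtain ⟨-, hid⟩ := key S (Multiset.filter_le _ _)
  rw [← hprod] at hid
  refine ⟨⟨Multiset.card S, by omega⟩, fun r hr => ?_⟩
  have hM : (minpoly ℤ π).natDegree / 2 = Multiset.card S := by omega
  rw [hM] at hr ⊢
  have h := congrArg (fun f => Polynomial.coeff f (Multiset.card S - r)) hid
  simp only [Polynomial.comp_C_mul_X_coeff, Polynomial.coeff_C_mul, Polynomial.coeff_reflect] at h
  rw [Polynomial.revAt_le (by omega), show 2 * Multiset.card S - (Multiset.card S - r) = Multiset.card S + r by omega,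
    hP, Polynomial.coeff_map, Polynomial.coeff_map] at h
  have hq0' : (q : ℂ) ≠ 0 := by exact_mod_cast hq0.ne'
  rw [show (q : ℂ) ^ Multiset.card S = (q : ℂ) ^ (Multiset.card S - r) * (q : ℂ) ^ r by rw [← pow_add, Nat.sub_add_cancel hr]] at h
  have h' : ((Int.castRingHom ℂ) ((minpoly ℤ π).coeff (Multiset.card S - r))) =
      (q : ℂ) ^ r * (Int.castRingHom ℂ) ((minpoly ℤ π).coeff (Multiset.card S + r)) :=
    mul_right_cancel₀ (pow_ne_zero (Multiset.card S - r) hq0') (h.trans (by ring))
  rw [hq] at h'
  simp only [eq_intCast, Complex.ofReal_pow, Complex.ofReal_natCast, ← pow_mul] at h'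
  exact_mod_cast h'

end Groth.Agent.S17983
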