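import Groth.Statements.S17984
import Mathlib
import Groth.Agent.WeilOrdLib.Basic
-- import your own Groth.Agent.* helpers here

set_option autoImplicit false
universe u
open MvPolynomial
open WeilNum

namespace Groth.Agent.S17984

/-- Let p be a prime, e ≥ 1 and q = p^e. Let (π_i) be a finite family of pairwise nonconjugate Weil
q-numbers: π_i is an element of a field K_i of characteristic zero, integral over ℤ with minimal
polynomial P_i, every complex root of P_i has absolute value √q, and P_i ≠ P_j for i ≠ j. Suppose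
the total degree Σ_i deg P_i is even, equal to 2D (equivalently, the family contains either none or
both of the rational Weil q-numbers ±q^{1/2}). Put P_w = ∏_i P_i and let h ∈ ℤ[F, V] (F = X_0, V =
X_1) be any polynomial with F^D · h ≡ P_w(F) modulo FV − q; such an h exists, is unique modulo FV −
q, and the product of the symmetric polynomials h_{π_i} is one. Then the kernel of the ring map ℤ[F,
V] → ∏_i K_i, F ↦ (π_i), V ↦ (q/π_i), whose image is the minimal central order R_w, is the ideal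
generated by FV − q and h, and (FV − q, h) is a regular sequence in ℤ[F, V]: R_w is the complete
intersection ℤ[F, V]/(FV − q, h). -/
theorem result (p e : ℕ) [Fact p.Prime] (he : 0 < e)
    (ι : Type) [Fintype ι] (K : ι → Type u) [∀ i, Field (K i)] [∀ i, CharZero (K i)] (π : ∀ i, K i)
    (hint : ∀ i, IsIntegral ℤ (π i))
    (hweil : ∀ i, ∀ z ∈ (minpoly ℤ (π i)).aroots ℂ, ‖z‖ = Real.sqrt ((p : ℝ) ^ e))
    (hinj : ∀ i j, minpoly ℤ (π i) = minpoly ℤ (π j) → i = j)
    (D : ℕ) (hD : ∑ i, (minpoly ℤ (π i)).natDegree = 2 * D)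
    (h : MvPolynomial (Fin 2) ℤ)
    (hh : X 0 ^ D * h - Polynomial.aeval (X 0 : MvPolynomial (Fin 2) ℤ) (∏ i, minpoly ℤ (π i)) ∈
      Ideal.span ({X 0 * X 1 - C ((p : ℤ) ^ e)} : Set (MvPolynomial (Fin 2) ℤ))) :
    RingHom.ker (MvPolynomial.aeval ![fun i => π i, fun i => ((p : K i) ^ e) / π i] :
        MvPolynomial (Fin 2) ℤ →ₐ[ℤ] ((i : ι) → K i)) =
        Ideal.span {X 0 * X 1 - C ((p : ℤ) ^ e), h} ∧
      RingTheory.Sequence.IsWeaklyRegular (MvPolynomial (Fin 2) ℤ) [X 0 * X 1 - C ((p : ℤ) ^ e), h] := by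
  classical
  set q : ℤ := (p : ℤ) ^ e with hqdef
  have hq : q ≠ 0 := pow_ne_zero _ (by exact_mod_cast (Fact.out : p.Prime).ne_zero)
  have hsq : (0 : ℝ) < Real.sqrt ((p : ℝ) ^ e) := Real.sqrt_pos.2 (pow_pos (by exact_mod_cast (Fact.out : p.Prime).pos) _)
  set P : Polynomial ℤ := ∏ i, minpoly ℤ (π i) with hPdef
  have hm : ∀ i, (minpoly ℤ (π i)).Monic := fun i => minpoly.monic (hint i)
  have hP : P.Monic := Polynomial.monic_prod_of_monic _ _ fun i _ => hm i
  have hdeg : P.natDegree = 2 * D := by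
    rw [hPdef, Polynomial.natDegree_prod_of_monic _ _ (fun i _ => hm i), hD]
  have hnorm : |(P.coeff 0 : ℤ)| = q ^ D := by
    have h1 : ∀ i, ‖(((minpoly ℤ (π i)).coeff 0 : ℤ) : ℂ)‖ = Real.sqrt ((p : ℝ) ^ e) ^ (minpoly ℤ (π i)).natDegree := by
      intro i
      let f := (minpoly ℤ (π i)).map (Int.castRingHom ℂ)
      have hf : f.Monic := (hm i).map _
      have h2 := (IsAlgClosed.splits f).coeff_zero_eq_prod_roots_of_monic hf
      rw [Polynomial.coeff_map, eq_intCast] at h2
      rw [h2, norm_mul, norm_pow, norm_neg, norm_one, one_pow, one_mul, ← (hm i).natDegree_map (Int.castRingHom ℂ),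
        (IsAlgClosed.splits f).natDegree_eq_card_roots, ← normHom_apply, map_multiset_prod]
      rw [Multiset.map_congr rfl (g := fun _ => Real.sqrt ((p : ℝ) ^ e)) (fun z hz => by
        rw [normHom_apply]
        refine hweil i z ?_
        rw [Polynomial.aroots_def]
        exact hz), Multiset.map_const', Multiset.prod_replicate]
    have h3 : (|(P.coeff 0 : ℤ)| : ℝ) = ((q ^ D : ℤ) : ℝ) := by
      rw [← Complex.norm_intCast, hPdef, Polynomial.coeff_zero_prod, Int.cast_prod, norm_prod]
      simp only [h1]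
      rw [Finset.prod_pow_eq_pow_sum, hD, pow_mul, Real.sq_sqrt (by positivity), hqdef]
      push_cast
      rfl
    exact_mod_cast h3
  obtain ⟨ε, hε, h0⟩ : ∃ ε : ℤ, ε * ε = 1 ∧ P.coeff 0 = ε * q ^ D := by
    rcases le_total 0 (P.coeff 0) with hs | hs
    · exact ⟨1, rfl, by rw [one_mul, ← hnorm, abs_of_nonneg hs]⟩
    · exact ⟨-1, rfl, by rw [← hnorm, abs_of_nonpos hs]; ring⟩
  have hπ0 : ∀ i, π i ≠ 0 := by
    intro i hi
    have hz : (minpoly ℤ (π i)).coeff 0 = 0 := by
      have h1 := minpoly.aeval ℤ (π i)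
      rw [hi, ← Polynomial.coeff_zero_eq_aeval_zero', eq_intCast] at h1
      rw [hi]
      exact_mod_cast h1
    have h2 : P.coeff 0 = 0 := by
      rw [hPdef, Polynomial.coeff_zero_prod]
      exact Finset.prod_eq_zero (Finset.mem_univ i) hz
    rw [h2, abs_zero] at hnorm
    exact pow_ne_zero D hq hnorm.symm
  let ev : MvPolynomial (Fin 2) ℤ →ₐ[ℤ] ((i : ι) → K i) :=
    MvPolynomial.aeval ![fun i => π i, fun i => ((p : K i) ^ e) / π i]
  have hrel : ev (Groth.Agent.WeilOrdLib.rel q) = 0 := by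
    funext i
    simp only [ev, Groth.Agent.WeilOrdLib.rel, map_sub, map_mul, MvPolynomial.aeval_X, MvPolynomial.aeval_C,
      Matrix.cons_val_zero, Matrix.cons_val_one, Pi.sub_apply, Pi.mul_apply, Pi.zero_apply]
    rw [mul_div_cancel₀ _ (hπ0 i), sub_eq_zero]
    simp [hqdef]
  let φ : Groth.Agent.WeilOrdLib.Q q →+* ((i : ι) → K i) := Ideal.Quotient.lift _ ev.toRingHom (fun a ha => by
    obtain ⟨c, rfl⟩ := Ideal.mem_span_singleton'.1 ha
    show ev (c * Groth.Agent.WeilOrdLib.rel q) = 0
    rw [map_mul, hrel, mul_zero])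
  have hφF : φ (Groth.Agent.WeilOrdLib.qF q) = fun i => π i := by
    show ev (MvPolynomial.X 0) = _
    simp [ev]
  have hu : ∀ a : (i : ι) → K i, a * φ (Groth.Agent.WeilOrdLib.qF q) ^ D = 0 → a = 0 := by
    intro a ha
    funext i
    have := congrFun ha i
    rw [hφF, Pi.mul_apply, Pi.pow_apply, Pi.zero_apply] at this
    exact (mul_eq_zero.1 this).resolve_right (pow_ne_zero _ (hπ0 i))
  have hP' : ∀ f : Polynomial ℤ, Polynomial.aeval (φ (Groth.Agent.WeilOrdLib.qF q)) f = 0 ↔ P ∣ f := by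
    intro f
    rw [hφF]
    have hpi : Polynomial.aeval (fun i => π i) f = 0 ↔ ∀ i, Polynomial.aeval (π i) f = 0 := by
      have h1 : ∀ i, Polynomial.aeval (fun i => π i) f i = Polynomial.aeval (π i) f := fun i =>
        (Polynomial.aeval_algHom_apply (Pi.evalAlgHom ℤ K i) (fun i => π i) f).symm
      exact ⟨fun h i => by rw [← h1, h]; rfl, fun h => funext fun i => by rw [h1, h i]; rfl⟩
    rw [hpi]
    constructor
    · intro hf
      refine (Polynomial.map_dvd_map (Int.castRingHom ℚ) Int.cast_injective hP).1 ?_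
      rw [hPdef, Polynomial.map_prod]
      refine Fintype.prod_dvd_of_coprime (fun i j hij => ?_) fun i =>
        Polynomial.map_dvd _ (minpoly.isIntegrallyClosed_dvd (hint i) (hf i))
      have hirr : ∀ i, Irreducible ((minpoly ℤ (π i)).map (Int.castRingHom ℚ)) := fun i =>
        ((hm i).irreducible_iff_irreducible_map_fraction_map (K := ℚ)).1 (minpoly.irreducible (hint i))
      refine (hirr i).coprime_iff_not_dvd.2 fun hd => hij (hinj i j ?_)
      exact Polynomial.map_injective _ Int.cast_injective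
        (Polynomial.eq_of_monic_of_associated ((hm i).map _) ((hm j).map _) ((hirr i).associated_of_dvd (hirr j) hd))
    · intro hf i
      exact Polynomial.aeval_eq_zero_of_dvd_aeval_eq_zero ((Finset.dvd_prod_of_mem (fun i => minpoly ℤ (π i)) (Finset.mem_univ i)).trans hf) (minpoly.aeval ℤ (π i))
  have hh' : Groth.Agent.WeilOrdLib.qF q ^ D * Ideal.Quotient.mk _ h
      = Polynomial.aeval (Groth.Agent.WeilOrdLib.qF q) P := by
    have h1 : Ideal.Quotient.mk (Ideal.span {Groth.Agent.WeilOrdLib.rel q})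
        (MvPolynomial.X 0 ^ D * h - Polynomial.aeval (MvPolynomial.X 0 : MvPolynomial (Fin 2) ℤ) P) = 0 :=
      Ideal.Quotient.eq_zero_iff_mem.2 hh
    rw [map_sub, map_mul, map_pow, sub_eq_zero] at h1
    refine h1.trans ?_
    exact (Polynomial.aeval_algHom_apply (Ideal.Quotient.mkₐ ℤ (Ideal.span {Groth.Agent.WeilOrdLib.rel q})) (MvPolynomial.X 0) P).symm
  have hker := Groth.Agent.WeilOrdLib.ker_eq hq hP hdeg hh' hε h0 φ hu hP'
  constructor
  · show RingHom.ker ev = _
    have h1 : RingHom.ker ev = (RingHom.ker φ).comap (Ideal.Quotient.mk _) := by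
      ext x
      rfl
    rw [h1, hker, ← Set.image_singleton (f := ⇑(Ideal.Quotient.mk (Ideal.span {Groth.Agent.WeilOrdLib.rel q})))]
    rw [← Ideal.map_span, Ideal.comap_map_of_surjective _ Ideal.Quotient.mk_surjective, ← RingHom.ker_eq_comap_bot,
      Ideal.mk_ker, sup_comm, ← Ideal.span_union, Set.singleton_union]
    rfl
  · rw [RingTheory.Sequence.isWeaklyRegular_cons_iff, RingTheory.Sequence.isWeaklyRegular_singleton_iff]
    have hne : (MvPolynomial.X 0 * MvPolynomial.X 1 - MvPolynomial.C q : MvPolynomial (Fin 2) ℤ) ≠ 0 := by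
      intro h'
      have := congrArg (MvPolynomial.eval ![(0 : ℤ), 0]) h'
      simp [hq] at this
    refine ⟨fun a b h' => mul_left_cancel₀ hne h', ?_⟩
    rw [isSMulRegular_quotient_iff_mem_of_smul_mem]
    intro x hx
    open scoped Pointwise in
    have hspan : ((MvPolynomial.X 0 * MvPolynomial.X 1 - MvPolynomial.C q : MvPolynomial (Fin 2) ℤ) • (⊤ : Submodule (MvPolynomial (Fin 2) ℤ) (MvPolynomial (Fin 2) ℤ)))
        = Ideal.span {Groth.Agent.WeilOrdLib.rel q} := by
      rw [← Submodule.ideal_span_singleton_smul, smul_eq_mul, Ideal.mul_top]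
      rfl
    rw [hspan] at hx ⊢
    refine Ideal.Quotient.eq_zero_iff_mem.1 (Groth.Agent.WeilOrdLib.regular_h hq hP hh' (x := Ideal.Quotient.mk _ x) ?_)
    rw [← map_mul]
    exact Ideal.Quotient.eq_zero_iff_mem.2 hx

end Groth.Agent.S17984
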