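import Groth.Statements.S17985
import Mathlib
import Groth.Agent.WeilOrdLib.Family
import Groth.Agent.GorLib.FieldExt
import Groth.Agent.DualCxLib.QuotDual
import Groth.Agent.CommAlgDim.Integral
-- import your own Groth.Agent.* helpers here

set_option autoImplicit false
universe u
open MvPolynomial
open WeilNum

namespace Groth.Agent.S17985

/-- Let p be a prime, e ≥ 1 and q = p^e. Let (π_i) be a nonempty finite family of pairwise nonconjugate
Weil q-numbers: π_i is an element of a field K_i of characteristic zero, integral over ℤ with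
minimal polynomial P_i, every complex root of P_i has absolute value √q, and P_i ≠ P_j for i ≠ j.
Suppose the total degree Σ_i deg P_i is even, equal to 2D. Let R_w be the minimal central order, the
image of ℤ[F, V] → ∏_i K_i, F ↦ (π_i), V ↦ (q/π_i). Then R_w is free of rank 2D as a ℤ-module, has
Krull dimension 1, and is a Gorenstein ring (Noetherian, with all localizations at primes of finite
injective dimension over themselves). -/
theorem result (p e : ℕ) [Fact p.Prime] (he : 0 < e)
    (ι : Type) [Fintype ι] (K : ι → Type u) [∀ i, Field (K i)] [∀ i, CharZero (K i)] (π : ∀ i, K i)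
    (hint : ∀ i, IsIntegral ℤ (π i))
    (hweil : ∀ i, ∀ z ∈ (minpoly ℤ (π i)).aroots ℂ, ‖z‖ = Real.sqrt ((p : ℝ) ^ e))
    (hinj : ∀ i j, minpoly ℤ (π i) = minpoly ℤ (π j) → i = j)
    [Nonempty ι] (D : ℕ) (hD : ∑ i, (minpoly ℤ (π i)).natDegree = 2 * D) :
    Module.Free ℤ (MvPolynomial.aeval ![fun i => π i, fun i => ((p : K i) ^ e) / π i] :
        MvPolynomial (Fin 2) ℤ →ₐ[ℤ] ((i : ι) → K i)).range ∧
      Module.finrank ℤ (MvPolynomial.aeval ![fun i => π i, fun i => ((p : K i) ^ e) / π i] :
        MvPolynomial (Fin 2) ℤ →ₐ[ℤ] ((i : ι) → K i)).range = 2 * D ∧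
      ringKrullDim (MvPolynomial.aeval ![fun i => π i, fun i => ((p : K i) ^ e) / π i] :
        MvPolynomial (Fin 2) ℤ →ₐ[ℤ] ((i : ι) → K i)).range = 1 ∧
      LocCoh.IsGorensteinRing (MvPolynomial.aeval ![fun i => π i, fun i => ((p : K i) ^ e) / π i] :
        MvPolynomial (Fin 2) ℤ →ₐ[ℤ] ((i : ι) → K i)).range := by
  classical
  obtain ⟨φ, h, hφev, hreg, hker, hh, htop, hind⟩ :=
    Groth.Agent.WeilOrdLib.family p e ι K π hint hweil hinj D hD
  let q : ℤ := (p : ℤ) ^ e
  have hq : q ≠ 0 := pow_ne_zero _ (by exact_mod_cast (Fact.out : p.Prime).ne_zero)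
  let ev : MvPolynomial (Fin 2) ℤ →ₐ[ℤ] ((i : ι) → K i) :=
    MvPolynomial.aeval ![fun i => π i, fun i => ((p : K i) ^ e) / π i]
  show Module.Free ℤ ev.range ∧ Module.finrank ℤ ev.range = 2 * D ∧ ringKrullDim ev.range = 1 ∧
    LocCoh.IsGorensteinRing ev.range
  have hmem : ∀ x, φ x ∈ ev.range := fun x => by
    obtain ⟨y, rfl⟩ := Ideal.Quotient.mk_surjective x
    exact ⟨y, (hφev y).symm⟩
  let ψ : Groth.Agent.WeilOrdLib.Q q →+* ev.range := φ.codRestrict ev.range hmem
  have hψ : Function.Surjective ψ := by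
    rintro ⟨_, y, rfl⟩
    exact ⟨Ideal.Quotient.mk _ y, Subtype.ext (hφev y)⟩
  have hψker : RingHom.ker ψ = Ideal.span {h} := by
    rw [← hker]
    ext x
    simp only [RingHom.mem_ker, ← Subalgebra.coe_eq_zero]
    rfl
  let idx := Set.Ico (-(D : ℤ)) (D : ℤ)
  have heb : LinearIndependent ℤ (Groth.Agent.WeilOrdLib.eb q) := by
    rw [linearIndependent_iff]
    intro c hc
    rw [Finsupp.linearCombination_apply] at hc
    ext j
    have h1 := Groth.Agent.WeilOrdLib.toL_nf (q := q) c j
    rw [hc, map_zero, AddMonoidAlgebra.coeff_zero, Finsupp.zero_apply, eq_comm, mul_eq_zero, Int.cast_eq_zero] at h1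
    exact h1.resolve_right (pow_ne_zero _ (Int.cast_ne_zero.2 hq))
  let f : Groth.Agent.WeilOrdLib.Q q →ₗ[ℤ] ev.range := ψ.toAddMonoidHom.toIntLinearMap
  have hspan : Submodule.span ℤ (Set.range fun j : idx => Groth.Agent.WeilOrdLib.eb q j) = Groth.Agent.WeilOrdLib.M q D := by
    rw [Groth.Agent.WeilOrdLib.M, Set.image_eq_range]
  have hv : LinearIndependent ℤ (f ∘ fun j : idx => Groth.Agent.WeilOrdLib.eb q j) := by
    refine (heb.comp _ Subtype.val_injective).map ?_
    rw [Submodule.disjoint_def]
    intro z hz hz0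
    exact hind z (hspan ▸ hz) (congrArg Subtype.val (LinearMap.mem_ker.1 hz0))
  have hsp : (⊤ : Submodule ℤ ev.range) ≤ Submodule.span ℤ (Set.range (f ∘ fun j : idx => Groth.Agent.WeilOrdLib.eb q j)) := by
    intro r _
    obtain ⟨x, rfl⟩ := hψ r
    obtain ⟨z, hz, y, hy, rfl⟩ := Submodule.mem_sup.1 (htop.ge (Submodule.mem_top (x := x)))
    rw [map_add, show ψ y = 0 from (hψker.ge hy : y ∈ RingHom.ker ψ), add_zero, Set.range_comp, Submodule.span_image, hspan]
    exact ⟨z, hz, rfl⟩
  let b := Module.Basis.mk hv hsp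
  have hfree : Module.Free ℤ ev.range := Module.Free.of_basis b
  have hrank : Module.finrank ℤ ev.range = 2 * D := by
    rw [Module.finrank_eq_card_basis b, Fintype.card_ofFinset, Int.card_Ico]
    omega
  haveI : Module.Finite ℤ ev.range := Module.Finite.of_basis b
  haveI : Nontrivial ((i : ι) → K i) := inferInstance
  haveI : Nontrivial ev.range := ⟨1, 0, fun h0 => one_ne_zero (congrArg Subtype.val h0)⟩
  have hinjZ : Function.Injective (algebraMap ℤ ev.range) := by
    intro a c hac
    obtain ⟨i⟩ := ‹Nonempty ι›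
    have h1 := congrFun (congrArg Subtype.val hac) i
    simpa using h1
  haveI : FaithfulSMul ℤ ev.range := (faithfulSMul_iff_algebraMap_injective ℤ ev.range).2 hinjZ
  haveI : Algebra.IsIntegral ℤ ev.range := Algebra.IsIntegral.of_finite ℤ _
  refine ⟨hfree, hrank, ?_, ?_⟩
  · rw [CommAlgDim.ringKrullDim_eq_of_integral ℤ ev.range hinjZ]
    exact IsPrincipalIdealRing.ringKrullDim_eq_one ℤ Int.not_isField
  · let U := ULift.{u} ℤ
    haveI : IsRegularRing U := IsRegularRing.of_ringEquiv (ULift.ringEquiv (R := ℤ)).symm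
    have hS : LocCoh.IsGorensteinRing (MvPolynomial (Fin 2) U) :=
      { isGorensteinLocalRing_localization := fun P _ => by
          haveI : IsRegularLocalRing (Localization.AtPrime P) := IsRegularRing.isRegularLocalRing_localization P
          exact DualCxLib.gorenstein_of_regular _ }
    have hne : Groth.Agent.WeilOrdLib.rel q ≠ 0 := by
      intro h'
      have := congrArg (MvPolynomial.eval ![(0 : ℤ), 0]) h'
      simp [Groth.Agent.WeilOrdLib.rel, hq] at this
    let E : MvPolynomial (Fin 2) U ≃+* MvPolynomial (Fin 2) ℤ := MvPolynomial.mapEquiv (Fin 2) (ULift.ringEquiv (R := ℤ))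
    let L : ULift.{u} (Groth.Agent.WeilOrdLib.Q q) ≃+* Groth.Agent.WeilOrdLib.Q q := ULift.ringEquiv
    let σ : MvPolynomial (Fin 2) U →+* ULift.{u} (Groth.Agent.WeilOrdLib.Q q) :=
      L.symm.toRingHom.comp ((Ideal.Quotient.mk (Ideal.span {Groth.Agent.WeilOrdLib.rel q})).comp E.toRingHom)
    have hQ := GorLib.gorensteinRing_of_surjective_span_singleton (p := E.symm (Groth.Agent.WeilOrdLib.rel q)) hS σ
      (L.symm.surjective.comp (Ideal.Quotient.mk_surjective.comp E.surjective)) (by
        ext x
        rw [RingHom.mem_ker, Ideal.mem_span_singleton]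
        refine (map_eq_zero_iff L.symm L.symm.injective).trans (Ideal.Quotient.eq_zero_iff_mem.trans ?_)
        rw [Ideal.mem_span_singleton]
        constructor
        · intro hx
          have := map_dvd E.symm hx
          rwa [RingEquiv.toRingHom_eq_coe, RingEquiv.coe_toRingHom, RingEquiv.symm_apply_apply] at this
        · intro hx
          have := map_dvd E hx
          rwa [RingEquiv.apply_symm_apply] at this) (fun x hx => by
        have h1 := congrArg E hx
        rw [map_mul, RingEquiv.apply_symm_apply, map_zero] at h1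
        exact (map_eq_zero_iff E E.injective).1 ((mul_eq_zero.1 h1).resolve_left hne))
    refine GorLib.gorensteinRing_of_surjective_span_singleton (p := L.symm h) hQ (ψ.comp L.toRingHom)
      (hψ.comp L.surjective) ?_ ?_
    · ext x
      rw [RingHom.mem_ker, Ideal.mem_span_singleton]
      show L x ∈ RingHom.ker ψ ↔ _
      rw [hψker]
      refine Ideal.mem_span_singleton.trans ⟨fun hx => ?_, fun hx => ?_⟩
      · have := map_dvd L.symm hx
        rwa [RingEquiv.symm_apply_apply] at this
      · have := map_dvd L hx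
        rwa [RingEquiv.apply_symm_apply] at this
    · intro x hx
      have h1 := congrArg L hx
      rw [map_mul, RingEquiv.apply_symm_apply, map_zero] at h1
      exact (map_eq_zero_iff L L.injective).1 (hreg (L x) h1)

end Groth.Agent.S17985
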