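import Groth.Statements.S17986
import Mathlib
import Groth.Agent.WeilOrdLib.Family
import Groth.Agent.WeilOrdLib.Units
import Groth.Agent.WeilOrdLib.Sq
import Groth.Agent.WeilOrdLib.SqLocal
import Groth.Agent.GorLib.Fibres
import Groth.Agent.S17983
-- import your own Groth.Agent.* helpers here

set_option autoImplicit false
universe u
open MvPolynomial
open scoped Classical
open WeilNum

namespace Groth.Agent.S17986

/-- Let p be a prime, e ≥ 1, and assume q = p^e = s² for an integer s (of either sign; s is then a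
rational Weil q-number). Let (π_i) be a finite family of pairwise nonconjugate nonrational Weil
q-numbers: π_i lies in a field K_i of characteristic zero, is integral over ℤ with minimal
polynomial P_i of degree different from 1, every complex root of P_i has absolute value √q, and P_i
≠ P_j for i ≠ j (since q is a square these π_i are nonreal, so Σ_i deg P_i = 2D is even). Put P_v =
∏_i P_i and let h ∈ ℤ[F, V] (F = X_0, V = X_1) be any polynomial with F^D · h ≡ P_v(F) modulo FV −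
q. Consider the ring map ℤ[F, V] → (∏_i K_i) × ℚ sending F to ((π_i)_i, s) and V to ((q/π_i)_i, s);
its image R_w is the minimal central order of the family enlarged by s. Then: (1) its kernel is the
ideal generated by FV − q, h · (F − s) and h · (V − s); (2) R_w is a Gorenstein ring if and only if
every π_i is ordinary, meaning that exactly half of the roots of P_i in an algebraic closure of ℚ_p,
counted with multiplicity, are p-adic units. -/
theorem result (p e : ℕ) [Fact p.Prime] (he : 0 < e)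
    (s : ℤ) (hs : s ^ 2 = (p : ℤ) ^ e)
    (ι : Type) [Fintype ι] (K : ι → Type u) [∀ i, Field (K i)] [∀ i, CharZero (K i)] (π : ∀ i, K i)
    (hint : ∀ i, IsIntegral ℤ (π i)) (hdeg : ∀ i, (minpoly ℤ (π i)).natDegree ≠ 1)
    (hweil : ∀ i, ∀ z ∈ (minpoly ℤ (π i)).aroots ℂ, ‖z‖ = Real.sqrt ((p : ℝ) ^ e))
    (hinj : ∀ i j, minpoly ℤ (π i) = minpoly ℤ (π j) → i = j)
    (D : ℕ) (hD : ∑ i, (minpoly ℤ (π i)).natDegree = 2 * D)
    (h : MvPolynomial (Fin 2) ℤ)
    (hh : X 0 ^ D * h - Polynomial.aeval (X 0 : MvPolynomial (Fin 2) ℤ) (∏ i, minpoly ℤ (π i)) ∈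
      Ideal.span ({X 0 * X 1 - C ((p : ℤ) ^ e)} : Set (MvPolynomial (Fin 2) ℤ))) :
    RingHom.ker (MvPolynomial.aeval ![(⟨fun i => π i, (s : ℚ)⟩ : ((i : ι) → K i) × ℚ), ⟨fun i => ((p : K i) ^ e) / π i, (s : ℚ)⟩] :
        MvPolynomial (Fin 2) ℤ →ₐ[ℤ] (((i : ι) → K i) × ℚ)) =
        Ideal.span {X 0 * X 1 - C ((p : ℤ) ^ e), h * (X 0 - C s), h * (X 1 - C s)} ∧
      (LocCoh.IsGorensteinRing (MvPolynomial.aeval ![(⟨fun i => π i, (s : ℚ)⟩ : ((i : ι) → K i) × ℚ), ⟨fun i => ((p : K i) ^ e) / π i, (s : ℚ)⟩] :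
        MvPolynomial (Fin 2) ℤ →ₐ[ℤ] (((i : ι) → K i) × ℚ)).range ↔
        ∀ i, 2 * Multiset.card (((minpoly ℤ (π i)).aroots (PadicAlgCl p)).filter (fun z => ‖z‖ = 1)) = (minpoly ℤ (π i)).natDegree) := by
  classical
  obtain ⟨φ, h', hφev, hreg, hker, hh', -, -⟩ :=
    Groth.Agent.WeilOrdLib.family p e ι K π hint hweil hinj D hD
  let q : ℤ := (p : ℤ) ^ e
  let F : Groth.Agent.WeilOrdLib.Q q := Groth.Agent.WeilOrdLib.qF q
  let V : Groth.Agent.WeilOrdLib.Q q := Groth.Agent.WeilOrdLib.qV q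
  have hp : p.Prime := Fact.out
  have hq : q ≠ 0 := pow_ne_zero _ (by exact_mod_cast hp.ne_zero)
  have hss : s * s = q := by rw [← sq]; exact hs
  have hs0 : s ≠ 0 := fun h0 => hq (by rw [← hss, h0, zero_mul])
  have hps : (p : ℤ) ∣ s := by
    refine (Nat.prime_iff_prime_int.1 hp).dvd_of_dvd_pow (n := 2) ?_
    rw [hs]; exact dvd_pow_self _ (by omega)
  have hm : ∀ i, (minpoly ℤ (π i)).Monic := fun i => minpoly.monic (hint i)
  have hno : ∀ i (m : ℤ), (minpoly ℤ (π i)).eval m ≠ 0 := by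
    intro i m hm0
    refine hdeg i ?_
    have h1 : Polynomial.X - Polynomial.C m ∣ minpoly ℤ (π i) := Polynomial.dvd_iff_isRoot.2 hm0
    have h2 := ((minpoly.irreducible (hint i)).dvd_iff.1 h1).resolve_left (Polynomial.not_isUnit_X_sub_C m)
    rw [Polynomial.natDegree_eq_of_degree_eq (Polynomial.degree_eq_degree_of_associated h2), Polynomial.natDegree_X_sub_C]
  have hsR : (s : ℝ) ^ 2 = (p : ℝ) ^ e := by exact_mod_cast congrArg (fun z : ℤ => (z : ℝ)) hs
  have hnr : ∀ i, ∀ z ∈ (minpoly ℤ (π i)).aroots ℂ, z.im ≠ 0 := by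
    intro i z hz him
    have h1 := hweil i z hz
    obtain ⟨r, rfl⟩ := Complex.conj_eq_iff_real.1 (Complex.conj_eq_iff_im.2 him)
    rw [Complex.norm_real, Real.norm_eq_abs, ← hsR, Real.sqrt_sq_eq_abs] at h1
    have h3 := (Polynomial.mem_aroots.1 hz).2
    rw [Polynomial.aeval_def, algebraMap_int_eq] at h3
    have h4 : ∀ m : ℤ, r = (m : ℝ) → False := by
      rintro m rfl
      rw [show (((m : ℝ)) : ℂ) = Int.castRingHom ℂ m by simp, Polynomial.eval₂_at_apply, eq_intCast,
        Int.cast_eq_zero] at h3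
      exact hno i m h3
    rcases abs_eq_abs.1 h1 with h2 | h2
    · exact h4 s h2
    · exact h4 (-s) (by rw [Int.cast_neg]; exact h2)
  choose hev' hsym using fun i => Groth.Agent.S17983.result p e he (K i) (π i) (hint i) (hweil i) (hnr i)
  have hd2 : ∀ i, (minpoly ℤ (π i)).natDegree = 2 * ((minpoly ℤ (π i)).natDegree / 2) := fun i => by
    obtain ⟨k, hk⟩ := hev' i; omega
  have hDd : ∑ i, (minpoly ℤ (π i)).natDegree / 2 = D := by
    have h1 : ∑ i, (minpoly ℤ (π i)).natDegree = ∑ i, 2 * ((minpoly ℤ (π i)).natDegree / 2) :=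
      Finset.sum_congr rfl fun i _ => hd2 i
    rw [← Finset.mul_sum, hD] at h1; omega
  let P : Polynomial ℤ := ∏ i, minpoly ℤ (π i)
  have hP : P.Monic := Polynomial.monic_prod_of_monic _ _ fun i _ => hm i
  have hPd : P.natDegree = 2 * D := by
    rw [Polynomial.natDegree_prod_of_monic _ _ (fun i _ => hm i), hD]
  have hlow : ∀ i, ∀ j < (minpoly ℤ (π i)).natDegree / 2, (p : ℤ) ∣ (minpoly ℤ (π i)).coeff j := by
    intro i j hj
    have h1 := hsym i ((minpoly ℤ (π i)).natDegree / 2 - j) (by omega)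
    rw [show (minpoly ℤ (π i)).natDegree / 2 - ((minpoly ℤ (π i)).natDegree / 2 - j) = j by omega] at h1
    rw [h1]
    exact dvd_mul_of_dvd_left (dvd_pow_self _ (Nat.mul_ne_zero (by omega) (by omega))) _
  have hP0 : P.coeff 0 = q ^ D := by
    rw [Polynomial.coeff_zero_prod, ← hDd, ← Finset.prod_pow_eq_pow_sum]
    refine Finset.prod_congr rfl fun i _ => ?_
    have h1 := hsym i ((minpoly ℤ (π i)).natDegree / 2) le_rfl
    rw [Nat.sub_self, ← two_mul, ← hd2 i, (hm i).coeff_natDegree, mul_one, pow_mul] at h1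
    exact h1
  have hmk : Ideal.Quotient.mk (Ideal.span {Groth.Agent.WeilOrdLib.rel q}) h = h' := by
    have h1 := Ideal.Quotient.eq_zero_iff_mem.2 hh
    change Ideal.Quotient.mk (Ideal.span {Groth.Agent.WeilOrdLib.rel q}) _ = 0 at h1
    rw [map_sub, map_mul, map_pow, sub_eq_zero] at h1
    have h2 : Ideal.Quotient.mk (Ideal.span {Groth.Agent.WeilOrdLib.rel q})
        (Polynomial.aeval (MvPolynomial.X 0 : MvPolynomial (Fin 2) ℤ) P) = Polynomial.aeval F P :=
      (Polynomial.aeval_algHom_apply (Ideal.Quotient.mkₐ ℤ (Ideal.span {Groth.Agent.WeilOrdLib.rel q}))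
        (MvPolynomial.X 0 : MvPolynomial (Fin 2) ℤ) P).symm
    rw [h2, ← hh'] at h1
    apply Groth.Agent.WeilOrdLib.toL_injective hq
    have h3 := congrArg (Groth.Agent.WeilOrdLib.toL q) h1
    rw [map_mul, map_mul] at h3
    refine mul_left_cancel₀ ?_ h3
    rw [map_pow]
    refine pow_ne_zero _ ?_
    show Groth.Agent.WeilOrdLib.toL q (Groth.Agent.WeilOrdLib.qF q) ≠ 0
    rw [Groth.Agent.WeilOrdLib.toL_qF]
    exact (LaurentPolynomial.isUnit_T _).ne_zero
  have hγs : s * s = ((q : ℤ) : ℤ) := by simpa using hss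
  let γs : Groth.Agent.WeilOrdLib.Q q →+* ℤ := Groth.Agent.WeilOrdLib.evQ s s hγs
  have hγsF : γs F = s := Groth.Agent.WeilOrdLib.evQ_qF _ _ _
  have hγsV : γs V = s := Groth.Agent.WeilOrdLib.evQ_qV _ _ _
  have hγm : ∀ z, γs z = 0 → ∃ u v : Groth.Agent.WeilOrdLib.Q q, z = (F - s) * u + (V - s) * v :=
    fun z hz => Groth.Agent.WeilOrdLib.exists_eq_of_evQ_eq_zero hss z hz
  have hγsh : γs h' ≠ 0 := by
    intro h0
    have h1 := congrArg γs hh'
    rw [map_mul, h0, mul_zero] at h1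
    have h2 : γs (Polynomial.aeval F P) = P.eval s := by
      rw [← Polynomial.coe_aeval_eq_eval, ← hγsF]
      exact (Polynomial.aeval_algHom_apply γs.toIntAlgHom F P).symm
    rw [h2, Polynomial.eval_prod] at h1
    obtain ⟨i, -, hi⟩ := Finset.prod_eq_zero_iff.1 h1.symm
    exact hno i s hi
  let e2 : MvPolynomial (Fin 2) ℤ →ₐ[ℤ] (((i : ι) → K i) × ℚ) :=
    MvPolynomial.aeval ![(⟨fun i => π i, (s : ℚ)⟩ : ((i : ι) → K i) × ℚ), ⟨fun i => ((p : K i) ^ e) / π i, (s : ℚ)⟩]
  show RingHom.ker e2 = Ideal.span {MvPolynomial.X 0 * MvPolynomial.X 1 - MvPolynomial.C ((p : ℤ) ^ e),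
      h * (MvPolynomial.X 0 - MvPolynomial.C s), h * (MvPolynomial.X 1 - MvPolynomial.C s)} ∧
    (LocCoh.IsGorensteinRing e2.range ↔ ∀ i, 2 * Multiset.card (((minpoly ℤ (π i)).aroots (PadicAlgCl p)).filter (fun z => ‖z‖ = 1)) = (minpoly ℤ (π i)).natDegree)
  have he2 : ∀ x, e2 x = (φ (Ideal.Quotient.mk _ x), ((γs (Ideal.Quotient.mk _ x) : ℤ) : ℚ)) := by
    intro x
    induction x using MvPolynomial.induction_on with
    | C n => simp [Prod.ext_iff]
    | add f g hf hg => simp only [map_add, hf, hg, Int.cast_add, Prod.mk_add_mk]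
    | mul_X f i hf =>
      simp only [map_mul, hf, Int.cast_mul, ← Prod.mk_mul_mk]
      congr 1
      rw [hφev]
      fin_cases i <;> simp [e2, γs, Groth.Agent.WeilOrdLib.evQ_mk]
  let ψ : Groth.Agent.WeilOrdLib.Q q →+* e2.range := Ideal.Quotient.lift _ e2.rangeRestrict.toRingHom (fun x hx => by
    refine Subtype.ext ?_
    show e2 x = 0
    rw [he2, Ideal.Quotient.eq_zero_iff_mem.2 hx, map_zero, map_zero, Int.cast_zero]
    rfl)
  have hψc : ∀ z, ((ψ z : e2.range) : ((i : ι) → K i) × ℚ) = (φ z, ((γs z : ℤ) : ℚ)) := fun z => by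
    obtain ⟨x, rfl⟩ := Ideal.Quotient.mk_surjective z
    exact he2 x
  have hψs : Function.Surjective ψ := by
    rintro ⟨_, y, rfl⟩
    exact ⟨Ideal.Quotient.mk _ y, rfl⟩
  have hψ0 : ∀ z, ψ z = 0 ↔ φ z = 0 ∧ γs z = 0 := fun z => by
    rw [← Subalgebra.coe_eq_zero, hψc, Prod.mk_eq_zero, Int.cast_eq_zero]
  have hkerψ : ∀ z, ψ z = 0 → ∃ y, γs y = 0 ∧ z = h' * y := by
    intro z hz
    obtain ⟨h1, h2⟩ := (hψ0 z).1 hz
    obtain ⟨y, rfl⟩ := Ideal.mem_span_singleton'.1 (hker.le (RingHom.mem_ker.2 h1))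
    rw [map_mul] at h2
    exact ⟨y, (mul_eq_zero.1 h2).resolve_right hγsh, mul_comm _ _⟩
  have hψhm : ∀ y, γs y = 0 → ψ (h' * y) = 0 := by
    intro y hy
    refine (hψ0 _).2 ⟨?_, by rw [map_mul, hy, mul_zero]⟩
    rw [map_mul, show φ h' = 0 from RingHom.mem_ker.1 (hker.ge (Ideal.mem_span_singleton_self h')), zero_mul]
  refine ⟨?_, ?_⟩
  · refine le_antisymm (fun x hx => ?_) ?_
    · have h1 : ψ (Ideal.Quotient.mk _ x) = 0 := Subtype.ext (RingHom.mem_ker.1 hx)
      obtain ⟨y, hy, hxy⟩ := hkerψ _ h1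
      obtain ⟨y, rfl⟩ := Ideal.Quotient.mk_surjective y
      have hy' : y ∈ Ideal.span {MvPolynomial.X 0 - MvPolynomial.C s, MvPolynomial.X 1 - MvPolynomial.C s} := by
        have h2 := Groth.Agent.WeilOrdLib.sub_C_eval_mem s s y
        have h3 : MvPolynomial.eval ![s, s] y = 0 := by
          rw [← hy]; exact (RingHom.congr_fun (MvPolynomial.coe_aeval_eq_eval _) y).symm
        rwa [h3, map_zero, sub_zero] at h2
      obtain ⟨u, v, huv⟩ := Ideal.mem_span_pair.1 hy'
      rw [← hmk, ← map_mul, Ideal.Quotient.eq, Ideal.mem_span_singleton'] at hxy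
      obtain ⟨w, hw⟩ := hxy
      have h4 : x = w * Groth.Agent.WeilOrdLib.rel q + (u * (h * (MvPolynomial.X 0 - MvPolynomial.C s)) +
          v * (h * (MvPolynomial.X 1 - MvPolynomial.C s))) := by
        rw [← huv] at hw
        linear_combination -hw
      rw [h4]
      refine Ideal.add_mem _ (Ideal.mul_mem_left _ _ (Ideal.subset_span (Set.mem_insert _ _))) (Ideal.add_mem _
        (Ideal.mul_mem_left _ _ (Ideal.subset_span (by simp))) (Ideal.mul_mem_left _ _ (Ideal.subset_span (by simp))))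
    · rw [Ideal.span_le]
      have key : ∀ x, ψ (Ideal.Quotient.mk _ x) = 0 → x ∈ RingHom.ker e2 := fun x hx =>
        RingHom.mem_ker.2 (congrArg Subtype.val hx)
      intro x hx
      rcases hx with rfl | rfl | rfl
      · refine key _ ?_
        rw [show Ideal.Quotient.mk (Ideal.span {Groth.Agent.WeilOrdLib.rel q})
          (MvPolynomial.X 0 * MvPolynomial.X 1 - MvPolynomial.C ((p : ℤ) ^ e)) = 0 from
          Ideal.Quotient.eq_zero_iff_mem.2 (Ideal.mem_span_singleton_self _), map_zero]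
      · refine key _ ?_
        rw [map_mul, hmk]
        refine hψhm _ ?_
        simp [γs, Groth.Agent.WeilOrdLib.evQ_mk]
      · refine key _ ?_
        rw [map_mul, hmk]
        refine hψhm _ ?_
        simp [γs, Groth.Agent.WeilOrdLib.evQ_mk]
  have hpk : ((q : ℤ) : ZMod p) = 0 := by
    rw [show ((q : ℤ) : ZMod p) = (p : ZMod p) ^ e by simp [q], ZMod.natCast_self, zero_pow (by omega)]
  have hpX : ((q : ℤ) : Polynomial (ZMod p)) = 0 := by
    rw [← map_intCast (Polynomial.C : ZMod p →+* Polynomial (ZMod p)), hpk, map_zero]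
  have hα : Polynomial.X * (0 : Polynomial (ZMod p)) = ((q : ℤ) : Polynomial (ZMod p)) := by rw [hpX, mul_zero]
  have hβ : (0 : Polynomial (ZMod p)) * Polynomial.X = ((q : ℤ) : Polynomial (ZMod p)) := by rw [hpX, zero_mul]
  have hγ : (0 : ZMod p) * 0 = ((q : ℤ) : ZMod p) := by rw [hpk, zero_mul]
  let α : Groth.Agent.WeilOrdLib.Q q →+* Polynomial (ZMod p) := Groth.Agent.WeilOrdLib.evQ _ _ hα
  let β : Groth.Agent.WeilOrdLib.Q q →+* Polynomial (ZMod p) := Groth.Agent.WeilOrdLib.evQ _ _ hβ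
  let γ : Groth.Agent.WeilOrdLib.Q q →+* ZMod p := Groth.Agent.WeilOrdLib.evQ _ _ hγ
  have hαF : α F = Polynomial.X := Groth.Agent.WeilOrdLib.evQ_qF _ _ _
  have hαV : α V = 0 := Groth.Agent.WeilOrdLib.evQ_qV _ _ _
  have hβF : β F = 0 := Groth.Agent.WeilOrdLib.evQ_qF _ _ _
  have hγF : γ F = 0 := Groth.Agent.WeilOrdLib.evQ_qF _ _ _
  have hγV : γ V = 0 := Groth.Agent.WeilOrdLib.evQ_qV _ _ _
  have hαγ : ∀ z, (α z).eval 0 = γ z := fun z => by
    rw [Groth.Agent.WeilOrdLib.eval_evQ _ _ hα (by simp [hpk])]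
    congr 2 <;> simp
  have hβγ : ∀ z, (β z).eval 0 = γ z := fun z => by
    rw [Groth.Agent.WeilOrdLib.eval_evQ _ _ hβ (by simp [hpk])]
    congr 2 <;> simp
  have hγh : γ h' = ∏ i, ((((minpoly ℤ (π i)).coeff ((minpoly ℤ (π i)).natDegree / 2) : ℤ)) : ZMod p) := by
    have h1 := congrArg α hh'
    rw [map_mul, map_pow, hαF, show α (Polynomial.aeval F P) = P.map (Int.castRingHom (ZMod p)) from
      Groth.Agent.WeilOrdLib.evQ_aeval _ hα P] at h1
    have h2 : ∀ i, Polynomial.X ^ ((minpoly ℤ (π i)).natDegree / 2) ∣ (minpoly ℤ (π i)).map (Int.castRingHom (ZMod p)) :=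
      fun i => Polynomial.X_pow_dvd_iff.2 fun j hj => by
        rw [Polynomial.coeff_map, eq_intCast, ZMod.intCast_zmod_eq_zero_iff_dvd]
        exact hlow i j hj
    choose g hg using h2
    rw [Polynomial.map_prod, Finset.prod_congr rfl (fun i _ => hg i), Finset.prod_mul_distrib,
      Finset.prod_pow_eq_pow_sum, hDd] at h1
    rw [← hαγ, mul_left_cancel₀ (pow_ne_zero D Polynomial.X_ne_zero) h1, Polynomial.eval_prod]
    refine Finset.prod_congr rfl fun i _ => ?_
    rw [← eq_intCast (Int.castRingHom (ZMod p)), ← Polynomial.coeff_map, hg i, ← Polynomial.coeff_zero_eq_eval_zero]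
    simpa using (Polynomial.coeff_X_pow_mul (g i) ((minpoly ℤ (π i)).natDegree / 2) 0).symm
  have hord : (∀ i, 2 * Multiset.card (((minpoly ℤ (π i)).aroots (PadicAlgCl p)).filter (fun z => ‖z‖ = 1)) = (minpoly ℤ (π i)).natDegree) ↔ γ h' ≠ 0 := by
    rw [hγh, Finset.prod_ne_zero_iff]
    simp only [Finset.mem_univ, forall_const, Ne, ZMod.intCast_zmod_eq_zero_iff_dvd]
    exact forall_congr' fun i => Groth.Agent.WeilOrdLib.ordinary_iff p _ (hm i) (hev' i) (hlow i)
  rw [hord]
  have hsk : ((s : ℤ) : ZMod p) = 0 := (ZMod.intCast_zmod_eq_zero_iff_dvd _ _).2 hps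
  let L : ULift.{u} (Groth.Agent.WeilOrdLib.Q q) ≃+* Groth.Agent.WeilOrdLib.Q q := ULift.ringEquiv
  let σ : ULift.{u} (Groth.Agent.WeilOrdLib.Q q) →+* e2.range := ψ.comp L.toRingHom
  have hσs : Function.Surjective σ := hψs.comp L.surjective
  have hQG := Groth.Agent.WeilOrdLib.gorenstein_Q.{u} hq
  constructor
  · intro hG h0
    let 𝔭 : Ideal e2.range := (RingHom.ker γ).map ψ
    have hle : RingHom.ker ψ ≤ RingHom.ker γ := fun z hz => by
      obtain ⟨y, -, rfl⟩ := hkerψ z (RingHom.mem_ker.1 hz)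
      rw [RingHom.mem_ker, map_mul, h0, zero_mul]
    haveI : (RingHom.ker γ).IsPrime := RingHom.ker_isPrime _
    haveI : 𝔭.IsPrime := Ideal.map_isPrime_of_surjective hψs hle
    have h𝔭 : ∀ z, ψ z ∈ 𝔭 ↔ γ z = 0 := fun z => by
      rw [← RingHom.mem_ker (f := γ)]
      refine ⟨fun hz => ?_, fun hz => Ideal.mem_map_of_mem ψ hz⟩
      have h1 : z ∈ 𝔭.comap ψ := hz
      rwa [Ideal.comap_map_of_surjective' _ hψs, sup_eq_left.2 hle] at h1
    have hfP : ((p : ℕ) : e2.range) ∈ 𝔭 := by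
      rw [← map_natCast ψ, h𝔭, map_natCast, ZMod.natCast_self]
    have hfreg : ∀ z : e2.range, ((p : ℕ) : e2.range) * z = 0 → z = 0 := by
      intro z hz
      have h1 : ((p : ℕ) : ((i : ι) → K i) × ℚ) * (z : ((i : ι) → K i) × ℚ) = 0 := by
        simpa using congrArg Subtype.val hz
      refine Subtype.ext (Prod.ext (funext fun i => ?_) ?_)
      · have := congrFun (congrArg Prod.fst h1) i
        simpa [hp.ne_zero] using this
      · simpa [hp.ne_zero] using congrArg Prod.snd h1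
    obtain ⟨n, a, b, hn⟩ := Groth.Agent.WeilOrdLib.exists_eq_origin h'
    replace hn : h' = (n : Groth.Agent.WeilOrdLib.Q q) + F * a + V * b := hn
    have hn0 : (p : ℤ) ∣ n := by
      rw [← ZMod.intCast_zmod_eq_zero_iff_dvd]
      have h1 := h0
      rw [hn, map_add, map_add, map_mul, map_mul, hγF, hγV, zero_mul, zero_mul, add_zero, add_zero, map_intCast] at h1
      exact h1
    have hspan : ∀ (m : ℤ), (p : ℤ) ∣ m → ∀ z : Groth.Agent.WeilOrdLib.Q q,
        ψ ((m : Groth.Agent.WeilOrdLib.Q q) * z) ∈ Ideal.span {((p : ℕ) : e2.range)} := by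
      rintro _ ⟨w, rfl⟩ z
      rw [map_mul, Int.cast_mul, map_mul, Int.cast_natCast, map_natCast]
      exact Ideal.mul_mem_right _ _ (Ideal.mul_mem_right _ _ (Ideal.mem_span_singleton_self _))
    have hFh : ψ (F * h') = ψ ((s : Groth.Agent.WeilOrdLib.Q q) * h') := by
      rw [← sub_eq_zero, ← map_sub, show F * h' - (s : Groth.Agent.WeilOrdLib.Q q) * h' = h' * (F - s) by ring]
      exact hψhm _ (by simp [hγsF])
    have hVh : ψ (V * h') = ψ ((s : Groth.Agent.WeilOrdLib.Q q) * h') := by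
      rw [← sub_eq_zero, ← map_sub, show V * h' - (s : Groth.Agent.WeilOrdLib.Q q) * h' = h' * (V - s) by ring]
      exact hψhm _ (by simp [hγsV])
    have hFV : F * V = (q : Groth.Agent.WeilOrdLib.Q q) := Groth.Agent.WeilOrdLib.qF_mul_qV
    have hsoc : ∀ x : Groth.Agent.WeilOrdLib.Q q,
        ψ (F * x) ∈ Ideal.span {((p : ℕ) : e2.range)} → ψ (V * x) ∈ Ideal.span {((p : ℕ) : e2.range)} →
        ∀ c ∈ 𝔭, c * ψ x ∈ Ideal.span {((p : ℕ) : e2.range)} := by
      intro x hx1 hx2 c hc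
      obtain ⟨z, rfl⟩ := hψs c
      obtain ⟨m, u, v, hm'⟩ := Groth.Agent.WeilOrdLib.exists_eq_origin z
      replace hm' : z = (m : Groth.Agent.WeilOrdLib.Q q) + F * u + V * v := hm'
      have hm0 : (p : ℤ) ∣ m := by
        rw [← ZMod.intCast_zmod_eq_zero_iff_dvd]
        have h1 := (h𝔭 z).1 hc
        rw [hm', map_add, map_add, map_mul, map_mul, hγF, hγV, zero_mul, zero_mul, add_zero, add_zero, map_intCast] at h1
        exact h1
      rw [← map_mul, hm', show ((m : Groth.Agent.WeilOrdLib.Q q) + F * u + V * v) * x =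
        (m : Groth.Agent.WeilOrdLib.Q q) * x + u * (F * x) + v * (V * x) by ring, map_add, map_add, map_mul ψ u, map_mul ψ v]
      exact Ideal.add_mem _ (Ideal.add_mem _ (hspan m hm0 x) (Ideal.mul_mem_left _ _ hx1)) (Ideal.mul_mem_left _ _ hx2)
    have hqp : (p : ℤ) ∣ q := dvd_pow_self _ (by omega)
    have hαh : α h' ≠ 0 := by
      intro h3
      have h1 := congrArg α hh'
      rw [map_mul, h3, mul_zero, show α (Polynomial.aeval F P) = P.map (Int.castRingHom (ZMod p)) from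
        Groth.Agent.WeilOrdLib.evQ_aeval _ hα P] at h1
      exact (hP.map _).ne_zero h1.symm
    have hβh : β h' ≠ 0 := Groth.Agent.WeilOrdLib.evQ_h_ne_zero hq hP hPd hh' hP0 p hβ
    have hmem : ∀ z, ψ z ∈ Ideal.span {((p : ℕ) : e2.range)} →
        ∃ w y, γ y = 0 ∧ z = (p : Groth.Agent.WeilOrdLib.Q q) * w + h' * y := by
      intro z hz
      obtain ⟨w, hw⟩ := Ideal.mem_span_singleton'.1 hz
      obtain ⟨w, rfl⟩ := hψs w
      obtain ⟨y, hy, hzy⟩ := hkerψ (z - (p : Groth.Agent.WeilOrdLib.Q q) * w) (by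
        rw [map_sub, map_mul, map_natCast, ← hw, mul_comm, sub_self])
      obtain ⟨u, v, rfl⟩ := hγm y hy
      refine ⟨w, _, ?_, by rw [← hzy]; ring⟩
      rw [map_add, map_mul, map_mul, map_sub, map_sub, hγF, hγV, map_intCast, hsk, sub_zero, zero_mul, zero_mul, add_zero]
    have hαp : ∀ w, α ((p : Groth.Agent.WeilOrdLib.Q q) * w) = 0 := fun w => by
      rw [map_mul, map_natCast, CharP.cast_eq_zero, zero_mul]
    have hβp : ∀ w, β ((p : Groth.Agent.WeilOrdLib.Q q) * w) = 0 := fun w => by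
      rw [map_mul, map_natCast, CharP.cast_eq_zero, zero_mul]
    have hcancel : ∀ c r : Groth.Agent.WeilOrdLib.Q q, α c * α h' = α h' * α r → γ c = γ r := fun c r h3 => by
      rw [← hαγ, ← hαγ, mul_right_cancel₀ hαh (h3.trans (mul_comm _ _))]
    obtain ⟨c, hc, r, hcr⟩ := Groth.Agent.WeilOrdLib.socle_test 𝔭 (hG.isGorensteinLocalRing_localization 𝔭)
      ((p : ℕ) : e2.range) (ψ h') (ψ (F * a)) hfP hfreg
      (hsoc h' (by rw [hFh]; exact hspan s hps h') (by rw [hVh]; exact hspan s hps h'))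
      (hsoc (F * a) (by
        rw [show F * (F * a) = F * h' - (n : Groth.Agent.WeilOrdLib.Q q) * F - (q : Groth.Agent.WeilOrdLib.Q q) * b by
          rw [← hFV, hn]; ring, map_sub, map_sub, hFh]
        exact Ideal.sub_mem _ (Ideal.sub_mem _ (hspan s hps h') (hspan n hn0 F)) (hspan q hqp b)) (by
        rw [show V * (F * a) = (q : Groth.Agent.WeilOrdLib.Q q) * a by rw [← hFV]; ring]
        exact hspan q hqp a))
      (fun c hc hmem' => by
        obtain ⟨c, rfl⟩ := hψs c
        rw [← map_mul] at hmem'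
        obtain ⟨w, y, hy, hzy⟩ := hmem _ hmem'
        have h3 := congrArg α hzy
        rw [map_add, hαp, zero_add, map_mul, map_mul] at h3
        exact hc ((h𝔭 c).2 ((hcancel c y h3).trans hy)))
    obtain ⟨c, rfl⟩ := hψs c
    obtain ⟨r, rfl⟩ := hψs r
    rw [← map_mul, ← map_mul, ← map_sub] at hcr
    obtain ⟨w, y, hy, hzy⟩ := hmem _ hcr
    have hβ3 := congrArg β hzy
    rw [map_sub, map_add, hβp, zero_add, map_mul, map_mul, map_mul, map_mul, hβF, zero_mul, mul_zero, zero_sub] at hβ3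
    have hr : γ r = 0 := by
      have h4 : β r = - β y := mul_right_cancel₀ hβh (by linear_combination -hβ3)
      rw [← hβγ, h4, Polynomial.eval_neg, hβγ, hy, neg_zero]
    have hnk : ((n : ℤ) : Polynomial (ZMod p)) = 0 := by
      rw [← map_intCast (Polynomial.C : ZMod p →+* Polynomial (ZMod p)), (ZMod.intCast_zmod_eq_zero_iff_dvd _ _).2 hn0, map_zero]
    have hαa : α (F * a) = α h' := by
      rw [hn, map_add, map_add, map_intCast, hnk, map_mul α V, hαV, zero_mul, add_zero, zero_add]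
    have hα3 := congrArg α hzy
    rw [map_sub, map_add, hαp, zero_add, map_mul α c, hαa, map_mul, map_mul] at hα3
    have hc0 : γ c = γ (r + y) := hcancel c (r + y) (by rw [map_add α]; linear_combination hα3)
    rw [map_add, hr, hy, add_zero] at hc0
    exact hc ((h𝔭 c).2 hc0)
  · intro h0
    haveI := hQG
    haveI : IsNoetherianRing e2.range := isNoetherianRing_of_surjective _ _ σ hσs
    refine { isGorensteinLocalRing_localization := fun P' _ => ?_ }
    let 𝔮 : Ideal (Groth.Agent.WeilOrdLib.Q q) := P'.comap ψ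
    have hTreg : ∀ W : Groth.Agent.WeilOrdLib.Q q, Groth.Agent.WeilOrdLib.toL q W ≠ 0 →
        ∀ z, h' * W * z = 0 → z = 0 := by
      intro W hW z hz
      have h1 : W * z = 0 := hreg _ (by rw [← mul_assoc]; exact hz)
      have h2 := congrArg (Groth.Agent.WeilOrdLib.toL q) h1
      rw [map_mul, map_zero] at h2
      exact Groth.Agent.WeilOrdLib.toL_injective hq (by rw [map_zero]; exact (mul_eq_zero.1 h2).resolve_left hW)
    have hprin : ∀ t : Groth.Agent.WeilOrdLib.Q q, ψ t = 0 → (∀ z, t * z = 0 → z = 0) →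
        (∀ z, ψ z = 0 → ∃ c ∉ 𝔮, t ∣ c * z) → LocCoh.IsGorensteinLocalRing (Localization.AtPrime P') := by
      intro t ht htreg htker
      refine Groth.Agent.WeilOrdLib.gorenstein_of_locally_principal σ hσs P'
        (hQG.isGorensteinLocalRing_localization _) (L.symm t) ?_ ?_ ?_
      · show ψ (L (L.symm t)) = 0
        rw [L.apply_symm_apply, ht]
      · intro x hx
        have h1 := congrArg L hx
        rw [map_mul, RingEquiv.apply_symm_apply, map_zero] at h1
        exact (map_eq_zero_iff L L.injective).1 (htreg (L x) h1)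
      · intro z hz
        obtain ⟨c, hc, hcd⟩ := htker (L z) hz
        refine ⟨L.symm c, fun h1 => hc ?_, ?_⟩
        · have h2 : ψ (L (L.symm c)) ∈ P' := h1
          rwa [L.apply_symm_apply] at h2
        · have := map_dvd L.symm hcd
          rwa [map_mul, RingEquiv.symm_apply_apply] at this
    have hT1 : LaurentPolynomial.T (1 : ℤ) - LaurentPolynomial.C (s : ℚ) ≠ 0 := by
      intro h1
      have := congrArg (fun f : LaurentPolynomial ℚ => f.coeff (1 : ℤ)) h1
      rw [← LaurentPolynomial.single_eq_C, LaurentPolynomial.T] at this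
      simp only [AddMonoidAlgebra.coeff_sub, Finsupp.sub_apply, AddMonoidAlgebra.coeff_single, AddMonoidAlgebra.coeff_zero,
        Finsupp.zero_apply, Finsupp.single_apply] at this
      norm_num at this
    have hT2 : LaurentPolynomial.C (q : ℚ) * LaurentPolynomial.T (-1 : ℤ) - LaurentPolynomial.C (s : ℚ) ≠ 0 := by
      intro h1
      have := congrArg (fun f : LaurentPolynomial ℚ => f.coeff (-1 : ℤ)) h1
      rw [← LaurentPolynomial.single_eq_C_mul_T, ← LaurentPolynomial.single_eq_C] at this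
      simp only [AddMonoidAlgebra.coeff_sub, Finsupp.sub_apply, AddMonoidAlgebra.coeff_single, AddMonoidAlgebra.coeff_zero,
        Finsupp.zero_apply, Finsupp.single_apply] at this
      norm_num [hq] at this
    have hFV : F * V = (s : Groth.Agent.WeilOrdLib.Q q) * s := by
      rw [← Int.cast_mul, hss]; exact Groth.Agent.WeilOrdLib.qF_mul_qV
    by_cases hF : F ∈ 𝔮
    swap
    · refine hprin (h' * (F - s)) (hψhm _ (by simp [hγsF])) (hTreg _ ?_) fun z hz => ⟨F, hF, ?_⟩
      · show Groth.Agent.WeilOrdLib.toL q (Groth.Agent.WeilOrdLib.qF q - _) ≠ 0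
        rw [map_sub, Groth.Agent.WeilOrdLib.toL_qF, map_intCast, ← map_intCast (LaurentPolynomial.C : ℚ →+* LaurentPolynomial ℚ)]
        exact hT1
      · obtain ⟨y, hy, rfl⟩ := hkerψ z hz
        obtain ⟨u, v, rfl⟩ := hγm y hy
        exact ⟨F * u - s * v, by linear_combination (h' * v) * hFV⟩
    by_cases hV : V ∈ 𝔮
    swap
    · refine hprin (h' * (V - s)) (hψhm _ (by simp [hγsV])) (hTreg _ ?_) fun z hz => ⟨V, hV, ?_⟩
      · show Groth.Agent.WeilOrdLib.toL q (Groth.Agent.WeilOrdLib.qV q - _) ≠ 0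
        rw [map_sub, Groth.Agent.WeilOrdLib.toL_qV, map_intCast (Groth.Agent.WeilOrdLib.toL q), ← map_intCast (LaurentPolynomial.C : ℚ →+* LaurentPolynomial ℚ)]
        exact hT2
      · obtain ⟨y, hy, rfl⟩ := hkerψ z hz
        obtain ⟨u, v, rfl⟩ := hγm y hy
        exact ⟨V * v - s * u, by linear_combination (h' * u) * hFV⟩
    have hp𝔮 : ((p : ℤ) : Groth.Agent.WeilOrdLib.Q q) ∈ 𝔮 := by
      have h1 : F * V ∈ 𝔮 := Ideal.mul_mem_right _ _ hF
      rw [show F * V = ((q : ℤ) : Groth.Agent.WeilOrdLib.Q q) from Groth.Agent.WeilOrdLib.qF_mul_qV,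
        show ((q : ℤ) : Groth.Agent.WeilOrdLib.Q q) = ((p : ℤ) : Groth.Agent.WeilOrdLib.Q q) ^ e from Int.cast_pow _ _] at h1
      exact (inferInstance : 𝔮.IsPrime).mem_of_pow_mem e h1
    have hh𝔮 : ψ h' ∉ P' := by
      intro h1
      obtain ⟨n, a, b, hn⟩ := Groth.Agent.WeilOrdLib.exists_eq_origin h'
      replace hn : h' = (n : Groth.Agent.WeilOrdLib.Q q) + F * a + V * b := hn
      have hn𝔮 : (n : Groth.Agent.WeilOrdLib.Q q) ∈ 𝔮 := by
        have h2 : h' ∈ 𝔮 := h1
        rw [hn, add_assoc] at h2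
        exact (Ideal.add_mem_iff_left _ (Ideal.add_mem _ (Ideal.mul_mem_right _ _ hF) (Ideal.mul_mem_right _ _ hV))).1 h2
      have hcop : IsCoprime (p : ℤ) n := by
        refine ((Nat.prime_iff_prime_int.1 hp).coprime_iff_not_dvd).2 fun hd => h0 ?_
        rw [hn, map_add, map_add, map_mul, map_mul, hγF, hγV, zero_mul, zero_mul, add_zero, add_zero, map_intCast,
          (ZMod.intCast_zmod_eq_zero_iff_dvd _ _).2 hd]
      obtain ⟨x, y, hxy⟩ := hcop
      refine (inferInstance : 𝔮.IsPrime).ne_top ((Ideal.eq_top_iff_one _).2 ?_)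
      have h3 := congrArg (fun m : ℤ => (m : Groth.Agent.WeilOrdLib.Q q)) hxy
      simp only [Int.cast_add, Int.cast_mul, Int.cast_one] at h3
      rw [← h3]
      exact Ideal.add_mem _ (Ideal.mul_mem_left _ _ hp𝔮) (Ideal.mul_mem_left _ _ hn𝔮)
    let γU : Groth.Agent.WeilOrdLib.Q q →+* ULift.{u} ℤ := (ULift.ringEquiv (R := ℤ)).symm.toRingHom.comp γs
    let π₀ : e2.range →+* ULift.{u} ℤ := RingHom.liftOfSurjective ψ hψs ⟨γU, fun z hz => by
      rw [RingHom.mem_ker] at hz ⊢
      show (ULift.ringEquiv (R := ℤ)).symm (γs z) = 0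
      rw [((hψ0 z).1 hz).2, map_zero]⟩
    have hπ₀ : ∀ z, π₀ (ψ z) = γU z := fun z => RingHom.liftOfRightInverse_comp_apply _ _ _ _ z
    have hπs : Function.Surjective π₀ := fun m => ⟨ψ (m.down : Groth.Agent.WeilOrdLib.Q q), by
      rw [hπ₀]
      show (ULift.ringEquiv (R := ℤ)).symm (γs _) = m
      rw [map_intCast, Int.cast_id]
      rfl⟩
    haveI : IsRegularRing (ULift.{u} ℤ) := IsRegularRing.of_ringEquiv (ULift.ringEquiv (R := ℤ)).symm
    refine Groth.Agent.WeilOrdLib.gorenstein_of_locally_iso π₀ hπs P' (fun b hb => ⟨ψ h', hh𝔮, ?_⟩)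
      GorLib.gorensteinRing_of_isRegularRing
    obtain ⟨z, rfl⟩ := hψs b
    rw [hπ₀] at hb
    rw [← map_mul]
    exact hψhm z ((map_eq_zero_iff _ (ULift.ringEquiv (R := ℤ)).symm.injective).1 hb)

end Groth.Agent.S17986
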