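import Groth.Statements.S17999
import Groth.Agent.PicSurjLib.Basic
import Mathlib.Analysis.Complex.Polynomial.Basic

set_option autoImplicit false
universe u
open MvPolynomial
open WeilNum

namespace Groth.Agent.S17999

theorem isIntegral_div {L : Type u} [Field L] [CharZero L] {x : L} {q : ℕ} (hx : IsIntegral ℤ x)
    (h : ∀ z ∈ (minpoly ℤ x).aroots ℂ, ‖z‖ = Real.sqrt q) : IsIntegral ℤ ((q : L) / x) := by
  have hxQ : IsIntegral ℚ x := hx.tower_top
  let F : IntermediateField ℚ L := IntermediateField.adjoin ℚ {x}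
  haveI : FiniteDimensional ℚ F := IntermediateField.adjoin.finiteDimensional hxQ
  let σ : F →ₐ[ℚ] ℂ := IsAlgClosed.lift
  let g : F := ⟨x, IntermediateField.mem_adjoin_simple_self ℚ x⟩
  have hg0 : Polynomial.aeval g (minpoly ℤ x) = 0 := by
    refine Subtype.ext ?_
    have := Polynomial.aeval_algHom_apply (F.val.restrictScalars ℤ) g (minpoly ℤ x)
    exact this.symm.trans (minpoly.aeval ℤ x)
  have hσ0 : Polynomial.aeval (σ g) (minpoly ℤ x) = 0 := by
    show Polynomial.aeval ((σ.restrictScalars ℤ) g) (minpoly ℤ x) = 0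
    rw [Polynomial.aeval_algHom_apply, hg0, map_zero]
  have hn := h (σ g) (Polynomial.mem_aroots.mpr ⟨minpoly.ne_zero hx, hσ0⟩)
  have hint : IsIntegral ℤ (σ g) := ⟨minpoly ℤ x, minpoly.monic hx, hσ0⟩
  have hconj : σ ((q : F) / g) = (starRingEnd ℂ) (σ g) := by
    rw [map_div₀, map_natCast]
    by_cases h0 : σ g = 0
    · rw [h0, div_zero, map_zero]
    · rw [div_eq_iff h0, mul_comm, Complex.mul_conj, Complex.normSq_eq_norm_sq, hn, Real.sq_sqrt (Nat.cast_nonneg q)]
      simp
  have h1 : IsIntegral ℤ ((q : F) / g) := by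
    rw [← isIntegral_algHom_iff (σ.restrictScalars ℤ) σ.injective]
    show IsIntegral ℤ (σ ((q : F) / g))
    rw [hconj]
    exact hint.map (starRingEnd ℂ).toIntAlgHom
  have h2 := h1.map (F.val.restrictScalars ℤ)
  simpa using h2

theorem isIntegral_pi {ι : Type} [Fintype ι] {L : ι → Type u} [∀ i, CommRing (L i)] {x : ∀ i, L i}
    (h : ∀ i, IsIntegral ℤ (x i)) : IsIntegral ℤ x := by
  choose f hf hfx using h
  refine ⟨∏ i, f i, Polynomial.monic_prod_of_monic _ _ fun i _ => hf i, funext fun i => ?_⟩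
  show Pi.evalAlgHom ℤ L i (Polynomial.aeval x (∏ j, f j)) = 0
  rw [← Polynomial.aeval_algHom_apply, map_prod]
  exact Finset.prod_eq_zero (Finset.mem_univ i) (hfx i)

theorem structure_quotient {ι : Type} [Fintype ι] {L : ι → Type u} [∀ i, Field (L i)] [∀ i, CharZero (L i)]
    (x : Fin 2 → ∀ i, L i) (h : ∀ j i, IsIntegral ℤ (x j i)) :
    IsReduced (MvPolynomial (Fin 2) ℤ ⧸ RingHom.ker (MvPolynomial.aeval x : _ →ₐ[ℤ] ∀ i, L i)) ∧
      Module.Finite ℤ (MvPolynomial (Fin 2) ℤ ⧸ RingHom.ker (MvPolynomial.aeval x : _ →ₐ[ℤ] ∀ i, L i)) ∧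
      ∀ n : ℤ, n ≠ 0 → (n : MvPolynomial (Fin 2) ℤ ⧸ RingHom.ker (MvPolynomial.aeval x : _ →ₐ[ℤ] ∀ i, L i)) ∈
        nonZeroDivisors (MvPolynomial (Fin 2) ℤ ⧸ RingHom.ker (MvPolynomial.aeval x : _ →ₐ[ℤ] ∀ i, L i)) := by
  let φ : MvPolynomial (Fin 2) ℤ →ₐ[ℤ] ∀ i, L i := MvPolynomial.aeval x
  let f := RingHom.kerLift φ.toRingHom
  have hf : Function.Injective f := RingHom.kerLift_injective _
  refine ⟨isReduced_of_injective f hf, ?_, fun n hn => mem_nonZeroDivisors_iff_right.mpr fun y hy => hf ?_⟩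
  · haveI : Module.Finite ℤ φ.range := by
      rw [show φ.range = Algebra.adjoin ℤ (Set.range x) from (Algebra.adjoin_range_eq_range_aeval ℤ x).symm]
      exact Module.Finite.of_fg (fg_adjoin_of_finite (Set.finite_range x) (by
        rintro _ ⟨j, rfl⟩
        exact isIntegral_pi (h j)))
    exact Module.Finite.equiv (Ideal.quotientKerEquivRange φ).symm.toLinearEquiv
  · have h0 : f y * (n : ∀ i, L i) = 0 := by
      rw [← map_intCast f n]
      exact (f.map_mul y _).symm.trans ((congrArg f hy).trans f.map_zero)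
    refine Eq.trans ?_ f.map_zero.symm
    funext i
    exact (mul_eq_zero.mp (congrFun h0 i)).resolve_right (by simpa using hn)


/-- The case of finite sets of Weil numbers; let p be a prime, e ≥ 1 and q = p^e; let (π_j)_{j ∈ J} be a
finite family of pairwise nonconjugate Weil q-numbers (π_j in a field K_j of characteristic zero,
integral over ℤ with minimal polynomial P_j, all complex roots of P_j of absolute value √q, P_i ≠
P_j for i ≠ j), and let e : J' → J be an injective map selecting a subfamily. Let I_w, resp. I_v, be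
the kernel of ℤ[F, V] → ∏_{j ∈ J} K_j, resp. → ∏_{j' ∈ J'} K_{e(j')}, sending F ↦ (π_j) and V ↦
(q/π_j); then I_w ⊆ I_v and ℤ[F,V]/I_w → ℤ[F,V]/I_v is the natural surjection R_w → R_v of minimal
central orders. Then the induced homomorphism of Picard groups Pic(R_w) → Pic(R_v) is surjective.
The published statement concerns the Picard groups of the pro-rings attached to arbitrary subsets V
⊆ W of Weil q-number classes; only the case of finite sets is stated here. -/
theorem result (p e : ℕ) [Fact p.Prime] (he : 0 < e)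
    (J J' : Type) [Fintype J] [Fintype J'] (emb : J' → J) (hemb : Function.Injective emb)
    (K : J → Type u) [∀ j, Field (K j)] [∀ j, CharZero (K j)] (ϖ : ∀ j, K j)
    (hint : ∀ j, IsIntegral ℤ (ϖ j))
    (hweil : ∀ j, ∀ z ∈ (minpoly ℤ (ϖ j)).aroots ℂ, ‖z‖ = Real.sqrt ((p : ℝ) ^ e))
    (hinj : ∀ i j, minpoly ℤ (ϖ i) = minpoly ℤ (ϖ j) → i = j)
    (hle : RingHom.ker (MvPolynomial.aeval ![fun j => ϖ j, fun j => ((p : K j) ^ e) / ϖ j] :
          MvPolynomial (Fin 2) ℤ →ₐ[ℤ] ((j : J) → K j)) ≤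
        RingHom.ker (MvPolynomial.aeval ![fun j' => ϖ (emb j'), fun j' => ((p : K (emb j')) ^ e) / ϖ (emb j')] :
          MvPolynomial (Fin 2) ℤ →ₐ[ℤ] ((j' : J') → K (emb j')))) :
    Function.Surjective (CommRing.Pic.mapRingHom (Ideal.Quotient.factor hle)) := by
  have hV : ∀ j, IsIntegral ℤ (((p : K j) ^ e) / ϖ j) := fun j => by
    have := isIntegral_div (q := p ^ e) (hint j) (by
      intro z hz
      rw [hweil j z hz]
      push_cast
      rfl)
    simpa using this
  obtain ⟨h1, h2, h3⟩ := structure_quotient (L := K) ![fun j => ϖ j, fun j => ((p : K j) ^ e) / ϖ j]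
    (Fin.forall_fin_two.mpr ⟨hint, hV⟩)
  obtain ⟨h4, h5, h6⟩ := structure_quotient (L := fun j' => K (emb j'))
    ![fun j' => ϖ (emb j'), fun j' => ((p : K (emb j')) ^ e) / ϖ (emb j')]
    (Fin.forall_fin_two.mpr ⟨fun j' => hint _, fun j' => hV _⟩)
  exact PicSurjLib.surjective_mapRingHom h3 h6 _ (Ideal.Quotient.factor_surjective hle)

end Groth.Agent.S17999
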