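import Groth.Statements.S18003
import Mathlib
import Groth.Agent.WeilOrdLib.Family
-- import your own Groth.Agent.* helpers here

set_option autoImplicit false
universe u
open MvPolynomial
open WeilNum

namespace Groth.Agent.S18003

/-- Let p be a prime, e ≥ 1 and q = p^e; let (π_i) be a finite family of pairwise nonconjugate Weil
q-numbers (π_i in a field K_i of characteristic zero, integral over ℤ with minimal polynomial P_i,
all complex roots of P_i of absolute value √q, P_i ≠ P_j for i ≠ j) of even total degree Σ_i deg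
P_i, P_w = ∏_i P_i, and R_w ⊆ ∏_i K_i the minimal central order, the image of ℤ[F, V] → ∏_i K_i, F ↦
(π_i), V ↦ (q/π_i). Let T be a finitely generated free ℤ-module and F_T an endomorphism of T. Then
there exists an R_w-module structure on the additive group T in which the class of F acts as F_T if
and only if P_w(F_T) = 0 (equivalently: F_T is semisimple after tensoring with ℚ, with eigenvalues
among the conjugates of the π_i) and there is an endomorphism V_T of T with F_T ∘ V_T = q. When it
exists the structure is determined by F_T (the class of V acts as V_T = q·F_T⁻¹), and reflexive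
R_w-modules are exactly the ℤ-free finitely generated ones, so this identifies the objects of
Refl(R_w) with such pairs (T, F_T); the uniqueness remark is not part of the formal statement. -/
theorem result (p e : ℕ) [Fact p.Prime] (he : 0 < e)
    (ι : Type) [Fintype ι] (K : ι → Type u) [∀ i, Field (K i)] [∀ i, CharZero (K i)] (π : ∀ i, K i)
    (hint : ∀ i, IsIntegral ℤ (π i))
    (hweil : ∀ i, ∀ z ∈ (minpoly ℤ (π i)).aroots ℂ, ‖z‖ = Real.sqrt ((p : ℝ) ^ e))
    (hinj : ∀ i j, minpoly ℤ (π i) = minpoly ℤ (π j) → i = j)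
    (D : ℕ) (hD : ∑ i, (minpoly ℤ (π i)).natDegree = 2 * D)
    (T : Type) [AddCommGroup T] [Module.Finite ℤ T] [Module.Free ℤ T] (FT : T →ₗ[ℤ] T) :
    (∃ _ : Module (MvPolynomial.aeval ![fun i => π i, fun i => ((p : K i) ^ e) / π i] :
        MvPolynomial (Fin 2) ℤ →ₐ[ℤ] ((i : ι) → K i)).range T,
        ∀ t : T, (⟨(MvPolynomial.aeval ![fun i => π i, fun i => ((p : K i) ^ e) / π i] :
        MvPolynomial (Fin 2) ℤ →ₐ[ℤ] ((i : ι) → K i)) (X 0), AlgHom.mem_range_self _ _⟩ : (MvPolynomial.aeval ![fun i => π i, fun i => ((p : K i) ^ e) / π i] :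
        MvPolynomial (Fin 2) ℤ →ₐ[ℤ] ((i : ι) → K i)).range) • t = FT t) ↔
      (Polynomial.aeval FT (∏ i, minpoly ℤ (π i)) = 0 ∧
        ∃ VT : T →ₗ[ℤ] T, FT ∘ₗ VT = ((p : ℤ) ^ e) • LinearMap.id) := by
  classical
  obtain ⟨φ, h, hφev, hreg, hker, hh, htop, hind⟩ :=
    Groth.Agent.WeilOrdLib.family p e ι K π hint hweil hinj D hD
  let q : ℤ := (p : ℤ) ^ e
  have hq : q ≠ 0 := pow_ne_zero _ (by exact_mod_cast (Fact.out : p.Prime).ne_zero)
  let ev : MvPolynomial (Fin 2) ℤ →ₐ[ℤ] ((i : ι) → K i) :=
    MvPolynomial.aeval ![fun i => π i, fun i => ((p : K i) ^ e) / π i]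
  show (∃ _ : Module ev.range T, ∀ t : T, (⟨ev (MvPolynomial.X 0), AlgHom.mem_range_self _ _⟩ : ev.range) • t = FT t) ↔ _
  have hmem : ∀ x, φ x ∈ ev.range := fun x => by
    obtain ⟨y, rfl⟩ := Ideal.Quotient.mk_surjective x
    exact ⟨y, (hφev y).symm⟩
  let ψ : Groth.Agent.WeilOrdLib.Q q →+* ev.range := φ.codRestrict ev.range hmem
  have hψ : Function.Surjective ψ := by
    rintro ⟨_, y, rfl⟩
    exact ⟨Ideal.Quotient.mk _ y, Subtype.ext (hφev y)⟩
  have hψker : RingHom.ker ψ = Ideal.span {h} := by
    rw [← hker]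
    ext x
    simp only [RingHom.mem_ker, ← Subalgebra.coe_eq_zero]
    rfl
  have hψF : ψ (Groth.Agent.WeilOrdLib.qF q) = ⟨ev (MvPolynomial.X 0), AlgHom.mem_range_self _ _⟩ :=
    Subtype.ext (hφev _)
  constructor
  · rintro ⟨inst, hact⟩
    letI := inst
    let ρ : Groth.Agent.WeilOrdLib.Q q →ₐ[ℤ] Module.End ℤ T :=
      ((Module.toModuleEnd ℤ (S := ev.range) T).comp ψ).toIntAlgHom
    have hρF : ρ (Groth.Agent.WeilOrdLib.qF q) = FT := LinearMap.ext fun t => by
      show ψ (Groth.Agent.WeilOrdLib.qF q) • t = FT t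
      rw [hψF]
      exact hact t
    refine ⟨?_, ρ (Groth.Agent.WeilOrdLib.qV q), ?_⟩
    · rw [← hρF, Polynomial.aeval_algHom_apply, ← hh, map_mul]
      have : ρ h = 0 := LinearMap.ext fun t => by
        show ψ h • t = (0 : Module.End ℤ T) t
        rw [show ψ h = 0 from hψker.ge (Ideal.mem_span_singleton_self h), zero_smul]
        rfl
      rw [this, mul_zero]
    · rw [← hρF, ← Module.End.mul_eq_comp, ← map_mul, Groth.Agent.WeilOrdLib.qF_mul_qV, map_intCast,
        ← Module.End.one_eq_id, ← Int.smul_one_eq_cast]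
  · rintro ⟨hP0, VT, hVT⟩
    have hFinj : Function.Injective FT := by
      have hscal : Function.Injective (FT ∘ₗ VT) := by
        intro a b hab
        rw [hVT] at hab
        exact smul_right_injective T hq hab
      have h1 : Module.finrank ℤ T ≤ Module.finrank ℤ (LinearMap.range FT) := by
        rw [← LinearMap.finrank_range_of_inj hscal]
        exact Submodule.finrank_mono (LinearMap.range_comp_le_range VT FT)
      have h2 := Submodule.finrank_quotient_add_finrank (LinearMap.ker FT)
      rw [FT.quotKerEquivRange.finrank_eq] at h2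
      rw [← LinearMap.ker_eq_bot]
      exact Submodule.finrank_eq_zero.1 (by omega)
    have hcomm : FT * VT = VT * FT := by
      refine LinearMap.ext fun t => hFinj ?_
      have h1 : ∀ t, FT (VT t) = q • t := fun t => LinearMap.congr_fun hVT t
      show FT (FT (VT t)) = FT (VT (FT t))
      rw [h1, h1, map_zsmul]
    let A := Algebra.adjoin ℤ ({FT, VT} : Set (Module.End ℤ T))
    letI : CommRing A := Algebra.adjoinCommRingOfComm ℤ (by
      rintro a (rfl | rfl) b (rfl | rfl)
      · rfl
      · exact hcomm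
      · exact hcomm.symm
      · rfl)
    let aF : A := ⟨FT, Algebra.subset_adjoin (by simp)⟩
    let aV : A := ⟨VT, Algebra.subset_adjoin (by simp)⟩
    let χ : MvPolynomial (Fin 2) ℤ →ₐ[ℤ] A := MvPolynomial.aeval ![aF, aV]
    have hrel : χ (Groth.Agent.WeilOrdLib.rel q) = 0 := by
      simp only [χ, Groth.Agent.WeilOrdLib.rel, map_sub, map_mul, MvPolynomial.aeval_X, MvPolynomial.aeval_C,
        Matrix.cons_val_zero, Matrix.cons_val_one]
      refine Subtype.ext ?_
      show FT * VT - algebraMap ℤ (Module.End ℤ T) q = 0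
      rw [Module.End.mul_eq_comp, hVT, Algebra.algebraMap_eq_smul_one, Module.End.one_eq_id, sub_self]
    let ρ : Groth.Agent.WeilOrdLib.Q q →+* Module.End ℤ T :=
      A.val.toRingHom.comp (Ideal.Quotient.lift _ χ.toRingHom (fun a ha => by
        obtain ⟨c, rfl⟩ := Ideal.mem_span_singleton'.1 ha
        show χ (c * Groth.Agent.WeilOrdLib.rel q) = 0
        rw [map_mul, hrel, mul_zero]))
    have hρF : ρ (Groth.Agent.WeilOrdLib.qF q) = FT := by
      show ((χ (MvPolynomial.X 0) : A) : Module.End ℤ T) = FT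
      simp [χ, aF]
    have hρh : ρ h = 0 := by
      have h1 : FT ^ D * ρ h = 0 := by
        have h2 : ρ (Polynomial.aeval (Groth.Agent.WeilOrdLib.qF q) (∏ i, minpoly ℤ (π i))) =
            Polynomial.aeval FT (∏ i, minpoly ℤ (π i)) := by
          rw [← hρF]
          exact (Polynomial.aeval_algHom_apply ρ.toIntAlgHom _ _).symm
        rw [← hh, map_mul, map_pow, hρF, hP0] at h2
        exact h2
      refine LinearMap.ext fun t => ?_
      have h3 : Function.Injective (FT ^ D : Module.End ℤ T) := by
        rw [Module.End.coe_pow]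
        exact hFinj.iterate D
      refine h3 ?_
      rw [LinearMap.zero_apply, map_zero]
      exact LinearMap.congr_fun h1 t
    let ρ' : ev.range →+* Module.End ℤ T := ψ.liftOfSurjective hψ ⟨ρ, by
      rw [hψker, Ideal.span_singleton_le_iff_mem]
      exact hρh⟩
    letI M : Module ev.range T := Module.compHom T ρ'
    refine ⟨M, fun t => ?_⟩
    show ρ' ⟨ev (MvPolynomial.X 0), AlgHom.mem_range_self _ _⟩ t = FT t
    rw [← hψF]
    show ρ' (ψ (Groth.Agent.WeilOrdLib.qF q)) t = FT t
    rw [RingHom.liftOfSurjective_comp_apply, hρF]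

end Groth.Agent.S18003
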