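import Groth.Statements.S18006
import Groth.Agent.ThetaBGLib.ST
import Groth.Agent.ThetaBGLib.Theta

set_option autoImplicit false
universe u
open ThetaS

namespace Groth.Agent.S18006

open CategoryTheory AlgebraicGeometry in
/-- Over a locally Noetherian base scheme S, the classifying stack B GL_{n,S} (GL_n-torsors given as
schemes, locally trivial in the fppf topology) is Θ-complete over S and S-complete over S, i.e. its
structure functor to (Sch/S) is Θ-reductive and S-complete: for every discrete valuation ring R with
a uniformizer and every Spec R → S, every functor over (Sch/S) out of the punctured stack Θ_R minus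
its closed point, respectively out of the punctured compactified two-branched stack [Spec R[s,t]/(st
− π)/G_m] minus its closed point, extends over the whole stack, uniquely up to a unique
2-isomorphism. (The published items state this for [X/G] → S with G geometrically reductive and
étale-locally embeddable, acting on a locally Noetherian scheme X affine over S; this row is the
case X = S, G = GL_n. The hypothesis that GL_{n,S} → S is affine always holds.) -/
theorem result (S : Scheme.{u}) [IsLocallyNoetherian S] (n : ℕ)
    (hG : IsAffineHom (FrB.GLn n S).hom) :
    ThetaS.IsThetaComplete Scheme.fppfPrecoverage (AlgSt.BG Scheme.fppfPrecoverage (FrB.GLn n S)) ∧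
      ThetaS.IsSCompleteOver Scheme.fppfPrecoverage (AlgSt.BG Scheme.fppfPrecoverage (FrB.GLn n S)) := by
  haveI := hG
  exact ⟨ThetaBG.isThetaComplete_BGLn S n, ThetaBG.isSCompleteOver_BGLn S n⟩

end Groth.Agent.S18006
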