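import Groth.Statements.S1801
import Mathlib
import Groth.Agent.ShriekRingLib.SelfProps
-- import your own Groth.Agent.* helpers here

set_option autoImplicit false
universe u
open CategoryTheory
open scoped TensorProduct
attribute [local instance] HasDerivedCategory.standard
open Dual2

namespace Groth.Agent.S1801

/-- Flat case (part (2) with (1)(a)–(c) and (2)(b)). Let R → A be a ring map between Noetherian rings
which is flat and of finite type, where φ^!(K) is formed from a presentation ψ : R[x_1, …, x_n] → A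
as RHom_P(A, K ⊗^L_R P)[n], assuming the derived base change to P exists and taking for RHom_P(A, −)
a right adjoint of restriction of scalars along ψ; put ω = φ^!(R). Then: (a) ω has finitely many
nonzero cohomology modules, all finite over A; (b) after restriction of scalars to R, ω is
isomorphic to a bounded complex of flat R-modules (finite tor dimension over R); (c) a ↦ a·id is a
bijection A → End(ω) and ω has no self-maps of nonzero degree; (d) for every ring map R → k to a
field, assuming the derived base change D(A) → D(k ⊗_R A) exists, the base change of ω is a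
dualizing complex for k ⊗_R A. -/
theorem result (R A : Type u) [CommRing R] [CommRing A] [IsNoetherianRing R] [IsNoetherianRing A] [Algebra R A] [Module.Flat R A] (n : ℕ) (ψ : MvPolynomial (Fin n) R →ₐ[R] A) (hψ : Function.Surjective ψ) [DRing.HasLBaseChange (algebraMap R (MvPolynomial (Fin n) R))] (Rψ : Dual.D (MvPolynomial (Fin n) R) ⥤ Dual.D A) (adj : DRing.restrictD ψ.toRingHom ⊣ Rψ) : (∃ a b : ℤ, ∀ i : ℤ, (i < a ∨ b < i) → Subsingleton (Dual.HD A (Dual2.shriekVia n Rψ (Dual.inD R R)) i)) ∧ (∀ i : ℤ, Module.Finite A (Dual.HD A (Dual2.shriekVia n Rψ (Dual.inD R R)) i)) ∧ DRing.HasFiniteTorDimCx R ((DRing.restrictD (algebraMap R A)).obj (Dual2.shriekVia n Rψ (Dual.inD R R))) ∧ (Function.Bijective (fun a : A => a • CategoryTheory.CategoryStruct.id (Dual2.shriekVia n Rψ (Dual.inD R R))) ∧ ∀ i : ℤ, i ≠ 0 → Subsingleton (Dual2.shriekVia n Rψ (Dual.inD R R) ⟶ (Dual2.shriekVia n Rψ (Dual.inD R R))⟦i⟧)) ∧ ∀ (k : Type u) [Field k] [Algebra R k] [DRing.HasLBaseChange (Algebra.TensorProduct.includeRight : A →ₐ[R] k ⊗[R] A).toRingHom],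 Dual.IsDualizing (k ⊗[R] A) ((DRing.LBaseChange (Algebra.TensorProduct.includeRight : A →ₐ[R] k ⊗[R] A).toRingHom).obj (Dual2.shriekVia n Rψ (Dual.inD R R))) := by
  obtain ⟨W, hperf, hbij, hext, ⟨e⟩⟩ := ShriekRingLib.exists_perfect_unit R A n ψ hψ adj
  obtain ⟨a, b, hab⟩ := ShriekRingLib.bounded_of_perfect hperf
  have hge : (Dual.inD R R).IsGE 0 := inferInstance
  refine ⟨⟨a - n, b - n, ShriekRingLib.bounded_shift (n : ℤ) e hab⟩,
    (ShriekRingLib.bounded_and_finite n ψ hψ adj hge).2 (ShriekRingLib.finite_HD_inD R),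
    ShriekRingLib.hasFiniteTorDimCx_shift (n : ℤ) e
      (ShriekRingLib.hasFiniteTorDimCx_of_perfect (algebraMap R (MvPolynomial (Fin n) R)) ?_ (algebraMap R A)
        ψ.comp_algebraMap hperf),
    ⟨ShriekRingLib.toEnd_bijective_shift A (n : ℤ) e hbij,
      fun i hi => ShriekRingLib.subsingleton_ext_shift A (n : ℤ) e (hext i hi)⟩,
    fun k _ _ _ => ShriekRingLib.isDualizing_fibre R A n ψ hψ adj k⟩
  exact RingHom.flat_algebraMap_iff.2 inferInstance

end Groth.Agent.S1801
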