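import Groth.Statements.S18014
import Groth.Agent.FPPairColimLib.Integral
import Groth.Agent.FPPairColimLib.System

set_option autoImplicit false
set_option backward.isDefEq.respectTransparency false
set_option backward.isDefEq.respectTransparency.types false
set_option maxRecDepth 8000
set_option maxHeartbeats 1000000
universe u
open CategoryTheory CategoryTheory.Limits
open Lim

namespace Groth.Agent.S18014

/-- Let A be a commutative ring, B an A-algebra and C a B-algebra, with B and C both integral over A.
Then B → C is a filtered colimit, in the category of A-algebras, of maps B_i → C_i between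
A-algebras each of which is finite and of finite presentation over A: there are a small filtered
index category, two diagrams of A-algebras over it with a morphism of diagrams, and colimiting
cocones with vertices B and C under which the morphism of diagrams induces B → C. Moreover the
system can be chosen so that if A → B (resp. B → C, resp. A → C) is surjective then so is every A →
B_i (resp. B_i → C_i, resp. A → C_i), and if A → B (resp. B → C, resp. A → C) is surjective with
nilpotent kernel then so is every A → B_i (resp. B_i → C_i, resp. A → C_i). -/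
theorem result {A B C : Type u} [CommRing A] [CommRing B]
    [CommRing C] [Algebra A B] [Algebra A C] [Algebra B C] [IsScalarTower A B C]
    [Algebra.IsIntegral A B] [Algebra.IsIntegral A C] :
    ∃ (ι : Type u) (_ : SmallCategory ι) (_ : IsFiltered ι) (DB DC : ι ⥤ Under (CommRingCat.of A)) (τ : DB ⟶ DC)
      (cB : DB ⟶ (Functor.const ι).obj (Under.mk (CommRingCat.ofHom (algebraMap A B))))
      (cC : DC ⟶ (Functor.const ι).obj (Under.mk (CommRingCat.ofHom (algebraMap A C)))),
      Nonempty (IsColimit (Cocone.mk _ cB)) ∧ Nonempty (IsColimit (Cocone.mk _ cC)) ∧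
      (∀ i, (τ.app i).right ≫ (cC.app i).right = (cB.app i).right ≫ CommRingCat.ofHom (algebraMap B C)) ∧
      (∀ i, (DB.obj i).hom.hom.Finite ∧ (DB.obj i).hom.hom.FinitePresentation ∧
        (DC.obj i).hom.hom.Finite ∧ (DC.obj i).hom.hom.FinitePresentation) ∧
      (Function.Surjective (algebraMap A B) → ∀ i, Function.Surjective (DB.obj i).hom.hom) ∧
      (Function.Surjective (algebraMap B C) → ∀ i, Function.Surjective (τ.app i).right.hom) ∧
      (Function.Surjective (algebraMap A C) → ∀ i, Function.Surjective (DC.obj i).hom.hom) ∧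
      (Function.Surjective (algebraMap A B) → IsNilpotent (RingHom.ker (algebraMap A B)) →
        ∀ i, Function.Surjective (DB.obj i).hom.hom ∧ IsNilpotent (RingHom.ker (DB.obj i).hom.hom)) ∧
      (Function.Surjective (algebraMap B C) → IsNilpotent (RingHom.ker (algebraMap B C)) →
        ∀ i, Function.Surjective (τ.app i).right.hom ∧ IsNilpotent (RingHom.ker (τ.app i).right.hom)) ∧
      (Function.Surjective (algebraMap A C) → IsNilpotent (RingHom.ker (algebraMap A C)) →
        ∀ i, Function.Surjective (DC.obj i).hom.hom ∧ IsNilpotent (RingHom.ker (DC.obj i).hom.hom)) := by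
  classical
  let f : B →ₐ[A] C := IsScalarTower.toAlgHom A B C
  let S := FPPairColimLib.IntStage f
  haveI : IsDirectedOrder S := ⟨fun x y => by
    obtain ⟨u, hu₁, hu₂⟩ := FPPairColimLib.exists_upper x.1.1 y.1.1
    obtain ⟨v, hv₁, hv₂⟩ := FPPairColimLib.exists_upper x.1.2 y.1.2
    obtain ⟨z, hz₁, hz₂⟩ := FPPairColimLib.exists_intGood f u v
    exact ⟨z, ⟨hu₁.trans hz₁, hv₁.trans hz₂⟩, ⟨hu₂.trans hz₁, hv₂.trans hz₂⟩⟩⟩
  let π : S → FPPairColimLib.Pres A B := fun x => x.1.1
  let ρ : S → FPPairColimLib.Pres A C := fun x => x.1.2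
  have hπ : Monotone π := fun x y h => h.1
  have hρ : Monotone ρ := fun x y h => h.2
  have hm : ∀ j, FPPairColimLib.Maps f (π j) (ρ j) := fun j => j.2.2.2.choose
  refine ⟨S, inferInstance, inferInstance, FPPairColimLib.sysD hπ, FPPairColimLib.sysD hρ,
    FPPairColimLib.sysMap hπ hρ f hm, FPPairColimLib.sysC hπ, FPPairColimLib.sysC hρ,
    FPPairColimLib.nonempty_isColimit_sys hπ (fun p => ?_), FPPairColimLib.nonempty_isColimit_sys hρ (fun p => ?_),
    fun j => FPPairColimLib.sysMap_comp_toA hπ hρ f hm j, fun j => ⟨?_, ?_, ?_, ?_⟩,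
    fun h j => j.2.1.surjective h, fun h j => j.2.2.2.choose_spec.1 h, fun h j => j.2.2.1.surjective h,
    fun h hn j => ⟨j.2.1.surjective h, ?_⟩, fun h hn j => ⟨j.2.2.2.choose_spec.1 h, j.2.2.2.choose_spec.2 h hn⟩,
    fun h hn j => ⟨j.2.2.1.surjective h, ?_⟩⟩
  · obtain ⟨x, hx, -⟩ := FPPairColimLib.exists_intGood f p ⟨∅, ⊥, Submodule.fg_bot, bot_le⟩
    exact ⟨x, hx⟩
  · obtain ⟨x, -, hx⟩ := FPPairColimLib.exists_intGood f ⟨∅, ⊥, Submodule.fg_bot, bot_le⟩ p
    exact ⟨x, hx⟩
  · exact RingHom.finite_algebraMap.mpr j.2.1.finite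
  · exact RingHom.finitePresentation_algebraMap.mpr (π j).finitePresentation
  · exact RingHom.finite_algebraMap.mpr j.2.2.1.finite
  · exact RingHom.finitePresentation_algebraMap.mpr (ρ j).finitePresentation
  · obtain ⟨n, hn⟩ := hn
    exact ⟨n, le_bot_iff.mp ((Ideal.pow_right_mono (FPPairColimLib.ker_algebraMap_le (π j)) n).trans hn.le)⟩
  · obtain ⟨n, hn⟩ := hn
    exact ⟨n, le_bot_iff.mp ((Ideal.pow_right_mono (FPPairColimLib.ker_algebraMap_le (ρ j)) n).trans hn.le)⟩

end Groth.Agent.S18014
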