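import Groth.Statements.S18016
import Groth.Agent.FPPairColimLib.Nil
import Groth.Agent.FPPairColimLib.Fib

set_option autoImplicit false
set_option backward.isDefEq.respectTransparency false
set_option backward.isDefEq.respectTransparency.types false
set_option maxRecDepth 8000
set_option maxHeartbeats 1000000
universe u
open CategoryTheory CategoryTheory.Limits
open Lim

namespace Groth.Agent.S18016

/-- In ring form, let R be a commutative ring, f : B → D any map of R-algebras and i : D' → D a
surjective map of R-algebras every element of whose kernel is nilpotent (so Spec D → Spec D' is a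
locally nilpotent closed immersion of affine R-schemes and Spec D → Spec B is affine), and let q₁ :
P → B, q₂ : P → D' exhibit P as the fibre product ring B ×_D D' (the pushout of the two affine
schemes). Then the diagram B → D ← D' is a filtered colimit, in R-algebras, of diagrams B_j → D_j ←
D'_j of R-algebras of finite presentation in which D'_j → D_j is surjective with locally nilpotent
kernel; and the fibre products P_j = B_j ×_{D_j} D'_j form a compatible diagram whose colimit is P.
Moreover: if f is surjective (resp. surjective with locally nilpotent kernel, resp. integral) then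
every B_j → D_j can be taken surjective (resp. surjective with locally nilpotent kernel, resp.
integral). (The published statement also covers two further classes, maps that become a closed or a
locally nilpotent immersion after composing with a locally nilpotent closed immersion; those two
clauses are not stated here.) -/
theorem result {R B D D' P : Type u} [CommRing R] [CommRing B]
    [CommRing D] [CommRing D'] [CommRing P] [Algebra R B] [Algebra R D] [Algebra R D'] [Algebra R P]
    (f : B →ₐ[R] D) (i : D' →ₐ[R] D) (hi : Function.Surjective i)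
    (hnil : ∀ x ∈ RingHom.ker i.toRingHom, IsNilpotent x) (q₁ : P →ₐ[R] B) (q₂ : P →ₐ[R] D')
    (hP : IsPullback (CommRingCat.ofHom q₁.toRingHom) (CommRingCat.ofHom q₂.toRingHom)
      (CommRingCat.ofHom f.toRingHom) (CommRingCat.ofHom i.toRingHom)) :
    ∃ (ι : Type u) (_ : SmallCategory ι) (_ : IsFiltered ι) (DB DD DD' DP : ι ⥤ Under (CommRingCat.of R))
      (φ : DB ⟶ DD) (ψ : DD' ⟶ DD) (π₁ : DP ⟶ DB) (π₂ : DP ⟶ DD')
      (cB : DB ⟶ (Functor.const ι).obj (Under.mk (CommRingCat.ofHom (algebraMap R B))))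
      (cD : DD ⟶ (Functor.const ι).obj (Under.mk (CommRingCat.ofHom (algebraMap R D))))
      (cD' : DD' ⟶ (Functor.const ι).obj (Under.mk (CommRingCat.ofHom (algebraMap R D'))))
      (cP : DP ⟶ (Functor.const ι).obj (Under.mk (CommRingCat.ofHom (algebraMap R P)))),
      Nonempty (IsColimit (Cocone.mk _ cB)) ∧ Nonempty (IsColimit (Cocone.mk _ cD)) ∧
      Nonempty (IsColimit (Cocone.mk _ cD')) ∧ Nonempty (IsColimit (Cocone.mk _ cP)) ∧
      (∀ j, (φ.app j).right ≫ (cD.app j).right = (cB.app j).right ≫ CommRingCat.ofHom f.toRingHom) ∧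
      (∀ j, (ψ.app j).right ≫ (cD.app j).right = (cD'.app j).right ≫ CommRingCat.ofHom i.toRingHom) ∧
      (∀ j, (π₁.app j).right ≫ (cB.app j).right = (cP.app j).right ≫ CommRingCat.ofHom q₁.toRingHom) ∧
      (∀ j, (π₂.app j).right ≫ (cD'.app j).right = (cP.app j).right ≫ CommRingCat.ofHom q₂.toRingHom) ∧
      (∀ j, (DB.obj j).hom.hom.FinitePresentation ∧ (DD.obj j).hom.hom.FinitePresentation ∧
        (DD'.obj j).hom.hom.FinitePresentation) ∧
      (∀ j, Function.Surjective (ψ.app j).right.hom ∧ ∀ x ∈ RingHom.ker (ψ.app j).right.hom, IsNilpotent x) ∧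
      (∀ j, IsPullback (π₁.app j).right (π₂.app j).right (φ.app j).right (ψ.app j).right) ∧
      (Function.Surjective f → ∀ j, Function.Surjective (φ.app j).right.hom) ∧
      (Function.Surjective f → (∀ x ∈ RingHom.ker f.toRingHom, IsNilpotent x) →
        ∀ j, Function.Surjective (φ.app j).right.hom ∧ ∀ x ∈ RingHom.ker (φ.app j).right.hom, IsNilpotent x) ∧
      (f.toRingHom.IsIntegral → ∀ j, (φ.app j).right.hom.IsIntegral) := by
  classical
  let S := FPPairColimLib.NilStage f i
  let e₀ : ∀ {A : Type u} [CommRing A] [Algebra R A], FPPairColimLib.Pres R A :=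
    fun {A} _ _ => ⟨∅, ⊥, Submodule.fg_bot, bot_le⟩
  have hgood := FPPairColimLib.exists_nilGood f i hi hnil
  haveI : Nonempty S := ⟨(hgood e₀ e₀ e₀).choose⟩
  haveI : IsDirectedOrder S := ⟨fun x y => by
    obtain ⟨u, hu₁, hu₂⟩ := FPPairColimLib.exists_upper x.1.1 y.1.1
    obtain ⟨v, hv₁, hv₂⟩ := FPPairColimLib.exists_upper x.1.2.1 y.1.2.1
    obtain ⟨w, hw₁, hw₂⟩ := FPPairColimLib.exists_upper x.1.2.2 y.1.2.2
    obtain ⟨z, hz₁, hz₂, hz₃⟩ := hgood u v w
    exact ⟨z, ⟨hu₁.trans hz₁, hv₁.trans hz₂, hw₁.trans hz₃⟩, ⟨hu₂.trans hz₁, hv₂.trans hz₂, hw₂.trans hz₃⟩⟩⟩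
  let π : S → FPPairColimLib.Pres R B := fun x => x.1.1
  let ρ : S → FPPairColimLib.Pres R D := fun x => x.1.2.1
  let τ : S → FPPairColimLib.Pres R D' := fun x => x.1.2.2
  have hπ : Monotone π := fun x y h => h.1
  have hρ : Monotone ρ := fun x y h => h.2.1
  have hτ : Monotone τ := fun x y h => h.2.2
  have hcπ : ∀ p, ∃ j, p ≤ π j := fun p => by
    obtain ⟨z, hz, -, -⟩ := hgood p e₀ e₀; exact ⟨z, hz⟩
  have hcρ : ∀ p, ∃ j, p ≤ ρ j := fun p => by
    obtain ⟨z, -, hz, -⟩ := hgood e₀ p e₀; exact ⟨z, hz⟩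
  have hcτ : ∀ p, ∃ j, p ≤ τ j := fun p => by
    obtain ⟨z, -, -, hz⟩ := hgood e₀ e₀ p; exact ⟨z, hz⟩
  have hmB : ∀ j, FPPairColimLib.Maps f (π j) (ρ j) := fun j => j.2.1.choose
  have hmE : ∀ j, FPPairColimLib.Maps i (τ j) (ρ j) := fun j => j.2.2.choose
  refine ⟨S, inferInstance, inferInstance, FPPairColimLib.sysD hπ, FPPairColimLib.sysD hρ, FPPairColimLib.sysD hτ,
    FPPairColimLib.fibD hπ hρ hτ hmB hmE, FPPairColimLib.sysMap hπ hρ f hmB, FPPairColimLib.sysMap hτ hρ i hmE,
    FPPairColimLib.fibFst hπ hρ hτ hmB hmE, FPPairColimLib.fibSnd hπ hρ hτ hmB hmE,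
    FPPairColimLib.sysC hπ, FPPairColimLib.sysC hρ, FPPairColimLib.sysC hτ, FPPairColimLib.fibC hπ hρ hτ hmB hmE hP,
    FPPairColimLib.nonempty_isColimit_sys hπ hcπ, FPPairColimLib.nonempty_isColimit_sys hρ hcρ,
    FPPairColimLib.nonempty_isColimit_sys hτ hcτ, FPPairColimLib.nonempty_isColimit_fib hπ hρ hτ hmB hmE hP hcπ hcρ hcτ,
    fun j => FPPairColimLib.sysMap_comp_toA hπ hρ f hmB j, fun j => FPPairColimLib.sysMap_comp_toA hτ hρ i hmE j,
    fun j => ?_, fun j => ?_, fun j => ⟨?_, ?_, ?_⟩, fun j => j.2.2.choose_spec,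
    fun j => FPPairColimLib.isPullback_app hπ hρ hτ hmB hmE j,
    fun h j => j.2.1.choose_spec.1 h, fun h hn j => ⟨j.2.1.choose_spec.1 h, j.2.1.choose_spec.2.1 h hn⟩,
    fun h j => j.2.1.choose_spec.2.2 h⟩
  · ext x
    exact (FPPairColimLib.fibToA_fst hmB hmE hP j x).symm
  · ext x
    exact (FPPairColimLib.fibToA_snd hmB hmE hP j x).symm
  · exact RingHom.finitePresentation_algebraMap.mpr (π j).finitePresentation
  · exact RingHom.finitePresentation_algebraMap.mpr (ρ j).finitePresentation
  · exact RingHom.finitePresentation_algebraMap.mpr (τ j).finitePresentation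

end Groth.Agent.S18016
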