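import Groth.Statements.S18018
import Mathlib
-- import your own Groth.Agent.* helpers here

set_option autoImplicit false
set_option maxHeartbeats 2000000
set_option backward.isDefEq.respectTransparency false
universe u
open CategoryTheory AlgebraicGeometry
open Unram

namespace Groth.Agent.S18018

open CategoryTheory AlgebraicGeometry IsLocalRing in
/-- The global functions of the spectrum of a local ring surject onto the residue field of the closed point. -/
theorem eval_surjective (C : Type u) [CommRing C] [IsLocalRing C] :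
    Function.Surjective (fun c : C => (Spec (CommRingCat.of C)).evaluation ⊤ (closedPoint C) trivial
      ((Scheme.ΓSpecIso (CommRingCat.of C)).inv c)) := by
  let X := Spec (CommRingCat.of C)
  let hU : IsAffineOpen (⊤ : X.Opens) := isAffineOpen_top X
  let p : X := closedPoint C
  intro z
  obtain ⟨s, rfl⟩ := X.residue_surjective p z
  letI : Algebra Γ(X, ⊤) (X.presheaf.stalk p) := (X.presheaf.germ ⊤ p trivial).hom.toAlgebra
  haveI : IsLocalization.AtPrime (X.presheaf.stalk p) (hU.primeIdealOf ⟨p, trivial⟩).asIdeal :=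
    hU.isLocalization_stalk ⟨p, trivial⟩
  haveI : IsLocalRing Γ(X, ⊤) :=
    (Scheme.ΓSpecIso (CommRingCat.of C)).symm.commRingCatIsoToRingEquiv.isLocalRing
  haveI := hU.primeIdealOf_isMaximal_of_isClosed ⟨p, trivial⟩ (IsLocalRing.isClosed_singleton_closedPoint C)
  obtain ⟨a, d, rfl⟩ := IsLocalization.exists_mk'_eq (hU.primeIdealOf ⟨p, trivial⟩).asIdeal.primeCompl s
  have hd : IsUnit (d : Γ(X, ⊤)) := by
    by_contra h
    exact d.2 ((IsLocalRing.eq_maximalIdeal (I := (hU.primeIdealOf ⟨p, trivial⟩).asIdeal) inferInstance).ge h)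
  obtain ⟨v, hv⟩ := hd.exists_left_inv
  refine ⟨(Scheme.ΓSpecIso (CommRingCat.of C)).hom (a * v), ?_⟩
  have e : IsLocalization.mk' (X.presheaf.stalk p) a d = algebraMap Γ(X, ⊤) (X.presheaf.stalk p) (a * v) := by
    rw [IsLocalization.mk'_eq_iff_eq_mul, ← map_mul, mul_assoc, hv, mul_one]
  rw [e]
  show X.evaluation ⊤ p trivial ((Scheme.ΓSpecIso (CommRingCat.of C)).inv
    ((Scheme.ΓSpecIso (CommRingCat.of C)).hom (a * v))) = _
  exact congrArg (X.evaluation ⊤ p trivial)
    (congrArg (fun r : Γ(X, ⊤) ⟶ Γ(X, ⊤) => r (a * v)) (Scheme.ΓSpecIso (CommRingCat.of C)).hom_inv_id)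

open CategoryTheory AlgebraicGeometry IsLocalRing in
/-- Sections along a morphism from the spectrum of a local ring. -/
theorem exists_sections {C : Type u} [CommRing C] [IsLocalRing C] {T : Scheme.{u}}
    (a : Spec (CommRingCat.of C) ⟶ T) {W : T.Opens} (hW : IsAffineOpen W) (hc : a (closedPoint C) ∈ W) :
    ∃ φ : Γ(T, W) ⟶ CommRingCat.of C, Spec.map φ ≫ hW.fromSpec = a ∧
      ∀ x, a.residueFieldMap (closedPoint C) (T.evaluation W (a (closedPoint C)) hc x) =
        (Spec (CommRingCat.of C)).evaluation ⊤ (closedPoint C) trivial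
          ((Scheme.ΓSpecIso (CommRingCat.of C)).inv (φ x)) := by
  have hle : (⊤ : (Spec (CommRingCat.of C)).Opens) ≤ a ⁻¹ᵁ W := fun y _ =>
    (IsLocalRing.specializes_closedPoint (R := C) y).mem_open (a ⁻¹ᵁ W).2 hc
  refine ⟨a.appLE W ⊤ hle ≫ (Scheme.ΓSpecIso (CommRingCat.of C)).hom, ?_, fun x => ?_⟩
  · have h := IsAffineOpen.SpecMap_appLE_fromSpec a hW (isAffineOpen_top _) hle
    rw [IsAffineOpen.fromSpec_top, Scheme.isoSpec_Spec_inv] at h
    rw [Spec.map_comp, Category.assoc, h, ← Category.assoc, ← Spec.map_comp, Iso.inv_hom_id, Spec.map_id, Category.id_comp]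
  · rw [CommRingCat.comp_apply, Iso.hom_inv_id_apply, Scheme.evaluation_naturality_apply, Scheme.Hom.appLE,
      CommRingCat.comp_apply]
    exact congrArg ((Spec (CommRingCat.of C)).residue _)
      (TopCat.Presheaf.germ_res_apply (Spec (CommRingCat.of C)).presheaf (homOfLE hle) (closedPoint C) trivial
        (a.app W x)).symm

/-- A local ring with nilpotent finitely generated maximal ideal is Artinian. -/
theorem artinian_of_fg_nilpotent {R : Type u} [CommRing R] [IsLocalRing R]
    (hfg : (IsLocalRing.maximalIdeal R).FG) (hnil : IsNilpotent (IsLocalRing.maximalIdeal R)) :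
    IsArtinianRing R := by
  obtain ⟨n, hn⟩ := hnil
  have hp : ∀ P : Ideal R, P.IsPrime → P = IsLocalRing.maximalIdeal R := fun P hP =>
    le_antisymm (IsLocalRing.le_maximalIdeal hP.ne_top) (hP.le_of_pow_le (by rw [hn]; exact bot_le))
  haveI : IsNoetherianRing R := IsNoetherianRing.of_prime fun P hP => hp P hP ▸ hfg
  haveI : Ring.KrullDimLE 0 R := Ring.krullDimLE_zero_iff.2 fun P hP => hp P hP ▸ IsLocalRing.maximalIdeal.isMaximal R
  exact isArtinianRing_iff_isNoetherianRing_krullDimLE_zero.2 ⟨inferInstance, inferInstance⟩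

open IsLocalRing in
/-- The elements of an Artinian local ring with residue in a subfield of finite index form an Artinian local ring. -/
theorem exists_artinian_subring {C : Type u} [CommRing C] [IsLocalRing C] [IsArtinianRing C] {L : Type u} [Field L]
    (ρ : C →+* L) (hρ : Function.Surjective ρ) (R0 : Subfield L) [Module.Finite R0 L] :
    IsLocalRing (R0.toSubring.comap ρ) ∧ IsArtinianRing (R0.toSubring.comap ρ) ∧
      IsLocalHom (R0.toSubring.comap ρ).subtype := by
  classical
  let C0 := R0.toSubring.comap ρ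
  have hker : ∀ c : C, ρ c = 0 ↔ c ∈ maximalIdeal C := by
    have h : RingHom.ker ρ = maximalIdeal C := eq_maximalIdeal (RingHom.ker_isMaximal_of_surjective ρ hρ)
    exact fun c => by rw [← h, RingHom.mem_ker]
  have hunit : ∀ c : C0, ρ c.1 ≠ 0 → IsUnit c := fun c hc => by
    obtain ⟨v, hv⟩ := isUnit_iff_exists_inv.1 (not_not.1 fun h => hc ((hker c.1).2 h) : IsUnit c.1)
    have hv0 : v ∈ C0 := by
      show ρ v ∈ R0
      have : ρ v = (ρ c.1)⁻¹ := eq_inv_of_mul_eq_one_right (by rw [← map_mul, hv, map_one])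
      rw [this]
      exact inv_mem c.2
    exact isUnit_iff_exists_inv.2 ⟨⟨v, hv0⟩, Subtype.ext hv⟩
  haveI : Nontrivial C0 := inferInstance
  haveI hloc : IsLocalRing C0 := IsLocalRing.of_isUnit_or_isUnit_one_sub_self fun c => by
    by_cases h : ρ c.1 = 0
    · exact Or.inr (hunit _ (by simp [h]))
    · exact Or.inl (hunit _ h)
  haveI hlh : IsLocalHom C0.subtype := ⟨fun c hc => hunit c (hc.map ρ).ne_zero⟩
  refine ⟨hloc, ?_, hlh⟩
  have hmax : ∀ c : C0, c ∈ maximalIdeal C0 ↔ ρ c.1 = 0 := fun c => by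
    refine ⟨fun h => by_contra fun hc => h (hunit c hc), fun h hu => (hu.map (ρ.comp C0.subtype)).ne_zero h⟩
  have hsub : ∀ x : C, x ∈ maximalIdeal C → x ∈ C0 := fun x hx => by
    show ρ x ∈ R0
    rw [(hker x).2 hx]
    exact zero_mem _
  obtain ⟨n, hn⟩ := IsArtinianRing.isNilpotent_jacobson_bot (R := C)
  rw [IsLocalRing.jacobson_eq_maximalIdeal ⊥ bot_ne_top] at hn
  have hmapn : ∀ i : ℕ, (maximalIdeal C0 ^ i).map C0.subtype ≤ maximalIdeal C ^ i := fun i => by
    rw [Ideal.map_pow]
    refine Ideal.pow_right_mono (Ideal.map_le_iff_le_comap.2 fun c hc => ?_) i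
    exact (hker _).1 ((hmax c).1 hc)
  refine artinian_of_fg_nilpotent ?_ ⟨n, ?_⟩
  swap
  · refine (Submodule.eq_bot_iff _).2 fun c hc => Subtype.ext ?_
    exact (Submodule.mem_bot _).1 ((show maximalIdeal C ^ n ≤ ⊥ from hn.le) (hmapn n (Ideal.mem_map_of_mem _ hc)))
  obtain ⟨G, hG⟩ := (IsNoetherian.noetherian (maximalIdeal C) : (maximalIdeal C).FG)
  obtain ⟨S, hS⟩ := (Module.finite_def.1 ‹Module.Finite R0 L›)
  choose e he using hρ
  let prod : G × S → C0 := fun q => ⟨q.1.1 * e q.2.1, hsub _ (Ideal.mul_mem_right _ _ (hG ▸ Ideal.subset_span q.1.2))⟩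
  let N : Ideal C0 := Ideal.span (Set.range prod)
  have hstep : ∀ x : C, x ∈ maximalIdeal C → ∀ (hx : x ∈ C0),
      ∃ y ∈ N, ∃ z : C, z ∈ maximalIdeal C ^ 2 ∧ x = y.1 + z := by
    intro x hx hx0
    rw [← hG] at hx
    obtain ⟨w, hw⟩ := Submodule.mem_span_finset'.1 hx
    have hcoef : ∀ v : L, ∃ r : S → C0, ∀ c : C, ρ c = v → c - ∑ s : S, (r s).1 * e s.1 ∈ maximalIdeal C := fun v => by
      obtain ⟨r, hr⟩ := Submodule.mem_span_finset'.1 (hS.ge (Submodule.mem_top (x := v)))
      refine ⟨fun s => ⟨e (r s).1, by show ρ (e (r s).1) ∈ R0; rw [he]; exact (r s).2⟩, fun c hc => (hker _).1 ?_⟩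
      rw [map_sub, map_sum, hc, ← hr, sub_eq_zero]
      refine Finset.sum_congr rfl fun s _ => ?_
      rw [map_mul, he, he]
      rfl
    choose r hr using hcoef
    refine ⟨∑ g : G, ∑ s : S, r (ρ (w g)) s * prod (g, s), sum_mem fun g _ => sum_mem fun s _ =>
      N.mul_mem_left _ (Ideal.subset_span ⟨(g, s), rfl⟩),
      ∑ g : G, (w g - ∑ s : S, (r (ρ (w g)) s).1 * e s.1) * g.1, sum_mem fun g _ => ?_, ?_⟩
    · rw [pow_two]
      exact Ideal.mul_mem_mul (hr _ _ rfl) (hG ▸ Ideal.subset_span g.2)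
    · rw [← hw]
      simp only [AddSubmonoidClass.coe_finsetSum, MulMemClass.coe_mul, prod, smul_eq_mul]
      rw [← Finset.sum_add_distrib]
      refine Finset.sum_congr rfl fun g _ => ?_
      rw [sub_mul, Finset.sum_mul, Finset.sum_congr rfl (fun (s : S) _ =>
        (by ring : (r (ρ (w g)) s).1 * (g.1 * e s.1) = (r (ρ (w g)) s).1 * e s.1 * g.1))]
      ring
  have hmul : ∀ (a : C) (ha : a ∈ maximalIdeal C) (y : C0), y ∈ N → (⟨a, hsub a ha⟩ : C0) * y ∈ N :=
    fun a ha y hy => N.mul_mem_left _ hy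
  have hdeep : ∀ (i : ℕ) (x : C), x ∈ maximalIdeal C → ∃ y ∈ N, ∃ z : C, z ∈ maximalIdeal C ^ (i + 1) ∧ x = y.1 + z := by
    intro i
    induction i with
    | zero => exact fun x hx => ⟨0, zero_mem _, x, by simpa using hx, by simp⟩
    | succ i ih =>
      intro x hx
      obtain ⟨y, hy, z, hz, rfl⟩ := hstep x hx (hsub x hx)
      suffices ∃ y' ∈ N, ∃ z' : C, z' ∈ maximalIdeal C ^ (i + 2) ∧ z = y'.1 + z' by
        obtain ⟨y', hy', z', hz', rfl⟩ := this
        exact ⟨y + y', add_mem hy hy', z', hz', by push_cast; ring⟩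
      clear hx
      rw [pow_two] at hz
      induction hz using Submodule.mul_induction_on' with
      | mem_mul_mem a ha b hb =>
        obtain ⟨y', hy', z', hz', rfl⟩ := ih b hb
        refine ⟨⟨a, hsub a ha⟩ * y', hmul a ha y' hy', a * z', ?_, by push_cast; ring⟩
        rw [pow_succ' _ (i + 1)]
        exact Ideal.mul_mem_mul ha hz'
      | add a _ b _ ha' hb' =>
        obtain ⟨y₁, h₁, z₁, h₁', rfl⟩ := ha'
        obtain ⟨y₂, h₂, z₂, h₂', rfl⟩ := hb'
        exact ⟨y₁ + y₂, add_mem h₁ h₂, z₁ + z₂, add_mem h₁' h₂', by push_cast; ring⟩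
  refine ⟨Finset.univ.image prod, le_antisymm (Ideal.span_le.2 ?_) fun c hc => ?_⟩
  · intro q hq
    obtain ⟨t, -, rfl⟩ := Finset.mem_image.1 (Finset.mem_coe.1 hq)
    exact (hmax _).2 ((hker _).2 (Ideal.mul_mem_right _ _ (hG ▸ Ideal.subset_span t.1.2)))
  · obtain ⟨y, hy, z, hz, hyz⟩ := hdeep n c.1 ((hker _).1 ((hmax c).1 hc))
    obtain rfl : z = 0 := (Submodule.mem_bot _).1 ((hn.le : maximalIdeal C ^ n ≤ ⊥) (Ideal.pow_le_pow_right (Nat.le_succ n) hz))
    rw [show c = y from Subtype.ext (by simpa using hyz), Finset.coe_image, Finset.coe_univ, Set.image_univ]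
    exact hy


/-- In the case where the S-groupoid is the base scheme S itself, let g : T → S be a morphism of schemes
with T affine, and t a point of T of finite type (the morphism Spec κ(t) → T is locally of finite
type). Suppose T is formally versal over S at t: for every surjection π : C' → C of local Artinian
rings, every a : Spec C → T sending the closed point to t with κ(t) → κ surjective, and every b :
Spec C' → S compatible with a, there is c : Spec C' → T restricting to a over b. Then T is formally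
smooth over S at t: the same lifting exists for all such a whose residue field extension κ(t) ⊆ κ is
only assumed finite. -/
theorem result {S T : Scheme.{u}} (g : T ⟶ S) [IsAffine T] (t : T)
    (ht : LocallyOfFiniteType (T.fromSpecResidueField t))
    (hT : ∀ (C C' : Type u) [CommRing C] [CommRing C'] [IsLocalRing C] [IsLocalRing C'] [IsArtinianRing C]
        [IsArtinianRing C'] (π : C' →+* C), Function.Surjective π →
        ∀ (a : Spec (CommRingCat.of C) ⟶ T) (b : Spec (CommRingCat.of C') ⟶ S),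
          a (IsLocalRing.closedPoint C) = t →
          Function.Surjective (a.residueFieldMap (IsLocalRing.closedPoint C)).hom →
          Spec.map (CommRingCat.ofHom π) ≫ b = a ≫ g →
          ∃ c : Spec (CommRingCat.of C') ⟶ T, Spec.map (CommRingCat.ofHom π) ≫ c = a ∧ c ≫ g = b) :
    ∀ (C C' : Type u) [CommRing C] [CommRing C'] [IsLocalRing C] [IsLocalRing C'] [IsArtinianRing C]
        [IsArtinianRing C'] (π : C' →+* C), Function.Surjective π →
        ∀ (a : Spec (CommRingCat.of C) ⟶ T) (b : Spec (CommRingCat.of C') ⟶ S),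
          a (IsLocalRing.closedPoint C) = t →
          (a.residueFieldMap (IsLocalRing.closedPoint C)).hom.Finite →
          Spec.map (CommRingCat.ofHom π) ≫ b = a ≫ g →
          ∃ c : Spec (CommRingCat.of C') ⟶ T, Spec.map (CommRingCat.ofHom π) ≫ c = a ∧ c ≫ g = b := by
  intro C C' _ _ _ _ _ _ π hπ a b hat hfin hsq
  let X := Spec (CommRingCat.of C)
  let p : X := IsLocalRing.closedPoint C
  let ρ : C →+* X.residueField p :=
    (X.evaluation ⊤ p trivial).hom.comp (Scheme.ΓSpecIso (CommRingCat.of C)).inv.hom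
  have hρ : Function.Surjective ρ := eval_surjective C
  let R0 : Subfield (X.residueField p) := (a.residueFieldMap p).hom.fieldRange
  haveI : Module.Finite R0 (X.residueField p) := by
    letI := (a.residueFieldMap p).hom.toAlgebra
    haveI : Module.Finite (T.residueField (a p)) (X.residueField p) := hfin
    letI : Algebra (T.residueField (a p)) R0 := (a.residueFieldMap p).hom.rangeRestrictField.toAlgebra
    haveI : IsScalarTower (T.residueField (a p)) R0 (X.residueField p) := IsScalarTower.of_algebraMap_eq fun _ => rfl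
    exact Module.Finite.of_restrictScalars_finite (T.residueField (a p)) R0 (X.residueField p)
  obtain ⟨hloc, hart, hlh⟩ := exists_artinian_subring ρ hρ R0
  let C0 := R0.toSubring.comap ρ
  have hinj : IsLocalRing (R0.toSubring.comap (ρ.comp π)) ∧ IsArtinianRing (R0.toSubring.comap (ρ.comp π)) ∧
      IsLocalHom (R0.toSubring.comap (ρ.comp π)).subtype :=
    exists_artinian_subring (ρ.comp π) (hρ.comp hπ) R0
  obtain ⟨hloc', hart', hlh'⟩ := hinj
  let C0' := R0.toSubring.comap (ρ.comp π)
  let π0 : C0' →+* C0 := (π.comp C0'.subtype).codRestrict C0 fun c => c.2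
  have hπ0 : Function.Surjective π0 := fun c => by
    obtain ⟨c', hc'⟩ := hπ c.1
    exact ⟨⟨c', show ρ (π c') ∈ R0 by rw [hc']; exact c.2⟩, Subtype.ext hc'⟩
  obtain ⟨V, hV, hsV, -⟩ := exists_isAffineOpen_mem_and_subset (X := S) (x := g t) (U := ⊤) trivial
  obtain ⟨W, hW, htW, hWV⟩ := exists_isAffineOpen_mem_and_subset (X := T) (x := t) (U := g ⁻¹ᵁ V) hsV
  have hpW : a p ∈ W := hat.symm ▸ htW
  obtain ⟨φ, hφ, hφev⟩ := exists_sections a hW hpW
  have hbV : b (IsLocalRing.closedPoint C') ∈ V := by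
    haveI : IsLocalHom π := Function.Surjective.isLocalHom π hπ
    have h := congrArg (fun r : X ⟶ S => r p) hsq
    simp only [Scheme.Hom.comp_apply] at h
    have hcl : (Spec.map (CommRingCat.ofHom π)) p = IsLocalRing.closedPoint C' := IsLocalRing.comap_closedPoint π
    rw [hcl, show a p = t from hat] at h
    rw [h]
    exact hsV
  obtain ⟨ψ, hψ, -⟩ := exists_sections b hV hbV
  have hle : W ≤ g ⁻¹ᵁ V := hWV
  have hcomp : ψ ≫ CommRingCat.ofHom π = g.appLE V W hle ≫ φ := by
    refine Spec.map_injective ((cancel_mono hV.fromSpec).1 ?_)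
    rw [Spec.map_comp, Spec.map_comp, Category.assoc, Category.assoc, hψ, hsq,
      IsAffineOpen.SpecMap_appLE_fromSpec g hV hW hle, ← Category.assoc, hφ]
  have hφ0 : ∀ x, φ x ∈ C0 := fun x => ⟨_, hφev x⟩
  have hψ0 : ∀ x, ψ x ∈ C0' := fun x => by
    show ρ (π (ψ x)) ∈ R0
    have := congrArg (fun r : Γ(S, V) ⟶ CommRingCat.of C => r x) hcomp
    simp only [CommRingCat.comp_apply] at this
    exact this.symm ▸ hφ0 _
  let a' : Spec (CommRingCat.of C0) ⟶ T := Spec.map (CommRingCat.ofHom (φ.hom.codRestrict C0 hφ0)) ≫ hW.fromSpec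
  let b' : Spec (CommRingCat.of C0') ⟶ S := Spec.map (CommRingCat.ofHom (ψ.hom.codRestrict C0' hψ0)) ≫ hV.fromSpec
  let j : X ⟶ Spec (CommRingCat.of C0) := Spec.map (CommRingCat.ofHom C0.subtype)
  let j' : Spec (CommRingCat.of C') ⟶ Spec (CommRingCat.of C0') := Spec.map (CommRingCat.ofHom C0'.subtype)
  have hja : j ≫ a' = a := by
    rw [← Category.assoc, ← Spec.map_comp]
    exact hφ
  have hjb : j' ≫ b' = b := by
    rw [← Category.assoc, ← Spec.map_comp]
    exact hψ
  have hjp : j p = IsLocalRing.closedPoint C0 := IsLocalRing.comap_closedPoint C0.subtype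
  have ha' : a' (IsLocalRing.closedPoint C0) = t := by
    rw [← hjp, ← Scheme.Hom.comp_apply, hja]
    exact hat
  have hres : Function.Surjective (a'.residueFieldMap (IsLocalRing.closedPoint C0)).hom := by
    rw [← hjp]
    intro z
    have hev : ∀ w : C0, j.residueFieldMap p ((Spec (CommRingCat.of C0)).evaluation ⊤ (j p) trivial
        ((Scheme.ΓSpecIso (CommRingCat.of C0)).inv w)) = ρ w.1 := fun w => by
      rw [Scheme.evaluation_naturality_apply]
      have hn := Scheme.ΓSpecIso_inv_naturality (CommRingCat.ofHom C0.subtype)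
      exact congrArg (X.evaluation ⊤ p trivial) (congrArg (fun r : CommRingCat.of C0 ⟶ Γ(X, ⊤) => r w) hn).symm
    obtain ⟨w, hw⟩ : ∃ w : C0, (Spec (CommRingCat.of C0)).evaluation ⊤ (j p) trivial
        ((Scheme.ΓSpecIso (CommRingCat.of C0)).inv w) = z := by
      revert z
      rw [hjp]
      exact eval_surjective C0
    have key : ∀ {r : X ⟶ T}, r = a → ∀ w : C0, ∃ u, r.residueFieldMap p u = ρ w.1 := fun e w => by
      subst e; exact w.2
    obtain ⟨u, hu⟩ := key hja w
    rw [Scheme.residueFieldMap_comp, CommRingCat.comp_apply] at hu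
    refine ⟨u, (j.residueFieldMap p).hom.injective ?_⟩
    rw [← hw, hev]
    exact hu
  have hsq0 : Spec.map (CommRingCat.ofHom π0) ≫ b' = a' ≫ g := by
    simp only [a', b', Category.assoc]
    rw [← IsAffineOpen.SpecMap_appLE_fromSpec g hV hW hle, ← Category.assoc, ← Category.assoc, ← Spec.map_comp,
      ← Spec.map_comp]
    refine congrArg (fun r => Spec.map r ≫ hV.fromSpec) (CommRingCat.hom_ext (RingHom.ext fun x => Subtype.ext ?_))
    exact congrArg (fun r : Γ(S, V) ⟶ CommRingCat.of C => r x) hcomp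
  obtain ⟨c, hc₁, hc₂⟩ := hT C0 C0' π0 hπ0 a' b' ha' hres hsq0
  refine ⟨j' ≫ c, ?_, by rw [Category.assoc, hc₂, hjb]⟩
  rw [← Category.assoc, show Spec.map (CommRingCat.ofHom π) ≫ j' = j ≫ Spec.map (CommRingCat.ofHom π0) by
    simp only [j, j', ← Spec.map_comp]
    rfl, Category.assoc, hc₁, hja]

end Groth.Agent.S18018
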