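import Groth.Statements.S18019
import Mathlib


-- import your own Groth.Agent.* helpers here

set_option autoImplicit false
universe u
open ClassStk

namespace Groth.Agent.S18019

open Polynomial in
/-- Let R be an integral domain of characteristic 2 and let a be a nonzero element of R, so that x ↦ x +
a defines an R-algebra involution of the polynomial ring R[x] (an action of the group of order two).
A polynomial f is invariant, f(x + a) = f(x), if and only if f belongs to the R-subalgebra generated
by u = x (x + a); in other words the ring of invariants is the polynomial ring R[u]. -/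
theorem result (R : Type u) [CommRing R] [IsDomain R]
    [CharP R 2] (a : R) (ha : a ≠ 0) (f : Polynomial R) :
    f.comp (X + C a) = f ↔ f ∈ Algebra.adjoin R ({X * (X + C a)} : Set (Polynomial R)) := by
  have hu : (X * (X + C a)).comp (X + C a) = X * (X + C a) := by
    simp only [mul_comp, add_comp, X_comp, C_comp]
    rw [show (X + C a + C a) = (X : Polynomial R) by rw [add_assoc, CharTwo.add_self_eq_zero, add_zero]]
    ring
  constructor
  · intro h
    induction hn : f.natDegree using Nat.strong_induction_on generalizing f with
    | _ n ih =>
      set c := f.eval 0
      by_cases hf0 : f = C c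
      · rw [hf0]; exact Subalgebra.algebraMap_mem _ c
      have h0 : (f - C c).eval 0 = 0 := by simp [c]
      have ha0 : (f - C c).eval a = 0 := by
        have := congrArg (eval 0) h
        rw [eval_comp] at this
        simp at this
        simp [this, c]
      obtain ⟨q, hq⟩ := dvd_iff_isRoot.2 (show IsRoot (f - C c) 0 from h0)
      simp only [map_zero, sub_zero] at hq
      have hqa : q.eval a = 0 := by
        rw [hq, eval_mul, eval_X, mul_eq_zero] at ha0
        exact ha0.resolve_left ha
      obtain ⟨w, hw⟩ := dvd_iff_isRoot.2 (show IsRoot q a from hqa)
      have hneg : (X - C a : Polynomial R) = X + C a := CharTwo.sub_eq_add _ _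
      rw [hw, hneg, ← mul_assoc] at hq
      have hu0 : (X * (X + C a) : Polynomial R) ≠ 0 := mul_ne_zero X_ne_zero (X_add_C_ne_zero a)
      have hwinv : w.comp (X + C a) = w := by
        have h2 := congrArg (fun q : Polynomial R => q.comp (X + C a)) hq
        simp only [sub_comp, C_comp, h] at h2
        rw [hq, mul_comp, hu] at h2
        exact (mul_left_cancel₀ hu0 h2).symm
      have hw0 : w ≠ 0 := fun h' => hf0 (by rw [h', mul_zero, sub_eq_zero] at hq; exact hq)
      have hdeg : w.natDegree < n := by
        have := congrArg natDegree hq
        rw [natDegree_sub_C, natDegree_mul hu0 hw0, natDegree_mul X_ne_zero (X_add_C_ne_zero a), natDegree_X, natDegree_X_add_C] at this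
        omega
      rw [sub_eq_iff_eq_add.1 hq]
      exact add_mem (mul_mem (Algebra.subset_adjoin rfl) (ih _ hdeg w hwinv rfl)) (Subalgebra.algebraMap_mem _ c)
  · intro h
    induction h using Algebra.adjoin_induction with
    | mem x hx => rw [Set.mem_singleton_iff.1 hx]; exact hu
    | algebraMap r => exact C_comp
    | add x y _ _ hx hy => rw [add_comp, hx, hy]
    | mul x y _ _ hx hy => rw [mul_comp, hx, hy]

end Groth.Agent.S18019
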