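import Groth.Statements.S18026
import Groth.Agent.S17447
import Groth.Agent.EtLocLib.Unram

set_option autoImplicit false
universe u
open Hensel

namespace Groth.Agent.S18026

open AlgebraicGeometry CategoryTheory in
/-- Let `A` be a henselian discrete valuation ring and `f : T ⟶ Spec A` an étale surjective morphism of
schemes. Then some open subscheme `U` of `T` is finite over `Spec A` and still maps onto it; in
particular `U → Spec A` is a finite étale cover sitting inside `T` as an open subscheme (étaleness
of the restriction is automatic, and surjectivity records that `U` meets the closed fibre). (The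
published statement asks for an open component of `T` finite étale over `Spec A`; when `T` is not
separated — two copies of `Spec A` glued along the generic point — no open and closed subset of `T`
is finite over `Spec A`, while the published proof constructs an open subscheme, the spectrum of the
local ring of `T` at a point of the closed fibre; so this row asks only for an open subscheme.) -/
theorem result
    (A : Type u) [CommRing A] [IsDomain A] [IsDiscreteValuationRing A] [HenselianLocalRing A]
    (T : Scheme.{u}) (f : T ⟶ Spec (CommRingCat.of A)) [Etale f] [Surjective f] :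
    ∃ U : T.Opens, IsFinite (U.ι ≫ f) ∧ Surjective (U.ι ≫ f) := by
  obtain ⟨t, ht⟩ := f.surjective (IsLocalRing.closedPoint A)
  obtain ⟨V, hV, htV, -⟩ := exists_isAffineOpen_mem_and_subset (x := t) (U := ⊤) trivial
  haveI : IsAffine (V : Scheme) := hV
  haveI : LocallyQuasiFinite (V.ι ≫ f) := EtLocLib.locallyQuasiFinite _
  obtain ⟨W, ⟨-, hWfin, hWmem⟩, -⟩ := Groth.Agent.S17447.result A (V.ι ≫ f)
  haveI := hWfin
  have e : (V.ι ''ᵁ W).ι ≫ f = (V.ι.isoImage W).inv ≫ (W.ι ≫ V.ι ≫ f) := by
    rw [Iso.eq_inv_comp, ← Category.assoc, Scheme.Hom.isoImage_hom_ι, Category.assoc]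
  haveI : IsFinite ((V.ι ''ᵁ W).ι ≫ f) := by rw [e]; infer_instance
  refine ⟨V.ι ''ᵁ W, inferInstance, ⟨fun s => ?_⟩⟩
  haveI : Flat (W.ι ≫ V.ι ≫ f) := inferInstance
  have hgen : GeneralizingMap (W.ι ≫ V.ι ≫ f) := Flat.generalizingMap _
  have hs : s ⤳ (W.ι ≫ V.ι ≫ f) ⟨⟨t, htV⟩, hWmem _ ht⟩ := by
    show s ⤳ f t
    rw [ht]
    exact IsLocalRing.specializes_closedPoint s
  obtain ⟨w, -, hw⟩ := hgen hs
  refine ⟨(V.ι.isoImage W).hom w, ?_⟩
  rw [← hw, e, ← Scheme.Hom.comp_apply, Iso.hom_inv_id_assoc]

end Groth.Agent.S18026
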