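import Groth.Statements.S18027
import Groth.Agent.NeutralSchLib.Small
import Groth.Agent.MiscFlat6.TopDimCovers
import Groth.Agent.WeilLib.Dim
import Groth.Agent.GrpFieldLib.Identity
-- import your own Groth.Agent.* helpers here

set_option autoImplicit false
set_option backward.isDefEq.respectTransparency false
set_option linter.style.haveILetI false
universe u
open CategoryTheory MonoidalCategory CartesianMonoidalCategory MonObj GrpObj AlgebraicGeometry CategoryTheory.Limits
open AlgGrp

namespace Groth.Agent.S18027

/-- Let `k` be a field and `u : G ⟶ H` a homomorphism of smooth `k`-group schemes which is a closed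
immersion, where `G` and `H` have the same dimension. Then `u` carries the connected component of
the identity of `G` onto the connected component of the identity of `H`; as `u` is a closed
immersion and `H` is reduced, `u` therefore restricts to an isomorphism between the identity
components. (The second printed assertion, on the groups of components, is not included.) -/
theorem result (k : Type u) [Field k]
    (G H : Over (Spec (CommRingCat.of k))) [GrpObj G] [GrpObj H]
    [Smooth G.hom] [Smooth H.hom] (u : G ⟶ H) [IsMonHom u] [IsClosedImmersion u.left]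
    (hdim : topologicalKrullDim ↥G.left = topologicalKrullDim ↥H.left)
    (t : ↥((𝟙_ (Over (Spec (CommRingCat.of k)))).left)) :
    ⇑u.left.base '' connectedComponent (η[G].left.base t) = connectedComponent (η[H].left.base t) := by
  obtain rfl : t = (IsLocalRing.closedPoint k : PrimeSpectrum k) := Subsingleton.elim (α := PrimeSpectrum k) _ _
  show ⇑u.left.base '' connectedComponent (Groth.Agent.GrpField.unitPt G) =
    connectedComponent (Groth.Agent.GrpField.unitPt H)
  have he : u.left.base (Groth.Agent.GrpField.unitPt G) = Groth.Agent.GrpField.unitPt H :=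
    congr($(IsMonHom.one_hom u).left (IsLocalRing.closedPoint k))
  have hsub : ⇑u.left.base '' connectedComponent (Groth.Agent.GrpField.unitPt G) ⊆
      connectedComponent (Groth.Agent.GrpField.unitPt H) := he ▸ u.left.continuous.image_connectedComponent_subset _
  rw [Groth.Agent.GrpField.connectedComponent_unit, Groth.Agent.GrpField.connectedComponent_unit] at hsub ⊢
  set W := Groth.Agent.GrpField.Z0 H
  set Z := Groth.Agent.GrpField.Z0 G
  haveI : IrreducibleSpace W := Subtype.irreducibleSpace (Groth.Agent.GrpField.isIrreducible_Z0 H)
  have hfin : topologicalKrullDim W ≠ ⊤ := by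
    obtain ⟨z, -, -, hz⟩ := Groth.Agent.GrpField.exists_Z0_gen H
    obtain ⟨n, hn, -⟩ := WeilLib.pdim_eq_trdeg H z
    show topologicalKrullDim ↥(Groth.Agent.GrpField.Z0 H) ≠ ⊤
    rw [hz, hn]
    exact WithBot.coe_injective.ne (ENat.coe_ne_top n)
  let Y : Set W := Subtype.val ⁻¹' (⇑u.left.base '' Z)
  have hY : IsClosed Y :=
    (u.left.isClosedEmbedding.isClosedMap _ (Groth.Agent.GrpField.isClosed_Z0 G)).preimage continuous_subtype_val
  have hle : topologicalKrullDim Z ≤ topologicalKrullDim Y :=
    ((u.left.isClosedEmbedding.isInducing.comp Topology.IsInducing.subtypeVal).codRestrict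
      (fun z : Z => hsub ⟨z.1, z.2, rfl⟩)).codRestrict (s := Y) (fun z => ⟨z.1, z.2, rfl⟩) |>.topologicalKrullDim_le
  have hdim' : topologicalKrullDim Z = topologicalKrullDim W := by
    rw [Groth.Agent.NeutralSch.dim_component_eq (Groth.Agent.GrpField.Z0_mem_components G),
      Groth.Agent.NeutralSch.dim_component_eq (Groth.Agent.GrpField.Z0_mem_components H)]
    exact hdim
  refine hsub.antisymm fun w hw => ?_
  by_contra hne
  have hlt := MiscFlat6.dim_lt_of_ssubset hfin hY (fun h => hne ((h.symm ▸ Set.mem_univ _ : (⟨w, hw⟩ : W) ∈ Y)))
  exact absurd (hle.trans_lt hlt) (hdim' ▸ lt_irrefl _)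

end Groth.Agent.S18027
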