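import Groth.Statements.S1804
import Groth.Agent.LcCxLib.RgammaMap

set_option autoImplicit false
universe u
open CategoryTheory
attribute [local instance] HasDerivedCategory.standard
open LocCoh

namespace Groth.Agent.S1804

theorem span_map_list {A B : Type u} [CommRing A] [CommRing B] (φ : A →+* B) (G : List A) :
    Ideal.span {b | b ∈ G.map φ} = (Ideal.span {a | a ∈ G}).map φ := by
  rw [Ideal.map_span]
  congr 1
  ext b
  simp [List.mem_map]

/-- For Noetherian rings and stated on cohomology. Suppose A → B is a ring map between Noetherian rings,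
I is an ideal of A whose extension to B is J = IB, and K is an object of D(B). For every i, the
A-module H^i_I of the restriction of K to D(A) (the direct limit of Hom(A/I^n, K[i])) is isomorphic
to the restriction to A of the B-module H^i_J(K). -/
theorem result (A B : Type u) [CommRing A] [CommRing B] [Algebra A B] [IsNoetherianRing A] [IsNoetherianRing B] (I : Ideal A) (K : Dual.D B) (i : ℤ) : Nonempty (Dual2.HDI A I ((DRing.restrictD (algebraMap A B)).obj K) i ≅ (ModuleCat.restrictScalars (algebraMap A B)).obj (Dual2.HDI B (I.map (algebraMap A B)) K i)) := by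
  obtain ⟨G, hG⟩ := Groth.Agent.DRingLib.exists_list_span' I
  let φ := algebraMap A B
  let l : List (B × A) := G.map fun g => (φ g, g)
  have hl : ∀ p ∈ l, LcCxLib.Compat (ModuleCat.restrictScalars.{u} φ) p.1 p.2 := by
    intro p hp
    obtain ⟨g, -, rfl⟩ := List.mem_map.1 hp
    refine ⟨fun M h x => ?_, fun M h => ?_⟩
    · obtain ⟨n, hn⟩ := h x
      refine ⟨n, ?_⟩
      show φ (g ^ n) • (show M from x) = 0
      rw [map_pow]
      exact hn
    · exact h
  obtain ⟨H, ⟨e⟩, ⟨e'⟩⟩ := LcCxLib.exists_HDI_map (ModuleCat.restrictScalars.{u} φ) (I.map φ) I l hl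
    (by simp only [l, List.map_map]; rw [← hG, ← span_map_list]; rfl)
    (by simp only [l, List.map_map]; rw [← hG]; congr 1; ext a; simp) K i
  let e'' : (ModuleCat.restrictScalars.{u} φ).obj H ≃ₗ[A]
      (ModuleCat.restrictScalars φ).obj (Dual2.HDI B (I.map φ) K i) :=
    { toFun := fun x => e x
      invFun := fun y => e.symm y
      map_add' := fun x y => map_add e _ _
      map_smul' := fun r x => map_smul e (φ r) _
      left_inv := fun x => e.symm_apply_apply _
      right_inv := fun y => e.apply_symm_apply _ }
  exact ⟨(e'.symm.trans e'').toModuleIso⟩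

end Groth.Agent.S1804
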