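import Groth.Statements.S18049
-- import your own Groth.Agent.* helpers here

set_option autoImplicit false
open STCI

namespace Groth.Agent.S18049

/-- For natural numbers 0 < k < N such that k does not divide N, ⌊N/k⌋ ≤ (N - k)/gcd(k, N); stated here
in the equivalent cleared form ⌊N/k⌋ · gcd(k, N) ≤ N - k. -/
theorem result (k N : ℕ) (hk : 0 < k) (hkN : k < N) (hndvd : ¬ k ∣ N) :
    N / k * Nat.gcd k N ≤ N - k := by
  have hg : Nat.gcd k N ∣ k := Nat.gcd_dvd_left k N
  have hne : N % k ≠ 0 := fun h => hndvd (Nat.dvd_of_mod_eq_zero h)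
  have h1 := Nat.div_add_mod N k
  have hgm : Nat.gcd k N ∣ N % k := (Nat.dvd_mod_iff hg).2 (Nat.gcd_dvd_right k N)
  have hle : Nat.gcd k N ≤ N % k := Nat.le_of_dvd (Nat.pos_of_ne_zero hne) hgm
  have h2 : Nat.gcd k N * 2 ≤ k := by
    obtain ⟨c, hc⟩ := hg
    rcases c with _ | _ | c
    · simp at hc; omega
    · exfalso; apply hndvd
      have : k = Nat.gcd k N := by simpa using hc
      rw [this]; exact Nat.gcd_dvd_right k N
    · calc Nat.gcd k N * 2 ≤ Nat.gcd k N * (c + 1 + 1) := Nat.mul_le_mul_left _ (by omega)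
        _ = k := hc.symm
  have hq : 1 ≤ N / k := (Nat.one_le_div_iff hk).2 (Nat.le_of_lt hkN)
  generalize Nat.gcd k N = g at *
  generalize N / k = q at *
  generalize N % k = r at *
  rcases Nat.exists_eq_add_of_le hq with ⟨q', rfl⟩
  have : q' * g ≤ k * q' := by
    calc q' * g ≤ q' * k := Nat.mul_le_mul_left _ (by omega)
      _ = k * q' := Nat.mul_comm _ _
  have : (1 + q') * g = g + q' * g := by rw [Nat.add_mul, Nat.one_mul]
  have : k * (1 + q') = k + k * q' := by rw [Nat.mul_add, Nat.mul_one]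
  omega

end Groth.Agent.S18049
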