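import Groth.Statements.S1805
import Groth.Agent.LcCxLib.RgammaMap

set_option autoImplicit false
universe u
open CategoryTheory
attribute [local instance] HasDerivedCategory.standard
open LocCoh

namespace Groth.Agent.S1805

theorem span_map_list {A B : Type u} [CommRing A] [CommRing B] (φ : A →+* B) (G : List A) :
    Ideal.span {b | b ∈ G.map φ} = (Ideal.span {a | a ∈ G}).map φ := by
  rw [Ideal.map_span]
  congr 1
  ext b
  simp [List.mem_map]

theorem extend_map_smul_id {A B : Type u} [CommRing A] [CommRing B] (φ : A →+* B) (g : A)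
    (M : ModuleCat.{u} A) :
    (ModuleCat.extendScalars.{u, u, u} φ).map (g • 𝟙 M) = φ g • 𝟙 _ := by
  apply ((ModuleCat.extendRestrictScalarsAdj.{u, u, u} φ).homEquiv _ _).injective
  rw [Adjunction.homEquiv_unit, Adjunction.homEquiv_unit]
  refine (((ModuleCat.extendRestrictScalarsAdj.{u, u, u} φ).unit.naturality (g • 𝟙 M)).symm).trans ?_
  refine ModuleCat.hom_ext (LinearMap.ext fun x => ?_)
  exact map_smul ((ModuleCat.extendRestrictScalarsAdj.{u, u, u} φ).unit.app M).hom g x

theorem extend_congr_smul {A B : Type u} [CommRing A] [CommRing B] (φ : A →+* B) {H : ModuleCat.{u} A}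
    {H' : ModuleCat.{u + 1} A} (e : H ≃ₗ[A] H')
    (F : ((ModuleCat.extendScalars.{u, u, u} φ).obj H : ModuleCat.{u} B) →+
      ((ModuleCat.extendScalars φ).obj H' : ModuleCat.{u + 1} B))
    (hF : ∀ x, F x = TensorProduct.congr (LinearEquiv.refl A ((ModuleCat.restrictScalars φ).obj (ModuleCat.of B B))) e x)
    (r : B) (x : ((ModuleCat.extendScalars.{u, u, u} φ).obj H : ModuleCat.{u} B)) :
    F (r • x) = r • F x := by
  induction x using TensorProduct.induction_on with
  | zero =>
    exact (congrArg F (smul_zero (A := ((ModuleCat.extendScalars.{u, u, u} φ).obj H : ModuleCat.{u} B)) r)).trans ((map_zero F).trans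
      ((congrArg (r • ·) (map_zero F)).trans (smul_zero (A := ((ModuleCat.extendScalars φ).obj H' : ModuleCat.{u + 1} B)) r)).symm)
  | tmul b m => exact (hF _).trans (congrArg (r • ·) (hF (b ⊗ₜ m))).symm
  | add x y hx hy =>
    exact (congrArg F (smul_add (A := ((ModuleCat.extendScalars.{u, u, u} φ).obj H : ModuleCat.{u} B)) r x y)).trans ((map_add F _ _).trans ((congrArg₂ (· + ·) hx hy).trans
      ((congrArg (r • ·) (map_add F x y)).trans (smul_add (A := ((ModuleCat.extendScalars φ).obj H' : ModuleCat.{u + 1} B)) r _ _)).symm))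

theorem compat_extend {A B : Type u} [CommRing A] [CommRing B] [IsNoetherianRing A] [IsNoetherianRing B]
    (φ : A →+* B) (hφ : φ.Flat) (g : A) :
    haveI := ModuleCat.preservesFiniteLimits_extendScalars_of_flat.{u} hφ
    LcCxLib.Compat (ModuleCat.extendScalars.{u, u, u} φ) g (φ g) := by
  constructor
  · intro M h z
    let E : ℕ → ((ModuleCat.extendScalars.{u, u, u} φ).obj M →ₗ[B] (ModuleCat.extendScalars.{u, u, u} φ).obj M) :=
      fun n => ((ModuleCat.extendScalars.{u, u, u} φ).map (g ^ n • 𝟙 M)).hom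
    have hE : ∀ n x, E n x = φ (g ^ n) • x := fun n x =>
      congrArg (fun k => k.hom x) (extend_map_smul_id φ (g ^ n) M)
    have hadd : ∀ n m x, E n x = 0 → E (n + m) x = 0 ∧ E (m + n) x = 0 := fun n m x hx => by
      rw [hE] at hx
      constructor
      · rw [hE, add_comm n m, pow_add, map_mul, mul_smul, hx, smul_zero]
      · rw [hE, pow_add, map_mul, mul_smul, hx, smul_zero]
    suffices key : ∀ x, ∃ n, E n x = 0 by
      obtain ⟨n, hn⟩ := key z
      exact ⟨n, by rw [← map_pow, ← hE]; exact hn⟩
    intro x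
    induction x using TensorProduct.induction_on with
    | zero => exact ⟨0, map_zero (E 0)⟩
    | tmul c m =>
      obtain ⟨n, hn⟩ := h m
      refine ⟨n, ?_⟩
      exact (congrArg (fun y : M => TensorProduct.mk A ((ModuleCat.restrictScalars φ).obj (ModuleCat.of B B)) M c y) hn).trans (map_zero _)
    | add x y hx hy =>
      obtain ⟨n, hn⟩ := hx
      obtain ⟨m, hm⟩ := hy
      refine ⟨n + m, ?_⟩
      exact (map_add (E (n + m)) x y).trans ((congrArg₂ (· + ·) (hadd n m _ hn).1 (hadd m n _ hm).2).trans (zero_add 0))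
  · intro M h
    haveI : IsIso (g • 𝟙 M) := (ConcreteCategory.isIso_iff_bijective _).2 (by convert h using 1; rfl)
    haveI : IsIso ((ModuleCat.extendScalars.{u, u, u} φ).map (g • 𝟙 M)) := inferInstance
    rw [extend_map_smul_id] at this
    exact (ConcreteCategory.isIso_iff_bijective _).1 this

/-- Suppose A → B is a flat ring map between Noetherian rings, I is an ideal of A, and K is an object of
D(A); assume the derived base change functor D(A) → D(B) exists. Then for every i the B-module
H^i_{IB} of the base change of K (direct limit of Hom(B/I^nB, (K ⊗^L_A B)[i])) is isomorphic to B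
⊗_A H^i_I(K). -/
theorem result (A B : Type u) [CommRing A] [CommRing B] [Algebra A B] [IsNoetherianRing A] [IsNoetherianRing B] [Module.Flat A B] [DRing.HasLBaseChange (algebraMap A B)] (I : Ideal A) (K : Dual.D A) (i : ℤ) : Nonempty (Dual2.HDI B (I.map (algebraMap A B)) ((DRing.LBaseChange (algebraMap A B)).obj K) i ≅ (ModuleCat.extendScalars (algebraMap A B)).obj (Dual2.HDI A I K i)) := by
  let φ := algebraMap A B
  have hφ : φ.Flat := RingHom.flat_algebraMap_iff.2 inferInstance
  haveI := ModuleCat.preservesFiniteLimits_extendScalars_of_flat.{u} hφ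
  obtain ⟨G, hG⟩ := Groth.Agent.DRingLib.exists_list_span' I
  let l : List (A × B) := G.map fun g => (g, φ g)
  have hl : ∀ p ∈ l, LcCxLib.Compat (ModuleCat.extendScalars.{u, u, u} φ) p.1 p.2 := by
    intro p hp
    obtain ⟨g, -, rfl⟩ := List.mem_map.1 hp
    exact compat_extend φ hφ g
  obtain ⟨H, ⟨e⟩, ⟨e'⟩⟩ := LcCxLib.exists_HDI_map (ModuleCat.extendScalars.{u, u, u} φ) I (I.map φ) l hl
    (by simp only [l, List.map_map]; rw [← hG]; congr 1; ext a; simp)
    (by simp only [l, List.map_map]; rw [← hG, ← span_map_list]; rfl) K i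
  obtain ⟨P, hP, ⟨eP⟩⟩ := Groth.Agent.DRingLib.exists_good_rep K
  let eL : (DRing.LBaseChange φ).obj K ≅ (ModuleCat.extendScalars.{u, u, u} φ).mapDerivedCategory.obj K :=
    (DRing.LBaseChange φ).mapIso eP.symm ≪≫ Groth.Agent.DRingLib.lBaseChangeObjIso φ P hP.1 ≪≫
      ((ModuleCat.extendScalars.{u, u, u} φ).mapDerivedCategoryFactors.app P).symm ≪≫
      (ModuleCat.extendScalars.{u, u, u} φ).mapDerivedCategory.mapIso eP
  let eH : Dual2.HDI B (I.map φ) ((DRing.LBaseChange φ).obj K) i ≅
      Dual2.HDI B (I.map φ) ((ModuleCat.extendScalars.{u, u, u} φ).mapDerivedCategory.obj K) i :=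
    Limits.HasColimit.isoOfNatIso (Functor.isoWhiskerLeft _
      ((linearYoneda B (Dual.D B)).mapIso ((shiftFunctor _ i).mapIso eL)))
  let eM : (ModuleCat.extendScalars.{u, u, u} φ).obj H ≃ₗ[B]
      (ModuleCat.extendScalars φ).obj (Dual2.HDI A I K i) :=
    let f := TensorProduct.congr (LinearEquiv.refl A ((ModuleCat.restrictScalars φ).obj (ModuleCat.of B B))) e
    { toFun := fun x => f x
      invFun := fun y => f.symm y
      map_add' := fun x y => map_add f x y
      map_smul' := fun r x => extend_congr_smul φ e ⟨⟨fun x => f x, map_zero f⟩, map_add f⟩ (fun _ => rfl) r x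
      left_inv := fun x => f.symm_apply_apply x
      right_inv := fun y => f.apply_symm_apply y }
  exact ⟨eH ≪≫ (e'.symm.trans eM).toModuleIso⟩

end Groth.Agent.S1805
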