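import Groth.Statements.S18050
import Mathlib


-- import your own Groth.Agent.* helpers here

set_option autoImplicit false
open STCI

namespace Groth.Agent.S18050

open W4c5stcicurvesp3 in
/-- Let k ≤ N be positive integers, let t be the least positive integer with rem_t(N, k) = 0, where
rem_0 = k, rem_1 = N mod k and rem_i is the remainder of rem_{i-2} by rem_{i-1} (iterated Euclidean
remainders), and let d_i be the corresponding iterated quotients (d_1 = ⌊N/k⌋, d_i =
⌊rem_{i-2}/rem_{i-1}⌋). Then d_1 + ⋯ + d_t ≤ N/gcd(k, N); stated in the cleared form (d_1 + ⋯ + d_t)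
· gcd(k, N) ≤ N. -/
theorem result (k N t : ℕ) (hk : 0 < k) (hkN : k ≤ N) (ht : 0 < t)
    (hzero : irem N k t = 0) (hmin : ∀ i, 0 < i → i < t → irem N k i ≠ 0) :
    (∑ i ∈ Finset.Icc 1 t, idiv N k i) * Nat.gcd k N ≤ N := by
  have hrec : ∀ (a b : ℕ), a % b ≠ 0 → ∀ i,
      irem a b (i + 1) = irem b (a % b) i ∧ idiv a b (i + 2) = idiv b (a % b) (i + 1) := by
    intro a b hr i
    induction i using Nat.strong_induction_on with
    | _ i ih =>
      have hrem : irem a b (i + 1) = irem b (a % b) i := by
        rcases i with _ | _ | j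
        · simp [irem]
        · simp [irem, hr]
        · conv_lhs => rw [irem.eq_3]
          conv_rhs => rw [irem.eq_3]
          rw [(ih (j + 1) (by omega)).1, (ih j (by omega)).1]
      refine ⟨hrem, ?_⟩
      rcases i with _ | j
      · simp [irem, idiv, hr]
      · conv_lhs => rw [idiv.eq_3]
        conv_rhs => rw [idiv.eq_3]
        rw [hrem, (ih j (by omega)).1]
  have main : ∀ t : ℕ, ∀ a b : ℕ, 0 < b → b ≤ a → 0 < t → irem a b t = 0 →
      (∀ i, 0 < i → i < t → irem a b i ≠ 0) →
      (∑ i ∈ Finset.range t, idiv a b (i + 1)) * Nat.gcd b a ≤ a := by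
    intro t
    induction t with
    | zero => intro a b _ _ h; omega
    | succ t ih =>
      intro a b hb hba _ hz hm
      rcases Nat.eq_zero_or_pos t with rfl | ht'
      · have hr : a % b = 0 := by simpa [irem] using hz
        have hd : b ∣ a := Nat.dvd_of_mod_eq_zero hr
        rw [Finset.sum_range_one, Nat.gcd_eq_left hd]
        simp only [idiv]
        exact Nat.div_mul_le_self a b
      · have hr : a % b ≠ 0 := by simpa [irem] using hm 1 one_pos (by omega)
        set r := a % b with hrdef
        have hlt : r < b := Nat.mod_lt _ hb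
        have h1 : irem b r t = 0 := by rw [← (hrec a b hr t).1]; exact hz
        have h2 : ∀ i, 0 < i → i < t → irem b r i ≠ 0 := fun i hi hi' => by
          rw [← (hrec a b hr i).1]; exact hm (i + 1) (by omega) (by omega)
        have hS := ih b r (Nat.pos_of_ne_zero hr) hlt.le ht' h1 h2
        have hg : Nat.gcd b a = Nat.gcd r b := Nat.gcd_rec b a
        rw [Finset.sum_range_succ', hg]
        simp only [(fun i => (hrec a b hr i).2)]
        rw [show idiv a b (0 + 1) = a / b from rfl]
        set g := Nat.gcd r b
        have hgr : g ≤ r := Nat.le_of_dvd (Nat.pos_of_ne_zero hr) (Nat.gcd_dvd_left r b)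
        have hgb : g ∣ b := Nat.gcd_dvd_right r b
        have hgdr : g ∣ r := Nat.gcd_dvd_left r b
        have hsum : g + g ≤ b + r := by omega
        have hq : 1 ≤ a / b := (Nat.one_le_div_iff hb).2 hba
        have ha : b * (a / b) + r = a := by rw [hrdef]; exact Nat.div_add_mod a b
        obtain ⟨q, hq'⟩ : ∃ q, a / b = q + 1 := ⟨a / b - 1, by omega⟩
        rw [hq'] at ha ⊢
        have hgb' : g ≤ b := Nat.le_of_dvd hb hgb
        have hmul : q * g ≤ q * b := Nat.mul_le_mul_left q hgb'
        rw [add_mul]
        have e1 : (q + 1) * g = q * g + g := by ring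
        have e2 : b * (q + 1) = q * b + b := by ring
        rw [e1]
        linarith
  have h := main t N k hk hkN ht hzero hmin
  rw [Finset.range_eq_Ico, Finset.sum_Ico_add' (fun i => idiv N k i) 0 t 1, Nat.zero_add,
    Finset.Ico_add_one_right_eq_Icc] at h
  exact h

end Groth.Agent.S18050
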