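import Groth.Statements.S18053
import Mathlib
import Mathlib
-- import your own Groth.Agent.* helpers here

set_option autoImplicit false
open STCI

namespace Groth.Agent.S18053

/-- Let (p_k)_{k ≥ 1} be a sequence of nonnegative integers and n a nonnegative integer such that (i)
p_1 ≤ 9 - (2/5)n, (ii) p_1 ≥ p_2 ≥ p_3 ≥ ⋯, (iii) Σ_k p_k ≤ 19 - n, and (iv) n/4 + Σ_{k ≥ 1}
p_k/(k(k+1)) ≥ 6. Then n = 0 and (p_k) is one of (9, 8, 2), (9, 9), (9, 9, 1) (followed by zeros).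
Here the sequence is indexed from 0 (so p 0 is p_1 and the weight of p k is 1/((k+1)(k+2))), (iii)
is stated for every partial sum, and the series in (iv) is the real sum Σ' over all k. -/
theorem result (p : ℕ → ℕ) (n : ℕ)
    (h1 : (p 0 : ℝ) ≤ 9 - (2 / 5 : ℝ) * n) (h2 : Antitone p)
    (h3 : ∀ m : ℕ, ((∑ k ∈ Finset.range m, p k : ℕ) : ℝ) ≤ 19 - (n : ℝ))
    (h4 : (6 : ℝ) ≤ (n : ℝ) / 4 + ∑' k : ℕ, (p k : ℝ) / (((k : ℝ) + 1) * ((k : ℝ) + 2))) :
    n = 0 ∧ (p = (fun k => if k = 0 then 9 else if k = 1 then 8 else if k = 2 then 2 else 0)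
      ∨ p = (fun k => if k = 0 then 9 else if k = 1 then 9 else 0)
      ∨ p = (fun k => if k = 0 then 9 else if k = 1 then 9 else if k = 2 then 1 else 0)) := by
  have h19 : ∀ m : ℕ, (∑ k ∈ Finset.range m, p k) + n ≤ 19 := fun m => by
    have h := h3 m
    have h' : ((∑ k ∈ Finset.range m, p k : ℕ) : ℝ) + n ≤ 19 := by linarith
    exact_mod_cast h'
  have hz : ∀ k, 19 ≤ k → p k = 0 := fun k hk => by
    by_contra hne
    have h := h19 (k + 1)
    have : (Finset.range (k + 1)).card • 1 ≤ ∑ i ∈ Finset.range (k + 1), p i :=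
      Finset.card_nsmul_le_sum _ _ _ fun i hi =>
        le_trans (Nat.one_le_iff_ne_zero.2 hne) (h2 (Nat.lt_succ_iff.1 (Finset.mem_range.1 hi)))
    simp at this
    omega
  obtain ⟨N, hN⟩ : ∃ N, N = 19 := ⟨_, rfl⟩
  have hN0 : 0 < N := by omega
  rw [tsum_eq_sum (s := Finset.range (N + 3)) (fun k hk => by
    rw [hz k (by rw [Finset.mem_range] at hk; omega)]; simp),
    Finset.sum_range_succ', Finset.sum_range_succ', Finset.sum_range_succ'] at h4
  set T := ∑ k ∈ Finset.range N, p (k + 1 + 1 + 1) with hT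
  have htail : (∑ k ∈ Finset.range N, (p (k + 1 + 1 + 1) : ℝ) /
      ((((k + 1 + 1 + 1 : ℕ) : ℝ) + 1) * (((k + 1 + 1 + 1 : ℕ) : ℝ) + 2))) ≤ (T : ℝ) / 20 := by
    rw [hT, Nat.cast_sum, Finset.sum_div]
    refine Finset.sum_le_sum fun k _ => div_le_div_of_nonneg_left (Nat.cast_nonneg _) (by norm_num) ?_
    push_cast
    nlinarith [Nat.cast_nonneg (α := ℝ) k]
  have hsum := h19 (N + 3)
  rw [Finset.sum_range_succ', Finset.sum_range_succ', Finset.sum_range_succ', ← hT] at hsum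
  norm_num at h4 hsum htail
  have e1 : (5 : ℝ) * p 0 + 2 * n ≤ 45 := by linarith
  have a1 : 5 * p 0 + 2 * n ≤ 45 := by exact_mod_cast e1
  have e2 : (360 : ℝ) ≤ 15 * n + 30 * p 0 + 10 * p 1 + 5 * p 2 + 3 * T := by linarith
  have a2 : 360 ≤ 15 * n + 30 * p 0 + 10 * p 1 + 5 * p 2 + 3 * T := by exact_mod_cast e2
  have a3 : p 1 ≤ p 0 := h2 (by omega)
  have a4 : p 2 ≤ p 1 := h2 (by omega)
  have a5 : p 3 ≤ p 2 := h2 (by omega)
  have hn : n = 0 := by omega
  subst hn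
  have h0 : p 0 = 9 := by omega
  have hcases : (p 1 = 8 ∧ p 2 = 2 ∧ T = 0) ∨ (p 1 = 9 ∧ p 2 = 0) ∨ (p 1 = 9 ∧ p 2 = 1 ∧ T = 0) := by omega
  refine ⟨rfl, ?_⟩
  have key : ∀ a b : ℕ, p 1 = a → p 2 = b → p 3 = 0 →
      p = fun k => if k = 0 then 9 else if k = 1 then a else if k = 2 then b else 0 := fun a b ha hb h3' => by
    funext k
    rcases k with _ | _ | _ | k
    · exact h0
    · exact ha
    · exact hb
    · have : p (k + 1 + 1 + 1) ≤ p 3 := h2 (by omega)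
      simp only [Nat.add_eq_zero_iff, OfNat.ofNat_ne_zero, one_ne_zero, and_false, if_false]
      rw [if_neg (by omega), if_neg (by omega)]; omega
  rcases hcases with ⟨ha, hb, hT0⟩ | ⟨ha, hb⟩ | ⟨ha, hb, hT0⟩
  · exact Or.inl (key 8 2 ha hb (by have := (Finset.sum_eq_zero_iff.1 (hT ▸ hT0)) 0 (Finset.mem_range.2 hN0); simpa using this))
  · refine Or.inr (Or.inl ?_)
    rw [key 9 0 ha hb (by omega)]
    funext k; split_ifs <;> rfl
  · exact Or.inr (Or.inr (key 9 1 ha hb (by have := (Finset.sum_eq_zero_iff.1 (hT ▸ hT0)) 0 (Finset.mem_range.2 hN0); simpa using this)))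

end Groth.Agent.S18053
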