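import Groth.Statements.S18054
import Mathlib


-- import your own Groth.Agent.* helpers here

set_option autoImplicit false
open STCI

namespace Groth.Agent.S18054

/-- Let s, t, d, g be integers with t ≥ s ≥ 4, d ≥ 1, g ≥ 0 and d dividing st; put n = st/d and assume n
≥ 2; put r = d[n(s - 4) + t] + (2 - 2g)n and assume r ≤ (s/3)(2s² - 6s + 7) - 1. Then d ≤ g + 3.
(The bound is written cleared of the denominator 3; s(2s² - 6s + 7) is always divisible by 3, so
this is the same condition.) -/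
theorem result (s t d g n : ℤ) (hs : 4 ≤ s) (hst : s ≤ t) (hd : 1 ≤ d) (hg : 0 ≤ g)
    (hn : s * t = d * n) (hn2 : 2 ≤ n)
    (hr : 3 * (d * (n * (s - 4) + t) + (2 - 2 * g) * n) ≤ s * (2 * s ^ 2 - 6 * s + 7) - 3) :
    d ≤ g + 3 := by
  by_contra hlt
  push Not at hlt
  have hg2 : 2 - 2 * g ≥ 10 - 2 * d := by omega
  have ht0 : 0 < t := by omega
  have hu : 3 * (d * t + 10 * n) ≤ s * (2 * s ^ 2 - 6 * s + 7) - 3 - 3 * (s * t) * (s - 6) := by
    have : (10 - 2 * d) * n ≤ (2 - 2 * g) * n := mul_le_mul_of_nonneg_right hg2 (by omega)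
    rw [hn]
    nlinarith
  have hpos : 0 ≤ d * t + 10 * n := by positivity
  have hsq : 40 * t * (s * t) ≤ (d * t + 10 * n) ^ 2 := by
    rw [hn]; nlinarith [sq_nonneg (d * t - 10 * n)]
  have hC : 360 * t * (s * t) ≤ (s * (2 * s ^ 2 - 6 * s + 7) - 3 - 3 * (s * t) * (s - 6)) ^ 2 := by
    nlinarith [pow_le_pow_left₀ (by positivity : (0 : ℤ) ≤ 3 * (d * t + 10 * n)) hu 2]
  have hnn : 0 ≤ s * (2 * s ^ 2 - 6 * s + 7) - 3 - 3 * (s * t) * (s - 6) := by linarith
  by_cases h13 : 13 ≤ s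
  · nlinarith [mul_le_mul_of_nonneg_left hst (by nlinarith : (0 : ℤ) ≤ 3 * s * (s - 6)), sq_nonneg (s - 13), mul_nonneg (by omega : (0:ℤ) ≤ s) (mul_nonneg (by omega : (0:ℤ) ≤ s) (by omega : (0:ℤ) ≤ s - 13))]
  · interval_cases s
    · have ht4 : t = 4 := by nlinarith
      subst ht4
      have hn4 : n ≤ 4 := by nlinarith
      have hd' : d * n = 16 := by omega
      interval_cases n <;> omega
    all_goals nlinarith

end Groth.Agent.S18054
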