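import Groth.Statements.S18055
import Mathlib.Tactic.Linarith
import Mathlib.Tactic.LinearCombination
import Mathlib.Tactic.Set
import Mathlib.Tactic.Positivity
import Mathlib.Tactic.Ring
import Mathlib.RingTheory.Coprime.Lemmas
import Mathlib.RingTheory.Int.Basic

set_option autoImplicit false
open STCI

namespace Groth.Agent.S18055

/-- Let d ≥ 1, g ≥ 0 and 1 ≤ s ≤ t be integers with d dividing st, put n = st/d and r = d[n(s - 4) + t]
+ (2 - 2g)n, and assume n ≥ 2, r > 0 and (n - 1) divides r. Then s < 2d² and t < 2d⁴. This is the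
statement about the degree data (d, g the degree and genus of the curve, s ≤ t the degrees of the
two surfaces) to which the published proof reduces the degree bound: there the divisibility and
positivity express that r/(n - 1), the common value of the type numbers of the pair, is a positive
integer; the geometric hypotheses themselves are not part of this row. -/
theorem result (d g s t n : ℤ) (hd : 1 ≤ d) (hg : 0 ≤ g) (hs : 1 ≤ s) (hst : s ≤ t)
    (hn : s * t = d * n) (hn2 : 2 ≤ n)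
    (hpos : 0 < d * (n * (s - 4) + t) + (2 - 2 * g) * n)
    (hdvd : (n - 1) ∣ d * (n * (s - 4) + t) + (2 - 2 * g) * n) :
    s < 2 * d ^ 2 ∧ t < 2 * d ^ 4 := by
  obtain ⟨e, he⟩ := hdvd
  set q := d * (s + t - 4) + (2 - 2 * g) with hq
  have h1 : q * n = (n - 1) * (e + d * t) := by
    rw [hq]
    linear_combination he
  have hcop : IsCoprime (n - 1) n := ⟨-1, 1, by ring⟩
  obtain ⟨m, hm⟩ : n - 1 ∣ q := hcop.dvd_of_dvd_mul_right ⟨e + d * t, h1⟩
  have h2 : e + d * t = n * m := by
    have : (n - 1) * (e + d * t) = (n - 1) * (n * m) := by rw [← h1, hm]; ring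
    exact mul_left_cancel₀ (by omega) this
  have he1 : 0 < e := by
    by_contra h
    nlinarith [mul_nonpos_of_nonneg_of_nonpos (show (0:ℤ) ≤ n - 1 by omega) (show e ≤ 0 by omega)]
  have hqle : (n - 1) * m ≤ d * (s + t - 4) + 2 := by rw [← hm, hq]; linarith
  have hk : d ^ 2 + 1 ≤ m * s := by
    have h3 : d * t < n * m := by linarith
    have h4 : (d * t) * s < (n * m) * s := by nlinarith
    have h5 : d ^ 2 * n < n * (m * s) := by nlinarith
    nlinarith
  have hm0 : 0 < m := by nlinarith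
  obtain ⟨k, hk'⟩ : ∃ k, m * s = d ^ 2 + k := ⟨m * s - d ^ 2, by ring⟩
  have hk1 : 1 ≤ k := by linarith
  have hd2 : (0:ℤ) ≤ d ^ 2 := sq_nonneg d
  have hbound : t * k ≤ d ^ 2 * s + d * m - 4 * d ^ 2 + 2 * d := by
    have := mul_le_mul_of_nonneg_left hqle (show (0:ℤ) ≤ d by linarith)
    have e2 : d * ((n - 1) * m) = t * (m * s) - d * m := by linear_combination (m : ℤ) * (-hn)
    rw [e2, hk'] at this
    nlinarith
  have hneg : d * 3 < 4 * d ^ 2 := by nlinarith
  have hsb : s < 2 * d ^ 2 := by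
    by_contra h
    have h6 : 2 * d ^ 2 ≤ s := by linarith
    have h7 : s * t ≤ d ^ 2 * s + d ^ 2 * t - 4 * d ^ 2 + 3 * d := by
      have := mul_le_mul_of_nonneg_left (le_trans (le_mul_of_one_le_right (show (0:ℤ) ≤ n - 1 by omega) (show 1 ≤ m by linarith)) hqle) (show (0:ℤ) ≤ d by linarith)
      nlinarith
    nlinarith [mul_le_mul (show d ^ 2 ≤ s - d ^ 2 by linarith) (show d ^ 2 ≤ t - d ^ 2 by linarith) hd2 (by linarith : (0:ℤ) ≤ s - d ^ 2)]
  refine ⟨hsb, ?_⟩
  have hms : m ≤ k + d ^ 2 := by nlinarith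
  by_contra h
  have h8 : 2 * d ^ 4 ≤ t := by linarith
  have h9 : d ^ 2 * s ≤ 2 * d ^ 4 := by nlinarith
  rcases le_or_gt s (d ^ 2) with hs2 | hs2
  · have h10 : d ^ 2 * s ≤ d ^ 4 := by nlinarith
    have h11 : d * m ≤ d * k + d ^ 3 := by nlinarith
    have h13 : d ^ 3 ≤ d ^ 4 := pow_le_pow_right₀ hd (by norm_num)
    have h14 : d ≤ d ^ 4 := le_self_pow₀ hd (by norm_num)
    have h15 : 0 ≤ (2 * d ^ 4 - d) * (k - 1) := mul_nonneg (by linarith) (by linarith)
    have h16 : 2 * d ^ 4 * k ≤ t * k := mul_le_mul_of_nonneg_right h8 (by linarith)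
    nlinarith
  · have h12 : s * t ≤ d ^ 2 * s + d ^ 2 * t - 4 * d ^ 2 + 3 * d := by
      have := mul_le_mul_of_nonneg_left (le_trans (le_mul_of_one_le_right (show (0:ℤ) ≤ n - 1 by omega) (show 1 ≤ m by linarith)) hqle) (show (0:ℤ) ≤ d by linarith)
      nlinarith
    have hd4 : d ^ 2 ≤ d ^ 4 := pow_le_pow_right₀ hd (by norm_num)
    nlinarith [mul_le_mul (show (1:ℤ) ≤ s - d ^ 2 by linarith) (le_refl (t - d ^ 2)) (by linarith : (0:ℤ) ≤ t - d ^ 2) (by linarith : (0:ℤ) ≤ s - d ^ 2)]

end Groth.Agent.S18055
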