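import Groth.Statements.S18061
import Groth.Agent.DvrHopfLib.Basic
-- import your own Groth.Agent.* helpers here

set_option autoImplicit false
universe u
open scoped TensorProduct
open HopfRep

namespace Groth.Agent.S18061

/-- A is a discrete valuation ring, K denotes its field of fractions and k its residue field; G = Spec H
is a flat affine A-group scheme of finite presentation, H being a flat, finitely presented
commutative Hopf algebra over A. If the generic fibre G_K is unipotent (every nonzero
finite-dimensional representation has a nonzero fixed vector), then so is the special fibre G_k. -/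
theorem result (A : Type u) [CommRing A] [IsDomain A] [IsDiscreteValuationRing A]
    (K : Type u) [Field K] [Algebra A K] [IsFractionRing A K]
    (H : Type u) [CommRing H] [HopfAlgebra A H] [Module.Flat A H] [Algebra.FinitePresentation A H]
    (hK : HopfRep.IsUnipotent K (K ⊗[A] H)) :
    HopfRep.IsUnipotent (IsLocalRing.ResidueField A) (IsLocalRing.ResidueField A ⊗[A] H) := by
  let k := IsLocalRing.ResidueField A
  let C : ℕ → Submodule k (k ⊗[A] H) := fun n =>
    Groth.Agent.DvrHopfLib.red k (Groth.Agent.DvrHopfLib.cut K (Groth.Agent.UnipHopf.K K (K ⊗[A] H) n))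
  have hC : ∀ n, C n ≤ Groth.Agent.UnipHopf.K k (k ⊗[A] H) n := by
    intro n
    induction n with
    | zero =>
      refine Submodule.span_le.2 ?_
      rintro _ ⟨x, hx, rfl⟩
      rw [SetLike.mem_coe, Groth.Agent.DvrHopfLib.mem_cut, Groth.Agent.UnipHopf.K_zero, Submodule.mem_bot] at hx
      rw [Groth.Agent.DvrHopfLib.inc_injective K (hx.trans (map_zero _).symm), map_zero]
      exact zero_mem _
    | succ n ih =>
      refine Submodule.span_le.2 ?_
      rintro _ ⟨x, hx, rfl⟩
      have h1 := Groth.Agent.UnipHopf.coact_sub_mem_of_mem_soc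
        (show Groth.Agent.DvrHopfLib.inc K x ∈ Groth.Agent.UnipHopf.soc K (K ⊗[A] H) (K ⊗[A] H) (n + 1) from hx)
      have e : ∀ (S : Type u) [CommRing S] [Algebra A S], Groth.Agent.DvrHopfLib.inc₂ S
          (CoalgebraStruct.comul (R := A) x - x ⊗ₜ[A] (1 : H)) =
          CoalgebraStruct.comul (R := S) (Groth.Agent.DvrHopfLib.inc (A := A) S x) -
            Groth.Agent.DvrHopfLib.inc S x ⊗ₜ[S] (1 : S ⊗[A] H) := fun S _ _ => by
        rw [map_sub, Groth.Agent.DvrHopfLib.comul_inc, Groth.Agent.DvrHopfLib.inc₂_tmul]
        rfl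
      have h2 := Groth.Agent.DvrHopfLib.mem_range_cut K ((e K).symm ▸ h1)
      have h3 := Groth.Agent.DvrHopfLib.inc₂_mem_range k h2
      rw [e] at h3
      obtain ⟨w, hw⟩ := h3
      have hmono : ∀ w, (C n).subtype.rTensor (k ⊗[A] H) w ∈
          LinearMap.range ((Groth.Agent.UnipHopf.K k (k ⊗[A] H) n).subtype.rTensor (k ⊗[A] H)) := fun w => by
        induction w using TensorProduct.induction_on with
        | zero => rw [map_zero]; exact zero_mem _
        | add p q hp hq => rw [map_add]; exact add_mem hp hq
        | tmul p q => exact ⟨⟨p.1, ih p.2⟩ ⊗ₜ[k] q, rfl⟩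
      refine Groth.Agent.UnipHopf.mem_soc_succ_of_coact_sub ?_
      show CoalgebraStruct.comul (R := k) (Groth.Agent.DvrHopfLib.inc (A := A) k x) - _ ∈ _
      rw [← hw]
      exact hmono w
  refine Groth.Agent.UnipHopf.isUnipotent_of_exhaustive fun y => ?_
  obtain ⟨x, rfl⟩ := Groth.Agent.DvrHopfLib.inc_residue_surjective y
  obtain ⟨n, hn⟩ := Groth.Agent.UnipHopf.exhaustive_of_isUnipotent hK (Groth.Agent.DvrHopfLib.inc K x)
  exact ⟨n, hC n (Submodule.subset_span ⟨x, hn, rfl⟩)⟩

end Groth.Agent.S18061
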