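import Groth.Statements.S18062
import Groth.Agent.DvrHopfLib.Basic
-- import your own Groth.Agent.* helpers here

set_option autoImplicit false
universe u
open scoped TensorProduct
open HopfRep

open scoped ComodLib

namespace Groth.Agent.S18062

/-- A is a discrete valuation ring, K denotes its field of fractions and k its residue field, and G =
Spec H a flat affine A-group scheme of finite presentation, H being a flat, finitely presented
commutative Hopf algebra over A. If the generic fibre G_K is trigonalizable (every simple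
finite-dimensional representation is one-dimensional), then so is the special fibre G_k. -/
theorem result (A : Type u) [CommRing A] [IsDomain A] [IsDiscreteValuationRing A]
    (K : Type u) [Field K] [Algebra A K] [IsFractionRing A K]
    (H : Type u) [CommRing H] [HopfAlgebra A H] [Module.Flat A H] [Algebra.FinitePresentation A H]
    (hK : HopfRep.IsTrigonalizable K (K ⊗[A] H)) :
    HopfRep.IsTrigonalizable (IsLocalRing.ResidueField A) (IsLocalRing.ResidueField A ⊗[A] H) := by
  intro V _ _ _ hfin hsimple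
  haveI := hfin
  classical
  let k := IsLocalRing.ResidueField A
  obtain ⟨v₀, hv₀⟩ := @exists_ne V hsimple.1 0
  obtain ⟨φ, hφ⟩ := ComodLib.exists_dual_ne (k := k) hv₀
  let ψ := ComodLib.coeff (A := k ⊗[A] H) φ
  have hψ0 : ψ v₀ ≠ 0 := fun h => hφ (by
    have := congrArg (CoalgebraStruct.counit (R := k)) h
    rwa [ComodLib.counit_coeff, map_zero] at this)
  have hψ : Function.Injective ψ := by
    rcases hsimple.2 _ (ComodLib.isSubcomod_restrictScalars (LinearMap.ker ψ)) with h | h
    · refine LinearMap.ker_eq_bot.1 ?_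
      rwa [Submodule.restrictScalars_eq_bot_iff] at h
    · refine absurd ?_ hψ0
      have : v₀ ∈ (LinearMap.ker ψ).restrictScalars k := h ▸ Submodule.mem_top
      exact this
  obtain ⟨x, hx⟩ := Groth.Agent.DvrHopfLib.inc_residue_surjective (A := A) (H := H) (ψ v₀)
  let S : Submodule K (K ⊗[A] H) :=
    (Submodule.span (ComodLib.Dual' K (K ⊗[A] H)) {Groth.Agent.DvrHopfLib.inc (A := A) K x}).restrictScalars K
  haveI : FiniteDimensional K S := ComodLib.finite_span_singleton _ _
  have hS : HopfRep.IsSubcomod (k := K) (A := K ⊗[A] H) S := ComodLib.isSubcomod_restrictScalars _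
  letI := ComodLib.subComod hS
  obtain ⟨F, hmono, hsub, hF0, hdim⟩ := GLinFinLib.Trig.exists_flag hK S
  let W : ℕ → Submodule K (K ⊗[A] H) := fun i => (F i).map S.subtype
  have hW : ∀ i, HopfRep.IsSubcomod (k := K) (A := K ⊗[A] H) (W i) := fun i =>
    (ComodLib.isSubcomod_iff _).2 fun f y hy => by
      obtain ⟨s, hs, rfl⟩ := hy
      exact ⟨f • s, (ComodLib.isSubcomod_iff _).1 (hsub i) f s hs, ComodLib.subComod_smul_coe hS f s⟩
  let C : ℕ → Submodule k (k ⊗[A] H) := fun i =>
    Groth.Agent.DvrHopfLib.red k (Groth.Agent.DvrHopfLib.cut K (W i))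
  let D : ℕ → Submodule k V := fun i => (C i).comap (ψ.restrictScalars k)
  have hD : ∀ i, HopfRep.IsSubcomod (k := k) (A := k ⊗[A] H) (D i) := fun i =>
    (ComodLib.isSubcomod_iff _).2 fun f v hv => by
      show ψ (f • v) ∈ C i
      rw [map_smul]
      exact (ComodLib.isSubcomod_iff _).1 (Groth.Agent.DvrHopfLib.isSubcomod_red K (hW i) k) f _ hv
  have hD0 : D 0 = ⊥ := by
    rw [eq_bot_iff]
    intro v hv
    have hle : C 0 ≤ ⊥ := Submodule.span_le.2 (by
      rintro _ ⟨y, hy, rfl⟩
      have hy' : Groth.Agent.DvrHopfLib.inc (A := A) K y = 0 := by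
        have h := (Groth.Agent.DvrHopfLib.mem_cut K).1 hy
        simpa [W, hF0] using h
      rw [Groth.Agent.DvrHopfLib.inc_injective K (hy'.trans (map_zero _).symm), map_zero]
      exact Submodule.zero_mem _)
    exact (Submodule.mem_bot _).2 (hψ (((Submodule.mem_bot _).1 (hle hv)).trans (map_zero ψ).symm))
  have hN : D (Module.finrank K S) ≠ ⊥ := fun h => hv₀ ((Submodule.mem_bot k).1 (h ▸ (show ψ v₀ ∈ C _ from by
    rw [← hx]
    refine Submodule.subset_span ⟨x, (Groth.Agent.DvrHopfLib.mem_cut K).2 ?_, rfl⟩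
    refine ⟨⟨_, Submodule.mem_span_singleton_self _⟩, ?_, rfl⟩
    rw [Submodule.eq_top_of_finrank_eq (hdim _ le_rfl)]
    exact Submodule.mem_top)))
  have hex : ∃ i, D i ≠ ⊥ := ⟨_, hN⟩
  obtain ⟨i, hi⟩ : ∃ i, Nat.find hex = i + 1 := ⟨Nat.find hex - 1, by
    have : Nat.find hex ≠ 0 := fun h => (Nat.find_spec hex) (h ▸ hD0)
    omega⟩
  have htop : D (i + 1) = ⊤ := (hsimple.2 _ (hD _)).resolve_left (hi ▸ Nat.find_spec hex)
  have hbot : D i = ⊥ := not_not.1 (Nat.find_min hex (by omega))
  have hile : i + 1 ≤ Module.finrank K S := hi ▸ Nat.find_min' hex hN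
  obtain ⟨e, he⟩ : ∃ e : k ⊗[A] H, C (i + 1) ≤ C i ⊔ Submodule.span k {e} := by
    refine Groth.Agent.DvrHopfLib.exists_red_le_sup_span K ?_
    rintro _ ⟨u, hu, rfl⟩ _ ⟨v, hv, rfl⟩
    -- two vectors of a step are dependent modulo the previous one
    obtain ⟨g, hg, hgi⟩ : ∃ g ∈ F (i + 1), g ∉ F i := by
      by_contra hne
      push Not at hne
      have heq : F i = F (i + 1) := le_antisymm (hmono i.le_succ) hne
      have h1 := hdim (i + 1) hile
      rw [← heq, hdim i (by omega)] at h1
      omega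
    have hlt : F i < F i ⊔ Submodule.span K {g} := lt_of_le_of_ne le_sup_left fun h =>
      hgi (h.symm ▸ Submodule.mem_sup_right (Submodule.mem_span_singleton_self g))
    have htop : F i ⊔ Submodule.span K {g} = F (i + 1) := by
      refine Submodule.eq_of_le_of_finrank_le (sup_le (hmono i.le_succ)
        ((Submodule.span_singleton_le_iff_mem _ _).2 hg)) ?_
      have h1 := Submodule.finrank_lt_finrank_of_lt hlt
      rw [hdim i (by omega)] at h1
      rw [hdim (i + 1) hile]
      omega
    obtain ⟨f₁, hf₁, y₁, hy₁, rfl⟩ := Submodule.mem_sup.1 (htop.symm ▸ hu : u ∈ F i ⊔ Submodule.span K {g})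
    obtain ⟨f₂, hf₂, y₂, hy₂, rfl⟩ := Submodule.mem_sup.1 (htop.symm ▸ hv : v ∈ F i ⊔ Submodule.span K {g})
    obtain ⟨a, rfl⟩ := Submodule.mem_span_singleton.1 hy₁
    obtain ⟨b, rfl⟩ := Submodule.mem_span_singleton.1 hy₂
    by_cases ha0 : a = 0
    · subst ha0
      exact ⟨1, 0, .inl one_ne_zero, ⟨f₁, hf₁, by simp⟩⟩
    · refine ⟨b, -a, .inr (neg_ne_zero.2 ha0), ⟨b • f₁ + (-a) • f₂,
        add_mem ((F i).smul_mem b hf₁) ((F i).smul_mem (-a) hf₂), ?_⟩⟩
      simp only [map_add, map_smul, smul_add, smul_smul, neg_mul, neg_smul, mul_comm b a]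
      abel
  have hdec : ∀ v, ∃ α : k, ψ v - α • e ∈ C i := fun v => by
    have hv : ψ v ∈ C (i + 1) := by
      have : v ∈ D (i + 1) := by rw [htop]; exact Submodule.mem_top
      exact this
    obtain ⟨c, hc, y, hy, hcy⟩ := Submodule.mem_sup.1 (he hv)
    obtain ⟨α, rfl⟩ := Submodule.mem_span_singleton.1 hy
    exact ⟨α, by rw [← hcy, add_sub_cancel_right]; exact hc⟩
  choose α hα using hdec
  have hker : ∀ v, ψ v ∈ C i → v = 0 := fun v hv => (Submodule.mem_bot k).1 (hbot ▸ (show v ∈ D i from hv))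
  have hα0 : α v₀ ≠ 0 := fun h => hv₀ (hker v₀ (by have := hα v₀; rwa [h, zero_smul, sub_zero] at this))
  refine finrank_eq_one_iff'.2 ⟨v₀, hv₀, fun v => ⟨α v / α v₀, ?_⟩⟩
  refine sub_eq_zero.1 (hker _ ?_)
  rw [map_sub, show ψ ((α v / α v₀) • v₀) = (α v / α v₀) • ψ v₀ from (ψ.restrictScalars k).map_smul _ _]
  have := sub_mem ((C i).smul_mem (α v / α v₀) (hα v₀)) (hα v)
  rwa [smul_sub, smul_smul, div_mul_cancel₀ _ hα0, sub_sub_sub_cancel_right] at this

end Groth.Agent.S18062
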