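import Groth.Statements.S18063
import Mathlib
import Groth.Agent.ChowLib.SchDom
-- import your own Groth.Agent.* helpers here

set_option autoImplicit false
set_option backward.isDefEq.respectTransparency false
universe u
open CategoryTheory MonoidalCategory CartesianMonoidalCategory MonObj GrpObj AlgebraicGeometry CategoryTheory.Limits
open AlgGrp

namespace Groth.Agent.S18063

/-- A is a discrete valuation ring, K denotes its field of fractions and k its residue field, and G is
an A-group scheme that is flat, separated and of finite presentation. If the generic fibre G_K is
commutative, then the special fibre G_k is commutative. (The published statement does not require G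
separated over A, and its proof argues by density of the generic fibre; without separatedness the
conclusion fails: gluing copies of Spec A indexed by a finite non-abelian group along their common
generic point gives a flat group scheme of finite presentation over A whose generic fibre is the
trivial group and whose special fibre is that non-abelian constant group. So G is taken separated
here.) -/
theorem result (A : Type u) [CommRing A] [IsDomain A] [IsDiscreteValuationRing A]
    (K : Type u) [Field K] [Algebra A K] [IsFractionRing A K]
    (G : Over (Spec (CommRingCat.of A))) [GrpObj G] [Flat G.hom] [LocallyOfFinitePresentation G.hom] [QuasiCompact G.hom]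
    [IsSeparated G.hom] [IsCommMonObj (Red.bc (Spec.map (CommRingCat.ofHom (algebraMap A K))) G)] :
    IsCommMonObj (Red.bc (Spec.map (CommRingCat.ofHom (algebraMap A (IsLocalRing.ResidueField A)))) G) := by
  let ξ := Spec.map (CommRingCat.ofHom (algebraMap A K))
  haveI : IsDominant ξ := ⟨by
    show DenseRange (PrimeSpectrum.comap (algebraMap A K))
    rw [PrimeSpectrum.denseRange_comap_iff_ker_le_nilRadical,
      (RingHom.injective_iff_ker_eq_bot _).1 (IsFractionRing.injective A K)]
    exact bot_le⟩
  haveI : IsSchemeTheoreticallyDominant ξ := IsSchemeTheoreticallyDominant.of_isDominant ξ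
  haveI : Flat (G ⊗ G).hom := by
    have h : Flat ((CartesianMonoidalCategory.fst G G).left ≫ G.hom) := by
      haveI : Flat (CartesianMonoidalCategory.fst G G).left := inferInstanceAs (Flat (Limits.pullback.fst G.hom G.hom))
      infer_instance
    rwa [Over.w] at h
  let F := Over.pullback ξ
  
  haveI : IsCommMonObj G := by
    refine ⟨Over.OverMorphism.ext (ChowLib.hom_ext_of_schDom (Limits.pullback.fst (G ⊗ G).hom ξ) G.hom ?_ ?_)⟩
    · rw [Over.w, Over.w]
    · let T' : Over (Spec (CommRingCat.of K)) := Over.mk (Limits.pullback.snd (G ⊗ G).hom ξ)
      let j : (Over.map ξ).obj T' ⟶ G ⊗ G := Over.homMk (Limits.pullback.fst (G ⊗ G).hom ξ) Limits.pullback.condition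
      suffices h : j ≫ (β_ G G).hom ≫ μ[G] = j ≫ μ[G] from congrArg CommaMorphism.left h
      let g := j ≫ fst G G
      let h := j ≫ snd G G
      have e1 : j ≫ μ[G] = g * h := by rw [Hom.mul_def, ← comp_lift, lift_fst_snd, Category.comp_id]
      have e2 : j ≫ (β_ G G).hom ≫ μ[G] = h * g := by
        rw [Hom.mul_def, show (β_ G G).hom = lift (snd G G) (fst G G) from
          CartesianMonoidalCategory.hom_ext _ _ (by simp) (by simp), ← Category.assoc, comp_lift]
      rw [e1, e2]
      let e := (Over.mapPullbackAdj ξ).homEquiv T' G
      have he : ∀ a b : (Over.map ξ).obj T' ⟶ G, e (a * b) = (e a : T' ⟶ Red.bc ξ G) * e b := fun a b => by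
        simp only [e, Adjunction.homEquiv_unit, Functor.map_mul, MonObj.comp_mul]
      refine e.injective ?_
      rw [he, he]
      exact _root_.mul_comm _ _
  exact Functor.isCommMonObj_obj (F := Over.pullback _)

end Groth.Agent.S18063
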