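import Groth.Statements.S18064
import Groth.Agent.SubSpecLib.Regular2
-- import your own Groth.Agent.* helpers here

set_option autoImplicit false
set_option backward.isDefEq.respectTransparency false
universe u
open CategoryTheory MonoidalCategory CartesianMonoidalCategory MonObj GrpObj AlgebraicGeometry CategoryTheory.Limits
open AlgGrp

namespace Groth.Agent.S18064

/-- Suppose A is a regular local ring, and write K for its field of fractions and k for its residue
field; take G to be a flat A-group scheme of finite presentation and d a natural number. If the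
generic fibre G_K contains a closed subgroup scheme of dimension d, then so does the special fibre
G_k; if G_K contains a normal closed subgroup scheme of dimension d, then so does G_k. -/
theorem result (A : Type u) [CommRing A] [IsDomain A] [IsRegularLocalRing A]
    (K : Type u) [Field K] [Algebra A K] [IsFractionRing A K]
    (G : Over (Spec (CommRingCat.of A))) [GrpObj G] [Flat G.hom] [LocallyOfFinitePresentation G.hom] [QuasiCompact G.hom]
    [QuasiSeparated G.hom] (d : ℕ) :
    ((∃ (H : Over (Spec (CommRingCat.of K))) (_ : GrpObj H) (i : H ⟶ Red.bc (Spec.map (CommRingCat.ofHom (algebraMap A K))) G),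
        IsMonHom i ∧ IsClosedImmersion i.left ∧ topologicalKrullDim ↥H.left = (d : WithBot ℕ∞)) →
      ∃ (H' : Over (Spec (CommRingCat.of (IsLocalRing.ResidueField A)))) (_ : GrpObj H')
        (i' : H' ⟶ Red.bc (Spec.map (CommRingCat.ofHom (algebraMap A (IsLocalRing.ResidueField A)))) G),
        IsMonHom i' ∧ IsClosedImmersion i'.left ∧ topologicalKrullDim ↥H'.left = (d : WithBot ℕ∞)) ∧
    ((∃ (H : Over (Spec (CommRingCat.of K))) (_ : GrpObj H) (i : H ⟶ Red.bc (Spec.map (CommRingCat.ofHom (algebraMap A K))) G),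
        IsMonHom i ∧ IsClosedImmersion i.left ∧ AlgGrp.IsNormalHom i ∧ topologicalKrullDim ↥H.left = (d : WithBot ℕ∞)) →
      ∃ (H' : Over (Spec (CommRingCat.of (IsLocalRing.ResidueField A)))) (_ : GrpObj H')
        (i' : H' ⟶ Red.bc (Spec.map (CommRingCat.ofHom (algebraMap A (IsLocalRing.ResidueField A)))) G),
        IsMonHom i' ∧ IsClosedImmersion i'.left ∧ AlgGrp.IsNormalHom i' ∧ topologicalKrullDim ↥H'.left = (d : WithBot ℕ∞)) := by
  haveI : LocallyOfFiniteType G.hom := inferInstance
  refine ⟨fun h => ?_, fun h => ?_⟩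
  · obtain ⟨H, hH, i, hi, hic, hd⟩ := h
    obtain ⟨H', hH', i', hi', hic', -, hd'⟩ := SubSpecLib.hasSub_regular
      (P := fun F _ H N _ _ i => True) (d := d) (Q := (⊤ : MorphismProperty Scheme.{u}))
      (fun _ _ _ _ _ _ _ _ _ _ _ _ _ => trivial) (fun _ _ _ _ _ _ _ _ _ _ _ _ => trivial)
      (fun R _ _ _ K _ _ _ k _ φ _ G _ _ _ _ _ H _ _ _ _ j _ _ HK _ i _ _ φH _ _ _ _ => trivial)
      _ A rfl K _ (IsLocalRing.residue A) IsLocalRing.residue_surjective G trivial
      ⟨H, hH, i, hi, hic, trivial, hd⟩
    exact ⟨H', hH', i', hi', hic', hd'⟩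
  · exact SubSpecLib.hasSub_regular
      (P := fun F _ H N _ _ i => AlgGrp.IsNormalHom i) (d := d) (Q := (⊤ : MorphismProperty Scheme.{u}))
      (fun _ _ _ _ _ _ _ _ i _ e _ hn => SubSpecLib.isNormalHom_iso i e hn)
      (fun _ _ _ _ _ _ _ _ _ i _ hn => SubSpecLib.isNormalHom_bc _ i hn)
      (fun R _ _ _ K _ _ _ k _ φ _ G _ _ _ _ _ H _ _ _ _ j _ _ HK _ i _ _ φH hpb hfac hker hn =>
        SubSpecLib.isNormalHom_bc _ j (SubSpecLib.isNormalHom_closure j i φH hpb hfac hker hn))
      _ A rfl K _ (IsLocalRing.residue A) IsLocalRing.residue_surjective G trivial h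

end Groth.Agent.S18064
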