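import Groth.Statements.S18068
import Groth.Agent.AntiAffLib.FiniteCover
import Groth.Agent.AntiAffLib.Criteria
import Groth.Agent.HurwitzLib.SmoothCurve
import Groth.Agent.AlgSpLib.ReducedSmooth
import Groth.Agent.S0348
-- import your own Groth.Agent.* helpers here

set_option autoImplicit false
universe u
open CategoryTheory MonoidalCategory CartesianMonoidalCategory MonObj GrpObj AlgebraicGeometry CategoryTheory.Limits
open AlgGrp

namespace Groth.Agent.S18068

/-- Let k be a field and f : G → H an isogeny (a surjective homomorphism with finite kernel, i.e.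
surjective and finite) of connected commutative algebraic groups over k. Then G is anti-affine (O(G)
= k) if and only if H is anti-affine. -/
theorem result (k : Type u) [Field k]
    (G H : Over (Spec (CommRingCat.of k))) [GrpObj G] [Smooth G.hom] [QuasiCompact G.hom] [ConnectedSpace ↥G.left] [IsCommMonObj G]
    [GrpObj H] [Smooth H.hom] [QuasiCompact H.hom] [ConnectedSpace ↥H.left] [IsCommMonObj H]
    (f : G ⟶ H) [IsMonHom f] [Surjective f.left] [IsFinite f.left] :
    Function.Bijective ((Scheme.ΓSpecIso (CommRingCat.of k)).inv ≫ G.hom.appTop).hom ↔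
      Function.Bijective ((Scheme.ΓSpecIso (CommRingCat.of k)).inv ≫ H.hom.appTop).hom := by
  rw [AntiAffLib.bijective_iff, AntiAffLib.bijective_iff]
  haveI : IsReduced G.left := AlgSpLib.isReduced_of_smooth G.hom
  haveI : IsReduced H.left := AlgSpLib.isReduced_of_smooth H.hom
  haveI := Groth.Agent.S0348.result k G
  haveI := Groth.Agent.S0348.result k H
  haveI : IsIntegral G.left := isIntegral_of_irreducibleSpace_of_isReduced _
  haveI : IsIntegral H.left := isIntegral_of_irreducibleSpace_of_isReduced _
  haveI : IsLocallyNoetherian H.left := LocallyOfFiniteType.isLocallyNoetherian H.hom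
  refine ⟨fun h => ?_, fun h => ?_⟩
  · haveI : Flat G.hom := Groth.Agent.GrpField.flat_field _
    haveI : IsDominant f.left := inferInstance
    haveI : IsSchemeTheoreticallyDominant f.left :=
      (isSchemeTheoreticallyDominant_iff_isDominant f.left).2 inferInstance
    obtain ⟨_, _, _⟩ := OrbitLib.ToAffine.flat_surjective_of_dominant f f.left.ker_eq_bot
    exact AntiAffLib.antiAff_of_fppf f η[G]
  · letI : H.left.CanonicallyOver (Spec (CommRingCat.of k)) := { hom := H.hom }
    haveI : Smooth (H.left ↘ Spec (CommRingCat.of k)) := ‹Smooth H.hom›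
    exact AntiAffLib.antiAff_of_finite (HurwitzLib.isNormalScheme_of_smooth (k := k)) f η[G]
end Groth.Agent.S18068
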