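import Groth.Statements.S18069
import Groth.Agent.AntiAffLib.Criteria
-- import your own Groth.Agent.* helpers here

set_option autoImplicit false
universe u
open CategoryTheory MonoidalCategory CartesianMonoidalCategory MonObj GrpObj AlgebraicGeometry CategoryTheory.Limits
open AlgGrp

namespace Groth.Agent.S18069

/-- Let k be a field and G₁, G₂ connected k-group schemes of finite type. Then G₁ × G₂ is anti-affine,
i.e. O(G₁ × G₂) = k, if and only if G₁ and G₂ are both anti-affine. -/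
theorem result (k : Type u) [Field k]
    (G₁ G₂ : Over (Spec (CommRingCat.of k))) [GrpObj G₁] [LocallyOfFiniteType G₁.hom] [QuasiCompact G₁.hom] [ConnectedSpace ↥G₁.left]
    [GrpObj G₂] [LocallyOfFiniteType G₂.hom] [QuasiCompact G₂.hom] [ConnectedSpace ↥G₂.left] :
    Function.Bijective ((Scheme.ΓSpecIso (CommRingCat.of k)).inv ≫ (G₁ ⊗ G₂).hom.appTop).hom ↔
      Function.Bijective ((Scheme.ΓSpecIso (CommRingCat.of k)).inv ≫ G₁.hom.appTop).hom ∧ Function.Bijective ((Scheme.ΓSpecIso (CommRingCat.of k)).inv ≫ G₂.hom.appTop).hom := by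
  rw [AntiAffLib.bijective_iff, AntiAffLib.bijective_iff, AntiAffLib.bijective_iff]
  haveI := AntiAffLib.qs_grp G₁
  haveI := AntiAffLib.qs_grp G₂
  haveI : Nonempty G₁.left := AntiAffLib.nonempty_grp G₁
  haveI : Nonempty G₂.left := AntiAffLib.nonempty_grp G₂
  refine ⟨fun h => ⟨?_, ?_⟩, fun ⟨h₁, h₂⟩ => ?_⟩
  · exact AntiAffLib.antiAff_of_retract (fst G₁ G₂) (lift (𝟙 _) (toUnit _ ≫ η[G₂])) (lift_fst _ _) (lift η[G₁] η[G₂])
  · exact AntiAffLib.antiAff_of_retract (snd G₁ G₂) (lift (toUnit _ ≫ η[G₁]) (𝟙 _)) (lift_snd _ _) (lift η[G₁] η[G₂])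
  · rw [show toUnit (G₁ ⊗ G₂) = snd G₁ G₂ ≫ toUnit G₂ from toUnit_unique _ _]
    exact AntiAffLib.isΓIso_comp _ _ (AntiAffLib.isΓIso_snd G₁ G₂) h₂
end Groth.Agent.S18069
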