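import Groth.Statements.S18070
import Groth.Agent.AntiAffLib.Criteria
import Groth.Agent.GrpFieldLib.Comps
-- import your own Groth.Agent.* helpers here

set_option autoImplicit false
universe u
open CategoryTheory MonoidalCategory CartesianMonoidalCategory MonObj GrpObj AlgebraicGeometry CategoryTheory.Limits
open AlgGrp

namespace Groth.Agent.S18070

/-- Let k be a field and 1 → G₁ → G → G₂ → 1 an exact sequence of k-group schemes of finite type with
G₁, G₂ connected (i : G₁ → G a homomorphism and closed immersion which is the kernel of the flat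
surjective homomorphism q : G → G₂). Anti-affineness passes from G to the quotient G₂; in the other
direction, G is anti-affine whenever G₁ and G₂ both are. -/
theorem result (k : Type u) [Field k]
    (G₁ G G₂ : Over (Spec (CommRingCat.of k))) [GrpObj G₁] [LocallyOfFiniteType G₁.hom] [QuasiCompact G₁.hom] [ConnectedSpace ↥G₁.left]
    [GrpObj G] [LocallyOfFiniteType G.hom] [QuasiCompact G.hom]
    [GrpObj G₂] [LocallyOfFiniteType G₂.hom] [QuasiCompact G₂.hom] [ConnectedSpace ↥G₂.left]
    (i : G₁ ⟶ G) [IsMonHom i] [IsClosedImmersion i.left] (q : G ⟶ G₂) [IsMonHom q] [Surjective q.left] [Flat q.left]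
    (hex : AlgGrp.IsKernel i q) :
    (Function.Bijective ((Scheme.ΓSpecIso (CommRingCat.of k)).inv ≫ G.hom.appTop).hom → Function.Bijective ((Scheme.ΓSpecIso (CommRingCat.of k)).inv ≫ G₂.hom.appTop).hom) ∧
    (Function.Bijective ((Scheme.ΓSpecIso (CommRingCat.of k)).inv ≫ G₁.hom.appTop).hom → Function.Bijective ((Scheme.ΓSpecIso (CommRingCat.of k)).inv ≫ G₂.hom.appTop).hom → Function.Bijective ((Scheme.ΓSpecIso (CommRingCat.of k)).inv ≫ G.hom.appTop).hom) := by
  rw [AntiAffLib.bijective_iff G, AntiAffLib.bijective_iff G₂, AntiAffLib.bijective_iff G₁]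
  haveI : IsLocallyNoetherian G₂.left := LocallyOfFiniteType.isLocallyNoetherian G₂.hom
  haveI : LocallyOfFiniteType (q.left ≫ G₂.hom) := by rw [Over.w q]; infer_instance
  haveI := locallyOfFiniteType_of_comp q.left G₂.hom
  haveI : LocallyOfFinitePresentation q.left := LocallyOfFinitePresentation.iff_locallyOfFiniteType.2 inferInstance
  haveI := Groth.Agent.MonoQuot.epi_over q
  refine ⟨fun h => AntiAffLib.antiAff_of_fppf q η[G], fun h₁ h₂ => ?_⟩
  haveI := AntiAffLib.nonempty_grp G
  have hi : i ≫ AntiAffLib.toHull G = 1 := AntiAffLib.comp_eq_one _ (by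
    rw [← Category.assoc, IsMonHom.one_hom, IsMonHom.one_hom])
  obtain ⟨y, hy⟩ := Groth.Agent.MonoQuot.exists_desc_over q (AntiAffLib.toHull G) (fun T a b hab => by
    have hk : (a * b⁻¹) ≫ q = toUnit T ≫ η[G₂] := by
      rw [MonObj.mul_comp, GrpObj.inv_comp, hab, mul_inv_cancel, Hom.one_def]
    have hl := IsPullback.lift_fst hex (a * b⁻¹) (toUnit T) hk
    have := congrArg (· ≫ AntiAffLib.toHull G) hl
    simp only [Category.assoc, hi, MonObj.comp_one, MonObj.mul_comp, GrpObj.inv_comp] at this
    exact (mul_inv_eq_one.1 this.symm))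
  refine AntiAffLib.antiAff_of_const (η[G₂] ≫ y) ?_
  rw [← hy]
  conv_lhs => rw [AntiAffLib.eq_const y η[G₂], ← Category.assoc q, toUnit_unique (q ≫ toUnit G₂) (toUnit G)]
end Groth.Agent.S18070
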