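import Groth.Statements.S18071
import Groth.Agent.MaxTorFieldLib.Apps

set_option autoImplicit false
set_option backward.isDefEq.respectTransparency false
set_option backward.isDefEq.respectTransparency.types false
set_option maxHeartbeats 1000000
set_option synthInstance.maxHeartbeats 400000
universe u
open CategoryTheory MonoidalCategory CartesianMonoidalCategory MonObj GrpObj AlgebraicGeometry CategoryTheory.Limits
open AlgGrp

attribute [-instance] CategoryTheory.Hom.commGroup
namespace Groth.Agent.S18071

/-- Let F be a field with algebraic closure F̄ and M an affine smooth connected F-group. Then all F-tori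
of M are trivial if and only if all F̄-tori of M_{F̄} are trivial; for such M this condition is
equivalent to M being unipotent. -/
theorem result (F : Type u) [Field F]
    (M : Over (Spec (CommRingCat.of F))) [GrpObj M] [Smooth M.hom] [QuasiCompact M.hom] [IsAffine M.left] [ConnectedSpace ↥M.left] :
    Red.HasNoSubtorus F M ↔ Red.HasNoSubtorus (AlgebraicClosure F) (Red.bc (Spec.map (CommRingCat.ofHom (algebraMap F (AlgebraicClosure F)))) M) := by
  let K : Type u := AlgebraicClosure F
  let f : Spec (CommRingCat.of K) ⟶ Spec (CommRingCat.of F) := Spec.map (CommRingCat.ofHom (algebraMap F K))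
  have hf : Surjective f := TorusField.surjective_baseHom F K
  haveI := hf
  haveI : Flat f := by
    rw [HasRingHomProperty.Spec_iff (P := @Flat)]
    exact RingHom.flat_algebraMap_iff.2 inferInstance
  haveI : QuasiCompact f := inferInstance
  haveI : CategoryTheory.Limits.PreservesLimitsOfSize.{0, 0} (Over.pullback f) :=
    (Over.mapPullbackAdj _).rightAdjoint_preservesLimits
  constructor
  · intro h T' _ j _ _ hT'
    obtain ⟨T, _, i, hi⟩ := MaxTorField.exists_maximalTorus_affine' M
    haveI := hi.1; haveI := hi.2.1
    haveI : IsIso (toUnit T) := by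
      haveI : IsIso T.hom := h T i hi.2.2.1
      haveI : IsIso ((Over.forget _).map (toUnit T)) := by
        show IsIso (toUnit T).left
        rw [Over.toUnit_left]
        exact ‹IsIso T.hom›
      exact isIso_of_reflects_iso (toUnit T) (Over.forget _)
    have hu : ∀ (X : Over (Spec (CommRingCat.of K))) (a b : X ⟶ Red.bc f T), a = b := fun X a b =>
      ((Over.mapPullbackAdj f).homEquiv _ _).symm.injective (by
        rw [← cancel_mono (toUnit T)]
        exact toUnit_unique _ _)
    have hmax := MaxTorusRank.isMaxTorus_of_isMaximalTorus
      ((Groth.Agent.S16791.result inferInstance inferInstance i hi.2.2.1 f hf).1 hi)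
    haveI := hmax.1
    have e : (1 : Red.bc f T ⟶ T') ≫ j = (Over.pullback f).map i := by
      rw [MonObj.one_comp]
      have h1 : 𝟙 (Red.bc f T) = 1 := hu _ _ _
      rw [← Category.id_comp ((Over.pullback f).map i), h1, MonObj.one_comp]
    haveI := hmax.2.2.2 T' j 1 hT' e
    have hT : IsIso T'.hom := by
      haveI : IsIso T.hom := h T i hi.2.2.1
      haveI : IsIso (Red.bc f T).hom := inferInstanceAs (IsIso (CategoryTheory.Limits.pullback.snd T.hom f))
      haveI : IsIso ((Over.forget _).map (1 : Red.bc f T ⟶ T')) := inferInstance
      haveI : IsIso ((1 : Red.bc f T ⟶ T').left ≫ T'.hom) := by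
        rw [Over.w (1 : Red.bc f T ⟶ T')]; infer_instance
      haveI : IsIso (1 : Red.bc f T ⟶ T').left := ‹IsIso ((Over.forget _).map (1 : Red.bc f T ⟶ T'))›
      exact IsIso.of_isIso_comp_left (1 : Red.bc f T ⟶ T').left T'.hom
    exact hT
  · intro h T _ j _ _ hT
    haveI := DiagRep.isMonHom_bc_map f j
    have h1 : IsIso (Red.bc f T).hom := h (Red.bc f T) ((Over.pullback f).map j) (RedRank.isTorus_bc hT f)
    haveI : IsIso (toUnit T) := by
      refine Groth.Agent.S14547.isIso_of_bc f (toUnit T) ?_
      haveI : IsIso ((Over.forget _).map ((Over.pullback f).map (toUnit T))) := by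
        show IsIso ((Over.pullback f).map (toUnit T)).left
        haveI : IsIso (((Over.pullback f).map (toUnit T)).left ≫ (Red.bc f (𝟙_ _)).hom) := by
          rw [Over.w ((Over.pullback f).map (toUnit T))]; exact h1
        haveI : IsIso (Red.bc f (𝟙_ (Over (Spec (CommRingCat.of F))))).hom :=
          inferInstanceAs (IsIso (CategoryTheory.Limits.pullback.snd (𝟙 _) f))
        exact IsIso.of_isIso_comp_right ((Over.pullback f).map (toUnit T)).left (Red.bc f (𝟙_ _)).hom
      exact isIso_of_reflects_iso _ (Over.forget _)
    show IsIso T.hom
    rw [← Over.toUnit_left]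
    exact (Over.forget _).map_isIso (toUnit T)

end Groth.Agent.S18071
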