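import Groth.Statements.S18072
import Groth.Agent.IsogWordLib.Words
import Groth.Agent.IsogWordLib.Unip
import Groth.Agent.AntiAffLib.Image

set_option autoImplicit false
set_option backward.isDefEq.respectTransparency false
set_option linter.style.haveILetI false
set_option maxHeartbeats 1000000
universe u
open CategoryTheory MonoidalCategory CartesianMonoidalCategory MonObj GrpObj AlgebraicGeometry CategoryTheory.Limits
open AlgGrp

namespace Groth.Agent.S18072

attribute [-instance] CategoryTheory.Hom.commGroup

/-- Let F be a field and f : G → H an isogeny between affine smooth connected F-groups (a surjective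
homomorphism with finite kernel, i.e. surjective and finite). Then each of the properties unipotent,
solvable, nilpotent and commutative holds for G exactly when it holds for H; here unipotence is
expressed as: the base change to an algebraic closure contains no non-trivial subtorus, solvable and
nilpotent through the derived and upper central series of the groups of points. -/
theorem result (F : Type u) [Field F]
    (G H : Over (Spec (CommRingCat.of F))) [GrpObj G] [Smooth G.hom] [QuasiCompact G.hom] [IsAffine G.left] [ConnectedSpace ↥G.left]
    [GrpObj H] [Smooth H.hom] [QuasiCompact H.hom] [IsAffine H.left] [ConnectedSpace ↥H.left]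
    (f : G ⟶ H) [IsMonHom f] [Surjective f.left] [IsFinite f.left] :
    (Red.HasNoSubtorus (AlgebraicClosure F) (Red.bc (Spec.map (CommRingCat.ofHom (algebraMap F (AlgebraicClosure F)))) G) ↔ Red.HasNoSubtorus (AlgebraicClosure F) (Red.bc (Spec.map (CommRingCat.ofHom (algebraMap F (AlgebraicClosure F)))) H)) ∧
    (Red.IsSolvableGrp G ↔ Red.IsSolvableGrp H) ∧ (AGF.IsNilpotentGrp G ↔ AGF.IsNilpotentGrp H) ∧
    (IsCommMonObj G ↔ IsCommMonObj H) := by
  haveI := AlbLib.geometricallyIntegral_grp G
  haveI : IsReduced H.left := AlgSpLib.isReduced_of_smooth H.hom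
  haveI : Flat f.left := AntiAffLib.flat_of_surjective f
  haveI : IsLocallyNoetherian H.left := LocallyOfFiniteType.isLocallyNoetherian H.hom
  haveI : LocallyOfFinitePresentation f.left := inferInstance
  refine ⟨?_, IsogWordLib.isSolvable_iff f, IsogWordLib.isNilpotent_iff f, IsogWordLib.isComm_iff f⟩
  set ξ := Spec.map (CommRingCat.ofHom (algebraMap F (AlgebraicClosure F)))
  haveI : GeometricallyIrreducible G.hom := CommSubLib.geometricallyIrreducible_of_connected G
  haveI : GeometricallyIrreducible H.hom := CommSubLib.geometricallyIrreducible_of_connected H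
  haveI : GeometricallyIntegral H.hom := AlbLib.geometricallyIntegral_grp H
  haveI : IsAffineHom G.hom := inferInstance
  haveI : IsAffineHom H.hom := inferInstance
  haveI : Smooth (Red.bc ξ G).hom := inferInstanceAs (Smooth (pullback.snd G.hom ξ))
  haveI : Smooth (Red.bc ξ H).hom := inferInstanceAs (Smooth (pullback.snd H.hom ξ))
  haveI : IsAffineHom (Red.bc ξ G).hom := inferInstanceAs (IsAffineHom (pullback.snd G.hom ξ))
  haveI : IsAffineHom (Red.bc ξ H).hom := inferInstanceAs (IsAffineHom (pullback.snd H.hom ξ))
  haveI : IsAffine (Red.bc ξ G).left := isAffine_of_isAffineHom (Red.bc ξ G).hom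
  haveI : IsAffine (Red.bc ξ H).left := isAffine_of_isAffineHom (Red.bc ξ H).hom
  haveI : GeometricallyIntegral (Red.bc ξ G).hom := inferInstanceAs (GeometricallyIntegral (pullback.snd G.hom ξ))
  haveI : GeometricallyIntegral (Red.bc ξ H).hom := inferInstanceAs (GeometricallyIntegral (pullback.snd H.hom ξ))
  haveI : ConnectedSpace (Red.bc ξ G).left := AlbLib.connectedSpace_gi _
  haveI : ConnectedSpace (Red.bc ξ H).left := AlbLib.connectedSpace_gi _
  haveI := Groth.Agent.DiagRep.isMonHom_bc_map ξ f
  haveI : Surjective ((Over.pullback ξ).map f).left :=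
    MorphismProperty.baseChange_map (P := @Surjective) ξ f inferInstance
  haveI : IsFinite ((Over.pullback ξ).map f).left :=
    MorphismProperty.baseChange_map (P := @IsFinite) ξ f inferInstance
  exact IsogWordLib.hasNoSubtorus_iff (Red.bc ξ G) (Red.bc ξ H) ((Over.pullback ξ).map f)

end Groth.Agent.S18072
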