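import Groth.Statements.S18074
import Groth.Agent.AntiAffLib.Kernel
import Mathlib.AlgebraicGeometry.Morphisms.FlatMono

set_option autoImplicit false
universe u
open CategoryTheory MonoidalCategory CartesianMonoidalCategory MonObj GrpObj AlgebraicGeometry CategoryTheory.Limits
open AlgGrp

namespace Groth.Agent.S18074

open AntiAffLib

variable {k : Type u} [Field k]

lemma trivial_of_affine_antiAff (H : Over (Spec (CommRingCat.of k))) [GrpObj H] [IsAffine H.left]
    [IsΓIso (toUnit H)] : Red.IsTrivialGrp H := by
  haveI : IsIso (toUnit H) := ⟨η[H], by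
    refine ⟨?_, toUnit_unique _ _⟩
    rw [eq_const (𝟙 H) η[H], Category.comp_id], ⟩
  haveI : IsIso (toUnit H).left := inferInstanceAs (IsIso ((Over.forget _).map (toUnit H)))
  show IsIso H.hom
  rw [← toUnit_left H]; infer_instance

lemma isAffine_of_trivial_ker (G : Over (Spec (CommRingCat.of k))) [GrpObj G] [LocallyOfFiniteType G.hom]
    [QuasiCompact G.hom] (hK : Red.IsTrivialGrp (ker G)) : IsAffine G.left := by
  haveI : IsIso (ker G).hom := hK
  haveI : IsIso (toUnit (ker G)).left := by rw [toUnit_left]; infer_instance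
  haveI : IsIso ((Over.forget _).map (toUnit (ker G))) := ‹_›
  haveI : IsIso (toUnit (ker G)) := isIso_of_reflects_iso _ (Over.forget _)
  haveI : Mono (toHull G) := ⟨fun {T} g g' h => by
    have h1 : (g * g'⁻¹) ≫ toHull G = 1 := by rw [MonObj.mul_comp, GrpObj.inv_comp, h, mul_inv_cancel]
    have hl : liftKer G (g * g'⁻¹) h1 = 1 := by
      rw [← cancel_mono (toUnit (ker G))]; exact toUnit_unique _ _
    have h2 := liftKer_comp G (g * g'⁻¹) h1
    rw [hl, MonObj.one_comp] at h2
    exact mul_inv_eq_one.mp h2.symm⟩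
  haveI : Mono (toHull G).left := inferInstance
  haveI : IsIso (toHull G).left := Flat.isIso_of_surjective_of_mono _
  exact IsAffine.of_isIso (toHull G).left

/-- Let k be a field and G a non-trivial k-group scheme of finite type. Then G is non-affine with every
closed subgroup scheme H ≠ G affine if and only if G is anti-affine and every anti-affine closed
subgroup scheme H ≠ G of G is trivial. -/
theorem result (k : Type u) [Field k]
    (G : Over (Spec (CommRingCat.of k))) [GrpObj G] [LocallyOfFiniteType G.hom] [QuasiCompact G.hom] (hG : ¬ Red.IsTrivialGrp G) :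
    (¬ IsAffine G.left ∧ ∀ (H : Over (Spec (CommRingCat.of k))) [GrpObj H] (h : H ⟶ G) [IsMonHom h] [IsClosedImmersion h.left], ¬ IsIso h → IsAffine H.left) ↔
    (Function.Bijective ((Scheme.ΓSpecIso (CommRingCat.of k)).inv ≫ G.hom.appTop).hom ∧ ∀ (H : Over (Spec (CommRingCat.of k))) [GrpObj H] (h : H ⟶ G) [IsMonHom h] [IsClosedImmersion h.left], ¬ IsIso h → Function.Bijective ((Scheme.ΓSpecIso (CommRingCat.of k)).inv ≫ H.hom.appTop).hom → Red.IsTrivialGrp H) := by
  haveI : QuasiSeparated G.hom := qs_grp G
  refine ⟨fun ⟨hna, hmin⟩ => ?_, fun ⟨hbij, hmin⟩ => ?_⟩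
  · haveI hk : IsIso (kerIncl G) := by
      by_contra h
      haveI := hmin (ker G) (kerIncl G) h
      exact hna (isAffine_of_trivial_ker G (trivial_of_affine_antiAff (ker G)))
    have hG' : IsΓIso (toUnit G) := by
      rw [toUnit_unique (toUnit G) (inv (kerIncl G) ≫ toUnit (ker G))]
      exact isΓIso_comp _ _ inferInstance inferInstance
    refine ⟨(bijective_iff G).mpr hG', fun H _ h _ _ hni hb => ?_⟩
    haveI := hmin H h hni
    haveI := (bijective_iff H).mp hb
    exact trivial_of_affine_antiAff H
  · haveI := (bijective_iff G).mp hbij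
    refine ⟨fun haf => hG (trivial_of_affine_antiAff G), fun H _ h _ _ hni => ?_⟩
    haveI : LocallyOfFiniteType H.hom := by rw [← Over.w h]; infer_instance
    haveI : QuasiCompact H.hom := by rw [← Over.w h]; infer_instance
    haveI : Mono h := Over.mono_of_mono_left _
    haveI : IsClosedImmersion (kerIncl H ≫ h).left := by rw [Over.comp_left]; infer_instance
    refine isAffine_of_trivial_ker H (hmin (ker H) (kerIncl H ≫ h) (fun hi => ?_) ((bijective_iff _).mpr inferInstance))
    haveI := hi
    haveI : IsSplitEpi h := IsSplitEpi.mk' ⟨inv (kerIncl H ≫ h) ≫ kerIncl H, by simp⟩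
    exact hni (isIso_of_mono_of_isSplitEpi h)

end Groth.Agent.S18074
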