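import Groth.Statements.S18075
import Groth.Agent.S18074
import Groth.Agent.AntiAffLib.Supplement
import Groth.Agent.AntiAffLib.Smooth
import Groth.Agent.AlgSpLib.ReducedSmooth

set_option autoImplicit false
universe u
open CategoryTheory MonoidalCategory CartesianMonoidalCategory MonObj GrpObj AlgebraicGeometry CategoryTheory.Limits
open AlgGrp

namespace Groth.Agent.S18075

open AntiAffLib

/-- Let k be a field and G a non-trivial anti-affine k-group scheme of finite type, and let i : N → G be
a connected affine closed subgroup scheme which is the kernel of a flat surjective homomorphism q :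
G → A onto an abelian variety A (for instance N = G_aff and A = G/G_aff, but any such N is allowed).
Then G has no anti-affine closed subgroup scheme other than G and the trivial group if and only if
the abelian variety A is simple (every smooth connected closed subgroup scheme of A is trivial or
equal to A). -/
theorem result (k : Type u) [Field k]
    (G : Over (Spec (CommRingCat.of k))) [GrpObj G] [LocallyOfFiniteType G.hom] [QuasiCompact G.hom] (hG : ¬ Red.IsTrivialGrp G)
    (hGa : Function.Bijective ((Scheme.ΓSpecIso (CommRingCat.of k)).inv ≫ G.hom.appTop).hom)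
    (N A : Over (Spec (CommRingCat.of k))) [GrpObj N] [GrpObj A] (i : N ⟶ G) [IsMonHom i] [IsClosedImmersion i.left]
    [IsAffine N.left] [ConnectedSpace ↥N.left]
    (q : G ⟶ A) [IsMonHom q] [Surjective q.left] [Flat q.left] [IsProper A.hom] [Smooth A.hom] [ConnectedSpace ↥A.left]
    (hq : AlgGrp.IsKernel i q) :
    (∀ (H : Over (Spec (CommRingCat.of k))) [GrpObj H] (h : H ⟶ G) [IsMonHom h] [IsClosedImmersion h.left], ¬ IsIso h → Function.Bijective ((Scheme.ΓSpecIso (CommRingCat.of k)).inv ≫ H.hom.appTop).hom → Red.IsTrivialGrp H) ↔
    (∀ (B : Over (Spec (CommRingCat.of k))) [GrpObj B] (b : B ⟶ A) [IsMonHom b] [IsClosedImmersion b.left], Smooth B.hom → ConnectedSpace ↥B.left → IsIso b ∨ Red.IsTrivialGrp B) := by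
  haveI := (bijective_iff G).mp hGa
  haveI := connectedSpace_of_antiAff G
  haveI := isCommMonObj_of_antiAff G
  haveI : IsSeparated A.hom := inferInstance
  constructor
  · intro hmin B _ b _ _ hBs hBc
    haveI := hBs
    haveI : Mono b := Over.mono_of_mono_left b
    haveI : LocallyOfFiniteType B.hom := by rw [← Over.w b]; infer_instance
    haveI : IsProper B.hom := by rw [← Over.w b]; infer_instance
    -- the inverse image of B
    let P := pullback q b
    let m : P ⟶ G := pullback.fst _ _
    let p : P ⟶ B := pullback.snd _ _
    haveI : Mono m := inferInstance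
    haveI : IsClosedImmersion m.left := MorphismProperty.of_isPullback (P := @IsClosedImmersion)
      ((IsPullback.of_hasPullback q b).map (Over.forget _)).flip ‹_›
    haveI : Flat p.left := MorphismProperty.of_isPullback (P := @Flat)
      ((IsPullback.of_hasPullback q b).map (Over.forget _)) ‹_›
    haveI : Surjective p.left := MorphismProperty.of_isPullback (P := @Surjective)
      ((IsPullback.of_hasPullback q b).map (Over.forget _)) ‹_›
    have hlift : ∀ {T : Over (Spec (CommRingCat.of k))} (g : T ⟶ G) (g' : T ⟶ B), g ≫ q = g' ≫ b →
        ∃ l : T ⟶ P, l ≫ m = g := fun g g' e => ⟨pullback.lift g g' e, pullback.lift_fst _ _ _⟩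
    obtain ⟨gP, hm⟩ := Groth.Agent.SubDesc.exists_grpObj_of_mono m
      (hlift _ ((fst P P ≫ p) * (snd P P ≫ p)) (by
        simp only [MonObj.mul_comp, Category.assoc]; rw [pullback.condition]))
      (hlift 1 1 (by rw [MonObj.one_comp, MonObj.one_comp]))
      (hlift _ p⁻¹ (by rw [GrpObj.inv_comp, GrpObj.inv_comp, pullback.condition]))
    haveI := hm
    haveI : IsMonHom p := by
      haveI : IsMonHom (p ≫ b) := by
        rw [show p ≫ b = m ≫ q from pullback.condition.symm]; infer_instance
      exact Groth.Agent.DiagRep.isMonHom_of_comp_mono p b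
    haveI : LocallyOfFiniteType P.hom := by rw [← Over.w m]; infer_instance
    haveI : QuasiCompact P.hom := by rw [← Over.w m]; infer_instance
    haveI : IsClosedImmersion (kerIncl P ≫ m).left := by rw [Over.comp_left]; infer_instance
    by_cases hi : IsIso (kerIncl P ≫ m)
    · left
      haveI := hi
      have e : (inv (kerIncl P ≫ m) ≫ kerIncl P ≫ p) ≫ b = q := by
        simp only [Category.assoc]
        rw [show p ≫ b = m ≫ q from pullback.condition.symm, ← Category.assoc _ m, IsIso.inv_hom_id_assoc]
      haveI : Surjective b.left := by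
        haveI : Surjective ((inv (kerIncl P ≫ m) ≫ kerIncl P ≫ p).left ≫ b.left) := by
          rw [← Over.comp_left, e]; infer_instance
        exact Surjective.of_comp (inv (kerIncl P ≫ m) ≫ kerIncl P ≫ p).left b.left
      haveI : IsReduced A.left := AlgSpLib.isReduced_of_smooth A.hom
      haveI : IsIso ((Over.forget _).map b) := isIso_of_isClosedImmersion_of_surjective b.left
      exact isIso_of_reflects_iso b (Over.forget _)
    · right
      haveI := Groth.Agent.S18074.isAffine_of_trivial_ker P
        (hmin (ker P) (kerIncl P ≫ m) hi ((bijective_iff _).mpr inferInstance))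
      haveI : IsAffine B.left := isAffine_of_surjective_hom p
      haveI : IsReduced B.left := AlgSpLib.isReduced_of_smooth B.hom
      haveI := hBc
      haveI : IsΓIso (toUnit B) := antiAff_of_universallyClosed B η[B]
      exact Groth.Agent.S18074.trivial_of_affine_antiAff B
  · intro hs H _ h _ _ hni hHa
    haveI := (bijective_iff H).mp hHa
    haveI : Mono h := Over.mono_of_mono_left h
    haveI : LocallyOfFiniteType H.hom := by rw [← Over.w h]; infer_instance
    haveI : QuasiCompact H.hom := by rw [← Over.w h]; infer_instance
    haveI := connectedSpace_of_antiAff H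
    haveI : QuasiCompact (h ≫ q).left := by
      haveI : QuasiCompact ((h ≫ q).left ≫ A.hom) := by rw [Over.w (h ≫ q)]; infer_instance
      exact QuasiCompact.of_comp (h ≫ q).left A.hom
    haveI : Flat H.hom := Groth.Agent.GrpField.flat_field _
    obtain ⟨C, _, p, c, hpm, hcm, hpc, hpf, hps, hpl, hc⟩ :=
      Groth.Agent.GrpHom.exists_fppf_image (h ≫ q) (Groth.Agent.GrpField.flat_field _)
    haveI := hpm; haveI := hcm; haveI := hc; haveI := hpf; haveI := hps; haveI := hpl
    haveI : LocallyOfFiniteType C.hom := by rw [← Over.w c]; infer_instance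
    haveI : QuasiCompact C.hom := by rw [← Over.w c]; infer_instance
    haveI : IsΓIso (toUnit C) := antiAff_of_fppf p η[H]
    rcases hs C c (smooth_of_antiAff C) (connectedSpace_of_antiAff C) with hci | hct
    · exfalso
      haveI := hci
      haveI : Surjective (h ≫ q).left := by
        haveI : IsIso c.left := inferInstanceAs (IsIso ((Over.forget _).map c))
        rw [← hpc, Over.comp_left]; infer_instance
      have h1 := surjective_mul i q hq h inferInstance
      have e : (h ⊗ₘ i) ≫ μ[G] = (β_ H N).hom ≫ (i ⊗ₘ h) ≫ μ[G] := by
        rw [← BraidedCategory.braiding_naturality_assoc, IsCommMonObj.mul_comm]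
      haveI : Surjective ((h ⊗ₘ i) ≫ μ[G]).left := by
        haveI := h1
        haveI : IsIso (β_ H N).hom.left := inferInstanceAs (IsIso ((Over.forget _).map (β_ H N).hom))
        rw [e, Over.comp_left]; infer_instance
      haveI : IsClosedImmersion (𝟙 G : G ⟶ G).left := inferInstanceAs (IsClosedImmersion (𝟙 G.left))
      obtain ⟨g, hg⟩ := exists_factor_of_surjective_mul i q hq h ‹_› (𝟙 G)
        (fun M₁ _ _ _ j₁ _ _ _ => ⟨j₁, Category.comp_id _⟩)
      haveI : IsSplitEpi h := IsSplitEpi.mk' ⟨g, hg⟩
      exact hni (isIso_of_mono_of_isSplitEpi h)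
    · haveI : IsIso C.hom := hct
      haveI : IsIso ((Over.forget _).map (toUnit C)) := by
        rw [Over.forget_map, toUnit_left]; exact hct
      haveI : IsIso (toUnit C) := isIso_of_reflects_iso _ (Over.forget _)
      have hp1 : p = 1 := by rw [← cancel_mono (toUnit C)]; exact toUnit_unique _ _
      obtain ⟨l, hl⟩ := exists_lift_kernel hq h (by rw [← hpc, hp1, MonObj.one_comp])
      haveI : IsClosedImmersion l.left := by
        haveI : IsClosedImmersion (l.left ≫ i.left) := by rw [← Over.comp_left, hl]; infer_instance
        exact IsClosedImmersion.of_comp l.left i.left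
      haveI : IsAffine H.left := isAffine_of_isAffineHom l.left
      exact Groth.Agent.S18074.trivial_of_affine_antiAff H

end Groth.Agent.S18075
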