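import Groth.Statements.S18076
import Groth.Agent.AntiAffLib.Image
import Groth.Agent.AntiAffLib.KerSub
import Groth.Agent.AntiAffLib.RigidGrp
import Groth.Agent.AntiAffLib.Smooth
import Groth.Agent.AlgSpLib.ReducedSmooth
import Groth.Agent.S14604
-- import your own Groth.Agent.* helpers here

set_option autoImplicit false
universe u
open CategoryTheory MonoidalCategory CartesianMonoidalCategory MonObj GrpObj AlgebraicGeometry CategoryTheory.Limits
open AlgGrp AntiAffLib

namespace Groth.Agent.S18076

/-- Let k be a finite field and G a connected k-group scheme of finite type, i : N → G a connected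
affine closed normal subgroup scheme which is the kernel of a flat surjective homomorphism q onto an
abelian variety A (for instance N = G_aff; any such N is allowed) and b : B → G the largest abelian
subvariety G_ab of G (a smooth connected proper closed subgroup scheme through which every other one
factors). Then G = N G_ab, i.e. multiplication N × B → G is surjective, and N ∩ G_ab is finite; for
N = G_aff this reads G = G_aff G_ab with G_aff ∩ G_ab finite. -/
theorem result (k : Type u) [Field k] [Finite k]
    (G : Over (Spec (CommRingCat.of k))) [GrpObj G] [LocallyOfFiniteType G.hom] [QuasiCompact G.hom] [ConnectedSpace ↥G.left]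
    (N A : Over (Spec (CommRingCat.of k))) [GrpObj N] [GrpObj A] (i : N ⟶ G) [IsMonHom i] [IsClosedImmersion i.left]
    [IsAffine N.left] [ConnectedSpace ↥N.left] (hN : AlgGrp.IsNormalHom i)
    (q : G ⟶ A) [IsMonHom q] [Surjective q.left] [Flat q.left] [IsProper A.hom] [Smooth A.hom] [ConnectedSpace ↥A.left]
    (hq : AlgGrp.IsKernel i q)
    (B : Over (Spec (CommRingCat.of k))) [GrpObj B] (b : B ⟶ G) [IsMonHom b] [IsClosedImmersion b.left] [Smooth B.hom] [ConnectedSpace ↥B.left] [IsProper B.hom]
    (hBmax : ∀ (B' : Over (Spec (CommRingCat.of k))) [GrpObj B'] (b' : B' ⟶ G) [IsMonHom b'] [IsClosedImmersion b'.left], Smooth B'.hom → ConnectedSpace ↥B'.left → IsProper B'.hom →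
      ∃ g : B' ⟶ B, g ≫ b = b') :
    Surjective ((i ⊗ₘ b) ≫ μ[G]).left ∧
    ∀ (P : Over (Spec (CommRingCat.of k))) (p₁ : P ⟶ N) (p₂ : P ⟶ B), IsPullback p₁ p₂ i b → IsFinite P.hom := by
  haveI : IsReduced A.left := AlgSpLib.isReduced_of_smooth A.hom
  haveI : IsΓIso (toUnit A) := antiAff_of_universallyClosed A η[A]
  -- the affinization kernel of `G` maps onto `A`
  haveI honto : Surjective (kerIncl G ≫ q).left := by
    haveI := flat_of_surjective q
    obtain ⟨K, _, κ, _, _, hK, hKn⟩ := exists_kernel q
    have := range_subset_ker κ hKn q hK (𝟙 A) (Category.comp_id _)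
    exact ⟨fun a => this ⟨a, rfl⟩⟩
  -- it is an abelian subvariety
  haveI : IsProper (ker G).hom := Groth.Agent.S14604.result k (ker G) ((bijective_iff _).2 inferInstance)
  haveI : Smooth (ker G).hom := smooth_of_antiAff (ker G)
  haveI : ConnectedSpace ↥(ker G).left := connectedSpace_of_antiAff (ker G)
  obtain ⟨g, hg⟩ := hBmax (ker G) (kerIncl G) inferInstance inferInstance inferInstance
  haveI : Surjective (b ≫ q).left := by
    refine ⟨fun a => ?_⟩
    obtain ⟨x, hx⟩ := (kerIncl G ≫ q).left.surjective a
    refine ⟨g.left x, ?_⟩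
    rw [← hx, ← hg]
    rfl
  refine ⟨?_, fun P p₁ p₂ hP => ?_⟩
  · haveI := surjective_fst q (b ≫ q)
    let g₀ : pullback q (b ≫ q) ⟶ G := pullback.fst _ _
    let m : pullback q (b ≫ q) ⟶ B := pullback.snd _ _
    have e : (g₀ * (m ≫ b)⁻¹) ≫ q = toUnit _ ≫ η[A] := by
      rw [MonObj.mul_comp, GrpObj.inv_comp, Category.assoc m, pullback.condition, mul_inv_cancel, Hom.one_def]
    have e' : lift (hq.lift _ (toUnit _) e) m ≫ (i ⊗ₘ b) ≫ μ[G] = g₀ := by
      rw [← Category.assoc, lift_map, ← Hom.mul_def, hq.lift_fst, inv_mul_cancel_right]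
    refine ⟨fun x => ?_⟩
    obtain ⟨y, rfl⟩ := g₀.left.surjective x
    exact ⟨(lift (hq.lift _ (toUnit _) e) m).left y, congr($(e').left y)⟩
  · have hl : IsPullback p₁.left p₂.left i.left b.left := hP.map (Over.forget _)
    haveI : IsClosedImmersion p₁.left := MorphismProperty.of_isPullback (P := @IsClosedImmersion) hl.flip ‹_›
    haveI : IsClosedImmersion p₂.left := MorphismProperty.of_isPullback (P := @IsClosedImmersion) hl ‹_›
    haveI : IsAffine P.left := isAffine_of_isAffineHom p₁.left
    haveI : IsProper P.hom := by rw [← Over.w p₂]; infer_instance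
    exact IsFinite.iff_isProper_and_isAffineHom.mpr ⟨inferInstance, inferInstance⟩

end Groth.Agent.S18076
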