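import Groth.Statements.S18078
import Groth.Agent.SubSpecLib.UnipSub
-- import your own Groth.Agent.* helpers here

set_option autoImplicit false
universe u
open CategoryTheory MonoidalCategory CartesianMonoidalCategory MonObj GrpObj AlgebraicGeometry CategoryTheory.Limits
open AlgGrp

namespace Groth.Agent.S18078

/-- Let k be an algebraically closed field, F an algebraically closed field extension of k, G an
algebraic k-group (a k-group scheme of finite type) and d a natural number. Then G_F contains a
smooth connected unipotent closed subgroup of dimension at least d (unipotent: no non-trivial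
subtorus) if and only if G does; that is, D_u(k, G) = D_u(F, G). -/
theorem result (k : Type u) [Field k] [IsAlgClosed k]
    (F : Type u) [Field F] [IsAlgClosed F] [Algebra k F]
    (G : Over (Spec (CommRingCat.of k))) [GrpObj G] [LocallyOfFiniteType G.hom] [QuasiCompact G.hom] (d : ℕ) :
    (∃ (U : Over (Spec (CommRingCat.of F))) (_ : GrpObj U) (i : U ⟶ Red.bc (Spec.map (CommRingCat.ofHom (algebraMap k F))) G), IsMonHom i ∧ IsClosedImmersion i.left ∧
        Smooth U.hom ∧ IsAffine U.left ∧ ConnectedSpace ↥U.left ∧ Red.HasNoSubtorus F U ∧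
        (d : WithBot ℕ∞) ≤ topologicalKrullDim ↥U.left) ↔
    (∃ (U : Over (Spec (CommRingCat.of k))) (_ : GrpObj U) (i : U ⟶ G), IsMonHom i ∧ IsClosedImmersion i.left ∧
        Smooth U.hom ∧ IsAffine U.left ∧ ConnectedSpace ↥U.left ∧ Red.HasNoSubtorus k U ∧
        (d : WithBot ℕ∞) ≤ topologicalKrullDim ↥U.left) := by
  constructor
  · rintro ⟨U, hU, i, hi, hic, hs, ha, hc, hP, hd⟩
    obtain ⟨B, hB, r, hr, hrc, hBs, hBc, hdim, hun⟩ := SubSpecLib.Unip.exists_noSubtorus_sub_of_extension G U i
    exact ⟨B, hB, r, hr, hrc, hBs, (hun ha hP).1, hBc, (hun ha hP).2, hdim ▸ hd⟩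
  · rintro ⟨U, hU, i, hi, hic, hs, ha, hc, hP, hd⟩
    obtain ⟨h1, h2, h3, h4, h5⟩ := SubSpecLib.exists_bc_sub (F := F) G U i
    haveI : IsAffine (Red.bc (Spec.map (CommRingCat.ofHom (algebraMap k F))) U).left :=
      inferInstanceAs (IsAffine (pullback U.hom _))
    refine ⟨_, inferInstance, _, h1, h2, h3, inferInstance, h4, ?_, h5.symm ▸ hd⟩
    haveI := h3
    exact SubSpecLib.Unip.hasNoSubtorus_of_finite _ (SubSpecLib.Unip.torSet_finite_of_isUnipGrp _
      (SubSpecLib.Unip.isUnipGrp_bc _ U (SubSpecLib.Unip.isUnipGrp_of_hasNoSubtorus U hP)))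

end Groth.Agent.S18078
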