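import Groth.Statements.S18081
import Groth.Agent.HomAntiLib.Main
import Mathlib.LinearAlgebra.FreeModule.PID

set_option autoImplicit false
set_option backward.isDefEq.respectTransparency false
set_option linter.style.haveILetI false
universe u
open CategoryTheory MonoidalCategory CartesianMonoidalCategory MonObj GrpObj AlgebraicGeometry CategoryTheory.Limits
open AlgGrp

namespace Groth.Agent.S18081

attribute [-instance] CategoryTheory.Hom.commGroup

/-- Let k be a field, G an anti-affine algebraic group over k and H a connected k-group scheme of finite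
type. Then the abelian group of homomorphisms G → H (pointwise multiplication; such homomorphisms
take values in the centre of H) is free of finite rank: there are homomorphisms b₁, …, bₙ such that
every homomorphism f : G → H is the product b₁^{a₁} ⋯ bₙ^{aₙ} for exactly one n-tuple of integers a. -/
theorem result (k : Type u) [Field k]
    (G H : Over (Spec (CommRingCat.of k))) [GrpObj G] [Smooth G.hom] [QuasiCompact G.hom] (hG : Function.Bijective ((Scheme.ΓSpecIso (CommRingCat.of k)).inv ≫ G.hom.appTop).hom)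
    [GrpObj H] [LocallyOfFiniteType H.hom] [QuasiCompact H.hom] [ConnectedSpace ↥H.left] :
    ∃ (n : ℕ) (b : Fin n → (G ⟶ H)), (∀ i, IsMonHom (b i)) ∧
      ∀ f : G ⟶ H, IsMonHom f → ∃! a : Fin n → ℤ, (List.ofFn fun i => b i ^ a i).prod = f := by
  classical
  haveI : AntiAffLib.IsΓIso (toUnit G) := (AntiAffLib.bijective_iff G).1 hG
  haveI : IsCommMonObj G := AntiAffLib.isCommMonObj_of_antiAff G
  haveI : IsCommMonObj (AntiAffLib.ker H) := AntiAffLib.isCommMonObj_of_antiAff (AntiAffLib.ker H)
  obtain ⟨hfin, htf⟩ := HomAntiLib.finite_torsionFree G (AntiAffLib.ker H) H (AntiAffLib.kerIncl H)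
  haveI := hfin; haveI := htf
  obtain ⟨n, β⟩ := Module.basisOfFiniteTypeTorsionFree' (R := ℤ) (M := EndAV.Hom G (AntiAffLib.ker H))
  let b : Fin n → (G ⟶ H) := fun i => (β i).toHom ≫ AntiAffLib.kerIncl H
  refine ⟨n, b, fun i => inferInstance, fun f hf => ?_⟩
  let Φ : (G ⟶ AntiAffLib.ker H) →* (G ⟶ H) :=
    MonoidHom.mk' (fun x => x ≫ AntiAffLib.kerIncl H) fun x y => MonObj.mul_comp x y _
  have hprod : ∀ a : Fin n → ℤ,
      (List.ofFn fun i => b i ^ a i).prod = (∑ i, a i • β i).toHom ≫ AntiAffLib.kerIncl H := by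
    intro a
    let T : EndAV.Hom G (AntiAffLib.ker H) →+ Additive (G ⟶ AntiAffLib.ker H) :=
      AddMonoidHom.mk' (fun φ => Additive.ofMul φ.toHom) fun _ _ => rfl
    have e : (List.ofFn fun i => b i ^ a i).prod = Φ (List.ofFn fun i => (β i).toHom ^ a i).prod := by
      rw [map_list_prod, List.map_ofFn]
      congr 1; congr 1; funext i
      exact (map_zpow Φ _ _).symm
    rw [e]
    show (List.ofFn fun i => (β i).toHom ^ a i).prod ≫ _ = _
    congr 1
    rw [← List.sum_ofFn]
    refine Additive.ofMul.injective (Eq.trans ?_ (map_list_sum T _).symm)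
    rw [List.map_ofFn, ofMul_list_prod, List.map_ofFn]
    congr 1; congr 1; funext i
    exact (map_zsmul T (a i) (β i)).symm
  obtain ⟨l, rfl⟩ := AntiAffLib.exists_lift_ker f hf.one_hom
  haveI : IsMonHom l := Groth.Agent.DiagRep.isMonHom_of_comp_mono l (AntiAffLib.kerIncl H)
  refine ⟨fun i => β.repr (EndAV.Hom.of l) i, ?_, fun a ha => ?_⟩
  · show (List.ofFn fun i => b i ^ (β.repr (EndAV.Hom.of l) i)).prod = _
    rw [hprod, β.sum_repr]
    rfl
  · have ha' : (∑ i, a i • β i) = EndAV.Hom.of l :=
      EndAV.Hom.ext ((cancel_mono (AntiAffLib.kerIncl H)).1 ((hprod a).symm.trans ha))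
    funext i
    rw [← ha', β.repr_sum_self]

end Groth.Agent.S18081
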