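import Groth.Statements.S18082
import Groth.Agent.ClassBoundLib.Locus
import Groth.Agent.MiscFlat6.EqualizerDom
import Groth.Agent.TorsExtLib.Main

set_option backward.isDefEq.respectTransparency false

set_option autoImplicit false
universe u
open CategoryTheory MonoidalCategory CartesianMonoidalCategory MonObj GrpObj AlgebraicGeometry CategoryTheory.Limits
open AlgGrp

namespace Groth.Agent.S18082

open Groth.Agent.ClassBound CategoryTheory.Limits in
/-- A word trivial on the generic fibre is trivial. -/
theorem eq_one_of_generic (A : Type u) [CommRing A] [IsDomain A] (K : Type u) [Field K] [Algebra A K]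
    [IsFractionRing A K] (G P : Over (Spec (CommRingCat.of A))) [GrpObj G] [IsSeparated G.hom] [Flat P.hom]
    (w : P ⟶ G) (h : ∀ (T : Over (Spec (CommRingCat.of K)))
      (x : (Over.map (Spec.map (CommRingCat.ofHom (algebraMap A K)))).obj T ⟶ P), x ≫ w = 1) : w = 1 := by
  let p := Spec.map (CommRingCat.ofHom (algebraMap A K))
  haveI : IsSchemeTheoreticallyDominant p :=
    TorsExtLib.isSchemeTheoreticallyDominant_SpecMap _ (IsFractionRing.injective A K)
  let T : Over (Spec (CommRingCat.of K)) := Over.mk (pullback.snd P.hom p)
  let x : (Over.map p).obj T ⟶ P := Over.homMk (pullback.fst P.hom p) pullback.condition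
  refine Over.OverMorphism.ext (MiscFlat6.ext_of_isSchemeTheoreticallyDominant (pullback.fst P.hom p) G.hom
    w.left (1 : P ⟶ G).left ((Over.w w).trans (Over.w (1 : P ⟶ G)).symm) ?_)
  have h1 := congrArg Over.Hom.left (h T x)
  rw [← MonObj.comp_one x] at h1
  exact h1

/-- A is a discrete valuation ring, with K denoting its field of fractions and k its residue field, and
G is an A-group scheme that is flat, separated and of finite presentation. If the generic fibre G_K
is nilpotent then the special fibre G_k is nilpotent; if G_K is solvable then G_k is solvable. (The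
published statement does not require G separated over A; gluing copies of Spec A indexed by a finite
non-nilpotent, resp. non-solvable, group along their common generic point gives a flat group scheme
of finite presentation with trivial generic fibre and that constant group as special fibre, so G is
taken separated here, the case covered by the density argument of the published proof.) -/
theorem result (A : Type u) [CommRing A] [IsDomain A] [IsDiscreteValuationRing A]
    (K : Type u) [Field K] [Algebra A K] [IsFractionRing A K]
    (G : Over (Spec (CommRingCat.of A))) [GrpObj G] [Flat G.hom] [LocallyOfFinitePresentation G.hom] [QuasiCompact G.hom]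
    [IsSeparated G.hom] :
    (AGF.IsNilpotentGrp (Red.bc (Spec.map (CommRingCat.ofHom (algebraMap A K))) G) → AGF.IsNilpotentGrp (Red.bc (Spec.map (CommRingCat.ofHom (algebraMap A (IsLocalRing.ResidueField A)))) G)) ∧
    (Red.IsSolvableGrp (Red.bc (Spec.map (CommRingCat.ofHom (algebraMap A K))) G) → Red.IsSolvableGrp (Red.bc (Spec.map (CommRingCat.ofHom (algebraMap A (IsLocalRing.ResidueField A)))) G)) := by
  haveI : LocallyOfFiniteType G.hom := inferInstance
  constructor
  · rintro ⟨n, hn⟩
    refine ⟨n, fun X => (Groth.Agent.ClassBound.upper_iff_lower n).2 ?_⟩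
    haveI : Flat (Groth.Agent.ClassBound.CP G n).hom := Groth.Agent.ClassBound.cp_prop @Flat inferInstance n
    have hw : Groth.Agent.ClassBound.cw G n = 1 := eq_one_of_generic A K G _ _ fun T => by
      refine (Groth.Agent.ClassBound.lcs_eq_bot_iff _ n).1 ?_
      exact (Groth.Agent.ClassBound.lcs_congr (_root_.PowEtCentralLib.adjEquiv (G := G) _ T) n).2
        ((Groth.Agent.ClassBound.upper_iff_lower n).1 (hn T))
    exact (Groth.Agent.ClassBound.lcs_congr (_root_.PowEtCentralLib.adjEquiv (G := G) _ X) n).1
      ((Groth.Agent.ClassBound.forall_lcs_iff n).2 hw _)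
  · rintro ⟨n, hn⟩
    refine ⟨n, fun X => ?_⟩
    haveI : Flat (Groth.Agent.ClassBound.DP G n).hom := Groth.Agent.ClassBound.dp_prop @Flat inferInstance n
    have hw : Groth.Agent.ClassBound.dw G n = 1 := eq_one_of_generic A K G _ _ fun T => by
      refine (Groth.Agent.ClassBound.derivedSeries_eq_bot_iff _ n).1 ?_
      exact (Groth.Agent.ClassBound.derivedSeries_congr (_root_.PowEtCentralLib.adjEquiv (G := G) _ T) n).2 (hn T)
    exact (Groth.Agent.ClassBound.derivedSeries_congr (_root_.PowEtCentralLib.adjEquiv (G := G) _ X) n).1
      ((Groth.Agent.ClassBound.forall_derivedSeries_iff n).2 hw _)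

end Groth.Agent.S18082
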