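import Groth.Statements.S18083
import Groth.Agent.SubSpecLib.Regular2
-- import your own Groth.Agent.* helpers here

set_option autoImplicit false
set_option backward.isDefEq.respectTransparency false
universe u
open CategoryTheory MonoidalCategory CartesianMonoidalCategory MonObj GrpObj AlgebraicGeometry CategoryTheory.Limits
open AlgGrp

namespace Groth.Agent.S18083

open Groth.Agent.ClassBound CategoryTheory.Limits in
/-- Class bounds pass from the generic fibre of a closed flat subgroup of a separated group to its special fibre. -/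
theorem step {R : Type u} [CommRing R] [IsDomain R] [IsDiscreteValuationRing R] {K : Type u} [Field K] [Algebra R K]
    [IsFractionRing R K] {S' : Scheme.{u}} (p : S' ⟶ Spec (CommRingCat.of R)) {G H : Over (Spec (CommRingCat.of R))}
    [GrpObj G] [GrpObj H] [IsSeparated G.hom] [Flat H.hom] (j : H ⟶ G) [IsMonHom j] [IsClosedImmersion j.left]
    {HK : Over (Spec (CommRingCat.of K))} [GrpObj HK] (i : HK ⟶ Red.bc (SubSpecLib.gp R K) G) [IsMonHom i]
    (φH : HK.left ⟶ H.left) (hpb : IsPullback φH HK.hom H.hom (SubSpecLib.gp R K))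
    (hfac : φH ≫ j.left = SubSpecLib.u₀ G HK i) :
    (∀ n, (∀ T : Over (Spec (CommRingCat.of K)), (⊤ : Subgroup (T ⟶ HK)).lowerCentralSeries n = ⊥) →
      ∀ T : Over S', (⊤ : Subgroup (T ⟶ Red.bc p H)).lowerCentralSeries n = ⊥) ∧
    (Red.IsSolvableGrp HK → Red.IsSolvableGrp (Red.bc p H)) := by
  haveI : Mono j := (Over.forget _).mono_of_mono_map (show Mono j.left from inferInstance)
  haveI : IsSeparated H.hom := by rw [← Over.w j]; infer_instance
  constructor
  · intro n hn X
    haveI : Flat (CP H n).hom := cp_prop @Flat ‹_› n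
    have hw : cw H n = 1 := Groth.Agent.S18082.eq_one_of_generic R K H _ _ fun T => by
      refine (lcs_eq_bot_iff _ n).1 ?_
      obtain ⟨e⟩ := SubSpecLib.exists_ptsEquiv j i φH hpb hfac T
      exact (lcs_congr e n).2 (hn T)
    exact (lcs_congr (_root_.PowEtCentralLib.adjEquiv (G := H) p X) n).1 ((forall_lcs_iff n).2 hw _)
  · rintro ⟨n, hn⟩
    refine ⟨n, fun X => ?_⟩
    haveI : Flat (DP H n).hom := dp_prop @Flat ‹_› n
    have hw : dw H n = 1 := Groth.Agent.S18082.eq_one_of_generic R K H _ _ fun T => by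
      refine (derivedSeries_eq_bot_iff _ n).1 ?_
      obtain ⟨e⟩ := SubSpecLib.exists_ptsEquiv j i φH hpb hfac T
      exact (derivedSeries_congr e n).2 (hn T)
    exact (derivedSeries_congr (_root_.PowEtCentralLib.adjEquiv (G := H) p X) n).1
      ((forall_derivedSeries_iff n).2 hw _)

open Groth.Agent.ClassBound in
/-- Base change preserves class bounds. -/
theorem lcs_bc {S S' : Scheme.{u}} (p : S' ⟶ S) (U : Over S) [GrpObj U] (n : ℕ)
    (h : ∀ T : Over S, (⊤ : Subgroup (T ⟶ U)).lowerCentralSeries n = ⊥) (T : Over S') :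
    (⊤ : Subgroup (T ⟶ Red.bc p U)).lowerCentralSeries n = ⊥ :=
  (lcs_congr (_root_.PowEtCentralLib.adjEquiv (G := U) p T) n).1 (h _)

/-- A is a regular local ring, K denotes its field of fractions and k its residue field; G is a flat
separated A-group scheme of finite presentation, and d is a natural number. If G_K contains a
commutative (resp. nilpotent, resp. solvable) closed subgroup scheme of dimension d, then so does
G_k. (The published statement does not require G separated; its proof goes through the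
specialisation of commutativity, nilpotency and solvability over a discrete valuation ring by a
density argument that is valid for separated group schemes, so G is taken separated here.) -/
theorem result (A : Type u) [CommRing A] [IsDomain A] [IsRegularLocalRing A]
    (K : Type u) [Field K] [Algebra A K] [IsFractionRing A K]
    (G : Over (Spec (CommRingCat.of A))) [GrpObj G] [Flat G.hom] [LocallyOfFinitePresentation G.hom] [QuasiCompact G.hom]
    [IsSeparated G.hom] (d : ℕ) :
    ((∃ (H : Over (Spec (CommRingCat.of K))) (_ : GrpObj H) (i : H ⟶ Red.bc (Spec.map (CommRingCat.ofHom (algebraMap A K))) G),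
        IsMonHom i ∧ IsClosedImmersion i.left ∧ IsCommMonObj H ∧ topologicalKrullDim ↥H.left = (d : WithBot ℕ∞)) → ∃ (H : Over (Spec (CommRingCat.of (IsLocalRing.ResidueField A)))) (_ : GrpObj H) (i : H ⟶ Red.bc (Spec.map (CommRingCat.ofHom (algebraMap A (IsLocalRing.ResidueField A)))) G),
        IsMonHom i ∧ IsClosedImmersion i.left ∧ IsCommMonObj H ∧ topologicalKrullDim ↥H.left = (d : WithBot ℕ∞)) ∧
    ((∃ (H : Over (Spec (CommRingCat.of K))) (_ : GrpObj H) (i : H ⟶ Red.bc (Spec.map (CommRingCat.ofHom (algebraMap A K))) G),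
        IsMonHom i ∧ IsClosedImmersion i.left ∧ AGF.IsNilpotentGrp H ∧ topologicalKrullDim ↥H.left = (d : WithBot ℕ∞)) → ∃ (H : Over (Spec (CommRingCat.of (IsLocalRing.ResidueField A)))) (_ : GrpObj H) (i : H ⟶ Red.bc (Spec.map (CommRingCat.ofHom (algebraMap A (IsLocalRing.ResidueField A)))) G),
        IsMonHom i ∧ IsClosedImmersion i.left ∧ AGF.IsNilpotentGrp H ∧ topologicalKrullDim ↥H.left = (d : WithBot ℕ∞)) ∧
    ((∃ (H : Over (Spec (CommRingCat.of K))) (_ : GrpObj H) (i : H ⟶ Red.bc (Spec.map (CommRingCat.ofHom (algebraMap A K))) G),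
        IsMonHom i ∧ IsClosedImmersion i.left ∧ Red.IsSolvableGrp H ∧ topologicalKrullDim ↥H.left = (d : WithBot ℕ∞)) → ∃ (H : Over (Spec (CommRingCat.of (IsLocalRing.ResidueField A)))) (_ : GrpObj H) (i : H ⟶ Red.bc (Spec.map (CommRingCat.ofHom (algebraMap A (IsLocalRing.ResidueField A)))) G),
        IsMonHom i ∧ IsClosedImmersion i.left ∧ Red.IsSolvableGrp H ∧ topologicalKrullDim ↥H.left = (d : WithBot ℕ∞)) := by
  haveI : LocallyOfFiniteType G.hom := inferInstance
  refine ⟨fun h => ?_, fun h => ?_, fun h => ?_⟩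
  · exact SubSpecLib.hasSub_regular
      (P := fun F _ H N _ _ i => IsCommMonObj H) (d := d) (Q := @IsSeparated.{u})
      (fun _ _ _ _ _ _ _ _ i _ e _ hn => hn)
      (fun _ _ _ _ _ H _ _ _ i _ hn =>
        (SubSpecLib.isCommMonObj_iff_lcs _).2 (lcs_bc _ H 1 ((SubSpecLib.isCommMonObj_iff_lcs _).1 hn)))
      (fun R _ _ _ K _ _ _ k _ φ _ G _ _ _ _ hQ H _ _ _ _ j _ _ HK _ i _ _ φH hpb hfac hker hn => by
        haveI : IsSeparated G.hom := hQ
        exact (SubSpecLib.isCommMonObj_iff_lcs _).2
          ((step _ j i φH hpb hfac).1 1 ((SubSpecLib.isCommMonObj_iff_lcs _).1 hn)))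
      _ A rfl K _ (IsLocalRing.residue A) IsLocalRing.residue_surjective G ‹IsSeparated G.hom› h
  · exact SubSpecLib.hasSub_regular
      (P := fun F _ H N _ _ i => AGF.IsNilpotentGrp H) (d := d) (Q := @IsSeparated.{u})
      (fun _ _ _ _ _ _ _ _ i _ e _ hn => hn)
      (fun _ _ _ _ _ H _ _ _ i _ ⟨n, hn⟩ => ⟨n, fun T => (Groth.Agent.ClassBound.upper_iff_lower n).2
        (lcs_bc _ H n (fun T => (Groth.Agent.ClassBound.upper_iff_lower n).1 (hn T)) T)⟩)
      (fun R _ _ _ K _ _ _ k _ φ _ G _ _ _ _ hQ H _ _ _ _ j _ _ HK _ i _ _ φH hpb hfac hker ⟨n, hn⟩ => by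
        haveI : IsSeparated G.hom := hQ
        exact ⟨n, fun T => (Groth.Agent.ClassBound.upper_iff_lower n).2
          ((step _ j i φH hpb hfac).1 n (fun T => (Groth.Agent.ClassBound.upper_iff_lower n).1 (hn T)) T)⟩)
      _ A rfl K _ (IsLocalRing.residue A) IsLocalRing.residue_surjective G ‹IsSeparated G.hom› h
  · exact SubSpecLib.hasSub_regular
      (P := fun F _ H N _ _ i => Red.IsSolvableGrp H) (d := d) (Q := @IsSeparated.{u})
      (fun _ _ _ _ _ _ _ _ i _ e _ hn => hn)
      (fun _ _ _ _ _ H _ _ _ i _ ⟨n, hn⟩ => ⟨n, fun T =>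
        (Groth.Agent.ClassBound.derivedSeries_congr (_root_.PowEtCentralLib.adjEquiv (G := H) _ T) n).1 (hn _)⟩)
      (fun R _ _ _ K _ _ _ k _ φ _ G _ _ _ _ hQ H _ _ _ _ j _ _ HK _ i _ _ φH hpb hfac hker hn => by
        haveI : IsSeparated G.hom := hQ
        exact (step _ j i φH hpb hfac).2 hn)
      _ A rfl K _ (IsLocalRing.residue A) IsLocalRing.residue_surjective G ‹IsSeparated G.hom› h

end Groth.Agent.S18083
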