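import Groth.Statements.S18084
import Groth.Agent.SubSpecLib.DerivedSub
-- import your own Groth.Agent.* helpers here

set_option autoImplicit false
set_option backward.isDefEq.respectTransparency false
set_option maxHeartbeats 1000000
universe u
open CategoryTheory MonoidalCategory CartesianMonoidalCategory MonObj GrpObj AlgebraicGeometry CategoryTheory.Limits
open AlgGrp

namespace Groth.Agent.S18084

/-- Let S be a scheme and G a smooth S-group scheme of finite presentation; for s ∈ S let d_ab(s) be the
dimension of the abelianization of the geometric fibre of G at s, i.e. the dimension of that fibre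
minus the dimension of its derived group (the least dimension of a closed normal subgroup scheme
containing all commutators of points). Then d_ab does not decrease under specialization: for every
natural number n, if s specializes to s' (that is, s' lies in the closure of s) and d_ab(s) ≥ n,
then d_ab(s') ≥ n. (The published statement asserts that d_ab is upper semicontinuous on S, i.e.
that the set of points s with d_ab(s) ≥ n is closed; the published argument reduces to the spectrum
of an integral local ring and establishes that this set is stable under specialization, which is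
what is stated here. Closedness would in addition need the set to be locally constructible, which
the argument does not address.) -/
theorem result (S : Scheme.{u}) (G : Over S) [GrpObj G]
    [Smooth G.hom] [QuasiCompact G.hom] [QuasiSeparated G.hom] (n : ℕ) :
    StableUnderSpecialization {s : ↥S | ∃ (N : Over (Spec (CommRingCat.of (AlgebraicClosure (S.residueField s))))) (_ : GrpObj N)
      (i : N ⟶ Red.geomFibre s G), IsMonHom i ∧ IsClosedImmersion i.left ∧ AlgGrp.IsNormalHom i ∧
      (∀ (T : Over (Spec (CommRingCat.of (AlgebraicClosure (S.residueField s))))) (g h : T ⟶ Red.geomFibre s G),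
        ∃ m : T ⟶ N, g * h * g⁻¹ * h⁻¹ = m ≫ i) ∧
      (n : WithBot ℕ∞) + topologicalKrullDim ↥N.left ≤ topologicalKrullDim ↥(Red.geomFibre s G).left} := by
  rintro s s' hss ⟨N, hN, i, hi, hic, hn, hc, hd⟩
  obtain ⟨V, φ, q, hφ, hg, hp⟩ := SubSpecLib.exists_valuation_of_specializes hss
  let G' : Over (Spec (CommRingCat.of V)) := Red.bc q G
  haveI : Smooth G'.hom := MorphismProperty.pullback_snd (P := @Smooth) _ _ ‹_›
  haveI : QuasiCompact G'.hom := MorphismProperty.pullback_snd (P := @QuasiCompact) _ _ ‹_›
  let e := ActBC.bcCompIso _ q G hg
  let e' := ActBC.bcCompIso _ q G hp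
  haveI hei : IsMonHom e.symm.hom := inferInstanceAs (IsMonHom e.inv)
  haveI : IsIso e.symm.hom.left := inferInstanceAs (IsIso ((Over.forget _).map e.inv))
  haveI : IsIso e'.hom.left := inferInstanceAs (IsIso ((Over.forget _).map e'.hom))
  haveI : IsClosedImmersion (i ≫ e.symm.hom).left := by rw [Over.comp_left]; infer_instance
  obtain ⟨B, hB, r, hr, hrc, hrn, hrcm, hdim⟩ := SubSpecLib.Derived.exists_derived_special hφ G' N (i ≫ e.symm.hom)
    (SubSpecLib.isNormalHom_iso i e.symm hn) (SubSpecLib.Derived.hasComm_iso i e.symm hc)
  haveI := hr
  haveI := hrc
  haveI : IsClosedImmersion (r ≫ e'.hom).left := by rw [Over.comp_left]; infer_instance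
  refine ⟨B, hB, r ≫ e'.hom, inferInstance, inferInstance, SubSpecLib.isNormalHom_iso r e' hrn,
    SubSpecLib.Derived.hasComm_iso r e' hrcm, ?_⟩
  have h1 := SubSpecLib.Val.dim_special_eq (K := AlgebraicClosure (S.residueField s)) φ hφ G'
  have h2 := ((Over.forget _).mapIso e).hom.homeomorph.isHomeomorph.topologicalKrullDim_eq
  have h3 := ((Over.forget _).mapIso e').hom.homeomorph.isHomeomorph.topologicalKrullDim_eq
  refine (add_le_add le_rfl hdim).trans (hd.trans (le_of_eq ?_))
  exact h2.symm.trans (h1.symm.trans h3)

end Groth.Agent.S18084
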