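import Groth.Statements.S18085
import Groth.Agent.S14600
import Groth.Agent.ImgTorusLib.SameImage
import Groth.Agent.AlbLib.AffineHom
import Groth.Agent.GrpSchLib.Cartier
import Groth.Agent.MaxTorConjLib.Geom
import Groth.Agent.AntiAffLib.Descend

set_option autoImplicit false
universe u
open CategoryTheory MonoidalCategory CartesianMonoidalCategory MonObj GrpObj AlgebraicGeometry CategoryTheory.Limits
open AlgGrp

attribute [-instance] CategoryTheory.Hom.commGroup

namespace Groth.Agent.S18085

/-- A torus over a field is connected. -/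
theorem connectedSpace_torus {k : Type u} [Field k] {T : Over (Spec (CommRingCat.of k))} [GrpObj T]
    (hT : Red.IsTorus T) : ConnectedSpace ↥T.left := by
  have h := Groth.Agent.ImgTorus.isConnected_fibre_torus hT (IsLocalRing.closedPoint k)
  have e : T.hom.base ⁻¹' {IsLocalRing.closedPoint k} = Set.univ :=
    Set.eq_univ_of_forall fun x => @Subsingleton.elim (PrimeSpectrum k) _ _ _
  exact connectedSpace_iff_univ.2 (e ▸ h)

theorem mono_of_isKernel {k : Type u} [Field k] {N G Q : Over (Spec (CommRingCat.of k))} [GrpObj Q] {i : N ⟶ G}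
    {q : G ⟶ Q} (h : AlgGrp.IsKernel i q) : Mono i :=
  ⟨fun p p' e => h.hom_ext e (toUnit_unique _ _)⟩

/-- Let k be a field and G a connected k-group scheme of finite type, with G_aff = N (the smallest
normal connected affine closed subgroup scheme with abelian variety quotient), G_ant = M (the
largest anti-affine closed subgroup scheme) and (G_ant)_aff = M' (the smallest connected affine
closed subgroup scheme of M with abelian variety quotient M/M' = B). Then M' is smooth and contained
in N, and (N ∩ M)/M' is finite: the image of N ∩ M in B is a finite set of points. -/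
theorem result (k : Type u) [Field k]
    (G : Over (Spec (CommRingCat.of k))) [GrpObj G] [LocallyOfFiniteType G.hom] [QuasiCompact G.hom] [ConnectedSpace ↥G.left]
    (N : Over (Spec (CommRingCat.of k))) [GrpObj N] (i : N ⟶ G) [IsMonHom i] [IsClosedImmersion i.left]
    [IsAffine N.left] [ConnectedSpace ↥N.left] (hN : AlgGrp.IsNormalHom i)
    (A : Over (Spec (CommRingCat.of k))) [GrpObj A] (q : G ⟶ A) [IsMonHom q] [Surjective q.left] [Flat q.left]
    [IsProper A.hom] [Smooth A.hom] [ConnectedSpace ↥A.left] (hq : AlgGrp.IsKernel i q)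
    (hNmin : ∀ (N₁ : Over (Spec (CommRingCat.of k))) [GrpObj N₁] (i₁ : N₁ ⟶ G) [IsMonHom i₁] [IsClosedImmersion i₁.left]
    [IsAffine N₁.left] [ConnectedSpace ↥N₁.left] (A₁ : Over (Spec (CommRingCat.of k))) [GrpObj A₁] (q₁ : G ⟶ A₁) [IsMonHom q₁]
      [Surjective q₁.left] [Flat q₁.left] [IsProper A₁.hom] [Smooth A₁.hom] [ConnectedSpace ↥A₁.left],
      AlgGrp.IsNormalHom i₁ → AlgGrp.IsKernel i₁ q₁ → ∃ g : N ⟶ N₁, g ≫ i₁ = i)
    (M : Over (Spec (CommRingCat.of k))) [GrpObj M] [LocallyOfFiniteType M.hom] [QuasiCompact M.hom] (j : M ⟶ G) [IsMonHom j] [IsClosedImmersion j.left]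
    (hM : Function.Bijective ((Scheme.ΓSpecIso (CommRingCat.of k)).inv ≫ M.hom.appTop).hom)
    (hMmax : ∀ (M₁ : Over (Spec (CommRingCat.of k))) [GrpObj M₁] [LocallyOfFiniteType M₁.hom] [QuasiCompact M₁.hom] (j₁ : M₁ ⟶ G) [IsMonHom j₁] [IsClosedImmersion j₁.left],
      Function.Bijective ((Scheme.ΓSpecIso (CommRingCat.of k)).inv ≫ M₁.hom.appTop).hom → ∃ g : M₁ ⟶ M, g ≫ j = j₁)
    (M' : Over (Spec (CommRingCat.of k))) [GrpObj M'] (m : M' ⟶ M) [IsMonHom m] [IsClosedImmersion m.left]
    [IsAffine M'.left] [ConnectedSpace ↥M'.left]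
    (B : Over (Spec (CommRingCat.of k))) [GrpObj B] (r : M ⟶ B) [IsMonHom r] [Surjective r.left] [Flat r.left]
    [IsProper B.hom] [Smooth B.hom] [ConnectedSpace ↥B.left] (hr : AlgGrp.IsKernel m r)
    (hM'min : ∀ (M₂ : Over (Spec (CommRingCat.of k))) [GrpObj M₂] (m₂ : M₂ ⟶ M) [IsMonHom m₂] [IsClosedImmersion m₂.left]
    [IsAffine M₂.left] [ConnectedSpace ↥M₂.left] (B₂ : Over (Spec (CommRingCat.of k))) [GrpObj B₂] (r₂ : M ⟶ B₂) [IsMonHom r₂]
      [Surjective r₂.left] [Flat r₂.left] [IsProper B₂.hom] [Smooth B₂.hom] [ConnectedSpace ↥B₂.left],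
      AlgGrp.IsKernel m₂ r₂ → ∃ g : M' ⟶ M₂, g ≫ m₂ = m)
    (P : Over (Spec (CommRingCat.of k))) (p₁ : P ⟶ N) (p₂ : P ⟶ M) (hP : IsPullback p₁ p₂ i j) :
    Smooth M'.hom ∧ (∃ g : M' ⟶ N, g ≫ i = m ≫ j) ∧ (Set.range ⇑(p₂ ≫ r).left.base).Finite := by
  haveI : Mono i := mono_of_isKernel hq
  haveI : Mono m := mono_of_isKernel hr
  haveI : LocallyOfFiniteType M'.hom := by rw [← Over.w m]; infer_instance
  haveI : LocallyOfFiniteType N.hom := by rw [← Over.w i]; infer_instance
  -- the affine part of the anti-affine group is smooth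
  have hsm : Smooth M'.hom := by
    obtain ⟨p, hp⟩ := CharP.exists k
    rcases CharP.char_is_prime_or_zero k p with hpp | rfl
    · haveI := hp; haveI : Fact p.Prime := ⟨hpp⟩
      obtain ⟨T, _, t, A', _, q', htm, htc, hT, hq'm, hq's, hq'f, hk, hA'p, hA's, hA'c⟩ :=
        Groth.Agent.S14600.result k p M hM
      haveI := htm; haveI := htc; haveI := hq'm; haveI := hq's; haveI := hq'f; haveI := hA'p; haveI := hA's
      haveI := hA'c
      haveI := AlbLib.isAffine_of_isTorus hT
      haveI := connectedSpace_torus hT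
      haveI : Smooth T.hom := Groth.Agent.MaxTorConj.smooth_of_isTorus hT
      haveI : Mono t := mono_of_isKernel hk
      obtain ⟨g, hg⟩ := hM'min T t A' q' hk
      obtain ⟨h, hh⟩ := AntiAffLib.exists_lift_kernel hr t (AlbLib.eq_one_of_affine (t ≫ r))
      haveI : IsIso g := ⟨h, by rw [← cancel_mono m, Category.assoc, hh, hg, Category.id_comp],
        by rw [← cancel_mono t, Category.assoc, hg, hh, Category.id_comp]⟩
      haveI : IsIso g.left := inferInstanceAs (IsIso ((Over.forget _).map g))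
      rw [← Over.w g]; infer_instance
    · haveI := hp
      haveI : CharZero k := CharP.charP_to_charZero k
      exact Groth.Agent.GrpSchLib.smooth_of_charZero (G := M')
  refine ⟨hsm, AntiAffLib.exists_lift_kernel hq (m ≫ j) ?_, ?_⟩
  · rw [Category.assoc, ← Category.assoc]
    haveI := hsm
    exact AlbLib.eq_one_of_affine ((m ≫ j) ≫ q)
  -- the intersection is affine, so has finite image in the abelian variety
  haveI : IsClosedImmersion p₂.left :=
    MorphismProperty.of_isPullback (P := @IsClosedImmersion) (hP.map (Over.forget _)) ‹IsClosedImmersion i.left›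
  haveI : IsClosedImmersion p₁.left :=
    MorphismProperty.of_isPullback (P := @IsClosedImmersion) (hP.map (Over.forget _)).flip ‹IsClosedImmersion j.left›
  haveI : IsAffine P.left := isAffine_of_isAffineHom p₁.left
  haveI : Mono p₂ := Over.mono_of_mono_left p₂
  have hl : ∀ {T : Over (Spec (CommRingCat.of k))} (b : T ⟶ M) (a : T ⟶ N), b ≫ j = a ≫ i → ∃ l, l ≫ p₂ = b :=
    fun b a e => ⟨hP.lift a b e.symm, hP.lift_snd _ _ _⟩
  obtain ⟨gP, hp₂⟩ := Groth.Agent.SubDesc.exists_grpObj_of_mono p₂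
    (hl _ ((fst P P ≫ p₁) * (snd P P ≫ p₁)) (by simp only [MonObj.mul_comp, Category.assoc]; rw [hP.w]))
    (hl 1 1 (by rw [MonObj.one_comp, MonObj.one_comp]))
    (hl _ p₁⁻¹ (by rw [GrpObj.inv_comp, GrpObj.inv_comp, hP.w]))
  haveI := hp₂
  haveI : LocallyOfFiniteType P.hom := by rw [← Over.w p₂]; infer_instance
  haveI : QuasiCompact (p₂ ≫ r).left := by
    haveI : QuasiCompact ((p₂ ≫ r).left ≫ B.hom) := by rw [Over.w (p₂ ≫ r)]; infer_instance
    exact QuasiCompact.of_comp (p₂ ≫ r).left B.hom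
  haveI : Flat P.hom := Groth.Agent.GrpField.flat_field _
  obtain ⟨C, _, p, c, hpm, -, hpc, hpf, hps, -, hc⟩ :=
    Groth.Agent.GrpHom.exists_fppf_image (p₂ ≫ r) (Groth.Agent.GrpField.flat_field _)
  haveI := hpm; haveI := hc; haveI := hpf; haveI := hps
  haveI : IsProper C.hom := by rw [← Over.w c]; infer_instance
  haveI : IsAffine C.left := AntiAffLib.isAffine_of_surjective_hom p
  haveI : IsAffineHom C.hom := isAffineHom_of_isAffine _
  haveI : IsFinite C.hom := (IsFinite.iff_isIntegralHom_and_locallyOfFiniteType _).2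
    ⟨IsIntegralHom.iff_universallyClosed_and_isAffineHom.2 ⟨inferInstance, inferInstance⟩, inferInstance⟩
  haveI : Finite C.left := by
    refine Set.finite_univ_iff.1 ((C.hom.finite_preimage_singleton (IsLocalRing.closedPoint k)).subset fun z _ => ?_)
    exact @Subsingleton.elim (PrimeSpectrum k) _ _ _
  refine (Set.finite_range c.left.base).subset ?_
  rintro _ ⟨x, rfl⟩
  exact ⟨p.left x, by rw [← hpc]; rfl⟩

end Groth.Agent.S18085
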