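import Groth.Statements.S18086
import Groth.Agent.SubSpecLib.RedSub
import Groth.Agent.S18071
-- import your own Groth.Agent.* helpers here

set_option autoImplicit false
universe u
open CategoryTheory MonoidalCategory CartesianMonoidalCategory MonObj GrpObj AlgebraicGeometry CategoryTheory.Limits
open AlgGrp

namespace Groth.Agent.S18086

/-- Let k be a perfect field and G an algebraic k-group. If G_{k((t))} contains a smooth connected
unipotent k((t))-subgroup of dimension at least d, unipotent being expressed for a smooth connected
affine group as having no non-trivial subtorus over the ground field, then G contains a smooth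
connected unipotent k-subgroup of dimension at least d. Hence, counting smooth connected unipotent
subgroups, D_u(k, G) = D_u(k((t)), G), the reverse inequality being base change. (The published
lemma is stated over an arbitrary field k and counts unipotent k-subgroups which need not be smooth;
the subgroup its argument produces over k is the special fibre of a schematic closure over k[[t]]
and need not be smooth. This statement asks for a smooth connected subgroup and therefore takes k
perfect, where the reduced identity component of that special fibre is a smooth connected unipotent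
k-subgroup of the same dimension.) -/
theorem result (k : Type u) [Field k] [PerfectField k]
    (G : Over (Spec (CommRingCat.of k))) [GrpObj G] [LocallyOfFiniteType G.hom] [QuasiCompact G.hom] (d : ℕ)
    (hK : ∃ (U : Over (Spec (CommRingCat.of (LaurentSeries k)))) (_ : GrpObj U) (i : U ⟶ Red.bc (Spec.map (CommRingCat.ofHom (algebraMap k (LaurentSeries k)))) G), IsMonHom i ∧ IsClosedImmersion i.left ∧
        Smooth U.hom ∧ IsAffine U.left ∧ ConnectedSpace ↥U.left ∧ Red.HasNoSubtorus (LaurentSeries k) U ∧
        (d : WithBot ℕ∞) ≤ topologicalKrullDim ↥U.left) :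
    ∃ (U : Over (Spec (CommRingCat.of k))) (_ : GrpObj U) (i : U ⟶ G), IsMonHom i ∧ IsClosedImmersion i.left ∧
        Smooth U.hom ∧ IsAffine U.left ∧ ConnectedSpace ↥U.left ∧ Red.HasNoSubtorus k U ∧
        (d : WithBot ℕ∞) ≤ topologicalKrullDim ↥U.left := by
  obtain ⟨U, hU, i, hi, hic, hs, ha, hc, hP, hd⟩ := hK
  haveI : QuasiCompact U.hom := inferInstance
  have hgeom := (Groth.Agent.S18071.result (LaurentSeries k) U).1 hP
  have hun := SubSpecLib.Unip.isUnipGrp_of_geom U hgeom
  haveI := hi
  haveI := hic
  haveI := ha
  have hcomp : Spec.map (CommRingCat.ofHom (algebraMap (PowerSeries k) (LaurentSeries k))) ≫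
      Spec.map (CommRingCat.ofHom (PowerSeries.C (R := k))) =
      Spec.map (CommRingCat.ofHom (algebraMap k (LaurentSeries k))) := by
    rw [← Spec.map_comp, ← CommRingCat.ofHom_comp]
    congr 2
  obtain ⟨B, hB, r, hr, hrc, hBs, hBa, hBc, hBP, hdim⟩ := SubSpecLib.Unip.exists_noSubtorus_sub_of_dvr
    (D := PowerSeries k) (F := LaurentSeries k) (PowerSeries.constantCoeff (R := k))
    (fun x => ⟨PowerSeries.C x, PowerSeries.constantCoeff_C x⟩) (PowerSeries.C (R := k))
    (RingHom.ext fun x => PowerSeries.constantCoeff_C x) hcomp G U i hun
  exact ⟨B, hB, r, hr, hrc, hBs, hBa, hBc, hBP, hdim ▸ hd⟩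

end Groth.Agent.S18086
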