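import Groth.Statements.S18096
import Groth.Agent.AntiAffLib.GLn
-- import your own Groth.Agent.* helpers here

set_option autoImplicit false
universe u
open CategoryTheory MonoidalCategory CartesianMonoidalCategory MonObj GrpObj AlgebraicGeometry CategoryTheory.Limits
open AlgGrp
attribute [-instance] CategoryTheory.Hom.commGroup

namespace Groth.Agent.S18096

/-- Let k be a field and G a k-group scheme of finite type. Then G is anti-affine, i.e. O(G) = k, if and
only if every finite-dimensional linear representation of G is trivial, i.e. for every n every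
homomorphism G → GL_{n,k} is trivial. -/
theorem result (k : Type u) [Field k]
    (G : Over (Spec (CommRingCat.of k))) [GrpObj G] [LocallyOfFiniteType G.hom] [QuasiCompact G.hom] :
    Function.Bijective ((Scheme.ΓSpecIso (CommRingCat.of k)).inv ≫ G.hom.appTop).hom ↔
      ∀ (n : ℕ) (ρ : G ⟶ FrB.GLn n (Spec (CommRingCat.of k))), IsMonHom ρ → ρ = 1 := by
  rw [AntiAffLib.bijective_iff]
  refine ⟨fun h n ρ hρ => ?_, AntiAffLib.antiAff_of_reps⟩
  haveI : IsAffine (FrB.GLn n (Spec (CommRingCat.of k))).left := by
    haveI : IsAffine (FrB.GLZ.{u} n).left := inferInstanceAs (IsAffine (Spec _))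
    exact inferInstanceAs (IsAffine (Limits.pullback (FrB.GLZ.{u} n).hom (Limits.IsTerminal.from specULiftZIsTerminal (Spec (CommRingCat.of k)))))
  haveI := hρ
  exact AntiAffLib.comp_eq_one ρ (IsMonHom.one_hom (f := ρ))
end Groth.Agent.S18096
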