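import Groth.Statements.S18097
import Groth.Agent.SubSpecLib.FieldExt
-- import your own Groth.Agent.* helpers here

set_option autoImplicit false
universe u
open CategoryTheory MonoidalCategory CartesianMonoidalCategory MonObj GrpObj AlgebraicGeometry CategoryTheory.Limits
open AlgGrp

namespace Groth.Agent.S18097

/-- Let k be an algebraically closed field, F an algebraically closed field extension of k, G an
algebraic k-group (a k-group scheme of finite type) and d a natural number. Then G_F contains a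
smooth connected solvable closed subgroup of dimension at least d if and only if G does; that is,
D'_s(k, G) = D'_s(F, G). -/
theorem result (k : Type u) [Field k] [IsAlgClosed k]
    (F : Type u) [Field F] [IsAlgClosed F] [Algebra k F]
    (G : Over (Spec (CommRingCat.of k))) [GrpObj G] [LocallyOfFiniteType G.hom] [QuasiCompact G.hom] (d : ℕ) :
    (∃ (U : Over (Spec (CommRingCat.of F))) (_ : GrpObj U) (i : U ⟶ Red.bc (Spec.map (CommRingCat.ofHom (algebraMap k F))) G), IsMonHom i ∧ IsClosedImmersion i.left ∧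
        Smooth U.hom ∧ ConnectedSpace ↥U.left ∧ Red.IsSolvableGrp U ∧ (d : WithBot ℕ∞) ≤ topologicalKrullDim ↥U.left) ↔
    (∃ (U : Over (Spec (CommRingCat.of k))) (_ : GrpObj U) (i : U ⟶ G), IsMonHom i ∧ IsClosedImmersion i.left ∧
        Smooth U.hom ∧ ConnectedSpace ↥U.left ∧ Red.IsSolvableGrp U ∧ (d : WithBot ℕ∞) ≤ topologicalKrullDim ↥U.left) := by
  constructor
  · rintro ⟨U, hU, i, hi, hic, hs, hc, hsol, hd⟩
    obtain ⟨B, hB, r, hr, hrc, hBs, hBc, hdim, hsolv⟩ := SubSpecLib.exists_sub_of_extension G U i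
    exact ⟨B, hB, r, hr, hrc, hBs, hBc, hsolv hsol, hdim ▸ hd⟩
  · rintro ⟨U, hU, i, hi, hic, hs, hc, hsol, hd⟩
    obtain ⟨h1, h2, h3, h4, h5⟩ := SubSpecLib.exists_bc_sub (F := F) G U i
    exact ⟨_, inferInstance, _, h1, h2, h3, h4, SubSpecLib.isSolvableGrp_bc _ U hsol, h5.symm ▸ hd⟩

end Groth.Agent.S18097
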