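import Groth.Statements.S6074
import Groth.Agent.GenSubLib.SqWord
import Groth.Agent.GenSubLib.WordBC
import Groth.Agent.GenSubLib.Smallest
-- import your own Groth.Agent.* helpers here

set_option autoImplicit false
set_option backward.isDefEq.respectTransparency false
universe u
open CategoryTheory CategoryTheory.Limits MonoidalCategory CartesianMonoidalCategory MonObj GrpObj AlgebraicGeometry
open SGA3

attribute [-instance] CategoryTheory.Hom.commGroup

namespace Groth.Agent.S6074

/-- Let k be a field, G a group scheme locally of finite type over k, X a k-scheme of finite type,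
geometrically reduced and geometrically connected, and f : X → G a k-morphism whose image contains
the unit point of G. Let i : Γ → G be the smallest closed subgroup scheme of G through which f
factors. Then there is a natural number N such that the underlying set of Γ is the set of points of
G lying under a word of length N in f: a point g of G is in the image of i if and only if there are
a k-scheme T, a point p of T, T-valued points x_1, …, x_N of X and signs such that the T-valued
point f(x_1)^{±1} ⋯ f(x_N)^{±1} of G maps p to g. (The set of points of G lying under words of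
length exactly N is the image of the N-th iterated word morphism X^N → G built from f and its
inverse.) -/
theorem result (k : Type u) [Field k]
    (G X : Over (Spec (CommRingCat.of k))) [GrpObj G] [LocallyOfFiniteType G.hom]
    [LocallyOfFiniteType X.hom] [QuasiCompact X.hom] [GeometricallyReduced X.hom] [GeometricallyConnected X.hom]
    (f : X ⟶ G) (he : ∃ x : X.left, f.left.base x ∈ Set.range (η[G] : 𝟙_ (Over (Spec (CommRingCat.of k))) ⟶ G).left.base)
    (Γ : Over (Spec (CommRingCat.of k))) [GrpObj Γ] (i : Γ ⟶ G) [IsMonHom i] [IsClosedImmersion i.left]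
    (hf : ∃ f' : X ⟶ Γ, f' ≫ i = f)
    (hmin : ∀ (Γ' : Over (Spec (CommRingCat.of k))) (_ : GrpObj Γ') (i' : Γ' ⟶ G), IsMonHom i' → IsClosedImmersion i'.left →
        (∃ f'' : X ⟶ Γ', f'' ≫ i' = f) → ∃ j : Γ ⟶ Γ', j ≫ i' = i) :
    ∃ N : ℕ, Set.range i.left.base =
      {g : G.left | ∃ (T : Over (Spec (CommRingCat.of k))) (p : T.left) (x : Fin N → (T ⟶ X)) (ε : Fin N → Bool),
        ((List.ofFn fun j : Fin N => if ε j then x j ≫ f else (x j ≫ f)⁻¹).prod : T ⟶ G).left.base p = g} := by
  classical
  let K := AlgebraicClosure k
  let ξ : Spec (CommRingCat.of K) ⟶ Spec (CommRingCat.of k) := Spec.map (CommRingCat.ofHom (algebraMap k K))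
  let F := Over.pullback ξ
  obtain ⟨-, -, hr, hv⟩ := GenSub.smallest_props f i hf hmin
  haveI : LocallyOfFiniteType (F.obj G).hom := inferInstanceAs (LocallyOfFiniteType (pullback.snd G.hom ξ))
  haveI : LocallyOfFiniteType (F.obj X).hom := inferInstanceAs (LocallyOfFiniteType (pullback.snd X.hom ξ))
  haveI : QuasiCompact (F.obj X).hom := inferInstanceAs (QuasiCompact (pullback.snd X.hom ξ))
  haveI : GeometricallyConnected (F.obj X).hom :=
    MorphismProperty.pullback_snd (P := @GeometricallyConnected) _ _ inferInstance
  haveI : Subsingleton ↥(Spec (CommRingCat.of K)) := inferInstanceAs (Subsingleton (PrimeSpectrum K))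
  haveI : Nonempty ↥(Spec (CommRingCat.of K)) := inferInstanceAs (Nonempty (PrimeSpectrum K))
  haveI : ConnectedSpace (F.obj X).left :=
    GeometricallyConnected.connectedSpace_of_subsingleton (f := (F.obj X).hom)
  -- a rational point over the algebraic closure lying over the unit
  obtain ⟨x₀, hx₀⟩ : ∃ x₀ : 𝟙_ (Over (Spec (CommRingCat.of K))) ⟶ F.obj X, x₀ ≫ F.map f = 1 := by
    obtain ⟨x, p, hp⟩ := he
    haveI : IsSeparated G.hom := Groth.Agent.GrpField.isSeparated_grp (G := G)
    let u : 𝟙_ (Over (Spec (CommRingCat.of k))) ⟶ G := 1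
    have hu : u.left.base p = f.left.base x := by
      refine Eq.trans ?_ hp
      simp only [u, Hom.one_def, toUnit_unique (toUnit _) (𝟙 _), Category.id_comp]
    let T : Over (Spec (CommRingCat.of k)) := Over.mk (pullback.fst f.left u.left ≫ X.hom)
    let t : T ⟶ X := Over.homMk (pullback.fst f.left u.left) rfl
    have ht : t ≫ f = 1 := by
      have e : (1 : T ⟶ G) = toUnit T ≫ u := (MonObj.comp_one _).symm
      rw [e]
      refine Over.OverMorphism.ext ?_
      have h2 : pullback.snd f.left u.left = (toUnit T).left := by
        rw [Over.toUnit_left]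
        show _ = pullback.fst f.left u.left ≫ X.hom
        rw [← Over.w f, pullback.condition_assoc]
        exact (Category.comp_id _).symm.trans (congrArg (pullback.snd f.left u.left ≫ ·) (Over.w u).symm)
      show pullback.fst f.left u.left ≫ f.left = (toUnit T).left ≫ u.left
      rw [pullback.condition, h2]
    haveI : IsClosedImmersion u.left := by
      haveI : IsClosedImmersion (u.left ≫ G.hom) := by rw [Over.w]; exact inferInstanceAs (IsClosedImmersion (𝟙 _))
      exact IsClosedImmersion.of_comp u.left G.hom
    haveI : LocallyOfFiniteType (pullback.fst f.left u.left) :=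
      haveI : IsClosedImmersion (pullback.fst f.left u.left) := MorphismProperty.pullback_fst _ _ inferInstance
      inferInstance
    haveI : LocallyOfFiniteType T.hom := inferInstanceAs (LocallyOfFiniteType (pullback.fst f.left u.left ≫ X.hom))
    haveI : LocallyOfFiniteType (F.obj T).hom := inferInstanceAs (LocallyOfFiniteType (pullback.snd T.hom ξ))
    obtain ⟨q, -⟩ := Scheme.Pullback.exists_preimage_pullback (f := f.left) (g := u.left) x p hu.symm
    haveI : Surjective (pullback.fst T.hom ξ) := MorphismProperty.pullback_fst (P := @Surjective) _ _ inferInstance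
    obtain ⟨q', -⟩ := (pullback.fst T.hom ξ).surjective q
    haveI : JacobsonSpace ↥(F.obj T).left := LocallyOfFiniteType.jacobsonSpace (F.obj T).hom
    obtain ⟨c, -, hc⟩ := nonempty_inter_closedPoints (Z := (Set.univ : Set (F.obj T).left)) ⟨q', trivial⟩
      isOpen_univ.isLocallyClosed
    refine ⟨Over.homMk (pointOfClosedPoint (F.obj T).hom c hc) (pointOfClosedPoint_comp _ c hc) ≫ F.map t, ?_⟩
    rw [Category.assoc, ← F.map_comp, ht]
    refine (congrArg (_ ≫ ·) (map_one (F.homMonoidHom (X := T) (M := G)))).trans ?_
    exact MonObj.comp_one _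
  -- the subgroup over the algebraic closure
  haveI : IsClosedImmersion (F.map i).left := by
    have hw : pullback.fst Γ.hom ξ ≫ i.left = (F.map i).left ≫ pullback.fst G.hom ξ := by
      simp [F, Over.pullback_map_left]
    have hsnd : (F.map i).left ≫ pullback.snd G.hom ξ = pullback.snd Γ.hom ξ := by
      simp [F, Over.pullback_map_left]
    have outer : IsPullback (pullback.fst Γ.hom ξ) ((F.map i).left ≫ pullback.snd G.hom ξ) (i.left ≫ G.hom) ξ := by
      rw [hsnd, Over.w]
      exact IsPullback.of_hasPullback Γ.hom ξ
    have sq : IsPullback (pullback.fst Γ.hom ξ) (F.map i).left i.left (pullback.fst G.hom ξ) :=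
      IsPullback.of_bot outer hw (IsPullback.of_hasPullback G.hom ξ)
    exact MorphismProperty.of_isPullback (P := @IsClosedImmersion) sq inferInstance
  have hvK : ∀ l, ∃ v : GenSub.Word (F.obj X) l ⟶ F.obj Γ, v ≫ F.map i = GenSub.word (F.map f) l := by
    intro l
    obtain ⟨v, hv⟩ := hv l
    obtain ⟨⟨e, he'⟩, -⟩ := GenSub.exists_word_bc ξ f l
    exact ⟨e ≫ F.map v, by rw [Category.assoc, ← F.map_comp, hv]; exact he'⟩
  have hrK : Set.range (F.map i).left.base = closure (GenSub.wordSet (F.map f)) := by
    refine Set.Subset.antisymm ?_ (closure_minimal (Set.iUnion_subset fun l => ?_)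
      (F.map i).left.isClosedEmbedding.isClosed_range)
    · rintro _ ⟨z, rfl⟩
      haveI : UniversallyOpen ξ := inferInstance
      haveI : UniversallyOpen (pullback.fst G.hom ξ) := inferInstance
      have h1 : (pullback.fst G.hom ξ).base ((F.map i).left.base z) ∈ closure (GenSub.wordSet f) := by
        rw [← hr]
        refine ⟨(pullback.fst Γ.hom ξ).base z, ?_⟩
        show (pullback.fst Γ.hom ξ ≫ i.left).base z = ((F.map i).left ≫ pullback.fst G.hom ξ).base z
        simp [F, Over.pullback_map_left]
      have h2 : (F.map i).left.base z ∈ closure ((pullback.fst G.hom ξ).base ⁻¹' GenSub.wordSet f) := by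
        have e := (pullback.fst G.hom ξ).isOpenMap.preimage_closure_eq_closure_preimage
          (pullback.fst G.hom ξ).continuous (GenSub.wordSet f)
        exact e.le h1
      refine closure_mono ?_ h2
      intro y hy
      obtain ⟨l, hl⟩ := Set.mem_iUnion.1 hy
      obtain ⟨p, hp⟩ := GenSub.mem_range_bc ξ (GenSub.word f l.down) y hl
      obtain ⟨-, q, hq⟩ := GenSub.exists_word_bc ξ f l.down
      refine Set.mem_iUnion.2 ⟨l, q.left.base p, ?_⟩
      rw [← hp, ← hq]
      rfl
    · obtain ⟨v, hv⟩ := hvK l.down
      rintro _ ⟨w, rfl⟩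
      exact ⟨v.left.base w, congr($(hv).left.base w)⟩
  obtain ⟨L, hL⟩ := GenSub.exists_surjective_word (F.map f) (F.map i) hrK hvK fun x =>
    ⟨x₀, hx₀, by rw [PreconnectedSpace.connectedComponent_eq_univ]; trivial⟩
  refine ⟨L.length, Eq.trans ?_ (GenSub.lengthSet_eq f L.length).symm⟩
  refine Set.Subset.antisymm ?_ (Set.iUnion₂_subset fun l _ => ?_)
  · rintro _ ⟨y, rfl⟩
    haveI : Surjective (pullback.fst Γ.hom ξ) := MorphismProperty.pullback_fst (P := @Surjective) _ _ inferInstance
    obtain ⟨z, rfl⟩ := (pullback.fst Γ.hom ξ).surjective y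
    obtain ⟨w, hw⟩ := hL ⟨z, rfl⟩
    obtain ⟨⟨e, he'⟩, -⟩ := GenSub.exists_word_bc ξ f L
    refine Set.mem_biUnion (x := L) rfl ⟨(pullback.fst (GenSub.Word X L).hom ξ).base (e.left.base w), ?_⟩
    have h1 : (F.map i).left ≫ pullback.fst G.hom ξ = pullback.fst Γ.hom ξ ≫ i.left := by
      simp [F, Over.pullback_map_left]
    have h2 : (F.map (GenSub.word f L)).left ≫ pullback.fst G.hom ξ =
        pullback.fst (GenSub.Word X L).hom ξ ≫ (GenSub.word f L).left := by
      simp [F, Over.pullback_map_left]
    calc (GenSub.word f L).left.base ((pullback.fst (GenSub.Word X L).hom ξ).base (e.left.base w))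
        = ((F.map (GenSub.word f L)).left ≫ pullback.fst G.hom ξ).base (e.left.base w) := by rw [h2]; rfl
      _ = (pullback.fst G.hom ξ).base ((e ≫ F.map (GenSub.word f L)).left.base w) := rfl
      _ = (pullback.fst G.hom ξ).base ((F.map i).left.base z) := by rw [he', hw]
      _ = ((F.map i).left ≫ pullback.fst G.hom ξ).base z := rfl
      _ = i.left.base ((pullback.fst Γ.hom ξ).base z) := by rw [h1]; rfl
  · rw [hr]
    exact (Set.subset_iUnion (fun l : ULift (List Bool) => Set.range (GenSub.word f l.down).left.base) ⟨l⟩).trans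
      subset_closure

end Groth.Agent.S6074
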