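import Groth.Statements.S18100
import Groth.Agent.S6074
import Groth.Agent.GenSubLib.Tuples
import Groth.Agent.GenSubLib.Smallest
import Groth.Agent.GrpFieldLib.Identity
import Groth.Agent.AntiAffLib.KerSub
import Groth.Agent.AntiAffLib.Basics2
import Groth.Agent.AlbLib.MaxAV
import Groth.Agent.H0Lib.Apply
import Mathlib.AlgebraicGeometry.ZariskisMainTheorem
-- import your own Groth.Agent.* helpers here

set_option autoImplicit false
universe u
open CategoryTheory MonoidalCategory CartesianMonoidalCategory MonObj GrpObj AlgebraicGeometry CategoryTheory.Limits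
open AlgGrp

namespace Groth.Agent.S18100

section
attribute [-instance] CategoryTheory.Hom.commGroup
open AntiAffLib (IsΓIso)

set_option backward.isDefEq.respectTransparency false
set_option linter.style.haveILetI false
set_option maxHeartbeats 1000000

variable {k : Type u} [Field k]

theorem isProper_word {X : Over (Spec (CommRingCat.of k))} [IsProper X.hom] :
    ∀ l : List Bool, IsProper (Groth.Agent.GenSub.Word X l).hom
  | [] => inferInstanceAs (IsProper (𝟙 _))
  | _ :: l => by
      haveI := isProper_word (X := X) l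
      exact inferInstanceAs (IsProper (pullback.fst X.hom (Groth.Agent.GenSub.Word X l).hom ≫ X.hom))

/-- If the inverse of a morphism factors through it, every word is a positive word. -/
theorem exists_positive {G X : Over (Spec (CommRingCat.of k))} [GrpObj G] (f : X ⟶ G) (σ : X ⟶ X) (hσ : σ ≫ f = f⁻¹) :
    ∀ l : List Bool, ∃ m : Groth.Agent.GenSub.Word X l ⟶ Groth.Agent.GenSub.Word X (List.replicate l.length true),
      m ≫ Groth.Agent.GenSub.word f (List.replicate l.length true) = Groth.Agent.GenSub.word f l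
  | [] => ⟨𝟙 _, Category.id_comp _⟩
  | b :: l => by
      obtain ⟨m, hm⟩ := exists_positive f σ hσ l
      let t : X ⟶ X := if b then 𝟙 X else σ
      have ht : t ≫ f = Groth.Agent.GenSub.letter f b := by
        cases b
        · exact hσ
        · exact Category.id_comp f
      refine ⟨t ⊗ₘ m, ?_⟩
      simp only [List.length_cons, List.replicate_succ, Groth.Agent.GenSub.word]
      rw [MonObj.comp_mul, tensorHom_fst_assoc, tensorHom_snd_assoc, hm]
      exact congrArg (fun q => fst _ _ ≫ q * _) ht

/-- A closed subgroup covered by words in a morphism from a proper scheme is proper. -/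
theorem isProper_of_words {G X Γ : Over (Spec (CommRingCat.of k))} [GrpObj G] [LocallyOfFiniteType G.hom]
    [IsProper X.hom] (f : X ⟶ G) (σ : X ⟶ X) (hσ : σ ≫ f = f⁻¹) (i : Γ ⟶ G) [IsClosedImmersion i.left] (n : ℕ)
    (hN : Set.range i.left.base =
      ⋃ l ∈ {l : List Bool | l.length = n}, Set.range (Groth.Agent.GenSub.word f l).left.base) :
    IsProper Γ.hom := by
  haveI : IsSeparated G.hom := Groth.Agent.GrpField.isSeparated_grp
  haveI : IsSeparated Γ.hom := by rw [← Over.w i]; infer_instance
  haveI : LocallyOfFiniteType Γ.hom := by rw [← Over.w i]; infer_instance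
  suffices UniversallyClosed Γ.hom from {}
  let w := Groth.Agent.GenSub.word f (List.replicate n true)
  haveI : Surjective (pullback.fst i.left w.left) := by
    refine ⟨fun y => ?_⟩
    have hy : i.left y ∈ Set.range i.left.base := ⟨y, rfl⟩
    rw [hN] at hy
    obtain ⟨l, hl, z, hz⟩ := Set.mem_iUnion₂.1 hy
    obtain ⟨m, hm⟩ := exists_positive f σ hσ l
    obtain rfl : l.length = n := hl
    have hz' : w.left.base (m.left.base z) = i.left y := (congr($(hm).left.base z)).trans hz
    obtain ⟨p, hp, -⟩ := Scheme.Pullback.exists_preimage_pullback (f := i.left) (g := w.left) y _ hz'.symm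
    exact ⟨p, hp⟩
  haveI := isProper_word (X := X) (List.replicate n true)
  haveI : UniversallyClosed (pullback.fst i.left w.left ≫ Γ.hom) := by
    rw [← Over.w i, pullback.condition_assoc, Over.w]
    infer_instance
  exact UniversallyClosed.of_comp_surjective (pullback.fst i.left w.left) Γ.hom

theorem main {G : Over (Spec (CommRingCat.of k))} [GrpObj G] [LocallyOfFiniteType G.hom] [QuasiCompact G.hom]
    (hmin : ∀ (H : Over (Spec (CommRingCat.of k))) [GrpObj H] (h : H ⟶ G) [IsMonHom h] [IsClosedImmersion h.left],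
      ¬ IsIso h → IsΓIso (toUnit H) → Red.IsTrivialGrp H)
    (hp : ¬ IsProper G.hom) (Z : Over (Spec (CommRingCat.of k))) (z : Z ⟶ G) [IsClosedImmersion z.left]
    [IsProper Z.hom] [GeometricallyIntegral Z.hom] : topologicalKrullDim ↥Z.left = 0 := by
  haveI : IsProper (Z ⊗ Z).hom := inferInstanceAs (IsProper (pullback.fst Z.hom Z.hom ≫ Z.hom))
  haveI : GeometricallyIntegral (Z ⊗ Z).hom := CubeConsLib.geometricallyIntegral_prod Z.hom Z.hom
  haveI : ConnectedSpace (Z ⊗ Z).left := AlbLib.connectedSpace_gi _
  haveI : AlgebraicGeometry.IsReduced (Z ⊗ Z).left := Groth.Agent.GenSub.isReduced_of_gr (Z ⊗ Z).hom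
  let f : Z ⊗ Z ⟶ G := (fst Z Z ≫ z) * (snd Z Z ≫ z)⁻¹
  have hd : lift (𝟙 Z) (𝟙 Z) ≫ f = toUnit Z ≫ η[G] := by
    simp only [f, MonObj.comp_mul, GrpObj.comp_inv, lift_fst_assoc, lift_snd_assoc, Category.id_comp, mul_inv_cancel]
    rfl
  haveI : Surjective Z.hom := inferInstance
  obtain ⟨a, -⟩ := Z.hom.surjective (IsLocalRing.closedPoint k)
  have ha : f.left.base ((lift (𝟙 Z) (𝟙 Z)).left.base a) = (η[G]).left.base ((toUnit Z).left.base a) :=
    congr($(hd).left.base a)
  obtain ⟨Γ, _, i, hi, hci, hred, hgr, hr, -, f', hf'⟩ := Groth.Agent.GenSub.exists_generated f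
  haveI := hi; haveI := hci; haveI := hred; haveI := hgr
  have hle : ∀ (Γ' : Over (Spec (CommRingCat.of k))) (_ : GrpObj Γ') (i' : Γ' ⟶ G), IsMonHom i' →
      IsClosedImmersion i'.left → (∃ f'' : Z ⊗ Z ⟶ Γ', f'' ≫ i' = f) → ∃ j : Γ ⟶ Γ', j ≫ i' = i := by
    rintro Γ' _ i' hi' hci' ⟨f'', hf''⟩
    haveI := hi'; haveI := hci'
    exact Groth.Agent.GenSub.le_of_factors f i hr i' f'' hf''
  have hsw : (β_ Z Z).hom ≫ f = f⁻¹ := by
    simp only [f, MonObj.comp_mul, GrpObj.comp_inv, braiding_hom_fst_assoc, braiding_hom_snd_assoc, _root_.mul_inv_rev, _root_.inv_inv]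
  haveI : GeometricallyConnected (Z ⊗ Z).hom := H0Lib.geometricallyConnected_of_integral _
  obtain ⟨n, hn⟩ := Groth.Agent.S6074.result k G (Z ⊗ Z) f ⟨_, _, ha.symm⟩ Γ i ⟨f', hf'⟩ hle
  haveI : IsProper Γ.hom := isProper_of_words f (β_ Z Z).hom hsw i n (hn.trans (Groth.Agent.GenSub.lengthSet_eq f n))
  obtain ⟨G₀, _, e, he, hec, hef, her, hei, -⟩ := Groth.Agent.GrpField.exists_identity_component (G := Γ)
  haveI := he; haveI := hec; haveI := hef; haveI := hei
  rw [← Groth.Agent.GrpField.connectedComponent_unit] at her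
  haveI : IsLocallyNoetherian Γ.left := LocallyOfFiniteType.isLocallyNoetherian Γ.hom
  haveI : IsOpenImmersion e.left := IsOpenImmersion.of_flat_of_mono e.left
  haveI : AlgebraicGeometry.IsReduced G₀.left := isReduced_of_isOpenImmersion e.left
  haveI : IsProper G₀.hom := by rw [← Over.w e]; infer_instance
  haveI : IrreducibleSpace G₀.left := GeometricallyIrreducible.irreducibleSpace_of_subsingleton G₀.hom
  haveI : ConnectedSpace G₀.left := IrreducibleSpace.connectedSpace _
  haveI : IsΓIso (toUnit G₀) := AntiAffLib.antiAff_of_universallyClosed G₀ η[G₀]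
  haveI : IsClosedImmersion (e ≫ i).left := by rw [Over.comp_left]; infer_instance
  have htriv : Red.IsTrivialGrp G₀ := by
    refine hmin G₀ (e ≫ i) (fun h => hp ?_) inferInstance
    haveI := h
    haveI : IsIso (e ≫ i).left := (Over.forget _).map_isIso (e ≫ i)
    rw [← (IsIso.inv_comp_eq (e ≫ i).left).2 (Over.w (e ≫ i)).symm]
    infer_instance
  haveI : IsIso G₀.hom := htriv
  haveI : Mono i := Over.mono_of_mono_left i
  obtain ⟨g, hg⟩ : ∃ g : Z ⊗ Z ⟶ G₀, g ≫ e = f' := by
    refine Groth.Agent.DensePts.factors_of_range f' e ?_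
    rw [her]
    refine (isPreconnected_range f'.left.continuous).subset_connectedComponent
      ⟨(lift (𝟙 Z) (𝟙 Z)).left.base a, ?_⟩
    have h2 : lift (𝟙 Z) (𝟙 Z) ≫ f' = toUnit Z ≫ η[Γ] := by
      rw [← cancel_mono i, Category.assoc, hf', hd, Category.assoc, IsMonHom.one_hom]
    exact (congr($(h2).left.base a)).trans (congrArg (η[Γ]).left.base (Subsingleton.elim (α := PrimeSpectrum k) _ _))
  have hf1 : f = 1 := by
    rw [← hf', ← hg, show g = toUnit _ ≫ η[G₀] from Over.OverMorphism.ext
      ((cancel_mono G₀.hom).1 ((Over.w g).trans (Over.w _).symm)), Category.assoc, Category.assoc,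
      IsMonHom.one_hom_assoc, IsMonHom.one_hom]
    rfl
  haveI : Mono z := Over.mono_of_mono_left z
  have hfs : fst Z Z = snd Z Z := (cancel_mono z).1 (mul_inv_eq_one.1 hf1)
  haveI : Mono Z.hom := ⟨fun {T} a b hab => by
    let a' : Over.mk (a ≫ Z.hom) ⟶ Z := Over.homMk a rfl
    let b' : Over.mk (a ≫ Z.hom) ⟶ Z := Over.homMk b hab.symm
    have h : a' = b' := by simpa using congrArg (lift a' b' ≫ ·) hfs
    exact congrArg (·.left) h⟩
  haveI : IsClosedImmersion Z.hom := (IsClosedImmersion.iff_isProper_and_mono _).2 ⟨inferInstance, inferInstance⟩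
  haveI : Subsingleton Z.left := Z.hom.isClosedEmbedding.injective.subsingleton
  haveI : Nonempty Z.left := ⟨a⟩
  haveI : DiscreteTopology Z.left := inferInstance
  refine le_antisymm (topologicalKrullDim_zero_of_discreteTopology _) ?_
  haveI : Nonempty (TopologicalSpace.IrreducibleCloseds ↥Z.left) :=
    ⟨⟨{a}, isIrreducible_singleton, isClosed_discrete _⟩⟩
  exact Order.krullDim_nonneg

end

/-- Let k be a field and G a non-trivial anti-affine k-group scheme of finite type with no anti-affine
closed subgroup scheme other than G and the trivial one. Then G is either an abelian variety (proper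
over k), or every complete subvariety of G has dimension zero: any closed subscheme of G that is
geometrically integral and proper over k has dimension 0. -/
theorem result (k : Type u) [Field k]
    (G : Over (Spec (CommRingCat.of k))) [GrpObj G] [LocallyOfFiniteType G.hom] [QuasiCompact G.hom] (hG : ¬ Red.IsTrivialGrp G)
    (hGa : Function.Bijective ((Scheme.ΓSpecIso (CommRingCat.of k)).inv ≫ G.hom.appTop).hom)
    (hmin : ∀ (H : Over (Spec (CommRingCat.of k))) [GrpObj H] (h : H ⟶ G) [IsMonHom h] [IsClosedImmersion h.left], ¬ IsIso h → Function.Bijective ((Scheme.ΓSpecIso (CommRingCat.of k)).inv ≫ H.hom.appTop).hom → Red.IsTrivialGrp H) :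
    IsProper G.hom ∨
      ∀ (Z : Over (Spec (CommRingCat.of k))) (z : Z ⟶ G) [IsClosedImmersion z.left] [IsProper Z.hom] [GeometricallyIntegral Z.hom],
        topologicalKrullDim ↥Z.left = 0 := by
  refine or_iff_not_imp_left.2 fun hp Z z _ _ _ => main (fun H _ h _ _ hne hH => ?_) hp Z z
  exact hmin H h hne ((AntiAffLib.bijective_iff H).2 hH)

end Groth.Agent.S18100
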