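import Groth.Statements.S18101
import Groth.Agent.AntiAffLib.FixActs
-- import your own Groth.Agent.* helpers here

set_option autoImplicit false
set_option backward.isDefEq.respectTransparency false
set_option linter.style.haveILetI false
universe u
open CategoryTheory MonoidalCategory CartesianMonoidalCategory MonObj GrpObj AlgebraicGeometry CategoryTheory.Limits
open AlgGrp

namespace Groth.Agent.S18101

/-- Let k be a field and G a k-group scheme of finite type. Then G is anti-affine, i.e. O(G) = k, if and
only if every action of G on a variety having a fixed point is trivial; the fixed point is taken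
k-rational here (the published condition allows any closed fixed point, which gives a formally
stronger necessary condition; the equivalence with a rational fixed point is what the published
argument through linear representations yields). -/
theorem result (k : Type u) [Field k]
    (G : Over (Spec (CommRingCat.of k))) [GrpObj G] [LocallyOfFiniteType G.hom] [QuasiCompact G.hom] :
    Function.Bijective ((Scheme.ΓSpecIso (CommRingCat.of k)).inv ≫ G.hom.appTop).hom ↔
      ∀ (X : Over (Spec (CommRingCat.of k))) [LocallyOfFiniteType X.hom] [QuasiCompact X.hom] [IsSeparated X.hom] [GeometricallyIntegral X.hom]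
        (a : AlgGrp.Action G X) (x : 𝟙_ (Over (Spec (CommRingCat.of k))) ⟶ X), a.IsFixedPt x → a.act = snd G X := by
  constructor
  · intro hG X _ _ _ _ a x hx
    haveI := (AntiAffLib.bijective_iff G).1 hG
    haveI : Flat X.hom := Groth.Agent.GrpField.flat_field _
    haveI : IsLocallyNoetherian X.left := LocallyOfFiniteType.isLocallyNoetherian X.hom
    haveI : IsIntegral X.left := GeometricallyIntegral.isIntegral_of_subsingleton X.hom
    exact AntiAffLib.act_eq_snd_of_fixed a x hx
  · intro h
    refine (AntiAffLib.bijective_iff G).2 (AntiAffLib.antiAff_of_acts fun n b x hx => ?_)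
    haveI := AntiAffLib.geometricallyIntegral_poly (k := k) n
    haveI : LocallyOfFiniteType (CoactBr.sp k (MvPolynomial (Fin n) k)).hom := by
      show LocallyOfFiniteType (Spec.map (CommRingCat.ofHom (algebraMap k (MvPolynomial (Fin n) k))))
      rw [HasRingHomProperty.Spec_iff (P := @LocallyOfFiniteType)]
      exact RingHom.finiteType_algebraMap.mpr inferInstance
    haveI : IsAffine (CoactBr.sp k (MvPolynomial (Fin n) k)).left := inferInstanceAs (IsAffine (Spec (CommRingCat.of (MvPolynomial (Fin n) k))))
    haveI := AntiAffLib.qc_affine (CoactBr.sp k (MvPolynomial (Fin n) k))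
    haveI : IsSeparated (CoactBr.sp k (MvPolynomial (Fin n) k)).hom := inferInstanceAs (IsSeparated (Spec.map _))
    exact h _ b x hx
end Groth.Agent.S18101
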