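import Groth.Statements.S18102
import Groth.Agent.IsogWordLib.IsogFacts

set_option autoImplicit false
set_option backward.isDefEq.respectTransparency false
set_option linter.style.haveILetI false
set_option maxHeartbeats 1000000
universe u
open CategoryTheory MonoidalCategory CartesianMonoidalCategory MonObj GrpObj AlgebraicGeometry CategoryTheory.Limits
open AlgGrp

namespace Groth.Agent.S18102

attribute [-instance] CategoryTheory.Hom.commGroup

/-- Let k be a field with algebraic closure k̄ and f : G → H an isogeny of algebraic k-groups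
(surjective homomorphism with finite kernel, i.e. surjective and finite). Then for every d, G_{k̄}
contains a smooth connected affine solvable closed subgroup of dimension at least d if and only if
H_{k̄} does; that is, d_s(G) = d_s(H). -/
theorem result (k : Type u) [Field k]
    (G H : Over (Spec (CommRingCat.of k))) [GrpObj G] [LocallyOfFiniteType G.hom] [QuasiCompact G.hom]
    [GrpObj H] [LocallyOfFiniteType H.hom] [QuasiCompact H.hom]
    (f : G ⟶ H) [IsMonHom f] [Surjective f.left] [IsFinite f.left] (d : ℕ) :
    (∃ (U : Over (Spec (CommRingCat.of (AlgebraicClosure k)))) (_ : GrpObj U) (i : U ⟶ Red.bc (Spec.map (CommRingCat.ofHom (algebraMap k (AlgebraicClosure k)))) G), IsMonHom i ∧ IsClosedImmersion i.left ∧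
        Smooth U.hom ∧ IsAffine U.left ∧ ConnectedSpace ↥U.left ∧ Red.IsSolvableGrp U ∧ (d : WithBot ℕ∞) ≤ topologicalKrullDim ↥U.left) ↔
    (∃ (U : Over (Spec (CommRingCat.of (AlgebraicClosure k)))) (_ : GrpObj U) (i : U ⟶ Red.bc (Spec.map (CommRingCat.ofHom (algebraMap k (AlgebraicClosure k)))) H), IsMonHom i ∧ IsClosedImmersion i.left ∧
        Smooth U.hom ∧ IsAffine U.left ∧ ConnectedSpace ↥U.left ∧ Red.IsSolvableGrp U ∧ (d : WithBot ℕ∞) ≤ topologicalKrullDim ↥U.left) := by
  set ξ := Spec.map (CommRingCat.ofHom (algebraMap k (AlgebraicClosure k)))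
  haveI := Groth.Agent.DiagRep.isMonHom_bc_map ξ f
  haveI : Surjective ((Over.pullback ξ).map f).left :=
    MorphismProperty.baseChange_map (P := @Surjective) ξ f inferInstance
  haveI : IsFinite ((Over.pullback ξ).map f).left :=
    MorphismProperty.baseChange_map (P := @IsFinite) ξ f inferInstance
  haveI : LocallyOfFiniteType (Red.bc ξ G).hom := inferInstanceAs (LocallyOfFiniteType (pullback.snd G.hom ξ))
  haveI : QuasiCompact (Red.bc ξ G).hom := inferInstanceAs (QuasiCompact (pullback.snd G.hom ξ))
  haveI : LocallyOfFiniteType (Red.bc ξ H).hom := inferInstanceAs (LocallyOfFiniteType (pullback.snd H.hom ξ))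
  haveI : QuasiCompact (Red.bc ξ H).hom := inferInstanceAs (QuasiCompact (pullback.snd H.hom ξ))
  refine ⟨?_, ?_⟩
  · rintro ⟨U, _, i, him, hic, hsm, ha, hcon, hP, hd⟩
    haveI := him; haveI := hic; haveI := hsm; haveI := hcon; haveI := ha
    haveI : QuasiCompact U.hom := by rw [← Over.w i]; infer_instance
    obtain ⟨V, _, j, p, hjm, hjc, hjs, hjn, hp⟩ := IsogWordLib.exists_image ((Over.pullback ξ).map f) i
    haveI := hjc; haveI := hjs; haveI := hjn
    haveI : QuasiCompact V.hom := by rw [← Over.w j]; infer_instance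
    haveI hV : IsAffine V.left := hp.isAffine_iff.1 ha
    exact ⟨V, inferInstance, j, hjm, hjc, hjs, hV, hjn, hp.isSolvable_iff.1 hP, hd.trans hp.krullDim.le⟩
  · rintro ⟨U, _, i, him, hic, hsm, ha, hcon, hP, hd⟩
    haveI := him; haveI := hic; haveI := hsm; haveI := hcon; haveI := ha
    haveI : QuasiCompact U.hom := by rw [← Over.w i]; infer_instance
    obtain ⟨V, _, j, p, hjm, hjc, hjs, hjn, hp⟩ := IsogWordLib.exists_preimage ((Over.pullback ξ).map f) i
    haveI := hjc; haveI := hjs; haveI := hjn
    haveI : QuasiCompact V.hom := by rw [← Over.w j]; infer_instance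
    haveI hV : IsAffine V.left := hp.isAffine_iff.2 ha
    exact ⟨V, inferInstance, j, hjm, hjc, hjs, hV, hjn, hp.isSolvable_iff.2 hP, hd.trans hp.krullDim.ge⟩

end Groth.Agent.S18102
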