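import Groth.Statements.S18103
import Groth.Agent.SubSpecLib.DerivedSub
-- import your own Groth.Agent.* helpers here

set_option autoImplicit false
set_option backward.isDefEq.respectTransparency false
set_option maxHeartbeats 1000000
universe u
open CategoryTheory MonoidalCategory CartesianMonoidalCategory MonObj GrpObj AlgebraicGeometry CategoryTheory.Limits
open AlgGrp

namespace Groth.Agent.S18103

/-- Let S be a scheme and G a smooth S-group scheme of finite presentation; for s ∈ S let d_0(s) be the
dimension of the derived group of the identity component of the geometric fibre of G at s, i.e. the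
least dimension of a closed subgroup scheme N of the identity component C (the connected open and
closed subgroup scheme) which is normal in C and contains all commutators of points of C. Then d_0
does not increase under specialization: for every natural number n, if s specializes to s' (that is,
s' lies in the closure of s) and d_0(s) ≤ n, then d_0(s') ≤ n. (The published statement asserts that
d_0 is lower semicontinuous on S, i.e. that the set of points s with d_0(s) ≤ n is closed; the
published argument reduces to the spectrum of an integral local ring and establishes that this set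
is stable under specialization, which is what is stated here. Closedness would in addition need the
set to be locally constructible, which the argument does not address.) -/
theorem result (S : Scheme.{u}) (G : Over S) [GrpObj G]
    [Smooth G.hom] [QuasiCompact G.hom] [QuasiSeparated G.hom] (n : ℕ) :
    StableUnderSpecialization {s : ↥S | ∃ (C : Over (Spec (CommRingCat.of (AlgebraicClosure (S.residueField s))))) (_ : GrpObj C) (c : C ⟶ Red.geomFibre s G)
      (N : Over (Spec (CommRingCat.of (AlgebraicClosure (S.residueField s))))) (_ : GrpObj N) (i : N ⟶ C),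
      IsMonHom c ∧ IsOpenImmersion c.left ∧ IsClosedImmersion c.left ∧ ConnectedSpace ↥C.left ∧
      IsMonHom i ∧ IsClosedImmersion i.left ∧ AlgGrp.IsNormalHom i ∧
      (∀ (T : Over (Spec (CommRingCat.of (AlgebraicClosure (S.residueField s))))) (g h : T ⟶ C), ∃ m : T ⟶ N, g * h * g⁻¹ * h⁻¹ = m ≫ i) ∧
      topologicalKrullDim ↥N.left ≤ (n : WithBot ℕ∞)} := by
  rintro s s' hss ⟨C, hC, c, N, hN, i, hcm, hco, hcc, hCc, hi, hic, hn, hc, hd⟩
  obtain ⟨V, φ, q, hφ, hg, hp⟩ := SubSpecLib.exists_valuation_of_specializes hss
  let G' : Over (Spec (CommRingCat.of V)) := Red.bc q G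
  haveI : Smooth G'.hom := MorphismProperty.pullback_snd (P := @Smooth) _ _ ‹_›
  haveI : QuasiCompact G'.hom := MorphismProperty.pullback_snd (P := @QuasiCompact) _ _ ‹_›
  let e := ActBC.bcCompIso _ q G hg
  let e' := ActBC.bcCompIso _ q G hp
  haveI hei : IsMonHom e.symm.hom := inferInstanceAs (IsMonHom e.inv)
  haveI : IsIso e.symm.hom.left := inferInstanceAs (IsIso ((Over.forget _).map e.inv))
  haveI : IsIso e'.hom.left := inferInstanceAs (IsIso ((Over.forget _).map e'.hom))
  haveI := hcm
  haveI := hco
  haveI := hcc
  haveI := hCc
  obtain ⟨-, G0, hG0, i0, hi0, hi0o, hi0r, hG0s, hG0q⟩ := Groth.Agent.S4098.result _ G'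
    ⟨⊤, inferInstance, fun _ => trivial⟩
  haveI := hi0
  haveI := hi0o
  haveI := hG0s
  haveI := hG0q
  haveI : IsOpenImmersion (c ≫ e.symm.hom).left := by rw [Over.comp_left]; infer_instance
  haveI : IsClosedImmersion (c ≫ e.symm.hom).left := by rw [Over.comp_left]; infer_instance
  haveI : LocallyOfFiniteType (Red.bc (SubSpecLib.gp V (AlgebraicClosure (S.residueField s))) G').hom :=
    MorphismProperty.pullback_snd (P := @LocallyOfFiniteType) _ _ inferInstance
  obtain ⟨ε, hε⟩ := SubSpecLib.Derived.exists_neutral_iso (SubSpecLib.gp V (AlgebraicClosure (S.residueField s))) G' i0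
    hi0r C (c ≫ e.symm.hom)
  haveI := hε
  haveI : IsIso ε.hom.left := inferInstanceAs (IsIso ((Over.forget _).map ε.hom))
  haveI : IsClosedImmersion (i ≫ ε.hom).left := by rw [Over.comp_left]; infer_instance
  obtain ⟨B, hB, r, hr, hrc, hrn, hrcm, hdim⟩ := SubSpecLib.Derived.exists_derived_special hφ G0 N (i ≫ ε.hom)
    (SubSpecLib.isNormalHom_iso i ε hn) (SubSpecLib.Derived.hasComm_iso i ε hc)
  let p' := Spec.map (CommRingCat.ofHom φ)
  haveI : LocallyOfFiniteType (Red.bc p' G').hom :=
    MorphismProperty.pullback_snd (P := @LocallyOfFiniteType) _ _ inferInstance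
  obtain ⟨ho, hcl, hcon, -⟩ := SubSpecLib.Derived.neutral_bc p' G' i0 hi0r
  haveI := ho
  haveI := hcl
  let c' := (Over.pullback p').map i0 ≫ e'.hom
  haveI : IsOpenImmersion c'.left := inferInstanceAs (IsOpenImmersion (((Over.pullback p').map i0).left ≫ e'.hom.left))
  haveI : IsClosedImmersion c'.left :=
    inferInstanceAs (IsClosedImmersion (((Over.pullback p').map i0).left ≫ e'.hom.left))
  exact ⟨Red.bc p' G0, inferInstance, c', B, hB, r,
    inferInstanceAs (IsMonHom ((Over.pullback p').map i0 ≫ e'.hom)), inferInstance, inferInstance, hcon, hr, hrc, hrn, hrcm,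
    hdim.trans hd⟩

end Groth.Agent.S18103
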