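import Groth.Statements.S18110
import Groth.Agent.CartierOpLib.Global

set_option autoImplicit false
set_option linter.style.haveILetI false

set_option autoImplicit false
universe u
open DeRham

namespace Groth.Agent.S18110

open exteriorPower in
/-- Let p be a prime, A a perfect ring of characteristic p (its Frobenius is bijective), B a smooth
A-algebra, and d a de Rham differential on the exterior powers of Ω_{B/A} (a degreewise family
obeying the de Rham rule with d ∘ d = 0). Then there is exactly one additive map C from the closed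
1-forms (the kernel of d in degree 1) to the 1-forms such that C(f^p ω) = f C(ω) for f in B and ω
closed, C(ω) = 0 if and only if ω is exact, and C(f^{p-1} df) = df for f in B. (The source states
this for all degrees r at once on a smooth scheme over a perfect base, with two further conditions,
C(1) = 1 in degree 0 and multiplicativity for wedge products of closed forms, which involve other
degrees; this row is the degree-one, affine case, where those two conditions are empty.) -/
theorem result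
    (p : ℕ) [Fact p.Prime] (A B : Type u) [CommRing A] [CharP A p] [PerfectRing A p]
    [CommRing B] [Algebra A B] [Algebra.Smooth A B]
    (d : ∀ q : ℕ, ↥(⋀[B]^q (Ω[B⁄A])) →ₗ[A] ↥(⋀[B]^(q + 1) (Ω[B⁄A])))
    (hd : DeRham.IsDiff (KaehlerDifferential.D A B) d) :
    ∃! C : ↥(DeRham.cocycles d 1) →+ ↥(⋀[B]^1 (Ω[B⁄A])),
      (∀ (f : B) (ω ω' : ↥(DeRham.cocycles d 1)),
          (ω' : ↥(⋀[B]^1 (Ω[B⁄A]))) = f ^ p • (ω : ↥(⋀[B]^1 (Ω[B⁄A]))) → C ω' = f • C ω) ∧
      (∀ ω : ↥(DeRham.cocycles d 1), C ω = 0 ↔ (ω : ↥(⋀[B]^1 (Ω[B⁄A]))) ∈ DeRham.coboundaries d 1) ∧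
      (∀ (f : B) (ω : ↥(DeRham.cocycles d 1)),
          (ω : ↥(⋀[B]^1 (Ω[B⁄A]))) = f ^ (p - 1) • d 0 ((exteriorPower.zeroEquiv B (Ω[B⁄A])).symm f) →
            C ω = d 0 ((exteriorPower.zeroEquiv B (Ω[B⁄A])).symm f)) := by
  rcases subsingleton_or_nontrivial B with hB | hB
  · haveI hs : Subsingleton ↥(⋀[B]^1 (Ω[B⁄A])) := Module.subsingleton B _
    refine ⟨0, ⟨fun _ _ _ _ => Subsingleton.elim _ _, fun ω => ⟨fun _ => ?_, fun _ => Subsingleton.elim _ _⟩,
      fun _ _ _ => Subsingleton.elim _ _⟩, fun C _ => AddMonoidHom.ext fun _ => Subsingleton.elim _ _⟩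
    rw [Subsingleton.elim (ω : ↥(⋀[B]^1 (Ω[B⁄A]))) 0]; exact zero_mem _
  haveI : CharP B p := FrobEtaleLib.charP_of_algebra p A B
  let e := exteriorPower.oneEquiv B (Ω[B⁄A])
  have hgen1 : ∀ g b : B, e.symm (g • KaehlerDifferential.D A B b) =
      DeRham.gen (KaehlerDifferential.D A B) 1 g ![b] := fun g b => by
    rw [LinearEquiv.symm_apply_eq, DeRham.gen, map_smul, exteriorPower.oneEquiv_ιMulti]
    simp
  let d1 : Ω[B⁄A] →+ ↥(⋀[B]^2 (Ω[B⁄A])) := (d 1).toAddMonoidHom.comp e.symm.toLinearMap.toAddMonoidHom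
  have hd1 : ∀ g b, d1 (g • KaehlerDifferential.D A B b) =
      exteriorPower.ιMulti B 2 ![KaehlerDifferential.D A B g, KaehlerDifferential.D A B b] := fun g b => by
    show d 1 (e.symm (g • KaehlerDifferential.D A B b)) = _
    rw [hgen1, hd.1]
    congr 1
    funext i
    fin_cases i <;> rfl
  have hd0 : ∀ b : B, e (d 0 ((exteriorPower.zeroEquiv B (Ω[B⁄A])).symm b)) = KaehlerDifferential.D A B b := by
    intro b
    have : (exteriorPower.zeroEquiv B (Ω[B⁄A])).symm b = DeRham.gen (KaehlerDifferential.D A B) 0 b ![] := by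
      rw [LinearEquiv.symm_apply_eq, DeRham.gen, map_smul, exteriorPower.zeroEquiv_ιMulti, smul_eq_mul, mul_one]
    rw [this, hd.1, exteriorPower.oneEquiv_ιMulti]
    rfl
  have hexact : ∀ x, x ∈ DeRham.coboundaries d 1 ↔ CartierOpLib.mk p A B (e x) = 0 := fun x => by
    rw [CartierOpLib.mk_eq_zero]
    constructor
    · rintro ⟨z, rfl⟩
      obtain ⟨b, rfl⟩ := (exteriorPower.zeroEquiv B (Ω[B⁄A])).symm.surjective z
      exact ⟨b, (hd0 b).symm⟩
    · rintro ⟨b, hb⟩
      exact ⟨(exteriorPower.zeroEquiv B (Ω[B⁄A])).symm b, e.injective ((hd0 b).trans hb)⟩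
  have hclosed : ∀ ω : ↥(DeRham.cocycles d 1), d1 (e ω) = 0 := fun ω => by
    show d 1 (e.symm (e ω)) = 0
    rw [LinearEquiv.symm_apply_apply]
    exact LinearMap.mem_ker.1 ω.2
  choose pre hpre using fun ω : ↥(DeRham.cocycles d 1) =>
    CartierOpLib.exists_preimage_smooth p A B d1 hd1 (e ω) (hclosed ω)
  have hinj := CartierOpLib.γ_injective_smooth p A B
  let C : ↥(DeRham.cocycles d 1) →+ ↥(⋀[B]^1 (Ω[B⁄A])) :=
    AddMonoidHom.mk' (fun ω => e.symm (pre ω)) fun a b => by
      rw [← map_add]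
      congr 1
      refine hinj ?_
      rw [map_add, hpre, hpre, hpre, ← map_add, ← map_add]
      rfl
  have hC : ∀ ω, CartierOpLib.γ p A B (e (C ω)) = CartierOpLib.mk p A B (e ω) := fun ω => by
    show CartierOpLib.γ p A B (e (e.symm (pre ω))) = _
    rw [LinearEquiv.apply_symm_apply, hpre]
  have hrepr : ∀ φ, ∃ η : ↥(DeRham.cocycles d 1), CartierOpLib.mk p A B (e η) = CartierOpLib.γ p A B φ ∧
      (∀ C' : ↥(DeRham.cocycles d 1) →+ ↥(⋀[B]^1 (Ω[B⁄A])),
        (∀ (f : B) (ω ω' : ↥(DeRham.cocycles d 1)),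
          (ω' : ↥(⋀[B]^1 (Ω[B⁄A]))) = f ^ p • (ω : ↥(⋀[B]^1 (Ω[B⁄A]))) → C' ω' = f • C' ω) →
        (∀ (f : B) (ω : ↥(DeRham.cocycles d 1)),
          (ω : ↥(⋀[B]^1 (Ω[B⁄A]))) = f ^ (p - 1) • d 0 ((exteriorPower.zeroEquiv B (Ω[B⁄A])).symm f) →
            C' ω = d 0 ((exteriorPower.zeroEquiv B (Ω[B⁄A])).symm f)) →
        C' η = e.symm φ) := by
    intro φ
    induction φ using CartierOpLib.induction with
    | h0 => exact ⟨0, by simp, fun C' _ _ => by simp⟩
    | hadd x y hx hy =>
      obtain ⟨a, ha, ha'⟩ := hx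
      obtain ⟨b, hb, hb'⟩ := hy
      exact ⟨a + b, by simp [← ha, ← hb, map_add], fun C' h1 h2 => by rw [map_add, map_add, ha' C' h1 h2, hb' C' h1 h2]⟩
    | hgen g b =>
      have hmem : ∀ c : B, e.symm (c ^ p • (b ^ (p - 1) • KaehlerDifferential.D A B b)) ∈ DeRham.cocycles d 1 := by
        intro c
        rw [smul_smul]
        refine LinearMap.mem_ker.2 ?_
        show d1 ((c ^ p * b ^ (p - 1)) • KaehlerDifferential.D A B b) = 0
        rw [hd1]
        have h1 : KaehlerDifferential.D A B (c ^ p * b ^ (p - 1)) =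
            (c ^ p * (((p - 1 : ℕ) : B) * b ^ (p - 1 - 1))) • KaehlerDifferential.D A B b := by
          rw [Derivation.leibniz, Derivation.leibniz_pow, Derivation.leibniz_pow,
            ← Nat.cast_smul_eq_nsmul B p, CharP.cast_eq_zero, zero_smul, smul_zero, add_zero,
            ← Nat.cast_smul_eq_nsmul B, smul_smul, smul_smul, mul_assoc]
        rw [h1]
        generalize c ^ p * (((p - 1 : ℕ) : B) * b ^ (p - 1 - 1)) = t
        have h2 := (exteriorPower.ιMulti B 2 (M := Ω[B⁄A])).map_update_smul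
          ![KaehlerDifferential.D A B b, KaehlerDifferential.D A B b] 0 t (KaehlerDifferential.D A B b)
        have h3 : Function.update ![KaehlerDifferential.D A B b, KaehlerDifferential.D A B b] 0
            (t • KaehlerDifferential.D A B b) =
            ![t • KaehlerDifferential.D A B b, KaehlerDifferential.D A B b] := by
          funext i; fin_cases i <;> rfl
        rw [h3, Function.update_eq_self_iff.2 (by rfl),
          (exteriorPower.ιMulti B 2 (M := Ω[B⁄A])).map_eq_zero_of_eq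
            ![KaehlerDifferential.D A B b, KaehlerDifferential.D A B b] (i := 0) (j := 1) rfl (by decide),
          smul_zero] at h2
        exact h2
      refine ⟨⟨_, hmem g⟩, ?_, fun C' h1 h2 => ?_⟩
      · rw [CartierOpLib.γ_smul_D]; simp
      · have hb1 : C' ⟨_, hmem 1⟩ = d 0 ((exteriorPower.zeroEquiv B (Ω[B⁄A])).symm b) :=
          h2 b _ (e.injective (by simp [hd0, e]))
        rw [h1 g ⟨_, hmem 1⟩ ⟨_, hmem g⟩ (e.injective (by simp)), hb1]
        refine e.injective ?_
        rw [map_smul, hd0, LinearEquiv.apply_symm_apply]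
  refine ⟨C, ⟨fun f ω ω' h => ?_, fun ω => ?_, fun f ω h => ?_⟩, ?_⟩
  · refine e.injective (hinj ?_)
    rw [hC, h, map_smul, CartierOpLib.mk_pow_smul, map_smul, map_smul, hC]
  · rw [hexact, ← hC]
    exact ⟨fun h => by rw [h, map_zero, map_zero], fun h => e.injective (by
      rw [map_zero]; exact hinj (by rw [h, map_zero]))⟩
  · refine e.injective (hinj ?_)
    rw [hC, h, map_smul, hd0, ← CartierOpLib.δ_apply, CartierOpLib.γ, Derivation.liftKaehlerDifferential_comp_D]
  · rintro C' ⟨h1, h2, h3⟩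
    refine AddMonoidHom.ext fun ω => ?_
    obtain ⟨η, hη, hη'⟩ := hrepr (e (C ω))
    have h0 : C' (ω - η) = 0 := (h2 _).2 ((hexact _).2 (by
      simp only [AddSubgroupClass.coe_sub, Submodule.coe_sub, map_sub]
      rw [hη, hC, sub_self]))
    rw [C'.map_sub, sub_eq_zero] at h0
    rw [h0, hη' C' h1 h3, LinearEquiv.symm_apply_apply]

end Groth.Agent.S18110
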