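import Groth.Statements.S18121
import Mathlib.RingTheory.AdjoinRoot
import Mathlib.Algebra.MvPolynomial.Equiv
import Mathlib.Tactic.LinearCombination

set_option autoImplicit false
universe u
open Pinch

namespace Groth.Agent.S18121

open Polynomial in
theorem ker_aux (B : Type u) [CommRing B] (b : B) :
    let R := AdjoinRoot (X ^ 2 - C b)
    (∀ r : R, ∃ c d : B, r = algebraMap B R c + algebraMap B R d * AdjoinRoot.root (X ^ 2 - C b)) ∧
    (∀ c d : B, algebraMap B R c + algebraMap B R d * AdjoinRoot.root (X ^ 2 - C b) = 0 → c = 0 ∧ d = 0) := by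
  rcases subsingleton_or_nontrivial B with hB | hB
  · haveI : Subsingleton (AdjoinRoot (X ^ 2 - C b)) := (algebraMap B (AdjoinRoot (X ^ 2 - C b))).codomain_trivial
    exact ⟨fun r => ⟨0, 0, Subsingleton.elim _ _⟩, fun c d _ => ⟨Subsingleton.elim _ _, Subsingleton.elim _ _⟩⟩
  have hm : (X ^ 2 - C b : B[X]).Monic := monic_X_pow_sub_C b (by norm_num)
  have hn : (X ^ 2 - C b : B[X]).natDegree = 2 := natDegree_X_pow_sub_C
  constructor
  · intro r
    obtain ⟨p, rfl⟩ := AdjoinRoot.mk_surjective r
    refine ⟨(p %ₘ (X ^ 2 - C b)).coeff 0, (p %ₘ (X ^ 2 - C b)).coeff 1, ?_⟩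
    have hlt : (p %ₘ (X ^ 2 - C b)).natDegree ≤ 1 := by
      have := natDegree_modByMonic_lt p hm (fun h => by rw [h, natDegree_one] at hn; omega)
      omega
    have he := eq_X_add_C_of_natDegree_le_one hlt
    have hmk : AdjoinRoot.mk (X ^ 2 - C b) (p %ₘ (X ^ 2 - C b)) = AdjoinRoot.mk (X ^ 2 - C b) p :=
      AdjoinRoot.mk_eq_mk.2 ⟨-(p /ₘ (X ^ 2 - C b)), by
        linear_combination modByMonic_add_div p (X ^ 2 - C b)⟩
    rw [← hmk]
    conv_lhs => rw [he]
    rw [map_add, map_mul, AdjoinRoot.mk_C, AdjoinRoot.mk_C, AdjoinRoot.mk_X, AdjoinRoot.algebraMap_eq, add_comm]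
  · intro c d h
    have h' : AdjoinRoot.mk (X ^ 2 - C b) (C c + C d * X) = 0 := by
      simpa [AdjoinRoot.algebraMap_eq] using h
    have h0 : C c + C d * X = 0 := by
      by_contra hne
      refine hm.not_dvd_of_natDegree_lt hne ?_ (AdjoinRoot.mk_eq_zero.1 h')
      rw [hn, add_comm]
      exact Nat.lt_succ_of_le natDegree_linear_le
    exact ⟨by simpa using congrArg (coeff · 0) h0, by simpa using congrArg (coeff · 1) h0⟩

/-- Let B be a commutative ring, b an element of B, B' := B[z]/(z^2 - b) the rank-two B-algebra with z^2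
= b, and Ψ : B[u, v] → B'[t] the B-algebra homomorphism with u ↦ z t and v ↦ t. Then the kernel of Ψ
is the principal ideal generated by u^2 - b v^2, and a polynomial of B'[t] lies in the image of Ψ as
soon as its constant coefficient lies in B. Equivalently, B[u, v]/(u^2 - b v^2) is the fibre product
of B'[t] and B over B' (for t ↦ 0 and the inclusion of B): the pinching of Spec B' × 𝔸¹ along Spec
B' × {0} by the double cover Spec B' → Spec B is the hypersurface u^2 = b v^2 over B; for B = K[w]
and b = w this is the pinch point u^2 = v^2 w. -/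
theorem result (B : Type u) [CommRing B] (b : B) :
    letI Ψ : MvPolynomial (Fin 2) B →ₐ[B] Polynomial (AdjoinRoot (Polynomial.X ^ 2 - Polynomial.C b)) :=
      MvPolynomial.aeval
        ![Polynomial.C (AdjoinRoot.root (Polynomial.X ^ 2 - Polynomial.C b)) * Polynomial.X, Polynomial.X]
    RingHom.ker Ψ.toRingHom =
        Ideal.span {MvPolynomial.X 0 ^ 2 - MvPolynomial.C b * MvPolynomial.X 1 ^ 2} ∧
      ∀ G : Polynomial (AdjoinRoot (Polynomial.X ^ 2 - Polynomial.C b)),
        (∃ c : B, G.coeff 0 = algebraMap B (AdjoinRoot (Polynomial.X ^ 2 - Polynomial.C b)) c) →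
          G ∈ Ψ.range := by
  obtain ⟨hsp, hind⟩ := ker_aux B b
  set R := AdjoinRoot (Polynomial.X ^ 2 - Polynomial.C b)
  set z := AdjoinRoot.root (Polynomial.X ^ 2 - Polynomial.C b) with hz
  set Ψ : MvPolynomial (Fin 2) B →ₐ[B] Polynomial R :=
    MvPolynomial.aeval ![Polynomial.C z * Polynomial.X, Polynomial.X]
  set q : MvPolynomial (Fin 2) B := MvPolynomial.X 0 ^ 2 - MvPolynomial.C b * MvPolynomial.X 1 ^ 2
  have hzz : z ^ 2 = algebraMap B R b := by
    have h := AdjoinRoot.eval₂_root (Polynomial.X ^ 2 - Polynomial.C b)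
    rw [Polynomial.eval₂_sub, Polynomial.eval₂_pow, Polynomial.eval₂_X, Polynomial.eval₂_C, sub_eq_zero] at h
    exact h
  have hq : Ψ q = 0 := by
    simp only [Ψ, q, map_sub, map_pow, map_mul, MvPolynomial.aeval_X, MvPolynomial.aeval_C]
    simp only [Matrix.cons_val_zero, Matrix.cons_val_one, Matrix.cons_val_fin_one]
    rw [mul_pow, ← map_pow, hzz, IsScalarTower.algebraMap_apply B R (Polynomial R), Polynomial.algebraMap_eq, sub_self]
  let ι : Polynomial B →ₐ[B] MvPolynomial (Fin 2) B := Polynomial.aeval (MvPolynomial.X 1)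
  have hι : ∀ g : Polynomial B, Ψ (ι g) = g.map (algebraMap B R) := by
    intro g
    induction g using Polynomial.induction_on' with
    | add a c ha hc => rw [map_add, map_add, ha, hc, Polynomial.map_add]
    | monomial n a =>
      simp [ι, Ψ, Polynomial.aeval_monomial, ← Polynomial.C_mul_X_pow_eq_monomial,
        IsScalarTower.algebraMap_apply B R (Polynomial R)]
  have hdec : ∀ F : MvPolynomial (Fin 2) B, ∃ g₀ g₁ : Polynomial B,
      F - (ι g₀ + MvPolynomial.X 0 * ι g₁) ∈ Ideal.span {q} := by
    intro F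
    induction F using MvPolynomial.induction_on with
    | C a => exact ⟨Polynomial.C a, 0, by simp [ι, MvPolynomial.algebraMap_eq]⟩
    | add p r hp hr =>
      obtain ⟨a, c, h1⟩ := hp
      obtain ⟨a', c', h2⟩ := hr
      refine ⟨a + a', c + c', ?_⟩
      have := Ideal.add_mem _ h1 h2
      convert this using 1
      simp only [map_add]
      ring
    | mul_X p i hp =>
      obtain ⟨a, c, h1⟩ := hp
      have h2 := Ideal.mul_mem_right (MvPolynomial.X i) _ h1
      fin_cases i
      · refine ⟨Polynomial.C b * Polynomial.X ^ 2 * c, a, ?_⟩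
        have h3 := Ideal.add_mem _ h2 (Ideal.mul_mem_left _ (ι c) (Ideal.mem_span_singleton_self q))
        convert h3 using 1
        simp [ι, q, MvPolynomial.algebraMap_eq]
        ring
      · refine ⟨Polynomial.X * a, Polynomial.X * c, ?_⟩
        convert h2 using 1
        simp [ι]
        ring
  refine ⟨le_antisymm (fun F hF => ?_) (Ideal.span_le.2 (Set.singleton_subset_iff.2 hq)), fun G hG => ?_⟩
  · obtain ⟨g₀, g₁, h⟩ := hdec F
    obtain ⟨a, ha⟩ := Ideal.mem_span_singleton'.1 h
    have e : Ψ (ι g₀ + MvPolynomial.X 0 * ι g₁) = 0 := by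
      rw [show ι g₀ + MvPolynomial.X 0 * ι g₁ = F - a * q by rw [ha]; ring, map_sub, map_mul, hq, mul_zero,
        sub_zero]
      exact hF
    rw [map_add, map_mul, hι, hι, show Ψ (MvPolynomial.X 0) = Polynomial.C z * Polynomial.X by simp [Ψ]] at e
    have hco : ∀ n, g₀.coeff (n + 1) = 0 ∧ g₁.coeff n = 0 := fun n => by
      have h1 := congrArg (Polynomial.coeff · (n + 1)) e
      simp only [Polynomial.coeff_add, mul_assoc, Polynomial.coeff_C_mul, Polynomial.coeff_X_mul,
        Polynomial.coeff_map, Polynomial.coeff_zero] at h1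
      exact hind _ _ (by rw [mul_comm (algebraMap B R (g₁.coeff n))]; exact h1)
    have h00 : g₀.coeff 0 = 0 := by
      have h1 := congrArg (Polynomial.coeff · 0) e
      simp only [Polynomial.coeff_add, Polynomial.mul_coeff_zero, Polynomial.coeff_X_zero,
        Polynomial.coeff_map, Polynomial.coeff_zero, mul_zero, zero_mul, add_zero] at h1
      exact (hind _ 0 (by rw [map_zero, zero_mul, add_zero]; exact h1)).1
    have e0 : g₀ = 0 := Polynomial.ext fun n => by
      cases n with
      | zero => simpa using h00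
      | succ n => simpa using (hco n).1
    have e1 : g₁ = 0 := Polynomial.ext fun n => by simpa using (hco n).2
    rw [e0, e1, map_zero, mul_zero, add_zero, sub_zero] at h
    exact h
  · obtain ⟨c₀, hc₀⟩ := hG
    have key : ∀ (n : ℕ) (r : R), (n = 0 → ∃ c, r = algebraMap B R c) →
        Polynomial.monomial n r ∈ Ψ.range := by
      intro n r hr
      cases n with
      | zero =>
        obtain ⟨c, rfl⟩ := hr rfl
        exact ⟨MvPolynomial.C c, by simp [Ψ, IsScalarTower.algebraMap_apply B R (Polynomial R)]⟩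
      | succ n =>
        obtain ⟨c, d, rfl⟩ := hsp r
        refine ⟨ι (Polynomial.monomial (n + 1) c) + MvPolynomial.X 0 * ι (Polynomial.monomial n d), ?_⟩
        show Ψ _ = _
        rw [map_add, map_mul, hι, hι, Polynomial.map_monomial, Polynomial.map_monomial,
          show Ψ (MvPolynomial.X 0) = Polynomial.C z * Polynomial.X by simp [Ψ], mul_assoc,
          Polynomial.X_mul_monomial, Polynomial.C_mul_monomial, ← map_add, mul_comm z]
    rw [G.as_sum_support]
    refine sum_mem fun n _ => key n _ fun hn => ?_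
    subst hn
    exact ⟨c₀, hc₀⟩

end Groth.Agent.S18121
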