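import Groth.Statements.S18122
import Mathlib


-- import your own Groth.Agent.* helpers here

set_option autoImplicit false
universe u
open Pinch

namespace Groth.Agent.S18122

/-- Let K be a field in which 2 ≠ 0, S = K[x, y], and R ⊆ S the K-subalgebra generated by x^2, x y and
y; R is the coordinate ring of the pinch point u^2 = v^2 w (u = x y, v = y, w = x^2) and S is its
normalization. Then restriction along R ⊆ S is a bijection from the K-derivations S → S onto the
K-derivations R → S: every K-derivation R → S extends uniquely to S. In sheaf terms, the natural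
injective map from the tangent sheaf of the normalization to the dual of the pulled-back sheaf of
differentials of the pinch point is an isomorphism. (The text works over an algebraically closed
field of characteristic different from 2 and for every semi-smooth variety; only this model case is
stated, and the computation uses only 2 ≠ 0.) -/
theorem result
    (K : Type u) [Field K] [NeZero (2 : K)] :
    letI R : Subalgebra K (MvPolynomial (Fin 2) K) :=
      Algebra.adjoin K {MvPolynomial.X 0 ^ 2, MvPolynomial.X 0 * MvPolynomial.X 1, MvPolynomial.X 1}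
    ∀ δ : Derivation K R (MvPolynomial (Fin 2) K),
      ∃! D : Derivation K (MvPolynomial (Fin 2) K) (MvPolynomial (Fin 2) K),
        ∀ r : R, D (r : MvPolynomial (Fin 2) K) = δ r := by
  intro δ
  have hx : (MvPolynomial.X 0 : MvPolynomial (Fin 2) K) ^ 2 ∈ (Algebra.adjoin K {MvPolynomial.X (R := K) (0 : Fin 2) ^ 2, MvPolynomial.X 0 * MvPolynomial.X 1, MvPolynomial.X 1}) := Algebra.subset_adjoin (by simp)
  have hb : (MvPolynomial.X 0 * MvPolynomial.X 1 : MvPolynomial (Fin 2) K) ∈ (Algebra.adjoin K {MvPolynomial.X (R := K) (0 : Fin 2) ^ 2, MvPolynomial.X 0 * MvPolynomial.X 1, MvPolynomial.X 1}) := Algebra.subset_adjoin (by simp)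
  have hc : (MvPolynomial.X 1 : MvPolynomial (Fin 2) K) ∈ (Algebra.adjoin K {MvPolynomial.X (R := K) (0 : Fin 2) ^ 2, MvPolynomial.X 0 * MvPolynomial.X 1, MvPolynomial.X 1}) := Algebra.subset_adjoin (by simp)
  let a : ↥(Algebra.adjoin K {MvPolynomial.X (R := K) (0 : Fin 2) ^ 2, MvPolynomial.X 0 * MvPolynomial.X 1, MvPolynomial.X 1}) := ⟨_, hx⟩
  let b : ↥(Algebra.adjoin K {MvPolynomial.X (R := K) (0 : Fin 2) ^ 2, MvPolynomial.X 0 * MvPolynomial.X 1, MvPolynomial.X 1}) := ⟨_, hb⟩
  let c : ↥(Algebra.adjoin K {MvPolynomial.X (R := K) (0 : Fin 2) ^ 2, MvPolynomial.X 0 * MvPolynomial.X 1, MvPolynomial.X 1}) := ⟨_, hc⟩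
  let x : MvPolynomial (Fin 2) K := MvPolynomial.X 0
  let y : MvPolynomial (Fin 2) K := MvPolynomial.X 1
  have hsm : ∀ (r : ↥(Algebra.adjoin K {MvPolynomial.X (R := K) (0 : Fin 2) ^ 2, MvPolynomial.X 0 * MvPolynomial.X 1, MvPolynomial.X 1})) (m : MvPolynomial (Fin 2) K), r • m = (r : MvPolynomial (Fin 2) K) * m := fun r m => rfl
  have key : y * (2 * x * δ b) = y * (2 * x ^ 2 * δ c + y * δ a) := by
    have h : b * b = a * (c * c) := Subtype.ext (show x * y * (x * y) = x ^ 2 * (y * y) by ring)
    have h' := congrArg δ h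
    simp only [Derivation.leibniz, hsm, MulMemClass.coe_mul] at h'
    change x * y * δ b + x * y * δ b = x ^ 2 * (y * δ c + y * δ c) + y * y * δ a at h'
    linear_combination h'
  have key' := mul_left_cancel₀ (MvPolynomial.X_ne_zero (1 : Fin 2)) key
  obtain ⟨q, hq⟩ : x ∣ δ a := by
    have hdvd : x ∣ y * δ a := ⟨2 * δ b - 2 * x * δ c, by linear_combination -key'⟩
    refine ((MvPolynomial.X_prime (i := (0 : Fin 2))).dvd_or_dvd hdvd).resolve_left ?_
    intro h; simp [x, y, MvPolynomial.X_dvd_X] at h
  have h2 : (2 : MvPolynomial (Fin 2) K) * MvPolynomial.C (2⁻¹ : K) = 1 := by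
    rw [show (2 : MvPolynomial (Fin 2) K) = MvPolynomial.C (2 : K) from (map_ofNat _ 2).symm, ← map_mul, mul_inv_cancel₀ two_ne_zero, map_one]
  have h20 : (2 : MvPolynomial (Fin 2) K) ≠ 0 := fun h => by simp [h] at h2
  let D : Derivation K (MvPolynomial (Fin 2) K) (MvPolynomial (Fin 2) K) :=
    MvPolynomial.mkDerivation K ![MvPolynomial.C (2⁻¹ : K) * q, δ c]
  have hDx : D x = MvPolynomial.C (2⁻¹ : K) * q := MvPolynomial.mkDerivation_X _ _ _
  have hDy : D y = δ c := MvPolynomial.mkDerivation_X _ _ _
  refine ⟨D, fun r => ?_, fun D' hD' => ?_⟩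
  · obtain ⟨r, hr⟩ := r
    show D r = δ ⟨r, hr⟩
    induction hr using Algebra.adjoin_induction with
    | mem z hz =>
      rcases hz with rfl | rfl | rfl
      · change D (x ^ 2) = δ a
        have e : D (x ^ 2) = D (x * x) := congrArg D (pow_two x)
        rw [e, Derivation.leibniz, hDx, hq, smul_eq_mul]
        linear_combination (x * q) * h2
      · change D (x * y) = δ b
        rw [Derivation.leibniz, hDx, hDy, smul_eq_mul, smul_eq_mul]
        apply mul_left_cancel₀ (mul_ne_zero h20 (MvPolynomial.X_ne_zero (0 : Fin 2)))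
        linear_combination -key' - y * hq + (x * y * q) * h2
      · exact hDy
    | algebraMap k => rw [Derivation.map_algebraMap]; exact (Derivation.map_algebraMap δ k).symm
    | add u v hu hv ihu ihv =>
      rw [map_add, ihu, ihv, ← map_add]; rfl
    | mul u v hu hv ihu ihv =>
      rw [Derivation.leibniz, ihu, ihv, show (⟨u * v, mul_mem hu hv⟩ : ↥(Algebra.adjoin K {MvPolynomial.X (R := K) (0 : Fin 2) ^ 2, MvPolynomial.X 0 * MvPolynomial.X 1, MvPolynomial.X 1})) = ⟨u, hu⟩ * ⟨v, hv⟩ from rfl, Derivation.leibniz, hsm, hsm, smul_eq_mul, smul_eq_mul]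
  · refine MvPolynomial.derivation_ext fun i => ?_
    fin_cases i
    · have h := hD' a
      change D' (x ^ 2) = δ a at h
      have e : D' (x ^ 2) = D' (x * x) := congrArg D' (pow_two x)
      rw [e, Derivation.leibniz, smul_eq_mul, hq] at h
      change D' x = D x
      rw [hDx]
      apply mul_left_cancel₀ (mul_ne_zero h20 (MvPolynomial.X_ne_zero (0 : Fin 2)))
      linear_combination h - (x * q) * h2
    · exact (hD' c).trans hDy.symm

end Groth.Agent.S18122
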