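import Groth.Statements.S18123
import Mathlib

-- import your own Groth.Agent.* helpers here

set_option autoImplicit false
universe u
open Pinch

namespace Groth.Agent.S18123

/-- Let K be a field in which 2 ≠ 0, S = K[x, y], and R ⊆ S the K-subalgebra generated by x^2, x y, y,
the coordinate ring of the pinch point with normalization S, obtained by gluing the plane along the
line y = 0 via x ↦ -x. A K-derivation D of S maps R into R if and only if D(y) is a multiple of y
and D(x) = y s + x p(x^2) for some s in S and some polynomial p in one variable. Every K-derivation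
R → S extends uniquely to S, and under this identification the derivations mapping R into R form the
image of the tangent sheaf of the pinch point in that of its normalization; so this image contains y
times all derivations of S, and modulo those it is spanned by the odd multiples x^(2k+1) ∂/∂x, the
part of the tangent sheaf of the line y = 0 invariant under x ↦ -x. (The text works over an
algebraically closed field of characteristic different from 2; the computation uses only 2 ≠ 0.) -/
theorem result
    (K : Type u) [Field K] [NeZero (2 : K)]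
    (D : Derivation K (MvPolynomial (Fin 2) K) (MvPolynomial (Fin 2) K)) :
    letI x : MvPolynomial (Fin 2) K := MvPolynomial.X 0
    letI y : MvPolynomial (Fin 2) K := MvPolynomial.X 1
    letI R : Subalgebra K (MvPolynomial (Fin 2) K) := Algebra.adjoin K {x ^ 2, x * y, y}
    (∀ r ∈ R, D r ∈ R) ↔
      (D y ∈ Ideal.span {y} ∧
        ∃ (s : MvPolynomial (Fin 2) K) (p : Polynomial K), D x = y * s + x * Polynomial.aeval (x ^ 2) p) := by
  classical
  set x : MvPolynomial (Fin 2) K := MvPolynomial.X 0 with hxdef
  set y : MvPolynomial (Fin 2) K := MvPolynomial.X 1 with hydef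
  set R : Subalgebra K (MvPolynomial (Fin 2) K) := Algebra.adjoin K {x ^ 2, x * y, y} with hRdef
  let ev : MvPolynomial (Fin 2) K →ₐ[K] Polynomial K := MvPolynomial.aeval ![Polynomial.X, 0]
  have hex : ∀ f : MvPolynomial (Fin 2) K, ∃ s, f = Polynomial.aeval x (ev f) + y * s := by
    intro f
    induction f using MvPolynomial.induction_on with
    | C a => exact ⟨0, by simp [ev]⟩
    | add p q hp hq =>
      obtain ⟨s, hs⟩ := hp
      obtain ⟨t, ht⟩ := hq
      exact ⟨s + t, by conv_lhs => rw [hs, ht]
                       rw [map_add, map_add]; ring⟩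
    | mul_X p i hp =>
      obtain ⟨s, hs⟩ := hp
      fin_cases i
      · exact ⟨s * x, by conv_lhs => rw [hs]
                         rw [map_mul, map_mul, show ev (MvPolynomial.X _) = Polynomial.X from by simp [ev], Polynomial.aeval_X]
                         change _ * x = _
                         ring⟩
      · exact ⟨p, by simp [ev, y]; ring⟩
  have hR : ∀ f, f ∈ R ↔ ∃ (p : Polynomial K) (s : MvPolynomial (Fin 2) K), f = Polynomial.aeval (x ^ 2) p + y * s := by
    intro f
    constructor
    · intro hf
      induction hf using Algebra.adjoin_induction with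
      | mem g hg =>
        rcases hg with rfl | rfl | rfl
        · exact ⟨Polynomial.X, 0, by simp⟩
        · exact ⟨0, x, by rw [map_zero, zero_add, mul_comm]⟩
        · exact ⟨0, 1, by simp⟩
      | algebraMap a => exact ⟨Polynomial.C a, 0, by simp⟩
      | add a b _ _ ha hb =>
        obtain ⟨p, s, rfl⟩ := ha
        obtain ⟨q, t, rfl⟩ := hb
        exact ⟨p + q, s + t, by rw [map_add]; ring⟩
      | mul a b _ _ ha hb =>
        obtain ⟨p, s, rfl⟩ := ha
        obtain ⟨q, t, rfl⟩ := hb
        exact ⟨p * q, Polynomial.aeval (x ^ 2) p * t + s * Polynomial.aeval (x ^ 2) q + y * s * t, by rw [map_mul]; ring⟩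
    · rintro ⟨p, s, rfl⟩
      have hx2 : x ^ 2 ∈ R := Algebra.subset_adjoin (by simp)
      have hxy : x * y ∈ R := Algebra.subset_adjoin (by simp)
      have hy : y ∈ R := Algebra.subset_adjoin (by simp)
      refine R.add_mem (Algebra.adjoin_le (Set.singleton_subset_iff.2 hx2) (Polynomial.aeval_mem_adjoin_singleton K (x ^ 2))) ?_
      induction s using MvPolynomial.monomial_add_induction_on with
      | C a => exact R.mul_mem hy (R.algebraMap_mem a)
      | monomial_add d a s _ _ hs =>
        rw [mul_add]
        refine R.add_mem ?_ hs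
        rw [MvPolynomial.monomial_eq, Finsupp.prod_fintype _ _ (fun i => pow_zero _), Fin.prod_univ_two]
        change y * (MvPolynomial.C a * (x ^ d 0 * y ^ d 1)) ∈ R
        obtain ⟨k, hk | hk⟩ := Nat.even_or_odd' (d 0)
        · rw [hk, show y * (MvPolynomial.C a * (x ^ (2 * k) * y ^ d 1)) = MvPolynomial.C a * ((x ^ 2) ^ k * y ^ (d 1 + 1)) by ring]
          exact R.mul_mem (R.algebraMap_mem a) (R.mul_mem (R.pow_mem hx2 _) (R.pow_mem hy _))
        · rw [hk, show y * (MvPolynomial.C a * (x ^ (2 * k + 1) * y ^ d 1)) = MvPolynomial.C a * ((x * y) * ((x ^ 2) ^ k * y ^ d 1)) by ring]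
          exact R.mul_mem (R.algebraMap_mem a) (R.mul_mem hxy (R.mul_mem (R.pow_mem hx2 _) (R.pow_mem hy _)))
  have hev : ∀ f ∈ R, ∃ p, ev f = Polynomial.expand K 2 p := fun f hf => by
    obtain ⟨p, s, rfl⟩ := (hR f).1 hf
    exact ⟨p, by rw [map_add, map_mul, ← Polynomial.aeval_algHom_apply, Polynomial.expand_eq_comp_X_pow]; simp [ev, x, y, Polynomial.comp, Polynomial.aeval_def]⟩
  have hexp : ∀ a : Polynomial K, Polynomial.aeval x (Polynomial.expand K 2 a) = Polynomial.aeval (x ^ 2) a := fun a => Polynomial.expand_aeval 2 a x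
  constructor
  · intro h
    have hy : D y ∈ R := h y (Algebra.subset_adjoin (by simp))
    obtain ⟨p, hp⟩ := hev _ hy
    obtain ⟨q, hq⟩ := hev _ (h (x * y) (Algebra.subset_adjoin (by simp)))
    rw [Derivation.leibniz, map_add, smul_eq_mul, smul_eq_mul, map_mul, map_mul, hp, show ev x = Polynomial.X by simp [ev, x], show ev y = 0 by simp [ev, y], zero_mul, add_zero] at hq
    have hp0 : p = 0 := by
      ext n
      have := congrArg (fun z => Polynomial.coeff z (2 * n + 1)) hq
      simp only [Polynomial.coeff_X_mul, Polynomial.coeff_expand (show 0 < 2 by norm_num)] at this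
      rw [if_pos (dvd_mul_right 2 n), if_neg (by omega), Nat.mul_div_cancel_left _ (by norm_num)] at this
      simpa using this
    obtain ⟨t, ht⟩ := hex (D y)
    rw [hp, hp0, map_zero, map_zero, zero_add] at ht
    refine ⟨Ideal.mem_span_singleton.2 ⟨t, ht⟩, ?_⟩
    obtain ⟨w, hw⟩ := hev _ (h (x ^ 2) (Algebra.subset_adjoin (by simp)))
    rw [pow_two, Derivation.leibniz, smul_eq_mul, map_add, map_mul, show ev x = Polynomial.X by simp [ev, x], ← two_mul] at hw
    obtain ⟨s, hs⟩ := hex (D x)
    have h2 : (2 : K) ≠ 0 := NeZero.ne 2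
    refine ⟨s, Polynomial.C (2 : K)⁻¹ * w.divX, ?_⟩
    have hr : ev (D x) = Polynomial.X * Polynomial.expand K 2 (Polynomial.C (2 : K)⁻¹ * w.divX) := by
      refine mul_left_cancel₀ (Polynomial.X_ne_zero (R := K)) ?_
      have hw0 : w.coeff 0 = 0 := by
        have := congrArg (fun z => Polynomial.coeff z 0) hw
        simp [Polynomial.coeff_expand (show 0 < 2 by norm_num)] at this
        exact this.symm
      have hw' : w = Polynomial.X * w.divX := by
        conv_lhs => rw [← w.X_mul_divX_add, hw0, map_zero, add_zero]
      rw [map_mul, Polynomial.expand_C]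
      rw [hw', map_mul, Polynomial.expand_X] at hw
      have hc : Polynomial.C (2 : K)⁻¹ * (2 : Polynomial K) = 1 := by
        rw [← Polynomial.C_ofNat, ← Polynomial.C_mul, inv_mul_cancel₀ h2, Polynomial.C_1]
      linear_combination Polynomial.C (2 : K)⁻¹ * hw - Polynomial.X * ev (D x) * hc
    conv_lhs => rw [hs, hr, map_mul, Polynomial.aeval_X, hexp]
    ring
  · rintro ⟨hy, s, p, hx⟩ r hr
    obtain ⟨t, ht⟩ := Ideal.mem_span_singleton.1 hy
    induction hr using Algebra.adjoin_induction with
    | mem g hg =>
      rcases hg with rfl | rfl | rfl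
      · refine (hR _).2 ⟨Polynomial.C 2 * Polynomial.X * p, 2 * x * s, ?_⟩
        rw [pow_two, Derivation.leibniz, smul_eq_mul, hx, map_mul, map_mul, Polynomial.aeval_X, Polynomial.aeval_C, map_ofNat]; ring
      · refine (hR _).2 ⟨0, x * t + (y * s + x * Polynomial.aeval (x ^ 2) p), ?_⟩
        rw [Derivation.leibniz, smul_eq_mul, smul_eq_mul, hx, ht, map_zero]; ring
      · exact (hR _).2 ⟨0, t, by rw [ht, map_zero, zero_add]⟩
    | algebraMap a => rw [Derivation.map_algebraMap]; exact R.zero_mem
    | add a b _ _ ha hb => rw [map_add]; exact R.add_mem ha hb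
    | mul a b ha' hb' ha hb => rw [Derivation.leibniz]; exact R.add_mem (R.mul_mem ha' hb) (R.mul_mem hb' ha)

end Groth.Agent.S18123
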