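import Groth.Statements.S18126
import Groth.Agent.NLKerLib.Main
import Groth.Agent.GorLib.LCIFibre
import Groth.Agent.LiaisonLib.Basic
import Groth.Agent.S2069
import Mathlib.RingTheory.LocalRing.ResidueField.Fiber
import Mathlib.RingTheory.Smooth.Locus

set_option autoImplicit false
set_option linter.style.haveILetI false
set_option maxHeartbeats 1000000
universe u
open Deform

namespace Groth.Agent.S18126

open TensorProduct IsLocalRing

/-- An associated prime of a Gorenstein ring is minimal. -/
theorem minimal_of_gorenstein {F : Type u} [CommRing F] [LocCoh.IsGorensteinRing F] {Q : Ideal F}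
    (h : Q ∈ associatedPrimes F F) : Q ∈ minimalPrimes F := by
  haveI := h.1
  let T := Localization.AtPrime Q
  haveI : LocCoh.IsGorensteinLocalRing T := LocCoh.IsGorensteinRing.isGorensteinLocalRing_localization Q
  have hT : CommAlgDim.IsCM T := GorLib.isCM_of_gorenstein
  have hmax : maximalIdeal T ∈ associatedPrimes T T :=
    Module.associatedPrimes.mem_associatedPrimes_of_comap_mem_associatedPrimes_of_isLocalizedModule Q.primeCompl
      (Algebra.linearMap F T) _ (by
        rw [← Ideal.under_def, IsLocalization.AtPrime.under_maximalIdeal T Q]; exact h)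
  have h1 := CatLib.ringKrullDim_quotient_of_mem_associatedPrimes hT hmax
  letI := Ideal.Quotient.field (maximalIdeal T)
  rw [ringKrullDim_eq_zero_of_field, IsLocalization.AtPrime.ringKrullDim_eq_height Q T] at h1
  exact Ideal.height_eq_zero_iff.1 (WithBot.coe_inj.1 h1).symm

/-- An associated prime of a flat algebra with Gorenstein fibres is minimal in its fibre. -/
theorem minimal_in_fibre {A P : Type u} [CommRing A] [IsNoetherianRing A] [CommRing P] [Algebra A P] [Module.Flat A P]
    [IsNoetherianRing P]
    (hG : ∀ (p : Ideal A) [p.IsPrime], LocCoh.IsGorensteinRing (P ⊗[A] p.ResidueField))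
    {𝔓 : PrimeSpectrum P} (h : 𝔓.asIdeal ∈ associatedPrimes P P) (𝔔 : PrimeSpectrum P) (hle : 𝔔 ≤ 𝔓)
    (hc : 𝔔.asIdeal.comap (algebraMap A P) = 𝔓.asIdeal.comap (algebraMap A P)) : 𝔔 = 𝔓 := by
  let p := 𝔓.asIdeal.comap (algebraMap A P)
  have h1 : 𝔓.asIdeal ∈ associatedPrimes P (P ⧸ p.map (algebraMap A P) • (⊤ : Submodule P P)) := by
    refine S2069.mem_fibre (M := A) ?_
    rwa [LinearEquiv.AssociatedPrimes.eq (TensorProduct.AlgebraTensorModule.rid A P P)]
  obtain ⟨t, ht⟩ := h1.2
  obtain ⟨t₀, rfl⟩ := Submodule.Quotient.mk_surjective _ t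
  let F := p.Fiber P
  haveI : LocCoh.IsGorensteinRing F :=
    GorLib.gorensteinRing_of_ringEquiv (Algebra.TensorProduct.comm A P p.ResidueField).symm.toRingEquiv (hG p)
  let ι : P →+* F := Algebra.TensorProduct.includeRight.toRingHom
  let J : Ideal F := (⊥ : Submodule F F).colon {ι t₀}
  have hker : ∀ x, ι x = 0 → x ∈ p.map (algebraMap A P) := fun x hx => by
    have hinj : Function.Injective (((Algebra.linearMap (A ⧸ p) p.ResidueField).restrictScalars A).rTensor P) :=
      Module.Flat.rTensor_preserves_injective_linearMap _ p.injective_algebraMap_quotient_residueField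
    have h0 : (1 : A ⧸ p) ⊗ₜ[A] x = 0 := hinj (by
      rw [map_zero, LinearMap.rTensor_tmul]
      show (algebraMap (A ⧸ p) p.ResidueField 1) ⊗ₜ[A] x = 0
      rw [map_one]
      exact hx)
    have h2 := congrArg (TensorProduct.quotTensorEquivQuotSMul P p) h0
    rw [show (1 : A ⧸ p) = Ideal.Quotient.mk p 1 from rfl, TensorProduct.quotTensorEquivQuotSMul_mk_tmul, one_smul,
      map_zero, Submodule.Quotient.mk_eq_zero, Ideal.smul_top_eq_map, Submodule.restrictScalars_mem] at h2
    exact h2
  have hzero : ∀ x, x ∈ p.map (algebraMap A P) → ι x = 0 := by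
    have : p.map (algebraMap A P) ≤ RingHom.ker ι := Ideal.map_le_iff_le_comap.2 fun a ha => by
      rw [Ideal.mem_comap, RingHom.mem_ker]
      show (1 : p.ResidueField) ⊗ₜ[A] algebraMap A P a = 0
      rw [Algebra.algebraMap_eq_smul_one, ← smul_tmul, ← Algebra.algebraMap_eq_smul_one,
        Ideal.algebraMap_residueField_eq_zero.2 ha, zero_tmul]
    exact fun x hx => RingHom.mem_ker.1 (this hx)
  have hP : 𝔓.asIdeal = (J.comap ι).radical := by
    refine ht.trans ?_
    congr 1
    ext a
    simp only [Submodule.mem_colon_singleton, Submodule.mem_bot, Ideal.mem_comap, J, smul_eq_mul,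
      ← map_mul, ← Submodule.Quotient.mk_smul, Submodule.Quotient.mk_eq_zero, Ideal.mul_top]
    exact ⟨hzero _, hker _⟩
  have hmin : 𝔓.asIdeal ∈ (J.comap ι).minimalPrimes := by
    rw [← Ideal.radical_minimalPrimes, ← hP, Ideal.minimalPrimes_eq_subsingleton_self]
    rfl
  obtain ⟨Q, hQ, hQP⟩ := Ideal.exists_minimalPrimes_comap_eq ι _ hmin
  haveI := hQ.1.1
  have hQass : Q ∈ associatedPrimes F F := by
    have hJ : (Submodule.span F {ι t₀}).annihilator = J := by
      ext a
      simp [J, Submodule.mem_annihilator_span_singleton, Submodule.mem_colon_singleton]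
    exact associatedPrimes.subset_of_injective (Submodule.span F {ι t₀}).injective_subtype
      (Module.associatedPrimes.minimalPrimes_annihilator_subset_associatedPrimes F (Submodule.span F {ι t₀}) (by
        show Q ∈ (Submodule.span F {ι t₀}).annihilator.minimalPrimes
        rw [hJ]
        exact hQ))
  have hQmin := minimal_of_gorenstein hQass
  let e := PrimeSpectrum.preimageOrderIsoFiber A P ⟨p, inferInstance⟩
  let x : ↥(PrimeSpectrum.comap (algebraMap A P) ⁻¹' {⟨p, inferInstance⟩}) := ⟨𝔓, PrimeSpectrum.ext rfl⟩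
  let y : ↥(PrimeSpectrum.comap (algebraMap A P) ⁻¹' {⟨p, inferInstance⟩}) := ⟨𝔔, PrimeSpectrum.ext hc⟩
  have hx : e.symm ⟨Q, inferInstance⟩ = x := Subtype.ext (PrimeSpectrum.ext hQP)
  have hyx : e y ≤ ⟨Q, inferInstance⟩ := by
    rw [← OrderIso.apply_symm_apply e ⟨Q, inferInstance⟩, hx]
    exact e.monotone hle
  have : e y = ⟨Q, inferInstance⟩ := le_antisymm hyx (hQmin.2 ⟨(e y).2, bot_le⟩ hyx)
  exact congrArg Subtype.val ((e.symm_apply_apply y).symm.trans ((congrArg e.symm this).trans hx))

/-- Let A be a Noetherian ring in which 2 is invertible and P a flat A-algebra which is a local complete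
intersection over A (of finite type, with Koszul-regular kernel for some polynomial presentation)
and whose fibres are generically smooth: every prime of P minimal among the primes of its fibre over
A lies in the smooth locus of A → P. Then the first homology of the naive cotangent complex of P
over A vanishes, H_1(NL_{P/A}) = 0: for every presentation P = S/I by a polynomial A-algebra S the
conormal sequence 0 → I/I^2 → Ω_{S/A} ⊗_S P → Ω_{P/A} → 0 is exact on the left. Since the cotangent
complex of a local complete intersection is this two-term complex, it is quasi-isomorphic to Ω_{P/A}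
in degree 0, which is the identification that makes T^1 = Ext^1(Ω_{P/A}, P) the degree-one
cohomology of RHom of the cotangent complex into P. (The text states the latter identification for a
flat local complete intersection morphism of Noetherian schemes with generically smooth fibres; the
row is its affine content.) -/
theorem result
    (A : Type u) [CommRing A] [IsNoetherianRing A] (h2 : IsUnit (2 : A))
    (P : Type u) [CommRing P] [Algebra A P] [Module.Flat A P] (hlci : LCI.IsLCI A P)
    (hgs : ∀ 𝔓 : PrimeSpectrum P,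
      (∀ 𝔔 : PrimeSpectrum P, 𝔔 ≤ 𝔓 →
          𝔔.asIdeal.comap (algebraMap A P) = 𝔓.asIdeal.comap (algebraMap A P) → 𝔔 = 𝔓) →
        𝔓 ∈ Algebra.smoothLocus A P) :
    Subsingleton (Algebra.H1Cotangent A P) := by
  classical
  haveI : Algebra.FiniteType A P := hlci.1
  haveI : IsNoetherianRing P := Algebra.FiniteType.isNoetherianRing A P
  obtain ⟨n, G, hfin, hproj⟩ := NLKerLib.exists_generators hlci
  refine (G.equivH1Cotangent.toEquiv.subsingleton_congr).1 ⟨fun a b => ?_⟩
  suffices h : ∀ z : G.toExtension.H1Cotangent, z = 0 from (h a).trans (h b).symm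
  intro z
  by_contra hz
  have hz' : (z.1 : G.toExtension.Cotangent) ≠ 0 := fun h => hz (Subtype.ext h)
  obtain ⟨𝔓, h𝔓, hle⟩ := exists_le_isAssociatedPrime_of_isNoetherianRing P (z.1 : G.toExtension.Cotangent) hz'
  obtain ⟨m, f, g, -, hg, -⟩ := Module.Finite.exists_comp_eq_id_of_projective P G.toExtension.Cotangent
  obtain ⟨hprime, y, hy⟩ := (isAssociatedPrime_iff (R := P)).1 (h𝔓.map_of_injective g hg)
  obtain ⟨i, hi⟩ : ∃ i, 𝔓 = (⊥ : Submodule P P).colon {y i} := by
    have hle : (Finset.univ.inf fun i => (⊥ : Submodule P P).colon {y i}) ≤ 𝔓 := fun a ha => by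
      rw [hy, Submodule.mem_colon_singleton, Submodule.mem_bot]
      funext i
      exact (Submodule.mem_bot P).1 (Submodule.mem_colon_singleton.1 ((Finset.inf_le (f := fun i => (⊥ : Submodule P P).colon {y i}) (Finset.mem_univ i)) ha))
    obtain ⟨i, -, hi⟩ := (Ideal.IsPrime.inf_le' hprime).1 hle
    refine ⟨i, le_antisymm (fun a ha => ?_) hi⟩
    rw [hy, Submodule.mem_colon_singleton, Submodule.mem_bot] at ha
    rw [Submodule.mem_colon_singleton, Submodule.mem_bot]
    exact congrFun ha i
  have hass : 𝔓 ∈ associatedPrimes P P := (isAssociatedPrime_iff (R := P)).2 ⟨hprime, y i, hi⟩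
  have hsm := hgs ⟨𝔓, hprime⟩ fun 𝔔 h1 h2 =>
    minimal_in_fibre (fun p _ => GorLib.gorensteinRing_fibre_of_flat_isLCI hlci p) hass 𝔔 h1 h2
  rw [Algebra.smoothLocus_eq_compl_support_inter] at hsm
  refine hsm.1 (Module.mem_support_iff_exists_annihilator.2 ⟨G.equivH1Cotangent z, fun a ha => hle ?_⟩)
  rw [Submodule.mem_annihilator_span_singleton, ← map_smul, LinearEquiv.map_eq_zero_iff] at ha
  rw [Submodule.mem_colon_singleton, Submodule.mem_bot]
  exact congrArg Subtype.val ha

end Groth.Agent.S18126
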