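import Groth.Statements.S18127
import Mathlib


-- import your own Groth.Agent.* helpers here

set_option autoImplicit false
universe u
open LocAlg

namespace Groth.Agent.S18127

/-- Let R be a local ring with maximal ideal m and algebraically closed residue field, and M an n × n
matrix over R whose reduction modulo m has rank at most r. Then the determinant of M lies in m^(n −
r). (The published setting is the local ring of germs of holomorphic functions at a point of a
complex manifold, where this says that the determinant vanishes to order at least n − r at a point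
where the matrix has rank at most r.) -/
theorem result
    {R : Type u} [CommRing R] [IsLocalRing R] [IsAlgClosed (IsLocalRing.ResidueField R)]
    {n : ℕ} (M : Matrix (Fin n) (Fin n) R) (r : ℕ)
    (hr : (M.map (IsLocalRing.residue R)).rank ≤ r) :
    M.det ∈ IsLocalRing.maximalIdeal R ^ (n - r) := by
  classical
  let K := IsLocalRing.ResidueField R
  let π := IsLocalRing.residue R
  let φ := (M.map π).mulVecLin
  have hrW : Module.finrank K (LinearMap.range φ) ≤ r := hr
  obtain ⟨C, hC⟩ := Submodule.exists_isCompl (LinearMap.range φ)
  let b0 : Module.Basis (Fin (Module.finrank K (LinearMap.range φ)) ⊕ Fin (Module.finrank K C)) K (Fin n → K) :=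
    ((Module.finBasis K (LinearMap.range φ)).prod (Module.finBasis K C)).map (Submodule.prodEquivOfIsCompl _ _ hC)
  have hsum : Module.finrank K (LinearMap.range φ) + Module.finrank K C = n := by
    rw [Submodule.finrank_add_eq_of_isCompl hC, Module.finrank_fin_fun]
  let e : (Fin (Module.finrank K (LinearMap.range φ)) ⊕ Fin (Module.finrank K C)) ≃ Fin n :=
    finSumFinEquiv.trans (finCongr hsum)
  let b := b0.reindex e
  let P0 : Matrix (Fin n) (Fin n) K := b.toMatrix (Pi.basisFun K (Fin n))
  have hP0 : IsUnit P0.det := by
    have : Invertible P0 := Module.Basis.invertibleToMatrix b (Pi.basisFun K (Fin n))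
    exact Matrix.isUnit_det_of_invertible P0
  let P : Matrix (Fin n) (Fin n) R := fun i j => (IsLocalRing.residue_surjective (P0 i j)).choose
  have hP : P.map π = P0 := by ext i j; exact (IsLocalRing.residue_surjective (P0 i j)).choose_spec
  have hPu : IsUnit P.det := by
    apply (isUnit_map_iff π _).1
    rw [RingHom.map_det]
    show IsUnit (P.map π).det
    rw [hP]; exact hP0
  let T : Finset (Fin n) := Finset.univ.image fun c => e (Sum.inr c)
  have hT : n - r ≤ T.card := by
    rw [show T.card = Module.finrank K C from (Finset.card_image_of_injective _ (fun a b h => Sum.inr_injective (e.injective h))).trans ((Finset.card_univ).trans (Fintype.card_fin _))]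
    omega
  have hrow : ∀ i ∈ T, ∀ j, (P * M) i j ∈ IsLocalRing.maximalIdeal R := by
    intro i hi j
    obtain ⟨c, -, rfl⟩ := Finset.mem_image.1 hi
    rw [← IsLocalRing.residue_eq_zero_iff]
    show ((P * M).map π) (e (Sum.inr c)) j = 0
    rw [Matrix.map_mul, hP]
    have hmem : φ (Pi.single j 1) ∈ LinearMap.range φ := ⟨_, rfl⟩
    have h1 : (P0 * M.map π) (e (Sum.inr c)) j = b.repr (φ (Pi.single j 1)) (e (Sum.inr c)) := by
      have h2 : (b.toMatrix (Pi.basisFun K (Fin n))).mulVec ((Pi.basisFun K (Fin n)).repr (φ (Pi.single j 1))) =
          b.repr (φ (Pi.single j 1)) := Module.Basis.toMatrix_mulVec_repr _ _ _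
      rw [← congrFun h2]
      simp [φ, P0, Matrix.mul_apply, Matrix.mulVec, dotProduct]
    rw [h1, Module.Basis.repr_reindex_apply, Equiv.symm_apply_apply]
    simp [b0, Submodule.prodEquivOfIsCompl_symm_apply_left _ _ hC ⟨_, hmem⟩]
  have hdet : (P * M).det ∈ IsLocalRing.maximalIdeal R ^ (n - r) := by
    rw [← Matrix.det_transpose, Matrix.det_apply]
    refine Submodule.sum_mem _ fun σ _ => Submodule.smul_of_tower_mem _ _ ?_
    simp only [Matrix.transpose_apply]
    rw [← Finset.prod_sdiff (Finset.subset_univ T)]
    refine Ideal.mul_mem_left _ _ (Ideal.pow_le_pow_right hT ?_)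
    have := Ideal.prod_mem_prod (s := T) (I := fun _ => IsLocalRing.maximalIdeal R) (x := fun i => (P * M) i (σ i))
      (fun i hi => hrow i hi (σ i))
    simpa using this
  rw [Matrix.det_mul] at hdet
  exact (Ideal.unit_mul_mem_iff_mem _ hPu).1 hdet

end Groth.Agent.S18127
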