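import Groth.Statements.S18132
import Groth.Agent.LMLib.K3
import Groth.Agent.StabLib.Simple

set_option autoImplicit false
universe u
open CategoryTheory CategoryTheory.Limits AlgebraicGeometry
open Surf

set_option backward.isDefEq.respectTransparency false
set_option backward.isDefEq.respectTransparency.types false
set_option maxHeartbeats 800000

namespace Groth.Agent.S18132

/-- Simplicity of Lazarsfeld–Mukai bundles: let X be a K3 surface over an algebraically closed field k
of characteristic zero — an integral scheme, smooth and proper over k, of dimension two, carrying an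
ample invertible module, whose structure sheaf is a second exterior power of its sheaf of
differentials (trivial canonical sheaf) and with H^1(X, O_X) = 0. Let i : C → X be a closed
immersion over k with C integral, smooth over k and of dimension one, whose ideal sheaf I_C is
invertible with the Picard group of X infinite cyclic generated by its class. Let A be an invertible
O_C-module and lam : O_X^e → i_*A an epimorphism from the free module of rank e inducing a bijection
H^0(X, O_X^e) → H^0(X, i_*A), with kernel F (the Lazarsfeld–Mukai bundle of (C, A)). Then F is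
simple: for every endomorphism φ of F there is c ∈ k with φ(s) = c·s for every local section s of F.
(The published proof passes through the slope-stability of F with respect to O_X(C): a nonzero
endomorphism of a slope-stable torsion-free module is an isomorphism, and subtracting an eigenvalue
of φ at a closed point then forces φ to be a scalar.) -/
theorem result (k : Type u) [Field k] [IsAlgClosed k] [CharZero k]
    (X : Scheme.{u}) [X.Over (Spec (CommRingCat.of k))] [IsIntegral X]
    [Smooth (X ↘ Spec (CommRingCat.of k))] (hdim : topologicalKrullDim X = 2)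
    [IsProper (X ↘ Spec (CommRingCat.of k))]
    (H : X.Modules) (hHa : CohB1.IsAmple H)
    (hK : Canon.IsTopDiff (X ↘ Spec (CommRingCat.of k)) 2 (Coh.structureModule X))
    (hq : Module.finrank k (Coh.HH X (Coh.structureModule X) 1) = 0)
    [PicGrp.Law X]
    (C : Scheme.{u}) [C.Over (Spec (CommRingCat.of k))] [IsIntegral C]
    [Smooth (C ↘ Spec (CommRingCat.of k))] (hC : topologicalKrullDim C = 1)
    (i : C ⟶ X) [IsClosedImmersion i] (hi : i ≫ (X ↘ Spec (CommRingCat.of k)) = C ↘ Spec (CommRingCat.of k))
    (hI : PicF.IsInvertible (ClSub.idealMod i.ker))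
    (hgen : ∀ c : PicLoc.PicSet X, ∃ n : ℤ, c = PicGrp.cls (ClSub.idealMod i.ker) hI ^ n)
    (hfree : ∀ n : ℤ, PicGrp.cls (ClSub.idealMod i.ker) hI ^ n = 1 → n = 0)
    (A : C.Modules) (hA : PicF.IsInvertible A) (e : ℕ)
    (lam : FlatMod.freeMod X e ⟶ (Coh.push i).obj A) [Epi lam]
    (hlam : Function.Bijective (Sheaf.H.map ((SheafOfModules.toSheaf _).map lam) 0))
    (φ : kernel lam ⟶ kernel lam) :
    ∃ c : k, ∀ (V : X.Opens) (s : (kernel lam).val.obj (Opposite.op V)),
        (φ.val.app (Opposite.op V)) s =
          (X.ringCatSheaf.obj.map (homOfLE (le_top : V ≤ ⊤)).op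
            (Coh.toGlobal (X ↘ Spec (CommRingCat.of k)) c : X.ringCatSheaf.obj.obj (Opposite.op ⊤))) • s := by
  haveI := CurvLib.isNoetherian k (X := X)
  haveI := SurfNumLib.smoothRel_of_dim (k := k) (X := X) (n := 2) hdim
  obtain ⟨G, hG, hc, hg⟩ := LMLib.exists_polarisation k hdim hHa hI hgen
  have hF := LMLib.isCoh_kernel_lam k hdim hC i hA lam
  have hc1 := LMLib.c1_lam k hdim hC i hi hA lam hI hK hG hc hg
  have hα := PicOneLib.alpha_pos' k hdim hG
  have key : ∀ ψ : kernel lam ⟶ kernel lam, ψ ≠ 0 → IsIso ψ := fun ψ hψ => by
    have hJc := DevissLib.isCoh_image ψ hF hF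
    have hK0 : IsZero (kernel (Abelian.factorThruImage ψ)) := by
      by_contra hK0
      have hJ0 : ¬ IsZero (Abelian.image ψ) := fun hz => hψ (by
        rw [← Abelian.image.fac ψ, hz.eq_of_src (Abelian.image.ι ψ) 0, Limits.comp_zero])
      have hKc := QCohLib.isCoh_kernel (Abelian.factorThruImage ψ) hF hJc.1
      have h1 := LMLib.sub_le k hdim hC i hi hA lam hI hK hG hc hg hlam.1 hKc hK0
        (kernel.ι (Abelian.factorThruImage ψ))
      have h2 := LMLib.sub_le k hdim hC i hi hA lam hI hK hG hc hg hlam.1 hJc hJ0 (Abelian.image.ι ψ)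
      have h3 := congrArg (fun p : Polynomial ℚ => p.coeff 1)
        (StabLib.hPoly_ker (k := k) hG (Abelian.factorThruImage ψ) hF hJc)
      simp only [Polynomial.coeff_add] at h3
      simp only [PicOneLib.c1] at h1 h2 hc1
      linarith
    haveI : Mono (Abelian.factorThruImage ψ) := Abelian.mono_of_kernel_ι_eq_zero _ (hK0.eq_of_src _ _)
    haveI : Mono ψ := by rw [← Abelian.image.fac ψ]; infer_instance
    refine StabLib.isIso_of_isZero_coker ψ ?_
    by_contra hz
    have := StabLib.hPoly_coker (k := k) hG ψ hF hF
    rw [left_eq_add] at this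
    exact StabLib.ps_ne_zero (StabLib.hPoly_ps hG (QCohLib.isCoh_cokernel ψ hF.1 hF) hz) this
  have h0 : ¬ IsZero (kernel lam) := fun hz => by
    have h := LMLib.rank_pos k hdim hC i hi hA lam hI hK hG hc hg
    rw [← LMLib.genRank_kernel_lam k hdim hC i hA lam, CurveVBLib.genRank_of_isZero hz] at h
    omega
  obtain ⟨c, hnc⟩ := StabLib.exists_not_isIso_sub (k := k) hF h0 φ
  have hφ : φ = StabLib.smulHom _ (Coh.toGlobal (X ↘ Spec (CommRingCat.of k)) c) :=
    sub_eq_zero.1 (by_contra fun h => hnc (key _ h))
  exact ⟨c, fun V s => by rw [hφ]; rfl⟩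

end Groth.Agent.S18132
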