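import Groth.Statements.S18130
import Groth.Agent.LMLib.End
import Groth.Agent.LMLib.Gen
import Groth.Agent.S18131
import Groth.Agent.S18132

set_option autoImplicit false
universe u
open CategoryTheory CategoryTheory.Limits AlgebraicGeometry
open Surf

set_option backward.isDefEq.respectTransparency false
set_option backward.isDefEq.respectTransparency.types false
set_option maxHeartbeats 800000

namespace Groth.Agent.S18130

/-- Let X be a K3 surface over an algebraically closed field k of characteristic zero — an integral
scheme, smooth and proper over k, of dimension two, carrying an ample invertible module, whose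
structure sheaf is a second exterior power of its sheaf of differentials (trivial canonical sheaf)
and with H^1(X, O_X) = 0. Let i : C → X be a closed immersion over k with C integral, smooth over k
and of dimension one, whose ideal sheaf I_C is invertible and such that the Picard group of X is
infinite cyclic, generated by the class of I_C (equivalently of O_X(C)). Then for every invertible
O_C-module A the Brill–Noether number is non-negative: h^0(C, A) · h^1(C, A) ≤ g(C), where g(C) =
dim_k H^1(C, O_C). -/
theorem result (k : Type u) [Field k] [IsAlgClosed k] [CharZero k]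
    (X : Scheme.{u}) [X.Over (Spec (CommRingCat.of k))] [IsIntegral X]
    [Smooth (X ↘ Spec (CommRingCat.of k))] (hdim : topologicalKrullDim X = 2)
    [IsProper (X ↘ Spec (CommRingCat.of k))]
    (H : X.Modules) (hHa : CohB1.IsAmple H)
    (hK : Canon.IsTopDiff (X ↘ Spec (CommRingCat.of k)) 2 (Coh.structureModule X))
    (hq : Module.finrank k (Coh.HH X (Coh.structureModule X) 1) = 0)
    [PicGrp.Law X]
    (C : Scheme.{u}) [C.Over (Spec (CommRingCat.of k))] [IsIntegral C]
    [Smooth (C ↘ Spec (CommRingCat.of k))] (hC : topologicalKrullDim C = 1)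
    (i : C ⟶ X) [IsClosedImmersion i] (hi : i ≫ (X ↘ Spec (CommRingCat.of k)) = C ↘ Spec (CommRingCat.of k))
    (hI : PicF.IsInvertible (ClSub.idealMod i.ker))
    (hgen : ∀ c : PicLoc.PicSet X, ∃ n : ℤ, c = PicGrp.cls (ClSub.idealMod i.ker) hI ^ n)
    (hfree : ∀ n : ℤ, PicGrp.cls (ClSub.idealMod i.ker) hI ^ n = 1 → n = 0)
    (A : C.Modules) (hA : PicF.IsInvertible A) :
    Module.finrank k (Coh.HH C A 0) * Module.finrank k (Coh.HH C A 1) ≤ Curv2.genus k C := by
  haveI := CurvLib.isNoetherian k (X := X)
  haveI := SurfNumLib.smoothRel_of_dim (k := k) (X := X) (n := 2) hdim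
  haveI := LMLib.isProper_curve k i hi
  rcases Nat.eq_zero_or_pos (Module.finrank k (Coh.HH C A 0)) with h0 | h0
  · rw [h0, zero_mul]
    exact Nat.zero_le _
  obtain ⟨A', q, hq', hA', hA'0, hA'1⟩ := LMLib.exists_generated_sub k hC hA rfl h0
  haveI := hq'
  obtain ⟨lam, hlam', hlam⟩ := LMLib.exists_lam k i hi (CurvLib.isCoh_of_isInvertible hA') q hA'0
  haveI := hlam'
  obtain ⟨r, ι, hι, hι'⟩ := SurfNumLib.exists_embedding (k := k) hHa
  haveI := hι
  have hFr : FlatMod.IsFinLocFreeOfRank (Module.finrank k (Coh.HH C A 0)) (kernel lam) := by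
    have := CurveVBLib.rank_genRank (LMLib.isFinLocFree_kernel_lam k hdim hC i hA' lam)
    rwa [LMLib.genRank_kernel_lam k hdim hC i hA' lam] at this
  have hle := LMLib.euler_end_le k hdim hK ι hι' hFr fun φ => by
    obtain ⟨c, hc⟩ := Groth.Agent.S18132.result k X hdim H hHa hK hq C hC i hi hI hgen hfree A' hA' _ lam hlam φ
    refine ⟨c, Scheme.Modules.hom_ext _ _ fun V => ConcreteCategory.hom_ext _ _ fun s => ?_⟩
    rw [KLin.smul_app_apply]
    exact hc V s
  rw [Groth.Agent.S18131.result k X hdim H hHa hK hq C hC i hi A' hA' _ lam hlam, hA'0] at hle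
  have h : Module.finrank k (Coh.HH C A 0) * Module.finrank k (Coh.HH C A' 1) ≤ Curv2.genus k C := by
    have h' : (Module.finrank k (Coh.HH C A 0) : ℤ) * (Module.finrank k (Coh.HH C A' 1) : ℤ) ≤ Curv2.genus k C := by
      linarith
    exact_mod_cast h'
  exact (Nat.mul_le_mul_left _ hA'1).trans h

end Groth.Agent.S18130
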