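import Groth.Statements.S18133
import Groth.Agent.LMLib.Mu
import Groth.Agent.LMLib.K3

set_option autoImplicit false
universe u
open CategoryTheory CategoryTheory.Limits AlgebraicGeometry
open ShStab

set_option backward.isDefEq.respectTransparency false
set_option backward.isDefEq.respectTransparency.types false
set_option maxHeartbeats 800000

namespace Groth.Agent.S18133

/-- Let X be a K3 surface over an algebraically closed field k of characteristic zero — an integral
scheme, smooth and proper over k, of dimension two, carrying an ample invertible module, whose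
structure sheaf is a second exterior power of its sheaf of differentials (trivial canonical sheaf)
and with H^1(X, O_X) = 0. Let i : C → X be a closed immersion over k with C integral, smooth over k
and of dimension one, whose ideal sheaf I_C is invertible with the Picard group of X infinite cyclic
generated by its class, and let H be an ample O_X-module which is a tensor inverse of I_C (the
module O_X(C)). Let A be an invertible O_C-module and lam : O_X^e → i_*A an epimorphism inducing a
bijection H^0(X, O_X^e) → H^0(X, i_*A), with kernel F (the Lazarsfeld–Mukai bundle). Then F is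
coherent with torsion-free stalks and is slope-stable of dimension 2 with respect to H: it has no
coherent submodule with one-dimensional support, and every coherent submodule whose multiplicity
lies strictly between 0 and that of F has strictly smaller slope. -/
theorem result (k : Type u) [Field k] [IsAlgClosed k] [CharZero k]
    (X : Scheme.{u}) [X.Over (Spec (CommRingCat.of k))] [IsIntegral X]
    [Smooth (X ↘ Spec (CommRingCat.of k))] (hdim : topologicalKrullDim X = 2)
    [IsProper (X ↘ Spec (CommRingCat.of k))]
    (H : X.Modules) (hHa : CohB1.IsAmple H)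
    (hK : Canon.IsTopDiff (X ↘ Spec (CommRingCat.of k)) 2 (Coh.structureModule X))
    (hq : Module.finrank k (Coh.HH X (Coh.structureModule X) 1) = 0)
    [PicGrp.Law X]
    (C : Scheme.{u}) [C.Over (Spec (CommRingCat.of k))] [IsIntegral C]
    [Smooth (C ↘ Spec (CommRingCat.of k))] (hC : topologicalKrullDim C = 1)
    (i : C ⟶ X) [IsClosedImmersion i] (hi : i ≫ (X ↘ Spec (CommRingCat.of k)) = C ↘ Spec (CommRingCat.of k))
    (hI : PicF.IsInvertible (ClSub.idealMod i.ker))
    (hgen : ∀ c : PicLoc.PicSet X, ∃ n : ℤ, c = PicGrp.cls (ClSub.idealMod i.ker) hI ^ n)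
    (hfree : ∀ n : ℤ, PicGrp.cls (ClSub.idealMod i.ker) hI ^ n = 1 → n = 0)
    (Hc : X.Modules) (hHc : ClSub.IsInverseOf Hc (ClSub.idealMod i.ker)) (hHca : CohB1.IsAmple Hc)
    (A : C.Modules) (hA : PicF.IsInvertible A) (e : ℕ)
    (lam : FlatMod.freeMod X e ⟶ (Coh.push i).obj A) [Epi lam]
    (hlam : Function.Bijective (Sheaf.H.map ((SheafOfModules.toSheaf _).map lam) 0)) :
    Coh.IsCoh (kernel lam) ∧ TorSh.IsTorsionFree (kernel lam) ∧
      ShStab.IsMuStable k X Hc (kernel lam) 2 := by
  haveI := CurvLib.isNoetherian k (X := X)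
  haveI := SurfNumLib.smoothRel_of_dim (k := k) (X := X) (n := 2) hdim
  obtain ⟨e0⟩ : ClSub.IsInverseOf Hc (ClSub.idealMod i.ker) := hHc
  have hc : PicGrp.cls (ClSub.idealMod i.ker) hI = PicGrp.cls Hc hHca.1 ^ (-1 : ℤ) := by
    rw [zpow_neg_one]
    exact eq_inv_of_mul_eq_one_left ((PicGrp.cls_mul_cls_eq_one_iff hI hHca.1).2 ⟨HilbPolyLib.swapIso _ _ ≪≫ e0⟩)
  have hg : ∀ c : PicLoc.PicSet X, ∃ n : ℤ, c = PicGrp.cls Hc hHca.1 ^ n := fun c => by
    obtain ⟨n, rfl⟩ := hgen c
    exact ⟨-n, by rw [hc, ← zpow_mul]; ring_nf⟩
  have hF := LMLib.isCoh_kernel_lam k hdim hC i hA lam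
  have htf := PicOneLib.torsionFree_of_isFinLocFree (LMLib.isFinLocFree_kernel_lam k hdim hC i hA lam)
  refine ⟨hF, htf, LMLib.isMuStable_of_bound k hdim hHca hF htf
    (LMLib.rank_pos k hdim hC i hi hA lam hI hK hHca hc hg) (LMLib.genRank_kernel_lam k hdim hC i hA lam)
    fun F j hj hFc h0 h1 => ?_⟩
  haveI := hj
  have hF0 : ¬ IsZero F := fun h => by rw [CurveVBLib.genRank_of_isZero h] at h0; omega
  have h2 := LMLib.sub_le k hdim hC i hi hA lam hI hK hHca hc hg hlam.1 hFc hF0 j
  have hα := PicOneLib.alpha_pos' k hdim hHca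
  rw [LMLib.c1_lam k hdim hC i hi hA lam hI hK hHca hc hg]
  have h1' : (CurvLib.genRank F : ℚ) + 1 ≤ e := by exact_mod_cast h1
  nlinarith

end Groth.Agent.S18133
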