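import Groth.Statements.S18134
import Groth.Agent.LMLib.End
import Groth.Agent.LMLib.Euler
import Groth.Agent.AVIndexLib.Index
import Groth.Agent.SurfNumLib.RRApps

set_option autoImplicit false
universe u
open CategoryTheory CategoryTheory.Limits AlgebraicGeometry
open Surf

set_option backward.isDefEq.respectTransparency false
set_option backward.isDefEq.respectTransparency.types false
set_option maxHeartbeats 800000

namespace Groth.Agent.S18134

/-- The step h^1 = 1: let X be a K3 surface over an algebraically closed field k of characteristic zero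
— an integral scheme, smooth and proper over k, of dimension two, carrying an ample invertible
module, whose structure sheaf is a second exterior power of its sheaf of differentials (trivial
canonical sheaf) and with H^1(X, O_X) = 0. Let i : C → X be a closed immersion over k with C
integral, smooth over k and of dimension one, A an invertible O_C-module and lam : O_X^e → i_*A an
epimorphism from the free module of rank e inducing a bijection H^0(X, O_X^e) → H^0(X, i_*A), with
kernel F (the Lazarsfeld–Mukai bundle). If F is simple, in the sense that H^0(X, Hom(F, F)) is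
one-dimensional, then H^1(X, F^∨ ⊗ i_*A) is one-dimensional, F^∨ = Hom(F, O_X) being the dual. (The
published lemma, for a K3 surface whose Picard group is generated by the class of C, asserts that
H^1 of the normal-bundle map of C in X × P(V), V = H^0(C, A), is an isomorphism; this row assumes
the simplicity that the Picard hypothesis supplies and states the cohomological equality that
assertion reduces to.) -/
theorem result (k : Type u) [Field k] [IsAlgClosed k] [CharZero k]
    (X : Scheme.{u}) [X.Over (Spec (CommRingCat.of k))] [IsIntegral X]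
    [Smooth (X ↘ Spec (CommRingCat.of k))] (hdim : topologicalKrullDim X = 2)
    [IsProper (X ↘ Spec (CommRingCat.of k))]
    (H : X.Modules) (hHa : CohB1.IsAmple H)
    (hK : Canon.IsTopDiff (X ↘ Spec (CommRingCat.of k)) 2 (Coh.structureModule X))
    (hq : Module.finrank k (Coh.HH X (Coh.structureModule X) 1) = 0)
    (C : Scheme.{u}) [C.Over (Spec (CommRingCat.of k))] [IsIntegral C]
    [Smooth (C ↘ Spec (CommRingCat.of k))] (hC : topologicalKrullDim C = 1)
    (i : C ⟶ X) [IsClosedImmersion i] (hi : i ≫ (X ↘ Spec (CommRingCat.of k)) = C ↘ Spec (CommRingCat.of k))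
    (A : C.Modules) (hA : PicF.IsInvertible A) (e : ℕ)
    (lam : FlatMod.freeMod X e ⟶ (Coh.push i).obj A) [Epi lam]
    (hlam : Function.Bijective (Sheaf.H.map ((SheafOfModules.toSheaf _).map lam) 0))
    (hsimple : Module.finrank k (Coh.HH X (RefHull.homSh (kernel lam) (kernel lam)) 0) = 1) :
    Module.finrank k (Coh.HH X (CohB1.tensorMod (RefHull.dual (kernel lam)) ((Coh.push i).obj A)) 1) = 1 := by
  haveI := CurvLib.isNoetherian k (X := X)
  haveI := SurfNumLib.smoothRel_of_dim (k := k) (X := X) (n := 2) hdim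
  haveI := LMLib.isProper_curve k i hi
  haveI := CurvLib.isNoetherian k (X := C)
  obtain ⟨r, ι, hι, hι'⟩ := SurfNumLib.exists_embedding (k := k) hHa
  haveI := hι
  let F := kernel lam
  let E := FlatMod.freeMod X e
  let Q := (Coh.push i).obj A
  have hQ : Coh.IsCoh Q := LMLib.isCoh_push i hA
  have hFf : FlatMod.IsFinLocFree F := LMLib.isFinLocFree_kernel_lam k hdim hC i hA lam
  have hF := LMLib.isCoh_kernel_lam k hdim hC i hA lam
  have hFr : FlatMod.IsFinLocFreeOfRank e F := by
    have := CurveVBLib.rank_genRank hFf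
    rwa [LMLib.genRank_kernel_lam k hdim hC i hA lam] at this
  let T : ShortComplex X.Modules := ShortComplex.mk _ _ (kernel.condition lam)
  have hT : T.ShortExact := PicOneLib.ses_kernel lam
  haveI := CurvLib.finite_HH (k := k) hF 0
  haveI := CurvLib.finite_HH (k := k) hF 1
  haveI := CurvLib.finite_HH (k := k) (DevissLib.isCoh_structureModule X) 1
  have hF0 : Module.finrank k (Coh.HH X F 0) = 0 := by
    haveI : Subsingleton (Coh.HH X F 0) := subsingleton_of_forall_eq 0 fun x => by
      refine CurvLib.injective₀ (k := k) (S := T) hT ?_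
      rw [map_zero]
      refine hlam.1 ((LinearMap.mem_ker.1 ((CurvLib.exact₂ (k := k) (S := T) hT 0).le ⟨x, rfl⟩)).trans ?_)
      exact (map_zero (CurvLib.hMap (k := k) lam 0)).symm
    exact Module.finrank_zero_of_subsingleton
  have hF1 : Module.finrank k (Coh.HH X F 1) = 0 := by
    haveI : Subsingleton (Coh.HH X E 1) := by
      haveI := (AVIndexLib.finrank_HH_free (k := k) (X := X) 1 e).1
      refine (Module.finrank_zero_iff (R := k)).1 ?_
      rw [(AVIndexLib.finrank_HH_free (k := k) (X := X) 1 e).2, hq, mul_zero]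
    haveI : Subsingleton (Coh.HH X F 1) := subsingleton_of_forall_eq 0 fun x => by
      obtain ⟨y, rfl⟩ := (CurvLib.exact₁ (k := k) (S := T) hT 0).ge
        (LinearMap.mem_ker.2 (@Subsingleton.elim (Coh.HH X E 1) _ (CurvLib.hMap (k := k) T.f 1 x) 0))
      obtain ⟨z, rfl⟩ := hlam.2 y
      exact LinearMap.mem_ker.1 ((CurvLib.exact₃ (k := k) (S := T) hT 0).le ⟨z, rfl⟩)
    exact Module.finrank_zero_of_subsingleton
  let D := ChernOpLib.du F
  have hDr : FlatMod.IsFinLocFreeOfRank e D := CycTopLib.rank_du hFr
  have hDc : Coh.IsCoh D := CurvLib.isCoh_of_locFree hDr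
  have hdual : ∀ p, p ≤ 2 → Module.finrank k (Coh.HH X D (2 - p)) = Module.finrank k (Coh.HH X F p) := fun p hp =>
    (LMLib.hh_dual k ι hι' 2 hK hFf p hp).symm
  haveI := CurvLib.finite_HH (k := k) hDc 1
  haveI := CurvLib.finite_HH (k := k) hDc 2
  haveI : Subsingleton (Coh.HH X D 1) := (Module.finrank_zero_iff (R := k)).1 ((hdual 1 (by omega)).trans hF1)
  haveI : Subsingleton (Coh.HH X D 2) := (Module.finrank_zero_iff (R := k)).1 ((hdual 0 (by omega)).trans hF0)
  have hs : (T.map (CurvLib.tensorLeft' D)).ShortExact := CurvLib.shortExact_tensor_locFree hDr hT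
  haveI : Subsingleton (Coh.HH X (CohB1.tensorMod D E) 1) :=
    (AVIndexLib.subsingleton_HH_tensor_free D 1 e).2 (Or.inr inferInstance)
  haveI : Subsingleton (Coh.HH X (CohB1.tensorMod D E) 2) :=
    (AVIndexLib.subsingleton_HH_tensor_free D 2 e).2 (Or.inr inferInstance)
  let δ : Coh.HH X (CohB1.tensorMod D Q) 1 →ₗ[k] Coh.HH X (CohB1.tensorMod D F) 2 :=
    CurvLib.hDel (k := k) (S := T.map (CurvLib.tensorLeft' D)) hs 1
  have hδ : Function.Bijective δ := by
    refine ⟨(injective_iff_map_eq_zero δ).2 fun x hx => ?_, fun y => ?_⟩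
    · obtain ⟨y, rfl⟩ := (CurvLib.exact₃ (k := k) (S := T.map (CurvLib.tensorLeft' D)) hs 1).ge
        (LinearMap.mem_ker.2 hx)
      exact (congrArg _ (@Subsingleton.elim (Coh.HH X (CohB1.tensorMod D E) 1) _ y 0)).trans (map_zero _)
    · exact (CurvLib.exact₁ (k := k) (S := T.map (CurvLib.tensorLeft' D)) hs 1).ge
        (LinearMap.mem_ker.2 (@Subsingleton.elim (Coh.HH X (CohB1.tensorMod D E) 2) _ _ _))
  obtain ⟨eD⟩ := LMLib.exists_homMod_iso_tensor hFf F
  obtain ⟨d⟩ := LMLib.exists_end_selfdual hFf
  have h2 : Module.finrank k (Coh.HH X (CohB1.tensorMod D F) 2) = 1 := by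
    show HodgeIdxLib.hh k (CohB1.tensorMod D F) 2 = 1
    rw [← HodgeIdxLib.hh_congr (k := k) eD 2, HodgeIdxLib.hh,
      LMLib.hh_dual k ι hι' 2 hK (CurveVBLib.isFinLocFree_of_rank (CycTopLib.rank_homMod hFr hFr)) 2 le_rfl]
    show HodgeIdxLib.hh k _ (2 - 2) = 1
    rw [HodgeIdxLib.hh_congr (k := k) (d ≪≫ (LMLib.homShIso F F).symm) (2 - 2)]
    exact hsimple
  show HodgeIdxLib.hh k (CohB1.tensorMod (RefHull.dual F) Q) 1 = 1
  rw [HodgeIdxLib.hh_congr (k := k) (HilbPolyLib.congrLeft (LMLib.homShIso F (Coh.structureModule X)) Q) 1]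
  exact (LinearEquiv.ofBijective δ hδ).finrank_eq.trans h2

end Groth.Agent.S18134
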