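import Groth.Statements.S18139
import Groth.Agent.EtPurEqLib.Zero
import Groth.Agent.EtPurEqLib.Chain
import Groth.Agent.EtPurLib.Alg
import Groth.Agent.EtTateLib.Depth

set_option backward.isDefEq.respectTransparency false
set_option backward.isDefEq.respectTransparency.types false
set_option synthInstance.maxHeartbeats 400000
set_option maxHeartbeats 1600000
set_option linter.all false

set_option autoImplicit false
universe u
open CategoryTheory CategoryTheory.Limits AlgebraicGeometry Opposite
open EtDual

namespace Groth.Agent.S18139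

open IsLocalRing Groth.Agent

theorem chain_of_params : ∀ (c : ℕ) (A : Type u) [CommRing A] [IsRegularLocalRing A] [HenselianLocalRing A]
    [IsSepClosed (ResidueField A)] (y : Fin c → A) (hreg : IsRegularLocalRing (A ⧸ Ideal.span (Set.range y)))
    (hdim : ringKrullDim (A ⧸ Ideal.span (Set.range y)) + (c : ℕ) = ringKrullDim A), EtPurEqLib.Chain c A y
  | 0, A, _, _, _, _, y, _, _ => CommAlgDim.isRegularRing_of_isRegularLocalRing A
  | c + 1, A, _, _, _, _, y, hreg, hdim => by
    haveI := hreg
    obtain ⟨hm, hm2⟩ := EtPurLib.first_notMem_sq y hdim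
    obtain ⟨hBr, hBh, ⟨_, hBs⟩, hBreg, hBdim⟩ := EtPurLib.quotient_first y hdim
    haveI := CommAlgDim.isDomain_of_isRegularLocalRing A
    exact ⟨CommAlgDim.isRegularRing_of_isRegularLocalRing A,
      mem_nonZeroDivisors_of_ne_zero fun h => hm2 (h ▸ zero_mem _), chain_of_params c _ _ hBreg hBdim⟩

theorem exists_zeta (A : Type u) [CommRing A] [HenselianLocalRing A] [IsSepClosed (ResidueField A)] (n : ℕ)
    (hn0 : 0 < n) (hn : IsUnit (n : A)) : ∃ ζ : A, Polynomial.aeval ζ (Polynomial.cyclotomic n ℤ) = 0 := by
  have hκ : (Polynomial.cyclotomic n (ResidueField A)).Separable :=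
    ((Polynomial.separable_X_pow_sub_C_unit (1 : (ResidueField A)ˣ)
      (by simpa using hn.map (residue A))).of_dvd (by
        simpa using Polynomial.cyclotomic.dvd_X_pow_sub_one n (ResidueField A)))
  obtain ⟨z, hz⟩ := IsSepClosed.exists_root (Polynomial.cyclotomic n (ResidueField A))
    (Polynomial.degree_cyclotomic_pos n _ hn0).ne' hκ
  obtain ⟨a₀, rfl⟩ := residue_surjective z
  have he : Polynomial.eval₂ (residue A) (residue A a₀) (Polynomial.cyclotomic n A) = 0 := by
    rw [Polynomial.eval₂_eq_eval_map, Polynomial.map_cyclotomic]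
    exact hz
  obtain ⟨a, ha, -⟩ := HenselianLocalRing.is_henselian (Polynomial.cyclotomic n A)
    (Polynomial.cyclotomic.monic n A) a₀ (by
      rw [← residue_eq_zero_iff, ← Polynomial.eval₂_at_apply]
      exact he) (by
      rw [← residue_ne_zero_iff_isUnit, ← Polynomial.eval₂_at_apply, Polynomial.eval₂_eq_eval_map,
        ← Polynomial.derivative_map, Polynomial.map_cyclotomic]
      exact hκ.eval₂_derivative_ne_zero (RingHom.id _) (by simpa using hz))
  refine ⟨a, ?_⟩
  rw [Polynomial.aeval_def, Polynomial.eval₂_eq_eval_map, Polynomial.map_cyclotomic]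
  exact ha

theorem exists_prime_field (A : Type u) [CommRing A] [IsLocalRing A]
    (hchar : ringChar A = ringChar (ResidueField A)) :
    ∃ (k : Type u) (_ : Field k) (_ : PerfectField k), Nonempty (Algebra k A) := by
  rcases Nat.eq_zero_or_pos (ringChar (ResidueField A)) with h0 | h0
  · haveI : CharP (ResidueField A) 0 := h0 ▸ ringChar.charP (ResidueField A)
    haveI : CharZero (ResidueField A) := CharP.charP_to_charZero _
    haveI : CharZero (ULift.{u} ℚ) := charZero_of_injective_algebraMap (R := ℚ) (ULift.up_injective)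
    have hu : ∀ d : ℕ+, IsUnit (((d : ℕ) : ℤ) : A) := fun d => by
      rw [← residue_ne_zero_iff_isUnit, map_intCast, Int.cast_natCast]
      exact Nat.cast_ne_zero.2 d.ne_zero
    let φ : ℚ →+* A := IsLocalization.lift (M := nonZeroDivisors ℤ) (g := Int.castRingHom A) fun d => by
      have hd : (d : ℤ) ≠ 0 := nonZeroDivisors.ne_zero d.2
      rw [← residue_ne_zero_iff_isUnit, eq_intCast, map_intCast]
      exact Int.cast_ne_zero.2 hd
    exact ⟨ULift.{u} ℚ, inferInstance, inferInstance, ⟨(φ.comp ULift.ringEquiv.toRingHom).toAlgebra⟩⟩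
  · let p := ringChar (ResidueField A)
    haveI : CharP (ResidueField A) p := ringChar.charP _
    haveI : Fact p.Prime := ⟨(CharP.char_is_prime_or_zero (ResidueField A) p).resolve_right h0.ne'⟩
    haveI : CharP A p := by
      have h := ringChar.charP A
      rw [hchar] at h
      exact h
    exact ⟨ULift.{u} (ZMod p), inferInstance, inferInstance,
      ⟨((ZMod.castHom (dvd_refl p) A).comp ULift.ringEquiv.toRingHom).toAlgebra⟩⟩

/-- Let A be a strictly henselian regular local ring of equal characteristic (A and its residue field k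
have the same characteristic) and of Krull dimension d, X = Spec A with closed point x, j : U → X
the open immersion with image X - {x}, i : Spec k → X the closed point, and n ≥ 1 an integer
invertible in A. Then X is punctually pure at x: the local cohomology sheaves H^q_x(X, Z/n) (right
derived functors of F ↦ ker(F → j_* j^* F)) vanish for q ≠ 2d, and H^{2d}_x(X, Z/n(d)) is isomorphic
to i_* of the constant sheaf Z/n. (Only the existence of the last isomorphism is asserted; the
canonical one is induced by the cycle class of x. A Noetherian regular scheme of equal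
characteristic is punctually pure at every point, which is this statement for the strict
henselizations of its local rings.) -/
theorem result (A : Type u) [CommRing A] [IsRegularLocalRing A]
    (hsh : EtCoh.IsStrictlyHenselianLocalRing A)
    (hchar : ringChar A = ringChar (IsLocalRing.ResidueField A))
    (d : ℕ) (hd : ringKrullDim A = d)
    {U : Scheme.{u}} (j : U ⟶ Spec (CommRingCat.of A)) [IsOpenImmersion j] [EtCoh.BCCont j]
    (hU : ∀ x : PrimeSpectrum A, x ∈ Set.range j.base ↔ x ≠ IsLocalRing.closedPoint A)
    [EtCoh.BCCont (Spec.map (CommRingCat.ofHom (IsLocalRing.residue A)))]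
    (n : ℕ) (hn0 : 0 < n) (hn : IsUnit (n : A)) :
    (∀ q : ℕ, q ≠ 2 * d → IsZero ((EtDual.locCoh j q).obj (EtCoh.const (Spec (CommRingCat.of A)) (ZMod n)))) ∧
      Nonempty ((EtDual.locCoh j (2 * d)).obj (EtDual.tate (Spec (CommRingCat.of A)) n d) ≅
        (EtCoh.push (Spec.map (CommRingCat.ofHom (IsLocalRing.residue A)))).obj
          (EtCoh.const (Spec (CommRingCat.of (IsLocalRing.ResidueField A))) (ZMod n))) := by
  obtain ⟨_, _⟩ := hsh
  obtain ⟨k, _, _, ⟨_⟩⟩ := exists_prime_field A hchar
  haveI : Nontrivial A := inferInstance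
  have hnk : (n : k) ≠ 0 := fun h => hn.ne_zero (by rw [← map_natCast (algebraMap k A) n, h, map_zero])
  obtain ⟨ζ, hζ⟩ := exists_zeta A n hn0 hn
  let m := maximalIdeal A
  have hrank : m.spanFinrank = d := by
    have h := IsRegularLocalRing.spanFinrank_maximalIdeal (R := A)
    rw [hd] at h
    exact_mod_cast h
  obtain ⟨s, hs, hsm⟩ := Submodule.FG.exists_span_finset_card_eq_spanFinrank (IsNoetherian.noetherian m)
  rw [hrank] at hs
  let y : Fin d → A := fun a => ((s.equivFinOfCardEq hs).symm a : A)
  have hy : Ideal.span (Set.range y) = m := by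
    rw [← hsm, Ideal.submodule_span_eq]
    refine congrArg Ideal.span (Set.ext fun r => ⟨?_, fun hr => ⟨s.equivFinOfCardEq hs ⟨r, hr⟩, by simp [y]⟩⟩)
    rintro ⟨a, rfl⟩
    exact ((s.equivFinOfCardEq hs).symm a).2
  let eq' : A ⧸ Ideal.span (Set.range y) ≃+* ResidueField A := Ideal.quotEquivOfEq hy
  haveI : IsRegularLocalRing (A ⧸ Ideal.span (Set.range y)) :=
    IsRegularLocalRing.of_ringEquiv eq'.symm
  have hdim : ringKrullDim (A ⧸ Ideal.span (Set.range y)) + (d : ℕ) = ringKrullDim A := by
    rw [ringKrullDim_eq_of_ringEquiv eq', ringKrullDim_eq_zero_of_field, zero_add, hd]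
  let X := Spec (CommRingCat.of A)
  have hj : Set.range j.base = (PrimeSpectrum.zeroLocus (Set.range y))ᶜ := by
    ext x
    rw [← PrimeSpectrum.zeroLocus_span, hy, show PrimeSpectrum.zeroLocus (m : Set A) = {closedPoint A} from
      (PrimeSpectrum.closure_singleton (closedPoint A)).symm.trans (isClosed_singleton_closedPoint A).closure_eq]
    exact hU x
  obtain ⟨e1⟩ := EtPurEqLib.chain_top k d A y (chain_of_params d A y inferInstance hdim) n hnk ζ hζ j hj
  have hu : IsUnit (n : Γ(X, ⊤)) := by
    simpa using hn.map (Scheme.ΓSpecIso (CommRingCat.of A)).inv.hom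
  obtain ⟨η, hη⟩ := EtTateLib.exists_isCst_tate (X := X) (W := EtCoh.top X) hn0 hu
    ((Scheme.ΓSpecIso (CommRingCat.of A)).inv ζ) (MuConstLib.aeval_map _ hζ) d
  obtain ⟨et⟩ := EtLocCohLib.nonempty_iso_cK_of_isCst hη
  refine ⟨fun q hq => ?_, ?_⟩
  · let i : Spec (CommRingCat.of (ResidueField A)) ⟶ X := Spec.map (CommRingCat.ofHom (residue A))
    haveI : IsClosedImmersion i := IsClosedImmersion.spec_of_surjective _ residue_surjective
    haveI : IsRegularRing A := CommAlgDim.isRegularRing_of_isRegularLocalRing A
    haveI : IsRegularRing (ResidueField A) := CommAlgDim.isRegularRing_of_isRegularLocalRing _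
    have hXreg : ∀ x : X, IsRegularLocalRing (X.presheaf.stalk x) := EtPurEqLib.regular_spec A
    have hYreg := EtPurEqLib.regular_spec (ResidueField A)
    have hpt : ∀ z, i.base z = closedPoint A := fun z => by
      haveI : IsLocalHom (residue A) := inferInstance
      rw [Subsingleton.elim z (closedPoint (ResidueField A))]
      exact IsLocalRing.comap_closedPoint (residue A)
    have hcodim : ∀ z, ringKrullDim (X.presheaf.stalk (i.base z)) =
        ringKrullDim ((Spec (CommRingCat.of (ResidueField A))).presheaf.stalk z) + (d : ℕ) := fun z => by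
      rw [hpt z]
      letI : Algebra A (X.presheaf.stalk (closedPoint A)) := StructureSheaf.stalkAlgebra A _
      haveI : IsLocalization.AtPrime (X.presheaf.stalk (closedPoint A)) (maximalIdeal A) :=
        inferInstanceAs (IsLocalization.AtPrime ((Spec.structureSheaf A).presheaf.stalk (closedPoint A)) (closedPoint A).asIdeal)
      rw [IsLocalization.AtPrime.ringKrullDim_eq_height (maximalIdeal A) (X.presheaf.stalk (closedPoint A)),
        IsLocalRing.maximalIdeal_height_eq_ringKrullDim, hd]
      have h0 : ringKrullDim ((Spec (CommRingCat.of (ResidueField A))).presheaf.stalk z) = 0 := by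
        letI : Algebra (ResidueField A) ((Spec (CommRingCat.of (ResidueField A))).presheaf.stalk z) :=
          StructureSheaf.stalkAlgebra _ z
        haveI : IsLocalization.AtPrime ((Spec (CommRingCat.of (ResidueField A))).presheaf.stalk z) z.asIdeal :=
          inferInstanceAs (IsLocalization.AtPrime ((Spec.structureSheaf _).presheaf.stalk z) z.asIdeal)
        rw [IsLocalization.AtPrime.ringKrullDim_eq_height z.asIdeal,
          show z.asIdeal = ⊥ from (Ideal.eq_bot_or_top _).resolve_right z.2.ne_top, Ideal.height_bot]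
        rfl
      rw [h0, zero_add]
    have hij : Set.range j.base = (Set.range i.base)ᶜ := by
      ext x
      rw [hU x]
      exact not_congr ⟨fun h => ⟨closedPoint _, (hpt _).trans h.symm⟩, by rintro ⟨z, rfl⟩; exact hpt z⟩
    rcases Nat.eq_zero_or_pos d with rfl | hd0
    · obtain ⟨p, rfl⟩ : ∃ p, q = p + 1 := ⟨q - 1, by omega⟩
      exact EtPurEqLib.isZero_locCoh_zero i hXreg hYreg j hij (fun z => by simpa using hcodim z) _ p
    · exact EtPurEqLib.isZero_locCoh k (Spec.map (CommRingCat.ofHom (algebraMap k A))) hXreg i hYreg j hij d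
        hcodim hd0 n hnk q hq
  · revert e1
    rw [hy]
    intro e1
    exact ⟨(EtDual.locCoh j (2 * d)).mapIso et.symm ≪≫ e1⟩

end Groth.Agent.S18139
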