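import Groth.Statements.S1815
import Groth.Agent.DRingLib.RgammaRlim

set_option autoImplicit false
universe u
open CategoryTheory CategoryTheory.Limits
attribute [local instance] HasDerivedCategory.standard
open LocCoh

namespace Groth.Agent.S1815

/-- Let I and J be ideals of a Noetherian ring A and M a finite A-module; assume RΓ_J exists as a total
right derived functor, derived I-completion exists, and D(A) has countable products. Then the
derived I-completion of RΓ_J(M) is a derived limit of the inverse system n ↦ RΓ_J(M/I^nM)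
(transition maps induced by the quotient maps), and its cohomology vanishes in negative degrees. -/
theorem result (A : Type u) [CommRing A] [IsNoetherianRing A] (I J : Ideal A) [DRing.HasRgammaI J] [DRing.HasDerivedCompletion I] [∀ K : ℕ → Dual.D A, HasProduct K] (M : Type u) [AddCommGroup M] [Module A M] [Module.Finite A M] : DCoh.IsRlim (fun n : ℕ => (DRing.RgammaI J).obj (Dual.inD A (M ⧸ (I ^ n • ⊤ : Submodule A M)))) (fun n : ℕ => (DRing.RgammaI J).map ((DerivedCategory.singleFunctor (ModuleCat.{u} A) 0).map (ModuleCat.ofHom (Submodule.mapQ (I ^ (n + 1) • ⊤ : Submodule A M) (I ^ n • ⊤ : Submodule A M) LinearMap.id (Submodule.smul_mono (Ideal.pow_le_pow_right (Nat.le_succ n)) le_rfl))))) ((DRing.derivedCompletion I).obj ((DRing.RgammaI J).obj (Dual.inD A M))).obj ∧ ∀ i : ℤ, i < 0 → Subsingleton (Dual.HD A ((DRing.derivedCompletion I).obj ((DRing.RgammaI J).obj (Dual.inD A M))).obj i) := by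
  obtain ⟨l, hl⟩ := DRingLib.exists_list_span' J
  obtain ⟨L, q, hq, a, c, hL⟩ := DRingLib.exists_isRefl_rlim J l hl I M
  obtain ⟨e, he⟩ := DRingLib.exists_iso_cF hq
  refine ⟨⟨e.inv ≫ a, c ≫ e.hom⟦(1 : ℤ)⟧', Pretriangulated.isomorphic_distinguished _ hL _
    (Pretriangulated.Triangle.isoMk _ _ e.symm (Iso.refl _) (Iso.refl _) ?_ ?_ ?_)⟩, fun i hi => ?_⟩
  · exact Category.comp_id _
  · exact (Category.comp_id _).trans (Category.id_comp _).symm
  · change (c ≫ e.hom⟦(1 : ℤ)⟧') ≫ e.inv⟦(1 : ℤ)⟧' = 𝟙 _ ≫ c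
    rw [Category.assoc, ← Functor.map_comp, Iso.hom_inv_id, CategoryTheory.Functor.map_id, Category.comp_id,
      Category.id_comp]
  · obtain ⟨R, v, hv, hR, -, -⟩ := DRingLib.exists_coref_good (I := I) (Dual.inD A M) (DRingLib.isGood_inD M) l
    obtain ⟨e', -⟩ := hv.exists_iso (DRingLib.isCoref_RgammaIε l J hl (Dual.inD A M))
    exact DCompLib.van_iff.1 (DCompLib.Van.of_iso ((DRingLib.cF I).mapIso e') (hR [] i hi))

end Groth.Agent.S1815
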