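import Groth.Statements.S18150
import Groth.Agent.FrobSplitCohLib.Coh
import Groth.Agent.PnDualLib.Embed
import Groth.Agent.CIGenLib.SmoothPts
import Groth.Agent.NormalLib.Regular
import Groth.Agent.SurfNumLib.RR
import Groth.Agent.CurveVBLib.Integral
import Groth.Agent.PnDualLib.ProjAlg

set_option autoImplicit false
universe u
open CategoryTheory AlgebraicGeometry Opposite TopologicalSpace
open FrobSch

set_option backward.isDefEq.respectTransparency false
set_option backward.isDefEq.respectTransparency.types false
set_option maxHeartbeats 800000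

namespace Groth.Agent.S18150

/-- Let p be a prime, k a perfect field of characteristic p, and X an irreducible smooth proper k-scheme
of dimension n. Let φ be the p-th power map on the sheaf of additive groups underlying O_X and
suppose X is Frobenius split: φ admits a retraction s, an additive endomorphism of O_X with s ∘ φ
the identity and s(a^p·b) = a·s(b) on every open. Then Kodaira vanishing holds on X: for every ample
invertible module L with tensor inverse L⁻¹ and every i < n, the cohomology group H^i(X, L⁻¹)
vanishes. (The source allows X Gorenstein projective; X is taken smooth, proper with an ample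
invertible module, and irreducible so that n is the dimension of every component.) -/
theorem result (p : ℕ) [Fact p.Prime]
    (k : Type u) [Field k] [CharP k p] [PerfectRing k p]
    (X : Scheme.{u}) [X.Over (Spec (CommRingCat.of k))] [IsProper (X ↘ Spec (CommRingCat.of k))]
    [Smooth (X ↘ Spec (CommRingCat.of k))] [IrreducibleSpace X] (n : ℕ) (hn : topologicalKrullDim X = n)
    (φ : Coh.toAb (Coh.structureModule X) ⟶ Coh.toAb (Coh.structureModule X))
    (hφ : ∀ (U : X.Opens) (t : Γ(X, U)), φ.hom.app (op U) t = t ^ p)
    (s : Coh.toAb (Coh.structureModule X) ⟶ Coh.toAb (Coh.structureModule X))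
    (hs : φ ≫ s = 𝟙 _)
    (hlin : ∀ (U : X.Opens) (a b : Γ(X, U)),
      s.hom.app (op U) (a ^ p * b) = a * @id Γ(X, U) (s.hom.app (op U) b))
    (L Linv : X.Modules) (hL : CohB1.IsAmple L) (hLinv : ClSub.IsInverseOf Linv L)
    (i : ℕ) (hi : i < n) :
    Subsingleton (Coh.HH X Linv i) := by
  haveI := CurvLib.isNoetherian k (X := X)
  haveI : ∀ x : X, IsDomain (X.presheaf.stalk x) := fun x =>
    haveI := CurveVBLib.regular_stalk (k := k) x; CommAlgDim.isDomain_of_isRegularLocalRing _
  haveI : IsIntegral X := CurveVBLib.isIntegral_of_connected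
  haveI := SurfNumLib.smoothRel_of_dim (k := k) (X := X) (n := n) hn
  obtain ⟨e0⟩ : ClSub.IsInverseOf Linv L := hLinv
  have hI : PicF.IsInvertible Linv :=
    CohCmpLib.isInvertible_of_inverse' hL.1 (CategoryTheory.Iso.trans (HilbPolyLib.swapIso L Linv) e0)
  have hdepth : ∀ x : X, IsClosed ({x} : Set X) →
      (n : ℕ∞) ≤ LocCoh.depth (X.presheaf.stalk x) ((Coh.structureModule X).presheaf.stalk x) := fun x hx => by
    obtain ⟨h1, h2⟩ := CIGen.closedPt_of_smooth (X ↘ Spec (CommRingCat.of k)) n x hx
    have h3 := NormalLib.le_depth_self_of_isRegularLocalRing (X.presheaf.stalk x)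
    rw [h2] at h3
    exact (WithBot.coe_le_coe.1 h3).trans_eq (CommAlgDim.depth_congr (CurvLib.stalkStructureEquiv x)).symm
  obtain ⟨m₀, hm⟩ := PnDualLib.exists_vanishing_ample_neg k hL
    (show ClSub.IsInverseOf L Linv from ⟨HilbPolyLib.swapIso L Linv ≪≫ e0⟩) (Coh.structureModule X)
    (DevissLib.isCoh_structureModule X) n hdepth
  have hiter : ∀ j : ℕ, Module.finrank k (Coh.HH X Linv i) ≤
      Module.finrank k (Coh.HH X (CohB1.tensorPow Linv (p ^ j)) i) := fun j => by
    induction j with
    | zero => exact le_of_eq (CurvLib.hIso (k := k) (HilbPolyLib.unitLeft Linv).symm i).finrank_eq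
    | succ j ih =>
      refine ih.trans ((FrobSplitCohLib.finrank_le p k φ s hφ hs hlin
        (AmpleThLib.tensorPow_isInvertible hI (p ^ j)) i).trans (le_of_eq ?_))
      exact (CurvLib.hIso (k := k) ((AmpleThLib.exists_powIso hI (p ^ j) p).choose ≪≫
        eqToIso (by rw [pow_succ])) i).finrank_eq
  haveI := hm (p ^ m₀) (Nat.lt_pow_self (Fact.out : p.Prime).one_lt).le i hi
  have h0 : Module.finrank k (Coh.HH X (CohB1.tensorPow Linv (p ^ m₀)) i) = 0 := by
    rw [← (CurvLib.hIso (k := k) (HilbPolyLib.unitLeft (CohB1.tensorPow Linv (p ^ m₀))) i).finrank_eq,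
      Module.finrank_zero_of_subsingleton]
  haveI := CurvLib.finite_HH (k := k) (CurvLib.isCoh_of_isInvertible hI) i
  exact (Module.finrank_zero_iff (R := k)).1 (Nat.le_zero.1 (h0 ▸ hiter m₀))

end Groth.Agent.S18150
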