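import Groth.Statements.S18153
import Groth.Agent.S18154
import Mathlib.Algebra.MvPolynomial.PDeriv

set_option autoImplicit false
universe u w
open FrobAlg

namespace Groth.Agent.S18153

/-- Let R be a commutative ring of prime characteristic p and f_1, …, f_m (m ≥ 1) polynomials over R in
the variables t_1, …, t_m and a further, possibly empty, family of variables s_a. Then in the m × m
Jacobian determinant det(∂f_i/∂t_j) with respect to the t-variables, the coefficient of the monomial
t_1^{p-1} ⋯ t_m^{p-1} (all s-exponents zero) vanishes. (In the source this is the claim, for formal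
power series in n ≥ m variables over the base field, to which the proof of the proposition reduces;
the coefficient in question only involves truncations of the f_i, so the polynomial form over any
ring of characteristic p is the same assertion.) -/
theorem result
    (p : ℕ) [Fact p.Prime] (R : Type u) [CommRing R] [CharP R p]
    {m : ℕ} (hm : 0 < m) (σ : Type w) (f : Fin m → MvPolynomial (Fin m ⊕ σ) R) :
    MvPolynomial.coeff
        (Finsupp.sumElim (Finsupp.equivFunOnFinite.symm fun _ : Fin m => p - 1) (0 : σ →₀ ℕ))
        (Matrix.of fun i j : Fin m => MvPolynomial.pderiv (Sum.inl j) (f i)).det = 0 := by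
  classical
  obtain ⟨i₀⟩ : Nonempty (Fin m) := ⟨⟨0, hm⟩⟩
  let δ : Fin m → Derivation R (MvPolynomial (Fin m ⊕ σ) R) (MvPolynomial (Fin m ⊕ σ) R) :=
    fun j => MvPolynomial.pderiv (Sum.inl j)
  let M : Matrix (Fin m) (Fin m) (MvPolynomial (Fin m ⊕ σ) R) := Matrix.of fun i j => δ j (f i)
  have hcomm : ∀ (i j : Fin m) (g : MvPolynomial (Fin m ⊕ σ) R), δ i (δ j g) = δ j (δ i g) := fun i j g => by
    refine MvPolynomial.ext _ _ fun e => ?_
    simp only [δ, MvPolynomial.coeff_pderiv]
    rcases eq_or_ne i j with rfl | hij
    · rfl
    · rw [add_right_comm e]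
      simp [Finsupp.single_apply, hij, Ne.symm hij]
      ring
  have hdiv := Groth.Agent.S18154.sum_cofactor_eq_zero δ M i₀ (fun r j l _ => hcomm j l (f r))
  have hdet : M.det = ∑ j, δ j (f i₀ * (M.updateRow i₀ (Pi.single j 1)).det) := by
    conv_lhs => rw [← M.updateRow_eq_self i₀, Groth.Agent.S18154.det_updateRow_sum_single]
    simp only [Derivation.leibniz, smul_eq_mul, Finset.sum_add_distrib, ← Finset.mul_sum, hdiv, mul_zero, zero_add]
    exact Finset.sum_congr rfl fun j _ => mul_comm _ _
  change MvPolynomial.coeff _ M.det = 0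
  rw [hdet, MvPolynomial.coeff_sum]
  refine Finset.sum_eq_zero fun j _ => ?_
  rw [show δ j _ = MvPolynomial.pderiv (Sum.inl j) _ from rfl, MvPolynomial.coeff_pderiv]
  refine mul_eq_zero_of_right _ ?_
  rw [Finsupp.sumElim_inl, Finsupp.equivFunOnFinite_symm_apply_apply, ← Nat.cast_one (R := R), ← Nat.cast_add,
    Nat.sub_add_cancel (Fact.out : p.Prime).one_le, CharP.cast_eq_zero]

end Groth.Agent.S18153
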