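import Groth.Statements.S18155
import Groth.Agent.TransLib.LiftSmooth
import Groth.Agent.W2LiftL.Basic
import Mathlib.RingTheory.Smooth.Flat

set_option autoImplicit false
universe u v
open FrobAlg

namespace Groth.Agent.S18155

theorem exists_semilinear_lift {R B C : Type v} [CommRing R] [CommRing B] [CommRing C] [Algebra R B]
    [Algebra.FormallySmooth R B] (j : R →+* C) (K : Ideal C) (hK : IsNilpotent K) (φ : B →+* C ⧸ K)
    (h : φ.comp (algebraMap R B) = (Ideal.Quotient.mk K).comp j) :
    ∃ Φ : B →+* C, Φ.comp (algebraMap R B) = j ∧ (Ideal.Quotient.mk K).comp Φ = φ := by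
  letI := j.toAlgebra
  let φa : B →ₐ[R] C ⧸ K := { φ with commutes' := fun r => RingHom.congr_fun h r }
  exact ⟨(Algebra.FormallySmooth.lift K hK φa).toRingHom,
    RingHom.ext fun r => (Algebra.FormallySmooth.lift K hK φa).commutes r,
    RingHom.ext fun b => AlgHom.congr_fun (Algebra.FormallySmooth.comp_lift K hK φa) b⟩

/-- The p-th power map when p = 0. -/
def powHom (p : ℕ) [Fact p.Prime] (A : Type v) [CommRing A] (h : (p : A) = 0) : A →+* A where
  toFun a := a ^ p
  map_one' := one_pow _
  map_mul' a b := mul_pow _ _ _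
  map_zero' := zero_pow (Fact.out : p.Prime).pos.ne'
  map_add' a b := by
    rcases subsingleton_or_nontrivial A with hA | hA
    · exact Subsingleton.elim _ _
    haveI : CharP A p := (CharP.charP_iff_prime_eq_zero Fact.out).mpr h
    exact add_pow_char a b p

/-- Let k be an algebraically closed field of characteristic p, A a commutative k-algebra and C an étale
A-algebra. If A admits a flat lifting over W_2(k) together with a lift of Frobenius, then so does C.
(The source states this for an étale cover Y → X of smooth varieties over k; its argument uses only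
that Y is étale over X, and the affine case is stated here with no smoothness or finiteness
hypothesis on A over k.) -/
theorem result
    (p : ℕ) [Fact p.Prime] (k : Type u) [Field k] [IsAlgClosed k] [CharP k p]
    (A C : Type v) [CommRing A] [CommRing C] [Algebra k A] [Algebra k C]
    [Algebra A C] [IsScalarTower k A C] [Algebra.Etale A C]
    (hA : FrobAlg.IsFLiftable p k A) : FrobAlg.IsFLiftable p k C := by
  obtain ⟨B, _, ιB, πB, ΦB, hΦB⟩ := hA
  let I : Ideal B := RingHom.ker πB
  let e₀ : (B ⧸ I) ≃+* A := RingHom.quotientKerEquivOfSurjective hΦB.surj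
  letI algI : Algebra (B ⧸ I) C := ((algebraMap A C).comp e₀.toRingHom).toAlgebra
  letI algIA : Algebra (B ⧸ I) A := e₀.toRingHom.toAlgebra
  haveI : IsScalarTower (B ⧸ I) A C := IsScalarTower.of_algebraMap_eq fun _ => rfl
  haveI : Algebra.Smooth (B ⧸ I) A :=
    Algebra.Smooth.of_equiv (AlgEquiv.ofRingEquiv (f := e₀) fun _ => rfl)
  haveI : Algebra.Smooth A C := inferInstance
  haveI : Algebra.Smooth (B ⧸ I) C := Algebra.Smooth.comp (B ⧸ I) A C
  obtain ⟨D, _, _, hD, ⟨e⟩⟩ := TransLib.exists_smooth_lift (A₀ := C) I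
  haveI := hD
  let K : Ideal D := I.map (algebraMap B D)
  let π : D →+* C := e.toAlgHom.toRingHom.comp (Ideal.Quotient.mk K)
  let ι : FrobAlg.W2 p k →+* D := (algebraMap B D).comp ιB
  have hker : RingHom.ker π = K := Ideal.ext fun b =>
    ⟨fun hb => Ideal.Quotient.eq_zero_iff_mem.mp (e.injective (hb.trans (map_zero e).symm)),
      fun hb => (congrArg e (Ideal.Quotient.eq_zero_iff_mem.mpr hb)).trans (map_zero e)⟩
  have hπ : ∀ b, π (algebraMap B D b) = algebraMap A C (πB b) := fun b => e.commutes (Ideal.Quotient.mk I b)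
  have hKnil : IsNilpotent K := by
    refine ⟨2, ?_⟩
    change (I.map (algebraMap B D)) ^ 2 = ⊥
    rw [← Ideal.map_pow, show I ^ 2 = ⊥ from ?_, Ideal.map_bot]
    rw [show I = RingHom.ker πB from rfl, hΦB.ker_eq, W2LiftLib.ker_res, ← Ideal.map_pow,
      Ideal.span_singleton_pow, pow_two, W2LiftLib.natCast_sq, Ideal.span_singleton_eq_bot.mpr rfl, Ideal.map_bot]
  let φ : C →+* C := powHom p C (by
    rw [← map_natCast (algebraMap k C) p, CharP.cast_eq_zero, map_zero])
  let eC : D ⧸ K ≃+* C := e.toRingEquiv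
  obtain ⟨Φ, hΦι, hΦ⟩ := exists_semilinear_lift (R := B) (B := D) ((algebraMap B D).comp ΦB) K hKnil
    (eC.symm.toRingHom.comp (φ.comp π)) (RingHom.ext fun b => eC.injective (by
      change eC (eC.symm (φ (π (algebraMap B D b)))) = π (algebraMap B D (ΦB b))
      rw [eC.apply_symm_apply, hπ, hπ, hΦB.red, map_pow]
      rfl))
  refine ⟨D, inferInstance, ι, π, Φ, ⟨⟨RingHom.Flat.comp hΦB.flat (RingHom.flat_algebraMap_iff.mpr inferInstance),
    e.surjective.comp Ideal.Quotient.mk_surjective, ?_, ?_⟩, ?_, fun b => ?_⟩⟩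
  · rw [hker]
    change I.map (algebraMap B D) = _
    rw [show I = RingHom.ker πB from rfl, hΦB.ker_eq, Ideal.map_map]
  · ext w
    change π (algebraMap B D (ιB w)) = algebraMap k C (FrobAlg.res p k w)
    rw [hπ, ← RingHom.comp_apply πB ιB, hΦB.comm, RingHom.comp_apply, ← IsScalarTower.algebraMap_apply]
  · change Φ.comp ((algebraMap B D).comp ιB) = ((algebraMap B D).comp ιB).comp (FrobAlg.sigma p k)
    rw [← RingHom.comp_assoc, hΦι, RingHom.comp_assoc, hΦB.semi, RingHom.comp_assoc]
  · change eC (Ideal.Quotient.mk K (Φ b)) = _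
    rw [← RingHom.comp_apply (Ideal.Quotient.mk K) Φ, hΦ]
    exact (eC.apply_symm_apply _).trans rfl

end Groth.Agent.S18155
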