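import Groth.Statements.S18156
import Mathlib.RingTheory.AdicCompletion.Algebra
import Mathlib.RingTheory.Derivation.Basic

set_option autoImplicit false
universe u v
open CAlg

namespace Groth.Agent.S18156

/-- Let k be a field and A a regular local ring that is a k-algebra, with maximal ideal m and m-adic
completion Â. Then every k-derivation D of A into itself extends to a k-derivation D̂ of Â into
itself along the canonical map ρ : A → Â, in the sense that D̂(ρ(a)) = ρ(D(a)) for every a ∈ A. (The
source works throughout over an algebraically closed field of characteristic p; neither assumption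
enters this statement.) -/
theorem result
    (k : Type u) [Field k] (A : Type v) [CommRing A] [Algebra k A] [IsRegularLocalRing A]
    (D : Derivation k A A) :
    ∃ Dhat : Derivation k (AdicCompletion (IsLocalRing.maximalIdeal A) A)
        (AdicCompletion (IsLocalRing.maximalIdeal A) A),
      ∀ a : A, Dhat (algebraMap A (AdicCompletion (IsLocalRing.maximalIdeal A) A) a) =
        algebraMap A (AdicCompletion (IsLocalRing.maximalIdeal A) A) (D a) := by
  classical
  set m := IsLocalRing.maximalIdeal A
  have htop : ∀ n, (m ^ n • ⊤ : Submodule A A) = m ^ n := fun n => by rw [smul_eq_mul, Ideal.mul_top]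
  have hD : ∀ (n : ℕ) (a : A), a ∈ m ^ (n + 1) → D a ∈ m ^ n := by
    intro n
    induction n with
    | zero => exact fun a _ => by simp
    | succ n ih =>
      intro a ha
      rw [pow_succ'] at ha
      induction ha using Submodule.mul_induction_on' with
      | mem_mul_mem b hb c hc =>
        rw [D.leibniz, smul_eq_mul, smul_eq_mul]
        refine add_mem ?_ (Ideal.mul_mem_right _ _ hc)
        rw [pow_succ']
        exact Ideal.mul_mem_mul hb (ih c hc)
      | add b _ c _ hb hc => rw [map_add]; exact add_mem hb hc
  choose rep hrep using fun (x : AdicCompletion m A) (n : ℕ) => Submodule.mkQ_surjective _ (x.1 n)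
  have key : ∀ (n : ℕ) (a b : A), Submodule.mkQ (m ^ (n + 1) • ⊤ : Submodule A A) a = Submodule.mkQ _ b →
      Submodule.mkQ (m ^ n • ⊤ : Submodule A A) (D a) = Submodule.mkQ _ (D b) := by
    intro n a b h
    rw [Submodule.mkQ_apply, Submodule.mkQ_apply, Submodule.Quotient.eq, htop] at h ⊢
    rw [← map_sub]
    exact hD n _ h
  have hcompat : ∀ (x : AdicCompletion m A) {i j : ℕ} (hij : i ≤ j),
      Submodule.mkQ (m ^ (i + 1) • ⊤ : Submodule A A) (rep x (j + 1)) = x.1 (i + 1) := fun x i j hij => by
    rw [← x.2 (show i + 1 ≤ j + 1 by omega), ← hrep x (j + 1)]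
    rfl
  let F : AdicCompletion m A → AdicCompletion m A := fun x =>
    ⟨fun n => Submodule.mkQ _ (D (rep x (n + 1))), fun {i j} hij => by
      show Submodule.mkQ (m ^ i • ⊤ : Submodule A A) (D (rep x (j + 1))) = _
      exact key i _ _ ((hcompat x hij).trans (hrep x (i + 1)).symm)⟩
  have hF : ∀ (x : AdicCompletion m A) (n : ℕ) (a : A), Submodule.mkQ _ a = x.1 (n + 1) →
      (F x).1 n = Submodule.mkQ _ (D a) := fun x n a ha => key n _ _ ((hrep x (n + 1)).trans ha.symm)
  have hadd : ∀ x y, F (x + y) = F x + F y := fun x y => AdicCompletion.ext fun n => by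
    rw [AdicCompletion.val_add_apply, hF (x + y) n (rep x (n + 1) + rep y (n + 1))
      (by rw [map_add, hrep, hrep, AdicCompletion.val_add_apply]), map_add, map_add]
  have hsmul : ∀ (c : k) x, F (c • x) = c • F x := fun c x => AdicCompletion.ext fun n => by
    rw [hF (c • x) n (c • rep x (n + 1)) (by
      rw [LinearMap.map_smul_of_tower, hrep]; rfl), D.map_smul, LinearMap.map_smul_of_tower]
    rfl
  refine ⟨Derivation.mk' { toFun := F, map_add' := hadd, map_smul' := hsmul } (fun x y => ?_), fun a => ?_⟩
  · refine AdicCompletion.ext fun n => ?_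
    show (F (x * y)).1 n = (x * F y + y * F x).1 n
    rw [hF (x * y) n (rep x (n + 1) * rep y (n + 1)) (by
      rw [AdicCompletion.val_mul, ← hrep x, ← hrep y]; rfl)]
    rw [AdicCompletion.val_add_apply, AdicCompletion.val_mul, AdicCompletion.val_mul, D.leibniz, map_add,
      hF x n _ (hrep x (n + 1)), hF y n _ (hrep y (n + 1)),
      ← x.2 (show n ≤ n + 1 by omega), ← y.2 (show n ≤ n + 1 by omega), ← hrep x, ← hrep y]
    rfl
  · refine AdicCompletion.ext fun n => ?_
    exact hF _ n a rfl

end Groth.Agent.S18156
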