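import Groth.Statements.S18158
import Groth.Agent.EtInvLib.Local
import Groth.Agent.W2LiftL.Basic

set_option autoImplicit false
universe u
open CategoryTheory CategoryTheory.Limits AlgebraicGeometry
open Lift

namespace Groth.Agent.S18158

/-- Let k be an algebraically closed field of characteristic p and q : Y → X an étale morphism to a
smooth k-scheme X. Suppose X has a W_2-lifting of its Frobenius: a scheme X~ flat over Spec W_2(k),
a morphism i : X → X~ making X the base change of X~ along Spec k → Spec W_2(k) (the residue map),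
and an endomorphism F~ of X~ with i ∘ F_X = F~ ∘ i, F_X the absolute Frobenius. Then Y has one as
well: there are a scheme Y~ flat over Spec W_2(k), a morphism j : Y → Y~ making Y the base change of
Y~ along the same map, and an endomorphism G~ of Y~ with j ∘ F_Y = G~ ∘ j. (The source speaks of an
étale cover Y → X of smooth varieties; its argument uses only that Y is étale over X and that X
lifts, so X is taken smooth over k and Y étale over X, with no integrality, separatedness or
quasi-compactness assumed.) -/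
theorem result
    (p : ℕ) [Fact p.Prime] (k : Type u) [Field k] [IsAlgClosed k] [CharP k p]
    (X Y : Scheme.{u}) (f : X ⟶ Spec (CommRingCat.of k)) [Smooth f]
    (q : Y ⟶ X) [AlgebraicGeometry.Etale q]
    [FrobSch.IsCharP X p] [FrobSch.IsCharP Y p]
    (Xl : Scheme.{u}) (g : Xl ⟶ Spec (CommRingCat.of (FrobAlg.W2 p k))) [Flat g]
    (i : X ⟶ Xl) (hsq : IsPullback i f g (Spec.map (CommRingCat.ofHom (FrobAlg.res p k))))
    (Fl : Xl ⟶ Xl) (hF : i ≫ Fl = FrobSch.frob X p ≫ i) :
    ∃ (Yl : Scheme.{u}) (gY : Yl ⟶ Spec (CommRingCat.of (FrobAlg.W2 p k))) (j : Y ⟶ Yl) (Gl : Yl ⟶ Yl),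
      Flat gY ∧ IsPullback j (q ≫ f) gY (Spec.map (CommRingCat.ofHom (FrobAlg.res p k))) ∧
        j ≫ Gl = FrobSch.frob Y p ≫ j := by
  have hres : Function.Surjective (FrobAlg.res p k) := fun a =>
    ⟨WittVector.truncate 2 (WittVector.teichmuller p a), by rw [FrobAlg.res_truncate, WittVector.teichmuller_coeff_zero]⟩
  let r := Spec.map (CommRingCat.ofHom (FrobAlg.res p k))
  haveI hrc : IsClosedImmersion r := IsClosedImmersion.spec_of_surjective _ hres
  haveI hrs : Surjective r := by
    refine ⟨fun w => ?_⟩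
    refine ⟨(⟨⊥, Ideal.isPrime_bot⟩ : PrimeSpectrum k), PrimeSpectrum.ext (Ideal.ext fun x => ?_)⟩
    change FrobAlg.res p k x ∈ (⊥ : Ideal k) ↔ x ∈ w.asIdeal
    rw [Ideal.mem_bot]
    constructor
    · intro hx
      refine w.2.mem_of_pow_mem 2 ?_
      have : x ∈ RingHom.ker (FrobAlg.res p k) := hx
      rw [W2LiftLib.ker_res, Ideal.mem_span_singleton'] at this
      obtain ⟨y, rfl⟩ := this
      rw [mul_pow, pow_two (p : FrobAlg.W2 p k), W2LiftLib.natCast_sq, mul_zero]
      exact Ideal.zero_mem _
    · intro hx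
      by_contra hne
      rcases W2LiftLib.dichotomy x with hu | ⟨y, rfl⟩
      · exact w.2.ne_top (Ideal.eq_top_of_isUnit_mem _ hx hu)
      · exact hne (by rw [map_mul, map_natCast, CharP.cast_eq_zero, mul_zero])
  haveI : IsClosedImmersion i := MorphismProperty.of_isPullback (P := @IsClosedImmersion) hsq.flip hrc
  haveI : Surjective i := MorphismProperty.of_isPullback (P := @Surjective) hsq.flip hrs
  obtain ⟨Yl, pl, Φ, hpl, hΦ⟩ := EtInvLib.exists_lift_of_local (EtInvLib.exists_liftData i q)
  haveI : IsClosedImmersion Φ := MorphismProperty.of_isPullback (P := @IsClosedImmersion) hΦ.flip ‹_›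
  haveI : Surjective Φ := MorphismProperty.of_isPullback (P := @Surjective) hΦ.flip ‹_›
  obtain ⟨Gl, ⟨hGl, -⟩, -⟩ := EtInvLib.existsUnique_hom pl (pl ≫ Fl) Φ (FrobSch.frob Y p ≫ Φ) (by
    rw [Category.assoc, hΦ.w, ← Category.assoc, FrobSch.frob_comp, Category.assoc, ← hF, ← Category.assoc,
      ← hΦ.w, Category.assoc])
  exact ⟨Yl, pl ≫ g, Φ, Gl, inferInstance, hΦ.paste_vert hsq, hGl⟩

end Groth.Agent.S18158
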