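import Groth.Statements.S18160
import Mathlib
import Groth.Agent.EtTwoLib.FrobCoker
import Groth.Agent.CurveVBLib.Basic
import Groth.Agent.GenusOneSSLib.Basic
import Groth.Agent.CommAlgDim.Regular
-- import your own Groth.Agent.* helpers here

set_option autoImplicit false
universe u
open CategoryTheory CategoryTheory.Limits AlgebraicGeometry
open FrobSch

namespace Groth.Agent.S18160

/-- Let k be an algebraically closed field of odd characteristic p, X a smooth, proper, integral
k-scheme and f : Y → X a finite étale morphism of degree 2, that is with f_*O_Y locally free of rank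
2 (a Galois cover with group of order 2; 2 divides p − 1). For a scheme Z of characteristic p write
B¹_Z for the cokernel, in O_Z-modules, of the unit O_Z → F_{Z*}O_Z of the absolute Frobenius F_Z. If
H^i(Y, B¹_Y) vanishes for every i, then H^i(X, B¹_X) vanishes for every i. (The source's cases (2)
and (3), cyclic covers of degree 3 and 4 with 3, resp. 4, dividing p − 1, are not stated here.) -/
theorem result
    (p : ℕ) [Fact p.Prime] (hp : p ≠ 2) (k : Type u) [Field k] [IsAlgClosed k] [CharP k p]
    (X Y : Scheme.{u}) (g : X ⟶ Spec (CommRingCat.of k)) [IsProper g] [Smooth g] [AlgebraicGeometry.IsIntegral X]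
    (f : Y ⟶ X) [IsFinite f] [AlgebraicGeometry.Etale f]
    (h2 : FlatMod.IsFinLocFreeOfRank 2 ((Scheme.Modules.pushforward f).obj (Coh.structureModule Y)))
    [FrobSch.IsCharP X p] [FrobSch.IsCharP Y p]
    (hY : ∀ i : ℕ, Subsingleton (Coh.HH Y (cokernel (ClSub.unitToPush (FrobSch.frob Y p))) i)) :
    ∀ i : ℕ, Subsingleton (Coh.HH X (cokernel (ClSub.unitToPush (FrobSch.frob X p))) i) := by
  classical
  letI : X.Over (Spec (CommRingCat.of k)) := ⟨g⟩
  haveI : IsProper (X ↘ Spec (CommRingCat.of k)) := ‹IsProper g›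
  haveI : Smooth (X ↘ Spec (CommRingCat.of k)) := ‹Smooth g›
  haveI := CurvLib.isNoetherian k (X := X)
  letI : Y.Over (Spec (CommRingCat.of k)) := ⟨f ≫ g⟩
  haveI : Smooth (Y ↘ Spec (CommRingCat.of k)) := inferInstanceAs (Smooth (f ≫ g))
  haveI : ∀ y : Y, _root_.IsReduced (Y.presheaf.stalk y) := fun y => by
    haveI := CurveVBLib.regular_stalk (k := k) y
    haveI := CommAlgDim.isDomain_of_isRegularLocalRing (Y.presheaf.stalk y)
    infer_instance
  haveI : IsReduced Y := isReduced_of_isReduced_stalk Y
  have hk : ∀ c : k, ∃ d : k, d ^ p = c := fun c => IsAlgClosed.exists_pow_nat_eq c (Fact.out : p.Prime).pos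
  have h2k : ((2 : ℕ) : k) ≠ 0 := fun h => by
    have hd := (CharP.cast_eq_zero_iff k p 2).mp h
    exact hp ((Nat.prime_dvd_prime_iff_eq Fact.out Nat.prime_two).mp hd)
  obtain ⟨τ, hτ⟩ := EtTwoLib.exists_trace h2
  intro i
  refine EtTwoLib.subsingleton_coker_of_injective (k := k) p hk (fun j => ?_) i
  refine EtTwoLib.injective_of_cover (k := k) p f (((2 : ℕ) : k)⁻¹ • τ) ?_ hY j
  rw [Linear.comp_smul, hτ, ← Int.cast_smul_eq_zsmul k, smul_smul, Int.cast_natCast, inv_mul_cancel₀ h2k, one_smul]

end Groth.Agent.S18160
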