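import Groth.Statements.S18162
import Groth.Agent.PairVanLib.Main

set_option autoImplicit false
universe u
open BSB

namespace Groth.Agent.S18162

open AlgebraicGeometry CategoryTheory CategoryTheory.Limits in
/-- Let S be a Noetherian scheme, π : X ⟶ S a proper morphism, L and M invertible O_X-modules each ample
relative to π, and F a coherent O_X-module. Then there is n such that R^i π_* (F ⊗ L^a ⊗ M^b) = 0
for every i > 0 and all a, b ≥ 0 with max(a, b) ≥ n. (Projectivity of π in the source is rendered as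
properness together with the given relatively ample invertible modules; the instance argument
recording injective resolutions of O_X-modules is true but not yet in Mathlib.) -/
theorem result {X S : Scheme.{u}} (π : X ⟶ S) [IsNoetherian S] [IsProper π]
    [HasInjectiveResolutions X.Modules]
    (L M : X.Modules) (hLi : PicF.IsInvertible L) (hMi : PicF.IsInvertible M)
    (hL : RelAmple.IsRelAmple π L) (hM : RelAmple.IsRelAmple π M)
    (F : X.Modules) (hF : Coh.IsCoh F) :
    ∃ n : ℕ, ∀ (i a b : ℕ), 0 < i → n ≤ max a b →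
      IsZero ((Coh.Rpush π i).obj (CohB1.tensorMod F (CohB1.tensorMod (CohB1.tensorPow L a) (CohB1.tensorPow M b)))) := by
  haveI : IsLocallyNoetherian X := LocallyOfFiniteType.isLocallyNoetherian π
  have hloc : ∀ W : S.affineOpens, ∃ n₀ : ℕ, ∀ a b : ℕ, n₀ ≤ max a b → ∀ p : ℕ, 0 < p →
      Subsingleton (Coh.HHon X (CohB1.tensorMod F (CohB1.tensorMod (CohB1.tensorPow L a) (CohB1.tensorPow M b)))
        (π ⁻¹ᵁ W.1) p) := by
    intro W
    haveI : IsNoetherianRing Γ(S, W.1) := IsLocallyNoetherian.component_noetherian W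
    haveI : IsProper (π ∣_ W.1) := IsZariskiLocalAtTarget.restrict ‹_› W.1
    haveI : IsProper (RpushLib.overW π W.2) := by unfold RpushLib.overW; infer_instance
    haveI : CompactSpace ((π ⁻¹ᵁ W.1) : Scheme.{u}) :=
      isCompact_iff_compactSpace.mp (π.isCompact_preimage W.2.isCompact)
    haveI : IsLocallyNoetherian ((π ⁻¹ᵁ W.1) : Scheme.{u}) :=
      LocallyOfFiniteType.isLocallyNoetherian (π ⁻¹ᵁ W.1).ι
    haveI : AlgebraicGeometry.IsNoetherian ((π ⁻¹ᵁ W.1) : Scheme.{u}) := {}
    haveI := hF.1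
    have hLW := AmpleThLib.restrict_isInvertible hLi (π ⁻¹ᵁ W.1).ι
    have hMW := AmpleThLib.restrict_isInvertible hMi (π ⁻¹ᵁ W.1).ι
    obtain ⟨n₀, hn₀⟩ := PairVanLib.exists_bound_max hLW hMW
      (fun G hG => SerreVanLib.exists_vanishing (RpushLib.overW π W.2) hLW (hL.2 W) G hG)
      (fun G hG => SerreVanLib.exists_vanishing (RpushLib.overW π W.2) hMW (hM.2 W) G hG)
      (hL.2 W) (hM.2 W) (F.restrict (π ⁻¹ᵁ W.1).ι) ⟨inferInstance, RpushLib.isFT_restrict hF.2 _⟩
    refine ⟨n₀, fun a b hab p hp => SerreVanLib.subsingleton_HH_of_iso ?_ p (hn₀ a b hab p hp)⟩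
    exact (Scheme.Modules.restrictFunctor (π ⁻¹ᵁ W.1).ι).mapIso (HilbPolyLib.assocIso F _ _).symm ≪≫
      (SerreVanLib.nonempty_restrict_pow_iso (π ⁻¹ᵁ W.1) (CohB1.tensorMod F (CohB1.tensorPow L a)) hMi b).some ≪≫
      HilbPolyLib.congrLeft (SerreVanLib.nonempty_restrict_pow_iso (π ⁻¹ᵁ W.1) F hLi a).some _ ≪≫
      HilbPolyLib.assocIso _ _ _
  choose n₀ hn₀ using hloc
  obtain ⟨t, ht⟩ := isCompact_univ.elim_finite_subcover (fun W : S.affineOpens => (W.1 : Set S))
    (fun W => W.1.2) fun y _ => by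
      obtain ⟨W, hW, hy, -⟩ := TopologicalSpace.Opens.isBasis_iff_nbhd.mp S.isBasis_affineOpens
        (show y ∈ (⊤ : S.Opens) from trivial)
      exact Set.mem_iUnion.mpr ⟨⟨W, hW⟩, hy⟩
  refine ⟨t.sum n₀, fun i a b hi hab => ?_⟩
  let N := CohB1.tensorMod F (CohB1.tensorMod (CohB1.tensorPow L a) (CohB1.tensorPow M b))
  haveI : Coh.IsQCoh N := (SerreVanLib.isCoh_tensor hF (HilbPolyLib.isInvertible_tensor
    (AmpleThLib.tensorPow_isInvertible hLi a) (AmpleThLib.tensorPow_isInvertible hMi b))).1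
  haveI := RpushLib.isQCoh_Rpush π N i
  refine KFlatLib.isZero_of_stalks fun y => ?_
  obtain ⟨W, hWt, hy⟩ := Set.mem_iUnion₂.mp (ht (Set.mem_univ y))
  have := hn₀ W a b ((Finset.single_le_sum (fun _ _ => Nat.zero_le _) hWt).trans hab) i hi
  have hsec : Subsingleton Γ((Coh.Rpush π i).obj N, W.1) :=
    (RpushLib.rpushSectionsEquiv π N i W.2).injective.subsingleton
  exact SerreVanLib.subsingleton_stalk_of_sections ((Coh.Rpush π i).obj N) W.2 hsec hy

end Groth.Agent.S18162
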