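import Groth.Statements.S1817
import Groth.Agent.DRingLib.Rgamma

set_option autoImplicit false
universe u
open CategoryTheory
attribute [local instance] HasDerivedCategory.standard
open LocCoh

namespace Groth.Agent.S1817

/-- First statement, for a Noetherian ring (where the functor with supports in V(I) is RΓ_I). Let A be a
Noetherian ring and I an ideal, and assume RΓ_I exists as a total right derived functor. Then every
RΓ_I(K) has I-power torsion cohomology modules, and the resulting functor from D(A) to the full
subcategory of such objects is right adjoint to the inclusion. -/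
theorem result (A : Type u) [CommRing A] [IsNoetherianRing A] (I : Ideal A) [DRing.HasRgammaI I] : ∃ h : ∀ K : Dual.D A, (fun L : Dual.D A => ∀ i : ℤ, LocCoh.IsPowerTorsion I (Dual.HD A L i)) ((DRing.RgammaI I).obj K), Nonempty (ObjectProperty.ι (fun L : Dual.D A => ∀ i : ℤ, LocCoh.IsPowerTorsion I (Dual.HD A L i)) ⊣ ObjectProperty.lift (fun L : Dual.D A => ∀ i : ℤ, LocCoh.IsPowerTorsion I (Dual.HD A L i)) (DRing.RgammaI I) h) := by
  obtain ⟨l, hl⟩ := DRingLib.exists_list_span' I
  have hcor := fun K => DRingLib.isCoref_RgammaIε l I hl K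
  have htor : ∀ L : Dual.D A, DRingLib.IsTors l L ↔ ∀ i : ℤ, LocCoh.IsPowerTorsion I (Dual.HD A L i) := fun L => by
    rw [DRingLib.isTors_iff, hl]
  refine ⟨fun K => (htor _).1 (hcor K).1, ⟨Adjunction.mkOfHomEquiv
    { homEquiv := fun T K => (Equiv.ofBijective (fun t : T.obj ⟶ (DRing.RgammaI I).obj K => t ≫ (DRing.RgammaIε I).app K)
          ((hcor K).2 T.obj ((htor _).2 T.property))).symm.trans
        { toFun := fun f => (ObjectProperty.homMk f : T ⟶ ⟨(DRing.RgammaI I).obj K, (htor _).1 (hcor K).1⟩)
          invFun := fun f => f.hom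
          left_inv := fun _ => rfl
          right_inv := fun _ => rfl }
      homEquiv_naturality_left_symm := fun f g => ?_
      homEquiv_naturality_right := fun f g => ?_ }⟩⟩
  · rename_i T' T K
    exact Category.assoc (obj := Dual.D A) f.hom g.hom ((DRing.RgammaIε I).app K)
  · rename_i T K K'
    have h0 := fun K'' => (Equiv.ofBijective _ ((hcor K'').2 T.obj ((htor _).2 T.property))).apply_symm_apply
    refine ObjectProperty.hom_ext _ (((hcor K').2 T.obj ((htor _).2 T.property)).1 ?_)
    refine (h0 K' _).trans ?_
    refine Eq.trans (congrArg (· ≫ g) (h0 K f).symm) ?_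
    simp only [Equiv.ofBijective_apply]
    exact ((Category.assoc _ _ _).trans (congrArg (_ ≫ ·) ((DRing.RgammaIε I).naturality g).symm)).trans (Category.assoc _ _ _).symm

end Groth.Agent.S1817
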