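import Groth.Statements.S18171
import Groth.Agent.ContrFibLib.Main
-- import your own Groth.Agent.* helpers here

set_option autoImplicit false
universe u
open BSB

namespace Groth.Agent.S18171

open AlgebraicGeometry CategoryTheory CategoryTheory.Limits Opposite in
/-- Let S be Noetherian, f : X ⟶ S proper AND flat with a relatively ample invertible L0, E the
effective Cartier divisor of an ideal sheaf I with O_X(E) an invertible inverse of I, C the
restriction of I to E, m > 0, and a flat contraction of E over S determined by L_E = (L0 restricted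
to E) ⊗ N^m, pinned as g : F ⟶ S proper, ψ : E ⟶ F flat over S with O_F ⟶ ψ_* O_E an isomorphism and
a g-relatively ample invertible G with ψ^* G ≅ L_E^r, r > 0. Suppose C is ample relative to ψ,
normally generated on every fibre of ψ (degree by degree through products of sections), and H^i(E_y,
C^n restricted to E_y) = 0 for all y, all i > 0 and all n ≥ 0. Then for every q : Y ⟶ S proper,
S-morphism π : X ⟶ Y with O_Y ⟶ π_* O_X an isomorphism and q-relatively ample invertible M with π^*
M ≅ L^s for some s > 0, where L = L0 ⊗ O_X(E)^m (the contraction L determines), Y is flat over S. -/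
theorem result {X S : Scheme.{u}} [IsNoetherian S] (f : X ⟶ S) [IsProper f] [Flat f]
    (L0 : X.Modules) (hL0i : PicF.IsInvertible L0) (hL0a : RelAmple.IsRelAmple f L0)
    (I : X.IdealSheafData) (hI : BlowUp.IsEffCartierIdeal I)
    (OE : X.Modules) (hOEi : PicF.IsInvertible OE) (hOE : ClSub.IsInverseOf OE (ClSub.idealMod I))
    (m : ℕ) (hm : 0 < m)
    {F : Scheme.{u}} (g : F ⟶ S) [IsProper g] (ψ : ↑(I.subscheme) ⟶ F) [Flat ψ] (hψg : ψ ≫ g = I.subschemeι ≫ f)
    (hψO : ∀ V : F.Opens, IsIso (ψ.app V))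
    (G : F.Modules) (hGi : PicF.IsInvertible G) (hGa : RelAmple.IsRelAmple g G) (r : ℕ) (hr : 0 < r)
    (eG : Nonempty ((Scheme.Modules.pullback ψ).obj G ≅ CohB1.tensorPow (CohB1.tensorMod ((Scheme.Modules.pullback I.subschemeι).obj L0) (CohB1.tensorPow ((Scheme.Modules.pullback I.subschemeι).obj OE) m)) r))
    (hCa : RelAmple.IsRelAmple ψ ((Scheme.Modules.pullback I.subschemeι).obj (ClSub.idealMod I)))
    (hng : ∀ (y : F) (n : ℕ), 1 ≤ n → AddSubgroup.closure {t | ∃ (a : (CohB1.tensorPow (CohIII.fiberMod ψ ((Scheme.Modules.pullback I.subschemeι).obj (ClSub.idealMod I)) y) n).val.obj (op ⊤)) (b : (CohIII.fiberMod ψ ((Scheme.Modules.pullback I.subschemeι).obj (ClSub.idealMod I)) y).val.obj (op ⊤)), t = SecTwist.tmul (CohB1.tensorPow (CohIII.fiberMod ψ ((Scheme.Modules.pullback I.subschemeι).obj (ClSub.idealMod I)) y) n) (CohIII.fiberMod ψ ((Scheme.Modules.pullback I.subschemeι).obj (ClSub.idealMod I)) y) ⊤ a b} = ⊤)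
    (hall : ∀ (y : F) (i n : ℕ), 0 < i → Subsingleton (CohIII.fiberH ψ (CohB1.tensorPow ((Scheme.Modules.pullback I.subschemeι).obj (ClSub.idealMod I)) n) y i)) :
    ∀ (Y : Scheme.{u}) (q : Y ⟶ S) [IsProper q] (π : X ⟶ Y) (hπq : π ≫ q = f)
      (hπ : ∀ U : Y.Opens, IsIso (π.app U))
      (M : Y.Modules) (hMi : PicF.IsInvertible M) (hMa : RelAmple.IsRelAmple q M) (s : ℕ) (hs : 0 < s)
      (e : Nonempty ((Scheme.Modules.pullback π).obj M ≅ CohB1.tensorPow (CohB1.tensorMod L0 (CohB1.tensorPow OE m)) s)),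
      Flat q := by
  intro Y q _ π hπq hπ M hMi hMa s hs e
  exact ContrFibLib.main f L0 hL0i hL0a I hI OE hOEi hOE m hm g ψ hψg G hGi hGa r hr eG hall Y q π hπq hπ M hMi hMa s hs e

end Groth.Agent.S18171
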