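import Groth.Statements.S1818
import Groth.Agent.RHomCompLib.Compare
import Groth.Agent.RHomCompLib.Refl
import Groth.Agent.DualCxLib.LocDualApps
import Groth.Agent.S1812
import Groth.Agent.DRingLib.RgammaCompletion

set_option autoImplicit false
universe u
open CategoryTheory
attribute [local instance] HasDerivedCategory.standard
open Dual

namespace Groth.Agent.S1818

/-- Let A be a Noetherian local ring with maximal ideal m, ω a normalized dualizing complex and κ → E an
injective hull of the residue field. Let K be a complex of A-modules and G a complex representing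
RΓ_m(K); assume the derived functors RHom(K, −), RHom(G, −), RΓ_m and derived m-completion exist.
Then the derived m-completion of RHom_A(K, ω) is isomorphic in D(A) to RHom_A(G, E[0]) =
RHom_A(RΓ_m(K), E[0]). -/
theorem result (A : Type u) [CommRing A] [IsLocalRing A] [IsNoetherianRing A] (ω : Dual.D A) (hω : Dual.IsDualizing A ω) (hn : Dual.IsNormalized A ω) (E : Type u) [AddCommGroup E] [Module A E] (f : IsLocalRing.ResidueField A →ₗ[A] E) (hf : InjHull.IsInjectiveHull f) [DRing.HasRgammaI (IsLocalRing.maximalIdeal A)] [DRing.HasDerivedCompletion (IsLocalRing.maximalIdeal A)] (K : DRing.Cx A) [DRing.HasRHomCx K] (G : DRing.Cx A) [DRing.HasRHomCx G] (hG : Nonempty (DRing.toD G ≅ (DRing.RgammaI (IsLocalRing.maximalIdeal A)).obj (DRing.toD K))) : Nonempty (((DRing.derivedCompletion (IsLocalRing.maximalIdeal A)).obj ((DRing.RHomCx K).obj ω)).obj ≅ (DRing.RHomCx G).obj (Dual.inD A E)) := by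
  obtain ⟨_, _, _, _⟩ := DualCxLib.exists_binders A
  obtain ⟨eG⟩ := hG
  obtain ⟨eK'⟩ := RHomCompLib.nonempty_RHomCx_iso K
  obtain ⟨eG'⟩ := RHomCompLib.nonempty_RHomCx_iso G
  set m := IsLocalRing.maximalIdeal A with hm
  obtain ⟨l, hl⟩ := DRingLib.exists_list_span' m
  have hc := (DRingLib.isCoref_RgammaIε l m hl (DRing.toD K)).of_iso eG
    (u' := eG.hom ≫ (DRing.RgammaIε m).app (DRing.toD K)) rfl
  obtain ⟨e1⟩ := RHomCompLib.nonempty_completion_RHomR (I := m) hl hc ω
  have hu := DRingLib.isCoref_RgammaIε l m hl ω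
  haveI := RHomCompLib.isIso_RHomR_map_coref hc.1 hu
  -- the coreflection of the dualizing complex is `E`
  obtain ⟨e0, hne⟩ := DualCxLib.localCohomology_normalized hω hn hf
  obtain ⟨eE⟩ : Nonempty ((DRing.RgammaI m).obj ω ≅ Dual.inD A E) := by
    obtain ⟨f0⟩ := Groth.Agent.S1812.result A m (IsNoetherian.noetherian m) ω 0
    obtain ⟨e⟩ := e0
    obtain ⟨es⟩ := DRingLib.exists_iso_single (X := (DRing.RgammaI m).obj ω) fun i hi => by
      obtain ⟨fi⟩ := Groth.Agent.S1812.result A m (IsNoetherian.noetherian m) ω i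
      haveI := hne i hi
      exact DCompLib.van_iff.2 fi.injective.subsingleton
    exact ⟨es ≪≫ (DerivedCategory.singleFunctor (ModuleCat.{u} A) 0).mapIso
      (LinearEquiv.toModuleIso (f0.trans e))⟩
  let e2 := asIso ((DTen.RHomR A (DerivedCategory.Q.obj G)).map ((DRing.RgammaIε m).app ω))
  exact ⟨(ObjectProperty.ι _).mapIso ((DRing.derivedCompletion m).mapIso (eK'.app ω)) ≪≫ e1 ≪≫ e2.symm ≪≫
    (DTen.RHomR A (DerivedCategory.Q.obj G)).mapIso eE ≪≫ (eG'.app (Dual.inD A E)).symm⟩

end Groth.Agent.S1818
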