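import Groth.Statements.S18185
import Groth.Agent.LinSer.Chains

set_option autoImplicit false
open FunFld

namespace Groth.Agent.S18185

/-- Let `k` be an algebraically closed field of characteristic zero and `K/k` a function field of one
variable (the function field of a smooth projective curve over `k`). A `g^r_d` is a divisor `D` of
degree `d` with a subspace `V ⊆ L(D)` of dimension `r + 1`; for a place `P` and `n ≥ 0`, `V(-nP) = V
∩ L(D - nP)` is the space of members vanishing to order at least `n` at `P`, so `dim V(-nP)` counts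
the vanishing orders `m_0 < ⋯ < m_r` of `V` at `P` that are at least `n`, and the weight of `V` at
`P` is `∑_{n=1}^{d} dim V(-nP) - r(r+1)/2`. Aspects `(D_Y, V_Y)` on `K_Y` and `(D_Z, V_Z)` on `K_Z`
of a limit `g^r_d` on two components meeting in a node (a place `P` of `K_Y` and a place `Q` of
`K_Z`) are compatible there when `m_i(V_Y, P) + m_{r-i}(V_Z, Q) = d` for every `i`, equivalently
`dim V_Y(-nP) + dim V_Z(-(d+1-n)Q) = r + 1` for `0 ≤ n ≤ d + 1`. Consider a chain of components
`U_0, U_1, …, U_n` (`n ≥ 1`; function fields `K_l`), `U_l` meeting `U_{l+1}` in a node given by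
places `B_l` of `K_l` and `A_{l+1}` of `K_{l+1}`, with `A_l ≠ B_l` on the inner components `U_1, …,
U_{n-1}`, which have genus `0`; each `U_l` carries an aspect `(D_l, V_l)` of a limit `g^r_d`,
consecutive aspects compatible at the nodes, and the weight of `V_0` at `B_0` is at most `(r+1)(d-r)
- c`. (In the source `U_0` is a backbone component of a flag curve with `g` tails, `U_1, …, U_{n-1}`
the chain of rational curves attached to it at `B_0`, `U_n` the elliptic tail, and `c = r(g-1)`, the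
weight bound at `B_0` being the one established for backbone components.) Assume moreover that `U_n`
has positive genus. Then at every place `Q'` of an inner component `U_l` (`0 < l < n`) other than
`A_l, B_l`, the weight of `V_l` is at most `(r+1)(d-r) - c - r`: `∑_{j=1}^{d} dim V_l(-jQ') + c + r
+ r(r+1) ≤ (r+1)d + r(r+1)/2`. With `c = r(g-1)` this is `(r+1)(d-r) - rg`, so when `ρ ≤ 0` the
limit of the moving ramification point (weight `≥ (r+1)(d-r) - rg + 1`) is not on the chain curves
either. (The printed argument bounds such weights only by `(r+1)(d-r) - r(g-1)`; the extra `r` comes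
from the cusp that `V_l` has at `B_l`.) (The source states this for curves over the complex
numbers.) -/
theorem result
    (k : Type*) [Field k] [IsAlgClosed k] [CharZero k]
    (n : ℕ) (hn : 0 < n) (U : Fin (n + 1) → Type*) [∀ l, Field (U l)] [∀ l, Algebra k (U l)]
    (hU : ∀ l, FunFld.IsFunctionField k (U l))
    (hrat : ∀ l : Fin (n + 1), 0 < (l : ℕ) → (l : ℕ) < n → FunFld.genus k (U l) = 0)
    (d r : ℕ) (D : ∀ l, FunFld.Divisor k (U l)) (hD : ∀ l, (D l).deg = d)
    (V : ∀ l, Submodule k (U l)) (hV : ∀ l, V l ≤ FunFld.L (D l))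
    (hVr : ∀ l, Module.finrank k ↥(V l) = r + 1)
    (A B : ∀ l, FunFld.Place k (U l))
    (hAB : ∀ l : Fin (n + 1), 0 < (l : ℕ) → (l : ℕ) < n → A l ≠ B l)
    (hcomp : ∀ (l : Fin n) (m : ℕ), m ≤ d + 1 →
      Module.finrank k ↥((V l.castSucc) ⊓ FunFld.L ((D l.castSucc) - Finsupp.single (B l.castSucc) ((m : ℤ)))) +
        Module.finrank k ↥((V l.succ) ⊓ FunFld.L ((D l.succ) - Finsupp.single (A l.succ) ((d : ℤ) + 1 - m))) = r + 1)
    (c : ℕ) (hc : (∑ j ∈ Finset.range d, Module.finrank k ↥((V 0) ⊓ FunFld.L ((D 0) - Finsupp.single (B 0) ((j : ℤ) + 1)))) + c + r * (r + 1) ≤ (r + 1) * d + r * (r + 1) / 2)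
    (hpos : 0 < FunFld.genus k (U (Fin.last n)))
    (l : Fin (n + 1)) (hl0 : 0 < (l : ℕ)) (hln : (l : ℕ) < n)
    (Q' : FunFld.Place k (U l)) (hQ'A : Q' ≠ A l) (hQ'B : Q' ≠ B l) :
    (∑ j ∈ Finset.range d, Module.finrank k ↥((V l) ⊓ FunFld.L ((D l) - Finsupp.single Q' ((j : ℤ) + 1)))) + c + r + r * (r + 1) ≤ (r + 1) * d + r * (r + 1) / 2 := by
  classical
  have hS := Groth.Agent.LinSer.two_mul_tri r
  have hA := Groth.Agent.LinSer.chain_ge (M := (r + 1) * d) (r := 0) (S := c + r * (r + 1) / 2)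
    (fun i => Groth.Agent.LinSer.wsum d (D i) (V i) (A i)) (fun i => Groth.Agent.LinSer.wsum d (D i) (V i) (B i)) ∅
    (fun i => Groth.Agent.LinSer.wsum_compat (hcomp i))
    (fun i h0 hn' => by
      have := Groth.Agent.LinSer.wsum_add_le (hU i) (Groth.Agent.FFLib.deg_eq_one (hU i) (A i)) (Groth.Agent.FFLib.deg_eq_one (hU i) (B i)) (hAB i h0 hn') (hD i) (hV i) (hVr i)
      simpa using this)
    (fun _ => by
      have hc' : Groth.Agent.LinSer.wsum d (D 0) (V 0) (B 0) + c + r * (r + 1) ≤ (r + 1) * d + r * (r + 1) / 2 := hc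
      simp only [Finset.notMem_empty, if_false, add_zero]
      omega) l hl0
  simp only [zero_mul, add_zero] at hA
  have key : ∀ (k' : ℕ) (j : Fin (n + 1)), 0 < (j : ℕ) → (j : ℕ) + k' = n →
      ∀ o : Groth.Agent.LinSer.Orders d r (D j) (V j) (A j), ∀ i : Fin (r + 1), (i : ℕ) < r → o.m i + 2 ≤ d := by
    intro k'
    induction k' with
    | zero =>
      intro j hj0 hj o i hi
      have : j = Fin.last n := Fin.ext (by rw [Fin.val_last]; omega)
      subst this
      exact Groth.Agent.LinSer.le_sub_two_of_genus_pos (hU _) hpos (Groth.Agent.FFLib.deg_eq_one (hU _) _) (hD _) o i hi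
    | succ k' ih =>
      intro j hj0 hj o i hi
      obtain ⟨j', rfl⟩ : ∃ j' : Fin n, j'.castSucc = j := ⟨⟨j, by omega⟩, Fin.ext rfl⟩
      obtain ⟨oB⟩ := Groth.Agent.LinSer.exists_orders (hU j'.castSucc) (Groth.Agent.FFLib.deg_eq_one (hU _) (B j'.castSucc)) (hD _) (hV _) (hVr _)
      obtain ⟨oA⟩ := Groth.Agent.LinSer.exists_orders (hU j'.succ) (Groth.Agent.FFLib.deg_eq_one (hU _) (A j'.succ)) (hD _) (hV _) (hVr _)
      rw [Fin.val_castSucc] at hj hj0
      have h1 := Groth.Agent.LinSer.orders_add_le (hU _) (Groth.Agent.FFLib.deg_eq_one (hU _) _) (Groth.Agent.FFLib.deg_eq_one (hU _) _) (hAB j'.castSucc hj0 j'.2) (hD _) (hV _) (hVr _) o oB i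
      have h2 := Groth.Agent.LinSer.orders_compat oB oA (hcomp j') i.rev
      rw [Fin.rev_rev] at h2
      have h3 := ih j'.succ (by rw [Fin.val_succ]; omega) (by rw [Fin.val_succ]; omega) oA i hi
      omega
  obtain ⟨l', rfl⟩ : ∃ l' : Fin n, l'.castSucc = l := ⟨⟨l, hln⟩, Fin.ext rfl⟩
  obtain ⟨oB⟩ := Groth.Agent.LinSer.exists_orders (hU l'.castSucc) (Groth.Agent.FFLib.deg_eq_one (hU _) (B l'.castSucc)) (hD _) (hV _) (hVr _)
  obtain ⟨oA⟩ := Groth.Agent.LinSer.exists_orders (hU l'.succ) (Groth.Agent.FFLib.deg_eq_one (hU _) (A l'.succ)) (hD _) (hV _) (hVr _)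
  have hcu : r ≤ Groth.Agent.LinSer.dimV (D l'.castSucc) (V l'.castSucc) (B l'.castSucc) 2 := oB.cusp_iff.2 fun i hi => by
    have h1 := Groth.Agent.LinSer.orders_compat oB oA (hcomp l') i
    have h2 : (i : ℕ) ≠ 0 := fun e => hi (Fin.ext e)
    have h3 := key (n - ((l' : ℕ) + 1)) l'.succ (by rw [Fin.val_succ]; omega) (by rw [Fin.val_succ]; omega) oA i.rev (by rw [Fin.val_rev]; omega)
    omega
  have hB := oB.tri_add_le_of_cusp hcu
  have hne := hAB l'.castSucc hl0 hln
  have h := Groth.Agent.LinSer.plucker (hU l'.castSucc) (hrat _ hl0 hln) (hD _) (hV _) (hVr _) {A l'.castSucc, B l'.castSucc, Q'}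
  have hc3 : ({A l'.castSucc, B l'.castSucc, Q'} : Finset (FunFld.Place k (U l'.castSucc))).card = 3 := by
    rw [Finset.card_insert_of_notMem (by simp [hne, hQ'A.symm]), Finset.card_pair hQ'B.symm]
  rw [hc3, Finset.sum_insert (by simp [hne, hQ'A.symm]), Finset.sum_pair hQ'B.symm] at h
  show Groth.Agent.LinSer.wsum d (D l'.castSucc) (V l'.castSucc) Q' + _ + _ + _ ≤ _
  omega

end Groth.Agent.S18185
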