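import Groth.Statements.S18187
import Mathlib.RingTheory.Flat.Basic

set_option autoImplicit false
universe u v
open CategoryTheory
open T1Lift

namespace Groth.Agent.S18187

open Polynomial in
theorem tr_pow_ne (k : Type u) [Field k] (m : ℕ) : T1Lift.t k m ^ m ≠ 0 := by
  intro h
  rw [show T1Lift.t k m = AdjoinRoot.mk _ X from AdjoinRoot.mk_X.symm, ← map_pow, AdjoinRoot.mk_eq_zero] at h
  have := Polynomial.degree_le_of_dvd h (pow_ne_zero _ X_ne_zero)
  rw [degree_X_pow, degree_X_pow] at this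
  exact absurd (Nat.cast_le.1 this) (by omega)

open Polynomial in
theorem ker_αAlg (k : Type u) [Field k] (m : ℕ) (b : T1Lift.Tr k (m + 1)) (h : T1Lift.αAlg k m b = 0) :
    ∃ q, b = T1Lift.t k (m + 1) ^ (m + 1) * q := by
  induction b using AdjoinRoot.induction_on with
  | ih p =>
    have e : T1Lift.αAlg k m (AdjoinRoot.mk _ p) = AdjoinRoot.mk ((X : k[X]) ^ (m + 1)) p := by
      rw [← AdjoinRoot.aeval_eq, ← Polynomial.aeval_algHom_apply]
      change aeval (T1Lift.αAlg k m (T1Lift.t k (m + 1))) p = _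
      rw [T1Lift.αAlg_t]
      exact AdjoinRoot.aeval_eq p
    rw [e, AdjoinRoot.mk_eq_zero] at h
    obtain ⟨q, rfl⟩ := h
    exact ⟨AdjoinRoot.mk _ q, by rw [map_mul, map_pow, AdjoinRoot.mk_X]⟩

theorem αAlg_surjective (k : Type u) [Field k] (m : ℕ) : Function.Surjective (T1Lift.αAlg k m) := by
  intro b
  induction b using AdjoinRoot.induction_on with
  | ih p =>
    refine ⟨AdjoinRoot.mk _ p, ?_⟩
    rw [← AdjoinRoot.aeval_eq, ← Polynomial.aeval_algHom_apply]
    change Polynomial.aeval (T1Lift.αAlg k m (T1Lift.t k (m + 1))) p = _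
    rw [T1Lift.αAlg_t]
    exact AdjoinRoot.aeval_eq p

theorem mul_ker_eq_zero (k : Type u) [Field k] (m : ℕ) (a b : T1Lift.Tr k (m + 1))
    (ha : T1Lift.resA k (m + 1) a = 0) (hb : T1Lift.αAlg k m b = 0) : a * b = 0 := by
  obtain ⟨q, rfl⟩ := ker_αAlg k m b hb
  obtain ⟨a', ha'⟩ := T1Lift.eq_algebraMap_add_t_mul k (m + 1) a
  rw [ha, map_zero, zero_add] at ha'
  rw [ha']
  calc _ = T1Lift.t k (m + 1) ^ (m + 1 + 1) * (a' * q) := by ring
    _ = 0 := by rw [T1Lift.t_pow, zero_mul]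

theorem ker_eq_smul (k : Type u) [Field k] (m : ℕ) (b : T1Lift.Tr k (m + 1)) (hb : T1Lift.αAlg k m b = 0) :
    ∃ c : k, b = algebraMap k _ c * T1Lift.t k (m + 1) ^ (m + 1) := by
  obtain ⟨q, rfl⟩ := ker_αAlg k m b hb
  obtain ⟨q', hq'⟩ := T1Lift.eq_algebraMap_add_t_mul k (m + 1) q
  refine ⟨T1Lift.resA k (m + 1) q, ?_⟩
  conv_lhs => rw [hq']
  calc _ = algebraMap k _ (T1Lift.resA k (m + 1) q) * T1Lift.t k (m + 1) ^ (m + 1) +
        T1Lift.t k (m + 1) ^ (m + 1 + 1) * q' := by ring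
    _ = _ := by rw [T1Lift.t_pow, zero_mul, add_zero]

theorem dualMap_te (k : Type u) [Field k] (n : ℕ) :
    T1Lift.dualMap k (T1Lift.αAlg k n) (TrivSqZeroExt.inl (T1Lift.t k (n + 1)) + DualNumber.eps) =
      TrivSqZeroExt.inl (T1Lift.t k n) + DualNumber.eps := by
  rw [map_add]
  exact congrArg₂ (· + ·) (TrivSqZeroExt.ext (T1Lift.αAlg_t k n) (map_zero (T1Lift.αAlg k n)))
    (TrivSqZeroExt.ext (map_zero (T1Lift.αAlg k n)) (map_one (T1Lift.αAlg k n)))

theorem dual_mul_eq_zero (k : Type u) [Field k] (n : ℕ) (x j : DualNumber (T1Lift.Tr k (n + 1)))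
    (hx : T1Lift.resA k (n + 1) x.fst = 0) (hj : j.fst = 0) (hj' : T1Lift.αAlg k n j.snd = 0) : x * j = 0 := by
  refine TrivSqZeroExt.ext ?_ ?_
  · rw [TrivSqZeroExt.fst_mul, hj, mul_zero, TrivSqZeroExt.fst_zero]
  · rw [DualNumber.snd_mul, hj, mul_zero, add_zero, TrivSqZeroExt.snd_zero]
    exact mul_ker_eq_zero k n _ _ hx hj'

/-- The ideal `(t^(n+1) y)` of `B_(n+1)`. -/
noncomputable def K (k : Type u) [Field k] (n : ℕ) : Ideal (T1Lift.B k (n + 1)) :=
  RingHom.ker (T1Lift.ξ k n).toAlgHom ⊓ RingHom.ker (T1Lift.β k (n + 1)).toAlgHom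

theorem hK (k : Type u) [Field k] (n : ℕ) : K k n ≤ IsLocalRing.maximalIdeal (T1Lift.B k (n + 1)) :=
  fun x hx => (ArtFun.Art.mem_maximalIdeal_iff _ x).2 (by
    rw [← ArtFun.Art.res_app (T1Lift.β k (n + 1)) x,
      show (T1Lift.β k (n + 1)).toAlgHom x = 0 from RingHom.mem_ker.1 hx.2, map_zero])

theorem mem_K (k : Type u) [Field k] (n : ℕ) (x : T1Lift.B k (n + 1)) :
    x ∈ K k n ↔ (T1Lift.ξ k n).toAlgHom x = 0 ∧ (T1Lift.β k (n + 1)).toAlgHom x = 0 := by
  rw [K, Ideal.mem_inf, RingHom.mem_ker, RingHom.mem_ker]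

/-- In the set-valued case, let k be a field of characteristic zero and F a functor on local Artinian
k-algebras with residue field k such that F(k) is one point, F satisfies the Rim–Schlessinger
condition (for every fibre-product square A' ×_A A'' with A'' → A surjective the comparison map F(A'
×_A A'') → F(A') ×_{F(A)} F(A'') is bijective), and F has an obstruction theory with values in a
k-vector space V which is moreover functorial for every commutative square of surjections whose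
kernels are killed by the maximal ideal. Write A_m = k[t]/(t^(m+1)), B_m = A_m[y]/(y²), α : A_(m+1)
→ A_m and ξ : B_(m+1) → B_m for t ↦ t, β : B_m → A_m for y ↦ 0 and ε : A_(m+1) → B_m for t ↦ t + y.
Then an element X ∈ F(A_(n+1)) lifts to F(A_(n+2)) along α if and only if there is Y ∈ F(B_(n+1))
with F(β) Y = X and F(ξ) Y = F(ε) X, i.e. if and only if the element of the first-order tangent set
T¹(F(α)X / A_n) defined by F(ε) X lies in the image of T¹(X / A_(n+1)). (Stated here for functors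
with values in sets; the version for predeformation categories in groupoids satisfying the
Rim–Schlessinger condition specialises to it. The functoriality of the obstruction theory for
arbitrary commutative squares is an explicit hypothesis, pinned through linear maps between the
kernels that agree with the given ring map.) -/
theorem result (k : Type u) [Field k] [CharZero k]
    (F : ArtFun.Art k k ⥤ Type v) (h0 : ArtFun.H0 F)
    (hRS : ∀ ⦃P A A' A'' : ArtFun.Art k k⦄ (p' : P ⟶ A') (p'' : P ⟶ A'') (f' : A' ⟶ A) (f'' : A'' ⟶ A)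
      (h : ArtFun.Art.IsFibreProd p' p'' f' f''), Function.Surjective f'' → Function.Bijective (ArtFun.cmp F h))
    (V : Type u) [AddCommGroup V] [Module k V] (O : ArtFun.ObsTheory F V)
    (hnat : ∀ ⦃A' A C' C : ArtFun.Art k k⦄ (φ : A' ⟶ A) (hφ : ArtFun.Art.IsSemismallExt φ)
      (ψ : C' ⟶ C) (hψ : ArtFun.Art.IsSemismallExt ψ) (g' : A' ⟶ C') (g : A ⟶ C), φ ≫ g = g' ≫ ψ →
      ∀ (ℓ : ↥(RingHom.ker φ.toAlgHom) →ₗ[k] ↥(RingHom.ker ψ.toAlgHom)),
        (∀ j : ↥(RingHom.ker φ.toAlgHom), ((ℓ j : ↥(RingHom.ker ψ.toAlgHom)) : C') = g' (j : A')) →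
        ∀ u : F.obj A, O.obs ψ hψ (F.map g u) = LinearMap.lTensor V ℓ (O.obs φ hφ u))
    (n : ℕ) (X : F.obj (T1Lift.A k (n + 1))) :
    (∃ X' : F.obj (T1Lift.A k (n + 2)), F.map (T1Lift.α k (n + 1)) X' = X) ↔
      ∃ Y : F.obj (T1Lift.B k (n + 1)), F.map (T1Lift.β k (n + 1)) Y = X ∧
        F.map (T1Lift.ξ k n) Y = F.map (T1Lift.ε k n) X := by
  constructor
  · rintro ⟨X', rfl⟩
    refine ⟨F.map (T1Lift.ε k (n + 1)) X', ?_, ?_⟩
    · rw [← Functor.map_comp_apply]
      refine congrArg (fun f => F.map f X') ?_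
      apply ArtFun.Art.hom_ext
      refine AdjoinRoot.algHom_ext ?_
      change (T1Lift.εAlg k (n + 1) (T1Lift.t k (n + 2))).fst = T1Lift.αAlg k (n + 1) (T1Lift.t k (n + 2))
      simp
    · rw [← Functor.map_comp_apply, ← Functor.map_comp_apply]
      refine congrArg (fun f => F.map f X') ?_
      apply ArtFun.Art.hom_ext
      refine AdjoinRoot.algHom_ext ?_
      change T1Lift.dualMap k (T1Lift.αAlg k n) (T1Lift.εAlg k (n + 1) (T1Lift.t k (n + 2))) =
        T1Lift.εAlg k n (T1Lift.αAlg k (n + 1) (T1Lift.t k (n + 2)))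
      simp only [T1Lift.εAlg_t, T1Lift.αAlg_t]
      exact dualMap_te k n
  · rintro ⟨Y, hY1, hY2⟩
    obtain ⟨ψ, hψ⟩ : ∃ ψ, ψ = ArtFun.Art.quotMk (T1Lift.B k (n + 1)) (K k n) (hK k n) := ⟨_, rfl⟩
    have hψ0 : ∀ x, ψ.toAlgHom x = 0 ↔ x ∈ K k n := fun x => by
      subst hψ
      exact Ideal.Quotient.eq_zero_iff_mem
    have hψs : ArtFun.Art.IsSemismallExt ψ := by
      refine ⟨hψ ▸ ArtFun.Art.quotMk_surjective _ _ _, le_bot_iff.1 (Ideal.mul_le.2 fun x hx j hj => ?_)⟩
      rw [RingHom.mem_ker, hψ0, mem_K] at hj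
      rw [ArtFun.Art.mem_maximalIdeal_iff] at hx
      obtain ⟨hj1, hj2⟩ := hj
      change T1Lift.dualMap k (T1Lift.αAlg k n) j = 0 at hj1
      change TrivSqZeroExt.fst j = (0 : T1Lift.Tr k (n + 1)) at hj2
      change T1Lift.resA k (n + 1) (TrivSqZeroExt.fst x) = 0 at hx
      have hj3 : T1Lift.αAlg k n (TrivSqZeroExt.snd j) = 0 := congrArg TrivSqZeroExt.snd hj1
      rw [Ideal.mem_bot]
      exact dual_mul_eq_zero k n x j hx hj2 hj3
    have hα : ArtFun.Art.IsSemismallExt (T1Lift.α k (n + 1)) := by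
      refine ⟨αAlg_surjective k (n + 1), le_bot_iff.1 (Ideal.mul_le.2 fun x hx j hj => ?_)⟩
      rw [ArtFun.Art.mem_maximalIdeal_iff] at hx
      rw [RingHom.mem_ker] at hj
      rw [Ideal.mem_bot]
      exact mul_ker_eq_zero k (n + 1) _ _ hx hj
    obtain ⟨p', hp'⟩ : ∃ p', p' = ArtFun.Art.quotFactor (hK k n) (T1Lift.ξ k n) inf_le_left := ⟨_, rfl⟩
    obtain ⟨p'', hp''⟩ : ∃ p'', p'' = ArtFun.Art.quotFactor (hK k n) (T1Lift.β k (n + 1)) inf_le_right := ⟨_, rfl⟩
    have hψ' : ψ ≫ p' = T1Lift.ξ k n := by rw [hψ, hp', ArtFun.Art.quotMk_quotFactor]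
    have hψ'' : ψ ≫ p'' = T1Lift.β k (n + 1) := by rw [hψ, hp'', ArtFun.Art.quotMk_quotFactor]
    have hfp : ArtFun.Art.IsFibreProd p' p'' (T1Lift.β k n) (T1Lift.α k n) := by
      subst hp' hp''
      refine ⟨?_, ?_, ?_⟩
      · apply ArtFun.Art.hom_ext
        apply AlgHom.ext
        intro x
        obtain ⟨x, rfl⟩ := Ideal.Quotient.mk_surjective x
        rfl
      · intro b₁ b₂ h1 h2
        obtain ⟨a, rfl⟩ := Ideal.Quotient.mk_surjective b₁
        obtain ⟨b, rfl⟩ := Ideal.Quotient.mk_surjective b₂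
        refine Ideal.Quotient.eq.2 ((mem_K k n _).2 ⟨?_, ?_⟩)
        · rw [map_sub, sub_eq_zero]; exact h1
        · rw [map_sub, sub_eq_zero]; exact h2
      · intro a' a'' h
        obtain ⟨s, hs⟩ := αAlg_surjective k n (TrivSqZeroExt.snd a')
        refine ⟨Ideal.Quotient.mk _ ((TrivSqZeroExt.inl a'' + TrivSqZeroExt.inr s : DualNumber (T1Lift.Tr k (n + 1)))), ?_, ?_⟩
        · change T1Lift.dualMap k (T1Lift.αAlg k n) (TrivSqZeroExt.inl a'' + TrivSqZeroExt.inr s) = a'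
          refine TrivSqZeroExt.ext ?_ ?_
          · exact (congrArg (T1Lift.αAlg k n) (add_zero a'')).trans h.symm
          · exact (congrArg (T1Lift.αAlg k n) (zero_add s)).trans hs
        · change TrivSqZeroExt.fst (TrivSqZeroExt.inl a'' + TrivSqZeroExt.inr s : DualNumber (T1Lift.Tr k (n + 1))) = a''
          exact add_zero _
    obtain ⟨g, hg⟩ : ∃ g : T1Lift.A k (n + 1) ⟶ ArtFun.Art.quot (T1Lift.B k (n + 1)) (K k n) (hK k n),
        g.toAlgHom (T1Lift.t k (n + 1)) = ψ.toAlgHom (TrivSqZeroExt.inl (T1Lift.t k (n + 1)) + DualNumber.eps) := by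
      have h0 : Polynomial.eval₂ (Algebra.ofId k (ArtFun.Art.quot (T1Lift.B k (n + 1)) (K k n) (hK k n)) : k →+* _)
          (ψ.toAlgHom (TrivSqZeroExt.inl (T1Lift.t k (n + 1)) + DualNumber.eps))
          ((Polynomial.X : Polynomial k) ^ (n + 1 + 1)) = 0 := by
        rw [Polynomial.eval₂_X_pow, ← map_pow, hψ0, mem_K]
        refine ⟨?_, ?_⟩
        · change T1Lift.dualMap k (T1Lift.αAlg k n) _ = 0
          exact (map_pow (T1Lift.dualMap k (T1Lift.αAlg k n)) _ _).trans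
            ((congrArg (fun z => z ^ (n + 1 + 1)) (dualMap_te k n)).trans (T1Lift.inl_t_add_eps_pow k n))
        · change TrivSqZeroExt.fst ((TrivSqZeroExt.inl (T1Lift.t k (n + 1)) + DualNumber.eps :
            DualNumber (T1Lift.Tr k (n + 1))) ^ (n + 1 + 1)) = 0
          rw [TrivSqZeroExt.fst_pow, TrivSqZeroExt.fst_add, TrivSqZeroExt.fst_inl, DualNumber.fst_eps, add_zero,
            T1Lift.t_pow]
      refine ⟨ArtFun.Art.homMk (AdjoinRoot.liftAlgHom _ (Algebra.ofId k _) _ h0) (AdjoinRoot.algHom_ext ?_),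
        AdjoinRoot.liftAlgHom_root _ _ _ _⟩
      change (ArtFun.Art.quot _ _ _).res (AdjoinRoot.liftAlgHom _ _ _ h0 (T1Lift.t k (n + 1))) =
        T1Lift.resA k (n + 1) (T1Lift.t k (n + 1))
      rw [AdjoinRoot.liftAlgHom_root, T1Lift.resA_t, ArtFun.Art.res_app]
      change T1Lift.resA k (n + 1) (TrivSqZeroExt.fst (TrivSqZeroExt.inl (T1Lift.t k (n + 1)) + DualNumber.eps :
        DualNumber (T1Lift.Tr k (n + 1)))) = 0
      simp
    have hgp' : g ≫ p' = T1Lift.ε k n := by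
      apply ArtFun.Art.hom_ext
      refine AdjoinRoot.algHom_ext ?_
      change p'.toAlgHom (g.toAlgHom (T1Lift.t k (n + 1))) = _
      rw [hg, ← AlgHom.comp_apply, ← ArtFun.Art.comp_toAlgHom, hψ']
      change T1Lift.dualMap k (T1Lift.αAlg k n) _ = T1Lift.εAlg k n (T1Lift.t k (n + 1))
      rw [T1Lift.εAlg_t]
      exact dualMap_te k n
    have hgp'' : g ≫ p'' = 𝟙 _ := by
      apply ArtFun.Art.hom_ext
      refine AdjoinRoot.algHom_ext ?_
      change p''.toAlgHom (g.toAlgHom (T1Lift.t k (n + 1))) = _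
      rw [hg, ← AlgHom.comp_apply, ← ArtFun.Art.comp_toAlgHom, hψ'']
      change TrivSqZeroExt.fst (TrivSqZeroExt.inl (T1Lift.t k (n + 1)) + DualNumber.eps :
        DualNumber (T1Lift.Tr k (n + 1))) = T1Lift.t k (n + 1)
      simp
    have hgY : F.map g X = F.map ψ Y := by
      apply (hRS p' p'' (T1Lift.β k n) (T1Lift.α k n) hfp (αAlg_surjective k n)).1
      apply Subtype.ext
      refine Prod.ext ?_ ?_
      · change F.map p' (F.map g X) = F.map p' (F.map ψ Y)
        rw [← Functor.map_comp_apply, ← Functor.map_comp_apply, hψ', hgp', hY2]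
      · change F.map p'' (F.map g X) = F.map p'' (F.map ψ Y)
        rw [← Functor.map_comp_apply, ← Functor.map_comp_apply, hψ'', hgp'', Functor.map_id_apply, hY1]
    have hsq : T1Lift.α k (n + 1) ≫ g = T1Lift.ε k (n + 1) ≫ ψ := by
      apply ArtFun.Art.hom_ext
      refine AdjoinRoot.algHom_ext ?_
      change g.toAlgHom (T1Lift.αAlg k (n + 1) (T1Lift.t k (n + 2))) =
        ψ.toAlgHom (T1Lift.εAlg k (n + 1) (T1Lift.t k (n + 2)))
      rw [T1Lift.αAlg_t, T1Lift.εAlg_t]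
      exact hg
    obtain ⟨ℓ, hℓ'⟩ : ∃ ℓ : ↥(RingHom.ker (T1Lift.α k (n + 1)).toAlgHom) →ₗ[k] ↥(RingHom.ker ψ.toAlgHom),
        ∀ j, ((ℓ j : ↥(RingHom.ker ψ.toAlgHom)) : T1Lift.B k (n + 1)) =
          (T1Lift.ε k (n + 1)).toAlgHom (j : T1Lift.A k (n + 1 + 1)) := by
      have hmem : ∀ j : ↥(RingHom.ker (T1Lift.α k (n + 1)).toAlgHom),
          (T1Lift.ε k (n + 1)).toAlgHom (j : T1Lift.A k (n + 1 + 1)) ∈ RingHom.ker ψ.toAlgHom := fun j => by
        rw [RingHom.mem_ker, ← AlgHom.comp_apply, ← ArtFun.Art.comp_toAlgHom, ← hsq,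
          ArtFun.Art.comp_toAlgHom, AlgHom.comp_apply, RingHom.mem_ker.1 j.2, map_zero]
      exact ⟨{ toFun := fun j => ⟨_, hmem j⟩
               map_add' := fun a b => Subtype.ext (map_add _ _ _)
               map_smul' := fun c a => Subtype.ext ((T1Lift.ε k (n + 1)).toAlgHom.map_smul_of_tower c _) },
        fun _ => rfl⟩
    have hℓ : Function.Injective ℓ := by
      refine (injective_iff_map_eq_zero ℓ).2 fun j hj => Subtype.ext ?_
      have h1 : T1Lift.εAlg k (n + 1) (j : T1Lift.A k (n + 1 + 1)) = 0 :=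
        (hℓ' j).symm.trans (congrArg Subtype.val hj)
      obtain ⟨c, hc⟩ := ker_eq_smul k (n + 1) _ (RingHom.mem_ker.1 j.2)
      have h2 := congrArg TrivSqZeroExt.snd h1
      rw [hc, map_mul, map_pow, T1Lift.εAlg_t, AlgHom.commutes, DualNumber.snd_mul, TrivSqZeroExt.algebraMap_eq_inl',
        TrivSqZeroExt.fst_inl, TrivSqZeroExt.snd_inl, zero_mul, add_zero, TrivSqZeroExt.snd_pow,
        TrivSqZeroExt.fst_add, TrivSqZeroExt.fst_inl, DualNumber.fst_eps, add_zero, TrivSqZeroExt.snd_add,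
        TrivSqZeroExt.snd_inl, DualNumber.snd_eps, zero_add, Nat.pred_eq_sub_one, show n + 1 + 1 - 1 = n + 1 from rfl,
        smul_eq_mul, _root_.mul_one, nsmul_eq_mul, ← mul_assoc] at h2
      by_cases hc0 : c = 0
      · rw [hc, hc0, map_zero, zero_mul]; rfl
      · exfalso
        refine tr_pow_ne k (n + 1) ?_
        have hu : IsUnit (algebraMap k (T1Lift.Tr k (n + 1)) c * ((n + 1 + 1 : ℕ) : T1Lift.Tr k (n + 1))) := by
          refine ((Ne.isUnit hc0).map _).mul ?_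
          rw [← map_natCast (algebraMap k (T1Lift.Tr k (n + 1)))]
          exact (Ne.isUnit (Nat.cast_ne_zero.2 (by omega))).map _
        exact (hu.mul_right_eq_zero).1 h2
    refine (O.obs_eq_zero_iff (T1Lift.α k (n + 1)) hα X).1 (Module.Flat.lTensor_preserves_injective_linearMap ℓ hℓ ?_)
    rw [map_zero, ← hnat _ hα ψ hψs (T1Lift.ε k (n + 1)) g hsq ℓ hℓ' X]
    exact (O.obs_eq_zero_iff ψ hψs _).2 ⟨Y, hgY.symm⟩

end Groth.Agent.S18187
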