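import Groth.Statements.S18188
import Mathlib


-- import your own Groth.Agent.* helpers here

set_option autoImplicit false
universe u
open OrbRR

namespace Groth.Agent.S18188

/-- Let K be a field in which 6 ≠ 0, let j < N be natural numbers (so N ≥ 1), and let ζ ∈ K be a
primitive N-th root of unity. Then the sum over i = 1, …, N − 1 of ζ^{ij} / (2 − ζ^i − ζ^{−i})
equals j(j − N)/2 + (N² − 1)/12. (The published setting is characteristic zero; the identity is
stated here over any field of characteristic different from 2 and 3, where the published proof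
applies unchanged: a field containing a primitive N-th root of unity has characteristic prime to N,
and each denominator 2 − ζ^i − ζ^{−i} = −(1 − ζ^i)²/ζ^i with 0 < i < N is nonzero. In
characteristics 2 and 3 the right-hand side has no meaning.) -/
theorem result (K : Type u) [Field K] (h6 : (6 : K) ≠ 0)
    (N j : ℕ) (hj : j < N) (ζ : K) (hζ : IsPrimitiveRoot ζ N) :
    ∑ i ∈ Finset.Ioo 0 N, ζ ^ (i * j) / (2 - ζ ^ i - (ζ ^ i)⁻¹) =
      (j : K) * ((j : K) - (N : K)) / 2 + ((N : K) ^ 2 - 1) / 12 := by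
  classical
  have h2 : (2 : K) ≠ 0 := fun h => h6 (by linear_combination (3 : K) * h)
  have h3 : (3 : K) ≠ 0 := fun h => h6 (by linear_combination (2 : K) * h)
  have h12 : (12 : K) ≠ 0 := fun h => h6 (mul_left_cancel₀ h2 (by linear_combination h))
  haveI : NeZero N := ⟨by omega⟩
  have hN : (N : K) ≠ 0 := (NeZero.ne' (n := (N : K)) (h := hζ.neZero')).symm
  set s := Finset.Ioo 0 N with hs
  have hne : ∀ i ∈ s, ζ ^ i ≠ 1 := fun i hi => by
    rw [hs, Finset.mem_Ioo] at hi
    exact hζ.pow_ne_one_of_pos_of_lt (by omega) hi.2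
  have hu0 : ∀ i : ℕ, ζ ^ i ≠ 0 := fun i => pow_ne_zero _ (hζ.ne_zero (by omega))
  have hsub : ∀ i ∈ s, (1 : K) - ζ ^ i ≠ 0 := fun i hi => sub_ne_zero.mpr (Ne.symm (hne i hi))
  let U : ℕ → K := fun k => ∑ i ∈ s, (ζ ^ i) ^ k / (1 - ζ ^ i)
  let T : ℕ → K := fun k => ∑ i ∈ s, -((ζ ^ i) ^ (k + 1)) / (1 - ζ ^ i) ^ 2
  have hLHS : ∑ i ∈ s, ζ ^ (i * j) / (2 - ζ ^ i - (ζ ^ i)⁻¹) = T j := by
    refine Finset.sum_congr rfl fun i hi => ?_
    have h1 := hsub i hi
    have h4 := hu0 i
    have h5 : 2 - ζ ^ i - (ζ ^ i)⁻¹ = -((1 - ζ ^ i) ^ 2) / ζ ^ i := by field_simp; ring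
    rw [h5, pow_mul, div_div_eq_mul_div, div_neg, ← pow_succ, neg_div]
  have hcard : (s.card : K) = (N : K) - 1 := by
    rw [hs, Nat.card_Ioo]
    rw [Nat.sub_zero, Nat.cast_sub (by omega), Nat.cast_one]
  have hsum : ∀ k, 0 < k → k < N → ∑ i ∈ s, (ζ ^ i) ^ k = -1 := by
    intro k hk hkN
    have h := geom_sum_eq (hζ.pow_ne_one_of_pos_of_lt (by omega) hkN) N
    rw [← pow_mul, mul_comm k N, pow_mul, hζ.pow_eq_one, one_pow, sub_self, zero_div] at h
    have hins : Finset.range N = insert 0 s := by
      ext x; simp [hs]; omega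
    rw [hins, Finset.sum_insert (by simp [hs]), pow_zero] at h
    simp_rw [← pow_mul, mul_comm k, ] at h
    simp_rw [← pow_mul]
    exact eq_neg_of_add_eq_zero_right h
  have hU0 : U 0 + U 0 = (N : K) - 1 := by
    have hrefl : U 0 = ∑ i ∈ s, (ζ ^ (N - i)) ^ 0 / (1 - ζ ^ (N - i)) :=
      Finset.sum_nbij' (fun i => N - i) (fun i => N - i) (by intro i hi; simp [hs] at hi ⊢; omega)
        (by intro i hi; simp [hs] at hi ⊢; omega) (by intro i hi; simp [hs] at hi ⊢; omega)
        (by intro i hi; simp [hs] at hi ⊢; omega)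
        (by intro i hi; simp [hs] at hi; rw [show N - (N - i) = i by omega])
    conv_lhs => arg 2; rw [hrefl]
    rw [← Finset.sum_add_distrib, ← hcard, Finset.card_eq_sum_ones, Nat.cast_sum]
    refine Finset.sum_congr rfl fun i hi => ?_
    have hi' := hi
    rw [hs, Finset.mem_Ioo] at hi'
    have h4 := hsub i hi
    have hinv : ζ ^ (N - i) = (ζ ^ i)⁻¹ := by
      refine eq_inv_of_mul_eq_one_left ?_
      rw [← pow_add, Nat.sub_add_cancel hi'.2.le, hζ.pow_eq_one]
    rw [hinv, pow_zero, pow_zero, Nat.cast_one]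
    have h5 := hu0 i
    have h6' : (1 : K) - (ζ ^ i)⁻¹ = -(1 - ζ ^ i) / ζ ^ i := by field_simp; ring
    rw [h6', div_div_eq_mul_div, one_mul, div_neg, ← sub_eq_add_neg, div_sub_div_same, div_self h4]
  have hUstep : ∀ k, U (k + 1) = U k - ∑ i ∈ s, (ζ ^ i) ^ k := by
    intro k
    rw [← Finset.sum_sub_distrib]
    refine Finset.sum_congr rfl fun i hi => ?_
    have := hsub i hi
    field_simp
    ring
  have hU : ∀ k, k < N → 2 * U (k + 1) = 2 * (k : K) - ((N : K) - 1) := by
    intro k
    induction k with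
    | zero =>
      intro _
      rw [hUstep]
      simp only [pow_zero, Finset.sum_const, nsmul_eq_mul, mul_one, hcard, Nat.cast_zero]
      linear_combination hU0
    | succ k ih =>
      intro hk
      rw [hUstep (k + 1), hsum (k + 1) (by omega) hk]
      push_cast
      linear_combination ih (by omega)
  have hTstep : ∀ k, T (k + 1) = T k + U (k + 1) := by
    intro k
    rw [← Finset.sum_add_distrib]
    refine Finset.sum_congr rfl fun i hi => ?_
    have := hsub i hi
    field_simp
    ring
  have hT : ∀ k, k < N → 2 * T k = 2 * T 0 + (k : K) * ((k : K) - N) := by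
    intro k
    induction k with
    | zero => intro _; simp
    | succ k ih =>
      intro hk
      rw [hTstep]
      push_cast
      linear_combination ih (by omega) + hU k (by omega)
  have htot : ∑ k ∈ Finset.range N, T k = 0 := by
    rw [Finset.sum_comm]
    refine Finset.sum_eq_zero fun i hi => ?_
    rw [← Finset.sum_div, Finset.sum_neg_distrib]
    simp_rw [pow_succ]
    rw [← Finset.sum_mul, geom_sum_eq (hne i hi), ← pow_mul, mul_comm i N, pow_mul, hζ.pow_eq_one, one_pow,
      sub_self, zero_div, zero_mul, neg_zero, zero_div]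
  have hsq : ∀ n : ℕ, 6 * ∑ k ∈ Finset.range n, (k : K) * ((k : K) - (N : K)) =
      (n : K) * ((n : K) - 1) * (2 * (n : K) - 1 - 3 * (N : K)) := by
    intro n
    induction n with
    | zero => simp
    | succ n ih => rw [Finset.sum_range_succ]; push_cast; linear_combination ih
  have hT0 : 12 * T 0 = (N : K) ^ 2 - 1 := by
    have h := Finset.sum_congr rfl (fun k hk => hT k (Finset.mem_range.mp hk)) (s₁ := Finset.range N)
    rw [← Finset.mul_sum, htot, mul_zero, Finset.sum_add_distrib, Finset.sum_const, Finset.card_range,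
      nsmul_eq_mul] at h
    refine mul_left_cancel₀ hN ?_
    linear_combination (-6 : K) * h - hsq N
  rw [hLHS]
  rw [div_add_div _ _ h2 h12, eq_div_iff (mul_ne_zero h2 h12)]
  linear_combination 12 * hT j hj + 2 * hT0

end Groth.Agent.S18188
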