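import Groth.Statements.S18189
import Mathlib
import Mathlib
-- import your own Groth.Agent.* helpers here

set_option autoImplicit false
open OrbRR

namespace Groth.Agent.S18189

/-- Let N ≥ 1 be a natural number, let ζ ∈ ℂ be a primitive N-th root of unity, and put f(i) = i(i −
N)/2 + (N² − 1)/12 for 0 ≤ i < N. For every natural number m the complex number ε_m = (1/N)
∑_{i=0}^{N−1} f(i) ζ^{mi}, an eigenvalue of the symmetric circulant N × N matrix with (i, j) entry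
f(j − i)/N, is real and nonnegative. -/
theorem result (N : ℕ) (hN : 0 < N) (ζ : ℂ)
    (hζ : IsPrimitiveRoot ζ N) (m : ℕ) :
    (∑ i ∈ Finset.range N,
        ((i : ℂ) * ((i : ℂ) - (N : ℂ)) / 2 + ((N : ℂ) ^ 2 - 1) / 12) / (N : ℂ) * ζ ^ (m * i)).im = 0 ∧
    0 ≤ (∑ i ∈ Finset.range N,
        ((i : ℂ) * ((i : ℂ) - (N : ℂ)) / 2 + ((N : ℂ) ^ 2 - 1) / 12) / (N : ℂ) * ζ ^ (m * i)).re := by
  have hNC : (N : ℂ) ≠ 0 := by exact_mod_cast hN.ne'
  set w := ζ ^ m with hwdef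
  have hwN : w ^ N = 1 := by rw [hwdef, ← pow_mul, mul_comm, pow_mul, hζ.pow_eq_one, one_pow]
  simp_rw [pow_mul, ← hwdef]
  have hs2 : ∀ n : ℕ, ∑ i ∈ Finset.range n, ((i : ℂ) * ((i : ℂ) - (N : ℂ))) =
      ((n : ℂ) - 1) * n * (2 * n - 1) / 6 - N * (((n : ℂ) - 1) * n / 2) := by
    intro n
    induction n with
    | zero => simp
    | succ n ih => rw [Finset.sum_range_succ, ih]; push_cast; ring
  by_cases hw : w = 1
  · have h0 : ∑ i ∈ Finset.range N, ((i : ℂ) * ((i : ℂ) - (N : ℂ)) / 2 + ((N : ℂ) ^ 2 - 1) / 12) / (N : ℂ) * w ^ i = 0 := by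
      simp only [hw, one_pow, mul_one, ← Finset.sum_div, Finset.sum_add_distrib, hs2, Finset.sum_const, Finset.card_range,
        nsmul_eq_mul]
      field_simp
      ring
    rw [h0]; simp
  have h1 : w - 1 ≠ 0 := sub_ne_zero.2 hw
  have hgeo : ∑ i ∈ Finset.range N, w ^ i = 0 := by
    rw [geom_sum_eq hw, hwN, sub_self, zero_div]
  have hgen : ∀ n : ℕ, (w - 1) ^ 3 * ∑ i ∈ Finset.range n, (i : ℂ) * ((i : ℂ) - (N : ℂ)) * w ^ i =
      w ^ n * ((n : ℂ) * ((n : ℂ) - N) * (w - 1) ^ 2 - (2 * (n : ℂ) - N) * w * (w - 1) + (w ^ 2 + w)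
        ) - (-(-(N : ℂ)) * w * (w - 1) + (w ^ 2 + w)) := by
    intro n
    induction n with
    | zero => push_cast; ring
    | succ n ih => rw [Finset.sum_range_succ, mul_add, ih]; push_cast; ring
  have h2 := hgen N
  rw [hwN] at h2
  have hw0 : w ≠ 0 := fun h => by rw [h, zero_pow hN.ne'] at hwN; exact zero_ne_one hwN
  have hval : ∑ i ∈ Finset.range N, ((i : ℂ) * ((i : ℂ) - (N : ℂ)) / 2 + ((N : ℂ) ^ 2 - 1) / 12) / (N : ℂ) * w ^ i =
      -w / (w - 1) ^ 2 := by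
    have e : ∀ i : ℕ, ((i : ℂ) * ((i : ℂ) - (N : ℂ)) / 2 + ((N : ℂ) ^ 2 - 1) / 12) / (N : ℂ) * w ^ i =
        (1 / (2 * N)) * ((i : ℂ) * ((i : ℂ) - (N : ℂ)) * w ^ i) + (((N : ℂ) ^ 2 - 1) / (12 * N)) * w ^ i := fun i => by
      field_simp
    rw [Finset.sum_congr rfl fun i _ => e i, Finset.sum_add_distrib, ← Finset.mul_sum, ← Finset.mul_sum, hgeo, mul_zero,
      add_zero]
    field_simp
    refine mul_left_cancel₀ h1 ?_
    linear_combination h2
  have hnorm : Complex.normSq w = 1 := by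
    have h := Complex.norm_eq_one_of_pow_eq_one hwN hN.ne'
    rw [Complex.normSq_eq_norm_sq, h, one_pow]
  have hconj : w * (starRingEnd ℂ) w = 1 := by rw [Complex.mul_conj, hnorm, Complex.ofReal_one]
  have hreal : -w / (w - 1) ^ 2 = (((Complex.normSq (w - 1))⁻¹ : ℝ) : ℂ) := by
    rw [Complex.ofReal_inv, ← Complex.mul_conj, map_sub, map_one]
    have hne : (w - 1) * ((starRingEnd ℂ) w - 1) ≠ 0 := by
      have hc : (starRingEnd ℂ) w - 1 = starRingEnd ℂ (w - 1) := by simp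
      rw [hc]
      exact mul_ne_zero h1 ((map_ne_zero _).2 h1)
    refine eq_inv_of_mul_eq_one_left ?_
    field_simp
    linear_combination -hconj
  rw [hval, hreal]
  exact ⟨Complex.ofReal_im _, by rw [Complex.ofReal_re]; exact inv_nonneg.2 (Complex.normSq_nonneg _)⟩

end Groth.Agent.S18189
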