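import Groth.Statements.S18190
import Mathlib.LinearAlgebra.Matrix.PosDef
import Mathlib.Data.ZMod.Basic
import Mathlib.Algebra.BigOperators.Ring.Finset
import Mathlib.Algebra.BigOperators.Field
import Mathlib.Tactic.LinearCombination
-- import your own Groth.Agent.* helpers here

set_option autoImplicit false
open OrbRR

namespace Groth.Agent.S18190

/-- Let N ≥ 1 and let f : ℤ/Nℤ → ℚ be f(x) = x(x − N)/2 + (N² − 1)/12, where x is read as its
representative with 0 ≤ x < N. The real N × N matrix indexed by ℤ/Nℤ whose (i, j) entry is f(j −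
i)/N, a symmetric circulant matrix, is positive semidefinite. -/
theorem result (N : ℕ) [NeZero N] :
    (Matrix.of fun i j : ZMod N =>
        ((((j - i).val : ℝ) * (((j - i).val : ℝ) - (N : ℝ))) / 2 + ((N : ℝ) ^ 2 - 1) / 12) / (N : ℝ)).PosSemidef := by
  classical
  let g : ZMod N → ℝ := fun m => (((m.val : ℝ) * ((m.val : ℝ) - N)) / 2 + ((N : ℝ) ^ 2 - 1) / 12) / N
  have hN : (N : ℝ) ≠ 0 := Nat.cast_ne_zero.mpr (NeZero.ne N)
  -- the total sum vanishes
  have hpoly : ∀ n : ℕ, ∑ m ∈ Finset.range n, ((m : ℝ) * ((m : ℝ) - N) / 2 + ((N : ℝ) ^ 2 - 1) / 12) =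
      (((n : ℝ) - 1) * n * (2 * n - 1) / 6 - N * ((n : ℝ) - 1) * n / 2) / 2 + n * ((N : ℝ) ^ 2 - 1) / 12 := fun n => by
    induction n with
    | zero => simp
    | succ n ih => rw [Finset.sum_range_succ, ih]; push_cast; ring
  have hsum : ∑ m : ZMod N, g m = 0 := by
    have h1 : ∑ m : ZMod N, g m = ∑ m ∈ Finset.range N, ((m : ℝ) * ((m : ℝ) - N) / 2 + ((N : ℝ) ^ 2 - 1) / 12) / N := by
      refine Finset.sum_bij' (fun m _ => m.val) (fun m _ => (m : ZMod N)) (fun m _ => Finset.mem_range.mpr (ZMod.val_lt m))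
        (fun _ _ => Finset.mem_univ _) (fun m _ => ZMod.natCast_zmod_val m)
        (fun m hm => ZMod.val_cast_of_lt (Finset.mem_range.mp hm)) (fun m _ => rfl)
    rw [h1, ← Finset.sum_div, hpoly]
    field_simp
    ring
  -- the discrete Laplacian
  have hΔ : ∀ m : ZMod N, 2 * g m - g (m - 1) - g (m + 1) = (if m = 0 then 1 else 0) - 1 / (N : ℝ) := by
    intro m
    rcases Nat.lt_or_ge N 2 with hN2 | hN2
    · have hN1 : N = 1 := by have := NeZero.pos N; omega
      subst hN1
      rw [Subsingleton.elim m 0, Subsingleton.elim ((0 : ZMod 1) - 1) 0, Subsingleton.elim ((0 : ZMod 1) + 1) 0, if_pos rfl]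
      norm_num
      ring
    haveI : Fact (1 < N) := ⟨hN2⟩
    have hm := ZMod.val_lt m
    have hsucc : (m + 1).val = if m.val + 1 = N then 0 else m.val + 1 := by
      rw [ZMod.val_add, ZMod.val_one]
      split_ifs with h
      · rw [h, Nat.mod_self]
      · exact Nat.mod_eq_of_lt (by omega)
    have hpred : (m - 1).val = if m.val = 0 then N - 1 else m.val - 1 := by
      split_ifs with h
      · rw [(ZMod.val_eq_zero m).mp h, zero_sub, ZMod.neg_val, if_neg one_ne_zero, ZMod.val_one]
      · rw [ZMod.val_sub (by rw [ZMod.val_one]; omega), ZMod.val_one]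
    simp only [g, hsucc, hpred, ← ZMod.val_eq_zero m]
    by_cases h0 : m.val = 0
    · rw [if_pos h0, if_pos h0, if_neg (by omega), h0, Nat.cast_sub (by omega)]
      push_cast
      field_simp
      ring
    · rw [if_neg h0, if_neg h0, Nat.cast_sub (by omega)]
      by_cases h1 : m.val + 1 = N
      · rw [if_pos h1]
        have : (m.val : ℝ) = N - 1 := by rw [eq_sub_iff_add_eq]; exact_mod_cast h1
        rw [this]
        push_cast
        field_simp
        ring
      · rw [if_neg h1]
        push_cast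
        field_simp
        ring
  have hneg : ∀ m : ZMod N, g (-m) = g m := fun m => by
    simp only [g, ZMod.neg_val]
    split_ifs with h
    · simp [h]
    · rw [Nat.cast_sub (ZMod.val_lt m).le]; ring
  refine Matrix.PosSemidef.of_dotProduct_mulVec_nonneg ?_ fun x => ?_
  · ext i j
    simp only [Matrix.conjTranspose_apply, Matrix.of_apply, star_trivial]
    have := hneg (j - i)
    rw [neg_sub] at this
    exact this
  · let y : ZMod N → ℝ := fun i => ∑ j, g (j - i) * x j
    have hy0 : ∑ i, y i = 0 := by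
      rw [Finset.sum_comm]
      refine Finset.sum_eq_zero fun j _ => ?_
      rw [← Finset.sum_mul, show ∑ i, g (j - i) = 0 from ((Equiv.subLeft j).sum_comp g).trans hsum, zero_mul]
    have hL : ∀ i, 2 * y i - y (i - 1) - y (i + 1) = x i - (∑ j, x j) / N := fun i => by
      simp only [y, Finset.mul_sum, ← Finset.sum_sub_distrib]
      rw [Finset.sum_congr rfl fun j _ => show 2 * (g (j - i) * x j) - g (j - (i - 1)) * x j - g (j - (i + 1)) * x j =
          (2 * g (j - i) - g (j - i - 1) - g (j - i + 1)) * x j by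
        rw [sub_sub_eq_add_sub, add_sub_right_comm, show j - (i + 1) = j - i - 1 by ring]; ring]
      simp only [hΔ, sub_mul, Finset.sum_sub_distrib, ite_mul, one_mul, zero_mul, sub_eq_zero, Finset.sum_ite_eq', Finset.mem_univ, if_true]
      rw [Finset.sum_div]
      exact congrArg (x i - ·) (Finset.sum_congr rfl fun j _ => by ring)
    have hq : star x ⬝ᵥ Matrix.mulVec (Matrix.of fun i j : ZMod N => g (j - i)) x = ∑ i, x i * y i := by
      simp [dotProduct, Matrix.mulVec, y]
    show 0 ≤ star x ⬝ᵥ Matrix.mulVec (Matrix.of fun i j : ZMod N => g (j - i)) x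
    rw [hq]
    have e1 : ∑ i, x i * y i = ∑ i, (2 * y i - y (i - 1) - y (i + 1)) * y i := by
      simp only [hL, sub_mul, Finset.sum_sub_distrib, ← Finset.mul_sum, hy0, mul_zero, sub_zero]
    have e2 : ∑ i, y (i - 1) * y i = ∑ i, y i * y (i + 1) := by
      refine Fintype.sum_equiv (Equiv.subRight (1 : ZMod N)) _ _ fun i => ?_
      simp
    have e3 : ∑ i, y (i + 1) ^ 2 = ∑ i, y i ^ 2 := Fintype.sum_equiv (Equiv.addRight (1 : ZMod N)) _ _ fun i => rfl
    have e4 : ∑ i, x i * y i = ∑ i, (y i - y (i + 1)) ^ 2 := by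
      rw [e1]
      simp only [sub_mul, sub_sq, Finset.sum_sub_distrib, Finset.sum_add_distrib, e2, e3]
      simp only [mul_assoc, ← Finset.mul_sum, ← pow_two, mul_comm (y (_ + 1)) (y _)]
      ring
    rw [e4]
    exact Finset.sum_nonneg fun i _ => sq_nonneg _

end Groth.Agent.S18190
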