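import Groth.Statements.S18194
import Groth.Agent.LocImmLib.Consequences

set_option autoImplicit false
universe u
open LocImm

namespace Groth.Agent.S18194

open CategoryTheory AlgebraicGeometry in
/-- Let `X, Y₁, Y₂` be Noetherian schemes, `f_i : X ⟶ Y_i` separated localizing immersions (localizing
and injective on points) and `g : Y₁ ⟶ Y₂` a separated morphism essentially of finite type with `f₁
≫ g = f₂`. Then there is an open `U ⊆ Y₁` containing the image of `f₁` such that the restriction `U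
⟶ Y₂` of `g` is a localizing immersion. -/
theorem result {X Y₁ Y₂ : Scheme.{u}} [IsNoetherian X] [IsNoetherian Y₁] [IsNoetherian Y₂]
    (f₁ : X ⟶ Y₁) (f₂ : X ⟶ Y₂) (g : Y₁ ⟶ Y₂) (hf₁ : LocImm.IsLocImmersion f₁) (hf₂ : LocImm.IsLocImmersion f₂)
    [IsSeparated f₁] [IsSeparated f₂] [IsSeparated g] [EssFT.EssFiniteType g] (h : f₁ ≫ g = f₂) :
    ∃ U : Y₁.Opens, Set.range (fun x => f₁ x) ⊆ (U : Set Y₁) ∧ LocImm.IsLocImmersion (U.ι ≫ g) := by
  obtain ⟨Z, i, p, _, hi, _, _, _, hip⟩ := Groth.Agent.LocImmLib.hasFactor g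
  haveI : IsSeparated (𝟙 Y₂) := inferInstance
  obtain ⟨W, k, g₁, g₂, _, -, _, _, hg₁, -, hπ⟩ := Groth.Agent.LocImmLib.exists_common_nhd (f₁ ≫ i) f₂ p (𝟙 Y₂)
    (Groth.Agent.LocImmLib.comp hf₁ hi) hf₂ (by rw [Category.assoc, hip, Category.comp_id, h])
  let R := g₁.opensRange
  haveI := Groth.Agent.LocImmLib.isNoetherian_opens (i ⁻¹ᵁ R)
  haveI := Groth.Agent.LocImmLib.isNoetherian_opens R
  refine ⟨i ⁻¹ᵁ R, ?_, ?_⟩
  · rintro _ ⟨x, rfl⟩
    exact ⟨k x, congr($hg₁ x)⟩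
  · obtain ⟨l, hl, hll⟩ := Groth.Agent.LocImmLib.lift_opens
      (Groth.Agent.LocImmLib.comp (Groth.Agent.LocImmLib.isLocImmersion_of_isOpenImmersion (i ⁻¹ᵁ R).ι) hi) R
      (by rintro _ ⟨z, rfl⟩; exact z.2)
    have hR : R.ι ≫ p = g₁.isoOpensRange.inv ≫ g₂ := by
      rw [← Category.comp_id g₂, ← hπ, Scheme.Hom.isoOpensRange_inv_comp_assoc]
    haveI : IsOpenImmersion (R.ι ≫ p) := by rw [hR]; infer_instance
    rw [show (i ⁻¹ᵁ R).ι ≫ g = l ≫ R.ι ≫ p by rw [reassoc_of% hl, hip]]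
    exact Groth.Agent.LocImmLib.comp hll (Groth.Agent.LocImmLib.isLocImmersion_of_isOpenImmersion _)

end Groth.Agent.S18194
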