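import Groth.Statements.S18197
import Groth.Agent.LocImmLib.Basic

set_option autoImplicit false
universe u
open LocImm

namespace Groth.Agent.S18197

open CategoryTheory AlgebraicGeometry in
theorem exists_section {X Y : Scheme.{u}} {f : X ⟶ Y} (hf : LocImm.IsLocalizing f) (x : X) (y : Y) (h : f x = y) :
    ∃ (g : Spec (Y.presheaf.stalk y) ⟶ X), g ≫ f = Y.fromSpecStalk y ∧ x ∈ Set.range g := by
  subst h
  have := Groth.Agent.LocImmLib.isIso_stalkMap hf x
  refine ⟨Spec.map (inv (f.stalkMap x)) ≫ X.fromSpecStalk x, ?_, ?_⟩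
  · rw [Category.assoc, ← Scheme.SpecMap_stalkMap_fromSpecStalk, ← Spec.map_comp_assoc, IsIso.hom_inv_id,
      Spec.map_id, Category.id_comp]
  · rw [Scheme.Hom.comp_base, TopCat.coe_comp, Set.range_comp,
      Set.range_eq_univ.mpr (show Function.Surjective (Spec.map (inv (f.stalkMap x))) from
        (Scheme.Hom.homeomorph (Spec.map (inv (f.stalkMap x)))).surjective),
      Set.image_univ, Scheme.range_fromSpecStalk]
    exact specializes_rfl

open CategoryTheory CategoryTheory.Limits AlgebraicGeometry in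
theorem injective_of_isSeparated {X Y : Scheme.{u}} {f : X ⟶ Y} (hf : LocImm.IsLocalizing f) [IsSeparated f]
    (hmax : Set.InjOn (fun x => f x) {x : X | ∀ x' : X, x' ⤳ x → x' = x}) : Function.Injective f.base := by
  intro x₁ x₂ h
  obtain ⟨g₁, hg₁, c₁, hc₁⟩ := exists_section hf x₁ (f x₁) rfl
  obtain ⟨g₂, hg₂, c₂, hc₂⟩ := exists_section hf x₂ (f x₁) h.symm
  have hc : c₁ = c₂ := by
    apply (Y.fromSpecStalk (f x₁)).isEmbedding.injective
    rw [← congr($(hg₁) c₁), ← congr($(hg₂) c₂), Scheme.Hom.comp_apply, Scheme.Hom.comp_apply, hc₁, hc₂]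
    exact h
  subst hc
  let E := pullback (pullback.diagonal f) (pullback.lift g₁ g₂ (hg₁.trans hg₂.symm))
  let i : E ⟶ Spec (Y.presheaf.stalk (f x₁)) := pullback.snd _ _
  obtain ⟨p, hp, hple⟩ := Ideal.exists_minimalPrimes_le (I := ⊥) (J := c₁.asIdeal) bot_le
  let η : Spec (Y.presheaf.stalk (f x₁)) := ⟨p, hp.1.1⟩
  have hηc : η ⤳ c₁ := (PrimeSpectrum.le_iff_specializes η c₁).mp hple
  have hmax' : ∀ (g : Spec (Y.presheaf.stalk (f x₁)) ⟶ X), g ≫ f = Y.fromSpecStalk (f x₁) →
      g η ∈ {x : X | ∀ x' : X, x' ⤳ x → x' = x} := by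
    intro g hg x' hx'
    refine Groth.Agent.LocImmLib.eq_of_specializes hf hx' ?_
    have h1 : f x' ⤳ Y.fromSpecStalk (f x₁) η := by
      rw [← hg, Scheme.Hom.comp_apply]
      exact hx'.map f.continuous
    obtain ⟨t, ht⟩ : f x' ∈ Set.range (Y.fromSpecStalk (f x₁)) := by
      rw [Scheme.range_fromSpecStalk]
      have : Y.fromSpecStalk (f x₁) η ∈ Set.range (Y.fromSpecStalk (f x₁)) := ⟨η, rfl⟩
      rw [Scheme.range_fromSpecStalk] at this
      exact h1.trans this
    rw [← ht, (Y.fromSpecStalk (f x₁)).isEmbedding.isInducing.specializes_iff] at h1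
    have hle : t.asIdeal ≤ η.asIdeal := (PrimeSpectrum.le_iff_specializes t η).mpr h1
    have htη : t = η := PrimeSpectrum.ext (le_antisymm hle (hp.2 ⟨t.2, bot_le⟩ hle))
    rw [← ht, htη, ← Scheme.Hom.comp_apply, hg]
  have hηg : g₁ η = g₂ η := hmax (hmax' g₁ hg₁) (hmax' g₂ hg₂) (by
    change f (g₁ η) = f (g₂ η)
    rw [← Scheme.Hom.comp_apply, ← Scheme.Hom.comp_apply, hg₁, hg₂])
  let k := (Spec (Y.presheaf.stalk (f x₁))).fromSpecResidueField η
  have hk : k ≫ g₁ = k ≫ g₂ := Groth.Agent.LocImmLib.hom_ext hf _ _ (by rw [Category.assoc, hg₁, Category.assoc, hg₂])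
    fun t => by
      have ht : k t = η := Scheme.fromSpecResidueField_apply _ _
      rw [Scheme.Hom.comp_apply, Scheme.Hom.comp_apply, ht, hηg]
  have hη : η ∈ Set.range i := by
    let l := pullback.lift (f := pullback.diagonal f) (g := pullback.lift g₁ g₂ (hg₁.trans hg₂.symm)) (k ≫ g₁) k
      (pullback.hom_ext
        (by rw [Category.assoc, Category.assoc, pullback.diagonal_fst, Category.comp_id, Category.assoc, pullback.lift_fst])
        (by rw [Category.assoc, Category.assoc, pullback.diagonal_snd, Category.comp_id, Category.assoc, pullback.lift_snd, hk]))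
    obtain ⟨t⟩ : Nonempty (Spec ((Spec (Y.presheaf.stalk (f x₁))).residueField η)) := inferInstance
    exact ⟨l t, by rw [← Scheme.Hom.comp_apply, pullback.lift_snd]; exact Scheme.fromSpecResidueField_apply _ _⟩
  obtain ⟨e, he⟩ : c₁ ∈ Set.range i := hηc.mem_closed i.isClosedEmbedding.isClosed_range hη
  have h1 : i ≫ g₁ = pullback.fst _ _ := by
    have := congr($(pullback.condition (f := pullback.diagonal f) (g := pullback.lift g₁ g₂ (hg₁.trans hg₂.symm))) ≫ pullback.fst f f)
    rw [Category.assoc, Category.assoc, pullback.diagonal_fst, Category.comp_id, pullback.lift_fst] at this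
    exact this.symm
  have h2 : i ≫ g₂ = pullback.fst _ _ := by
    have := congr($(pullback.condition (f := pullback.diagonal f) (g := pullback.lift g₁ g₂ (hg₁.trans hg₂.symm))) ≫ pullback.snd f f)
    rw [Category.assoc, Category.assoc, pullback.diagonal_snd, Category.comp_id, pullback.lift_snd] at this
    exact this.symm
  rw [← hc₁, ← hc₂, ← he, ← Scheme.Hom.comp_apply, ← Scheme.Hom.comp_apply, h1, h2]


open CategoryTheory AlgebraicGeometry in
/-- Let `f : X ⟶ Y` be a localizing morphism of Noetherian schemes. Then `f` is injective on points if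
and only if `f` is separated and injective on the set of maximal points of `X` (the generic points
of its irreducible components, i.e. the points with no proper generization). -/
theorem result {X Y : Scheme.{u}} [IsNoetherian X] [IsNoetherian Y] (f : X ⟶ Y) (hf : LocImm.IsLocalizing f) :
    Function.Injective f.base ↔ (IsSeparated f ∧ Set.InjOn (fun x => f x) {x : X | ∀ x' : X, x' ⤳ x → x' = x}) := by
  refine ⟨fun h => ?_, fun ⟨h1, h2⟩ => injective_of_isSeparated hf h2⟩
  have := Groth.Agent.LocImmLib.isPreimmersion (⟨hf, h⟩ : LocImm.IsLocImmersion f)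
  exact ⟨inferInstance, h.injOn⟩

end Groth.Agent.S18197
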