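import Groth.Statements.S18206
import Groth.Agent.LocImmLib.Basic

set_option autoImplicit false
universe u
open LocImm

namespace Groth.Agent.S18206

open CategoryTheory AlgebraicGeometry in
/-- Let `f : X ⟶ Y` be a localizing immersion (localizing and injective on points) of Noetherian
schemes. Then every quasi-coherent ideal sheaf `I` on `X` is the inverse image ideal `J·O_X` of some
quasi-coherent ideal sheaf `J` on `Y` (all such ideals are coherent, the schemes being Noetherian). -/
theorem result {X Y : Scheme.{u}} [IsNoetherian X] [IsNoetherian Y]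
    (f : X ⟶ Y) (hf : LocImm.IsLocImmersion f) (I : X.IdealSheafData) : ∃ J : Y.IdealSheafData, J.comap f = I := by
  refine ⟨I.map f, le_antisymm (Scheme.IdealSheafData.comap_map_le I f) ?_⟩
  choose W hW _ hWa _ hWp hWl using fun x => Groth.Agent.LocImmLib.exists_nhd hf x ⊤ trivial ⊤ trivial
  refine Scheme.IdealSheafData.le_of_iSup_eq_top (fun x => ⟨f ⁻¹ᵁ W x, hWp x⟩)
    (eq_top_iff.mpr fun x _ => TopologicalSpace.Opens.mem_iSup.mpr ⟨x, hW x⟩) fun x => ?_
  have key := Scheme.IdealSheafData.le_map_comap (I.map f) f ⟨W x, hWa x⟩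
  rw [Scheme.IdealSheafData.ideal_map _ f ⟨W x, hWa x⟩ (hWp x)] at key
  rw [Scheme.IdealSheafData.ideal_map _ f ⟨W x, hWa x⟩ (hWp x)] at key
  let := (f.app (W x)).hom.toAlgebra
  obtain ⟨S, hS⟩ := hWl x
  rw [← IsLocalization.map_comap S Γ(X, f ⁻¹ᵁ W x) (I.ideal ⟨f ⁻¹ᵁ W x, hWp x⟩)]
  exact Ideal.map_le_iff_le_comap.mpr key

end Groth.Agent.S18206
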