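import Groth.Statements.S18208
import Groth.Agent.LocImmLib.Basic

set_option autoImplicit false
universe u
open LocImm

namespace Groth.Agent.S18208

open CategoryTheory AlgebraicGeometry in
/-- A morphism `f : X ⟶ Y` of Noetherian schemes is a localizing immersion (localizing and injective on
points) if and only if every point of `f(X)` has an affine open neighbourhood `V` in `Y` whose
preimage `f⁻¹V` is affine with `Γ(Y, V) → Γ(X, f⁻¹V)` a localizing ring map (its target is the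
localization of its source at some submonoid). In particular such an `f` is quasi-affine. -/
theorem result {X Y : Scheme.{u}} [IsNoetherian X] [IsNoetherian Y] (f : X ⟶ Y) :
    LocImm.IsLocImmersion f ↔ ∀ x : X, ∃ V : Y.Opens, f x ∈ V ∧ IsAffineOpen V ∧ IsAffineOpen (f ⁻¹ᵁ V) ∧ LocImm.IsLocHom (f.app V).hom := by
  constructor
  · intro hf x
    obtain ⟨W, h1, _, h2, _, h3, h4⟩ := Groth.Agent.LocImmLib.exists_nhd hf x ⊤ trivial ⊤ trivial
    exact ⟨W, h1, h2, h3, h4⟩
  · intro h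
    refine ⟨fun x => ?_, fun x x' hxx => ?_⟩
    · obtain ⟨V, hx, hV, hp, hl⟩ := h x
      refine ⟨⟨V, hV⟩, ⟨f ⁻¹ᵁ V, hp⟩, hx, le_rfl, ?_⟩
      rw [← Scheme.Hom.app_eq_appLE]
      exact hl
    · obtain ⟨V, hx, hV, hp, hl⟩ := h x
      have hl' : LocImm.IsLocHom (f.appLE V (f ⁻¹ᵁ V) le_rfl).hom := by
        rw [← Scheme.Hom.app_eq_appLE]
        exact hl
      have := (Groth.Agent.LocImmLib.chart ⟨V, hV⟩ ⟨f ⁻¹ᵁ V, hp⟩ le_rfl hl').2
      have hx' : x' ∈ f ⁻¹ᵁ V := by
        change f x' ∈ V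
        rw [← hxx]
        exact hx
      exact congrArg Subtype.val (((f ⁻¹ᵁ V).ι ≫ f).isEmbedding.injective
        (a₁ := (⟨x, hx⟩ : (f ⁻¹ᵁ V : X.Opens))) (a₂ := (⟨x', hx'⟩ : (f ⁻¹ᵁ V : X.Opens))) hxx)

end Groth.Agent.S18208
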