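import Groth.Statements.S18211
import Groth.Agent.S17383
import Groth.Agent.S18202
import Groth.Agent.LocImmLib.Nhd
import Groth.Agent.LocImmLib.Factor
import Groth.Agent.LocImmLib.Union
import Groth.Agent.MiscFlat6.QARelAmple
import Groth.Agent.BlowUpLib.Exists

set_option autoImplicit false
universe u
open LocImm

namespace Groth.Agent.S18211

open CategoryTheory AlgebraicGeometry Limits in
/-- Let `π : Y ⟶ S` be a separated morphism of Noetherian schemes, essentially of finite type, and `f :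
U ⟶ Y` a localizing immersion (localizing and injective on points) with dense image such that `U ⟶
S` is essentially quasi-projective: it factors as a localizing immersion `j : U ⟶ P` followed by a
projective morphism `P ⟶ S` (in the sense of the relative homogeneous spectrum of a quasi-coherent
graded algebra generated in degree one with degree-one part of finite type). Then there is a blow-up
`Ỹ ⟶ Y` in a quasi-coherent ideal whose closed subscheme misses `f(U)` such that `Ỹ ⟶ S` is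
essentially quasi-projective in the same sense. -/
theorem result {U Y S P : Scheme.{u}} [IsNoetherian U] [IsNoetherian Y] [IsNoetherian S] [IsNoetherian P]
    (π : Y ⟶ S) [IsSeparated π] [EssFT.EssFiniteType π] (f : U ⟶ Y) (hf : LocImm.IsLocImmersion f)
    (hfd : Dense (Set.range (fun x => f x))) (j : U ⟶ P) (p : P ⟶ S) (hj : LocImm.IsLocImmersion j)
    (hp : RelProj.IsProjective p) (hc : j ≫ p = f ≫ π) :
    ∃ (𝓘 : Y.IdealSheafData) (Yt P' : Scheme.{u}) (b : Yt ⟶ Y) (j' : Yt ⟶ P') (p' : P' ⟶ S),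
      BlowUp.IsBlowUp b 𝓘 ∧ Disjoint (𝓘.support : Set Y) (Set.range (fun x => f x)) ∧
      LocImm.IsLocImmersion j' ∧ RelProj.IsProjective p' ∧ j' ≫ p' = b ≫ π := by
  classical
  obtain ⟨Y₀, k, p₀, hY₀, hk, hsep, hlft, hqc, hkp⟩ := Groth.Agent.LocImmLib.hasFactor π
  haveI := hY₀
  haveI := hsep
  haveI := hlft
  haveI := hqc
  haveI := RelProjLib.isProper_of_isProjective hp
  have hf₁ : LocImm.IsLocImmersion (f ≫ k) := Groth.Agent.LocImmLib.comp hf hk
  obtain ⟨W, kW, g₁, g₂, hW, -, hg₁, hg₂, hkW₁, -, hg⟩ :=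
    Groth.Agent.LocImmLib.exists_common_nhd (f ≫ k) j p₀ p hf₁ hj (by rw [Category.assoc, hkp, hc])
  haveI := hW
  haveI := hg₁
  haveI := hg₂
  let Q : Y₀.Opens := ⟨interior (closure (Set.range g₁)), isOpen_interior⟩
  have hkQ : Set.range k ⊆ Q := by
    rintro _ ⟨y, rfl⟩
    show k y ∈ interior (closure (Set.range g₁))
    rw [interior_eq_compl_closure_compl, Set.mem_compl_iff]
    intro hy
    obtain ⟨z, hz, hzy⟩ := Groth.Agent.LocImmLib.exists_specializes_of_mem_closure_open
      isClosed_closure.isOpen_compl hy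
    obtain ⟨y', rfl⟩ := Groth.Agent.LocImmLib.stableUnderGeneralization_range hk.1 hzy ⟨y, rfl⟩
    refine hz ?_
    refine closure_mono ?_ (image_closure_subset_closure_image k.continuous ⟨y', hfd y', rfl⟩)
    rintro _ ⟨_, ⟨x, rfl⟩, rfl⟩
    exact ⟨kW x, by rw [← Scheme.Hom.comp_apply kW, hkW₁]; rfl⟩
  have hgQ : Set.range g₁ ⊆ Q := interior_maximal subset_closure g₁.isOpenEmbedding.isOpen_range
  obtain ⟨k', hk'ι, hk'⟩ := Groth.Agent.LocImmLib.lift_opens hk Q hkQ
  haveI : IsNoetherian Q.toScheme := Groth.Agent.LocImmLib.isNoetherian_opens Q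
  let g₁' : W ⟶ Q.toScheme := IsOpenImmersion.lift Q.ι g₁ (by rw [Scheme.Opens.range_ι]; exact hgQ)
  have hg₁' : g₁' ≫ Q.ι = g₁ := IsOpenImmersion.lift_fac _ _ _
  haveI : IsOpenImmersion (g₁' ≫ Q.ι) := by rw [hg₁']; infer_instance
  haveI : IsOpenImmersion g₁' := IsOpenImmersion.of_comp g₁' Q.ι
  let U₀ : Q.toScheme.Opens := g₁'.opensRange
  have hU₀d : Dense (U₀ : Set Q.toScheme) := by
    intro z
    refine closure_subtype.mpr ?_
    have e : Subtype.val '' (U₀ : Set Q.toScheme) = Set.range g₁ := by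
      rw [← hg₁']
      ext w
      constructor
      · rintro ⟨_, ⟨v, rfl⟩, rfl⟩; exact ⟨v, rfl⟩
      · rintro ⟨v, rfl⟩; exact ⟨g₁' v, ⟨v, rfl⟩, rfl⟩
    rw [e]
    exact interior_subset z.2
  haveI : QuasiCompact (Q.ι ≫ p₀) := ⟨fun U hU hUc => TopologicalSpace.NoetherianSpace.isCompact _⟩
  have hq : RelProj.IsQuasiProjective (U₀.ι ≫ Q.ι ≫ p₀) := by
    obtain ⟨⟨-, -, L, hL⟩, -⟩ := MiscFlat6.isQuasiProjective_of_isProjective hp
    let i : U₀.toScheme ⟶ P := g₁'.isoOpensRange.inv ≫ g₂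
    have hi : i ≫ p = U₀.ι ≫ Q.ι ≫ p₀ := by
      rw [Category.assoc, ← hg, ← hg₁']
      simp only [U₀, Category.assoc, Scheme.Hom.isoOpensRange_inv_comp_assoc]
    haveI := Groth.Agent.LocImmLib.isNoetherian_opens U₀
    haveI : QuasiCompact i := ⟨fun U hU hUc => TopologicalSpace.NoetherianSpace.isCompact _⟩
    rw [← hi]
    exact ⟨inferInstance, inferInstance, _, MiscFlat6.isRelAmple_pb i p (RichLib.QA.of_isImmersion i) hL⟩
  obtain ⟨K, X', P', q, j', g, hq', hK, hgP, hj', -, hjg⟩ := Groth.Agent.S17383.result (Q.ι ≫ p₀) U₀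
    (TopologicalSpace.NoetherianSpace.isCompact _) hU₀d hq
  haveI := Groth.Agent.LocImmLib.isNoetherian_of_isBlowUp hq'
  haveI := Groth.Agent.LocImmLib.flat hk'.1
  have hb : BlowUp.IsBlowUp (pullback.fst k' q) (K.comap k') :=
    BlowUpLib.isBlowUp_of_isPullback (IsPullback.of_hasPullback k' q).flip hq'
  haveI := Groth.Agent.LocImmLib.isNoetherian_of_isBlowUp hb
  haveI := hj'
  refine ⟨K.comap k', pullback k' q, P', pullback.fst k' q, pullback.snd k' q ≫ j', g, hb, ?_,
    Groth.Agent.LocImmLib.comp (Groth.Agent.S18202.result k' q hk')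
      (Groth.Agent.LocImmLib.isLocImmersion_of_isOpenImmersion j'), hgP, ?_⟩
  · rw [Scheme.IdealSheafData.support_comap]
    refine Set.disjoint_left.mpr ?_
    rintro _ hy ⟨x, rfl⟩
    refine Set.disjoint_left.mp hK.2 hy ⟨kW x, ?_⟩
    refine Q.ι.isOpenEmbedding.injective ?_
    rw [← Scheme.Hom.comp_apply g₁', hg₁', ← Scheme.Hom.comp_apply k', hk'ι, ← Scheme.Hom.comp_apply kW, hkW₁]
    rfl
  · rw [Category.assoc, hjg, ← pullback.condition_assoc, ← hkp, reassoc_of% hk'ι]

end Groth.Agent.S18211
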