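import Groth.Statements.S18229
import Groth.Agent.AVAmpleLib.NonDegen
import Groth.Agent.AVAmpleLib.SubAV
import Groth.Agent.AVVanishLib.Basic
import Groth.Agent.CubeConsLib.Transpose
-- import your own Groth.Agent.* helpers here

set_option autoImplicit false
universe u
open CategoryTheory CategoryTheory.Limits MonoidalCategory CartesianMonoidalCategory MonObj GrpObj AlgebraicGeometry
open AbVar

namespace Groth.Agent.S18229

/-- Let k be an algebraically closed field (any characteristic) and X a simple abelian variety over k: a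
proper smooth k-group scheme with geometrically connected fibres whose only geometrically integral
closed k-subgroup schemes are the trivial subgroup and X itself. Let G be an invertible O_X-module
which is effective and non-trivial: H^0(X, G) ≠ 0 and G is not isomorphic to O_X. Then G is ample.
(In other words, when the abelian variety is simple, any line bundle that is effective and not
trivial must be ample.) -/
theorem result (k : Type u) [Field k] [IsAlgClosed k]
    (X : Over (Spec (CommRingCat.of k))) [GrpObj X] [IsProper X.hom] [Smooth X.hom] [GeometricallyConnected X.hom]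
    (hsimple : ∀ (B : Over (Spec (CommRingCat.of k))) [GrpObj B] [GeometricallyIntegral B.hom] (i : B ⟶ X) [IsMonHom i]
      [IsClosedImmersion i.left], Subsingleton ↥B.left ∨ IsIso i)
    (G : X.left.Modules) (hG : PicF.IsInvertible G)
    (hsec : Nontrivial (Coh.HH X.left G 0)) (hne : ¬ Nonempty (G ≅ Coh.structureModule X.left)) :
    CohB1.IsAmple G := by
  classical
  haveI := CubeConsLib.geometricallyIntegral_of_smooth_group X
  haveI : IsIntegral X.left := GeometricallyIntegral.isIntegral_of_subsingleton X.hom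
  haveI : IsCommMonObj X := CubeConsLib.isCommMonObj_field
  letI : CommGroup (𝟙_ (Over (Spec (CommRingCat.of k))) ⟶ X) := Hom.commGroup
  obtain ⟨s, hs⟩ : ∃ s : Coh.structureModule X.left ⟶ G, s ≠ 0 := by
    by_contra h
    push Not at h
    have hS : Subsingleton (Coh.structureModule X.left ⟶ G) := ⟨fun a b => (h a).trans (h b).symm⟩
    exact not_subsingleton_iff_nontrivial.2 hsec ((AVVanishLib.subsingleton_HH_zero_iff G).2 hS)
  let σ : Γ(G, ⊤) := s.app ⊤ (1 : Γ(X.left, ⊤))
  have hU := AVAmpleLib.genSet_nonempty hG s hs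
  refine AVAmpleLib.isAmple_of_finite hG σ hU ?_
  by_contra hinf
  let U := TwistLib.genSet hG σ
  let x₂ := CubeConsLib.clA hG + CubeConsLib.clA hG
  let H : Set (𝟙_ (Over (Spec (CommRingCat.of k))) ⟶ X) :=
    {c | CubeConsLib.pullA (AVAmpleLib.tR c).left x₂ = x₂ ∧ (AVAmpleLib.tR c).left ⁻¹ᵁ U = U}
  have h1 : (1 : 𝟙_ (Over (Spec (CommRingCat.of k))) ⟶ X) ∈ H := by
    refine ⟨?_, ?_⟩ <;> rw [AVAmpleLib.tR_one, Over.id_left]
    · exact CubeConsLib.pullA_id _
    · rfl
  have hmul : ∀ a ∈ H, ∀ b ∈ H, a * b ∈ H := fun a ha b hb => by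
    refine ⟨?_, ?_⟩ <;> rw [← AVAmpleLib.tR_comp, Over.comp_left]
    · rw [← CubeConsLib.pullA_comp, hb.1, ha.1]
    · rw [Scheme.Hom.comp_preimage, hb.2, ha.2]
  have hinv : ∀ a ∈ H, a⁻¹ ∈ H := fun a ha => by
    have e : (AVAmpleLib.tR a⁻¹).left ≫ (AVAmpleLib.tR a).left = 𝟙 X.left := by
      rw [← Over.comp_left, AVAmpleLib.tR_comp, inv_mul_cancel, AVAmpleLib.tR_one, Over.id_left]
    refine ⟨?_, ?_⟩
    · conv_lhs => rw [← ha.1, CubeConsLib.pullA_comp, e, CubeConsLib.pullA_id]
    · conv_lhs => rw [← ha.2, ← Scheme.Hom.comp_preimage, e]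
      rfl
  have hHinf : H.Infinite := by
    refine Set.Infinite.mono (fun c hc => ?_) hinf
    exact ⟨(map_add _ _ _).trans hc.1, hc.2⟩
  obtain ⟨C, _, j, hj, hjc, hp, hg, hd, hr⟩ := AVAmpleLib.exists_subAV_of_infinite H h1 hmul hinv hHinf
  have hji : IsIso j := by
    refine (hsimple C j).resolve_left fun hsub => hd ?_
    haveI := hsub
    haveI : IsIntegral C.left := GeometricallyIntegral.isIntegral_of_subsingleton C.hom
    haveI : Nonempty (TopologicalSpace.IrreducibleCloseds C.left) := ⟨⟨Set.univ, IrreducibleSpace.isIrreducible_univ _, isClosed_univ⟩⟩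
    exact le_antisymm (topologicalKrullDim_zero_of_discreteTopology C.left) Order.krullDim_nonneg
  haveI : IsIso j.left := inferInstanceAs (IsIso ((Over.forget _).map j))
  have hdense : Dense (AVAmpleLib.pt '' H) := fun z => hr ((Scheme.homeoOfIso (asIso j.left)).surjective z)
  have htop : U = ⊤ := by
    by_contra hne
    obtain ⟨z, hz⟩ : ((U : Set X.left)ᶜ).Nonempty := by
      rw [Set.nonempty_compl]; exact fun h => hne (SetLike.coe_injective h)
    haveI : JacobsonSpace X.left := LocallyOfFiniteType.jacobsonSpace X.hom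
    obtain ⟨y, hy, hyc⟩ := nonempty_inter_closedPoints ⟨z, hz⟩ U.2.isClosed_compl.isLocallyClosed
    obtain ⟨b, rfl⟩ := AVRigidLib.exists_pt (mem_closedPoints_iff.1 hyc)
    have horb : (AVAmpleLib.tR b).left '' (AVAmpleLib.pt '' H) ⊆ (U : Set X.left)ᶜ := by
      rintro _ ⟨_, ⟨a, ha, rfl⟩, rfl⟩ hmem
      refine hy ?_
      have e1 : (AVAmpleLib.tR b).left (AVAmpleLib.pt a) = (AVAmpleLib.tR a).left (AVAmpleLib.pt b) := by
        rw [← AVAmpleLib.pt_comp, ← AVAmpleLib.pt_comp, AVAmpleLib.point_tR, AVAmpleLib.point_tR, mul_comm]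
      rw [e1] at hmem
      exact ha.2.le hmem
    have hs' : Function.Surjective (AVAmpleLib.tR b).left := fun w => ⟨(AVAmpleLib.tR b⁻¹).left w, by
      rw [← Scheme.Hom.comp_apply, ← Over.comp_left, AVAmpleLib.tR_comp, inv_mul_cancel, AVAmpleLib.tR_one]; rfl⟩
    have hd' : Dense ((AVAmpleLib.tR b).left '' (AVAmpleLib.pt '' H)) :=
      hs'.denseRange.dense_image (AVAmpleLib.tR b).left.continuous hdense
    obtain ⟨w, hw⟩ := hU
    exact (closure_minimal horb U.2.isClosed_compl (hd' w)) hw
  haveI := AmpleLib.isIso_unitHom σ (by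
    have h2 := TwistLib.genSet_genOn hG σ
    rw [show TwistLib.genSet hG σ = ⊤ from htop] at h2
    rwa [AmpleLib.res_refl] at h2)
  exact hne ⟨(asIso (QCohLib.unitHom G σ)).symm⟩

end Groth.Agent.S18229
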