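import Groth.Statements.S18233
import Groth.Agent.AvgLiftLib.Lfp

set_option autoImplicit false
set_option backward.isDefEq.respectTransparency false
set_option backward.isDefEq.respectTransparency.types false
set_option maxRecDepth 8000
set_option maxHeartbeats 1000000
universe u
open CategoryTheory MonoidalCategory CartesianMonoidalCategory AlgebraicGeometry Opposite
open Magnet

namespace Groth.Agent.S18233

/-- Let S be a scheme, M a finitely generated abelian group, N a submonoid of M, X and Y schemes over S
with actions of the diagonalizable group scheme D(M)_S, and f : X → Y a smooth equivariant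
S-morphism. If the attractors X^N and Y^N are represented by S-schemes Z_X and Z_Y, and j : Z_X →
Z_Y is the S-morphism that corresponds to f^N : X^N → Y^N under the two representing bijections,
then j is smooth. (Stated for schemes; the published statement is for algebraic spaces over S and
representability by algebraic spaces.) -/
theorem result (S : Scheme.{u}) (M : Type) [AddCommGroup M] [AddGroup.FG M]
    (N : AddSubmonoid M) {X Y : Over S} (aX : Magnet.MonAct (Magnet.AMonS S M) X)
    (aY : Magnet.MonAct (Magnet.AMonS S M) Y) (f : X ⟶ Y) (hf : Magnet.MonAct.IsEquivariant aX aY f)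
    [Smooth f.left] {ZX ZY : Over S} (eX : (Magnet.attr aX N).RepresentableBy ZX) (eY : (Magnet.attr aY N).RepresentableBy ZY)
    (j : ZX ⟶ ZY) (hj : ∀ (T : Over S) (z : T ⟶ ZX),
      eY.homEquiv (z ≫ j) = (Magnet.MonAct.eqvHom.postcomp (Magnet.subAct S M N) f hf).app (op T) (eX.homEquiv z)) :
    Smooth j.left := by
  haveI := AvgLiftLib.lfp_postcomp N aX aY f hf eX eY j hj
  refine AvgLiftLib.smooth_of_formal j fun A _ I hI str z₀ w h => ?_
  haveI : IsAffine (Over.mk str).left := inferInstanceAs (IsAffine (Spec _))
  have h' := congrArg eY.homEquiv h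
  rw [hj, eY.homEquiv_comp] at h'
  obtain ⟨l, h1, h2⟩ := AvgLiftLib.exists_lift_postcomp N aX aY f hf (AvgLiftLib.thick_spec hI str)
    (eX.homEquiv z₀) (eY.homEquiv w) (congrArg Subtype.val h')
  refine ⟨eX.homEquiv.symm l, eX.homEquiv.injective ?_, eY.homEquiv.injective ?_⟩
  · rw [eX.homEquiv_comp, Equiv.apply_symm_apply]
    exact Subtype.ext h1
  · rw [hj, Equiv.apply_symm_apply]
    exact Subtype.ext h2

end Groth.Agent.S18233
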