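import Groth.Statements.S18234
import Groth.Agent.MagnetLib.Unramified

set_option autoImplicit false
universe u
open CategoryTheory MonoidalCategory CartesianMonoidalCategory AlgebraicGeometry Opposite
open Magnet

namespace Groth.Agent.S18234

/-- Let S be a scheme, M a finitely generated abelian group, N a submonoid of M, X and Y schemes over S
with actions of the diagonalizable group scheme D(M)_S, and f : X → Y a formally unramified
equivariant S-morphism. If the attractors X^N and Y^N are represented by S-schemes Z_X and Z_Y, and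
j : Z_X → Z_Y is the S-morphism that corresponds to f^N under the two representing bijections, then
j is formally unramified. (Stated for schemes; the published statement is for algebraic spaces over
S.) -/
theorem result (S : Scheme.{u}) (M : Type) [AddCommGroup M]
    [AddGroup.FG M] (N : AddSubmonoid M) {X Y : Over S} (aX : Magnet.MonAct (Magnet.AMonS S M) X)
    (aY : Magnet.MonAct (Magnet.AMonS S M) Y) (f : X ⟶ Y) (hf : Magnet.MonAct.IsEquivariant aX aY f)
    [FormallyUnramified f.left] {ZX ZY : Over S} (eX : (Magnet.attr aX N).RepresentableBy ZX) (eY : (Magnet.attr aY N).RepresentableBy ZY)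
    (j : ZX ⟶ ZY) (hj : ∀ (T : Over S) (z : T ⟶ ZX),
      eY.homEquiv (z ≫ j) = (Magnet.MonAct.eqvHom.postcomp (Magnet.subAct S M N) f hf).app (op T) (eX.homEquiv z)) :
    FormallyUnramified j.left := by
  refine FormallyUnramified.of_hom_ext _ fun R R' φ hφ hker g₁ g₂ h₁₂ hf' => ?_
  haveI : IsClosedImmersion (Spec.map φ) := IsClosedImmersion.spec_of_surjective _ hφ
  have hg : g₂ ≫ ZX.hom = g₁ ≫ ZX.hom := by
    rw [← Over.w j, ← Category.assoc, ← hf', Category.assoc]
  let T' : Over S := Over.mk (g₁ ≫ ZX.hom)
  let T : Over S := Over.mk (Spec.map φ ≫ g₁ ≫ ZX.hom)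
  let i : T ⟶ T' := Over.homMk (Spec.map φ) rfl
  haveI : IsClosedImmersion i.left := inferInstanceAs (IsClosedImmersion (Spec.map φ))
  let z₁ : T' ⟶ ZX := Over.homMk g₁ rfl
  let z₂ : T' ⟶ ZX := Over.homMk g₂ hg
  have h1 : i ≫ z₁ = i ≫ z₂ := Over.OverMorphism.ext h₁₂
  have h2 : z₁ ≫ j = z₂ ≫ j := Over.OverMorphism.ext hf'
  have htop : (attr aX N).map i.op (eX.homEquiv z₁) = (attr aX N).map i.op (eX.homEquiv z₂) := by
    rw [← eX.homEquiv_comp, ← eX.homEquiv_comp, h1]
  have hbot := congrArg eY.homEquiv h2
  rw [hj, hj] at hbot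
  have key : eX.homEquiv z₁ = eX.homEquiv z₂ := Subtype.ext (MagnetLib.eq_of_thickening f i
    (MagnetLib.ker_sq_eq_bot φ hker) _ _ (congrArg Subtype.val htop) (congrArg Subtype.val hbot))
  exact congrArg CommaMorphism.left (eX.homEquiv.injective key)


end Groth.Agent.S18234
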