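import Groth.Statements.S18235
import Groth.Agent.MagnetLib.OpenFace
import Groth.Agent.MagnetLib.Fixed
import Mathlib.CategoryTheory.Limits.Constructions.Over.Connected

set_option autoImplicit false
universe u
open CategoryTheory MonoidalCategory CartesianMonoidalCategory AlgebraicGeometry Opposite
open Magnet
open CategoryTheory.MonObj

namespace Groth.Agent.S18235

/-- Let S be a scheme, M a finitely generated abelian group, N a submonoid of M, X and Y schemes locally
of finite presentation over S with actions of the diagonalizable group scheme D(M)_S, and f : X → Y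
an equivariant S-morphism which is an open immersion. If the attractors X^N and Y^N are represented
by S-schemes Z_X and Z_Y, and j : Z_X → Z_Y is the S-morphism that corresponds to f^N under the two
representing bijections, then j is an open immersion. (Stated for schemes; the published statement
is for algebraic spaces over S.) -/
theorem result (S : Scheme.{u}) (M : Type) [AddCommGroup M]
    [AddGroup.FG M] (N : AddSubmonoid M) {X Y : Over S} [LocallyOfFinitePresentation X.hom]
    [LocallyOfFinitePresentation Y.hom] (aX : Magnet.MonAct (Magnet.AMonS S M) X)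
    (aY : Magnet.MonAct (Magnet.AMonS S M) Y) (f : X ⟶ Y) (hf : Magnet.MonAct.IsEquivariant aX aY f)
    [IsOpenImmersion f.left] {ZX ZY : Over S} (eX : (Magnet.attr aX N).RepresentableBy ZX) (eY : (Magnet.attr aY N).RepresentableBy ZY)
    (j : ZX ⟶ ZY) (hj : ∀ (T : Over S) (z : T ⟶ ZX),
      eY.homEquiv (z ≫ j) = (Magnet.MonAct.eqvHom.postcomp (Magnet.subAct S M N) f hf).app (op T) (eX.homEquiv z)) :
    IsOpenImmersion j.left := by
  let Q := Magnet.unitFace N
  have hface : Magnet.IsFace N Q := Magnet.isFace_unitFace N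
  have hu : ∀ q ∈ Q, -q ∈ Q := by
    intro q hq
    obtain ⟨h1, y, hy, hqy⟩ := hq
    rw [show -q = y from neg_eq_of_add_eq_zero_right hqy]
    exact ⟨hy, q, h1, by rw [add_comm, hqy]⟩
  let Z : AddSubgroup M := { Q with neg_mem' := fun {q} hq => hu q hq }
  have hQ : ∀ m, m ∈ Q ↔ m ∈ Z := fun m => Iff.rfl
  haveI : Mono f := (Over.forget S).mono_of_mono_map (show Mono f.left from inferInstance)
  let evX : ∀ {T : Over S}, (Magnet.attr aX N).obj (op T) → (T ⟶ X) := fun {T} φ =>
    lift (toUnit T ≫ η[Magnet.AMonS S ↥Q]) (𝟙 T) ≫ (Magnet.AMonS.faceMap S hface ▷ T) ≫ φ.1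
  let evY : ∀ {T : Over S}, (Magnet.attr aY N).obj (op T) → (T ⟶ Y) := fun {T} φ =>
    lift (toUnit T ≫ η[Magnet.AMonS S ↥Q]) (𝟙 T) ≫ (Magnet.AMonS.faceMap S hface ▷ T) ≫ φ.1
  have natX : ∀ {T : Over S} (z : T ⟶ ZX), evX (eX.homEquiv z) = z ≫ evX (eX.homEquiv (𝟙 ZX)) := by
    intro T z
    rw [show eX.homEquiv z = (Magnet.attr aX N).map z.op (eX.homEquiv (𝟙 ZX)) by
      rw [← eX.homEquiv_comp, Category.comp_id]]
    simp only [evX, Magnet.MonAct.eqvHom_map_coe, Quiver.Hom.unop_op, ← whisker_exchange_assoc,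
      lift_whiskerLeft_assoc, comp_lift_assoc, ← Category.assoc z, comp_toUnit, Category.id_comp, Category.comp_id]
    rw [comp_lift, comp_toUnit_assoc, Category.comp_id]
  have natY : ∀ {T : Over S} (z : T ⟶ ZY), evY (eY.homEquiv z) = z ≫ evY (eY.homEquiv (𝟙 ZY)) := by
    intro T z
    rw [show eY.homEquiv z = (Magnet.attr aY N).map z.op (eY.homEquiv (𝟙 ZY)) by
      rw [← eY.homEquiv_comp, Category.comp_id]]
    simp only [evY, Magnet.MonAct.eqvHom_map_coe, Quiver.Hom.unop_op, ← whisker_exchange_assoc,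
      lift_whiskerLeft_assoc, comp_lift_assoc, ← Category.assoc z, comp_toUnit, Category.id_comp, Category.comp_id]
    rw [comp_lift, comp_toUnit_assoc, Category.comp_id]
  have hpost : ∀ {T : Over S} (z : T ⟶ ZX), (eY.homEquiv (z ≫ j)).1 = (eX.homEquiv z).1 ≫ f := fun z =>
    congrArg Subtype.val (hj _ z)
  have hev : ∀ {T : Over S} (z : T ⟶ ZX), evY (eY.homEquiv (z ≫ j)) = evX (eX.homEquiv z) ≫ f := fun z => by
    simp only [evX, evY, hpost, Category.assoc]
  have w : j ≫ evY (eY.homEquiv (𝟙 ZY)) = evX (eX.homEquiv (𝟙 ZX)) ≫ f := by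
    rw [← natY, ← hev, Category.id_comp]
  have lift' : ∀ {T : Over S} (z : T ⟶ ZY) (x : T ⟶ X), z ≫ evY (eY.homEquiv (𝟙 ZY)) = x ≫ f →
      ∃ l : T ⟶ ZX, l ≫ j = z ∧ l ≫ evX (eX.homEquiv (𝟙 ZX)) = x := by
    intro T z x hzx
    rw [← natY] at hzx
    let φ := eY.homEquiv z
    let ψ := (Magnet.AMonS.faceMap S hface ▷ T) ≫ φ.1
    have hψ : EqLiftLib.IsEqvFam aY ψ := ((Magnet.attrFace aY hface).app (op T) φ).2
    have hx : ∀ (T' : Over S) (t : T' ⟶ T) (g : T' ⟶ Magnet.AMonS S (M ⧸ Z)),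
        lift g (t ≫ x) ≫ (MagnetLib.kerAct Z aX).act = t ≫ x := by
      intro T' t g
      have h := MagnetLib.eval_fixed Q Z hQ aY hψ T' t g
      rw [show lift (toUnit T ≫ η[Magnet.AMonS S ↥Q]) (𝟙 T) ≫ ψ = x ≫ f from hzx] at h
      rw [← cancel_mono f, Category.assoc, Category.assoc, Magnet.MonAct.restrict_act, Category.assoc, lift_whiskerRight_assoc,
        (Magnet.MonAct.isEquivariant_iff _ _ _).mp hf, ← h, Magnet.MonAct.lift_restrict_act, Category.assoc]
    obtain ⟨u, hu', hux⟩ := MagnetLib.exists_family Q Z hQ aX x hx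
    have huf : EqLiftLib.IsEqvFam aY (u ≫ f) :=
      ((Magnet.MonAct.eqvHom.postcomp (Magnet.subAct S M Q) f hf).app (op T) ⟨u, hu'⟩).2
    have he : ψ = u ≫ f := MagnetLib.family_unique Q Z hQ aY hψ huf (by
      rw [reassoc_of% hux]
      exact hzx)
    obtain ⟨δ, hδ, hδf, hδu⟩ := MagnetLib.exists_lift_of_face f hf hface hu φ.2 u he
    refine ⟨eX.homEquiv.symm ⟨δ, hδ⟩, eY.homEquiv.injective (Subtype.ext ?_), ?_⟩
    · rw [hpost, Equiv.apply_symm_apply]
      exact hδf
    · rw [← natX, Equiv.apply_symm_apply]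
      change lift _ _ ≫ (Magnet.AMonS.faceMap S hface ▷ T) ≫ δ = x
      rw [hδu, hux]
  have uniq : ∀ {T : Over S} (l l' : T ⟶ ZX), l ≫ j = l' ≫ j → l = l' := by
    intro T l l' h
    have h' : (eX.homEquiv l).1 ≫ f = (eX.homEquiv l').1 ≫ f := by rw [← hpost, ← hpost, h]
    exact eX.homEquiv.injective (Subtype.ext ((cancel_mono f).mp h'))
  choose l hl₁ hl₂ using fun s : Limits.PullbackCone (evY (eY.homEquiv (𝟙 ZY))) f =>
    lift' s.fst s.snd s.condition
  have hpb : IsPullback j (evX (eX.homEquiv (𝟙 ZX))) (evY (eY.homEquiv (𝟙 ZY))) f :=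
    ⟨⟨w⟩, ⟨Limits.PullbackCone.IsLimit.mk w l hl₁ hl₂ fun s m h1 _ => uniq _ _ (h1.trans (hl₁ s).symm)⟩⟩
  exact MorphismProperty.of_isPullback (P := @IsOpenImmersion) (hpb.map (Over.forget S)).flip
    (inferInstanceAs (IsOpenImmersion f.left))

end Groth.Agent.S18235
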