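import Groth.Statements.S18236
import Groth.Agent.MagnetLib.Coef

set_option autoImplicit false
universe u
open CategoryTheory MonoidalCategory CartesianMonoidalCategory AlgebraicGeometry Opposite
open Magnet

namespace Groth.Agent.S18236

/-- Let S be a scheme, M a finitely generated abelian group, N a submonoid of M and Z = N* its subgroup
of invertible elements; let X and Y be schemes locally of finite presentation over S with actions of
the diagonalizable group scheme D(M)_S, and f : X → Y an equivariant S-morphism which is a closed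
immersion. Assume that Y admits an N*-FPR atlas: an equivariant, étale and surjective g : U → Y
where U is a disjoint union of D(M)_S-stable open subschemes each affine over S, such that for the
actions restricted along D(M/Z)_S → D(M)_S the square of fixed-point subfunctors U^{D(M/Z)} →
Y^{D(M/Z)} over U → Y is cartesian; assume also that N is finitely generated or X is separated over
S. Then the commutative square with top f^N : X^N → Y^N, sides the evaluation maps X^N → X and Y^N →
Y at the unit section, and bottom f is cartesian, i.e. X^N = Y^N ×_Y X as functors on S-schemes (so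
that f^N is a closed immersion whenever X^N and Y^N are representable). (Stated for schemes; the
published statement is for algebraic spaces over S.) -/
theorem result (S : Scheme.{u}) (M : Type)
    [AddCommGroup M] [AddGroup.FG M] (N : AddSubmonoid M) (Z : AddSubgroup M)
    (hZ : ∀ m : M, m ∈ Z ↔ (m ∈ N ∧ -m ∈ N)) {X Y : Over S} [LocallyOfFinitePresentation X.hom]
    [LocallyOfFinitePresentation Y.hom] (aX : Magnet.MonAct (Magnet.AMonS S M) X)
    (aY : Magnet.MonAct (Magnet.AMonS S M) Y) (f : X ⟶ Y) (hf : Magnet.MonAct.IsEquivariant aX aY f)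
    [IsClosedImmersion f.left] (U : Over S) (aU : Magnet.MonAct (Magnet.AMonS S M) U) (g : U ⟶ Y)
    (hg : Magnet.MonAct.IsEquivariant aU aY g) [Etale g.left] [Surjective g.left]
    (ι : Type u) (V : ι → U.left.Opens) (hVd : ∀ i i', i ≠ i' → Disjoint (V i) (V i'))
    (hVc : ⨆ i, V i = ⊤) (hVa : ∀ i, IsAffineHom ((V i).ι ≫ U.hom))
    (hVs : ∀ i, (CartesianMonoidalCategory.snd (Magnet.AMonS S M) U).left ⁻¹ᵁ (V i) ≤ aU.act.left ⁻¹ᵁ (V i))
    (hgZ : Magnet.MonAct.IsEquivariant (aU.restrict (Magnet.AMonS.map S (QuotientAddGroup.mk' Z))) (aY.restrict (Magnet.AMonS.map S (QuotientAddGroup.mk' Z))) g)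
    (hfpr : IsPullback (Magnet.MonAct.fixedPsh.map g hgZ)
      (Magnet.MonAct.fixedPshι (aU.restrict (Magnet.AMonS.map S (QuotientAddGroup.mk' Z))))
      (Magnet.MonAct.fixedPshι (aY.restrict (Magnet.AMonS.map S (QuotientAddGroup.mk' Z)))) (yoneda.map g))
    (hc : N.FG ∨ IsSeparated X.hom) :
    IsPullback (Magnet.MonAct.eqvHom.postcomp (Magnet.subAct S M N) f hf) (Magnet.attrToX aX N)
      (Magnet.attrToX aY N) (yoneda.map f) := by
  haveI : Mono f := (Over.forget S).mono_of_mono_map (show Mono f.left from inferInstance)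
  have horb : ∀ {T : Over S} (x : T ⟶ X), MagnetLib.orbit aY (x ≫ f) = MagnetLib.orbit aX x ≫ f := by
    intro T x
    rw [MagnetLib.orbit, MagnetLib.orbit, MonoidalCategory.whiskerLeft_comp, Category.assoc, Category.assoc]
    exact congrArg ((Magnet.AMonS S M ◁ x) ≫ ·) (show _ = _ from hf).symm
  have hloc : ∀ {T : Over S} [IsAffine T.left] (φ : Magnet.AMonS S ↥N ⊗ T ⟶ Y) (x : T ⟶ X),
      (Magnet.AMonS.map S N.subtype ▷ T) ≫ φ = MagnetLib.orbit aY (x ≫ f) →
        ∃ ψ : Magnet.AMonS S ↥N ⊗ T ⟶ X, ψ ≫ f = φ := by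
    intro T _ φ x hφ
    haveI := MagnetLib.isAffine_amonS_tensor (S := S) ↥N T
    let π := Magnet.AMonS.map S N.subtype ▷ T
    let i := Limits.pullback.fst φ.left f.left
    haveI : IsClosedImmersion i := MorphismProperty.pullback_fst _ _ inferInstance
    have hc : π.left ≫ φ.left = (MagnetLib.orbit aX x).left ≫ f.left :=
      congrArg CommaMorphism.left (hφ.trans (horb x))
    have hfac : Limits.pullback.lift π.left (MagnetLib.orbit aX x).left hc ≫ i = π.left :=
      Limits.pullback.lift_fst _ _ _
    have hker : i.ker = ⊥ := by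
      refine le_bot_iff.mp ?_
      haveI := MagnetLib.isAffine_amonS_tensor (S := S) M T
      have h0 : π.left.ker = ⊥ := by
        refine Scheme.IdealSheafData.ext_of_isAffine ?_
        rw [Scheme.Hom.ker_apply]
        exact (RingHom.injective_iff_ker_eq_bot _).mp
          (MagnetLib.injective_appTop_map N.subtype Subtype.val_injective T)
      rw [← h0, ← hfac]
      exact Scheme.Hom.le_ker_comp _ _
    haveI : IsIso i := IsClosedImmersion.isIso_of_ker_eq i (𝟙 _) i (Category.comp_id _)
      (by rw [hker]; exact (Scheme.Hom.ker_eq_bot_of_isIso (𝟙 _)).symm)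
    have hw : (inv i ≫ Limits.pullback.snd φ.left f.left) ≫ f.left = φ.left := by
      rw [Category.assoc, ← Limits.pullback.condition, IsIso.inv_hom_id_assoc]
    exact ⟨Over.homMk (inv i ≫ Limits.pullback.snd φ.left f.left)
      (by rw [← Over.w f, ← Category.assoc, hw, Over.w φ]), Over.OverMorphism.ext hw⟩
  refine IsPullback.of_forall_isPullback_app fun T => ?_
  rw [CategoryTheory.Limits.Types.isPullback_iff]
  refine ⟨?_, ?_, ?_⟩
  · ext φ
    exact (Category.assoc _ _ _).symm
  · rintro x y ⟨h1, h2⟩
    exact Subtype.ext ((cancel_mono f).mp (congrArg Subtype.val h1))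
  · intro φ x hc
    have hφ := MagnetLib.ext_of_isEqvFam φ.2
    have hc' : lift (toUnit (unop T) ≫ CategoryTheory.MonObj.one (X := Magnet.AMonS S ↥N)) (𝟙 (unop T)) ≫ φ.1 = x ≫ f := hc
    rw [hc'] at hφ
    let Q := fun W : (unop T).left.affineOpens => (W : (unop T).left.Opens)
    have hQ : TopologicalSpace.IsOpenCover Q := iSup_affineOpens_eq_top (unop T).left
    have hψ : ∀ W, ∃ ψ : Magnet.AMonS S ↥N ⊗ Over.mk ((Q W).ι ≫ (unop T).hom) ⟶ X,
        ψ ≫ f = (Magnet.AMonS S ↥N ◁ Over.homMk (Q W).ι rfl) ≫ φ.1 := by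
      intro W
      haveI : IsAffine (Over.mk ((Q W).ι ≫ (unop T).hom)).left := W.2
      refine hloc _ ((Over.homMk (Q W).ι rfl : Over.mk ((Q W).ι ≫ (unop T).hom) ⟶ unop T) ≫ x) ?_
      rw [← whisker_exchange_assoc, hφ, ← MagnetLib.orbit_comp, Category.assoc]
    choose ψ hψ using hψ
    obtain ⟨G, hG⟩ := EqLiftLib.exists_glue (B := Magnet.AMonS S ↥N) Q hQ ψ fun i j R y y' hy => by
      rw [← cancel_mono f, Category.assoc, Category.assoc, hψ, hψ, ← Category.assoc, ← Category.assoc,
        ← MonoidalCategory.whiskerLeft_comp, ← MonoidalCategory.whiskerLeft_comp, hy]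
    have hGf : G ≫ f = φ.1 := EqLiftLib.hom_ext_cover (snd _ _) Q hQ fun i R z y hy => by
      have h := hψ i
      rw [← hG i] at h
      have h' := congrArg (lift (z ≫ fst _ _) y ≫ ·) h
      simp only [Category.assoc, lift_whiskerLeft_assoc] at h'
      rwa [hy, lift_comp_fst_snd] at h'
    have hGe : Magnet.MonAct.IsEquivariant
        ((Magnet.subAct S M N).prod (Magnet.MonAct.trivial (Magnet.AMonS S M) (unop T))) aX G := by
      rw [Magnet.MonAct.mem_eqvHom_iff]
      intro R g b t
      rw [← cancel_mono f, Category.assoc, Category.assoc, hGf, (Magnet.MonAct.isEquivariant_iff _ _ _).mp hf,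
        Category.assoc, hGf]
      exact (Magnet.MonAct.mem_eqvHom_iff φ.1).mp φ.2 R g b t
    refine ⟨⟨G, hGe⟩, Subtype.ext hGf, ?_⟩
    change lift (toUnit (unop T) ≫ CategoryTheory.MonObj.one (X := Magnet.AMonS S ↥N)) (𝟙 (unop T)) ≫ G = x
    rw [← cancel_mono f, Category.assoc, hGf, hc']

end Groth.Agent.S18236
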