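import Groth.Statements.S18238
import Mathlib
-- import your own Groth.Agent.* helpers here

set_option autoImplicit false
universe u
open DiagMon

namespace Groth.Agent.S18238

open MvPolynomial in
theorem injective_of_smooth {R : Type u} [CommRing R] {σ : Type} [Finite σ] {A : Type u} [CommRing A] [Algebra R A]
    [Algebra.FormallySmooth R A] (π : MvPolynomial σ R →ₐ[R] A) (hπ : Function.Surjective π)
    (hker : ∀ f, π f = 0 → f ∈ idealOfVars σ R ^ 2) : Function.Injective π := by
  classical
  haveI := Fintype.ofFinite σ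
  set m := idealOfVars σ R with hm
  suffices h : ∀ j, ∀ f, π f = 0 → f ∈ m ^ j by
    rw [injective_iff_map_eq_zero]
    intro f hf
    ext e
    rw [coeff_zero]
    exact (mem_pow_idealOfVars_iff' _ f).1 (h (Finsupp.degree e + 1) f hf) e (Nat.lt_succ_self _)
  intro j
  set mk := Ideal.Quotient.mkₐ R (m ^ j) with hmk
  let I : Ideal (MvPolynomial σ R ⧸ m ^ j) := (m ^ 2).map mk
  have hI : IsNilpotent I := ⟨j, by
    rw [← Ideal.map_pow, Ideal.zero_eq_bot, eq_bot_iff, Ideal.map_le_iff_le_comap]
    intro x hx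
    show mk x = 0
    exact Ideal.Quotient.eq_zero_iff_mem.2 (Ideal.pow_right_mono (Ideal.pow_le_self two_ne_zero) j hx)⟩
  let g0 : MvPolynomial σ R →ₐ[R] (MvPolynomial σ R ⧸ m ^ j) ⧸ I := (Ideal.Quotient.mkₐ R I).comp mk
  have hg0 : RingHom.ker π.toRingHom ≤ RingHom.ker g0.toRingHom := fun f hf => by
    show Ideal.Quotient.mk I (mk f) = 0
    exact Ideal.Quotient.eq_zero_iff_mem.2 (Ideal.mem_map_of_mem mk (hker f hf))
  let g : A →ₐ[R] (MvPolynomial σ R ⧸ m ^ j) ⧸ I :=
    { toRingHom := RingHom.liftOfSurjective π.toRingHom hπ ⟨g0.toRingHom, hg0⟩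
      commutes' := fun r => by
        rw [← π.commutes r]
        exact (RingHom.congr_fun (RingHom.liftOfSurjective_comp π.toRingHom hπ ⟨g0.toRingHom, hg0⟩) (algebraMap R _ r)).trans
          (g0.commutes r) }
  have hg : ∀ f, g (π f) = g0 f := fun f =>
    RingHom.congr_fun (RingHom.liftOfSurjective_comp π.toRingHom hπ ⟨g0.toRingHom, hg0⟩) f
  obtain ⟨F, hF⟩ := Algebra.FormallySmooth.exists_lift I hI g
  let θ := F.comp π
  have hθ2 : ∀ f, θ f - mk f ∈ I := fun f => by
    rw [← Ideal.Quotient.eq]
    exact (AlgHom.congr_fun hF (π f)).trans (hg f)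
  have hI1 : I ≤ m.map mk := Ideal.map_mono (Ideal.pow_le_self two_ne_zero)
  have hθm : ∀ k, ∀ f ∈ m ^ k, θ f ∈ (m ^ k).map mk ∧ θ f - mk f ∈ (m ^ (k + 1)).map mk := by
    intro k
    induction k with
    | zero =>
      intro f _
      refine ⟨?_, by simpa using hI1 (hθ2 f)⟩
      rw [pow_zero, Ideal.one_eq_top, Ideal.map_top]
      trivial
    | succ k ih =>
      intro f hf
      rw [pow_succ] at hf
      induction hf using Submodule.mul_induction_on' with
      | mem_mul_mem a ha b hb =>
        have hb' : θ b ∈ m.map mk := by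
          have := (m.map mk).add_mem (hI1 (hθ2 b)) (Ideal.mem_map_of_mem mk hb)
          simpa using this
        obtain ⟨h1, h2⟩ := ih a ha
        refine ⟨?_, ?_⟩
        · rw [map_mul, pow_succ, Ideal.map_mul]
          exact Ideal.mul_mem_mul h1 hb'
        · have e : θ (a * b) - mk (a * b) = (θ a - mk a) * θ b + mk a * (θ b - mk b) := by
            rw [map_mul, map_mul]; ring
          rw [e]
          refine add_mem ?_ ?_
          · rw [pow_succ, Ideal.map_mul]
            exact Ideal.mul_mem_mul h2 hb'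
          · rw [show k + 1 + 1 = k + 2 from rfl, pow_add, Ideal.map_mul]
            exact Ideal.mul_mem_mul (Ideal.mem_map_of_mem mk ha) (hθ2 b)
      | add a _ b _ iha ihb =>
        refine ⟨by rw [map_add]; exact add_mem iha.1 ihb.1, ?_⟩
        rw [map_add, map_add, add_sub_add_comm]
        exact add_mem iha.2 ihb.2
  have hθ0 : ∀ f ∈ m ^ j, θ f = 0 := fun f hf => by
    have := (hθm j f hf).1
    rwa [show (m ^ j).map mk = ⊥ from (Ideal.map_eq_bot_iff_le_ker _).2 (le_of_eq Ideal.mk_ker.symm), Ideal.mem_bot] at this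
  let θb : (MvPolynomial σ R ⧸ m ^ j) →ₐ[R] (MvPolynomial σ R ⧸ m ^ j) := Ideal.Quotient.liftₐ (m ^ j) θ hθ0
  have hθb : ∀ f, θb (mk f) = θ f := fun f => rfl
  have hsurj : ∀ n k, ∀ h ∈ m ^ k, j ≤ k + n → ∃ z, θ z = mk h := by
    intro n
    induction n with
    | zero =>
      intro k h hh hk
      exact ⟨0, by rw [map_zero]; exact (Ideal.Quotient.eq_zero_iff_mem.2 (Ideal.pow_le_pow_right (by omega) hh)).symm⟩
    | succ n ih =>
      intro k h hh hk
      obtain ⟨h', hh', e⟩ := (Ideal.mem_map_iff_of_surjective mk Ideal.Quotient.mk_surjective).1 (hθm k h hh).2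
      obtain ⟨z, hz⟩ := ih (k + 1) h' hh' (by omega)
      exact ⟨h - z, by rw [map_sub, hz, e, sub_sub_cancel]⟩
  haveI : Algebra.IsIntegral R (MvPolynomial σ R ⧸ m ^ j) := ⟨fun y => by
    obtain ⟨f, rfl⟩ := Ideal.Quotient.mk_surjective y
    induction f using MvPolynomial.induction_on with
    | C r => exact isIntegral_algebraMap (R := R) (A := MvPolynomial σ R ⧸ m ^ j) (x := r)
    | add p q hp hq => rw [map_add]; exact hp.add hq
    | mul_X p i hp =>
      rw [map_mul]
      refine hp.mul (IsIntegral.of_pow (n := j + 1) (Nat.succ_pos _) ?_)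
      rw [← map_pow, Ideal.Quotient.eq_zero_iff_mem.2 (Ideal.pow_le_pow_right (Nat.le_succ j) (Ideal.pow_mem_pow (Ideal.subset_span (Set.mem_range_self i) : (MvPolynomial.X i : MvPolynomial σ R) ∈ m) _))]
      exact isIntegral_zero⟩
  haveI : Module.Finite R (MvPolynomial σ R ⧸ m ^ j) := Algebra.IsIntegral.finite
  have hbsurj : Function.Surjective θb := fun y => by
    obtain ⟨h, rfl⟩ := Ideal.Quotient.mk_surjective y
    obtain ⟨z, hz⟩ := hsurj j 0 h (by rw [pow_zero, Ideal.one_eq_top]; trivial) (by omega)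
    exact ⟨mk z, hz⟩
  have hbinj : Function.Injective θb.toLinearMap := OrzechProperty.injective_of_surjective_endomorphism θb.toLinearMap hbsurj
  intro f hf
  have h0 : θb (mk f) = θb 0 := by
    rw [hθb, map_zero]
    show F (π f) = 0
    rw [hf, map_zero]
  exact Ideal.Quotient.eq_zero_iff_mem.1 (hbinj h0)

theorem exists_free_generators (N : Type) [AddCommMonoid N] [AddMonoid.FG N] [IsCancelAdd N]
    (hsharp : ∀ n : N, IsAddUnit n → n = 0) :
    ∃ (σ : Type) (_ : Fintype σ) (φ : (σ →₀ ℕ) →+ N), Function.Surjective φ ∧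
      (∀ e, φ e = 0 → e = 0) ∧ ∀ e s, φ e = φ (Finsupp.single s 1) → e = Finsupp.single s 1 := by
  classical
  obtain ⟨S0, hS0⟩ := (AddMonoid.fg_def.1 ‹AddMonoid.FG N›)
  have hex : ∃ n, ∃ S : Finset N, S.card = n ∧ AddSubmonoid.closure (S : Set N) = ⊤ := ⟨_, S0, rfl, hS0⟩
  obtain ⟨S, hcard, hS⟩ := Nat.find_spec hex
  have hmin : ∀ s ∈ S, s ∉ AddSubmonoid.closure ((S.erase s : Finset N) : Set N) := fun s hs hmem => by
    refine Nat.find_min hex (m := (S.erase s).card) (hcard ▸ Finset.card_erase_lt_of_mem hs) ⟨_, rfl, ?_⟩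
    rw [eq_top_iff, ← hS, AddSubmonoid.closure_le]
    intro t ht
    rcases eq_or_ne t s with rfl | hts
    · exact hmem
    · exact AddSubmonoid.subset_closure (Finset.mem_coe.2 (Finset.mem_erase.2 ⟨hts, ht⟩))
  have h0 : (0 : N) ∉ S := fun h => hmin 0 h (zero_mem _)
  let φ : ({x // x ∈ S} →₀ ℕ) →+ N := Finsupp.liftAddHom fun s => multiplesHom N (s : N)
  have hφ : ∀ s k, φ (Finsupp.single s k) = k • (s : N) := fun s k => by simp [φ]
  have hsur : Function.Surjective φ := by
    intro n
    have hn : n ∈ AddSubmonoid.closure (S : Set N) := by rw [hS]; trivial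
    induction hn using AddSubmonoid.closure_induction with
    | mem x hx => exact ⟨Finsupp.single ⟨x, hx⟩ 1, by rw [hφ, one_smul]⟩
    | zero => exact ⟨0, map_zero _⟩
    | add x y _ _ hx hy =>
      obtain ⟨a, rfl⟩ := hx; obtain ⟨b, rfl⟩ := hy
      exact ⟨a + b, map_add _ _ _⟩
  have hz : ∀ e, φ e = 0 → e = 0 := by
    intro e he
    ext s
    rw [Finsupp.zero_apply]
    by_contra hes
    have hd : e = Finsupp.single s 1 + (e - Finsupp.single s 1) :=
      (add_tsub_cancel_of_le (Finsupp.single_le_iff.2 (Nat.one_le_iff_ne_zero.2 hes))).symm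
    rw [hd, map_add, hφ, one_smul] at he
    exact h0 (hsharp _ (IsAddUnit.of_add_eq_zero _ he) ▸ s.2)
  refine ⟨_, inferInstance, φ, hsur, hz, fun e s he => ?_⟩
  rw [hφ, one_smul] at he
  by_cases hes : e s = 0
  · refine absurd ?_ (hmin s s.2)
    suffices h' : φ e ∈ AddSubmonoid.closure ((S.erase (s : N) : Finset N) : Set N) by rwa [he] at h'
    rw [← e.univ_sum_single, map_sum]
    refine AddSubmonoid.sum_mem _ fun t _ => ?_
    rw [hφ]
    rcases eq_or_ne (e t) 0 with h | h
    · rw [h, zero_smul]; exact zero_mem _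
    · exact nsmul_mem (AddSubmonoid.subset_closure (Finset.mem_coe.2
        (Finset.mem_erase.2 ⟨fun h' => h (by rw [show t = s from Subtype.ext h']; exact hes), t.2⟩))) _
  · have hd : e = Finsupp.single s 1 + (e - Finsupp.single s 1) :=
      (add_tsub_cancel_of_le (Finsupp.single_le_iff.2 (Nat.one_le_iff_ne_zero.2 hes))).symm
    rw [hd, map_add, hφ, one_smul] at he
    rw [hd, hz _ (add_eq_left.1 he), add_zero]


/-- Let R be a commutative ring and N a fine and sharp commutative monoid (finitely generated,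
cancellative, and 0 its only invertible element). If the diagonalizable monoid scheme A(N)_R = Spec
R[N] is smooth over Spec R, then it is a vector bundle over Spec R: the monoid algebra R[N] is
isomorphic as an R-algebra to the symmetric algebra of a finitely generated projective R-module
(existence of such a module and isomorphism). (Affine base; the published statement is over an
arbitrary base scheme S.) -/
theorem result (R : Type u) [CommRing R] (N : Type)
    [AddCommMonoid N] [AddMonoid.FG N] [IsCancelAdd N] (hsharp : ∀ n : N, IsAddUnit n → n = 0)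
    [Algebra.Smooth R (AddMonoidAlgebra R N)] :
    ∃ (P : Type u) (_ : AddCommGroup P) (_ : Module R P), Module.Finite R P ∧ Module.Projective R P ∧
      Nonempty (AddMonoidAlgebra R N ≃ₐ[R] SymmetricAlgebra R P) := by
  classical
  rcases subsingleton_or_nontrivial R with hR | hR
  · haveI : Subsingleton (AddMonoidAlgebra R N) := Module.subsingleton R _
    haveI : Subsingleton (SymmetricAlgebra R R) := Module.subsingleton R _
    exact ⟨R, inferInstance, inferInstance, inferInstance, inferInstance,
      ⟨{ toFun := fun _ => 0, invFun := fun _ => 0, left_inv := fun _ => Subsingleton.elim _ _,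
         right_inv := fun _ => Subsingleton.elim _ _, map_mul' := fun _ _ => Subsingleton.elim _ _,
         map_add' := fun _ _ => Subsingleton.elim _ _, commutes' := fun _ => Subsingleton.elim _ _ }⟩⟩
  obtain ⟨σ, _, φ, hsur, hz, hs⟩ := exists_free_generators N hsharp
  let π : MvPolynomial σ R →ₐ[R] AddMonoidAlgebra R N := AddMonoidAlgebra.mapDomainAlgHom R R φ
  have hπm : ∀ e c, π (MvPolynomial.monomial e c) = AddMonoidAlgebra.single (φ e) c := fun e c =>
    AddMonoidAlgebra.mapDomain_single
  have hπ : Function.Surjective π := fun x => by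
    induction x using AddMonoidAlgebra.induction_linear with
    | zero => exact ⟨0, map_zero _⟩
    | add x y hx hy =>
      obtain ⟨a, rfl⟩ := hx; obtain ⟨b, rfl⟩ := hy
      exact ⟨a + b, map_add _ _ _⟩
    | single n c =>
      obtain ⟨e, rfl⟩ := hsur n
      exact ⟨MvPolynomial.monomial e c, hπm e c⟩
  have hker : ∀ f, π f = 0 → f ∈ MvPolynomial.idealOfVars σ R ^ 2 := by
    intro f hf
    rw [MvPolynomial.mem_pow_idealOfVars_iff']
    intro d hd
    have hfib : ∀ e, φ e = φ d → e = d := by
      intro e he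
      rcases Nat.eq_zero_or_pos (Finsupp.degree d) with h | h
      · obtain rfl := (Finsupp.degree_eq_zero_iff d).1 h
        rw [map_zero] at he
        exact hz e he
      · obtain ⟨s, rfl⟩ := (Finsupp.sum_eq_one_iff d).1 (show d.sum (fun _ n => n) = 1 by
          rw [show d.sum (fun _ n => n) = Finsupp.degree d from rfl]; omega)
        exact hs e s he
    have key : ∀ g, AddMonoidAlgebra.coeff (π g) (φ d) = g.coeff d := by
      intro g
      induction g using MvPolynomial.induction_on' with
      | monomial e c =>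
        rw [hπm, MvPolynomial.coeff_monomial, AddMonoidAlgebra.coeff_single, Finsupp.single_apply]
        by_cases h : e = d
        · subst h; simp
        · rw [if_neg (fun h' => h (hfib e h')), if_neg h]
      | add a b ha hb => rw [map_add, AddMonoidAlgebra.coeff_add, Finsupp.add_apply, ha, hb, MvPolynomial.coeff_add]
    rw [← key f, hf]
    simp
  have hinj := injective_of_smooth π hπ hker
  exact ⟨σ →₀ R, inferInstance, inferInstance, inferInstance, inferInstance,
    ⟨((SymmetricAlgebra.equivMvPolynomial Finsupp.basisSingleOne).trans (AlgEquiv.ofBijective π ⟨hinj, hπ⟩)).symm⟩⟩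


end Groth.Agent.S18238
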