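import Groth.Statements.S18239
import Mathlib
import Groth.Agent.SmoothConeLib.Basic
-- import your own Groth.Agent.* helpers here

set_option autoImplicit false
universe u
open DiagMon

namespace Groth.Agent.S18239

/-- Let R be a commutative ring, N a fine and sharp commutative monoid (finitely generated,
cancellative, and 0 its only invertible element) and A a commutative R-algebra graded by N which is
smooth over R. Then A is isomorphic, as an algebra over its degree-zero part A_0, to the symmetric
algebra of a finitely generated projective A_0-module; that is, Spec A → Spec A_0 is a vector bundle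
whose zero section is the closed subscheme Spec A_0 cut out by the elements of non-zero degree.
(This is the affine, graded form of the statement that for a smooth S-scheme X with a
Zariski-locally linearizable action of a diagonalizable group D(M)_S and a finitely generated
submonoid N of M the map from the attractor X^N to X^{N*} is a vector bundle: here the base is
affine, N* = 0, and X = Spec A equals its own attractor X^N, an N-grading of A being an action of
the monoid scheme of N; the fixed-point scheme X^0 is Spec A_0.) -/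
theorem result (R : Type u) [CommRing R] (A : Type u)
    [CommRing A] [Algebra R A] (N : Type) [AddCommMonoid N] [DecidableEq N] [AddMonoid.FG N] [IsCancelAdd N]
    (hsharp : ∀ n : N, IsAddUnit n → n = 0) (𝒜 : N → Submodule R A) [GradedAlgebra 𝒜]
    [Algebra.Smooth R A] :
    ∃ (P : Type u) (_ : AddCommGroup P) (_ : Module (𝒜 0) P), Module.Finite (𝒜 0) P ∧
      Module.Projective (𝒜 0) P ∧ Nonempty (A ≃ₐ[𝒜 0] SymmetricAlgebra (𝒜 0) P) := by
  classical
  haveI : IsScalarTower R (𝒜 0) A := IsScalarTower.of_algebraMap_eq fun _ => rfl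
  have hunit : ∀ a b : N, a + b = 0 → a = 0 ∧ b = 0 := fun a b h =>
    ⟨hsharp a (IsAddUnit.of_add_eq_zero b h), hsharp b (IsAddUnit.of_add_eq_zero a (by rwa [add_comm] at h))⟩
  have hne : ∀ a b : N, a ≠ 0 ∨ b ≠ 0 → a + b ≠ 0 := fun a b h h' =>
    h.elim (fun h => h (hunit a b h').1) (fun h => h (hunit a b h').2)
  -- components
  let comp : N → A →+ A := fun n => AddMonoidHom.mk' (fun x => (DirectSum.decompose 𝒜 x n : A))
    (fun x y => by simp [DirectSum.decompose_add])
  have hcs : ∀ {n x}, x ∈ 𝒜 n → comp n x = x := fun hx => DirectSum.decompose_of_mem_same 𝒜 hx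
  have hcn : ∀ {n k x}, x ∈ 𝒜 n → n ≠ k → comp k x = 0 := fun hx h => DirectSum.decompose_of_mem_ne 𝒜 hx h
  have hcc : ∀ n (c : 𝒜 0) (x : A), comp n ((c : A) * x) = (c : A) * comp n x := by
    intro n c x
    induction x using DirectSum.Decomposition.inductionOn 𝒜 with
    | zero => simp
    | @homogeneous k y =>
      have hmem : (c : A) * y ∈ 𝒜 k := by
        have := SetLike.mul_mem_graded c.2 y.2
        rwa [zero_add] at this
      rcases eq_or_ne k n with rfl | h
      · rw [hcs hmem, hcs y.2]
      · rw [hcn hmem h, hcn y.2 h, mul_zero]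
    | add y z hy hz => rw [mul_add, map_add, map_add, hy, hz, mul_add]
  have hρmul : ∀ x y : A, comp 0 (x * y) = comp 0 x * comp 0 y := by
    intro x y
    induction x using DirectSum.Decomposition.inductionOn 𝒜 with
    | zero => simp
    | @homogeneous i a =>
      induction y using DirectSum.Decomposition.inductionOn 𝒜 with
      | zero => simp
      | @homogeneous j b =>
        have hmem := SetLike.mul_mem_graded a.2 b.2
        rcases eq_or_ne i 0 with rfl | hi
        · rcases eq_or_ne j 0 with rfl | hj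
          · rw [zero_add] at hmem
            rw [hcs hmem, hcs a.2, hcs b.2]
          · rw [hcn hmem (hne 0 j (Or.inr hj)), hcn b.2 hj, mul_zero]
        · rw [hcn hmem (hne i j (Or.inl hi)), hcn a.2 hi, zero_mul]
      | add y z hy hz => rw [mul_add, map_add, map_add, hy, hz, mul_add]
    | add w z hw hz => rw [add_mul, map_add, map_add, hw, hz, add_mul]
  let ρ : A →ₐ[𝒜 0] 𝒜 0 :=
    { toFun := fun x => DirectSum.decompose 𝒜 x 0
      map_zero' := by simp
      map_one' := Subtype.ext (hcs SetLike.GradedOne.one_mem)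
      map_add' := fun x y => by simp
      map_mul' := fun x y => Subtype.ext (hρmul x y)
      commutes' := fun c => Subtype.ext (hcs c.2) }
  have hρc : ∀ x, ((ρ x : 𝒜 0) : A) = comp 0 x := fun _ => rfl
  set m := RingHom.ker ρ with hm
  have hmem_m : ∀ {n x}, x ∈ 𝒜 n → n ≠ 0 → x ∈ m := fun hx hn => Subtype.ext ((hρc _).trans (hcn hx hn))
  have hm0 : ∀ x ∈ m, comp 0 x = 0 := fun x hx => by rw [← hρc, RingHom.mem_ker.1 hx]; rfl
  have hm' : ∀ x ∈ m, ∀ n, comp n x ∈ m := fun x hx n => by
    rcases eq_or_ne n 0 with rfl | hn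
    · rw [hm0 x hx]; exact zero_mem _
    · exact hmem_m (DirectSum.decompose 𝒜 x n).2 hn
  have hsum : ∀ x, ∑ n ∈ (DirectSum.decompose 𝒜 x).support, comp n x = x := fun x => DirectSum.sum_support_decompose 𝒜 x
  have hprod : ∀ x ∈ m, ∀ y ∈ m, ∀ n, comp n (x * y) =
      ∑ i ∈ (DirectSum.decompose 𝒜 x).support, ∑ j ∈ (DirectSum.decompose 𝒜 y).support,
        if i + j = n then comp i x * comp j y else 0 := by
    intro x _ y _ n
    conv_lhs => rw [← hsum x, ← hsum y, Finset.sum_mul_sum]
    rw [map_sum]
    refine Finset.sum_congr rfl fun i _ => ?_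
    rw [map_sum]
    refine Finset.sum_congr rfl fun j _ => ?_
    have hmem := SetLike.mul_mem_graded (DirectSum.decompose 𝒜 x i).2 (DirectSum.decompose 𝒜 y j).2
    split_ifs with h
    · exact hcs (h ▸ hmem)
    · exact hcn hmem h
  have hm2 : ∀ x ∈ m ^ 2, ∀ n, comp n x ∈ m ^ 2 := by
    intro x hx n
    rw [pow_two] at hx ⊢
    induction hx using Submodule.mul_induction_on' with
    | mem_mul_mem a ha b hb =>
      rw [hprod a ha b hb]
      refine Ideal.sum_mem _ fun i _ => Ideal.sum_mem _ fun j _ => ?_
      split_ifs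
      · exact Ideal.mul_mem_mul (hm' a ha i) (hm' b hb j)
      · exact zero_mem _
    | add a _ b _ ha hb => rw [map_add]; exact add_mem ha hb
  -- generators
  obtain ⟨G, hG⟩ := (inferInstance : Algebra.FiniteType R A).out
  let T0 : Finset (A × N) := G.biUnion fun g => ((DirectSum.decompose 𝒜 g).support.erase 0).image fun n => (comp n g, n)
  let t : T0 → A := fun i => i.1.1
  let d : T0 → N := fun i => i.1.2
  have htd : ∀ i, d i ≠ 0 ∧ t i ∈ 𝒜 (d i) := by
    rintro ⟨i, hi⟩
    simp only [T0, Finset.mem_biUnion, Finset.mem_image] at hi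
    obtain ⟨g, -, n, hn, rfl⟩ := hi
    exact ⟨(Finset.mem_erase.1 hn).1, (DirectSum.decompose 𝒜 g n).2⟩
  have ht : ∀ i, ρ (t i) = 0 := fun i => hmem_m (htd i).2 (htd i).1
  have hsurj : Function.Surjective (MvPolynomial.aeval (R := 𝒜 0) t) := by
    intro a
    suffices h : a ∈ ((MvPolynomial.aeval (R := 𝒜 0) t).range.restrictScalars R) from h
    refine (show Algebra.adjoin R (G : Set A) ≤ _ from Algebra.adjoin_le fun g hg => ?_) (by rw [hG]; trivial : a ∈ Algebra.adjoin R (G : Set A))
    show g ∈ (MvPolynomial.aeval (R := 𝒜 0) t).range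
    rw [← hsum g]
    refine Subalgebra.sum_mem _ fun n hn => ?_
    rcases eq_or_ne n 0 with rfl | h0
    · exact ⟨MvPolynomial.C (DirectSum.decompose 𝒜 g 0), MvPolynomial.aeval_C _ _⟩
    · refine ⟨MvPolynomial.X ⟨(comp n g, n), ?_⟩, MvPolynomial.aeval_X _ _⟩
      exact Finset.mem_biUnion.2 ⟨g, hg, Finset.mem_image.2 ⟨n, Finset.mem_erase.2 ⟨h0, hn⟩, rfl⟩⟩
  obtain ⟨σ, hσ0, hσ⟩ := SmoothConeLib.exists_split (R := R) ρ t ht hsurj
  -- homogeneous version
  let τ : A →ₗ[𝒜 0] (T0 → 𝒜 0) :=
    { toFun := fun x i => σ (comp (d i) x) i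
      map_add' := fun x y => funext fun i => by simp only [map_add, Pi.add_apply]
      map_smul' := fun c x => funext fun i => by
        show σ (comp (d i) (c • x)) i = c * σ (comp (d i) x) i
        rw [show c • x = (c : A) * x from rfl, hcc, show (c : A) * comp (d i) x = c • comp (d i) x from rfl, map_smul]
        rfl }
  have hτ0 : ∀ x ∈ m ^ 2, τ x = 0 := fun x hx => funext fun i => by
    show σ (comp (d i) x) i = 0
    rw [hσ0 _ (hm2 x hx _)]; rfl
  have hsmem : ∀ (c : 𝒜 0) {n x}, x ∈ 𝒜 n → c • x ∈ 𝒜 n := fun c n x hx => by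
    have := SetLike.mul_mem_graded c.2 hx
    rwa [zero_add] at this
  have hτhom : ∀ {n x}, x ∈ 𝒜 n → n ≠ 0 → comp n (∑ i, σ x i • t i) = ∑ i, τ x i • t i := by
    intro n x hx hn
    rw [map_sum]
    refine Finset.sum_congr rfl fun i _ => ?_
    show comp n (σ x i • t i) = σ (comp (d i) x) i • t i
    rcases eq_or_ne (d i) n with h | h
    · rw [hcs (h ▸ hsmem _ (htd i).2), h, hcs hx]
    · rw [hcn (hsmem _ (htd i).2) h, hcn hx (Ne.symm h), map_zero, Pi.zero_apply, zero_smul]
  have hτh : ∀ {n x}, x ∈ 𝒜 n → n ≠ 0 → x - ∑ i, τ x i • t i ∈ m ^ 2 := by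
    intro n x hx hn
    have h := hm2 _ (hσ x (hmem_m hx hn)) n
    rwa [map_sub, hcs hx, hτhom hx hn] at h
  have hτm : ∀ x ∈ m, x - ∑ i, τ x i • t i ∈ m ^ 2 := by
    intro x hx
    have hdec := hsum x
    have e : x - ∑ i, τ x i • t i = ∑ n ∈ (DirectSum.decompose 𝒜 x).support, (comp n x - ∑ i, τ (comp n x) i • t i) := by
      rw [Finset.sum_sub_distrib, Finset.sum_comm, hdec]
      congr 1
      refine Finset.sum_congr rfl fun i _ => ?_
      rw [← Finset.sum_smul, ← Finset.sum_apply, ← map_sum, hdec]
    rw [e]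
    refine Ideal.sum_mem _ fun n _ => ?_
    rcases eq_or_ne n 0 with rfl | hn
    · rw [hm0 x hx]; simp
    · exact hτh (DirectSum.decompose 𝒜 x n).2 hn
  have hρτ : ∀ x, τ x = τ (x - algebraMap (𝒜 0) A (ρ x)) := fun x => funext fun i => by
    show σ (comp (d i) x) i = σ (comp (d i) (x - algebraMap (𝒜 0) A (ρ x))) i
    rw [show algebraMap (𝒜 0) A (ρ x) = (ρ x : A) from rfl, map_sub, hcn (ρ x).2 (Ne.symm (htd i).1), sub_zero]
  have hidem : ∀ v, τ (∑ i, τ v i • t i) = τ v := fun v => by
    rw [hρτ v]
    have h := hτ0 _ (hτm _ (SmoothConeLib.sub_mem_ker ρ v))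
    rw [map_sub, sub_eq_zero] at h
    exact h.symm
  refine SmoothConeLib.exists_symmetricAlgebra (R := R) ρ t ht τ hτ0 hidem fun B hB => ?_
  obtain ⟨L, hL⟩ := SmoothConeLib.exists_rank N hsharp
  have hrange : ∀ k, ∀ n, L n ≤ k → ∀ x ∈ 𝒜 n, x ∈ B := by
    intro k
    induction k using Nat.strong_induction_on with
    | _ k ih =>
      intro n hn x hx
      rcases eq_or_ne n 0 with rfl | hn0
      · exact B.algebraMap_mem ⟨x, hx⟩
      · have hy : ∑ i, τ x i • t i ∈ B := hB x
        have hm2r : ∀ z ∈ m ^ 2, comp n z ∈ B := by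
          intro z hz
          rw [pow_two] at hz
          induction hz using Submodule.mul_induction_on' with
          | mem_mul_mem a ha b hb =>
            rw [hprod a ha b hb]
            refine Subalgebra.sum_mem _ fun i _ => Subalgebra.sum_mem _ fun j _ => ?_
            split_ifs with hij
            · rcases eq_or_ne j 0 with rfl | hj
              · rw [hm0 b hb, mul_zero]; exact zero_mem _
              rcases eq_or_ne i 0 with rfl | hi
              · rw [hm0 a ha, zero_mul]; exact zero_mem _
              exact Subalgebra.mul_mem _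
                (ih (L i) (lt_of_lt_of_le (hij ▸ hL i j hj) hn) i le_rfl _ (DirectSum.decompose 𝒜 a i).2)
                (ih (L j) (lt_of_lt_of_le (hij ▸ (add_comm j i ▸ hL j i hi)) hn) j le_rfl _ (DirectSum.decompose 𝒜 b j).2)
            · exact zero_mem _
          | add a _ b _ ha hb => rw [map_add]; exact add_mem ha hb
        have h := hm2r _ (hτh hx hn0)
        have hhom : comp n (∑ i, τ x i • t i) = ∑ i, τ x i • t i := by
          have hmem : ∑ i, τ x i • t i ∈ 𝒜 n := by rw [← hτhom hx hn0]; exact (DirectSum.decompose 𝒜 _ n).2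
          exact hcs hmem
        rw [map_sub, hcs hx, hhom] at h
        have := add_mem h hy
        rwa [sub_add_cancel] at this
  rw [eq_top_iff]
  intro a _
  rw [← hsum a]
  exact Subalgebra.sum_mem _ fun n _ => hrange (L n) n le_rfl _ (DirectSum.decompose 𝒜 a n).2

end Groth.Agent.S18239
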