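import Groth.Statements.S18241
import Groth.Agent.AvgLiftLib.Lfp

set_option autoImplicit false
set_option backward.isDefEq.respectTransparency false
set_option backward.isDefEq.respectTransparency.types false
set_option maxRecDepth 8000
set_option maxHeartbeats 1000000
universe u
open CategoryTheory MonoidalCategory CartesianMonoidalCategory AlgebraicGeometry Opposite
open Magnet

namespace Groth.Agent.S18241

/-- Let S be a scheme, M a finitely generated abelian group, N a submonoid of M and F a face of N, and X
an S-scheme smooth over S with an action of the diagonalizable group scheme D(M)_S. If the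
attractors X^N and X^F are represented by S-schemes Z_N and Z_F, and j : Z_N → Z_F is the S-morphism
that corresponds to the canonical map X^N → X^F under the two representing bijections, then j is
smooth. (Stated for schemes; the published statement is for algebraic spaces over S.) -/
theorem result (S : Scheme.{u}) (M : Type) [AddCommGroup M] [AddGroup.FG M]
    {N F : AddSubmonoid M} (hF : Magnet.IsFace N F) {X : Over S} [Smooth X.hom]
    (a : Magnet.MonAct (Magnet.AMonS S M) X) {ZN ZF : Over S} (eN : (Magnet.attr a N).RepresentableBy ZN)
    (eF : (Magnet.attr a F).RepresentableBy ZF) (j : ZN ⟶ ZF)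
    (hj : ∀ (T : Over S) (z : T ⟶ ZN), eF.homEquiv (z ≫ j) = (Magnet.attrFace a hF).app (op T) (eN.homEquiv z)) :
    Smooth j.left := by
  haveI := AvgLiftLib.lfp_face hF a eN eF j hj
  refine AvgLiftLib.smooth_of_formal j fun A _ I hI str z₀ w h => ?_
  haveI : IsAffine (Over.mk str).left := inferInstanceAs (IsAffine (Spec _))
  have h' := congrArg eF.homEquiv h
  rw [hj, eF.homEquiv_comp] at h'
  obtain ⟨l, h1, h2⟩ := AvgLiftLib.exists_lift_face hF a (AvgLiftLib.thick_spec hI str)
    (eN.homEquiv z₀) (eF.homEquiv w) (congrArg Subtype.val h')
  refine ⟨eN.homEquiv.symm l, eN.homEquiv.injective ?_, eF.homEquiv.injective ?_⟩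
  · rw [eN.homEquiv_comp, Equiv.apply_symm_apply]
    exact Subtype.ext h1
  · rw [hj, Equiv.apply_symm_apply]
    exact Subtype.ext h2

end Groth.Agent.S18241
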