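import Groth.Statements.S18244
import Groth.Agent.EqLiftLib.Face

set_option autoImplicit false
universe u
open CategoryTheory MonoidalCategory CartesianMonoidalCategory AlgebraicGeometry Opposite
open Magnet

open MonObj
set_option backward.isDefEq.respectTransparency.types true

namespace Groth.Agent.S18244

/-- Let S be a scheme, M a finitely generated abelian group, X a scheme locally of finite presentation
over S with an action of the diagonalizable group scheme D(M)_S, N a finitely generated submonoid of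
M and F a face of N; let ι : X^F → X^N be the canonical section and r : X^N → X^F the face
projection. Then (ι, r) is a strong deformation retract: there is a morphism δ : X^N ×_S 𝔸¹_S → X^N
of functors on S-schemes — here a family of maps X^N(T) × Γ(T, O_T) → X^N(T) natural in T — such
that δ(x, 0) = ι(r(x)), δ(x, 1) = x, and δ(ι(y), c) = ι(y) for all x in X^N(T), y in X^F(T) and
functions c on T. (Stated for schemes; the published statement is for algebraic spaces over S.) -/
theorem result (S : Scheme.{u}) (M : Type) [AddCommGroup M] [AddGroup.FG M]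
    {X : Over S} [LocallyOfFinitePresentation X.hom] (a : Magnet.MonAct (Magnet.AMonS S M) X)
    {N F : AddSubmonoid M} (hN : N.FG) (hF : Magnet.IsFace N F) :
    ∃ δ : ∀ T : Over S, (Magnet.attr a N).obj (op T) → Γ(T.left, ⊤) → (Magnet.attr a N).obj (op T),
      (∀ (T T' : Over S) (t : T' ⟶ T) (x : (Magnet.attr a N).obj (op T)) (c : Γ(T.left, ⊤)),
          δ T' ((Magnet.attr a N).map t.op x) (t.left.appTop c) = (Magnet.attr a N).map t.op (δ T x c)) ∧
      (∀ (T : Over S) (x : (Magnet.attr a N).obj (op T)),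
          δ T x 0 = (Magnet.attrMap a hF.le).app (op T) ((Magnet.attrFace a hF).app (op T) x)) ∧
      (∀ (T : Over S) (x : (Magnet.attr a N).obj (op T)), δ T x 1 = x) ∧
      (∀ (T : Over S) (y : (Magnet.attr a F).obj (op T)) (c : Γ(T.left, ⊤)),
          δ T ((Magnet.attrMap a hF.le).app (op T) y) c = (Magnet.attrMap a hF.le).app (op T) y) := by
  classical
  obtain ⟨φ, hpos, hzero⟩ := EqLiftLib.exists_face_fun hN hF
  choose g hg using fun (T : Over S) (c : Γ(T.left, ⊤)) => BBLib.exists_coord T c
  let m : ∀ (T : Over S), Γ(T.left, ⊤) → (AMonS S ↥N ⊗ T ⟶ AMonS S ↥N ⊗ T) := fun T c =>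
    lift ((snd (AMonS S ↥N) T ≫ g T c ≫ EqLiftLib.psi (S := S) φ hpos) * fst (AMonS S ↥N) T) (snd _ _)
  have hm : ∀ {T R : Over S} (c : Γ(T.left, ⊤)) (b : R ⟶ AMonS S ↥N) (t : R ⟶ T),
      lift b t ≫ m T c = lift ((t ≫ g T c ≫ EqLiftLib.psi (S := S) φ hpos) * b) t := fun c b t => by
    simp only [m, comp_lift, MonObj.comp_mul, lift_fst, lift_snd, lift_snd_assoc]
  refine ⟨fun T x c => ⟨m T c ≫ x.1, ?_⟩, ?_, ?_, ?_, ?_⟩
  · rw [MonAct.mem_eqvHom_iff]
    intro T' h b t
    rw [← Category.assoc, hm, ← Category.assoc (lift b t), hm, EqLiftLib.eqv_apply x.2, EqLiftLib.lift_subAct,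
      EqLiftLib.pt_mul_left_comm]
  · intro T T' t x c
    refine Subtype.ext ?_
    change m T' (t.left.appTop c) ≫ (AMonS S ↥N ◁ t) ≫ x.1 = (AMonS S ↥N ◁ t) ≫ m T c ≫ x.1
    apply Magnet.hom_ext_lift₂
    intro R b r
    have e : g T' (t.left.appTop c) = t ≫ g T c := BBLib.coord_ext (by rw [hg, BBLib.coord_comp, hg])
    rw [← Category.assoc (lift b r), hm, lift_whiskerLeft_assoc, lift_whiskerLeft_assoc, ← Category.assoc (lift b _),
      hm, e]
    simp only [Category.assoc]
  · intro T x
    refine Subtype.ext ?_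
    change m T 0 ≫ x.1 = (AMonS.map S (AddSubmonoid.inclusion hF.le) ▷ T) ≫ (AMonS.faceMap S hF ▷ T) ≫ x.1
    apply Magnet.hom_ext_lift₂
    intro R b r
    rw [← Category.assoc, hm, lift_whiskerRight_assoc, lift_whiskerRight_assoc]
    congr 2
    refine AttrPtLib.chi_ext fun n => ?_
    rw [AttrPtLib.chi_mul, ← Category.assoc r, EqLiftLib.chi_psi, BBLib.coord_comp, hg, map_zero,
      EqLiftLib.chi_faceMap hF]
    by_cases h : (n : M) ∈ F
    · rw [dif_pos h, AttrPtLib.chi_map, (hzero _ n.2).mpr h, Int.toNat_zero, pow_zero, _root_.one_mul]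
      rfl
    · rw [dif_neg h, zero_pow, MulZeroClass.zero_mul]
      intro h0
      exact h ((hzero _ n.2).mp (le_antisymm (Int.toNat_eq_zero.mp h0) (hpos _ n.2)))
  · intro T x
    refine Subtype.ext ?_
    change m T 1 ≫ x.1 = x.1
    apply Magnet.hom_ext_lift₂
    intro R b r
    rw [← Category.assoc, hm]
    congr 2
    refine AttrPtLib.chi_ext fun n => ?_
    rw [AttrPtLib.chi_mul, ← Category.assoc r, EqLiftLib.chi_psi, BBLib.coord_comp, hg, map_one, one_pow,
      _root_.one_mul]
  · intro T y c
    refine Subtype.ext ?_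
    change m T c ≫ (AMonS.map S (AddSubmonoid.inclusion hF.le) ▷ T) ≫ y.1 =
      (AMonS.map S (AddSubmonoid.inclusion hF.le) ▷ T) ≫ y.1
    apply Magnet.hom_ext_lift₂
    intro R b r
    rw [← Category.assoc (lift b r), hm, lift_whiskerRight_assoc, lift_whiskerRight_assoc]
    congr 2
    refine AttrPtLib.chi_ext fun q => ?_
    rw [AttrPtLib.chi_map, AttrPtLib.chi_map, AttrPtLib.chi_mul, ← Category.assoc r, EqLiftLib.chi_psi,
      show φ ((AddSubmonoid.inclusion hF.le q : ↥N) : M) = 0 from (hzero _ (hF.le q.2)).mpr q.2, Int.toNat_zero,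
      pow_zero, _root_.one_mul]


end Groth.Agent.S18244
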