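import Groth.Statements.S18245
import Groth.Agent.MagnetLib.VecBundle

set_option autoImplicit false
universe u
open CategoryTheory MonoidalCategory CartesianMonoidalCategory AlgebraicGeometry Opposite
open Magnet

namespace Groth.Agent.S18245

/-- Let S be a scheme, M a finitely generated abelian group, X a scheme smooth and locally of finite
presentation over S with an action a of the diagonalizable group scheme D(M)_S which is Zariski
locally linearizable (every point of X lies in a D(M)_S-stable open subscheme affine over S), and N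
a submonoid of M such that N is finitely generated or X is quasi-compact over S. If the attractors
X^N and X^{N*} are represented by S-schemes Z_N and Z_* and j : Z_N → Z_* is the S-morphism
corresponding to the canonical map X^N → X^{N*} under the two representing bijections, then j is a
vector bundle, in the following Zariski-local sense: every point of Z_* has an affine open
neighbourhood W with a finitely generated projective module P over B = Γ(W, O) and an isomorphism
j⁻¹(W) ≅ Spec Sym_B(P) over W. (Stated for schemes and for the local structure only; the published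
statement is for algebraic spaces over S and says that X^N → X^{N*} is a vector bundle.) -/
theorem result (S : Scheme.{u}) (M : Type) [AddCommGroup M]
    [AddGroup.FG M] {X : Over S} [LocallyOfFinitePresentation X.hom] [Smooth X.hom]
    (a : Magnet.MonAct (Magnet.AMonS S M) X)
    (hlin : ∀ x : X.left, ∃ V : X.left.Opens, x ∈ V ∧ IsAffineHom (V.ι ≫ X.hom) ∧
      (CartesianMonoidalCategory.snd (Magnet.AMonS S M) X).left ⁻¹ᵁ V ≤ a.act.left ⁻¹ᵁ V)
    (N : AddSubmonoid M) (hN : N.FG ∨ QuasiCompact X.hom) {ZN Z0 : Over S}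
    (eN : (Magnet.attr a N).RepresentableBy ZN) (e0 : (Magnet.attr a (Magnet.unitFace N)).RepresentableBy Z0)
    (j : ZN ⟶ Z0) (hj : ∀ (T : Over S) (z : T ⟶ ZN),
      e0.homEquiv (z ≫ j) = (Magnet.attrFace a (Magnet.isFace_unitFace N)).app (op T) (eN.homEquiv z))
    (z : Z0.left) :
    ∃ (W : Z0.left.Opens) (hW : IsAffineOpen W), z ∈ W ∧
      ∃ (P : Type u) (_ : AddCommGroup P) (_ : Module Γ(Z0.left, W) P),
        Module.Finite Γ(Z0.left, W) P ∧ Module.Projective Γ(Z0.left, W) P ∧
        ∃ e : (↑(j.left ⁻¹ᵁ W) : Scheme.{u}) ≅ Spec (CommRingCat.of (SymmetricAlgebra Γ(Z0.left, W) P)),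
          e.hom ≫ Spec.map (CommRingCat.ofHom (algebraMap Γ(Z0.left, W) (SymmetricAlgebra Γ(Z0.left, W) P))) =
            (j.left ∣_ W) ≫ hW.isoSpec.hom := by
  classical
  let Q := unitFace N
  let x0 : Z0 ⟶ X := (attrToX a Q).app (op Z0) (e0.homEquiv (𝟙 Z0))
  obtain ⟨V, hxV, hVaff, hVact⟩ := hlin (x0.left z)
  let U : Over S := Over.mk (V.ι ≫ X.hom)
  let f : U ⟶ X := Over.homMk V.ι rfl
  haveI : IsOpenImmersion f.left := inferInstanceAs (IsOpenImmersion V.ι)
  haveI : Mono f := (Over.forget S).mono_of_mono_map (show Mono V.ι from inferInstance)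
  haveI : IsAffineHom U.hom := hVaff
  haveI : Smooth U.hom := inferInstanceAs (Smooth (V.ι ≫ X.hom))
  have hrange : Set.range ((AMonS S M ◁ f) ≫ a.act).left ⊆ Set.range V.ι := by
    rw [Scheme.Opens.range_ι]
    rintro _ ⟨p, rfl⟩
    refine hVact ?_
    show (snd (AMonS S M) X).left ((AMonS S M ◁ f).left p) ∈ V
    rw [← Scheme.Hom.comp_apply, ← Over.comp_left, whiskerLeft_snd, Over.comp_left, Scheme.Hom.comp_apply]
    exact ((snd (AMonS S M) U).left p).2
  let actU : AMonS S M ⊗ U ⟶ U :=
    Over.homMk (IsOpenImmersion.lift V.ι ((AMonS S M ◁ f) ≫ a.act).left hrange) (by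
      change IsOpenImmersion.lift V.ι _ hrange ≫ V.ι ≫ X.hom = _
      rw [IsOpenImmersion.lift_fac_assoc, Over.w ((AMonS S M ◁ f) ≫ a.act)])
  have hactU : actU ≫ f = (AMonS S M ◁ f) ≫ a.act :=
    Over.OverMorphism.ext (IsOpenImmersion.lift_fac _ _ hrange)
  let aU : MonAct (AMonS S M) U := MonAct.mk' actU
    (fun T x => by
      rw [← cancel_mono f, Category.assoc, hactU, lift_whiskerLeft_assoc]
      exact a.lift_one_act _)
    (fun T g h x => by
      rw [← cancel_mono f, Category.assoc, hactU, lift_whiskerLeft_assoc, Category.assoc, hactU,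
        lift_whiskerLeft_assoc, Category.assoc, hactU, lift_whiskerLeft_assoc]
      exact a.lift_mul_act _ _ _)
  have hf : MonAct.IsEquivariant aU a f := hactU
  obtain ⟨W, hW, hzW, hWV⟩ := exists_isAffineOpen_mem_and_subset
    (show z ∈ x0.left ⁻¹ᵁ V from hxV)
  refine ⟨W, hW, hzW, MagnetLib.exists_bundle a aU f hf N eN e0 j hj W hW ?_⟩
  rintro _ ⟨w, rfl⟩
  change x0.left (W.ι w) ∈ Set.range V.ι
  rw [Scheme.Opens.range_ι]
  exact hWV w.2

end Groth.Agent.S18245
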