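import Groth.Statements.S18247
import Mathlib
-- import your own Groth.Agent.* helpers here

set_option autoImplicit false
universe u
open W4c5m1nsnscurves
open Curves

namespace Groth.Agent.S18247

open MvPolynomial in
noncomputable def img : UGen 2 → MvPolynomial (Fin 6) ℤ
  | .a => X 0
  | .c => (X 0 + X 1 + X 2 + X 3 + X 4 - X 5) * X 3 + X 5 * X 1 - X 1 * X 3
  | .cb => (X 0 + X 1 + X 2 + X 3 + X 4 - X 5) * X 2 + X 5 * X 4 - X 2 * X 4
  | .ci i => if i = 0 then X 1 else X 3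
  | .cbi i => if i = 0 then X 2 else X 4
  | .cij i _ _ => if i = 0 then X 5 else X 0 + X 1 + X 2 + X 3 + X 4 - X 5


/-- Case n = 5: the coordinate ring of U_5 over ℤ (m = 2 indices, standing for the points 4 and 5;
generators a, c, c̄, c_4, c̄_4, c_5, c̄_5, c_{45}, c_{54} with the linear and the two quadratic
relations for the one pair of indices, and no triple) is the polynomial ring on a, c_4, c̄_4, c_5,
c̄_5, c_{45}: the ℤ-algebra map from the polynomial ring in six variables sending the variables to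
these six classes, in this order, is bijective. -/
theorem result :
    Function.Bijective (MvPolynomial.aeval (R := ℤ) (S₁ := URing ℤ 2)
      ![ugen ℤ 2 .a, ugen ℤ 2 (.ci 0), ugen ℤ 2 (.cbi 0), ugen ℤ 2 (.ci 1), ugen ℤ 2 (.cbi 1),
        ugen ℤ 2 (.cij 0 1 Fin.zero_ne_one)]) := by
  have hrel : ∀ x ∈ Ideal.span (URel ℤ 2), (MvPolynomial.aeval img : _ →ₐ[ℤ] MvPolynomial (Fin 6) ℤ) x = 0 := by
    intro x hx
    induction hx using Submodule.span_induction with
    | zero => exact map_zero _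
    | add y z _ _ hy hz => rw [map_add, hy, hz, add_zero]
    | smul a y _ hy => rw [smul_eq_mul, map_mul, hy, mul_zero]
    | mem y hy =>
      rcases hy with ((⟨⟨⟨i, j⟩, h⟩, rfl⟩ | ⟨⟨⟨i, j⟩, h⟩, rfl⟩) | ⟨⟨⟨i, j⟩, h⟩, rfl⟩) | ⟨⟨⟨i, j, k⟩, h, h', h''⟩, rfl⟩
      all_goals first
        | exfalso; revert h h' h''; revert i j k; decide
        | fin_cases i <;> fin_cases j <;> first | exact absurd rfl h | (simp [img] <;> ring)
  let ψ : URing ℤ 2 →ₐ[ℤ] MvPolynomial (Fin 6) ℤ := Ideal.Quotient.liftₐ _ _ hrel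
  let φ := MvPolynomial.aeval (R := ℤ) (S₁ := URing ℤ 2)
      ![ugen ℤ 2 .a, ugen ℤ 2 (.ci 0), ugen ℤ 2 (.cbi 0), ugen ℤ 2 (.ci 1), ugen ℤ 2 (.cbi 1),
        ugen ℤ 2 (.cij 0 1 Fin.zero_ne_one)]
  have h1 : ψ.comp φ = AlgHom.id ℤ _ := by
    refine MvPolynomial.algHom_ext fun i => ?_
    fin_cases i <;> simp [φ, ψ, ugen, img]
  have key : ∀ g : UGen 2, φ (img g) = ugen ℤ 2 g := by
    have e1 : ugen ℤ 2 (.cij 1 0 one_ne_zero) = ugen ℤ 2 .a + ugen ℤ 2 (.ci 0) + ugen ℤ 2 (.cbi 0) +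
        ugen ℤ 2 (.ci 1) + ugen ℤ 2 (.cbi 1) - ugen ℤ 2 (.cij 0 1 Fin.zero_ne_one) := by
      have := Ideal.Quotient.eq_zero_iff_mem.2 (Ideal.subset_span (α := MvPolynomial (UGen 2) ℤ)
        (s := URel ℤ 2) (Or.inl (Or.inl (Or.inl ⟨⟨(0, 1), Fin.zero_ne_one⟩, rfl⟩))))
      simp only [map_sub, map_add] at this
      simp only [ugen]
      linear_combination this
    have e2 : ugen ℤ 2 (.cij 1 0 one_ne_zero) * ugen ℤ 2 (.ci 1) + ugen ℤ 2 (.cij 0 1 Fin.zero_ne_one) * ugen ℤ 2 (.ci 0) -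
        ugen ℤ 2 (.ci 0) * ugen ℤ 2 (.ci 1) = ugen ℤ 2 .c := by
      have := Ideal.Quotient.eq_zero_iff_mem.2 (Ideal.subset_span (α := MvPolynomial (UGen 2) ℤ)
        (s := URel ℤ 2) (Or.inl (Or.inl (Or.inr ⟨⟨(0, 1), Fin.zero_ne_one⟩, rfl⟩))))
      simp only [map_sub, map_add, map_mul] at this
      simp only [ugen]
      linear_combination this
    have e3 : ugen ℤ 2 (.cij 1 0 one_ne_zero) * ugen ℤ 2 (.cbi 0) + ugen ℤ 2 (.cij 0 1 Fin.zero_ne_one) * ugen ℤ 2 (.cbi 1) -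
        ugen ℤ 2 (.cbi 0) * ugen ℤ 2 (.cbi 1) = ugen ℤ 2 .cb := by
      have := Ideal.Quotient.eq_zero_iff_mem.2 (Ideal.subset_span (α := MvPolynomial (UGen 2) ℤ)
        (s := URel ℤ 2) (Or.inl (Or.inr ⟨⟨(0, 1), Fin.zero_ne_one⟩, rfl⟩)))
      simp only [map_sub, map_add, map_mul] at this
      simp only [ugen]
      linear_combination this
    intro g
    cases g with
    | a => simp [φ, img]
    | c => rw [← e2, e1]; simp [φ, img]
    | cb => rw [← e3, e1]; simp [φ, img]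
    | ci i => fin_cases i <;> simp [φ, img]
    | cbi i => fin_cases i <;> simp [φ, img]
    | cij i j h => fin_cases i <;> fin_cases j <;> first
        | exact absurd rfl h
        | (simp [φ, img]; exact e1.symm)
        | simp [φ, img]
  have h2 : φ.comp ψ = AlgHom.id ℤ _ := by
    refine Ideal.Quotient.algHom_ext _ (MvPolynomial.algHom_ext fun g => ?_)
    simpa [ψ, ugen] using key g
  exact (AlgEquiv.ofAlgHom φ ψ h2 h1).bijective

end Groth.Agent.S18247
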