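import Groth.Statements.S18250
import Groth.Agent.RegDualLib.Point
import Groth.Agent.NodalTreeLib.Main

set_option autoImplicit false
set_option backward.isDefEq.respectTransparency false
set_option backward.isDefEq.respectTransparency.types false
set_option maxHeartbeats 1000000

universe u
open AlgebraicGeometry CategoryTheory CategoryTheory.Limits
open Curves

namespace Groth.Agent.S18250

/-- Let k be an algebraically closed field and C a reduced, connected scheme, proper over k and of
dimension one (a reduced connected projective curve), of arithmetic genus 1, i.e. dim_k H^1(C, O_C)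
= 1. Let (ω, tr) be a 1-dualizing pair for C over k (ω a dualizing sheaf with its trace on H^1), let
p be a closed point of C whose local ring is regular (a smooth point), and let L be an invertible
O_C-module inverse to the ideal sheaf of the reduced point p (L = O_C(p)). Then dim_k H^0(C, L) = 1
if and only if H^1(C, L) = 0; and H^1(C, L) = 0 if and only if every nonzero global section s of ω
generates ω near p, i.e. p lies in the open C_s (equivalently, since H^0(C, ω) and the fibre of ω at
p are one-dimensional, the restriction map from H^0(C, ω) to the fibre of ω at p is an isomorphism). -/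
theorem result
    (k : Type u) [Field k] [IsAlgClosed k] (C : Scheme.{u}) [C.Over (Spec (CommRingCat.of k))]
    [IsProper (C ↘ Spec (CommRingCat.of k))] [AlgebraicGeometry.IsReduced C] [ConnectedSpace C]
    (hdim : topologicalKrullDim C = 1) (hg : Curv2.genus k C = 1)
    (ω : C.Modules) (tr : Coh.HH C ω 1 →ₗ[k] k) (hω : Canon.IsRDualOver k C 1 ω tr)
    (p : C) (hp : IsClosed ({p} : Set C)) (hreg : IsRegularLocalRing (C.presheaf.stalk p))
    (L : C.Modules)
    (hL : ClSub.IsInverseOf L (ClSub.idealMod (Scheme.IdealSheafData.vanishingIdeal ⟨{p}, hp⟩))) :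
    (Module.finrank k (Coh.HH C L 0) = 1 ↔ Subsingleton (Coh.HH C L 1)) ∧
      (Subsingleton (Coh.HH C L 1) ↔
        ∀ s : Coh.structureModule C ⟶ ω, s ≠ 0 → p ∈ CohB1.genLocus ω s) := by
  haveI := CurvLib.isNoetherian k (X := C)
  haveI : EnoughInjectives C.Modules := IsGrothendieckAbelian.enoughInjectives.{u}
  haveI : HasExt.{u} C.Modules := hasExt_of_enoughInjectives.{u} C.Modules
  let J := GenusZeroLib.ptIdeal hp
  let I := ClSub.idealMod J
  let ι := ClSub.idealModι J
  obtain ⟨eL⟩ := hL
  have hLi : PicF.IsInvertible L := Groth.Agent.S2122.result L _ eL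
  have hIi : PicF.IsInvertible I := Groth.Agent.S2122.result I L (HilbPolyLib.swapIso _ _ ≪≫ eL)
  have hd1 : topologicalKrullDim C ≤ ((1 : ℕ) : WithBot ℕ∞) := by simpa using hdim.le
  obtain ⟨hωc, U, hpU, ⟨iU⟩⟩ := RegDualLib.free_at_regular hdim hω (x := p) hreg
  have hdual : ∀ G : C.Modules, Coh.IsQCoh G → Nonempty ((G ⟶ ω) ≃ (Coh.HH C G 1 →ₗ[k] k)) := fun G hG =>
    ⟨Equiv.ofBijective _ (hω.2 G hG)⟩
  have hLc := CurvLib.isCoh_of_isInvertible hLi
  haveI := CurvLib.finite_HH (k := k) hLc 1
  haveI := CurvLib.finite_HH (k := k) hLc 0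
  have hkey : Subsingleton (Coh.HH C L 1) ↔ Subsingleton (L ⟶ ω) := by
    obtain ⟨D⟩ := hdual L hLc.1
    refine ⟨fun h => ?_, fun h => ?_⟩
    · haveI : Subsingleton (Coh.HH C L 1 →ₗ[k] k) :=
        ⟨fun a b => LinearMap.ext fun v => by rw [@Subsingleton.elim _ h v 0, map_zero, map_zero]⟩
      exact D.subsingleton
    · haveI := h
      haveI : Subsingleton (Module.Dual k (Coh.HH C L 1)) := D.symm.subsingleton
      exact (Module.finrank_zero_iff (R := k)).mp
        (Subspace.dual_finrank_eq.symm.trans Module.finrank_zero_of_subsingleton)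
  -- the sequence of the point, twisted
  have hsupp : (J.support : Set C) = {p} := Scheme.IdealSheafData.coe_support_vanishingIdeal _
  obtain ⟨hh0, hdp⟩ := NodalLib.h0_points k (X := C) (Set.finite_singleton p) hp
  have hQc : Coh.IsCoh (ClSub.quotMod J) := CurvLib.isCoh_quotMod J
  have hQd : topologicalKrullDim (CohB1.support (ClSub.quotMod J)) ≤ 0 :=
    (NefH1Lib.Subcurve.dim_mono ((CurvLib.support_quotMod_subset J).trans hsupp.le)).trans hdp
  refine ⟨?_, hkey.trans ⟨fun hsub s hs => ?_, fun hgen => ?_⟩⟩
  · have hvn : ∀ M : C.Modules, ∀ n, 2 ≤ n → Subsingleton (Coh.HH C M n) := fun M n hn =>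
      CurvLib.subsingleton_HH_of_dim_le M hd1 n (by omega)
    have hT := HilbPolyLib.shortExact_tensor hLi (CurvLib.idealSeq_shortExact J)
    have hO : Coh.IsCoh (Coh.structureModule C) := DevissLib.isCoh_structureModule C
    have hadd := CurvLib.euler_add_of_isCoh (k := k) hT
      (HilbPolyLib.isCoh_tensor hLi (CurvLib.isCoh_of_isInvertible hIi)) (HilbPolyLib.isCoh_tensor hLi hO)
      (HilbPolyLib.isCoh_tensor hLi hQc)
    change Curv2.euler k C (CohB1.tensorMod L (Coh.structureModule C)) =
      Curv2.euler k C (CohB1.tensorMod L I) + Curv2.euler k C (CohB1.tensorMod L (ClSub.quotMod J)) at hadd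
    rw [CurvLib.euler_congr (k := k) (show CohB1.tensorMod L (Coh.structureModule C) ≅ L from
        HilbPolyLib.swapIso _ _ ≪≫ HilbPolyLib.unitLeft L),
      CurvLib.euler_congr (k := k) (show CohB1.tensorMod L I ≅ Coh.structureModule C from eL),
      NefH1Lib.Adj.euler_tensor_of_dim_zero k hLi hQc hQd] at hadd
    haveI hQ1 : Subsingleton (Coh.HH C (ClSub.quotMod J) 1) :=
      CurvLib.subsingleton_HH_of_support_dim _ hQc.2 (d := 0) (by exact_mod_cast hQd) 1 (by omega)
    simp only [CurvLib.euler_eq_sub (k := k) (hvn _)] at hadd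
    rw [hh0, Set.ncard_singleton, NefH1Lib.Adj.finrank_h0 k,
      Module.finrank_zero_of_subsingleton (R := k) (M := Coh.HH C (ClSub.quotMod J) 1)] at hadd
    change _ = _ at hg
    rw [Curv2.genus] at hg
    rw [hg] at hadd
    rw [← Module.finrank_zero_iff (R := k)]
    push_cast at hadd
    omega
  · -- a section vanishing at the point extends to `L`
    by_contra hn
    obtain ⟨v, hv⟩ := RegDualLib.exists_lift hp hpU iU s hn
    let wL : CohB1.tensorMod L (Coh.structureModule C) ≅ L := HilbPolyLib.swapIso _ _ ≪≫ HilbPolyLib.unitLeft L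
    let j : CohB1.tensorMod L (CohB1.tensorMod ω I) ≅ ω :=
      HilbPolyLib.leftComm L ω I ≪≫ HilbPolyLib.congrRight ω eL ≪≫ HilbPolyLib.swapIso _ _ ≪≫ HilbPolyLib.unitLeft ω
    have h0 : wL.inv ≫ SerreVanLib.tmap L v ≫ j.hom = 0 := @Subsingleton.elim _ hsub _ _
    have hv0 : v = 0 := NodalTreeLib.eq_zero_of_tensor hLi v (by
      rw [← cancel_epi wL.inv, ← cancel_mono j.hom, comp_zero, zero_comp, Category.assoc]
      exact h0)
    exact hs (by rw [← hv, hv0, zero_comp])
  · -- maps from `L` give sections vanishing at the point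
    refine subsingleton_of_forall_eq 0 fun φ => ?_
    let wL : CohB1.tensorMod L (Coh.structureModule C) ≅ L := HilbPolyLib.swapIso _ _ ≪≫ HilbPolyLib.unitLeft L
    let can : Coh.structureModule C ⟶ L := eL.inv ≫ SerreVanLib.tmap L ι ≫ wL.hom
    let s := can ≫ φ
    by_cases hs : s = 0
    · suffices hstalk : ∀ η : C, NefH1Lib.Subcurve.IsMaxPt η → ((DevissLib.St η).map φ).hom = 0 by
        let G := Abelian.image φ
        have hG : Coh.IsCoh G := DevissLib.isCoh_image φ hLc hωc
        have hd0 : topologicalKrullDim (CohB1.support G) ≤ 0 := by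
          refine NefH1Lib.Subcurve.dim_support_le_zero hG.2 hdim.le fun η hη hs => ?_
          obtain ⟨a, ha⟩ := (DevissLib.mem_support_iff_nonzero G η).mp hs
          obtain ⟨b, rfl⟩ := (ModuleCat.epi_iff_surjective ((DevissLib.St η).map (Abelian.factorThruImage φ))).mp
            inferInstance a
          refine ha ((ModuleCat.mono_iff_injective ((DevissLib.St η).map (Abelian.image.ι φ))).mp inferInstance ?_)
          rw [map_zero, ← LinearMap.comp_apply, ← ModuleCat.hom_comp, ← Functor.map_comp, Abelian.image.fac,
            hstalk η hη]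
          rfl
        haveI : Subsingleton (Coh.HH C G 1) :=
          CurvLib.subsingleton_HH_of_support_dim G hG.2 (d := 0) (by exact_mod_cast hd0) 1 (by omega)
        obtain ⟨D⟩ := hdual G hG.1
        haveI : Subsingleton (Coh.HH C G 1 →ₗ[k] k) :=
          ⟨fun a b => LinearMap.ext fun v => by rw [Subsingleton.elim v 0, map_zero, map_zero]⟩
        haveI : Subsingleton (G ⟶ ω) := D.subsingleton
        rw [← Abelian.image.fac φ, Subsingleton.elim (Abelian.image.ι φ) 0, comp_zero]
      intro η hη
      have hηp : η ≠ p := fun he => by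
        subst he
        have h2 := NefH1Lib.Subcurve.equidim k hdim _ (NefH1Lib.Subcurve.closure_mem_components hη)
        rw [hp.closure_eq] at h2
        have h3 := topologicalKrullDim_zero_of_discreteTopology ({η} : Set C)
        rw [h2] at h3
        exact absurd h3 (not_le.mpr zero_lt_one)
      have hsurj : Function.Surjective ((DevissLib.St η).map can).hom := by
        have h1 : Function.Surjective ((DevissLib.St η).map (SerreVanLib.tmap L ι)).hom := by
          intro a
          obtain ⟨b, rfl⟩ := (ModuleCat.epi_iff_surjective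
            (KFlatLib.stalkTensorIso L (Coh.structureModule C) η).hom).mp inferInstance a
          obtain ⟨c, rfl⟩ := LinearMap.lTensor_surjective ((DevissLib.St η).obj L)
            (NefH1Lib.Subcurve.surjective_idealModι J (x := η) (by rw [hsupp]; exact hηp)) b
          exact ⟨(KFlatLib.stalkTensorIso L I η).hom c,
            (congrArg (fun f => (ModuleCat.Hom.hom f) c)
              (KFlatLib.stalkTensorIso_natural_right (M := L) η ι)).symm⟩
        simp only [can, Functor.map_comp, ModuleCat.hom_comp, LinearMap.coe_comp]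
        exact ((((ModuleCat.epi_iff_surjective _).mp inferInstance).comp h1).comp
          ((ModuleCat.epi_iff_surjective _).mp inferInstance))
      refine LinearMap.ext fun a => ?_
      obtain ⟨b, rfl⟩ := hsurj a
      rw [← LinearMap.comp_apply, ← ModuleCat.hom_comp, ← Functor.map_comp, show can ≫ φ = s from rfl, hs,
        Functor.map_zero]
      rfl
    · exfalso
      have hmem := hgen s hs
      rw [← RegDualLib.unitHom_eq s] at hmem
      have hga := RegDualLib.genAt_of_mem_genLocus _ hmem
      let m := IsLocalRing.maximalIdeal (C.presheaf.stalk p)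
      let σ := DevissLib.gm ω p (show p ∈ (⊤ : C.Opens) from trivial) (s.app ⊤ (1 : Γ(C, ⊤)))
      have hσ : σ ∈ m • (⊤ : Submodule (C.presheaf.stalk p) ((DevissLib.St p).obj ω)) := by
        have h1 : σ = ((DevissLib.St p).map (SerreVanLib.tmap L ι ≫ wL.hom ≫ φ)).hom
            (((DevissLib.St p).map eL.inv).hom
              (DevissLib.gm (Coh.structureModule C) p (show p ∈ (⊤ : C.Opens) from trivial) (1 : Γ(C, ⊤)))) := by
          refine (DevissLib.gm_app s p (U := ⊤) trivial _).symm.trans ?_
          simp only [s, can, Functor.map_comp, ModuleCat.hom_comp, LinearMap.comp_apply]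
          rfl
        rw [h1, Functor.map_comp, ModuleCat.hom_comp, LinearMap.comp_apply]
        have h2 := Submodule.mem_map_of_mem (f := ((DevissLib.St p).map (wL.hom ≫ φ)).hom)
          (RegDualLib.range_tensor_le hp L (((DevissLib.St p).map eL.inv).hom
            (DevissLib.gm (Coh.structureModule C) p (show p ∈ (⊤ : C.Opens) from trivial) (1 : Γ(C, ⊤)))))
        rw [Submodule.map_smul''] at h2
        exact Submodule.smul_mono le_rfl le_top h2
      have htop : (⊤ : Submodule (C.presheaf.stalk p) ((DevissLib.St p).obj ω)) =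
          Submodule.span (C.presheaf.stalk p) {σ} :=
        (eq_top_iff.mpr fun y _ => by
          obtain ⟨c, hc⟩ := hga.2 y
          exact Submodule.mem_span_singleton.mpr ⟨c, hc⟩).symm
      rw [htop, Submodule.mem_smul_span_singleton] at hσ
      obtain ⟨c, hc, hcσ⟩ := hσ
      have h3 : c = 1 := hga.1 (hcσ.trans (one_smul _ σ).symm)
      exact (IsLocalRing.maximalIdeal.isMaximal _).ne_top ((Ideal.eq_top_iff_one _).mpr (h3 ▸ hc))

end Groth.Agent.S18250
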