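import Groth.Statements.S18251
import Mathlib


-- import your own Groth.Agent.* helpers here

set_option autoImplicit false
universe u
open W4c5m1nsnscurves
open Curves

namespace Groth.Agent.S18251

/-- Case n = 3: let R be a commutative ring and a, b, c, d elements of R (a point of U_3, which is
affine 4-space, so no condition is imposed). Then in the R-algebra R[x_2, x_3]/(x_2 x_3² − x_2² x_3
− a x_2 x_3 − b x_2 − c x_3 − d) the classes of the monomials 1, x_2^k x_3, x_2^k and x_3^k (k ≥ 1)
are linearly independent over R and span, i.e. form an R-basis. -/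
theorem result (R : Type u) [CommRing R] (a b c d : R) :
    LinearIndependent R (cmon3 R a b c d) ∧
      Submodule.span R (Set.range (cmon3 R a b c d)) = ⊤ := by
  classical
  let m : MonomialOrder (Fin 2) := MonomialOrder.lex
  let mk2 : ℕ → ℕ → (Fin 2 →₀ ℕ) := fun i j => Finsupp.single 0 i + Finsupp.single 1 j
  have hmk : ∀ i j, mk2 i j 0 = i ∧ mk2 i j 1 = j := fun i j => by simp [mk2]
  set D := mk2 2 1 with hD
  set Fs : MvPolynomial (Fin 2) R := MvPolynomial.monomial (mk2 2 1) 1 - MvPolynomial.monomial (mk2 1 2) 1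
    - (MvPolynomial.monomial (mk2 1 1) a + MvPolynomial.monomial (mk2 0 1) b
      + MvPolynomial.monomial (mk2 1 0) c + MvPolynomial.monomial (mk2 0 0) d) with hFs
  have hne : ∀ i j, (i ≠ 2 ∨ j ≠ 1) → mk2 i j ≠ D := fun i j h he => by
    have h0 := DFunLike.congr_fun he 0
    have h1 := DFunLike.congr_fun he 1
    simp [(hmk _ _).1, (hmk _ _).2, hD] at h0 h1
    omega
  have hcD : Fs.coeff D = 1 := by
    simp only [hFs, MvPolynomial.coeff_sub, MvPolynomial.coeff_add, MvPolynomial.coeff_monomial]
    rw [if_pos rfl, if_neg (hne 1 2 (by omega)), if_neg (hne 1 1 (by omega)),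
      if_neg (hne 0 1 (by omega)), if_neg (hne 1 0 (by omega)), if_neg (hne 0 0 (by omega))]
    simp
  rcases subsingleton_or_nontrivial R with hR | hR
  · haveI : Subsingleton (MvPolynomial (Fin 2) R) := Module.subsingleton R _
    haveI : Subsingleton (CurveAlg3 R a b c d) := Function.Surjective.subsingleton Ideal.Quotient.mk_surjective
    exact ⟨linearIndependent_of_subsingleton, Subsingleton.elim _ _⟩
  have hdeg : m.degree Fs = D := by
    have hle : m.toSyn (m.degree Fs) ≤ m.toSyn D := by
      rw [m.degree_le_iff]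
      intro u hu
      by_contra hc
      have hu' : u ≠ D := fun h => hc (h ▸ le_rfl)
      rw [MvPolynomial.mem_support_iff] at hu
      apply hu
      have key : ∀ i j, (i < 2 ∨ (i = 2 ∧ j ≤ 1)) → mk2 i j ≠ u := fun i j h he => by
        apply hc
        rw [← he, hD]
        rcases h with h | ⟨rfl, h⟩
        · rw [MonomialOrder.lex_le_iff]
          exact le_of_lt (Finsupp.Lex.lt_iff.2 ⟨0, fun j hj => absurd hj (Fin.not_lt_zero j), by
            simp [(hmk _ _).1, h]⟩)
        · exact m.toSyn_monotone (by intro k; fin_cases k <;> simp [mk2, h])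
      simp only [hFs, MvPolynomial.coeff_sub, MvPolynomial.coeff_add, MvPolynomial.coeff_monomial]
      rw [if_neg (key 2 1 (by omega)), if_neg (key 1 2 (by omega)), if_neg (key 1 1 (by omega)),
        if_neg (key 0 1 (by omega)), if_neg (key 1 0 (by omega)), if_neg (key 0 0 (by omega))]
      simp
    exact m.toSyn.injective (le_antisymm hle (m.le_degree (by
      rw [MvPolynomial.mem_support_iff, hcD]; exact one_ne_zero)))
  have hlc : m.leadingCoeff Fs = 1 := by rw [MonomialOrder.leadingCoeff, hdeg, hcD]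
  let e : Option (ℕ ⊕ (Fin 2 × ℕ)) → (Fin 2 →₀ ℕ)
    | none => mk2 0 0
    | some (Sum.inl k) => mk2 1 (k + 1)
    | some (Sum.inr (y, k)) => if y = 0 then mk2 0 (k + 1) else mk2 (k + 1) 0
  have heinj : Function.Injective e := by
    intro u v h
    have h0 := DFunLike.congr_fun h 0
    have h1 := DFunLike.congr_fun h 1
    rcases u with _ | k | ⟨y, k⟩ <;> rcases v with _ | k' | ⟨y', k'⟩ <;>
      simp only [e] at h0 h1 <;> (try fin_cases y) <;> (try fin_cases y') <;>
      simp [(hmk _ _).1, (hmk _ _).2] at h0 h1 ⊢ <;> omega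
  have hnot : ∀ o, ¬ D ≤ e o := by
    intro o h
    have h0 := h 0
    have h1 := h 1
    rcases o with _ | k | ⟨y, k⟩ <;> simp only [e] at h0 h1 <;> (try fin_cases y) <;>
      simp [hD, (hmk _ _).1, (hmk _ _).2] at h0 h1
  have hsurj : ∀ u : Fin 2 →₀ ℕ, ¬ D ≤ u → ∃ o, e o = u := by
    intro u hu
    have hu2 : u 0 < 2 ∨ u 1 < 1 := by
      by_contra hc
      push Not at hc
      exact hu (fun k => by fin_cases k <;> simp [hD, (hmk _ _).1, (hmk _ _).2] <;> omega)
    have hu' : u = mk2 (u 0) (u 1) := by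
      ext k; fin_cases k <;> simp [(hmk _ _).1, (hmk _ _).2]
    rw [hu']
    rcases Nat.eq_zero_or_pos (u 1) with h1 | h1
    · rcases Nat.eq_zero_or_pos (u 0) with h0 | h0
      · exact ⟨none, by simp [e, h0, h1]⟩
      · exact ⟨some (Sum.inr (1, u 0 - 1)), by simp [e, h1, Nat.sub_add_cancel h0]⟩
    · obtain h0 | h0 : u 0 = 0 ∨ u 0 = 1 := by omega
      · exact ⟨some (Sum.inr (0, u 1 - 1)), by simp [e, h0, Nat.sub_add_cancel h1]⟩
      · exact ⟨some (Sum.inl (u 1 - 1)), by simp [e, h0, Nat.sub_add_cancel h1]⟩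
  let sw : MvPolynomial (Fin 2) R ≃ₐ[R] MvPolynomial (Fin 2) R :=
    MvPolynomial.renameEquiv R (Equiv.swap 0 1)
  set F : MvPolynomial (Fin 2) R := MvPolynomial.X 0 * MvPolynomial.X 1 ^ 2
    - MvPolynomial.X 0 ^ 2 * MvPolynomial.X 1 - (MvPolynomial.C a * MvPolynomial.X 0 * MvPolynomial.X 1
      + MvPolynomial.C b * MvPolynomial.X 0 + MvPolynomial.C c * MvPolynomial.X 1 + MvPolynomial.C d) with hF
  have hsw : ∀ i j r, sw (MvPolynomial.monomial (mk2 i j) r)
      = MvPolynomial.C r * MvPolynomial.X 1 ^ i * MvPolynomial.X 0 ^ j := fun i j r => by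
    rw [show MvPolynomial.monomial (mk2 i j) r
        = MvPolynomial.C r * MvPolynomial.X 0 ^ i * MvPolynomial.X 1 ^ j by
      simp [mk2, MvPolynomial.X_pow_eq_monomial, MvPolynomial.C_mul_monomial, MvPolynomial.monomial_mul]]
    simp [sw]
  have hswF : sw Fs = F := by
    simp only [hFs, map_sub, map_add, hsw, hF, map_one]
    ring
  let ψ : MvPolynomial (Fin 2) R →ₐ[R] CurveAlg3 R a b c d :=
    (Ideal.Quotient.mkₐ R _).comp sw.toAlgHom
  have hker : ∀ q, ψ q = 0 ↔ ∃ g, q = g * Fs := by
    intro q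
    show Ideal.Quotient.mk _ (sw q) = 0 ↔ _
    rw [Ideal.Quotient.eq_zero_iff_mem, Ideal.mem_span_singleton']
    constructor
    · rintro ⟨g, hg⟩
      refine ⟨sw.symm g, sw.injective ?_⟩
      rw [map_mul, AlgEquiv.apply_symm_apply, hswF, hg]
    · rintro ⟨g, rfl⟩
      exact ⟨sw g, by rw [map_mul, hswF]⟩
  have hmon : ∀ o, cmon3 R a b c d o = ψ (MvPolynomial.monomial (e o) 1) := by
    intro o
    show _ = Ideal.Quotient.mk _ (sw _)
    rcases o with _ | k | ⟨y, k⟩
    · simp [e, cmon3, hsw]
    · simp only [e, cmon3]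
      refine congrArg (Ideal.Quotient.mk _) ?_
      rw [hsw, map_one, one_mul, pow_one, mul_comm]
    · fin_cases y <;> simp [e, cmon3, hsw]
  constructor
  · rw [linearIndependent_iff]
    intro l hl
    set P := Finsupp.linearCombination R (fun o => MvPolynomial.monomial (e o) (1 : R)) l with hP
    have hψP : ψ P = 0 := by
      rw [hP, ← hl, Finsupp.linearCombination_apply, Finsupp.linearCombination_apply, map_finsuppSum]
      exact Finsupp.sum_congr fun o _ => by rw [map_smul, hmon]
    obtain ⟨g, hg⟩ := (hker P).1 hψP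
    have hco : ∀ u, P.coeff u = (l.mapDomain e) u := fun u => by
      rw [hP, Finsupp.linearCombination_apply, Finsupp.mapDomain, Finsupp.sum, Finsupp.sum,
        MvPolynomial.coeff_sum, Finsupp.finsetSum_apply]
      refine Finset.sum_congr rfl fun o _ => ?_
      rw [MvPolynomial.coeff_smul, MvPolynomial.coeff_monomial, Finsupp.single_apply]
      split_ifs <;> simp
    have hg0 : g = 0 := by
      by_contra hg0
      have hdg : m.degree P = m.degree g + D := by
        rw [hg, m.degree_mul_of_right_mem_nonZeroDivisors hg0 (by rw [hlc]; exact one_mem _), hdeg]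
      have hP0 : P ≠ 0 := by
        intro h
        have h2 : m.leadingCoeff (g * Fs) = m.leadingCoeff g * m.leadingCoeff Fs :=
          m.leadingCoeff_mul_of_right_mem_nonZeroDivisors (by rw [hlc]; exact one_mem _)
        rw [← hg, h, m.leadingCoeff_zero, hlc, mul_one] at h2
        exact (m.leadingCoeff_ne_zero_iff.2 hg0) h2.symm
      have hmem := m.coeff_degree_ne_zero_iff.2 hP0
      rw [hco] at hmem
      obtain ⟨o, _, ho⟩ := Finset.mem_image.1 (Finsupp.mapDomain_support (Finsupp.mem_support_iff.2 hmem))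
      exact hnot o (by rw [ho, hdg]; exact le_add_self)
    apply Finsupp.mapDomain_injective heinj
    ext u
    rw [← hco, hg, hg0, zero_mul, MvPolynomial.coeff_zero, Finsupp.mapDomain_zero, Finsupp.zero_apply]
  · refine eq_top_iff.2 fun q _ => ?_
    obtain ⟨f, rfl⟩ := (show Function.Surjective ψ from
      Ideal.Quotient.mk_surjective.comp sw.surjective) q
    obtain ⟨g, r, hfr, -, hr⟩ := m.div_single (b := Fs) (by rw [hlc]; exact isUnit_one) f
    have : ψ f = ψ r := by
      rw [hfr, map_add, (hker _).2 ⟨g, rfl⟩, zero_add]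
    rw [this, r.as_sum, map_sum]
    refine Submodule.sum_mem _ fun u hu => ?_
    obtain ⟨o, ho⟩ := hsurj u (by rw [← hdeg]; exact hr u hu)
    rw [show MvPolynomial.monomial u (r.coeff u) = r.coeff u • MvPolynomial.monomial u (1 : R) by
      rw [MvPolynomial.smul_monomial, smul_eq_mul, mul_one], map_smul, ← ho, ← hmon]
    exact Submodule.smul_mem _ _ (Submodule.subset_span ⟨o, rfl⟩)

end Groth.Agent.S18251
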