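import Groth.Statements.S18256
import Groth.Agent.ArtLib.Cotangent

set_option autoImplicit false
universe u
open ArtFun

namespace Groth.Agent.S18256

open CategoryTheory TensorProduct in
/-- Let R be an Artinian local ring with residue field k and M a finitely generated R-module. Suppose
that for every small extension p : A' → A of local Artinian R-algebras with residue field k (p
surjective, its kernel I a nonzero principal ideal killed by the maximal ideal of A'), the map M ⊗_R
I → M ⊗_R A' induced by the inclusion I ⊆ A' is injective (equivalently, the sequence 0 → M ⊗_R I →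
M ⊗_R A' → M ⊗_R A → 0 is exact). Then M is a free R-module. (The printed conclusion reads free over
the residue field; the proof establishes freeness over R, which is what is stated here.) -/
theorem result
    (R : Type u) [CommRing R] [IsArtinianRing R] [IsLocalRing R]
    (k : Type u) [Field k] [Algebra R k] (hk : Function.Surjective (algebraMap R k))
    (M : Type u) [AddCommGroup M] [Module R M] [Module.Finite R M]
    (h : ∀ (A' A : ArtFun.Art R k) (p : A' ⟶ A), ArtFun.Art.IsSmallExt p →
      Function.Injective
        (LinearMap.lTensor M (((RingHom.ker p.toAlgHom).restrictScalars R).subtype))) :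
    Module.Free R M := by
  classical
  have key : ∀ I : Ideal R, Function.Injective (LinearMap.lTensor M I.subtype) := by
    intro I
    induction I using IsWellFounded.induction (α := Ideal R) (r := (· < ·)) with
    | ind I' ih =>
      by_cases htop : I' = ⊤
      · subst htop
        exact (LinearEquiv.lTensor M (Submodule.topEquiv (R := R) (M := R))).injective
      by_cases hbot : I' = ⊥
      · subst hbot
        exact Function.injective_of_subsingleton _
      -- a covered ideal
      obtain ⟨I, hI, hmax⟩ := set_has_maximal_iff_noetherian.2 (inferInstance : IsNoetherian R R)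
        {I : Ideal R | I < I'} ⟨⊥, bot_lt_iff_ne_bot.2 hbot⟩
      let R0 : ArtFun.Art R k := ArtFun.Art.of R (Algebra.ofId R k) hk
      obtain ⟨n, hn⟩ := (isArtinianRing_iff_isNilpotent_maximalIdeal R).1 inferInstance
      obtain ⟨t, ht, htI, hmt⟩ := ArtLib.exists_socle_ring (m := IsLocalRing.maximalIdeal R) n (by rw [hn, Submodule.zero_eq_bot, Ideal.bot_mul]; exact bot_le) hI
      have heq : I ⊔ Ideal.span {t} = I' := by
        rcases (sup_le hI.le ((Ideal.span_singleton_le_iff_mem _).2 ht)).lt_or_eq with hlt | he
        · exact absurd (lt_of_le_of_ne le_sup_left fun h => htI (by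
            rw [h]; exact Ideal.mem_sup_right (Ideal.mem_span_singleton_self t))) (hmax _ hlt)
        · exact he
      have hI'm : I' ≤ IsLocalRing.maximalIdeal R0 := IsLocalRing.le_maximalIdeal htop
      have hIm : I ≤ IsLocalRing.maximalIdeal R0 := hI.le.trans hI'm
      have hsmall := ArtLib.isSmallExt_quot (B := R0) hIm (hI'm ht) htI hmt
      generalize hp : ArtLib.quotLift (A := R0) hIm (ArtLib.quotMk R0 _ _) _ = p at hsmall
      have hker : ∀ r : R, (ArtLib.quotMk R0 I hIm r ∈ RingHom.ker p.toAlgHom) ↔ r ∈ I' := fun r => by
        rw [RingHom.mem_ker, ← heq, ← hp]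
        exact ArtLib.quotMk_eq_zero
      let q : R →ₗ[R] ↑(ArtLib.quot R0 I hIm) := (ArtLib.quotMk R0 I hIm).toAlgHom.toLinearMap
      let g : I' →ₗ[R] (RingHom.ker p.toAlgHom).restrictScalars R :=
        (q.comp I'.subtype).codRestrict _ fun r => (hker r.1).2 r.2
      have hg : Function.Surjective g := fun y => by
        obtain ⟨r, hr⟩ := ArtLib.quotMk_surjective R0 I hIm y.1
        exact ⟨⟨r, (hker r).1 (hr ▸ y.2)⟩, Subtype.ext hr⟩
      let f : I →ₗ[R] I' := Submodule.inclusion hI.le
      have hfg : Function.Exact f g := fun x => by
        constructor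
        · intro hx
          exact ⟨⟨x.1, ArtLib.quotMk_eq_zero.1 (congrArg Subtype.val hx)⟩, Subtype.ext rfl⟩
        · rintro ⟨y, rfl⟩
          exact Subtype.ext (ArtLib.quotMk_eq_zero.2 y.2)
      have hJ := h _ _ p hsmall
      refine (injective_iff_map_eq_zero _).2 fun x hx => ?_
      have hsq : ((RingHom.ker p.toAlgHom).restrictScalars R).subtype.comp g = q.comp I'.subtype :=
        LinearMap.ext fun _ => rfl
      have hgx : LinearMap.lTensor M g x = 0 := by
        refine hJ ?_
        rw [map_zero, ← LinearMap.lTensor_comp_apply, hsq, LinearMap.lTensor_comp_apply, hx, map_zero]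
      obtain ⟨y, rfl⟩ := (lTensor_exact M hfg hg x).1 hgx
      have hy : LinearMap.lTensor M I.subtype y = 0 := by
        rw [← hx, ← LinearMap.lTensor_comp_apply]
        rfl
      rw [(injective_iff_map_eq_zero _).1 (ih I hI) y hy, map_zero]
  have : Module.Flat R M := Module.Flat.iff_lTensor_injective'.2 key
  exact Module.free_of_flat_of_isLocalRing

end Groth.Agent.S18256
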