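import Groth.Statements.S18262
import Groth.Agent.FormStabLib.Products

set_option autoImplicit false
universe u
open InvQ

namespace Groth.Agent.S18262

/-- Let k be an algebraically closed field in which m! is non-zero, n and m natural numbers, and p_1, …,
p_m non-zero vectors of k^(n+1), an ordered configuration of m points of projective n-space. Encode
the configuration by the product π = ∏_i (Σ_j p_i,j x_j) of its m linear forms, on which the special
linear group SL(n+1) acts by substitution, and let a be the point of the affine space of degree-m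
forms in n + 1 variables whose form is π. If a is stable for SL(n+1) — closed orbit and finite
stabiliser — then for every linear subspace W of k^(n+1) with 0 ≠ W ≠ k^(n+1) the number of indices
i with p_i ∈ W, multiplied by n + 1, is less than m times the dimension of W. (Affine-cone form,
with the configuration carried by the product of its linear forms; only the necessity of the strict
criterion is given; its sufficiency is not stated here. The published statement asks the strict
inequality of proper subsets of the points, through the dimension of their span; that version agrees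
with this one when m ≥ n + 2 but not for m ≤ n + 1. The published statement allows any
characteristic; this row assumes m! non-zero in k, as the space of forms used here requires.) -/
theorem result (k : Type u) [Field k] [IsAlgClosed k] (n m : ℕ)
    (hm : (Nat.factorial m : k) ≠ 0) (p : Fin m → Fin (n + 1) → k) (hp : ∀ i, p i ≠ 0)
    (a : CoordGrp.FormIdx (n + 1) m → k)
    (ha : CoordGrp.formPoly a = ∏ i, ∑ j, MvPolynomial.C (p i j) * MvPolynomial.X j)
    (hst : @GLin.IsStableVec k _ (CoordGrp.SLn (n + 1) k) _ _ (CoordGrp.FormIdx (n + 1) m)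
      (GLin.comodAlong ((CoordGrp.SLn.mkHom (n + 1) k).comp (CoordGrp.Mat.toGLn (n + 1) k)) (CoordGrp.formsCoact k (n + 1) m))
      (GLin.isCoactAlg_comodAlong ((CoordGrp.SLn.mkHom (n + 1) k).comp (CoordGrp.Mat.toGLn (n + 1) k)) (CoordGrp.formsCoact k (n + 1) m) (CoordGrp.formsCoact_isCoactAlg k (n + 1) m)) a)
    (W : Submodule k (Fin (n + 1) → k)) (hW : W ≠ ⊥) (hW' : W ≠ ⊤) :
    Nat.card {i : Fin m // p i ∈ W} * (n + 1) < m * Module.finrank k W := by
  classical
  by_contra hge
  rw [not_lt] at hge
  let s := Module.finrank k W
  have hsN : s < n + 1 := by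
    have := Submodule.finrank_lt (lt_of_le_of_ne le_top hW').ne
    rwa [Module.finrank_fin_fun] at this
  let f : Fin s → Fin (n + 1) → k := fun i => (Module.finBasis k W i : Fin (n + 1) → k)
  have hf : LinearIndependent k f := (Module.finBasis k W).linearIndependent.map' W.subtype (Submodule.ker_subtype W)
  obtain ⟨M₀, hM₀, hcol⟩ := FormStabLib.exists_completion f hf hsN
  let M : Matrix (Fin (n + 1)) (Fin (n + 1)) k := M₀.adjugate.transpose
  have hM : M.det = 1 := by rw [Matrix.det_transpose, Matrix.det_adjugate, hM₀, one_pow]
  have hzero : ∀ q : Fin (n + 1) → k, q ∈ W → ∀ j, Matrix.vecMul q M j ≠ 0 → (j : ℕ) < s := by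
    intro q hq j hj
    by_contra hlt
    refine hj ?_
    have hspan := (Module.finBasis k W).sum_repr ⟨q, hq⟩
    have hq' : q = ∑ i, (Module.finBasis k W).repr ⟨q, hq⟩ i • f i := by
      have := congrArg (fun x : W => (x : Fin (n + 1) → k)) hspan
      simp only [Submodule.coe_sum, Submodule.coe_smul] at this
      exact this.symm
    have hfi : ∀ i, M₀.adjugate.mulVec (f i) = Pi.single (Fin.castLE hsN.le i) 1 := fun i => by
      rw [← hcol i, ← Matrix.mulVec_single_one, Matrix.mulVec_mulVec, Matrix.adjugate_mul, hM₀, one_smul,
        Matrix.one_mulVec]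
    rw [Matrix.vecMul_transpose, hq', Matrix.mulVec_sum, Finset.sum_apply]
    refine Finset.sum_eq_zero fun i _ => ?_
    rw [Matrix.mulVec_smul, hfi, Pi.smul_apply, Pi.single_eq_of_ne, smul_zero]
    intro h
    rw [h] at hlt
    exact hlt (by simp)
  let r : Fin (n + 1) → ℤ := fun j => if (j : ℕ) < s then -((n + 1 - s : ℕ) : ℤ) else (s : ℤ)
  let b : Fin m → ℤ := fun i => if p i ∈ W then -((n + 1 - s : ℕ) : ℤ) else (s : ℤ)
  have hs0 : 0 < s := by
    rcases Nat.eq_zero_or_pos s with h | h
    · exact absurd (Submodule.finrank_eq_zero.1 h) hW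
    · exact h
  have hr0 : ∑ j, r j = 0 := by
    simp only [r, Finset.sum_ite, Finset.sum_const, nsmul_eq_mul]
    have h1 : (Finset.univ.filter fun j : Fin (n + 1) => (j : ℕ) < s).card = s := by
      rw [Fin.card_filter_val_lt]; omega
    have h2 := Finset.card_filter_add_card_filter_not (s := Finset.univ) (fun j : Fin (n + 1) => (j : ℕ) < s)
    rw [h1, Finset.card_univ, Fintype.card_fin] at h2
    rw [h1, show (Finset.univ.filter fun j : Fin (n + 1) => ¬ (j : ℕ) < s).card = n + 1 - s by omega]
    ring
  refine FormStabLib.not_isStableVec_of_weights (k := k) (FormStabLib.multinomial_ne_zero_of_factorial hm) a M hM r hr0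
    (fun h => ?_) (fun e he => ?_) hst
  · have := congrFun h ⟨0, Nat.succ_pos n⟩
    simp only [r, if_pos hs0, Pi.zero_apply] at this
    omega
  have hprod : FormStabLib.sub M (CoordGrp.formPoly a) = ∏ i, FormStabLib.linForm (Matrix.vecMul (p i) M) := by
    rw [ha, map_prod]
    exact Finset.prod_congr rfl fun i _ => FormStabLib.sub_linForm M (p i)
  rw [hprod] at he
  refine le_trans (FormStabLib.weight_le_of_mem_support_prod _ _ r b (fun i _ j hj => ?_) e he) ?_
  · simp only [b, r]
    split_ifs with h1 h2 h2
    · exact le_rfl
    · omega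
    · exact absurd (hzero _ h2 j hj) h1
    · exact le_rfl
  · simp only [b, Finset.sum_ite, Finset.sum_const, nsmul_eq_mul]
    have h2 := Finset.card_filter_add_card_filter_not (s := Finset.univ) (fun i : Fin m => p i ∈ W)
    rw [Finset.card_univ, Fintype.card_fin] at h2
    rw [Nat.card_eq_fintype_card, Fintype.card_subtype] at hge
    set c := (Finset.univ.filter fun i : Fin m => p i ∈ W).card
    set c' := (Finset.univ.filter fun i : Fin m => ¬ p i ∈ W).card
    obtain ⟨t, ht⟩ := Nat.exists_eq_add_of_le hsN.le
    rw [show n + 1 - s = t by omega]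
    have h3 : (m : ℤ) * s ≤ c * ((s : ℤ) + t) := by
      have : m * s ≤ c * (s + t) := by rw [← ht]; exact hge
      exact_mod_cast this
    have h4 : (c' : ℤ) = m - c := by omega
    rw [h4]
    linarith

end Groth.Agent.S18262
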