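import Groth.Statements.S18265
import Mathlib
-- import your own Groth.Agent.* helpers here

set_option autoImplicit false
universe u
open InvQ

namespace Groth.Agent.S18265

/-- Let k be an algebraically closed field and n, m natural numbers, and let R be the ring of polynomial
functions of m vectors of k^(n+1) invariant under the special linear group SL(n+1, k) acting on all
the vectors at once and under the rescalings of the individual vectors by units with product 1
(equivalently: invariant and homogeneous of one and the same degree in each vector) — the graded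
ring of invariant sections whose Proj is the quotient variety of ordered m-point sets in projective
n-space. Then R is integrally closed in its field of fractions; hence that quotient variety is
normal. (Only the normality assertion of the source's statement is given here; its dimension,
rationality and singular-locus assertions are not.) -/
theorem result (k : Type u) [Field k] [IsAlgClosed k] (n m : ℕ) :
    IsIntegrallyClosed (W4c5pointsetsdelpezzo.invRing k n m) := by
  let P := W4c5pointsetsdelpezzo.TupleRing k n m
  let R := W4c5pointsetsdelpezzo.invRing k n m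
  have key : ∀ (a b c : P), a ∈ R → b ∈ R → b ≠ 0 → b * c = a → c ∈ R := by
    intro a b c ha hb hb0 h
    simp only [R, W4c5pointsetsdelpezzo.invRing, Algebra.mem_inf, Algebra.mem_iInf,
      AlgHom.mem_equalizer] at ha hb ⊢
    replace ha := And.intro (fun g => (ha.1 g).trans (AlgHom.id_apply a)) (fun s => (ha.2 s).trans (AlgHom.id_apply a))
    replace hb := And.intro (fun g => (hb.1 g).trans (AlgHom.id_apply b)) (fun s => (hb.2 s).trans (AlgHom.id_apply b))
    refine ⟨fun g => ?_, fun s => ?_⟩ <;> rw [AlgHom.id_apply]
    · exact mul_left_cancel₀ hb0 (by rw [h, ← ha.1 g, ← h, map_mul, hb.1 g])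
    · exact mul_left_cancel₀ hb0 (by rw [h, ← ha.2 s, ← h, map_mul, hb.2 s])
  rw [isIntegrallyClosed_iff (FractionRing R)]
  intro x hx
  obtain ⟨a, ⟨b, hb⟩, rfl⟩ := IsLocalization.exists_mk'_eq (nonZeroDivisors R) x
  have hb0 : (b : P) ≠ 0 := fun e => nonZeroDivisors.ne_zero hb (Subtype.ext e)
  let φ : FractionRing R →+* FractionRing P :=
    IsFractionRing.map (j := R.val.toRingHom) Subtype.val_injective
  have hφ : ∀ r : R, φ (algebraMap R _ r) = algebraMap P (FractionRing P) r := fun r =>
    IsLocalization.map_eq _ r
  have hint : IsIntegral P (φ (IsLocalization.mk' (FractionRing R) a ⟨b, hb⟩)) :=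
    IsIntegral.map_of_comp_eq R.val.toRingHom φ (by ext r; exact (hφ r).symm) hx
  obtain ⟨c, hc⟩ := IsIntegrallyClosed.isIntegral_iff.1 hint
  have hbc : (b : P) * c = a := by
    apply IsFractionRing.injective P (FractionRing P)
    rw [map_mul, hc, ← hφ b, ← map_mul, ← hφ a]
    congr 1
    exact IsLocalization.mk'_spec' _ a ⟨b, hb⟩
  refine ⟨⟨c, key a b c a.2 b.2 hb0 hbc⟩, ?_⟩
  rw [IsLocalization.eq_mk'_iff_mul_eq, ← map_mul]
  exact congrArg _ (Subtype.ext ((mul_comm c b).trans hbc))

end Groth.Agent.S18265
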