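import Groth.Statements.S18266
import Mathlib
import Groth.Agent.S4667
-- import your own Groth.Agent.* helpers here

set_option autoImplicit false
universe u
open CategoryTheory AlgebraicGeometry
open FDesc

namespace Groth.Agent.S18266

/-- Let A be a discrete valuation ring, η the generic point of Spec A, and f : X → Spec A a morphism
from an arbitrary scheme X. The scheme-theoretic closure of the generic fibre X_η in X (the flat
completion) is flat over Spec A, and it is the largest closed subscheme of X flat over Spec A: for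
every closed immersion i : Z → X with Z flat over Spec A, the ideal sheaf of the flat completion is
contained in the ideal sheaf of i. -/
theorem result (A : Type u) [CommRing A] [IsDomain A]
    [IsDiscreteValuationRing A] {X : Scheme.{u}} (f : X ⟶ Spec (CommRingCat.of A))
    (η : ↥(Spec (CommRingCat.of A))) (hη : η.asIdeal = ⊥) :
    Flat ((f.fiberι η).imageι ≫ f) ∧
      ∀ (Z : Scheme.{u}) (i : Z ⟶ X), IsClosedImmersion i → Flat (i ≫ f) → (f.fiberι η).ker ≤ i.ker := by
  let ξ := (Spec (CommRingCat.of A)).fromSpecResidueField η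
  haveI : QuasiCompact ξ := ⟨fun U _ _ => (Set.toFinite _).isCompact⟩
  haveI : QuasiCompact (f.fiberι η) := MorphismProperty.pullback_fst f ξ inferInstance
  have hξ : ξ.ker = ⊥ := by
    have hsurj : Surjective ξ.ker.subschemeι := by
      refine ⟨fun t => ?_⟩
      have : t ∈ (ξ.ker.support : Set ↥(Spec (CommRingCat.of A))) := by
        rw [Scheme.Hom.support_ker, Scheme.range_fromSpecResidueField]
        erw [PrimeSpectrum.closure_singleton]
        show (η.asIdeal : Set A) ⊆ _
        rw [hη]
        rintro _ rfl
        exact zero_mem _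
      rwa [← Scheme.IdealSheafData.range_subschemeι] at this
    haveI : IsIso ξ.ker.subschemeι := isIso_of_isClosedImmersion_of_surjective _
    rw [← Scheme.IdealSheafData.ker_subschemeι ξ.ker, Scheme.Hom.ker_eq_bot_of_isIso]
  refine ⟨?_, fun Z i hi hflat => ?_⟩
  · rw [HasRingHomProperty.iff_of_iSup_eq_top (P := @Flat) (ι := X.affineOpens)
      (fun U => ⟨(f.fiberι η).imageι ⁻¹ᵁ U.1, U.2.preimage _⟩)
      (by
        have h := iSup_affineOpens_eq_top X
        show ⨆ U : X.affineOpens, (f.fiberι η).imageι ⁻¹ᵁ U.1 = ⊤
        rw [← Scheme.Hom.preimage_iSup, h, Scheme.Hom.preimage_top])]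
    intro U
    let h := (f.fiberι η).imageι ≫ f
    let U' := (f.fiberι η).imageι ⁻¹ᵁ U.1
    let g₀ := (h.appLE ⊤ U' le_top).hom
    let g := g₀.comp (Scheme.ΓSpecIso (CommRingCat.of A)).inv.hom
    have hg : g.Flat := by
      letI := g.toAlgebra
      show Module.Flat A _
      rw [IsDedekindDomain.flat_iff_torsion_eq_bot, eq_bot_iff]
      rintro x ⟨⟨a, ha⟩, hax⟩
      have ha0 : a ≠ 0 := nonZeroDivisors.ne_zero ha
      change g a * x = 0 at hax
      have hu : IsUnit ((f.fiberι η).toImage.app U' (g a)) := by
        let s := (Scheme.ΓSpecIso (CommRingCat.of A)).inv.hom a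
        let c := (f.fiberι η).toImage ≫ h
        have hs : (f.fiberι η).toImage.app U' (g a) = c.appLE ⊤ ((f.fiberι η).toImage ⁻¹ᵁ U') le_top s := by
          have := Scheme.Hom.appLE_comp_appLE (f.fiberι η).toImage h ⊤ U' ((f.fiberι η).toImage ⁻¹ᵁ U') le_top le_rfl
          rw [← Scheme.Hom.appLE_eq_app]
          exact congr($this s)
        rw [hs]
        have hc : IsUnit (c.app ⊤ s) := by
          refine RingedSpace.isUnit_of_isUnit_germ _ _ _ fun y hy => ?_
          have hy' : y ∈ (f.fiber η).basicOpen (c.app ⊤ s) := by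
            rw [← Scheme.preimage_basicOpen]
            show c y ∈ (Spec (CommRingCat.of A)).basicOpen s
            have hcy : c y = η := by
              have h1 : c = f.fiberι η ≫ f := (Scheme.Hom.toImage_imageι_assoc _ f)
              rw [h1]
              have : f.fiberι η y ∈ Set.range (f.fiberι η) := ⟨y, rfl⟩
              rw [Scheme.Hom.range_fiberι] at this
              exact this
            rw [hcy, basicOpen_eq_of_affine]
            show a ∉ η.asIdeal
            rw [hη]
            simpa using ha0
          exact (Scheme.mem_basicOpen (f.fiber η) _ y hy).1 hy'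
        exact hc.map ((f.fiber η).presheaf.map (homOfLE (le_top : (f.fiberι η).toImage ⁻¹ᵁ U' ≤ ⊤)).op).hom
      have hzero : (f.fiberι η).toImage.app U' x = 0 := by
        refine hu.mul_right_eq_zero.1 ?_
        rw [← map_mul, hax, map_zero]
      exact (Submodule.mem_bot A).2 ((f.fiberι η).toImage_app_injective (U := U) (by rw [hzero, map_zero]))
    have : g₀ = g.comp (Scheme.ΓSpecIso (CommRingCat.of A)).hom.hom := by
      ext x
      simp [g]
    show g₀.Flat
    rw [this]
    exact (RingHom.Flat.of_bijective (Scheme.ΓSpecIso (CommRingCat.of A)).commRingCatIsoToRingEquiv.bijective).comp hg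
  · haveI := hi
    haveI := hflat
    have hZ : (Limits.pullback.fst (i ≫ f) ξ).ker = ⊥ := by
      rw [← Limits.pullbackSymmetry_hom_comp_snd, Scheme.Hom.ker_comp_of_isIso, Groth.Agent.S4667.result ξ (i ≫ f), hξ]
      show (Limits.pullback.fst (i ≫ f) (⊥ : (Spec (CommRingCat.of A)).IdealSheafData).subschemeι).ker = ⊥
      exact Scheme.Hom.ker_eq_bot_of_isIso _
    let v : Limits.pullback (i ≫ f) ξ ⟶ f.fiber η := Limits.pullback.lift (Limits.pullback.fst _ _ ≫ i) (Limits.pullback.snd _ _)
      (by rw [Category.assoc]; exact Limits.pullback.condition)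
    have hv : v ≫ f.fiberι η = Limits.pullback.fst (i ≫ f) ξ ≫ i := Limits.pullback.lift_fst _ _ _
    calc (f.fiberι η).ker ≤ (v ≫ f.fiberι η).ker := v.le_ker_comp _
      _ = (Limits.pullback.fst (i ≫ f) ξ).ker.map i := by rw [hv, Scheme.IdealSheafData.map_ker]
      _ = i.ker := by rw [hZ, Scheme.IdealSheafData.map_bot]

end Groth.Agent.S18266
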