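import Groth.Statements.S18267
import Groth.Agent.UOpenLib.DimOne
import Groth.Agent.S1535
import Groth.Agent.SerreVanLib.CurveAmple
import Groth.Agent.AmpleLib.HProjBasic
import Groth.Agent.DimIneqLib.Dim
-- import your own Groth.Agent.* helpers here

set_option autoImplicit false
open CategoryTheory CategoryTheory.Limits AlgebraicGeometry
open ZCorr

namespace Groth.Agent.S18267

/-- Over the complex numbers, suppose C is a quasi-projective curve that is smooth and irreducible and X
is a projective variety that is smooth and irreducible; take Z to be an integral closed subscheme of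
C × X of dimension one whose projection to C is surjective (a non-vertical irreducible component of
a correspondence from C to X). Then the projection Z → C is finite and flat. -/
theorem result
    (C X : Scheme.{0}) [C.Over (Spec (CommRingCat.of ℂ))] [X.Over (Spec (CommRingCat.of ℂ))]
    [AlgebraicGeometry.IsIntegral C] [Smooth (C ↘ Spec (CommRingCat.of ℂ))] (hC : RelProj.IsHQuasiProjective (C ↘ Spec (CommRingCat.of ℂ)))
    (hdimC : topologicalKrullDim C = 1)
    [AlgebraicGeometry.IsIntegral X] [Smooth (X ↘ Spec (CommRingCat.of ℂ))] (hX : RelProj.IsHProjective (X ↘ Spec (CommRingCat.of ℂ)))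
    {Z : Scheme.{0}} (i : Z ⟶ pullback (C ↘ Spec (CommRingCat.of ℂ)) (X ↘ Spec (CommRingCat.of ℂ))) [IsClosedImmersion i]
    [AlgebraicGeometry.IsIntegral Z] (hdimZ : topologicalKrullDim Z = 1)
    (hsurj : Function.Surjective ⇑(i ≫ pullback.fst (C ↘ Spec (CommRingCat.of ℂ)) (X ↘ Spec (CommRingCat.of ℂ)))) :
    IsFinite (i ≫ pullback.fst (C ↘ Spec (CommRingCat.of ℂ)) (X ↘ Spec (CommRingCat.of ℂ))) ∧
      Flat (i ≫ pullback.fst (C ↘ Spec (CommRingCat.of ℂ)) (X ↘ Spec (CommRingCat.of ℂ))) := by
  obtain ⟨hp, -⟩ : IsProper (X ↘ Spec (CommRingCat.of ℂ)) ∧ True :=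
    ⟨(AmpleLib.isHProjective_iff.1 hX).2, trivial⟩
  haveI := hp
  obtain ⟨g, hg⟩ : ∃ g, g = i ≫ pullback.fst (C ↘ Spec (CommRingCat.of ℂ)) (X ↘ Spec (CommRingCat.of ℂ)) :=
    ⟨_, rfl⟩
  rw [← hg] at hsurj ⊢
  haveI : IsProper g := hg ▸ inferInstance
  haveI : LocallyOfFiniteType (C ↘ Spec (CommRingCat.of ℂ)) := inferInstance
  obtain ⟨n, ιC, hι, hqι, hιC⟩ := hC
  haveI := hι
  haveI := hqι
  haveI : QuasiCompact (C ↘ Spec (CommRingCat.of ℂ)) := hιC ▸ inferInstance
  haveI : IsLocallyNoetherian C := LocallyOfFiniteType.isLocallyNoetherian (C ↘ Spec (CommRingCat.of ℂ))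
  haveI : CompactSpace ↥C := QuasiCompact.compactSpace_of_compactSpace (C ↘ Spec (CommRingCat.of ℂ))
  haveI : IsLocallyNoetherian Z := LocallyOfFiniteType.isLocallyNoetherian g
  haveI : CompactSpace ↥Z := QuasiCompact.compactSpace_of_compactSpace g
  haveI : IsNoetherian Z := ⟨⟩
  have hsmall : ∀ T : Set Z, IsClosed T → T ≠ Set.univ → T.Finite ∧ ∀ x ∈ T, IsClosed ({x} : Set Z) :=
    fun T hT hne => CurvLib.finite_isClosed_of_dim_le_zero hT
      (CurvLib.topologicalKrullDim_le_zero_of_lt hdimZ hT hne)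
  have hnt : ¬ Subsingleton ↥C := by
    intro h
    haveI : Subsingleton (TopologicalSpace.IrreducibleCloseds ↥C) := ⟨fun a b => by
      ext x
      obtain ⟨y, hy⟩ := a.isIrreducible.nonempty
      obtain ⟨z, hz⟩ := b.isIrreducible.nonempty
      exact ⟨fun _ => Subsingleton.elim z x ▸ hz, fun _ => Subsingleton.elim y x ▸ hy⟩⟩
    have h1 : topologicalKrullDim C ≤ 0 := Order.krullDim_nonpos_of_subsingleton
    rw [hdimC] at h1
    exact absurd h1 (by simp)
  have hfin : ∀ y : C, (g ⁻¹' {y}).Finite := by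
    intro y
    by_cases hy : IsClosed ({y} : Set C)
    · refine (hsmall _ (hy.preimage g.continuous) fun h => hnt ⟨fun a b => ?_⟩).1
      obtain ⟨a', rfl⟩ := hsurj a
      obtain ⟨b', rfl⟩ := hsurj b
      exact (h ▸ Set.mem_univ a' : a' ∈ g ⁻¹' {y}).trans (h ▸ Set.mem_univ b' : b' ∈ g ⁻¹' {y}).symm
    · refine (Set.finite_singleton (genericPoint Z)).subset fun z hz => ?_
      by_contra hne
      have hcl : closure ({z} : Set Z) ≠ Set.univ := fun h =>
        hne ((genericPoint_spec Z).eq (h : IsGenericPoint z Set.univ)).symm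
      have hzc := (hsmall _ isClosed_closure hcl).2 z (subset_closure rfl)
      have := g.isClosedMap _ hzc
      rw [Set.image_singleton] at this
      exact hy ((show g z = y from hz) ▸ this)
  haveI : LocallyQuasiFinite g := .of_finite_preimage_singleton g hfin
  refine ⟨IsFinite.of_isProper_of_locallyQuasiFinite g, ?_⟩
  exact UOpenLib.flat_of_dominant_regular_dim_one g
    (fun y => ⟨Groth.Agent.S1535.result ℂ C y,
      (DimIneqLib.stalk_dim_le_dim y).trans hdimC.le⟩) hsurj.denseRange

end Groth.Agent.S18267
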