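import Groth.Statements.S18281
import Groth.Agent.FlatLib.SchemeFlat
import Groth.Agent.ProjBunLib.Props
import Groth.Agent.VarDimLib.Basic

set_option autoImplicit false
open CategoryTheory CategoryTheory.Limits AlgebraicGeometry
open ZCorr

namespace Groth.Agent.S18281

/-- Over the complex numbers let W be a smooth irreducible quasi-projective variety of dimension n, X a
smooth irreducible projective variety, and Z an integral closed subscheme of X × W of dimension n
(an irreducible component of a correspondence from W to X), with projection π : Z → W. (a) The set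
of points of W over which π is flat (flat at every point of the fibre) is open and nonempty. (b) The
set U of points of W with finite fibre is open and nonempty, and π restricted over U is finite. -/
theorem result
    (W X : Scheme.{0}) [W.Over (Spec (CommRingCat.of ℂ))] [X.Over (Spec (CommRingCat.of ℂ))]
    [AlgebraicGeometry.IsIntegral W] [Smooth (W ↘ Spec (CommRingCat.of ℂ))] (hW : RelProj.IsHQuasiProjective (W ↘ Spec (CommRingCat.of ℂ)))
    (n : ℕ) (hdimW : topologicalKrullDim W = n)
    [AlgebraicGeometry.IsIntegral X] [Smooth (X ↘ Spec (CommRingCat.of ℂ))] (hX : RelProj.IsHProjective (X ↘ Spec (CommRingCat.of ℂ)))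
    {Z : Scheme.{0}} (i : Z ⟶ pullback (X ↘ Spec (CommRingCat.of ℂ)) (W ↘ Spec (CommRingCat.of ℂ))) [IsClosedImmersion i]
    [AlgebraicGeometry.IsIntegral Z] (hdimZ : topologicalKrullDim Z = n) :
    (IsOpen {w : W | ∀ z : Z, (i ≫ pullback.snd (X ↘ Spec (CommRingCat.of ℂ)) (W ↘ Spec (CommRingCat.of ℂ))) z = w →
        ((i ≫ pullback.snd (X ↘ Spec (CommRingCat.of ℂ)) (W ↘ Spec (CommRingCat.of ℂ))).stalkMap z).hom.Flat} ∧
      {w : W | ∀ z : Z, (i ≫ pullback.snd (X ↘ Spec (CommRingCat.of ℂ)) (W ↘ Spec (CommRingCat.of ℂ))) z = w →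
        ((i ≫ pullback.snd (X ↘ Spec (CommRingCat.of ℂ)) (W ↘ Spec (CommRingCat.of ℂ))).stalkMap z).hom.Flat}.Nonempty) ∧
    ∃ U : W.Opens, (U : Set W) = {w : W | ((i ≫ pullback.snd (X ↘ Spec (CommRingCat.of ℂ)) (W ↘ Spec (CommRingCat.of ℂ))) ⁻¹' {w}).Finite} ∧
      (U : Set W).Nonempty ∧ IsFinite ((i ≫ pullback.snd (X ↘ Spec (CommRingCat.of ℂ)) (W ↘ Spec (CommRingCat.of ℂ))) ∣_ U) := by
  let pW := W ↘ Spec (CommRingCat.of ℂ)
  let pX := X ↘ Spec (CommRingCat.of ℂ)
  haveI : IsProper pX := ProjBunLib.isProper_of_isHProjective hX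
  haveI : IsProper (pullback.snd pX pW) :=
    MorphismProperty.of_isPullback (IsPullback.of_hasPullback pX pW) inferInstance
  let π := i ≫ pullback.snd pX pW
  haveI : IsLocallyNoetherian W := LocallyOfFiniteType.isLocallyNoetherian pW
  haveI : IsProper π := inferInstanceAs (IsProper (i ≫ pullback.snd pX pW))
  haveI : IsLocallyNoetherian Z := LocallyOfFiniteType.isLocallyNoetherian π
  haveI : LocallyOfFinitePresentation π := inferInstance
  have hgen : ∀ (w : W), w = genericPoint W → ∀ (z : Z), π z = w → (π.stalkMap z).hom.Flat := by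
    intro w hw z hz
    have hwg : π z = genericPoint W := hz.trans hw
    have hF : IsField (W.presheaf.stalk (π z)) := by
      rw [hwg]; exact Field.toIsField W.functionField
    letI := hF.toField
    letI := (π.stalkMap z).hom.toAlgebra
    exact RingHom.flat_algebraMap_iff.2 (inferInstance : Module.Flat (W.presheaf.stalk (π z)) (Z.presheaf.stalk z))
  refine ⟨⟨?_, ⟨genericPoint W, hgen _ rfl⟩⟩, ?_⟩
  · have h : {w : W | ∀ z : Z, π z = w → (π.stalkMap z).hom.Flat} =
        (π '' {z : Z | (π.stalkMap z).hom.Flat}ᶜ)ᶜ := by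
      ext w
      constructor
      · rintro h ⟨z, hz, hzw⟩
        exact hz (h z hzw)
      · intro h z hzw
        by_contra hz
        exact h ⟨z, hz, hzw⟩
    show IsOpen {w : W | ∀ z : Z, π z = w → (π.stalkMap z).hom.Flat}
    rw [h]
    exact (π.isClosedMap _ (FlatLib.isOpen_setOf_flat_stalkMap π).isClosed_compl).isOpen_compl
  let U : W.Opens := ⟨_, (π.isClosedMap _ π.quasiFiniteLocus.isOpen.isClosed_compl).isOpen_compl⟩
  have hfinU : IsFinite (π ∣_ U) := by
    suffices LocallyQuasiFinite (π ∣_ U) from .of_isProper_of_locallyQuasiFinite _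
    rw [← Scheme.Hom.quasiFiniteLocus_eq_top_iff]
    ext x
    have : π.QuasiFiniteAt ((π ⁻¹ᵁ U).ι x) := by by_contra H; exact x.2 ⟨_, H, rfl⟩
    rw [← Scheme.Hom.quasiFiniteAt_comp_iff_of_isOpenImmersion, ← morphismRestrict_ι,
      Scheme.Hom.quasiFiniteAt_comp_iff] at this
    simpa
  have hmem : ∀ w : W, w ∈ U ↔ (π ⁻¹' {w}).Finite := by
    intro w
    constructor
    · intro hw
      have h1 := (π ∣_ U).finite_preimage_singleton (⟨w, hw⟩ : U)
      refine (h1.image (π ⁻¹ᵁ U).ι).subset ?_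
      intro z hz
      have hzU : z ∈ π ⁻¹ᵁ U := show π z ∈ U from (show π z = w from hz) ▸ hw
      exact ⟨⟨z, hzU⟩, Subtype.ext ((morphismRestrict_base_coe π U ⟨z, hzU⟩).trans hz), rfl⟩
    · rintro hw ⟨z, hz, hzw⟩
      haveI : Finite (π.fiber (π z)) := (π.fiberHomeo (π z)).finite_iff.mpr (hzw ▸ hw).to_subtype
      exact hz (Scheme.Hom.quasiFiniteAt_iff_isOpen_singleton_asFiber.mpr (isOpen_discrete _))
  refine ⟨U, Set.ext hmem, ⟨genericPoint W, (hmem _).2 ((Set.finite_singleton (genericPoint Z)).subset ?_)⟩, hfinU⟩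
  intro z hz
  by_contra hne
  have h1 := FibDimLib.localDim_eq_closure_add_stalk (π ≫ pW) z
  have h2 := FibDimLib.topologicalKrullDim_closure_eq_add pW π z
  rw [show π.base z = genericPoint W from hz, ← VarDimLib.dim_eq_closure_generic W, hdimW] at h2
  obtain ⟨e, he⟩ := UOpenLib.exists_fibreClosureDim_eq_nat π z
  have h3 := FibDimLib.ringKrullDim_stalk_lt (genericPoint_specializes z) (Ne.symm hne)
  have h4 : FlatMor.localDim Z z ≤ (n : WithBot ℕ∞) := hdimZ ▸ FibDimLib.localDim_le _
  rw [h1, h2, he] at h4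
  have h5 : ringKrullDim (Z.presheaf.stalk (genericPoint Z)) = 0 :=
    ringKrullDim_eq_zero_of_isField (Field.toIsField Z.functionField)
  rw [h5] at h3
  obtain ⟨s, hs⟩ := WithBot.ne_bot_iff_exists.1 (ringKrullDim_ne_bot (R := Z.presheaf.stalk z))
  rw [← hs] at h3 h4
  induction s using ENat.recTopCoe with
  | top =>
    have h6 : (((n + e : ℕ) : ℕ∞) : WithBot ℕ∞) + ((⊤ : ℕ∞) : WithBot ℕ∞) ≤ ((n : ℕ∞) : WithBot ℕ∞) := by exact_mod_cast h4
    rw [← WithBot.coe_add, add_top, WithBot.coe_le_coe, top_le_iff] at h6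
    exact ENat.natCast_ne_top n h6
  | coe s =>
    have h4' : n + e + s ≤ n := by exact_mod_cast h4
    have h3' : 0 < s := by exact_mod_cast h3
    omega

end Groth.Agent.S18281
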