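import Groth.Statements.S18283
import Mathlib
import Mathlib
-- import your own Groth.Agent.* helpers here

set_option autoImplicit false
universe u v
open CAlgX

namespace Groth.Agent.S18283

/-- Let A be a commutative ring, ι a finite index type, H a finite set of indices (the head indices) and
c : ι → ι → A a table of coefficients; for j ∈ H put f_j = e_j − Σ_{i ∉ H} c_{ji} e_i in the free
module A^ι, so that each f_j has head e_j with coefficient 1 and tail supported outside H. If a
submodule M of A^ι contains every f_j with j ∈ H, then M is the A-span of these f_j if and only if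
every wedge product of |H|+1 elements of M vanishes in the (|H|+1)-st exterior power of A^ι
(equivalently, every (|H|+1)-minor of every matrix whose rows lie in M vanishes). The published
statement is the case where A is a Noetherian algebra over a field of characteristic zero, A^ι is
the degree-(m+1) part of the polynomial ring over A with its basis of terms, H is the set of
degree-(m+1) terms of a strongly stable monomial ideal generated in degree m, and M is the
degree-(m+1) part of an ideal generated by a marked set on that monomial ideal; this row allows any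
commutative ring and any submodule containing the marked polynomials. -/
theorem result
    {A : Type u} [CommRing A] {ι : Type v} [Fintype ι] [DecidableEq ι]
    (H : Finset ι) (c : ι → ι → A) (M : Submodule A (ι → A))
    (hf : ∀ j ∈ H, (Pi.single j (1 : A) - ∑ i ∈ Hᶜ, c j i • Pi.single i (1 : A)) ∈ M) :
    M = Submodule.span A ((fun j => Pi.single j (1 : A) - ∑ i ∈ Hᶜ, c j i • Pi.single i (1 : A)) '' ↑H)
      ↔ ∀ v : Fin (H.card + 1) → ι → A, (∀ k, v k ∈ M) →
          exteriorPower.ιMulti A (H.card + 1) v = 0 := by
  classical
  set r := H.card with hr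
  let f : ι → ι → A := fun j => Pi.single j (1 : A) - ∑ i ∈ Hᶜ, c j i • Pi.single i (1 : A)
  constructor
  · intro hM v hv
    have hv' : ∀ k, ∃ a : H → A, v k = ∑ j, a j • f j := fun k => by
      have h := hv k
      rw [hM, Set.image_eq_range, Submodule.mem_span_range_iff_exists_fun] at h
      obtain ⟨a, ha⟩ := h
      exact ⟨a, ha.symm⟩
    choose a ha using hv'
    rw [show v = fun k => ∑ j, a k j • f j from funext ha, ← AlternatingMap.coe_multilinearMap, MultilinearMap.map_sum]
    refine Finset.sum_eq_zero fun σ _ => ?_
    rw [MultilinearMap.map_smul_univ, AlternatingMap.coe_multilinearMap]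
    obtain ⟨k, l, hkl, he⟩ := Fintype.exists_ne_map_eq_of_card_lt σ (by simp [hr])
    rw [AlternatingMap.map_eq_zero_of_eq _ (fun i => f (σ i : ι)) (congrArg (fun j : H => f j) he) hkl, smul_zero]
  · intro h
    refine le_antisymm (fun v hv => ?_) (Submodule.span_le.2 (by rintro _ ⟨j, hj, rfl⟩; exact hf j hj))
    set N := Submodule.span A ((fun j => Pi.single j (1 : A) - ∑ i ∈ Hᶜ, c j i • Pi.single i (1 : A)) '' ↑H)
    set w := v - ∑ j ∈ H, v j • f j with hw
    have hwM : w ∈ M := M.sub_mem hv (M.sum_mem fun j hj => M.smul_mem _ (hf j hj))
    have hfH : ∀ j ∈ H, ∀ l ∈ H, f j l = if j = l then 1 else 0 := fun j _ l hl => by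
      show (Pi.single j (1 : A) - ∑ i ∈ Hᶜ, c j i • Pi.single i (1 : A) : ι → A) l = _
      rw [Pi.sub_apply, Finset.sum_apply, Finset.sum_eq_zero fun i hi => ?_, sub_zero, Pi.single_apply]
      · exact if_congr eq_comm rfl rfl
      · rw [Pi.smul_apply, Pi.single_eq_of_ne (by rintro rfl; exact Finset.mem_compl.1 hi hl), smul_zero]
    have hwH : ∀ l ∈ H, w l = 0 := fun l hl => by
      rw [hw, Pi.sub_apply, Finset.sum_apply, Finset.sum_congr rfl fun j hj => by rw [Pi.smul_apply, hfH j hj l hl],
        Finset.sum_eq_single l (fun j _ hj => by simp [hj]) (fun h => absurd hl h)]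
      simp
    have hw0 : w = 0 := by
      funext l
      by_cases hl : l ∈ H
      · exact hwH l hl
      let e := H.equivFin
      let idx : Fin (r + 1) → ι := Fin.cons l fun k => (e.symm k : ι)
      let vv : Fin (r + 1) → ι → A := Fin.cons w fun k => f (e.symm k : ι)
      have hvv : ∀ k, vv k ∈ M := fun k => by
        refine Fin.cases ?_ (fun k => ?_) k
        · exact hwM
        · exact hf _ (e.symm k).2
      let P : (ι → A) →ₗ[A] (Fin (r + 1) → A) := LinearMap.pi fun k => LinearMap.proj (idx k)
      let D : (ι → A) [⋀^Fin (r + 1)]→ₗ[A] A :=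
        ((Matrix.detRowAlternating : (Fin (r + 1) → A) [⋀^Fin (r + 1)]→ₗ[A] A)).compLinearMap P
      have h1 : D vv = 0 := by
        rw [← exteriorPower.alternatingMapLinearEquiv_apply_ιMulti D vv, h vv hvv, map_zero]
      have hD : D vv = Matrix.det (Matrix.of fun k k' => vv k (idx k')) := rfl
      rw [hD, Matrix.det_succ_row_zero, Fin.sum_univ_succ] at h1
      rw [Finset.sum_eq_zero fun k _ => ?_, add_zero] at h1
      · have hsub : (Matrix.of fun k k' => vv k (idx k')).submatrix Fin.succ (Fin.succAbove 0) = 1 := by
          ext k k'
          rw [Matrix.submatrix_apply, Fin.succAbove_zero, Matrix.one_apply]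
          show vv k.succ (idx k'.succ) = _
          simp only [vv, idx, Fin.cons_succ]
          rw [hfH _ (e.symm k).2 _ (e.symm k').2]
          exact if_congr (by rw [← Subtype.ext_iff, e.symm.injective.eq_iff]) rfl rfl
        rw [hsub, Matrix.det_one, mul_one] at h1
        simpa [vv, idx] using h1
      · have : vv 0 (idx k.succ) = 0 := by simpa [vv, idx] using hwH _ (e.symm k).2
        simp [this]
    rw [hw, sub_eq_zero] at hw0
    rw [hw0]
    exact Submodule.sum_mem _ fun j hj => Submodule.smul_mem _ _ (Submodule.subset_span ⟨j, hj, rfl⟩)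

end Groth.Agent.S18283
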