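import Groth.Statements.S18286
import Groth.Agent.MagnetLib.Coef

set_option autoImplicit false
universe u
open CategoryTheory MonoidalCategory CartesianMonoidalCategory MonObj AlgebraicGeometry Opposite
open Magnet

namespace Groth.Agent.S18286

/-- Let Y be an S-scheme affine over S with an action of the diagonalizable monoid scheme A(M)_S of a
commutative monoid M, let f : Z → Y be an equivariant closed immersion (for an action of A(M)_S on
Z), and let N ⊆ M be a submonoid (magnet). Then Z^N = Z ×_Y Y^N: the square of functors on S-schemes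
formed by f^N : Z^N → Y^N, the canonical maps Z^N → Z and Y^N → Y (evaluation at the unit section)
and f is cartesian. -/
theorem result (S : Scheme.{u}) (M : Type) [AddCommMonoid M]
    (N : AddSubmonoid M) (Y Z : Over S) [IsAffineHom Y.hom] (aY : Magnet.MonAct (Magnet.AMonS S M) Y)
    (aZ : Magnet.MonAct (Magnet.AMonS S M) Z) (f : Z ⟶ Y) [IsClosedImmersion f.left]
    (hf : Magnet.MonAct.IsEquivariant aZ aY f) :
    IsPullback (Magnet.MonAct.eqvHom.postcomp (Magnet.subAct S M N) f hf) (Magnet.attrToX aZ N)
      (Magnet.attrToX aY N) (yoneda.map f) := by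
  haveI : Mono f := (Over.forget S).mono_of_mono_map (show Mono f.left from inferInstance)
  haveI : IsAffineHom Z.hom := Over.w f ▸ inferInstance
  haveI : IsSeparated Z.hom := inferInstance
  haveI : IsSeparated Y.hom := inferInstance
  have horb : ∀ {T : Over S} (z : T ⟶ Z), MagnetLib.orbit aY (z ≫ f) = MagnetLib.orbit aZ z ≫ f := by
    intro T z
    rw [MagnetLib.orbit, MagnetLib.orbit, MonoidalCategory.whiskerLeft_comp, Category.assoc, Category.assoc]
    exact congrArg ((Magnet.AMonS S M ◁ z) ≫ ·) (show _ = _ from hf).symm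
  have hext : ∀ {T : Over S} [IsAffine T.left] (z : T ⟶ Z), MagnetLib.Ext aY N (z ≫ f) →
      MagnetLib.Ext aZ N z := by
    intro T _ z hψ
    obtain ⟨ψ, hψ⟩ := hψ
    haveI := MagnetLib.isAffine_amonS_tensor (S := S) ↥N T
    let π := Magnet.AMonS.map S N.subtype ▷ T
    let i := Limits.pullback.fst ψ.left f.left
    haveI : IsClosedImmersion i := MorphismProperty.pullback_fst _ _ inferInstance
    have hc : π.left ≫ ψ.left = (MagnetLib.orbit aZ z).left ≫ f.left :=
      congrArg CommaMorphism.left (hψ.trans (horb z))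
    have hfac : Limits.pullback.lift π.left (MagnetLib.orbit aZ z).left hc ≫ i = π.left :=
      Limits.pullback.lift_fst _ _ _
    have hker : i.ker = ⊥ := by
      refine le_bot_iff.mp ?_
      haveI := MagnetLib.isAffine_amonS_tensor (S := S) M T
      haveI : QuasiCompact π.left := inferInstance
      have h0 : π.left.ker = ⊥ := by
        refine Scheme.IdealSheafData.ext_of_isAffine ?_
        rw [Scheme.Hom.ker_apply]
        exact (RingHom.injective_iff_ker_eq_bot _).mp
          (MagnetLib.injective_appTop_map N.subtype Subtype.val_injective T)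
      rw [← h0, ← hfac]
      exact Scheme.Hom.le_ker_comp _ _
    haveI : IsIso i := IsClosedImmersion.isIso_of_ker_eq i (𝟙 _) i (Category.comp_id _)
      (by rw [hker]; exact (Scheme.Hom.ker_eq_bot_of_isIso (𝟙 _)).symm)
    have hw : (inv i ≫ Limits.pullback.snd ψ.left f.left) ≫ f.left = ψ.left := by
      rw [Category.assoc, ← Limits.pullback.condition, IsIso.inv_hom_id_assoc]
    refine ⟨Over.homMk (inv i ≫ Limits.pullback.snd ψ.left f.left) ?_, (cancel_mono f).mp ?_⟩
    · rw [← Over.w f, ← Category.assoc, hw, Over.w ψ]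
    · rw [Category.assoc, ← horb, ← hψ]
      exact congrArg (π ≫ ·) (Over.OverMorphism.ext hw)
  refine IsPullback.of_forall_isPullback_app fun T => ?_
  rw [CategoryTheory.Limits.Types.isPullback_iff]
  refine ⟨?_, ?_, ?_⟩
  · ext φ
    exact (Category.assoc _ _ _).symm
  · rintro x y ⟨h1, h2⟩
    exact Subtype.ext ((cancel_mono f).mp (congrArg Subtype.val h1))
  · intro φ z hc
    have hφ := MagnetLib.ext_of_isEqvFam φ.2
    have hc' : lift (toUnit (unop T) ≫ η[Magnet.AMonS S ↥N]) (𝟙 (unop T)) ≫ φ.1 = z ≫ f := hc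
    rw [hc'] at hφ
    obtain ⟨ψ, hψ⟩ : MagnetLib.Ext aZ N z := by
      let K := (unop T).left
      refine MagnetLib.ext_of_local z (fun V : K.affineOpens => (V : K.Opens))
        (iSup_affineOpens_eq_top K) fun V => ?_
      haveI : IsAffine (Over.mk ((V : K.Opens).ι ≫ (unop T).hom)).left := V.2
      refine hext _ ?_
      rw [Category.assoc]
      exact MagnetLib.Ext.precomp (a := aY) (N := N) ⟨φ.1, hφ⟩ _
    refine ⟨⟨ψ, MagnetLib.isEqvFam_of_ext hψ⟩, Subtype.ext ?_, MagnetLib.eval_of_ext hψ⟩
    refine MagnetLib.ext_unique (a := aY) (x := z ≫ f) ?_ hφ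
    rw [horb, ← hψ, Category.assoc]
    rfl

end Groth.Agent.S18286
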