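import Groth.Statements.S18288
import Groth.Agent.MagnetLib.Coef

set_option autoImplicit false
universe u
open CategoryTheory MonoidalCategory CartesianMonoidalCategory MonObj AlgebraicGeometry Opposite
open Magnet

namespace Groth.Agent.S18288

set_option backward.isDefEq.respectTransparency.types true in
/-- Let M be a commutative monoid with an injective homomorphism f : M → Z into a commutative group Z
(so M is cancellative; the published statement takes Z to be the group completion of M, and the same
argument applies to any such Z), let Y be a submonoid of Z contained in the image of M, and let X be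
an S-scheme separated over S with an action of the diagonalizable monoid scheme A(M)_S. Regard X as
a D(Z)_S-scheme through D(Z)_S → A(M)_S. Then the canonical map of attractors X^{f⁻¹Y ⊂ M} → X^{Y ⊂
Z} is an isomorphism: a D(Z)_S-equivariant family out of A(Y)_S is automatically A(M)_S-equivariant.
(The published statement allows X to be an algebraic space; here X is a scheme.) -/
theorem result (S : Scheme.{u}) (M Z : Type) [AddCommMonoid M]
    [AddCommGroup Z] (f : M →+ Z) (hf : Function.Injective f) (Y : AddSubmonoid Z)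
    (hY : Y ≤ AddMonoidHom.mrange f) (X : Over S) [IsSeparated X.hom]
    (a : Magnet.MonAct (Magnet.AMonS S M) X) :
    IsIso (Magnet.attrComap a f Y) := by
  let N := Y.comap f
  let g : ↥N →+ ↥Y := (f.comp N.subtype).codRestrict Y (fun x => x.2)
  have hg : Function.Bijective g := ⟨fun p q h => Subtype.ext (hf (congrArg Subtype.val h :)), fun y => by
    obtain ⟨m, hm⟩ := AddMonoidHom.mem_mrange.mp (hY y.2)
    exact ⟨⟨m, show f m ∈ Y from hm ▸ y.2⟩, Subtype.ext hm⟩⟩
  let e := AddEquiv.ofBijective g hg
  have map_eq : ∀ {P Q : Type} [AddCommMonoid P] [AddCommMonoid Q] (φ : P →+ Q) (ψ : Q →+ P),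
      φ.comp ψ = AddMonoidHom.id Q → AMonS.map S φ ≫ AMonS.map S ψ = 𝟙 _ := by
    intro P Q _ _ φ ψ h
    rw [← AMonS.map_comp, h]
    exact AttrPtLib.chi_ext fun m => by rw [← Category.id_comp (AMonS.map S (AddMonoidHom.id Q)), AttrPtLib.chi_map]; rfl
  have h1 : AMonS.map S g ≫ AMonS.map S e.symm.toAddMonoidHom = 𝟙 _ :=
    map_eq _ _ (AddMonoidHom.ext fun y => e.apply_symm_apply y)
  have h2 : AMonS.map S e.symm.toAddMonoidHom ≫ AMonS.map S g = 𝟙 _ :=
    map_eq _ _ (AddMonoidHom.ext fun y => e.symm_apply_apply y)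
  haveI : ∀ T, IsIso ((Magnet.attrComap a f Y).app T) := fun T => (isIso_iff_bijective _).mpr <| by
    constructor
    · intro φ φ' h
      have h' : (AMonS.map S g ▷ unop T) ≫ φ.1 = (AMonS.map S g ▷ unop T) ≫ φ'.1 := congrArg Subtype.val h
      refine Subtype.ext ?_
      have h3 := congrArg ((AMonS.map S e.symm.toAddMonoidHom ▷ unop T) ≫ ·) h'
      rwa [← comp_whiskerRight_assoc, ← comp_whiskerRight_assoc, h2, id_whiskerRight, Category.id_comp,
        Category.id_comp] at h3
    · intro ψ
      let φ : AMonS S ↥N ⊗ unop T ⟶ X := (AMonS.map S e.symm.toAddMonoidHom ▷ unop T) ≫ ψ.1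
      have hφψ : (AMonS.map S g ▷ unop T) ≫ φ = ψ.1 := by
        simp only [φ]
        rw [← comp_whiskerRight_assoc, h1, id_whiskerRight, Category.id_comp]
      refine ⟨⟨φ, ?_⟩, Subtype.ext hφψ⟩
      change EqLiftLib.IsEqvFam a φ
      rw [EqLiftLib.isEqvFam_iff]
      let B := AMonS S ↥N
      let sw : AMonS S M ⊗ (B ⊗ unop T) ⟶ B ⊗ (AMonS S M ⊗ unop T) :=
        lift (snd _ _ ≫ fst _ _) (lift (fst _ _) (snd _ _ ≫ snd _ _))
      let sw' : B ⊗ (AMonS S M ⊗ unop T) ⟶ AMonS S M ⊗ (B ⊗ unop T) :=
        lift (snd _ _ ≫ fst _ _) (lift (fst _ _) (snd _ _ ≫ snd _ _))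
      have hsw : sw' ≫ sw = 𝟙 _ := by
        simp [sw, sw']
      suffices h : sw ≫ EqLiftLib.actFst φ = sw ≫ EqLiftLib.actSnd a φ by
        have h3 := congrArg (sw' ≫ ·) h
        rwa [← Category.assoc, ← Category.assoc, hsw, Category.id_comp, Category.id_comp] at h3
      refine MagnetLib.eq_of_map_eq f hf ?_
      apply hom_ext_lift₂
      intro R z p
      rw [← lift_comp_fst_snd p, lift_whiskerRight_assoc, lift_whiskerRight_assoc]
      simp only [sw, ← Category.assoc, comp_lift, lift_fst, lift_snd]
      rw [EqLiftLib.lift_actFst, EqLiftLib.lift_actSnd]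
      have hb : ∀ b : R ⟶ B, ∀ t : R ⟶ unop T,
          lift b t ≫ φ = lift (b ≫ AMonS.map S e.symm.toAddMonoidHom) t ≫ ψ.1 := fun b t => by
        simp only [φ, lift_whiskerRight_assoc]
      have hz := (MonAct.mem_eqvHom_iff ψ.1).mp ψ.2 R z ((p ≫ fst _ _) ≫ AMonS.map S e.symm.toAddMonoidHom)
        (p ≫ snd _ _)
      rw [MonAct.lift_restrict_act, EqLiftLib.lift_subAct, ← hb] at hz
      rw [← hz, hb, EqLiftLib.lift_subAct, MonObj.mul_comp]
      congr 3
      refine AttrPtLib.chi_ext fun y => ?_
      simp only [AttrPtLib.chi_map]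
      exact congrArg (AttrPtLib.chi z) (congrArg Subtype.val (e.apply_symm_apply y) :)
  exact NatIso.isIso_of_isIso_app _

end Groth.Agent.S18288
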