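import Groth.Statements.S18294
import Mathlib.AlgebraicGeometry.Sites.Fpqc
import Mathlib.CategoryTheory.Sites.SubcanonicalOver

set_option autoImplicit false
universe u
open CategoryTheory MonoidalCategory CartesianMonoidalCategory MonObj AlgebraicGeometry Opposite
open Magnet

namespace Groth.Agent.S18294

/-- Let A be a monoid object in schemes over S acting on S-schemes B and X (in the source A is the
diagonalizable monoid scheme A(M)_S and B = A(N)_S for a magnet N, so that the functor below is the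
attractor X^N). Then the functor on S-schemes T ↦ (morphisms B ×_S T → X over S equivariant for A
acting on the first factor) is a sheaf for the fppf topology. -/
theorem result (S : Scheme.{u}) (A B X : Over S) [MonObj A] (ρ : Magnet.MonAct A B)
    (a : Magnet.MonAct A X) :
    Presheaf.IsSheaf (QuotSh.J Scheme.fppfPrecoverage S) (Magnet.MonAct.eqvHom ρ a) := by
  haveI hsub : (Scheme.fppfPrecoverage.{u}.toGrothendieck).Subcanonical :=
    inferInstanceAs Scheme.fppfTopology.{u}.Subcanonical
  let J := QuotSh.J Scheme.fppfPrecoverage S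
  haveI : J.Subcanonical := GrothendieckTopology.subcanonical_over _ S
  have hX : Presieve.IsSheaf J (yoneda.obj X) := GrothendieckTopology.Subcanonical.isSheaf_of_isRepresentable _
  rw [isSheaf_iff_isSheaf_of_type]
  intro T R hR x hx
  -- a point `(b, t)` with `t` in the sieve
  let val : ∀ {R' : Over S} (b : R' ⟶ B) (t : R' ⟶ T), R t → (R' ⟶ X) := fun {R'} b t ht =>
    lift b (𝟙 R') ≫ (x t ht).1
  have hval : ∀ {R' R'' : Over S} (k : R'' ⟶ R') (b : R' ⟶ B) (t : R' ⟶ T) (ht : R t) (ht' : R (k ≫ t)),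
      k ≫ val b t ht = val (k ≫ b) (k ≫ t) ht' := by
    intro R' R'' k b t ht ht'
    have h := congrArg Subtype.val (hx k (𝟙 R'') ht ht' (Category.id_comp _).symm)
    have h' : (B ◁ k) ≫ (x t ht).1 = (B ◁ 𝟙 R'') ≫ (x (k ≫ t) ht').1 := h
    rw [MonoidalCategory.whiskerLeft_id, Category.id_comp] at h'
    simp only [val]
    rw [← h', lift_whiskerLeft_assoc, comp_lift_assoc, Category.comp_id, Category.id_comp]
  have hR' : R.pullback (snd B T) ∈ J (B ⊗ T) := J.pullback_stable _ hR
  let fam : Presieve.FamilyOfElements (yoneda.obj X) (R.pullback (snd B T)).arrows :=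
    fun R' y hy => val (y ≫ fst B T) (y ≫ snd B T) hy
  have hfam : fam.Compatible := by
    intro Y₁ Y₂ Z g₁ g₂ y₁ y₂ h₁ h₂ e
    change g₁ ≫ val (y₁ ≫ fst B T) (y₁ ≫ snd B T) h₁ = g₂ ≫ val (y₂ ≫ fst B T) (y₂ ≫ snd B T) h₂
    rw [hval _ _ _ _ (R.downward_closed h₁ g₁), hval _ _ _ _ (R.downward_closed h₂ g₂)]
    simp only [← Category.assoc, e]
  obtain ⟨φ, hφ, -⟩ := hX _ hR' fam hfam
  have key : ∀ {R' : Over S} (b : R' ⟶ B) (t : R' ⟶ T) (ht : R t), lift b t ≫ φ = val b t ht := by
    intro R' b t ht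
    have hy : R.pullback (snd B T) (lift b t) := by
      change R (lift b t ≫ snd B T)
      rwa [lift_snd]
    have h := hφ (lift b t) hy
    change lift b t ≫ φ = val (lift b t ≫ fst B T) (lift b t ≫ snd B T) hy at h
    rw [h]
    simp only [lift_fst, lift_snd]
  have hmem : Magnet.MonAct.IsEquivariant (ρ.prod (Magnet.MonAct.trivial A T)) a φ := by
    rw [Magnet.MonAct.mem_eqvHom_iff]
    intro R' g b t
    refine ((hX _ (J.pullback_stable t hR)).isSeparatedFor).ext fun R'' k hk => ?_
    change k ≫ lift (lift g b ≫ ρ.act) t ≫ φ = k ≫ lift g (lift b t ≫ φ) ≫ a.act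
    simp only [← Category.assoc, comp_lift]
    rw [key _ _ hk, key _ _ hk]
    simp only [val]
    exact (Magnet.MonAct.mem_eqvHom_iff _).mp (x (k ≫ t) hk).2 R'' _ _ _
  refine ⟨⟨φ, hmem⟩, fun R' t ht => Subtype.ext ?_, fun ψ hψ => Subtype.ext ?_⟩
  · apply Magnet.hom_ext_lift₂
    intro R'' b s
    change lift b s ≫ (B ◁ t) ≫ φ = lift b s ≫ (x t ht).1
    rw [lift_whiskerLeft_assoc, key b (s ≫ t) (R.downward_closed ht s)]
    simp only [val]
    have h := congrArg Subtype.val (hx s (𝟙 R'') ht (R.downward_closed ht s) (Category.id_comp _).symm)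
    have h' : (B ◁ s) ≫ (x t ht).1 = (B ◁ 𝟙 R'') ≫ (x (s ≫ t) (R.downward_closed ht s)).1 := h
    rw [MonoidalCategory.whiskerLeft_id, Category.id_comp] at h'
    rw [← h', lift_whiskerLeft_assoc, Category.id_comp]
  · refine ((hX _ hR').isSeparatedFor).ext fun R' y hy => ?_
    change y ≫ ψ.1 = y ≫ φ
    rw [← lift_comp_fst_snd y, key _ _ hy]
    simp only [val]
    have h := congrArg Subtype.val (hψ (y ≫ snd B T) hy)
    change (B ◁ (y ≫ snd B T)) ≫ ψ.1 = (x (y ≫ snd B T) hy).1 at h
    rw [← h, lift_whiskerLeft_assoc, Category.id_comp]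

end Groth.Agent.S18294
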