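import Groth.Statements.S18299
import Groth.Agent.S6044
import Groth.Agent.S0083
import Mathlib.AlgebraicGeometry.Morphisms.Etale

set_option autoImplicit false
universe u
open CategoryTheory.Limits
open CategoryTheory MonoidalCategory CartesianMonoidalCategory MonObj AlgebraicGeometry Opposite
open Magnet

namespace Groth.Agent.S18299

/-- Let Q be a commutative group, X and U S-schemes with actions of the diagonalizable group scheme
D(Q)_S, and f : U → X an equivariant morphism over S which is étale and surjective and fixed-point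
reflecting: the square formed by the fixed-point functors U^{D(Q)} → X^{D(Q)} over U → X is
cartesian (an FPR atlas). If the fixed-point functor of U is represented by a closed subscheme of U
— which holds when U is a disjoint union of D(Q)_S-stable S-affine schemes, by the affine
representability of attractors — then the fixed-point functor of X is represented by a closed
subscheme of X, compatibly with its inclusion into X. (In the source Q = M/Z for a subgroup Z of a
commutative group M acting through D(M)_S, the fixed points of D(M/Z)_S being the attractor X^Z, and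
X may be an algebraic space; here X is a scheme.) -/
theorem result (S : Scheme.{u}) (Q : Type)
    [AddCommGroup Q] (X U : Over S) (aX : AlgGrp.Action (Red.DS S Q) X) (aU : AlgGrp.Action (Red.DS S Q) U)
    (f : U ⟶ X) [Etale f.left] [Surjective f.left]
    (hf : Magnet.MonAct.IsEquivariant (Magnet.MonAct.ofAction aU) (Magnet.MonAct.ofAction aX) f)
    (hfpr : IsPullback (Magnet.MonAct.fixedPsh.map f hf) (Magnet.MonAct.fixedPshι (Magnet.MonAct.ofAction aU))
      (Magnet.MonAct.fixedPshι (Magnet.MonAct.ofAction aX)) (yoneda.map f))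
    (hU : ∃ (W' : Over S) (i' : W' ⟶ U) (e' : (Magnet.MonAct.fixedPsh (Magnet.MonAct.ofAction aU)).RepresentableBy W'),
      IsClosedImmersion i'.left ∧ ∀ (T : Over S) (w : T ⟶ W'),
        (Magnet.MonAct.fixedPshι (Magnet.MonAct.ofAction aU)).app (op T) (e'.homEquiv w) = w ≫ i') :
    ∃ (W : Over S) (i : W ⟶ X) (e : (Magnet.MonAct.fixedPsh (Magnet.MonAct.ofAction aX)).RepresentableBy W),
      IsClosedImmersion i.left ∧ ∀ (T : Over S) (w : T ⟶ W),
        (Magnet.MonAct.fixedPshι (Magnet.MonAct.ofAction aX)).app (op T) (e.homEquiv w) = w ≫ i := by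
  obtain ⟨W', i', e', hi', he'⟩ := hU
  haveI := hi'
  haveI : Mono i'.left := inferInstance
  let bU := Magnet.MonAct.ofAction aU
  let bX := Magnet.MonAct.ofAction aX
  -- fixed points of `U`
  have fixU : ∀ {T : Over S} (u : T ⟶ U), (∀ (T' : Over S) (t : T' ⟶ T) (g : T' ⟶ Red.DS S Q),
      lift g (t ≫ u) ≫ bU.act = t ≫ u) ↔ ∃ w : T ⟶ W', w ≫ i' = u := by
    intro T u
    constructor
    · intro h
      refine ⟨e'.homEquiv.symm ⟨u, h⟩, ?_⟩
      rw [← he', Equiv.apply_symm_apply]
      rfl
    · rintro ⟨w, rfl⟩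
      have h := (e'.homEquiv w).2
      rw [show (e'.homEquiv w).1 = w ≫ i' from he' T w] at h
      exact h
  have reflect : ∀ {T : Over S} (u : T ⟶ U), (∀ (T' : Over S) (t : T' ⟶ T) (g : T' ⟶ Red.DS S Q),
      lift g (t ≫ (u ≫ f)) ≫ bX.act = t ≫ (u ≫ f)) → ∃ w : T ⟶ W', w ≫ i' = u := by
    intro T u h
    have hp := hfpr.map ((evaluation _ (Type u)).obj (op T))
    obtain ⟨x, -, hx⟩ := Limits.Types.exists_of_isPullback hp ⟨u ≫ f, h⟩ u rfl
    refine (fixU u).mp ?_
    intro T' t g
    have hx' : x.1 = u := hx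
    rw [← hx']
    exact x.2 T' t g
  -- the descent datum
  let F : PUnit.{u + 1} → Scheme.{u} := fun _ => U.left
  let ff : ∀ i, F i ⟶ X.left := fun _ => f.left
  have hmem : ∀ {T : Scheme.{u}} (x₀ x₁ : T ⟶ U.left), x₀ ≫ f.left = x₁ ≫ f.left →
      (∃ v : T ⟶ W'.left, v ≫ i'.left = x₀) → ∃ v : T ⟶ W'.left, v ≫ i'.left = x₁ := by
    rintro T x₀ x₁ h ⟨v, hv⟩
    let T' : Over S := Over.mk (x₀ ≫ U.hom)
    let u₀ : T' ⟶ U := Over.homMk x₀ rfl
    let u₁ : T' ⟶ U := Over.homMk x₁ (by
      change x₁ ≫ U.hom = x₀ ≫ U.hom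
      rw [← Over.w f, ← Category.assoc, ← h, Category.assoc])
    let v' : T' ⟶ W' := Over.homMk v (by
      change v ≫ W'.hom = x₀ ≫ U.hom
      rw [← Over.w i', ← Category.assoc, hv])
    have h0 : v' ≫ i' = u₀ := Over.OverMorphism.ext hv
    have h1 : u₀ ≫ f = u₁ ≫ f := Over.OverMorphism.ext h
    obtain ⟨w, hw⟩ := reflect u₁ (fun T'' t g => by
      have h2 := ((Magnet.MonAct.fixedPsh.map f hf).app (op T') ⟨u₀, (fixU u₀).mpr ⟨v', h0⟩⟩).2 T'' t g
      rw [← h1]
      exact h2)
    exact ⟨w.left, congrArg CommaMorphism.left hw⟩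
  have hsub : ∀ {T : Scheme.{u}} (x : T ⟶ U.left), Subsingleton (Desc.Lifts (Over.mk i'.left) x) := fun x =>
    ⟨fun a b => Subtype.ext ((cancel_mono i'.left).mp (a.2.trans b.2.symm))⟩
  let D : Desc.SchDDFam ff :=
    { obj := fun _ => Over.mk i'.left
      φ := fun T i j x₀ x₁ h =>
        haveI := hsub x₀
        haveI := hsub x₁
        equivOfSubsingletonOfSubsingleton
          (fun v => ⟨(hmem x₀ x₁ h ⟨v.1, v.2⟩).choose, (hmem x₀ x₁ h ⟨v.1, v.2⟩).choose_spec⟩)
          (fun v => ⟨(hmem x₁ x₀ h.symm ⟨v.1, v.2⟩).choose, (hmem x₁ x₀ h.symm ⟨v.1, v.2⟩).choose_spec⟩)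
      φ_natural := fun T T' g i j x₀ x₁ h y₀ y₁ hy₀ hy₁ h' v v' hv => by
        have key : ∀ (w : Desc.Lifts (Over.mk i'.left) y₁) (z : Desc.Lifts (Over.mk i'.left) x₁),
            w.1 = g ≫ z.1 := fun w z => by
          refine (cancel_mono i'.left).mp ?_
          rw [Category.assoc]
          exact (w.2.trans hy₁.symm).trans (congrArg (g ≫ ·) z.2.symm)
        exact key _ _
      φ_self := fun T i x v => (hsub x).elim _ _
      φ_comp := fun T i j k x₀ x₁ x₂ h₀₁ h₁₂ v => (hsub x₂).elim _ _ }
  obtain ⟨Z, ⟨isoD⟩⟩ := Groth.Agent.S6044.result ff (Scheme.fppfPrecoverage_le_fpqcPrecoverage _ (by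
    rw [Presieve.ofArrows_pUnit]; exact f.left.singleton_mem_fppfPrecoverage)) D (fun _ => hi')
  -- the comparison over `U`
  let a : Over.mk (pullback.fst f.left Z.hom) ⟶ Over.mk i'.left := isoD.hom.hom PUnit.unit
  let b : Over.mk i'.left ⟶ Over.mk (pullback.fst f.left Z.hom) := isoD.inv.hom PUnit.unit
  have hab : a ≫ b = 𝟙 _ := congrFun (congrArg Desc.SchDDFam.Hom.hom isoD.hom_inv_id) PUnit.unit
  have hba : b ≫ a = 𝟙 _ := congrFun (congrArg Desc.SchDDFam.Hom.hom isoD.inv_hom_id) PUnit.unit
  haveI : IsIso a := ⟨b, hab, hba⟩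
  haveI : IsIso a.left := inferInstanceAs (IsIso ((Over.forget _).map a))
  have ha : a.left ≫ i'.left = pullback.fst f.left Z.hom := Over.w a
  have hb : b.left ≫ pullback.fst f.left Z.hom = i'.left := Over.w b
  haveI : IsClosedImmersion (pullback.fst f.left Z.hom) := ha ▸ inferInstance
  haveI : IsClosedImmersion Z.hom := by
    haveI := Groth.Agent.S0083.result.{u}
    exact MorphismProperty.of_pullback_fst_of_descendsAlong
      (P := @IsClosedImmersion) (Q := @Surjective ⊓ @Flat ⊓ @LocallyOfFinitePresentation)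
      (f := f.left) (g := Z.hom) ⟨⟨inferInstance, inferInstance⟩, inferInstance⟩ inferInstance
  let W : Over S := Over.mk (Z.hom ≫ X.hom)
  let i : W ⟶ X := Over.homMk Z.hom rfl
  haveI : Mono i := by
    haveI : Mono ((Over.forget S).map i) := inferInstanceAs (Mono Z.hom)
    exact Functor.mono_of_mono_map (Over.forget S) this
  have toX : ∀ {T : Over S} (w : T ⟶ W) (T' : Over S) (t : T' ⟶ T) (g : T' ⟶ Red.DS S Q),
      lift g (t ≫ (w ≫ i)) ≫ bX.act = t ≫ (w ≫ i) := by
    intro T w T' t g
    let y := t ≫ w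
    have hy : t ≫ w ≫ i = y ≫ i := (Category.assoc _ _ _).symm
    rw [hy]
    let P := pullback f.left (y.left ≫ Z.hom)
    let T'' : Over S := Over.mk (pullback.snd f.left (y.left ≫ Z.hom) ≫ T'.hom)
    let q : T'' ⟶ T' := Over.homMk (pullback.snd f.left (y.left ≫ Z.hom)) rfl
    let u : T'' ⟶ U := Over.homMk (pullback.fst f.left (y.left ≫ Z.hom)) (by
      change pullback.fst _ _ ≫ U.hom = pullback.snd _ _ ≫ T'.hom
      rw [← Over.w f, pullback.condition_assoc, ← Over.w y]
      simp [W])
    have hu : u ≫ f = q ≫ y ≫ i := by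
      refine Over.OverMorphism.ext ?_
      exact pullback.condition
    let w' : T'' ⟶ W' := Over.homMk
      (pullback.lift (pullback.fst f.left (y.left ≫ Z.hom)) (pullback.snd f.left (y.left ≫ Z.hom) ≫ y.left)
        (by rw [Category.assoc]; exact pullback.condition) ≫ a.left) (by
      change (pullback.lift _ _ _ ≫ a.left) ≫ W'.hom = pullback.snd _ _ ≫ T'.hom
      rw [Category.assoc, ← Over.w i', ← Category.assoc a.left, ha, pullback.lift_fst_assoc]
      exact Over.w u)
    have hw : w' ≫ i' = u := by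
      refine Over.OverMorphism.ext ?_
      change (pullback.lift _ _ _ ≫ a.left) ≫ i'.left = _
      rw [Category.assoc, ha, pullback.lift_fst]
      rfl
    have hfix := ((Magnet.MonAct.fixedPsh.map f hf).app (op T'') ⟨u, (fixU u).mpr ⟨w', hw⟩⟩).2 T'' (𝟙 _) (q ≫ g)
    rw [Category.id_comp] at hfix
    change lift (q ≫ g) (u ≫ f) ≫ bX.act = u ≫ f at hfix
    haveI : Surjective (pullback.snd f.left (y.left ≫ Z.hom)) := MorphismProperty.pullback_snd _ _ inferInstance
    haveI : Epi (pullback.snd f.left (y.left ≫ Z.hom)) := Flat.epi_of_flat_of_surjective _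
    haveI : Epi q.left := ‹Epi (pullback.snd f.left (y.left ≫ Z.hom))›
    haveI : Epi q := Over.epi_of_epi_left q
    rw [← cancel_epi q, ← Category.assoc, comp_lift, ← hu]
    exact hfix
  have fromX : ∀ {T : Over S} (x : T ⟶ X), (∀ (T' : Over S) (t : T' ⟶ T) (g : T' ⟶ Red.DS S Q),
      lift g (t ≫ x) ≫ bX.act = t ≫ x) → ∃ w : T ⟶ W, w ≫ i = x := by
    intro T x hx
    let T' : Over S := Over.mk (pullback.snd f.left x.left ≫ T.hom)
    let q : T' ⟶ T := Over.homMk (pullback.snd f.left x.left) rfl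
    let u : T' ⟶ U := Over.homMk (pullback.fst f.left x.left) (by
      change pullback.fst _ _ ≫ U.hom = pullback.snd _ _ ≫ T.hom
      rw [← Over.w f, pullback.condition_assoc, Over.w x])
    have hu : u ≫ f = q ≫ x := Over.OverMorphism.ext pullback.condition
    obtain ⟨w', hw'⟩ := reflect u (fun T'' t g => by
      rw [hu, ← Category.assoc]; exact hx T'' (t ≫ q) g)
    let c : pullback f.left x.left ⟶ Z.left := w'.left ≫ b.left ≫ pullback.snd f.left Z.hom
    have hc : c ≫ Z.hom = pullback.snd f.left x.left ≫ x.left := by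
      simp only [c, Category.assoc, ← pullback.condition]
      rw [← Category.assoc b.left, hb, ← Category.assoc]
      exact (congrArg (· ≫ f.left) (congrArg CommaMorphism.left hw' : w'.left ≫ i'.left = _)).trans rfl
    haveI : Surjective (pullback.snd f.left x.left) := MorphismProperty.pullback_snd _ _ inferInstance
    let d : T.left ⟶ Z.left := EffectiveEpi.desc (pullback.snd f.left x.left) c (fun g₁ g₂ h => by
      refine (cancel_mono Z.hom).mp ?_
      refine ((Category.assoc g₁ c Z.hom).trans ((congrArg (g₁ ≫ ·) hc).trans ?_)).trans (Category.assoc g₂ c Z.hom).symm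
      refine Eq.trans ?_ (congrArg (g₂ ≫ ·) hc).symm
      exact (Category.assoc _ _ _).symm.trans ((congrArg (· ≫ x.left) h).trans (Category.assoc _ _ _)))
    have hd : d ≫ Z.hom = x.left := by
      haveI : Epi (pullback.snd f.left x.left) := Flat.epi_of_flat_of_surjective _
      rw [← cancel_epi (pullback.snd f.left x.left), ← Category.assoc, EffectiveEpi.fac, hc]
    refine ⟨Over.homMk d ?_, Over.OverMorphism.ext hd⟩
    change d ≫ Z.hom ≫ X.hom = T.hom
    rw [← Category.assoc, hd, Over.w x]
  refine ⟨W, i, ?_, inferInstanceAs (IsClosedImmersion Z.hom), ?_⟩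
  · exact
      { homEquiv := fun {T} => Equiv.ofBijective (fun w : T ⟶ W =>
          (⟨w ≫ i, toX w⟩ : (Magnet.MonAct.fixedPsh bX).obj (op T)))
          ⟨fun w₁ w₂ h => (cancel_mono i).mp (congrArg Subtype.val h), fun x => by
            obtain ⟨w, hw⟩ := fromX x.1 x.2
            exact ⟨w, Subtype.ext hw⟩⟩
        homEquiv_comp := fun t w => Subtype.ext (Category.assoc _ _ _) }
  · intro T w
    rfl

end Groth.Agent.S18299
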