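import Groth.Statements.S18303
import Groth.Agent.MagnetLib.FacePush
import Groth.Agent.EqLiftLib.Fam

set_option autoImplicit false
universe u
open CategoryTheory MonoidalCategory CartesianMonoidalCategory MonObj AlgebraicGeometry Opposite
open Magnet

namespace Groth.Agent.S18303

set_option backward.isDefEq.respectTransparency.types true in
theorem act_nat {S : Scheme.{u}} {M : Type} [AddCommMonoid M] {X : Over S} (a : MonAct (AMonS S M) X)
    {P Q : AddSubmonoid M} (ψ : AMonS S ↥P ⟶ AMonS S ↥Q)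
    (hψ : MonAct.IsEquivariant (subAct S M P) (subAct S M Q) ψ) {T : Over S} (G : AMonS S ↥Q ⊗ T ⟶ X) :
    (ψ ▷ (AMonS S M ⊗ T)) ≫ EqLiftLib.actFst G = EqLiftLib.actFst ((ψ ▷ T) ≫ G) ∧
      (ψ ▷ (AMonS S M ⊗ T)) ≫ EqLiftLib.actSnd a G = EqLiftLib.actSnd a ((ψ ▷ T) ≫ G) := by
  constructor <;>
  · apply hom_ext_lift₂
    intro R b p
    rw [← lift_comp_fst_snd p, lift_whiskerRight_assoc]
    simp only [EqLiftLib.lift_actFst, EqLiftLib.lift_actSnd, lift_whiskerRight_assoc, Category.assoc]
    try rw [(MonAct.isEquivariant_iff _ _ _).mp hψ]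

/-- Let M be a commutative group, X an S-scheme with an action of the diagonalizable group scheme
D(M)_S, and N, N', L, L' submonoids (magnets) of M with N ≤ L ≤ L', N' ≤ L', L a face of L', N a
face of N', N = L ∩ N', L' = L + N' and N' = L' minus (L minus N). Then the square formed by the
inclusion maps of attractors X^{N'} → X^{L'}, X^N → X^L and the face projections X^{N'} → X^N,
X^{L'} → X^L is cartesian as a square of functors on S-schemes. (The published statement assumes the
four attractors representable by schemes and concludes that the square of schemes is cartesian; its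
argument is on T-valued points and gives the square of functors, which is what is stated.) -/
theorem result (S : Scheme.{u}) (M : Type) [AddCommGroup M] (X : Over S)
    (a : AlgGrp.Action (Red.DS S M) X) (N N' L L' : AddSubmonoid M) (hNL : N ≤ L) (hN'L' : N' ≤ L')
    (hL : Magnet.IsFace L' L) (hN : Magnet.IsFace N' N) (hmeet : N = L ⊓ N') (hjoin : L' = L ⊔ N')
    (hdiff : (N' : Set M) = (L' : Set M) \ ((L : Set M) \ (N : Set M))) :
    IsPullback (Magnet.attrMap (Magnet.MonAct.ofAction a) hN'L') (Magnet.attrFace (Magnet.MonAct.ofAction a) hN)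
      (Magnet.attrFace (Magnet.MonAct.ofAction a) hL) (Magnet.attrMap (Magnet.MonAct.ofAction a) hNL) := by
  let b := MonAct.ofAction a
  have key : ∀ {T : Over S} {G G' : AMonS S ↥N' ⊗ T ⟶ X},
      (AMonS.map S (AddSubmonoid.inclusion hN'L') ▷ T) ≫ G =
        (AMonS.map S (AddSubmonoid.inclusion hN'L') ▷ T) ≫ G' →
      (AMonS.faceMap S hN ▷ T) ≫ G = (AMonS.faceMap S hN ▷ T) ≫ G' → G = G' :=
    fun h₁ h₂ => MagnetLib.push_hom_ext hNL hN'L' hL hN hdiff h₁ h₂
  refine IsPullback.of_forall_isPullback_app fun T => ?_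
  rw [CategoryTheory.Limits.Types.isPullback_iff]
  refine ⟨?_, ?_, ?_⟩
  · ext φ
    refine Subtype.ext ?_
    change (AMonS.faceMap S hL ▷ unop T) ≫ (AMonS.map S (AddSubmonoid.inclusion hN'L') ▷ unop T) ≫ φ.1 =
      (AMonS.map S (AddSubmonoid.inclusion hNL) ▷ unop T) ≫ (AMonS.faceMap S hN ▷ unop T) ≫ φ.1
    simp only [← comp_whiskerRight_assoc, (MagnetLib.isPushout_faceMap hNL hN'L' hL hN hdiff).w]
  · rintro x y ⟨h1, h2⟩
    exact Subtype.ext (key (congrArg Subtype.val h1) (congrArg Subtype.val h2))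
  · intro ψ φ hc
    obtain ⟨G, hG1, hG2⟩ := MagnetLib.push_exists hNL hN'L' hL hN hdiff ψ.1 φ.1 (congrArg Subtype.val hc)
    have hG : EqLiftLib.IsEqvFam b G := by
      rw [EqLiftLib.isEqvFam_iff]
      have e1 := act_nat b (AMonS.map S (AddSubmonoid.inclusion hN'L'))
        (MonAct.isEquivariant_restrict_regular _ _ _ (by rw [← AMonS.map_comp]; rfl)) G
      have e2 := act_nat b (AMonS.faceMap S hN) (isEquivariant_faceMapS S hN) G
      refine MagnetLib.push_hom_ext hNL hN'L' hL hN hdiff ?_ ?_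
      · rw [e1.1, e1.2, hG1]
        exact (EqLiftLib.isEqvFam_iff b _).mp ψ.2
      · rw [e2.1, e2.2, hG2]
        exact (EqLiftLib.isEqvFam_iff b _).mp φ.2
    exact ⟨⟨G, hG⟩, Subtype.ext hG1, Subtype.ext hG2⟩

end Groth.Agent.S18303
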