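import Groth.Statements.S18304
import Groth.Agent.S18299
import Groth.Agent.S18302
import Groth.Agent.MagnetLib.AttrRep
import Groth.Agent.MagnetLib.AffineRep
import Groth.Agent.MagnetLib.Fixed
import Mathlib.AlgebraicGeometry.Morphisms.Etale

set_option autoImplicit false
universe u
open CategoryTheory MonoidalCategory CartesianMonoidalCategory MonObj AlgebraicGeometry Opposite
open Magnet

namespace Groth.Agent.S18304

/-- Let M be a finitely generated commutative group, X an S-scheme with an action of the diagonalizable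
group scheme D(M)_S, N a submonoid (magnet) of M and Z the subgroup of M underlying the face N* of
invertible elements of N. Suppose given an S-affine N*-FPR atlas: an S-scheme U affine over S with a
D(M)_S-action and an equivariant morphism f : U → X over S which is étale and surjective and
fixed-point reflecting for the induced actions of D(M/Z)_S (the square of D(M/Z)_S-fixed-point
functors over U → X is cartesian). Assume that N is finitely generated as a monoid, or that X is
locally of finite presentation and separated over S. Then the attractors X^N and X^{N*} are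
representable by S-schemes Z_N and Z_*, and the face projection X^N → X^{N*} corresponds to an
affine morphism Z_N → Z_*. (The published statement allows any commutative group M, X an algebraic
space and an atlas that is a disjoint union of S-affine schemes each stable under D(M)_S, assumes in
its first alternative only that X is separated, and lists further permanence properties of X^N —
quasi-separated, separated, locally of finite presentation, quasi-compact, of finite presentation —
which are not restated here. Its argument uses the base change of étale equivariant maps along faces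
and the identification of attractors of subgroups with fixed points, both established for M finitely
generated, so M is taken finitely generated here; and finite presentation is assumed with
separatedness because the directed-union step used in that case needs it.) -/
theorem result (S : Scheme.{u}) (M : Type) [AddCommGroup M]
    [AddGroup.FG M] (X U : Over S) (aX : AlgGrp.Action (Red.DS S M) X) (aU : AlgGrp.Action (Red.DS S M) U)
    [IsAffineHom U.hom] (f : U ⟶ X) [Etale f.left] [Surjective f.left]
    (hf : Magnet.MonAct.IsEquivariant (Magnet.MonAct.ofAction aU) (Magnet.MonAct.ofAction aX) f)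
    (N : AddSubmonoid M) (Z : AddSubgroup M) (hZ : Z.toAddSubmonoid = Magnet.unitFace N)
    (hfZ : Magnet.MonAct.IsEquivariant
      ((Magnet.MonAct.ofAction aU).restrict (Magnet.AMonS.map S (QuotientAddGroup.mk' Z)))
      ((Magnet.MonAct.ofAction aX).restrict (Magnet.AMonS.map S (QuotientAddGroup.mk' Z))) f)
    (hfpr : IsPullback (Magnet.MonAct.fixedPsh.map f hfZ)
      (Magnet.MonAct.fixedPshι ((Magnet.MonAct.ofAction aU).restrict (Magnet.AMonS.map S (QuotientAddGroup.mk' Z))))
      (Magnet.MonAct.fixedPshι ((Magnet.MonAct.ofAction aX).restrict (Magnet.AMonS.map S (QuotientAddGroup.mk' Z))))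
      (yoneda.map f))
    (h : N.FG ∨ (IsSeparated X.hom ∧ LocallyOfFinitePresentation X.hom)) :
    ∃ (ZN Zs : Over S) (eN : (Magnet.attr (Magnet.MonAct.ofAction aX) N).RepresentableBy ZN)
      (es : (Magnet.attr (Magnet.MonAct.ofAction aX) (Magnet.unitFace N)).RepresentableBy Zs) (j : ZN ⟶ Zs),
      IsAffineHom j.left ∧ ∀ (T : Over S) (z : T ⟶ ZN),
        es.homEquiv (z ≫ j) = (Magnet.attrFace (Magnet.MonAct.ofAction aX) (Magnet.isFace_unitFace N)).app (op T)
          (eN.homEquiv z) := by
  let Q := Magnet.unitFace N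
  have hQ : ∀ m, m ∈ Q ↔ m ∈ Z := fun m => by
    change m ∈ Magnet.unitFace N ↔ m ∈ Z
    rw [← hZ]
    rfl
  let bX : Magnet.MonAct (Magnet.AMonS S M) X := Magnet.MonAct.ofAction aX
  let bU : Magnet.MonAct (Magnet.AMonS S M) U := Magnet.MonAct.ofAction aU
  obtain ⟨εU, hεU⟩ := MagnetLib.exists_iso Q Z hQ bU
  obtain ⟨εX, hεX⟩ := MagnetLib.exists_iso Q Z hQ bX
  have evX : ∀ (T : Over S) (φ : (Magnet.attr bX Q).obj (op T)),
      (εX.hom.app (op T) φ).1 = (Magnet.attrToX bX Q).app (op T) φ := fun T φ => by
    rw [← hεX]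
    rfl
  have evU : ∀ (T : Over S) (φ : (Magnet.attr bU Q).obj (op T)),
      (εU.hom.app (op T) φ).1 = (Magnet.attrToX bU Q).app (op T) φ := fun T φ => by
    rw [← hεU]
    rfl
  have injX : ∀ (T : Over S) (φ φ' : (Magnet.attr bX Q).obj (op T)),
      (Magnet.attrToX bX Q).app (op T) φ = (Magnet.attrToX bX Q).app (op T) φ' → φ = φ' := fun T φ φ' e =>
    (εX.app (op T)).toEquiv.injective (Subtype.ext ((evX T φ).trans (e.trans (evX T φ').symm)))
  -- the representing object of the attractor of the unit face
  obtain ⟨W₁, i₁, e₁, hi₁, he₁⟩ := MagnetLib.exists_representableBy bU Q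
  obtain ⟨W, i, eW, hi, hW⟩ := Groth.Agent.S18299.result S (M ⧸ Z) X U
    (Magnet.MonAct.toAction (MagnetLib.kerAct Z bX)) (Magnet.MonAct.toAction (MagnetLib.kerAct Z bU))
    f hfZ hfpr ⟨W₁, i₁, e₁.ofIso εU, hi₁, fun T w => by
      rw [← he₁ T w]
      exact evU T (e₁.homEquiv w)⟩
  haveI := hi
  let es : (Magnet.attr bX Q).RepresentableBy W := eW.ofIso εX.symm
  have hes : ∀ (T : Over S) (w : T ⟶ W), (Magnet.attrToX bX Q).app (op T) (es.homEquiv w) = w ≫ i := by
    intro T w
    rw [← evX, ← hW T w]
    exact congrArg Subtype.val ((εX.app (op T)).toEquiv.apply_symm_apply (eW.homEquiv w))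
  -- the chart
  let U' : Over S := Over.mk (Limits.pullback.fst f.left i.left ≫ U.hom)
  let iU : U' ⟶ U := Over.homMk (Limits.pullback.fst f.left i.left) rfl
  let p : U' ⟶ W := Over.homMk (Limits.pullback.snd f.left i.left) (by
    change Limits.pullback.snd f.left i.left ≫ W.hom = Limits.pullback.fst f.left i.left ≫ U.hom
    rw [← Over.w i, ← Over.w f, ← Category.assoc, ← Category.assoc, Limits.pullback.condition])
  have hsq : iU ≫ f = p ≫ i := Over.OverMorphism.ext Limits.pullback.condition
  haveI : Etale p.left := inferInstanceAs (Etale (Limits.pullback.snd f.left i.left))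
  haveI : Surjective p.left := inferInstanceAs (Surjective (Limits.pullback.snd f.left i.left))
  haveI : DescLib.Fpqc p.left := MagnetLib.fpqc_of_fppf _
  haveI : IsClosedImmersion iU.left := inferInstanceAs (IsClosedImmersion (Limits.pullback.fst f.left i.left))
  haveI : IsAffineHom U'.hom := inferInstanceAs (IsAffineHom (Limits.pullback.fst f.left i.left ≫ U.hom))
  let post := Magnet.MonAct.eqvHom.postcomp (Magnet.subAct S M Q) f hf
  have hpost : ∀ (T : Over S) (δ : (Magnet.attr bU Q).obj (op T)),
      (Magnet.attrToX bX Q).app (op T) (post.app (op T) δ) = (Magnet.attrToX bU Q).app (op T) δ ≫ f :=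
    fun T δ => (Category.assoc (lift (toUnit T ≫ η[Magnet.AMonS S ↥Q]) (𝟙 T)) δ.1 f).symm
  have exδ : ∀ (T : Over S) (x : T ⟶ U'), ∃ δ : (Magnet.attr bU Q).obj (op T),
      (Magnet.attrToX bU Q).app (op T) δ = x ≫ iU ∧ post.app (op T) δ = es.homEquiv (x ≫ p) := by
    intro T x
    have hfix : ((εX.app (op T)).toEquiv (es.homEquiv (x ≫ p))).1 = (x ≫ iU) ≫ f := by
      refine (evX T _).trans ?_
      rw [hes, Category.assoc, Category.assoc, hsq]
    obtain ⟨v, -, hv⟩ := Limits.Types.exists_of_isPullback (hfpr.map ((evaluation _ (Type u)).obj (op T)))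
      ((εX.app (op T)).toEquiv (es.homEquiv (x ≫ p))) (x ≫ iU) hfix
    obtain ⟨δ, hδ⟩ := (εU.app (op T)).toEquiv.surjective v
    have hev : (Magnet.attrToX bU Q).app (op T) δ = x ≫ iU :=
      ((evU T δ).symm.trans (congrArg Subtype.val hδ)).trans hv
    refine ⟨δ, hev, injX T _ _ ?_⟩
    rw [hpost, hev, hes, Category.assoc, Category.assoc, hsq]
  have exx : ∀ (T : Over S) (δ : (Magnet.attr bU Q).obj (op T)), ∃ x : T ⟶ U',
      x ≫ iU = (Magnet.attrToX bU Q).app (op T) δ ∧ es.homEquiv (x ≫ p) = post.app (op T) δ := by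
    intro T δ
    let u : T ⟶ U := (Magnet.attrToX bU Q).app (op T) δ
    let w : T ⟶ W := es.homEquiv.symm (post.app (op T) δ)
    have huw : u ≫ f = w ≫ i := by
      rw [← hes, es.homEquiv.apply_symm_apply]
      exact (hpost T δ).symm
    let x : T ⟶ U' := Over.homMk (Limits.pullback.lift u.left w.left (congrArg CommaMorphism.left huw)) (by
      change Limits.pullback.lift _ _ _ ≫ Limits.pullback.fst f.left i.left ≫ U.hom = T.hom
      rw [Limits.pullback.lift_fst_assoc, Over.w u])
    refine ⟨x, Over.OverMorphism.ext (Limits.pullback.lift_fst _ _ _), ?_⟩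
    rw [show x ≫ p = w from Over.OverMorphism.ext (Limits.pullback.lift_snd _ _ _), es.homEquiv.apply_symm_apply]
  haveI : Mono i := (Over.forget S).mono_of_mono_map (show Mono i.left from inferInstance)
  have xext : ∀ (T : Over S) (x x' : T ⟶ U'), x ≫ iU = x' ≫ iU → x = x' := by
    intro T x x' e
    have e' : x ≫ p = x' ≫ p := (cancel_mono i).mp (by
      rw [Category.assoc, Category.assoc, ← hsq, ← Category.assoc, e, Category.assoc])
    exact Over.OverMorphism.ext (Limits.pullback.hom_ext (congrArg CommaMorphism.left e)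
      (congrArg CommaMorphism.left e'))
  -- the attractor of the chart
  obtain ⟨ZU, iN, eU, hiN, -⟩ := MagnetLib.exists_representableBy bU N
  haveI := hiN
  haveI : IsAffineHom ZU.hom := Over.w iN ▸ inferInstance
  have hface := Magnet.isFace_unitFace N
  let faceU := Magnet.attrFace bU hface
  let faceX := Magnet.attrFace bX hface
  obtain ⟨jU, hjU, hjU'⟩ := exx ZU (faceU.app (op ZU) (eU.homEquiv (𝟙 ZU)))
  haveI : IsAffineHom (jU.left ≫ U'.hom) := (Over.w jU).symm ▸ inferInstance
  haveI : IsAffineHom jU.left := IsAffineHom.of_comp jU.left U'.hom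
  let postN := Magnet.MonAct.eqvHom.postcomp (Magnet.subAct S M N) f hf
  let G₀ := postN.app (op ZU) (eU.homEquiv (𝟙 ZU))
  have hpb := Groth.Agent.S18302.result S M X U aX aU f hf N Q hface h
  have hG : faceX.app (op ZU) G₀ = es.homEquiv (jU ≫ p) := by
    rw [hjU']
    exact ConcreteCategory.congr_hom (NatTrans.congr_app hpb.w (op ZU)) (eU.homEquiv (𝟙 ZU))
  have hz : ∀ (T : Over S) (z : T ⟶ ZU),
      MagnetLib.pull bX N z G₀ = postN.app (op T) (eU.homEquiv z) := by
    intro T z
    rw [show eU.homEquiv z = (Magnet.attr bU N).map z.op (eU.homEquiv (𝟙 ZU)) by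
      rw [← eU.homEquiv_comp, Category.comp_id]]
    exact (ConcreteCategory.congr_hom (postN.naturality z.op) _).symm
  have hjev : ∀ (T : Over S) (z : T ⟶ ZU),
      (Magnet.attrToX bU Q).app (op T) (faceU.app (op T) (eU.homEquiv z)) = (z ≫ jU) ≫ iU := by
    intro T z
    rw [show eU.homEquiv z = (Magnet.attr bU N).map z.op (eU.homEquiv (𝟙 ZU)) by
      rw [← eU.homEquiv_comp, Category.comp_id], Category.assoc, hjU]
    exact ConcreteCategory.congr_hom ((faceU ≫ Magnet.attrToX bU Q).naturality z.op) _
  have injU : ∀ (T : Over S) (φ φ' : (Magnet.attr bU Q).obj (op T)),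
      (Magnet.attrToX bU Q).app (op T) φ = (Magnet.attrToX bU Q).app (op T) φ' → φ = φ' := fun T φ φ' e =>
    (εU.app (op T)).toEquiv.injective (Subtype.ext ((evU T φ).trans (e.trans (evU T φ').symm)))
  have hcart : ∀ (T : Over S) (cc : (Magnet.attr bX N).obj (op T)) (x : T ⟶ U'),
      faceX.app (op T) cc = es.homEquiv (x ≫ p) →
        ∃! z : T ⟶ ZU, z ≫ jU = x ∧ MagnetLib.pull bX N z G₀ = cc := by
    intro T cc x hx
    obtain ⟨δ, hδ, hδ'⟩ := exδ T x
    have hp := hpb.map ((evaluation _ (Type u)).obj (op T))
    obtain ⟨ε, hε1, hε2⟩ := Limits.Types.exists_of_isPullback hp cc δ (hx.trans hδ'.symm)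
    refine ⟨eU.homEquiv.symm ε, ⟨xext T _ _ ?_, ?_⟩, ?_⟩
    · rw [← hjev, eU.homEquiv.apply_symm_apply, ← hδ]
      exact congrArg _ hε2
    · rw [hz, eU.homEquiv.apply_symm_apply]
      exact hε1
    · rintro z ⟨hz1, hz2⟩
      refine eU.homEquiv.eq_symm_apply.mpr (Limits.Types.ext_of_isPullback hp ?_ ?_)
      · exact ((hz T z).symm.trans hz2).trans hε1.symm
      · refine Eq.trans ?_ hε2.symm
        exact injU T _ _ ((hjev T z).trans ((congrArg (· ≫ iU) hz1).trans hδ.symm))
  obtain ⟨ZN, eN, j, hj, hcomp⟩ := MagnetLib.exists_rep_affine (φ := faceX) (es := es) hG hcart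
  exact ⟨ZN, W, eN, es, j, hj, hcomp⟩

end Groth.Agent.S18304
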