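import Groth.Statements.S18306
import Groth.Agent.EtFppfLib.SmoothMain

set_option autoImplicit false
universe u
open CategoryTheory AlgebraicGeometry
open CGrpSh

namespace Groth.Agent.S18306

/-- Let S be a scheme and G a commutative group scheme over S whose structure morphism G → S is smooth,
and let a be the comparison morphism from the big fppf site of S to the small étale site of S. Then
R^q a_* applied to the abelian fppf sheaf of points T ↦ G(T) is zero for every q > 0 (equivalently,
étale and fppf cohomology of G agree on every scheme étale over S). The source proves this for
commutative smooth group algebraic spaces over S; the group-scheme case is stated here. -/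
theorem result (S : Scheme.{u}) (G : Over S) [GrpObj G] [IsCommMonObj G]
    [Smooth G.hom] (q : ℕ) (hq : 0 < q) :
    Limits.IsZero ((EtFppf.RaPush S q).obj (CGrpSh.pts Scheme.fppfPrecoverage G)) := by
  exact EtFppfLib.isZero_RaPush_of_acy _ (EtFppfLib.Smo.acy_pts G) q hq

end Groth.Agent.S18306
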