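import Groth.Statements.S18309
import Groth.Agent.MultiSecLib.Smooth
import Groth.Agent.AlgStLib.Classes
import Groth.Agent.AlgStLib.PointsTop

set_option backward.isDefEq.respectTransparency false
set_option backward.isDefEq.respectTransparency.types false

set_option autoImplicit false
universe u
open CategoryTheory CategoryTheory.Limits AlgebraicGeometry
open AlgSp

namespace Groth.Agent.S18309

open CategoryTheory CategoryTheory.Limits AlgebraicGeometry AlgSp AlgSpLib

/-- Let S be a scheme, f : Z → X a morphism of algebraic spaces over S which is smooth (étale locally on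
source and target), R a Henselian local ring with residue field k = R/m and structure morphism Spec
R → S, z : h_{Spec R} → X an R-point of X, and z₀' : h_{Spec k} → Z a k-point of Z whose composite
with f is the restriction of z to Spec k. Then there is an R-point z' : h_{Spec R} → Z with z'
followed by f equal to z and whose restriction to Spec k is z₀'. The source states this for X an
algebraic stack (lifting up to isomorphism); the algebraic-space case is stated here. -/
theorem result {S : Scheme.{u}} {Z X : AlgSp.Space S}
    (f : Z ⟶ X) (hf : AlgSp.LocP @Smooth f.hom)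
    (R : Type u) [CommRing R] [HenselianLocalRing R] (str : Spec (CommRingCat.of R) ⟶ S)
    (z : (AlgSp.yon S).obj (Over.mk str) ⟶ X.obj)
    (z₀ : (AlgSp.yon S).obj (Over.mk (Spec.map (CommRingCat.ofHom (IsLocalRing.residue R)) ≫ str)) ⟶ Z.obj)
    (w : z₀ ≫ f.hom = (AlgSp.yon S).map (Over.homMk (Spec.map (CommRingCat.ofHom (IsLocalRing.residue R))) rfl :
        Over.mk (Spec.map (CommRingCat.ofHom (IsLocalRing.residue R)) ≫ str) ⟶ Over.mk str) ≫ z) :
    ∃ z' : (AlgSp.yon S).obj (Over.mk str) ⟶ Z.obj, z' ≫ f.hom = z ∧
      (AlgSp.yon S).map (Over.homMk (Spec.map (CommRingCat.ofHom (IsLocalRing.residue R))) rfl :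
        Over.mk (Spec.map (CommRingCat.ofHom (IsLocalRing.residue R)) ≫ str) ⟶ Over.mk str) ≫ z' = z₀ := by
  let m : IsLocalRing.maximalIdeal R ≠ ⊤ := (IsLocalRing.maximalIdeal.isMaximal R).ne_top
  let Y₀ : Over S := Over.mk (Spec.map (CommRingCat.ofHom (IsLocalRing.residue R)) ≫ str)
  let j : Y₀ ⟶ Over.mk str := Over.homMk (Spec.map (CommRingCat.ofHom (IsLocalRing.residue R))) rfl
  have hY := IsAlgSpace.yon_obj (S := S) (Over.mk str)
  have hH := isAlgSpace_pullback Z.property hY X.property f.hom z
  have hh : LocP @Smooth (pullback.snd f.hom z) :=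
    AlgStLib.good_smooth.bc Z.property X.property hH hY _ _ _ _ (IsPullback.of_hasPullback f.hom z) hf
  obtain ⟨s, hs₁, hs₂⟩ := MultiSecLib.exists_space_lift R (IsLocalRing.maximalIdeal R) m str
    (Y₀ := Y₀) (j := j) rfl (Category.id_comp _) hH hh (pullback.lift z₀ ((yon S).map j) w)
    (pullback.lift_snd _ _ _)
  refine ⟨s ≫ pullback.fst _ _, ?_, ?_⟩
  · rw [Category.assoc, pullback.condition, ← Category.assoc, hs₁, Category.id_comp]
  · rw [← Category.assoc, hs₂, pullback.lift_fst]

end Groth.Agent.S18309
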