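import Groth.Statements.S1831
import Mathlib
import Groth.Agent.PerHLib.Basic
-- import your own Groth.Agent.* helpers here

set_option autoImplicit false
universe u v
open CycAlg

namespace Groth.Agent.S1831

/-- If φ is an endomorphism of M with φ^n = 0 (n > 0) and ker φ / im φ^(n-1) has finite length, then for
each 0 ≤ i ≤ n the (2,1)-periodic complex (M, φ^i, φ^(n-i)) has finite-length cohomology modules and
its Herbrand quotient vanishes. -/
theorem result {R : Type u} [CommRing R] {M : Type v} [AddCommGroup M] [Module R M] (φ : M →ₗ[R] M) (n : ℕ) (hn : 0 < n) (hφ : φ ^ n = 0) (hfin : Module.length R (CycAlg.perH φ (φ ^ (n - 1))) < ⊤) (i : ℕ) (hi : i ≤ n) : CycAlg.FinCoh R (φ ^ i) (φ ^ (n - i)) ∧ CycAlg.herbrand R (φ ^ i) (φ ^ (n - i)) = 0 := by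
  let H : ℕ → ℕ → ℕ∞ := fun a b => Module.length R (perH (φ ^ a) (φ ^ b))
  have hz : ∀ a b : ℕ, n ≤ a + b → ∀ x, (φ ^ a) ((φ ^ b) x) = 0 := by
    intro a b hab x
    rw [← Module.End.mul_apply, ← pow_add, ← Nat.sub_add_cancel hab, pow_add, hφ, mul_zero]
    rfl
  have hadd : ∀ a b : ℕ, ∀ x, (φ ^ (a + b)) x = (φ ^ a) ((φ ^ b) x) := fun a b x => by
    rw [pow_add, Module.End.mul_apply]
  -- the maps between the cohomology modules
  let inc : ∀ a b c d : ℕ, a ≤ c → d ≤ b → (perH (φ ^ a) (φ ^ b) →ₗ[R] perH (φ ^ c) (φ ^ d)) := fun a b c d h1 h2 =>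
    PerHLib.hMap _ _ _ _ LinearMap.id
      (fun x hx => by rw [LinearMap.id_apply, ← Nat.sub_add_cancel h1, hadd, hx, map_zero])
      (fun y => ⟨(φ ^ (b - d)) y, by rw [LinearMap.id_apply, ← hadd, Nat.add_sub_cancel' h2]⟩)
  let pw : ∀ k a b c d : ℕ, c + k = a → d = b + k → (perH (φ ^ a) (φ ^ b) →ₗ[R] perH (φ ^ c) (φ ^ d)) := fun k a b c d h1 h2 =>
    PerHLib.hMap _ _ _ _ (φ ^ k)
      (fun x hx => by rw [← hadd, h1, hx])
      (fun y => ⟨y, by rw [h2, add_comm, hadd]⟩)
  have exA : ∀ i j i' j' k' : ℕ, i + i' = n → j + j' = n → i + j + k' = n →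
      ∀ (h1 : i ≤ i + j) (h2 : k' ≤ i') (h3 : j + i = i + j) (h4 : j' = k' + i),
        Function.Exact (inc i i' (i + j) k' h1 h2) (pw i (i + j) k' j j' h3 h4) := by
    intro i j i' j' k' hi hj hk h1 h2 h3 h4 z
    obtain ⟨x, hx, rfl⟩ := PerHLib.cls_surj _ _ z
    rw [PerHLib.hMap_cls, PerHLib.cls_eq_zero_iff]
    constructor
    · rintro ⟨y, hy⟩
      have hw : (φ ^ i) (x - (φ ^ k') y) = 0 := by
        rw [map_sub, ← hadd, ← hy, add_comm i k', ← h4, sub_self]
      refine ⟨PerHLib.cls _ _ _ hw, ?_⟩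
      rw [PerHLib.hMap_cls, PerHLib.cls_eq_cls]
      exact ⟨-y, by rw [LinearMap.id_apply, map_neg]; abel⟩
    · rintro ⟨w, hw⟩
      obtain ⟨w, hw0, rfl⟩ := PerHLib.cls_surj _ _ w
      rw [PerHLib.hMap_cls, PerHLib.cls_eq_cls, LinearMap.id_apply] at hw
      obtain ⟨y, hy⟩ := hw
      refine ⟨-y, ?_⟩
      rw [map_neg, h4, add_comm, hadd, hy, map_sub, hw0, zero_sub, neg_neg]
  have exB : ∀ i j j' k' i' : ℕ, i + i' = n → j + j' = n → i + j + k' = n →
      ∀ (h3 : j + i = i + j) (h4 : j' = k' + i) (h5 : j ≤ i') (h6 : i ≤ j'),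
        Function.Exact (pw i (i + j) k' j j' h3 h4) (inc j j' i' i h5 h6) := by
    intro i j j' k' i' hi hj hk h3 h4 h5 h6 z
    obtain ⟨x, hx, rfl⟩ := PerHLib.cls_surj _ _ z
    rw [PerHLib.hMap_cls, PerHLib.cls_eq_zero_iff, LinearMap.id_apply]
    constructor
    · rintro ⟨y, hy⟩
      have hw : (φ ^ (i + j)) y = 0 := by rw [add_comm, hadd, hy, hx]
      refine ⟨PerHLib.cls _ _ y hw, ?_⟩
      rw [PerHLib.hMap_cls, PerHLib.cls_eq_cls]
      exact ⟨0, by rw [map_zero, hy, sub_self]⟩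
    · rintro ⟨w, hw⟩
      obtain ⟨w, hw0, rfl⟩ := PerHLib.cls_surj _ _ w
      rw [PerHLib.hMap_cls, PerHLib.cls_eq_cls] at hw
      obtain ⟨y, hy⟩ := hw
      refine ⟨w - (φ ^ k') y, ?_⟩
      rw [map_sub, ← hadd, add_comm i k', ← h4, hy, sub_sub_cancel]
  -- the hexagon relation
  have hex : ∀ i j i' j' k' : ℕ, i + i' = n → j + j' = n → i + j + k' = n →
      ∃ r₁ r₂ r₃ r₄ r₅ r₆ : ℕ∞, H i i' = r₆ + r₁ ∧ H (i + j) k' = r₁ + r₂ ∧ H j j' = r₂ + r₃ ∧
        H i' i = r₃ + r₄ ∧ H k' (i + j) = r₄ + r₅ ∧ H j' j = r₅ + r₆ := by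
    intro i j i' j' k' hi hj hk
    have E1 := PerHLib.length_eq_range_add_range _ _
      (exA i j i' j' k' hi hj hk (by omega) (by omega) (by omega) (by omega))
    have E2 := PerHLib.length_eq_range_add_range _ _
      (exB i j j' k' i' hi hj hk (by omega) (by omega) (by omega) (by omega))
    have hjk : i' = j + k' := by omega
    subst hjk
    have E3 := PerHLib.length_eq_range_add_range _ _
      (exA j k' j' (i + j) i (by omega) (by omega) (by omega) (by omega) (by omega) (by omega) (by omega))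
    have E4 := PerHLib.length_eq_range_add_range _ _
      (exB j k' (i + j) i j' (by omega) (by omega) (by omega) (by omega) (by omega) (by omega) (by omega))
    have hki : j' = k' + i := by omega
    subst hki
    have E5 := PerHLib.length_eq_range_add_range _ _
      (exA k' i (i + j) (j + k') j (by omega) (by omega) (by omega) (by omega) (by omega) (by omega) (by omega))
    have E6 := PerHLib.length_eq_range_add_range _ _
      (exB k' i (j + k') j (i + j) (by omega) (by omega) (by omega) (by omega) (by omega) (by omega) (by omega))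
    exact ⟨_, _, _, _, _, _, E6, E1, E2, E3, E4, E5⟩
  have h00 : ∀ m : ℕ, H 0 m = 0 := fun m => by
    haveI : Subsingleton (perH (φ ^ 0) (φ ^ m)) := ⟨fun a b => by
      obtain ⟨x, hx, rfl⟩ := PerHLib.cls_surj _ _ a
      obtain ⟨y, hy, rfl⟩ := PerHLib.cls_surj _ _ b
      rw [pow_zero, Module.End.one_apply] at hx hy
      subst hx hy
      rfl⟩
    exact Module.length_eq_zero
  have h0n : H n 0 = 0 := by
    haveI : Subsingleton (perH (φ ^ n) (φ ^ 0)) := ⟨fun a b => by
      obtain ⟨x, hx, rfl⟩ := PerHLib.cls_surj _ _ a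
      obtain ⟨y, hy, rfl⟩ := PerHLib.cls_surj _ _ b
      rw [PerHLib.cls_eq_cls]
      exact ⟨x - y, by rw [pow_zero, Module.End.one_apply]⟩⟩
    exact Module.length_eq_zero
  have h1 : H 1 (n - 1) < ⊤ := by
    show Module.length R (perH (φ ^ 1) (φ ^ (n - 1))) < ⊤
    rw [pow_one]
    exact hfin
  have fin : ∀ j, j ≤ n → H j (n - j) < ⊤ := by
    intro j
    induction j with
    | zero => intro _; rw [h00]; exact ENat.top_ne_zero.symm.lt_top
    | succ j ih =>
      intro hj
      obtain ⟨r₁, r₂, r₃, r₄, r₅, r₆, e1, e2, e3, -, -, -⟩ :=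
        hex 1 j (n - 1) (n - j) (n - (j + 1)) (by omega) (by omega) (by omega)
      rw [add_comm j 1]
      rw [add_comm j 1] at e2
      rw [e2]
      rw [e1] at h1
      have h2 := ih (by omega)
      rw [e3] at h2
      exact ENat.add_lt_top.2 ⟨(ENat.add_lt_top.1 h1).2, (ENat.add_lt_top.1 h2).1⟩
  have fin' : ∀ a b, a + b = n → H a b < ⊤ := fun a b hab => by
    obtain rfl : b = n - a := by omega
    exact fin a (by omega)
  let d : ℕ → ℤ := fun j => ((H j (n - j)).toNat : ℤ) - (H (n - j) j).toNat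
  have dadd : ∀ j, j + 1 ≤ n → d (j + 1) = d 1 + d j := by
    intro j hj
    obtain ⟨r₁, r₂, r₃, r₄, r₅, r₆, e1, e2, e3, e4, e5, e6⟩ :=
      hex 1 j (n - 1) (n - j) (n - (j + 1)) (by omega) (by omega) (by omega)
    have := (PerHLib.hexagon_arith e1 e2 e3 e4 e5 e6
      (Or.inl ⟨fin' _ _ (by omega), fin' _ _ (by omega), fin' _ _ (by omega), fin' _ _ (by omega)⟩)).2
    show ((H (j + 1) (n - (j + 1))).toNat : ℤ) - (H (n - (j + 1)) (j + 1)).toNat = _
    rw [add_comm j 1] at this ⊢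
    exact this
  have dmul : ∀ j, j ≤ n → d j = j * d 1 := by
    intro j
    induction j with
    | zero =>
      intro _
      simp only [d, Nat.sub_zero, h00, h0n]
      simp
    | succ j ih => intro hj; rw [dadd j hj, ih (by omega)]; push_cast; ring
  have dn : d n = 0 := by
    simp only [d, Nat.sub_self, h00, h0n]
    simp
  have d1 : d 1 = 0 := by
    have := dmul n le_rfl
    rw [dn] at this
    exact (mul_eq_zero.1 this.symm).resolve_left (by exact_mod_cast hn.ne')
  refine ⟨⟨fin i hi, fin' _ _ (by omega)⟩, ?_⟩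
  have := dmul i hi
  rw [d1, mul_zero] at this
  exact this

end Groth.Agent.S1831
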