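import Groth.Statements.S18311
import Groth.Agent.MultiSecLib.Smooth

set_option backward.isDefEq.respectTransparency false
set_option backward.isDefEq.respectTransparency.types false

set_option autoImplicit false
universe u
open CategoryTheory CategoryTheory.Limits AlgebraicGeometry
open AlgSp

namespace Groth.Agent.S18311

open CategoryTheory CategoryTheory.Limits AlgebraicGeometry AlgSp AlgSpLib

/-- Let S be a scheme, X an algebraic space over S, and R a Henselian local ring with a structure
morphism Spec R → S. Then there are a scheme Z separated over S and a representable étale morphism p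
: h_Z → X such that, for every ideal a of R, every point h_{Spec (R/a)} → X over S (Spec (R/a)
mapping to S through Spec R) is h_g followed by p for some S-morphism g : Spec (R/a) → Z. The source
states this for algebraic stacks whose diagonal has a separated S-fibre over the image of the closed
point, with Z smooth over the stack in general, Z étale over it when the stack is an algebraic space
(a clause of the same statement; no quasi-separatedness assumed), and essential surjectivity on
R/a-points; only the algebraic-space case is stated here. -/
theorem result {S : Scheme.{u}} (X : AlgSp.Space S)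
    (R : Type u) [CommRing R] [HenselianLocalRing R] (str : Spec (CommRingCat.of R) ⟶ S) :
    ∃ (Z : Over S) (p : (AlgSp.yon S).obj Z ⟶ X.obj), IsSeparated Z.hom ∧ AlgSp.RepWith @Etale p ∧
      ∀ (a : Ideal R) (x : (AlgSp.yon S).obj (Over.mk (Spec.map (CommRingCat.ofHom (Ideal.Quotient.mk a)) ≫ str)) ⟶ X.obj),
        ∃ g : Over.mk (Spec.map (CommRingCat.ofHom (Ideal.Quotient.mk a)) ≫ str) ⟶ Z, (AlgSp.yon S).map g ≫ p = x := by
  obtain ⟨Z, p, hs, hp, hlift⟩ := MultiSecLib.exists_separated_chart X.property
  refine ⟨Z, p, hs, hp, fun a x => ?_⟩
  by_cases ha : a = ⊤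
  · subst ha
    let T : Over S := Over.mk (Spec.map (CommRingCat.ofHom (Ideal.Quotient.mk (⊤ : Ideal R))) ≫ str)
    haveI : Subsingleton (R ⧸ (⊤ : Ideal R)) := Ideal.Quotient.subsingleton_iff.2 rfl
    haveI : IsEmpty T.left := inferInstanceAs (IsEmpty (PrimeSpectrum (R ⧸ (⊤ : Ideal R))))
    let k : T ⟶ Z := Over.homMk ((isInitialOfIsEmpty (X := T.left)).to Z.left)
      ((isInitialOfIsEmpty (X := T.left)).hom_ext _ _)
    exact ⟨k, hom_ext_of_cover (κ := PEmpty.{u + 1}) (Tk := fun k => k.elim) (fun k => k.elim) (fun k => k.elim)
      (fun k => k.elim) (fun t => isEmptyElim t) fun k => k.elim⟩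
  · haveI := Groth.Agent.S16174.henselian_quot a ha
    exact hlift (R ⧸ a) _ x

end Groth.Agent.S18311
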