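import Groth.Statements.S18312
import Groth.Agent.MultiSecLib.Smooth
import Groth.Agent.AlgStLib.LocQ3
import Groth.Agent.S16174

set_option autoImplicit false
set_option backward.isDefEq.respectTransparency false
set_option backward.isDefEq.respectTransparency.types false
universe u
open CategoryTheory CategoryTheory.Limits AlgebraicGeometry
open AlgSp

namespace Groth.Agent.S18312

/-- Let S be a scheme, X an algebraic space over S, and R a Henselian local ring with residue field k =
R/m and a structure morphism Spec R → S, and suppose that the set of k-points h_{Spec k} → X over S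
is finite. Then there are an affine scheme Z over S and a representable étale morphism p : h_Z → X
such that, for every ideal a of R, every point h_{Spec (R/a)} → X over S is h_g followed by p for
some S-morphism g : Spec (R/a) → Z. The source states this for algebraic stacks whose diagonal has a
separated S-fibre over the image of the closed point, with Z smooth over the stack in general, Z
étale over it when the stack is an algebraic space (a clause of the same statement; no
quasi-separatedness assumed), finitely many isomorphism classes over k, and essential surjectivity;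
only the algebraic-space case is stated here. -/
theorem result {S : Scheme.{u}} (X : AlgSp.Space S)
    (R : Type u) [CommRing R] [HenselianLocalRing R] (str : Spec (CommRingCat.of R) ⟶ S)
    (hfin : Finite ((AlgSp.yon S).obj (Over.mk (Spec.map (CommRingCat.ofHom (IsLocalRing.residue R)) ≫ str)) ⟶ X.obj)) :
    ∃ (Z : Over S) (p : (AlgSp.yon S).obj Z ⟶ X.obj), IsAffine Z.left ∧ AlgSp.RepWith @Etale p ∧
      ∀ (a : Ideal R) (x : (AlgSp.yon S).obj (Over.mk (Spec.map (CommRingCat.ofHom (Ideal.Quotient.mk a)) ≫ str)) ⟶ X.obj),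
        ∃ g : Over.mk (Spec.map (CommRingCat.ofHom (Ideal.Quotient.mk a)) ≫ str) ⟶ Z, (AlgSp.yon S).map g ≫ p = x := by
  classical
  let k := IsLocalRing.ResidueField R
  let Yk : Over S := Over.mk (Spec.map (CommRingCat.ofHom (IsLocalRing.residue R)) ≫ str)
  let Pk := (AlgSp.yon S).obj Yk ⟶ X.obj
  haveI : Finite Pk := hfin
  obtain ⟨ZQ, q, -, hq, hlift⟩ := MultiSecLib.exists_separated_chart X.property
  choose gz hgz using fun z : Pk => hlift k (Spec.map (CommRingCat.ofHom (IsLocalRing.residue R)) ≫ str) z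
  choose B hB hgB using fun z : Pk => (by
    obtain ⟨B, hB, h, -⟩ := TopologicalSpace.Opens.isBasis_iff_nbhd.1 ZQ.left.isBasis_affineOpens
      (show (gz z).left (IsLocalRing.closedPoint k) ∈ (⊤ : ZQ.left.Opens) from trivial)
    exact ⟨B, hB, h⟩ :
      ∃ B : ZQ.left.Opens, IsAffineOpen B ∧ (gz z).left (IsLocalRing.closedPoint k) ∈ B)
  obtain ⟨n, ⟨en⟩⟩ := Finite.exists_equiv_fin Pk
  let σ : ULift.{u} (Fin n) → Pk := fun i => en.symm i.down
  let F : ULift.{u} (Fin n) → Scheme.{u} := fun i => (B (σ i) : Scheme.{u})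
  haveI : ∀ i, IsAffine (F i) := fun i => hB (σ i)
  let c₀ : ∐ F ⟶ ZQ.left := Limits.Sigma.desc fun i => (B (σ i)).ι
  haveI : Etale c₀ := IsZariskiLocalAtSource.sigmaDesc (P := @Etale) fun i => inferInstance
  let Z : Over S := Over.mk (c₀ ≫ ZQ.hom)
  let c : Z ⟶ ZQ := Over.homMk c₀ rfl
  haveI : Etale c.left := inferInstanceAs (Etale c₀)
  let p := (AlgSp.yon S).map c ≫ q
  have hp : AlgSp.RepWith @Etale p := AlgSpLib.repWith_comp
    ((AlgSp.repWith_yon_map_iff (P := (@Etale : MorphismProperty Scheme.{u})) c).2 inferInstance) hq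
  have hk : ∀ z : Pk, ∃ g : Yk ⟶ Z, (AlgSp.yon S).map g ≫ p = z := fun z => by
    obtain ⟨i, rfl⟩ : ∃ i, σ i = z := ⟨⟨en z⟩, en.symm_apply_apply z⟩
    have hr : Set.range (gz (σ i)).left ⊆ Set.range (B (σ i)).ι := by
      rw [Scheme.Opens.range_ι]
      rintro _ ⟨y, rfl⟩
      rw [show y = IsLocalRing.closedPoint k from (inferInstance : Subsingleton (PrimeSpectrum k)).elim _ _]
      exact hgB (σ i)
    let l := IsOpenImmersion.lift (B (σ i)).ι (gz (σ i)).left hr ≫ Limits.Sigma.ι F i
    have hl : l ≫ c₀ = (gz (σ i)).left := by simp [l, c₀, F]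
    let g : Yk ⟶ Z := Over.homMk l ((Category.assoc _ _ _).symm.trans ((congrArg (· ≫ ZQ.hom) hl).trans (Over.w (gz (σ i)))))
    refine ⟨g, ?_⟩
    simp only [p]
    rw [← Category.assoc, ← Functor.map_comp, show g ≫ c = gz (σ i) from Over.OverMorphism.ext hl]
    exact hgz (σ i)
  refine ⟨Z, p, (inferInstance : IsAffine (∐ F)), hp, fun a x => ?_⟩
  by_cases ha : a = ⊤
  · haveI : Subsingleton (R ⧸ a) := Ideal.Quotient.subsingleton_iff.2 ha
    haveI : IsEmpty (Over.mk (Spec.map (CommRingCat.ofHom (Ideal.Quotient.mk a)) ≫ str)).left :=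
      inferInstanceAs (IsEmpty (PrimeSpectrum (R ⧸ a)))
    let g : Over.mk (Spec.map (CommRingCat.ofHom (Ideal.Quotient.mk a)) ≫ str) ⟶ Z :=
      Over.homMk (isInitialOfIsEmpty.to _) (isInitialOfIsEmpty.hom_ext _ _)
    exact ⟨g, AlgSpLib.hom_ext_of_cover (κ := PEmpty.{u + 1}) (Tk := fun e => e.elim) (fun e => e.elim)
      (fun e => e.elim) (fun e => e.elim) (fun t => isEmptyElim t) fun e => e.elim⟩
  haveI := Groth.Agent.S16174.henselian_quot a ha
  haveI : Nontrivial (R ⧸ a) := Ideal.Quotient.nontrivial_iff.2 ha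
  haveI : IsLocalHom (Ideal.Quotient.mk a) := IsLocalHom.of_surjective _ Ideal.Quotient.mk_surjective
  let I := IsLocalRing.maximalIdeal (R ⧸ a)
  let Y : Over S := Over.mk (Spec.map (CommRingCat.ofHom (Ideal.Quotient.mk a)) ≫ str)
  let Y₀ : Over S := Over.mk (Spec.map (CommRingCat.ofHom (Ideal.Quotient.mk I)) ≫ Y.hom)
  let j : Y₀ ⟶ Y := Over.homMk (Spec.map (CommRingCat.ofHom (Ideal.Quotient.mk I))) rfl
  let fk : R ⧸ a →+* k := Ideal.Quotient.factor (IsLocalRing.le_maximalIdeal ha)
  let jk : Yk ⟶ Y := Over.homMk (Spec.map (CommRingCat.ofHom fk)) (by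
    change Spec.map _ ≫ Spec.map _ ≫ str = Spec.map _ ≫ str
    rw [← Spec.map_comp_assoc]
    exact congrArg (fun r => Spec.map r ≫ str) (CommRingCat.hom_ext (RingHom.ext fun r => rfl)))
  let e₀ : k →+* (R ⧸ a) ⧸ I := IsLocalRing.ResidueField.map (Ideal.Quotient.mk a)
  have he₀ : CommRingCat.ofHom fk ≫ CommRingCat.ofHom e₀ = CommRingCat.ofHom (Ideal.Quotient.mk I) :=
    CommRingCat.hom_ext (Ideal.Quotient.ringHom_ext (RingHom.ext fun r => rfl))
  let e : Y₀ ⟶ Yk := Over.homMk (Spec.map (CommRingCat.ofHom e₀)) (by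
    rw [← Over.w jk]
    change Spec.map _ ≫ Spec.map _ ≫ Y.hom = Spec.map _ ≫ Y.hom
    rw [← Spec.map_comp_assoc, he₀])
  have hej : e ≫ jk = j := Over.OverMorphism.ext (by
    change Spec.map _ ≫ Spec.map _ = Spec.map _
    rw [← Spec.map_comp, he₀])
  obtain ⟨g₀, hg₀⟩ := hk ((AlgSp.yon S).map jk ≫ x)
  let H := Limits.pullback p x
  have hH : AlgSp.IsAlgSpace H :=
    AlgSpLib.isAlgSpace_pullback (AlgSp.IsAlgSpace.yon_obj Z) (AlgSp.IsAlgSpace.yon_obj Y) X.property p x
  have hs : AlgSp.LocP @Smooth (Limits.pullback.snd p x) :=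
    AlgSpLib.locP_smooth_of_isEtaleMor (AlgSpLib.isEtaleMor_of_repWith
      (AlgSpLib.repWith_of_isPullback (IsPullback.of_hasPullback p x) hp))
  let s₀ : (AlgSp.yon S).obj Y₀ ⟶ H := Limits.pullback.lift ((AlgSp.yon S).map (e ≫ g₀)) ((AlgSp.yon S).map j) (by
    rw [Functor.map_comp, Category.assoc, hg₀, ← Category.assoc, ← Functor.map_comp, hej])
  obtain ⟨s, hs₁, -⟩ := MultiSecLib.exists_space_lift (R ⧸ a) I (IsLocalRing.maximalIdeal.isMaximal _).ne_top
    (Spec.map (CommRingCat.ofHom (Ideal.Quotient.mk a)) ≫ str) (Y₀ := Y₀) (j := j) rfl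
    (by simp only [eqToHom_refl, Category.id_comp]; rfl) hH hs s₀ (Limits.pullback.lift_snd _ _ _)
  obtain ⟨g, hg⟩ := (AlgSp.yon S).map_surjective (s ≫ Limits.pullback.fst p x)
  exact ⟨g, by rw [hg, Category.assoc, Limits.pullback.condition, ← Category.assoc, hs₁, Category.id_comp]⟩

end Groth.Agent.S18312
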