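import Groth.Statements.S18313
import Groth.Agent.MultiSecLib.Smooth

set_option backward.isDefEq.respectTransparency false
set_option backward.isDefEq.respectTransparency.types false

set_option autoImplicit false
universe u
open CategoryTheory CategoryTheory.Limits AlgebraicGeometry
open AlgSp

namespace Groth.Agent.S18313

open CategoryTheory CategoryTheory.Limits AlgebraicGeometry AlgSp AlgSpLib

/-- Let R be a Henselian local ring, S = Spec R, and X an algebraic space over S which is smooth over S,
in the sense that there are a scheme U over S with smooth structure morphism U → S and a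
representable étale, representable surjective morphism h_U → X. Then for every ideal a ≠ R, every
point h_{Spec (R/a)} → X over S is the composite of h_q with a point h_S → X over S, where q : Spec
(R/a) → S is the closed immersion. The source states this for smooth algebraic stacks over R whose
diagonal has a separated fibre over the closed point (essential surjectivity on R/a-points); the
algebraic-space case is stated here. -/
theorem result (R : Type u) [CommRing R] [HenselianLocalRing R]
    (X : AlgSp.Space (Spec (CommRingCat.of R)))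
    (hX : ∃ (U : Over (Spec (CommRingCat.of R))) (c : (AlgSp.yon (Spec (CommRingCat.of R))).obj U ⟶ X.obj),
      Smooth U.hom ∧ AlgSp.RepWith @Etale c ∧ AlgSp.RepWith @Surjective c)
    (a : Ideal R) (ha : a ≠ ⊤)
    (x₀ : (AlgSp.yon (Spec (CommRingCat.of R))).obj (Over.mk (Spec.map (CommRingCat.ofHom (Ideal.Quotient.mk a)))) ⟶ X.obj) :
    ∃ x : (AlgSp.yon (Spec (CommRingCat.of R))).obj (Over.mk (𝟙 (Spec (CommRingCat.of R)))) ⟶ X.obj,
      (AlgSp.yon (Spec (CommRingCat.of R))).map (Over.homMk (Spec.map (CommRingCat.ofHom (Ideal.Quotient.mk a)))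
        (Category.comp_id _) : Over.mk (Spec.map (CommRingCat.ofHom (Ideal.Quotient.mk a))) ⟶ Over.mk (𝟙 _)) ≫ x = x₀ := by
  obtain ⟨U, c, hU, hc, hcs⟩ := hX
  let T : Over (Spec (CommRingCat.of R)) := Over.mk (𝟙 _)
  haveI hsub : ∀ A : Over (Spec (CommRingCat.of R)), Subsingleton (A ⟶ T) := fun A => ⟨fun f g =>
    Over.OverMorphism.ext ((Category.comp_id f.left).symm.trans (((Over.w f).trans (Over.w g).symm).trans
      (Category.comp_id g.left)))⟩
  let h₀ : U ⟶ T := Over.homMk U.hom (Category.comp_id _)
  obtain ⟨h, hh⟩ := exists_desc_of_atlas hc hcs ((yon _).map h₀) fun Z g g' _ => by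
    rw [← Functor.map_comp, ← Functor.map_comp, Subsingleton.elim (g ≫ h₀) (g' ≫ h₀)]
  have hsm : LocP @Smooth h := locP_of_chart (a₀ := c) (b₀ := (yon _).map (𝟙 T)) (h₀ := h₀) hc hcs
    ((repWith_yon_map_iff (P := (@Etale : MorphismProperty Scheme.{u})) (𝟙 T)).2 (inferInstanceAs (Etale (𝟙 T.left))))
    (by rw [CategoryTheory.Functor.map_id, Category.comp_id]; exact hh) hU
  obtain ⟨s, -, hs⟩ := MultiSecLib.exists_space_lift R a ha (𝟙 _)
    (Y₀ := Over.mk (Spec.map (CommRingCat.ofHom (Ideal.Quotient.mk a))))
    (j := Over.homMk (Spec.map (CommRingCat.ofHom (Ideal.Quotient.mk a))) (Category.comp_id _)) rfl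
    (Category.id_comp _) X.property hsm x₀ (by
      obtain ⟨m, hm⟩ := (yon _).map_surjective (x₀ ≫ h)
      rw [← hm]
      exact congrArg _ (Subsingleton.elim _ _))
  exact ⟨s, hs⟩

end Groth.Agent.S18313
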