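import Groth.Statements.S18315
import Groth.Agent.EtFppfLib.SmoothMain

set_option autoImplicit false
universe u
open CategoryTheory AlgebraicGeometry
open CGrpSh

namespace Groth.Agent.S18315

/-- Let S be a scheme and G a commutative group scheme over S whose structure morphism G → S is smooth.
Then for every n the étale cohomology group H^n(S_ét, a_* G) of the restriction to the small étale
site of the abelian fppf sheaf of points of G is isomorphic to the fppf cohomology group H^n(S_fppf,
G). Only the existence of an additive isomorphism is asserted here (the source's identification is
the canonical comparison map); the source allows commutative smooth group algebraic spaces, the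
group-scheme case is stated. -/
theorem result (S : Scheme.{u}) (G : Over S) [GrpObj G] [IsCommMonObj G]
    [Smooth G.hom] (n : ℕ) :
    Nonempty (EtCoh.H S ((EtFppf.aPush S).obj (CGrpSh.pts Scheme.fppfPrecoverage G)) n ≃+
      EtFppf.HF S (CGrpSh.pts Scheme.fppfPrecoverage G) n) := by
  exact EtFppfLib.nonempty_H_aPush_equiv_HF _ (EtFppfLib.Smo.acy_pts G) n

end Groth.Agent.S18315
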