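import Groth.Statements.S18317
import Mathlib
import Groth.Agent.TorsFiniteLib.Basic
-- import your own Groth.Agent.* helpers here

set_option autoImplicit false
set_option backward.isDefEq.respectTransparency false
universe u
open CategoryTheory AlgebraicGeometry
open NonAbH1

namespace Groth.Agent.S18317

/-- Let K be a field and G a finite connected K-group scheme (G → Spec K finite, G connected as a
topological space). Then every G-torsor X over Spec K for the étale topology (a K-scheme with an
action of G whose shear map G ×_K X → X ×_K X is an isomorphism and which acquires a section over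
the members of some étale covering of Spec K) is trivial: X has a K-point. -/
theorem result (K : Type u) [Field K]
    (G X : Over (Spec (CommRingCat.of K))) [GrpObj G] [IsFinite G.hom] [ConnectedSpace G.left]
    (a : AlgGrp.Action G X) (h : NonAbH1.IsTorsorFor Scheme.etalePrecoverage a) :
    NonAbH1.HasSectionOver X (𝟙 (Spec (CommRingCat.of K))) := by
  obtain ⟨hp, R, hR, hsec⟩ := h
  obtain ⟨E, hE⟩ := Precoverage.mem_iff_exists_zeroHypercover.mp hR
  obtain ⟨i, x, hx⟩ := Scheme.Cover.exists_eq (K := Scheme.precoverage @Etale) E (IsLocalRing.closedPoint K)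
  haveI : Etale (E.f i) := Scheme.Cover.map_prop (P := @Etale) E i
  obtain ⟨t, ht⟩ := hsec (E.f i) (hE ▸ Presieve.ofArrows.mk i)
  refine Groth.Agent.TorsFinite.hasSectionOver_of_separable a
    ⟨hp, R, (Scheme.etalePrecoverage_le_proetalePrecoverage.trans Scheme.proetalePrecoverage_le_fpqcPrecoverage) _ hR, hsec⟩
    fun A _ _ _ e he hst => ?_
  haveI := he
  obtain ⟨W, hW, hxW, -⟩ := exists_isAffineOpen_mem_and_subset (X := E.X i) (x := x) (U := ⊤) trivial
  obtain ⟨β, hβ⟩ := Spec.map_surjective (hW.fromSpec ≫ E.f i)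
  obtain ⟨ψ, hψ⟩ := Spec.map_surjective (hW.fromSpec ≫ t ≫ inv e)
  letI : Algebra K Γ(E.X i, W) := β.hom.toAlgebra
  have hβ' : Spec.map (CommRingCat.ofHom (algebraMap K Γ(E.X i, W))) = hW.fromSpec ≫ E.f i := hβ
  haveI : Algebra.Etale K Γ(E.X i, W) := by
    rw [← RingHom.etale_algebraMap]
    refine (HasRingHomProperty.Spec_iff (P := @Etale)).1 ?_
    show Etale (Spec.map (CommRingCat.ofHom (algebraMap K Γ(E.X i, W))))
    rw [hβ']
    infer_instance
  have hψK : (ψ.hom).comp (algebraMap K A) = algebraMap K Γ(E.X i, W) := by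
    have : Spec.map (CommRingCat.ofHom (algebraMap K A) ≫ ψ) = Spec.map (CommRingCat.ofHom (algebraMap K Γ(E.X i, W))) := by
      rw [Spec.map_comp, hψ, hβ', Category.assoc, Category.assoc, ← hst, IsIso.inv_hom_id_assoc, ht]
    exact congrArg CommRingCat.Hom.hom (Spec.map_injective this)
  let ψa : A →ₐ[K] Γ(E.X i, W) := { ψ.hom with commutes' := fun r => congr($hψK r) }
  haveI : Nontrivial Γ(E.X i, W) := by
    by_contra hn
    haveI : Subsingleton Γ(E.X i, W) := not_nontrivial_iff_subsingleton.1 hn
    obtain ⟨w, -⟩ : x ∈ Set.range hW.fromSpec := hW.range_fromSpec.ge hxW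
    exact IsEmpty.false (α := PrimeSpectrum Γ(E.X i, W)) w
  obtain ⟨m, hm⟩ := Ideal.exists_maximal Γ(E.X i, W)
  letI := Ideal.Quotient.field m
  haveI : Algebra.FormallyUnramified K (Γ(E.X i, W) ⧸ m) :=
    Algebra.FormallyUnramified.of_surjective (Ideal.Quotient.mkₐ K m) Ideal.Quotient.mk_surjective
  haveI : Algebra.EssFiniteType K (Γ(E.X i, W) ⧸ m) :=
    haveI := Algebra.FiniteType.of_surjective (Ideal.Quotient.mkₐ K m) Ideal.Quotient.mk_surjective
    inferInstance
  haveI : Algebra.IsSeparable K (Γ(E.X i, W) ⧸ m) := Algebra.FormallyUnramified.isSeparable K _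
  let j : Γ(E.X i, W) ⧸ m →ₐ[K] AlgebraicClosure K := IsAlgClosed.lift
  refine ⟨(j.comp (Ideal.Quotient.mkₐ K m)).comp ψa, fun y => ?_⟩
  show (minpoly K (j (Ideal.Quotient.mk m (ψa y)))).Separable
  rw [minpoly.algHom_eq j j.toRingHom.injective]
  exact Algebra.IsSeparable.isSeparable K _

end Groth.Agent.S18317
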