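import Groth.Statements.S18319
import Mathlib
import Groth.Agent.TorsFiniteLib.Basic
-- import your own Groth.Agent.* helpers here

set_option autoImplicit false
set_option backward.isDefEq.respectTransparency false
universe u
open CategoryTheory AlgebraicGeometry
open NonAbH1

namespace Groth.Agent.S18319

/-- Let K be a perfect field and G a finite connected K-group scheme (G → Spec K finite, G connected).
Then every G-torsor X over Spec K for the fppf topology (simply transitive action, a section over
the members of some fppf covering of Spec K) is trivial: X has a K-point. -/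
theorem result (K : Type u) [Field K]
    [PerfectField K] (G X : Over (Spec (CommRingCat.of K))) [GrpObj G] [IsFinite G.hom] [ConnectedSpace G.left]
    (a : AlgGrp.Action G X) (h : NonAbH1.IsTorsorFor Scheme.fppfPrecoverage a) :
    NonAbH1.HasSectionOver X (𝟙 (Spec (CommRingCat.of K))) := by
  obtain ⟨hp, R, hR, hsec⟩ := h
  obtain ⟨E, hE⟩ := Precoverage.mem_iff_exists_zeroHypercover.mp hR
  obtain ⟨i, x, hx⟩ := Scheme.Cover.exists_eq (K := Scheme.precoverage (@Flat ⊓ @LocallyOfFinitePresentation)) E (IsLocalRing.closedPoint K)
  obtain ⟨t, ht⟩ := hsec (E.f i) (hE ▸ Presieve.ofArrows.mk i)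
  refine Groth.Agent.TorsFinite.hasSectionOver_of_separable a
    ⟨hp, R, Scheme.fppfPrecoverage_le_fpqcPrecoverage _ hR, hsec⟩ fun A _ _ _ e he _ => ?_
  haveI := he
  haveI : Nontrivial A := by
    by_contra hn
    haveI : Subsingleton A := not_nontrivial_iff_subsingleton.1 hn
    exact IsEmpty.false (α := PrimeSpectrum A) ((inv e) (t x))
  obtain ⟨m, hm⟩ := Ideal.exists_maximal A
  letI := Ideal.Quotient.field m
  let φ : A →ₐ[K] AlgebraicClosure K :=
    (IsAlgClosed.lift (R := K) (S := A ⧸ m) (M := AlgebraicClosure K)).comp (Ideal.Quotient.mkₐ K m)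
  exact ⟨φ, fun y => Algebra.IsSeparable.isSeparable K _⟩

end Groth.Agent.S18319
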