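import Groth.Statements.S18321
import Groth.Agent.SmoothEmbLib.Main

set_option autoImplicit false
set_option backward.isDefEq.respectTransparency false
set_option backward.isDefEq.respectTransparency.types false
set_option maxHeartbeats 1000000
set_option synthInstance.maxHeartbeats 400000
universe u
open CategoryTheory AlgebraicGeometry
open AlgGrp

namespace Groth.Agent.S18321

/-- Let K be a field and H a commutative K-group scheme whose structure morphism H → Spec K is locally
of finite type. Then one can realize H as a closed subgroup inside some smooth commutative K-group
scheme: there are a commutative K-group scheme G with G → Spec K smooth and a homomorphism of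
K-group schemes i : H → G whose underlying morphism of schemes is a closed immersion; moreover, if H
→ Spec K is quasi-compact, G can be chosen with G → Spec K quasi-compact. -/
theorem result (K : Type u) [Field K]
    (H : Over (Spec (CommRingCat.of K))) [GrpObj H] [IsCommMonObj H] [LocallyOfFiniteType H.hom] :
    ∃ (G : Over (Spec (CommRingCat.of K))) (_ : GrpObj G) (_ : IsCommMonObj G) (i : H ⟶ G),
      Smooth G.hom ∧ IsMonHom i ∧ IsClosedImmersion i.left ∧ (QuasiCompact H.hom → QuasiCompact G.hom) := by
  obtain ⟨E, h1, h2, j, h3, h4, h5, h6⟩ := SmoothEmb.exists_smooth_emb (k := K) H
  exact ⟨E, h1, h2, j, h3, h4, h5, h6⟩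

end Groth.Agent.S18321
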