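import Groth.Statements.S18324
import Groth.Agent.StackSecLib.Main
import Groth.Agent.MultiSecLib.Global
import Groth.Agent.S16174

set_option autoImplicit false
set_option backward.isDefEq.respectTransparency false
set_option backward.isDefEq.respectTransparency.types false
universe u
open AlgSt

namespace Groth.Agent.S18324

open CategoryTheory AlgebraicGeometry in
/-- Let R be a Henselian local ring, S = Spec R, and 𝒵 an algebraic stack over (Sch/S) for the fppf
topology which is smooth over S (in the chart sense: a smooth surjective scheme chart U of 𝒵 and a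
smooth V → S with a smooth U → V compatible up to isomorphism) and whose diagonal 𝒵 → 𝒵 ×_{(Sch/S)}
𝒵 is separated (representable by algebraic spaces with closed-immersion relative diagonal). Then for
every ideal a ≠ R, with q : Spec (R/a) → S the closed immersion, the restriction functor 𝒵(R) →
𝒵(R/a) is essentially surjective: every functor z₀ : (Sch/Spec (R/a)) → 𝒵 over (Sch/S) is isomorphic
to the composite of (Sch/q) with some functor z : (Sch/S) → 𝒵 over (Sch/S). The source assumes only
that the fibre of the diagonal over the closed point is separated; the diagonal itself is taken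
separated here. -/
theorem result (R : Type u) [CommRing R]
    [HenselianLocalRing R] (𝒵 : AlgSt.Cat (Spec (CommRingCat.of R)))
    (h𝒵 : AlgSt.IsAlgStack Scheme.fppfPrecoverage 𝒵)
    (hsm : AlgSt.LocQ (AlgSp.LocP @Smooth) (FibCat.toSelf 𝒵))
    (hΔ : AlgSt.RepByAlgSpWith AlgSp.IsSeparatedMor (FibCat.diag (FibCat.toSelf 𝒵)))
    (a : Ideal R) (ha : a ≠ ⊤)
    (z₀ : FibCat.overCat (Over.mk (Spec.map (CommRingCat.ofHom (Ideal.Quotient.mk a)))) ⥤ᵇ 𝒵) :
    ∃ z : FibCat.overCat (Over.mk (𝟙 (Spec (CommRingCat.of R)))) ⥤ᵇ 𝒵,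
      Nonempty (BasedFunctor.comp (AlgSt.overMap (Over.homMk (Spec.map (CommRingCat.ofHom (Ideal.Quotient.mk a)))
        (Category.comp_id _) : Over.mk (Spec.map (CommRingCat.ofHom (Ideal.Quotient.mk a))) ⟶ Over.mk (𝟙 _))) z ≅ z₀) := by
  haveI := h𝒵.isStack.1
  have hst := StackSecLib.isStack_et_of_fppf h𝒵.isStack
  obtain ⟨U₀, V, a₀, y, h, -, ha₀, ha₀', hy, hh⟩ := hsm
  haveI : Smooth h.left := AlgSp.locP_yon_map hh
  haveI : Smooth V.hom := StackSecLib.smooth_hom_of_selfOver y hy
  have hU : Smooth U₀.hom := by rw [← Over.w h]; infer_instance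
  obtain ⟨ι, Z, P, -, -, hsmZ, hlift⟩ := StackSecLib.exists_henselian_charts hst h𝒵.diag ha₀ ha₀'
  haveI := Groth.Agent.S16174.henselian_quot a ha
  obtain ⟨i, g, ⟨Φ⟩⟩ := hlift (R ⧸ a) _ z₀
  haveI : Smooth (Z i).hom := hsmZ hU i
  obtain ⟨s, hs, hs'⟩ := MultiSecLib.exists_lift_of_smooth R a ha (Z i).hom g.left (Over.w g)
  let sO : Over.mk (𝟙 (Spec (CommRingCat.of R))) ⟶ Z i := Over.homMk s hs
  exact ⟨BasedFunctor.comp (AlgSt.overMap sO) (P i),
    ⟨(StackSecLib.nonempty_iso_restrict _ sO (Over.OverMorphism.ext hs') (P i)).some ≪≫ Φ⟩⟩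

end Groth.Agent.S18324
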