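import Groth.Statements.S18325
import Groth.Agent.MultiSecLib.Smooth
import Groth.Agent.AlgStLib.Inertia

set_option backward.isDefEq.respectTransparency false
set_option backward.isDefEq.respectTransparency.types false

set_option autoImplicit false
universe u
open AlgSt

namespace Groth.Agent.S18325

open CategoryTheory CategoryTheory.Limits AlgebraicGeometry FibCat FibLib AlgSp AlgSpLib AlgStLib

open CategoryTheory AlgebraicGeometry in
/-- Let S be a scheme, 𝒵 an algebraic stack over (Sch/S) for the fppf topology, Z an algebraic space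
over S and f : Z → 𝒵 a functor over (Sch/S) (from the category of points of Z) which is
representable by algebraic spaces and smooth. Let R be a Henselian local ring with residue field k =
R/m and structure morphism Spec R → S, let z : (Sch/Spec R) → 𝒵 be an object of 𝒵 over Spec R, and
let z₀' : h_{Spec k} → Z be a k-point of Z whose image under f is isomorphic, over (Sch/S), to the
restriction of z to Spec k. Then there is an R-point z' : h_{Spec R} → Z whose restriction to Spec k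
is z₀' and whose image under f is isomorphic to z over (Sch/S). -/
theorem result {S : Scheme.{u}} (𝒵 : AlgSt.Cat S)
    (h𝒵 : AlgSt.IsAlgStack Scheme.fppfPrecoverage 𝒵) (Z : AlgSp.Space S)
    (f : AlgSt.ofSp Z.obj ⥤ᵇ 𝒵) (hf : AlgSt.RepByAlgSpWith (AlgSp.LocP @Smooth) f)
    (R : Type u) [CommRing R] [HenselianLocalRing R] (str : Spec (CommRingCat.of R) ⟶ S)
    (z : FibCat.overCat (Over.mk str) ⥤ᵇ 𝒵)
    (z₀ : (AlgSp.yon S).obj (Over.mk ((Spec.map (CommRingCat.ofHom (IsLocalRing.residue R))) ≫ str)) ⟶ Z.obj)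
    (w : Nonempty (BasedFunctor.comp (BasedFunctor.comp (AlgSt.ofOverCat (Over.mk ((Spec.map (CommRingCat.ofHom (IsLocalRing.residue R))) ≫ str))) (AlgSt.ofSpMap z₀)) f ≅
      BasedFunctor.comp (AlgSt.overMap (Over.homMk (Spec.map (CommRingCat.ofHom (IsLocalRing.residue R))) rfl : Over.mk ((Spec.map (CommRingCat.ofHom (IsLocalRing.residue R))) ≫ str) ⟶ Over.mk str)) z)) :
    ∃ z' : (AlgSp.yon S).obj (Over.mk str) ⟶ Z.obj,
      (AlgSp.yon S).map (Over.homMk (Spec.map (CommRingCat.ofHom (IsLocalRing.residue R))) rfl : Over.mk ((Spec.map (CommRingCat.ofHom (IsLocalRing.residue R))) ≫ str) ⟶ Over.mk str) ≫ z' = z₀ ∧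
        Nonempty (BasedFunctor.comp (BasedFunctor.comp (AlgSt.ofOverCat (Over.mk str)) (AlgSt.ofSpMap z')) f ≅ z) := by
  have hm : IsLocalRing.maximalIdeal R ≠ ⊤ := (IsLocalRing.maximalIdeal.isMaximal R).ne_top
  haveI := isFibGrpd_of_isAlgStack h𝒵
  let Y : Over S := Over.mk str
  let Y₀ : Over S := Over.mk (Spec.map (CommRingCat.ofHom (IsLocalRing.residue R)) ≫ str)
  let j : Y₀ ⟶ Y := Over.homMk (Spec.map (CommRingCat.ofHom (IsLocalRing.residue R))) rfl
  let u : AlgSt.ofSch Y ⥤ᵇ 𝒵 := BasedFunctor.comp (AlgSt.toOverCat Y) z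
  obtain ⟨H, h, hH, ha, hsm⟩ := (repByAlgSpWith_iff _ f).mp hf Y u
  obtain ⟨e, he, ⟨β⟩⟩ := ha
  obtain ⟨w⟩ := w
  have ew : BasedFunctor.comp (Stk.ofPshMap ((yon S).map j).hom) u ≅
      BasedFunctor.comp (Stk.ofPshMap z₀.hom) f :=
    (whiskerLeftIso' (AlgSt.toOverCat Y₀) w).symm
  let L : AlgSt.ofSch Y₀ ⥤ᵇ fp u f := fpLift _ _ ew
  obtain ⟨E, -, -, ⟨ε⟩⟩ := exists_inverse he
  obtain ⟨σ⟩ := nonempty_iso_mapOf (BasedFunctor.comp L E)
  let s₀ : (yon S).obj Y₀ ⟶ H := ObjectProperty.homMk (mapOf (BasedFunctor.comp L E))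
  have eL : BasedFunctor.comp (Stk.ofPshMap s₀.hom) e ≅ L :=
    (whiskerRightIso' σ e).symm ≪≫ whiskerLeftIso' L ε
  have hs₀ : s₀ ≫ h = (yon S).map j := ObjectProperty.hom_ext _ (eq_of_iso_ofPshMap
    (eqToIso (ofPshMap_comp s₀.hom h.hom) ≪≫ whiskerLeftIso' (Stk.ofPshMap s₀.hom) β.symm ≪≫
      whiskerRightIso' eL (FibCat.fpFst u f) ≪≫ Iso.refl _))
  obtain ⟨s, hs₁, hs₂⟩ := MultiSecLib.exists_space_lift R (IsLocalRing.maximalIdeal R) hm str
    (Y₀ := Y₀) (j := j) rfl (Category.id_comp _) hH hsm s₀ hs₀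
  let G : AlgSt.ofSch Y ⥤ᵇ AlgSt.ofSp Z.obj :=
    BasedFunctor.comp (Stk.ofPshMap s.hom) (BasedFunctor.comp e (FibCat.fpSnd u f))
  obtain ⟨τ⟩ := nonempty_iso_mapOf G
  let z' : (yon S).obj Y ⟶ Z.obj := ObjectProperty.homMk (mapOf G)
  refine ⟨z', ObjectProperty.hom_ext _ (eq_of_iso_ofPshMap ?_), ⟨?_⟩⟩
  · exact eqToIso (ofPshMap_comp ((yon S).map j).hom z'.hom) ≪≫
      whiskerLeftIso' (Stk.ofPshMap ((yon S).map j).hom) τ.symm ≪≫
      whiskerRightIso' (eqToIso (by rw [← ofPshMap_comp]; exact congrArg (fun t => Stk.ofPshMap t.hom) hs₂) :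
        BasedFunctor.comp (Stk.ofPshMap ((yon S).map j).hom) (Stk.ofPshMap s.hom) ≅ Stk.ofPshMap s₀.hom)
        (BasedFunctor.comp e (FibCat.fpSnd u f)) ≪≫
      whiskerRightIso' eL (FibCat.fpSnd u f) ≪≫ Iso.refl _
  · have h1 : BasedFunctor.comp (Stk.ofPshMap z'.hom) f ≅ u :=
      whiskerRightIso' τ.symm f ≪≫
        whiskerLeftIso' (BasedFunctor.comp (Stk.ofPshMap s.hom) e) (fpIso u f).symm ≪≫
        whiskerLeftIso' (Stk.ofPshMap s.hom) (whiskerRightIso' β u) ≪≫
        whiskerRightIso' (eqToIso (by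
          rw [← ofPshMap_comp, ← ofPshMap_id]
          exact congrArg (fun t => Stk.ofPshMap t.hom) hs₁) :
          BasedFunctor.comp (Stk.ofPshMap s.hom) (Stk.ofPshMap h.hom) ≅ BasedFunctor.id _) u
    exact whiskerLeftIso' (AlgSt.ofOverCat Y) h1

end Groth.Agent.S18325
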