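import Groth.Statements.S18326
import Groth.Agent.StackSecLib.Main
import Groth.Agent.MultiSecLib.Global
import Groth.Agent.S16174

set_option autoImplicit false
set_option backward.isDefEq.respectTransparency false
set_option backward.isDefEq.respectTransparency.types false
universe u
open AlgSt

namespace Groth.Agent.S18326

open CategoryTheory AlgebraicGeometry in
/-- Let S be a scheme, 𝒵 an algebraic stack over (Sch/S) for the fppf topology whose diagonal 𝒵 → 𝒵
×_{(Sch/S)} 𝒵 is separated (representable by algebraic spaces with closed-immersion relative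
diagonal), and R a Henselian local ring with a structure morphism Spec R → S. Then there are a
scheme Z separated over S and a functor p : (Sch/Z) → 𝒵 over (Sch/S) which is representable by
algebraic spaces and smooth, such that for every ideal a of R (Spec (R/a) mapping to S through Spec
R) every functor (Sch/Spec (R/a)) → 𝒵 over (Sch/S) is isomorphic to (Sch/g) followed by p for some
S-morphism g : Spec (R/a) → Z. The source assumes only that the fibre of the diagonal over the image
of the closed point is separated; the diagonal itself is taken separated here. -/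
theorem result {S : Scheme.{u}} (𝒵 : AlgSt.Cat S)
    (h𝒵 : AlgSt.IsAlgStack Scheme.fppfPrecoverage 𝒵)
    (hΔ : AlgSt.RepByAlgSpWith AlgSp.IsSeparatedMor (FibCat.diag (FibCat.toSelf 𝒵)))
    (R : Type u) [CommRing R] [HenselianLocalRing R] (str : Spec (CommRingCat.of R) ⟶ S) :
    ∃ (Z : Over S) (p : FibCat.overCat Z ⥤ᵇ 𝒵), IsSeparated Z.hom ∧ AlgSt.RepByAlgSpWith (AlgSp.LocP @Smooth) p ∧
      ∀ (a : Ideal R) (x : FibCat.overCat (Over.mk (Spec.map (CommRingCat.ofHom (Ideal.Quotient.mk a)) ≫ str)) ⥤ᵇ 𝒵),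
        ∃ g : Over.mk (Spec.map (CommRingCat.ofHom (Ideal.Quotient.mk a)) ≫ str) ⟶ Z,
          Nonempty (BasedFunctor.comp (AlgSt.overMap g) p ≅ x) := by
  haveI := h𝒵.isStack.1
  have hst := StackSecLib.isStack_et_of_fppf h𝒵.isStack
  obtain ⟨U₀, a₀, ha₀, ha₀'⟩ := h𝒵.atlas
  obtain ⟨ι, Zi, Pi, hZ, hPi, -, hlift⟩ := StackSecLib.exists_henselian_charts hst h𝒵.diag ha₀ ha₀'
  haveI : ∀ i, IsSeparated (Zi i).hom := fun i => by
    haveI := hZ i
    exact MultiSecLib.isSeparated_hom_of_isAffine (Zi i)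
  obtain ⟨Z, c, P, hZs, hP, hc⟩ := StackSecLib.exists_sigma_chart hst h𝒵.diag Zi Pi hPi
  refine ⟨Z, P, hZs, hP, fun a x => ?_⟩
  by_cases ha : a = ⊤
  · haveI : Subsingleton (R ⧸ a) := Ideal.Quotient.subsingleton_iff.2 ha
    haveI : IsEmpty (Over.mk (Spec.map (CommRingCat.ofHom (Ideal.Quotient.mk a)) ≫ str)).left :=
      inferInstanceAs (IsEmpty (PrimeSpectrum (R ⧸ a)))
    let g : Over.mk (Spec.map (CommRingCat.ofHom (Ideal.Quotient.mk a)) ≫ str) ⟶ Z :=
      Over.homMk ((isInitialOfIsEmpty).to _) ((isInitialOfIsEmpty).hom_ext _ _)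
    exact ⟨g, StackSecLib.nonempty_iso_of_isEmpty hst _ _⟩
  · haveI := Groth.Agent.S16174.henselian_quot a ha
    obtain ⟨i, g, ⟨Φ⟩⟩ := hlift (R ⧸ a) _ x
    obtain ⟨ψ⟩ := hc i
    exact ⟨g ≫ c i, ⟨((StackSecLib.nonempty_iso_restrict g (c i) rfl P).some).symm ≪≫
      FibLib.whiskerLeftIso' (AlgSt.overMap g) ψ ≪≫ Φ⟩⟩

end Groth.Agent.S18326
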