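import Groth.Statements.S18329
import Groth.Agent.HopfFFLib.Idem
import Groth.Agent.ComodLib.Slices

set_option autoImplicit false
universe u
open TensorProduct
open SGA3

namespace Groth.Agent.S18329

open Groth.Agent.HopfFF

section aux

variable {k A : Type u} [Field k] [CommRing A] [HopfAlgebra k A]

/-- An intersection of sub-Hopf-algebras is a sub-Hopf-algebra. -/
theorem isSubHopf_inf {B C : Subalgebra k A} (hB : IsSubHopf k A B) (hC : IsSubHopf k A C) :
    IsSubHopf k A (B ⊓ C) := by
  refine ⟨fun x hx => ?_, fun x hx => ⟨hB.2 x hx.1, hC.2 x hx.2⟩⟩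
  have h1 := (ComodLib.mem_range_map_iff (Subalgebra.toSubmodule B) _).1 (hB.1 x hx.1)
  have h2 := (ComodLib.mem_range_map_iff (Subalgebra.toSubmodule C) _).1 (hC.1 x hx.2)
  refine (ComodLib.mem_range_map_iff (Subalgebra.toSubmodule (B ⊓ C)) _).2 ⟨?_, ?_⟩
  · rw [ComodLib.mem_range_rTensor_iff]
    exact fun f => ⟨(ComodLib.mem_range_rTensor_iff _ _).1 h1.1 f,
      (ComodLib.mem_range_rTensor_iff _ _).1 h2.1 f⟩
  · rw [ComodLib.mem_range_lTensor_iff]
    exact fun f => ⟨(ComodLib.mem_range_lTensor_iff _ _).1 h1.2 f,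
      (ComodLib.mem_range_lTensor_iff _ _).1 h2.2 f⟩

theorem isSubHopf_separable [IsAlgClosed k] (B₀ : Subalgebra k A)
    (hB₀ : ∀ a : A, a ∈ B₀ ↔ IsSeparable k a) : IsSubHopf k A B₀ := by
  have hidem : ∀ e : A, IsIdempotentElem e → e ∈ B₀ := fun e he =>
    (hB₀ e).2 (isSeparable_of_isIdempotentElem he)
  let R := LinearMap.range (TensorProduct.map B₀.val.toLinearMap B₀.val.toLinearMap)
  have hcomul : ∀ e : A, IsIdempotentElem e → CoalgebraStruct.comul (R := k) e ∈ R := by
    intro e he
    obtain ⟨A', heA, hfg, hA'⟩ := exists_fg_isSubHopf (k := k) e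
    have : Algebra.FiniteType k ↥A' := (Subalgebra.fg_iff_finiteType A').1 hfg
    have he' : IsIdempotentElem (⟨e, heA⟩ : ↥A') := Subtype.ext he
    obtain ⟨U, v, hU, hv, hsum⟩ := exists_idem_expansion (he'.map (δB hA'))
    have h1 := map_δB hA' ⟨e, heA⟩
    rw [hsum, map_sum] at h1
    show CoalgebraStruct.comul (R := k) ((⟨e, heA⟩ : ↥A') : A) ∈ R
    rw [← h1]
    exact Submodule.sum_mem _ fun u hu =>
      ⟨(⟨_, hidem _ ((hv u).map A'.val)⟩ : ↥B₀) ⊗ₜ[k] (⟨_, hidem _ ((hU u hu).map A'.val)⟩ : ↥B₀),
        rfl⟩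
  refine ⟨fun a ha => ?_, fun a ha => ?_⟩
  · obtain ⟨s, e, he, rfl⟩ := exists_idem_expansion_of_isSeparable ((hB₀ a).1 ha)
    rw [map_sum]
    exact Submodule.sum_mem _ fun c _ => by
      rw [map_smul]
      exact R.smul_mem c (hcomul _ (he c))
  · obtain ⟨s, e, he, rfl⟩ := exists_idem_expansion_of_isSeparable ((hB₀ a).1 ha)
    rw [map_sum]
    exact sum_mem fun c _ => by
      rw [map_smul]
      exact B₀.smul_mem (hidem _ ((he c).map (HopfAlgebra.antipodeAlgHom k A))) c

end aux

/-- Let k be an algebraically closed field of prime characteristic p and A a commutative Hopf algebra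
over k, the coordinate ring of an affine k-group G, quotient groups of G being read as
sub-Hopf-algebras of A (subalgebras stable under comultiplication and antipode). Let B₀ be the
subalgebra of elements of A that are separable over k (its spectrum is the group of connected
components π₀(G)) and let C be the largest cocommutative sub-Hopf-algebra of A (its spectrum is the
largest commutative quotient group G_ab). Then B₀ ⊓ C, whose spectrum is π₀(G_ab), is the largest
cocommutative sub-Hopf-algebra of A contained in B₀, whose spectrum is the largest commutative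
quotient of π₀(G): the canonical homomorphism from π₀(G_ab) to (π₀(G))_ab is an isomorphism. (The
abelianization is rendered through its universal property among affine quotient groups, as the
largest cocommutative sub-Hopf-algebra, rather than as the quotient by the derived subgroup.) -/
theorem result (k A : Type u) [Field k] [IsAlgClosed k]
    (p : ℕ) [Fact p.Prime] [CharP k p] [CommRing A] [HopfAlgebra k A]
    (B₀ : Subalgebra k A) (hB₀ : ∀ a : A, a ∈ B₀ ↔ IsSeparable k a)
    (C : Subalgebra k A) (hC : SGA3.IsHopfSubalgebra k A C)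
    (hCc : ∀ c ∈ C, TensorProduct.comm k A A (Coalgebra.comul c) = Coalgebra.comul c)
    (hCmax : ∀ D : Subalgebra k A, SGA3.IsHopfSubalgebra k A D →
      (∀ d ∈ D, TensorProduct.comm k A A (Coalgebra.comul d) = Coalgebra.comul d) → D ≤ C) :
    IsGreatest {D : Subalgebra k A | SGA3.IsHopfSubalgebra k A D ∧
      (∀ d ∈ D, TensorProduct.comm k A A (Coalgebra.comul d) = Coalgebra.comul d) ∧ D ≤ B₀}
      (B₀ ⊓ C) := by
  refine ⟨⟨isSubHopf_inf (isSubHopf_separable B₀ hB₀) hC, fun d hd => hCc d hd.2, inf_le_left⟩,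
    fun D hD => le_inf hD.2.2 (hCmax D hD.1 hD.2.1)⟩

end Groth.Agent.S18329
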