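import Groth.Statements.S18330
import Groth.Agent.LatticeFormsLib.Main

set_option autoImplicit false
set_option backward.isDefEq.respectTransparency false
set_option backward.isDefEq.respectTransparency.types false
set_option maxHeartbeats 1000000
set_option synthInstance.maxHeartbeats 400000
open CAlg

namespace Groth.Agent.S18330

/-- Let r ≥ 1, let δ ≥ 0 and g be integers with δ dividing 2(g - 1), and let d be a vector of ℤ^r whose
coordinates have non-negative gcd D (its divisibility). For a symmetric bilinear form b on ℤ^r the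
map x ↦ b(d, x) + (1 - g) b(x, x) taken modulo δ is additive (because δ divides 2(g - 1)); let H be
the subgroup of Hom(ℤ^r, ℤ/δℤ) generated by all such maps. Then the quotient of Hom(ℤ^r, ℤ/δℤ) by H
is isomorphic to ℤ/gcd(δ, D + 1 - g) × (ℤ/gcd(δ, g - 1, D))^(r-1) (existence of an isomorphism of
abelian groups; for δ = 0 read ℤ/0ℤ = ℤ). (The published corollary is a statement about the cokernel
of the weight homomorphism on the Picard group of the rigidified stack of T-bundles of degree d on a
family of curves of genus g with invariant δ; this row is the lattice computation that its printed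
proof carries out, the divisibility δ ∣ 2g - 2 being the standing property of that invariant.) -/
theorem result
    (r : ℕ) (hr : 0 < r) (δ : ℕ) (g : ℤ) (hδ : (δ : ℤ) ∣ 2 * (g - 1))
    (d : Fin r → ℤ) :
    Nonempty ((((Fin r → ℤ) →+ ZMod δ) ⧸ AddSubgroup.closure
      {φ : (Fin r → ℤ) →+ ZMod δ | ∃ b : LinearMap.BilinForm ℤ (Fin r → ℤ), b.IsSymm ∧
      ∀ x, φ x = ((b d x + (1 - g) * b x x : ℤ) : ZMod δ)}) ≃+
      (ZMod (Int.gcd δ (Finset.univ.gcd d + 1 - g)) ×
        (Fin (r - 1) → ZMod (Int.gcd δ (Int.gcd (g - 1) (Finset.univ.gcd d)))))) := by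
  obtain ⟨s, rfl⟩ : ∃ s, r = s + 1 := ⟨r - 1, by omega⟩
  obtain ⟨B, hB⟩ := LatticeFormsLib.exists_basis_gcd s d
  rw [LatticeFormsLib.closure_boundaryForms δ g hδ d B _ hB]
  have hg : Int.gcd (Finset.univ.gcd d) (1 - g) = Int.gcd (g - 1) (Finset.univ.gcd d) := by
    rw [Int.gcd_comm (g - 1), show (1 - g) = -(g - 1) by ring, Int.gcd_neg]
  rw [hg, show s + 1 - 1 = s from Nat.add_sub_cancel s 1]
  obtain ⟨π, hπ, hker⟩ := LatticeFormsLib.quotient_zmultiples_equiv δ (Finset.univ.gcd d + 1 - g)
  obtain ⟨ρ, hρ, hkerρ⟩ := LatticeFormsLib.quotient_zmultiples_equiv δ ((Int.gcd (g - 1) (Finset.univ.gcd d) : ℕ) : ℤ)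
  let F := (π.prodMap (AddMonoidHom.compLeft ρ (Fin s))).comp (LatticeFormsLib.coords δ B).toAddMonoidHom
  have hρ' : Function.Surjective (AddMonoidHom.compLeft ρ (Fin s)) := fun v =>
    ⟨fun j => (hρ (v j)).choose, funext fun j => (hρ (v j)).choose_spec⟩
  have hF : Function.Surjective F :=
    ((Prod.map_surjective.2 ⟨hπ, hρ'⟩).comp (LatticeFormsLib.coords δ B).surjective : )
  refine ⟨(QuotientAddGroup.quotientAddEquivOfEq ?_).trans (QuotientAddGroup.quotientKerEquivOfSurjective F hF)⟩
  ext φ
  rw [← hker, ← hkerρ]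
  simp [F, AddSubgroup.mem_prod, AddSubgroup.mem_pi, Prod.ext_iff, funext_iff]
  constructor
  · intro h; exact ⟨_, _, h, by simp⟩
  · rintro ⟨a, b, h, rfl⟩; simpa using h

end Groth.Agent.S18330
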