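import Groth.Statements.S18331
import Groth.Agent.LatticeFormsLib.Main

set_option autoImplicit false
set_option backward.isDefEq.respectTransparency false
set_option backward.isDefEq.respectTransparency.types false
set_option maxHeartbeats 1000000
set_option synthInstance.maxHeartbeats 400000
open CAlg

namespace Groth.Agent.S18331

/-- Let r ≥ 1, let δ ≥ 1 and g be integers with δ dividing 2(g - 1), and let d be a vector of ℤ^r whose
coordinates have non-negative gcd D. Let H be the subgroup of Hom(ℤ^r, ℤ/δℤ) generated by the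
additive maps x ↦ b(d, x) + (1 - g) b(x, x) modulo δ, for b a symmetric bilinear form on ℤ^r. Then H
is isomorphic to ℤ/(δ/gcd(δ, D + 1 - g)) × (ℤ/(δ/gcd(δ, g - 1, D)))^(r-1) (existence of an
isomorphism of abelian groups). (The published corollary states this as the structure of the
cokernel of the class map to the Neron-Severi lattice for the rigidified stack of T-bundles of
degree d on a family of curves of genus g with invariant δ > 0; this row is the lattice computation
that its printed proof carries out.) -/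
theorem result
    (r : ℕ) (hr : 0 < r) (δ : ℕ) (hδ0 : 0 < δ) (g : ℤ) (hδ : (δ : ℤ) ∣ 2 * (g - 1))
    (d : Fin r → ℤ) :
    Nonempty (AddSubgroup.closure
      {φ : (Fin r → ℤ) →+ ZMod δ | ∃ b : LinearMap.BilinForm ℤ (Fin r → ℤ), b.IsSymm ∧
      ∀ x, φ x = ((b d x + (1 - g) * b x x : ℤ) : ZMod δ)} ≃+
      (ZMod (δ / Int.gcd δ (Finset.univ.gcd d + 1 - g)) ×
        (Fin (r - 1) → ZMod (δ / Int.gcd δ (Int.gcd (g - 1) (Finset.univ.gcd d)))))) := by
  obtain ⟨s, rfl⟩ : ∃ s, r = s + 1 := ⟨r - 1, by omega⟩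
  obtain ⟨B, hB⟩ := LatticeFormsLib.exists_basis_gcd s d
  rw [LatticeFormsLib.closure_boundaryForms δ g hδ d B _ hB]
  have hg : Int.gcd (Finset.univ.gcd d) (1 - g) = Int.gcd (g - 1) (Finset.univ.gcd d) := by
    rw [Int.gcd_comm (g - 1), show (1 - g) = -(g - 1) by ring, Int.gcd_neg]
  rw [hg, show s + 1 - 1 = s from Nat.add_sub_cancel s 1]
  obtain ⟨e₁⟩ := LatticeFormsLib.zmultiples_equiv δ hδ0 (Finset.univ.gcd d + 1 - g)
  obtain ⟨e₂⟩ := LatticeFormsLib.zmultiples_equiv δ hδ0 ((Int.gcd (g - 1) (Finset.univ.gcd d) : ℕ) : ℤ)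
  refine ⟨?_⟩
  refine AddEquiv.trans ?_ (e₁.prodCongr (AddEquiv.piCongrRight fun _ : Fin s => e₂))
  exact
    { toFun := fun φ => (⟨_, (AddSubgroup.mem_prod.1 φ.2).1⟩,
        fun j => ⟨_, (AddSubgroup.mem_prod.1 φ.2).2 j (Set.mem_univ j)⟩)
      invFun := fun p => ⟨(LatticeFormsLib.coords δ B).symm (p.1.1, fun j => (p.2 j).1), by
        refine AddSubgroup.mem_comap.2 ?_
        change (LatticeFormsLib.coords δ B) ((LatticeFormsLib.coords δ B).symm _) ∈ _
        rw [AddEquiv.apply_symm_apply]
        exact AddSubgroup.mem_prod.2 ⟨p.1.2, fun j _ => (p.2 j).2⟩⟩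
      left_inv := fun φ => Subtype.ext ((LatticeFormsLib.coords δ B).symm_apply_apply φ.1)
      right_inv := fun p => by
        ext <;> simp
      map_add' := fun φ ψ => rfl }

end Groth.Agent.S18331
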