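import Groth.Statements.S1834
import Mathlib
import Groth.Agent.TameLib.Main
-- import your own Groth.Agent.* helpers here

set_option autoImplicit false
universe u
open CycAlg

namespace Groth.Agent.S1834

/-- Let R be a Noetherian local ring of dimension 1 and a, b nonzerodivisors. There is a finite
extension ring R ⊆ R' with R'/R killed by a power of the maximal ideal, and nonzerodivisors t, a',
b' of R' with a = t a', b = t b' and (a', b') the unit ideal of R'. -/
theorem result (R : Type u) [CommRing R] [IsNoetherianRing R] [IsLocalRing R] (hR : ringKrullDim R = 1) (a b : R) (ha : a ∈ nonZeroDivisors R) (hb : b ∈ nonZeroDivisors R) : ∃ (R' : Type u) (_ : CommRing R') (_ : Algebra R R'), CycAlg.IsFinExt R R' (IsLocalRing.maximalIdeal R) ∧ ∃ t a' b' : R', t ∈ nonZeroDivisors R' ∧ a' ∈ nonZeroDivisors R' ∧ b' ∈ nonZeroDivisors R' ∧ algebraMap R R' a = t * a' ∧ algebraMap R R' b = t * b' ∧ Ideal.span {a', b'} = ⊤ := by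
  haveI : Ring.KrullDimLE 1 R := Ring.krullDimLE_iff.2 (le_of_eq hR)
  haveI : Module.Finite R (⊥ : Subalgebra R (TameLib.Tot R)) := Module.Finite.iff_fg.2 Subalgebra.fg_bot_toSubmodule
  have hau := TameLib.isUnit_map a ha
  have hbu := TameLib.isUnit_map b hb
  obtain ⟨C, -, hC, t, a', b', htu, hat, hbt, hab⟩ :=
    TameLib.exists_common_factor (⊥ : Subalgebra R (TameLib.Tot R)) (Algebra.mem_bot.2 ⟨a, rfl⟩)
      (Algebra.mem_bot.2 ⟨b, rfl⟩) hau
  refine ⟨C, inferInstance, inferInstance, TameLib.isFinExt_subalgebra C, t, a', b',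
    TameLib.mem_nonZeroDivisors_of_isUnit t htu, TameLib.mem_nonZeroDivisors_of_isUnit a' ?_,
    TameLib.mem_nonZeroDivisors_of_isUnit b' ?_, Subtype.ext hat, Subtype.ext hbt, hab⟩
  · rw [hat, Subalgebra.coe_mul] at hau; exact isUnit_of_mul_isUnit_right hau
  · rw [hbt, Subalgebra.coe_mul] at hbu; exact isUnit_of_mul_isUnit_right hbu

end Groth.Agent.S1834
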