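import Groth.Statements.S18340
import Groth.Agent.ApproxLib.ColimFPAlg
import Groth.Agent.ApproxLib.EtaleHom
import Groth.Agent.S0600
import Groth.Agent.S0599
import Groth.Agent.S0598

set_option autoImplicit false
universe u
open ArtinApx

namespace Groth.Agent.S18340

open CategoryTheory in
/-- Let k be an algebraically closed field, A a finitely generated k-algebra with a maximal ideal m (a
k-point of Spec A), F a functor from commutative A-algebras to sets which preserves filtered
colimits, and ξ an element of F(Â), Â the m-adic completion of A. Then for every natural number N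
there are an étale A-algebra A′, a surjective A-algebra homomorphism ψ : A′ → A/m^(N+1) and an
element ξ′ of F(A′) whose image under F(ψ) is the image of ξ under F of the canonical map Â →
A/m^(N+1). (Affine form of the statement for limit-preserving functors on schemes over a finite-type
k-scheme S with a k-point s: Spec A′ is the étale neighbourhood of s, the kernel of ψ is the
(N+1)-st power of the maximal ideal of the point above s, and the equation says that ξ′ and ξ agree
to order N.) -/
theorem result (k : Type u) [Field k] [IsAlgClosed k]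
    (A : Type u) [CommRing A] [Algebra k A] [Algebra.FiniteType k A] (m : Ideal A) [m.IsMaximal]
    (F : CommAlgCat.{u} A ⥤ Type u) [Limits.PreservesFilteredColimits F]
    (ξ : F.obj (CommAlgCat.of A (AdicCompletion m A))) (N : ℕ) :
    ∃ (A' : Type u) (_ : CommRing A') (_ : Algebra A A') (_ : Algebra.Etale A A')
      (ψ : A' →ₐ[A] (A ⧸ m ^ (N + 1))) (_ : Function.Surjective ψ) (ξ' : F.obj (CommAlgCat.of A A')),
      F.map (CommAlgCat.ofHom ψ) ξ' =
        F.map (CommAlgCat.ofHom (AdicCompletion.evalₐ m (N + 1))) ξ := by
  have hk : CAlg.IsGRing k := by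
    have : IsAdicComplete (IsLocalRing.maximalIdeal k) k := by
      rw [IsLocalRing.maximalIdeal_eq_bot]; infer_instance
    exact Groth.Agent.S0598.result k
  have hG : CAlg.IsGRing A := Groth.Agent.S0599.result k hk A
  have hA : IsNoetherianRing A := hG.1
  let T := AdicCompletion m A
  have hfg : m.FG := IsNoetherian.noetherian m
  have : IsNoetherianRing T := AdicRingLib.isNoetherianRing_adicCompletion m
  have hmax : (m.map (algebraMap A T)).IsMaximal := AdicCompletion.isMaximal_map_of_le _ _ le_rfl hfg
  have hcpl : IsAdicComplete (m.map (algebraMap A T)) T := AdicCompletion.isAdicComplete_self _ hfg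
  have hloc : IsLocalRing T := isLocalRing_of_isAdicComplete_maximal (m.map (algebraMap A T))
  have hmT : IsLocalRing.maximalIdeal T = m.map (algebraMap A T) := (IsLocalRing.eq_maximalIdeal hmax).symm
  have : IsAdicComplete (IsLocalRing.maximalIdeal T) T := by rw [hmT]; exact hcpl
  have hind : Smoothing.IndSmooth A T := TransLib.indSmooth_of_isRegularHom (Groth.Agent.S0600.result A hG m)
  have hdense : ∀ (y : T) (e : ℕ), ∃ r s : A, IsUnit (algebraMap A T s) ∧
      algebraMap A T s * y - algebraMap A T r ∈ IsLocalRing.maximalIdeal T ^ e := fun y e => by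
    obtain ⟨r, hr⟩ := AdicRingLib.exists_sub_mem_map_pow hfg e y
    refine ⟨r, 1, by rw [map_one]; exact isUnit_one, ?_⟩
    rw [map_one, one_mul, hmT, ← Ideal.map_pow]
    exact hr
  obtain ⟨D, _, _, _, f, x, hx⟩ := ApproxLib.exists_fp_lift_alg F T ξ
  obtain ⟨A', _, _, hA', ψ, g, hg⟩ := ApproxLib.exists_etale_approx_hom hind hdense f (N + 1)
  refine ⟨A', inferInstance, inferInstance, hA', (AdicCompletion.evalₐ m (N + 1)).comp ψ, fun z => ?_,
    F.map (CommAlgCat.ofHom g) x, ?_⟩
  · obtain ⟨a, rfl⟩ := Ideal.Quotient.mk_surjective z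
    refine ⟨algebraMap A A' a, ?_⟩
    rw [AlgHom.commutes]
    rfl
  rw [← hx, ← FunctorToTypes.map_comp_apply, ← FunctorToTypes.map_comp_apply, ← CommAlgCat.ofHom_comp,
    ← CommAlgCat.ofHom_comp]
  refine congrArg (fun e => F.map (CommAlgCat.ofHom e) x) (AlgHom.ext fun b => (sub_eq_zero.1 ?_).symm)
  show AdicCompletion.evalₐ m (N + 1) (f b) - AdicCompletion.evalₐ m (N + 1) (ψ (g b)) = 0
  rw [← map_sub]
  have h := hg b
  rw [hmT, ← Ideal.map_pow] at h
  refine (Ideal.map_le_iff_le_comap (K := RingHom.ker (AdicCompletion.evalₐ m (N + 1)).toRingHom)).2 (fun z hz => ?_) h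
  show AdicCompletion.evalₐ m (N + 1) (algebraMap A T z) = 0
  rw [AlgHom.commutes, Ideal.Quotient.algebraMap_eq, Ideal.Quotient.eq_zero_iff_mem]
  exact hz

end Groth.Agent.S18340
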