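import Groth.Statements.S18341
import Groth.Agent.InertiaFinLib.Finite
import Groth.Agent.S10540

set_option backward.isDefEq.respectTransparency false
set_option backward.isDefEq.respectTransparency.types false

set_option autoImplicit false
universe u
open AlgSt

namespace Groth.Agent.S18341

open CategoryTheory CategoryTheory.Functor CategoryTheory.Limits AlgebraicGeometry FibCat FibLib AlgSp AlgSpLib AlgStLib

open CategoryTheory AlgebraicGeometry in
/-- Let 𝒳 be an algebraic stack over a scheme S, locally of finite presentation over S, whose diagonal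
over S is quasi-compact, separated and locally quasi-finite. Suppose that every point of 𝒳 is in the
image of a representable, quasi-compact, étale morphism h : 𝒰 → 𝒳 from an S-separated algebraic
stack 𝒰 which admits a finite locally free surjection from a scheme, such that for every
algebraically closed field Ω and every object u of 𝒰 over Spec Ω the injective map from the
automorphism group of u to that of h(u) is surjective. Then the inertia of 𝒳 over S is finite over
𝒳. (The remark states this as a criterion, an equivalence; only this implication is stated here.) -/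
theorem result (S : Scheme.{u}) (𝒳 : AlgSt.Cat S)
    (h𝒳 : AlgSt.IsAlgStack Scheme.fppfPrecoverage 𝒳)
    (hΔ : AlgSt.RepByAlgSpWith (AlgSp.IsSeparatedMor ⊓ AlgSp.IsQuasiCompactMor) (FibCat.diag (FibCat.toSelf 𝒳)))
    (hqf : AlgSt.IsQuasiDMOver 𝒳)
    (hfp : AlgSt.LocQ (AlgSp.LocP @LocallyOfFinitePresentation) (FibCat.toSelf 𝒳))
    (hloc : ∀ x : AlgSt.Points 𝒳, ∃ (𝒰 : AlgSt.Cat S) (h : 𝒰 ⥤ᵇ 𝒳),
      AlgSt.IsAlgStack Scheme.fppfPrecoverage 𝒰 ∧ x ∈ Set.range (AlgSt.Points.map h) ∧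
      AlgSt.RepByAlgSpWith (AlgSp.IsEtaleMor ⊓ AlgSp.IsQuasiCompactMor) h ∧ AlgSt.IsSeparatedOver 𝒰 ∧
      (∃ (Z : Over S) (z : FibCat.overCat Z ⥤ᵇ 𝒰), AlgSt.RepByAlgSpWith
        (AlgSp.IsFiniteMor ⊓ AlgSp.LocP (@Flat ⊓ @LocallyOfFinitePresentation) ⊓ AlgSp.IsSurjectiveMor) z) ∧
      ∀ (Ω : Type u) [Field Ω] [IsAlgClosed Ω] (t : Spec (CommRingCat.of Ω) ⟶ S) (u : 𝒰.p.Fiber (Over.mk t)),
        Function.Surjective (Gerb.autMap h u.1)) :
    AlgSt.RepByAlgSpWith AlgSp.IsFiniteMor (FibCat.inertiaToBase (FibCat.toSelf 𝒳)) := by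
  haveI := isFibGrpd_of_isAlgStack h𝒳
  haveI := isFibGrpd_of_repByAlgSp (repByAlgSp_selfOver (S := S))
  haveI : IsFibGrpd (fp (toSelf 𝒳) (toSelf 𝒳)).p := isFibGrpd_fp
  haveI : IsFibGrpd (inertia (toSelf 𝒳)).p :=
    FibLib.isFibGrpd_inertia (FibLib.preservesStronglyCartesian_of_isFibGrpd _)
  let I := inertiaToBase (toSelf 𝒳)
  have hI : AlgSt.RepByAlgSpWith (LocP (@LocallyQuasiFinite ⊓ @LocallyOfFiniteType)) I :=
    (repByAlgSpWith_inertiaToBase_iff (toSelf 𝒳) _).mpr (repByAlgSpWith_fpFst _ _ hqf)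
  refine repByAlgSpWith_of_forall (repByAlgSp1_of_with hI) fun T u H a hH ha => ?_
  have hT := IsAlgSpace.yon_obj (S := S) T
  have key : ∀ t : T.left, ∃ (W : Sp S) (c : W ⟶ (yon S).obj T), IsAlgSpace W ∧ IsEtaleMor c ∧
      AlgSp.Points.schemeHomeo T t ∈ Set.range (AlgSp.Points.map c) ∧
      IsFiniteMor (pullback.snd a c) := by
    intro t
    obtain ⟨𝒰, h, h𝒰, hx, hh, hsep, -, hsurj⟩ := hloc (ptMap u (AlgSp.Points.schemeHomeo T t))
    haveI := isFibGrpd_of_isAlgStack h𝒰
    have he : AlgSt.RepByAlgSpWith IsEtaleMor h := repByAlgSpWith_mono (fun _ _ _ _ _ k => k.1) hh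
    obtain ⟨W, c, hW, hc, hc₁⟩ := (repByAlgSpWith_iff _ h).mp he T u
    obtain ⟨v₀, hv₀⟩ := preimage_image_along hc
    have hy : AlgSp.Points.schemeHomeo T t ∈ ptMap u ⁻¹' (AlgSt.Points.map h '' Set.univ) := by
      rw [Set.image_univ]; exact hx
    rw [hv₀] at hy
    obtain ⟨w, -, hw⟩ := hy
    refine ⟨W, c, hW, hc₁, ⟨w, hw⟩, ?_⟩
    haveI : IsFibGrpd (fp h I).p := isFibGrpd_fp
    obtain ⟨e, he', ⟨β⟩⟩ := hc
    let v : AlgSt.ofSp W ⥤ᵇ 𝒰 := BasedFunctor.comp e (FibCat.fpSnd u h)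
    have hv : BasedFunctor.comp v h ≅ BasedFunctor.comp (Stk.ofPshMap c.hom) u :=
      (whiskerLeftIso' e (fpIso u h)).symm ≪≫ whiskerRightIso' β u
    obtain ⟨H', a', hH', ha', hP'⟩ := exists_along_test good_finite.bc good_finite.test
      (InertiaFinLib.repByAlgSpWith_fpFst_inertia he hsurj hsep hI) hW v
    obtain ⟨i, hi⟩ := along_hom_unique
      (ha.of_isPullback (isPullback_sheaf (IsPullback.of_hasPullback a c)))
      ((Along.of_fpFst ha').congr hv (Iso.refl _))
    rw [← hi]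
    exact good_finite.bc.precomp_iso i a' hH' hW hP'
  choose W c hW hc ht hfin using key
  refine (isLocalOnBase_fppf_of_fpqc (Groth.Agent.S10540.result S) W c hT hW
    ⟨fun t => ⟨locP_flat_of_smooth (locP_smooth_of_isEtaleMor (hc t)),
        locP_lfp_of_smooth (locP_smooth_of_isEtaleMor (hc t))⟩, fun y => ?_⟩
    a hH _ (fun t => pullback.snd a (c t)) (fun t => pullback.fst a (c t))
    (fun t => isAlgSpace_pullback hH (hW t) hT a (c t))
    (fun t => IsPullback.of_hasPullback a (c t))).mpr hfin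
  obtain ⟨t, rfl⟩ := (AlgSp.Points.schemeHomeo T).surjective y
  exact ⟨t, ht t⟩

end Groth.Agent.S18341
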