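import Groth.Statements.S18342
import Groth.Agent.HomSplitLib.Split
import Groth.Agent.GenusOneSSLib.Main
import Groth.Agent.LMLib.Duality
import Groth.Agent.S1611
-- import your own Groth.Agent.* helpers here

set_option autoImplicit false
set_option maxHeartbeats 1000000
set_option backward.isDefEq.respectTransparency false
universe u
open CategoryTheory CategoryTheory.Limits AlgebraicGeometry
open VBCurve

namespace Groth.Agent.S18342

/-- Let k be an algebraically closed field of characteristic zero and X a smooth proper geometrically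
connected curve over k (topological dimension one) of genus g ≥ 2. Let E be a finite locally free
O_X-module of rank r ≥ 1 and degree 0, and F a finite locally free O_X-module of rank n ≥ 1 and
degree n(g − 1), degrees being χ − rank · χ(O_X). If every morphism E → F is zero, then E is
slope-semistable: deg G · r ≤ 0 for every finite locally free submodule G of E of positive rank. The
published statement concerns quasi-parabolic bundles of rank r with trivial determinant and flags at
a finite set of points, and says that for n ≥ ⌈r²/4⌉ the closed substack of bundles that are not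
semistable for a given system of weights is the base locus of the parabolic theta functions of order
n, these being attached to semistable F; this row is one inclusion of it (a bundle at which the
theta function of some F does not vanish is semistable) for a single bundle with no parabolic
points, for every n ≥ 1 and every F of the stated rank and degree, with degree 0 in place of trivial
determinant, and with the vanishing of Hom(E, F) in place of the vanishing of both Hom(E, F) and
Ext^1(E, F). -/
theorem result (k : Type u) [Field k] [IsAlgClosed k] [CharZero k]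
    (X : Scheme.{u}) [X.Over (Spec (CommRingCat.of k))]
    [IsProper (X ↘ Spec (CommRingCat.of k))] [Smooth (X ↘ Spec (CommRingCat.of k))]
    [GeometricallyConnected (X ↘ Spec (CommRingCat.of k))] (hdim : topologicalKrullDim ↥X = 1)
    (g : ℕ) (hg : Curv2.genus k X = g) (hg2 : 2 ≤ g)
    (E : X.Modules) (r : ℕ) (hr : 0 < r) (hE : FlatMod.IsFinLocFreeOfRank r E)
    (hEdeg : Curv2.deg k X E r = 0)
    (F : X.Modules) (n : ℕ) (hn : 0 < n) (hF : FlatMod.IsFinLocFreeOfRank n F)
    (hFdeg : Curv2.deg k X F n = (n : ℤ) * ((g : ℤ) - 1))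
    (hhom : ∀ φ : E ⟶ F, φ = 0) :
    ModFun.IsSlopeSemistable k X E r := by
  haveI := CurvLib.isNoetherian k (X := X)
  haveI : IsIntegral X := CurveVBLib.isIntegral_of_smooth_geomConnected k
  haveI := FibVALib.geometricallyIntegral_of_geometricallyConnected (X ↘ Spec (CommRingCat.of k))
  have h00 := FibVALib.finrank_h0_structure k X hdim
  intro G r' i hi hr' hG
  haveI := hi
  by_contra hcon
  obtain ⟨E₁, r₁, i₁, hi₁, hr₁, hE₁, hmax, -, hquot⟩ := CurveVBLib.exists_destab (k := k) hdim hE hr
  haveI := hi₁
  have hpos : 0 < Curv2.deg k X E₁ r₁ := by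
    have h1 := hmax G r' i hi hr' hG
    have h2 : 0 < Curv2.deg k X G r' := by
      by_contra h3
      apply hcon
      rw [hEdeg, zero_mul]
      exact mul_nonpos_of_nonpos_of_nonneg (not_lt.1 h3) (Int.natCast_nonneg r)
    have h3 : 0 < Curv2.deg k X E₁ r₁ * (r' : ℤ) :=
      lt_of_lt_of_le (mul_pos h2 (by exact_mod_cast hr₁)) h1
    exact pos_of_mul_pos_left h3 (Int.natCast_nonneg _)
  obtain ⟨hQ, -⟩ := HomSplitLib.destab_quotient (k := k) hdim hE i₁ hr₁ hE₁ hmax hquot
  obtain ⟨-, hQc, -, hdg, -⟩ := CurveVBLib.sub_data (k := k) hdim hE i₁ (CurvLib.isCoh_of_locFree hE₁)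
  rw [← CurveVBLib.deg_eq_dg hE, hEdeg, ← CurveVBLib.deg_eq_dg hE₁, ← CurveVBLib.deg_eq_dg hQ] at hdg
  generalize hq : CurvLib.genRank (cokernel i₁) = q at hQ hdg
  -- a projective embedding
  obtain ⟨L, hL, hLd⟩ := GenusOneSSLib.exists_invertible_deg (k := k) hdim (2 * (Curv2.genus k X : ℤ) + 1)
  obtain ⟨N, ι, hι, hιk, -⟩ := Groth.Agent.S1611.result k X hdim h00 L hL hLd.ge
  haveI := hι
  have hd := LMLib.deg_du_curve k ι hιk hdim hQ
  obtain ⟨e⟩ := LMLib.exists_homMod_iso_tensor (CurveVBLib.isFinLocFree_of_rank hQ) F
  have hχ : Curv2.euler k X (CohB1.tensorMod (ChernOpLib.du (cokernel i₁)) F) = _ :=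
    (CurvLib.eulerTensorFormula_of_isCoh (k := k) hdim (CycTopLib.rank_du hQ) F (CurvLib.isCoh_of_locFree hF)).2
  rw [hd, CurveVBLib.genRank_eq hF, ← CurvLib.euler_congr (k := k) e] at hχ
  have hO : Curv2.euler k X (Coh.structureModule X) = 1 - (g : ℤ) := by
    rw [CurvLib.euler_curve hdim, h00, ← hg]
    rfl
  have hF' : Curv2.euler k X F = 0 := by
    rw [Curv2.deg, hO] at hFdeg
    linarith
  rw [hF', mul_zero, add_zero] at hχ
  have hχpos : 0 < Curv2.euler k X (CohCmpLib.homMod (cokernel i₁) F) := by
    rw [hχ]
    exact mul_pos (by exact_mod_cast hn) (by linarith)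
  have h0pos : 0 < Module.finrank k (Coh.HH X (CohCmpLib.homMod (cokernel i₁) F) 0) := by
    rw [CurvLib.euler_curve hdim] at hχpos
    omega
  haveI := Module.nontrivial_of_finrank_pos h0pos
  obtain ⟨y, hy⟩ := exists_ne (0 : Coh.HH X (CohCmpLib.homMod (cokernel i₁) F) 0)
  let t := DegPullLib.e0 (CohCmpLib.homMod (cokernel i₁) F) y
  have ht : t ≠ 0 := fun h => hy ((DegPullLib.e0 _).injective (h.trans (map_zero _).symm))
  have h0 : Formal2VBLib.sh t = 0 := by
    rw [← cancel_epi (cokernel.π i₁), comp_zero]
    exact hhom _
  apply ht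
  rw [← Formal2VBLib.oh_sh t, h0]
  exact CohCmpLib.homMod_ext fun y _ => LinearMap.ext fun a => by
    simp [Formal2VBLib.oh]
    rfl

end Groth.Agent.S18342
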