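import Groth.Statements.S18343
import Groth.Agent.ChevLib.Basic
import Mathlib
-- import your own Groth.Agent.* helpers here

set_option autoImplicit false
universe u
open CategoryTheory CategoryTheory.Limits AlgebraicGeometry
open MultCurve

namespace Groth.Agent.S18343
set_option linter.all false
theorem surj_alg {A B C : Type u} [CommRing A] [CommRing B] [CommRing C] (φ : A →+* B) (π : B →+* C)
    (I : Ideal A) (hs : Function.Surjective (π.comp φ)) (hk : RingHom.ker π = I.map φ)
    (hsq : RingHom.ker π * RingHom.ker π = ⊥) : Function.Surjective φ := by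
  have hJ : ∀ j ∈ I.map φ, j ∈ φ.range := by
    intro j hj
    refine Submodule.span_induction ?_ ⟨0, map_zero φ⟩ (fun x y _ _ hx hy => add_mem hx hy) ?_ hj
    · rintro _ ⟨a, -, rfl⟩; exact ⟨a, rfl⟩
    · intro b x hx hxr
      obtain ⟨a, ha⟩ := hs (π b)
      have h1 : b - φ a ∈ RingHom.ker π := by
        rw [RingHom.mem_ker, map_sub, ← RingHom.comp_apply π φ, ha, sub_self]
      have h2 : (b - φ a) * x = 0 := by
        rw [← Ideal.mem_bot, ← hsq]
        exact Ideal.mul_mem_mul h1 (hk ▸ hx)
      rw [sub_mul, sub_eq_zero] at h2
      rw [smul_eq_mul, h2]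
      exact φ.range.mul_mem ⟨a, rfl⟩ hxr
  intro b
  obtain ⟨a, ha⟩ := hs (π b)
  obtain ⟨a', ha'⟩ := hJ (b - φ a) (by
    rw [← hk, RingHom.mem_ker, map_sub, ← RingHom.comp_apply π φ, ha, sub_self])
  exact ⟨a + a', by rw [map_add, ha']; ring⟩


/-- Suppose C is a ribbon on the reduced scheme D via the closed immersion i : D ⟶ C (meaning the ideal
of D squares to zero and is locally generated by a single section z whose annihilator lies in (z)),
and consider an arbitrary morphism of schemes f : C ⟶ X. The morphism f is a closed immersion
exactly when two things hold: the composite i ≫ f, i.e. f restricted to D, is a closed immersion,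
and pulling back along f the ideal of the scheme-theoretic image of D in X yields the entire ideal
of D in C. This second requirement amounts to surjectivity of the map α_f that sends the pullback of
the conormal sheaf of the image of D in X onto the conormal bundle of D in C. (The statement is
given for arbitrary schemes and any morphism f; the published version assumes all schemes are of
finite type over a field and D is connected, but the proof relies on neither assumption.) -/
theorem result (D C X : Scheme.{u}) (i : D ⟶ C)
    (hR : MultCurve.IsRibbon i) (f : C ⟶ X) :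
    IsClosedImmersion f ↔ (IsClosedImmersion (i ≫ f) ∧ (i ≫ f).ker.comap f = i.ker) := by
  obtain ⟨⟨hi, hsq, -⟩, hred⟩ := hR
  haveI := hi
  constructor
  · intro hf
    refine ⟨inferInstance, ?_⟩
    rw [← Scheme.IdealSheafData.ker_fst_of_isClosedImmersion]
    let l : D ⟶ pullback f (i ≫ f) := pullback.lift i (𝟙 D) (by simp)
    haveI : IsIso l := by
      refine ⟨pullback.snd f (i ≫ f), pullback.lift_snd _ _ _, ?_⟩
      apply pullback.hom_ext
      · rw [Category.assoc, pullback.lift_fst, Category.id_comp, ← cancel_mono f,
          Category.assoc, pullback.condition]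
      · rw [Category.assoc, pullback.lift_snd, Category.comp_id, Category.id_comp]
    rw [← Scheme.Hom.ker_comp_of_isIso l, pullback.lift_fst]
  · rintro ⟨hif, hker⟩
    haveI := hif
    have hsurj : Function.Surjective i.base := by
      intro c
      have h2 : i.ker.support = ⊤ := by
        refine top_le_iff.1 fun x _ => ?_
        by_contra hx
        have hc : x ∈ ((i.ker ^ 2).support : Set C) := by rw [hsq, Scheme.IdealSheafData.support_bot]; trivial
        rw [Scheme.IdealSheafData.support_pow _ (n := 2) two_ne_zero] at hc
        exact hx hc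
      have hc : c ∈ (i.ker.support : Set C) := by rw [h2]; trivial
      rwa [Scheme.Hom.support_ker, i.isClosedEmbedding.isClosed_range.closure_eq] at hc
    have hh : IsHomeomorph i.base :=
      isHomeomorph_iff_isEmbedding_surjective.mpr ⟨i.isClosedEmbedding.isEmbedding, hsurj⟩
    let e := hh.homeomorph i.base
    have hfe : (f.base : C → X) = (i ≫ f).base ∘ e.symm := by
      funext c
      show f.base c = f.base (i.base (e.symm c))
      exact congrArg _ (e.apply_symm_apply c).symm
    haveI : IsAffineHom f := by
      refine isAffineHom_of_isInducing f ?_ ?_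
      · show Topology.IsInducing f.base
        rw [hfe]; exact (i ≫ f).isClosedEmbedding.isInducing.comp e.symm.isInducing
      · show IsClosed (Set.range f.base)
        rw [hfe, e.symm.surjective.range_comp]; exact (i ≫ f).isClosedEmbedding.isClosed_range
    rw [isClosedImmersion_iff_isAffineHom]
    refine ⟨inferInstance, fun U hU => ?_⟩
    have hV : IsAffineOpen (f ⁻¹ᵁ U) := hU.preimage f
    refine surj_alg (f.app U).hom (i.app (f ⁻¹ᵁ U)).hom ((i ≫ f).ker.ideal ⟨U, hU⟩) ?_ ?_ ?_
    · have := (i ≫ f).app_surjective U hU
      rw [Scheme.Hom.comp_app] at this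
      exact this
    · rw [← Scheme.Hom.ker_apply i ⟨f ⁻¹ᵁ U, hV⟩, ← hker]
      exact ChevLib.ideal_comap_of_isAffineHom _ f ⟨U, hU⟩
    · have h3 : (i.ker ^ 2).ideal ⟨f ⁻¹ᵁ U, hV⟩ = ⊥ := by rw [hsq]; rfl
      rw [← Scheme.Hom.ker_apply i ⟨f ⁻¹ᵁ U, hV⟩, ← sq]
      simpa using h3

end Groth.Agent.S18343
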