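import Groth.Statements.S18349
import Groth.Agent.TwoAffLiftLib.Main
-- import your own Groth.Agent.* helpers here

set_option autoImplicit false
set_option maxHeartbeats 2000000
set_option backward.isDefEq.respectTransparency false
universe u
open CategoryTheory CategoryTheory.Limits AlgebraicGeometry
open MultCurve

namespace Groth.Agent.S18349

/-- Let k be a field and X a primitive multiple curve of multiplicity n over k — a separated
quasi-compact k-scheme with a closed immersion i : C ⟶ X of a smooth integral curve C whose ideal I
satisfies Iⁿ = 0 and is locally generated by one section z with the annihilator of z^(n-1) inside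
(z) — with canonical filtration C = C_1 ⊂ C_2 ⊂ ⋯ ⊂ C_n = X, C_j being cut out by I^j. Let A be a
finitely generated k-algebra that is an integral domain, P = Spec A ×_k X, and 1 ≤ j < n. Let Y ⊂ P
be a closed subscheme containing Spec A ×_k C_j, i.e. defined by a quasi-coherent ideal contained in
the pullback to P of I^j. Then every finite locally free O_Y-module is isomorphic to the restriction
to Y of a finite locally free O_P-module. (Stated over an arbitrary field; the published setting is
the complex numbers, which the argument does not use.) -/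
theorem result (k : Type u) [Field k] (C X : Scheme.{u}) (i : C ⟶ X)
    (f : X ⟶ Spec (CommRingCat.of k)) [IsSeparated f] [QuasiCompact f]
    (n : ℕ) (h : MultCurve.IsPrimitive k i f n)
    (A : Type u) [CommRing A] [IsDomain A] [Algebra k A] [Algebra.FiniteType k A]
    (j : ℕ) (hj : 1 ≤ j) (hjn : j < n)
    (IY : (pullback (Spec.map (CommRingCat.ofHom (algebraMap k A))) f).IdealSheafData)
    (hY : IY ≤ (i.ker ^ j).comap (pullback.snd (Spec.map (CommRingCat.ofHom (algebraMap k A))) f))
    (E : IY.subscheme.Modules) (hE : FlatMod.IsFinLocFree E) :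
    ∃ E' : (pullback (Spec.map (CommRingCat.ofHom (algebraMap k A))) f).Modules,
      FlatMod.IsFinLocFree E' ∧ Nonempty ((Scheme.Modules.pullback IY.subschemeι).obj E' ≅ E) := by
  obtain ⟨⟨hci, hpow, -⟩, hint, hsm, hdim⟩ := h
  haveI := hci; haveI := hint; haveI := hsm
  let g := Spec.map (CommRingCat.ofHom (algebraMap k A))
  haveI : X.IsSeparated := ⟨by rw [← terminal.comp_from f]; infer_instance⟩
  haveI : C.IsSeparated := ⟨by rw [← terminal.comp_from i]; infer_instance⟩
  haveI : IsLocallyNoetherian C := LocallyOfFiniteType.isLocallyNoetherian (i ≫ f)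
  haveI : CompactSpace ↥X := QuasiCompact.compactSpace_of_compactSpace f
  haveI : CompactSpace ↥C := QuasiCompact.compactSpace_of_compactSpace i
  haveI : IsNoetherian C := ⟨⟩
  have hX : TwoAffLiftLib.Two X := TwoAffLiftLib.two_of_surjective i
    (TwoAffLiftLib.surjective_of_ker_pow i hpow) (TwoAffLiftLib.two_curve hdim.le)
  haveI : IsAffineHom (pullback.snd g f) := MorphismProperty.pullback_snd (P := @IsAffineHom) g f inferInstance
  have hle : IY ≤ i.ker.comap (pullback.snd g f) := hY.trans (Scheme.IdealSheafData.comap_mono _ fun U => by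
    simp only [Scheme.IdealSheafData.ideal_pow, Pi.pow_apply]
    exact Ideal.pow_le_self (by omega))
  have hn : (i.ker.comap (pullback.snd g f)) ^ n = ⊥ := by
    obtain ⟨m, rfl⟩ : ∃ m, n = m + 1 := ⟨n - 1, by omega⟩
    rw [← FComplLib.comap_pow_succ, hpow, Scheme.IdealSheafData.comap_bot]
  obtain ⟨E', hE', he⟩ := TwoAffLiftLib.exists_lift_pow n IY.subschemeι
    (by rw [IY.ker_subschemeι]; exact TwoAffLiftLib.pow_eq_bot_of_le hle Nat.lt_two_pow_self.le hn)
    (TwoAffLiftLib.two_of_affineHom (pullback.snd g f) hX) E hE
  exact ⟨E', hE', he⟩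

end Groth.Agent.S18349
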