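import Groth.Statements.S1835
import Mathlib
-- import your own Groth.Agent.* helpers here

set_option autoImplicit false
universe u
open CycAlg

namespace Groth.Agent.S1835

/-- Let R be a Noetherian local ring of dimension 1, a a nonzerodivisor in the maximal ideal and b a
nonzerodivisor. There is an integer n such that whenever b = a^m c in some finite extension ring R ⊆
R', one has m ≤ n. -/
theorem result (R : Type u) [CommRing R] [IsNoetherianRing R] [IsLocalRing R] (hR : ringKrullDim R = 1) (a b : R) (ha : a ∈ nonZeroDivisors R) (ham : a ∈ IsLocalRing.maximalIdeal R) (hb : b ∈ nonZeroDivisors R) : ∃ n : ℕ, ∀ (R' : Type u) [CommRing R'] [Algebra R R'], Function.Injective (algebraMap R R') → Module.Finite R R' → ∀ (m : ℕ) (c : R'), algebraMap R R' b = algebraMap R R' a ^ m * c → m ≤ n := by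
  classical
  set 𝔪 := IsLocalRing.maximalIdeal R with h𝔪
  -- a power of `a` is a multiple of `b`
  obtain ⟨N, s, hs⟩ : ∃ N : ℕ, ∃ s : R, a ^ N = b * s := by
    by_cases hbu : IsUnit b
    · obtain ⟨u, rfl⟩ := hbu
      exact ⟨1, (↑u⁻¹ : R) * a, by rw [← mul_assoc, Units.mul_inv, one_mul, pow_one]⟩
    have hrad : a ∈ (Ideal.span {b}).radical := by
      rw [Ideal.radical_eq_sInf, Ideal.mem_sInf]
      rintro (q : Ideal R) ⟨hbq, hq⟩
      haveI := hq
      haveI : Ring.KrullDimLE 1 R := Ring.krullDimLE_iff.mpr (by rw [hR]; rfl)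
      have hqmax : q.IsMaximal := by
        rcases (Ring.krullDimLE_one_iff.mp inferInstance q hq) with h | h
        · exfalso
          have hdisj := Ideal.disjoint_nonZeroDivisors_of_mem_minimalPrimes h
          exact Set.disjoint_left.mp hdisj (hbq (Ideal.mem_span_singleton_self b)) hb
        · exact h
      rw [IsLocalRing.eq_maximalIdeal hqmax]
      exact ham
    obtain ⟨N, hN⟩ := hrad
    obtain ⟨s, hs⟩ := Ideal.mem_span_singleton'.mp hN
    exact ⟨N, s, by rw [mul_comm, hs]⟩
  refine ⟨N, fun R' _ _ hinj hfin m c hc => ?_⟩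
  by_contra hlt
  rw [not_le] at hlt
  set f := algebraMap R R'
  have hj : f a ∈ (⊥ : Ideal R').jacobson := by
    rw [Ideal.jacobson, Ideal.mem_sInf]
    rintro (M : Ideal R') ⟨-, hM⟩
    haveI := hM
    haveI : Algebra.IsIntegral R R' := Algebra.IsIntegral.of_finite R R'
    have : (M.comap f).IsMaximal := Ideal.isMaximal_comap_of_isIntegral_of_isMaximal M
    have h1 : M.comap f = 𝔪 := IsLocalRing.eq_maximalIdeal this
    show a ∈ M.comap f
    rw [h1]; exact ham
  have hu : IsUnit (1 - f a * (f a ^ (m - N - 1) * c * f s)) := by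
    have := Ideal.mem_jacobson_bot.mp hj (-(f a ^ (m - N - 1) * c * f s))
    rwa [mul_neg, ← sub_eq_neg_add] at this
  have h0 : f a ^ N * (1 - f a * (f a ^ (m - N - 1) * c * f s)) = 0 := by
    have e : f a ^ N = f a ^ m * c * f s := by rw [← map_pow, hs, map_mul, hc]
    have em : f a ^ m = f a ^ N * (f a * f a ^ (m - N - 1)) := by
      rw [← pow_succ', ← pow_add]; congr 1; omega
    rw [em] at e
    linear_combination e
  have h1 : f (a ^ N) = 0 := by
    rw [map_pow]
    exact (hu.mul_left_eq_zero).mp h0
  exact nonZeroDivisors.ne_zero (pow_mem ha N) (hinj (h1.trans (map_zero f).symm))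

end Groth.Agent.S1835
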