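import Groth.Statements.S18353
import Mathlib
import Groth.Agent.S18352
import Groth.Agent.CurveFamNormLib.App
import Groth.Agent.CurveVBLib.Integral
-- import your own Groth.Agent.* helpers here

set_option autoImplicit false
universe u
open Curv2

namespace Groth.Agent.S18353

open CategoryTheory AlgebraicGeometry in
/-- Let S be an integral Noetherian scheme all of whose local rings are integrally closed domains, and
let f₁ : C₁ → S and f₂ : C₂ → S be flat, proper, locally finitely presented morphisms of schemes
whose fibres are geometrically reduced and geometrically connected, all of Krull dimension one, and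
whose fibres over the generic point of S are smooth. Let φ : C₁ → C₂ be a morphism over S which is
birational, in the sense that it restricts to an isomorphism over some dense open subset of C₂. Then
the canonical map O_{C₂} → φ_* O_{C₁} is an isomorphism: for every open V of C₂ the pull-back map
from sections over V to sections over φ⁻¹(V) is an isomorphism of rings. The total spaces are
schemes here; the source also allows algebraic spaces. -/
theorem result (S C₁ C₂ : Scheme.{u}) [IsIntegral S]
    [IsNoetherian S] (hS : Pi1.IsNormalScheme S) (f₁ : C₁ ⟶ S) (f₂ : C₂ ⟶ S)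
    [Flat f₁] [IsProper f₁] [LocallyOfFinitePresentation f₁] [GeometricallyReduced f₁] [GeometricallyConnected f₁]
    [Flat f₂] [IsProper f₂] [LocallyOfFinitePresentation f₂] [GeometricallyReduced f₂] [GeometricallyConnected f₂]
    (hdim₁ : ∀ s : ↥S, topologicalKrullDim ↥(f₁.fiber s) = 1) (hdim₂ : ∀ s : ↥S, topologicalKrullDim ↥(f₂.fiber s) = 1)
    (hsm₁ : Smooth (f₁.fiberToSpecResidueField (genericPoint ↥S)))
    (hsm₂ : Smooth (f₂.fiberToSpecResidueField (genericPoint ↥S)))
    (φ : C₁ ⟶ C₂) (hφ : φ ≫ f₂ = f₁) (hbir : ∃ U : C₂.Opens, Dense (U : Set ↥C₂) ∧ IsIso (φ ∣_ U)) :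
    ∀ V : C₂.Opens, IsIso (φ.app V) := by
  have key : ∀ {C : Scheme.{u}} (f : C ⟶ S) [Flat f] [IsProper f] [LocallyOfFinitePresentation f]
      [GeometricallyReduced f] [GeometricallyConnected f],
      (∀ s : ↥S, topologicalKrullDim ↥(f.fiber s) = 1) → Smooth (f.fiberToSpecResidueField (genericPoint ↥S)) →
      AlgebraicGeometry.IsIntegral C ∧ Pi1.IsNormalScheme C := by
    intro C f _ _ _ _ _ hdim hsm
    have hC : Pi1.IsNormalScheme C := Groth.Agent.S18352.result S C hS f hdim hsm
    haveI : IsLocallyNoetherian C := LocallyOfFiniteType.isLocallyNoetherian f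
    haveI : CompactSpace C := QuasiCompact.compactSpace_of_compactSpace f
    haveI : IsNoetherian C := {}
    haveI : ∀ x : C, IsDomain (C.presheaf.stalk x) := fun x => (hC x).1
    have hc : _root_.IsConnected (f ⁻¹' (Set.univ : Set S)) :=
      f.isConnected_preimage f.isOpenMap isConnected_univ isClosed_univ
    rw [Set.preimage_univ] at hc
    haveI : ConnectedSpace C := connectedSpace_iff_univ.mpr hc
    exact ⟨CurveVBLib.isIntegral_of_connected, hC⟩
  obtain ⟨i1, -⟩ := key f₁ hdim₁ hsm₁
  obtain ⟨i2, h2⟩ := key f₂ hdim₂ hsm₂
  obtain ⟨U, hU, hiso⟩ := hbir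
  haveI : IsProper (φ ≫ f₂) := by rw [hφ]; infer_instance
  haveI : IsProper φ := IsProper.of_comp φ f₂
  intro V
  exact CurveFamNormLib.isIso_app_of_birational_normal φ h2 U hU.nonempty V

end Groth.Agent.S18353
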