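import Groth.Statements.S18354
import Groth.Agent.PluriEmbLib.Self
import Groth.Agent.NodalLib.Marked
import Groth.Agent.S15923
import Groth.Agent.GrpdFieldLib.ClosedSub
import Groth.Agent.GeomRedFieldLib.Scheme
import Groth.Agent.NodalLib.NodalChar

set_option autoImplicit false
set_option backward.isDefEq.respectTransparency false
set_option backward.isDefEq.respectTransparency.types false
set_option maxHeartbeats 1000000
universe u
open Curves

namespace Groth.Agent.S18354

open CategoryTheory CategoryTheory.Limits AlgebraicGeometry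
open NefH1Lib.Subcurve (IsMaxPt)
open NefH1Lib.Adj (delta dJ gJ)

section Aux

variable (k : Type u) [Field k] [IsAlgClosed k] {X : Scheme.{u}} [X.Over (Spec (CommRingCat.of k))]
  [IsProper (X ↘ Spec (CommRingCat.of k))] [AlgebraicGeometry.IsReduced X] [ConnectedSpace X]
  (hdim : topologicalKrullDim X = 1)

/-- Every component has a smooth closed point. -/
theorem exists_smooth_on {η : X} (hη : IsMaxPt η) :
    ∃ x : X, IsClosed ({x} : Set X) ∧ η ⤳ x ∧ x ∈ (X ↘ Spec (CommRingCat.of k)).smoothLocus := by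
  haveI := CurvLib.isNoetherian k (X := X)
  haveI : LocallyOfFinitePresentation (X ↘ Spec (CommRingCat.of k)) := NodalLib.lfp_over k
  haveI := GrpdFieldLib.geometricallyReduced_of_perfect (X ↘ Spec (CommRingCat.of k))
  let S : X.Opens := (X ↘ Spec (CommRingCat.of k)).smoothLocus
  have hS : Dense (S : Set X) := GeomRedFieldLib.dense_smoothLocus_of_gr (X ↘ Spec (CommRingCat.of k))
  have hmem : η ∈ S := by
    by_contra hn
    let M := {a : X | IsMaxPt a ∧ a ≠ η}
    have hMf : M.Finite := NefH1Lib.Subcurve.finite_maxPts.subset fun a ha => ha.1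
    have hcl : IsClosed (⋃ a ∈ M, closure ({a} : Set X)) := hMf.isClosed_biUnion fun a _ => isClosed_closure
    have hsub : (S : Set X) ⊆ ⋃ a ∈ M, closure ({a} : Set X) := fun y hy => by
      obtain ⟨a, ha, hay⟩ := NefH1Lib.Subcurve.exists_maxPt y
      exact Set.mem_iUnion₂.mpr ⟨a, ⟨ha, fun h => hn (h ▸ hay.mem_open S.2 hy)⟩,
        specializes_iff_mem_closure.mp hay⟩
    have h := closure_minimal hsub hcl
    rw [hS.closure_eq] at h
    obtain ⟨a, ha, haη⟩ := Set.mem_iUnion₂.mp (h (Set.mem_univ η))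
    exact ha.2 (hη a (specializes_iff_mem_closure.mpr haη))
  haveI : JacobsonSpace X := LocallyOfFiniteType.jacobsonSpace (X ↘ Spec (CommRingCat.of k))
  obtain ⟨x, ⟨hx, hxS⟩, hxc⟩ := nonempty_inter_closedPoints
    (Z := closure ({η} : Set X) ∩ (S : Set X)) ⟨η, subset_closure rfl, hmem⟩
    (isClosed_closure.isLocallyClosed.inter S.2.isLocallyClosed)
  exact ⟨x, hxc, specializes_iff_mem_closure.mpr hx, hxS⟩

include hdim in
/-- A module of degree one along the component of `η`. -/
theorem exists_twist {η : X} (hη : IsMaxPt η) :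
    ∃ N : X.Modules, PicF.IsInvertible N ∧ delta k N (Coh.structureModule X) = 1 ∧
      ∃ E : Set X → ℤ, (∀ T : Set X, (∀ a ∈ T, IsMaxPt a) → (0 ≤ E T ∧ (η ∈ T → 1 ≤ E T) ∧
        ∀ L : X.Modules, PicF.IsInvertible L → delta k (CohB1.tensorMod L N) (ClSub.quotMod (NefH1Lib.Subcurve.sub T)) =
          delta k L (ClSub.quotMod (NefH1Lib.Subcurve.sub T)) + E T)) := by
  haveI := CurvLib.isNoetherian k (X := X)
  haveI : LocallyOfFinitePresentation (X ↘ Spec (CommRingCat.of k)) := NodalLib.lfp_over k
  obtain ⟨x, hx, hηx, hsm⟩ := exists_smooth_on k hη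
  have hequi : ∀ Z ∈ irreducibleComponents (X : Type u), topologicalKrullDim Z = 1 := fun Z hZ => by
    simpa using NefH1Lib.Subcurve.equidim k hdim Z hZ
  have hI := (Groth.Agent.S15923.result k X hequi x hx).mpr
    ((NodalLib.smooth_nhd_iff (X ↘ Spec (CommRingCat.of k)) x).mpr hsm)
  letI := LMLib.law X
  obtain ⟨N, hN, hNc⟩ := PicGrp.exists_eq_cls (PicGrp.cls _ hI)⁻¹
  obtain ⟨eNI⟩ := (PicGrp.cls_mul_cls_eq_one_iff hN hI).mp (by rw [← hNc, inv_mul_cancel])
  have hinv : ClSub.IsInverseOf N (ClSub.idealMod (Scheme.IdealSheafData.vanishingIdeal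
      ⟨({x} : Set X), hx⟩)) := ⟨eNI⟩
  have hf : ({x} : Set X).Finite := Set.finite_singleton x
  refine ⟨N, hN, ?_, fun T => NodalLib.excess k hx T, fun T hT => ?_⟩
  · obtain ⟨e⟩ := NefH1Lib.Adj.nonempty_quot_all (X := X) (T := {a : X | IsMaxPt a}) fun a h => h
    rw [NefH1Lib.Adj.delta_congr k N e, (NodalLib.twist_facts k hdim hf hx hinv (T := {a : X | IsMaxPt a}) fun a h => h).2.1,
      NodalLib.excess_all k hdim hf hx hinv, Set.ncard_singleton]
    rfl
  · obtain ⟨h1, -, h3⟩ := NodalLib.twist_facts k hdim hf hx hinv hT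
    refine ⟨le_trans (Int.natCast_nonneg _) h3, fun hmem => ?_, h1⟩
    have : ({x} : Set X) ∩ closure T = {x} := Set.inter_eq_left.mpr (Set.singleton_subset_iff.mpr
      (closure_mono (Set.singleton_subset_iff.mpr hmem) (specializes_iff_mem_closure.mp hηx)))
    rw [this, Set.ncard_singleton] at h3
    exact_mod_cast h3

include hdim in
/-- A module of degree at least one on every component, with bounded degree. -/
theorem exists_spread (S : Finset X) (hS : ∀ η ∈ S, IsMaxPt η) :
    ∃ L : X.Modules, PicF.IsInvertible L ∧ delta k L (Coh.structureModule X) = S.card ∧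
      ∀ T : Set X, (∀ a ∈ T, IsMaxPt a) → (0 ≤ delta k L (ClSub.quotMod (NefH1Lib.Subcurve.sub T)) ∧
        ((∃ η ∈ S, η ∈ T) → 1 ≤ delta k L (ClSub.quotMod (NefH1Lib.Subcurve.sub T)))) := by
  classical
  haveI := CurvLib.isNoetherian k (X := X)
  induction S using Finset.induction_on with
  | empty =>
    have h0 : ∀ G : X.Modules, delta k (Coh.structureModule X) G = 0 := fun G => by
      exact sub_eq_zero.mpr (CurvLib.euler_congr (k := k) (KFlatLib.tensUnitIso G))
    refine ⟨Coh.structureModule X, CurvLib.isInvertible_structureModule, by simp [h0], fun T _ => ⟨(h0 _).ge, ?_⟩⟩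
    rintro ⟨η, hη, -⟩
    simp at hη
  | @insert η S hηS ih =>
    obtain ⟨L, hL, hd, hT⟩ := ih fun a ha => hS a (Finset.mem_insert_of_mem ha)
    obtain ⟨N, hN, hN1, E, hE⟩ := exists_twist k hdim (hS η (Finset.mem_insert_self η S))
    refine ⟨CohB1.tensorMod L N, HilbPolyLib.isInvertible_tensor hL hN, ?_, fun T hTm => ?_⟩
    · obtain ⟨e⟩ := NefH1Lib.Adj.nonempty_quot_all (X := X) (T := {a : X | IsMaxPt a}) fun a h => h
      have h := (hE {a : X | IsMaxPt a} fun a h => h).2.2
      have h0 : ∀ G : X.Modules, delta k (Coh.structureModule X) G = 0 := fun G => by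
        exact sub_eq_zero.mpr (CurvLib.euler_congr (k := k) (KFlatLib.tensUnitIso G))
      have hN' := h _ CurvLib.isInvertible_structureModule
      have hc : delta k (CohB1.tensorMod (Coh.structureModule X) N) (ClSub.quotMod (NefH1Lib.Subcurve.sub {a : X | IsMaxPt a})) =
          delta k N (ClSub.quotMod (NefH1Lib.Subcurve.sub {a : X | IsMaxPt a})) := by
        exact congrArg (fun x : ℤ => x - _) (CurvLib.euler_congr (k := k) (HilbPolyLib.congrLeft (KFlatLib.tensUnitIso N) _))
      rw [hc, h0, zero_add, ← NefH1Lib.Adj.delta_congr k N e, hN1] at hN'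
      rw [NefH1Lib.Adj.delta_congr k _ e, h L hL, ← NefH1Lib.Adj.delta_congr k L e, hd, ← hN',
        Finset.card_insert_of_notMem hηS]
      push_cast
      rfl
    · obtain ⟨hE0, hE1, hEL⟩ := hE T hTm
      obtain ⟨hT0, hT1⟩ := hT T hTm
      rw [hEL L hL]
      refine ⟨by omega, ?_⟩
      rintro ⟨a, ha, haT⟩
      rcases Finset.mem_insert.mp ha with rfl | ha
      · have := hE1 haT; omega
      · have := hT1 ⟨a, ha, haT⟩; omega

include hdim in
/-- The genus of a subcurve is at most that of the curve. -/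
theorem gJ_le (J : X.IdealSheafData) : gJ k J ≤ Curv2.genus k X := by
  haveI := CurvLib.isNoetherian k (X := X)
  have hd1 : topologicalKrullDim X ≤ ((1 : ℕ) : WithBot ℕ∞) := by simpa using hdim.le
  rw [gJ, (NefH1Lib.Subcurve.euler_subscheme k hd1 J).2]
  haveI := CurvLib.finite_HH (k := k) (DevissLib.isCoh_structureModule X) 1
  haveI : Epi (ClSub.toSubscheme J) := (CurvLib.idealSeq_shortExact J).epi_g
  have hs : Function.Surjective (CurvLib.hMap (k := k) (ClSub.toSubscheme J) 1) :=
    NefH1Lib.surjective_h1 (fun N _ => CurvLib.subsingleton_HH_of_dim_le N (d := 1) hd1 2 (by omega))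
      QCohLib.isQCoh_unit (CurvLib.isCoh_quotMod J).1 (ClSub.toSubscheme J)
  exact LinearMap.finrank_le_finrank_of_surjective hs

end Aux

/-- For all natural numbers g and e there is a natural number D with the following property. For every
algebraically closed field k and every reduced, connected scheme X proper over k, of Krull dimension
one, with finitely many and at most e irreducible components and with dim_k H^1(X, O_X) = g, there
is an invertible O_X-module L of degree at most D with H^1(X, L) = 0, together with a closed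
immersion i of X into some projective space P^m_k over k with i^* O(1) ≅ L. The source phrases the
conclusion as the existence of an embedding of degree at most D and reduces it to this form at the
start of its proof; its genus is the arithmetic genus 1 − χ(O_X), which equals dim_k H^1(X, O_X) for
X reduced, connected and proper over an algebraically closed field. -/
theorem result (g e : ℕ) :
    ∃ D : ℕ, ∀ (k : Type u) [Field k] [IsAlgClosed k] (X : Scheme.{u}) [X.Over (Spec (CommRingCat.of k))]
      [IsProper (X ↘ Spec (CommRingCat.of k))] [IsReduced X] [ConnectedSpace ↥X],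
      topologicalKrullDim ↥X = 1 → (irreducibleComponents (↥X : Type u)).Finite →
      (irreducibleComponents (↥X : Type u)).ncard ≤ e → Curv2.genus k X = g →
      ∃ L : X.Modules, PicF.IsInvertible L ∧ Curv2.deg k X L 1 ≤ (D : ℤ) ∧ Subsingleton (Coh.HH X L 1) ∧
        ∃ (m : ℕ) (i : X ⟶ CohB1.ProjSpace m k), IsClosedImmersion i ∧
          i ≫ CohB1.ProjSpace.toSpec m k = X ↘ Spec (CommRingCat.of k) ∧
          Nonempty ((Scheme.Modules.pullback i).obj (Twist.twistProjSpace m k 1) ≅ L) := by
  refine ⟨(2 * g + 1) * e, fun k _ _ X _ _ _ _ hdim hfin he hg => ?_⟩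
  classical
  haveI := CurvLib.isNoetherian k (X := X)
  let S := (NefH1Lib.Subcurve.finite_maxPts (X := X)).toFinset
  have hSm : ∀ η ∈ S, NefH1Lib.Subcurve.IsMaxPt η := fun η h => (Set.Finite.mem_toFinset _).mp h
  obtain ⟨L₁, hL₁, hd₁, hT₁⟩ := exists_spread k hdim S hSm
  let m := 2 * g + 1
  let L := CohB1.tensorPow L₁ m
  have hL : PicF.IsInvertible L := AmpleThLib.tensorPow_isInvertible hL₁ m
  have H : PluriEmbLib.BigDeg k L := fun J hr hc hd => by
    obtain ⟨T, B, hTm, -, hTne, -, -, rfl, -⟩ := NefH1Lib.Adj.exists_sub k hdim J hr hc hd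
    obtain ⟨η, hη⟩ := hTne
    have h1 := (hT₁ T hTm).2 ⟨η, (Set.Finite.mem_toFinset _).mpr (hTm η hη), hη⟩
    have h2 := gJ_le k hdim (NefH1Lib.Subcurve.sub T)
    rw [hg] at h2
    rw [dJ, NefH1Lib.Adj.deg_subscheme k hL, NefH1Lib.Adj.delta_pow k hdim hL₁ m hTm]
    have h3 : ((m : ℕ) : ℤ) * 1 ≤ (m : ℤ) * delta k L₁ (ClSub.quotMod (NefH1Lib.Subcurve.sub T)) :=
      mul_le_mul_of_nonneg_left h1 (Int.natCast_nonneg m)
    rw [mul_one] at h3
    have h4 : ((gJ k (NefH1Lib.Subcurve.sub T) : ℕ) : ℤ) ≤ g := by exact_mod_cast h2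
    simp only [m, Nat.cast_add, Nat.cast_mul, Nat.cast_ofNat, Nat.cast_one] at h3 ⊢
    omega
  have hA : CohB1.IsAmple L := NefH1Lib.Adj.isAmple_of_pos k hdim hL fun J hr hc hd => by
    have := H J hr hc hd
    omega
  refine ⟨L, hL, ?_, NefH1Lib.Adj.subsingleton_h1 k hdim hL fun J hr hc hd => by
    have := H J hr hc hd
    omega, PluriEmbLib.exists_embedding_self k hdim hL hA H⟩
  obtain ⟨e'⟩ := NefH1Lib.Adj.nonempty_quot_all (X := X) (T := {a : X | NefH1Lib.Subcurve.IsMaxPt a}) fun a h => h
  rw [NefH1Lib.Adj.deg_eq_delta, NefH1Lib.Adj.delta_congr k _ e',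
    NefH1Lib.Adj.delta_pow k hdim hL₁ m (T := {a : X | NefH1Lib.Subcurve.IsMaxPt a}) (fun a h => h), ← NefH1Lib.Adj.delta_congr k L₁ e', hd₁]
  have hcard : S.card ≤ e := by
    refine le_trans ?_ he
    rw [← Set.ncard_eq_toFinset_card _ (NefH1Lib.Subcurve.finite_maxPts (X := X))]
    refine Set.ncard_le_ncard_of_injOn (fun a => closure ({a} : Set X))
      (fun a ha => NefH1Lib.Subcurve.closure_mem_components ha) (fun a ha b hb hab => ?_) hfin
    exact hb a (specializes_iff_mem_closure.mpr (hab.ge (subset_closure rfl)))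
  exact_mod_cast Nat.mul_le_mul_left m hcard

end Groth.Agent.S18354
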