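import Groth.Statements.S18360
import Groth.Agent.FinSurjLib.LiftCover

set_option autoImplicit false
universe u
open CategoryTheory CategoryTheory.Limits AlgebraicGeometry
open Alter

namespace Groth.Agent.S18360

/-- Let Y be a Noetherian scheme, i : F ⟶ Y a closed immersion and s : F' ⟶ F a finite surjective
morphism. Then there are a scheme Y' and a finite surjective morphism g : Y' ⟶ Y such that every
irreducible component of F ×_Y Y', with its reduced closed-subscheme structure, is the source of an
F-morphism to F': for every reduced scheme G and every closed immersion ι : G ⟶ F ×_Y Y' whose image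
is an irreducible component, there is φ : G ⟶ F' with φ ≫ s = ι ≫ pr₁. -/
theorem result {Y F F' : Scheme.{u}} [IsNoetherian Y]
    (i : F ⟶ Y) [IsClosedImmersion i] (s : F' ⟶ F) [IsFinite s] [Surjective s] :
    ∃ (Y' : Scheme.{u}) (g : Y' ⟶ Y), IsFinite g ∧ Surjective g ∧
      ∀ (G : Scheme.{u}) (ι : G ⟶ pullback i g) [IsClosedImmersion ι] [AlgebraicGeometry.IsReduced G],
        Set.range ι.base ∈ irreducibleComponents ↥(pullback i g) →
          ∃ φ : G ⟶ F', φ ≫ s = ι ≫ pullback.fst i g := by
  obtain ⟨Y', g, hgf, hgs, hgood⟩ := FinSurjLib.exists_finite_lift_cover i s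
  refine ⟨Y', g, hgf, hgs, fun G ι _ _ hG => ?_⟩
  let m := ι ≫ pullback.snd i g
  obtain ⟨η, hη⟩ := QuasiSober.sober hG.1 (isClosed_of_mem_irreducibleComponents _ hG)
  obtain ⟨x, hx⟩ := hη.mem
  obtain ⟨G₀, ι₀, φ₀, hι₀, hm, hφ₀⟩ := hgood (m x) ⟨pullback.fst i g (ι x), by
    simp only [m, ← Scheme.Hom.comp_apply, Category.assoc]
    rw [pullback.condition]⟩
  haveI := hι₀
  have hsub : Set.range m ⊆ Set.range ι₀ := by
    rintro _ ⟨w, rfl⟩
    have h1 : ι x ⤳ ι w := hx ▸ hη.specializes ⟨w, rfl⟩
    have h2 := h1.map (pullback.snd i g).continuous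
    rw [← Scheme.Hom.comp_apply, ← Scheme.Hom.comp_apply] at h2
    exact ι₀.isClosedEmbedding.isClosed_range.closure_subset_iff.2 (Set.singleton_subset_iff.2 hm) h2.mem_closure
  let l := IsClosedImmersion.lift ι₀ m (DvrProperLib.ker_le_ker_of_range_subset ι₀ m hsub)
  refine ⟨l ≫ φ₀, (cancel_mono i).1 ?_⟩
  rw [Category.assoc, Category.assoc, hφ₀, IsClosedImmersion.lift_fac_assoc, Category.assoc, Category.assoc,
    pullback.condition]

end Groth.Agent.S18360
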