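import Groth.Statements.S18362
import Groth.Agent.PthRootLib.Basic
import Groth.Agent.HenLineLib.Norm
import Groth.Agent.HensFormalLib.Apps
import Groth.Agent.CommAlgDim.Regular
-- import your own Groth.Agent.* helpers here

set_option autoImplicit false
universe u
open SGA1t

namespace Groth.Agent.S18362

open TensorProduct in
theorem _root_.HenLine.etale_pi (A : Type u) [CommRing A] (d : ℕ) : Algebra.Etale A (Fin d → A) := inferInstance


/-- Let A be a regular local ring which is henselian with separably closed residue field of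
characteristic p > 0, and let f be an element of A such that A/(f) is a regular local ring in which
p is nonzero. Write A₁ = A[t]/(t^p - f) and let B be a finite étale algebra over A[1/f]. If there is
a finite étale A₁-algebra C₁ with C₁[1/f] isomorphic to A₁ ⊗_A B as A₁-algebras, then there is a
finite étale A-algebra C with C[1/f] isomorphic to B as A-algebras. The published statement also
assumes the cover connected and tamely ramified along f = 0; this row assumes neither, tameness
being automatic here because the generic point of the divisor f = 0 has residue characteristic zero. -/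
theorem result {A : Type u} [CommRing A]
    [IsRegularLocalRing A] [HenselianLocalRing A] [IsSepClosed (IsLocalRing.ResidueField A)]
    (p : ℕ) [Fact p.Prime] [CharP (IsLocalRing.ResidueField A) p] (f : A)
    (hreg : IsRegularLocalRing (A ⧸ Ideal.span {f})) (hp : (p : A) ∉ Ideal.span {f})
    (B : Type u) [CommRing B] [Algebra A B] [Algebra (Localization.Away f) B]
    [IsScalarTower A (Localization.Away f) B] [Module.Finite (Localization.Away f) B]
    [Algebra.Etale (Localization.Away f) B]
    (h : ∃ (C₁ : Type u) (_ : CommRing C₁) (_ : Algebra (AdjoinRoot (Polynomial.X ^ p - Polynomial.C f)) C₁),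
      Module.Finite (AdjoinRoot (Polynomial.X ^ p - Polynomial.C f)) C₁ ∧
      Algebra.Etale (AdjoinRoot (Polynomial.X ^ p - Polynomial.C f)) C₁ ∧
      Nonempty (Localization.Away (algebraMap (AdjoinRoot (Polynomial.X ^ p - Polynomial.C f)) C₁
          (AdjoinRoot.of (Polynomial.X ^ p - Polynomial.C f) f))
        ≃ₐ[AdjoinRoot (Polynomial.X ^ p - Polynomial.C f)]
          TensorProduct A (AdjoinRoot (Polynomial.X ^ p - Polynomial.C f)) B)) :
    ∃ (C : Type u) (_ : CommRing C) (_ : Algebra A C), Module.Finite A C ∧ Algebra.Etale A C ∧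
      Nonempty (Localization.Away (algebraMap A C f) ≃ₐ[A] B) := by
  classical
  obtain ⟨C₁, _, _, hfin, het, ⟨e⟩⟩ := h
  haveI := hfin
  haveI := het
  haveI : IsDomain A := CommAlgDim.isDomain_of_isRegularLocalRing A
  haveI := hreg
  haveI : IsDomain (A ⧸ Ideal.span {f}) := CommAlgDim.isDomain_of_isRegularLocalRing _
  have hfP : (Ideal.span {f}).IsPrime := (Ideal.Quotient.isDomain_iff_prime _).1 inferInstance
  have hpp : p.Prime := Fact.out
  let A0 := Localization.Away f
  rcases eq_or_ne f 0 with hf0 | hf0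
  · haveI : Subsingleton A0 := IsLocalization.subsingleton (M := Submonoid.powers f) ⟨1, by rw [hf0]; simp⟩
    haveI : Subsingleton B := Module.subsingleton A0 B
    let C := Fin 0 → A
    haveI : Subsingleton (Localization.Away (algebraMap A C f)) :=
      IsLocalization.subsingleton (M := Submonoid.powers (algebraMap A C f)) ⟨1, Subsingleton.elim _ _⟩
    haveI : Algebra.Etale A C := HenLine.etale_pi A 0
    refine ⟨C, inferInstance, inferInstance, inferInstance, inferInstance,
      ⟨{ toFun := fun _ => 0, invFun := fun _ => 0, left_inv := fun _ => Subsingleton.elim _ _,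
         right_inv := fun _ => Subsingleton.elim _ _, map_mul' := fun _ _ => Subsingleton.elim _ _,
         map_add' := fun _ _ => Subsingleton.elim _ _, commutes' := fun _ => Subsingleton.elim _ _ }⟩⟩
  have hfu : ¬ IsUnit f := fun hu => hfP.ne_top (Ideal.span_singleton_eq_top.2 hu)
  have hfprime : Prime f := (Ideal.span_singleton_prime hf0).1 hfP
  have hM : Submonoid.powers f ≤ nonZeroDivisors A := powers_le_nonZeroDivisors_of_noZeroDivisors hf0
  haveI : IsDomain A0 := IsLocalization.isDomain_of_le_nonZeroDivisors (R := A) A0 hM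
  haveI : IsNoetherianRing A0 := IsLocalization.isNoetherianRing (Submonoid.powers f) A0 inferInstance
  have hinj0 : Function.Injective (algebraMap A A0) := IsLocalization.injective A0 hM
  have hpA : (p : A) ≠ 0 := fun h0 => hp (h0 ▸ Ideal.zero_mem _)
  have hpm : ¬ IsUnit (p : A) := fun hu => by
    have h1 := hu.map (IsLocalRing.residue A)
    rw [map_natCast, CharP.cast_eq_zero] at h1
    exact not_isUnit_zero h1
  have hp1 : ¬ IsUnit (p : A0) := fun hu => by
    obtain ⟨v, hv⟩ := hu.exists_right_inv
    obtain ⟨n, y, hy⟩ := IsLocalization.Away.surj f v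
    have h1 : (p : A) * y = f ^ n := hinj0 (by rw [map_mul, ← hy, map_natCast, ← mul_assoc, hv, one_mul, map_pow])
    clear hy
    induction n generalizing y with
    | zero => exact hpm (IsUnit.of_mul_eq_one _ (h1.trans (pow_zero f)))
    | succ n ih =>
      obtain ⟨c, hc⟩ := (hfprime.dvd_mul.1 ⟨f ^ n, by rw [h1, pow_succ']⟩).resolve_left
        (fun hd => hp (Ideal.mem_span_singleton.2 hd))
      exact ih c (mul_left_cancel₀ hf0 (by rw [← pow_succ', ← h1, hc, mul_left_comm]))
  have hp0 : (p : A0) ≠ 0 := fun h0 => hpA (hinj0 (by rw [map_natCast, h0, map_zero]))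
  -- the root extension is a strictly henselian local domain
  let A₁ := AdjoinRoot (Polynomial.X ^ p - Polynomial.C f)
  let K := FractionRing A
  let fK := algebraMap A K f
  have hirr : Irreducible (Polynomial.X ^ p - Polynomial.C fK : Polynomial K) :=
    X_pow_sub_C_irreducible_of_prime hpp fun b hb => by
      obtain ⟨c, d, hd, rfl⟩ := IsFractionRing.div_surjective (A := A) b
      have hd0 : d ≠ 0 := nonZeroDivisors.ne_zero hd
      have hdK : algebraMap A K d ≠ 0 := (map_ne_zero_iff _ (IsFractionRing.injective A K)).2 hd0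
      have h1 : c ^ p = f * d ^ p := IsFractionRing.injective A K (by
        rw [map_pow, map_mul, map_pow]
        rw [div_pow, div_eq_iff (pow_ne_zero _ hdK)] at hb
        exact hb)
      have hc0 : c ≠ 0 := fun h0 => by
        rw [h0, zero_pow hpp.ne_zero] at h1
        exact mul_ne_zero hf0 (pow_ne_zero _ hd0) h1.symm
      obtain ⟨a, c', hc', rfl⟩ := WfDvdMonoid.max_power_factor hc0 hfprime.irreducible
      obtain ⟨b, d', hd', rfl⟩ := WfDvdMonoid.max_power_factor hd0 hfprime.irreducible
      rw [mul_pow, mul_pow, ← pow_mul, ← pow_mul, ← mul_assoc, ← pow_succ'] at h1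
      rcases lt_trichotomy (a * p) (b * p + 1) with hlt | heq | hgt
      · obtain ⟨j, hj⟩ := Nat.exists_eq_add_of_lt hlt
        rw [hj, show a * p + j + 1 = a * p + (j + 1) by ring, pow_add, mul_assoc] at h1
        exact hc' (hfprime.dvd_of_dvd_pow ⟨f ^ j * d' ^ p, by rw [mul_left_cancel₀ (pow_ne_zero _ hf0) h1]; ring⟩)
      · have h2 : p ∣ 1 := (Nat.dvd_add_right (dvd_mul_left p b)).1 (heq ▸ dvd_mul_left p a)
        exact hpp.ne_one (Nat.dvd_one.1 h2)
      · obtain ⟨j, hj⟩ := Nat.exists_eq_add_of_lt hgt
        rw [hj, show b * p + 1 + j + 1 = (b * p + 1) + (j + 1) by ring, pow_add, mul_assoc] at h1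
        exact hd' (hfprime.dvd_of_dvd_pow ⟨f ^ j * c' ^ p, by rw [← mul_left_cancel₀ (pow_ne_zero _ hf0) h1]; ring⟩)
  have hg : (Polynomial.X ^ p - Polynomial.C f).Monic := Polynomial.monic_X_pow_sub_C f hpp.ne_zero
  have hdom : IsDomain A₁ := by
    haveI : Fact (Irreducible (Polynomial.X ^ p - Polynomial.C fK : Polynomial K)) := ⟨hirr⟩
    let m : A₁ →+* AdjoinRoot (Polynomial.X ^ p - Polynomial.C fK : Polynomial K) :=
      AdjoinRoot.map (algebraMap A K) _ _ (by simp [fK])
    refine Function.Injective.isDomain m ((injective_iff_map_eq_zero m).2 fun z hz => ?_)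
    obtain ⟨P, rfl⟩ := AdjoinRoot.mk_surjective z
    have h2 : AdjoinRoot.mk (Polynomial.X ^ p - Polynomial.C fK : Polynomial K) (P.map (algebraMap A K)) = 0 := by
      rw [← hz]
      show _ = AdjoinRoot.map _ _ _ _ (AdjoinRoot.mk _ P)
      rw [AdjoinRoot.map, AdjoinRoot.lift_mk]
      exact (RingHom.congr_fun (Polynomial.ringHom_ext (f := (AdjoinRoot.mk _).comp (Polynomial.mapRingHom (algebraMap A K)))
        (g := Polynomial.eval₂RingHom ((AdjoinRoot.of (Polynomial.X ^ p - Polynomial.C fK : Polynomial K)).comp (algebraMap A K))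
          (AdjoinRoot.root _)) (fun c => by simp) (by simp)) P)
    rw [AdjoinRoot.mk_eq_zero] at h2 ⊢
    refine (Polynomial.map_dvd_map _ (IsFractionRing.injective A K) hg).1 ?_
    simpa [fK] using h2
  haveI := hdom
  haveI : Module.Finite A A₁ := hg.finite_adjoinRoot
  haveI : Module.Free A A₁ := hg.free_adjoinRoot
  obtain ⟨hh, hl⟩ := HensFormalLib.henselian_of_integral_domain A A₁
  haveI := hh
  haveI := hl
  haveI := (HensFormalLib.sepClosed_residue A A₁).1
  obtain ⟨d, ⟨ε⟩⟩ := HenLine.exists_pi_equiv (R := A₁) (B := C₁)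
  -- comparison with the root extension of the localisation
  let f0 := algebraMap A A0 f
  let S' := AdjoinRoot (PthRoot.g p f0)
  let ι₁ : A₁ →ₐ[A] S' := AdjoinRoot.liftAlgHom _ (Algebra.ofId A S') (AdjoinRoot.root _) (by
    have h1 := AdjoinRoot.eval₂_root (PthRoot.g p f0)
    rw [PthRoot.g, Polynomial.eval₂_sub, Polynomial.eval₂_X_pow, Polynomial.eval₂_C] at h1
    rw [Polynomial.eval₂_sub, Polynomial.eval₂_X_pow, Polynomial.eval₂_C]
    exact h1)
  have hι : ∀ P : Polynomial A, ι₁ (AdjoinRoot.mk _ P) = AdjoinRoot.mk (PthRoot.g p f0) (P.map (algebraMap A A0)) := fun P => by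
    have h2 : ι₁.toRingHom.comp (AdjoinRoot.mk _) = (AdjoinRoot.mk (PthRoot.g p f0)).comp (Polynomial.mapRingHom (algebraMap A A0)) := by
      refine Polynomial.ringHom_ext (fun c => ?_) ?_
      · show ι₁ (AdjoinRoot.mk _ (Polynomial.C c)) = AdjoinRoot.mk _ (Polynomial.map _ (Polynomial.C c))
        rw [AdjoinRoot.liftAlgHom_mk, Polynomial.eval₂_C, Polynomial.map_C]
        rfl
      · show ι₁ (AdjoinRoot.mk _ Polynomial.X) = AdjoinRoot.mk _ (Polynomial.map _ Polynomial.X)
        rw [AdjoinRoot.liftAlgHom_mk, Polynomial.eval₂_X, Polynomial.map_X]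
        rfl
    exact RingHom.congr_fun h2 P
  have hcoeff : ∀ a : A₁, PthRoot.coeff0 p f0 (ι₁ a) = algebraMap A A0 (PthRoot.coeff0 p f a) := fun a => by
    obtain ⟨P, rfl⟩ := AdjoinRoot.mk_surjective a
    rw [hι]
    show ((AdjoinRoot.modByMonicHom (PthRoot.g_monic p f0)) (AdjoinRoot.mk _ (P.map (algebraMap A A0)))).coeff 0 =
      algebraMap A A0 (((AdjoinRoot.modByMonicHom (PthRoot.g_monic p f)) (AdjoinRoot.mk _ P)).coeff 0)
    rw [AdjoinRoot.modByMonicHom_mk, AdjoinRoot.modByMonicHom_mk, ← Polynomial.coeff_map,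
      Polynomial.map_modByMonic _ (PthRoot.g_monic p f)]
    simp [PthRoot.g, f0]
  have hι_inj : Function.Injective ι₁ := (injective_iff_map_eq_zero ι₁).2 fun z hz => by
    obtain ⟨P, rfl⟩ := AdjoinRoot.mk_surjective z
    rw [hι, AdjoinRoot.mk_eq_zero] at hz
    rw [AdjoinRoot.mk_eq_zero]
    refine (Polynomial.map_dvd_map _ hinj0 hg).1 ?_
    simpa [PthRoot.g, f0] using hz
  let T := Localization.Away (algebraMap A₁ C₁ (AdjoinRoot.of (Polynomial.X ^ p - Polynomial.C f) f))
  let fC : C₁ := algebraMap A₁ C₁ (AdjoinRoot.of (Polynomial.X ^ p - Polynomial.C f) f)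
  let π : Fin d → (C₁ →+* S') := fun j => ι₁.toRingHom.comp ((Pi.evalRingHom (fun _ => A₁) j).comp ε.toRingEquiv.toRingHom)
  have hπA : ∀ j (a : A₁), π j (algebraMap A₁ C₁ a) = ι₁ a := fun j a => by
    show ι₁ (ε (algebraMap A₁ C₁ a) j) = ι₁ a
    rw [AlgEquiv.commutes]
    rfl
  have hπf : ∀ j, π j fC = algebraMap A S' f := fun j => (hπA j _).trans (ι₁.commutes f)
  have hfS : IsUnit (algebraMap A S' f) := by
    rw [IsScalarTower.algebraMap_apply A A0 S']
    exact (IsLocalization.Away.algebraMap_isUnit f).map _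
  let θ : Fin d → (T →+* S') := fun j => IsLocalization.Away.lift (g := π j) fC (by rw [hπf]; exact hfS)
  have hθ : ∀ j c, θ j (algebraMap C₁ T c) = π j c := fun j c => IsLocalization.Away.lift_eq _ _ c
  let ψ : Fin d → (TensorProduct A A₁ B →+* S') := fun j => (θ j).comp e.symm.toRingEquiv.toRingHom
  have hψA : ∀ j (a : A₁), ψ j (algebraMap A₁ (TensorProduct A A₁ B) a) = ι₁ a := fun j a => by
    show θ j (e.symm (algebraMap A₁ _ a)) = ι₁ a
    rw [AlgEquiv.commutes, IsScalarTower.algebraMap_apply A₁ C₁ T, hθ, hπA]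
  let χ : Fin d → (B →ₐ[A] S') := fun j =>
    { (ψ j).comp (Algebra.TensorProduct.includeRight : B →ₐ[A] TensorProduct A A₁ B).toRingHom with
      commutes' := fun a => by
        show ψ j ((Algebra.TensorProduct.includeRight : B →ₐ[A] TensorProduct A A₁ B) (algebraMap A B a)) = _
        rw [AlgHom.commutes, IsScalarTower.algebraMap_apply A A₁ (TensorProduct A A₁ B), hψA, AlgHom.commutes] }
  haveI : Algebra.FormallyEtale A A0 := Algebra.FormallyEtale.of_isLocalization (Submonoid.powers f)
  haveI : Algebra.FormallyUnramified A B := Algebra.FormallyUnramified.comp A A0 B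
  have hconst : ∀ j b, χ j b = algebraMap A0 S' (PthRoot.coeff0 p f0 (χ j b)) :=
    fun j b => PthRoot.section_constant p f0 hp1 hp0 (χ j) b
  haveI : Nontrivial S' := hι_inj.nontrivial
  have hS'inj : Function.Injective (algebraMap A0 S') := fun x y h => by
    rw [← PthRoot.coeff0_algebraMap p f0 x, h, PthRoot.coeff0_algebraMap]
  let φ : Fin d → (B →ₐ[A] A0) := fun j =>
    { toFun := fun b => PthRoot.coeff0 p f0 (χ j b)
      map_one' := hS'inj (by rw [← hconst, map_one, map_one])
      map_mul' := fun x y => hS'inj (by rw [← hconst, map_mul, map_mul, ← hconst, ← hconst])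
      map_zero' := by rw [map_zero, map_zero]
      map_add' := fun x y => by rw [map_add, map_add]
      commutes' := fun a => hS'inj (by rw [← hconst, AlgHom.commutes, ← IsScalarTower.algebraMap_apply]) }
  haveI : Module.Flat A A0 := IsLocalization.flat A0 (Submonoid.powers f)
  haveI : Module.Flat A B := Module.Flat.trans A A0 B
  have hincl : Function.Injective (Algebra.TensorProduct.includeRight : B →ₐ[A] TensorProduct A A₁ B) :=
    Algebra.TensorProduct.includeRight_injective (FaithfulSMul.algebraMap_injective A A₁)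
  let Φ : B →ₐ[A] (Fin d → A0) := AlgHom.pi φ
  have hΦi : Function.Injective Φ := (injective_iff_map_eq_zero Φ).2 fun b hb => by
    apply hincl
    rw [map_zero]
    apply e.symm.injective
    rw [map_zero]
    let y : T := e.symm ((Algebra.TensorProduct.includeRight : B →ₐ[A] TensorProduct A A₁ B) b)
    obtain ⟨n, c, hc⟩ := IsLocalization.Away.surj fC y
    have hy : ∀ j, θ j y = 0 := fun j => by
      show χ j b = 0
      rw [hconst, show PthRoot.coeff0 p f0 (χ j b) = 0 from congrFun hb j, map_zero]
    have hc0 : c = 0 := ε.injective (funext fun j => hι_inj (by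
      show π j c = ι₁ (ε 0 j)
      rw [map_zero, Pi.zero_apply, map_zero, ← hθ, ← hc, map_mul, hy, zero_mul]))
    rw [hc0, map_zero] at hc
    exact ((IsLocalization.Away.algebraMap_isUnit fC).pow n).mul_left_eq_zero.1 hc
  have hΦs : Function.Surjective Φ := fun v => by
    choose n a hna using fun j => IsLocalization.Away.surj f (v j)
    let N := ∑ j, n j
    let a' : Fin d → A := fun j => a j * f ^ (N - n j)
    have ha' : ∀ j, v j * algebraMap A A0 f ^ N = algebraMap A A0 (a' j) := fun j => by
      have hle : n j ≤ N := Finset.single_le_sum (fun i _ => Nat.zero_le (n i)) (Finset.mem_univ j)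
      rw [map_mul, map_pow, ← hna, mul_assoc, ← pow_add, Nat.add_sub_cancel' hle]
    obtain ⟨u, hu⟩ := ((IsLocalization.Away.algebraMap_isUnit (S := T) fC).pow N).exists_left_inv
    let c : C₁ := ε.symm fun j => algebraMap A A₁ (a' j)
    let z : TensorProduct A A₁ B := e (u * algebraMap C₁ T c)
    have hz : ∀ j, ψ j z = algebraMap A0 S' (v j) := fun j => by
      show θ j (e.symm (e (u * algebraMap C₁ T c))) = _
      rw [AlgEquiv.symm_apply_apply]
      refine (hfS.pow N).mul_left_injective ?_
      show θ j (u * algebraMap C₁ T c) * algebraMap A S' f ^ N = algebraMap A0 S' (v j) * algebraMap A S' f ^ N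
      rw [← hπf j, ← hθ, ← map_pow, ← map_mul, mul_comm u, mul_assoc, hu, mul_one, hθ j c, map_pow, hθ, hπf,
        IsScalarTower.algebraMap_apply A A0 S', ← map_pow, ← map_mul, ha', ← IsScalarTower.algebraMap_apply]
      show ι₁ (ε (ε.symm fun j => algebraMap A A₁ (a' j)) j) = _
      rw [AlgEquiv.apply_symm_apply, AlgHom.commutes]
    let L : TensorProduct A A₁ B →ₗ[A] B :=
      (TensorProduct.lid A B).toLinearMap.comp ((PthRoot.coeff0 p f).rTensor B)
    refine ⟨L z, funext fun j => ?_⟩
    have hLz : ∀ w, φ j (L w) = PthRoot.coeff0 p f0 (ψ j w) := fun w => by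
      induction w using TensorProduct.induction_on with
      | zero => simp
      | tmul a b =>
        have h1 : ψ j (a ⊗ₜ[A] b) = algebraMap A0 S' (φ j b) * ι₁ a := by
          rw [show a ⊗ₜ[A] b = algebraMap A₁ (TensorProduct A A₁ B) a *
            (Algebra.TensorProduct.includeRight : B →ₐ[A] TensorProduct A A₁ B) b by simp, map_mul, hψA, mul_comm]
          exact congrArg (· * ι₁ a) (hconst j b)
        rw [h1, ← Algebra.smul_def, map_smul, hcoeff]
        show φ j (PthRoot.coeff0 p f a • b) = _
        rw [map_smul, Algebra.smul_def, smul_eq_mul, mul_comm]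
      | add x y hx hy => simp only [map_add, hx, hy]
    show φ j (L z) = v j
    rw [hLz, hz, PthRoot.coeff0_algebraMap]
  -- the extension
  let C := Fin d → A
  let E : B ≃ₐ[A] (Fin d → A0) := AlgEquiv.ofBijective Φ ⟨hΦi, hΦs⟩
  let Lm : C →+* (Fin d → A0) := RingHom.pi fun j => (algebraMap A A0).comp (Pi.evalRingHom (fun _ => A) j)
  have hu : IsUnit (Lm (algebraMap A C f)) := by
    rw [Pi.isUnit_iff]
    exact fun j => IsLocalization.Away.algebraMap_isUnit f
  let Lo : Localization.Away (algebraMap A C f) →+* (Fin d → A0) := IsLocalization.Away.lift (algebraMap A C f) hu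
  have hLo : ∀ x, Lo (algebraMap C _ x) = Lm x := fun x => IsLocalization.Away.lift_eq _ _ x
  have hLb : Function.Bijective Lo := by
    refine ⟨(injective_iff_map_eq_zero Lo).2 fun z hz => ?_, fun v => ?_⟩
    · obtain ⟨n, c, hc⟩ := IsLocalization.Away.surj (algebraMap A C f) z
      have h1 : Lm c = 0 := by rw [← hLo, ← hc, map_mul, hz, zero_mul]
      have hc0 : c = 0 := funext fun j => hinj0 ((congrFun h1 j).trans (map_zero _).symm)
      rw [hc0, map_zero] at hc
      exact ((IsLocalization.Away.algebraMap_isUnit (algebraMap A C f)).pow n).mul_left_eq_zero.1 hc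
    · choose n a hna using fun j => IsLocalization.Away.surj f (v j)
      let N := ∑ j, n j
      obtain ⟨u, hu'⟩ := ((IsLocalization.Away.algebraMap_isUnit (S := Localization.Away (algebraMap A C f))
        (algebraMap A C f)).pow N).exists_left_inv
      let c : C := fun j => a j * f ^ (N - n j)
      refine ⟨u * algebraMap C _ c, (hu.pow N).mul_left_injective ?_⟩
      show Lo (u * algebraMap C _ c) * Lm (algebraMap A C f) ^ N = v * Lm (algebraMap A C f) ^ N
      rw [← hLo, ← map_pow, ← map_mul, mul_comm u, mul_assoc, hu', mul_one, hLo]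
      funext j
      have hle : n j ≤ N := Finset.single_le_sum (fun i _ => Nat.zero_le (n i)) (Finset.mem_univ j)
      rw [map_pow, hLo]
      show algebraMap A A0 (a j * f ^ (N - n j)) = v j * algebraMap A A0 f ^ N
      rw [map_mul, map_pow, ← hna, mul_assoc, ← pow_add, Nat.add_sub_cancel' hle]
  let Lo' : Localization.Away (algebraMap A C f) ≃ₐ[A] (Fin d → A0) :=
    AlgEquiv.ofRingEquiv (f := RingEquiv.ofBijective Lo hLb) fun a => by
      show Lo (algebraMap A _ a) = _
      rw [IsScalarTower.algebraMap_apply A C (Localization.Away (algebraMap A C f)), hLo]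
      rfl
  haveI : Algebra.Etale A C := HenLine.etale_pi A d
  exact ⟨C, inferInstance, inferInstance, inferInstance, inferInstance, ⟨Lo'.trans E.symm⟩⟩


end Groth.Agent.S18362
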