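import Groth.Statements.S18364
import Mathlib.RingTheory.Ideal.MinimalPrime.Basic
import Mathlib.Algebra.Module.LocalizedModule.Basic
import Mathlib.RingTheory.Ideal.Operations
import Mathlib.RingTheory.Localization.AtPrime.Basic
import Mathlib.Data.Fintype.Lattice
-- import your own Groth.Agent.* helpers here

set_option autoImplicit false
universe u
open CAlg

namespace Groth.Agent.S18364

/-- Let A be a Noetherian ring, π an element of A, and (𝔓_i)_{i ∈ ι} an injective finite family listing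
exactly the minimal prime ideals over (π). Let M be a finitely generated A-module and M̄ = M/πM. For
a subset T of ι let K(T) ⊆ M̄ be the submodule of elements whose image in the localisation of M̄ at
𝔓_i is zero for every i ∈ T, and N(T) ⊆ M its preimage in M. Assume K(ι) = 0, i.e. no nonzero
element of M̄ vanishes at all the minimal primes (every associated prime of M̄ is one of the 𝔓_i).
Then for every subset Y of ι with complement Z one has N(Y) ∩ N(Z) = πM, and the same construction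
applied to the module N(Y) instead of M — the preimage in N(Y) of the elements of N(Y)/πN(Y)
vanishing at every 𝔓_i with i ∈ Z — is, as a submodule of M, equal to N(Y) ∩ N(Z). (Geometric
meaning: A is the local ring of a flat family of curves over a discrete valuation ring with
uniformizer π at a point of the reduced special fibre, M the stalk of a torsion-free rank-one sheaf
I, Y a set of components of the special fibre through the point, and N(Y) the stalk of the kernel
I^Y of I → I(s)_Y; the statement is (I^Y)^Z = I^Y ∩ I^Z = πI. Reducedness of A/πA, flatness and rank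
one are not used.) -/
theorem result
    (A : Type u) [CommRing A] [IsNoetherianRing A] (π : A)
    (ι : Type) [Finite ι] (𝔓 : ι → Ideal A) [∀ i, (𝔓 i).IsPrime]
    (h𝔓 : ∀ i, 𝔓 i ∈ (Ideal.span {π}).minimalPrimes) (h𝔓inj : Function.Injective 𝔓)
    (h𝔓surj : ∀ 𝔔 ∈ (Ideal.span {π}).minimalPrimes, ∃ i, 𝔓 i = 𝔔)
    (M : Type u) [AddCommGroup M] [Module A M] [Module.Finite A M]
    (K : Set ι → Submodule A (M ⧸ Ideal.span {π} • (⊤ : Submodule A M)))
    (hK : ∀ T : Set ι, K T = ⨅ i ∈ T, LinearMap.ker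
      (LocalizedModule.mkLinearMap (𝔓 i).primeCompl (M ⧸ Ideal.span {π} • (⊤ : Submodule A M))))
    (htf : K Set.univ = ⊥)
    (N : Set ι → Submodule A M)
    (hN : ∀ T : Set ι, N T = (K T).comap (Submodule.mkQ (Ideal.span {π} • (⊤ : Submodule A M))))
    (Y : Set ι) :
    N Y ⊓ N Yᶜ = Ideal.span {π} • (⊤ : Submodule A M) ∧
    Submodule.map (N Y).subtype
      ((⨅ i ∈ Yᶜ, LinearMap.ker (LocalizedModule.mkLinearMap (𝔓 i).primeCompl
          (↥(N Y) ⧸ Ideal.span {π} • (⊤ : Submodule A ↥(N Y))))).comap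
        (Submodule.mkQ (Ideal.span {π} • (⊤ : Submodule A ↥(N Y)))))
      = N Y ⊓ N Yᶜ := by
  classical
  haveI := Fintype.ofFinite ι
  let J := Ideal.span {π}
  have hmin : ∀ i, ∀ s ∈ 𝔓 i, ∃ t ∉ 𝔓 i, ∃ k : ℕ, t * s ^ k ∈ J := by
    intro i s hs
    by_contra hc
    push_neg at hc
    let S : Submonoid A := (𝔓 i).primeCompl ⊔ Submonoid.powers s
    have hd : Disjoint (J : Set A) S := by
      rw [Set.disjoint_left]
      intro x hxJ hxS
      obtain ⟨t, ht, w, ⟨k, hk⟩, rfl⟩ := Submonoid.mem_sup.1 hxS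
      rw [← hk] at hxJ
      exact hc t ht k hxJ
    obtain ⟨Q, hQ, hJQ, hQS⟩ := Ideal.exists_le_prime_disjoint J S hd
    have hQle : Q ≤ 𝔓 i := fun x hx => by
      by_contra hxp
      exact Set.disjoint_left.1 hQS hx (Submonoid.mem_sup_left hxp)
    have := (h𝔓 i).2 ⟨hQ, hJQ⟩ hQle
    exact Set.disjoint_left.1 hQS (this hs) (Submonoid.mem_sup_right (Submonoid.mem_powers s))
  have hKmem : ∀ (T : Set ι) z, z ∈ K T ↔ ∀ i ∈ T, ∃ s ∉ 𝔓 i, s • z = 0 := by
    intro T z
    simp only [hK, Submodule.mem_iInf, LocalizedModule.mem_ker_mkLinearMap_iff]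
    exact forall₂_congr fun i _ => ⟨fun ⟨s, hs, h⟩ => ⟨s, hs, h⟩, fun ⟨s, hs, h⟩ => ⟨s, hs, h⟩⟩
  have h1 : N Y ⊓ N Yᶜ = J • (⊤ : Submodule A M) := by
    have hKK : K Y ⊓ K Yᶜ = ⊥ := by
      rw [eq_bot_iff, ← htf]
      intro z hz
      rw [hKmem]
      intro i _
      by_cases hi : i ∈ Y
      · exact (hKmem _ _).1 hz.1 i hi
      · exact (hKmem _ _).1 hz.2 i hi
    rw [hN, hN, ← Submodule.comap_inf, hKK, Submodule.comap_bot, Submodule.ker_mkQ]
  refine ⟨h1, ?_⟩
  ext x
  simp only [Submodule.mem_map, Submodule.mem_comap, Submodule.mem_iInf, LocalizedModule.mem_ker_mkLinearMap_iff]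
  constructor
  · rintro ⟨⟨y, hy⟩, hyl, rfl⟩
    refine ⟨hy, ?_⟩
    rw [hN]
    show (Submodule.mkQ _) ((N Y).subtype ⟨y, hy⟩) ∈ K Yᶜ
    rw [hKmem]
    intro i hi
    obtain ⟨s, hs, he⟩ := hyl i hi
    refine ⟨s, hs, ?_⟩
    rw [Submodule.mkQ_apply, ← Submodule.Quotient.mk_smul, Submodule.Quotient.mk_eq_zero] at he
    have := Submodule.mem_map_of_mem (f := (N Y).subtype) he
    rw [Submodule.map_smul''] at this
    rw [Submodule.mkQ_apply, ← Submodule.Quotient.mk_smul, Submodule.Quotient.mk_eq_zero]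
    exact Submodule.smul_mono le_rfl le_top this
  · intro hx
    have hxJ : x ∈ J • (⊤ : Submodule A M) := h1.le hx
    obtain ⟨m, -, rfl⟩ := (show ∃ m, m ∈ (⊤ : Submodule A M) ∧ π • m = x by rwa [Submodule.ideal_span_singleton_smul, Submodule.mem_smul_pointwise_iff_exists] at hxJ)
    refine ⟨⟨π • m, hx.1⟩, fun i hi => ?_, rfl⟩
    have hsep : ∀ j : ι, j ∈ Y → ∃ s ∈ 𝔓 j, s ∉ 𝔓 i := fun j hj => by
      by_contra hc
      push_neg at hc
      have := (h𝔓 i).2 ⟨inferInstance, (h𝔓 j).1.2⟩ hc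
      exact hi (h𝔓inj (le_antisymm hc this) ▸ hj)
    choose s hs hs' using hsep
    choose t ht k hk using fun (j : ι) (hj : j ∈ Y) => hmin j (s j hj) (hs j hj)
    let σ := ∏ j : Y, s j.1 j.2 ^ k j.1 j.2
    have hσ : σ ∉ 𝔓 i := fun h => by
      obtain ⟨j, -, hj⟩ := (inferInstance : (𝔓 i).IsPrime).prod_mem_iff.1 h
      exact hs' j.1 j.2 ((inferInstance : (𝔓 i).IsPrime).mem_of_pow_mem _ hj)
    have hσm : σ • m ∈ N Y := by
      rw [hN, Submodule.mem_comap, hKmem]
      intro j hj
      refine ⟨t j hj, ht j hj, ?_⟩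
      rw [Submodule.mkQ_apply, ← Submodule.Quotient.mk_smul, Submodule.Quotient.mk_eq_zero, smul_smul]
      obtain ⟨d, hd⟩ := Finset.dvd_prod_of_mem (fun j : Y => s j.1 j.2 ^ k j.1 j.2) (Finset.mem_univ (⟨j, hj⟩ : Y))
      rw [show σ = s j hj ^ k j hj * d from hd, ← mul_assoc]
      exact Submodule.smul_mem_smul (J.mul_mem_right d (hk j hj)) Submodule.mem_top
    refine ⟨σ, hσ, ?_⟩
    rw [Submodule.mkQ_apply, ← Submodule.Quotient.mk_smul, Submodule.Quotient.mk_eq_zero,
      show σ • (⟨π • m, hx.1⟩ : N Y) = π • (⟨σ • m, hσm⟩ : N Y) from Subtype.ext (smul_comm σ π m)]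
    exact Submodule.smul_mem_smul (Ideal.mem_span_singleton_self π) Submodule.mem_top

end Groth.Agent.S18364
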