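import Groth.Statements.S18365
import Mathlib.RingTheory.Ideal.MinimalPrime.Basic
import Mathlib.Algebra.Module.LocalizedModule.Basic
import Mathlib.RingTheory.Ideal.Operations
import Mathlib.RingTheory.Localization.AtPrime.Basic
-- import your own Groth.Agent.* helpers here

set_option autoImplicit false
universe u
open CAlg

namespace Groth.Agent.S18365

/-- Let A be a Noetherian ring, π an element of A, (𝔓_i)_{i ∈ ι} an injective finite family listing
exactly the minimal prime ideals over (π), and M a finitely generated A-module on which π acts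
injectively; put M̄ = M/πM. For T ⊆ ι let K(T) ⊆ M̄ be the submodule of elements whose image in the
localisation of M̄ at 𝔓_i vanishes for every i ∈ T, and N(T) ⊆ M its preimage; assume K(ι) = 0.
Suppose that M̄ decomposes at Y, i.e. K(Y) + K(Yᶜ) = M̄, and that for a subset Z the module
N(Y)/πN(Y) decomposes at Z, i.e. its submodule of elements vanishing at every 𝔓_i (i ∈ Z) and its
submodule of elements vanishing at every 𝔓_i (i ∉ Z) together span it. Then M̄ decomposes at Z: K(Z)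
+ K(Zᶜ) = M̄. (Geometric meaning: for a flat family of curves over a discrete valuation ring with
uniformizer π, I a torsion-free rank-one sheaf flat over the base, Y a subcurve of the special fibre
X(s) at which I(s) decomposes and I^Y = ker(I → I(s)_Y): if I^Y(s) decomposes at a subcurve Z then
so does I(s); decomposition of a sheaf at Z is the surjectivity of I(s) → I(s)_Z ⊕ I(s)_{Z^c},
checked on stalks. Reducedness of the special fibre and rank one are not used.) -/
theorem result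
    (A : Type u) [CommRing A] [IsNoetherianRing A] (π : A)
    (ι : Type) [Finite ι] (𝔓 : ι → Ideal A) [∀ i, (𝔓 i).IsPrime]
    (h𝔓 : ∀ i, 𝔓 i ∈ (Ideal.span {π}).minimalPrimes) (h𝔓inj : Function.Injective 𝔓)
    (h𝔓surj : ∀ 𝔔 ∈ (Ideal.span {π}).minimalPrimes, ∃ i, 𝔓 i = 𝔔)
    (M : Type u) [AddCommGroup M] [Module A M] [Module.Finite A M]
    (hπ : ∀ m : M, π • m = 0 → m = 0)
    (K : Set ι → Submodule A (M ⧸ Ideal.span {π} • (⊤ : Submodule A M)))
    (hK : ∀ T : Set ι, K T = ⨅ i ∈ T, LinearMap.ker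
      (LocalizedModule.mkLinearMap (𝔓 i).primeCompl (M ⧸ Ideal.span {π} • (⊤ : Submodule A M))))
    (htf : K Set.univ = ⊥)
    (N : Set ι → Submodule A M)
    (hN : ∀ T : Set ι, N T = (K T).comap (Submodule.mkQ (Ideal.span {π} • (⊤ : Submodule A M))))
    (Y Z : Set ι) (hY : K Y ⊔ K Yᶜ = ⊤)
    (K' : Set ι → Submodule A (↥(N Y) ⧸ Ideal.span {π} • (⊤ : Submodule A ↥(N Y))))
    (hK' : ∀ T : Set ι, K' T = ⨅ i ∈ T, LinearMap.ker
      (LocalizedModule.mkLinearMap (𝔓 i).primeCompl (↥(N Y) ⧸ Ideal.span {π} • (⊤ : Submodule A ↥(N Y)))))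
    (hZ : K' Z ⊔ K' Zᶜ = ⊤) :
    K Z ⊔ K Zᶜ = ⊤ := by
  classical
  let J := Ideal.span {π}
  let q := Submodule.mkQ (J • (⊤ : Submodule A M))
  have hKmem : ∀ (T : Set ι) z, z ∈ K T ↔ ∀ i ∈ T, ∃ s ∉ 𝔓 i, s • z = 0 := by
    intro T z
    simp only [hK, Submodule.mem_iInf, LocalizedModule.mem_ker_mkLinearMap_iff]
    exact forall₂_congr fun i _ => ⟨fun ⟨s, hs, h⟩ => ⟨s, hs, h⟩, fun ⟨s, hs, h⟩ => ⟨s, hs, h⟩⟩
  have hK'mem : ∀ (T : Set ι) z, z ∈ K' T ↔ ∀ i ∈ T, ∃ s ∉ 𝔓 i, s • z = 0 := by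
    intro T z
    simp only [hK', Submodule.mem_iInf, LocalizedModule.mem_ker_mkLinearMap_iff]
    exact forall₂_congr fun i _ => ⟨fun ⟨s, hs, h⟩ => ⟨s, hs, h⟩, fun ⟨s, hs, h⟩ => ⟨s, hs, h⟩⟩
  have hzero : ∀ z, z ∈ K Y → z ∈ K Yᶜ → z = 0 := by
    intro z h1 h2
    have : z ∈ K Set.univ := (hKmem _ _).2 fun i _ => by
      by_cases hi : i ∈ Y
      · exact (hKmem _ _).1 h1 i hi
      · exact (hKmem _ _).1 h2 i hi
    rwa [htf] at this
  have hNm : ∀ T (x : M), x ∈ N T ↔ q x ∈ K T := fun T x => by rw [hN]; exact Iff.rfl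
  have htrans : ∀ (T : Set ι) (w : N Y), Submodule.Quotient.mk w ∈ K' T →
      ∀ i ∈ T, ∃ s ∉ 𝔓 i, ∃ r : N Y, s • (w : M) = π • (r : M) := by
    intro T w hw i hi
    obtain ⟨s, hs, he⟩ := (hK'mem _ _).1 hw i hi
    rw [← Submodule.Quotient.mk_smul, Submodule.Quotient.mk_eq_zero, Submodule.ideal_span_singleton_smul,
      Submodule.mem_smul_pointwise_iff_exists] at he
    obtain ⟨r, -, hr⟩ := he
    exact ⟨s, hs, r, congrArg Subtype.val hr.symm⟩
  have hq0 : ∀ r : M, q (π • r) = 0 := fun r => (Submodule.Quotient.mk_eq_zero _).2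
    (Submodule.smul_mem_smul (Ideal.mem_span_singleton_self π) Submodule.mem_top)
  have htransK : ∀ (T : Set ι) (w : N Y), Submodule.Quotient.mk w ∈ K' T → q (w : M) ∈ K T := by
    intro T w hw
    rw [hKmem]
    intro i hi
    obtain ⟨s, hs, r, hr⟩ := htrans T w hw i hi
    exact ⟨s, hs, by rw [← map_smul, hr, hq0]⟩
  have hsplit : ∀ w : N Y, ∃ u v : N Y, (Submodule.Quotient.mk u) ∈ K' Z ∧ (Submodule.Quotient.mk v) ∈ K' Zᶜ ∧ (w : M) - (u + v : M) ∈ J • (⊤ : Submodule A M) := by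
    intro w
    obtain ⟨a, ha, c, hc, hac⟩ := Submodule.mem_sup.1 (hZ.ge (Submodule.mem_top (x := Submodule.Quotient.mk w)))
    obtain ⟨a, rfl⟩ := Submodule.mkQ_surjective _ a
    obtain ⟨c, rfl⟩ := Submodule.mkQ_surjective _ c
    refine ⟨a, c, ha, hc, ?_⟩
    have := (Submodule.Quotient.eq _).1 hac.symm
    have h2 := Submodule.mem_map_of_mem (f := (N Y).subtype) this
    rw [Submodule.map_smul''] at h2
    exact Submodule.smul_mono le_rfl le_top h2
  rw [eq_top_iff]
  intro z _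
  obtain ⟨a, ha, c, hc, rfl⟩ := Submodule.mem_sup.1 (hY.ge (Submodule.mem_top (x := z)))
  obtain ⟨a, rfl⟩ := Submodule.mkQ_surjective _ a
  obtain ⟨b, rfl⟩ := Submodule.mkQ_surjective _ c
  refine Submodule.add_mem _ ?_ ?_
  · obtain ⟨u, v, hu, hv, he⟩ := hsplit ⟨a, (hNm _ _).2 ha⟩
    have : q a = q u + q v := by rw [← map_add]; exact (Submodule.Quotient.eq _).2 he
    show q a ∈ _
    rw [this]
    exact Submodule.add_mem_sup (htransK _ u hu) (htransK _ v hv)
  · have hπb : π • b ∈ N Y := (hNm _ _).2 (by rw [hq0]; exact Submodule.zero_mem _)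
    obtain ⟨u₀, hu, v₀, hv, huv⟩ := Submodule.mem_sup.1 (hZ.ge (Submodule.mem_top (x := Submodule.Quotient.mk (⟨π • b, hπb⟩ : N Y))))
    obtain ⟨u, rfl⟩ := Submodule.mkQ_surjective _ u₀
    obtain ⟨v₁, rfl⟩ := Submodule.mkQ_surjective _ v₀
    -- normalise so that `π • b = u + v` on the nose
    let v : N Y := ⟨π • b, hπb⟩ - u
    have hv' : (Submodule.Quotient.mk v) ∈ K' Zᶜ := by
      rw [show (Submodule.Quotient.mk v : _ ⧸ _) = Submodule.mkQ _ v₁ by
        rw [Submodule.Quotient.mk_sub, ← huv]; simp]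
      exact hv
    have hsum : (u : M) + (v : M) = π • b := by simp [v]
    have hu0 : q (u : M) = 0 := by
      refine hzero _ ((hNm _ _).1 u.2) ((hKmem _ _).2 fun i _ => ?_)
      by_cases hi : i ∈ Z
      · exact (hKmem _ _).1 (htransK _ u hu) i hi
      · have : q (u : M) = - q (v : M) := by
          rw [eq_neg_iff_add_eq_zero, ← map_add, hsum, hq0]
        obtain ⟨s, hs, h0⟩ := (hKmem _ _).1 (htransK _ v hv') i hi
        exact ⟨s, hs, by rw [this, smul_neg, h0, neg_zero]⟩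
    have hex : ∀ w : N Y, q (w : M) = 0 → ∃ w' : M, (w : M) = π • w' := fun w hw => by
      have := (Submodule.Quotient.mk_eq_zero _).1 hw
      rw [Submodule.ideal_span_singleton_smul, Submodule.mem_smul_pointwise_iff_exists] at this
      obtain ⟨w', -, hw'⟩ := this
      exact ⟨w', hw'.symm⟩
    obtain ⟨u', hu'⟩ := hex u hu0
    obtain ⟨v', hv''⟩ := hex v (by
      rw [show (v : M) = π • b - u from rfl, map_sub, hq0, hu0, sub_zero])
    have hb : u' + v' = b := sub_eq_zero.1 (hπ _ (by rw [smul_sub, smul_add, ← hu', ← hv'', hsum, sub_self]))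
    have key : ∀ (T : Set ι) (w : N Y) (w' : M), Submodule.Quotient.mk w ∈ K' T → (w : M) = π • w' →
        ∀ p r, q p ∈ K Y → q r ∈ K Yᶜ → q p + q r = q w' → q r ∈ K T := by
      intro T w w' hw hw' p r hp hr he
      rw [hKmem]
      intro i hi
      obtain ⟨s, hs, t, ht⟩ := htrans T w hw i hi
      rw [hw', smul_comm] at ht
      have hst : s • w' = (t : M) := sub_eq_zero.1 (hπ _ (by rw [smul_sub, ht, sub_self]))
      refine ⟨s, hs, hzero _ ?_ (Submodule.smul_mem _ _ hr)⟩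
      rw [show s • q r = q (t : M) - s • q p by rw [← hst, map_smul, ← he, smul_add, add_sub_cancel_left]]
      exact Submodule.sub_mem _ ((hNm _ _).1 t.2) (Submodule.smul_mem _ _ hp)
    obtain ⟨p₁, hp₁, r₁, hr₁, he₁⟩ := Submodule.mem_sup.1 (hY.ge (Submodule.mem_top (x := q u')))
    obtain ⟨p₂, hp₂, r₂, hr₂, he₂⟩ := Submodule.mem_sup.1 (hY.ge (Submodule.mem_top (x := q v')))
    obtain ⟨P₁, rfl⟩ := Submodule.mkQ_surjective _ p₁
    obtain ⟨R₁, rfl⟩ := Submodule.mkQ_surjective _ r₁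
    obtain ⟨P₂, rfl⟩ := Submodule.mkQ_surjective _ p₂
    obtain ⟨R₂, rfl⟩ := Submodule.mkQ_surjective _ r₂
    have hbq : q b = q R₁ + q R₂ := by
      have h0 : q P₁ + q P₂ = q b - (q R₁ + q R₂) := by
        rw [← hb, map_add, ← he₁, ← he₂]; abel
      have h00 := hzero _ (Submodule.add_mem _ hp₁ hp₂) (by
        rw [h0]; exact Submodule.sub_mem _ hc (Submodule.add_mem _ hr₁ hr₂))
      rw [h00] at h0
      exact (sub_eq_zero.1 h0.symm)
    show q b ∈ _
    rw [hbq]
    exact Submodule.add_mem_sup (key Z u u' hu hu' P₁ R₁ hp₁ hr₁ he₁) (key Zᶜ v v' hv' hv'' P₂ R₂ hp₂ hr₂ he₂)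

end Groth.Agent.S18365
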