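import Groth.Statements.S18369
import Groth.Agent.AVIndexLib.AddExt
import Groth.Agent.CubeConsLib.GeomInt
import Groth.Agent.AbSchLib.Flat
import Groth.Agent.AmpleDevLib.Pull
import Groth.Agent.MiscFlat6.AmpleFpqcRel
import Groth.Agent.AmpleDevLib.Components
-- import your own Groth.Agent.* helpers here

set_option autoImplicit false
universe u
open CategoryTheory CategoryTheory.Limits MonoidalCategory CartesianMonoidalCategory MonObj GrpObj AlgebraicGeometry
open AbVar

namespace Groth.Agent.S18369

set_option backward.isDefEq.respectTransparency false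
set_option linter.style.haveILetI false
set_option maxHeartbeats 1000000

open CubeConsLib AVAmpleLib AVIndexLib

/-- Let k be a field, A an abelian variety over k (a proper smooth k-group scheme with geometrically
connected fibres) with group law m : A × A → A and projections p₁, p₂, L an ample invertible
O_A-module, and N an invertible O_A-module whose class lies in the dual abelian variety, expressed
as m^*N ≅ p₁^*N ⊗ p₂^*N. Then L ⊗ N is again ample; so ampleness of an invertible module on A
depends only on its class modulo Pic⁰. -/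
theorem result (k : Type u) [Field k]
    (A : Over (Spec (CommRingCat.of k))) [GrpObj A] [IsProper A.hom] [Smooth A.hom] [GeometricallyConnected A.hom]
    (L N : A.left.Modules) (hL : CohB1.IsAmple L) (hN : PicF.IsInvertible N)
    (hN0 : Nonempty ((Scheme.Modules.pullback μ[A].left).obj N ≅
      CohB1.tensorMod ((Scheme.Modules.pullback (fst A A).left).obj N) ((Scheme.Modules.pullback (snd A A).left).obj N))) :
    CohB1.IsAmple (CohB1.tensorMod L N) := by
  haveI := AbSchLib.geometricallyReduced_of_smooth A.hom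
  haveI := CubeConsLib.geometricallyIntegral_of_group A
  haveI := CubeConsLib.isCommMonObj_field (A := A)
  obtain ⟨e0⟩ := hN0
  have hL' := hL.1
  have hμ : fst A A * snd A A = μ[A] := by
    rw [Hom.mul_def, lift_fst_snd, Category.id_comp]
  have hadd : IsAdditive hN := by
    unfold IsAdditive
    rw [hμ, P_eq hN, P_eq hN, P_eq hN, ← clA_tensor, clA_eq_iff]
    exact ⟨e0⟩
  let Ω := AlgebraicClosure k
  letI : GrpObj ((bcF Ω).obj A) := Functor.grpObjObj
  haveI : IsProper ((bcF Ω).obj A).hom := inferInstanceAs (IsProper (pullback.snd A.hom _))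
  haveI : GeometricallyIntegral ((bcF Ω).obj A).hom :=
    inferInstanceAs (GeometricallyIntegral (pullback.snd A.hom _))
  let g := Spec.map (CommRingCat.ofHom (algebraMap k Ω))
  obtain ⟨hs, hf⟩ := AVAmpleLib.surjective_flat_qc_bc (k := k) Ω
  haveI : Surjective g := hs
  haveI : Flat g := hf
  have hNΩ := AmpleDevLib.isInvertible_pb (prBc (X := A) Ω) hN
  have hLΩ := AmpleDevLib.isInvertible_pb (prBc (X := A) Ω) hL'
  haveI : IsAffineHom (prBc (X := A) Ω) := MorphismProperty.pullback_fst _ _ inferInstance
  have hAΩ : CohB1.IsAmple ((Scheme.Modules.pullback (prBc (X := A) Ω)).obj L) :=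
    AmpleDevLib.isAmple_pb (prBc (X := A) Ω) hL' hL
  obtain ⟨x, hx⟩ := AVVanishLib.exists_phi_eq (hL := hLΩ) (isAdditive_bc Ω hadd hNΩ)
    (AVAmpleLib.finite_translationFixing hLΩ hAΩ)
  have hT := HilbPolyLib.isInvertible_tensor hL' hN
  haveI : IsIso (AVAmpleLib.tR x) := ⟨⟨AVAmpleLib.tR x⁻¹,
    by rw [AVAmpleLib.tR_comp, mul_inv_cancel, AVAmpleLib.tR_one],
    by rw [AVAmpleLib.tR_comp, inv_mul_cancel, AVAmpleLib.tR_one]⟩⟩
  haveI : IsIso (AVAmpleLib.tR x).left := inferInstanceAs (IsIso ((Over.forget _).map (AVAmpleLib.tR x)))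
  have hAT : CohB1.IsAmple ((Scheme.Modules.pullback (prBc (X := A) Ω)).obj (CohB1.tensorMod L N)) := by
    obtain ⟨e⟩ : Nonempty ((Scheme.Modules.pullback (AVAmpleLib.tR x).left).obj
        ((Scheme.Modules.pullback (prBc (X := A) Ω)).obj L) ≅
        (Scheme.Modules.pullback (prBc (X := A) Ω)).obj (CohB1.tensorMod L N)) := by
      rw [← clA_eq_iff (AmpleDevLib.isInvertible_pb (AVAmpleLib.tR x).left hLΩ)
        (AmpleDevLib.isInvertible_pb (prBc (X := A) Ω) hT), ← P_eq hLΩ, ← pullA_clA _ hT, clA_tensor hL' hN,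
        map_add, pullA_clA, pullA_clA, hx, add_sub_cancel]
    exact AmpleDevLib.isAmple_of_iso (AmpleDevLib.isInvertible_pb _ hLΩ) (AmpleDevLib.isInvertible_pb _ hT) e (AmpleDevLib.isAmple_pb (AVAmpleLib.tR x).left hLΩ hAΩ)
  exact (MiscFlat6.isRelAmple_iff_isAmple A.hom _).1
    (MiscFlat6.isRelAmple_of_baseChange A.hom hT g ((MiscFlat6.isRelAmple_iff_isAmple _ _).2 hAT))

end Groth.Agent.S18369
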