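import Groth.Statements.S1837
import Mathlib
import Groth.Agent.TameLib.GlueMax
-- import your own Groth.Agent.* helpers here

set_option autoImplicit false
universe u
open TensorProduct
open CycAlg

namespace Groth.Agent.S1837

/-- Let A be Noetherian with pairwise distinct maximal ideals 𝔪₁, …, 𝔪_r, and for each i a ring map φ_i
from A_{𝔪_i} to B_i whose kernel and cokernel are killed by a power of 𝔪_i. Then there is an
A-algebra B whose base change to each A_{𝔪_i} is isomorphic to B_i and whose structure map has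
kernel and cokernel killed by a power of 𝔪₁ ∩ … ∩ 𝔪_r; if every φ_i is finite (resp. injective,
resp. surjective) B can be taken with the same property. -/
theorem result (A : Type u) [CommRing A] [IsNoetherianRing A] (r : ℕ) (m : Fin r → Ideal A) (hm : ∀ i, (m i).IsMaximal) (hinj : Function.Injective m) (B : Fin r → Type u) [∀ i, CommRing (B i)] [∀ i, Algebra (Localization.AtPrime (m i)) (B i)] (hker : ∀ i, ∃ n : ℕ, ∀ x ∈ RingHom.ker (algebraMap (Localization.AtPrime (m i)) (B i)), ∀ y ∈ Ideal.map (algebraMap A (Localization.AtPrime (m i))) (m i) ^ n, y * x = 0) (hcoker : ∀ i, ∃ n : ℕ, ∀ y ∈ Ideal.map (algebraMap A (Localization.AtPrime (m i))) (m i) ^ n, ∀ b : B i, y • b ∈ (algebraMap (Localization.AtPrime (m i)) (B i)).range) : ∃ (C : Type u) (_ : CommRing C) (_ : Algebra A C), (∀ i, Nonempty ((Localization.AtPrime (m i)) ⊗[A] C ≃ₐ[Localization.AtPrime (m i)] B i)) ∧ (∃ n : ℕ, (∀ x ∈ RingHom.ker (algebraMap A C), ∀ y ∈ (⨅ i, m i) ^ n, y * x = 0) ∧ (∀ y ∈ (⨅ i, m i) ^ n, ∀ c : C, y • c ∈ (algebraMap A C).range)) ∧ ((∀ i,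 (algebraMap (Localization.AtPrime (m i)) (B i)).Finite) → (algebraMap A C).Finite) ∧ ((∀ i, Function.Injective (algebraMap (Localization.AtPrime (m i)) (B i))) → Function.Injective (algebraMap A C)) ∧ ((∀ i, Function.Surjective (algebraMap (Localization.AtPrime (m i)) (B i))) → Function.Surjective (algebraMap A C)) := by
  classical
  letI : ∀ i, Algebra A (B i) := fun i =>
    ((algebraMap (Localization.AtPrime (m i)) (B i)).comp (algebraMap A _)).toAlgebra
  haveI : ∀ i, IsScalarTower A (Localization.AtPrime (m i)) (B i) := fun i =>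
    IsScalarTower.of_algebraMap_eq fun _ => rfl
  choose nk hnk using hker
  choose nc hnc using hcoker
  let n := Finset.univ.sup nk + Finset.univ.sup nc
  obtain ⟨k, g, hg⟩ := Submodule.fg_iff_exists_fin_generating_family.1
    (IsNoetherian.noetherian (R := A) (M := A) (⨅ i, m i))
  have hy : ∀ i, ∀ y ∈ m i ^ n, algebraMap A (Localization.AtPrime (m i)) y ∈
      Ideal.map (algebraMap A (Localization.AtPrime (m i))) (m i) ^ n := fun i y h => by
    rw [← Ideal.map_pow]; exact Ideal.mem_map_of_mem _ h
  have hnki : ∀ i, nk i ≤ n := fun i => le_add_right (Finset.le_sup (Finset.mem_univ i))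
  have hnci : ∀ i, nc i ≤ n := fun i => le_add_left (Finset.le_sup (Finset.mem_univ i))
  have D : TameLib.GlueMax.Data B g m n :=
    { inj := hinj
      span := hg
      unit := fun i s hs => by
        rw [IsScalarTower.algebraMap_apply A (Localization.AtPrime (m i)) (B i)]
        exact (IsLocalization.map_units _ (⟨s, hs⟩ : (m i).primeCompl)).map _
      ker := fun i a ha y hym => by
        have h0 := hnk i (algebraMap A _ a)
          (by rw [RingHom.mem_ker, ← IsScalarTower.algebraMap_apply]; exact ha) (algebraMap A _ y)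
          (Ideal.pow_le_pow_right (hnki i) (hy i y hym))
        rw [← map_mul] at h0
        obtain ⟨⟨s, hs⟩, hs0⟩ := (IsLocalization.map_eq_zero_iff (m i).primeCompl _ _).1 h0
        exact ⟨s, hs, hs0⟩
      coker := fun i b y hym => by
        obtain ⟨α, hα⟩ := hnc i (algebraMap A _ y) (Ideal.pow_le_pow_right (hnci i) (hy i y hym)) b
        obtain ⟨a, ⟨s, hs⟩, rfl⟩ := IsLocalization.exists_mk'_eq (m i).primeCompl α
        refine ⟨a, s, hs, ?_⟩
        rw [mul_smul, ← algebraMap_smul (Localization.AtPrime (m i)) y b, ← hα, Algebra.smul_def,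
          IsScalarTower.algebraMap_apply A (Localization.AtPrime (m i)) (B i) s, ← map_mul]
        rw [IsScalarTower.algebraMap_apply A (Localization.AtPrime (m i)) (B i) a]
        exact congrArg _ (IsLocalization.mk'_spec' (Localization.AtPrime (m i)) a (⟨s, hs⟩ : (m i).primeCompl)) }
  refine ⟨TameLib.GlueMax.glued B g, inferInstance, inferInstance, fun i => ?_,
    ⟨n, fun x hx y hy' => TameLib.GlueMax.ker_killed D x hx y hy', TameLib.GlueMax.exists_pow_smul_range D⟩,
    fun hf => ?_, fun hi => TameLib.GlueMax.injective_of D fun l a ha => ?_,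
    fun hs => TameLib.GlueMax.surjective_of D fun l b => ?_⟩
  · letI : Algebra (TameLib.GlueMax.glued B g) (B i) := (TameLib.GlueMax.projB B g i).toRingHom.toAlgebra
    haveI : IsScalarTower A (TameLib.GlueMax.glued B g) (B i) :=
      IsScalarTower.of_algebraMap_eq fun a => ((TameLib.GlueMax.projB B g i).commutes a).symm
    haveI := TameLib.GlueMax.isLocalization_projB D i
    haveI : Algebra.IsPushout A (Localization.AtPrime (m i)) (TameLib.GlueMax.glued B g) (B i) :=
      (Algebra.isPushout_of_isLocalization (m i).primeCompl (Localization.AtPrime (m i))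
        (TameLib.GlueMax.glued B g) (B i)).symm
    exact ⟨Algebra.IsPushout.equiv A (Localization.AtPrime (m i)) (TameLib.GlueMax.glued B g) (B i)⟩
  · rw [RingHom.finite_algebraMap]
    refine TameLib.GlueMax.finite_of D fun l => ?_
    haveI : Module.Finite (Localization.AtPrime (m l)) (B l) := RingHom.finite_algebraMap.1 (hf l)
    obtain ⟨G, hG⟩ := Module.Finite.fg_top (R := Localization.AtPrime (m l)) (M := B l)
    refine ⟨G, fun b => ?_⟩
    obtain ⟨⟨s, hs⟩, hsb⟩ := multiple_mem_span_of_mem_localization_span (R' := Localization.AtPrime (m l))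
         (m l).primeCompl (G : Set (B l)) b (hG ▸ Submodule.mem_top)
    exact ⟨s, hs, hsb⟩
  · have h0 : algebraMap A (Localization.AtPrime (m l)) a = 0 := (injective_iff_map_eq_zero _).1 (hi l) _ (by
      rw [← IsScalarTower.algebraMap_apply]; exact ha)
    obtain ⟨⟨s, hs⟩, hs0⟩ := (IsLocalization.map_eq_zero_iff (m l).primeCompl _ _).1 h0
    exact ⟨s, hs, hs0⟩
  · obtain ⟨α, rfl⟩ := hs l b
    obtain ⟨a, ⟨s, hs'⟩, rfl⟩ := IsLocalization.exists_mk'_eq (m l).primeCompl α
    refine ⟨a, s, hs', ?_⟩
    rw [Algebra.smul_def, IsScalarTower.algebraMap_apply A (Localization.AtPrime (m l)) (B l) s, ← map_mul,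
      IsScalarTower.algebraMap_apply A (Localization.AtPrime (m l)) (B l) a]
    exact congrArg _ (IsLocalization.mk'_spec' (Localization.AtPrime (m l)) a (⟨s, hs'⟩ : (m l).primeCompl))

end Groth.Agent.S1837
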