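import Groth.Statements.S18370
import Mathlib.CategoryTheory.Monoidal.Cartesian.Grp
import Mathlib.Tactic.Ring
import Mathlib.Tactic.Linarith
import Mathlib.RingTheory.Coprime.Lemmas

set_option autoImplicit false
universe u
open CategoryTheory CategoryTheory.Limits MonoidalCategory CartesianMonoidalCategory MonObj GrpObj AlgebraicGeometry
open GrpSch

namespace Groth.Agent.S18370

/-- Let S be a scheme and G a commutative S-group scheme which is killed by a natural number n, i.e. the
n-th power map of G is the trivial homomorphism, and let n = a·b with a and b coprime. If i_a : G_a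
→ G and i_b : G_b → G are scheme-theoretic kernels of the a-th and b-th power maps of G, then the
morphism G_a ×_S G_b → G sending (x, y) to i_a(x)·i_b(y) is an isomorphism of S-schemes. (The
published statement assumes n ≠ 0; the case n = 0, where {a, b} = {0, 1} and one kernel is all of G
while the other is trivial, is included here.) -/
theorem result {S : Scheme.{u}} (G Ga Gb : Over S)
    [GrpObj G] [IsCommMonObj G] (n a b : ℕ) (hn : n = a * b) (hab : Nat.Coprime a b)
    (hG : (𝟙 G) ^ n = 1)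
    (ia : Ga ⟶ G) (hia : AlgGrp.IsKernel ia ((𝟙 G) ^ a))
    (ib : Gb ⟶ G) (hib : AlgGrp.IsKernel ib ((𝟙 G) ^ b)) :
    IsIso ((fst Ga Gb ≫ ia) * (snd Ga Gb ≫ ib)) := by
  have hia' : IsPullback ia (toUnit Ga) ((𝟙 G) ^ a) η[G] := hia
  have hib' : IsPullback ib (toUnit Gb) ((𝟙 G) ^ b) η[G] := hib
  obtain ⟨u, v, huv⟩ : ∃ u v : ℤ, u * a + v * b = 1 := Nat.isCoprime_iff_coprime.mpr hab
  have ka : ia ^ a = 1 := by
    have := hia'.w
    rw [MonObj.comp_pow, Category.comp_id] at this
    rw [this, Hom.one_def]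
  have kb : ib ^ b = 1 := by
    have := hib'.w
    rw [MonObj.comp_pow, Category.comp_id] at this
    rw [this, Hom.one_def]
  have hab' : ((𝟙 G) ^ ((a : ℤ) * b)) = 1 := by
    rw [← Nat.cast_mul, ← hn, zpow_natCast, hG]
  obtain ⟨p, hp⟩ : ∃ p : G ⟶ Ga, p ≫ ia = (𝟙 G) ^ (v * b) := by
    refine ⟨hia'.lift ((𝟙 G) ^ (v * b)) (toUnit _) ?_, hia'.lift_fst _ _ _⟩
    rw [MonObj.comp_pow, Category.comp_id, ← Hom.one_def, ← zpow_natCast, ← zpow_mul,
      show v * b * a = (a * b) * v by ring, zpow_mul, hab', one_zpow]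
  obtain ⟨q, hq⟩ : ∃ q : G ⟶ Gb, q ≫ ib = (𝟙 G) ^ (u * a) := by
    refine ⟨hib'.lift ((𝟙 G) ^ (u * a)) (toUnit _) ?_, hib'.lift_fst _ _ _⟩
    rw [MonObj.comp_pow, Category.comp_id, ← Hom.one_def, ← zpow_natCast, ← zpow_mul,
      show u * a * b = (a * b) * u by ring, zpow_mul, hab', one_zpow]
  have hA : (fst Ga Gb ≫ ia) ^ a = 1 := by rw [← MonObj.comp_pow, ka, MonObj.comp_one]
  have hB : (snd Ga Gb ≫ ib) ^ b = 1 := by rw [← MonObj.comp_pow, kb, MonObj.comp_one]
  haveI hma : Mono ia := hia'.mono_fst_of_mono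
  haveI hmb : Mono ib := hib'.mono_fst_of_mono
  refine ⟨lift p q, ?_, ?_⟩
  · apply CartesianMonoidalCategory.hom_ext
    · rw [Category.assoc, lift_fst, Category.id_comp, ← cancel_mono ia, Category.assoc, hp,
        GrpObj.comp_zpow, Category.comp_id, mul_zpow]
      have e2 : (snd Ga Gb ≫ ib) ^ (v * b) = 1 := by
        rw [mul_comm, zpow_mul, zpow_natCast, hB, one_zpow]
      have e1 : (fst Ga Gb ≫ ia) ^ (v * b) = fst Ga Gb ≫ ia := by
        rw [show v * b = 1 + (a : ℤ) * (-u) by linarith, zpow_add, zpow_mul, zpow_natCast, hA,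
          one_zpow, zpow_one, _root_.mul_one]
      rw [e1, e2, _root_.mul_one]
    · rw [Category.assoc, lift_snd, Category.id_comp, ← cancel_mono ib, Category.assoc, hq,
        GrpObj.comp_zpow, Category.comp_id, mul_zpow]
      have e1 : (fst Ga Gb ≫ ia) ^ (u * a) = 1 := by
        rw [mul_comm, zpow_mul, zpow_natCast, hA, one_zpow]
      have e2 : (snd Ga Gb ≫ ib) ^ (u * a) = snd Ga Gb ≫ ib := by
        rw [show u * a = 1 + (b : ℤ) * (-v) by linarith, zpow_add, zpow_mul, zpow_natCast, hB,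
          one_zpow, zpow_one, _root_.mul_one]
      rw [e1, e2, _root_.one_mul]
  · rw [MonObj.comp_mul, ← Category.assoc, ← Category.assoc, lift_fst, lift_snd, hp, hq,
      ← zpow_add, add_comm, huv, zpow_one]

end Groth.Agent.S18370
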