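import Groth.Statements.S18372
import Groth.Agent.AVAmpleLib.Stabilizer
import Groth.Agent.CubeConsLib.Transpose

set_option autoImplicit false
universe u
open CategoryTheory CategoryTheory.Limits MonoidalCategory CartesianMonoidalCategory MonObj GrpObj AlgebraicGeometry
open AbVar

namespace Groth.Agent.S18372

/-- Let k be an algebraically closed field, A an abelian variety over k (a proper smooth k-group scheme
with geometrically connected fibres), U an affine open subset of A containing the unit point and D =
A ∖ U. Then only finitely many k-rational points x of A have a translation t_x : z ↦ z + x (the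
product of the identity and the constant map x in the group Hom(A, A)) with t_x⁻¹(D) = D as sets. -/
theorem result (k : Type u) [Field k] [IsAlgClosed k]
    (A : Over (Spec (CommRingCat.of k))) [GrpObj A] [IsProper A.hom] [Smooth A.hom] [GeometricallyConnected A.hom]
    (U : A.left.Opens) (hU : IsAffineOpen U) (he : Set.range η[A].left.base ⊆ (U : Set A.left)) :
    Set.Finite {x : 𝟙_ (Over (Spec (CommRingCat.of k))) ⟶ A |
      (𝟙 A * (toUnit A ≫ x)).left.base ⁻¹' ((U : Set A.left)ᶜ) = (U : Set A.left)ᶜ} := by
  haveI := CubeConsLib.geometricallyIntegral_of_smooth_group A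
  have he' : AVAmpleLib.pt (1 : 𝟙_ (Over (Spec (CommRingCat.of k))) ⟶ A) ∈ U := by
    refine he ⟨IsLocalRing.closedPoint k, ?_⟩
    show η[A].left (IsLocalRing.closedPoint k) = (1 : 𝟙_ (Over (Spec (CommRingCat.of k))) ⟶ A).left (IsLocalRing.closedPoint k)
    rw [MonObj.one_eq_one]
  refine (AVAmpleLib.finite_preserving_compl hU he').subset fun x hx => ?_
  exact compl_injective (by rw [← Set.preimage_compl]; exact hx)

end Groth.Agent.S18372
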