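import Groth.Statements.S18374
import Mathlib
import Groth.Agent.PhiStabLib.Basic
-- import your own Groth.Agent.* helpers here

set_option autoImplicit false
universe u
open PhiStab

namespace Groth.Agent.S18374

open PhiStab in
/-- Let (V, E, ends) be a connected finite multigraph, φ a real weighting of its vertices and (m, N) a
sheaf datum on it (an integer multidegree m and a set N of edges, the non-free nodes) whose total
degree Σ_v m v + #N equals Σ_v φ v. Then (m, N) is φ-semistable, i.e. Σ_{v ∈ S} φ v - cut S / 2 ≤
deg_S(m, N) for every nonempty proper vertex set S, if and only if this inequality holds for every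
elementary S (one for which S and its complement both induce connected subgraphs); and likewise for
φ-stability with strict inequalities. This is the statement for a rank-1 torsion-free sheaf of
degree g - 1 on a stable pointed curve with this dual graph, written for the sheaf's combinatorial
datum, on which alone the stability inequalities depend and which takes all values. -/
theorem result {V E : Type u} [Fintype V] [Fintype E] [DecidableEq V] [DecidableEq E]
    (ends : E → V × V) (hconn : LabGraph.Connected ends)
    (φ : V → ℝ) (m : V → ℤ) (N : Finset E) (hdeg : (∑ v : V, φ v) = (totDeg m N : ℝ)) :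
    (IsSemistable ends φ m N ↔
      ∀ S : Finset V, IsElementary ends S →
        (∑ v ∈ S, φ v) - (LabGraph.cut ends S : ℝ) / 2 ≤ (degOn ends m N S : ℝ)) ∧
    (IsStable ends φ m N ↔
      ∀ S : Finset V, IsElementary ends S →
        (∑ v ∈ S, φ v) - (LabGraph.cut ends S : ℝ) / 2 < (degOn ends m N S : ℝ)) := by
  classical
  have hT := TreeLib.connected_univ ends hconn
  have hel : ∀ S : Finset V, IsElementary ends S → S.Nonempty ∧ S ≠ Finset.univ := fun S ⟨h1, h2⟩ => by
    obtain ⟨⟨s, hs⟩⟩ := h1.1
    obtain ⟨⟨t, ht⟩⟩ := h2.1
    exact ⟨⟨s, hs⟩, fun h => (Finset.mem_compl.1 ht) (h ▸ Finset.mem_univ t)⟩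
  have hu : PhiStabLib.exc ends φ m N Finset.univ = 0 := by rw [PhiStabLib.exc_univ, hdeg, sub_self]
  have hbase : ∀ S : Finset V, S.Nonempty → S ≠ Finset.univ → ¬ PhiStabLib.Split ends Finset.univ S →
      ¬ PhiStabLib.Split ends Finset.univ Sᶜ → IsElementary ends S := fun S hne hpr h1 h2 =>
    ⟨PhiStabLib.connected_indEnds ends hne h1, PhiStabLib.connected_indEnds ends
      (Finset.nonempty_iff_ne_empty.2 fun h => hpr (by rwa [Finset.compl_eq_empty_iff] at h)) h2⟩
  constructor
  · refine ⟨fun h S hS => h S (hel S hS).1 (hel S hS).2, fun h => ?_⟩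
    rw [PhiStabLib.isSemistable_iff]
    refine PhiStabLib.split_induction ends hT (fun S => 0 ≤ PhiStabLib.exc ends φ m N S) ?_ ?_ ?_
    · intro S hne hpr h1 h2
      have := h S (hbase S hne hpr h1 h2)
      rw [PhiStabLib.exc]; linarith
    · intro A B hd hno _ _ hA hB
      have := (PhiStabLib.exc_union_of ends φ m N _ (fun e _ => Finset.mem_univ e) A B hd hno).1
      linarith
    · intro A B hd hno _ _ hA hB
      have := (PhiStabLib.exc_union_of ends φ m N _ (fun e _ => Finset.mem_univ e) A B hd hno).2
      linarith
  · refine ⟨fun h S hS => h S (hel S hS).1 (hel S hS).2, fun h => ?_⟩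
    rw [PhiStabLib.isStable_iff]
    refine PhiStabLib.split_induction ends hT (fun S => 0 < PhiStabLib.exc ends φ m N S) ?_ ?_ ?_
    · intro S hne hpr h1 h2
      have := h S (hbase S hne hpr h1 h2)
      rw [PhiStabLib.exc]; linarith
    · intro A B hd hno _ _ hA hB
      have := (PhiStabLib.exc_union_of ends φ m N _ (fun e _ => Finset.mem_univ e) A B hd hno).1
      linarith
    · intro A B hd hno _ _ hA hB
      have := (PhiStabLib.exc_union_of ends φ m N _ (fun e _ => Finset.mem_univ e) A B hd hno).2
      linarith

end Groth.Agent.S18374
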