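import Groth.Statements.S18376
import Mathlib
import Groth.Agent.S18374
-- import your own Groth.Agent.* helpers here

set_option autoImplicit false
universe u
open PhiStab

namespace Groth.Agent.S18376

open PhiStab in
/-- Let (V, E, ends) be a connected finite multigraph, b an integer, and φ₁, φ₂ real weightings of the
vertices with Σ_v φ₁ v = Σ_v φ₂ v = b, φ₁ nondegenerate. Then every φ₁-stable sheaf datum (m, N) of
total degree b is φ₂-semistable if and only if φ₂ lies in the closed stability polytope of φ₁, that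
is, for every elementary vertex set S and every integer d with d - Σ_{v ∈ S} φ₁ v + cut S / 2 > 0
one has d - Σ_{v ∈ S} φ₂ v + cut S / 2 ≥ 0. Membership in the closure of the polytope is expressed
by this half-space condition, the form in which the source's proof uses it; the sheaves of degree g
- 1 = b on stable pointed curves with this dual graph enter through their combinatorial data. -/
theorem result {V E : Type u} [Fintype V] [Fintype E] [DecidableEq V] [DecidableEq E]
    (ends : E → V × V)
    (hconn : LabGraph.Connected ends) (b : ℤ) (φ₁ φ₂ : V → ℝ) (h₁ : (∑ v : V, φ₁ v) = (b : ℝ))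
    (h₂ : (∑ v : V, φ₂ v) = (b : ℝ)) (hnd : Nondegenerate ends φ₁) :
    (∀ (m : V → ℤ) (N : Finset E), totDeg m N = b → IsStable ends φ₁ m N → IsSemistable ends φ₂ m N) ↔
      InClosedPolytope ends φ₁ φ₂ := by
  classical
  have hel : ∀ S : Finset V, IsElementary ends S → S.Nonempty ∧ S ≠ Finset.univ := fun S ⟨h1, h2⟩ => by
    obtain ⟨⟨s, hs⟩⟩ := h1.1
    obtain ⟨⟨t, ht⟩⟩ := h2.1
    exact ⟨⟨s, hs⟩, fun h => (Finset.mem_compl.1 ht) (h ▸ Finset.mem_univ t)⟩
  constructor
  · intro h S hS d hd
    obtain ⟨hne, hpr⟩ := hel S hS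
    obtain ⟨e0, he0⟩ := PhiStabLib.cross_nonempty ends (TreeLib.connected_univ ends hconn) hne hpr
    rw [PhiStabLib.cross, Finset.mem_filter] at he0
    let U : Finset E := insert e0 (PhiStab.inner ends S ∪ PhiStab.inner ends Sᶜ)
    have lift : ∀ (A : Finset V), (∀ e, e ∈ PhiStab.inner ends A → e ∈ U) → LabGraph.Connected (indEnds ends A) →
        ∀ v ∈ A, ∀ w ∈ A, Relation.ReflTransGen (LabGraph.Adj (TreeLib.sub ends U)) v w := by
      intro A hA hc v hv w hw
      refine Relation.ReflTransGen.lift' Subtype.val ?_ _ _ (hc.2 ⟨v, hv⟩ ⟨w, hw⟩)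
      rintro a b ⟨⟨e, he⟩, h⟩
      refine Relation.ReflTransGen.single ⟨⟨e, hA e he⟩, ?_⟩
      rcases h with h | h
      · exact Or.inl (Prod.ext (congrArg (fun p => (p.1 : V)) h) (congrArg (fun p => (p.2 : V)) h))
      · exact Or.inr (Prod.ext (congrArg (fun p => (p.1 : V)) h) (congrArg (fun p => (p.2 : V)) h))
    have l1 := lift S (fun e he => Finset.mem_insert_of_mem (Finset.mem_union_left _ he)) hS.1
    have l2 := lift Sᶜ (fun e he => Finset.mem_insert_of_mem (Finset.mem_union_right _ he)) hS.2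
    have hbr : ∃ p ∈ S, ∃ q, q ∉ S ∧ LabGraph.Adj (TreeLib.sub ends U) p q := by
      rcases he0.2 with ⟨a, b⟩ | ⟨a, b⟩
      · exact ⟨_, a, _, b, ⟨e0, Finset.mem_insert_self _ _⟩, Or.inl rfl⟩
      · exact ⟨_, b, _, a, ⟨e0, Finset.mem_insert_self _ _⟩, Or.inr rfl⟩
    obtain ⟨p, hp, q, hq, hpq⟩ := hbr
    have hUc : LabGraph.Connected (TreeLib.sub ends U) := by
      refine ⟨⟨p⟩, fun v w => ?_⟩
      by_cases hv : v ∈ S <;> by_cases hw : w ∈ S
      · exact l1 v hv w hw
      · exact ((l1 v hv p hp).tail hpq).trans (l2 q (Finset.mem_compl.2 hq) w (Finset.mem_compl.2 hw))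
      · exact ((l2 v (Finset.mem_compl.2 hv) q (Finset.mem_compl.2 hq)).tail (TreeLib.adj_symm _ hpq)).trans (l1 p hp w hw)
      · exact l2 v (Finset.mem_compl.2 hv) w (Finset.mem_compl.2 hw)
    obtain ⟨T, hTU, hT⟩ := TreeLib.exists_spanningTree ends U hUc
    have hcross : PhiStabLib.cross ends T S = {e0} := by
      have hsub : PhiStabLib.cross ends T S ⊆ {e0} := fun e he => by
        rw [PhiStabLib.cross, Finset.mem_filter] at he
        have := hTU he.1
        simp only [U, PhiStab.inner, Finset.mem_insert, Finset.mem_union, Finset.mem_filter, Finset.mem_univ, true_and,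
          Finset.mem_compl] at this
        rw [Finset.mem_singleton]
        tauto
      exact (Finset.subset_singleton_iff.1 hsub).resolve_left
        (PhiStabLib.cross_nonempty ends hT.1 hne hpr).ne_empty
    obtain ⟨m, ⟨ht, hst⟩, -⟩ := PhiStabLib.existsUnique_stable ends hT b φ₁ h₁ hnd
    have hsum := PhiStabLib.exc_add_compl ends φ₁ m Tᶜ S
    rw [ht, h₁, sub_self, zero_add, compl_compl, hcross, Finset.card_singleton, Nat.cast_one] at hsum
    have hc := (PhiStabLib.isStable_iff ends φ₁ m Tᶜ).1 hst Sᶜ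
      (Finset.nonempty_iff_ne_empty.2 fun h => hpr (by rwa [Finset.compl_eq_empty_iff] at h))
      (fun h => hne.ne_empty (by rwa [Finset.compl_eq_univ_iff] at h))
    have h1 : PhiStabLib.exc ends φ₁ m Tᶜ S < 1 := by linarith
    have h2 := (PhiStabLib.isSemistable_iff ends φ₂ m Tᶜ).1 (h m Tᶜ ht hst) S hne hpr
    simp only [PhiStabLib.exc] at h1 h2
    simp only [ell] at hd ⊢
    have h3 : degOn ends m Tᶜ S ≤ d := by
      have : (degOn ends m Tᶜ S : ℝ) < (d : ℝ) + 1 := by linarith
      exact_mod_cast Int.lt_add_one_iff.1 (by exact_mod_cast this)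
    have h4 : (degOn ends m Tᶜ S : ℝ) ≤ d := by exact_mod_cast h3
    linarith
  · intro h m N hdeg hst
    refine (S18374.result ends hconn φ₂ m N (by rw [hdeg, h₂])).1.2 fun S hS => ?_
    have h1 := hst S (hel S hS).1 (hel S hS).2
    have h2 := h S hS (degOn ends m N S) (by rw [ell]; linarith)
    rw [ell] at h2
    linarith

end Groth.Agent.S18376
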