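import Groth.Statements.S18377
import Mathlib

-- import your own Groth.Agent.* helpers here

set_option autoImplicit false
open Complex
open VerlindeComb

namespace Groth.Agent.S18377

open Finset Matrix

section

variable {r N : ℕ} [NeZero N] (x : Fin r → ℂ)

/-- Generalised Vandermonde determinant. -/
noncomputable def D (a : Fin r → Fin N) : ℂ := (Matrix.of fun i j : Fin r => x j ^ (a i : ℕ)).det

theorem conj_eq {y : ℂ} (hy : y ^ N = 1) : (starRingEnd ℂ) y = y⁻¹ := by
  have hn : ‖y‖ = 1 := Complex.norm_eq_one_of_pow_eq_one hy (NeZero.ne N)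
  exact (Complex.inv_eq_conj hn).symm

theorem D_translate (hx : ∀ j, x j ^ N = 1) (a : Fin r → Fin N) (c : Fin N) :
    Complex.normSq (D x (fun i => a i + c)) = Complex.normSq (D x a) := by
  have h : D x (fun i => a i + c) = (∏ j, x j ^ (c : ℕ)) * D x a := by
    rw [D, D, ← Matrix.det_mul_row (fun j => x j ^ (c : ℕ))]
    congr 1
    ext i j
    simp only [Matrix.of_apply, Fin.val_add]
    rw [← pow_eq_pow_mod _ (hx j), pow_add]
    ring
  rw [h, map_mul, map_prod]
  have h1 : ∀ j, Complex.normSq (x j ^ (c : ℕ)) = 1 := fun j => by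
    rw [map_pow, Complex.normSq_eq_norm_sq, Complex.norm_eq_one_of_pow_eq_one (hx j) (NeZero.ne N)]; simp
  simp [h1]

theorem D_perm (a : Fin r → Fin N) (π : Equiv.Perm (Fin r)) :
    Complex.normSq (D x (a ∘ π)) = Complex.normSq (D x a) := by
  rw [D, D, show (Matrix.of fun i j : Fin r => x j ^ ((a ∘ π) i : ℕ)) = (Matrix.of fun i j : Fin r => x j ^ (a i : ℕ)).submatrix π id from rfl,
    Matrix.det_permute, map_mul]
  rcases Int.units_eq_one_or (Equiv.Perm.sign π) with h | h <;> simp [h]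

theorem D_eq_zero (a : Fin r → Fin N) (h : ¬ Function.Injective a) : Complex.normSq (D x a) = 0 := by
  obtain ⟨i, j, hij, hne⟩ := Function.not_injective_iff.1 h
  rw [map_eq_zero]
  exact Matrix.det_zero_of_row_eq hne (funext fun c => by simp [hij])

theorem sum_D (hinj : Function.Injective x) (hx : ∀ j, x j ^ N = 1) :
    ∑ a : Fin r → Fin N, Complex.normSq (D x a) = (r.factorial : ℝ) * (N : ℝ) ^ r := by
  classical
  have horth : ∀ p q : Fin r, ∑ b : Fin N, x p ^ (b : ℕ) * (starRingEnd ℂ) (x q ^ (b : ℕ)) = if p = q then (N : ℂ) else 0 := by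
    intro p q
    have hq : x q ≠ 0 := fun h => by simpa [h, zero_pow (NeZero.ne N)] using hx q
    simp only [map_pow, conj_eq (hx q), ← mul_pow]
    rw [Fin.sum_univ_eq_sum_range (fun b => (x p * (x q)⁻¹) ^ b) N]
    split_ifs with h
    · subst h; simp [hq]
    · have hne : x p * (x q)⁻¹ ≠ 1 := fun h1 => h (hinj ((mul_inv_eq_one₀ hq).1 h1))
      rw [geom_sum_eq hne, mul_pow, inv_pow, hx, hx]
      simp
  have key : ((∑ a : Fin r → Fin N, Complex.normSq (D x a) : ℝ) : ℂ) = ((r.factorial : ℝ) * (N : ℝ) ^ r : ℝ) := by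
    push_cast
    have hF : ∀ a : Fin r → Fin N, (Complex.normSq (D x a) : ℂ) = ∑ σ : Equiv.Perm (Fin r), ∑ τ : Equiv.Perm (Fin r),
        ((Equiv.Perm.sign σ : ℤ) : ℂ) * ((Equiv.Perm.sign τ : ℤ) : ℂ) *
          ∏ i, (x (σ i) ^ (a i : ℕ) * (starRingEnd ℂ) (x (τ i) ^ (a i : ℕ))) := by
      intro a
      rw [← Complex.mul_conj, D, ← Matrix.det_transpose, Matrix.det_apply', map_sum, Finset.sum_mul_sum]
      refine Finset.sum_congr rfl fun σ _ => Finset.sum_congr rfl fun τ _ => ?_
      simp only [Matrix.transpose_apply, Matrix.of_apply, map_mul, map_prod, map_intCast, Finset.prod_mul_distrib]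
      ring
    simp only [hF]
    rw [Finset.sum_comm]
    have h1 : ∀ σ : Equiv.Perm (Fin r), ∑ a : Fin r → Fin N, ∑ τ : Equiv.Perm (Fin r),
        ((Equiv.Perm.sign σ : ℤ) : ℂ) * ((Equiv.Perm.sign τ : ℤ) : ℂ) *
          ∏ i, (x (σ i) ^ (a i : ℕ) * (starRingEnd ℂ) (x (τ i) ^ (a i : ℕ))) = (N : ℂ) ^ r := by
      intro σ
      rw [Finset.sum_comm, Finset.sum_eq_single σ]
      · rw [← Finset.mul_sum, ← Fintype.prod_sum (fun i (b : Fin N) => x (σ i) ^ (b : ℕ) * (starRingEnd ℂ) (x (σ i) ^ (b : ℕ)))]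
        simp only [horth, if_true, Finset.prod_const, Finset.card_univ, Fintype.card_fin]
        rcases Int.units_eq_one_or (Equiv.Perm.sign σ) with h | h <;> simp [h]
      · intro τ _ hne
        rw [← Finset.mul_sum, ← Fintype.prod_sum (fun i (b : Fin N) => x (σ i) ^ (b : ℕ) * (starRingEnd ℂ) (x (τ i) ^ (b : ℕ)))]
        obtain ⟨i, hi⟩ : ∃ i, σ i ≠ τ i := by
          by_contra hc; push_neg at hc; exact hne (Equiv.ext fun i => (hc i).symm)
        rw [Finset.prod_eq_zero (Finset.mem_univ i) (by rw [horth, if_neg hi]), mul_zero]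
      · simp
    rw [Finset.sum_congr rfl fun σ _ => h1 σ]
    simp [Fintype.card_perm]
  exact_mod_cast key

theorem bij_sort {r N : ℕ} :
    Function.Bijective (fun q : {w : Fin r → Fin N // StrictAnti w} × Equiv.Perm (Fin r) =>
      (⟨q.1.1 ∘ q.2, q.1.2.injective.comp q.2.injective⟩ : {v : Fin r → Fin N // Function.Injective v})) := by
  constructor
  · rintro ⟨⟨w, hw⟩, π⟩ ⟨⟨w', hw'⟩, π'⟩ h
    have h' : w ∘ π = w' ∘ π' := congrArg Subtype.val h
    have hr : Set.range w = Set.range w' := by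
      have := congrArg Set.range h'
      rwa [EquivLike.range_comp, EquivLike.range_comp] at this
    have hww : w ∘ Fin.rev = w' ∘ Fin.rev := by
      apply (StrictMono.range_inj (fun a b hab => hw (Fin.rev_lt_rev.2 hab)) (fun a b hab => hw' (Fin.rev_lt_rev.2 hab))).1
      show Set.range (w ∘ Fin.rev) = Set.range (w' ∘ Fin.rev)
      rw [Set.range_comp, Set.range_comp, Fin.rev_surjective.range_eq, Set.image_univ, Set.image_univ, hr]
    obtain rfl : w = w' := funext fun i => by simpa using congrFun hww (Fin.rev i)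
    obtain rfl : π = π' := Equiv.ext fun i => hw.injective (congrFun h' i)
    rfl
  · rintro ⟨v, hv⟩
    let σ := Tuple.sort v
    have hm : StrictMono (v ∘ σ) := (Tuple.monotone_sort v).strictMono_of_injective (hv.comp σ.injective)
    refine ⟨(⟨(v ∘ σ) ∘ Fin.rev, fun a b hab => hm (Fin.rev_lt_rev.2 hab)⟩, σ.symm.trans Fin.revPerm), ?_⟩
    apply Subtype.ext
    funext i
    simp

theorem sum_avoid (hinj : Function.Injective x) (hx : ∀ j, x j ^ N = 1) (c : Fin N) {k : ℕ} (hk : r + k = N) (hr : 1 ≤ r) :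
    ∑ w ∈ (Finset.univ : Finset (Fin r → Fin N)).filter (fun w => StrictAnti w ∧ ∀ i, w i ≠ c), Complex.normSq (D x w) =
      (k : ℝ) * (N : ℝ) ^ (r - 1) := by
  classical
  let F : (Fin r → Fin N) → ℝ := fun a => Complex.normSq (D x a)
  let G : Fin r → Fin N → ℝ := fun i b => ∑ a ∈ univ.filter (fun a : Fin r → Fin N => a i = b), F a
  have hG : ∀ i b, G i b = G i c := by
    intro i b
    refine Finset.sum_equiv (Equiv.arrowCongr (Equiv.refl _) (Equiv.addRight (c - b))) ?_ ?_
    · intro a; simp [← eq_sub_iff_add_eq]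
    · intro a _; exact (D_translate x hx a (c - b)).symm
  have hGc : ∀ i, G i c = (r.factorial : ℝ) * (N : ℝ) ^ (r - 1) := by
    intro i
    have hN : (N : ℝ) ≠ 0 := by exact_mod_cast NeZero.ne N
    apply mul_left_cancel₀ hN
    have h0 : (N : ℝ) * G i c = (r.factorial : ℝ) * (N : ℝ) ^ r := by
      rw [← sum_D x hinj hx, ← Finset.sum_fiberwise univ (fun a : Fin r → Fin N => a i)]
      show _ = ∑ b, G i b
      simp [hG]
    rw [h0]
    conv_lhs => rw [show r = r - 1 + 1 by omega, pow_succ]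
    rw [show r - 1 + 1 = r by omega]; ring
  let m : (Fin r → Fin N) → ℝ := fun a => 1 - ∑ i, if a i = c then (1 : ℝ) else 0
  have h1 : ∑ a, m a * F a = (r.factorial : ℝ) * ((k : ℝ) * (N : ℝ) ^ (r - 1)) := by
    simp only [m, sub_mul, one_mul, Finset.sum_sub_distrib, Finset.sum_mul, ite_mul, zero_mul]
    rw [Finset.sum_comm]
    simp only [← Finset.sum_filter]
    show ∑ a, Complex.normSq (D x a) - ∑ i, G i c = _
    rw [sum_D x hinj hx]
    simp only [hGc, Finset.sum_const, Finset.card_univ, Fintype.card_fin, nsmul_eq_mul]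
    have e : (N : ℝ) ^ r = (N : ℝ) ^ (r - 1) * N := by rw [← pow_succ]; congr 1; omega
    rw [e, show (N : ℝ) = (r : ℝ) + k by exact_mod_cast hk.symm]
    ring
  have h2 : ∑ a, m a * F a = ∑ a : {a : Fin r → Fin N // Function.Injective a}, m a.1 * F a.1 := by
    rw [← Finset.sum_subtype (univ.filter fun a : Fin r → Fin N => Function.Injective a) (by simp) (fun a => m a * F a)]
    symm
    refine Finset.sum_subset (Finset.subset_univ _) fun a _ ha => ?_
    rw [show F a = 0 from D_eq_zero x a (by simpa using ha), mul_zero]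
  have hm : ∀ w : Fin r → Fin N, StrictAnti w → m w = if ∀ i, w i ≠ c then 1 else 0 := by
    intro w hw
    by_cases h : ∀ i, w i ≠ c
    · simp [m, h]
    · rw [if_neg h]
      push_neg at h
      obtain ⟨i, hi⟩ := h
      simp only [m]
      rw [Finset.sum_eq_single i (fun j _ hj => if_neg fun h' => hj (hw.injective (h'.trans hi.symm))) (by simp), if_pos hi, sub_self]
  have hmp : ∀ (w : Fin r → Fin N) (π : Equiv.Perm (Fin r)), m (w ∘ π) = m w := fun w π => by
    simp only [m]; rw [← Equiv.sum_comp π (fun i => if w i = c then (1 : ℝ) else 0)]; rfl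
  have hFp : ∀ (w : Fin r → Fin N) (π : Equiv.Perm (Fin r)), F (w ∘ π) = F w := fun w π => D_perm x w π
  rw [h2, ← (Equiv.ofBijective _ bij_sort).sum_comp, Fintype.sum_prod_type] at h1
  simp only [Equiv.ofBijective_apply, hFp, hmp, Finset.sum_const, Finset.card_univ, Fintype.card_perm, Fintype.card_fin, nsmul_eq_mul] at h1
  rw [← Finset.mul_sum] at h1
  have h3 := mul_left_cancel₀ (show (r.factorial : ℝ) ≠ 0 by exact_mod_cast r.factorial_ne_zero) h1
  rw [← h3, ← Finset.sum_subtype (univ.filter fun w : Fin r → Fin N => StrictAnti w) (by simp) (fun w => m w * F w),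
    ← Finset.filter_filter, Finset.sum_filter]
  refine Finset.sum_congr rfl fun w hw => ?_
  rw [hm w (Finset.mem_filter.1 hw).2, ite_mul, one_mul, zero_mul]

end



/-- Let r, k ≥ 1 be integers and v_1 > v_2 > ⋯ > v_r ≥ 0 integers below r + k; put z_j = exp(2πi v_j /
(r + k)) and, for μ = (μ_1, …, μ_r), let S_μ(z) = det(z_j^{μ_i + r - i}) / det(z_j^{r - i}) be the
value of the Schur polynomial (the z_j are distinct, so the Vandermonde denominator is nonzero).
Then, summing over all μ with k > μ_1 ≥ ⋯ ≥ μ_r ≥ 0 and writing μ* = (k - μ_r, …, k - μ_1), one has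
Σ_μ S_μ(z) S_{μ*}(z) = exp(2πi k (v_1 + ⋯ + v_r) / (r + k)) · k (r + k)^{r-1} / ∏_{i<j} (2 sin(π
(v_i - v_j) / (r + k)))². Indices are 0-based below: μ i stands for μ_{i+1}. -/
theorem result (r k : ℕ) (hr : 1 ≤ r) (hk : 1 ≤ k)
    (v : Fin r → ℕ) (hv : StrictAnti v) (hvlt : ∀ i, v i < r + k)
    (z : Fin r → ℂ) (hz : ∀ j, z j = Complex.exp (2 * Real.pi * Complex.I * (v j : ℂ) / ((r : ℂ) + k)))
    (S : (Fin r → ℕ) → ℂ)
    (hS : ∀ μ : Fin r → ℕ, S μ =
      (Matrix.of fun i j : Fin r => z j ^ (μ i + (r - 1 - (i : ℕ)))).det /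
        (Matrix.of fun i j : Fin r => z j ^ (r - 1 - (i : ℕ))).det) :
    (∑ μ ∈ (Finset.univ : Finset (Fin r → Fin k)).filter (fun μ : Fin r → Fin k => Antitone μ),
        S (fun i => (μ i : ℕ)) * S (fun i => k - (μ (Fin.rev i) : ℕ))) =
      Complex.exp (2 * Real.pi * Complex.I * (k : ℂ) * ((∑ j, v j : ℕ) : ℂ) / ((r : ℂ) + k)) *
        ((k : ℂ) * ((r : ℂ) + k) ^ (r - 1)) /
        (∏ p ∈ (Finset.univ : Finset (Fin r × Fin r)).filter (fun p => p.1 < p.2),
          (((2 : ℝ) * Real.sin (Real.pi * ((v p.1 : ℝ) - (v p.2 : ℝ)) / ((r : ℝ) + k))) ^ 2 : ℝ) : ℂ) := by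
  classical
  set N := r + k with hNdef
  have : NeZero N := ⟨by omega⟩
  have hNC : ((r : ℂ) + k) = (N : ℂ) := by rw [hNdef]; push_cast; ring
  let ω : ℂ := Complex.exp (2 * Real.pi * Complex.I / N)
  have hω : IsPrimitiveRoot ω N := Complex.isPrimitiveRoot_exp N (NeZero.ne N)
  have hzω : ∀ j, z j = ω ^ v j := fun j => by
    rw [hz, ← Complex.exp_nat_mul, hNC]; congr 1; ring
  have hxN : ∀ j, z j ^ N = 1 := fun j => by rw [hzω, ← pow_mul, mul_comm, pow_mul, hω.pow_eq_one, one_pow]
  have hinj : Function.Injective z := fun i j h => by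
    rw [hzω, hzω] at h
    exact hv.injective (hω.pow_inj (hvlt i) (hvlt j) h)
  let ε : ℂ := ((Equiv.Perm.sign (Fin.revPerm : Equiv.Perm (Fin r)) : ℤ) : ℂ)
  have hεε : ε * ε = 1 := by
    simp only [ε]; rcases Int.units_eq_one_or (Equiv.Perm.sign (Fin.revPerm : Equiv.Perm (Fin r))) with h | h <;> simp [h]
  set V := (Matrix.vandermonde z).det with hV
  have hden : (Matrix.of fun i j : Fin r => z j ^ (r - 1 - (i : ℕ))).det = ε * V := by
    rw [hV, ← Matrix.det_transpose (Matrix.vandermonde z), ← Matrix.det_permute]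
    congr 1
    ext i j
    simp only [Matrix.submatrix_apply, Fin.revPerm_apply, id_eq, Matrix.transpose_apply, Matrix.vandermonde_apply, Matrix.of_apply, Fin.val_rev]
    congr 1
    omega
  have hV0 : V ≠ 0 := Matrix.det_vandermonde_ne_zero_iff.2 hinj
  set P := ∏ j, z j with hP
  have hPN : P ^ N = 1 := by rw [hP, ← Finset.prod_pow]; simp [hxN]
  have hPc : (starRingEnd ℂ) P * P = 1 := by
    rw [conj_eq hPN, inv_mul_cancel₀]
    intro h0; rw [h0, zero_pow (NeZero.ne N)] at hPN; exact zero_ne_one hPN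
  have hconj : (starRingEnd ℂ) V = ε * P ^ (k + 1) * V := by
    have h1 : (starRingEnd ℂ) V = (∏ j, z j ^ (k + 1)) * (Matrix.of fun i j : Fin r => z j ^ (r - 1 - (i : ℕ))).det := by
      rw [hV, RingHom.map_det, ← Matrix.det_transpose, ← Matrix.det_mul_row]
      congr 1
      ext i j
      simp only [RingHom.mapMatrix_apply, Matrix.transpose_apply, Matrix.map_apply, Matrix.vandermonde_apply, Matrix.of_apply]
      rw [← pow_add, map_pow, conj_eq (hxN j), inv_pow]
      refine (eq_inv_of_mul_eq_one_left ?_).symm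
      rw [← pow_add, show k + 1 + (r - 1 - (i : ℕ)) + (i : ℕ) = N by omega, hxN]
    rw [h1, hden, hP, ← Finset.prod_pow]; ring
  -- the exponent vector attached to μ
  let A : (Fin r → Fin k) → (Fin r → Fin N) := fun μ i => ⟨(μ i : ℕ) + (r - 1 - (i : ℕ)), by omega⟩
  have hterm : ∀ μ : Fin r → Fin k, S (fun i => (μ i : ℕ)) * S (fun i => k - (μ (Fin.rev i) : ℕ)) =
      ε * (starRingEnd ℂ) P * (Complex.normSq (D z (A μ)) : ℂ) / (V * V) := by
    intro μ
    rw [hS, hS, hden]
    have hnum : (Matrix.of fun i j : Fin r => z j ^ ((k - (μ (Fin.rev i) : ℕ)) + (r - 1 - (i : ℕ)))).det =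
        ε * ((starRingEnd ℂ) P * (starRingEnd ℂ) (D z (A μ))) := by
      rw [hP, map_prod, D, RingHom.map_det, ← Matrix.det_mul_row, ← Matrix.det_permute]
      congr 1
      ext i j
      simp only [Matrix.submatrix_apply, Fin.revPerm_apply, id_eq, Matrix.of_apply, RingHom.mapMatrix_apply, Matrix.map_apply, A, Fin.val_rev]
      rw [map_pow, conj_eq (hxN j), ← pow_succ', inv_pow]
      refine eq_inv_of_mul_eq_one_left ?_
      have hμ : (μ (Fin.rev i) : ℕ) < k := (μ _).2
      rw [← pow_add, show k - (μ (Fin.rev i) : ℕ) + (r - 1 - (i : ℕ)) + ((μ (Fin.rev i) : ℕ) + (r - 1 - (r - ((i : ℕ) + 1))) + 1) = N by omega, hxN]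
    rw [hnum, ← Complex.mul_conj]
    have hε0 : ε ≠ 0 := fun h => by rw [h, zero_mul] at hεε; exact zero_ne_one hεε
    show (Matrix.of fun i j : Fin r => z j ^ ((μ i : ℕ) + (r - 1 - (i : ℕ)))).det / (ε * V) * _ = _
    have hD : D z (A μ) = (Matrix.of fun i j : Fin r => z j ^ ((μ i : ℕ) + (r - 1 - (i : ℕ)))).det := rfl
    rw [← hD]
    field_simp
    linear_combination (-(D z (A μ)) * (starRingEnd ℂ) P * (starRingEnd ℂ) (D z (A μ))) * hεε
  rw [Finset.sum_congr rfl fun μ _ => hterm μ, ← Finset.sum_div, ← Finset.mul_sum, ← Complex.ofReal_sum]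
  have hsum : ∑ μ ∈ (Finset.univ : Finset (Fin r → Fin k)).filter (fun μ : Fin r → Fin k => Antitone μ), Complex.normSq (D z (A μ)) =
      (k : ℝ) * (N : ℝ) ^ (r - 1) := by
    rw [← sum_avoid z hinj hxN (⟨N - 1, by omega⟩ : Fin N) hNdef.symm hr]
    refine Finset.sum_bij (fun μ _ => A μ) ?_ ?_ ?_ (fun _ _ => rfl)
    · intro μ hμ
      simp only [Finset.mem_filter, Finset.mem_univ, true_and] at hμ ⊢
      refine ⟨fun i j hij => ?_, fun i => ?_⟩
      · have h1 : (μ j : ℕ) ≤ μ i := hμ hij.le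
        have h2 : (i : ℕ) < j := hij
        show (μ j : ℕ) + (r - 1 - (j : ℕ)) < (μ i : ℕ) + (r - 1 - (i : ℕ))
        omega
      · have := (μ i).2
        simp only [A, ne_eq, Fin.ext_iff]
        omega
    · intro μ _ μ' _ h
      funext i
      have := congrArg (fun a => (a i : ℕ)) h
      simp only [A] at this
      exact Fin.ext (by omega)
    · intro a ha
      simp only [Finset.mem_filter, Finset.mem_univ, true_and] at ha
      obtain ⟨hanti, hne⟩ := ha
      have hstep : ∀ i j : Fin r, i ≤ j → (a j : ℕ) + ((j : ℕ) - (i : ℕ)) ≤ a i := by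
        intro i j hij
        obtain ⟨t, ht⟩ : ∃ t, (j : ℕ) = (i : ℕ) + t := ⟨(j : ℕ) - i, by have : (i : ℕ) ≤ j := hij; omega⟩
        rw [show (j : ℕ) - (i : ℕ) = t by omega]
        clear hij
        induction t generalizing j with
        | zero => rw [show j = i from Fin.ext (by omega)]; omega
        | succ t ih =>
          have hlt : (⟨(i : ℕ) + t, by omega⟩ : Fin r) < j := by rw [Fin.lt_def]; show (i : ℕ) + t < j; omega
          have h3 : (a j : ℕ) < a ⟨(i : ℕ) + t, by omega⟩ := hanti hlt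
          have := ih ⟨(i : ℕ) + t, by omega⟩ rfl
          omega
      have hlo : ∀ i : Fin r, r - 1 - (i : ℕ) ≤ a i := fun i => by
        have := hstep i ⟨r - 1, by omega⟩ (by rw [Fin.le_def]; show (i : ℕ) ≤ r - 1; omega)
        simp only at this; omega
      have hhi : ∀ i : Fin r, (a i : ℕ) + (i : ℕ) + 2 ≤ N := fun i => by
        have h1 := hstep ⟨0, by omega⟩ i (by rw [Fin.le_def]; exact Nat.zero_le _)
        have h2 := hne ⟨0, by omega⟩
        rw [ne_eq, Fin.ext_iff] at h2
        simp only at h1 h2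
        omega
      refine ⟨fun i => ⟨(a i : ℕ) - (r - 1 - (i : ℕ)), by have := hhi i; have := hlo i; omega⟩, ?_, funext fun i => Fin.ext (by have := hlo i; simp only [A]; omega)⟩
      simp only [Finset.mem_filter, Finset.mem_univ, true_and]
      intro i j hij
      have h1 := hstep i j hij
      have : (i : ℕ) ≤ j := hij
      show (a j : ℕ) - (r - 1 - (j : ℕ)) ≤ (a i : ℕ) - (r - 1 - (i : ℕ))
      omega
  rw [hsum]
  have hE : Complex.exp (2 * Real.pi * Complex.I * (k : ℂ) * ((∑ j, v j : ℕ) : ℂ) / ((r : ℂ) + k)) = P ^ k := by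
    rw [hP, Finset.prod_congr rfl fun j _ => hzω j, Finset.prod_pow_eq_pow_sum, ← pow_mul, ← Complex.exp_nat_mul, hNC]
    congr 1; push_cast; ring
  have hprod : (∏ p ∈ (Finset.univ : Finset (Fin r × Fin r)).filter (fun p => p.1 < p.2),
          (((2 : ℝ) * Real.sin (Real.pi * ((v p.1 : ℝ) - (v p.2 : ℝ)) / ((r : ℝ) + k))) ^ 2 : ℝ) : ℂ) = V * (starRingEnd ℂ) V := by
    have key : ∀ a b : Fin r, Complex.normSq (z b - z a) = (2 * Real.sin (Real.pi * ((v a : ℝ) - (v b : ℝ)) / ((r : ℝ) + k))) ^ 2 := by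
      intro a b
      have h : ∀ c : Fin r, z c = Complex.exp ((2 * Real.pi * (v c : ℝ) / ((r : ℝ) + k) : ℝ) * Complex.I) := by
        intro c; rw [hz]; congr 1; push_cast; ring
      rw [h a, h b, Complex.normSq_apply]
      simp only [Complex.sub_re, Complex.sub_im, Complex.exp_ofReal_mul_I_re, Complex.exp_ofReal_mul_I_im]
      set x := 2 * Real.pi * (v a : ℝ) / ((r : ℝ) + k) with hx
      set y := 2 * Real.pi * (v b : ℝ) / ((r : ℝ) + k) with hy
      rw [show Real.pi * ((v a : ℝ) - (v b : ℝ)) / ((r : ℝ) + k) = (x - y) / 2 by rw [hx, hy]; ring, mul_pow,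
        Real.sin_sq_eq_half_sub, show 2 * ((x - y) / 2) = x - y by ring, Real.cos_sub]
      linear_combination (Real.cos_sq_add_sin_sq x) + (Real.cos_sq_add_sin_sq y)
    rw [Complex.mul_conj, hV, Matrix.det_vandermonde]
    simp only [map_prod, key]
    push_cast
    rw [Finset.prod_filter, Fintype.prod_prod_type]
    refine Finset.prod_congr rfl fun i _ => ?_
    rw [← Finset.prod_filter]
    exact Finset.prod_congr (by ext j; simp) fun j _ => rfl
  rw [hE, hprod, hconj, hNC]
  have hPP := hPc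
  have hP0 : P ≠ 0 := fun h => by rw [h, mul_zero] at hPc; exact zero_ne_one hPc
  have hε0 : ε ≠ 0 := fun h => by rw [h, zero_mul] at hεε; exact zero_ne_one hεε
  push_cast
  field_simp
  linear_combination ((k : ℂ) * (N : ℂ) ^ (r - 1) * ε * ε * P ^ k) * hPc + ((k : ℂ) * (N : ℂ) ^ (r - 1) * P ^ k) * hεε

end Groth.Agent.S18377
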