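import Groth.Statements.S18378
import Groth.Agent.VerlLib.Rot
import Mathlib.Analysis.SpecialFunctions.Complex.Log
import Mathlib.Data.Fin.Tuple.Sort
import Mathlib.Algebra.BigOperators.Field
-- import your own Groth.Agent.* helpers here

set_option autoImplicit false
open Complex
open VerlindeComb

namespace Groth.Agent.S18378

open Finset

/-- A strictly decreasing sequence drops by at least the distance of the indices. -/
theorem anti_gap {r : ℕ} {s : Fin r → ℕ} (hs : StrictAnti s) : ∀ (d : ℕ) (i j : Fin r), (j : ℕ) = i + d → s j + d ≤ s i := by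
  intro d
  induction d with
  | zero => intro i j h; rw [Fin.ext (by omega) (a := j) (b := i)]; omega
  | succ d ih =>
    intro i j h
    have := j.2
    have h1 := ih i ⟨i + d, by omega⟩ rfl
    have h2 : s j < s ⟨i + d, by omega⟩ := hs (show (⟨i + d, by omega⟩ : Fin r) < j from Fin.lt_def.2 (by show (i : ℕ) + d < j; omega))
    omega

/-- Two strictly decreasing sequences matched up to a translation modulo `N` with equal sums are translates. -/
theorem translate {r N : ℕ} (v v' : Fin r → ℕ) (hv : StrictAnti v) (hv' : StrictAnti v') (hvlt : ∀ i, v i < N)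
    (hv'lt : ∀ i, v' i < N) (s : ℤ) (hs : (r : ℤ) * s = ∑ i, (v' i : ℤ) - ∑ i, (v i : ℤ))
    (σ : Equiv.Perm (Fin r)) (hσ : ∀ l, (N : ℤ) ∣ s + v l - v' (σ l)) : ∀ l, (v l : ℤ) - v' l = -s := by
  choose t ht using hσ
  have hsum : ∑ l, (N : ℤ) * t l = 0 := by
    rw [← Finset.sum_congr rfl (fun l _ => ht l), sum_sub_distrib, sum_add_distrib, sum_const, Finset.card_univ,
      Fintype.card_fin, Equiv.sum_comp σ (fun i => (v' i : ℤ)), nsmul_eq_mul, hs]
    ring
  have hclose : ∀ l m, t l ≤ t m + 1 := fun l m => by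
    have h1 := ht l
    have h2 := ht m
    have := hvlt l; have := hvlt m; have := hv'lt (σ l); have := hv'lt (σ m)
    by_contra hne
    have h3 : (N : ℤ) * (t m + 2) ≤ N * t l := mul_le_mul_of_nonneg_left (by omega) (by omega)
    rw [mul_add] at h3
    omega
  have hN : ∀ _l : Fin r, (0 : ℤ) < N := fun l => by have := hvlt l; omega
  have hle : ∀ l, t l ≤ 0 := fun l => by
    by_contra hl
    have : 0 < ∑ m, (N : ℤ) * t m := sum_pos' (fun m _ => mul_nonneg (hN l).le (by have := hclose l m; omega))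
      ⟨l, mem_univ l, mul_pos (hN l) (by omega)⟩
    omega
  have h0 : ∀ l, t l = 0 := fun l => by
    have := (sum_eq_zero_iff_of_nonpos (fun m _ => mul_nonpos_of_nonneg_of_nonpos (hN m).le (hle m))).1 hsum l (mem_univ l)
    exact (mul_eq_zero.1 this).resolve_left (hN l).ne'
  have heq : ∀ l, (v' (σ l) : ℤ) = s + v l := fun l => by have := ht l; rw [h0 l] at this; omega
  have hmono : StrictMono σ := fun a b hab => by
    by_contra hle'
    have h1 := hv hab
    have h2 := hv'.antitone (not_lt.1 hle')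
    have := heq a; have := heq b
    omega
  have hid : (σ : Fin r → Fin r) = id := (hmono.range_inj strictMono_id).1 (by rw [σ.surjective.range_eq, Set.range_id])
  intro l
  have := heq l
  rw [show σ l = l from congrFun hid l] at this
  omega

/-- Let r, k ≥ 1 be integers and v, v' two integer vectors with r + k > v_1 > ⋯ > v_r ≥ 0 and r + k >
v'_1 > ⋯ > v'_r ≥ 0 whose difference v - v' is not a constant vector (a, …, a). Put z_j = exp(2πi
v_j / (r + k)), z'_j = exp(2πi v'_j / (r + k)), let S_μ(w) = det(w_j^{μ_i + r - i}) / det(w_j^{r -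
i}) be the Schur value at w = z or z', and write |x| for the sum of the coordinates of a vector and
μ* = (k - μ_r, …, k - μ_1). Then the sum over all μ with k ≥ μ_1 ≥ ⋯ ≥ μ_{r-1} ≥ μ_r = 0 of exp(-2πi
|μ| |v| / (r (r + k))) · exp(-2πi |μ*| |v'| / (r (r + k))) · S_μ(z) · S_{μ*}(z') is zero. The
vanishing is the orthogonality of distinct characters and holds exactly for non-equivalent v, v';
for v - v' constant the sum is nonzero. Indices are 0-based below: μ i stands for μ_{i+1}. -/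
theorem result (r k : ℕ) (hr : 1 ≤ r)
    (hk : 1 ≤ k) (v v' : Fin r → ℕ) (hv : StrictAnti v) (hvlt : ∀ i, v i < r + k) (hv' : StrictAnti v')
    (hv'lt : ∀ i, v' i < r + k) (hne : ¬ ∃ a : ℤ, ∀ i, (v i : ℤ) - (v' i : ℤ) = a)
    (z z' : Fin r → ℂ) (hz : ∀ j, z j = Complex.exp (2 * Real.pi * Complex.I * (v j : ℂ) / ((r : ℂ) + k)))
    (hz' : ∀ j, z' j = Complex.exp (2 * Real.pi * Complex.I * (v' j : ℂ) / ((r : ℂ) + k)))
    (S S' : (Fin r → ℕ) → ℂ)
    (hS : ∀ μ : Fin r → ℕ, S μ =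
      (Matrix.of fun i j : Fin r => z j ^ (μ i + (r - 1 - (i : ℕ)))).det /
        (Matrix.of fun i j : Fin r => z j ^ (r - 1 - (i : ℕ))).det)
    (hS' : ∀ μ : Fin r → ℕ, S' μ =
      (Matrix.of fun i j : Fin r => z' j ^ (μ i + (r - 1 - (i : ℕ)))).det /
        (Matrix.of fun i j : Fin r => z' j ^ (r - 1 - (i : ℕ))).det) :
    (∑ μ ∈ (Finset.univ : Finset (Fin r → Fin (k + 1))).filter
        (fun μ : Fin r → Fin (k + 1) => Antitone μ ∧ ∀ i : Fin r, (i : ℕ) = r - 1 → (μ i : ℕ) = 0),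
      Complex.exp (-(2 * Real.pi * Complex.I * ((∑ i, (μ i : ℕ) : ℕ) : ℂ) * ((∑ j, v j : ℕ) : ℂ) /
          ((r : ℂ) * ((r : ℂ) + k)))) *
      Complex.exp (-(2 * Real.pi * Complex.I * ((∑ i, (k - (μ (Fin.rev i) : ℕ)) : ℕ) : ℂ) *
          ((∑ j, v' j : ℕ) : ℂ) / ((r : ℂ) * ((r : ℂ) + k)))) *
      S (fun i => (μ i : ℕ)) * S' (fun i => k - (μ (Fin.rev i) : ℕ))) = 0 := by
  classical
  let N := r + k
  haveI : NeZero N := ⟨by omega⟩
  have hr0 : (r : ℂ) ≠ 0 := Nat.cast_ne_zero.2 (by omega)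
  have hNC : (r : ℂ) + k = (N : ℂ) := by simp only [N, Nat.cast_add]
  have hN0 : (r : ℂ) + k ≠ 0 := hNC ▸ Nat.cast_ne_zero.2 (NeZero.ne N)
  let e : ℂ := 2 * Real.pi * Complex.I
  let V : ℕ := ∑ j, v j
  let V' : ℕ := ∑ j, v' j
  let ω : ℂ := Complex.exp (e * ((V' : ℂ) - V) / ((r : ℂ) * ((r : ℂ) + k)))
  let y : Fin r → ℂ := fun j => (z' j)⁻¹
  have hz'0 : ∀ j, z' j ≠ 0 := fun j => by rw [hz']; exact Complex.exp_ne_zero _
  have hzN : ∀ j, z j ^ N = 1 := fun j => by
    rw [hz, ← Complex.exp_nat_mul, Complex.exp_eq_one_iff]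
    exact ⟨v j, by rw [← hNC]; push_cast; field_simp⟩
  have hz'N : ∀ j, z' j ^ N = 1 := fun j => by
    rw [hz', ← Complex.exp_nat_mul, Complex.exp_eq_one_iff]
    exact ⟨v' j, by rw [← hNC]; push_cast; field_simp⟩
  have hyN : ∀ j, y j ^ N = 1 := fun j => by simp only [y]; rw [inv_pow, hz'N, inv_one]
  have hprodz : ∀ (w : Fin r → ℕ), ∏ j, Complex.exp (2 * Real.pi * Complex.I * (w j : ℂ) / ((r : ℂ) + k)) =
      Complex.exp (e * ((∑ j, w j : ℕ) : ℂ) / ((r : ℂ) + k)) := fun w => by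
    rw [← Complex.exp_sum, ← Finset.sum_div, Nat.cast_sum, mul_sum]
  have hshift : ω ^ r * (∏ j, z j) * (∏ j, y j) = 1 := by
    have h1 : ∏ j, z j = Complex.exp (e * (V : ℂ) / ((r : ℂ) + k)) := by simp only [hz]; exact hprodz v
    have h2 : ∏ j, y j = Complex.exp (-(e * (V' : ℂ) / ((r : ℂ) + k))) := by
      simp only [y, hz', prod_inv_distrib]
      rw [hprodz v', Complex.exp_neg]
    rw [h1, h2]
    simp only [ω, ← Complex.exp_nat_mul, ← Complex.exp_add]
    rw [← Complex.exp_zero]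
    congr 1
    show (r : ℂ) * (e * ((V' : ℂ) - V) / ((r : ℂ) * ((r : ℂ) + k))) + e * (V : ℂ) / ((r : ℂ) + k) + -(e * (V' : ℂ) / ((r : ℂ) + k)) = 0
    field_simp
    ring
  have hωr : (ω ^ N) ^ r = 1 := by
    rw [← pow_mul, ← Complex.exp_nat_mul, Complex.exp_eq_one_iff]
    exact ⟨(V' : ℤ) - V, by simp only [e, N]; push_cast; field_simp⟩
  have hdet : ω ^ N = 1 → (Matrix.of fun i j : Fin r => ∑ l ∈ range N, (ω * y i * z j) ^ l).det = 0 := by
    intro hc
    rw [← Complex.exp_nat_mul, Complex.exp_eq_one_iff] at hc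
    obtain ⟨s, hs⟩ := hc
    have hs' : (V' : ℂ) - V = (s : ℂ) * r := by
      rw [← hNC] at hs
      have h2 : (2 * (Real.pi : ℂ) * Complex.I) ≠ 0 := Complex.two_pi_I_ne_zero
      apply mul_left_cancel₀ h2
      simp only [e] at hs
      field_simp at hs
      linear_combination (2 * (Real.pi : ℂ) * Complex.I) * hs
    have hsZ : (r : ℤ) * s = ∑ i, (v' i : ℤ) - ∑ i, (v i : ℤ) := by
      have : ((V' : ℤ) - V : ℤ) = s * r := by exact_mod_cast hs'
      simp only [V, V'] at this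
      push_cast at this
      rw [this, mul_comm]
    rw [Matrix.det_apply']
    refine sum_eq_zero fun σ _ => mul_eq_zero_of_right _ ?_
    obtain ⟨l, hl⟩ : ∃ l, ¬ (N : ℤ) ∣ s + v l - v' (σ l) := by
      by_contra hall
      push Not at hall
      exact hne ⟨-s, translate v v' hv hv' (fun i => hvlt i) (fun i => hv'lt i) s hsZ σ hall⟩
    refine prod_eq_zero (mem_univ l) ?_
    simp only [Matrix.of_apply]
    have hw : ω * y (σ l) * z l = Complex.exp (e * ((s : ℂ) + v l - v' (σ l)) / ((r : ℂ) + k)) := by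
      simp only [ω, y, hz, hz', ← Complex.exp_neg, ← Complex.exp_add, e]
      congr 1
      rw [hs']
      field_simp
      ring
    have hw1 : ω * y (σ l) * z l ≠ 1 := by
      rw [hw, Ne, Complex.exp_eq_one_iff]
      rintro ⟨m, hm⟩
      refine hl ⟨m, ?_⟩
      simp only [e] at hm
      field_simp at hm
      have h2 : (2 * (Real.pi : ℂ) * Complex.I) ≠ 0 := Complex.two_pi_I_ne_zero
      have h3 : ((s : ℂ) + v l - v' (σ l)) = (m : ℂ) * ((r : ℂ) + k) := by linear_combination hm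
      have h4 : (s + v l - v' (σ l) : ℤ) = m * N := by
        rw [hNC] at h3
        exact_mod_cast h3
      rw [h4, mul_comm]
    have hwN : (ω * y (σ l) * z l) ^ N = 1 := by
      rw [hw, ← Complex.exp_nat_mul, Complex.exp_eq_one_iff]
      exact ⟨s + v l - v' (σ l), by rw [← hNC]; push_cast; simp only [e]; field_simp⟩
    exact (mul_eq_zero.1 (show (∑ i ∈ range N, (ω * y (σ l) * z l) ^ i) * (ω * y (σ l) * z l - 1) = 0 by
      rw [geom_sum_mul, hwN, sub_self])).resolve_right (sub_ne_zero.2 hw1)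
  have hkey := VerlLib.sum_zero_coord_eq_zero (N := N) (by omega) ω z y hzN hyN hshift hωr hdet
  -- only injective tuples count, and they come from partitions
  let M := (univ : Finset (Fin r → Fin (k + 1))).filter
    (fun μ : Fin r → Fin (k + 1) => Antitone μ ∧ ∀ i : Fin r, (i : ℕ) = r - 1 → (μ i : ℕ) = 0)
  let st : (Fin r → Fin (k + 1)) → Fin r → Fin N := fun μ i => ⟨(μ i : ℕ) + (r - 1 - (i : ℕ)), by
    have := (μ i).2; have := i.2; simp only [N]; omega⟩
  let last : Fin r := ⟨r - 1, by omega⟩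
  have hst : ∀ μ ∈ M, StrictAnti (st μ) ∧ st μ last = 0 := fun μ hμ => by
    simp only [M, mem_filter, mem_univ, true_and] at hμ
    refine ⟨fun a b hab => ?_, ?_⟩
    · have h1 : (μ b : ℕ) ≤ μ a := hμ.1 hab.le
      have h2 : (a : ℕ) < b := hab
      have := b.2
      exact Fin.lt_def.2 (by simp only [st]; omega)
    · exact Fin.ext (by simp only [st, last, Fin.val_zero]; rw [hμ.2 _ rfl]; omega)
  let T := (univ : Finset (Fin r → Fin N)).filter (fun a => Function.Injective a ∧ ∃ i, a i = 0)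
  have hT : ∑ a ∈ T, VerlLib.Φ ω z y a = 0 := by
    rw [← hkey]
    symm
    rw [sum_comm' (t' := (univ : Finset (Fin r → Fin N))) (s' := fun a => univ.filter (fun i => a i = 0)) (by simp),
      ← sum_subset (s₁ := T) (subset_univ _)]
    · refine sum_congr rfl fun a ha => ?_
      simp only [T, mem_filter, mem_univ, true_and] at ha
      obtain ⟨hinj, i, hi⟩ := ha
      rw [show univ.filter (fun j => a j = 0) = {i} from eq_singleton_iff_unique_mem.2
        ⟨by simpa using hi, fun j hj => hinj ((by simpa using hj : a j = 0).trans hi.symm)⟩, sum_singleton]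
    · intro a _ ha
      by_cases hinj : Function.Injective a
      · refine sum_eq_zero fun i hi => absurd ?_ ha
        simp only [T, mem_filter, mem_univ, true_and]
        exact ⟨hinj, i, by simpa using hi⟩
      · exact sum_eq_zero fun i _ => VerlLib.Φ_eq_zero ω z y a hinj
  have hpairs : ∑ μ ∈ M, ∑ σ : Equiv.Perm (Fin r), VerlLib.Φ ω z y (st μ ∘ σ) = 0 := by
    rw [← hT, ← sum_product' M (univ : Finset (Equiv.Perm (Fin r))) (fun μ σ => VerlLib.Φ ω z y (st μ ∘ σ))]
    refine sum_bij (fun p _ => st p.1 ∘ p.2) ?_ ?_ ?_ (fun _ _ => rfl)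
    · rintro ⟨μ, σ⟩ hp
      obtain ⟨h1, h2⟩ := hst μ (mem_product.1 hp).1
      simp only [T, mem_filter, mem_univ, true_and]
      exact ⟨h1.injective.comp σ.injective, σ.symm last, by simp [h2]⟩
    · rintro ⟨μ, σ⟩ hp ⟨μ', σ'⟩ hp' h
      obtain ⟨h1, -⟩ := hst μ (mem_product.1 hp).1
      obtain ⟨h1', -⟩ := hst μ' (mem_product.1 hp').1
      have h : st μ ∘ σ = st μ' ∘ σ' := h
      have h3 : Set.range (st μ) = Set.range (st μ') := by
        have := congrArg Set.range h
        rwa [σ.surjective.range_comp, σ'.surjective.range_comp] at this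
      have h4 : st μ = st μ' := (h1.range_inj h1').1 h3
      have h5 : μ = μ' := funext fun i => Fin.ext (by
        have := congrArg Fin.val (congrFun h4 i)
        simp only [st] at this
        omega)
      subst h5
      rw [show σ = σ' from Equiv.ext fun i => h1.injective (congrFun h i)]
    · intro a ha
      simp only [T, mem_filter, mem_univ, true_and] at ha
      obtain ⟨hinj, i₀, hi₀⟩ := ha
      let τ : Equiv.Perm (Fin r) := Fin.revPerm.trans (Tuple.sort a)
      let s : Fin r → ℕ := fun i => (a (τ i) : ℕ)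
      have hmono : StrictMono (a ∘ Tuple.sort a) :=
        (Tuple.monotone_sort a).strictMono_of_injective (hinj.comp (Tuple.sort a).injective)
      have hs : StrictAnti s := fun p q hpq => Fin.lt_def.1 (hmono (Fin.rev_lt_rev.2 hpq))
      have hlast0 : s last = 0 := by
        have h1 : (τ.symm i₀ : ℕ) ≤ r - 1 := by have := (τ.symm i₀).2; omega
        have h2 := hs.antitone (show τ.symm i₀ ≤ last from h1)
        have h3 : s (τ.symm i₀) = 0 := by simp [s, hi₀]
        omega
      have hlow : ∀ i : Fin r, r - 1 - (i : ℕ) ≤ s i := fun i => by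
        have h1 := anti_gap hs (r - 1 - i) i last (by simp only [last]; have := i.2; omega)
        omega
      have hhigh : ∀ i : Fin r, s i - (r - 1 - (i : ℕ)) < k + 1 := fun i => by
        have h1 := anti_gap hs i ⟨0, by omega⟩ i (by simp)
        have h2 : s ⟨0, by omega⟩ < r + k := (a (τ ⟨0, by omega⟩)).2
        have := i.2
        omega
      let μ : Fin r → Fin (k + 1) := fun i => ⟨s i - (r - 1 - (i : ℕ)), hhigh i⟩
      have hμ : μ ∈ M := by
        simp only [M, mem_filter, mem_univ, true_and]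
        refine ⟨fun p q hpq => Fin.le_def.2 ?_, fun i hi => ?_⟩
        · have h1 := anti_gap hs ((q : ℕ) - p) p q (by have : (p : ℕ) ≤ q := hpq; omega)
          have := hlow p; have := hlow q; have := q.2; have : (p : ℕ) ≤ q := hpq
          simp only [μ]; omega
        · rw [show i = last from Fin.ext hi]; simp [μ, hlast0]
      refine ⟨(μ, τ.symm), mem_product.2 ⟨hμ, mem_univ _⟩, funext fun j => Fin.ext ?_⟩
      have := hlow (τ.symm j)
      simp only [Function.comp_apply, st, μ]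
      rw [Nat.sub_add_cancel this]
      simp [s]
  have hinner : ∀ μ : Fin r → Fin (k + 1), ∑ σ : Equiv.Perm (Fin r), VerlLib.Φ ω z y (st μ ∘ σ) =
      ω ^ (∑ i, (st μ i : ℕ)) * (Matrix.of fun i j : Fin r => z j ^ (st μ i : ℕ)).det *
        (Matrix.of fun i j : Fin r => y j ^ (st μ i : ℕ)).det := fun μ => by
    rw [Matrix.det_apply' (Matrix.of fun i j : Fin r => y j ^ (st μ i : ℕ)), mul_sum]
    refine sum_congr rfl fun σ _ => ?_
    have hperm : (Matrix.of fun i j : Fin r => z j ^ ((st μ ∘ σ) i : ℕ)).det =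
        Equiv.Perm.sign σ * (Matrix.of fun i j : Fin r => z j ^ (st μ i : ℕ)).det := by
      rw [← Matrix.det_permute]; rfl
    rw [VerlLib.Φ, hperm]
    simp only [mul_pow, prod_mul_distrib, prod_pow_eq_pow_sum, Matrix.of_apply, Function.comp_apply]
    rw [Equiv.sum_comp σ (fun i => (st μ i : ℕ))]
    ring
  -- identify with the given sum
  let C : ℕ := ∑ i : Fin r, (r - 1 - (i : ℕ))
  let K : ℂ := Complex.exp (e * ((C : ℂ) * (V : ℂ) - ((k : ℂ) * r + C) * V') / ((r : ℂ) * ((r : ℂ) + k))) *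
    ((Equiv.Perm.sign (Fin.revPerm : Equiv.Perm (Fin r)) : ℂ) * (∏ j, y j) /
      ((Matrix.of fun i j : Fin r => z j ^ (r - 1 - (i : ℕ))).det *
        (Matrix.of fun i j : Fin r => z' j ^ (r - 1 - (i : ℕ))).det))
  suffices hterm : ∀ μ ∈ M,
      Complex.exp (-(2 * Real.pi * Complex.I * ((∑ i, (μ i : ℕ) : ℕ) : ℂ) * ((∑ j, v j : ℕ) : ℂ) /
          ((r : ℂ) * ((r : ℂ) + k)))) *
      Complex.exp (-(2 * Real.pi * Complex.I * ((∑ i, (k - (μ (Fin.rev i) : ℕ)) : ℕ) : ℂ) *
          ((∑ j, v' j : ℕ) : ℂ) / ((r : ℂ) * ((r : ℂ) + k)))) *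
      S (fun i => (μ i : ℕ)) * S' (fun i => k - (μ (Fin.rev i) : ℕ)) =
      K * ∑ σ : Equiv.Perm (Fin r), VerlLib.Φ ω z y (st μ ∘ σ) by
    rw [sum_congr rfl hterm, ← mul_sum, hpairs, mul_zero]
  intro μ hμ
  rw [hinner]
  have hsumst : ∑ i, (st μ i : ℕ) = (∑ i, (μ i : ℕ)) + C := by simp only [st, C, sum_add_distrib]
  have hdual : ((∑ i, (k - (μ (Fin.rev i) : ℕ)) : ℕ) : ℂ) = (k : ℂ) * r - ((∑ i, (μ i : ℕ) : ℕ) : ℂ) := by
    have h1 : ∑ i, (k - (μ (Fin.rev i) : ℕ)) = ∑ i, (k - (μ i : ℕ)) :=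
      Equiv.sum_comp Fin.revPerm (fun i => k - (μ i : ℕ))
    have h2 : ∑ i, (k - (μ i : ℕ)) + ∑ i, (μ i : ℕ) = r * k := by
      rw [← sum_add_distrib, sum_congr rfl (fun i _ => Nat.sub_add_cancel (by have := (μ i).2; omega)), sum_const,
        Finset.card_univ, Fintype.card_fin, smul_eq_mul]
    rw [h1, eq_sub_iff_add_eq, mul_comm (k : ℂ)]
    exact_mod_cast h2
  have hD' : (Matrix.of fun i j : Fin r => z' j ^ ((k - (μ (Fin.rev i) : ℕ)) + (r - 1 - (i : ℕ)))).det =
      (Equiv.Perm.sign (Fin.revPerm : Equiv.Perm (Fin r)) : ℂ) * ((∏ j, y j) *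
        (Matrix.of fun i j : Fin r => y j ^ (st μ i : ℕ)).det) := by
    rw [← VerlLib.det_mul_col, ← Matrix.det_permute]
    congr 1
    ext i j
    simp only [Matrix.of_apply, Matrix.submatrix_apply, id_eq, Fin.revPerm_apply, st, y]
    rw [← pow_succ' (z' j)⁻¹, inv_pow]
    refine eq_inv_of_mul_eq_one_left ?_
    rw [← pow_add]
    have := (μ (Fin.rev i)).2
    have := i.2
    rw [show k - (μ (Fin.rev i) : ℕ) + (r - 1 - (i : ℕ)) + ((μ (Fin.rev i) : ℕ) + (r - 1 - (Fin.rev i : ℕ)) + 1) = N by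
      rw [Fin.val_rev]; simp only [N]; omega]
    exact hz'N j
  rw [hS, hS', hD', hdual, hsumst]
  rw [show ω ^ ((∑ i, (μ i : ℕ)) + C) = Complex.exp ((((∑ i, (μ i : ℕ)) + C : ℕ) : ℂ) *
    (e * ((V' : ℂ) - V) / ((r : ℂ) * ((r : ℂ) + k)))) from (Complex.exp_nat_mul _ _).symm]
  simp only [K]
  rw [show ∀ a b c d : ℂ, a * (b / c) * d = a * d * (b / c) from fun a b c d => by ring] at *
  rw [← Complex.exp_add]
  set X := (Matrix.of fun i j : Fin r => z j ^ (st μ i : ℕ)).det
  set Yd := (Matrix.of fun i j : Fin r => y j ^ (st μ i : ℕ)).det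
  set d1 := (Matrix.of fun i j : Fin r => z j ^ (r - 1 - (i : ℕ))).det
  set d2 := (Matrix.of fun i j : Fin r => z' j ^ (r - 1 - (i : ℕ))).det
  set sg := (Equiv.Perm.sign (Fin.revPerm : Equiv.Perm (Fin r)) : ℂ)
  set P := ∏ j, y j
  have hexp : Complex.exp (e * ((C : ℂ) * (V : ℂ) - ((k : ℂ) * r + C) * V') / ((r : ℂ) * ((r : ℂ) + k))) *
      Complex.exp ((((∑ i, (μ i : ℕ)) + C : ℕ) : ℂ) * (e * ((V' : ℂ) - V) / ((r : ℂ) * ((r : ℂ) + k)))) =
    Complex.exp (-(2 * Real.pi * Complex.I * ((∑ i, (μ i : ℕ) : ℕ) : ℂ) * ((∑ j, v j : ℕ) : ℂ) /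
        ((r : ℂ) * ((r : ℂ) + k))) + -(2 * Real.pi * Complex.I * ((k : ℂ) * r - ((∑ i, (μ i : ℕ) : ℕ) : ℂ)) *
          ((∑ j, v' j : ℕ) : ℂ) / ((r : ℂ) * ((r : ℂ) + k)))) := by
    rw [← Complex.exp_add]
    congr 1
    simp only [e, V, V']
    push_cast
    field_simp
    ring
  rw [← hexp]
  ring

end Groth.Agent.S18378
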