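import Groth.Statements.S18379
import Mathlib

-- import your own Groth.Agent.* helpers here

set_option autoImplicit false
open VerlindeComb

namespace Groth.Agent.S18379
open Complex Finset Matrix

noncomputable def z (N : ℕ) (a : Fin N) : ℂ := Complex.exp (2 * Real.pi * Complex.I * ((a : ℕ) : ℂ) / N)

noncomputable def F {r N : ℕ} (v : Fin r → Fin N) : ℝ := Complex.normSq (Matrix.vandermonde fun i => z N (v i)).det

theorem z_eq_pow {N : ℕ} (a : Fin N) : z N a = Complex.exp (2 * Real.pi * Complex.I / N) ^ (a : ℕ) := by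
  rw [z, ← Complex.exp_nat_mul]; congr 1; ring

theorem z_add {N : ℕ} [NeZero N] (a b : Fin N) : z N (a + b) = z N a * z N b := by
  rw [z_eq_pow, z_eq_pow, z_eq_pow, ← pow_add, Fin.val_add]
  exact (pow_eq_pow_mod _ (Complex.isPrimitiveRoot_exp N (NeZero.ne N)).pow_eq_one).symm

theorem normSq_z {N : ℕ} (a : Fin N) : Complex.normSq (z N a) = 1 := by
  rw [z, Complex.normSq_eq_norm_sq, Complex.norm_exp]
  simp [Complex.div_re]

theorem normSq_z_sub {N : ℕ} (a b : Fin N) :
    Complex.normSq (z N a - z N b) = (2 * Real.sin (Real.pi * ((a : ℕ) - (b : ℕ) : ℝ) / N)) ^ 2 := by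
  have h : ∀ c : Fin N, z N c = Complex.exp ((2 * Real.pi * ((c : ℕ) : ℝ) / N : ℝ) * Complex.I) := by
    intro c; rw [z]; congr 1; push_cast; ring
  rw [h a, h b, Complex.normSq_apply]
  simp only [Complex.sub_re, Complex.sub_im, Complex.exp_ofReal_mul_I_re, Complex.exp_ofReal_mul_I_im]
  set x := 2 * Real.pi * ((a : ℕ) : ℝ) / N with hx
  set y := 2 * Real.pi * ((b : ℕ) : ℝ) / N with hy
  have e : Real.pi * ((a : ℕ) - (b : ℕ) : ℝ) / N = (x - y) / 2 := by rw [hx, hy]; ring
  rw [e, mul_pow, Real.sin_sq_eq_half_sub, show 2 * ((x - y) / 2) = x - y by ring, Real.cos_sub]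
  linear_combination (Real.cos_sq_add_sin_sq x) + (Real.cos_sq_add_sin_sq y)

theorem F_eq_prod {r N : ℕ} (v : Fin r → Fin N) :
    F v = ∏ p ∈ (Finset.univ : Finset (Fin r × Fin r)).filter (fun p => p.1 < p.2),
      (2 * Real.sin (Real.pi * ((v p.1 : ℕ) - (v p.2 : ℕ) : ℝ) / N)) ^ 2 := by
  rw [F, det_vandermonde, map_prod, Finset.prod_filter, Fintype.prod_prod_type]
  refine Finset.prod_congr rfl fun i _ => ?_
  rw [map_prod, ← Finset.prod_filter]
  refine Finset.prod_congr (by ext j; simp) fun j _ => ?_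
  rw [← normSq_z_sub, ← Complex.normSq_neg, neg_sub]

theorem F_perm {r N : ℕ} (v : Fin r → Fin N) (π : Equiv.Perm (Fin r)) : F (v ∘ π) = F v := by
  rw [F, F, show (Matrix.vandermonde fun i => z N ((v ∘ π) i)) = (Matrix.vandermonde fun i => z N (v i)).submatrix π id from rfl,
    Matrix.det_permute, map_mul]
  rcases Int.units_eq_one_or (Equiv.Perm.sign π) with h | h <;> simp [h]

theorem F_eq_zero {r N : ℕ} (v : Fin r → Fin N) (h : ¬ Function.Injective v) : F v = 0 := by
  rw [F, map_eq_zero, Matrix.det_vandermonde_eq_zero_iff]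
  obtain ⟨i, j, hij, hne⟩ := Function.not_injective_iff.1 h
  exact ⟨i, j, congrArg (z N) hij, hne⟩

theorem F_translate {r N : ℕ} [NeZero N] (v : Fin r → Fin N) (c : Fin N) : F (fun i => v i + c) = F v := by
  rw [F, F, Matrix.det_vandermonde, Matrix.det_vandermonde]
  simp only [map_prod, z_add, ← sub_mul, map_mul, normSq_z, mul_one]

theorem sum_F {r N : ℕ} [NeZero N] (hrN : r ≤ N) :
    ∑ v : Fin r → Fin N, F v = (r.factorial : ℝ) * (N : ℝ) ^ r := by
  classical
  have hω := Complex.isPrimitiveRoot_exp N (NeZero.ne N)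
  set ω := Complex.exp (2 * Real.pi * Complex.I / N) with hωdef
  have horth : ∀ i j : Fin r, ∑ a : Fin N, z N a ^ (i : ℕ) * (starRingEnd ℂ) (z N a ^ (j : ℕ)) = if i = j then (N : ℂ) else 0 := by
    intro i j
    have hω1 : Complex.normSq ω = 1 := by
      rw [hωdef, Complex.normSq_eq_norm_sq, Complex.norm_exp]; simp [Complex.div_re]
    have hinv : (starRingEnd ℂ) ω = ω⁻¹ := by rw [Complex.inv_def, hω1]; simp
    let ζ := ω ^ (i : ℕ) * (ω⁻¹) ^ (j : ℕ)
    have hterm : ∀ a : Fin N, z N a ^ (i : ℕ) * (starRingEnd ℂ) (z N a ^ (j : ℕ)) = ζ ^ (a : ℕ) := by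
      intro a
      rw [z_eq_pow, map_pow, map_pow, hinv, ← pow_mul, ← pow_mul, mul_comm (a : ℕ) i, mul_comm (a : ℕ) j, pow_mul, pow_mul, ← mul_pow]
    simp only [hterm]
    rw [Fin.sum_univ_eq_sum_range (fun x => ζ ^ x) N]
    split_ifs with h
    · subst h
      have : ζ = 1 := by
        show ω ^ (i : ℕ) * (ω⁻¹) ^ (i : ℕ) = 1
        rw [← mul_pow, mul_inv_cancel₀ (hω.ne_zero (NeZero.ne N)), one_pow]
      simp [this]
    · have hne : ζ ≠ 1 := by
        intro h1
        apply h
        have h2 : ω ^ (i : ℕ) = ω ^ (j : ℕ) := by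
          have h3 : ω ^ (i : ℕ) * (ω ^ (j : ℕ))⁻¹ = 1 := by rw [← inv_pow]; exact h1
          exact (mul_inv_eq_one₀ (pow_ne_zero _ (hω.ne_zero (NeZero.ne N)))).1 h3
        exact Fin.ext (hω.pow_inj (lt_of_lt_of_le i.2 hrN) (lt_of_lt_of_le j.2 hrN) h2)
      rw [geom_sum_eq hne]
      have : ζ ^ N = 1 := by
        show (ω ^ (i : ℕ) * (ω⁻¹) ^ (j : ℕ)) ^ N = 1
        rw [mul_pow, ← pow_mul, ← pow_mul, mul_comm (i : ℕ), mul_comm (j : ℕ), pow_mul, pow_mul, hω.pow_eq_one, inv_pow, hω.pow_eq_one]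
        simp
      simp [this]
  have key : ((∑ v : Fin r → Fin N, F v : ℝ) : ℂ) = ((r.factorial : ℝ) * (N : ℝ) ^ r : ℝ) := by
    push_cast
    have hF : ∀ v : Fin r → Fin N, (F v : ℂ) = ∑ σ : Equiv.Perm (Fin r), ∑ τ : Equiv.Perm (Fin r),
        ((Equiv.Perm.sign σ : ℤ) : ℂ) * ((Equiv.Perm.sign τ : ℤ) : ℂ) *
          ∏ i, (z N (v i) ^ (σ i : ℕ) * (starRingEnd ℂ) (z N (v i) ^ (τ i : ℕ))) := by
      intro v
      rw [F, ← Complex.mul_conj, ← Matrix.det_transpose, Matrix.det_apply', map_sum, Finset.sum_mul_sum]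
      refine Finset.sum_congr rfl fun σ _ => Finset.sum_congr rfl fun τ _ => ?_
      simp only [Matrix.transpose_apply, Matrix.vandermonde_apply, map_mul, map_prod, map_intCast, Finset.prod_mul_distrib]
      ring
    simp only [hF]
    rw [Finset.sum_comm]
    have h1 : ∀ σ : Equiv.Perm (Fin r), ∑ v : Fin r → Fin N, ∑ τ : Equiv.Perm (Fin r),
        ((Equiv.Perm.sign σ : ℤ) : ℂ) * ((Equiv.Perm.sign τ : ℤ) : ℂ) *
          ∏ i, (z N (v i) ^ (σ i : ℕ) * (starRingEnd ℂ) (z N (v i) ^ (τ i : ℕ))) = (N : ℂ) ^ r := by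
      intro σ
      rw [Finset.sum_comm, Finset.sum_eq_single σ]
      · rw [← Finset.mul_sum, ← Fintype.prod_sum (fun i (a : Fin N) => z N a ^ (σ i : ℕ) * (starRingEnd ℂ) (z N a ^ (σ i : ℕ)))]
        simp only [horth, if_true, Finset.prod_const, Finset.card_univ, Fintype.card_fin]
        rcases Int.units_eq_one_or (Equiv.Perm.sign σ) with h | h <;> simp [h]
      · intro τ _ hne
        rw [← Finset.mul_sum, ← Fintype.prod_sum (fun i (a : Fin N) => z N a ^ (σ i : ℕ) * (starRingEnd ℂ) (z N a ^ (τ i : ℕ)))]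
        obtain ⟨i, hi⟩ : ∃ i, σ i ≠ τ i := by
          by_contra hc; push_neg at hc; exact hne (Equiv.ext fun i => (hc i).symm)
        rw [Finset.prod_eq_zero (Finset.mem_univ i) (by rw [horth, if_neg hi]), mul_zero]
      · simp
    rw [Finset.sum_congr rfl fun σ _ => h1 σ]
    simp [Fintype.card_perm]
  exact_mod_cast key

theorem bij_sort {r N : ℕ} :
    Function.Bijective (fun q : {w : Fin r → Fin N // StrictAnti w} × Equiv.Perm (Fin r) =>
      (⟨q.1.1 ∘ q.2, q.1.2.injective.comp q.2.injective⟩ : {v : Fin r → Fin N // Function.Injective v})) := by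
  constructor
  · rintro ⟨⟨w, hw⟩, π⟩ ⟨⟨w', hw'⟩, π'⟩ h
    have h' : w ∘ π = w' ∘ π' := congrArg Subtype.val h
    have hr : Set.range w = Set.range w' := by
      have := congrArg Set.range h'
      rwa [EquivLike.range_comp, EquivLike.range_comp] at this
    have hww : w ∘ Fin.rev = w' ∘ Fin.rev := by
      apply (StrictMono.range_inj (fun a b hab => hw (Fin.rev_lt_rev.2 hab)) (fun a b hab => hw' (Fin.rev_lt_rev.2 hab))).1
      show Set.range (w ∘ Fin.rev) = Set.range (w' ∘ Fin.rev)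
      rw [Set.range_comp, Set.range_comp, Fin.rev_surjective.range_eq, Set.image_univ, Set.image_univ, hr]
    obtain rfl : w = w' := funext fun i => by simpa using congrFun hww (Fin.rev i)
    obtain rfl : π = π' := Equiv.ext fun i => hw.injective (congrFun h' i)
    rfl
  · rintro ⟨v, hv⟩
    let σ := Tuple.sort v
    have hm : StrictMono (v ∘ σ) := (Tuple.monotone_sort v).strictMono_of_injective (hv.comp σ.injective)
    refine ⟨(⟨(v ∘ σ) ∘ Fin.rev, fun a b hab => hm (Fin.rev_lt_rev.2 hab)⟩, σ.symm.trans Fin.revPerm), ?_⟩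
    apply Subtype.ext
    funext i
    simp

theorem sum_eq {r N : ℕ} [NeZero N] (hrN : r ≤ N) (last : Fin r) (hlast : ∀ i : Fin r, i ≤ last) :
    ∑ w ∈ (Finset.univ : Finset (Fin r → Fin N)).filter (fun w => StrictAnti w ∧ w last = 0), F w =
      (r : ℝ) * (N : ℝ) ^ (r - 1) := by
  classical
  let G : Fin r → Fin N → ℝ := fun i a => ∑ v ∈ univ.filter (fun v : Fin r → Fin N => v i = a), F v
  have hG : ∀ i a, G i a = G i 0 := by
    intro i a
    refine Finset.sum_equiv (Equiv.arrowCongr (Equiv.refl _) (Equiv.addRight (-a))) ?_ ?_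
    · intro v; simp [← sub_eq_add_neg, sub_eq_zero]
    · intro v _; exact (F_translate v (-a)).symm
  have hG0 : ∀ i, (N : ℝ) * G i 0 = (r.factorial : ℝ) * (N : ℝ) ^ r := by
    intro i
    rw [← sum_F hrN, ← Finset.sum_fiberwise univ (fun v : Fin r → Fin N => v i)]
    show _ = ∑ a, G i a
    simp [hG]
  have hcount : ∑ i, G i 0 = (r.factorial : ℝ) * ∑ w ∈ univ.filter (fun w : Fin r → Fin N => StrictAnti w ∧ w last = 0), F w := by
    let m : (Fin r → Fin N) → ℝ := fun v => ∑ i, if v i = 0 then (1 : ℝ) else 0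
    have h1 : ∑ i, G i 0 = ∑ v, m v * F v := by
      simp only [G, m, Finset.sum_filter, Finset.sum_mul, ite_mul, one_mul, zero_mul]
      exact Finset.sum_comm
    have h2 : ∑ v, m v * F v = ∑ v : {v : Fin r → Fin N // Function.Injective v}, m v.1 * F v.1 := by
      rw [← Finset.sum_subtype (univ.filter fun v : Fin r → Fin N => Function.Injective v) (by simp) (fun v => m v * F v)]
      symm
      refine Finset.sum_subset (Finset.subset_univ _) fun v _ hv => ?_
      rw [F_eq_zero v (by simpa using hv), mul_zero]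
    have hm : ∀ (w : Fin r → Fin N), StrictAnti w → m w = if w last = 0 then 1 else 0 := by
      intro w hw
      refine Finset.sum_eq_single last (fun i _ hi => if_neg fun h0 => ?_) (by simp)
      have : w last < w i := hw (lt_of_le_of_ne (hlast i) hi)
      rw [h0] at this
      exact absurd (Fin.lt_def.1 this) (by simp)
    have hmp : ∀ (w : Fin r → Fin N) (π : Equiv.Perm (Fin r)), m (w ∘ π) = m w :=
      fun w π => Equiv.sum_comp π (fun i => if w i = 0 then (1 : ℝ) else 0)
    rw [h1, h2, ← (Equiv.ofBijective _ bij_sort).sum_comp, Fintype.sum_prod_type]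
    simp only [Equiv.ofBijective_apply, F_perm, hmp, Finset.sum_const, Finset.card_univ, Fintype.card_perm, Fintype.card_fin, nsmul_eq_mul]
    rw [← Finset.mul_sum]
    congr 1
    rw [← Finset.sum_subtype (univ.filter fun w : Fin r → Fin N => StrictAnti w) (by simp) (fun w => m w * F w)]
    rw [Finset.sum_congr rfl fun w hw => by rw [hm w (Finset.mem_filter.1 hw).2, ite_mul, one_mul, zero_mul]]
    rw [← Finset.sum_filter, Finset.filter_filter]
  have hN : (N : ℝ) ≠ 0 := by exact_mod_cast NeZero.ne N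
  have hval : ∀ i, G i 0 = (r.factorial : ℝ) * (N : ℝ) ^ (r - 1) := by
    intro i
    have hr : r - 1 + 1 = r := by have := i.2; omega
    apply mul_left_cancel₀ hN
    rw [hG0 i]
    conv_lhs => rw [← hr, pow_succ]
    rw [hr]; ring
  simp only [hval, Finset.sum_const, Finset.card_univ, Fintype.card_fin, nsmul_eq_mul] at hcount
  apply mul_left_cancel₀ (show (r.factorial : ℝ) ≠ 0 by exact_mod_cast r.factorial_ne_zero)
  rw [← hcount]; ring


/-- Let r, k ≥ 1 be integers. Summing over all integer vectors v with r + k > v_1 > v_2 > ⋯ > v_{r-1} >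
v_r = 0, one has Σ_v ∏_{i<j} (2 sin(π (v_i - v_j) / (r + k)))² = r (r + k)^{r-1}; that is, the
genus-zero Verlinde number of rank r and level k with no parabolic points, defined as (r (r +
k)^{r-1})⁻¹ times this sum, equals 1. Indices are 0-based below: v i stands for v_{i+1}. -/
theorem result (r k : ℕ) (hr : 1 ≤ r) (hk : 1 ≤ k) :
    (∑ v ∈ (Finset.univ : Finset (Fin r → Fin (r + k))).filter
        (fun v : Fin r → Fin (r + k) => StrictAnti v ∧ ∀ i : Fin r, (i : ℕ) = r - 1 → (v i : ℕ) = 0),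
      ∏ p ∈ (Finset.univ : Finset (Fin r × Fin r)).filter (fun p => p.1 < p.2),
        ((2 : ℝ) * Real.sin (Real.pi * ((v p.1 : ℕ) - (v p.2 : ℕ) : ℝ) / ((r : ℝ) + k))) ^ 2) =
      (r : ℝ) * ((r : ℝ) + k) ^ (r - 1) := by
  classical
  have : NeZero (r + k) := ⟨by omega⟩
  let last : Fin r := ⟨r - 1, by omega⟩
  rw [← Nat.cast_add r k, ← sum_eq (N := r + k) (by omega) last (fun i => by rw [Fin.le_def]; show (i : ℕ) ≤ r - 1; omega)]
  refine Finset.sum_congr ?_ (fun v _ => (F_eq_prod v).symm)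
  ext v
  simp only [Finset.mem_filter, Finset.mem_univ, true_and, and_congr_right_iff]
  intro _
  constructor
  · intro h; exact Fin.ext (by simpa using h last rfl)
  · intro h i hi
    obtain rfl : i = last := Fin.ext hi
    simp [h]

end Groth.Agent.S18379
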