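import Groth.Statements.S18381
import Groth.Agent.VerlLib.Diag
-- import your own Groth.Agent.* helpers here

set_option autoImplicit false
open Complex
open VerlindeComb

namespace Groth.Agent.S18381

/-- Fix integers r, k ≥ 1. For g ≥ 0, d ∈ ℤ and parabolic data ω given by a finite family of partitions
λ_x with k ≥ λ_{x,1} ≥ ⋯ ≥ λ_{x,r} ≥ 0, write |ω| = Σ_x |λ_x|, z(v)_j = exp(2πi v_j / (r + k)),
S_λ(v) = det(z(v)_j^{λ_i + r - i}) / det(z(v)_j^{r - i}) (Schur value), P(v) = ∏_{i<j} (2 sin(π (v_i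
- v_j)/(r + k)))², and let V_g(r, d, ω) = (-1)^{d(r-1)} (k/r)^g (r (r+k)^{r-1})^{g-1} Σ_v exp(2πi
(d/r - |ω| / (r (r+k))) Σ_j v_j) · ∏_x S_{λ_x}(v) / P(v)^{g-1}, the sum over integer vectors r + k >
v_1 > ⋯ > v_{r-1} > v_r = 0 (the right-hand side of the Verlinde formula; it depends on ω only
through |ω| and the function v ↦ ∏_x S_{λ_x}(v), and is written that way below, with (r
(r+k)^{r-1})^{g-1} as the g-th power divided once and 1/P^{g-1} as P/P^g). Then V_{g+1}(r, d, ω) =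
Σ_μ V_g(r, d, ω^μ), the sum over all μ with k > μ_1 ≥ ⋯ ≥ μ_r ≥ 0, where ω^μ adjoins to ω the two
partitions μ and μ* = (k - μ_r, …, k - μ_1). Indices are 0-based below. -/
theorem result (r k : ℕ) (hr : 1 ≤ r) (hk : 1 ≤ k)
    (g : ℕ) (d : ℤ) (ι : Type) [Fintype ι] (lam : ι → Fin r → ℕ)
    (hlam : ∀ x, Antitone (lam x) ∧ ∀ i, lam x i ≤ k)
    (z : (Fin r → ℕ) → Fin r → ℂ)
    (hz : ∀ v j, z v j = Complex.exp (2 * Real.pi * Complex.I * (v j : ℂ) / ((r : ℂ) + k)))
    (S : (Fin r → ℕ) → (Fin r → ℕ) → ℂ)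
    (hS : ∀ μ v, S μ v = (Matrix.of fun i j : Fin r => z v j ^ (μ i + (r - 1 - (i : ℕ)))).det /
        (Matrix.of fun i j : Fin r => z v j ^ (r - 1 - (i : ℕ))).det)
    (P : (Fin r → ℕ) → ℝ)
    (hP : ∀ v, P v = ∏ p ∈ (Finset.univ : Finset (Fin r × Fin r)).filter (fun p => p.1 < p.2),
        ((2 : ℝ) * Real.sin (Real.pi * ((v p.1 : ℝ) - (v p.2 : ℝ)) / ((r : ℝ) + k))) ^ 2)
    (V : ℕ → ℤ → ℕ → ((Fin r → ℕ) → ℂ) → ℂ)
    (hV : ∀ (g' : ℕ) (d' : ℤ) (w : ℕ) (Sω : (Fin r → ℕ) → ℂ), V g' d' w Sω =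
        (-1 : ℂ) ^ (d' * ((r : ℤ) - 1)) * ((k : ℂ) / r) ^ g' *
          ((((r : ℂ) * ((r : ℂ) + k) ^ (r - 1)) ^ g') / ((r : ℂ) * ((r : ℂ) + k) ^ (r - 1))) *
          ∑ v ∈ (Finset.univ : Finset (Fin r → Fin (r + k))).filter
            (fun v : Fin r → Fin (r + k) => StrictAnti v ∧ ∀ i : Fin r, (i : ℕ) = r - 1 → (v i : ℕ) = 0),
            Complex.exp (2 * Real.pi * Complex.I * ((d' : ℂ) / r - (w : ℂ) / ((r : ℂ) * ((r : ℂ) + k))) *
                ((∑ j, (v j : ℕ) : ℕ) : ℂ)) *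
              Sω (fun j => (v j : ℕ)) *
              (((P (fun j => (v j : ℕ)) : ℂ)) / ((P (fun j => (v j : ℕ)) : ℂ)) ^ g')) :
    V (g + 1) d (∑ x, ∑ i, lam x i) (fun v => ∏ x, S (lam x) v) =
      ∑ μ ∈ (Finset.univ : Finset (Fin r → Fin k)).filter (fun μ : Fin r → Fin k => Antitone μ),
        V g d ((∑ x, ∑ i, lam x i) + (∑ i, (μ i : ℕ)) + (∑ i, (k - (μ (Fin.rev i) : ℕ))))
          (fun v => (∏ x, S (lam x) v) * S (fun i => (μ i : ℕ)) v *
            S (fun i => k - (μ (Fin.rev i) : ℕ)) v) := by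
  classical
  have hr0 : (r : ℂ) ≠ 0 := Nat.cast_ne_zero.2 (by omega)
  have hNC : (r : ℂ) + k = ((r + k : ℕ) : ℂ) := by push_cast; ring
  have hN0 : (r : ℂ) + k ≠ 0 := hNC ▸ Nat.cast_ne_zero.2 (by omega)
  let N := r + k
  haveI : NeZero (N - 1) := ⟨by omega⟩
  let e : ℂ := 2 * Real.pi * Complex.I
  -- the sum over partitions at a fixed vector
  have hmain : ∀ v : Fin r → Fin (r + k), StrictAnti v →
      ∑ μ ∈ (Finset.univ : Finset (Fin r → Fin k)).filter (fun μ : Fin r → Fin k => Antitone μ),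
        Complex.exp (-(e * k * ((∑ j, (v j : ℕ) : ℕ) : ℂ) / ((r : ℂ) + k))) *
          (S (fun i => (μ i : ℕ)) (fun j => (v j : ℕ)) * S (fun i => k - (μ (Fin.rev i) : ℕ)) (fun j => (v j : ℕ))) =
      ((r : ℂ) + k) ^ (r - 1) * k / (P (fun j => (v j : ℕ)) : ℂ) ∧ (P (fun j => (v j : ℕ)) : ℂ) ≠ 0 := by
    intro v hv
    let vn : Fin r → ℕ := fun j => (v j : ℕ)
    let x := z vn
    let y : Fin r → ℂ := fun j => (x j)⁻¹
    have hx : ∀ j, x j = Complex.exp (e * (vn j : ℂ) / ((r : ℂ) + k)) := fun j => hz vn j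
    have hx0 : ∀ j, x j ≠ 0 := fun j => by rw [hx]; exact Complex.exp_ne_zero _
    have hxN : ∀ j, x j ^ N = 1 := fun j => by
      rw [hx, ← Complex.exp_nat_mul, Complex.exp_eq_one_iff]
      exact ⟨vn j, by simp only [e, N]; push_cast; field_simp⟩
    have hxinj : Function.Injective x := fun i j hij => by
      rw [hx, hx, Complex.exp_eq_exp_iff_exists_int] at hij
      obtain ⟨m, hm⟩ := hij
      have h2 : (2 * (Real.pi : ℂ) * Complex.I) ≠ 0 := Complex.two_pi_I_ne_zero
      simp only [e] at hm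
      field_simp at hm
      have h3 : ((vn i : ℤ) : ℂ) = ((vn j + m * (r + k : ℕ) : ℤ) : ℂ) := by push_cast; linear_combination hm
      have h4 : (vn i : ℤ) = vn j + m * (r + k : ℕ) := by exact_mod_cast h3
      have hi := (v i).2
      have hj := (v j).2
      simp only [vn] at h4
      have hm0 : m = 0 := by
        rcases lt_trichotomy m 0 with h | h | h
        · have : m * ((r + k : ℕ) : ℤ) ≤ (-1) * ((r + k : ℕ) : ℤ) := mul_le_mul_of_nonneg_right (by omega) (by omega)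
          omega
        · exact h
        · have : 1 * ((r + k : ℕ) : ℤ) ≤ m * ((r + k : ℕ) : ℤ) := mul_le_mul_of_nonneg_right (by omega) (by omega)
          omega
      subst hm0
      exact hv.injective (Fin.ext (by omega))
    set Δ := (Matrix.of fun i j : Fin r => x j ^ (r - 1 - (i : ℕ))).det with hΔ
    set sg := (Equiv.Perm.sign (Fin.revPerm : Equiv.Perm (Fin r)) : ℂ) with hsg
    have hsg2 : sg * sg = 1 := by
      rw [hsg, ← Int.cast_mul, ← Units.val_mul, Int.units_mul_self, Units.val_one, Int.cast_one]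
    have hΔy : (Matrix.of fun i j : Fin r => y j ^ (r - 1 - (i : ℕ))).det = (∏ j, y j ^ (r - 1)) * (sg * Δ) := by
      rw [hΔ, hsg, ← Matrix.det_permute, ← VerlLib.det_mul_col]
      congr 1
      ext i j
      simp only [Matrix.of_apply, Matrix.submatrix_apply, id_eq, Fin.revPerm_apply, y, Fin.val_rev]
      have := i.2
      rw [show r - 1 - (r - ((i : ℕ) + 1)) = (i : ℕ) by omega]
      refine mul_right_cancel₀ (pow_ne_zero (r - 1) (hx0 j)) ?_
      rw [mul_right_comm, ← mul_pow, inv_mul_cancel₀ (hx0 j), one_pow, one_mul]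
      conv_lhs => rw [show x j ^ (r - 1) = x j ^ (r - 1 - (i : ℕ)) * x j ^ (i : ℕ) by rw [← pow_add]; congr 1; omega]
      rw [← mul_assoc, ← mul_pow, inv_mul_cancel₀ (hx0 j), one_pow, one_mul]
    have hP' : (P vn : ℂ) = Δ * (Matrix.of fun i j : Fin r => y j ^ (r - 1 - (i : ℕ))).det := by
      rw [hΔ, VerlLib.det_alternant, VerlLib.det_alternant, mul_mul_mul_comm, ← hsg, hsg2, one_mul, hP,
        Complex.ofReal_prod, ← Finset.prod_mul_distrib, Finset.prod_filter, Fintype.prod_prod_type]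
      refine Finset.prod_congr rfl fun i _ => ?_
      rw [← Finset.prod_filter, ← Finset.prod_mul_distrib,
        show Finset.univ.filter (fun j => (i, j).1 < (i, j).2) = Finset.Ioi i by ext j; simp]
      refine Finset.prod_congr rfl fun j _ => ?_
      rw [VerlLib.two_sin_sq]
      have ht : Complex.exp ((Real.pi * ((vn i : ℝ) - (vn j : ℝ)) / ((r : ℝ) + k) : ℝ) * Complex.I) ^ 2 =
          x i / x j := by
        rw [hx, hx, ← Complex.exp_sub, ← Complex.exp_nat_mul]
        congr 1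
        simp only [e]
        push_cast
        field_simp
      rw [ht]
      simp only [y]
      field_simp [hx0 i, hx0 j]
      ring
    have hΔ0 : Δ ≠ 0 := by
      rw [hΔ, VerlLib.det_alternant]
      exact mul_ne_zero (left_ne_zero_of_mul (hsg2.trans_ne one_ne_zero))
        (Finset.prod_ne_zero_iff.2 fun i _ => Finset.prod_ne_zero_iff.2 fun j hj => sub_ne_zero.2 fun h =>
          (Finset.mem_Ioi.1 hj).ne (hxinj h).symm)
    have hP2 : (P vn : ℂ) = (∏ j, y j ^ (r - 1)) * sg * Δ ^ 2 := by rw [hP', hΔy]; ring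
    have hy0 : ∀ j, y j ≠ 0 := fun j => inv_ne_zero (hx0 j)
    have hP0 : (P vn : ℂ) ≠ 0 := by
      rw [hP2]
      exact mul_ne_zero (mul_ne_zero (Finset.prod_ne_zero_iff.2 fun j _ => pow_ne_zero _ (hy0 j))
        (left_ne_zero_of_mul (hsg2.trans_ne one_ne_zero))) (pow_ne_zero 2 hΔ0)
    refine ⟨?_, hP0⟩
    let st : (Fin r → Fin k) → Fin r → Fin (N - 1) := fun μ i => ⟨(μ i : ℕ) + (r - 1 - (i : ℕ)), by
      have := (μ i).2; have := i.2; simp only [N]; omega⟩
    have hdual : ∀ μ : Fin r → Fin k,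
        (Matrix.of fun i j : Fin r => x j ^ ((k - (μ (Fin.rev i) : ℕ)) + (r - 1 - (i : ℕ)))).det =
          sg * ((∏ j, y j) * (Matrix.of fun i j : Fin r => y j ^ (st μ i : ℕ)).det) := fun μ => by
      rw [← VerlLib.det_mul_col, hsg, ← Matrix.det_permute]
      congr 1
      ext i j
      simp only [Matrix.of_apply, Matrix.submatrix_apply, id_eq, Fin.revPerm_apply, st, y]
      rw [← pow_succ' (x j)⁻¹, inv_pow]
      refine eq_inv_of_mul_eq_one_left ?_
      rw [← pow_add]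
      have := (μ (Fin.rev i)).2
      have := i.2
      rw [show k - (μ (Fin.rev i) : ℕ) + (r - 1 - (i : ℕ)) + ((μ (Fin.rev i) : ℕ) + (r - 1 - (Fin.rev i : ℕ)) + 1) = N by
        rw [Fin.val_rev]; simp only [N]; omega]
      exact hxN j
    have hphase : Complex.exp (-(e * k * ((∑ j, (v j : ℕ) : ℕ) : ℂ) / ((r : ℂ) + k))) = ∏ j, y j ^ k := by
      simp only [y, hx, ← Complex.exp_neg, ← Complex.exp_nat_mul, ← Complex.exp_sum]
      congr 1
      rw [Nat.cast_sum, Finset.mul_sum, Finset.sum_div, ← Finset.sum_neg_distrib]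
      refine Finset.sum_congr rfl fun j _ => ?_
      simp only [vn]
      ring
    have hterm : ∀ μ : Fin r → Fin k,
        Complex.exp (-(e * k * ((∑ j, (v j : ℕ) : ℕ) : ℂ) / ((r : ℂ) + k))) *
          (S (fun i => (μ i : ℕ)) vn * S (fun i => k - (μ (Fin.rev i) : ℕ)) vn) =
        ((∏ j, y j ^ k) * sg * (∏ j, y j) / Δ ^ 2) *
          ((Matrix.of fun i j : Fin r => x j ^ (st μ i : ℕ)).det * (Matrix.of fun i j : Fin r => y j ^ (st μ i : ℕ)).det) := fun μ => by
      rw [hS, hS, hphase, hdual μ]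
      rw [← hΔ]
      ring
    rw [Finset.sum_congr rfl (fun μ _ => hterm μ), ← Finset.mul_sum]
    have hcb : ∑ μ ∈ (Finset.univ : Finset (Fin r → Fin k)).filter (fun μ : Fin r → Fin k => Antitone μ),
        ((Matrix.of fun i j : Fin r => x j ^ (st μ i : ℕ)).det * (Matrix.of fun i j : Fin r => y j ^ (st μ i : ℕ)).det) =
        ∑ s ∈ (Finset.univ : Finset (Fin r → Fin (N - 1))).filter (fun s => StrictAnti s),
          (Matrix.of fun i j : Fin r => x j ^ (s i : ℕ)).det * (Matrix.of fun i j : Fin r => y j ^ (s i : ℕ)).det := by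
      refine Finset.sum_bij (fun μ _ => st μ) ?_ ?_ ?_ (fun _ _ => rfl)
      · intro μ hμ
        simp only [Finset.mem_filter, Finset.mem_univ, true_and] at hμ ⊢
        intro a b hab
        have h1 : (μ b : ℕ) ≤ μ a := hμ hab.le
        have h2 : (a : ℕ) < b := hab
        have := b.2
        exact Fin.lt_def.2 (by simp only [st]; omega)
      · intro μ _ μ' _ h
        refine funext fun i => Fin.ext ?_
        have := congrArg Fin.val (congrFun h i)
        simp only [st] at this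
        omega
      · intro s hs
        simp only [Finset.mem_filter, Finset.mem_univ, true_and] at hs ⊢
        have hs' : StrictAnti (fun i => (s i : ℕ)) := fun a b hab => Fin.lt_def.1 (hs hab)
        have hlow : ∀ i : Fin r, r - 1 - (i : ℕ) ≤ (s i : ℕ) := fun i => by
          have h1 := VerlLib.anti_gap hs' (r - 1 - i) i ⟨r - 1, by omega⟩ (by show r - 1 = _; have := i.2; omega)
          omega
        have hhigh : ∀ i : Fin r, (s i : ℕ) - (r - 1 - (i : ℕ)) < k := fun i => by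
          have h1 := VerlLib.anti_gap hs' i ⟨0, by omega⟩ i (by simp)
          have h2 := (s ⟨0, by omega⟩).2
          have := i.2
          simp only [N] at h2
          omega
        refine ⟨fun i => ⟨_, hhigh i⟩, fun p q hpq => Fin.le_def.2 ?_, funext fun i => Fin.ext ?_⟩
        · have h1 := VerlLib.anti_gap hs' ((q : ℕ) - p) p q (by have : (p : ℕ) ≤ q := hpq; omega)
          have := hlow p; have := hlow q; have := q.2; have : (p : ℕ) ≤ q := hpq
          show (s q : ℕ) - _ ≤ (s p : ℕ) - _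
          omega
        · have := hlow i
          simp only [st]
          omega
    rw [hcb, VerlLib.sum_sorted, VerlLib.det_geom N (by omega) x hxN hxinj]
    have hyk : (∏ j, y j ^ k) * (∏ j, y j) * (∏ j, y j ^ (r - 1)) = 1 := by
      rw [← Finset.prod_mul_distrib, ← Finset.prod_mul_distrib]
      refine Finset.prod_eq_one fun j _ => ?_
      rw [← pow_succ, ← pow_add, show k + 1 + (r - 1) = N by omega]
      simp only [y]
      rw [inv_pow, hxN, inv_one]
    have hNk : (N : ℂ) ^ r * (1 - (r : ℂ) / N) = ((r : ℂ) + k) ^ (r - 1) * k := by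
      simp only [N]
      rw [← hNC]
      conv_lhs => rw [show r = r - 1 + 1 by omega, pow_succ]
      rw [show r - 1 + 1 = r by omega]
      field_simp
      ring
    rw [hNk, hP2]
    set A := ((r : ℂ) + k) ^ (r - 1) * k
    have hyr : (∏ j, y j ^ (r - 1)) ≠ 0 := Finset.prod_ne_zero_iff.2 fun j _ => pow_ne_zero _ (hy0 j)
    have hsg0 : sg ≠ 0 := left_ne_zero_of_mul (hsg2.trans_ne one_ne_zero)
    field_simp
    linear_combination (A * ((∏ j, y j ^ k) * (∏ j, y j) * (∏ j, y j ^ (r - 1)))) * hsg2 + A * hyk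
  simp only [hV, Finset.mul_sum]
  conv_rhs => rw [Finset.sum_comm]
  refine Finset.sum_congr rfl fun v hv => ?_
  simp only [Finset.mem_filter, Finset.mem_univ, true_and] at hv
  obtain ⟨hsum, hP0⟩ := hmain v hv.1
  have hdual : ∀ μ : Fin r → Fin k, (∑ i, (μ i : ℕ)) + (∑ i, (k - (μ (Fin.rev i) : ℕ))) = k * r := fun μ => by
    rw [show ∑ i, (k - (μ (Fin.rev i) : ℕ)) = ∑ i, (k - (μ i : ℕ)) from Equiv.sum_comp Fin.revPerm (fun i => k - (μ i : ℕ)),
      ← Finset.sum_add_distrib, Finset.sum_congr rfl (fun i _ => Nat.add_sub_cancel' (by have := (μ i).2; omega)),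
      Finset.sum_const, Finset.card_univ, Fintype.card_fin, smul_eq_mul, mul_comm]
  set w := ∑ x, ∑ i, lam x i
  set Pv := (P (fun j => (v j : ℕ)) : ℂ)
  set SS := ∏ x, S (lam x) (fun j => (v j : ℕ))
  set Vv := ((∑ j, (v j : ℕ) : ℕ) : ℂ)
  set E := Complex.exp (2 * Real.pi * Complex.I * ((d : ℂ) / r - (w : ℂ) / ((r : ℂ) * ((r : ℂ) + k))) * Vv)
  have hexp : ∀ μ : Fin r → Fin k, Complex.exp (2 * Real.pi * Complex.I * ((d : ℂ) / r -
      ((w + (∑ i, (μ i : ℕ)) + (∑ i, (k - (μ (Fin.rev i) : ℕ))) : ℕ) : ℂ) / ((r : ℂ) * ((r : ℂ) + k))) * Vv) =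
      E * Complex.exp (-(e * k * Vv / ((r : ℂ) + k))) := fun μ => by
    rw [add_assoc w, hdual μ, ← Complex.exp_add]
    congr 1
    simp only [e]
    push_cast
    field_simp
    ring
  simp only [hexp]
  have h2 := congrArg (fun t => (-1 : ℂ) ^ (d * ((r : ℤ) - 1)) * ((k : ℂ) / r) ^ g *
    ((((r : ℂ) * ((r : ℂ) + k) ^ (r - 1)) ^ g) / ((r : ℂ) * ((r : ℂ) + k) ^ (r - 1))) * (E * SS * (Pv / Pv ^ g)) * t) hsum
  simp only [Finset.mul_sum] at h2
  refine Eq.trans ?_ (Eq.trans h2.symm (Finset.sum_congr rfl fun μ _ => by ring))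
  have hNp : ((r : ℂ) + k) ^ (r - 1) ≠ 0 := pow_ne_zero _ hN0
  rw [pow_succ, pow_succ, pow_succ]
  field_simp

end Groth.Agent.S18381
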