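import Groth.Statements.S18383
import Groth.Agent.GrpShear

set_option autoImplicit false
universe u
open CategoryTheory CategoryTheory.Limits MonoidalCategory CartesianMonoidalCategory MonObj GrpObj AlgebraicGeometry
open GrpSch

namespace Groth.Agent.S18383

/-- Let S be a scheme, H an S-group scheme and i : G → H a homomorphism of S-group schemes which is a
closed immersion (G a closed subgroup scheme of H). Then the left-translation action of G on H is
strictly free: the S-morphism G ×_S H → H ×_S H, (g, h) ↦ (i(g)·h, h), is a closed immersion. -/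
theorem result {S : Scheme.{u}} (G H : Over S)
    [GrpObj G] [GrpObj H] (i : G ⟶ H) [IsMonHom i] [IsClosedImmersion i.left] :
    IsClosedImmersion (CartesianMonoidalCategory.lift ((i ▷ H) ≫ μ[H]) (snd G H)).left := by
  let σ : H ⊗ H ≅ H ⊗ H :=
    { hom := CartesianMonoidalCategory.lift (fst H H * snd H H) (snd H H)
      inv := CartesianMonoidalCategory.lift (fst H H * (snd H H)⁻¹) (snd H H)
      hom_inv_id := by
        ext <;> simp [MonObj.comp_mul, GrpObj.comp_inv]
      inv_hom_id := by
        ext <;> simp [MonObj.comp_mul] }
  have e : CartesianMonoidalCategory.lift ((i ▷ H) ≫ μ[H]) (snd G H) = (i ▷ H) ≫ σ.hom := by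
    refine hom_ext _ _ ?_ (by simp [σ])
    simp only [σ, Category.assoc, lift_fst, MonObj.comp_mul]
    rw [← lift_comp_fst_snd (i ▷ H), whiskerRight_fst, whiskerRight_snd]
    rw [lift_fst, lift_snd, Hom.mul_def]
  rw [e, Over.comp_left]
  have sq : IsPullback (Limits.pullback.fst G.hom H.hom) (i ▷ H).left i.left (Limits.pullback.fst H.hom H.hom) := by
    refine IsPullback.of_bot ?_ (Over.whiskerRight_left_fst i).symm (IsPullback.of_hasPullback H.hom H.hom)
    rw [Over.whiskerRight_left_snd, Over.w i]
    exact IsPullback.of_hasPullback G.hom H.hom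
  have h1 : IsClosedImmersion (i ▷ H).left := MorphismProperty.of_isPullback (P := @IsClosedImmersion) sq inferInstance
  have h2 : IsIso σ.hom.left := inferInstanceAs (IsIso ((Over.forget S).mapIso σ).hom)
  exact inferInstance

end Groth.Agent.S18383
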