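import Groth.Statements.S18384
import Mathlib
-- import your own Groth.Agent.* helpers here

set_option autoImplicit false
universe u
open CategoryTheory CategoryTheory.Limits AlgebraicGeometry
open Coherent

namespace Groth.Agent.S18384
set_option linter.all false
open IsLocalRing
/-- A morphism from an affine scheme factoring through a closed subscheme kills its ideal. -/
theorem map_eq_zero {X : Scheme.{u}} (I : X.IdealSheafData) {C : CommRingCat.{u}} {W : X.Opens}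
    (hW : IsAffineOpen W) (ψ : Γ(X, W) ⟶ C) (g : Spec C ⟶ I.subscheme)
    (hg : g ≫ I.subschemeι = Spec.map ψ ≫ hW.fromSpec) (a : Γ(X, W)) (ha : a ∈ I.ideal ⟨W, hW⟩) :
    ψ.hom a = 0 := by
  have hle : I ≤ (Spec.map ψ ≫ hW.fromSpec).ker := by
    rw [← hg]
    exact le_trans (le_of_eq I.ker_subschemeι.symm) (Scheme.Hom.le_ker_comp _ _)
  have h0 : (Spec.map ψ ≫ hW.fromSpec).app W a = 0 :=
    RingHom.mem_ker.1 (Scheme.Hom.ideal_ker_le _ _ (hle ⟨W, hW⟩ ha))
  have e : (⊤ : (Spec C).Opens) ≤ (Spec.map ψ ≫ hW.fromSpec) ⁻¹ᵁ W := by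
    simp [Scheme.Hom.comp_preimage, hW.fromSpec_preimage_self]
  have h2 : (Spec.map ψ ≫ hW.fromSpec).appLE W ⊤ e = ψ ≫ (Scheme.ΓSpecIso C).inv := by
    rw [Scheme.Hom.comp_appLE, hW.fromSpec_app_self, Category.assoc, Scheme.Hom.map_appLE]
    have e3 : (Spec.map ψ).appLE ⊤ ⊤ le_top = (Spec.map ψ).appTop := (Scheme.Hom.app_eq_appLE _).symm
    erw [e3]
    exact (Scheme.ΓSpecIso_inv_naturality ψ).symm
  have h3 : (ψ ≫ (Scheme.ΓSpecIso C).inv).hom a = 0 := by
    rw [← h2]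
    show (Spec C).presheaf.map _ ((Spec.map ψ ≫ hW.fromSpec).app W a) = 0
    rw [h0, map_zero]
  exact (map_eq_zero_iff _ ((ConcreteCategory.bijective_of_isIso (Scheme.ΓSpecIso C).inv).1)).1 h3

theorem germ_eq_zero {X S : Scheme.{u}} [IsLocallyNoetherian X] (p : X ⟶ S) (x : X)
    (I : X.IdealSheafData)
    (h : ∀ n : ℕ, ∃ g : pullback p (Spec.map (CommRingCat.ofHom (Ideal.Quotient.mk
        (maximalIdeal ↑(S.presheaf.stalk (p.base x)) ^ (n + 1)))) ≫ S.fromSpecStalk (p.base x)) ⟶ I.subscheme,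
        g ≫ I.subschemeι = pullback.fst p _)
    {W : X.Opens} (hW : IsAffineOpen W) (hx : x ∈ W) (a : Γ(X, W)) (ha : a ∈ I.ideal ⟨W, hW⟩) :
    X.presheaf.germ W x hx a = 0 := by
  let J : Ideal (X.presheaf.stalk x) := (maximalIdeal (S.presheaf.stalk (p.base x))).map (p.stalkMap x).hom
  have hJ : J ≠ ⊤ := ne_top_of_le_ne_top (maximalIdeal.isMaximal _).ne_top
    (Ideal.map_le_iff_le_comap.2 (IsLocalRing.maximalIdeal_comap (p.stalkMap x).hom).ge)
  rw [← Ideal.mem_bot, ← Ideal.iInf_pow_eq_bot_of_isLocalRing J hJ, Submodule.mem_iInf]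
  intro n
  refine Ideal.pow_le_pow_right n.le_succ ?_
  let K : Ideal (S.presheaf.stalk (p.base x)) := maximalIdeal (S.presheaf.stalk (p.base x)) ^ (n + 1)
  let θ : (S.presheaf.stalk (p.base x) ⧸ K) →+* (X.presheaf.stalk x ⧸ J ^ (n + 1)) :=
    Ideal.quotientMap (J ^ (n + 1)) (p.stalkMap x).hom (by
      rw [← Ideal.map_le_iff_le_comap, Ideal.map_pow])
  let mkB := CommRingCat.ofHom (Ideal.Quotient.mk (J ^ (n + 1)))
  let c : Spec (CommRingCat.of (X.presheaf.stalk x ⧸ J ^ (n + 1))) ⟶ X := Spec.map mkB ≫ X.fromSpecStalk x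
  let d := Spec.map (CommRingCat.ofHom θ)
  have hsq : c ≫ p = d ≫ Spec.map (CommRingCat.ofHom (Ideal.Quotient.mk K)) ≫ S.fromSpecStalk (p.base x) := by
    show (Spec.map mkB ≫ X.fromSpecStalk x) ≫ p = _
    rw [Category.assoc, ← Scheme.SpecMap_stalkMap_fromSpecStalk, ← Spec.map_comp_assoc,
      ← Spec.map_comp_assoc]
    rfl
  obtain ⟨g, hg⟩ := h n
  have hc : (pullback.lift c d hsq ≫ g) ≫ I.subschemeι =
      Spec.map (X.presheaf.germ W x hx ≫ mkB) ≫ hW.fromSpec := by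
    rw [Category.assoc, hg, pullback.lift_fst]
    show Spec.map mkB ≫ X.fromSpecStalk x = _
    rw [Spec.map_comp, Category.assoc, ← hW.fromSpecStalk_eq_fromSpecStalk hx]
    rfl
  exact Ideal.Quotient.eq_zero_iff_mem.1 (map_eq_zero I hW _ _ hc a ha)

theorem ideal_near {X : Scheme.{u}} [IsLocallyNoetherian X] (I : X.IdealSheafData) (x : X)
    (h : ∀ {W : X.Opens} (hW : IsAffineOpen W) (hx : x ∈ W) (a : Γ(X, W)),
      a ∈ I.ideal ⟨W, hW⟩ → X.presheaf.germ W x hx a = 0) :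
    ∃ O : X.Opens, x ∈ O ∧ ∀ (V : X.affineOpens) (z : X) (hz : z ∈ V.1), z ∈ O →
      ∀ s ∈ I.ideal V, X.presheaf.germ V.1 z hz s = 0 := by
  classical
  obtain ⟨_, ⟨W, hW, rfl⟩, hxW, -⟩ := X.isBasis_affineOpens.exists_subset_of_mem_open
    (Set.mem_univ x) isOpen_univ
  haveI := IsLocallyNoetherian.component_noetherian (X := X) ⟨W, hW⟩
  obtain ⟨F, hF⟩ := (IsNoetherian.noetherian (I.ideal ⟨W, hW⟩) : (I.ideal ⟨W, hW⟩).FG)
  have hex : ∀ a : F, ∃ O : X.Opens, x ∈ O ∧ ∃ hOW : O ≤ W,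
      X.presheaf.map (homOfLE hOW).op a.1 = 0 := by
    intro a
    have h0 := h hW hxW a.1 (hF ▸ Ideal.subset_span a.2)
    rw [← map_zero (X.presheaf.germ W x hxW).hom] at h0
    obtain ⟨O, hxO, i₁, i₂, he⟩ := X.presheaf.germ_eq x hxW hxW a.1 0 h0
    exact ⟨O, hxO, i₁.le, by rw [map_zero] at he; exact he⟩
  choose O hxO hOW hO using hex
  let O' : X.Opens := W ⊓ ⟨⋂ a, (O a : Set X), isOpen_iInter_of_finite fun a => (O a).2⟩
  have hxO' : x ∈ O' := ⟨hxW, Set.mem_iInter.2 hxO⟩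
  refine ⟨O', hxO', fun V z hz hzO s hs => ?_⟩
  obtain ⟨f, g, e, hf⟩ := exists_basicOpen_le_affine_inter (U := W) hW (V := V.1) V.2 z ⟨hzO.1, hz⟩
  rw [← TopCat.Presheaf.germ_res_apply X.presheaf (homOfLE (e.trans_le (X.basicOpen_le g))) z hf s]
  have hmem : X.presheaf.map (homOfLE (e.trans_le (X.basicOpen_le g))).op s ∈
      I.ideal ⟨X.basicOpen f, hW.basicOpen f⟩ :=
    Ideal.map_le_iff_le_comap.1 (I.map_ideal (U := ⟨X.basicOpen f, hW.basicOpen f⟩) (V := V)
      (e.trans_le (X.basicOpen_le g))).le hs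
  rw [← I.map_ideal (U := ⟨X.basicOpen f, hW.basicOpen f⟩) (V := ⟨W, hW⟩) (X.basicOpen_le f), ← hF,
    Ideal.map_span] at hmem
  refine Submodule.span_induction ?_ (map_zero _) (fun _ _ _ _ ha hb => by rw [map_add, ha, hb, add_zero])
    (fun c y _ hy => by rw [smul_eq_mul, map_mul, hy, mul_zero]) hmem
  rintro _ ⟨a, ha, rfl⟩
  have hzA : z ∈ O ⟨a, ha⟩ := Set.mem_iInter.1 hzO.2 ⟨a, ha⟩
  erw [TopCat.Presheaf.germ_res_apply]
  rw [← TopCat.Presheaf.germ_res_apply X.presheaf (homOfLE (hOW ⟨a, ha⟩)) z hzA a, hO, map_zero]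


/-- Let p : X → S be a morphism of locally Noetherian schemes, t a point of S, m the maximal ideal of
the local ring O_{S,t}, and Z the closed subscheme of X defined by a quasi-coherent ideal I. Suppose
that for every n ≥ 1 the projection X ×_S Spec(O_{S,t}/m^n) → X factors through Z. Then there is an
open subscheme U of X containing every point of the fibre p⁻¹(t) such that the inclusion U → X
factors through Z. -/
theorem result {X S : Scheme.{u}}
    [IsLocallyNoetherian X] [IsLocallyNoetherian S] (p : X ⟶ S) (t : S) (I : X.IdealSheafData)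
    (h : ∀ n : ℕ, ∃ g : pullback p (Spec.map (CommRingCat.ofHom (Ideal.Quotient.mk
        (IsLocalRing.maximalIdeal ↑(S.presheaf.stalk t) ^ (n + 1)))) ≫ S.fromSpecStalk t) ⟶ I.subscheme,
        g ≫ I.subschemeι = pullback.fst p _) :
    ∃ U : X.Opens, (∀ x : X, p.base x = t → x ∈ U) ∧
      ∃ g : (U : Scheme.{u}) ⟶ I.subscheme, g ≫ I.subschemeι = U.ι := by
  subst_vars
  classical
  choose O hO hOI using fun x : {x : X // p.base x = t} =>
    ideal_near I x.1 (fun {W} hW hx a ha => germ_eq_zero p x.1 I (by rw [x.2]; exact h) hW hx a ha)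
  let U : X.Opens := ⨆ x, O x
  refine ⟨U, fun x hx => TopologicalSpace.Opens.mem_iSup.2 ⟨⟨x, hx⟩, hO _⟩, ?_⟩
  have hle : I ≤ U.ι.ker := by
    refine Scheme.IdealSheafData.le_ofIdeals_iff.2 fun V s hs => ?_
    rw [RingHom.mem_ker]
    have hgoal : X.presheaf.map (homOfLE (inf_le_left : V.1 ⊓ U ≤ V.1)).op s = 0 := by
      refine TopCat.Presheaf.section_ext X.sheaf _ _ _ fun z hz => ?_
      obtain ⟨x, hx⟩ := TopologicalSpace.Opens.mem_iSup.1 hz.2
      erw [map_zero, TopCat.Presheaf.germ_res_apply]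
      exact hOI x V z hz.1 hx s hs
    rw [Scheme.Opens.ι_app]
    have e : U.ι ''ᵁ (U.ι ⁻¹ᵁ V.1) ≤ V.1 ⊓ U := by
      rw [Scheme.Hom.image_preimage_eq_opensRange_inf, Scheme.Opens.opensRange_ι, inf_comm]
    have := congrArg (X.presheaf.map (homOfLE e).op) hgoal
    rw [map_zero] at this
    change (X.presheaf.map (homOfLE (inf_le_left : V.1 ⊓ U ≤ V.1)).op ≫ X.presheaf.map (homOfLE e).op).hom s = 0 at this
    rw [← Functor.map_comp] at this
    exact this
  exact ⟨IsClosedImmersion.lift I.subschemeι U.ι (by simpa using hle), IsClosedImmersion.lift_fac _ _ _⟩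

end Groth.Agent.S18384
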