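import Groth.Statements.S3016
import Mathlib
import Groth.Agent.GrpHomLib.Artin
import Groth.Agent.OrbitLib.DimAdd
-- import your own Groth.Agent.* helpers here

set_option autoImplicit false
set_option backward.isDefEq.respectTransparency false
set_option maxHeartbeats 1600000
universe u
open CategoryTheory MonoidalCategory CartesianMonoidalCategory MonObj GrpObj AlgebraicGeometry TensorProduct
open SGA3 CategoryTheory.Limits

attribute [-instance] CategoryTheory.Hom.commGroup

namespace Groth.Agent.S3016

open Topology

/-- Adding a natural number commutes with suprema. -/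
theorem add_le_of_forall {J : Type*} [Nonempty J] {d : J → WithBot ℕ∞} {D b : WithBot ℕ∞} (r : ℕ)
    (hD : ∀ c, (∀ i, d i ≤ c) → D ≤ c) (hd : ∀ i, 0 ≤ d i) (h : ∀ i, d i + r ≤ b) : D + r ≤ b := by
  induction b with
  | bot =>
    obtain ⟨i⟩ := ‹Nonempty J›
    have : (0 : WithBot ℕ∞) + r ≤ ⊥ := (add_le_add (hd i) le_rfl).trans (h i)
    simp at this
  | coe b =>
    induction b using ENat.recTopCoe with
    | top => exact le_top
    | coe n =>
      have key : ∀ i, d i ≤ ((n - r : ℕ) : WithBot ℕ∞) ∧ r ≤ n := by
        intro i
        have h1 := h i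
        have h2 := hd i
        generalize d i = x at h1 h2
        induction x with
        | bot => simp at h2
        | coe x =>
          induction x using ENat.recTopCoe with
          | top => have h4 : ((⊤ : ℕ∞) + (r : ℕ∞)) ≤ (n : ℕ∞) := WithBot.coe_le_coe.1 h1; simp at h4
          | coe m =>
            have h3 : m + r ≤ n := by exact_mod_cast h1
            refine ⟨?_, by omega⟩
            exact WithBot.coe_le_coe.2 (Nat.cast_le.2 (show m ≤ n - r by omega))
      obtain ⟨i⟩ := ‹Nonempty J›
      calc D + r ≤ ((n - r : ℕ) : WithBot ℕ∞) + r := add_le_add (hD _ fun j => (key j).1) le_rfl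
        _ = _ := by
          have h3 : ((n - r : ℕ) + r : ℕ) = n := by have := (key i).2; omega
          rw [← Nat.cast_add, h3]
          rfl

/-- The unit section of a base change. -/
theorem unit_fst {S' S : Scheme.{u}} (c : S' ⟶ S) (H : Over S) [GrpObj H] :
    letI : GrpObj ((Over.pullback c).obj H) := Functor.grpObjObj
    (η[(Over.pullback c).obj H] : 𝟙_ (Over S') ⟶ (Over.pullback c).obj H).left ≫ pullback.fst H.hom c =
      c ≫ (η[H] : 𝟙_ (Over S) ⟶ H).left := by
  letI : GrpObj ((Over.pullback c).obj H) := Functor.grpObjObj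
  let e := (Over.mapPullbackAdj c).homEquiv (𝟙_ (Over S')) H
  have h1 : e 1 = 1 := by
    rw [Adjunction.homEquiv_unit, show (Over.pullback c).map (1 : (Over.map c).obj (𝟙_ (Over S')) ⟶ H) = 1 from
      map_one (Over.pullback c).homMonoidHom, MonObj.comp_one]
  have h2 := congrArg Over.Hom.left (e.symm_apply_eq.2 h1.symm)
  have h3 : (1 : 𝟙_ (Over S') ⟶ (Over.pullback c).obj H) = η[(Over.pullback c).obj H] := by
    rw [Hom.one_def, toUnit_unique (toUnit (𝟙_ (Over S'))) (𝟙 _), Category.id_comp]
  rw [h3] at h2
  simpa [e, Adjunction.homEquiv_counit, Hom.one_def] using h2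

/-- The dimension formula for homomorphisms over a field. -/
theorem dim_field {k : Type u} [Field k] {G H : Over (Spec (CommRingCat.of k))} [GrpObj G] [GrpObj H]
    [LocallyOfFiniteType G.hom] [LocallyOfFiniteType H.hom] (u : G ⟶ H) [IsMonHom u] [QuasiCompact u.left] :
    topologicalKrullDim G.left = topologicalKrullDim (Set.range u.left.base) +
      topologicalKrullDim ↥(pullback u.left (η[H] : 𝟙_ (Over (Spec (CommRingCat.of k))) ⟶ H).left) := by
  let a : AlgGrp.Action G H :=
    { act := (fst G H ≫ u) * snd G H
      one_act := by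
        rw [MonObj.comp_mul, ← Category.assoc, whiskerRight_fst, whiskerRight_snd, leftUnitor_hom, Category.assoc,
          IsMonHom.one_hom, toUnit_unique (fst (𝟙_ _) H) (toUnit _), ← Hom.one_def, _root_.one_mul]
      mul_act := by
        rw [MonObj.comp_mul, ← Category.assoc, whiskerRight_fst, whiskerRight_snd, MonObj.mul_eq_mul, Category.assoc,
          MonObj.mul_comp, MonObj.comp_mul, MonObj.comp_mul]
        simp [MonObj.comp_mul, _root_.mul_assoc] }
  let e : 𝟙_ (Over (Spec (CommRingCat.of k))) ⟶ H := η[H]
  have ho : a.orbitMap e = u := by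
    show lift (𝟙 G) (toUnit G ≫ e) ≫ ((fst G H ≫ u) * snd G H) = u
    rw [MonObj.comp_mul, lift_fst_assoc, lift_snd, Category.id_comp, ← Hom.one_def, _root_.mul_one]
  have hfd : ∀ g : G.left, topologicalKrullDim (u.left.fiber (u.left g)) = topologicalKrullDim ↥(pullback u.left e.left) :=
    fun g => by
      have := OrbitLib.dim_fiber a e g
      rw [ho] at this
      exact this
  haveI : LocallyOfFiniteType u.left := GrpHom.lft_left u
  let K : Over (Spec (CommRingCat.of k)) := Over.mk (pullback.snd u.left e.left)
  haveI : LocallyOfFiniteType K.hom := MorphismProperty.pullback_snd (P := @LocallyOfFiniteType) _ _ ‹_›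
  haveI : QuasiCompact K.hom := MorphismProperty.pullback_snd (P := @QuasiCompact) _ _ ‹_›
  haveI : CompactSpace K.left := QuasiCompact.compactSpace_of_compactSpace K.hom
  haveI : Nonempty K.left := ⟨(pullback.lift (η[G] : 𝟙_ (Over (Spec (CommRingCat.of k))) ⟶ G).left (𝟙 _) (by
    rw [← Over.comp_left, IsMonHom.one_hom, Category.id_comp]) : Spec (CommRingCat.of k) ⟶ _) (IsLocalRing.closedPoint k)⟩
  obtain ⟨r, hr⟩ := OrbitLib.exists_dim_eq_nat K
  have hr' : topologicalKrullDim ↥(pullback u.left e.left) = r := hr
  rw [hr']
  apply le_antisymm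
  · refine FibDimLib.topologicalKrullDim_le_of_points fun g => ?_
    rw [FibDimLib.topologicalKrullDim_closure_eq_add H.hom u.left g]
    refine add_le_add ?_ (((topologicalKrullDim_subspace_le _ _).trans_eq (hfd g)).trans_eq hr')
    have hsub : closure ({u.left g} : Set H.left) ⊆ Set.range u.left.base :=
      closure_minimal (Set.singleton_subset_iff.2 ⟨g, rfl⟩) (GrpHom.isClosed_range u)
    exact (IsEmbedding.inclusion hsub).isInducing.topologicalKrullDim_le
  · obtain ⟨C, _, i, p, _, _, hpi, _, _, _, _⟩ := GrpHom.exists_image u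
    have hrange : Set.range u.left.base = Set.range i.left.base := by
      rw [← hpi, Over.comp_left, Scheme.Hom.comp_base, TopCat.coe_comp, Set.range_comp,
        (Surjective.surj (f := p.left)).range_eq, Set.image_univ]
    let ψ := (i.left.isClosedEmbedding.isEmbedding.toHomeomorph).trans (Homeomorph.setCongr hrange.symm)
    rw [← IsHomeomorph.topologicalKrullDim_eq _ ψ.isHomeomorph]
    haveI : Nonempty C.left := ⟨p.left ((η[G] : 𝟙_ (Over (Spec (CommRingCat.of k))) ⟶ G).left (IsLocalRing.closedPoint k))⟩
    refine add_le_of_forall (J := C.left) (d := fun z => topologicalKrullDim (closure ({z} : Set C.left))) r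
      (fun c hc => FibDimLib.topologicalKrullDim_le_of_points hc) (fun z => ?_) fun z => ?_
    · haveI : Nonempty ↥(closure ({z} : Set C.left)) := ⟨⟨z, subset_closure rfl⟩⟩
      haveI : Nonempty (TopologicalSpace.IrreducibleCloseds ↥(closure ({z} : Set C.left))) :=
        ⟨⟨closure {⟨z, subset_closure rfl⟩}, isIrreducible_singleton.closure, isClosed_closure⟩⟩
      exact Order.krullDim_nonneg
    · obtain ⟨g₀, hg₀⟩ := (Surjective.surj (f := p.left)) z
      obtain ⟨g, hg, hgd⟩ := FibDimLib.exists_fibreDimAt_ge u.left (u.left g₀) (r := r) (((hfd g₀).trans hr').ge)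
      refine le_trans ?_ (topologicalKrullDim_subspace_le G.left (closure ({g} : Set G.left)))
      rw [FibDimLib.topologicalKrullDim_closure_eq_add H.hom u.left g, hg]
      refine add_le_add ?_ hgd
      have hz : i.left z = u.left g₀ := by rw [← hg₀, ← Scheme.Hom.comp_apply, ← Over.comp_left, hpi]
      have hm : ∀ w : ↥(closure ({z} : Set C.left)), i.left w.1 ∈ closure ({u.left g₀} : Set H.left) := fun w => by
        rw [← hz]
        exact ((specializes_iff_mem_closure.mpr w.2).map i.left.continuous).mem_closure
      exact ((i.left.isClosedEmbedding.isEmbedding.comp IsEmbedding.subtypeVal).codRestrict _ hm).isInducing.topologicalKrullDim_le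

/-- Let A be a local artinian ring and u : G → H a quasi-compact homomorphism between group schemes
locally of finite type over A. Then the image u(G) is a closed subset of H, and dim G = dim u(G) +
dim Ker u (dimensions of the underlying topological spaces; Ker u is the fibre of u over the unit
section). -/
theorem result (A : Type u) [CommRing A] [IsArtinianRing A] [IsLocalRing A]
    (G H : Over (Spec (CommRingCat.of A))) [GrpObj G] [GrpObj H] [LocallyOfFiniteType G.hom] [LocallyOfFiniteType H.hom]
    (u : G ⟶ H) [IsMonHom u] [QuasiCompact u.left] :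
    IsClosed (Set.range u.left.base) ∧
    topologicalKrullDim G.left =
      topologicalKrullDim (Set.range u.left.base) +
        topologicalKrullDim ↥(Limits.pullback u.left (η[H] : 𝟙_ (Over (Spec (CommRingCat.of A))) ⟶ H).left) := by
  refine ⟨GrpHom.isClosed_range_artinian u, ?_⟩
  let ur := GrpHom.redHom u
  let c := GrpFTOpen.closedPt A
  have hh : ∀ X : Over (Spec (CommRingCat.of A)), IsHomeomorph (pullback.fst X.hom c).base := fun X =>
    isHomeomorph_iff_isEmbedding_surjective.mpr ⟨(pullback.fst X.hom c).isClosedEmbedding.isEmbedding,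
      (pullback.fst X.hom c).surjective⟩
  have key := dim_field ur
  have e1 : topologicalKrullDim G.left = topologicalKrullDim (GrpHom.redObj G).left :=
    (IsHomeomorph.topologicalKrullDim_eq _ (hh G)).symm
  have e2 : topologicalKrullDim (Set.range u.left.base) = topologicalKrullDim (Set.range ur.left.base) := by
    have h : Set.range u.left.base = (hh H).homeomorph '' Set.range ur.left.base := by
      rw [← Set.range_comp, ← (Function.Surjective.range_comp (pullback.fst G.hom c).surjective u.left.base)]
      congr 1
      exact funext fun y => congrArg (fun m => m.base y) (GrpHom.isPullback_red u).w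
    let φ := ((hh H).homeomorph.image (Set.range ur.left.base)).trans (Homeomorph.setCongr h.symm)
    exact (IsHomeomorph.topologicalKrullDim_eq _ φ.isHomeomorph).symm
  have e3 : topologicalKrullDim ↥(pullback u.left (η[H] : 𝟙_ (Over (Spec (CommRingCat.of A))) ⟶ H).left) =
      topologicalKrullDim ↥(pullback ur.left (η[GrpHom.redObj H] : 𝟙_ _ ⟶ GrpHom.redObj H).left) := by
    let e := (η[H] : 𝟙_ (Over (Spec (CommRingCat.of A))) ⟶ H).left
    let e0 := (η[GrpHom.redObj H] : 𝟙_ _ ⟶ GrpHom.redObj H).left
    have w0 : e0 ≫ pullback.fst H.hom c = c ≫ e := unit_fst c H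
    have s1 := (IsPullback.of_hasPullback ur.left e0).paste_horiz (GrpHom.isPullback_red u)
    let m : pullback ur.left e0 ⟶ pullback u.left e :=
      pullback.lift (pullback.fst ur.left e0 ≫ pullback.fst G.hom c) (pullback.snd ur.left e0 ≫ c)
        (by rw [Category.assoc, (GrpHom.isPullback_red u).w, pullback.condition_assoc, w0, ← Category.assoc])
    have s3 : IsPullback m (pullback.snd ur.left e0) (pullback.snd u.left e) c := by
      refine IsPullback.of_right ?_ (pullback.lift_snd _ _ _) (IsPullback.of_hasPullback u.left e)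
      rw [pullback.lift_fst, ← w0]
      exact s1
    obtain ⟨⟨_, _⟩, -⟩ := GrpFTOpen.finiteOrder_closedPt A
    haveI : IsClosedImmersion m := MorphismProperty.of_isPullback s3.flip ‹_›
    haveI : Surjective m := MorphismProperty.of_isPullback s3.flip ‹_›
    exact (IsHomeomorph.topologicalKrullDim_eq _
      (isHomeomorph_iff_isEmbedding_surjective.mpr ⟨m.isClosedEmbedding.isEmbedding, m.surjective⟩)).symm
  rw [e1, e2, e3]
  exact key


end Groth.Agent.S3016
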