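import Groth.Statements.S18385
import Mathlib
import Groth.Agent.S3016
import Groth.Agent.GrpHomLib.Artin
import Groth.Agent.MiscFlat6.TopDimCovers
import Groth.Agent.WeilResLib.Fibre
-- import your own Groth.Agent.* helpers here

set_option autoImplicit false
set_option backward.isDefEq.respectTransparency false
set_option maxHeartbeats 1600000
universe u
open CategoryTheory CategoryTheory.Limits MonoidalCategory CartesianMonoidalCategory MonObj GrpObj AlgebraicGeometry
open AbSch

namespace Groth.Agent.S18385

open Topology

/-- A discrete space has dimension at most zero. -/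
theorem dim_nonpos_of_discrete (X : Type u) [TopologicalSpace X] [DiscreteTopology X] : topologicalKrullDim X ≤ 0 := by
  refine Order.krullDim_nonpos_iff_forall_isMax.2 fun P Q h => ?_
  obtain ⟨x, hx⟩ := P.2.nonempty
  have hs := isPreirreducible_iff_subsingleton.1 Q.2.isPreirreducible
  intro z hz
  exact hs (h hx) hz ▸ hx

/-- Over a field a homomorphism between irreducible groups of the same dimension is surjective iff it is finite. -/
theorem surjective_iff_field {k : Type u} [Field k] {G H : Over (Spec (CommRingCat.of k))} [GrpObj G] [GrpObj H]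
    [LocallyOfFiniteType G.hom] [QuasiCompact G.hom] [LocallyOfFiniteType H.hom] [IrreducibleSpace H.left]
    (u : G ⟶ H) [IsMonHom u] [QuasiCompact u.left]
    (hd : topologicalKrullDim G.left = topologicalKrullDim H.left) : Surjective u.left ↔ IsFinite u.left := by
  haveI : CompactSpace G.left := QuasiCompact.compactSpace_of_compactSpace G.hom
  haveI : Nonempty G.left := ⟨(η[G] : 𝟙_ (Over (Spec (CommRingCat.of k))) ⟶ G).left (IsLocalRing.closedPoint k)⟩
  obtain ⟨n, hn⟩ := OrbitLib.exists_dim_eq_nat G
  haveI : LocallyOfFiniteType u.left := GrpHom.lft_left u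
  rw [GrpHom.isFinite_iff_discrete_ker u]
  let K := pullback u.left (η[H] : 𝟙_ (Over (Spec (CommRingCat.of k))) ⟶ H).left
  have key := Groth.Agent.S3016.dim_field u
  change topologicalKrullDim G.left = _ + topologicalKrullDim ↥K at key
  change _ ↔ DiscreteTopology ↥K
  constructor
  · intro hs
    rw [(Surjective.surj (f := u.left)).range_eq,
      IsHomeomorph.topologicalKrullDim_eq _ (Homeomorph.Set.univ H.left).isHomeomorph, ← hd, hn] at key
    have hK : topologicalKrullDim ↥K ≤ 0 := by
      generalize topologicalKrullDim ↥K = d at key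
      induction d with
      | bot => exact bot_le
      | coe d =>
        have h1 : (n : ℕ∞) = n + d := WithBot.coe_inj.1 key
        refine WithBot.coe_le_coe.2 ?_
        induction d using ENat.recTopCoe with
        | top => simp at h1
        | coe m =>
          have : n = n + m := by exact_mod_cast h1
          exact_mod_cast (show m ≤ 0 by omega)
    haveI : LocallyOfFiniteType (pullback.snd u.left (η[H] : 𝟙_ (Over (Spec (CommRingCat.of k))) ⟶ H).left) :=
      MorphismProperty.pullback_snd (P := @LocallyOfFiniteType) _ _ ‹_›
    haveI : IsLocallyNoetherian (𝟙_ (Over (Spec (CommRingCat.of k)))).left := inferInstanceAs (IsLocallyNoetherian (Spec (CommRingCat.of k)))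
    haveI : IsLocallyNoetherian K := LocallyOfFiniteType.isLocallyNoetherian
      (pullback.snd u.left (η[H] : 𝟙_ (Over (Spec (CommRingCat.of k))) ⟶ H).left : K ⟶ Spec (CommRingCat.of k))
    haveI : IsLocallyArtinian K := IsLocallyArtinian.of_topologicalKrullDim_le_zero hK
    infer_instance
  · intro hdisc
    have hK : topologicalKrullDim ↥K ≤ 0 := dim_nonpos_of_discrete _
    by_contra hns
    have hR : Set.range u.left.base ≠ Set.univ := fun e => hns ⟨Set.range_eq_univ.1 e⟩
    have hlt := MiscFlat6.dim_lt_of_ssubset (by rw [← hd, hn]; exact (fun h => by cases h))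
      (GrpHom.isClosed_range u) hR
    have : topologicalKrullDim G.left ≤ topologicalKrullDim (Set.range u.left.base) :=
      key.le.trans ((add_le_add le_rfl hK).trans_eq (add_zero _))
    exact absurd (this.trans_lt hlt) (by rw [hd]; exact lt_irrefl _)

/-- (2) ⇔ (3): let S be a scheme, A and B abelian schemes over S (S-group schemes, smooth and proper
over S with geometrically connected fibres) whose fibres A_s and B_s have the same dimension for
every point s of S, and f : A → B a homomorphism of S-group schemes. Then f is locally quasi-finite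
if and only if f is surjective (and then f is an isogeny). -/
theorem result {S : Scheme.{u}} (A B : Over S)
    [GrpObj A] [Smooth A.hom] [IsProper A.hom] [GeometricallyConnected A.hom]
    [GrpObj B] [Smooth B.hom] [IsProper B.hom] [GeometricallyConnected B.hom]
    (f : A ⟶ B) [IsMonHom f]
    (hdim : ∀ s : S, topologicalKrullDim ↥(A.hom.fiber s) = topologicalKrullDim ↥(B.hom.fiber s)) :
    LocallyQuasiFinite f.left ↔ Surjective f.left := by
  let ρ := fun s : S => S.fromSpecResidueField s
  letI : ∀ s, GrpObj ((Over.pullback (ρ s)).obj A) := fun s => Functor.grpObjObj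
  letI : ∀ s, GrpObj ((Over.pullback (ρ s)).obj B) := fun s => Functor.grpObjObj
  haveI : IsProper (f.left ≫ B.hom) := by rw [Over.w]; infer_instance
  haveI : IsProper f.left := IsProper.of_comp f.left B.hom
  have sq : ∀ s, IsPullback (pullback.fst A.hom (ρ s)) ((Over.pullback (ρ s)).map f).left f.left
      (pullback.fst B.hom (ρ s)) := fun s => by
    have h1 : ((Over.pullback (ρ s)).map f).left ≫ pullback.fst B.hom (ρ s) = pullback.fst A.hom (ρ s) ≫ f.left :=
      pullback.lift_fst _ _ _
    have h2 : ((Over.pullback (ρ s)).map f).left ≫ pullback.snd B.hom (ρ s) = pullback.snd A.hom (ρ s) :=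
      pullback.lift_snd _ _ _
    refine IsPullback.of_bot ?_ h1.symm (IsPullback.of_hasPullback B.hom (ρ s))
    rw [Over.w f, h2]
    exact IsPullback.of_hasPullback A.hom (ρ s)
  have key : ∀ s, Surjective ((Over.pullback (ρ s)).map f).left ↔ IsFinite ((Over.pullback (ρ s)).map f).left := by
    intro s
    let As := (Over.pullback (ρ s)).obj A
    let Bs := (Over.pullback (ρ s)).obj B
    haveI : IsProper As.hom := MorphismProperty.pullback_snd (P := @IsProper) _ _ ‹IsProper A.hom›
    haveI : IsProper Bs.hom := MorphismProperty.pullback_snd (P := @IsProper) _ _ ‹IsProper B.hom›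
    haveI : Smooth Bs.hom := MorphismProperty.pullback_snd (P := @Smooth) _ _ ‹Smooth B.hom›
    haveI : GeometricallyConnected Bs.hom :=
      MorphismProperty.pullback_snd (P := @GeometricallyConnected) _ _ ‹GeometricallyConnected B.hom›
    haveI : IrreducibleSpace Bs.left :=
      Groth.Agent.WeilRes.irreducibleSpace_of_smooth_of_field (K := S.residueField s) Bs.hom
    haveI : QuasiCompact ((Over.pullback (ρ s)).map f).left :=
      MorphismProperty.of_isPullback (P := @QuasiCompact) (sq s) inferInstance
    exact surjective_iff_field (k := S.residueField s) (G := As) (H := Bs) ((Over.pullback (ρ s)).map f) (hdim s)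
  have hemb : ∀ s, Topology.IsEmbedding (pullback.fst B.hom (ρ s)).base := fun s =>
    (pullback.fst B.hom (ρ s)).isEmbedding
  have hc : ∀ (s : S) (a' : ↥((Over.pullback (ρ s)).obj A).left),
      pullback.fst B.hom (ρ s) (((Over.pullback (ρ s)).map f).left a') = f.left (pullback.fst A.hom (ρ s) a') :=
    fun s a' => congrArg (fun m => m.base a') (sq s).w.symm
  constructor
  · intro hq
    refine ⟨fun b => ?_⟩
    let s := B.hom b
    haveI : IsFinite ((Over.pullback (ρ s)).map f).left := by
      haveI : IsFinite f.left := IsFinite.of_isProper_of_locallyQuasiFinite f.left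
      exact MorphismProperty.of_isPullback (P := @IsFinite) (sq s) ‹_›
    haveI := (key s).2 ‹_›
    obtain ⟨b', hb', -⟩ := Scheme.Pullback.exists_preimage_pullback (f := B.hom) (g := ρ s) b
      (IsLocalRing.closedPoint (S.residueField s)) (Scheme.fromSpecResidueField_apply _ _).symm
    obtain ⟨a', ha'⟩ := (Surjective.surj (f := ((Over.pullback (ρ s)).map f).left)) b'
    refine ⟨pullback.fst A.hom (ρ s) a', ?_⟩
    rw [← hb', ← ha']
    exact (hc s a').symm
  · intro hs
    refine locallyQuasiFinite_iff_isDiscrete_preimage_singleton.2 fun b => ?_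
    let s := B.hom b
    haveI : Surjective ((Over.pullback (ρ s)).map f).left := MorphismProperty.of_isPullback (P := @Surjective) (sq s) hs
    haveI := (key s).1 ‹_›
    obtain ⟨b', hb', -⟩ := Scheme.Pullback.exists_preimage_pullback (f := B.hom) (g := ρ s) b
      (IsLocalRing.closedPoint (S.residueField s)) (Scheme.fromSpecResidueField_apply _ _).symm
    have hd := (locallyQuasiFinite_iff_isDiscrete_preimage_singleton (f := ((Over.pullback (ρ s)).map f).left)).1
      inferInstance b'
    rw [isDiscrete_iff_discreteTopology] at hd ⊢
    have hsub : f.left ⁻¹' {b} ⊆ pullback.fst A.hom (ρ s) '' (((Over.pullback (ρ s)).map f).left ⁻¹' {b'}) := by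
      intro a ha
      have ha' : f.left a = b := ha
      obtain ⟨a', ha1, -⟩ := Scheme.Pullback.exists_preimage_pullback (f := A.hom) (g := ρ s) a
        (IsLocalRing.closedPoint (S.residueField s))
        (by rw [← Over.w f, Scheme.Hom.comp_apply, ha']; exact (Scheme.fromSpecResidueField_apply _ _).symm)
      refine ⟨a', (hemb s).injective ?_, ha1⟩
      refine (hc s a').trans ?_
      rw [ha1, ha', hb']
    let e := (pullback.fst A.hom (ρ s)).isEmbedding.homeomorphImage (((Over.pullback (ρ s)).map f).left ⁻¹' {b'})
    haveI := hd
    haveI := e.symm.isEmbedding.discreteTopology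
    exact DiscreteTopology.of_subset ‹_› hsub


end Groth.Agent.S18385
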