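import Groth.Statements.S18387
import Mathlib
-- helpers

set_option autoImplicit false
universe u
open LVCorr

namespace Groth.Agent.S18387

/-- In the affine form which its proof establishes. Let A be a commutative algebra over a field F which
is finite-dimensional of dimension d over F. Then the d-th power of the nilradical of A vanishes.
(Applied to the fibre algebra A = B/mB of a quasi-finite morphism over a closed point with maximal
ideal m, this says that the d-th power of the radical of mB lies in mB, i.e. the ramification of the
morphism at that point is at most the degree d of the fibre.) -/
theorem result (F A : Type u) [Field F] [CommRing A] [Algebra F A]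
    [FiniteDimensional F A] : nilradical A ^ Module.finrank F A = ⊥ := by
  haveI : IsArtinianRing A := IsArtinianRing.of_finite F A
  obtain ⟨m, hm⟩ : IsNilpotent (nilradical A) := IsNoetherianRing.isNilpotent_nilradical A
  let N : ℕ → Submodule F A := fun k => Submodule.restrictScalars F (nilradical A ^ k)
  have key : ∀ k, nilradical A ^ k = ⊥ ∨ Module.finrank F (N k) + k ≤ Module.finrank F A := by
    intro k
    induction k with
    | zero => exact Or.inr (by simpa using Submodule.finrank_le (N 0))
    | succ k ih =>
      by_cases h0 : nilradical A ^ (k + 1) = ⊥
      · exact Or.inl h0
      refine Or.inr ?_
      rcases ih with ih | ih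
      · exact absurd (by rw [pow_succ, ih, Ideal.bot_mul]) h0
      have hne : nilradical A ^ (k + 1) ≠ nilradical A ^ k := fun he => by
        have hst : ∀ j, nilradical A ^ (k + j) = nilradical A ^ k := by
          intro j
          induction j with
          | zero => rfl
          | succ j ihj => rw [← add_assoc, pow_succ, ihj, ← pow_succ, he]
        refine h0 ?_
        rw [he, ← hst m, pow_add, hm, Ideal.zero_eq_bot, Ideal.mul_bot]
      have hlt : N (k + 1) < N k := lt_of_le_of_ne (Ideal.pow_le_pow_right k.le_succ)
        fun he => hne (Submodule.restrictScalars_injective F A A he)
      have := Submodule.finrank_lt_finrank_of_lt hlt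
      omega
  rcases key (Module.finrank F A) with h | h
  · exact h
  · have h0 : Module.finrank F (N (Module.finrank F A)) = 0 := by omega
    exact (Submodule.restrictScalars_eq_bot_iff F A A).mp (Submodule.finrank_eq_zero.mp h0)

end Groth.Agent.S18387
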