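import Groth.Statements.S18388
import Groth.Agent.NagataCompLib.Boundary

set_option autoImplicit false
universe u
open LVCorr

namespace Groth.Agent.S18388
open CategoryTheory CategoryTheory.Limits AlgebraicGeometry

open AlgebraicGeometry CategoryTheory in
/-- A correspondence admits a compactification compatible with any given compactifications of its
targets. Over a quasi-compact quasi-separated base scheme S, let C → S be separated and of finite
type, let c₁ : C → X₁ and c₂ : C → X₂ be morphisms over S, and let jᵢ : Xᵢ → X̄ᵢ (i = 1, 2) be open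
immersions over S with X̄ᵢ proper over S. Then there are a scheme C̄ proper over S, an open
immersion j : C → C̄ over S with dense image, and morphisms c̄ᵢ : C̄ → X̄ᵢ over S such that j
followed by c̄ᵢ equals cᵢ followed by jᵢ. (The source works over an algebraically closed field; the
base here is any quasi-compact quasi-separated scheme, over which compactifications of separated
schemes of finite type exist.) -/
theorem result {S C X₁ X₂ Xb₁ Xb₂ : Scheme.{u}}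
    [CompactSpace S] [QuasiSeparatedSpace S]
    (pC : C ⟶ S) [IsSeparated pC] [QuasiCompact pC] [LocallyOfFiniteType pC]
    (pX₁ : X₁ ⟶ S) (pX₂ : X₂ ⟶ S) (pXb₁ : Xb₁ ⟶ S) (pXb₂ : Xb₂ ⟶ S) [IsProper pXb₁] [IsProper pXb₂]
    (c₁ : C ⟶ X₁) (c₂ : C ⟶ X₂) (hc₁ : c₁ ≫ pX₁ = pC) (hc₂ : c₂ ≫ pX₂ = pC)
    (j₁ : X₁ ⟶ Xb₁) (j₂ : X₂ ⟶ Xb₂) [IsOpenImmersion j₁] [IsOpenImmersion j₂]
    (hj₁ : j₁ ≫ pXb₁ = pX₁) (hj₂ : j₂ ≫ pXb₂ = pX₂) :
    ∃ (Cb : Scheme.{u}) (pCb : Cb ⟶ S) (j : C ⟶ Cb) (cb₁ : Cb ⟶ Xb₁) (cb₂ : Cb ⟶ Xb₂),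
      IsProper pCb ∧ IsOpenImmersion j ∧ DenseRange j.base ∧ j ≫ pCb = pC ∧
      cb₁ ≫ pXb₁ = pCb ∧ cb₂ ≫ pXb₂ = pCb ∧ j ≫ cb₁ = c₁ ≫ j₁ ∧ j ≫ cb₂ = c₂ ≫ j₂ := by
  haveI : CompactSpace ↥(pullback pXb₁ pXb₂) :=
    QuasiCompact.compactSpace_of_compactSpace (pullback.fst pXb₁ pXb₂ ≫ pXb₁)
  haveI : QuasiSeparatedSpace ↥(pullback pXb₁ pXb₂) :=
    quasiSeparatedSpace_of_quasiSeparated (pullback.fst pXb₁ pXb₂ ≫ pXb₁)
  let i : C ⟶ pullback pXb₁ pXb₂ := pullback.lift (c₁ ≫ j₁) (c₂ ≫ j₂)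
    (by rw [Category.assoc, hj₁, hc₁, Category.assoc, hj₂, hc₂])
  have hi : i ≫ pullback.fst pXb₁ pXb₂ ≫ pXb₁ = pC := by rw [pullback.lift_fst_assoc, Category.assoc, hj₁, hc₁]
  haveI : IsSeparated (i ≫ pullback.fst pXb₁ pXb₂ ≫ pXb₁) := by rw [hi]; infer_instance
  haveI : LocallyOfFiniteType (i ≫ pullback.fst pXb₁ pXb₂ ≫ pXb₁) := by rw [hi]; infer_instance
  haveI : QuasiCompact (i ≫ pullback.fst pXb₁ pXb₂ ≫ pXb₁) := by rw [hi]; infer_instance
  haveI : IsSeparated i := IsSeparated.of_comp i (pullback.fst pXb₁ pXb₂ ≫ pXb₁)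
  haveI : LocallyOfFiniteType i := locallyOfFiniteType_of_comp i (pullback.fst pXb₁ pXb₂ ≫ pXb₁)
  haveI : QuasiCompact i := QuasiCompact.of_comp i (pullback.fst pXb₁ pXb₂ ≫ pXb₁)
  obtain ⟨Cb, j, p, hj, -, hp, hd, e⟩ := NagataCompLib.exists_dense_compactification i
  haveI := hp
  exact ⟨Cb, p ≫ pullback.fst pXb₁ pXb₂ ≫ pXb₁, j, p ≫ pullback.fst pXb₁ pXb₂, p ≫ pullback.snd pXb₁ pXb₂,
    inferInstance, hj, hd, by rw [reassoc_of% e, hi], by rw [Category.assoc],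
    by rw [Category.assoc, pullback.condition], by rw [reassoc_of% e, pullback.lift_fst],
    by rw [reassoc_of% e, pullback.lift_snd]⟩

end Groth.Agent.S18388
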