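import Groth.Statements.S18389
import Groth.Agent.NagataCompLib.Boundary

set_option autoImplicit false
universe u
open LVCorr

namespace Groth.Agent.S18389
open CategoryTheory CategoryTheory.Limits AlgebraicGeometry

open AlgebraicGeometry CategoryTheory in
/-- Let j : C → C̄ be an open immersion with dense image and jX : X → X̄ an open immersion, and let c₁ :
C → X and c̄₁ : C̄ → X̄ satisfy j followed by c̄₁ equals c₁ followed by jX, with c̄₁ separated. Let
U be an open subset of X such that c₁⁻¹(U) is dense in C and the restriction c₁⁻¹(U) → U of c₁ is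
proper. Then c̄₁⁻¹(jX(U)) = j(c₁⁻¹(U)) as open subsets of C̄. (In the source all schemes are
separated of finite type over a field, C̄ and X̄ are compactifications of a correspondence and of X,
so that c̄₁ is automatically separated.) -/
theorem result {C Cb X Xb : Scheme.{u}}
    (j : C ⟶ Cb) [IsOpenImmersion j] (hj : DenseRange j.base)
    (jX : X ⟶ Xb) [IsOpenImmersion jX] (c₁ : C ⟶ X) (cb₁ : Cb ⟶ Xb) [IsSeparated cb₁]
    (h : j ≫ cb₁ = c₁ ≫ jX) (U : X.Opens) (hU : Dense ((c₁ ⁻¹ᵁ U : C.Opens) : Set C))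
    [IsProper (c₁ ∣_ U)] :
    cb₁ ⁻¹ᵁ (jX ''ᵁ U) = j ''ᵁ (c₁ ⁻¹ᵁ U) := by
  refine TopologicalSpace.Opens.ext (Set.Subset.antisymm (fun z hz => ?_) ?_)
  · have hcl : z ∈ closure (Set.range ((c₁ ⁻¹ᵁ U).ι ≫ j)) := by
      refine closure_mono ?_ (hj.dense_image j.continuous hU z)
      rintro _ ⟨x, hx, rfl⟩
      exact ⟨⟨x, hx⟩, rfl⟩
    obtain ⟨y, hy⟩ := NagataCompLib.closure_subset_range cb₁ (jX ''ᵁ U) ((c₁ ⁻¹ᵁ U).ι ≫ j)
      ((c₁ ∣_ U) ≫ (jX.isoImage U).hom)
      (by rw [Category.assoc, Category.assoc, Scheme.Hom.isoImage_hom_ι, morphismRestrict_ι_assoc, h])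
      _ (fun x hx _ => hx) hcl hz
    exact ⟨y.1, y.2, hy⟩
  · rintro _ ⟨x, hx, rfl⟩
    show cb₁ (j x) ∈ jX ''ᵁ U
    rw [← Scheme.Hom.comp_apply, h]
    exact ⟨c₁ x, hx, rfl⟩

end Groth.Agent.S18389
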