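import Groth.Statements.S18390
import Mathlib
import Mathlib
-- import your own Groth.Agent.* helpers here

set_option autoImplicit false
universe u
open LVCorr

namespace Groth.Agent.S18390

/-- In the affine, ring-theoretic form which its proof establishes. Let φ : A' → A be a ring
homomorphism, I' a finitely generated ideal of A' and I an ideal of A containing the image of I'.
Then some power I'^k is mapped into I^(k+1) if and only if for every n ≥ 1 and every a ∈ I'^n there
is a k with φ(a)^k ∈ I^(nk+1). (Geometrically, for a morphism f : (X, Z) → (X', Z') of pairs with Z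
a closed subscheme of the preimage of Z', the normal cone of Z in X is the spectrum of the
associated graded algebra of I, and the second condition says that the induced map of normal cones
sends the normal cone of Z set-theoretically into the zero section Z'; the source states the
equivalence in that language.) -/
theorem result (A' A : Type u) [CommRing A'] [CommRing A]
    (φ : A' →+* A) (I' : Ideal A') (hI' : I'.FG) (I : Ideal A) (hle : I'.map φ ≤ I) :
    (∃ k : ℕ, (I' ^ k).map φ ≤ I ^ (k + 1)) ↔
      ∀ n : ℕ, 1 ≤ n → ∀ a ∈ I' ^ n, ∃ k : ℕ, 1 ≤ k ∧ φ a ^ k ∈ I ^ (n * k + 1) := by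
  constructor
  · rintro ⟨k, hk⟩ n hn a ha
    refine ⟨k + 1, by omega, ?_⟩
    have h1 : (I' ^ (k + 1)).map φ ≤ I ^ (k + 2) := by
      rw [pow_succ, Ideal.map_mul, pow_succ I (k + 1)]
      exact Ideal.mul_mono hk hle
    have h2 : φ a ^ (k + 1) ∈ ((I' ^ (k + 1)).map φ) ^ n := by
      rw [← map_pow, ← Ideal.map_pow, ← pow_mul, mul_comm, pow_mul]
      exact Ideal.mem_map_of_mem φ (Ideal.pow_mem_pow ha _)
    have h3 := Ideal.pow_right_mono h1 n h2
    rw [← pow_mul] at h3
    exact Ideal.pow_le_pow_right (by nlinarith) h3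
  · intro h
    classical
    obtain ⟨s, hs⟩ := hI'
    have hone : ∀ a ∈ s, ∃ k : ℕ, φ a ^ k ∈ I ^ (k + 1) := fun a ha => by
      obtain ⟨k, -, hk⟩ := h 1 le_rfl a (by rw [pow_one, ← hs]; exact Submodule.subset_span ha)
      exact ⟨k, by rwa [one_mul] at hk⟩
    choose! K hK using hone
    refine ⟨(∑ a ∈ s, K a) + 1, ?_⟩
    rw [← hs, Ideal.map_le_iff_le_comap]
    show Ideal.span (s : Set A') ^ _ ≤ _
    rw [Ideal.span, Submodule.span_pow, Submodule.span_le]
    intro x hx
    rw [Set.mem_pow] at hx
    obtain ⟨f, rfl⟩ := hx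
    rw [SetLike.mem_coe, Ideal.mem_comap]
    rw [List.prod_ofFn, map_prod]
    have hfib : ∃ a ∈ s, K a ≤ (Finset.univ.filter fun i => (f i : A') = a).card := by
      by_contra hne
      push Not at hne
      have hc : Fintype.card (Fin ((∑ a ∈ s, K a) + 1)) = ∑ a ∈ s, (Finset.univ.filter fun i => (f i : A') = a).card := by
        rw [← Finset.card_univ]
        exact Finset.card_eq_sum_card_fiberwise fun i _ => (f i).2
      rw [Fintype.card_fin] at hc
      have := Finset.sum_le_sum fun a ha => (hne a ha).le
      omega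
    obtain ⟨a, ha, hcard⟩ := hfib
    obtain ⟨F, hF, hFc⟩ := Finset.exists_subset_card_eq hcard
    rw [← Finset.prod_mul_prod_compl F]
    have e1 : ∏ i ∈ F, φ (f i : A') = φ a ^ K a := by
      rw [← hFc, ← Finset.prod_const]
      exact Finset.prod_congr rfl fun i hi => by rw [(Finset.mem_filter.1 (hF hi)).2]
    have e2 : ∏ i ∈ Fᶜ, φ (f i : A') ∈ I ^ Fᶜ.card := by
      rw [← Finset.prod_const]
      exact Ideal.prod_mem_prod fun i _ => hle (Ideal.mem_map_of_mem φ (hs ▸ Submodule.subset_span (f i).2))
    have h5 := Ideal.mul_mem_mul (e1 ▸ hK a ha) e2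
    rw [← pow_add] at h5
    refine Ideal.pow_le_pow_right ?_ h5
    rw [Finset.card_compl, Fintype.card_fin, hFc]
    have := Finset.single_le_sum (f := K) (fun _ _ => Nat.zero_le _) ha
    omega

end Groth.Agent.S18390
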