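import Groth.Statements.S18391
import Groth.Agent.NormalLib.Serre
import Mathlib.RingTheory.Localization.Away.Basic
-- import your own Groth.Agent.* helpers here

set_option autoImplicit false
universe u
open LVCorr

namespace Groth.Agent.S18391

/-- Let A be a normal (integrally closed) Noetherian domain and z an element of A such that the radical
of the principal ideal (z) is prime. Then there exist elements w, t of A and a natural number r,
with w not in the radical of (z), such that in the localization A[1/w] the ideal generated by z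
equals the ideal generated by t^r and the ideal generated by t is prime. (The condition on w is the
one the printed proof produces and the later use of the lemma needs.) -/
theorem result (A : Type u) [CommRing A] [IsDomain A]
    [IsNoetherianRing A] [IsIntegrallyClosed A] (z : A) (hz : (Ideal.span {z}).radical.IsPrime) :
    ∃ (w t : A) (r : ℕ), w ∉ (Ideal.span {z}).radical ∧
      Ideal.span {algebraMap A (Localization.Away w) z} =
        Ideal.span {algebraMap A (Localization.Away w) t ^ r} ∧
      (Ideal.span {algebraMap A (Localization.Away w) t}).IsPrime := by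
  classical
  set p := (Ideal.span {z}).radical with hp
  haveI : p.IsPrime := hz
  rcases eq_or_ne z 0 with rfl | hz0
  · have hp0 : p = ⊥ := by
      rw [hp, Ideal.span_singleton_zero]
      exact Ideal.IsPrime.radical (Ideal.isPrime_bot)
    refine ⟨1, 0, 1, fun h => ?_, by simp, ?_⟩
    · rw [hp0, Ideal.mem_bot] at h; exact one_ne_zero h
    · haveI : IsDomain (Localization.Away (1 : A)) :=
        IsLocalization.isDomain_localization (powers_le_nonZeroDivisors_of_noZeroDivisors one_ne_zero)
      rw [map_zero, Ideal.span_singleton_zero]; exact Ideal.isPrime_bot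
  have hzp : z ∈ p := Ideal.le_radical (Ideal.mem_span_singleton_self z)
  let L := Localization.AtPrime p
  haveI : IsDomain L := IsLocalization.isDomain_localization (Ideal.primeCompl_le_nonZeroDivisors p)
  haveI : IsIntegrallyClosed L := isIntegrallyClosed_of_isLocalization L p.primeCompl (Ideal.primeCompl_le_nonZeroDivisors p)
  haveI : IsNoetherianRing L := IsLocalization.isNoetherianRing p.primeCompl L inferInstance
  have hinj : Function.Injective (algebraMap A L) :=
    IsLocalization.injective L (Ideal.primeCompl_le_nonZeroDivisors p)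
  have hzL : algebraMap A L z ∈ IsLocalRing.maximalIdeal L :=
    (IsLocalization.AtPrime.to_map_mem_maximal_iff L p z).mpr hzp
  haveI : Nontrivial (L ⧸ Ideal.span {algebraMap A L z}) := Ideal.Quotient.nontrivial_iff.mpr fun h => by
    have := (Ideal.span_singleton_le_iff_mem _).mpr hzL
    rw [h, top_le_iff] at this
    exact (IsLocalRing.maximalIdeal.isMaximal L).ne_top this
  obtain ⟨q, hq⟩ := associatedPrimes.nonempty L (L ⧸ Ideal.span {algebraMap A L z})
  have hqp : q.IsPrime := hq.isPrime
  have hzq : algebraMap A L z ∈ q := by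
    have : Module.annihilator L (L ⧸ Ideal.span {algebraMap A L z}) ≤ q := Submodule.annihilator_top (R := L) (M := L ⧸ Ideal.span {algebraMap A L z}) ▸ IsAssociatedPrime.annihilator_le hq
    apply this
    rw [Ideal.annihilator_quotient]
    exact Ideal.mem_span_singleton_self _
  have hqmax : q = IsLocalRing.maximalIdeal L := by
    refine le_antisymm (IsLocalRing.le_maximalIdeal hqp.ne_top) ?_
    rw [← Localization.AtPrime.map_eq_maximalIdeal (I := p), Ideal.map_le_iff_le_comap]
    haveI := hqp.comap (algebraMap A L)
    exact hp.le.trans <| (Ideal.IsPrime.radical_le_iff inferInstance).mpr ((Ideal.span_singleton_le_iff_mem _).mpr hzq)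
  haveI : IsDiscreteValuationRing L := NormalLib.isDVR_of_maximalIdeal_mem_associatedPrimes
    (fun e => hz0 (hinj (e.trans (map_zero _).symm))) (hqmax ▸ hq)
  obtain ⟨ϖ, hϖ⟩ := IsDiscreteValuationRing.exists_irreducible L
  obtain ⟨⟨t, s⟩, hts⟩ := IsLocalization.surj p.primeCompl ϖ
  dsimp only at hts
  have hsu : IsUnit (algebraMap A L s) := IsLocalization.map_units L s
  have htirr : Irreducible (algebraMap A L t) := by
    rw [← hts]; exact (associated_mul_unit_right ϖ _ hsu).irreducible hϖ
  have hmax : IsLocalRing.maximalIdeal L = Ideal.span {algebraMap A L t} :=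
    (IsDiscreteValuationRing.irreducible_iff_uniformizer _).mp htirr
  obtain ⟨r, u, hzu⟩ := IsDiscreteValuationRing.eq_unit_mul_pow_irreducible
    (fun e => hz0 (hinj (e.trans (map_zero _).symm))) htirr
  obtain ⟨⟨b, a⟩, hab⟩ := IsLocalization.surj p.primeCompl (u : L)
  dsimp only at hab
  have hbp : b ∉ p := fun hb => by
    have := (IsLocalization.AtPrime.to_map_mem_maximal_iff L p b).mpr hb
    rw [← hab] at this
    exact (IsLocalRing.maximalIdeal.isMaximal L).ne_top (Ideal.eq_top_of_isUnit_mem _ this (u.isUnit.mul (IsLocalization.map_units L a)))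
  have heq : (a : A) * z = b * t ^ r := hinj (by rw [map_mul, map_mul, map_pow, hzu, ← hab]; ring)
  obtain ⟨G, hG⟩ := (IsNoetherian.noetherian p : p.FG)
  have hex : ∀ g ∈ G, ∃ c : A, c ∉ p ∧ c * g ∈ Ideal.span {t} := by
    intro g hg
    have hgp : g ∈ p := hG ▸ Submodule.subset_span hg
    have : algebraMap A L g ∈ (Ideal.span {t}).map (algebraMap A L) := by
      rw [Ideal.map_span, Set.image_singleton, ← hmax]
      exact (IsLocalization.AtPrime.to_map_mem_maximal_iff L p g).mpr hgp
    obtain ⟨⟨⟨c, hc⟩, d⟩, hcd⟩ := (IsLocalization.mem_map_algebraMap_iff p.primeCompl L).mp this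
    refine ⟨d, d.2, ?_⟩
    have : g * d = c := hinj (by rw [map_mul]; exact hcd)
    rw [mul_comm, this]; exact hc
  choose c hc hct using hex
  let cs : A := ∏ g ∈ G.attach, c g.1 g.2
  have hcs : cs ∉ p := fun h => by
    obtain ⟨g, -, hg⟩ := (Ideal.IsPrime.prod_mem_iff (p := p)).mp h
    exact hc _ _ hg
  let w : A := (a : A) * b * cs
  have hwp : w ∉ p := fun h => (hz.mem_or_mem h).elim (fun h' => (hz.mem_or_mem h').elim a.2 hbp) hcs
  haveI : IsDomain (Localization.Away w) := IsLocalization.isDomain_localization
    (powers_le_nonZeroDivisors_of_noZeroDivisors fun e => hwp (e ▸ zero_mem p))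
  refine ⟨w, t, r, hwp, ?_, ?_⟩
  · have hdvd : ∀ x : A, x ∣ w → IsUnit (algebraMap A (Localization.Away w) x) := fun x hx =>
      isUnit_of_dvd_unit (map_dvd _ hx) (IsLocalization.Away.algebraMap_isUnit w)
    refine Ideal.span_singleton_eq_span_singleton.mpr ⟨?_, ?_⟩
    · exact (hdvd a (dvd_mul_of_dvd_left (dvd_mul_right _ _) _)).unit * (hdvd b (dvd_mul_of_dvd_left (dvd_mul_left _ _) _)).unit⁻¹
    · have := congrArg (algebraMap A (Localization.Away w)) heq
      rw [map_mul, map_mul, map_pow] at this
      rw [Units.val_mul, ← mul_assoc, IsUnit.unit_spec, mul_comm _ (algebraMap A _ (a : A)), this, mul_comm _ (algebraMap A _ t ^ r), mul_assoc, IsUnit.mul_val_inv, mul_one]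
  · have htp : t ∈ p := by
      have : algebraMap A L t ∈ IsLocalRing.maximalIdeal L := by rw [hmax]; exact Ideal.mem_span_singleton_self _
      exact (IsLocalization.AtPrime.to_map_mem_maximal_iff L p t).mp this
    have hmap : Ideal.span {algebraMap A (Localization.Away w) t} = p.map (algebraMap A (Localization.Away w)) := by
      refine le_antisymm ((Ideal.span_singleton_le_iff_mem _).mpr (Ideal.mem_map_of_mem _ htp)) ?_
      rw [← hG, Ideal.submodule_span_eq, Ideal.map_span, Ideal.span_le]
      rintro _ ⟨g, hg, rfl⟩
      have hu : IsUnit (algebraMap A (Localization.Away w) (c g hg)) :=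
        isUnit_of_dvd_unit (map_dvd _ (dvd_mul_of_dvd_right (Finset.dvd_prod_of_mem _ (Finset.mem_attach G ⟨g, hg⟩)) _))
          (IsLocalization.Away.algebraMap_isUnit w)
      have h1 := Ideal.mem_map_of_mem (algebraMap A (Localization.Away w)) (hct g hg)
      rw [Ideal.map_span, Set.image_singleton, map_mul] at h1
      exact (Ideal.unit_mul_mem_iff_mem _ hu).mp h1
    rw [hmap]
    refine IsLocalization.isPrime_of_isPrime_disjoint (Submonoid.powers w) _ p hz ?_
    rw [Set.disjoint_left]
    rintro x ⟨n, rfl⟩ hx
    exact hwp (hz.mem_of_pow_mem n hx)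

end Groth.Agent.S18391
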