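import Groth.Statements.S18392
import Mathlib
import Mathlib
-- import your own Groth.Agent.* helpers here

set_option autoImplicit false
universe u
open LVCorr

namespace Groth.Agent.S18392

/-- Let A be a normal (integrally closed) Noetherian domain and z an element of A such that the radical
of (z) is prime. Then for every non-empty open subset V of Spec A contained in the basic open set
D(z) (that is, every non-empty open subset of Spec A[1/z]) there is an element x of A, not in the
radical of (z), such that the basic open set D(xz) = Spec A[1/xz] is contained in V. -/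
theorem result (A : Type u) [CommRing A]
    [IsDomain A] [IsNoetherianRing A] [IsIntegrallyClosed A] (z : A)
    (hz : (Ideal.span {z}).radical.IsPrime) (V : Set (PrimeSpectrum A)) (hV : IsOpen V)
    (hVz : V ⊆ (PrimeSpectrum.basicOpen z : Set (PrimeSpectrum A))) (hne : V.Nonempty) :
    ∃ x : A, x ∉ (Ideal.span {z}).radical ∧
      ((PrimeSpectrum.basicOpen (x * z) : TopologicalSpace.Opens (PrimeSpectrum A)) :
        Set (PrimeSpectrum A)) ⊆ V := by
  classical
  set P := (Ideal.span {z}).radical with hP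
  haveI := hz
  have hz0 : z ≠ 0 := by
    rintro rfl
    obtain ⟨v, hv⟩ := hne
    have := hVz hv
    simp at this
  obtain ⟨v, hv⟩ := hne
  obtain ⟨_, ⟨f, rfl⟩, hvf, hfV⟩ := PrimeSpectrum.isTopologicalBasis_basic_opens.exists_subset_of_mem_open hv hV
  have hf0 : f ≠ 0 := by
    rintro rfl
    simp at hvf
  have hmin : P ∈ (Ideal.span {z}).minimalPrimes := ⟨⟨hz, Ideal.le_radical⟩, fun Q hQ _ => hQ.1.radical_le_iff.2 hQ.2⟩
  haveI : (Ideal.span {z}).IsPrincipal := ⟨⟨z, rfl⟩⟩
  have hht : P.height ≤ 1 := Ideal.height_le_one_of_isPrincipal_of_mem_minimalPrimes (Ideal.span {z}) P hmin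
  let R := Localization.AtPrime P
  have hinj : Function.Injective (algebraMap A R) := IsLocalization.injective R P.primeCompl_le_nonZeroDivisors
  haveI : IsDomain R := IsLocalization.isDomain_localization P.primeCompl_le_nonZeroDivisors
  haveI : IsNoetherianRing R := IsLocalization.isNoetherianRing P.primeCompl R inferInstance
  haveI : IsIntegrallyClosed R := isIntegrallyClosed_of_isLocalization R P.primeCompl P.primeCompl_le_nonZeroDivisors
  have hdim : ringKrullDim R ≤ 1 := by
    rw [IsLocalization.AtPrime.ringKrullDim_eq_height P R]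
    exact_mod_cast hht
  haveI : Ring.KrullDimLE 1 R := Ring.krullDimLE_iff.2 (by simpa using hdim)
  have hzP : z ∈ P := Ideal.le_radical (Ideal.mem_span_singleton_self z)
  have hzm : algebraMap A R z ∈ IsLocalRing.maximalIdeal R := (IsLocalization.AtPrime.to_map_mem_maximal_iff R P z).2 hzP
  have hnf : ¬ IsField R := by
    intro h
    letI := h.toField
    have := IsLocalRing.maximalIdeal.isMaximal R
    rcases Ideal.eq_bot_or_top (IsLocalRing.maximalIdeal R) with h' | h'
    · exact hz0 (hinj (by rw [map_zero]; exact (Submodule.mem_bot R).1 (h'.le hzm)))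
    · exact this.ne_top h'
  haveI : IsDiscreteValuationRing R := by
    have htf : IsDiscreteValuationRing R ↔ IsIntegrallyClosed R ∧ ∃! Q : Ideal R, Q ≠ ⊥ ∧ Q.IsPrime := (IsDiscreteValuationRing.TFAE R hnf).out 0 3
    refine htf.2 ⟨inferInstance, IsLocalRing.maximalIdeal R, ⟨?_, inferInstance⟩, ?_⟩
    · exact IsLocalRing.isField_iff_maximalIdeal_eq.not.1 hnf
    · rintro Q ⟨hQ0, hQ⟩
      exact IsLocalRing.eq_maximalIdeal (hQ.isMaximal_of_ne_bot hQ0)
  obtain ⟨π, hπ⟩ := IsDiscreteValuationRing.exists_irreducible R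
  have hfR : algebraMap A R f ≠ 0 := by rwa [ne_eq, map_eq_zero_iff _ hinj]
  have hzR : algebraMap A R z ≠ 0 := by rwa [ne_eq, map_eq_zero_iff _ hinj]
  obtain ⟨a, u, hu⟩ := IsDiscreteValuationRing.eq_unit_mul_pow_irreducible hfR hπ
  obtain ⟨b, v', hv'⟩ := IsDiscreteValuationRing.eq_unit_mul_pow_irreducible hzR hπ
  have hb : b ≠ 0 := by
    rintro rfl
    rw [hv', pow_zero, mul_one] at hzm
    exact (IsLocalRing.mem_maximalIdeal _).1 hzm v'.isUnit
  obtain ⟨⟨w, t⟩, hwt⟩ := IsLocalization.surj P.primeCompl ((u ^ b * (v' ^ a)⁻¹ : Rˣ) : R)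
  have hkey : f ^ b * (t : A) = z ^ a * w := hinj (by
    have h1 : algebraMap A R f ^ b = algebraMap A R z ^ a * ((u ^ b * (v' ^ a)⁻¹ : Rˣ) : R) := by
      have h2 : (v' : R) ^ a * (((v' ^ a)⁻¹ : Rˣ) : R) = 1 := by rw [← Units.val_pow_eq_pow_val, Units.mul_inv]
      rw [hu, hv', mul_pow, mul_pow, Units.val_mul, Units.val_pow_eq_pow_val, ← pow_mul, ← pow_mul, mul_comm a b]
      linear_combination (-((u : R) ^ b * π ^ (b * a))) * h2
    rw [map_mul, map_mul, map_pow, map_pow, ← hwt, h1, mul_assoc])
  have hw : w ∉ P := by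
    intro h
    have h1 : algebraMap A R w ∈ IsLocalRing.maximalIdeal R := (IsLocalization.AtPrime.to_map_mem_maximal_iff R P w).2 h
    rw [← hwt] at h1
    exact (IsLocalRing.mem_maximalIdeal _).1 h1 ((Units.isUnit _).mul (IsLocalization.map_units R t))
  refine ⟨w, hw, fun q hq => hfV ?_⟩
  rw [SetLike.mem_coe, PrimeSpectrum.mem_basicOpen] at hq ⊢
  intro hf
  have : z ^ a * w ∈ q.asIdeal := hkey ▸ q.asIdeal.mul_mem_right _ (q.asIdeal.pow_mem_of_mem hf b (Nat.pos_of_ne_zero hb))
  rcases q.2.mem_or_mem this with h | h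
  · exact hq (q.asIdeal.mul_mem_left _ (q.2.mem_of_pow_mem a h))
  · exact hq (q.asIdeal.mul_mem_right _ h)

end Groth.Agent.S18392
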