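import Groth.Statements.S18393
import Mathlib.Topology.NoetherianSpace


-- import your own Groth.Agent.* helpers here

set_option autoImplicit false
universe u v
open LVCorr

namespace Groth.Agent.S18393

/-- Stated for the underlying continuous maps. Let c₁, c₂ : C → X be continuous maps with C a Noetherian
topological space, let Z be a closed subset of X and B the closure in C of c₂⁻¹(Z) ∖ c₁⁻¹(Z). Call Z
locally invariant when every point x of Z has an open neighbourhood U such that every y in C with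
c₂(y) ∈ Z ∩ U and c₁(y) ∈ U satisfies c₁(y) ∈ Z. Then Z is locally invariant if and only if for
every irreducible subset T of B the closures of c₁(T) and of c₂(T) in X are disjoint. (The source
states this for a correspondence c = (c₁, c₂) : C → X × X of separated schemes of finite type over
an algebraically closed field and for the irreducible components of B; the condition for all
irreducible subsets of B is the same condition.) -/
theorem result {C : Type u} {X : Type v}
    [TopologicalSpace C] [TopologicalSpace X] [TopologicalSpace.NoetherianSpace C]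
    (c₁ c₂ : C → X) (hc₁ : Continuous c₁) (hc₂ : Continuous c₂) (Z : Set X) (hZ : IsClosed Z) :
    (∀ x ∈ Z, ∃ U : Set X, IsOpen U ∧ x ∈ U ∧
        ∀ y : C, c₂ y ∈ Z → c₂ y ∈ U → c₁ y ∈ U → c₁ y ∈ Z) ↔
      ∀ T : Set C, T ⊆ closure (c₂ ⁻¹' Z \ c₁ ⁻¹' Z) → IsIrreducible T →
        closure (c₁ '' T) ∩ closure (c₂ '' T) = ∅ := by
  classical
  constructor
  · intro h T hT hTi
    rw [Set.eq_empty_iff_forall_notMem]
    rintro x ⟨hx₁, hx₂⟩
    have h2Z : c₂ '' T ⊆ Z := by
      rintro _ ⟨t, ht, rfl⟩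
      have hsub : closure (c₂ ⁻¹' Z \ c₁ ⁻¹' Z) ⊆ c₂ ⁻¹' Z :=
        closure_minimal Set.sdiff_subset (hZ.preimage hc₂)
      exact hsub (hT ht)
    obtain ⟨U, hU, hxU, hUy⟩ := h x (closure_minimal h2Z hZ hx₂)
    obtain ⟨_, hu₁, t₁, ht₁, rfl⟩ := mem_closure_iff.1 hx₁ U hU hxU
    obtain ⟨_, hu₂, t₂, ht₂, rfl⟩ := mem_closure_iff.1 hx₂ U hU hxU
    obtain ⟨t, htT, htU⟩ := hTi.2 (c₁ ⁻¹' U) (c₂ ⁻¹' U) (hU.preimage hc₁) (hU.preimage hc₂)
      ⟨t₁, ht₁, hu₁⟩ ⟨t₂, ht₂, hu₂⟩
    obtain ⟨y, ⟨hy₁, hy₂⟩, hyZ, hyZ'⟩ := mem_closure_iff.1 (hT htT) (c₁ ⁻¹' U ∩ c₂ ⁻¹' U)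
      ((hU.preimage hc₁).inter (hU.preimage hc₂)) htU
    exact hyZ' (hUy y hyZ hy₂ hy₁)
  · intro h x _
    obtain ⟨S, hSf, hScl, hSi, hS⟩ := TopologicalSpace.NoetherianSpace.exists_finite_set_isClosed_irreducible
      (isClosed_closure (s := c₂ ⁻¹' Z \ c₁ ⁻¹' Z))
    let W : Set C → Set X := fun T => if x ∈ closure (c₁ '' T) then closure (c₂ '' T) else closure (c₁ '' T)
    have hxW : ∀ T ∈ S, x ∉ W T := by
      intro T hT hxT
      have he := h T (hS ▸ Set.subset_sUnion_of_mem hT) (hSi T hT)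
      by_cases hx1 : x ∈ closure (c₁ '' T)
      · simp only [W, if_pos hx1] at hxT
        exact (Set.eq_empty_iff_forall_notMem.1 he x) ⟨hx1, hxT⟩
      · simp only [W, if_neg hx1] at hxT
        exact hx1 hxT
    refine ⟨(⋃ T ∈ S, W T)ᶜ, ?_, ?_, ?_⟩
    · refine isOpen_compl_iff.2 (hSf.isClosed_biUnion fun T _ => ?_)
      dsimp only [W]; split_ifs <;> exact isClosed_closure
    · simpa [Set.mem_iUnion] using hxW
    · intro y hy2 hU2 hU1
      by_contra hy1
      obtain ⟨T, hT, hyT⟩ : y ∈ ⋃₀ S := hS ▸ subset_closure ⟨hy2, hy1⟩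
      by_cases hx1 : x ∈ closure (c₁ '' T)
      · exact hU2 (Set.mem_biUnion hT (by simp only [W, if_pos hx1]; exact subset_closure ⟨y, hyT, rfl⟩))
      · exact hU1 (Set.mem_biUnion hT (by simp only [W, if_neg hx1]; exact subset_closure ⟨y, hyT, rfl⟩))

end Groth.Agent.S18393
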