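import Groth.Statements.S18399
import Groth.Agent.LangQLib.Field

set_option autoImplicit false
universe u
open CAlg

namespace Groth.Agent.S18399

/-- Let k be a field and A a regular local k-algebra with residue field k (the structure map from k onto
the residue field of A is surjective), let σ be a k-algebra endomorphism of A of finite order n with
n invertible in k, and let I_σ be the ideal of A generated by the elements f - σ f. Then I_σ is
generated by finitely many elements of the maximal ideal whose classes in the cotangent space m/m^2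
are linearly independent over the residue field. (Such elements are part of a regular system of
parameters of A, hence part of a regular sequence, which is the printed conclusion; the generators
with independent classes are what the argument produces.) -/
theorem result {k : Type u} [Field k] {A : Type u} [CommRing A] [Algebra k A] [IsRegularLocalRing A] (hres : Function.Surjective ⇑(algebraMap k (IsLocalRing.ResidueField A))) (σ : A →ₐ[k] A) (n : ℕ) (hσ : ∀ a : A, (⇑σ)^[n] a = a) (hn : (n : k) ≠ 0) : ∃ (m : ℕ) (f : Fin m → ↥(IsLocalRing.maximalIdeal A)), Ideal.span (Set.range fun i : Fin m => (f i : A)) = Ideal.span (Set.range fun a : A => a - σ a) ∧ LinearIndependent (IsLocalRing.ResidueField A) (fun i : Fin m => (IsLocalRing.maximalIdeal A).toCotangent (f i)) := by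
  classical
  set 𝔪 := IsLocalRing.maximalIdeal A
  set I := Ideal.span (Set.range fun a : A => a - σ a)
  have hn0 : 0 < n := Nat.pos_of_ne_zero fun h => hn (by rw [h, Nat.cast_zero])
  have hcomm : ∀ (j : ℕ) x, σ (σ^[j] x) = σ^[j + 1] x := fun j x => (Function.iterate_succ_apply' σ j x).symm
  have hm : ∀ a ∈ 𝔪, σ a ∈ 𝔪 := by
    intro a ha
    rw [IsLocalRing.mem_maximalIdeal, mem_nonunits_iff] at ha ⊢
    intro hu
    refine ha ?_
    obtain ⟨n', rfl⟩ := Nat.exists_eq_add_of_le (show 1 ≤ n by omega)
    have h2 : ∀ j, IsUnit (σ^[j + 1] a) := fun j => by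
      induction j with
      | zero => exact hu
      | succ j ih => rw [← hcomm]; exact ih.map σ
    have := h2 n'
    rwa [add_comm n' 1, hσ] at this
  have hmI : I ≤ 𝔪 := by
    refine Ideal.span_le.2 ?_
    rintro _ ⟨a, rfl⟩
    obtain ⟨c, hc⟩ := hres (IsLocalRing.residue A a)
    have h : a - algebraMap k A c ∈ 𝔪 := by
      rw [← IsLocalRing.residue_eq_zero_iff, map_sub, sub_eq_zero, ← hc]
      rfl
    show a - σ a ∈ 𝔪
    rw [show a - σ a = (a - algebraMap k A c) - σ (a - algebraMap k A c) by rw [map_sub, AlgHom.commutes]; ring]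
    exact 𝔪.sub_mem h (hm _ h)
  have hsq : ∀ a ∈ 𝔪 ^ 2, a - σ a ∈ 𝔪 * I := by
    intro a ha
    rw [pow_two] at ha
    induction ha using Submodule.mul_induction_on' with
    | mem_mul_mem b hb c hc =>
      rw [show b * c - σ (b * c) = c * (b - σ b) + σ b * (c - σ c) by rw [map_mul]; ring]
      exact add_mem (Ideal.mul_mem_mul hc (Ideal.subset_span ⟨b, rfl⟩))
        (Ideal.mul_mem_mul (hm b hb) (Ideal.subset_span ⟨c, rfl⟩))
    | add x _ y _ hx hy =>
      rw [show x + y - σ (x + y) = (x - σ x) + (y - σ y) by rw [map_add]; ring]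
      exact add_mem hx hy
  have hproj : ∀ a, a - σ a ∈ 𝔪 ^ 2 → a - σ a ∈ 𝔪 * I := by
    intro a ha
    set g := a - σ a with hg
    let P : A := ∑ j ∈ Finset.range n, ∑ i ∈ Finset.range j, σ^[i] g
    have hgi : ∀ i, σ^[i] g ∈ 𝔪 ^ 2 := fun i => by
      induction i with
      | zero => exact ha
      | succ i ih =>
        rw [← hcomm]
        have hle : 𝔪 ≤ Ideal.comap σ 𝔪 := fun x hx => hm x hx
        have h := Ideal.mem_map_of_mem σ ih
        rw [Ideal.map_pow] at h
        exact Ideal.pow_right_mono (Ideal.map_le_iff_le_comap.2 hle) 2 h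
    have hPm : P ∈ 𝔪 ^ 2 := Ideal.sum_mem _ fun j _ => Ideal.sum_mem _ fun i _ => hgi i
    have hS : ∑ j ∈ Finset.range n, σ^[j] g = 0 := by
      have : ∀ j, σ^[j] g = σ^[j] a - σ^[j + 1] a := fun j => by
        induction j with
        | zero => exact hg
        | succ j ih => rw [← hcomm, ih, map_sub, hcomm, hcomm]
      simp only [this]
      rw [Finset.sum_range_sub', hσ]
      simp
    have hkey : P - σ P = (n : A) * g := by
      have h1 : P - σ P = ∑ j ∈ Finset.range n, (g - σ^[j] g) := by
        simp only [P, map_sum, ← Finset.sum_sub_distrib, hcomm]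
        exact Finset.sum_congr rfl fun j _ => Finset.sum_range_sub' (fun i => σ^[i] g) j
      rw [h1, Finset.sum_sub_distrib, hS, sub_zero, Finset.sum_const, Finset.card_range, nsmul_eq_mul]
    have hu : IsUnit (n : A) := by
      rw [← map_natCast (algebraMap k A)]
      exact (isUnit_iff_ne_zero.2 hn).map _
    obtain ⟨u, hu'⟩ := hu.exists_left_inv
    have := Ideal.mul_mem_left (𝔪 * I) u (hsq P hPm)
    rwa [hkey, ← mul_assoc, hu', one_mul] at this
  -- choice of generators
  let cl : A → IsLocalRing.CotangentSpace A := fun g => if h : g ∈ 𝔪 then 𝔪.toCotangent ⟨g, h⟩ else 0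
  have hdiff : ∀ a : A, a - σ a ∈ 𝔪 := fun a => hmI (Ideal.subset_span ⟨a, rfl⟩)
  let D : A → IsLocalRing.CotangentSpace A := fun a => 𝔪.toCotangent ⟨a - σ a, hdiff a⟩
  obtain ⟨B, hB, hspan, hli⟩ := exists_linearIndependent (IsLocalRing.ResidueField A) (Set.range D)
  have : Finite B := hli.finite
  have : Fintype B := Fintype.ofFinite B
  let e := Fintype.equivFin B
  choose a ha using fun i : B => hB i.2
  let f : Fin (Fintype.card B) → 𝔪 := fun i => ⟨a (e.symm i) - σ (a (e.symm i)), hdiff _⟩
  have hf : ∀ i, 𝔪.toCotangent (f i) = ((e.symm i : B) : IsLocalRing.CotangentSpace A) := fun i => ha (e.symm i)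
  refine ⟨_, f, le_antisymm (Ideal.span_le.2 ?_) ?_, ?_⟩
  · rintro _ ⟨i, rfl⟩
    exact Ideal.subset_span ⟨_, rfl⟩
  · refine Submodule.le_of_le_smul_of_le_jacobson_bot (IsNoetherian.noetherian _) (IsLocalRing.jacobson_eq_maximalIdeal ⊥ bot_ne_top).ge ?_
    rw [smul_eq_mul]
    refine Ideal.span_le.2 ?_
    rintro _ ⟨z, rfl⟩
    have hz : D z ∈ Submodule.span (IsLocalRing.ResidueField A) (Set.range fun i => 𝔪.toCotangent (f i)) := by
      rw [show (Set.range fun i => 𝔪.toCotangent (f i)) = B by
        simp only [hf]; exact (e.symm.surjective.range_comp _).trans Subtype.range_coe, hspan]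
      exact Submodule.subset_span ⟨z, rfl⟩
    obtain ⟨c, hc⟩ := (Submodule.mem_span_range_iff_exists_fun _).1 hz
    choose c' hc' using fun i => hres (c i)
    let z' : A := z - ∑ i, algebraMap k A (c' i) * a (e.symm i)
    have hz' : z' - σ z' = (z - σ z) - ∑ i, algebraMap k A (c' i) * (f i : A) := by
      simp only [z', f, map_sub, map_sum, map_mul, AlgHom.commutes, mul_sub, Finset.sum_sub_distrib]
      abel
    have h2 : z' - σ z' ∈ 𝔪 ^ 2 := by
      have h3 : 𝔪.toCotangent ⟨z' - σ z', hdiff z'⟩ = 0 := by
        rw [show (⟨z' - σ z', hdiff z'⟩ : 𝔪) = ⟨z - σ z, hdiff z⟩ - ∑ i, algebraMap k A (c' i) • f i from Subtype.ext (by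
          simp [hz', Algebra.smul_def]), map_sub, map_sum]
        simp only [map_smul]
        rw [show 𝔪.toCotangent ⟨z - σ z, hdiff z⟩ = D z from rfl, ← hc, sub_eq_zero]
        refine Finset.sum_congr rfl fun i _ => ?_
        rw [← hc' i, IsScalarTower.algebraMap_apply k A (IsLocalRing.ResidueField A), algebraMap_smul]
      exact (Ideal.toCotangent_eq_zero 𝔪 _).1 h3
    refine Submodule.mem_sup.2 ⟨∑ i, algebraMap k A (c' i) * (f i : A), ?_, z' - σ z', hproj z' h2, by rw [hz']; ring⟩
    exact Submodule.sum_mem _ fun i _ => Ideal.mul_mem_left _ _ (Ideal.subset_span ⟨i, rfl⟩)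
  · rw [show (fun i => 𝔪.toCotangent (f i)) = (Subtype.val : B → IsLocalRing.CotangentSpace A) ∘ e.symm from funext hf]
    exact hli.comp _ e.symm.injective

end Groth.Agent.S18399
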