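import Groth.Statements.S1840
import Groth.Agent.CycDetLib.Equiv
import Mathlib.LinearAlgebra.ExteriorPower.Basis
import Mathlib.LinearAlgebra.FiniteDimensional.Basic

set_option autoImplicit false
universe u v
open CycDet

namespace Groth.Agent.S1840

/-- Let M be a finite-dimensional vector space over the residue field κ of a local ring R, viewed as an
R-module. There is a κ-linear isomorphism from det_κ(M) to the top exterior power of M sending the
symbol of an admissible tuple (e₁, …, e_l) to e₁ ∧ … ∧ e_l. -/
theorem result (R : Type u) [CommRing R] [IsLocalRing R] (M : Type v) [AddCommGroup M] [Module R M] [Module (IsLocalRing.ResidueField R) M] [IsScalarTower R (IsLocalRing.ResidueField R) M] [Module.Finite (IsLocalRing.ResidueField R) M] : ∃ Φ : CycDet.Det R M ≃ₗ[IsLocalRing.ResidueField R] (⋀[IsLocalRing.ResidueField R]^((Module.length R M).toNat) M), ∀ e : CycDet.Adm R M (Module.length R M).toNat, Φ (CycDet.symbol R M e) = exteriorPower.ιMulti (IsLocalRing.ResidueField R) ((Module.length R M).toNat) e.1 := by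
  classical
  let κ := IsLocalRing.ResidueField R
  set l := (Module.length R M).toNat with hldef
  have hlen : Module.length R M = (Module.finrank κ M : ℕ∞) := by
    rw [Module.length_eq_of_surjective (R := κ) (S := R) IsLocalRing.residue_surjective, Module.length_eq_finrank]
  have hfin : l = Module.finrank κ M := by rw [hldef, hlen, ENat.toNat_natCast]
  have hM : IsFiniteLength R M := Module.length_ne_top_iff.1 (by rw [hlen]; exact ENat.natCast_ne_top _)
  obtain ⟨F, hF⟩ := CycDetLib.exists_ref_toNat hM
  have hκ : ∀ r ∈ IsLocalRing.maximalIdeal R, ∀ x : M, r • x = 0 := fun r hr x => by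
    rw [← IsScalarTower.algebraMap_smul κ r x, show algebraMap R κ r = 0 from (IsLocalRing.residue_eq_zero_iff r).2 hr, zero_smul]
  have hadm : ∀ v : Fin l → M, CycDet.IsAdmissible R M v := fun v i r hr => by rw [hκ r hr]; exact zero_mem _
  let ι := exteriorPower.ιMulti κ l (M := M)
  have hspan : ∀ (v : Fin l → M) (i : ℕ) (x : M), x ∈ CycDet.spanBefore R M v i → x ∈ Submodule.span κ (v '' {j : Fin l | (j : ℕ) < i}) :=
    fun v i x hx => Submodule.span_subset_span R κ _ hx
  have hdep : ∀ (v : Fin l → M) (a : Fin l) (y : M), y ∈ CycDet.spanBefore R M v a → ι (Function.update v a y) = 0 := by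
    intro v a y hy
    have hy' := hspan v a y hy
    clear hy
    induction hy' using Submodule.span_induction with
    | mem z hz =>
      obtain ⟨j, hj, rfl⟩ := hz
      have hne : j ≠ a := fun h => by rw [h] at hj; exact lt_irrefl _ (Set.mem_setOf.1 hj)
      exact ι.map_eq_zero_of_eq _ (by rw [Function.update_self, Function.update_of_ne hne]) hne.symm
    | zero => exact ι.map_update_zero v a
    | add p q _ _ hp hq => rw [ι.map_update_add, hp, hq, add_zero]
    | smul c p _ hp => rw [ι.map_update_smul, hp, smul_zero]
  let Φ : CycDet.Det R M →ₗ[κ] ⋀[κ]^l M := Submodule.liftQ _ (Finsupp.linearCombination κ fun e : CycDet.Adm R M l => ι e.1) (by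
    rw [Submodule.span_le]
    rintro x ((⟨e, a, ha, rfl⟩ | ⟨e, e', a, c, he, ha, rfl⟩) | ⟨e, e', a, b, hab, hm, he, rfl⟩) <;>
      simp only [SetLike.mem_coe, LinearMap.mem_ker, CycDet.sym, map_sub, map_add, map_smul,
        Finsupp.linearCombination_single, one_smul]
    · have := hdep e.1 a _ ha
      rwa [Function.update_eq_self] at this
    · have h1 := hdep e.1 a _ ha
      have h2 : e'.1 = Function.update e.1 a (e'.1 a) := funext fun j => by
        by_cases hj : j = a
        · subst hj; rw [Function.update_self]
        · rw [Function.update_of_ne hj, he j hj]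
      rw [ι.map_update_sub, Function.update_eq_self, ← IsScalarTower.algebraMap_smul κ (c : R) (e'.1 a),
        ι.map_update_smul, ← h2] at h1
      exact h1
    · rw [he]
      exact eq_neg_iff_add_eq_zero.1 (by rw [ι.map_swap _ (fun h => by rw [h] at hab; omega), neg_neg]))
  have hΦ : ∀ e : CycDet.Adm R M l, Φ (CycDet.symbol R M e) = ι e.1 := fun e => by
    show Φ (Submodule.Quotient.mk (CycDet.sym R M e)) = _
    simp [Φ, CycDet.sym]
  have hsurj : Function.Surjective Φ := by
    rw [← LinearMap.range_eq_top, eq_top_iff, ← exteriorPower.ιMulti_span κ l M, Submodule.span_le]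
    rintro _ ⟨v, rfl⟩
    exact ⟨CycDet.symbol R M ⟨v, hadm v⟩, hΦ _⟩
  haveI : FiniteDimensional κ (CycDet.Det R M) := Module.Finite.equiv (CycDetLib.detEquiv F hF).symm
  have hrk : Module.finrank κ (CycDet.Det R M) = Module.finrank κ (⋀[κ]^l M) := by
    rw [exteriorPower.finrank_eq, ← hfin, Nat.choose_self, (CycDetLib.detEquiv F hF).finrank_eq, Module.finrank_self]
  exact ⟨LinearEquiv.ofBijective Φ ⟨(LinearMap.injective_iff_surjective_of_finrank_eq_finrank hrk).2 hsurj, hsurj⟩, hΦ⟩

end Groth.Agent.S1840
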