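import Groth.Statements.S18416
import Mathlib.RingTheory.Smooth.StandardSmoothOfFree

set_option autoImplicit false
set_option backward.isDefEq.respectTransparency false
set_option backward.isDefEq.respectTransparency.types false
set_option maxHeartbeats 1000000
universe u v w
open CAlg

namespace Groth.Agent.S18416

open KaehlerDifferential TensorProduct
/-- A quotient of a smooth algebra by elements whose differentials form a basis is étale. -/
theorem etale_quotient_of_basis {C : Type v} {P : Type w} [CommRing C] [CommRing P] [Algebra C P]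
    [Algebra.Smooth C P] {ι : Type*} [Fintype ι] (b : Module.Basis ι P Ω[P⁄C]) (g : ι → P)
    (hb : ∀ i, b i = D C P (g i)) : Algebra.Etale C (P ⧸ Ideal.span (Set.range g)) := by
  classical
  let I := Ideal.span (Set.range g)
  let T := P ⧸ I
  have hsurj : Function.Surjective (algebraMap P T) := Ideal.Quotient.mk_surjective
  have hker : RingHom.ker (algebraMap P T) = I := Ideal.mk_ker
  let J := RingHom.ker (algebraMap P T)
  let gI : ι → J := fun j => ⟨g j, hker.ge (Ideal.subset_span ⟨j, rfl⟩)⟩
  let one : ι → T →ₗ[P] J.Cotangent := fun j =>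
    Submodule.liftQ I (LinearMap.toSpanSingleton P _ (J.toCotangent (gI j))) fun z hz => by
      rw [LinearMap.mem_ker, LinearMap.toSpanSingleton_apply, ← map_smul, Ideal.toCotangent_eq_zero, pow_two]
      exact Ideal.mul_mem_mul (hker.ge hz) (gI j).2
  let Ψ : (ι → T) →ₗ[P] J.Cotangent := ∑ j, (one j).comp (LinearMap.proj j)
  have hΨ : ∀ c : ι → P, Ψ (fun j => Ideal.Quotient.mk I (c j)) = J.toCotangent (∑ j, c j • gI j) := fun c => by
    simp only [Ψ, LinearMap.sum_apply, map_sum, map_smul]
    exact Finset.sum_congr rfl fun j _ => rfl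
  have hΨs : Function.Surjective Ψ := fun z => by
    obtain ⟨⟨y, hy⟩, rfl⟩ := J.toCotangent_surjective z
    obtain ⟨c, hc⟩ := (Ideal.mem_span_range_iff_exists_fun).1 (hker.le hy)
    refine ⟨fun j => Ideal.Quotient.mk I (c j), (hΨ c).trans (congrArg _ (Subtype.ext ?_))⟩
    simpa [gI] using hc
  let θ := kerCotangentToTensor C P T
  let E := (b.baseChange T).equivFun
  have hθ : ∀ c : ι → T, θ (Ψ c) = E.symm c := fun c => by
    choose c' hc' using fun j => Ideal.Quotient.mk_surjective (c j)
    obtain rfl : (fun j => Ideal.Quotient.mk I (c' j)) = c := funext hc'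
    rw [hΨ, KaehlerDifferential.kerCotangentToTensor_toCotangent, Module.Basis.equivFun_symm_apply]
    simp only [gI, AddSubmonoidClass.coe_finset_sum, SetLike.val_smul, smul_eq_mul, map_sum,
      TensorProduct.tmul_sum, Module.Basis.baseChange_apply, hb]
    refine Finset.sum_congr rfl fun j _ => ?_
    have hg : (g j • (1 : T)) = 0 := by
      rw [Algebra.smul_def, mul_one]
      exact Ideal.Quotient.eq_zero_iff_mem.2 (Ideal.subset_span ⟨j, rfl⟩)
    rw [Derivation.leibniz, TensorProduct.tmul_add, TensorProduct.tmul_smul, TensorProduct.tmul_smul,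
      TensorProduct.smul_tmul' (g j), hg, TensorProduct.zero_tmul, add_zero,
      ← algebraMap_smul T (c' j) ((1 : T) ⊗ₜ[P] D C P (g j))]
    rfl
  haveI : Algebra.FormallySmooth C T := by
    refine (Algebra.FormallySmooth.iff_split_injection hsurj).2
      ⟨Ψ ∘ₗ (E.toLinearMap.restrictScalars P), LinearMap.ext fun z => ?_⟩
    obtain ⟨c, rfl⟩ := hΨs z
    show Ψ (E (θ (Ψ c))) = Ψ c
    rw [hθ, E.apply_symm_apply]
  haveI : Algebra.FormallyUnramified C T := ⟨subsingleton_of_forall_eq 0 fun z => by
    obtain ⟨y, rfl⟩ := KaehlerDifferential.mapBaseChange_surjective C P T hsurj z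
    exact (KaehlerDifferential.exact_kerCotangentToTensor_mapBaseChange C P T hsurj y).2
      ⟨Ψ (E y), (hθ _).trans (E.symm_apply_apply y)⟩⟩
  exact { formallyEtale := Algebra.FormallyEtale.of_formallyUnramified_and_formallySmooth
          finitePresentation := Algebra.FinitePresentation.quotient
            (Submodule.fg_span (Set.finite_range g)) }

/-- Near a prime, some elements of `J` have differentials forming a basis, if `C → B ⧸ J` is surjective. -/
theorem exists_basis_away {C : Type v} {B : Type w} [CommRing C] [CommRing B] [Algebra C B]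
    [Algebra.Smooth C B] (J : Ideal B)
    (hsurj : Function.Surjective ((Ideal.Quotient.mk J).comp (algebraMap C B)))
    (q : Ideal B) [q.IsPrime] :
    ∃ g, g ∉ q ∧ ∃ (κ : Type w) (_ : Fintype κ) (a : κ → J)
      (b : Module.Basis κ (Localization.Away g) Ω[Localization.Away g⁄C]),
      ∀ i, b i = D C (Localization.Away g) (algebraMap B (Localization.Away g) (a i)) := by
  haveI : Algebra.IsSmoothAt C q := inferInstance
  have hspan : Submodule.span (Localization.AtPrime q) (Set.range fun j : J =>
      map C C B (Localization.AtPrime q) (D C B (j : B))) = ⊤ := by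
    rw [← top_le_iff, ← span_range_map_derivation_of_isLocalization C B (Localization.AtPrime q) q.primeCompl]
    refine Submodule.span_mono ?_
    rintro _ ⟨y, rfl⟩
    obtain ⟨c, hc⟩ := hsurj (Ideal.Quotient.mk J y)
    refine ⟨⟨y - algebraMap C B c, Ideal.Quotient.eq.1 hc.symm⟩, ?_⟩
    simp [Derivation.map_algebraMap]
  obtain ⟨κ, a, b, hb⟩ := Module.exists_basis_of_span_of_flat _ hspan
  let e : (κ →₀ B) →ₗ[B] Ω[B⁄C] := Finsupp.linearCombination B fun i : κ ↦ D C B (a i : B)
  let l₁ : (κ →₀ B) →ₗ[B] (κ →₀ Localization.AtPrime q) :=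
    Finsupp.mapRange.linearMap (Algebra.linearMap B (Localization.AtPrime q))
  let l₂ : Ω[B⁄C] →ₗ[B] Ω[Localization.AtPrime q⁄C] := map C C B (Localization.AtPrime q)
  let eₚ : (κ →₀ Localization.AtPrime q) →ₗ[Localization.AtPrime q] Ω[Localization.AtPrime q⁄C] :=
    IsLocalizedModule.mapExtendScalars q.primeCompl l₁ l₂ (Localization.AtPrime q) e
  have : eₚ = b.repr.symm := by
    ext i
    trans IsLocalizedModule.map q.primeCompl l₁ l₂ e <| l₁ <| Finsupp.single i 1
    · simp [eₚ, -IsLocalizedModule.map_apply, l₁]
    · simp [l₂, e, hb]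
  have heₚ : Function.Bijective eₚ := this ▸ b.repr.symm.bijective
  have : Finite κ := Module.Finite.finite_basis b
  obtain ⟨g, hg, h⟩ := Module.FinitePresentation.exists_notMem_bijective e q l₁ l₂ heₚ
  let l₁ₜ : (κ →₀ B) →ₗ[B] (κ →₀ Localization.Away g) :=
    Finsupp.mapRange.linearMap (Algebra.linearMap B _)
  let l₂ₜ : Ω[B⁄C] →ₗ[B] Ω[Localization.Away g⁄C] := map C C B (Localization.Away g)
  rw [← IsLocalizedModule.map_bijective_iff_localizedModuleMap_bijective l₁ₜ l₂ₜ] at h
  let eₜ' : (κ →₀ Localization.Away g) →ₗ[Localization.Away g] Ω[Localization.Away g⁄C] :=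
    IsLocalizedModule.mapExtendScalars (Submonoid.powers g) l₁ₜ l₂ₜ (Localization.Away g) e
  refine ⟨g, hg, κ, Fintype.ofFinite κ, a, .ofRepr (LinearEquiv.ofBijective eₜ' h).symm, fun i => ?_⟩
  simp +zetaDelta [IsLocalizedModule.map_linearCombination]

/-- Let R → C and C → B be smooth ring homomorphisms, J an ideal of B and K the preimage of J in C, and
suppose that C surjects onto A = B/J (so that C/K = B/J = A). Then for every prime x of A there
exist f ∈ B whose image in A does not lie in x and an ideal J₀ of B_f contained in J B_f such that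
the composite C → B_f → B_f/J₀ is étale. -/
theorem result (R : Type u) (C : Type v) (B : Type w)
    [CommRing R] [CommRing C] [CommRing B] [Algebra R C] [Algebra C B] [Algebra R B] [IsScalarTower R C B]
    [Algebra.Smooth R C] [Algebra.Smooth C B] (J : Ideal B)
    (hsurj : Function.Surjective ((Ideal.Quotient.mk J).comp (algebraMap C B)))
    (x : PrimeSpectrum (B ⧸ J)) :
    ∃ f : B, Ideal.Quotient.mk J f ∉ x.asIdeal ∧
      ∃ J₀ : Ideal (Localization.Away f), J₀ ≤ J.map (algebraMap B (Localization.Away f)) ∧
        ((Ideal.Quotient.mk J₀).comp ((algebraMap B (Localization.Away f)).comp (algebraMap C B))).Etale := by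
  let q : Ideal B := x.asIdeal.comap (Ideal.Quotient.mk J)
  obtain ⟨g, hg, κ, _, a, b, hb⟩ := exists_basis_away J hsurj q
  haveI : Algebra.Smooth B (Localization.Away g) := Algebra.Smooth.of_isLocalization_Away g
  haveI : Algebra.Smooth C (Localization.Away g) := Algebra.Smooth.comp C B (Localization.Away g)
  have := etale_quotient_of_basis b (fun i => algebraMap B (Localization.Away g) (a i)) hb
  refine ⟨g, hg, Ideal.span (Set.range fun i => algebraMap B (Localization.Away g) (a i)), ?_, ?_⟩
  · rw [Ideal.span_le]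
    rintro _ ⟨i, rfl⟩
    exact Ideal.mem_map_of_mem _ (a i).2
  · rw [← IsScalarTower.algebraMap_eq]
    exact RingHom.etale_algebraMap.mpr this

end Groth.Agent.S18416
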