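import Groth.Statements.S18417
import Groth.Agent.QReg16Lib.Basic
import Mathlib

set_option autoImplicit false
set_option backward.isDefEq.respectTransparency false
set_option backward.isDefEq.respectTransparency.types false
set_option maxHeartbeats 1000000
universe u v
open CAlg

namespace Groth.Agent.S18417

open MvPolynomial Groth.Agent
/-- A weakly regular sequence is quasi-regular (coefficientwise form). -/
theorem qr_of_isWeaklyRegular {A : Type v} [CommRing A] {d : ℕ} (x : Fin d → A)
    (hx : RingTheory.Sequence.IsWeaklyRegular A (List.ofFn x)) : QReg16Lib.QR x := by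
  have hq := QReg16Lib.qr_of_nr' _ (QReg16Lib.nr'_of_nr x ((FVLib.nr_iff x).mpr hx))
  have hspan : Ideal.span (Set.range fun i => x (Fin.rev i)) = Ideal.span (Set.range x) :=
    congrArg Ideal.span ((Fin.rev_surjective (n := d)).range_comp x)
  intro n F hF he s
  have h1 := hq n (rename Fin.rev F) hF.rename_isHomogeneous (by
    rw [eval_rename, hspan]
    have : (fun i => x (Fin.rev i)) ∘ Fin.rev = x := funext fun i => congrArg x (Fin.rev_rev i)
    rwa [this]) (s.mapDomain Fin.rev)
  rwa [coeff_rename_mapDomain _ Fin.rev_injective, hspan] at h1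

variable {R : Type u} {A : Type v} [CommRing R] [CommRing A] [Algebra R A] {d : ℕ} (x : Fin d → A) (I : Ideal A)
  (s : A ⧸ Ideal.span (Set.range x) →ₐ[R] A ⧸ I)

/-- The map given by a section and the sequence. -/
def phi : MvPolynomial (Fin d) (A ⧸ Ideal.span (Set.range x)) →ₐ[R] A ⧸ I :=
  aevalTower s fun i => Ideal.Quotient.mk I (x i)

/-- The image of `(x)`. -/
abbrev Jb : Ideal (A ⧸ I) := (Ideal.span (Set.range x)).map (Ideal.Quotient.mk I)

variable (hs : ∀ a, s (Ideal.Quotient.mk _ a) - Ideal.Quotient.mk I a ∈ Jb x I)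

theorem phi_monomial (t : Fin d →₀ ℕ) (b : A ⧸ Ideal.span (Set.range x)) :
    phi x I s (monomial t b) = s b * Ideal.Quotient.mk I (∏ i, x i ^ t i) := by
  rw [phi, monomial_eq, map_mul, aevalTower_C, Finsupp.prod_fintype _ _ (by simp), map_prod, map_prod]
  simp

include hs in
theorem phi_map_sub_mem {n : ℕ} {G : MvPolynomial (Fin d) A} (hG : G.IsHomogeneous n) :
    phi x I s (MvPolynomial.map (Ideal.Quotient.mk _) G) - Ideal.Quotient.mk I (eval x G) ∈ Jb x I ^ (n + 1) := by
  classical
  rw [G.as_sum]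
  simp only [map_sum, ← Finset.sum_sub_distrib]
  refine Submodule.sum_mem _ fun t ht => ?_
  rw [MvPolynomial.map_monomial, phi_monomial, eval_monomial, Finsupp.prod_fintype _ _ (by simp), map_mul,
    ← sub_mul, pow_succ']
  refine Ideal.mul_mem_mul (hs _) ?_
  rw [← Ideal.map_pow]
  refine Ideal.mem_map_of_mem _ ?_
  have hn : t.degree = n := by
    rw [← hG (mem_support_iff.mp ht), Finsupp.degree_eq_weight_one]; rfl
  rw [← hn, Finsupp.degree_eq_sum]
  rw [← Finset.prod_pow_eq_pow_sum]
  exact Ideal.prod_mem_prod fun i _ => Ideal.pow_mem_pow (Ideal.subset_span (Set.mem_range_self i)) _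

theorem phi_mem_pow {n : ℕ} {F : MvPolynomial (Fin d) (A ⧸ Ideal.span (Set.range x))}
    (hF : F ∈ idealOfVars (Fin d) (A ⧸ Ideal.span (Set.range x)) ^ n) : phi x I s F ∈ Jb x I ^ n := by
  have h : (idealOfVars (Fin d) (A ⧸ Ideal.span (Set.range x))).map (phi x I s) ≤ Jb x I := by
    rw [Ideal.map_span, Ideal.span_le]
    rintro _ ⟨_, ⟨i, rfl⟩, rfl⟩
    rw [phi, aevalTower_X]
    exact Ideal.mem_map_of_mem _ (Ideal.subset_span (Set.mem_range_self i))
  exact Ideal.pow_right_mono h n (Ideal.map_pow (phi x I s) _ n ▸ Ideal.mem_map_of_mem _ hF)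

variable {N : ℕ} (hI : I = Ideal.span (Set.range x) ^ N)

include hs hI in
theorem phi_surjective : Function.Surjective (phi x I s) := by
  suffices key : ∀ n y, ∃ F, y - phi x I s F ∈ Jb x I ^ n by
    intro y
    obtain ⟨F, hF⟩ := key N y
    have : Jb x I ^ N = ⊥ := by rw [← Ideal.map_pow, ← hI, Ideal.map_quotient_self]
    rw [this, Ideal.mem_bot, sub_eq_zero] at hF
    exact ⟨F, hF.symm⟩
  intro n
  induction n with
  | zero => exact fun y => ⟨0, by simp⟩
  | succ n ih =>
    intro y
    obtain ⟨F, hF⟩ := ih y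
    rw [← Ideal.map_pow] at hF
    obtain ⟨a, ha, ha'⟩ := (Ideal.mem_map_iff_of_surjective _ Ideal.Quotient.mk_surjective).mp hF
    obtain ⟨G, hG, rfl⟩ := CommAlgDim.exists_isHomogeneous_eval_eq x n ha
    refine ⟨F + MvPolynomial.map (Ideal.Quotient.mk _) G, ?_⟩
    rw [map_add, ← sub_sub, ← ha']
    exact sub_mem_comm_iff.mp (phi_map_sub_mem x I s hs hG)

include hs hI in
theorem ker_phi (hq : QReg16Lib.QR x) :
    RingHom.ker (phi x I s) = idealOfVars (Fin d) (A ⧸ Ideal.span (Set.range x)) ^ N := by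
  classical
  refine le_antisymm (fun F hF => ?_) fun F hF => ?_
  swap
  · have := phi_mem_pow x I s hF
    rwa [← Ideal.map_pow, ← hI, Ideal.map_quotient_self] at this
  suffices key : ∀ n, n ≤ N → F ∈ idealOfVars (Fin d) (A ⧸ Ideal.span (Set.range x)) ^ n from key N le_rfl
  intro n
  induction n with
  | zero => intro _; simp
  | succ n ih =>
    intro hn
    have hFn := ih (Nat.le_of_succ_le hn)
    rw [mem_pow_idealOfVars_iff'] at hFn ⊢
    let H := homogeneousComponent n F
    have hH : H.IsHomogeneous n := homogeneousComponent_isHomogeneous _ _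
    have hrest : F - H ∈ idealOfVars (Fin d) (A ⧸ Ideal.span (Set.range x)) ^ (n + 1) := by
      rw [mem_pow_idealOfVars_iff']
      intro t ht
      rw [coeff_sub, coeff_homogeneousComponent]
      split_ifs with h
      · exact sub_self _
      · rw [hFn t (by omega), sub_zero]
    have hphiH : phi x I s H ∈ Jb x I ^ (n + 1) := by
      have h2 := phi_mem_pow x I s hrest
      rw [map_sub, RingHom.mem_ker.mp hF, zero_sub] at h2
      exact neg_mem_iff.mp h2
    let G : MvPolynomial (Fin d) A :=
      ∑ t ∈ H.support, monomial t (Function.surjInv Ideal.Quotient.mk_surjective (H.coeff t))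
    have hG : G.IsHomogeneous n := IsHomogeneous.sum _ _ _ fun t ht => isHomogeneous_monomial _ (by
      rw [Finsupp.degree_eq_weight_one]; exact hH (mem_support_iff.mp ht))
    have hGH : MvPolynomial.map (Ideal.Quotient.mk (Ideal.span (Set.range x))) G = H := by
      simp only [G, map_sum, map_monomial, Function.surjInv_eq]
      exact H.as_sum.symm
    have h2 : Ideal.Quotient.mk I (eval x G) ∈ Jb x I ^ (n + 1) := by
      have := sub_mem hphiH (hGH ▸ phi_map_sub_mem x I s hs hG)
      rwa [sub_sub_cancel] at this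
    rw [← Ideal.map_pow, Ideal.mem_map_iff_of_surjective _ Ideal.Quotient.mk_surjective] at h2
    obtain ⟨a, ha, ha'⟩ := h2
    have h3 : eval x G ∈ Ideal.span (Set.range x) ^ (n + 1) := by
      rw [Ideal.Quotient.eq, hI] at ha'
      have := Ideal.pow_le_pow_right hn ha'
      simpa using sub_mem ha this
    intro t ht
    rcases Nat.lt_succ_iff_lt_or_eq.mp ht with ht | ht
    · exact hFn t ht
    · have h4 : H.coeff t = F.coeff t := by rw [coeff_homogeneousComponent, if_pos ht]
      rw [← h4, ← hGH, coeff_map, Ideal.Quotient.eq_zero_iff_mem]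
      exact hq n G hG h3 t

include hs hI in
theorem exists_equiv (hN : 1 ≤ N) (hq : QReg16Lib.QR x) :
    ∃ e : (A ⧸ I) ≃ₐ[R] MvPolynomial (Fin d) (A ⧸ Ideal.span (Set.range x)) ⧸
        idealOfVars (Fin d) (A ⧸ Ideal.span (Set.range x)) ^ N,
      (∀ i, e (Ideal.Quotient.mk _ (x i)) = Ideal.Quotient.mk _ (X i)) ∧
      ∀ a : A, e (Ideal.Quotient.mk _ a) - Ideal.Quotient.mk _ (C (Ideal.Quotient.mk _ a)) ∈
        (idealOfVars (Fin d) (A ⧸ Ideal.span (Set.range x))).map (Ideal.Quotient.mk _) := by
  let e₀ := (Ideal.quotientEquivAlgOfEq R (ker_phi x I s hs hI hq).symm).trans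
    (Ideal.quotientKerAlgEquivOfSurjective (phi_surjective x I s hs hI))
  have he : ∀ F, e₀ (Ideal.Quotient.mk _ F) = phi x I s F := fun F => rfl
  refine ⟨e₀.symm, fun i => ?_, fun a => ?_⟩
  · rw [AlgEquiv.symm_apply_eq, he, phi, aevalTower_X]
  · obtain ⟨F, hF⟩ := Ideal.Quotient.mk_surjective (e₀.symm (Ideal.Quotient.mk _ a))
    have h1 : phi x I s F = Ideal.Quotient.mk I a := by rw [← he, hF, e₀.apply_symm_apply]
    rw [← hF, ← map_sub]
    refine Ideal.mem_map_of_mem _ ?_
    let θ : A ⧸ I →+* A ⧸ Ideal.span (Set.range x) :=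
      Ideal.Quotient.factor (hI ▸ Ideal.pow_le_self (by omega))
    have hθs : ∀ b, θ (s b) = b := fun b => by
      obtain ⟨b, rfl⟩ := Ideal.Quotient.mk_surjective b
      have h2 : Jb x I ≤ RingHom.ker θ := Ideal.map_le_iff_le_comap.mpr fun y hy => by
        simpa [θ, Ideal.Quotient.eq_zero_iff_mem] using hy
      have h3 := h2 (hs b)
      rw [RingHom.mem_ker, map_sub, sub_eq_zero] at h3
      rw [h3]
      rfl
    have h4 : θ.comp (phi x I s).toRingHom = constantCoeff := by
      refine ringHom_ext (fun b => ?_) fun i => ?_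
      · show θ (phi x I s (C b)) = _
        rw [phi, aevalTower_C, constantCoeff_C]
        exact hθs b
      · show θ (phi x I s (X i)) = _
        rw [phi, aevalTower_X, constantCoeff_X]
        exact Ideal.Quotient.eq_zero_iff_mem.mpr (Ideal.subset_span (Set.mem_range_self i))
    have h5 : constantCoeff F = Ideal.Quotient.mk _ a := by
      rw [← RingHom.congr_fun h4 F]
      show θ (phi x I s F) = _
      rw [h1]; rfl
    rw [← pow_one (idealOfVars _ _), mem_pow_idealOfVars_iff']
    intro t ht
    obtain rfl : t = 0 := (Finsupp.degree_eq_zero_iff t).mp (by omega)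
    rw [coeff_sub, coeff_C, if_pos rfl, ← constantCoeff_eq, h5, sub_self]

/-- Let R → A be a ring homomorphism and x_1, …, x_d a weakly regular sequence in A generating an ideal
J such that B = A/J is formally smooth over R. Then for every N ≥ 1 there is an isomorphism of
R-algebras e : A/J^N ≅ B[T_1, …, T_d]/(T_1, …, T_d)^N which sends the class of x_i to the class of
T_i and which is compatible with the projections to B: for every a ∈ A, e(a mod J^N) is congruent to
the constant a mod J modulo the ideal generated by the variables. (The source also assumes R → A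
smooth, which its argument does not use, and a regular sequence; weak regularity is what the
argument uses.) -/
theorem result
    (R : Type u) (A : Type v) [CommRing R] [CommRing A] [Algebra R A] (d : ℕ) (x : Fin d → A)
    (hreg : RingTheory.Sequence.IsWeaklyRegular A (List.ofFn x))
    [Algebra.FormallySmooth R (A ⧸ Ideal.span (Set.range x))] (N : ℕ) (hN : 1 ≤ N) :
    ∃ e : (A ⧸ Ideal.span (Set.range x) ^ N) ≃ₐ[R]
        (MvPolynomial (Fin d) (A ⧸ Ideal.span (Set.range x)) ⧸
          Ideal.span (Set.range (MvPolynomial.X : Fin d → MvPolynomial (Fin d) (A ⧸ Ideal.span (Set.range x)))) ^ N),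
      (∀ i : Fin d, e (Ideal.Quotient.mk _ (x i)) = Ideal.Quotient.mk _ (MvPolynomial.X i)) ∧
      ∀ a : A, e (Ideal.Quotient.mk _ a) - Ideal.Quotient.mk _ (MvPolynomial.C (Ideal.Quotient.mk _ a)) ∈
        (Ideal.span (Set.range (MvPolynomial.X : Fin d → MvPolynomial (Fin d) (A ⧸ Ideal.span (Set.range x))))).map
          (Ideal.Quotient.mk _) := by
  let J := Ideal.span (Set.range x)
  let π : A ⧸ J ^ N →ₐ[R] A ⧸ J := Ideal.Quotient.factorₐ R (Ideal.pow_le_self (Nat.one_le_iff_ne_zero.mp hN) : J ^ N ≤ J)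
  have hπ : Function.Surjective π := Ideal.Quotient.factor_surjective (Ideal.pow_le_self (Nat.one_le_iff_ne_zero.mp hN) : J ^ N ≤ J)
  have hker : RingHom.ker (π : A ⧸ J ^ N →+* A ⧸ J) = J.map (Ideal.Quotient.mk (J ^ N)) :=
    Ideal.Quotient.factor_ker (Ideal.pow_le_self (Nat.one_le_iff_ne_zero.mp hN) : J ^ N ≤ J)
  have hnil : IsNilpotent (RingHom.ker (π : A ⧸ J ^ N →+* A ⧸ J)) :=
    ⟨N, by rw [hker, ← Ideal.map_pow, Ideal.map_quotient_self]; rfl⟩
  let s := Algebra.FormallySmooth.liftOfSurjective (AlgHom.id R (A ⧸ J)) π hπ hnil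
  have hs : ∀ a, s (Ideal.Quotient.mk _ a) - Ideal.Quotient.mk (J ^ N) a ∈ Jb x (J ^ N) := fun a => by
    show _ ∈ J.map (Ideal.Quotient.mk (J ^ N))
    rw [← hker, RingHom.mem_ker, map_sub, sub_eq_zero]
    exact (Algebra.FormallySmooth.liftOfSurjective_apply _ _ hπ hnil _).trans rfl
  exact exists_equiv x (J ^ N) s hs rfl hN (qr_of_isWeaklyRegular x hreg)

end Groth.Agent.S18417
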