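import Groth.Statements.S18418
import Mathlib.RingTheory.WittVector.DiscreteValuationRing
import Mathlib.Algebra.Module.PID
import Mathlib.RingTheory.Length
import Mathlib.RingTheory.Nakayama
import Mathlib.Data.ENat.BigOperators

set_option autoImplicit false
universe u v
open FonLaf

namespace Groth.Agent.S18418

section
variable {R : Type*} [CommRing R] {σ : R →+* R}

theorem length_eq_of_semilinear [RingHomSurjective σ] {M M' : Type*} [AddCommGroup M] [AddCommGroup M']
    [Module R M] [Module R M'] (f : M →ₛₗ[σ] M') (hf : Function.Bijective f) :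
    Module.length R M = Module.length R M' := by
  apply WithBot.coe_injective
  rw [Module.coe_length, Module.coe_length]
  exact Order.krullDim_eq_of_orderIso (Submodule.orderIsoMapComapOfBijective f hf)

/-- The length count. -/
theorem length_key [RingHomSurjective σ] {L T M : Type*} [AddCommGroup L] [AddCommGroup T] [AddCommGroup M]
    [Module R L] [Module R T] [Module R M] (f : L →ₗ[R] T) (g : T →ₛₗ[σ] M) (hg : Function.Surjective g)
    (hle : LinearMap.ker g ≤ LinearMap.range f) (hL : Module.length R L ≠ ⊤) (hM : Module.length R M ≠ ⊤)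
    (h : Module.length R T = Module.length R L + Module.length R M) : Function.Injective f := by
  have h1 : Module.length R (T ⧸ LinearMap.ker g) = Module.length R M :=
    length_eq_of_semilinear ((LinearMap.ker g).liftQ g le_rfl)
      ⟨LinearMap.ker_eq_bot.1 (Submodule.ker_liftQ_eq_bot _ _ _ le_rfl),
        fun m => (hg m).elim fun t ht => ⟨Submodule.Quotient.mk t, ht⟩⟩
  have h2 : Module.length R T = Module.length R (LinearMap.ker g) + Module.length R (T ⧸ LinearMap.ker g) :=
    Module.length_eq_add_of_exact (LinearMap.ker g).subtype (LinearMap.ker g).mkQ (Submodule.injective_subtype _)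
      (Submodule.mkQ_surjective _) (LinearMap.exact_subtype_mkQ _)
  rw [h1, h] at h2
  have h3 : Module.length R L = Module.length R (LinearMap.ker g) := WithTop.add_right_cancel hM h2
  have h4 : Module.length R L = Module.length R (LinearMap.ker f) + Module.length R (LinearMap.range f) :=
    Module.length_eq_add_of_exact (LinearMap.ker f).subtype f.rangeRestrict (Submodule.injective_subtype _)
      f.surjective_rangeRestrict fun x => by simp [Subtype.ext_iff]
  have h5 : Module.length R (LinearMap.ker g) ≤ Module.length R (LinearMap.range f) :=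
    Module.length_le_of_injective (Submodule.inclusion hle) (Submodule.inclusion_injective hle)
  rw [← h3] at h5
  have h6 : Module.length R (LinearMap.ker f) + Module.length R L ≤ 0 + Module.length R L := by
    rw [zero_add]
    exact (add_le_add le_rfl h5).trans h4.ge
  have h7 : Module.length R (LinearMap.ker f) = 0 :=
    le_antisymm (WithTop.le_of_add_le_add_right hL h6) bot_le
  rw [Module.length_eq_zero_iff] at h7
  rw [← LinearMap.ker_eq_bot, Submodule.eq_bot_iff]
  exact fun x hx => congrArg Subtype.val (Subsingleton.elim (⟨x, hx⟩ : LinearMap.ker f) 0)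

end

section
variable {R : Type*} [CommRing R] {r : ℕ} (N : ℕ → Type*) [∀ i, AddCommGroup (N i)] [∀ i, Module R (N i)]

/-- Extension by zero. -/
def ext₁ (i : ℕ) : (∀ j : Fin r, N (j + 1)) →ₗ[R] N (i + 1) :=
  if h : i < r then LinearMap.proj (φ := fun j : Fin r => N (j + 1)) ⟨i, h⟩ else 0

variable (α : ∀ i, N (i + 1) →ₗ[R] N i) (π : R)

/-- The map `ι`, componentwise. -/
def comp₁ : ∀ j, (∀ j : Fin r, N (j + 1)) →ₗ[R] N j
  | 0 => α 0 ∘ₗ ext₁ N 0
  | j + 1 => α (j + 1) ∘ₗ ext₁ N (j + 1) - π • ext₁ N j

variable {N}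

theorem ext₁_apply (z : ∀ j : Fin r, N (j + 1)) {i : ℕ} (h : i < r) : ext₁ (R := R) N i z = z ⟨i, h⟩ := by
  simp only [ext₁, dif_pos h, LinearMap.proj_apply]

theorem ext₁_eq_zero (z : ∀ j : Fin r, N (j + 1)) {i : ℕ} (h : r ≤ i) : ext₁ (R := R) N i z = 0 := by
  simp only [ext₁, dif_neg (not_lt.2 h), LinearMap.zero_apply]

end

/-- Let k be a perfect field of characteristic p and W = W(k) its ring of Witt vectors with Frobenius σ.
Fix r and W-modules of finite length N_0 = M, N_1, N_2, … with W-linear maps α_i : N_{i+1} → N_i and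
σ-semilinear maps φ_i : N_i → M such that φ_i ∘ α_i = p φ_{i+1} for all i < r. Let ι be the map
sending (x_1, …, x_r) ∈ N_1 ⊕ ⋯ ⊕ N_r to (α_0 x_1, α_1 x_2 − p x_1, …, α_{r−1} x_r − p x_{r−1}, −p
x_r) ∈ N_0 ⊕ ⋯ ⊕ N_r, and Φ the map N_0 ⊕ ⋯ ⊕ N_r → M, (y_i) ↦ Σ_i φ_i(y_i). Suppose that Φ is
surjective and that its kernel is contained in the image of ι (with the displayed relation this says
that Φ induces a σ-semilinear bijection from the cokernel of ι onto M). Then for every i < r the map
α_i is injective and its image is a direct summand of N_i (so the N_i form a filtration of M by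
direct summands, the data of a Fontaine–Laffaille module). Families are indexed by all natural
numbers; only the indices ≤ r enter. -/
theorem result (p : ℕ) [Fact p.Prime]
    (k : Type u) [Field k] [CharP k p] [PerfectRing k p] (r : ℕ)
    (N : ℕ → Type v) [∀ i, AddCommGroup (N i)] [∀ i, Module (WittVector p k) (N i)]
    (hfl : ∀ i, IsFiniteLength (WittVector p k) (N i))
    (α : ∀ i, N (i + 1) →ₗ[WittVector p k] N i)
    (φ : ∀ i, N i →ₛₗ[(WittVector.frobenius : WittVector p k →+* WittVector p k)] N 0)
    (hφ : ∀ i, i < r → ∀ y : N (i + 1), φ i (α i y) = (p : WittVector p k) • φ (i + 1) y)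
    (hsurj : ∀ m : N 0, ∃ y : (i : ℕ) → N i, (∀ i, r < i → y i = 0) ∧
      (Finset.range (r + 1)).sum (fun i => φ i (y i)) = m)
    (hker : ∀ y : (i : ℕ) → N i, (∀ i, r < i → y i = 0) →
      (Finset.range (r + 1)).sum (fun i => φ i (y i)) = 0 →
        ∃ z : (i : ℕ) → N (i + 1), (∀ i, r ≤ i → z i = 0) ∧
          y 0 = α 0 (z 0) ∧ ∀ i, y (i + 1) = α (i + 1) (z (i + 1)) - (p : WittVector p k) • z i)
    (i : ℕ) (hi : i < r) :
    Function.Injective (α i) ∧
      ∃ Q : Submodule (WittVector p k) (N i), IsCompl (LinearMap.range (α i)) Q := by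
  classical
  have hσs : Function.Surjective (WittVector.frobenius : WittVector p k →+* WittVector p k) :=
    (WittVector.frobenius_bijective p k).2
  haveI : RingHomSurjective (WittVector.frobenius : WittVector p k →+* WittVector p k) := ⟨hσs⟩
  haveI hN : ∀ i, IsNoetherian (WittVector p k) (N i) := fun i =>
    (isFiniteLength_iff_isNoetherian_isArtinian.1 (hfl i)).1
  haveI hA : ∀ i, IsArtinian (WittVector p k) (N i) := fun i =>
    (isFiniteLength_iff_isNoetherian_isArtinian.1 (hfl i)).2
  let L := ∀ j : Fin r, N (j + 1)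
  let T := ∀ j : Fin (r + 1), N j
  let ι : L →ₗ[WittVector p k] T := LinearMap.pi fun j => comp₁ N α (p : WittVector p k) j
  let Φ : T →ₛₗ[(WittVector.frobenius : WittVector p k →+* WittVector p k)] N 0 :=
    { toFun := fun y => ∑ j : Fin (r + 1), φ j (y j)
      map_add' := fun a b => by
        change ∑ j : Fin (r + 1), φ j (a j + b j) = _
        simp [Finset.sum_add_distrib]
      map_smul' := fun c a => by
        change ∑ j : Fin (r + 1), φ j (c • a j) = _
        simp [Finset.smul_sum] }
  have hΦr : ∀ (y : ∀ i, N i), Φ (fun j => y j) = (Finset.range (r + 1)).sum (fun i => φ i (y i)) := fun y =>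
    (Finset.sum_range (fun i => φ i (y i))).symm
  have hΦ : Function.Surjective Φ := fun m => by
    obtain ⟨y, -, hy⟩ := hsurj m
    exact ⟨fun j => y j, (hΦr y).trans hy⟩
  have hkerΦ : ∀ y, Φ y = 0 → ∃ z, ι z = y := by
    intro y hy
    let y' : ∀ i, N i := fun i => if h : i < r + 1 then y ⟨i, h⟩ else 0
    have hy' : (fun j : Fin (r + 1) => y' j) = y := funext fun j => dif_pos j.isLt
    obtain ⟨z, hz, h0, hs⟩ := hker y' (fun i hi' => dif_neg (by omega)) (by rw [← hΦr, hy', hy])
    have hext : ∀ l, ext₁ (R := WittVector p k) N l (fun j : Fin r => z j) = z l := fun l => by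
      rcases lt_or_ge l r with h | h
      · rw [ext₁_apply _ h]
      · rw [ext₁_eq_zero _ h, hz l h]
    refine ⟨fun j => z j, funext fun j => ?_⟩
    rw [← hy']
    obtain ⟨j, hj⟩ := j
    change comp₁ N α _ j _ = y' j
    cases j with
    | zero => simp [comp₁, hext, h0]
    | succ j => simp [comp₁, hext, hs]
  -- the key purity statement
  have key : ∀ q : WittVector p k, WittVector.frobenius q = q → ∀ z : L, (∃ y, q • y = ι z) → ∃ z', q • z' = z := by
    intro q hq
    let QL := LinearMap.range (LinearMap.lsmul (WittVector p k) L q)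
    let QT := LinearMap.range (LinearMap.lsmul (WittVector p k) T q)
    let Q0 := LinearMap.range (LinearMap.lsmul (WittVector p k) (N 0) q)
    have hi₁ : QL ≤ QT.comap ι := by
      rintro _ ⟨a, rfl⟩
      exact ⟨ι a, (map_smul ι q a).symm⟩
    have hΦ₁ : QT ≤ Q0.comap Φ := by
      rintro _ ⟨a, rfl⟩
      refine ⟨Φ a, ?_⟩
      change q • Φ a = Φ (q • a)
      rw [map_smulₛₗ, hq]
    let ι' := QL.mapQ QT ι hi₁
    let Φ' := QT.mapQ Q0 Φ hΦ₁
    have hinj : Function.Injective ι' := by
      refine length_key ι' Φ' ?_ ?_ ?_ ?_ ?_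
      · intro m
        obtain ⟨m, rfl⟩ := Submodule.Quotient.mk_surjective _ m
        obtain ⟨y, rfl⟩ := hΦ m
        exact ⟨Submodule.Quotient.mk y, rfl⟩
      · intro c hc
        obtain ⟨y, rfl⟩ := Submodule.Quotient.mk_surjective _ c
        rw [LinearMap.mem_ker, Submodule.mapQ_apply, Submodule.Quotient.mk_eq_zero] at hc
        obtain ⟨m, hm⟩ := hc
        obtain ⟨y₀, rfl⟩ := hΦ m
        obtain ⟨z, hz⟩ := hkerΦ (y - q • y₀) (by rw [map_sub, map_smulₛₗ, hq]; exact sub_eq_zero.2 hm.symm)
        refine ⟨Submodule.Quotient.mk z, ?_⟩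
        rw [Submodule.mapQ_apply, hz, Submodule.Quotient.eq]
        exact ⟨-y₀, by simp⟩
      · refine ne_top_of_le_ne_top ?_ (Module.length_le_of_surjective QL.mkQ QL.mkQ_surjective)
        rw [Module.length_pi_of_fintype]
        exact fun h => (ENat.sum_eq_top.1 h).elim fun j hj => Module.length_ne_top hj.2
      · exact Module.length_ne_top
      · let g : T →ₗ[WittVector p k] ((N 0 ⧸ Q0) × (L ⧸ QL)) :=
          LinearMap.prod (Q0.mkQ ∘ₗ LinearMap.proj (φ := fun j : Fin (r + 1) => N j) 0)
            (QL.mkQ ∘ₗ LinearMap.pi fun j : Fin r => LinearMap.proj (φ := fun j : Fin (r + 1) => N j) j.succ)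
        have hg : Function.Surjective g := by
          rintro ⟨a, b⟩
          obtain ⟨a, rfl⟩ := Submodule.Quotient.mk_surjective _ a
          obtain ⟨b, rfl⟩ := Submodule.Quotient.mk_surjective _ b
          exact ⟨Fin.cons (α := fun j : Fin (r + 1) => N j) a b, Prod.ext rfl (congrArg Submodule.Quotient.mk
            (funext fun j => Fin.cons_succ (α := fun j : Fin (r + 1) => N j) a b j))⟩
        have hk : LinearMap.ker g = QT := by
          ext y
          constructor
          · intro hy
            obtain ⟨h₀, h₁⟩ := Prod.mk.inj (show (Q0.mkQ (y 0), QL.mkQ (fun j : Fin r => y j.succ)) = (0, 0) from hy)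
            obtain ⟨a, ha⟩ := (Submodule.Quotient.mk_eq_zero Q0).1 h₀
            obtain ⟨b, hb⟩ := (Submodule.Quotient.mk_eq_zero QL).1 h₁
            refine ⟨Fin.cons (α := fun j : Fin (r + 1) => N j) a b, funext fun j => ?_⟩
            refine Fin.cases ?_ (fun j => ?_) j
            · exact ha
            · exact congrFun hb j
          · rintro ⟨a, rfl⟩
            refine Prod.ext ((Submodule.Quotient.mk_eq_zero _).2 ⟨a 0, rfl⟩)
              ((Submodule.Quotient.mk_eq_zero _).2 ⟨fun j => a j.succ, rfl⟩)
        rw [← ((Submodule.quotEquivOfEq _ _ hk).symm ≪≫ₗ g.quotKerEquivOfSurjective hg).symm.length_eq,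
          Module.length_prod, add_comm]
    intro z hz
    obtain ⟨y, hy⟩ := hz
    exact (Submodule.Quotient.mk_eq_zero QL).1 (hinj (by
      rw [map_zero, Submodule.mapQ_apply, Submodule.Quotient.mk_eq_zero]
      exact ⟨y, hy⟩))
  -- test vectors concentrated at one index
  let single : N (i + 1) → L := fun x => Pi.single (M := fun j : Fin r => N (j + 1)) ⟨i, hi⟩ x
  have hsx : ∀ x, ext₁ (R := WittVector p k) N i (single x) = x := fun x => by
    rw [ext₁_apply _ hi]
    exact Pi.single_eq_same _ _
  have hsne : ∀ x l, l ≠ i → ext₁ (R := WittVector p k) N l (single x) = 0 := fun x l hl => by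
    rcases lt_or_ge l r with h | h
    · rw [ext₁_apply _ h]
      exact Pi.single_eq_of_ne (fun e => hl (congrArg Fin.val e)) _
    · exact ext₁_eq_zero _ h
  have test : ∀ (q : WittVector p k), WittVector.frobenius q = q → ∀ (x : N (i + 1)) (y : N i) (y' : N (i + 1)),
      α i x = q • y → (p : WittVector p k) • x = q • y' → ∃ x', q • x' = x := by
    intro q hq x y y' h h'
    have hcomp : ∀ j, ∃ w : N j, q • w = comp₁ N α (p : WittVector p k) j (single x) := by
      intro j
      cases j with
      | zero =>
        by_cases h0 : i = 0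
        · subst h0
          exact ⟨y, by simp [comp₁, hsx, h]⟩
        · exact ⟨0, by simp [comp₁, hsne x 0 (Ne.symm h0)]⟩
      | succ j =>
        by_cases h1 : j + 1 = i
        · subst h1
          exact ⟨y, by simp [comp₁, hsx, hsne x j (by omega), h]⟩
        · by_cases h2 : j = i
          · subst h2
            exact ⟨-y', by simp [comp₁, hsx, hsne x (j + 1) h1, h']⟩
          · exact ⟨0, by simp [comp₁, hsne x j h2, hsne x (j + 1) h1]⟩
    choose w hw using hcomp
    obtain ⟨z', hz'⟩ := key q hq (single x) ⟨fun j => w j, funext fun j => hw j⟩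
    exact ⟨z' ⟨i, hi⟩, (congrFun hz' ⟨i, hi⟩).trans (Pi.single_eq_same _ _)⟩
  have pure : ∀ (n : ℕ) (x : N (i + 1)) (y : N i), α i x = (p : WittVector p k) ^ n • y →
      ∃ x', (p : WittVector p k) ^ n • x' = x := by
    intro n
    induction n with
    | zero => exact fun x _ _ => ⟨x, by simp⟩
    | succ n ih =>
      intro x y h
      obtain ⟨x', hx'⟩ := ih x ((p : WittVector p k) • y) (by rw [h, pow_succ, mul_smul])
      exact test _ (by rw [map_pow, map_natCast]) x y x' h (by rw [← hx', smul_smul, ← pow_succ'])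
  have kill : ∀ j, ∃ n : ℕ, ∀ x : N j, (p : WittVector p k) ^ n • x = 0 := by
    intro j
    obtain ⟨n, hn⟩ := IsArtinian.monotone_stabilizes
      (⟨fun n => OrderDual.toDual (LinearMap.range (LinearMap.lsmul (WittVector p k) (N j) ((p : WittVector p k) ^ n))),
        fun a b hab => by
          rintro _ ⟨x, rfl⟩
          refine ⟨(p : WittVector p k) ^ (b - a) • x, ?_⟩
          simp [smul_smul, ← pow_add, Nat.sub_add_cancel hab, Nat.add_sub_cancel' hab]⟩ :
        ℕ →o (Submodule (WittVector p k) (N j))ᵒᵈ)
    refine ⟨n, fun x => ?_⟩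
    have h1 := OrderDual.toDual.injective (hn (n + 1) (Nat.le_succ n))
    have h2 := Submodule.eq_bot_of_le_smul_of_le_jacobson_bot (Ideal.span {(p : WittVector p k)})
      (LinearMap.range (LinearMap.lsmul (WittVector p k) (N j) ((p : WittVector p k) ^ n)))
      (IsNoetherian.noetherian _) (by
        intro y hy
        rw [h1] at hy
        obtain ⟨x, rfl⟩ := hy
        rw [LinearMap.lsmul_apply, pow_succ', mul_smul]
        exact Submodule.smul_mem_smul (Ideal.mem_span_singleton_self _) ⟨x, rfl⟩)
      (by
        rw [IsLocalRing.jacobson_eq_maximalIdeal _ bot_ne_top, Ideal.span_le, Set.singleton_subset_iff]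
        exact (IsLocalRing.mem_maximalIdeal _).2 (WittVector.irreducible p).not_isUnit)
    exact (Submodule.eq_bot_iff _).1 h2 _ ⟨x, rfl⟩
  refine ⟨(injective_iff_map_eq_zero _).2 fun x hx => ?_, ?_⟩
  · obtain ⟨n, hn⟩ := kill (i + 1)
    have h := hn x
    clear hn
    induction n with
    | zero => simpa using h
    | succ n ih =>
      refine ih ?_
      obtain ⟨x', hx'⟩ := test 0 (map_zero _) ((p : WittVector p k) ^ n • x) 0 0
        (by rw [map_smul, hx, smul_zero, zero_smul]) (by rw [smul_smul, ← pow_succ', h, zero_smul])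
      rw [← hx', zero_smul]
  · obtain ⟨n, hn⟩ := kill i
    haveI : Module.Finite (WittVector p k) (N i ⧸ LinearMap.range (α i)) := inferInstance
    obtain ⟨d, e, ⟨ψ⟩⟩ := Module.torsion_by_prime_power_decomposition (WittVector.irreducible p)
      (M := N i ⧸ LinearMap.range (α i)) (fun {x} => by
        obtain ⟨x, rfl⟩ := Submodule.Quotient.mk_surjective _ x
        exact ⟨⟨(p : WittVector p k) ^ n, n, rfl⟩, by
          change (p : WittVector p k) ^ n • Submodule.Quotient.mk (p := LinearMap.range (α i)) x = 0
          rw [← Submodule.Quotient.mk_smul, hn, Submodule.Quotient.mk_zero]⟩)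
    have hlift : ∀ j : Fin d, ∃ v : N i, (p : WittVector p k) ^ e j • v = 0 ∧
        Submodule.Quotient.mk v = ψ.symm (DirectSum.lof (WittVector p k) (Fin d)
          (fun j => WittVector p k ⧸ (WittVector p k) ∙ (p : WittVector p k) ^ e j) j (Submodule.Quotient.mk 1)) := by
      intro j
      obtain ⟨v, hv⟩ := Submodule.Quotient.mk_surjective _ (ψ.symm (DirectSum.lof (WittVector p k) (Fin d)
          (fun j => WittVector p k ⧸ (WittVector p k) ∙ (p : WittVector p k) ^ e j) j (Submodule.Quotient.mk 1)))
      have h0 : (p : WittVector p k) ^ e j • v ∈ LinearMap.range (α i) := by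
        rw [← Submodule.Quotient.mk_eq_zero, Submodule.Quotient.mk_smul, hv, ← map_smul, ← map_smul,
          ← Submodule.Quotient.mk_smul, smul_eq_mul, mul_one,
          (Submodule.Quotient.mk_eq_zero _).2 (Submodule.mem_span_singleton_self _), map_zero, map_zero]
      obtain ⟨x, hx⟩ := h0
      obtain ⟨x', rfl⟩ := pure (e j) x v hx
      refine ⟨v - α i x', ?_, ?_⟩
      · rw [smul_sub, ← map_smul, hx, sub_self]
      · rw [← hv, Submodule.Quotient.eq, sub_sub_cancel_left]
        exact neg_mem ⟨x', rfl⟩
    choose v hv0 hv using hlift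
    let s : (N i ⧸ LinearMap.range (α i)) →ₗ[WittVector p k] N i :=
      DirectSum.toModule (WittVector p k) (Fin d) (N i) (fun j =>
        ((WittVector p k) ∙ (p : WittVector p k) ^ e j).liftQ (LinearMap.toSpanSingleton (WittVector p k) (N i) (v j))
          ((Submodule.span_singleton_le_iff_mem _ _).2 (hv0 j))) ∘ₗ ψ.toLinearMap
    have hs : (LinearMap.range (α i)).mkQ ∘ₗ s = LinearMap.id := by
      have h' : (LinearMap.range (α i)).mkQ ∘ₗ s ∘ₗ ψ.symm.toLinearMap = ψ.symm.toLinearMap := by
        refine DirectSum.linearMap_ext _ fun j => Submodule.linearMap_qext _ (LinearMap.ext_ring ?_)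
        simp only [LinearMap.comp_apply, s, LinearEquiv.coe_coe, LinearEquiv.apply_symm_apply, DirectSum.toModule_lof,
          Submodule.mkQ_apply, Submodule.liftQ_apply, LinearMap.toSpanSingleton_apply, one_smul, hv]
      refine LinearMap.ext fun t => ?_
      obtain ⟨t, rfl⟩ := ψ.symm.surjective t
      exact LinearMap.congr_fun h' t
    have hs' : ∀ t, Submodule.Quotient.mk (s t) = t := fun t => LinearMap.congr_fun hs t
    refine ⟨LinearMap.range s, IsCompl.of_eq ?_ ?_⟩
    · rw [Submodule.eq_bot_iff]
      rintro _ ⟨ha, t, rfl⟩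
      rw [← hs' t, (Submodule.Quotient.mk_eq_zero _).2 ha, map_zero]
    · rw [Submodule.eq_top_iff']
      intro w
      exact Submodule.mem_sup.2 ⟨w - s (Submodule.Quotient.mk w),
        (Submodule.Quotient.eq _).1 (hs' (Submodule.Quotient.mk w)).symm, _, ⟨_, rfl⟩, sub_add_cancel _ _⟩

end Groth.Agent.S18418
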