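import Groth.Statements.S18422
import Mathlib.Topology.Algebra.ClopenNhdofOne
import Mathlib.GroupTheory.OrderOfElement

set_option autoImplicit false
universe u v
open Pi1

namespace Groth.Agent.S18422

/-- Let p and l be distinct primes, G a profinite group (a compact totally disconnected topological
group) which is pro-p, meaning that every open normal subgroup of G has index a power of p, and H a
profinite group which is pro-l in the same sense. Then every continuous group homomorphism from G to
H is trivial. -/
theorem result {p l : ℕ} (hp : p.Prime) (hl : l.Prime) (hpl : p ≠ l)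
    (G : Type u) [Group G] [TopologicalSpace G] [IsTopologicalGroup G] [CompactSpace G]
    [TotallyDisconnectedSpace G]
    (H : Type v) [Group H] [TopologicalSpace H] [IsTopologicalGroup H] [CompactSpace H]
    [TotallyDisconnectedSpace H]
    (hG : ∀ U : OpenNormalSubgroup G, ∃ n : ℕ, U.toSubgroup.index = p ^ n)
    (hH : ∀ V : OpenNormalSubgroup H, ∃ n : ℕ, V.toSubgroup.index = l ^ n)
    (f : G →* H) (hf : Continuous f) (g : G) : f g = 1 := by
  by_contra hne
  obtain ⟨V, hV⟩ := ProfiniteGrp.exist_openNormalSubgroup_sub_open_nhds_of_one (G := H)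
    (isOpen_compl_singleton (x := f g)) (fun h => hne (Eq.symm h))
  let U : OpenNormalSubgroup G :=
    { toOpenSubgroup := V.toOpenSubgroup.comap f hf
      isNormal' := V.toSubgroup.normal_comap f }
  have : U.toSubgroup.Normal := U.isNormal'
  obtain ⟨a, ha⟩ := hG U
  obtain ⟨b, hb⟩ := hH V
  have h1 : f g ^ p ^ a ∈ V.toSubgroup := by
    have := U.toSubgroup.pow_index_mem g
    rw [ha] at this
    rw [← map_pow]
    exact this
  have h2 : f g ^ l ^ b ∈ V.toSubgroup := hb ▸ V.toSubgroup.pow_index_mem (f g)
  have h3 : f g ∈ V.toSubgroup := by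
    rw [← QuotientGroup.eq_one_iff, QuotientGroup.mk_pow] at h1 h2
    rw [← QuotientGroup.eq_one_iff]
    have := pow_gcd_eq_one.2 ⟨h1, h2⟩
    rwa [((Nat.coprime_primes hp hl).2 hpl).pow a b, pow_one] at this
  exact hV h3 rfl

end Groth.Agent.S18422
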