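import Groth.Statements.S18424
import Groth.Agent.FEtExtLib.Equiv
import Groth.Agent.S0244

set_option autoImplicit false
set_option backward.isDefEq.respectTransparency false
set_option backward.isDefEq.respectTransparency.types false
set_option maxRecDepth 8000
set_option maxHeartbeats 1000000
universe u
open Pi1

namespace Groth.Agent.S18424

open AlgebraicGeometry CategoryTheory CategoryTheory.Limits in
/-- Let k be a field, X and Y integral schemes separated and of finite type over k with X normal and Y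
nonsingular (every local ring of Y regular), and f : X → Y a proper k-morphism which is birational,
i.e. an isomorphism over some nonempty open subset V of Y. Then pulling back finite etale covers
along f is an equivalence between the categories of finite etale covers of Y and of X; in particular
f induces an isomorphism of etale fundamental groups. -/
theorem result (k : Type u) [Field k]
    {X Y : Scheme.{u}} (f : X ⟶ Y) (g : Y ⟶ Spec (CommRingCat.of k))
    [IsSeparated g] [LocallyOfFiniteType g] [QuasiCompact g]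
    [IsSeparated (f ≫ g)] [LocallyOfFiniteType (f ≫ g)] [QuasiCompact (f ≫ g)]
    [IsIntegral X] [IsIntegral Y] (hX : Pi1.IsNormalScheme X)
    (hY : ∀ y : Y, IsRegularLocalRing (Y.presheaf.stalk y)) [IsProper f]
    (V : Y.Opens) (hV : (V : Set Y).Nonempty) (hf : IsIso (f ∣_ V)) :
    (FEt.restrict f).IsEquivalence := by
  haveI : IsLocallyNoetherian Y := LocallyOfFiniteType.isLocallyNoetherian g
  have hV' : FEtExt.DenseReg V := ⟨IsOpen.dense V.isOpen hV, fun y _ => hY y⟩
  haveI := hf
  let W : X.Opens := f ⁻¹ᵁ V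
  have hW : (W : Set X).Nonempty := by
    obtain ⟨y, hy⟩ := hV
    exact ⟨W.ι ((inv (f ∣_ V)) ⟨y, hy⟩), ((inv (f ∣_ V)) ⟨y, hy⟩).2⟩
  haveI : (FEt.restrict (f ∣_ V)).IsEquivalence := Groth.Agent.S0289.result _
  obtain ⟨hVf, hVi⟩ := FEtExt.full_faithful hV'
  obtain ⟨hWf, hWi⟩ := Groth.Agent.S0244.result hX W hW
  have hc : (f ∣_ V) ≫ V.ι = W.ι ≫ f := morphismRestrict_ι f V
  let i : FEt.restrict f ⋙ FEt.restrict W.ι ≅ FEt.restrict V.ι ⋙ FEt.restrict (f ∣_ V) :=
    FEtExt.restrictCompIso hc.symm ≪≫ (FEtExt.restrictCompIso rfl).symm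
  haveI : (FEt.restrict f ⋙ FEt.restrict W.ι).Faithful := Functor.Faithful.of_iso i.symm
  haveI : (FEt.restrict f ⋙ FEt.restrict W.ι).Full := Functor.Full.of_iso i.symm
  haveI : (FEt.restrict f).Faithful := Functor.Faithful.of_comp (FEt.restrict f) (FEt.restrict W.ι)
  haveI : (FEt.restrict f).Full := Functor.Full.of_comp_faithful (FEt.restrict f) (FEt.restrict W.ι)
  haveI : (FEt.restrict f).EssSurj := ⟨fun Z => by
    obtain ⟨Z', ⟨ε⟩⟩ := FEtExt.exists_cover_of_proper (X := X) (Y := Y) f (𝟙 Y) hV' (inv (f ∣_ V) ≫ W.ι)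
      (by rw [Category.assoc, ← hc, IsIso.inv_hom_id_assoc, Category.comp_id]) Z
    exact ⟨Z', ⟨(FEt.restrict W.ι).preimageIso (i.app Z' ≪≫ (FEt.restrict (f ∣_ V)).mapIso ε ≪≫
      (FEtExt.restrictCompIso (IsIso.hom_inv_id_assoc (f ∣_ V) W.ι)).app Z)⟩⟩⟩
  exact { }

end Groth.Agent.S18424
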