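import Groth.Statements.S18425
import Groth.Agent.AutForgetLib.Basic
import Mathlib.CategoryTheory.Action.Concrete

set_option autoImplicit false
universe u
open Pi1

namespace Groth.Agent.S18425

open CategoryTheory in
/-- In the case of a discrete group G, let F be the forgetful functor from the category of finite G-sets
to finite sets. Then the canonical homomorphism from G to Aut(F), letting g act on every finite
G-set, extends to an isomorphism of topological groups from the profinite completion of G (the limit
of the finite quotients G/U over normal subgroups U of finite index) onto Aut(F) with its profinite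
topology. (The published statement is for an arbitrary topological group G, with finite G-sets
carrying a continuous action and the completion taken over open normal subgroups of finite index;
this row is the case of a discrete group.) -/
theorem result (G : Type u) [Group G] :
    ∃ φ : (ProfiniteGrp.ProfiniteCompletion.completion (GrpCat.of G)) ≃ₜ* Aut (Action.forget FintypeCat.{u} G),
      ∀ (g : G) (X : Action FintypeCat.{u} G) (x : X.V),
        (φ (ProfiniteGrp.ProfiniteCompletion.etaFn (GrpCat.of G) g)).hom.app X x = (X.ρ g).hom x := by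
  classical
  let C := GrpCat.of G
  let F := Action.forget FintypeCat.{u} G
  let Qt : FiniteIndexNormalSubgroup C → Action FintypeCat.{u} G := fun N =>
    letI : Fintype (G ⧸ N.toSubgroup) := Fintype.ofFinite _
    Action.FintypeCat.ofMulAction G (FintypeCat.of (G ⧸ N.toSubgroup))
  let e1 : Aut F → ∀ N : FiniteIndexNormalSubgroup C, G ⧸ N.toSubgroup := fun σ N =>
    σ.hom.app (Qt N) (1 : G ⧸ N.toSubgroup)
  have hr : ∀ (N : FiniteIndexNormalSubgroup C) (σ : Aut F) (q : G ⧸ N.toSubgroup),
      (σ.hom.app (Qt N) q : G ⧸ N.toSubgroup) = e1 σ N * q := fun N σ q => by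
    let m : Qt N ⟶ Qt N :=
      { hom := FintypeCat.homMk fun w : G ⧸ N.toSubgroup => w * q
        comm := fun a => FintypeCat.hom_ext _ _ fun w => by
          induction w using QuotientGroup.induction_on with
          | _ b => exact mul_assoc (QuotientGroup.mk a : G ⧸ N.toSubgroup) (QuotientGroup.mk b) q }
    have h1 := ConcreteCategory.congr_hom (σ.hom.naturality m) (1 : G ⧸ N.toSubgroup)
    refine Eq.trans ?_ h1
    exact congrArg (σ.hom.app (Qt N)) (one_mul q).symm
  have hmem : ∀ σ : Aut F, ∀ ⦃N M : FiniteIndexNormalSubgroup C⦄ (f : N ⟶ M),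
      QuotientGroup.map N.toSubgroup M.toSubgroup (MonoidHom.id _) f.le (e1 σ N) = e1 σ M := fun σ N M f => by
    let m : Qt N ⟶ Qt M :=
      { hom := FintypeCat.homMk fun w : G ⧸ N.toSubgroup =>
          (QuotientGroup.map N.toSubgroup M.toSubgroup (MonoidHom.id _) f.le w : G ⧸ M.toSubgroup)
        comm := fun a => FintypeCat.hom_ext _ _ fun w => by
          induction w using QuotientGroup.induction_on with
          | _ b => rfl }
    have h1 := ConcreteCategory.congr_hom (σ.hom.naturality m) (1 : G ⧸ N.toSubgroup)
    exact h1.symm
  let ψ : Aut F →* ProfiniteGrp.ProfiniteCompletion.completion C :=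
    MonoidHom.mk' (fun σ => ⟨e1 σ, fun N M f => hmem σ f⟩) fun σ τ =>
      Subtype.ext (funext fun N => hr N σ (e1 τ N))
  have hψc : Continuous ψ := by
    refine Continuous.subtype_mk (continuous_pi fun N => ?_) _
    exact AutForgetLib.continuous_app (F := F) (Qt N) (1 : G ⧸ N.toSubgroup)
  let app : G → ∀ X : Action FintypeCat.{u} G, X.V ≅ X.V := fun g X =>
    { hom := X.ρ g
      inv := X.ρ g⁻¹
      hom_inv_id := by
        show X.ρ g⁻¹ * X.ρ g = 1
        rw [← map_mul, inv_mul_cancel, map_one]
      inv_hom_id := by
        show X.ρ g * X.ρ g⁻¹ = 1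
        rw [← map_mul, mul_inv_cancel, map_one] }
  let ι : G → Aut F := fun g => NatIso.ofComponents (fun X => app g X) fun m => (m.comm g).symm
  have hψι : ∀ g, ψ (ι g) = ProfiniteGrp.ProfiniteCompletion.etaFn C g := fun g =>
    Subtype.ext (funext fun N => mul_one (QuotientGroup.mk g : G ⧸ N.toSubgroup))
  have hinj : Function.Injective ψ := fun σ τ h =>
    Iso.ext (NatTrans.ext (funext fun X => FintypeCat.hom_ext _ _ fun x => by
      let act : G →* Equiv.Perm X.V :=
        { toFun := fun g => FintypeCat.equivEquivIso.symm (app g X)
          map_one' := Equiv.ext fun y => congrArg (fun e : X.V ⟶ X.V => e y) (map_one X.ρ)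
          map_mul' := fun a b => Equiv.ext fun y => congrArg (fun e : X.V ⟶ X.V => e y) (map_mul X.ρ a b) }
      let K : Subgroup G := act.ker
      haveI : Finite (X.V : Type u) := inferInstance
      haveI : K.Normal := MonoidHom.normal_ker _
      haveI : K.FiniteIndex := Subgroup.finiteIndex_ker _
      let N : FiniteIndexNormalSubgroup C := FiniteIndexNormalSubgroup.ofSubgroup K
      let m : Qt N ⟶ X :=
        { hom := FintypeCat.homMk fun w : G ⧸ N.toSubgroup =>
            Quotient.liftOn' w (fun g => (app g X).hom x) fun a b hab => by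
              rw [QuotientGroup.leftRel_apply] at hab
              have h2 : act (a⁻¹ * b) = 1 := hab
              have h3 : (app (a⁻¹ * b) X).hom x = x := congrArg (fun e : Equiv.Perm X.V => e x) h2
              have h4 : X.ρ b = X.ρ a * X.ρ (a⁻¹ * b) := by rw [← map_mul, mul_inv_cancel_left]
              exact ((congrArg (fun e : X.V ⟶ X.V => e x) h4).trans (congrArg (app a X).hom h3)).symm
          comm := fun a => FintypeCat.hom_ext _ _ fun w => by
            induction w using QuotientGroup.induction_on with
            | _ b => exact congrArg (fun e : X.V ⟶ X.V => e x) (map_mul X.ρ a b) }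
      have hx : m.hom (1 : G ⧸ N.toSubgroup) = x := congrArg (fun e : X.V ⟶ X.V => e x) (map_one X.ρ)
      have hval : ∀ ρ : Aut F, ρ.hom.app X x = m.hom (e1 ρ N) := fun ρ => by
        have h1 := ConcreteCategory.congr_hom (ρ.hom.naturality m) (1 : G ⧸ N.toSubgroup)
        exact (congrArg (ρ.hom.app X) hx).symm.trans h1
      rw [hval σ, hval τ]
      exact congrArg m.hom (congrFun (Subtype.ext_iff.1 h) N)))
  have hsurj : Function.Surjective ψ := fun y => by
    have h1 : IsClosed (Set.range ψ) := (isCompact_range hψc).isClosed
    have h2 : Dense (Set.range ψ) := Dense.mono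
      (Set.range_subset_iff.2 fun g => ⟨ι g, hψι g⟩) (ProfiniteGrp.ProfiniteCompletion.denseRange C)
    show y ∈ Set.range ψ
    rw [← h1.closure_eq]
    exact h2 y
  let e : Aut F ≃* ProfiniteGrp.ProfiniteCompletion.completion C := MulEquiv.ofBijective ψ ⟨hinj, hsurj⟩
  let h := Continuous.homeoOfEquivCompactToT2 (f := e.toEquiv) hψc
  refine ⟨{ e.symm with continuous_toFun := h.symm.continuous, continuous_invFun := h.continuous }, fun g X x => ?_⟩
  have : e.symm (ProfiniteGrp.ProfiniteCompletion.etaFn C g) = ι g := by
    rw [← hψι g]
    exact e.symm_apply_apply (ι g)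
  show (e.symm (ProfiniteGrp.ProfiniteCompletion.etaFn C g)).hom.app X x = _
  rw [this]
  rfl

end Groth.Agent.S18425
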