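import Groth.Statements.S18428
import Groth.Agent.AutForgetLib.Basic
import Mathlib.CategoryTheory.Action.Concrete

set_option autoImplicit false
universe u
open scoped FintypeCatDiscrete
open Pi1

namespace Groth.Agent.S18428

open CategoryTheory in
/-- Let G be a topological group, consider the category of finite sets (with the discrete topology)
equipped with a continuous action of G, and let F be the forgetful functor to finite sets, so that
Aut(F) is a profinite group. Then the homomorphism ι : G → Aut(F) letting g act on every finite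
continuous G-set exists and is continuous, has dense image, and every continuous homomorphism from G
to a finite discrete group factors uniquely through ι by a continuous homomorphism on Aut(F). As
Aut(F) is profinite, these properties say that ι induces an isomorphism of topological groups from
the profinite completion of G (the limit of the quotients G/U by open normal subgroups of finite
index) onto Aut(F). -/
theorem result (G : Type u) [Group G]
    [TopologicalSpace G] [IsTopologicalGroup G] :
    ∃ ι : G →* Aut (forget₂ (ContAction FintypeCat.{u} G) FintypeCat.{u}),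
      Continuous ι ∧
      (∀ (g : G) (X : ContAction FintypeCat.{u} G) (x : X.obj.V), (ι g).hom.app X x = (X.obj.ρ g).hom x) ∧
      DenseRange ι ∧
      ∀ (Q : Type u) [Group Q] [Finite Q] [TopologicalSpace Q] [DiscreteTopology Q] (π : G →* Q),
        Continuous π → ∃! ψ : Aut (forget₂ (ContAction FintypeCat.{u} G) FintypeCat.{u}) →* Q,
          Continuous ψ ∧ ψ.comp ι = π := by
  classical
  let F := forget₂ (ContAction FintypeCat.{u} G) FintypeCat.{u}
  have hcont : ∀ (X : ContAction FintypeCat.{u} G) (x y : X.obj.V),
      IsOpen {g : G | (X.obj.ρ g).hom x = y} := fun X x y => by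
    have h1 : Continuous fun g : G => ((X.obj.ρ g).hom x : X.obj.V) :=
      X.2.1.comp (continuous_id.prodMk (continuous_const (y := x)))
    exact (isOpen_discrete ({y} : Set X.obj.V)).preimage h1
  let app : G → ∀ X : ContAction FintypeCat.{u} G, X.obj.V ≅ X.obj.V := fun g X =>
    { hom := X.obj.ρ g
      inv := X.obj.ρ g⁻¹
      hom_inv_id := by
        show X.obj.ρ g⁻¹ * X.obj.ρ g = 1
        rw [← map_mul, inv_mul_cancel, map_one]
      inv_hom_id := by
        show X.obj.ρ g * X.obj.ρ g⁻¹ = 1
        rw [← map_mul, mul_inv_cancel, map_one] }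
  let ι : G →* Aut F :=
    { toFun := fun g => NatIso.ofComponents (fun X => app g X) fun m => (m.hom.comm g).symm
      map_one' := Iso.ext (NatTrans.ext (funext fun X => map_one X.obj.ρ))
      map_mul' := fun a b => Iso.ext (NatTrans.ext (funext fun X => map_mul X.obj.ρ a b)) }
  have hι : ∀ (g : G) (X : ContAction FintypeCat.{u} G) (x : X.obj.V),
      (ι g).hom.app X x = (X.obj.ρ g).hom x := fun g X x => rfl
  have mkObj : ∀ (Y : Type u) [Fintype Y] [MulAction G Y], (∀ y z : Y, IsOpen {g : G | g • y = z}) →
      (Action.FintypeCat.ofMulAction G (FintypeCat.of Y)).IsContinuous := fun Y _ _ h => by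
    rw [Action.isContinuous_def]
    change @Continuous (G × Y) Y (@instTopologicalSpaceProd _ _ _ ⊥) ⊥ (fun p => p.1 • p.2)
    letI : TopologicalSpace Y := ⊥
    haveI : DiscreteTopology Y := ⟨rfl⟩
    exact continuous_prod_of_discrete_right.2 fun y => continuous_discrete_rng.2 fun z => h y z
  have hdense : DenseRange ι := by
    refine AutForgetLib.denseRange ι fun σ I => ?_
    let Xs : Fin I.card → ContAction FintypeCat.{u} G := fun i => (I.equivFin.symm i).1
    let P := Σ i : Fin I.card, ((Xs i).obj.V : Type u)
    letI inst : ∀ X : ContAction FintypeCat.{u} G, MulAction G (X.obj.V : Type u) := fun X =>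
      { smul := fun g x => (X.obj.ρ g).hom x
        one_smul := fun x => congrArg (fun e : X.obj.V ⟶ X.obj.V => e x) (map_one X.obj.ρ)
        mul_smul := fun a b x => congrArg (fun e : X.obj.V ⟶ X.obj.V => e x) (map_mul X.obj.ρ a b) }
    let V := fun p : P => ((Xs p.1).obj.V : Type u)
    letI : ∀ p : P, MulAction G (V p) := fun p => inst (Xs p.1)
    let x₀ : ∀ p : P, V p := fun p => p.2
    haveI : ∀ p : P, Finite (V p) := fun p => inferInstanceAs (Finite ((Xs p.1).obj.V : Type u))
    haveI : Finite P := Finite.instSigma
    let O : Type u := ↥(MulAction.orbit G x₀)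
    letI : MulAction G O := inferInstanceAs (MulAction G ↥(MulAction.orbit G x₀))
    haveI : Finite O := inferInstanceAs (Finite ↥(MulAction.orbit G x₀))
    haveI : Fintype O := Fintype.ofFinite _
    have hO : (Action.FintypeCat.ofMulAction G (FintypeCat.of O)).IsContinuous := mkObj O fun y z => by
      have : {g : G | g • y = z} = ⋂ p : P, {g : G | ((Xs p.1).obj.ρ g).hom (y.1 p) = z.1 p} := by
        ext g
        simp only [Set.mem_setOf_eq, Set.mem_iInter]
        exact ⟨fun h p => congrArg (fun w : O => w.1 p) h, fun h => Subtype.ext (funext h)⟩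
      rw [this]
      exact isOpen_iInter_of_finite fun p => hcont (Xs p.1) _ _
    let Y : ContAction FintypeCat.{u} G := ⟨_, hO⟩
    let y₀ : O := ⟨x₀, MulAction.mem_orbit_self x₀⟩
    obtain ⟨g, hg⟩ := (show O from σ.hom.app Y y₀).2
    refine ⟨g, fun X hX x => ?_⟩
    obtain ⟨i, rfl⟩ : ∃ i, Xs i = X := ⟨I.equivFin ⟨X, hX⟩, by simp [Xs]⟩
    let p : P := ⟨i, x⟩
    let m : Y ⟶ Xs i := ObjectProperty.homMk
      { hom := FintypeCat.homMk fun w : O => w.1 p
        comm := fun a => FintypeCat.hom_ext _ _ fun w => rfl }
    have h1 := ConcreteCategory.congr_hom (σ.hom.naturality m) y₀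
    refine Eq.trans ?_ h1.symm
    exact congrArg (fun w : ∀ p : P, V p => w p) hg
  refine ⟨ι, AutForgetLib.continuous_to_aut ι fun X x y => hcont X x y, hι, hdense, ?_⟩
  intro Q _ _ _ _ π hπ
  haveI : Fintype Q := Fintype.ofFinite Q
  letI : MulAction G Q := MulAction.compHom Q π
  have hQ : (Action.FintypeCat.ofMulAction G (FintypeCat.of Q)).IsContinuous := mkObj Q fun y z =>
    (isOpen_discrete ({z} : Set Q)).preimage (hπ.mul continuous_const)
  let X : ContAction FintypeCat.{u} G := ⟨_, hQ⟩
  let e1 : Aut F → Q := fun σ => σ.hom.app X (1 : Q)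
  have hr : ∀ (σ : Aut F) (q : Q), (σ.hom.app X q : Q) = e1 σ * q := by
    intro σ q
    let m : X ⟶ X := ObjectProperty.homMk
      { hom := FintypeCat.homMk fun w : Q => w * q
        comm := fun a => FintypeCat.hom_ext _ _ fun w => mul_assoc (π a) w q }
    have h1 := ConcreteCategory.congr_hom (σ.hom.naturality m) (1 : Q)
    refine Eq.trans ?_ h1
    exact congrArg (σ.hom.app X) (one_mul q).symm
  let ψ : Aut F →* Q :=
    MonoidHom.mk' e1 fun σ τ => hr σ (e1 τ)
  have hψc : Continuous ψ := by
    refine continuous_discrete_rng.2 fun q => ?_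
    exact (isOpen_discrete ({q} : Set (F.obj X))).preimage (AutForgetLib.continuous_app (F := F) X (1 : Q))
  have hψι : ψ.comp ι = π := MonoidHom.ext fun g => mul_one (π g)
  refine ⟨ψ, ⟨hψc, hψι⟩, fun ψ' h => ?_⟩
  refine DFunLike.coe_injective (hdense.equalizer h.1 hψc (funext fun g => ?_))
  exact (DFunLike.congr_fun h.2 g).trans (DFunLike.congr_fun hψι g).symm

end Groth.Agent.S18428
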