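import Groth.Statements.S18430
import Mathlib.Tactic.LinearCombination
import Mathlib.Tactic.Ring

set_option autoImplicit false
universe u
open SpinCurv

namespace Groth.Agent.S18430

/-- Let n ≥ 1 and r ≥ 2 be integers and let e_0, …, e_{nr} be integers, thought of as the coefficients
of two non-exceptional components C = E_0 and D = E_{nr} of the special fibre and of the chain of nr
- 1 exceptional curves joining them. If at every interior index 1 ≤ j ≤ nr - 1 the second difference
e_{j-1} - 2 e_j + e_{j+1} is divisible by r (the degree of the divisor on each exceptional curve of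
the chain is a multiple of r), then e_0 ≡ e_{nr} modulo r. (The published statement deduces from
this step, using that the special fibre is connected, that all non-exceptional components are joined
by such chains and that one non-exceptional coefficient may be taken to be 0, that every
non-exceptional coefficient can be assumed divisible by r; only the chain step is stated here.) -/
theorem result (n r : ℕ) (hn : 1 ≤ n) (hr : 2 ≤ r)
    (e : ℕ → ℤ)
    (hdiv : ∀ j : ℕ, 1 ≤ j → j < n * r → (r : ℤ) ∣ e (j - 1) - 2 * e j + e (j + 1)) :
    (r : ℤ) ∣ e (n * r) - e 0 := by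
  have h : ∀ j : ℕ, j ≤ n * r → (r : ℤ) ∣ e j - e 0 - j * (e 1 - e 0) := by
    intro j
    induction j using Nat.strong_induction_on with
    | _ j ih =>
      intro hj
      match j, ih, hj with
      | 0, _, _ => simp
      | 1, _, _ => simp
      | j + 2, ih, hj =>
        have a := ih (j + 1) (by omega) (by omega)
        have b := ih j (by omega) (by omega)
        have c := hdiv (j + 1) (by omega) (by omega)
        rw [Nat.add_sub_cancel, show j + 1 + 1 = j + 2 from rfl] at c
        have : e (j + 2) - e 0 - ((j + 2 : ℕ) : ℤ) * (e 1 - e 0) = (e j - 2 * e (j + 1) + e (j + 2)) +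
            2 * (e (j + 1) - e 0 - ((j + 1 : ℕ) : ℤ) * (e 1 - e 0)) -
            (e j - e 0 - (j : ℤ) * (e 1 - e 0)) := by
          push_cast
          ring
        rw [this]
        exact dvd_sub (dvd_add c (Dvd.dvd.mul_left a 2)) b
  have := dvd_add (h (n * r) le_rfl) (show (r : ℤ) ∣ ((n * r : ℕ) : ℤ) * (e 1 - e 0) from
    Dvd.dvd.mul_right (Int.natCast_dvd_natCast.mpr (Dvd.intro_left n rfl)) _)
  simpa using this

end Groth.Agent.S18430
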