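import Groth.Statements.S18431
import Mathlib.RingTheory.LocalRing.Basic
import Mathlib.RingTheory.Ideal.Quotient.Basic
import Mathlib.RingTheory.LocalRing.ResidueField.Basic
import Mathlib.Algebra.Ring.GeomSum

set_option autoImplicit false
universe u
open SpinCurv

namespace Groth.Agent.S18431

/-- Let R be a Noetherian local ring in which the natural number r is invertible and let ξ, ζ ∈ R
satisfy ξ^r = 1 and ζ^r = 1. Then either ξ = ζ, or ξ - ζ is a unit of R. (Consequently an element of
R annihilated by ξ - ζ is zero unless ξ = ζ. In the published setting R is moreover complete; the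
step does not use completeness.) -/
theorem result (R : Type u) [CommRing R] [IsNoetherianRing R] [IsLocalRing R]
    (r : ℕ) (hr : IsUnit (r : R)) (ξ ζ : R) (hξ : ξ ^ r = 1) (hζ : ζ ^ r = 1) :
    ξ = ζ ∨ IsUnit (ξ - ζ) := by
  refine or_iff_not_imp_right.mpr fun hu => ?_
  rcases Nat.eq_zero_or_pos r with rfl | hr0
  · simp at hr
  have hres : IsLocalRing.residue R ξ = IsLocalRing.residue R ζ := by
    rw [← sub_eq_zero, ← map_sub, IsLocalRing.residue_eq_zero_iff]
    exact (IsLocalRing.mem_maximalIdeal _).mpr hu
  have hζu : IsUnit ζ := IsUnit.of_mul_eq_one (ζ ^ (r - 1))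
    (by rw [← pow_succ', Nat.sub_add_cancel hr0, hζ])
  have hsum : IsUnit (∑ i ∈ Finset.range r, ξ ^ i * ζ ^ (r - 1 - i)) := by
    refine (isUnit_map_iff (IsLocalRing.residue R) _).mp ?_
    rw [map_sum, Finset.sum_congr rfl fun i hi => show IsLocalRing.residue R (ξ ^ i * ζ ^ (r - 1 - i)) =
        IsLocalRing.residue R (ζ ^ (r - 1)) by
      rw [map_mul, map_pow, map_pow, map_pow, hres, ← pow_add]
      congr 1
      have := Finset.mem_range.mp hi
      omega]
    rw [Finset.sum_const, Finset.card_range, nsmul_eq_mul, ← map_natCast (IsLocalRing.residue R)]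
    exact (hr.map _).mul ((hζu.pow _).map _)
  have := geom_sum₂_mul ξ ζ r
  rw [hξ, hζ, sub_self] at this
  exact sub_eq_zero.mp (hsum.mul_right_eq_zero.mp this)

end Groth.Agent.S18431
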