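import Groth.Statements.S18434
import Mathlib


-- import your own Groth.Agent.* helpers here

set_option autoImplicit false
universe u
open SpinCurv

namespace Groth.Agent.S18434

/-- Let k be a field, u, v ≥ 1 integers and w ∈ k nonzero. In the ring A = k[[x, y]]/(xy), the quotient
A/(x^u, w y^v) has dimension u + v - 1 over k (a basis is 1, x, …, x^{u-1}, y, …, y^{v-1}); this is
the length of the cokernel at the node of a map whose image is generated by x^u and w y^v. -/
theorem result (k : Type u) [Field k] (u v : ℕ) (hu : 1 ≤ u) (hv : 1 ≤ v)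
    (w : k) (hw : w ≠ 0) :
    Module.finrank k (SpinCurv.NodeRing k 0 ⧸
      Ideal.span {SpinCurv.NodeRing.x k 0 ^ u, algebraMap k (SpinCurv.NodeRing k 0) w * SpinCurv.NodeRing.y k 0 ^ v}) =
      u + v - 1 := by
  classical
  set ι := Fin u ⊕ Fin (v - 1)
  let mon : ι → (Fin 2 →₀ ℕ) := Sum.elim (fun i => Finsupp.single 0 (i : ℕ)) (fun j => Finsupp.single 1 ((j : ℕ) + 1))
  have hinj : Function.Injective mon := by
    rintro (i | i) (j | j) h
    · exact congrArg Sum.inl (Fin.ext (by simpa [mon] using DFunLike.congr_fun h 0))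
    · have h1 := DFunLike.congr_fun h 1; simp [mon] at h1
    · have h1 := DFunLike.congr_fun h 1; simp [mon] at h1
    · exact congrArg Sum.inr (Fin.ext (by simpa [mon] using DFunLike.congr_fun h 1))
  let ev : MvPowerSeries (Fin 2) k →ₗ[k] (ι → k) := LinearMap.pi fun i => MvPowerSeries.coeff (mon i)
  have hev : Function.Surjective ev := by
    intro c
    refine ⟨fun m => ∑ i, if mon i = m then c i else 0, funext fun i => ?_⟩
    change (∑ j, if mon j = mon i then c j else 0) = c i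
    simp only [hinj.eq_iff]
    exact (Finset.sum_ite_eq' Finset.univ i c).trans (if_pos (Finset.mem_univ i))
  set P0 : Ideal (MvPowerSeries (Fin 2) k) := Ideal.span {(MvPowerSeries.X 0 * MvPowerSeries.X 1 - MvPowerSeries.C 0 : MvPowerSeries (Fin 2) k)}
  let q : MvPowerSeries (Fin 2) k →ₗ[k] SpinCurv.NodeRing k 0 := (Ideal.Quotient.mkₐ k P0).toLinearMap
  set J : Ideal (SpinCurv.NodeRing k 0) := Ideal.span {SpinCurv.NodeRing.x k 0 ^ u, algebraMap k (SpinCurv.NodeRing k 0) w * SpinCurv.NodeRing.y k 0 ^ v}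
  let qq : MvPowerSeries (Fin 2) k →ₗ[k] (SpinCurv.NodeRing k 0 ⧸ J) := (Ideal.Quotient.mkₐ k J).toLinearMap.comp q
  have hqq : Function.Surjective qq := (Ideal.Quotient.mk_surjective (I := J)).comp (Ideal.Quotient.mk_surjective (I := P0))
  have hker : LinearMap.ker qq = LinearMap.ker ev := by
    have hJ : J = (Ideal.span {MvPowerSeries.X 0 ^ u, MvPowerSeries.C w * MvPowerSeries.X 1 ^ v} : Ideal (MvPowerSeries (Fin 2) k)).map (Ideal.Quotient.mk P0) := by
      rw [Ideal.map_span, Set.image_pair, map_pow, map_mul, map_pow]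
      rfl
    have hmem : ∀ f, qq f = 0 ↔ f ∈ Ideal.span {MvPowerSeries.X 0 ^ u, MvPowerSeries.C w * MvPowerSeries.X 1 ^ v} ⊔ P0 := by
      intro f
      change Ideal.Quotient.mk J (Ideal.Quotient.mk P0 f) = 0 ↔ _
      rw [Ideal.Quotient.eq_zero_iff_mem, hJ, ← Ideal.mem_comap, Ideal.comap_map_of_surjective _ Ideal.Quotient.mk_surjective,
        ← RingHom.ker_eq_comap_bot, Ideal.mk_ker]
    ext f
    rw [LinearMap.mem_ker, LinearMap.mem_ker, hmem]
    have hz : ev f = 0 ↔ ∀ m : Fin 2 →₀ ℕ, (m 1 = 0 ∧ m 0 < u) ∨ (m 0 = 0 ∧ 0 < m 1 ∧ m 1 < v) → MvPowerSeries.coeff m f = 0 := by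
      constructor
      · rintro h m (⟨a, b⟩ | ⟨a, b, c⟩)
        · have := congrFun h (Sum.inl ⟨m 0, b⟩)
          rwa [show m = mon (Sum.inl ⟨m 0, b⟩) by ext i; fin_cases i <;> simp [mon, a]]
        · have := congrFun h (Sum.inr ⟨m 1 - 1, by omega⟩)
          rwa [show m = mon (Sum.inr ⟨m 1 - 1, by omega⟩) by ext i; fin_cases i <;> simp [mon, a]; omega]
      · intro h
        funext i
        rcases i with i | j
        · exact h _ (Or.inl ⟨by simp [mon], by simp [mon]⟩)
        · exact h _ (Or.inr ⟨by simp [mon], by simp [mon], by have := j.2; simp [mon]; omega⟩)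
    rw [hz]
    constructor
    · intro hf m hm
      obtain ⟨a, ha, b, hb, rfl⟩ := Submodule.mem_sup.1 hf
      obtain ⟨c1, c2, rfl⟩ := Ideal.mem_span_pair.1 ha
      obtain ⟨c3, rfl⟩ := Ideal.mem_span_singleton'.1 hb
      have e1 : MvPowerSeries.coeff m (c1 * MvPowerSeries.X 0 ^ u) = 0 :=
        MvPowerSeries.X_pow_dvd_iff.1 (dvd_mul_left _ c1) m (by omega)
      have e2 : MvPowerSeries.coeff m (c2 * (MvPowerSeries.C w * MvPowerSeries.X 1 ^ v)) = 0 :=
        MvPowerSeries.X_pow_dvd_iff.1 (dvd_mul_of_dvd_right (dvd_mul_left _ _) c2) m (by omega)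
      have e3 : MvPowerSeries.coeff m (c3 * (MvPowerSeries.X 0 * MvPowerSeries.X 1 - MvPowerSeries.C 0)) = 0 := by
        rw [map_zero, sub_zero]
        rcases hm with ⟨h1, -⟩ | ⟨h0, -, -⟩
        · exact MvPowerSeries.X_dvd_iff.1 (dvd_mul_of_dvd_right (dvd_mul_left _ _) c3) m h1
        · exact MvPowerSeries.X_dvd_iff.1 (dvd_mul_of_dvd_right (dvd_mul_right _ _) c3) m h0
      rw [map_add, map_add, e1, e2, e3, add_zero, add_zero]
    · intro h
      let f1 : MvPowerSeries (Fin 2) k := fun m => if u ≤ m 0 then MvPowerSeries.coeff m f else 0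
      let f2 : MvPowerSeries (Fin 2) k := fun m => if v ≤ m 1 ∧ m 0 < u then MvPowerSeries.coeff m f else 0
      let f3 : MvPowerSeries (Fin 2) k := fun m => if m 0 < u ∧ m 1 < v ∧ 0 < m 0 ∧ 0 < m 1 then MvPowerSeries.coeff m f else 0
      have hsum : f = f1 + f2 + f3 := by
        ext m
        rw [map_add, map_add]
        change _ = (if _ then _ else _) + (if _ then _ else _) + (if _ then _ else _)
        have := h m
        split_ifs <;> simp <;> first | omega | (apply this; omega) | rfl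
      obtain ⟨g1, hg1⟩ := (MvPowerSeries.X_pow_dvd_iff (s := (0 : Fin 2)) (n := u) (φ := f1)).2 fun m hm => if_neg (by omega)
      obtain ⟨g2, hg2⟩ := (MvPowerSeries.X_pow_dvd_iff (s := (1 : Fin 2)) (n := v) (φ := f2)).2 fun m hm => if_neg (by omega)
      obtain ⟨g3, hg3⟩ := (MvPowerSeries.X_dvd_iff (s := (0 : Fin 2)) (φ := f3)).2 fun m hm => if_neg (by omega)
      obtain ⟨g4, hg4⟩ : MvPowerSeries.X 1 ∣ g3 := by
        rw [MvPowerSeries.X_dvd_iff]
        intro m hm
        have h1 := MvPowerSeries.coeff_add_monomial_mul (m := Finsupp.single (0 : Fin 2) 1) (n := m) (φ := g3) (a := (1 : k))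
        rw [one_mul] at h1
        rw [← h1, ← pow_one (MvPowerSeries.monomial _ (1 : k)), pow_one, ← MvPowerSeries.X_def, ← hg3]
        exact if_neg (by simp [hm])
      refine Submodule.mem_sup.2 ⟨f1 + f2, Ideal.mem_span_pair.2 ⟨g1, MvPowerSeries.C w⁻¹ * g2, ?_⟩, f3, Ideal.mem_span_singleton'.2 ⟨g4, ?_⟩, hsum.symm⟩
      · rw [hg1, hg2, show MvPowerSeries.C w⁻¹ * g2 * (MvPowerSeries.C w * MvPowerSeries.X 1 ^ v) = (MvPowerSeries.C w⁻¹ * MvPowerSeries.C w) * (g2 * MvPowerSeries.X 1 ^ v) by ring, ← map_mul, inv_mul_cancel₀ hw, map_one]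
        ring
      · rw [hg3, hg4, map_zero, sub_zero]; ring
  have e := (qq.quotKerEquivOfSurjective hqq).symm.trans ((Submodule.quotEquivOfEq _ _ hker).trans (ev.quotKerEquivOfSurjective hev))
  rw [e.finrank_eq, Module.finrank_pi]
  simp [ι]
  omega

end Groth.Agent.S18434
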