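import Groth.Statements.S18438
import Mathlib
import Groth.Agent.SurfNumLib.RRApps
import Groth.Agent.SurfNumLib.K3
import Groth.Agent.SurfNumLib.Config
import Groth.Agent.SurfNumLib.Eff
-- import your own Groth.Agent.* helpers here

set_option autoImplicit false
universe u
open CategoryTheory CategoryTheory.Limits AlgebraicGeometry TopologicalSpace
open Surf

namespace Groth.Agent.S18438

/-- Let k be an algebraically closed field and X a smooth projective surface over k whose anticanonical
module is ample: X is an integral scheme, proper and smooth over k of dimension 2, W is a canonical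
module (a second exterior power of Ω_{X/k}) and D a tensor inverse of W which is ample. Intersection
numbers of invertible modules are (L·M) = χ(O_X) − χ(L) − χ(M) + χ(L ⊗ M), so that for a closed
subscheme C with ideal I_C one has C·C = (I_C·I_C) and K·C = −(I_C·W). If C ⊆ X is an integral
closed one-dimensional subscheme with C·C < 0, then C is an exceptional curve of the first kind: C·C
= −1, K·C = −1 and H¹(C, O_C) = 0. (The published statement concerns del Pezzo surfaces of degree d
embedded in projective d-space; its argument uses only the ampleness of the anticanonical module,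
which is the hypothesis taken here.) -/
theorem result (k : Type u) [Field k] [IsAlgClosed k] (X : Scheme.{u})
    [X.Over (Spec (CommRingCat.of k))] [IsIntegral X] [IsProper (X ↘ (Spec (CommRingCat.of k)))] [Smooth (X ↘ (Spec (CommRingCat.of k)))]
    (hdim : topologicalKrullDim X = 2)
    (W : X.Modules) (hW : ExtPow.IsExtPow 2 (Omega.sheaf (X ↘ (Spec (CommRingCat.of k)))) W)
    (D : X.Modules) (hD : ClSub.IsInverseOf D W) (hample : CohB1.IsAmple D)
    (C : X.IdealSheafData) (hC : IsIntegral C.subscheme) (hC1 : topologicalKrullDim (C.support : Set X) = 1)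
    (hneg : FGA.intNum k X 2 ![ClSub.idealMod C, ClSub.idealMod C] (Coh.structureModule X) < 0) :
    FGA.intNum k X 2 ![ClSub.idealMod C, ClSub.idealMod C] (Coh.structureModule X) = -1 ∧
      FGA.intNum k X 2 ![ClSub.idealMod C, W] (Coh.structureModule X) = 1 ∧
      Subsingleton (Coh.HH C.subscheme (Coh.structureModule C.subscheme) 1) := by
  have hX : topologicalKrullDim X = ((2 : ℕ) : WithBot ℕ∞) := hdim
  haveI := CurvLib.isNoetherian k (X := X)
  haveI := hC
  obtain ⟨n, ι, hι, hιc⟩ := SurfNumLib.exists_embedding k hample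
  have hreg : ∀ x : X, IsRegularLocalRing (X.presheaf.stalk x) :=
    WeilExtLib.isRegular_stalk_smooth (X ↘ Spec (CommRingCat.of k))
  have hJ := SurfNumLib.isEffCartier_curve k hX hreg C hC1
  have hI := IntMultLib.isInvertible_idealMod _ hJ
  obtain ⟨e⟩ := hD
  have hWi := IntMultLib.isInvertible_of_inverse hample.1 e
  have hrr := SurfNumLib.riemann_roch hX ι hιc hW hI
  have hadd := CurvLib.euler_add_of_isCoh (k := k) (S := CurvLib.idealSeq C) (CurvLib.idealSeq_shortExact C)
    (CurvLib.isCoh_of_isInvertible hI) (DevissLib.isCoh_structureModule X) (CurvLib.isCoh_quotMod C)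
  change Curv2.euler k X (Coh.structureModule X) =
    Curv2.euler k X (ClSub.idealMod C) + Curv2.euler k X (ClSub.quotMod C) at hadd
  have hd1 : topologicalKrullDim (CohB1.support (ClSub.quotMod C)) ≤ ((1 : ℕ) : WithBot ℕ∞) := by
    rw [SurfNumLib.support_quotMod_eq, hC1, Nat.cast_one]
  rw [HodgeIdxLib.euler_eq_of_dim_one (CurvLib.isCoh_quotMod C) hd1, SurfNumLib.h0_quot] at hadd
  have hneg' := SurfNumLib.pr_effCartier_pos (k := k) hX hJ (SurfNumLib.ne_top_of_dim hC1) hample
  have hinv := HodgeIdxLib.pr_inverse (k := k) hX.le hample.1 hWi hI e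
  rw [HodgeIdxLib.pr_comm W, HodgeIdxLib.pr_comm D] at hinv
  rw [SurfNumLib.intNum_eq_pr hX.le] at hneg ⊢
  rw [SurfNumLib.intNum_eq_pr hX.le]
  letI : C.subscheme.Over (Spec (CommRingCat.of k)) := ⟨C.subschemeι ≫ (X ↘ Spec (CommRingCat.of k))⟩
  haveI : IsProper (C.subscheme ↘ Spec (CommRingCat.of k)) :=
    inferInstanceAs (IsProper (C.subschemeι ≫ (X ↘ Spec (CommRingCat.of k))))
  refine ⟨by omega, by omega, ?_⟩
  haveI := CurvLib.finite_HH (k := k) (DevissLib.isCoh_structureModule C.subscheme) 1
  refine (Module.finrank_zero_iff (R := k)).mp ?_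
  have h1 := SurfNumLib.hh_quot (k := k) C rfl 1
  rw [HodgeIdxLib.hh] at h1
  simp only [HodgeIdxLib.hh] at *
  omega

end Groth.Agent.S18438
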