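import Groth.Statements.S1844
import Groth.Agent.CubeConsLib.FieldHom

set_option autoImplicit false
universe u v
open CategoryTheory MonoidalCategory CartesianMonoidalCategory MonObj GrpObj AlgebraicGeometry
open GrpSch

namespace Groth.Agent.S1844

/-- Let A be an abelian variety over a field, L an invertible O_A-module and n ≥ 1. Then [n]^*L is
isomorphic to L^{⊗ n(n+1)/2} ⊗ ([-1]^*L)^{⊗ n(n-1)/2}, where [n] is multiplication by n and [-1] the
inversion of A. -/
theorem result (K : Type u) [Field K] (A : Over (Spec (CommRingCat.of K))) [GrpObj A] [IsProper A.hom] [GeometricallyIntegral A.hom] (L : A.left.Modules) (hL : PicF.IsInvertible L) (n : ℕ) (hn : 1 ≤ n) : Nonempty ((Scheme.Modules.pullback (𝟙 A ^ n).left).obj L ≅ CohB1.tensorMod (CohB1.tensorPow L (n * (n + 1) / 2)) (CohB1.tensorPow ((Scheme.Modules.pullback ((𝟙 A)⁻¹).left).obj L) (n * (n - 1) / 2))) := by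
  have : LocallyOfFinitePresentation A.hom := LocallyOfFinitePresentation.iff_locallyOfFiniteType.2 inferInstance
  have h := CubeConsLib.zpow_formula hL (𝟙 A) (n : ℤ)
  rw [zpow_natCast, CubeConsLib.P_zero hL, smul_zero, add_zero, CubeConsLib.P_id, CubeConsLib.P_eq hL (𝟙 A ^ n),
    show ((n : ℤ) * ((n : ℤ) + 1) / 2) = ((n * (n + 1) / 2 : ℕ) : ℤ) by push_cast; ring_nf,
    show ((n : ℤ) * ((n : ℤ) - 1) / 2) = ((n * (n - 1) / 2 : ℕ) : ℤ) by push_cast [Nat.cast_sub hn]; ring_nf,
    natCast_zsmul, natCast_zsmul, CubeConsLib.P_eq hL, ← CubeConsLib.clA_pow hL, ← CubeConsLib.clA_pow,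
    ← CubeConsLib.clA_tensor, CubeConsLib.clA_eq_iff] at h
  exact h

end Groth.Agent.S1844
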