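import Groth.Statements.S18440
import Mathlib
import Groth.Agent.SurfNumLib.RRApps
import Groth.Agent.SurfNumLib.K3
import Groth.Agent.SurfNumLib.Config
import Groth.Agent.SurfNumLib.Eff
-- import your own Groth.Agent.* helpers here

set_option autoImplicit false
universe u
open CategoryTheory CategoryTheory.Limits AlgebraicGeometry TopologicalSpace
open Surf

namespace Groth.Agent.S18440

/-- Let k be an algebraically closed field and X a smooth projective surface over k (an integral scheme,
proper and smooth over k of dimension 2) with H¹(X, O_X) = 0, and W a canonical module of X (a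
second exterior power of Ω_{X/k}). Let C ⊆ X be an integral closed one-dimensional subscheme, smooth
over k, of arithmetic genus one, written χ(O_C) = 0 with the Euler characteristic of O_C computed on
X through the closed immersion (k being algebraically closed and C integral, H⁰(C, O_C) = k, so this
says dim_k H¹(C, O_C) = 1), whose module O_X(C) — a tensor inverse N of the ideal I_C — is ample.
Then W ≅ I_C, that is ω_X ≅ O_X(−C) (existence of an isomorphism of invertible modules). (The
published statement is that a smooth del Pezzo surface of degree d embedded in projective d-space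
has canonical module O_X(−1); its argument takes C a general hyperplane section and uses about the
embedding only that C is a smooth curve of genus one and that H¹(X, O_X) vanishes, facts it draws
from results quoted without proof; those two properties are the hypotheses here.) -/
theorem result (k : Type u) [Field k] [IsAlgClosed k] (X : Scheme.{u})
    [X.Over (Spec (CommRingCat.of k))] [IsIntegral X] [IsProper (X ↘ (Spec (CommRingCat.of k)))] [Smooth (X ↘ (Spec (CommRingCat.of k)))]
    (hdim : topologicalKrullDim X = 2)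
    (W : X.Modules) (hW : ExtPow.IsExtPow 2 (Omega.sheaf (X ↘ (Spec (CommRingCat.of k)))) W)
    (hq : Subsingleton (Coh.HH X (Coh.structureModule X) 1))
    (C : X.IdealSheafData) (hC : IsIntegral C.subscheme) (hC1 : topologicalKrullDim (C.support : Set X) = 1)
    (hCs : Smooth (C.subschemeι ≫ (X ↘ (Spec (CommRingCat.of k)))))
    (hg : Curv2.euler k X (ClSub.quotMod C) = 0)
    (N : X.Modules) (hN : ClSub.IsInverseOf N (ClSub.idealMod C)) (hNample : CohB1.IsAmple N) :
    Nonempty (W ≅ ClSub.idealMod C) := by
  have hX : topologicalKrullDim X = ((2 : ℕ) : WithBot ℕ∞) := hdim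
  haveI := CurvLib.isNoetherian k (X := X)
  haveI := hC
  haveI := SurfNumLib.smoothRel_of_dim (k := k) hX
  obtain ⟨n, ι, hι, hιc⟩ := SurfNumLib.exists_embedding k hNample
  have hreg : ∀ x : X, IsRegularLocalRing (X.presheaf.stalk x) :=
    WeilExtLib.isRegular_stalk_smooth (X ↘ Spec (CommRingCat.of k))
  have hJ := SurfNumLib.isEffCartier_curve k hX hreg C hC1
  have hI := IntMultLib.isInvertible_idealMod _ hJ
  obtain ⟨e'⟩ := hN
  let e : CohB1.tensorMod (ClSub.idealMod C) N ≅ Coh.structureModule X := HilbPolyLib.swapIso _ _ ≪≫ e'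
  have hWi := SurfNumLib.isInvertible_canonical (k := k) hW
  have hrr := SurfNumLib.riemann_roch hX ι hιc hW hI
  have hadd := CurvLib.euler_add_of_isCoh (k := k) (S := CurvLib.idealSeq C) (CurvLib.idealSeq_shortExact C)
    (CurvLib.isCoh_of_isInvertible hI) (DevissLib.isCoh_structureModule X) (CurvLib.isCoh_quotMod C)
  change Curv2.euler k X (Coh.structureModule X) =
    Curv2.euler k X (ClSub.idealMod C) + Curv2.euler k X (ClSub.quotMod C) at hadd
  have hne := SurfNumLib.ne_top_of_dim hC1
  have h0I := SurfNumLib.h0_ideal_zero (k := k) hX hJ hne hNample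
  have hles := SurfNumLib.hh_les (k := k) (S := CurvLib.idealSeq C) (CurvLib.idealSeq_shortExact C)
    (CurvLib.isCoh_of_isInvertible hI) (DevissLib.isCoh_structureModule X) (CurvLib.isCoh_quotMod C)
  change HodgeIdxLib.hh k (ClSub.idealMod C) 1 + HodgeIdxLib.hh k (Coh.structureModule X) 0 ≤
      HodgeIdxLib.hh k (ClSub.idealMod C) 0 + HodgeIdxLib.hh k (ClSub.quotMod C) 0 +
        HodgeIdxLib.hh k (Coh.structureModule X) 1 at hles
  have hq0 : HodgeIdxLib.hh k (Coh.structureModule X) 1 = 0 := Module.finrank_zero_of_subsingleton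
  rw [SurfNumLib.h0_quot C, SurfNumLib.h0_structure k, hq0, h0I] at hles
  have hd := SurfNumLib.hh_dual ι hιc hW hI e 2 le_rfl
  rw [Nat.sub_self] at hd
  rw [hg, SurfNumLib.euler_eq_three hX.le, SurfNumLib.euler_eq_three hX.le, h0I, SurfNumLib.h0_structure k, hq0] at hadd
  have hpos : HodgeIdxLib.hh k (CohB1.tensorMod N W) 0 ≠ 0 := by omega
  have hdeg : HodgeIdxLib.pr k (CohB1.tensorMod N W) N = 0 := by
    rw [HodgeIdxLib.pr_tensor hX.le hNample.1 hWi hNample.1, SurfNumLib.pr_inv_inv hX.le hI hI e e,
      HodgeIdxLib.pr_comm W N, HodgeIdxLib.pr_inverse hX.le hI hNample.1 hWi e]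
    rw [SurfNumLib.euler_eq_three hX.le, SurfNumLib.euler_eq_three hX.le, h0I, SurfNumLib.h0_structure k, hq0] at hrr
    omega
  obtain ⟨f⟩ := SurfNumLib.trivial_of_section hX (HilbPolyLib.isInvertible_tensor hNample.1 hWi) hNample hpos hdeg
  let u₁ : CohB1.tensorMod W (Coh.structureModule X) ≅ W :=
    HilbPolyLib.swapIso W (Coh.structureModule X) ≪≫ HilbPolyLib.unitLeft W
  let u₂ : CohB1.tensorMod (ClSub.idealMod C) (Coh.structureModule X) ≅ ClSub.idealMod C :=
    HilbPolyLib.swapIso (ClSub.idealMod C) (Coh.structureModule X) ≪≫ HilbPolyLib.unitLeft (ClSub.idealMod C)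
  exact ⟨u₁.symm ≪≫ HilbPolyLib.congrRight W e.symm ≪≫ HilbPolyLib.leftComm W (ClSub.idealMod C) N ≪≫
    HilbPolyLib.congrRight (ClSub.idealMod C) (HilbPolyLib.swapIso W N ≪≫ f) ≪≫ u₂⟩

end Groth.Agent.S18440
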