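import Groth.Statements.S18449
import Mathlib
import Groth.Agent.SurfAmpleLib.Rational
import Groth.Agent.ExtTopLib.Top
-- import your own Groth.Agent.* helpers here

set_option autoImplicit false
universe u
open CategoryTheory CategoryTheory.Limits AlgebraicGeometry TopologicalSpace
open Surf

namespace Groth.Agent.S18449

/-- Let k be an algebraically closed field of characteristic zero and X a smooth projective surface over
k (an integral scheme, proper and smooth over k, of dimension 2). Let Z be a nonzero effective
Cartier divisor on X, given by its ideal sheaf I_Z ≠ O_X, and consider the nonzero effective Cartier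
divisors Z' ≤ Z, i.e. those with I_Z = I_{Z'} · J for some effective Cartier ideal J. Then H¹(Z',
O_{Z'}) = 0 for every such Z' if and only if χ(O_{Z'}) ≥ 1, i.e. the arithmetic genus 1 − χ(O_{Z'})
is at most 0, for every such Z'; here cohomology and Euler characteristics are computed on X through
the direct image of O_{Z'}. The published statement is about the cycles supported on the exceptional
curves of a resolution of a normal surface singularity over the complex numbers, where the first
condition is rationality of the singularity; this row states the equivalence, which the printed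
induction proves using only adjunction and the sub-divisors of the given cycle, for the sub-divisors
of one effective divisor. -/
theorem result (k : Type u) [Field k] [IsAlgClosed k] [CharZero k]
    (X : Scheme.{u}) [X.Over (Spec (CommRingCat.of k))] [IsProper (X ↘ (Spec (CommRingCat.of k)))]
    [Smooth (X ↘ (Spec (CommRingCat.of k)))] [IsIntegral X] (hdim : topologicalKrullDim X = 2)
    (Z : X.IdealSheafData) (hZ : FGA.IsEffCartier Z) (hZ0 : Z ≠ ⊤) :
    (∀ Z' J : X.IdealSheafData, FGA.IsEffCartier Z' → FGA.IsEffCartier J → Z' ≠ ⊤ → Z = Z' * J →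
        Subsingleton (Coh.HH X (ClSub.quotMod Z') 1)) ↔
      (∀ Z' J : X.IdealSheafData, FGA.IsEffCartier Z' → FGA.IsEffCartier J → Z' ≠ ⊤ → Z = Z' * J →
        1 ≤ Curv2.euler k X (ClSub.quotMod Z')) := by
  have hX : topologicalKrullDim X = ((2 : ℕ) : WithBot ℕ∞) := hdim
  haveI := CurvLib.isNoetherian k (X := X)
  constructor
  · intro h Z' J hZ' hJ hne he
    haveI := h Z' J hZ' hJ hne he
    rw [HodgeIdxLib.euler_eq_of_dim_one (CurvLib.isCoh_quotMod _) (SurfAmpleLib.support_dim_quot hX hZ'),
      show HodgeIdxLib.hh k (ClSub.quotMod Z') 1 = 0 from Module.finrank_zero_of_subsingleton]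
    have := SurfAmpleLib.one_le_h0_quot (k := k) hX hZ' hne
    omega
  · intro h Z' J hZ' hJ hne he
    obtain ⟨H, hH⟩ := SurfAmpleLib.exists_ample_of_smooth k hX
    haveI := SurfNumLib.smoothRel_of_dim (k := k) hX
    obtain ⟨W, hW⟩ := ExtTopLib.exists_isExtPow (n := 2) (CohCmpLib.rank_omega (X ↘ Spec (CommRingCat.of k)) 2)
    haveI := CurvLib.finite_HH (k := k) (CurvLib.isCoh_quotMod Z') 1
    refine Module.finrank_zero_iff (R := k).1 ?_
    exact SurfAmpleLib.h1_zero_of_genus hX _ hW hH Z' hZ' hne rfl fun Y J' hY hJ' hne' he' =>
      h Y (J' * J) hY (AlgSpRegLib.isEffCartier_mul hJ' hJ) hne' (by rw [he, he', mul_assoc])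

end Groth.Agent.S18449
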