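import Groth.Statements.S18450
import Mathlib
import Groth.Agent.SurfAmpleLib.Triv
-- import your own Groth.Agent.* helpers here

set_option autoImplicit false
universe u
open CategoryTheory CategoryTheory.Limits AlgebraicGeometry TopologicalSpace
open Surf

namespace Groth.Agent.S18450

/-- Let k be an algebraically closed field of characteristic zero and X a smooth projective surface over
k (integral, proper and smooth over k, of dimension 2). Let Z be a nonzero effective Cartier divisor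
on X (ideal sheaf I_Z ≠ O_X) which is numerically connected: whenever I_Z = I_{Z₁} · I_{Z₂} with Z₁,
Z₂ nonzero effective Cartier divisors, (Z₁·Z₂) = χ(O_X) − χ(I_{Z₁}) − χ(I_{Z₂}) + χ(I_{Z₁} ⊗ I_{Z₂})
> 0. Let L be an invertible O_X-module whose degree χ(O_C ⊗ L) − χ(O_C) is ≤ 0 on every integral
curve C contained in Z (integral closed one-dimensional C with I_Z ⊆ I_C). Then H⁰(Z, L|_Z) has
dimension at most 1 over k, and if the dimension is 1 then L|_Z ≅ O_Z (existence of an isomorphism);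
here L|_Z = O_Z ⊗ L with O_Z the direct image on X of the structure sheaf of Z. The published
statement is over the complex numbers, for a connected cycle admitting a computation sequence, which
numerical connectedness provides, and for any line bundle on Z; this row takes restrictions of
invertible O_X-modules. The converse, that the dimension is 1 when L|_Z is trivial, is not restated. -/
theorem result (k : Type u) [Field k] [IsAlgClosed k] [CharZero k]
    (X : Scheme.{u}) [X.Over (Spec (CommRingCat.of k))] [IsProper (X ↘ (Spec (CommRingCat.of k)))]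
    [Smooth (X ↘ (Spec (CommRingCat.of k)))] [IsIntegral X] (hdim : topologicalKrullDim X = 2)
    (Z : X.IdealSheafData) (hZ : FGA.IsEffCartier Z) (hZ0 : Z ≠ ⊤)
    (hnc : ∀ Z₁ Z₂ : X.IdealSheafData, FGA.IsEffCartier Z₁ → FGA.IsEffCartier Z₂ → Z₁ ≠ ⊤ → Z₂ ≠ ⊤ →
      Z = Z₁ * Z₂ → 0 < FGA.intNum k X 2 ![(ClSub.idealMod Z₁), (ClSub.idealMod Z₂)] (Coh.structureModule X))
    (L : X.Modules) (hL : PicF.IsInvertible L)
    (hdeg : ∀ C : X.IdealSheafData, IsIntegral C.subscheme → topologicalKrullDim (C.support : Set X) = 1 → Z ≤ C →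
      Curv2.euler k X (CohB1.tensorMod (ClSub.quotMod C) L) - Curv2.euler k X (ClSub.quotMod C) ≤ 0) :
    Module.finrank k (Coh.HH X (CohB1.tensorMod (ClSub.quotMod Z) L) 0) ≤ 1 ∧
      (Module.finrank k (Coh.HH X (CohB1.tensorMod (ClSub.quotMod Z) L) 0) = 1 →
        Nonempty (CohB1.tensorMod (ClSub.quotMod Z) L ≅ ClSub.quotMod Z)) := by
  have hX : topologicalKrullDim X = ((2 : ℕ) : WithBot ℕ∞) := hdim
  haveI := CurvLib.isNoetherian k (X := X)
  have hnc' : ∀ Z₁ Z₂ : X.IdealSheafData, BlowUp.IsEffCartierIdeal Z₁ → BlowUp.IsEffCartierIdeal Z₂ → Z₁ ≠ ⊤ → Z₂ ≠ ⊤ →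
      Z = Z₁ * Z₂ → 0 < HodgeIdxLib.pr k (ClSub.idealMod Z₁) (ClSub.idealMod Z₂) := fun Z₁ Z₂ h₁ h₂ n₁ n₂ he => by
    rw [← SurfNumLib.intNum_eq_pr hX.le]
    exact hnc Z₁ Z₂ h₁ h₂ n₁ n₂ he
  have hgrow : ∀ Y R : X.IdealSheafData, BlowUp.IsEffCartierIdeal Y → BlowUp.IsEffCartierIdeal R → Y ≠ ⊤ → R ≠ ⊤ →
      Z = Y * R → ∃ c : X, topologicalKrullDim (closure ({c} : Set X)) = ((1 : ℕ) : WithBot ℕ∞) ∧ c ∈ R.support ∧
        IntFunLib.N k [ClSub.idealMod Y] (IntFunLib.Fpt c) < 0 := fun Y R hY hR hYne hRne he =>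
    SurfAmpleLib.exists_curve_neg (k := k) hX hR (IntMultLib.isInvertible_idealMod Y hY) (by
      rw [HodgeIdxLib.pr_comm]; exact hnc' Y R hY hR hYne hRne he)
  have hdeg' : ∀ c : X, topologicalKrullDim (closure ({c} : Set X)) = ((1 : ℕ) : WithBot ℕ∞) → Z ≤ IntMultLib.ptIdeal c →
      IntFunLib.N k [L] (IntFunLib.Fpt c) ≤ 0 := fun c hc hle => by
    haveI := IntMultLib.isIntegral_ptIdeal c
    have h := hdeg (IntMultLib.ptIdeal c) inferInstance (by rw [IntFunLib.dim_ptIdeal, hc, Nat.cast_one]) hle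
    rw [IntFunLib.N, IntFunLib.N, IntFunLib.N]
    rw [CurvLib.euler_congr (HilbPolyLib.swapIso (ClSub.quotMod (IntMultLib.ptIdeal c)) L)] at h
    exact h
  have h1 := SurfAmpleLib.h0_le_one (k := k) hX hZ hZ0 hnc' hL hdeg'
  let e := HilbPolyLib.swapIso L (ClSub.quotMod Z)
  constructor
  · exact ((HodgeIdxLib.hh_congr (k := k) e 0).symm.trans_le h1)
  · intro h
    obtain ⟨i⟩ := SurfAmpleLib.nonempty_iso_of_h0 (k := k) hX hZ hgrow hL hdeg' (by
      rw [HodgeIdxLib.hh_congr (k := k) e 0]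
      exact fun h0 => absurd (h.symm.trans h0) one_ne_zero)
    exact ⟨e.symm ≪≫ i⟩

end Groth.Agent.S18450
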