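import Groth.Statements.S18451
import Mathlib
import Groth.Agent.SurfNumLib.Config
-- import your own Groth.Agent.* helpers here

set_option autoImplicit false
universe u
open CategoryTheory CategoryTheory.Limits AlgebraicGeometry TopologicalSpace
open Surf

namespace Groth.Agent.S18451

/-- Let k be an algebraically closed field of characteristic zero and X a smooth projective surface over
k (integral, proper and smooth over k, of dimension 2, carrying an ample invertible module). Let
C_1, …, C_r be pairwise distinct integral curves on X (integral closed one-dimensional subschemes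
with ideal sheaves I_1, …, I_r) and write G_{ij} = (I_i·I_j) = χ(O_X) − χ(I_i) − χ(I_j) + χ(I_i ⊗
I_j) for their intersection matrix. Suppose the classes of the C_i span a negative definite
sublattice modulo numerical equivalence: for every integer vector a such that Σ_i a_i [C_i] is
numerically nontrivial, meaning that Σ_i a_i (I_i·M) ≠ 0 for some invertible O_X-module M, one has
Σ_{i,j} a_i a_j G_{ij} < 0. Then the classes are linearly independent, i.e. G itself is negative
definite: Σ_{i,j} a_i a_j G_{ij} < 0 for every nonzero integer vector a. -/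
theorem result (k : Type u) [Field k] [IsAlgClosed k] [CharZero k]
    (X : Scheme.{u}) [X.Over (Spec (CommRingCat.of k))] [IsProper (X ↘ (Spec (CommRingCat.of k)))]
    [Smooth (X ↘ (Spec (CommRingCat.of k)))] [IsIntegral X] (hdim : topologicalKrullDim X = 2)
    (hproj : ∃ H : X.Modules, CohB1.IsAmple H)
    (r : ℕ) (C : Fin r → X.IdealSheafData) (hC : Function.Injective C)
    (hCi : ∀ i, IsIntegral (C i).subscheme) (hCd : ∀ i, topologicalKrullDim ((C i).support : Set X) = 1)
    (hneg : ∀ a : Fin r → ℤ,
      (∃ M : X.Modules, PicF.IsInvertible M ∧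
        ∑ i, a i * FGA.intNum k X 2 ![(ClSub.idealMod (C i)), M] (Coh.structureModule X) ≠ 0) →
      ∑ i, ∑ j, a i * a j * FGA.intNum k X 2 ![(ClSub.idealMod (C i)), (ClSub.idealMod (C j))] (Coh.structureModule X) < 0) :
    ∀ a : Fin r → ℤ, a ≠ 0 →
      ∑ i, ∑ j, a i * a j * FGA.intNum k X 2 ![(ClSub.idealMod (C i)), (ClSub.idealMod (C j))] (Coh.structureModule X) < 0 := by
  have hX : topologicalKrullDim X = ((2 : ℕ) : WithBot ℕ∞) := hdim
  have hreg : ∀ x : X, IsRegularLocalRing (X.presheaf.stalk x) :=
    WeilExtLib.isRegular_stalk_smooth (X ↘ Spec (CommRingCat.of k))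
  obtain ⟨H, hH⟩ := hproj
  have hcart : ∀ i, BlowUp.IsEffCartierIdeal (C i) := fun i => by
    haveI := hCi i
    exact SurfNumLib.isEffCartier_curve k hX hreg (C i) (hCd i)
  have hinv : ∀ i, PicF.IsInvertible (ClSub.idealMod (C i)) := fun i => IntMultLib.isInvertible_idealMod _ (hcart i)
  have hG : ∀ i j, i ≠ j → 0 ≤ HodgeIdxLib.pr k (ClSub.idealMod (C i)) (ClSub.idealMod (C j)) := fun i j hij => by
    haveI := hCi i; haveI := hCi j
    exact SurfNumLib.pr_curves_nonneg (hcart i) (hcart j) (hCd j)
      (SurfNumLib.not_subset_of_ne (hCd i) (hCd j) fun h => hij (hC h))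
  have hh : ∀ i, HodgeIdxLib.pr k (ClSub.idealMod (C i)) H < 0 := fun i => SurfNumLib.pr_effCartier_pos hX (hcart i)
    (fun h => by
      have h1 := hCd i
      rw [h, Scheme.IdealSheafData.support_top] at h1
      have h2 : topologicalKrullDim (↥((⊥ : TopologicalSpace.Closeds X) : Set X)) = ⊥ := by
        haveI : IsEmpty (TopologicalSpace.IrreducibleCloseds ↥((⊥ : TopologicalSpace.Closeds X) : Set X)) :=
          ⟨fun c => by obtain ⟨x, -⟩ := c.isIrreducible.nonempty; exact x.2⟩
        exact Order.krullDim_eq_bot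
      rw [h2] at h1
      simp at h1) hH
  simp only [SurfNumLib.intNum_eq_pr_two hdim] at *
  intro a ha
  by_contra hn
  have hall : ∀ M : X.Modules, PicF.IsInvertible M → ∑ i, a i * HodgeIdxLib.pr k (ClSub.idealMod (C i)) M = 0 :=
    fun M hM => by_contra fun h0 => hn (hneg a ⟨M, hM, h0⟩)
  have key : ∀ b : Fin r → ℤ, (∀ M : X.Modules, PicF.IsInvertible M → ∑ i, b i * HodgeIdxLib.pr k (ClSub.idealMod (C i)) M = 0) →
      ∀ i, b i ≤ 0 := by
    intro b hb i
    by_contra hi
    push Not at hi
    have h1 := SurfNumLib.parts_nonneg _ hG b (fun _ => 0) (fun _ => le_rfl) fun j => hb _ (hinv j)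
    have h2 : ∑ l, max (b l) 0 * HodgeIdxLib.pr k (ClSub.idealMod (C l)) H < 0 :=
      Finset.sum_neg' (fun l _ => mul_nonpos_of_nonneg_of_nonpos (le_max_right _ _) (hh l).le)
        ⟨i, Finset.mem_univ _, mul_neg_of_pos_of_neg (lt_max_of_lt_left hi) (hh i)⟩
    have h3 := hneg (fun l => max (b l) 0) ⟨H, hH.1, h2.ne⟩

    linarith
  refine ha (funext fun i => le_antisymm (key a hall i) ?_)
  have := key (fun l => -a l) (fun M hM => by simp only [neg_mul, Finset.sum_neg_distrib, hall M hM, neg_zero]) i
  simpa using this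

end Groth.Agent.S18451
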