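import Groth.Statements.S18454
import Mathlib
import Groth.Agent.SurfAmpleLib.Fundamental
-- import your own Groth.Agent.* helpers here

set_option autoImplicit false
universe u
open CategoryTheory CategoryTheory.Limits AlgebraicGeometry TopologicalSpace
open Surf

namespace Groth.Agent.S18454

/-- Let k be an algebraically closed field of characteristic zero and X a smooth projective surface over
k (integral, proper and smooth over k, of dimension 2). Let C_1, …, C_r (r ≥ 1) be pairwise distinct
integral curves on X, with ideal sheaves I_i, forming a connected configuration whose intersection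
matrix is negative definite: writing (A·B) = χ(O_X) − χ(A) − χ(B) + χ(A ⊗ B), there is no partition
of the indices into two nonempty sets with (I_i·I_j) = 0 for all i, j on opposite sides, and Σ_{i,j}
a_i a_j (I_i·I_j) < 0 for every nonzero integer vector a. Let Z₀ be a fundamental cycle of the
configuration: a nonzero effective Cartier divisor supported on ⋃ C_i such that Z₀·C_i ≤ 0 for every
i, stated as deg(I_{Z₀}|_{C_i}) = χ(O_{C_i} ⊗ I_{Z₀}) − χ(O_{C_i}) ≥ 0, and such that every nonzero
effective Cartier divisor Z supported on ⋃ C_i with the same property satisfies Z ≥ Z₀ (I_Z ⊆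
I_{Z₀}). Then H¹(Z, O_Z) = 0 for every nonzero effective Cartier divisor Z supported on ⋃ C_i if and
only if χ(O_{Z₀}) = 1, i.e. the arithmetic genus of Z₀ is 0; cohomology and Euler characteristics
are computed on X through direct images. The published statement characterises rationality of the
normal surface singularity obtained by contracting the configuration over the complex numbers; this
row uses the equivalent condition that H¹(O_Z) = 0 for every nonzero effective divisor Z supported
on the configuration, which is what the printed algebraic argument establishes. -/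
theorem result (k : Type u) [Field k] [IsAlgClosed k] [CharZero k]
    (X : Scheme.{u}) [X.Over (Spec (CommRingCat.of k))] [IsProper (X ↘ (Spec (CommRingCat.of k)))]
    [Smooth (X ↘ (Spec (CommRingCat.of k)))] [IsIntegral X] (hdim : topologicalKrullDim X = 2)
    (r : ℕ) (hr : 0 < r) (C : Fin r → X.IdealSheafData) (hC : Function.Injective C)
    (hCi : ∀ i, IsIntegral (C i).subscheme) (hCd : ∀ i, topologicalKrullDim ((C i).support : Set X) = 1)
    (hconn : ∀ S : Finset (Fin r), S.Nonempty → Sᶜ.Nonempty →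
      ∃ i ∈ S, ∃ j ∈ Sᶜ, FGA.intNum k X 2 ![(ClSub.idealMod (C i)), (ClSub.idealMod (C j))] (Coh.structureModule X) ≠ 0)
    (hneg : ∀ a : Fin r → ℤ, a ≠ 0 →
      ∑ i, ∑ j, a i * a j * FGA.intNum k X 2 ![(ClSub.idealMod (C i)), (ClSub.idealMod (C j))] (Coh.structureModule X) < 0)
    (Z₀ : X.IdealSheafData) (hZ₀ : FGA.IsEffCartier Z₀) (hZ₀0 : Z₀ ≠ ⊤)
    (hZ₀s : (Z₀.support : Set X) ⊆ ⋃ i, ((C i).support : Set X))
    (hZ₀C : ∀ i, 0 ≤ Curv2.euler k X (CohB1.tensorMod (ClSub.quotMod (C i)) (ClSub.idealMod Z₀)) -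
      Curv2.euler k X (ClSub.quotMod (C i)))
    (hZ₀min : ∀ Z : X.IdealSheafData, FGA.IsEffCartier Z → Z ≠ ⊤ → (Z.support : Set X) ⊆ ⋃ i, ((C i).support : Set X) →
      (∀ i, 0 ≤ Curv2.euler k X (CohB1.tensorMod (ClSub.quotMod (C i)) (ClSub.idealMod Z)) -
        Curv2.euler k X (ClSub.quotMod (C i))) → Z ≤ Z₀) :
    (∀ Z : X.IdealSheafData, FGA.IsEffCartier Z → Z ≠ ⊤ → (Z.support : Set X) ⊆ ⋃ i, ((C i).support : Set X) →
        Subsingleton (Coh.HH X (ClSub.quotMod Z) 1)) ↔
      Curv2.euler k X (ClSub.quotMod Z₀) = 1 := by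
  have hX : topologicalKrullDim X = ((2 : ℕ) : WithBot ℕ∞) := hdim
  haveI := CurvLib.isNoetherian k (X := X)
  have hdim1 := SurfAmpleLib.support_dim_quot hX hZ₀
  have hdeg : ∀ (Y : X.IdealSheafData) (i : Fin r),
      Curv2.euler k X (CohB1.tensorMod (ClSub.quotMod (C i)) (ClSub.idealMod Y)) - Curv2.euler k X (ClSub.quotMod (C i)) =
        IntFunLib.N k [ClSub.idealMod Y] (ClSub.quotMod (C i)) := fun Y i => by
    rw [IntFunLib.N, IntFunLib.N, IntFunLib.N, CurvLib.euler_congr (HilbPolyLib.swapIso (ClSub.quotMod (C i)) (ClSub.idealMod Y))]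
  have hZC : ∀ i, 0 ≤ IntFunLib.N k [ClSub.idealMod Z₀] (ClSub.quotMod (C i)) := fun i => hdeg Z₀ i ▸ hZ₀C i
  have h0 : HodgeIdxLib.hh k (ClSub.quotMod Z₀) 0 = 1 :=
    SurfAmpleLib.h0_fundamental hX hCi hCd hZ₀ hZ₀0 hZ₀s hZC fun Z hZ hne hs hnef =>
      hZ₀min Z hZ hne hs fun i => by rw [hdeg Z i]; exact hnef i
  rw [HodgeIdxLib.euler_eq_of_dim_one (CurvLib.isCoh_quotMod _) hdim1, h0]
  constructor
  · intro h
    haveI := h Z₀ hZ₀ hZ₀0 hZ₀s
    rw [show HodgeIdxLib.hh k (ClSub.quotMod Z₀) 1 = 0 from Module.finrank_zero_of_subsingleton]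
    simp
  · intro h Z hZ hne hs
    have h1 : HodgeIdxLib.hh k (ClSub.quotMod Z₀) 1 = 0 := by omega
    have hall : ∀ i, ((C i).support : Set X) ⊆ (Z₀.support : Set X) :=
      SurfAmpleLib.subset_support_of_connected (k := k) hX hC hCi hCd
        (fun S hS hS' => by simpa only [SurfNumLib.intNum_eq_pr hX.le] using hconn S hS hS') hZ₀ hZ₀0 hZ₀s hZC
    obtain ⟨n, hn⟩ := Groth.Agent.S2313.exists_pow_le X Z Z₀ (fun x hx => by
      obtain ⟨i, hi⟩ := Set.mem_iUnion.1 (hs hx)
      exact hall i hi)
    have hn' : Z₀ ^ (n + 1) ≤ Z := (le_trans (by rw [pow_succ]; exact SurfAmpleLib.mul_le_left' _ _) hn)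
    obtain ⟨R, hR, hRe⟩ := SurfAmpleLib.exists_eq_mul (SurfAmpleLib.isEffCartier_pow' hZ₀ (n + 1)) hZ hn'
    have hle := SurfAmpleLib.h1_quot_le (k := k) hX hZ hR
    rw [hRe, SurfAmpleLib.h1_pow_zero (k := k) hX hZ₀ hZ₀0 h1 (fun c hc hcZ => ?_) n] at hle
    · haveI := CurvLib.finite_HH (k := k) (CurvLib.isCoh_quotMod Z) 1
      exact Module.finrank_zero_iff (R := k).1 (Nat.le_zero.mp hle)
    · have hcm : c ∈ Z₀.support := Scheme.IdealSheafData.le_support_iff_le_vanishingIdeal.2 hcZ (subset_closure rfl)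
      obtain ⟨i, hi⟩ := Set.mem_iUnion.1 (hZ₀s hcm)
      haveI := hCi i
      have hp := IntFunLib.eq_ptIdeal (C i)
      have hpd := IntFunLib.dim_generic_of_support (C i)
      rw [hp, Scheme.IdealSheafData.coe_support_vanishingIdeal] at hi
      rw [hCd i] at hpd
      have he := IntMultLib.eq_of_specializes_of_dim isClosed_closure (d := 1) (Y := closure {(C i).subschemeι (genericPoint ↥(C i).subscheme)})
        (le_of_eq (by rw [hpd, Nat.cast_one])) hc (subset_closure rfl) (specializes_iff_mem_closure.mpr hi)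
      have hz := hZC i
      rw [hp, he] at hz
      exact hz

end Groth.Agent.S18454
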