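import Groth.Statements.S18455
import Groth.Agent.StrictCurveLib.Main
import Groth.Agent.PnDualLib.ProjAlg
-- import your own Groth.Agent.* helpers here

set_option autoImplicit false
universe u
open CategoryTheory CategoryTheory.Limits AlgebraicGeometry TopologicalSpace
open Surf

namespace Groth.Agent.S18455

/-- Let k be an algebraically closed field of characteristic zero and X a smooth projective surface over
k (integral, proper and smooth over k, of dimension 2) with canonical module W, a second exterior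
power of Ω_{X/k}. Let x be a closed point of X and π : X' → X a blowing up of X in the ideal of x
(characterised by its universal property), with X' again an integral scheme of dimension 2, proper
and smooth over k through π, W' a canonical module of X' and I_E the exceptional ideal (the inverse
image of the ideal of x). Let C be an integral curve on X with ideal I_C and C' an integral curve on
X' with ideal I_{C'}, such that the inverse image ideal of C on X' equals I_{C'} · I_E^m for some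
natural number m; thus C' is the proper transform of C and m the multiplicity of C at x. Writing
(A·B) = χ(O) − χ(A) − χ(B) + χ(A ⊗ B) for intersection numbers on X and on X', one has
(I_{C'}·I_{C'}) − (I_{C'}·W') = (I_C·I_C) − (I_C·W) − m(m − 1); in terms of arithmetic genera
2p_a(C') − 2 = K'·C' + C'² = K·C + C² − m(m−1) = 2p_a(C) − 2 − m(m−1), so p_a drops by m(m−1)/2. -/
theorem result (k : Type u) [Field k] [IsAlgClosed k] [CharZero k]
    (X : Scheme.{u}) [X.Over (Spec (CommRingCat.of k))] [IsProper (X ↘ (Spec (CommRingCat.of k)))]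
    [Smooth (X ↘ (Spec (CommRingCat.of k)))] [IsIntegral X] (hdim : topologicalKrullDim X = 2)
    (W : X.Modules) (hW : ExtPow.IsExtPow 2 (Omega.sheaf (X ↘ (Spec (CommRingCat.of k)))) W)
    (x : X) (hx : IsClosed ({x} : Set X))
    (X' : Scheme.{u}) (π : X' ⟶ X) (hπ : BlowUp.IsBlowUp π (Scheme.IdealSheafData.vanishingIdeal ⟨{x}, hx⟩))
    [IsIntegral X'] (hdim' : topologicalKrullDim X' = 2)
    [IsProper (π ≫ (X ↘ (Spec (CommRingCat.of k))))] [Smooth (π ≫ (X ↘ (Spec (CommRingCat.of k))))]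
    (W' : X'.Modules) (hW' : ExtPow.IsExtPow 2 (Omega.sheaf (π ≫ (X ↘ (Spec (CommRingCat.of k))))) W')
    (C : X.IdealSheafData) (hCi : IsIntegral C.subscheme) (hCd : topologicalKrullDim (C.support : Set X) = 1)
    (C' : X'.IdealSheafData) (hC'i : IsIntegral C'.subscheme) (hC'd : topologicalKrullDim (C'.support : Set X') = 1)
    (m : ℕ) (hm : C.comap π = C' * (BlowUp.exceptional π (Scheme.IdealSheafData.vanishingIdeal ⟨{x}, hx⟩)) ^ m) :
    letI : X'.Over (Spec (CommRingCat.of k)) := ⟨π ≫ (X ↘ (Spec (CommRingCat.of k)))⟩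
    FGA.intNum k X' 2 ![(ClSub.idealMod C'), (ClSub.idealMod C')] (Coh.structureModule X') -
        FGA.intNum k X' 2 ![(ClSub.idealMod C'), W'] (Coh.structureModule X') =
      FGA.intNum k X 2 ![(ClSub.idealMod C), (ClSub.idealMod C)] (Coh.structureModule X) -
        FGA.intNum k X 2 ![(ClSub.idealMod C), W] (Coh.structureModule X) - (m : ℤ) * ((m : ℤ) - 1) := by
  letI : X'.Over (Spec (CommRingCat.of k)) := ⟨π ≫ (X ↘ (Spec (CommRingCat.of k)))⟩
  haveI : IsProper (X' ↘ Spec (CommRingCat.of k)) := ‹IsProper (π ≫ _)›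
  haveI : Smooth (X' ↘ Spec (CommRingCat.of k)) := ‹Smooth (π ≫ _)›
  haveI := CurvLib.isNoetherian k (X := X)
  haveI := CurvLib.isNoetherian k (X := X')
  have hreg := fun y : X => WeilExtLib.isRegular_stalk_smooth (X ↘ Spec (CommRingCat.of k)) y
  haveI := hreg x
  have hd2 : ringKrullDim (X.presheaf.stalk x) = ((2 : ℕ) : WithBot ℕ∞) :=
    PnDualLib.dim_stalk_closed (k := k) hreg (d := 2) hdim x hx
  have hover : π ≫ (X ↘ Spec (CommRingCat.of k)) = X' ↘ Spec (CommRingCat.of k) := rfl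
  obtain ⟨⟨eW⟩, -⟩ := CanonBlowFieldLib.canonical_blowUp (k := k) hdim hdim' π hover x hx hd2 hπ hW hW'
  haveI : SmoothOfRelativeDimension 2 (X ↘ Spec (CommRingCat.of k)) :=
    SurfNumLib.smoothRel_of_dim (k := k) (X := X) (by rw [hdim]; rfl)
  haveI : SmoothOfRelativeDimension 2 (X' ↘ Spec (CommRingCat.of k)) :=
    SurfNumLib.smoothRel_of_dim (k := k) (X := X') (by rw [hdim']; rfl)
  have hWi := SurfNumLib.isInvertible_canonical (k := k) hW
  have hWi' := SurfNumLib.isInvertible_canonical (k := k) hW'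
  haveI := hCi
  haveI := hC'i
  have hCc : BlowUp.IsEffCartierIdeal C := SurfNumLib.isEffCartier_curve k (X := X) hdim hreg C hCd
  have hC'c : BlowUp.IsEffCartierIdeal C' := SurfNumLib.isEffCartier_curve k (X := X') hdim'
    (fun z => WeilExtLib.isRegular_stalk_smooth (X' ↘ Spec (CommRingCat.of k)) z) C' hC'd
  have hc := IntMultLib.isInvertible_idealMod _ hCc
  have hc' := IntMultLib.isInvertible_idealMod _ hC'c
  have hI := NumBlowLib.excI_invertible π x hx hπ
  have hX2 : topologicalKrullDim X' ≤ ((2 : ℕ) : WithBot ℕ∞) := hdim'.le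
  let E := NumBlowLib.excI π x hx
  have hEm : ∀ n : ℕ, BlowUp.IsEffCartierIdeal (E ^ n) := fun n => PtBlowLib.isEffCartier_pow hπ.1 n
  have hpow : ∀ n : ℕ, ∀ {Q : X'.Modules}, PicF.IsInvertible Q →
      HodgeIdxLib.pr k (ClSub.idealMod (E ^ n)) Q = n * HodgeIdxLib.pr k (ClSub.idealMod E) Q := by
    intro n
    induction n with
    | zero =>
      intro Q _
      obtain ⟨e⟩ := BlowPtLib.nonempty_idealMod_top X'
      rw [Nat.cast_zero, zero_mul, pow_zero, Scheme.IdealSheafData.one_eq_top, HodgeIdxLib.pr,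
        HodgeIdxLib.N_congr_head e]
      exact HodgeIdxLib.pr_unit Q
    | succ n ih =>
      intro Q hQ
      obtain ⟨e⟩ := SurfNumLib.nonempty_idealMod_mul (hEm n) hπ.1
      rw [pow_succ, HodgeIdxLib.pr, ← HodgeIdxLib.N_congr_head e, ← HodgeIdxLib.pr,
        HodgeIdxLib.pr_tensor hX2 (IntMultLib.isInvertible_idealMod _ (hEm n)) hI hQ, ih hQ]
      push_cast
      ring
  haveI := NumBlowLib.surjective (k := k) π x hx hd2 hπ
  obtain ⟨a⟩ := SymSqLib.nonempty_pb_ideal (f := π) (K := C) hc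
    (IntMultLib.isInvertible_idealMod _ (EffDivSurfLib.isEffCartier_comap hCc π))
  obtain ⟨b⟩ := SurfNumLib.nonempty_idealMod_mul hC'c (hEm m)
  have key1 : ∀ {Q : X'.Modules}, PicF.IsInvertible Q → HodgeIdxLib.pr k (KFlatLib.pb π (ClSub.idealMod C)) Q =
      HodgeIdxLib.pr k (ClSub.idealMod C') Q + m * HodgeIdxLib.pr k (ClSub.idealMod E) Q := fun {Q} hQ => by
    rw [← hpow m hQ, ← HodgeIdxLib.pr_tensor hX2 hc' (IntMultLib.isInvertible_idealMod _ (hEm m)) hQ,
      HodgeIdxLib.pr, HodgeIdxLib.pr,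
      HodgeIdxLib.N_congr_head (a ≪≫ CategoryTheory.eqToIso (congrArg ClSub.idealMod hm) ≪≫ b.symm)]
  have key2 : ∀ {Q : X'.Modules}, PicF.IsInvertible Q → HodgeIdxLib.pr k (KFlatLib.pb π W) Q =
      HodgeIdxLib.pr k W' Q + HodgeIdxLib.pr k (ClSub.idealMod E) Q := fun {Q} hQ => by
    rw [← HodgeIdxLib.pr_tensor hX2 hWi' hI hQ, HodgeIdxLib.pr, HodgeIdxLib.pr, HodgeIdxLib.N_congr_head eW.symm]
  obtain ⟨hcc, hcE, hEE⟩ := BlowRegLib.intersection_rules (k := k) (π := π) hover x hx hd2 hπ hc hc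
  obtain ⟨hcW, -, -⟩ := BlowRegLib.intersection_rules (k := k) (π := π) hover x hx hd2 hπ hc hWi
  have hP := AmpleDevLib.isInvertible_pb π hc
  have hPW := AmpleDevLib.isInvertible_pb π hWi
  have j1 := key1 hI
  have j2 := key1 hP
  have j3 := key1 hc'
  have j4 := key2 hc'
  have j5 := key1 hPW
  rw [SurfNumLib.intNum_eq_pr_two hdim', SurfNumLib.intNum_eq_pr_two hdim', SurfNumLib.intNum_eq_pr_two hdim,
    SurfNumLib.intNum_eq_pr_two hdim]
  simp only [E, NumBlowLib.excI] at j1 j2 j3 j4 j5 hcc hcE hEE hcW ⊢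
  obtain ⟨-, hWE, -⟩ := BlowRegLib.intersection_rules (k := k) (π := π) hover x hx hd2 hπ hWi hWi
  rw [hcE, hEE] at j1
  rw [hcc, HodgeIdxLib.pr_comm (k := k) (ClSub.idealMod (BlowUp.exceptional π (Scheme.IdealSheafData.vanishingIdeal ⟨{x}, hx⟩)))
    (KFlatLib.pb π (ClSub.idealMod C)), hcE, HodgeIdxLib.pr_comm (k := k) (ClSub.idealMod C') (KFlatLib.pb π (ClSub.idealMod C))] at j2
  rw [hcW, HodgeIdxLib.pr_comm (k := k) (ClSub.idealMod (BlowUp.exceptional π (Scheme.IdealSheafData.vanishingIdeal ⟨{x}, hx⟩)))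
    (KFlatLib.pb π W), hWE, HodgeIdxLib.pr_comm (k := k) (ClSub.idealMod C') (KFlatLib.pb π W)] at j5
  rw [HodgeIdxLib.pr_comm (k := k) (ClSub.idealMod (BlowUp.exceptional π (Scheme.IdealSheafData.vanishingIdeal ⟨{x}, hx⟩)))
    (ClSub.idealMod C')] at j3 j4
  rw [HodgeIdxLib.pr_comm (k := k) W' (ClSub.idealMod C')] at j4
  linear_combination j4 - j3 + j5 - j2 + ((m:ℤ) - 1) * j1

end Groth.Agent.S18455
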