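import Groth.Statements.S18456
import Mathlib
import Groth.Agent.SurfAmpleLib.Class
import Groth.Agent.ExtTopLib.Top
-- import your own Groth.Agent.* helpers here

set_option autoImplicit false
universe u
open CategoryTheory CategoryTheory.Limits AlgebraicGeometry TopologicalSpace
open Surf

namespace Groth.Agent.S18456

/-- Let k be an algebraically closed field of characteristic zero and X a smooth projective surface over
k (integral, proper and smooth over k, of dimension 2). Let C_1, …, C_r be pairwise distinct
integral curves on X with ideal sheaves I_i, each with H¹(C_i, O_{C_i}) = 0 (so C_i ≅ P¹) and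
self-intersection (I_i·I_i) = −2, and with negative definite intersection matrix: Σ_{i,j} a_i a_j
(I_i·I_j) < 0 for every nonzero integer vector a, where (A·B) = χ(O_X) − χ(A) − χ(B) + χ(A ⊗ B).
Then H¹(Z, O_Z) = 0 for every nonzero effective Cartier divisor Z on X supported on ⋃ C_i,
cohomology computed on X through the direct image of O_Z. The published statement concludes that the
singularity obtained by contracting the configuration over the complex numbers is rational; the
vanishing for all supported nonzero effective divisors is the form of rationality the printed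
argument establishes, and this row states that form. -/
theorem result (k : Type u) [Field k] [IsAlgClosed k] [CharZero k]
    (X : Scheme.{u}) [X.Over (Spec (CommRingCat.of k))] [IsProper (X ↘ (Spec (CommRingCat.of k)))]
    [Smooth (X ↘ (Spec (CommRingCat.of k)))] [IsIntegral X] (hdim : topologicalKrullDim X = 2)
    (r : ℕ) (C : Fin r → X.IdealSheafData) (hC : Function.Injective C)
    (hCi : ∀ i, IsIntegral (C i).subscheme) (hCd : ∀ i, topologicalKrullDim ((C i).support : Set X) = 1)
    (hCrat : ∀ i, Subsingleton (Coh.HH X (ClSub.quotMod (C i)) 1))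
    (hC2 : ∀ i, FGA.intNum k X 2 ![(ClSub.idealMod (C i)), (ClSub.idealMod (C i))] (Coh.structureModule X) = -2)
    (hneg : ∀ a : Fin r → ℤ, a ≠ 0 →
      ∑ i, ∑ j, a i * a j * FGA.intNum k X 2 ![(ClSub.idealMod (C i)), (ClSub.idealMod (C j))] (Coh.structureModule X) < 0)
    (Z : X.IdealSheafData) (hZ : FGA.IsEffCartier Z) (hZ0 : Z ≠ ⊤)
    (hZs : (Z.support : Set X) ⊆ ⋃ i, ((C i).support : Set X)) :
    Subsingleton (Coh.HH X (ClSub.quotMod Z) 1) := by
  have hX : topologicalKrullDim X = ((2 : ℕ) : WithBot ℕ∞) := hdim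
  haveI := CurvLib.isNoetherian k (X := X)
  haveI := SurfNumLib.smoothRel_of_dim (k := k) hX
  obtain ⟨H, hH⟩ := SurfAmpleLib.exists_ample_of_smooth k hX
  obtain ⟨W, hW⟩ := ExtTopLib.exists_isExtPow (n := 2) (CohCmpLib.rank_omega (X ↘ Spec (CommRingCat.of k)) 2)
  have hWi := SurfAmpleLib.isInvertible_canonical hX hW
  have hcart : ∀ i, BlowUp.IsEffCartierIdeal (C i) := fun i => by
    haveI := hCi i
    exact SurfAmpleLib.isEffCartier_curve' k hX (C i) (hCd i)
  have hCW : ∀ i, HodgeIdxLib.pr k (ClSub.idealMod (C i)) W = 0 := fun i => by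
    haveI := hCi i
    haveI := hCrat i
    have h := SurfAmpleLib.curve_adjunction hX hW (C i) (hCd i)
    have h2 := hC2 i
    rw [SurfNumLib.intNum_eq_pr hX.le] at h2
    rw [show HodgeIdxLib.hh k (ClSub.quotMod (C i)) 1 = 0 from Module.finrank_zero_of_subsingleton, h2] at h
    omega
  haveI := CurvLib.finite_HH (k := k) (CurvLib.isCoh_quotMod Z) 1
  refine Module.finrank_zero_iff (R := k).1 ?_
  refine SurfAmpleLib.h1_zero_of_genus hX _ hW hH Z hZ hZ0 rfl fun Y J hY hJ hne he => ?_
  have hle : (Y.support : Set X) ⊆ (Z.support : Set X) := fun x hx => by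
    rw [he, Scheme.IdealSheafData.support_mul]
    exact Or.inl hx
  obtain ⟨a, ha0, hkey, -, hpos⟩ := SurfAmpleLib.exists_class (k := k) hX hC hCi hCd hcart hY (hle.trans hZs)
  have hnemp : (Y.support : Set X).Nonempty := by
    by_contra h0
    refine hne ((Scheme.IdealSheafData.support_eq_bot_iff (I := Y)).mp (SetLike.ext fun x => iff_of_false ?_ ?_))
    · exact fun hx => h0 ⟨x, hx⟩
    · exact id
  obtain ⟨i₀, hi₀⟩ := hpos hnemp H hH
  have hIY := IntMultLib.isInvertible_idealMod Y hY
  have h1 := SurfAmpleLib.adjunction hX hW hY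
  have h2 : HodgeIdxLib.pr k (ClSub.idealMod Y) W = 0 := by
    rw [hkey W hWi]; simp [hCW]
  have h3 : HodgeIdxLib.pr k (ClSub.idealMod Y) (ClSub.idealMod Y) < 0 := by
    have hinv : ∀ i, PicF.IsInvertible (ClSub.idealMod (C i)) := fun i => IntMultLib.isInvertible_idealMod _ (hcart i)
    rw [hkey _ hIY]
    simp only [fun i => HodgeIdxLib.pr_comm (k := k) (ClSub.idealMod (C i)) (ClSub.idealMod Y), fun i => hkey _ (hinv i),
      Finset.mul_sum]
    have h4 := hneg a (fun h => hi₀.ne' (congrFun h i₀))
    simp only [SurfNumLib.intNum_eq_pr hX.le] at h4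
    refine lt_of_eq_of_lt ?_ h4
    refine Finset.sum_congr rfl fun i _ => Finset.sum_congr rfl fun j _ => ?_
    rw [HodgeIdxLib.pr_comm (k := k) (ClSub.idealMod (C j))]
    ring
  omega

end Groth.Agent.S18456
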