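import Groth.Statements.S18457
import Mathlib


-- import your own Groth.Agent.* helpers here

set_option autoImplicit false
open Finset
open Surf

namespace Groth.Agent.S18457

/-- In the Picard lattice of the plane blown up at n ≤ 8 points, with basis h, e_1, …, e_n, form h² = 1,
e_i² = −1, all other products 0, and anticanonical class D = 3h − Σ e_i, let d·h − Σ a_i e_i be a
class with all a_i ≥ 0 (the class of the strict transform of a degree-d plane curve having
multiplicity a_i at the i-th point) which is a (−2)-class orthogonal to D, that is d² − Σ a_i² = −2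
and 3d = Σ a_i. Then one of the following holds: d = 1 and every a_i is 0 or 1 with exactly three
equal to 1; d = 2 and every a_i is 0 or 1 with exactly six equal to 1; d = 3, n = 8, and one a_i
equals 2 while the remaining seven equal 1. The published statement is geometric: under the
general-position hypotheses on the points, no smooth rational curve on the blown-up plane is
orthogonal to D; this row is the lattice enumeration its proof carries out (a line through three of
the points, a conic through six, a cubic through all eight and singular at one). -/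
theorem result (n : ℕ) (hn : n ≤ 8)
    (d : ℤ) (a : Fin n → ℤ) (ha : ∀ i, 0 ≤ a i)
    (hsq : d ^ 2 - ∑ i, (a i) ^ 2 = -2) (hK : 3 * d = ∑ i, a i) :
    (d = 1 ∧ (∀ i, a i = 0 ∨ a i = 1) ∧ (Finset.univ.filter (fun i => a i = 1)).card = 3) ∨
      (d = 2 ∧ (∀ i, a i = 0 ∨ a i = 1) ∧ (Finset.univ.filter (fun i => a i = 1)).card = 6) ∨
      (d = 3 ∧ n = 8 ∧ ∃ j, a j = 2 ∧ ∀ i, i ≠ j → a i = 1) := by
  classical
  have hcs : (∑ i, a i) ^ 2 ≤ (n : ℤ) * ∑ i, a i ^ 2 := by
    have := sq_sum_le_card_mul_sum_sq (s := (Finset.univ : Finset (Fin n))) (f := a)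
    simpa using this
  have hsum : ∑ i, a i ^ 2 = d ^ 2 + 2 := by linarith
  have hd0 : 0 ≤ d := by
    have : 0 ≤ ∑ i, a i := Finset.sum_nonneg fun i _ => ha i
    linarith
  rw [← hK, hsum] at hcs
  have hn' : (n : ℤ) ≤ 8 := by exact_mod_cast hn
  have hb : d ^ 2 ≤ 16 := by nlinarith
  have hd4 : d ≤ 4 := by nlinarith
  have hle : ∀ i, a i ≤ a i ^ 2 := fun i => Int.le_self_sq _
  have h01 : ∑ i, (a i ^ 2 - a i) = d ^ 2 + 2 - 3 * d := by rw [Finset.sum_sub_distrib, hsum, hK]
  have hzero : d ^ 2 + 2 - 3 * d = 0 → (∀ i, a i = 0 ∨ a i = 1) ∧ (((Finset.univ.filter (fun i => a i = 1)).card : ℤ) = 3 * d) := by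
    intro h
    have hall : ∀ i, a i = 0 ∨ a i = 1 := fun i => by
      have h1 := (Finset.sum_eq_zero_iff_of_nonneg (fun j _ => sub_nonneg.2 (hle j))).1 (h01.trans h) i (Finset.mem_univ i)
      have h2 : a i * (a i - 1) = 0 := by linear_combination h1
      rcases mul_eq_zero.1 h2 with h3 | h3
      · exact Or.inl h3
      · exact Or.inr (by linarith)
    refine ⟨hall, ?_⟩
    rw [hK, Finset.card_filter]
    push_cast
    exact Finset.sum_congr rfl fun i _ => by rcases hall i with h | h <;> simp [h]
  interval_cases d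
  · exfalso
    have h0 : ∀ i, a i = 0 := fun i => (Finset.sum_eq_zero_iff_of_nonneg (fun j _ => ha j)).1 (by linarith) i (Finset.mem_univ i)
    simp [h0] at hsum
  · obtain ⟨h1, h2⟩ := hzero (by norm_num)
    exact Or.inl ⟨rfl, h1, by exact_mod_cast h2⟩
  · obtain ⟨h1, h2⟩ := hzero (by norm_num)
    exact Or.inr (Or.inl ⟨rfl, h1, by exact_mod_cast h2⟩)
  · -- d = 3
    refine Or.inr (Or.inr ⟨rfl, ?_⟩)
    obtain ⟨j, hj⟩ : ∃ j, 2 ≤ a j := by
      by_contra hcon
      push Not at hcon
      have : ∀ i, a i ^ 2 - a i = 0 := fun i => by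
        have := hcon i; have := ha i
        interval_cases (a i) <;> norm_num
      rw [Finset.sum_congr rfl (fun i _ => this i)] at h01
      norm_num at h01
    have hsplit := Finset.add_sum_erase Finset.univ (fun i => a i ^ 2 - a i) (Finset.mem_univ j)
    rw [h01] at hsplit
    have hrest0 : 0 ≤ ∑ i ∈ Finset.univ.erase j, (a i ^ 2 - a i) := Finset.sum_nonneg fun i _ => sub_nonneg.2 (hle i)
    have hj2 : a j = 2 := by nlinarith
    rw [hj2] at hsplit
    have hz : ∀ i, i ≠ j → a i = 0 ∨ a i = 1 := fun i hi => by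
      have h1 := (Finset.sum_eq_zero_iff_of_nonneg (fun k _ => sub_nonneg.2 (hle k))).1 (show ∑ k ∈ Finset.univ.erase j, (a k ^ 2 - a k) = 0 by linarith) i (Finset.mem_erase.2 ⟨hi, Finset.mem_univ i⟩)
      have h2 : a i * (a i - 1) = 0 := by linear_combination h1
      rcases mul_eq_zero.1 h2 with h3 | h3
      · exact Or.inl h3
      · exact Or.inr (by linarith)
    have hs7 : ∑ i ∈ Finset.univ.erase j, a i = 7 := by
      have := Finset.add_sum_erase Finset.univ a (Finset.mem_univ j)
      linarith
    have hcard : ((Finset.univ.erase j).card : ℤ) = (n : ℤ) - 1 := by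
      rw [Finset.card_erase_of_mem (Finset.mem_univ j), Finset.card_univ, Fintype.card_fin]
      have := j.2
      omega
    have hbound : ∑ i ∈ Finset.univ.erase j, (1 - a i) = (n : ℤ) - 1 - 7 := by
      rw [Finset.sum_sub_distrib, hs7, Finset.sum_const, nsmul_eq_mul, mul_one, hcard]
    have hnn : ∀ i ∈ Finset.univ.erase j, 0 ≤ 1 - a i := fun i hi => by
      rcases hz i (Finset.ne_of_mem_erase hi) with h | h <;> simp [h]
    have h8 : n = 8 := by have := Finset.sum_nonneg hnn; omega
    refine ⟨h8, j, hj2, fun i hi => ?_⟩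
    have := (Finset.sum_eq_zero_iff_of_nonneg hnn).1 (by rw [hbound, h8]; norm_num) i (Finset.mem_erase.2 ⟨hi, Finset.mem_univ i⟩)
    linarith
  · exfalso
    have h8 : n = 8 := by omega
    have hz : ∑ i, (2 * a i - 3) ^ 2 = 0 := by
      have : ∀ i, (2 * a i - 3) ^ 2 = 4 * a i ^ 2 - 12 * a i + 9 := fun i => by ring
      rw [Finset.sum_congr rfl (fun i _ => this i), Finset.sum_add_distrib, Finset.sum_sub_distrib, ← Finset.mul_sum, ← Finset.mul_sum, hsum, ← hK]
      simp [h8]
    have := (Finset.sum_eq_zero_iff_of_nonneg (fun i _ => sq_nonneg (2 * a i - 3))).1 hz ⟨0, by omega⟩ (Finset.mem_univ _)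
    have := pow_eq_zero_iff (n := 2) (by norm_num) |>.1 this
    omega

end Groth.Agent.S18457
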