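import Groth.Statements.S18458
import Groth.Agent.SurfNumLib.Config
import Mathlib.LinearAlgebra.Matrix.NonsingularInverse
import Mathlib.LinearAlgebra.Matrix.ToLinearEquiv
-- import your own Groth.Agent.* helpers here

set_option autoImplicit false
universe u
open CategoryTheory CategoryTheory.Limits AlgebraicGeometry TopologicalSpace
open Surf Matrix

namespace Groth.Agent.S18458

/-- Let k be an algebraically closed field of characteristic zero and X a smooth projective surface over
k (integral, proper and smooth over k, of dimension 2, carrying an ample invertible module). Let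
C_1, …, C_r be pairwise distinct integral curves on X with ideal sheaves I_i whose intersection
matrix is negative definite: Σ_{i,j} a_i a_j (I_i·I_j) < 0 for every nonzero integer vector a, where
(A·B) = χ(O_X) − χ(A) − χ(B) + χ(A ⊗ B). Then there is an invertible O_X-module L (the sheaf of a
divisor H) which is nef and big and is orthogonal to exactly the curves C_i: writing (L·C) = χ(O_C ⊗
L) − χ(O_C) for the degree of L on an integral curve C, one has (L·C) ≥ 0 for every integral curve
C, (L·L) > 0, and (L·C) = 0 if and only if C is one of the C_i. -/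
theorem result (k : Type u) [Field k] [IsAlgClosed k] [CharZero k]
    (X : Scheme.{u}) [X.Over (Spec (CommRingCat.of k))] [IsProper (X ↘ (Spec (CommRingCat.of k)))]
    [Smooth (X ↘ (Spec (CommRingCat.of k)))] [IsIntegral X] (hdim : topologicalKrullDim X = 2)
    (hproj : ∃ H : X.Modules, CohB1.IsAmple H)
    (r : ℕ) (C : Fin r → X.IdealSheafData) (hC : Function.Injective C)
    (hCi : ∀ i, IsIntegral (C i).subscheme) (hCd : ∀ i, topologicalKrullDim ((C i).support : Set X) = 1)
    (hneg : ∀ a : Fin r → ℤ, a ≠ 0 →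
      ∑ i, ∑ j, a i * a j * FGA.intNum k X 2 ![(ClSub.idealMod (C i)), (ClSub.idealMod (C j))] (Coh.structureModule X) < 0) :
    ∃ L : X.Modules, PicF.IsInvertible L ∧
      (∀ D : X.IdealSheafData, IsIntegral D.subscheme → topologicalKrullDim (D.support : Set X) = 1 →
        0 ≤ Curv2.euler k X (CohB1.tensorMod (ClSub.quotMod D) L) - Curv2.euler k X (ClSub.quotMod D)) ∧
      0 < FGA.intNum k X 2 ![L, L] (Coh.structureModule X) ∧
      (∀ D : X.IdealSheafData, IsIntegral D.subscheme → topologicalKrullDim (D.support : Set X) = 1 →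
        (Curv2.euler k X (CohB1.tensorMod (ClSub.quotMod D) L) - Curv2.euler k X (ClSub.quotMod D) = 0 ↔
          ∃ i, D = C i)) := by
  classical
  haveI := CurvLib.isNoetherian k (X := X)
  have hX : topologicalKrullDim X = ((2 : ℕ) : WithBot ℕ∞) := hdim
  have hreg : ∀ x : X, IsRegularLocalRing (X.presheaf.stalk x) :=
    WeilExtLib.isRegular_stalk_smooth (X ↘ Spec (CommRingCat.of k))
  obtain ⟨H, hH⟩ := hproj
  have hcart : ∀ D : X.IdealSheafData, IsIntegral D.subscheme → topologicalKrullDim (D.support : Set X) = 1 →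
      BlowUp.IsEffCartierIdeal D := fun D hi hd => by
    haveI := hi
    exact SurfNumLib.isEffCartier_curve k hX hreg D hd
  have hinv : ∀ D : X.IdealSheafData, IsIntegral D.subscheme → topologicalKrullDim (D.support : Set X) = 1 →
      PicF.IsInvertible (ClSub.idealMod D) := fun D hi hd => IntMultLib.isInvertible_idealMod _ (hcart D hi hd)
  have hnn : ∀ D D' : X.IdealSheafData, IsIntegral D.subscheme → topologicalKrullDim (D.support : Set X) = 1 →
      IsIntegral D'.subscheme → topologicalKrullDim (D'.support : Set X) = 1 → D ≠ D' →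
      0 ≤ HodgeIdxLib.pr k (ClSub.idealMod D) (ClSub.idealMod D') := fun D D' hi hd hi' hd' hne => by
    haveI := hi; haveI := hi'
    exact SurfNumLib.pr_curves_nonneg (hcart D hi hd) (hcart D' hi' hd') hd' (SurfNumLib.not_subset_of_ne hd hd' hne)
  have hpos : ∀ D : X.IdealSheafData, IsIntegral D.subscheme → topologicalKrullDim (D.support : Set X) = 1 →
      HodgeIdxLib.pr k (ClSub.idealMod D) H < 0 := fun D hi hd => SurfNumLib.pr_effCartier_pos hX (hcart D hi hd)
    (fun h => by
      have h1 := hd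
      rw [h, Scheme.IdealSheafData.support_top] at h1
      have h2 : topologicalKrullDim (↥((⊥ : TopologicalSpace.Closeds X) : Set X)) = ⊥ := by
        haveI : IsEmpty (TopologicalSpace.IrreducibleCloseds ↥((⊥ : TopologicalSpace.Closeds X) : Set X)) :=
          ⟨fun c => by obtain ⟨x, -⟩ := c.isIrreducible.nonempty; exact x.2⟩
        exact Order.krullDim_eq_bot
      rw [h2] at h1
      simp at h1) hH
  simp only [SurfNumLib.intNum_eq_pr_two hdim] at hneg ⊢
  let G : Matrix (Fin r) (Fin r) ℤ := Matrix.of fun i j => HodgeIdxLib.pr k (ClSub.idealMod (C i)) (ClSub.idealMod (C j))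
  have hdet : G.det ≠ 0 := fun h0 => by
    obtain ⟨v, hv, hGv⟩ := Matrix.exists_mulVec_eq_zero_iff.2 h0
    refine (hneg v hv).ne ?_
    refine Finset.sum_eq_zero fun i _ => ?_
    have h1 : ∑ j, G i j * v j = 0 := congrFun hGv i
    calc _ = v i * ∑ j, G i j * v j := by
          rw [Finset.mul_sum]; exact Finset.sum_congr rfl fun j _ => by simp only [G, Matrix.of_apply]; ring
      _ = 0 := by rw [h1, mul_zero]
  let g : Fin r → ℤ := fun i => -HodgeIdxLib.pr k (ClSub.idealMod (C i)) H
  have hg : ∀ i, 0 < g i := fun i => neg_pos.2 (hpos (C i) (hCi i) (hCd i))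
  let b : Fin r → ℤ := fun i => -G.det * (G.adjugate *ᵥ g) i
  have hGb : ∀ i, ∑ j, G i j * b j = -(G.det * G.det) * g i := fun i => by
    have h1 : (G *ᵥ (G.adjugate *ᵥ g)) i = G.det * g i := by
      rw [Matrix.mulVec_mulVec, Matrix.mul_adjugate, Matrix.smul_mulVec, Matrix.one_mulVec]; rfl
    calc _ = -G.det * ∑ j, G i j * (G.adjugate *ᵥ g) j := by
          rw [Finset.mul_sum]; exact Finset.sum_congr rfl fun j _ => by simp only [b]; ring
      _ = -G.det * (G *ᵥ (G.adjugate *ᵥ g)) i := rfl
      _ = _ := by rw [h1]; ring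
  let n : ℕ := (G.det * G.det).toNat
  have hn : (n : ℤ) = G.det * G.det := Int.toNat_of_nonneg (mul_self_nonneg _)
  have hn0 : 0 < (n : ℤ) := hn ▸ mul_self_pos.2 hdet
  have hGs : ∀ i j, G i j = G j i := fun i j => HodgeIdxLib.pr_comm _ _
  have hb : ∀ i, 0 ≤ b i := by
    intro i
    by_contra hi
    push Not at hi
    have h1 := SurfNumLib.parts_nonneg (fun i j => G i j)
      (fun i j hij => hnn _ _ (hCi i) (hCd i) (hCi j) (hCd j) fun h => hij (hC h))
      (fun l => -b l) (fun j => (n : ℤ) * g j) (fun j => mul_nonneg hn0.le (hg j).le) (fun j => by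
        rw [hn, ← neg_neg (G.det * G.det * g j), ← neg_mul, ← hGb j, ← Finset.sum_neg_distrib]
        exact Finset.sum_congr rfl fun l _ => by rw [hGs j l]; ring)
    have h3 := hneg (fun l => max (-b l) 0) (fun h0 => by
      have : max (-b i) 0 = 0 := congrFun h0 i
      have := le_max_left (-b i) 0
      omega)
    simp only [G, Matrix.of_apply] at h1
    linarith
  have hcomb : ∀ s : Finset (Fin r), ∃ M : X.Modules, PicF.IsInvertible M ∧ ∀ Q : X.Modules, PicF.IsInvertible Q →
      HodgeIdxLib.pr k M Q = ∑ i ∈ s, -b i * HodgeIdxLib.pr k (ClSub.idealMod (C i)) Q := by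
    intro s
    induction s using Finset.induction with
    | empty =>
      exact ⟨_, CurvLib.isInvertible_structureModule, fun Q _ => by rw [HodgeIdxLib.pr_unit, Finset.sum_empty]⟩
    | insert a s ha ih =>
      obtain ⟨M, hM, hMe⟩ := ih
      obtain ⟨M', hM', hMe'⟩ := HodgeIdxLib.exists_smul (k := k) (X := X) hX.le (hinv (C a) (hCi a) (hCd a)) (-b a)
      exact ⟨_, HilbPolyLib.isInvertible_tensor hM' hM, fun Q hQ => by
        rw [HodgeIdxLib.pr_tensor hX.le hM' hM hQ, hMe Q hQ, hMe' Q hQ, Finset.sum_insert ha]⟩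
  obtain ⟨M₀, hM₀, hM₀e⟩ := hcomb Finset.univ
  obtain ⟨M₁, hM₁, hM₁e⟩ := HodgeIdxLib.exists_smul (k := k) (X := X) hX.le hH.1 (n : ℤ)
  let L := CohB1.tensorMod M₁ M₀
  have hL : PicF.IsInvertible L := HilbPolyLib.isInvertible_tensor hM₁ hM₀
  have hLe : ∀ Q : X.Modules, PicF.IsInvertible Q → HodgeIdxLib.pr k L Q =
      (n : ℤ) * HodgeIdxLib.pr k H Q + ∑ i, -b i * HodgeIdxLib.pr k (ClSub.idealMod (C i)) Q := fun Q hQ => by
    rw [HodgeIdxLib.pr_tensor hX.le hM₁ hM₀ hQ, hM₁e Q hQ, hM₀e Q hQ]
  have hcd : ∀ D : X.IdealSheafData, IsIntegral D.subscheme → topologicalKrullDim (D.support : Set X) = 1 →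
      Curv2.euler k X (CohB1.tensorMod (ClSub.quotMod D) L) - Curv2.euler k X (ClSub.quotMod D) =
        -((n : ℤ) * HodgeIdxLib.pr k (ClSub.idealMod D) H) + ∑ i, b i * HodgeIdxLib.pr k (ClSub.idealMod D) (ClSub.idealMod (C i)) := by
    intro D hi hd
    have h1 := SurfNumLib.pr_ideal (k := k) D (CurvLib.isCoh_of_isInvertible (hinv D hi hd)) hL
    rw [IntFunLib.N, IntFunLib.N, IntFunLib.N, CurvLib.euler_congr (HilbPolyLib.swapIso L (ClSub.quotMod D))] at h1
    rw [HodgeIdxLib.pr_comm, hLe _ (hinv D hi hd)] at h1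
    simp only [HodgeIdxLib.pr_comm (k := k) H, HodgeIdxLib.pr_comm (k := k) (ClSub.idealMod (C _)), neg_mul,
      Finset.sum_neg_distrib] at h1
    linarith
  have hzero : ∀ i, Curv2.euler k X (CohB1.tensorMod (ClSub.quotMod (C i)) L) - Curv2.euler k X (ClSub.quotMod (C i)) = 0 := by
    intro i
    rw [hcd (C i) (hCi i) (hCd i)]
    have h1 := hGb i
    simp only [G, Matrix.of_apply, g] at h1
    rw [show (∑ j, b j * HodgeIdxLib.pr k (ClSub.idealMod (C i)) (ClSub.idealMod (C j))) =
      ∑ j, HodgeIdxLib.pr k (ClSub.idealMod (C i)) (ClSub.idealMod (C j)) * b j from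
      Finset.sum_congr rfl fun j _ => mul_comm _ _, h1, hn]
    ring
  have hposD : ∀ D : X.IdealSheafData, IsIntegral D.subscheme → topologicalKrullDim (D.support : Set X) = 1 →
      (∀ i, D ≠ C i) → 0 < Curv2.euler k X (CohB1.tensorMod (ClSub.quotMod D) L) - Curv2.euler k X (ClSub.quotMod D) := by
    intro D hi hd hne
    rw [hcd D hi hd]
    refine add_pos_of_pos_of_nonneg (neg_pos.2 (mul_neg_of_pos_of_neg hn0 (hpos D hi hd))) ?_
    exact Finset.sum_nonneg fun i _ => mul_nonneg (hb i) (hnn D (C i) hi hd (hCi i) (hCd i) (hne i))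
  refine ⟨L, hL, fun D hi hd => ?_, ?_, fun D hi hd => ⟨fun h => ?_, ?_⟩⟩
  · by_cases h : ∃ i, D = C i
    · obtain ⟨i, rfl⟩ := h
      exact (hzero i).ge
    · push Not at h
      exact (hposD D hi hd h).le
  · have hLC : ∀ i, HodgeIdxLib.pr k (ClSub.idealMod (C i)) L = 0 := fun i => by
      have h1 := SurfNumLib.pr_ideal (k := k) (C i) (CurvLib.isCoh_of_isInvertible (hinv _ (hCi i) (hCd i))) hL
      rw [IntFunLib.N, IntFunLib.N, IntFunLib.N, CurvLib.euler_congr (HilbPolyLib.swapIso L (ClSub.quotMod (C i)))] at h1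
      have := hzero i
      linarith
    rw [hLe L hL, Finset.sum_eq_zero fun i _ => by rw [hLC i, mul_zero], add_zero, HodgeIdxLib.pr_comm, hLe H hH.1]
    refine mul_pos hn0 (add_pos_of_pos_of_nonneg (mul_pos hn0 (HodgeIdxLib.pr_ample_pos hX hH)) ?_)
    exact Finset.sum_nonneg fun i _ => by
      rw [neg_mul, ← mul_neg]
      exact mul_nonneg (hb i) (neg_nonneg.2 (hpos _ (hCi i) (hCd i)).le)
  · by_contra hne
    push Not at hne
    exact (hposD D hi hd hne).ne' h
  · rintro ⟨i, rfl⟩
    exact hzero i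

end Groth.Agent.S18458
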