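import Groth.Statements.S18459
import Groth.Agent.EllSecLib.Hirz
import Groth.Agent.ConicCurveLib.RuledSection
import Groth.Agent.RuledSurfLib.Push
import Groth.Agent.SurfNumLib.Basic
import Groth.Agent.NodalLib.DefAmple
-- import your own Groth.Agent.* helpers here

set_option autoImplicit false
set_option backward.isDefEq.respectTransparency false
set_option backward.isDefEq.respectTransparency.types false
set_option maxHeartbeats 1000000
universe u
open CategoryTheory CategoryTheory.Limits AlgebraicGeometry TopologicalSpace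
open Surf

open TopologicalSpace HilbPolyLib DevissLib IntMultLib IntFunLib HodgeIdxLib
open KFlatLib (pb)

namespace Groth.Agent.S18459

/-- Fix an algebraically closed field k of characteristic zero, and suppose X is a smooth projective
surface over k (integral, proper and smooth over k, of dimension 2). Assume given a surjective
k-morphism π : X → P¹_k each of whose fibres over a closed point is isomorphic to P¹_k, together
with an integral curve σ ⊂ X having ideal sheaf I_σ, such that π^*O(1) restricts to a degree-1 sheaf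
on σ (σ·f = 1 for the fibre class f, so σ is a section) and (I_σ·I_σ) = −n for some natural number n
(σ² = −n); in other words X is the rational ruled surface F_n and σ its negative section. Take N to
be a tensor inverse of I_σ (the sheaf O_X(σ)), fix integers a ≥ 0 and b, and set L = N^{⊗a} ⊗
π^*O_{P¹}(b), the sheaf attached to aσ + bf. The conclusions: (i) L is nef, meaning χ(O_C ⊗ L) −
χ(O_C) ≥ 0 for each integral curve C ⊂ X, exactly when na ≤ b; (ii) L is globally generated exactly
when na ≤ b; (iii) L admits a nonzero global section (equivalently, some effective divisor lies in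
the linear class of aσ + bf) exactly when 0 ≤ b. Intersection numbers are computed as (A·B) = χ(O_X)
− χ(A) − χ(B) + χ(A ⊗ B). In the published version a may be any integer, with a ≥ 0 included in the
numerical condition; when a < 0 none of the three properties holds, and here a ≥ 0 is imposed.
Neither the published second condition (|aσ + bf| non-empty with no fixed curve) nor the ampleness
criterion a > 0, b > na is restated. -/
theorem result (k : Type u) [Field k] [IsAlgClosed k] [CharZero k]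
    (X : Scheme.{u}) [X.Over (Spec (CommRingCat.of k))] [IsProper (X ↘ (Spec (CommRingCat.of k)))]
    [Smooth (X ↘ (Spec (CommRingCat.of k)))] [IsIntegral X] (hdim : topologicalKrullDim X = 2)
    (π : X ⟶ CohB1.ProjSpace 1 k) (hπ : π ≫ CohB1.ProjSpace.toSpec 1 k = (X ↘ (Spec (CommRingCat.of k))))
    (hsurj : Function.Surjective π)
    (hfib : ∀ y : CohB1.ProjSpace 1 k, IsClosed ({y} : Set (CohB1.ProjSpace 1 k)) →
      Nonempty (pullback π ((CohB1.ProjSpace 1 k).fromSpecResidueField y) ≅ CohB1.ProjSpace 1 k))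
    (σ : X.IdealSheafData) (hσi : IsIntegral σ.subscheme) (hσd : topologicalKrullDim (σ.support : Set X) = 1)
    (hσf : Curv2.euler k X (CohB1.tensorMod (ClSub.quotMod σ) ((Scheme.Modules.pullback π).obj (Twist.twistProjSpace 1 k 1))) -
      Curv2.euler k X (ClSub.quotMod σ) = 1)
    (n : ℕ) (hσσ : FGA.intNum k X 2 ![(ClSub.idealMod σ), (ClSub.idealMod σ)] (Coh.structureModule X) = -(n : ℤ))
    (N : X.Modules) (hN : ClSub.IsInverseOf N (ClSub.idealMod σ)) (a : ℕ) (b : ℤ) :
    ((∀ C : X.IdealSheafData, IsIntegral C.subscheme → topologicalKrullDim (C.support : Set X) = 1 →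
        0 ≤ Curv2.euler k X (CohB1.tensorMod (ClSub.quotMod C)
          (CohB1.tensorMod (CohB1.tensorPow N a) ((Scheme.Modules.pullback π).obj (Twist.twistProjSpace 1 k b)))) -
          Curv2.euler k X (ClSub.quotMod C)) ↔ (n : ℤ) * a ≤ b) ∧
      (Curv2.IsGloballyGenerated (CohB1.tensorMod (CohB1.tensorPow N a) ((Scheme.Modules.pullback π).obj (Twist.twistProjSpace 1 k b))) ↔
        (n : ℤ) * a ≤ b) ∧
      (Nontrivial (Coh.HH X (CohB1.tensorMod (CohB1.tensorPow N a) ((Scheme.Modules.pullback π).obj (Twist.twistProjSpace 1 k b))) 0) ↔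
        0 ≤ b) := by
  haveI := CurvLib.isNoetherian k (X := X)
  haveI := CurvLib.isNoetherian k (X := CohB1.ProjSpace 1 k)
  have hX : topologicalKrullDim X = ((2 : ℕ) : WithBot ℕ∞) := hdim
  have hP1 : topologicalKrullDim (CohB1.ProjSpace 1 k) = 1 := VBP1Lib.dim_line k
  have hπk : π ≫ ((CohB1.ProjSpace 1 k) ↘ Spec (CommRingCat.of k)) = X ↘ Spec (CommRingCat.of k) := hπ
  haveI : Surjective π := ⟨hsurj⟩
  have hregC : ∀ x : CohB1.ProjSpace 1 k, IsRegularLocalRing ((CohB1.ProjSpace 1 k).presheaf.stalk x) := fun x =>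
    WeilExtLib.isRegular_stalk_smooth ((CohB1.ProjSpace 1 k) ↘ Spec (CommRingCat.of k)) x
  obtain ⟨hCs, hCc⟩ := RuledSurfLib.curve_facts (k := k) (C := CohB1.ProjSpace 1 k) hregC
  haveI := hCc
  have hf := ConicCurveLib.isCurveOfGenus_of_closed_fibres k X (CohB1.ProjSpace 1 k) hdim hP1 hregC π hπk hsurj hfib
  haveI := hf.1
  haveI := hf.2.1
  have hO : ∀ d : ℤ, PicF.IsInvertible (Twist.twistProjSpace 1 k d) := fun d => PicPnLib.twist_inv 1 k d
  have hQ : ∀ d : ℤ, PicF.IsInvertible (pb π (Twist.twistProjSpace 1 k d)) := fun d => AmpleDevLib.isInvertible_pb π (hO d)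
  have hadd : ∀ x y : ℤ, Nonempty (CohB1.tensorMod (pb π (Twist.twistProjSpace 1 k x)) (pb π (Twist.twistProjSpace 1 k y)) ≅
      pb π (Twist.twistProjSpace 1 k (x + y))) := fun x y => by
    obtain ⟨e⟩ := VBP1Lib.twist_add k x y
    exact ⟨(PicPnLib.pullTens π _ _).symm ≪≫ (Scheme.Modules.pullback π).mapIso e⟩
  obtain ⟨e00⟩ := VBP1Lib.twist_zero k
  let eQ0 : pb π (Twist.twistProjSpace 1 k 0) ≅ Coh.structureModule X :=
    (Scheme.Modules.pullback π).mapIso e00 ≪≫ KFlatLib.pullUnitIso π
  -- a fibre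
  obtain ⟨q, hq⟩ := (CurveFFLib.infinite_closed (k := k) (X := CohB1.ProjSpace 1 k) hP1).nonempty
  obtain ⟨eq1⟩ : Nonempty (ClSub.idealMod (GenusZeroLib.ptIdeal hq) ≅ Twist.twistProjSpace 1 k (-1)) := by
    haveI := HurwitzLib.dvr_stalk_closed (k := k) hP1 hq
    obtain ⟨I, ⟨eI⟩, hI, hId⟩ := GenusZeroLib.exists_idealMod_iso (k := k) hq hP1
    have hres : (letI : Algebra k ((CohB1.ProjSpace 1 k).residueField q) := Curv2.resAlgebra k (CohB1.ProjSpace 1 k) q
        Module.finrank k ((CohB1.ProjSpace 1 k).residueField q)) = 1 := by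
      letI : Algebra k ((CohB1.ProjSpace 1 k).residueField q) := Curv2.resAlgebra k (CohB1.ProjSpace 1 k) q
      haveI := HurwitzLib.finite_residueField (k := k) hq
      exact ((AlgEquiv.ofBijective (Algebra.ofId k ((CohB1.ProjSpace 1 k).residueField q))
        (IsAlgClosed.algebraMap_bijective_of_isIntegral (k := k))).toLinearEquiv.finrank_eq).symm.trans
          (Module.finrank_self k)
    obtain ⟨e⟩ := VBP1Lib.exists_iso_twist k hI
    rw [hres] at hId
    exact ⟨eI.symm ≪≫ e ≪≫ eqToIso (by rw [hId]; rfl)⟩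
  obtain ⟨eF⟩ := SurfAmpleLib.nonempty_fibreIdeal_iso k hP1 π hq
  set F := pb π (Twist.twistProjSpace 1 k 1) with hFdef
  let eI : ClSub.idealMod (π.fiberι q).ker ≅ pb π (Twist.twistProjSpace 1 k (-1)) :=
    eF ≪≫ (Scheme.Modules.pullback π).mapIso eq1
  have hLF : ClSub.IsInverseOf F (ClSub.idealMod (π.fiberι q).ker) := by
    obtain ⟨e⟩ := hadd 1 (-1)
    exact ⟨congrRight F eI ≪≫ e ≪≫ eqToIso (by norm_num) ≪≫ eQ0⟩
  -- the negative section
  haveI := hσi
  obtain ⟨c₀, hc₀, hd₀⟩ : ∃ c : X, σ = ptIdeal c ∧ topologicalKrullDim (closure ({c} : Set X)) = ((1 : ℕ) : WithBot ℕ∞) := by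
    refine ⟨_, IntFunLib.eq_ptIdeal σ, ?_⟩
    have h := hσd
    rw [IntFunLib.eq_ptIdeal σ, IntFunLib.dim_ptIdeal] at h
    rw [h, Nat.cast_one]
  have heσ : BlowUp.IsEffCartierIdeal σ := SurfAmpleLib.isEffCartier_curve' k hX σ hσd
  have hIσ := IntMultLib.isInvertible_idealMod σ heσ
  obtain ⟨eN⟩ := hN
  have hNi : PicF.IsInvertible N := Groth.Agent.S2122.result N (ClSub.idealMod σ) eN
  -- degrees on curves
  have hsd : ∀ {D : X.IdealSheafData}, topologicalKrullDim (D.support : Set X) = 1 →
      topologicalKrullDim (CohB1.support (ClSub.quotMod D)) ≤ ((1 : ℕ) : WithBot ℕ∞) := fun {D} hd => by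
    rw [SurfNumLib.support_quotMod_eq, hd]; simp
  have heul : ∀ (D : X.IdealSheafData) (T : X.Modules),
      Curv2.euler k X (CohB1.tensorMod (ClSub.quotMod D) T) - Curv2.euler k X (ClSub.quotMod D) =
        IntFunLib.N k [T] (ClSub.quotMod D) := fun D T => by
    rw [IntFunLib.N, IntFunLib.N, IntFunLib.N, CurvLib.euler_congr (k := k) (swapIso (ClSub.quotMod D) T)]
  have hlin : ∀ {D : X.IdealSheafData}, topologicalKrullDim (D.support : Set X) = 1 → ∀ d : ℤ,
      IntFunLib.N k [pb π (Twist.twistProjSpace 1 k d)] (ClSub.quotMod D) = d * IntFunLib.N k [F] (ClSub.quotMod D) := by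
    intro D hd d
    let φ : ℤ →+ ℤ := AddMonoidHom.mk' (fun d => IntFunLib.N k [pb π (Twist.twistProjSpace 1 k d)] (ClSub.quotMod D))
      fun x y => by
        obtain ⟨e⟩ := hadd x y
        rw [← N_congr_head e]
        exact N_tensor (k := k) (l := []) (by simp) (hQ x) (hQ y) (CurvLib.isCoh_quotMod D) (hsd hd)
    have h := map_zsmul φ d 1
    simpa [φ, hFdef] using h
  have hnum : ∀ {D : X.IdealSheafData}, topologicalKrullDim (D.support : Set X) = 1 → ∀ (j : ℕ) (d : ℤ),
      IntFunLib.N k [CohB1.tensorMod (CohB1.tensorPow N j) (pb π (Twist.twistProjSpace 1 k d))] (ClSub.quotMod D) =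
        j * IntFunLib.N k [N] (ClSub.quotMod D) + d * IntFunLib.N k [F] (ClSub.quotMod D) := by
    intro D hd j d
    rw [N_tensor (k := k) (l := []) (by simp) (AmpleThLib.tensorPow_isInvertible hNi j) (hQ d) (CurvLib.isCoh_quotMod D) (hsd hd),
      hlin hd]
    congr 1
    induction j with
    | zero =>
      rw [Nat.cast_zero, zero_mul]
      change IntFunLib.N k [Coh.structureModule X] (ClSub.quotMod D) = 0
      rw [IntFunLib.N, IntFunLib.N, IntFunLib.N, CurvLib.euler_congr (k := k) (unitLeft _), sub_self]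
    | succ j ih =>
      change IntFunLib.N k [CohB1.tensorMod (CohB1.tensorPow N j) N] (ClSub.quotMod D) = _
      rw [N_tensor (k := k) (l := []) (by simp) (AmpleThLib.tensorPow_isInvertible hNi j) hNi (CurvLib.isCoh_quotMod D) (hsd hd), ih]
      push_cast; ring
  have hFσ : IntFunLib.N k [F] (ClSub.quotMod σ) = 1 := by rw [← heul]; exact hσf
  have hNprI : ∀ {D : X.IdealSheafData}, BlowUp.IsEffCartierIdeal D →
      IntFunLib.N k [N] (ClSub.quotMod D) = pr k (ClSub.idealMod D) (ClSub.idealMod σ) := fun {D} hD => by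
    have hID := IntMultLib.isInvertible_idealMod D hD
    have h := SurfNumLib.pr_ideal D (CurvLib.isCoh_of_isInvertible hID) (k := k) hNi
    rw [pr_comm, pr_inverse (k := k) hX.le hIσ hNi hID (swapIso _ _ ≪≫ eN), pr_comm] at h
    omega
  have hNσ : IntFunLib.N k [N] (ClSub.quotMod σ) = -(n : ℤ) := by
    rw [hNprI heσ, ← SurfNumLib.intNum_eq_pr_two hdim]; exact hσσ
  have hσdeg : ∀ (j : ℕ) (d : ℤ),
      IntFunLib.N k [CohB1.tensorMod (CohB1.tensorPow N j) (pb π (Twist.twistProjSpace 1 k d))] (ClSub.quotMod σ) =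
        d - (n : ℤ) * j := fun j d => by rw [hnum hσd, hFσ, hNσ]; ring
  have hnef : (n : ℤ) * a ≤ b → ∀ D : X.IdealSheafData, IsIntegral D.subscheme → topologicalKrullDim (D.support : Set X) = 1 →
      0 ≤ Curv2.euler k X (CohB1.tensorMod (ClSub.quotMod D) (CohB1.tensorMod (CohB1.tensorPow N a) (pb π (Twist.twistProjSpace 1 k b)))) -
        Curv2.euler k X (ClSub.quotMod D) := fun hab D hD hDd => by
    haveI := hD
    rw [heul, hnum hDd]
    by_cases hDσ : D = σ
    · rw [hDσ, hFσ, hNσ]; linarith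
    · have heD : BlowUp.IsEffCartierIdeal D := SurfAmpleLib.isEffCartier_curve' k hX D hDd
      have hc := SurfNumLib.pr_curves_nonneg (k := k) heD heσ hσd
        (SurfNumLib.not_subset_of_ne hDd hσd hDσ)
      have hd' : topologicalKrullDim (closure ({D.subschemeι (genericPoint D.subscheme)} : Set X)) = ((1 : ℕ) : WithBot ℕ∞) := by
        have h := hDd
        rw [IntFunLib.eq_ptIdeal D, IntFunLib.dim_ptIdeal] at h
        rw [h, Nat.cast_one]
      have hFn := (SurfAmpleLib.N_fibre_nonneg (k := k) hP1 π hq hLF hd').1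
      change 0 ≤ IntFunLib.N k [F] (ClSub.quotMod (ptIdeal _)) at hFn
      rw [← IntFunLib.eq_ptIdeal D] at hFn
      rw [hNprI heD]
      have hb : 0 ≤ b := le_trans (mul_nonneg (Int.natCast_nonneg n) (Int.natCast_nonneg a)) hab
      exact add_nonneg (mul_nonneg (Int.natCast_nonneg a) hc) (mul_nonneg hb hFn)
  -- restriction to the section
  letI : σ.subscheme.Over (Spec (CommRingCat.of k)) := ⟨σ.subschemeι ≫ (X ↘ Spec (CommRingCat.of k))⟩
  haveI : IsProper (σ.subscheme ↘ Spec (CommRingCat.of k)) :=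
    inferInstanceAs (IsProper (σ.subschemeι ≫ (X ↘ Spec (CommRingCat.of k))))
  haveI := CurvLib.isNoetherian k (X := σ.subscheme)
  have hWd : topologicalKrullDim σ.subscheme = 1 :=
    ((σ.subschemeι.isEmbedding.toHomeomorph.trans
      (Homeomorph.setCongr σ.range_subschemeι)).isHomeomorph.topologicalKrullDim_eq).trans hσd
  have hres : ∀ {T : X.Modules}, PicF.IsInvertible T →
      Curv2.deg k σ.subscheme (pb σ.subschemeι T) 1 = IntFunLib.N k [T] (ClSub.quotMod σ) := fun {T} hT => by
    have h2 := N_push (k := k) (g := σ.subschemeι) rfl (l := [T]) (by simpa using hT)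
      (DevissLib.isCoh_structureModule σ.subscheme) ((topologicalKrullDim_subspace_le _ _).trans (by rw [hWd]; simp))
    change IntFunLib.N k [pb σ.subschemeι T] (Coh.structureModule σ.subscheme) = _ at h2
    rw [← N_congr [T] (SurfNumLib.quotMod_ker_iso σ.subschemeι).some, σ.ker_subschemeι, ← euler_sub_eq_N] at h2
    rw [← h2, Curv2.deg, Nat.cast_one, one_mul]
  have hgσ : hh k (Coh.structureModule σ.subscheme) 1 = 0 :=
    EllSecLib.h1_eq_zero_of_deg_one (k := k) hWd hP1 (σ.subschemeι ≫ π) (by rw [Category.assoc, hπk]; rfl)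
      (PnHNLib.isAmple_twist_one 1 k)
      (by rw [← CurvLib.deg_congr ((Scheme.Modules.pullbackComp σ.subschemeι π).app _) 1]; exact (hres (hQ 1)).trans hFσ)
      (VBP1Lib.deg_twist_one k) (VBP1Lib.h0_structure k)
      (by haveI := VBP1Lib.h1_structure k; exact Module.finrank_zero_of_subsingleton)
  have htriv : ∀ {T : X.Modules}, PicF.IsInvertible T → IntFunLib.N k [T] (ClSub.quotMod σ) = 0 →
      Nonempty (pb σ.subschemeι T ≅ Coh.structureModule σ.subscheme) := fun {T} hT h0 =>
    CurvLib.iso_structure_of_genus_zero hWd RRVanLib.finrank_h0_structure hgσ (AmpleDevLib.isInvertible_pb _ hT)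
      ((hres hT).trans h0)
  -- vanishing on pulled back modules
  have hH1 : Subsingleton (Coh.HH X (pb π (Twist.twistProjSpace 1 k (n : ℤ))) 1) := by
    haveI : HasInjectiveResolutions X.Modules := inferInstance
    haveI := ZeroFamLib.geometricallyConnected hf
    haveI := FibVALib.geometricallyIntegral_of_geometricallyConnected π
    haveI : IsIso (ClSub.unitToPush π) := CohCmpLib.isIso_unitToPush_of_app π fun U =>
      (ConcreteCategory.isIso_iff_bijective _).2 (H0Lib.bijective_app π (H0Lib.H0Fib.of_geometricallyIntegral π) U)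
    have hv : ∀ p : ℕ, 0 < p → IsZero ((Coh.Rpush π p).obj (pb π (Twist.twistProjSpace 1 k (n : ℤ)))) :=
      RuledSurfLib.isZero_rpush π hf hπk hP1 (hQ _) fun y hy => le_of_eq (by
        rw [pr_comm]
        have h := EllSecLib.pr_vertical (k := k) π hX (SurfAmpleLib.isEffCartier_fibre k hP1 π hy)
          (fun c _ hc x hx => by
            rw [← SetLike.mem_coe, EllSecLib.support_fibre (k := k) π hy] at hc
            exact closure_minimal (t := π.base ⁻¹' {π.base c}) (Set.singleton_subset_iff.2 rfl)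
              ((show IsClosed ({π.base c} : Set _) by rw [show π.base c = y from hc]; exact hy).preimage π.continuous) hx)
          (hO (n : ℤ))
        rw [SurfAmpleLib.ker_fiberι_eq π hy] at h
        exact h)
    obtain ⟨e1⟩ := RuledSurfLib.nonempty_HH_push k π hπk _ hv 1
    haveI := VBP1Lib.subsingleton_h1_twist k (n : ℤ) (by omega)
    have hFl : FlatMod.IsFinLocFree (Twist.twistProjSpace 1 k (n : ℤ)) :=
      CurveVBLib.isFinLocFree_of_rank (CurvLib.locFree_of_isInvertible (hO _))
    let eP := (Coh.push π).mapIso (swapIso (pb π (Twist.twistProjSpace 1 k (n : ℤ))) (Coh.structureModule X) ≪≫ unitLeft _).symm ≪≫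
      (@asIso _ _ _ _ (ProjFormLib.projApp π (Twist.twistProjSpace 1 k (n : ℤ)) (Coh.structureModule X))
        (ProjFormLib.isIso_projApp π hFl (Coh.structureModule X))).symm ≪≫
      congrRight _ (asIso (ClSub.unitToPush π)).symm ≪≫ swapIso _ _ ≪≫ unitLeft _
    exact (e1.trans (CurvLib.hIso (k := k) eP 1)).toEquiv.subsingleton
  -- global generation
  have hggO : ∀ d : ℕ, Curv2.IsGloballyGenerated (Twist.twistProjSpace 1 k (d : ℤ)) := fun d => by
    induction d with
    | zero => exact MiscFlat6.isGloballyGenerated_of_iso (VBP1Lib.twist_zero k).some.symm NodalLib.gg_unit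
    | succ d ih =>
      obtain ⟨e⟩ := VBP1Lib.twist_add k (d : ℤ) 1
      exact MiscFlat6.isGloballyGenerated_of_iso (e ≪≫ eqToIso (by push_cast; rfl))
        (BlowRegLib.gg_tensor' ih (BlowRegLib.gg_twist_one 1))
  have hggQ : ∀ d : ℤ, 0 ≤ d → Curv2.IsGloballyGenerated (pb π (Twist.twistProjSpace 1 k d)) := fun d hd => by
    lift d to ℕ using hd
    exact BlowRegLib.gg_pullback π (hggO d)
  set M := CohB1.tensorMod N (pb π (Twist.twistProjSpace 1 k (n : ℤ))) with hMdef
  have hMi : PicF.IsInvertible M := HilbPolyLib.isInvertible_tensor hNi (hQ _)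
  have hggM : Curv2.IsGloballyGenerated M := by
    let T := (CurvLib.idealSeq σ).map (CurvLib.tensorLeft' M)
    have hT : T.ShortExact := HilbPolyLib.shortExact_tensor hMi (CurvLib.idealSeq_shortExact σ)
    let e₁ : T.X₁ ≅ pb π (Twist.twistProjSpace 1 k (n : ℤ)) :=
      assocIso _ _ _ ≪≫ congrRight N (swapIso _ _) ≪≫ (assocIso _ _ _).symm ≪≫ congrLeft eN _ ≪≫ unitLeft _
    have h₁ : Curv2.IsGloballyGenerated T.X₁ := MiscFlat6.isGloballyGenerated_of_iso e₁.symm (hggQ _ (Int.natCast_nonneg n))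
    have hH : Subsingleton (Coh.HH X T.X₁ 1) := by
      haveI := hH1
      exact (CurvLib.hIso (k := k) e₁ 1).toEquiv.subsingleton
    have h₃ : Curv2.IsGloballyGenerated T.X₃ := by
      obtain ⟨t⟩ := htriv hMi (by
        rw [hMdef, N_tensor (k := k) (l := []) (by simp) hNi (hQ _) (CurvLib.isCoh_quotMod σ) (hsd hσd), hlin hσd, hFσ, hNσ]
        ring)
      obtain ⟨p⟩ := SurfAmpleLib.nonempty_quot_push k M hMi σ
      exact MiscFlat6.isGloballyGenerated_of_iso ((Coh.push σ.subschemeι).mapIso t.symm ≪≫ p)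
        (BlowRegLib.gg_push_closed σ.subschemeι NodalLib.gg_unit)
    exact MiscFlat6.isGloballyGenerated_of_iso (swapIso _ _ ≪≫ unitLeft M) (EllSecLib.gg_extension k hT h₁ h₃ hH)
  have hggL : ∀ (j : ℕ) (d : ℤ), (n : ℤ) * j ≤ d →
      Curv2.IsGloballyGenerated (CohB1.tensorMod (CohB1.tensorPow N j) (pb π (Twist.twistProjSpace 1 k d))) := by
    intro j
    induction j with
    | zero => intro d hd; exact MiscFlat6.isGloballyGenerated_of_iso (unitLeft _).symm (hggQ d (by simpa using hd))
    | succ j ih =>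
      intro d hd
      obtain ⟨e⟩ := hadd (d - n) n
      refine MiscFlat6.isGloballyGenerated_of_iso (assocIso _ _ _ ≪≫ congrRight _ (leftComm (pb π (Twist.twistProjSpace 1 k (d - n))) N (pb π (Twist.twistProjSpace 1 k (n : ℤ))) ≪≫
        congrRight N (e ≪≫ eqToIso (by rw [sub_add_cancel]))) ≪≫ (assocIso _ _ _).symm)
        (BlowRegLib.gg_tensor' (ih (d - n) (by push_cast at hd; linarith)) hggM)
  refine ⟨⟨fun h => ?_, hnef⟩, ⟨fun h => ?_, hggL a b⟩, ?_⟩
  · have := h σ hσi hσd
    rw [heul, hσdeg] at this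
    linarith
  · have hLi : PicF.IsInvertible (CohB1.tensorMod (CohB1.tensorPow N a) (pb π (Twist.twistProjSpace 1 k b))) :=
      HilbPolyLib.isInvertible_tensor (AmpleThLib.tensorPow_isInvertible hNi a) (hQ b)
    have h1 := BlowRegLib.deg_nonneg_of_gg' k hWd (AmpleDevLib.isInvertible_pb σ.subschemeι hLi)
      (BlowRegLib.gg_pullback σ.subschemeι h)
    rw [hres hLi, hσdeg] at h1
    linarith
  -- sections
  obtain ⟨A, hA⟩ := SurfAmpleLib.exists_ample_of_smooth k hX
  have hLi : ∀ (j : ℕ) (d : ℤ), PicF.IsInvertible (CohB1.tensorMod (CohB1.tensorPow N j) (pb π (Twist.twistProjSpace 1 k d))) :=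
    fun j d => HilbPolyLib.isInvertible_tensor (AmpleThLib.tensorPow_isInvertible hNi j) (hQ d)
  have hstep : ∀ (j : ℕ) (d : ℤ),
      hh k (CohB1.tensorMod (CohB1.tensorPow N j) (pb π (Twist.twistProjSpace 1 k d))) 0 ≤
        hh k (CohB1.tensorMod (CohB1.tensorPow N (j + 1)) (pb π (Twist.twistProjSpace 1 k d))) 0 ∧
      (d - (n : ℤ) * (j + 1) < 0 → hh k (CohB1.tensorMod (CohB1.tensorPow N (j + 1)) (pb π (Twist.twistProjSpace 1 k d))) 0 ≤
        hh k (CohB1.tensorMod (CohB1.tensorPow N j) (pb π (Twist.twistProjSpace 1 k d))) 0) := by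
    intro j d
    let L := CohB1.tensorMod (CohB1.tensorPow N (j + 1)) (pb π (Twist.twistProjSpace 1 k d))
    let T := (CurvLib.idealSeq σ).map (CurvLib.tensorLeft' L)
    have hT : T.ShortExact := HilbPolyLib.shortExact_tensor (hLi _ d) (CurvLib.idealSeq_shortExact σ)
    let e₁ : T.X₁ ≅ CohB1.tensorMod (CohB1.tensorPow N j) (pb π (Twist.twistProjSpace 1 k d)) :=
      assocIso _ _ _ ≪≫ assocIso _ _ _ ≪≫ congrRight _ (leftComm N (pb π (Twist.twistProjSpace 1 k d)) (ClSub.idealMod σ) ≪≫
        congrRight _ eN ≪≫ swapIso _ _ ≪≫ unitLeft _)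
    let e₂ : T.X₂ ≅ L := swapIso _ _ ≪≫ unitLeft L
    have c₁ : Coh.IsCoh T.X₁ := HilbPolyLib.isCoh_tensor (hLi _ d) (CurvLib.isCoh_of_isInvertible hIσ)
    have c₂ : Coh.IsCoh T.X₂ := HilbPolyLib.isCoh_tensor (hLi _ d) (DevissLib.isCoh_structureModule X)
    have c₃ : Coh.IsCoh T.X₃ := HilbPolyLib.isCoh_tensor (hLi _ d) (CurvLib.isCoh_quotMod σ)
    refine ⟨?_, fun hneg => ?_⟩
    · rw [← hh_congr (k := k) e₁ 0, ← hh_congr (k := k) e₂ 0]
      haveI := CurvLib.finite_HH (k := k) c₂ 0
      exact LinearMap.finrank_le_finrank_of_injective (f := CurvLib.hMap (k := k) T.f 0) (CurvLib.injective₀ hT)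
    · rw [← hh_congr (k := k) e₁ 0, ← hh_congr (k := k) e₂ 0]
      have h3 : hh k T.X₃ 0 = 0 := (SurfAmpleLib.h0_quot_bound (hLi (j + 1) d) σ hσd
        (by rw [hσdeg]; push_cast; linarith)).2 (by rw [hσdeg]; push_cast; linarith)
      have := SurfAmpleLib.hh_le_mid (k := k) hT c₁ c₂ c₃ 0
      omega
  have hbase : ∀ d : ℤ, hh k (CohB1.tensorMod (CohB1.tensorPow N 0) (pb π (Twist.twistProjSpace 1 k d))) 0 ≠ 0 ↔ 0 ≤ d := by
    intro d
    rw [hh_congr (k := k) (show CohB1.tensorMod (CohB1.tensorPow N 0) (pb π (Twist.twistProjSpace 1 k d)) ≅ _ from unitLeft _) 0]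
    haveI := CurvLib.finite_HH (k := k) (CurvLib.isCoh_of_isInvertible (hQ d)) 0
    refine ⟨fun hne => ?_, fun hd => ?_⟩
    · by_contra hneg
      push Not at hneg
      obtain ⟨φ, hφ⟩ := CurvLib.exists_hom_ne_zero (L := pb π (Twist.twistProjSpace 1 k d))
        (Module.nontrivial_of_finrank_pos (R := k) (Nat.pos_of_ne_zero hne))
      have h0 := SurfNumLib.nonneg_of_section_curve (k := k) (hQ d) φ hd₀
      haveI := CurvLib.mono_of_ne_zero CurvLib.isInvertible_structureModule (hQ d) hφ
      have hpr : pr k (pb π (Twist.twistProjSpace 1 k d)) A = d * pr k F A := by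
        let φ' : ℤ →+ ℤ := AddMonoidHom.mk' (fun d => pr k (pb π (Twist.twistProjSpace 1 k d)) A)
          fun x y => by
            obtain ⟨e⟩ := hadd x y
            rw [pr, ← N_congr_head e, ← pr]
            exact pr_tensor (k := k) hX.le (hQ x) (hQ y) hA.1
        have h := map_zsmul φ' d 1
        simpa [φ', hFdef] using h
      have hFA : 0 < pr k F A := by
        obtain ⟨e⟩ := hLF
        rw [pr_inverse (k := k) hX.le (IntMultLib.isInvertible_idealMod _ (SurfAmpleLib.isEffCartier_fibre k hP1 π hq))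
          (hQ 1) hA.1 (swapIso _ _ ≪≫ e)]
        refine neg_pos.2 (SurfNumLib.pr_effCartier_pos (k := k) hX (SurfAmpleLib.isEffCartier_fibre k hP1 π hq) (fun h => ?_) hA)
        obtain ⟨x, hx⟩ := hsurj q
        have hm : x ∈ ((π.fiberι q).ker.support : Set X) := by rw [EllSecLib.support_fibre (k := k) π hq]; exact hx
        rw [h, Scheme.IdealSheafData.support_top] at hm
        exact hm
      have hlt : d * pr k F A < 0 := mul_neg_of_neg_of_pos hneg hFA
      rcases (CohB1.support (cokernel φ)).eq_empty_or_nonempty with he | he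
      · have hz := DevissLib.isZero_of_support_empty he
        haveI : Epi φ := Abelian.epi_of_cokernel_π_eq_zero φ (hz.eq_of_tgt _ _)
        haveI := isIso_of_mono_of_epi φ
        rw [← hpr, pr, N_congr_head (asIso φ).symm, ← pr, pr_unit] at hlt
        exact lt_irrefl _ hlt
      · exact ((SurfNumLib.pos_of_section hX (hQ d) hA hφ he).trans_le hpr.le).not_gt hlt
    · obtain ⟨s, hs⟩ := Groth.Agent.S1611.exists_genAt_of_gg (hQ d) (hggQ d hd) (genericPoint X)
      refine SurfAmpleLib.hh_zero_ne_of_hom (CurvLib.isCoh_of_isInvertible (hQ d))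
        (φ := QCohLib.unitHom _ s) (RRVanLib.unitHom_ne_zero fun h => ?_)
      subst h
      refine one_ne_zero (α := X.presheaf.stalk (genericPoint X)) (hs.1 ?_)
      show _ • _ = _ • _
      rw [map_zero, smul_zero, smul_zero]
  haveI := CurvLib.finite_HH (k := k) (CurvLib.isCoh_of_isInvertible (hLi a b)) 0
  refine Iff.trans (Module.finrank_pos_iff (R := k)).symm (Iff.trans Nat.pos_iff_ne_zero ?_)
  change hh k _ 0 ≠ 0 ↔ _
  rw [← hbase b]
  by_cases hb : 0 ≤ b
  · refine iff_of_true ?_ ((hbase b).2 hb)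
    have h0 := Nat.pos_of_ne_zero ((hbase b).2 hb)
    have hmono : ∀ j, hh k (CohB1.tensorMod (CohB1.tensorPow N 0) (pb π (Twist.twistProjSpace 1 k b))) 0 ≤
        hh k (CohB1.tensorMod (CohB1.tensorPow N j) (pb π (Twist.twistProjSpace 1 k b))) 0 := fun j => by
      induction j with
      | zero => exact le_rfl
      | succ j ih => exact ih.trans (hstep j b).1
    exact Nat.ne_of_gt (h0.trans_le (hmono a))
  · refine iff_of_false ?_ (fun h => hb ((hbase b).1 h))
    have hle : ∀ j, hh k (CohB1.tensorMod (CohB1.tensorPow N j) (pb π (Twist.twistProjSpace 1 k b))) 0 = 0 := fun j => by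
      induction j with
      | zero => by_contra h; exact hb ((hbase b).1 h)
      | succ j ih =>
        have := (hstep j b).2 (by nlinarith [Int.natCast_nonneg n, Int.natCast_nonneg j])
        omega
    exact not_not.2 (hle a)

end Groth.Agent.S18459
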