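import Groth.Statements.S18460
import Groth.Agent.NegLib.Core
import Groth.Agent.SurfNumLib.Config
import Groth.Agent.IntFunLib.NefApps
import Groth.Agent.BlowUpLib.Cartier
import Groth.Agent.ModifLib.Join
import Mathlib.AlgebraicGeometry.AlgClosed.Basic
import Mathlib.AlgebraicGeometry.Morphisms.IsIso
-- import your own Groth.Agent.* helpers here

set_option autoImplicit false
set_option backward.isDefEq.respectTransparency false
set_option backward.isDefEq.respectTransparency.types false
universe u
open CategoryTheory CategoryTheory.Limits AlgebraicGeometry TopologicalSpace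
open Surf

namespace Groth.Agent.S18460

/-- Let k be an algebraically closed field of characteristic zero and X a smooth projective surface over
k (integral, proper and smooth over k, of dimension 2). Let Y be an integral normal scheme of
dimension 2, locally of finite type over k, y a closed point of Y, and π : X → Y a proper k-morphism
which restricts to an isomorphism over Y ∖ {y} and whose fibre over y is, as a set, the union of
pairwise distinct integral curves C_1, …, C_r on X (r ≥ 1, ideal sheaves I_i), this union being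
connected; so π contracts the connected curve C = ⋃ C_i to the normal point y. Then the intersection
matrix of the C_i is negative definite: Σ_{i,j} a_i a_j (I_i·I_j) < 0 for every nonzero integer
vector a, where (A·B) = χ(O_X) − χ(A) − χ(B) + χ(A ⊗ B). The published statement is about a
holomorphic contraction of a compact connected curve in a complex surface to a point of a normal
analytic surface; this row is the algebraic case, with Y locally of finite type so that the local
ring at y is a two-dimensional Noetherian normal domain and a nonzero function vanishing at y cuts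
out a curve through y, which is what the printed argument (pull back such a function and apply the
formal negativity lemma proved there) uses. -/
theorem result (k : Type u) [Field k] [IsAlgClosed k] [CharZero k]
    (X : Scheme.{u}) [X.Over (Spec (CommRingCat.of k))] [IsProper (X ↘ (Spec (CommRingCat.of k)))]
    [Smooth (X ↘ (Spec (CommRingCat.of k)))] [IsIntegral X] (hdim : topologicalKrullDim X = 2)
    (Y : Scheme.{u}) [Y.Over (Spec (CommRingCat.of k))] [IsIntegral Y] (hYn : Pi1.IsNormalScheme Y)
    (hYd : topologicalKrullDim Y = 2)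
    [LocallyOfFiniteType (Y ↘ (Spec (CommRingCat.of k)))]
    (π : X ⟶ Y) (hπk : π ≫ (Y ↘ (Spec (CommRingCat.of k))) = (X ↘ (Spec (CommRingCat.of k)))) [IsProper π]
    (y : Y) (hy : IsClosed ({y} : Set Y)) (hiso : IsIso (π ∣_ (⟨({y} : Set Y)ᶜ, hy.isOpen_compl⟩ : Y.Opens)))
    (r : ℕ) (hr : 0 < r) (C : Fin r → X.IdealSheafData) (hC : Function.Injective C)
    (hCi : ∀ i, IsIntegral (C i).subscheme) (hCd : ∀ i, topologicalKrullDim ((C i).support : Set X) = 1)
    (hfib : (π.base : X → Y) ⁻¹' {y} = ⋃ i, ((C i).support : Set X))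
    (hconn : _root_.IsConnected (⋃ i, ((C i).support : Set X))) :
    ∀ a : Fin r → ℤ, a ≠ 0 →
      ∑ i, ∑ j, a i * a j * FGA.intNum k X 2 ![(ClSub.idealMod (C i)), (ClSub.idealMod (C j))] (Coh.structureModule X) < 0 := by
  classical
  haveI := CurvLib.isNoetherian k (X := X)
  have hreg := fun p : X => WeilExtLib.isRegular_stalk_smooth (X ↘ Spec (CommRingCat.of k)) p
  obtain ⟨V, hV, hyV, -⟩ := exists_isAffineOpen_mem_and_subset (U := (⊤ : Y.Opens)) (x := y) trivial
  haveI : IsAffine V.toScheme := hV
  haveI : Nonempty V := ⟨⟨y, hyV⟩⟩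
  let hY := Y ↘ Spec (CommRingCat.of k)
  let v : V.toScheme := ⟨y, hyV⟩
  have hv : IsClosed ({v} : Set V.toScheme) := by
    have h1 : ({v} : Set V.toScheme) = (V.ι : V.toScheme → Y) ⁻¹' {y} :=
      Set.ext fun w => ⟨fun h => by rw [Set.mem_singleton_iff.1 h]; rfl, fun h => Subtype.ext h⟩
    rw [h1]; exact hy.preimage V.ι.continuous
  let R := Γ(V.toScheme, ⊤)
  haveI : IsDomain R := inferInstanceAs (IsDomain Γ(V.toScheme, ⊤))
  let yV : Spec (CommRingCat.of k) ⟶ V.toScheme := pointOfClosedPoint (V.ι ≫ hY) v hv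
  have hyc : yV ≫ V.ι ≫ hY = 𝟙 _ := pointOfClosedPoint_comp _ v hv
  let φ : Spec (CommRingCat.of k) ⟶ Spec R := yV ≫ V.toScheme.isoSpec.hom
  let ρ : R →+* k := (Spec.preimage φ).hom
  have hρm : Spec.map (CommRingCat.ofHom ρ) = φ := Spec.map_preimage φ
  have hρ : Function.Surjective ρ := by
    let c : CommRingCat.of k ⟶ R := Spec.preimage (V.toScheme.isoSpec.inv ≫ V.ι ≫ hY)
    have h1 : c ≫ Spec.preimage φ = 𝟙 _ := by
      apply Spec.map_injective
      rw [Spec.map_comp, Spec.map_preimage, Spec.map_preimage, Spec.map_id, Category.assoc, Iso.hom_inv_id_assoc, hyc]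
    exact fun a => ⟨c.hom a, RingHom.congr_fun (congrArg CommRingCat.Hom.hom h1) a⟩
  let W := π ⁻¹ᵁ V
  let πW : W.toScheme ⟶ Spec R := (π ∣_ V) ≫ V.toScheme.isoSpec.hom
  haveI : IsProper (π ∣_ V) := MorphismProperty.of_isPullback (isPullback_morphismRestrict π V).flip ‹IsProper π›
  haveI : IsProper πW := inferInstance
  have hCne : ∀ i, Nonempty (C i).subscheme := fun i => (hCi i).nonempty
  have hmemC : ∀ i (c : (C i).subscheme), π ((C i).subschemeι c) = y := fun i c => by
    have h1 : (C i).subschemeι c ∈ π.base ⁻¹' {y} := by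
      rw [hfib]
      exact Set.mem_iUnion.2 ⟨i, by rw [← (C i).range_subschemeι]; exact ⟨c, rfl⟩⟩
    exact h1
  haveI : Nonempty W.toScheme := ⟨⟨(C ⟨0, hr⟩).subschemeι (hCne ⟨0, hr⟩).some, show π _ ∈ V by rw [hmemC]; exact hyV⟩⟩
  haveI : AlgebraicGeometry.IsIntegral W.toScheme := isIntegral_of_isOpenImmersion W.ι
  haveI : AlgebraicGeometry.IsNoetherian W.toScheme := by
    haveI : IsLocallyNoetherian W.toScheme := isLocallyNoetherian_of_isOpenImmersion W.ι
    haveI : CompactSpace W.toScheme := isCompact_iff_compactSpace.mp (TopologicalSpace.NoetherianSpace.isCompact _)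
    exact { }
  have hrange : ∀ i, Set.range (C i).subschemeι ⊆ Set.range W.ι := fun i => by
    rw [Scheme.Opens.range_ι]
    rintro _ ⟨c, rfl⟩
    show π _ ∈ V
    rw [hmemC]; exact hyV
  let e : ∀ i, (C i).subscheme ⟶ W.toScheme := fun i => IsOpenImmersion.lift W.ι (C i).subschemeι (hrange i)
  have he : ∀ i, e i ≫ W.ι = (C i).subschemeι := fun i => IsOpenImmersion.lift_fac _ _ _
  haveI : ∀ i, IsClosedImmersion (e i) := fun i => by
    haveI : IsClosedImmersion (e i ≫ W.ι) := by rw [he i]; infer_instance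
    exact IsClosedImmersion.of_comp (e i) W.ι
  haveI := hCi
  let s : ∀ i, (C i).subscheme ⟶ Spec (CommRingCat.of k) := fun i => (C i).subschemeι ≫ (X ↘ Spec (CommRingCat.of k))
  have hker : ∀ j, (e j).ker = (C j).comap W.ι := fun j => by
    haveI : IsIso (pullback.snd W.ι (C j).subschemeι) := by
      refine (isIso_iff_isOpenImmersion_and_surjective _).mpr ⟨inferInstance, ⟨fun c => ?_⟩⟩
      have : c ∈ Set.range (pullback.snd W.ι (C j).subschemeι) := by
        rw [IsOpenImmersion.range_pullbackSnd]
        exact hrange j ⟨c, rfl⟩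
      exact this
    have h1 : e j = inv (pullback.snd W.ι (C j).subschemeι) ≫ pullback.fst W.ι (C j).subschemeι := by
      rw [← cancel_mono W.ι, he j, Category.assoc, pullback.condition, IsIso.inv_hom_id_assoc]
    rw [h1, Scheme.Hom.ker_comp_of_isIso]
    rfl
  have hCc : ∀ j, BlowUp.IsEffCartierIdeal (C j) := fun j =>
    SurfNumLib.isEffCartier_curve k (X := X) hdim hreg (C j) (hCd j)
  have hcart : ∀ j, BlowUp.IsEffCartierIdeal (e j).ker := fun j => by
    rw [hker j]; exact BlowUpLib.isEffCartier_comap_of_flat W.ι (hCc j)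
  have hEd : ∀ i, topologicalKrullDim (C i).subscheme = 1 := fun i => by
    rw [← hCd i]
    exact ((C i).subschemeι.isEmbedding.toHomeomorph.trans
      (Homeomorph.setCongr (C i).range_subschemeι)).isHomeomorph.topologicalKrullDim_eq
  have hs : ∀ i, e i ≫ πW = s i ≫ Spec.map (CommRingCat.ofHom ρ) := fun i => by
    rw [hρm]
    show e i ≫ (π ∣_ V) ≫ _ = s i ≫ yV ≫ _
    have h1 : (e i ≫ (π ∣_ V)) ≫ V.ι ≫ hY = s i := by
      rw [Category.assoc, morphismRestrict_ι_assoc, hπk, reassoc_of% (he i)]
    haveI : IsProper (s i) := inferInstance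
    haveI : LocallyOfFiniteType ((e i ≫ (π ∣_ V)) ≫ V.ι ≫ hY) := by rw [h1]; infer_instance
    have h2 : e i ≫ (π ∣_ V) = s i ≫ yV := by
      refine ext_of_apply_eq (V.ι ≫ hY) Set.univ isClosed_univ.isLocallyClosed dense_univ (fun c _ _ => ?_) ?_
      · refine V.ι.isOpenEmbedding.injective ?_
        rw [Scheme.Hom.comp_apply, Scheme.Hom.comp_apply, pointOfClosedPoint_apply]
        show V.ι ((π ∣_ V) (e i c)) = y
        rw [← Scheme.Hom.comp_apply, morphismRestrict_ι, Scheme.Hom.comp_apply]
        rw [← Scheme.Hom.comp_apply (e i) W.ι, he i]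
        exact hmemC i c
      · rw [h1, Category.assoc, hyc, Category.comp_id]
    rw [reassoc_of% h2]
  have hdist : ∀ i j, i ≠ j → Set.range (e i).base ≠ Set.range (e j).base := fun i j hij h => by
    refine hij (hC ?_)
    have h1 : ((C i).support : Set X) = (C j).support := by
      rw [← (C i).range_subschemeι, ← (C j).range_subschemeι, ← he i, ← he j]
      show Set.range (W.ι.base ∘ (e i).base) = Set.range (W.ι.base ∘ (e j).base)
      rw [Set.range_comp, Set.range_comp, h]
    rw [AlgSpRegLib.eq_vanishingIdeal_support (C i), AlgSpRegLib.eq_vanishingIdeal_support (C j),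
      TopologicalSpace.Closeds.ext h1]
  let O : Y.Opens := ⟨({y} : Set Y)ᶜ, hy.isOpen_compl⟩
  let U : (Spec R).Opens := V.toScheme.isoSpec.inv ⁻¹ᵁ (V.ι ⁻¹ᵁ O)
  haveI : IsIso (π ∣_ O) := hiso
  haveI : IsIso (πW ∣_ U) := by
    haveI : IsIso ((π ∣_ V) ∣_ (V.ι ⁻¹ᵁ O)) := ((MorphismProperty.isomorphisms Scheme).arrow_mk_iso_iff
      (morphismRestrictRestrict π V (V.ι ⁻¹ᵁ O))).2 (ModifLib.isIso_restrict_of_le π (U := O) (by
        rintro _ ⟨w, hw, rfl⟩; exact hw))
    have hU : V.toScheme.isoSpec.hom ⁻¹ᵁ U = V.ι ⁻¹ᵁ O := by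
      simp only [U, ← Scheme.Hom.comp_preimage, Iso.hom_inv_id_assoc]
    haveI : IsIso ((π ∣_ V) ∣_ (V.toScheme.isoSpec.hom ⁻¹ᵁ U)) := by rw [hU]; infer_instance
    show IsIso (((π ∣_ V) ≫ V.toScheme.isoSpec.hom) ∣_ U)
    rw [morphismRestrict_comp]
    infer_instance
  have hUne : (U : Set (Spec R)).Nonempty := by
    have hne : (genericPoint Y) ≠ y := fun h => by
      have h1 : (Set.univ : Set Y) = {y} := by rw [← hy.closure_eq, ← h, (genericPoint_spec Y).def]
      haveI : Subsingleton Y := ⟨fun a b => by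
        have ha : a ∈ ({y} : Set Y) := h1 ▸ Set.mem_univ a
        have hb : b ∈ ({y} : Set Y) := h1 ▸ Set.mem_univ b
        exact (Set.mem_singleton_iff.1 ha).trans (Set.mem_singleton_iff.1 hb).symm⟩
      haveI : Subsingleton (TopologicalSpace.IrreducibleCloseds Y) := ⟨fun a b => TopologicalSpace.IrreducibleCloseds.ext
        ((Subsingleton.eq_univ_of_nonempty a.isIrreducible.nonempty).trans
          (Subsingleton.eq_univ_of_nonempty b.isIrreducible.nonempty).symm)⟩
      have h0 : topologicalKrullDim Y ≤ 0 := Order.krullDim_nonpos_of_subsingleton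
      rw [hYd] at h0
      exact absurd h0 (by norm_num)
    have hgV : genericPoint Y ∈ V := ((genericPoint_spec Y).mem_open_set_iff V.2).2 ⟨y, trivial, hyV⟩
    refine ⟨V.toScheme.isoSpec.hom ⟨genericPoint Y, hgV⟩, ?_⟩
    show V.ι (V.toScheme.isoSpec.inv (V.toScheme.isoSpec.hom ⟨genericPoint Y, hgV⟩)) ∈ O
    rw [← Scheme.Hom.comp_apply V.toScheme.isoSpec.hom, Iso.hom_inv_id]
    exact hne
  have hout : ∀ i c, πW (e i c) ∉ U := fun i c h => by
    have h1 : V.ι ((π ∣_ V) (e i c)) ∈ O := by
      have h2 : V.ι (V.toScheme.isoSpec.inv (V.toScheme.isoSpec.hom ((π ∣_ V) (e i c)))) ∈ O := h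
      rwa [← Scheme.Hom.comp_apply V.toScheme.isoSpec.hom, Iso.hom_inv_id] at h2
    rw [← Scheme.Hom.comp_apply, morphismRestrict_ι, Scheme.Hom.comp_apply, ← Scheme.Hom.comp_apply (e i), he i] at h1
    exact h1 (hmemC i c)
  intro a ha
  have hpos := NegLib.contracted_pos R πW U hUne k ρ hρ _ e hEd hcart s hs hdist hout a ha
  have hM : ∀ i j, HodgeIdxLib.pr k (ClSub.idealMod (C i)) (ClSub.idealMod (C j)) =
      -NegLib.dg (s i) (KFlatLib.pb (e i) (ClSub.idealMod (e j).ker)) := fun i j => by
    letI : (C i).subscheme.Over (Spec (CommRingCat.of k)) := ⟨s i⟩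
    haveI : IsProper ((C i).subscheme ↘ Spec (CommRingCat.of k)) := inferInstanceAs (IsProper (s i))
    haveI := CurvLib.isNoetherian k (X := (C i).subscheme)
    have hI := IntMultLib.isInvertible_idealMod _ (hCc j)
    rw [SurfNumLib.pr_ideal (C i) (CurvLib.isCoh_of_isInvertible (IntMultLib.isInvertible_idealMod _ (hCc i))) hI]
    obtain ⟨q⟩ := SurfNumLib.quotMod_ker_iso (C i).subschemeι
    rw [Scheme.IdealSheafData.ker_subschemeι] at q
    rw [IntFunLib.N_congr [ClSub.idealMod (C j)] q]
    have h2 := IntFunLib.N_push (k := k) (g := (C i).subschemeι) rfl (l := [ClSub.idealMod (C j)]) (by simpa using hI)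
      (DevissLib.isCoh_structureModule (C i).subscheme)
      ((topologicalKrullDim_subspace_le _ _).trans (by rw [hEd i]; simp))
    change IntFunLib.N k [KFlatLib.pb (C i).subschemeι (ClSub.idealMod (C j))] (Coh.structureModule (C i).subscheme) = _ at h2
    rw [← h2, ← IntFunLib.euler_sub_eq_N]
    obtain ⟨b⟩ := SymSqLib.nonempty_pb_ideal (f := W.ι) (K := C j) hI
      (IntMultLib.isInvertible_idealMod _ (BlowUpLib.isEffCartier_comap_of_flat W.ι (hCc j)))
    show _ = -(Curv2.deg k (C i).subscheme _ 1)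
    rw [CurvLib.deg_congr ((Scheme.Modules.pullback (e i)).mapIso (eqToIso (congrArg ClSub.idealMod (hker j)) ≪≫ b.symm) ≪≫
      (Scheme.Modules.pullbackComp (e i) W.ι).app _ ≪≫ (Scheme.Modules.pullbackCongr (he i)).app _), Curv2.deg,
      Nat.cast_one, one_mul]
  simp only [SurfNumLib.intNum_eq_pr_two hdim, hM, mul_neg, Finset.sum_neg_distrib, neg_lt_zero]
  exact hpos

end Groth.Agent.S18460
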