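import Groth.Statements.S18461
import Mathlib
import Groth.Agent.SurfAmpleLib.Class
import Groth.Agent.ExtTopLib.Top
-- import your own Groth.Agent.* helpers here

set_option autoImplicit false
universe u
open CategoryTheory CategoryTheory.Limits AlgebraicGeometry TopologicalSpace
open Surf

namespace Groth.Agent.S18461

/-- Let k be an algebraically closed field of characteristic zero and X a smooth projective surface over
k (integral, proper and smooth over k, of dimension 2). Let C_1, …, C_r (r ≥ 1) be pairwise distinct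
integral curves on X, with ideal sheaves I_i, forming a connected configuration with negative
definite intersection matrix (no partition of the indices into two nonempty sets with (I_i·I_j) = 0
across; Σ a_i a_j (I_i·I_j) < 0 for every nonzero integer vector a; (A·B) = χ(O_X) − χ(A) − χ(B) +
χ(A ⊗ B)), and let Z₀ be a fundamental cycle: a nonzero effective Cartier divisor supported on ⋃ C_i
with deg(I_{Z₀}|_{C_i}) = χ(O_{C_i} ⊗ I_{Z₀}) − χ(O_{C_i}) ≥ 0 for all i, every other such divisor Z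
satisfying Z ≥ Z₀ (I_Z ⊆ I_{Z₀}). Suppose the configuration is rational in the sense that H¹(Z, O_Z)
= 0 for every nonzero effective Cartier divisor Z supported on ⋃ C_i. Then for every natural number
N, writing O_{Z₀}(−NZ₀) = O_{Z₀} ⊗ I_{Z₀}^{⊗N}: H¹(Z₀, O_{Z₀}(−NZ₀)) = 0 and dim_k H⁰(Z₀,
O_{Z₀}(−NZ₀)) = −N·(I_{Z₀}·I_{Z₀}) + 1, that is −N·Z₀² + 1; cohomology is computed on X through the
direct image of O_{Z₀}. The published statement assumes the singularity obtained by contracting the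
configuration over the complex numbers rational, which is equivalent to the vanishing assumed here,
and also asserts R¹π_*O_X(−NZ₀) = 0 for the contraction π and two facts on the maximal ideal of that
singularity; those are not restated. -/
theorem result (k : Type u) [Field k] [IsAlgClosed k] [CharZero k]
    (X : Scheme.{u}) [X.Over (Spec (CommRingCat.of k))] [IsProper (X ↘ (Spec (CommRingCat.of k)))]
    [Smooth (X ↘ (Spec (CommRingCat.of k)))] [IsIntegral X] (hdim : topologicalKrullDim X = 2)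
    (r : ℕ) (hr : 0 < r) (C : Fin r → X.IdealSheafData) (hC : Function.Injective C)
    (hCi : ∀ i, IsIntegral (C i).subscheme) (hCd : ∀ i, topologicalKrullDim ((C i).support : Set X) = 1)
    (hconn : ∀ S : Finset (Fin r), S.Nonempty → Sᶜ.Nonempty →
      ∃ i ∈ S, ∃ j ∈ Sᶜ, FGA.intNum k X 2 ![(ClSub.idealMod (C i)), (ClSub.idealMod (C j))] (Coh.structureModule X) ≠ 0)
    (hneg : ∀ a : Fin r → ℤ, a ≠ 0 →
      ∑ i, ∑ j, a i * a j * FGA.intNum k X 2 ![(ClSub.idealMod (C i)), (ClSub.idealMod (C j))] (Coh.structureModule X) < 0)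
    (Z₀ : X.IdealSheafData) (hZ₀ : FGA.IsEffCartier Z₀) (hZ₀0 : Z₀ ≠ ⊤)
    (hZ₀s : (Z₀.support : Set X) ⊆ ⋃ i, ((C i).support : Set X))
    (hZ₀C : ∀ i, 0 ≤ Curv2.euler k X (CohB1.tensorMod (ClSub.quotMod (C i)) (ClSub.idealMod Z₀)) -
      Curv2.euler k X (ClSub.quotMod (C i)))
    (hZ₀min : ∀ Z : X.IdealSheafData, FGA.IsEffCartier Z → Z ≠ ⊤ → (Z.support : Set X) ⊆ ⋃ i, ((C i).support : Set X) →
      (∀ i, 0 ≤ Curv2.euler k X (CohB1.tensorMod (ClSub.quotMod (C i)) (ClSub.idealMod Z)) -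
        Curv2.euler k X (ClSub.quotMod (C i))) → Z ≤ Z₀)
    (hrat : ∀ Z : X.IdealSheafData, FGA.IsEffCartier Z → Z ≠ ⊤ → (Z.support : Set X) ⊆ ⋃ i, ((C i).support : Set X) →
      Subsingleton (Coh.HH X (ClSub.quotMod Z) 1))
    (N : ℕ) :
    Subsingleton (Coh.HH X (CohB1.tensorMod (ClSub.quotMod Z₀) (CohB1.tensorPow (ClSub.idealMod Z₀) N)) 1) ∧
      (Module.finrank k (Coh.HH X (CohB1.tensorMod (ClSub.quotMod Z₀) (CohB1.tensorPow (ClSub.idealMod Z₀) N)) 0) : ℤ) =
        -(N : ℤ) * FGA.intNum k X 2 ![(ClSub.idealMod Z₀), (ClSub.idealMod Z₀)] (Coh.structureModule X) + 1 := by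
  have hX : topologicalKrullDim X = ((2 : ℕ) : WithBot ℕ∞) := hdim
  haveI := CurvLib.isNoetherian k (X := X)
  haveI := SurfNumLib.smoothRel_of_dim (k := k) hX
  obtain ⟨H, hH⟩ := SurfAmpleLib.exists_ample_of_smooth k hX
  obtain ⟨W, hW⟩ := ExtTopLib.exists_isExtPow (n := 2) (CohCmpLib.rank_omega (X ↘ Spec (CommRingCat.of k)) 2)
  have hI := IntMultLib.isInvertible_idealMod Z₀ hZ₀
  have hL := AmpleThLib.tensorPow_isInvertible hI N
  have hdim1 := SurfAmpleLib.support_dim_quot hX hZ₀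
  have hcart : ∀ i, BlowUp.IsEffCartierIdeal (C i) := fun i => by
    haveI := hCi i
    exact SurfAmpleLib.isEffCartier_curve' k hX (C i) (hCd i)
  have hdC : ∀ i, topologicalKrullDim (CohB1.support (ClSub.quotMod (C i))) ≤
      ((([] : List X.Modules).length + 1 : ℕ) : WithBot ℕ∞) := fun i => by
    simpa using SurfAmpleLib.support_dim_quot hX (hcart i)
  have hdeg : ∀ (Y : X.IdealSheafData) (i : Fin r),
      Curv2.euler k X (CohB1.tensorMod (ClSub.quotMod (C i)) (ClSub.idealMod Y)) - Curv2.euler k X (ClSub.quotMod (C i)) =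
        IntFunLib.N k [ClSub.idealMod Y] (ClSub.quotMod (C i)) := fun Y i => by
    rw [IntFunLib.N, IntFunLib.N, IntFunLib.N, CurvLib.euler_congr (HilbPolyLib.swapIso (ClSub.quotMod (C i)) (ClSub.idealMod Y))]
  have hgen : ∀ c : X, topologicalKrullDim (closure ({c} : Set X)) = ((1 : ℕ) : WithBot ℕ∞) →
      c ∈ Z₀.support → ∃ i, C i = IntMultLib.ptIdeal c := fun c hc hcZ => by
    obtain ⟨i, hi⟩ := Set.mem_iUnion.1 (hZ₀s hcZ)
    haveI := hCi i
    refine ⟨i, ?_⟩
    have hp := IntFunLib.eq_ptIdeal (C i)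
    have hpd := IntFunLib.dim_generic_of_support (C i)
    rw [hp, Scheme.IdealSheafData.coe_support_vanishingIdeal] at hi
    rw [hCd i] at hpd
    have he := IntMultLib.eq_of_specializes_of_dim isClosed_closure (d := 1) (Y := closure {(C i).subschemeι (genericPoint ↥(C i).subscheme)}) (le_of_eq (by rw [hpd, Nat.cast_one])) hc
      (subset_closure rfl) (specializes_iff_mem_closure.mpr hi)
    rw [hp, he]
  have hlinc : ∀ c : X, topologicalKrullDim (closure ({c} : Set X)) = ((1 : ℕ) : WithBot ℕ∞) →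
      Z₀ ≤ IntMultLib.ptIdeal c → c ∈ Z₀.support := fun c _ hle => by
    refine (Scheme.IdealSheafData.le_support_iff_le_vanishingIdeal.2 hle) ?_
    exact subset_closure rfl
  have hsupY : ∀ Y J : X.IdealSheafData, Z₀ = Y * J → (Y.support : Set X) ⊆ ⋃ i, ((C i).support : Set X) :=
    fun Y J he x hx => hZ₀s (by rw [he, Scheme.IdealSheafData.support_mul]; exact Or.inl hx)
  have hχle : ∀ Y J : X.IdealSheafData, BlowUp.IsEffCartierIdeal Y → BlowUp.IsEffCartierIdeal J → Y ≠ ⊤ → Z₀ = Y * J →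
      1 ≤ Curv2.euler k X (ClSub.quotMod Y) := fun Y J hY hJ hne he => by
    haveI := hrat Y hY hne (hsupY Y J he)
    rw [HodgeIdxLib.euler_eq_of_dim_one (CurvLib.isCoh_quotMod _) (SurfAmpleLib.support_dim_quot hX hY),
      show HodgeIdxLib.hh k (ClSub.quotMod Y) 1 = 0 from Module.finrank_zero_of_subsingleton]
    have := SurfAmpleLib.one_le_h0_quot (k := k) hX hY hne
    omega
  have hLdeg : ∀ c : X, topologicalKrullDim (closure ({c} : Set X)) = ((1 : ℕ) : WithBot ℕ∞) →
      Z₀ ≤ IntMultLib.ptIdeal c → 0 ≤ IntFunLib.N k [CohB1.tensorPow (ClSub.idealMod Z₀) N] (IntFunLib.Fpt c) := fun c hc hle => by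
    obtain ⟨i, hi⟩ := hgen c hc (hlinc c hc hle)
    change 0 ≤ IntFunLib.N k [CohB1.tensorPow (ClSub.idealMod Z₀) N] (ClSub.quotMod (IntMultLib.ptIdeal c))
    rw [← hi, IntFunLib.N_pow (l := []) (by simp) hI (CurvLib.isCoh_quotMod _) (hdC i)]
    exact mul_nonneg (Int.natCast_nonneg _) (hdeg Z₀ i ▸ hZ₀C i)
  have h1 : HodgeIdxLib.hh k (CohB1.tensorMod (CohB1.tensorPow (ClSub.idealMod Z₀) N) (ClSub.quotMod Z₀)) 1 = 0 :=
    SurfAmpleLib.h1_twist_zero hX _ hL hW hH Z₀ hZ₀ hZ₀0 rfl hχle hLdeg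
  have h0 : HodgeIdxLib.hh k (ClSub.quotMod Z₀) 0 = 1 := by
    have hO := CurvLib.isInvertible_structureModule (X := X)
    have hle := SurfAmpleLib.h0_le_one_of_grow (k := k) hX hZ₀ hZ₀0 (fun Y R hY hR hYne hRne he => ?_) hO
      (fun c hc _ => le_of_eq (by
        rw [IntFunLib.N, IntFunLib.N, IntFunLib.N, CurvLib.euler_congr (HilbPolyLib.unitLeft (IntFunLib.Fpt c)), sub_self]))
    · rw [HodgeIdxLib.hh_congr (k := k) (HilbPolyLib.unitLeft (ClSub.quotMod Z₀)) 0] at hle
      have := SurfAmpleLib.one_le_h0_quot (k := k) hX hZ₀ hZ₀0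
      omega
    · by_contra hno
      push Not at hno
      have hnef : ∀ i, 0 ≤ Curv2.euler k X (CohB1.tensorMod (ClSub.quotMod (C i)) (ClSub.idealMod Y)) -
          Curv2.euler k X (ClSub.quotMod (C i)) := fun i => by
        rw [hdeg Y i]
        haveI := hCi i
        by_cases hs : ((C i).support : Set X) ⊆ (R.support : Set X)
        · have hp := IntFunLib.eq_ptIdeal (C i)
          have hpd := IntFunLib.dim_generic_of_support (C i)
          rw [hCd i] at hpd
          rw [hp, Scheme.IdealSheafData.coe_support_vanishingIdeal] at hs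
          rw [hp]
          exact hno _ (by rw [hpd, Nat.cast_one]) (hs (subset_closure rfl))
        · have h2 := SurfNumLib.N_effCartier_nonpos (k := k) hR (C i) (hCd i) hs
          have h3 := SurfAmpleLib.N_mul (k := k) hY hR (l := []) (by simp) (CurvLib.isCoh_quotMod (C i)) (hdC i)
          rw [← he] at h3
          have h4 := hdeg Z₀ i ▸ hZ₀C i
          omega
      have hYZ := hZ₀min Y hY hYne (hsupY Y R he) hnef
      have hZY : Z₀ ≤ Y := he ▸ SurfAmpleLib.mul_le_left' Y R
      have heq : Z₀ = Y := le_antisymm hZY hYZ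
      have h5 := SurfAmpleLib.N_mul (k := k) hY hR (l := [H]) (by simpa using hH.1) (DevissLib.isCoh_structureModule X)
        ((topologicalKrullDim_subspace_le _ _).trans hX.le)
      rw [← he, heq] at h5
      change HodgeIdxLib.pr k (ClSub.idealMod Y) H = HodgeIdxLib.pr k (ClSub.idealMod Y) H + HodgeIdxLib.pr k (ClSub.idealMod R) H at h5
      have h6 := SurfNumLib.pr_effCartier_pos (k := k) hX hR hRne hH
      omega
  have hh1 : Subsingleton (Coh.HH X (ClSub.quotMod Z₀) 1) := hrat Z₀ hZ₀ hZ₀0 hZ₀s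
  let e := HilbPolyLib.swapIso (CohB1.tensorPow (ClSub.idealMod Z₀) N) (ClSub.quotMod Z₀)
  have hcoh := HilbPolyLib.isCoh_tensor hL (CurvLib.isCoh_quotMod Z₀)
  have hcoh' := QCohLib.isCoh_of_iso e hcoh
  constructor
  · haveI := CurvLib.finite_HH (k := k) hcoh' 1
    refine Module.finrank_zero_iff (R := k).1 ?_
    exact (HodgeIdxLib.hh_congr (k := k) e 1).symm.trans h1
  · change (HodgeIdxLib.hh k (CohB1.tensorMod (ClSub.quotMod Z₀) (CohB1.tensorPow (ClSub.idealMod Z₀) N)) 0 : ℤ) = _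
    rw [← HodgeIdxLib.hh_congr (k := k) e 0, SurfNumLib.intNum_eq_pr hX.le,
      SurfNumLib.pr_ideal Z₀ (CurvLib.isCoh_of_isInvertible hI) hI]
    have h7 : IntFunLib.N k [CohB1.tensorPow (ClSub.idealMod Z₀) N] (ClSub.quotMod Z₀) = N * IntFunLib.N k [ClSub.idealMod Z₀] (ClSub.quotMod Z₀) :=
      IntFunLib.N_pow (l := []) (by simp) hI (CurvLib.isCoh_quotMod _) (by simpa using hdim1) N
    have hs2 : topologicalKrullDim (CohB1.support (CohB1.tensorMod (CohB1.tensorPow (ClSub.idealMod Z₀) N) (ClSub.quotMod Z₀))) ≤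
        ((1 : ℕ) : WithBot ℕ∞) := by
      rw [HilbPolyLib.support_tensor hL (ClSub.quotMod Z₀)]
      exact hdim1
    rw [IntFunLib.N, IntFunLib.N, IntFunLib.N, HodgeIdxLib.euler_eq_of_dim_one hcoh hs2,
      HodgeIdxLib.euler_eq_of_dim_one (CurvLib.isCoh_quotMod _) hdim1, h1,
      show HodgeIdxLib.hh k (ClSub.quotMod Z₀) 1 = 0 from Module.finrank_zero_of_subsingleton, h0] at h7
    rw [neg_mul_neg]
    push_cast at h7
    linarith

end Groth.Agent.S18461
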