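import Groth.Statements.S18462
import Mathlib
import Groth.Agent.SurfNumLib.Config
-- import your own Groth.Agent.* helpers here

set_option autoImplicit false
universe u
open CategoryTheory CategoryTheory.Limits AlgebraicGeometry TopologicalSpace
open Surf

namespace Groth.Agent.S18462

/-- Let k be an algebraically closed field of characteristic zero and X a smooth projective surface over
k (integral, proper and smooth over k, of dimension 2, carrying an ample invertible module). Let
C_1, …, C_r be pairwise distinct integral curves on X with ideal sheaves I_i and negative definite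
intersection matrix (Σ_{i,j} a_i a_j (I_i·I_j) < 0 for every nonzero integer vector a, where (A·B) =
χ(O_X) − χ(A) − χ(B) + χ(A ⊗ B)), let F be an effective Cartier divisor on X, with ideal I_F, none
of whose components is a C_i, and let s_1, …, s_r be integers such that the divisor class F + Σ_i
s_i C_i is orthogonal to every C_j, that is (F·C_j) + Σ_i s_i (C_i·C_j) = 0, written here as
deg(I_F|_{C_j}) = χ(O_{C_j} ⊗ I_F) − χ(O_{C_j}) = Σ_i s_i (I_i·I_j) for every j. Then all the s_i
are nonnegative. The published statement allows real coefficients s_i; this row takes integer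
coefficients. Its second assertion, that s_i > 0 on every connected group of the C_i one of which
meets F positively, is not restated. -/
theorem result (k : Type u) [Field k] [IsAlgClosed k] [CharZero k]
    (X : Scheme.{u}) [X.Over (Spec (CommRingCat.of k))] [IsProper (X ↘ (Spec (CommRingCat.of k)))]
    [Smooth (X ↘ (Spec (CommRingCat.of k)))] [IsIntegral X] (hdim : topologicalKrullDim X = 2)
    (hproj : ∃ H : X.Modules, CohB1.IsAmple H)
    (r : ℕ) (C : Fin r → X.IdealSheafData) (hC : Function.Injective C)
    (hCi : ∀ i, IsIntegral (C i).subscheme) (hCd : ∀ i, topologicalKrullDim ((C i).support : Set X) = 1)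
    (hneg : ∀ a : Fin r → ℤ, a ≠ 0 →
      ∑ i, ∑ j, a i * a j * FGA.intNum k X 2 ![(ClSub.idealMod (C i)), (ClSub.idealMod (C j))] (Coh.structureModule X) < 0)
    (F : X.IdealSheafData) (hF : FGA.IsEffCartier F) (hFC : ∀ i, ¬ ((C i).support : Set X) ⊆ (F.support : Set X))
    (s : Fin r → ℤ)
    (horth : ∀ j, Curv2.euler k X (CohB1.tensorMod (ClSub.quotMod (C j)) (ClSub.idealMod F)) - Curv2.euler k X (ClSub.quotMod (C j)) =
      ∑ i, s i * FGA.intNum k X 2 ![(ClSub.idealMod (C i)), (ClSub.idealMod (C j))] (Coh.structureModule X)) :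
    ∀ i, 0 ≤ s i := by
  have hX : topologicalKrullDim X = ((2 : ℕ) : WithBot ℕ∞) := hdim
  have hreg : ∀ x : X, IsRegularLocalRing (X.presheaf.stalk x) :=
    WeilExtLib.isRegular_stalk_smooth (X ↘ Spec (CommRingCat.of k))
  obtain ⟨H, hH⟩ := hproj
  have hcart : ∀ i, BlowUp.IsEffCartierIdeal (C i) := fun i => by
    haveI := hCi i
    exact SurfNumLib.isEffCartier_curve k hX hreg (C i) (hCd i)
  have hinv : ∀ i, PicF.IsInvertible (ClSub.idealMod (C i)) := fun i => IntMultLib.isInvertible_idealMod _ (hcart i)
  have hG : ∀ i j, i ≠ j → 0 ≤ HodgeIdxLib.pr k (ClSub.idealMod (C i)) (ClSub.idealMod (C j)) := fun i j hij => by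
    haveI := hCi i; haveI := hCi j
    exact SurfNumLib.pr_curves_nonneg (hcart i) (hcart j) (hCd j)
      (SurfNumLib.not_subset_of_ne (hCd i) (hCd j) fun h => hij (hC h))
  have hh : ∀ i, HodgeIdxLib.pr k (ClSub.idealMod (C i)) H < 0 := fun i => SurfNumLib.pr_effCartier_pos hX (hcart i)
    (fun h => by
      have h1 := hCd i
      rw [h, Scheme.IdealSheafData.support_top] at h1
      have h2 : topologicalKrullDim (↥((⊥ : TopologicalSpace.Closeds X) : Set X)) = ⊥ := by
        haveI : IsEmpty (TopologicalSpace.IrreducibleCloseds ↥((⊥ : TopologicalSpace.Closeds X) : Set X)) :=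
          ⟨fun c => by obtain ⟨x, -⟩ := c.isIrreducible.nonempty; exact x.2⟩
        exact Order.krullDim_eq_bot
      rw [h2] at h1
      simp at h1) hH
  simp only [SurfNumLib.intNum_eq_pr_two hdim] at *
  intro i
  by_contra hi
  push Not at hi
  haveI := CurvLib.isNoetherian k (X := X)
  have h1 := SurfNumLib.parts_nonneg _ hG (fun l => -s l)
    (fun j => -(Curv2.euler k X (CohB1.tensorMod (ClSub.quotMod (C j)) (ClSub.idealMod F)) -
      Curv2.euler k X (ClSub.quotMod (C j)))) (fun j => by
    haveI := hCi j
    have h := SurfNumLib.N_effCartier_nonpos (k := k) (X := X) hF (C j) (hCd j) (hFC j)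
    rw [IntFunLib.N, IntFunLib.N, IntFunLib.N, CurvLib.euler_congr (HilbPolyLib.swapIso (ClSub.idealMod F) (ClSub.quotMod (C j)))] at h
    linarith) (fun j => by simp only [neg_mul, Finset.sum_neg_distrib, horth j])
  have h3 := hneg (fun l => max (-s l) 0) (fun h0 => by
    have : max (-s i) 0 = 0 := congrFun h0 i
    have := le_max_left (-s i) 0
    omega)

  linarith

end Groth.Agent.S18462
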