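import Groth.Statements.S18463
import Mathlib
import Groth.Agent.SurfNumLib.Config
-- import your own Groth.Agent.* helpers here

set_option autoImplicit false
universe u
open CategoryTheory CategoryTheory.Limits AlgebraicGeometry TopologicalSpace
open Surf

namespace Groth.Agent.S18463

/-- Let k be an algebraically closed field of characteristic zero and X a smooth projective surface over
k (integral, proper and smooth over k, of dimension 2, carrying an ample invertible module). Let
C_1, …, C_r be pairwise distinct integral curves on X with ideal sheaves I_i and negative definite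
intersection matrix (Σ_{i,j} a_i a_j (I_i·I_j) < 0 for every nonzero integer vector a, where (A·B) =
χ(O_X) − χ(A) − χ(B) + χ(A ⊗ B)), let F be an effective Cartier divisor on X, with ideal I_F, none
of whose components is a C_i, and let s_1, …, s_r be integers such that F is numerically equivalent
to Σ_i s_i C_i: (I_F·M) = Σ_i s_i (I_i·M) for every invertible O_X-module M (equivalently (F·D) = Σ
s_i (C_i·D) for every divisor D). Then F = 0, i.e. I_F = O_X, and every s_i is 0. The published
statement writes the hypothesis as [F] + Σ s_i[C_i] = 0 with real s_i; this row writes F ≡ Σ s_i C_i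
with integer s_i, which is the same after changing the signs of the s_i. -/
theorem result (k : Type u) [Field k] [IsAlgClosed k] [CharZero k]
    (X : Scheme.{u}) [X.Over (Spec (CommRingCat.of k))] [IsProper (X ↘ (Spec (CommRingCat.of k)))]
    [Smooth (X ↘ (Spec (CommRingCat.of k)))] [IsIntegral X] (hdim : topologicalKrullDim X = 2)
    (hproj : ∃ H : X.Modules, CohB1.IsAmple H)
    (r : ℕ) (C : Fin r → X.IdealSheafData) (hC : Function.Injective C)
    (hCi : ∀ i, IsIntegral (C i).subscheme) (hCd : ∀ i, topologicalKrullDim ((C i).support : Set X) = 1)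
    (hneg : ∀ a : Fin r → ℤ, a ≠ 0 →
      ∑ i, ∑ j, a i * a j * FGA.intNum k X 2 ![(ClSub.idealMod (C i)), (ClSub.idealMod (C j))] (Coh.structureModule X) < 0)
    (F : X.IdealSheafData) (hF : FGA.IsEffCartier F) (hFC : ∀ i, ¬ ((C i).support : Set X) ⊆ (F.support : Set X))
    (s : Fin r → ℤ)
    (hnum : ∀ M : X.Modules, PicF.IsInvertible M →
      FGA.intNum k X 2 ![(ClSub.idealMod F), M] (Coh.structureModule X) =
        ∑ i, s i * FGA.intNum k X 2 ![(ClSub.idealMod (C i)), M] (Coh.structureModule X)) :
    F = ⊤ ∧ ∀ i, s i = 0 := by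
  have hX : topologicalKrullDim X = ((2 : ℕ) : WithBot ℕ∞) := hdim
  have hreg : ∀ x : X, IsRegularLocalRing (X.presheaf.stalk x) :=
    WeilExtLib.isRegular_stalk_smooth (X ↘ Spec (CommRingCat.of k))
  obtain ⟨H, hH⟩ := hproj
  have hcart : ∀ i, BlowUp.IsEffCartierIdeal (C i) := fun i => by
    haveI := hCi i
    exact SurfNumLib.isEffCartier_curve k hX hreg (C i) (hCd i)
  have hinv : ∀ i, PicF.IsInvertible (ClSub.idealMod (C i)) := fun i => IntMultLib.isInvertible_idealMod _ (hcart i)
  have hG : ∀ i j, i ≠ j → 0 ≤ HodgeIdxLib.pr k (ClSub.idealMod (C i)) (ClSub.idealMod (C j)) := fun i j hij => by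
    haveI := hCi i; haveI := hCi j
    exact SurfNumLib.pr_curves_nonneg (hcart i) (hcart j) (hCd j)
      (SurfNumLib.not_subset_of_ne (hCd i) (hCd j) fun h => hij (hC h))
  have hh : ∀ i, HodgeIdxLib.pr k (ClSub.idealMod (C i)) H < 0 := fun i => SurfNumLib.pr_effCartier_pos hX (hcart i)
    (fun h => by
      have h1 := hCd i
      rw [h, Scheme.IdealSheafData.support_top] at h1
      have h2 : topologicalKrullDim (↥((⊥ : TopologicalSpace.Closeds X) : Set X)) = ⊥ := by
        haveI : IsEmpty (TopologicalSpace.IrreducibleCloseds ↥((⊥ : TopologicalSpace.Closeds X) : Set X)) :=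
          ⟨fun c => by obtain ⟨x, -⟩ := c.isIrreducible.nonempty; exact x.2⟩
        exact Order.krullDim_eq_bot
      rw [h2] at h1
      simp at h1) hH
  simp only [SurfNumLib.intNum_eq_pr_two hdim] at *
  have hIF := IntMultLib.isInvertible_idealMod F hF
  have h1 := SurfNumLib.parts_nonneg _ hG s (fun j => HodgeIdxLib.pr k (ClSub.idealMod F) (ClSub.idealMod (C j))) (fun j => by
    haveI := hCi j
    exact SurfNumLib.pr_curves_nonneg hF (hcart j) (hCd j) (hFC j)) fun j => (hnum _ (hinv j)).symm
  have hs : ∀ i, s i ≤ 0 := fun i => by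
    by_contra hi
    push Not at hi
    have h3 := hneg (fun l => max (s l) 0) (fun h0 => by
      have : max (s i) 0 = 0 := congrFun h0 i
      have := le_max_left (s i) 0
      omega)

    linarith
  have hH0 := hnum H hH.1
  have hterm : ∀ l ∈ (Finset.univ : Finset (Fin r)), 0 ≤ s l * HodgeIdxLib.pr k (ClSub.idealMod (C l)) H :=
    fun l _ => mul_nonneg_of_nonpos_of_nonpos (hs l) (hh l).le
  have hF0 : F = ⊤ := by
    by_contra hne
    have h := SurfNumLib.pr_effCartier_pos (k := k) hX hF hne hH
    rw [hH0] at h
    exact absurd h (not_lt.mpr (Finset.sum_nonneg hterm))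
  refine ⟨hF0, fun i => ?_⟩
  have h0 : HodgeIdxLib.pr k (ClSub.idealMod F) H = 0 := by
    haveI := CurvLib.isNoetherian k (X := X)
    rw [SurfNumLib.pr_ideal F (CurvLib.isCoh_of_isInvertible hIF) hH.1, neg_eq_zero]
    refine IntFunLib.N_low (l := [H]) (by simpa using hH.1) (CurvLib.isCoh_quotMod F) ?_
    rw [SurfNumLib.support_quotMod_eq, hF0, Scheme.IdealSheafData.support_top]
    haveI : IsEmpty (TopologicalSpace.IrreducibleCloseds ↥((⊥ : TopologicalSpace.Closeds X) : Set X)) :=
      ⟨fun c => by obtain ⟨x, -⟩ := c.isIrreducible.nonempty; exact x.2⟩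
    exact Order.krullDim_eq_bot.trans_lt (WithBot.bot_lt_coe _)
  rw [h0] at hH0
  have h4 := (Finset.sum_eq_zero_iff_of_nonneg hterm).mp hH0.symm i (Finset.mem_univ _)
  exact (mul_eq_zero.mp h4).resolve_right (hh i).ne

end Groth.Agent.S18463
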