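import Groth.Statements.S18465
import Mathlib


-- import your own Groth.Agent.* helpers here

set_option autoImplicit false
universe u v w x
open WildLef

namespace Groth.Agent.S18465

/-- Let f : G₁ → G₂ be a homomorphism of groups, ρ : G₂ → Γ a homomorphism with finite image G, and A a
nontrivial commutative ring. Let G₂ act on the group algebra A[G] through ρ followed by the left
regular representation, and G₁ through f. If the elements of A[G] fixed by G₁ coincide with those
fixed by G₂, then ρ ∘ f and ρ have the same image. (The published statement has Γ a general linear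
group GL_r(A); over the zero ring that group is trivial, so requiring A nontrivial and allowing any
target group loses nothing.) -/
theorem result
    {G₁ : Type u} {G₂ : Type v} {Γ : Type w} [Group G₁] [Group G₂] [Group Γ]
    (f : G₁ →* G₂) (ρ : G₂ →* Γ) [Finite ρ.range] (A : Type x) [CommRing A] [Nontrivial A]
    (h : {x : MonoidAlgebra A ρ.range | ∀ g : G₁, MonoidAlgebra.of A ρ.range (ρ.rangeRestrict (f g)) * x = x} =
      {x : MonoidAlgebra A ρ.range | ∀ g : G₂, MonoidAlgebra.of A ρ.range (ρ.rangeRestrict g) * x = x}) :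
    (ρ.comp f).range = ρ.range := by
  classical
  haveI := Fintype.ofFinite ρ.range
  refine le_antisymm (by rintro _ ⟨g, rfl⟩; exact ⟨f g, rfl⟩) ?_
  rintro _ ⟨g, rfl⟩
  let H : Subgroup ρ.range := ((ρ.rangeRestrict).comp f).range
  let x : MonoidAlgebra A ρ.range := ∑ h : H, MonoidAlgebra.of A ρ.range (h : ρ.range)
  have hx : x ∈ {x : MonoidAlgebra A ρ.range | ∀ g : G₁, MonoidAlgebra.of A ρ.range (ρ.rangeRestrict (f g)) * x = x} := by
    intro g₁
    simp only [x, Finset.mul_sum, ← map_mul]
    exact Fintype.sum_bijective (fun h : H => (⟨ρ.rangeRestrict (f g₁), g₁, rfl⟩ : H) * h) (Group.mulLeft_bijective _) _ _ fun h => rfl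
  rw [h] at hx
  have hg := congrArg (fun z : MonoidAlgebra A ρ.range => z.coeff (ρ.rangeRestrict g)) (hx g)
  simp only [x, Finset.mul_sum, ← map_mul, MonoidAlgebra.of_apply, MonoidAlgebra.single_mul_single, mul_one, MonoidAlgebra.coeff_sum, MonoidAlgebra.coeff_single, Finsupp.coe_finsetSum, Finset.sum_apply, Finsupp.single_apply, mul_eq_left, OneMemClass.coe_eq_one, Finset.sum_ite_eq', Finset.mem_univ, if_true] at hg
  by_contra hne
  rw [Finset.sum_eq_zero] at hg
  · exact one_ne_zero hg
  · intro h _
    rw [if_neg]
    intro e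
    obtain ⟨g₁, hg₁⟩ := h.2
    exact hne ⟨g₁, congrArg Subtype.val (hg₁.trans e)⟩

end Groth.Agent.S18465
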