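import Groth.Statements.S18466
import Mathlib


-- import your own Groth.Agent.* helpers here

set_option autoImplicit false
universe u
open Hopf

namespace Groth.Agent.S18466

/-- Let k be a field and n ≥ 1. The constant group scheme ℤ/n over k is self-dual, that is, isomorphic
to its Cartier dual μ_n — equivalently the Hopf algebra of k-valued functions on the cyclic group of
order n and the group algebra of that group over k (group elements group-like) are isomorphic as
bialgebras — precisely when the field k has a primitive n-th root of unity, i.e. k contains n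
distinct n-th roots of unity in k. (The published statement assumes that the characteristic of k
does not divide n; both directions hold without that assumption by the same argument, since a
primitive n-th root of unity forces n to be nonzero in k, so it is omitted here.) -/
theorem result
    (k : Type u) [Field k] (n : ℕ) [NeZero n] :
    Nonempty (ConstGrp.F k (Multiplicative (ZMod n)) ≃ₐc[k] MonoidAlgebra k (Multiplicative (ZMod n))) ↔
      ∃ ζ : k, IsPrimitiveRoot ζ n := by
  open scoped TensorProduct in
  classical
  let G := Multiplicative (ZMod n)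
  let γ : G := Multiplicative.ofAdd (1 : ZMod n)
  have hpowγ : ∀ g : G, γ ^ (Multiplicative.toAdd g).val = g := fun g => by
    rw [← ofAdd_nsmul, nsmul_one, ZMod.natCast_zmod_val, ofAdd_toAdd]
  constructor
  · rintro ⟨e⟩
    let χ : ConstGrp.F k G := e.symm (MonoidAlgebra.single γ 1)
    have hgl : IsGroupLikeElem k χ := (MonoidAlgebra.isGroupLikeElem_single_one γ).map e.symm
    have hmul : ∀ a b : G, χ (a * b) = χ a * χ b := fun a b => by
      have h := congrArg (fun z => TensorProduct.lid k k (TensorProduct.map (ConstGrp.ev k a).toLinearMap (ConstGrp.ev k b).toLinearMap z)) hgl.comul_eq_tmul_self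
      rw [ConstGrp.comul_eq_sum] at h
      simp [map_sum, ConstGrp.e_apply] at h
      rwa [Finset.sum_eq_single a (fun x _ hx => by simp [Ne.symm hx]) (by simp), Finset.sum_eq_single b (fun x _ hx => by simp [Ne.symm hx]) (by simp), if_pos rfl, if_pos rfl] at h
    have h1 : χ 1 = 1 := by simpa using hgl.counit_eq_one
    let χh : G →* k := { toFun := χ, map_one' := h1, map_mul' := hmul }
    refine ⟨χ γ, ?_, fun m hm => ?_⟩
    · show χh γ ^ n = 1
      rw [← map_pow, show γ ^ n = 1 by rw [← ofAdd_nsmul]; simp, map_one]
    · have hχ : χ ^ m = 1 := ConstGrp.ext fun g => by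
        show (χ ^ m : ConstGrp.F k G) g = 1
        rw [← ConstGrp.ev_apply (R := k) g (χ ^ m), map_pow, ConstGrp.ev_apply]
        show χh g ^ m = 1
        rw [← hpowγ g, map_pow, ← pow_mul, mul_comm, pow_mul, show χh γ ^ m = 1 from hm, one_pow]
      have h := congrArg e hχ
      rw [map_pow, map_one, e.apply_symm_apply, MonoidAlgebra.single_pow, one_pow, MonoidAlgebra.one_def] at h
      have h2 : γ ^ m = 1 := by
        by_contra hne
        have := congrArg (fun t => t.coeff (γ ^ m)) h
        simp [Ne.symm hne] at this
      rw [← ofAdd_nsmul, ofAdd_eq_one, nsmul_one] at h2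
      exact (ZMod.natCast_eq_zero_iff _ _).1 h2
  · rintro ⟨ζ, hζ⟩
    have hζn := hζ.pow_eq_one
    let ch : G → G → k := fun j i => ζ ^ ((Multiplicative.toAdd j).val * (Multiplicative.toAdd i).val)
    have hadd : ∀ a b : ZMod n, ∀ c : ℕ, ζ ^ (c * (a + b).val) = ζ ^ (c * a.val) * ζ ^ (c * b.val) := fun a b c => by
      rw [← pow_add, ← mul_add, pow_mul', pow_mul' ζ c (a.val + b.val), ZMod.val_add, ← pow_eq_pow_mod (a.val + b.val) hζn]
    have hR : ∀ j a b, ch j (a * b) = ch j a * ch j b := fun j a b => hadd _ _ _
    have hL : ∀ i a b, ch (a * b) i = ch a i * ch b i := fun i a b => by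
      show ζ ^ _ = ζ ^ _ * ζ ^ _
      rw [mul_comm, mul_comm (Multiplicative.toAdd a).val, mul_comm (Multiplicative.toAdd b).val]
      exact hadd _ _ _
    have h0R : ∀ j, ch j 1 = 1 := fun j => by simp [ch]
    have h0L : ∀ i, ch 1 i = 1 := fun i => by simp [ch]
    let φ : G →* ConstGrp.F k G :=
      { toFun := fun j => ch j, map_one' := ConstGrp.ext fun i => h0L i, map_mul' := fun a b => ConstGrp.ext fun i => hL i a b }
    have hφgl : ∀ j, IsGroupLikeElem k (φ j) := fun j =>
      { counit_eq_one := h0R j
        comul_eq_tmul_self := by
          rw [ConstGrp.comul_eq_sum]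
          conv_rhs => rw [ConstGrp.eq_sum_smul_e (φ j)]
          simp only [TensorProduct.sum_tmul, TensorProduct.tmul_sum, TensorProduct.smul_tmul', TensorProduct.tmul_smul]
          try simp only [Finset.smul_sum]
          rw [Finset.sum_comm]
          refine Finset.sum_congr rfl fun a _ => Finset.sum_congr rfl fun b _ => ?_
          rw [show φ j (b * a) = φ j b * φ j a from hR j b a, TensorProduct.smul_tmul', smul_smul, mul_comm] }
    let f := MonoidAlgebra.lift k (ConstGrp.F k G) G φ
    have hf : ∀ j, f (MonoidAlgebra.single j (1 : k)) = φ j := fun j => by simp [f]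
    let F' : MonoidAlgebra k G →ₐc[k] ConstGrp.F k G := BialgHom.ofAlgHom f
      (MonoidAlgebra.algHom_ext (fun j => by
        show Coalgebra.counit (R := k) (f (MonoidAlgebra.single j (1 : k))) = Coalgebra.counit (R := k) (MonoidAlgebra.single j (1 : k))
        rw [hf, MonoidAlgebra.counit_single]; simpa using (hφgl j).counit_eq_one) (Subsingleton.elim _ _))
      (MonoidAlgebra.algHom_ext (fun j => by
        show Algebra.TensorProduct.map f f (Coalgebra.comul (R := k) (MonoidAlgebra.single j (1 : k))) = Coalgebra.comul (R := k) (f (MonoidAlgebra.single j (1 : k)))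
        rw [hf, (hφgl j).comul_eq_tmul_self, MonoidAlgebra.comul_single]
        simp [hf]) (Subsingleton.elim _ _))
    have hinjφ : Function.Injective φ := by
      intro a b hab
      have h := congrFun hab γ
      show a = b
      rcases eq_or_ne n 1 with hn1 | hn1
      · subst hn1; exact Subsingleton.elim _ _
      haveI : Fact (1 < n) := ⟨by have := NeZero.ne n; omega⟩
      have hval : (Multiplicative.toAdd γ).val = 1 := ZMod.val_one n
      have h' : ζ ^ (Multiplicative.toAdd a).val = ζ ^ (Multiplicative.toAdd b).val := by
        simpa [φ, ch, hval] using h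
      exact Multiplicative.toAdd.injective (ZMod.val_injective n (hζ.pow_inj (ZMod.val_lt _) (ZMod.val_lt _) h'))
    have hinj : Function.Injective F' := by
      have hli : LinearIndependent k φ :=
        (linearIndepOn_isGroupLikeElem (R := k) (A := ConstGrp.F k G)).comp (fun j => (⟨φ j, hφgl j⟩ : {a : ConstGrp.F k G | IsGroupLikeElem k a}))
          fun a b h => hinjφ (congrArg Subtype.val h :)
      show Function.Injective f.toLinearMap
      have hfb : f.toLinearMap = (MonoidAlgebra.basis G k).constr k φ := (MonoidAlgebra.basis G k).ext fun j => by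
        rw [Module.Basis.constr_basis, MonoidAlgebra.basis_apply, AlgHom.toLinearMap_apply, hf]
      rw [hfb]
      exact (MonoidAlgebra.basis G k).injective_constr_of_linearIndependent hli
    have hsurj : Function.Surjective F' := by
      haveI : Module.Finite k (MonoidAlgebra k G) := Module.Finite.of_basis (MonoidAlgebra.basis G k)
      refine (LinearMap.injective_iff_surjective_of_finrank_eq_finrank ?_).1 (show Function.Injective f.toLinearMap from hinj)
      rw [Module.finrank_eq_card_basis (MonoidAlgebra.basis G k), Module.finrank_eq_card_basis (ConstGrp.basis k G)]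
    exact ⟨(BialgEquiv.ofBijective F' ⟨hinj, hsurj⟩).symm⟩

end Groth.Agent.S18466
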