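import Groth.Statements.S18467
import Mathlib.FieldTheory.Finite.Basic
import Mathlib.RingTheory.IntegralDomain
import Mathlib.Tactic

set_option autoImplicit false
universe u
open Hopf

namespace Groth.Agent.S18467

/-- Let p be a prime and R a commutative ring containing an element u with u(p − 1) = 1, and let χ be a
homomorphism from the group of units of ℤ/p to the group of units of R such that χ(m) − 1 is a unit
of R for every m ≠ 1. For 0 ≤ i < p − 1 put e_i = u · Σ_m χ(m)^{−i} [m] in the group algebra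
R[(ℤ/p)ˣ]. Then the e_i are idempotents, e_i e_j = 0 for i ≠ j, and Σ_i e_i = 1. (The published
statement is for algebras over the subring of the p-adic integers generated over ℤ by the values of
the Teichmüller character χ and by 1/(p(p − 1)); the hypotheses on R and χ here are the properties
of that situation which the computation uses, so the row is stated for every such pair.) -/
theorem result
    (p : ℕ) [Fact p.Prime] (R : Type u) [CommRing R] (u : R) (hu : u * ((p - 1 : ℕ) : R) = 1)
    (χ : (ZMod p)ˣ →* Rˣ) (hχ : ∀ m : (ZMod p)ˣ, m ≠ 1 → IsUnit ((χ m : R) - 1)) :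
    CompleteOrthogonalIdempotents (fun i : Fin (p - 1) =>
      u • ∑ m : (ZMod p)ˣ, ((χ m⁻¹ : Rˣ) : R) ^ (i : ℕ) • MonoidAlgebra.of R (ZMod p)ˣ m) := by
  classical
  let G := (ZMod p)ˣ
  have hN : Fintype.card G = p - 1 := ZMod.card_units p
  have hsum0 : ∀ f : G →* Rˣ, ∀ g : G, IsUnit ((f g : R) - 1) → ∑ m : G, (f m : R) = 0 := by
    intro f g hg
    have h : (f g : R) * ∑ m : G, (f m : R) = ∑ m : G, (f m : R) := by
      rw [Finset.mul_sum]
      exact Fintype.sum_equiv (Equiv.mulLeft g) _ _ (fun m => by simp)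
    exact hg.mul_right_eq_zero.mp (by rw [sub_mul, h, one_mul, sub_self])
  have horth : ∀ i j : Fin (p - 1), ∑ m : G, ((χ m⁻¹ : Rˣ) : R) ^ (i : ℕ) * ((χ m : Rˣ) : R) ^ (j : ℕ)
      = if i = j then ((p - 1 : ℕ) : R) else 0 := by
    intro i j
    split_ifs with hij
    · subst hij
      simp [← mul_pow, G, ← hN]
    · obtain ⟨g, hg⟩ := IsCyclic.exists_generator (α := G)
      have ho : orderOf g = p - 1 := by
        rw [orderOf_eq_card_of_forall_mem_zpowers hg, Nat.card_eq_fintype_card, hN]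
      let f : G →* Rˣ := χ.comp (zpowGroupHom ((j : ℤ) - (i : ℤ)))
      have hne : g ^ ((j : ℤ) - (i : ℤ)) ≠ 1 := by
        intro h
        have hd := orderOf_dvd_iff_zpow_eq_one.mpr h
        rw [ho] at hd
        apply hij
        have hi := i.isLt
        have hj := j.isLt
        have := Int.eq_zero_of_dvd_of_natAbs_lt_natAbs hd (by omega)
        ext
        omega
      have := hsum0 f g (hχ _ hne)
      rw [← this]
      refine Finset.sum_congr rfl fun m _ => ?_
      have e : f m = (χ m⁻¹) ^ (i : ℕ) * (χ m) ^ (j : ℕ) := by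
        show χ (m ^ ((j : ℤ) - (i : ℤ))) = _
        rw [zpow_sub, zpow_natCast, zpow_natCast, map_mul, map_inv, map_pow, map_pow, map_inv,
          inv_pow, mul_comm]
      rw [e]
      simp
  have hmul : ∀ i j : Fin (p - 1),
      (u • ∑ m : G, ((χ m⁻¹ : Rˣ) : R) ^ (i : ℕ) • MonoidAlgebra.of R G m) *
      (u • ∑ m : G, ((χ m⁻¹ : Rˣ) : R) ^ (j : ℕ) • MonoidAlgebra.of R G m) =
      if i = j then u • ∑ m : G, ((χ m⁻¹ : Rˣ) : R) ^ (j : ℕ) • MonoidAlgebra.of R G m else 0 := by
    intro i j
    rw [smul_mul_smul_comm, Finset.sum_mul_sum]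
    simp only [smul_mul_smul_comm, ← map_mul]
    have e : ∀ m : G, ∑ n : G, (((χ m⁻¹ : Rˣ) : R) ^ (i : ℕ) * ((χ n⁻¹ : Rˣ) : R) ^ (j : ℕ)) •
          MonoidAlgebra.of R G (m * n) =
        ∑ t : G, ((((χ m⁻¹ : Rˣ) : R) ^ (i : ℕ) * ((χ m : Rˣ) : R) ^ (j : ℕ)) *
          ((χ t⁻¹ : Rˣ) : R) ^ (j : ℕ)) • MonoidAlgebra.of R G t := by
      intro m
      refine Fintype.sum_equiv (Equiv.mulLeft m) _ _ (fun n => ?_)
      show _ = (_ * ((χ (m * n)⁻¹ : Rˣ) : R) ^ (j : ℕ)) • MonoidAlgebra.of R G (m * n)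
      congr 1
      rw [mul_assoc, ← mul_pow, ← Units.val_mul, ← map_mul]
      congr 3
      rw [mul_inv, mul_inv_cancel_left]
    rw [Finset.sum_congr rfl (fun m _ => e m), Finset.sum_comm]
    simp only [← Finset.sum_smul, ← Finset.sum_mul, horth]
    split_ifs with h
    · rw [Finset.smul_sum, Finset.smul_sum]
      refine Finset.sum_congr rfl fun t _ => ?_
      rw [smul_smul, smul_smul]
      congr 1
      linear_combination (u * ((χ t⁻¹ : Rˣ) : R) ^ (j : ℕ)) * hu
    · simp
  refine ⟨⟨fun i => ?_, fun i j hij => ?_⟩, ?_⟩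
  · show _ * _ = _
    rw [hmul, if_pos rfl]
  · show _ * _ = _
    rw [hmul, if_neg hij]
  · rw [← Finset.smul_sum, Finset.sum_comm]
    simp only [← Finset.sum_smul]
    rw [Finset.sum_eq_single 1]
    · simp only [inv_one, map_one, Units.val_one, one_pow, Finset.sum_const, Finset.card_univ,
        Fintype.card_fin, nsmul_one, smul_smul, hu, one_smul]
    · intro m _ hm
      have hc : IsUnit (((χ m⁻¹ : Rˣ) : R) - 1) := hχ _ (by simpa using hm)
      have h0 : ∑ i : Fin (p - 1), ((χ m⁻¹ : Rˣ) : R) ^ (i : ℕ) = 0 := by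
        apply hc.mul_right_eq_zero.mp
        rw [Fin.sum_univ_eq_sum_range (fun i => ((χ m⁻¹ : Rˣ) : R) ^ i), mul_geom_sum,
          ← Units.val_pow_eq_pow_val, ← map_pow, ← hN, pow_card_eq_one]
        simp
      rw [h0, zero_smul]
    · simp

end Groth.Agent.S18467
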