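import Groth.Statements.S18476
import Mathlib
-- import your own Groth.Agent.* helpers here

set_option autoImplicit false
universe u
open FmlGrp

namespace Groth.Agent.S18476

/-- Let O be a complete discrete valuation ring whose maximal ideal m contains the prime number p, and
let F be a one-dimensional formal group law over O, with multiplication-by-p series f = [p]_F(X) = X
+_F ⋯ +_F X ∈ O[[X]]. Then f has a coefficient outside m (f is not ≡ 0 mod m) if and only if F is
p-divisible in the sense that O[[X]] is free of finite rank over itself through the substitution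
endomorphism X ↦ f: there are finitely many power series b_1, …, b_n such that every power series g
can be written uniquely as Σ_i c_i(f(X))·b_i. (The published statement asserts instead that F is
p-divisible iff F does not reduce to X + Y modulo m; that is false — over the p-adic integers the
law φ⁻¹(φ(X) + φ(Y)) with φ = X + X^{p+1} is not congruent to X + Y modulo p, yet its
multiplication-by-p series φ⁻¹(pφ(X)) vanishes modulo p — and the printed proof establishes exactly
the criterion on f stated here.) The published setting is the valuation ring of a finite extension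
of ℚ_p; the argument uses only that O is a complete discrete valuation ring with p in its maximal
ideal. -/
theorem result
    (O : Type u) [CommRing O] [IsDomain O] [IsDiscreteValuationRing O]
    [IsAdicComplete (IsLocalRing.maximalIdeal O) O]
    (p : ℕ) [Fact p.Prime] (hp : (p : O) ∈ IsLocalRing.maximalIdeal O)
    (F : FormalGroup O) :
    (∃ n : ℕ, PowerSeries.coeff n
        ((p • (show F.Point Unit from ⟨PowerSeries.X, PowerSeries.HasSubst.X'⟩)).val) ∉
          IsLocalRing.maximalIdeal O) ↔
      ∃ (n : ℕ) (b : Fin n → PowerSeries O), ∀ g : PowerSeries O, ∃! c : Fin n → PowerSeries O,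
        g = ∑ i, PowerSeries.subst
          ((p • (show F.Point Unit from ⟨PowerSeries.X, PowerSeries.HasSubst.X'⟩)).val) (c i) * b i := by
  classical
  set P := p • (show F.Point Unit from ⟨PowerSeries.X, PowerSeries.HasSubst.X'⟩) with hP
  clear_value P
  clear hP
  set f : PowerSeries O := P.val with hf
  have hsub : PowerSeries.HasSubst f := P.2
  have hf0 : PowerSeries.constantCoeff f = 0 := IsNilpotent.eq_zero hsub
  clear_value f
  clear hf P
  have hres : ∀ n, IsLocalRing.residue O (PowerSeries.coeff n f) = 0 ↔
      PowerSeries.coeff n f ∈ IsLocalRing.maximalIdeal O :=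
    fun n => IsLocalRing.residue_eq_zero_iff _
  constructor
  · rintro ⟨n₀, hn₀⟩
    have hfbar : f.map (IsLocalRing.residue O) ≠ 0 := fun h => hn₀ ((hres n₀).1 (by
      rw [← PowerSeries.coeff_map, h, map_zero]))
    have hfne : f ≠ 0 := fun h => hn₀ (by rw [h, map_zero]; exact zero_mem _)
    set h := (f.map (IsLocalRing.residue O)).order.toNat with hh
    refine ⟨h, fun j => PowerSeries.X ^ (j : ℕ), fun g => ?_⟩
    have hdiv : ∀ g : PowerSeries O, ∃ (q : PowerSeries O) (a : Fin h → O),
        g = f * q + ∑ j, PowerSeries.C (a j) * PowerSeries.X ^ (j : ℕ) := by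
      intro g
      obtain ⟨q, r, H⟩ := PowerSeries.exists_isWeierstrassDivision (f := g) hfbar
      refine ⟨q, fun j => r.coeff j, ?_⟩
      have hdeg : r.degree < h := H.degree_lt
      conv_lhs => rw [H.eq_mul_add]
      congr 1
      ext i
      rw [Polynomial.coeff_coe, map_sum]
      simp only [PowerSeries.coeff_C_mul, PowerSeries.coeff_X_pow, mul_ite, mul_one, mul_zero]
      by_cases hi : i < h
      · rw [Finset.sum_eq_single ⟨i, hi⟩ (fun j _ hj => if_neg (fun e => hj (Fin.ext e.symm)))
          (by simp)]
        simp
      · rw [Finset.sum_eq_zero (fun j _ => if_neg (by have := j.2; omega))]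
        exact Polynomial.coeff_eq_zero_of_degree_lt (lt_of_lt_of_le hdeg (by exact_mod_cast not_lt.1 hi))
    choose q a hqa using hdiv
    have hsubstC : ∀ c : O, PowerSeries.subst f (PowerSeries.C c) = PowerSeries.C c :=
      fun c => PowerSeries.subst_C c
    have hshift : ∀ c : PowerSeries O, PowerSeries.subst f c =
        PowerSeries.C (PowerSeries.constantCoeff c) +
          f * PowerSeries.subst f (PowerSeries.mk fun i => PowerSeries.coeff (i + 1) c) := by
      intro c
      conv_lhs => rw [PowerSeries.eq_X_mul_shift_add_const c]
      rw [PowerSeries.subst_add hsub, PowerSeries.subst_mul hsub, PowerSeries.subst_X hsub, hsubstC,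
        add_comm]
    -- iterated remainders
    let c : PowerSeries O → Fin h → PowerSeries O := fun g j =>
      PowerSeries.mk fun i => a ((q)^[i] g) j
    have hc : ∀ g j, (PowerSeries.mk fun i => PowerSeries.coeff (i + 1) (c g j)) = c (q g) j := by
      intro g j; ext i; simp [c, Function.iterate_succ_apply]
    have hdvd : ∀ (K : ℕ) (g : PowerSeries O),
        f ^ K ∣ g - ∑ j : Fin h, PowerSeries.subst f (c g j) * PowerSeries.X ^ (j : ℕ) := by
      intro K
      induction K with
      | zero => intro g; simp
      | succ K ih =>
        intro g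
        obtain ⟨w, hw⟩ := ih (q g)
        refine ⟨w, ?_⟩
        rw [pow_succ', mul_assoc, ← hw]
        have hsum : ∑ j : Fin h, PowerSeries.subst f (c g j) * PowerSeries.X ^ (j : ℕ) =
            (∑ j : Fin h, PowerSeries.C (a g j) * PowerSeries.X ^ (j : ℕ)) +
              f * ∑ j : Fin h, PowerSeries.subst f (c (q g) j) * PowerSeries.X ^ (j : ℕ) := by
          rw [Finset.mul_sum, ← Finset.sum_add_distrib]
          refine Finset.sum_congr rfl fun j _ => ?_
          rw [hshift (c g j), hc]
          simp only [c, ← PowerSeries.coeff_zero_eq_constantCoeff, PowerSeries.coeff_mk,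
            Function.iterate_zero, id_eq]
          ring
        rw [hsum, mul_sub]
        linear_combination hqa g
    have hzero : ∀ z : PowerSeries O, (∀ K, f ^ K ∣ z) → z = 0 := by
      intro z hz
      ext i
      rw [map_zero]
      have h1 : (PowerSeries.X : PowerSeries O) ^ (i + 1) ∣ z :=
        dvd_trans (pow_dvd_pow_of_dvd (PowerSeries.X_dvd_iff.2 hf0) _) (hz _)
      exact PowerSeries.X_pow_dvd_iff.1 h1 i (Nat.lt_succ_self i)
    -- uniqueness
    have huniq : ∀ (i : ℕ) (d : Fin h → PowerSeries O),
        ∑ j, PowerSeries.subst f (d j) * PowerSeries.X ^ (j : ℕ) = 0 →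
        ∀ j, PowerSeries.coeff i (d j) = 0 := by
      intro i
      induction i using Nat.strong_induction_on with
      | _ i ih =>
      intro d hd j
      set Q := ∑ j, PowerSeries.subst f (PowerSeries.mk fun i => PowerSeries.coeff (i + 1) (d j)) *
        PowerSeries.X ^ (j : ℕ)
      set R : Polynomial O := ∑ j : Fin h, Polynomial.C (PowerSeries.constantCoeff (d j)) * Polynomial.X ^ (j : ℕ)
      have hR : R.degree < h := by
        refine lt_of_le_of_lt (Polynomial.degree_sum_le _ _) ((Finset.sup_lt_iff (WithBot.bot_lt_coe h)).2 ?_)
        intro j _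
        exact lt_of_le_of_lt (Polynomial.degree_C_mul_X_pow_le _ _) (Nat.cast_lt.mpr j.2)
      have hH : PowerSeries.IsWeierstrassDivision 0 f Q R := by
        refine ⟨hR, ?_⟩
        rw [← hd]
        simp only [Q, R, ← Polynomial.coeToPowerSeries.ringHom_apply, map_sum, map_mul, map_pow]
        simp only [Polynomial.coeToPowerSeries.ringHom_apply, Polynomial.coe_C, Polynomial.coe_X]
        rw [Finset.mul_sum, ← Finset.sum_add_distrib]
        refine Finset.sum_congr rfl fun j _ => ?_
        rw [hshift (d j)]
        ring
      obtain ⟨hQ, hR0⟩ := PowerSeries.IsWeierstrassDivision.eq_zero hfbar hH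
      cases i with
      | zero =>
        have h1 := congrArg (fun r : Polynomial O => r.coeff (j : ℕ)) hR0
        simp only [R, Polynomial.finsetSum_coeff, Polynomial.coeff_C_mul_X_pow, Polynomial.coeff_zero] at h1
        rw [Finset.sum_eq_single j (fun b _ hb => if_neg (fun e => hb (Fin.ext e.symm))) (by simp)] at h1
        simpa using h1
      | succ i =>
        have h1 := ih i (Nat.lt_succ_self i) _ hQ j
        simpa using h1
    refine ⟨c g, (sub_eq_zero.1 (hzero _ fun K => hdvd K g)), fun d hd => ?_⟩
    have hd' : ∑ j, PowerSeries.subst f ((d - c g) j) * PowerSeries.X ^ (j : ℕ) = 0 := by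
      simp only [Pi.sub_apply, PowerSeries.subst_sub hsub, sub_mul, Finset.sum_sub_distrib]
      rw [← hd, sub_eq_zero]
      exact sub_eq_zero.1 (hzero _ fun K => hdvd K g)
    funext j
    ext i
    have := huniq i _ hd' j
    rwa [Pi.sub_apply, map_sub, sub_eq_zero] at this
  · rintro ⟨n, b, hb⟩
    by_contra hcon
    push Not at hcon
    have hfbar : f.map (IsLocalRing.residue O) = 0 := by
      ext i
      rw [PowerSeries.coeff_map, map_zero]
      exact (hres i).2 (hcon i)
    let k := IsLocalRing.ResidueField O
    have hspan : ∀ G : PowerSeries k, G ∈ Submodule.span k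
        (Set.range fun i => (b i).map (IsLocalRing.residue O)) := by
      intro G
      choose pre hpre using fun i => IsLocalRing.residue_surjective (R := O) (PowerSeries.coeff i G)
      obtain ⟨c, hc, -⟩ := hb (PowerSeries.mk pre)
      have hG : G = (PowerSeries.mk pre).map (IsLocalRing.residue O) := by
        ext i; simp [hpre]
      rw [hG, hc, map_sum]
      refine Submodule.sum_mem _ fun i _ => ?_
      rw [map_mul]
      have h0 : (PowerSeries.subst f (c i) : PowerSeries O) = f * (PowerSeries.subst f
          (PowerSeries.mk fun p => PowerSeries.coeff (p + 1) (c i)) : PowerSeries O) +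
          PowerSeries.C (PowerSeries.constantCoeff (c i)) := by
        conv_lhs => rw [PowerSeries.eq_X_mul_shift_add_const (c i)]
        rw [PowerSeries.subst_add hsub, PowerSeries.subst_mul hsub, PowerSeries.subst_X hsub]
        congr 1
        exact PowerSeries.subst_C _
      have h1 : PowerSeries.map (IsLocalRing.residue O) (PowerSeries.subst f (c i) : PowerSeries O) =
          PowerSeries.C (IsLocalRing.residue O (PowerSeries.constantCoeff (c i))) := by
        rw [h0, map_add, map_mul, hfbar, zero_mul, zero_add, PowerSeries.map_C]
      rw [h1, ← PowerSeries.smul_eq_C_mul]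
      exact Submodule.smul_mem _ _ (Submodule.subset_span ⟨i, rfl⟩)
    haveI : Module.Finite k (PowerSeries k) :=
      ⟨⟨Finset.univ.image fun i => (b i).map (IsLocalRing.residue O), by
        rw [Finset.coe_image, Finset.coe_univ, Set.image_univ]
        exact eq_top_iff.2 fun G _ => hspan G⟩⟩
    have hli : LinearIndependent k (fun i : ℕ => (PowerSeries.X : PowerSeries k) ^ i) := by
      rw [linearIndependent_iff']
      intro s g hg i hi
      have := congrArg (PowerSeries.coeff i) hg
      simpa [map_sum, PowerSeries.coeff_X_pow, hi] using this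
    exact Set.not_finite.2 (Set.infinite_univ (α := ℕ)) (Set.finite_univ_iff.2 hli.finite)

end Groth.Agent.S18476
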