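import Groth.Statements.S18483
import Groth.Agent.NeronExtLib.Basic

set_option autoImplicit false
universe u
open CategoryTheory CategoryTheory.Limits AlgebraicGeometry MonObj
open Neron

namespace Groth.Agent.S18483

/-- Let R be a Dedekind domain with fraction field K and N a proper smooth group scheme over Spec R,
with no connectedness condition on its fibres. Then N is a Néron model of its generic fibre N_K: N
is smooth, separated and of finite type over Spec R, and for every smooth Spec R-scheme Y
restriction to generic fibres is a bijection from R-morphisms Y → N onto K-morphisms Y_K → N_K. (The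
source allows any connected Dedekind scheme as base; the affine case is stated.) -/
theorem result (R : Type u) [CommRing R] [IsDedekindDomain R]
    (N : Over (Spec (CommRingCat.of R))) [GrpObj N] [IsProper N.hom] [Smooth N.hom] :
    Neron.IsNeronModelOf R N ((Neron.genericFibre R).obj N) (Iso.refl _) := by
  haveI : IsSeparated N.hom := inferInstance
  refine ⟨inferInstance, inferInstance, inferInstance, inferInstance, fun Y hY => ⟨fun h₁ h₂ h12 => ?_, fun f₀ => ?_⟩⟩
  · haveI : Flat Y.hom := inferInstance
    have h12' : (Neron.genericFibre R).map h₁ = (Neron.genericFibre R).map h₂ := by simpa using h12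
    refine TorsExtLib.hom_ext_generic (Over.OverMorphism.ext ?_)
    rw [Over.comp_left, Over.comp_left, ← TorsExtLib.pullbackMap_left_fst, ← TorsExtLib.pullbackMap_left_fst, h12']
  · haveI := hY
    obtain ⟨g, hg, hgψ⟩ := NeronExtLib.exists_extend N Y (f₀.left ≫ pullback.fst N.hom (Neron.genPt R)) (by
      have h : f₀.left ≫ pullback.snd N.hom (Neron.genPt R) = pullback.snd Y.hom (Neron.genPt R) := Over.w f₀
      rw [Category.assoc, pullback.condition, ← Category.assoc, h, ← pullback.condition])
    let φ : Y ⟶ N := Over.homMk g hg
    refine ⟨φ, ?_⟩
    change (Neron.genericFibre R).map φ ≫ 𝟙 _ = f₀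
    rw [Category.comp_id]
    refine Over.OverMorphism.ext (pullback.hom_ext ?_ ?_)
    · exact (TorsExtLib.pullbackMap_left_fst φ).trans hgψ
    · exact (Over.w ((Neron.genericFibre R).map φ)).trans (Over.w f₀).symm

end Groth.Agent.S18483
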