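import Groth.Statements.S18484
import Groth.Agent.TorsExtLib.Neron

set_option autoImplicit false
universe u
open CategoryTheory MonoidalCategory CartesianMonoidalCategory TorsExtLib
open CategoryTheory CategoryTheory.Limits AlgebraicGeometry MonObj
open Neron

namespace Groth.Agent.S18484

/-- Let R be a Dedekind domain with fraction field K, X a Spec R-scheme which is a Néron model of its
generic fibre X_K, and i : G → X a closed immersion with G smooth over Spec R. Then G is a Néron
model of its generic fibre G_K: smooth, separated, of finite type, and for every smooth Spec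
R-scheme Y restriction to generic fibres is a bijection from R-morphisms Y → G onto K-morphisms Y_K
→ G_K. (The source states this for a closed subgroup scheme of a Néron model; the group laws play no
part and are not assumed. The converse direction of the source, that a Néron model is a closed
subgroup of a Néron model, is immediate and not stated.) -/
theorem result (R : Type u) [CommRing R] [IsDedekindDomain R]
    (X G : Over (Spec (CommRingCat.of R))) (hX : Neron.IsNeronModelOf R X ((Neron.genericFibre R).obj X) (Iso.refl _))
    (i : G ⟶ X) [IsClosedImmersion i.left] [Smooth G.hom] :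
    Neron.IsNeronModelOf R G ((Neron.genericFibre R).obj G) (Iso.refl _) := by
  obtain ⟨hs, hsep, hft, hqc, hnp⟩ := hX
  have hGhom : G.hom = i.left ≫ X.hom := (Over.w i).symm
  haveI : QuasiCompact G.hom := by rw [hGhom]; exact MorphismProperty.comp_mem _ _ _ inferInstance hqc
  haveI : IsSeparated G.hom := by rw [hGhom]; exact MorphismProperty.comp_mem _ _ _ inferInstance hsep
  haveI := hsep
  refine ⟨inferInstance, inferInstance, inferInstance, inferInstance, fun Y hY => ?_⟩
  haveI : Flat Y.hom := inferInstance
  constructor
  · intro h₁ h₂ h12
    have h12' : (Neron.genericFibre R).map h₁ = (Neron.genericFibre R).map h₂ := by simpa using h12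
    refine hom_ext_generic (Over.OverMorphism.ext ?_)
    rw [Over.comp_left, Over.comp_left, ← pullbackMap_left_fst, ← pullbackMap_left_fst, h12']
  · intro f
    obtain ⟨g, hg⟩ := (hnp Y hY).2 (f ≫ (Neron.genericFibre R).map i)
    have hg' : (Neron.genericFibre R).map g = f ≫ (Neron.genericFibre R).map i := by simpa using hg
    have key : (fst Y (gen R)).left ≫ g.left = (f.left ≫ (fst G (gen R)).left) ≫ i.left := by
      rw [← pullbackMap_left_fst, hg', Over.comp_left, Category.assoc, Category.assoc, pullbackMap_left_fst]
    haveI := dominant_fst_gen (A := Y)
    haveI : IsClosedImmersion (pullback.fst g.left i.left) := inferInstance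
    haveI : IsIso (pullback.fst g.left i.left) := by
      refine IsClosedImmersion.isIso_iff_ker_eq_bot.mpr (le_bot_iff.mp ?_)
      refine (Scheme.Hom.le_ker_comp (pullback.lift (fst Y (gen R)).left (f.left ≫ (fst G (gen R)).left) key) _).trans ?_
      rw [pullback.lift_fst, Scheme.Hom.ker_eq_bot]
    let gG : Y.left ⟶ G.left := inv (pullback.fst g.left i.left) ≫ pullback.snd g.left i.left
    have hgG : gG ≫ i.left = g.left := by
      simp only [gG, Category.assoc, ← pullback.condition, IsIso.inv_hom_id_assoc]
    let φ : Y ⟶ G := Over.homMk gG (by rw [hGhom, reassoc_of% hgG, Over.w g])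
    refine ⟨φ, ?_⟩
    change (Neron.genericFibre R).map φ ≫ 𝟙 _ = f
    rw [Category.comp_id]
    have hφ : φ ≫ i = g := Over.OverMorphism.ext hgG
    haveI : Mono ((Neron.genericFibre R).map i) := by
      haveI : Mono i := (Over.forget _).mono_of_mono_map (show Mono i.left from inferInstance)
      infer_instance
    rw [← cancel_mono ((Neron.genericFibre R).map i), ← Functor.map_comp, hφ, hg']

end Groth.Agent.S18484
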