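import Groth.Statements.S18485
-- import your own Groth.Agent.* helpers here

set_option autoImplicit false
universe u
open CategoryTheory CategoryTheory.Limits AlgebraicGeometry MonObj
open Neron

namespace Groth.Agent.S18485

open scoped TensorProduct in
theorem finite_fiber_aux (R : Type u) [CommRing R] [IsDedekindDomain R] (A : Type u) [CommRing A] [Algebra R A]
    [Module.Flat R A] (K : Type u) [Field K] [Algebra R K] [IsFractionRing R K] [Module.Finite K (K ⊗[R] A)]
    (P : Ideal R) [P.IsPrime] (hP : P ≠ ⊥) : Module.Finite P.ResidueField (P.Fiber A) := by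
  classical
  haveI hPm : P.IsMaximal := Ideal.IsPrime.isMaximal inferInstance hP
  let mkA : A →ₗ[R] P.Fiber A := TensorProduct.mk R P.ResidueField A 1
  have hres : Function.Surjective (algebraMap R P.ResidueField) :=
    Ideal.algebraMap_residueField_surjective P
  have hsurj : Function.Surjective mkA := by
    intro z
    induction z using TensorProduct.induction_on with
    | zero => exact ⟨0, map_zero _⟩
    | tmul c a =>
      obtain ⟨r, rfl⟩ := hres c
      exact ⟨r • a, by simp [mkA, Algebra.algebraMap_eq_smul_one, TensorProduct.smul_tmul]⟩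
    | add x y hx hy =>
      obtain ⟨a, rfl⟩ := hx
      obtain ⟨b, rfl⟩ := hy
      exact ⟨a + b, map_add _ _ _⟩
  let iK : A →ₗ[R] K ⊗[R] A := TensorProduct.mk R K A 1
  have hiK : Function.Injective iK :=
    Algebra.TensorProduct.includeRight_injective (IsFractionRing.injective R K)
  refine Module.rank_lt_aleph0_iff.mp (lt_of_le_of_lt
    (rank_le (n := Module.finrank K (K ⊗[R] A)) fun s hs => ?_) Cardinal.natCast_lt_aleph0)
  choose a ha using fun i : s => hsurj (i : P.Fiber A)
  have hlin : LinearIndependent K fun i => iK (a i) := by
    refine (LinearIndependent.iff_fractionRing R K).mp (Fintype.linearIndependent_iff.mpr fun c hc => ?_)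
    simp only [← map_smul, ← map_sum] at hc
    have hc0 : ∑ i, c i • a i = 0 := hiK (hc.trans (map_zero _).symm)
    by_contra hne
    simp only [not_forall] at hne
    obtain ⟨j, hj⟩ := hne
    let J : Ideal R := Ideal.span (Set.range c)
    have hcj : Ideal.span {c j} ≤ J := Ideal.span_le.mpr (Set.singleton_subset_iff.mpr (Ideal.subset_span ⟨j, rfl⟩))
    obtain ⟨I, hI⟩ := Ideal.dvd_iff_le.mpr hcj
    have hb : ∃ b ∈ I, ∃ i, b * c i ∉ Ideal.span {c j} * P := by
      by_contra hcon
      simp only [not_exists, not_and, not_not] at hcon
      have hle : Ideal.span {c j} ≤ Ideal.span {c j} * P := by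
        conv_lhs => rw [hI, mul_comm]
        refine Ideal.mul_le.mpr fun b hb x hx => ?_
        induction hx using Submodule.span_induction with
        | mem x hx => obtain ⟨i, rfl⟩ := hx; exact hcon b hb i
        | zero => simp
        | add x y _ _ hx hy => rw [mul_add]; exact add_mem hx hy
        | smul r x _ hx => rw [smul_eq_mul, mul_left_comm]; exact Ideal.mul_mem_left _ r hx
      obtain ⟨p, hp, hp1⟩ := Ideal.mem_span_singleton_mul.mp (hle (Ideal.mem_span_singleton_self _))
      have : p = 1 := mul_left_cancel₀ hj (hp1.trans (_root_.mul_one _).symm)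
      exact hPm.ne_top ((Ideal.eq_top_iff_one _).mpr (this ▸ hp))
    obtain ⟨b, hb, i₀, hi₀⟩ := hb
    have hdiv : ∀ i, ∃ e, c j * e = b * c i := fun i => by
      have : b * c i ∈ Ideal.span {c j} := by
        rw [hI, mul_comm b]
        exact Ideal.mul_mem_mul (Ideal.subset_span ⟨i, rfl⟩) hb
      obtain ⟨e, he⟩ := Ideal.mem_span_singleton'.mp this
      exact ⟨e, by rw [← he, mul_comm]⟩
    choose e he using hdiv
    have he0 : ∑ i, e i • a i = 0 := by
      have h1 : c j • ∑ i, e i • a i = 0 := by
        simp only [Finset.smul_sum, smul_smul, he]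
        simp only [← smul_smul, ← Finset.smul_sum, hc0, smul_zero]
      have h2 : algebraMap R K (c j) • iK (∑ i, e i • a i) = 0 := by
        rw [algebraMap_smul, ← map_smul, h1, map_zero]
      rcases smul_eq_zero.mp h2 with h | h
      · exact absurd (IsFractionRing.injective R K (h.trans (map_zero _).symm)) hj
      · exact hiK (h.trans (map_zero _).symm)
    have hk : ∑ i, algebraMap R P.ResidueField (e i) • (i : P.Fiber A) = 0 := by
      simp only [algebraMap_smul, ← ha, ← map_smul, ← map_sum, he0, map_zero]
    have := Fintype.linearIndependent_iff.mp hs _ hk i₀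
    rw [Ideal.algebraMap_residueField_eq_zero] at this
    exact hi₀ (he i₀ ▸ Ideal.mul_mem_mul (Ideal.mem_span_singleton_self _) this)
  simpa using hlin.fintype_card_le_finrank

open scoped TensorProduct in
theorem quasiFinite_aux (R : Type u) [CommRing R] [IsDedekindDomain R] (A : Type u) [CommRing A] [Algebra R A]
    [Module.Flat R A] [Algebra.QuasiFinite (FractionRing R) (FractionRing R ⊗[R] A)] :
    Algebra.QuasiFinite R A := by
  haveI := Module.Finite.of_quasiFinite (R := FractionRing R) (S := FractionRing R ⊗[R] A)
  refine ⟨fun P _ => ?_⟩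
  rcases eq_or_ne P ⊥ with rfl | hP
  · let q : Ideal (FractionRing R) := ⊥
    haveI : q.IsPrime := Ideal.isPrime_bot
    let L := (⊥ : Ideal R).ResidueField
    let f : FractionRing R →ₐ[R] L := IsLocalization.liftAlgHom (M := nonZeroDivisors R) (f := Algebra.ofId R L) fun y => by
      rw [isUnit_iff_ne_zero]
      intro h
      exact nonZeroDivisors.ne_zero y.2 ((Ideal.algebraMap_residueField_eq_zero).mp h)
    letI : Algebra (FractionRing R) L := f.toRingHom.toAlgebra
    haveI : IsScalarTower R (FractionRing R) L := .of_algebraMap_eq' f.comp_algebraMap.symm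
    exact Module.Finite.equiv (TensorProduct.AlgebraTensorModule.cancelBaseChange R (FractionRing R) L L A)
  · exact finite_fiber_aux R A (FractionRing R) P hP

theorem spec_aux (R : Type u) [CommRing R] [IsDedekindDomain R] {A : CommRingCat.{u}} {X : Scheme.{u}}
    (f : Spec A ⟶ X) [IsOpenImmersion f] (h : X ⟶ Spec (CommRingCat.of R)) [Flat h]
    [hg : LocallyQuasiFinite (pullback.snd h (Neron.genPt R))] : LocallyQuasiFinite (f ≫ h) := by
  obtain ⟨φ, hφ⟩ : ∃ φ, Spec.map φ = f ≫ h := ⟨_, Spec.map_preimage _⟩
  letI := φ.hom.toAlgebra
  haveI : Flat (Spec.map φ) := by rw [hφ]; exact MorphismProperty.comp_mem @Flat _ _ (inferInstance : Flat f) ‹Flat h›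
  haveI : Module.Flat R _ := (HasRingHomProperty.Spec_iff (P := @Flat) (φ := φ)).mp ‹_›
  let K := FractionRing R
  haveI : LocallyQuasiFinite (pullback.snd (Spec.map φ) (Neron.genPt R)) := by
    rw [hφ]
    have he : IsOpenImmersion (f) := inferInstance
    have hs : IsOpenImmersion (pullback.snd (f) (pullback.fst h (Neron.genPt R))) :=
      MorphismProperty.pullback_snd (P := @IsOpenImmersion) _ _ he
    haveI : LocallyQuasiFinite (pullback.snd (f) (pullback.fst h (Neron.genPt R))) := by
      haveI := hs; infer_instance
    exact pullbackRightPullbackFstIso_inv_snd_snd h (Neron.genPt R) (f) ▸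
      MorphismProperty.comp_mem @LocallyQuasiFinite _ _ inferInstance (MorphismProperty.comp_mem _ _ _ this hg)
  haveI : LocallyQuasiFinite (pullback.fst (Neron.genPt R) (Spec.map φ)) := by
    rw [← pullbackSymmetry_hom_comp_snd]; infer_instance
  have h2 : LocallyQuasiFinite ((pullbackSpecIso R K _).inv ≫ pullback.fst (Neron.genPt R) (Spec.map φ)) :=
    (MorphismProperty.cancel_left_of_respectsIso @LocallyQuasiFinite _ _).mpr ‹_›
  erw [pullbackSpecIso_inv_fst] at h2
  have h3 := (HasRingHomProperty.Spec_iff (P := @LocallyQuasiFinite)).mp h2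
  rw [← hφ, HasRingHomProperty.Spec_iff (P := @LocallyQuasiFinite)]
  haveI : Algebra.QuasiFinite (FractionRing R) (TensorProduct R (FractionRing R) A) := RingHom.quasiFinite_algebraMap.mp h3
  exact quasiFinite_aux R A

/-- Let R be a Dedekind domain with fraction field K and H a Spec R-scheme which is flat and locally of
finite type over Spec R. If the generic fibre H_K is locally quasi-finite over K, then H is locally
quasi-finite over Spec R. (The published statement is about the schematic closure, in an S-group
algebraic space of finite type over a connected Dedekind scheme S, of a finite subgroup of the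
generic fibre, which it asserts to be a quasi-finite S-group; this row is the statement about flat
schemes locally of finite type over an affine Dedekind base on which that rests. Locally
quasi-finite is meant here without a finite type clause, which is assumed separately.) -/
theorem result (R : Type u) [CommRing R]
    [IsDedekindDomain R] (H : Over (Spec (CommRingCat.of R))) [Flat H.hom] [LocallyOfFiniteType H.hom]
    [LocallyQuasiFinite ((Neron.genericFibre R).obj H).hom] : LocallyQuasiFinite H.hom := by
  rw [IsZariskiLocalAtSource.iff_of_openCover (P := @LocallyQuasiFinite) H.left.affineCover]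
  intro i
  exact @spec_aux R _ _ _ _ (H.left.affineCover.f i) (H.left.affineCover.map_prop i) H.hom _ ‹LocallyQuasiFinite ((Neron.genericFibre R).obj H).hom›

end Groth.Agent.S18485
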