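import Groth.Statements.S18487
import Groth.Agent.TorsExtLib.Main

set_option autoImplicit false
universe u
open CategoryTheory CategoryTheory.Limits AlgebraicGeometry MonObj
open NonAbH1

namespace Groth.Agent.S18487

/-- Let R be a Dedekind domain with fraction field K, G a proper flat group scheme over Spec R, and P a
Spec R-scheme with an action of G making it a G-torsor for the fppf topology (a pseudo-torsor
acquiring sections on the members of an fppf covering family). If P acquires a section over the
generic point Spec K → Spec R, then P has a section over Spec R: a generically trivial torsor is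
trivial. (The source allows any connected Dedekind scheme as base and torsors that are fppf sheaves,
shown there to be schemes; the affine base and scheme torsors are stated.) -/
theorem result (R : Type u) [CommRing R] [IsDedekindDomain R]
    (G : Over (Spec (CommRingCat.of R))) [GrpObj G] [IsProper G.hom] [Flat G.hom]
    (P : NonAbH1.TorsorSch G Scheme.fppfPrecoverage) (h : NonAbH1.HasSectionOver P.X (Neron.genPt R)) :
    NonAbH1.HasSectionOver P.X (𝟙 (Spec (CommRingCat.of R))) := by
  obtain ⟨s, hs⟩ := h
  let s' : TorsExtLib.gen R ⟶ P.X := Over.homMk s hs
  obtain ⟨φ, -, -, -⟩ := TorsExtLib.exists_hom (NonAbH1.trivialAction G) P.act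
    (NonAbH1.isTorsorFor_trivialAction G Scheme.fppfPrecoverage) P.isTorsor
    (CartesianMonoidalCategory.lift (CartesianMonoidalCategory.fst G (TorsExtLib.gen R))
      (CartesianMonoidalCategory.snd G (TorsExtLib.gen R) ≫ s') ≫ P.act.act)
    (fun T g x k => by
      rw [CartesianMonoidalCategory.comp_lift_assoc, CartesianMonoidalCategory.lift_fst,
        CartesianMonoidalCategory.lift_snd_assoc, CartesianMonoidalCategory.comp_lift_assoc,
        CartesianMonoidalCategory.lift_fst, CartesianMonoidalCategory.lift_snd_assoc, ← AlgGrp.Action.lift_mul_act,
        Hom.mul_def]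
      rfl)
  exact ⟨(MonObj.one (X := G) ≫ φ).left, Over.w (MonObj.one (X := G) ≫ φ)⟩

end Groth.Agent.S18487
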