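import Groth.Statements.S18488
import Groth.Agent.TorsExtLib.Main

set_option autoImplicit false
universe u
open CategoryTheory CategoryTheory.Limits AlgebraicGeometry MonObj
open NonAbH1

namespace Groth.Agent.S18488

open MonoidalCategory CartesianMonoidalCategory TorsExtLib

theorem equivIso_of_eqvGen {S : Scheme.{u}} {G : Over S} [GrpObj G] {K : Precoverage Scheme.{u}}
    {P Q : TorsorSch G K}
    (h : Relation.EqvGen (fun P Q : TorsorSch G K => Nonempty (EquivIso P.act Q.act)) P Q) :
    Nonempty (EquivIso P.act Q.act) := by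
  induction h with
  | rel _ _ h => exact h
  | refl x => exact ⟨⟨Iso.refl _, by simp⟩⟩
  | symm x y _ h =>
    obtain ⟨e⟩ := h
    refine ⟨⟨e.iso.symm, ?_⟩⟩
    rw [← cancel_mono e.iso.hom, Category.assoc, Iso.symm_hom, Iso.inv_hom_id, Category.comp_id, Category.assoc,
      e.comm, ← MonoidalCategory.whiskerLeft_comp_assoc, Iso.inv_hom_id, MonoidalCategory.whiskerLeft_id,
      Category.id_comp]
  | trans x y z _ _ h1 h2 =>
    obtain ⟨e1⟩ := h1
    obtain ⟨e2⟩ := h2
    refine ⟨⟨e1.iso ≪≫ e2.iso, ?_⟩⟩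
    rw [Iso.trans_hom, MonoidalCategory.whiskerLeft_comp, Category.assoc, reassoc_of% e1.comm, e2.comm]

variable {R : Type u} [CommRing R] [IsDedekindDomain R] {G P Q : Over (Spec (CommRingCat.of R))} [GrpObj G]

/-- A morphism of generic fibres, as a morphism to the scheme over the base. -/
noncomputable def generic (e : Red.bc (Neron.genPt R) P ⟶ Red.bc (Neron.genPt R) Q) : P ⊗ gen R ⟶ Q :=
  Over.homMk (e.left ≫ pullback.fst Q.hom (Neron.genPt R)) (by
    have h : e.left ≫ pullback.snd Q.hom (Neron.genPt R) = pullback.snd P.hom (Neron.genPt R) := Over.w e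
    rw [Category.assoc, pullback.condition, ← Category.assoc, h, ← pullback.condition]
    rfl)

theorem generic_equivariant (aP : AlgGrp.Action G P) (aQ : AlgGrp.Action G Q)
    (e : Red.bc (Neron.genPt R) P ⟶ Red.bc (Neron.genPt R) Q)
    (he : (aP.bc (Neron.genPt R)).act ≫ e = (Red.bc (Neron.genPt R) G ◁ e) ≫ (aQ.bc (Neron.genPt R)).act)
    (T : Over (Spec (CommRingCat.of R))) (g : T ⟶ G) (x : T ⟶ P) (k : T ⟶ gen R) :
    lift (lift g x ≫ aP.act) k ≫ generic e = lift g (lift x k ≫ generic e) ≫ aQ.act := by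
  let f := Neron.genPt R
  let T' : Over (Spec (CommRingCat.of (FractionRing R))) := Over.mk k.left
  let θ : (Over.map f).obj T' ≅ T := Over.isoMk (Iso.refl _) (by simpa [T'] using (Over.w k).symm)
  rw [← cancel_epi θ.hom]
  let adj := fun X => (Over.mapPullbackAdj f).homEquiv T' X
  have hfst : ∀ (X : Over (Spec (CommRingCat.of R))) (y : (Over.map f).obj T' ⟶ X),
      (adj X y).left ≫ pullback.fst X.hom f = y.left := fun X y => by
    have h := congrArg Over.Hom.left ((adj X).symm_apply_apply y)
    simp only [adj, Adjunction.homEquiv_counit, Over.comp_left] at h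
    exact h
  have key : ∀ y : T ⟶ P, (θ.hom ≫ lift y k ≫ generic e).left =
      (adj P (θ.hom ≫ y) ≫ e).left ≫ pullback.fst Q.hom f := by
    intro y
    rw [Over.comp_left, Over.comp_left, Over.comp_left, Category.assoc]
    change θ.hom.left ≫ (lift y k).left ≫ e.left ≫ pullback.fst Q.hom f = _
    rw [← Category.assoc θ.hom.left]
    congr 1
    apply pullback.hom_ext
    · refine Eq.trans ?_ (hfst P (θ.hom ≫ y)).symm
      refine (Category.assoc _ _ _).trans ?_
      rw [Over.comp_left]
      exact congrArg (θ.hom.left ≫ ·) (congrArg Over.Hom.left (lift_fst y k))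
    · refine Eq.trans ?_ (Over.w (adj P (θ.hom ≫ y))).symm
      refine (Category.assoc _ _ _).trans ((congrArg (θ.hom.left ≫ ·) (congrArg Over.Hom.left (lift_snd y k))).trans ?_)
      exact Category.id_comp _
  have hQ : adj P (θ.hom ≫ x) ≫ e = adj Q (θ.hom ≫ lift x k ≫ generic e) := by
    refine Over.OverMorphism.ext (pullback.hom_ext ?_ ?_)
    · rw [hfst, key]
    · exact (Over.w _).trans (Over.w _).symm
  refine Over.OverMorphism.ext ?_
  rw [key, comp_lift_assoc, ← hfst Q]
  congr 2
  change adj P (θ.hom ≫ lift g x ≫ aP.act) ≫ e = adj Q _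
  rw [comp_lift_assoc θ.hom g x, comp_lift_assoc θ.hom g (lift x k ≫ generic e), ← AlgGrp.Action.lift_homEquiv_bc_act, ← AlgGrp.Action.lift_homEquiv_bc_act, Category.assoc, he,
    lift_whiskerLeft_assoc]
  rw [hQ]

/-- Let R be a Dedekind domain with fraction field K and G a proper flat group scheme over Spec R. Then
restriction to the generic fibre, from the set of classes of G-torsors for the fppf topology (Spec
R-schemes with a G-action, pseudo-torsors trivialised on an fppf covering family, up to equivariant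
isomorphism) to the set of classes of G_K-torsors, is injective. (The source allows any connected
Dedekind scheme as base and all fppf torsors, which it shows to be schemes; the affine base and
torsors representable by schemes are stated.) -/
theorem result (R : Type u) [CommRing R] [IsDedekindDomain R]
    (G : Over (Spec (CommRingCat.of R))) [GrpObj G] [IsProper G.hom] [Flat G.hom] :
    Function.Injective (NonAbH1.H1Sch.bcMap (Neron.genPt R) G Scheme.fppfPrecoverage) := by
  intro x y h
  induction x using Quot.ind with | _ P => ?_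
  induction y using Quot.ind with | _ Q => ?_
  obtain ⟨e⟩ := equivIso_of_eqvGen (Quot.eq.mp h)
  refine Quot.sound ?_
  have hPQ := generic_equivariant P.act Q.act e.iso.hom e.comm
  let w : Red.bc (Neron.genPt R) P.X ⟶ Red.bc (Neron.genPt R) Q.X := e.iso.hom
  let v : Red.bc (Neron.genPt R) Q.X ⟶ Red.bc (Neron.genPt R) P.X := e.iso.inv
  have hwv : w ≫ v = 𝟙 _ := e.iso.hom_inv_id
  have hvw : v ≫ w = 𝟙 _ := e.iso.inv_hom_id
  haveI : Mono w := ⟨fun g g' h => by simpa [hwv] using congrArg (· ≫ v) h⟩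
  have he' : (Q.act.bc (Neron.genPt R)).act ≫ v =
      (Red.bc (Neron.genPt R) G ◁ v) ≫ (P.act.bc (Neron.genPt R)).act := by
    have h1 : (P.act.bc (Neron.genPt R)).act ≫ w =
      (Red.bc (Neron.genPt R) G ◁ w) ≫ (Q.act.bc (Neron.genPt R)).act := e.comm
    rw [← cancel_mono w, Category.assoc, hvw, Category.comp_id, Category.assoc, h1,
      ← MonoidalCategory.whiskerLeft_comp_assoc, hvw, MonoidalCategory.whiskerLeft_id, Category.id_comp]
  obtain ⟨φ, hφ, hdP, hφG⟩ := exists_hom P.act Q.act P.isTorsor Q.isTorsor (generic e.iso.hom) hPQ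
  obtain ⟨φ', hφ', hdQ, -⟩ := exists_hom Q.act P.act Q.isTorsor P.isTorsor (generic v)
    (generic_equivariant Q.act P.act v he')
  obtain ⟨TP, hP1, hP2, hP3, ⟨pP⟩⟩ := exists_cover P.isTorsor.2
  obtain ⟨TQ, hQ1, hQ2, hQ3, ⟨pQ⟩⟩ := exists_cover Q.isTorsor.2
  have key : ∀ {A B : Over (Spec (CommRingCat.of R))} (u : Red.bc (Neron.genPt R) A ⟶ Red.bc (Neron.genPt R) B)
      (v : Red.bc (Neron.genPt R) B ⟶ Red.bc (Neron.genPt R) A) (ψ : A ⟶ B) (ψ' : B ⟶ A),
      fst A (gen R) ≫ ψ = generic u → fst B (gen R) ≫ ψ' = generic v → u ≫ v = 𝟙 _ →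
        fst A (gen R) ≫ ψ ≫ ψ' = fst A (gen R) ≫ 𝟙 A := by
    intro A B u v ψ ψ' h1 h2 huv
    have h3 : generic u = (Over.homMk u.left (by
        change u.left ≫ pullback.fst B.hom (Neron.genPt R) ≫ B.hom = pullback.fst A.hom (Neron.genPt R) ≫ A.hom
        rw [pullback.condition, pullback.condition]
        exact Over.w_assoc u _) : A ⊗ gen R ⟶ B ⊗ gen R) ≫ fst B (gen R) := Over.OverMorphism.ext rfl
    rw [← Category.assoc, h1, h3, Category.assoc, h2]
    refine Over.OverMorphism.ext ?_
    change u.left ≫ v.left ≫ pullback.fst A.hom _ = _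
    rw [← Category.assoc, ← Over.comp_left, huv, Over.id_left, Category.id_comp, Category.comp_id]
    rfl
  haveI : IsSchemeTheoreticallyDominant (fst P.X (gen R)).left := hdP
  haveI : IsSchemeTheoreticallyDominant (fst Q.X (gen R)).left := hdQ
  exact ⟨⟨⟨φ, φ', hom_ext_of_dense P.act P.isTorsor.1 pP _ (key _ _ _ _ hφ hφ' hwv),
    hom_ext_of_dense Q.act Q.isTorsor.1 pQ _ (key _ _ _ _ hφ' hφ hvw)⟩, hφG⟩⟩

end Groth.Agent.S18488
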