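import Groth.Statements.S18489
import Groth.Agent.NeronQFLib.Flat

set_option autoImplicit false
set_option backward.isDefEq.respectTransparency false
universe u
open CategoryTheory CategoryTheory.Limits AlgebraicGeometry MonObj
open Neron

namespace Groth.Agent.S18489

/-- Let R be a Dedekind domain with fraction field K, let A and B be group schemes over Spec R which are
Néron models of their generic fibres A_K and B_K, both abelian varieties over K (proper and
geometrically integral), and let φ : A → B be a homomorphism of group schemes over Spec R whose
generic fibre φ_K is an isogeny (surjective with finite kernel). Then φ is locally quasi-finite (its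
fibres are finite; it is of finite type in any case) if and only if φ is flat. (A third equivalent
condition, surjectivity of φ on the identity components of the fibres, is not part of this
statement. The published lemma is over any connected Dedekind scheme; the affine base is stated.) -/
theorem result (R : Type u) [CommRing R]
    [IsDedekindDomain R] (A B : Over (Spec (CommRingCat.of R))) [GrpObj A] [GrpObj B]
    (hA : Neron.IsNeronModelOf R A ((Neron.genericFibre R).obj A) (Iso.refl _))
    (hB : Neron.IsNeronModelOf R B ((Neron.genericFibre R).obj B) (Iso.refl _))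
    [IsProper ((Neron.genericFibre R).obj A).hom] [GeometricallyIntegral ((Neron.genericFibre R).obj A).hom]
    [IsProper ((Neron.genericFibre R).obj B).hom] [GeometricallyIntegral ((Neron.genericFibre R).obj B).hom]
    (φ : A ⟶ B) [IsMonHom φ] (hφ : SGA7.IsIsogenyOver ((Neron.genericFibre R).map φ)) :
    LocallyQuasiFinite φ.left ↔ Flat φ.left := by
  obtain ⟨hAsm, -, -, -, -⟩ := hA
  obtain ⟨hBsm, -, -, -, -⟩ := hB
  haveI := hAsm
  haveI := hBsm
  let F := Neron.genericFibre R
  haveI : IsIntegral (F.obj A).left := GeometricallyIntegral.isIntegral_of_subsingleton (F.obj A).hom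
  haveI : IsIntegral (F.obj B).left := GeometricallyIntegral.isIntegral_of_subsingleton (F.obj B).hom
  haveI : IrreducibleSpace ↥(pullback A.hom (Spec.map (CommRingCat.ofHom (algebraMap R (FractionRing R))))) :=
    inferInstanceAs (IrreducibleSpace (F.obj A).left)
  haveI : IrreducibleSpace ↥(pullback B.hom (Spec.map (CommRingCat.ofHom (algebraMap R (FractionRing R))))) :=
    inferInstanceAs (IrreducibleSpace (F.obj B).left)
  obtain ⟨g, hgA, hdA⟩ := NeronQFLib.exists_fibreDimAt_eq R (FractionRing R) A
  obtain ⟨g', hgB, hdB⟩ := NeronQFLib.exists_fibreDimAt_eq R (FractionRing R) B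
  letI : GrpObj (F.obj A) := Functor.grpObjObj
  haveI : IsMonHom (F.map φ) := @Functor.map.instIsMonHom _ _ _ _ _ _ F _ _ _ _ _ φ _
  haveI : LocallyQuasiFinite (F.map φ).left := NeronQFLib.lqf_of_isFinite_kernel (F.map φ) hφ.2
  haveI : Surjective (F.map φ).left := hφ.1
  have hcl : ∀ {T : Type u} [TopologicalSpace T] (x : T), closure ({x} : Set T) = Set.univ →
      topologicalKrullDim (closure ({x} : Set T)) = topologicalKrullDim T := fun x hx => by
    rw [hx]
    exact IsHomeomorph.topologicalKrullDim_eq _ (Homeomorph.Set.univ _).isHomeomorph
  have he := NeronQFLib.dim_closure_eq_of_lqf (F.map φ) (genericPoint (F.obj A).left)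
  rw [hcl _ (genericPoint_closure (α := (F.obj A).left)), hcl _ (by
    refine Set.eq_univ_of_forall fun y => ?_
    obtain ⟨x, rfl⟩ := (F.map φ).left.surjective y
    exact specializes_iff_mem_closure.1 ((genericPoint_specializes x).map (F.map φ).left.continuous))] at he
  have hgg : g = g' := by exact_mod_cast (hdA.symm.trans (he.trans hdB))
  subst hgg
  exact ⟨fun _ => NeronQFLib.flat_of_lqf φ hgA hgB, fun _ => NeronQFLib.lqf_of_flat φ hgA hgB⟩

end Groth.Agent.S18489
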