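import Groth.Statements.S1849
import Mathlib
import Groth.Agent.TameLib.Down
-- import your own Groth.Agent.* helpers here

set_option autoImplicit false
universe u
open CycAlg

namespace Groth.Agent.S1849

/-- Let A be a Noetherian local ring of dimension 1 and A ⊆ B a finite extension with B/A killed by a
power of the maximal ideal 𝔪 and 𝔪 not an associated prime of the A-module B. For nonzerodivisors a,
b of A, ∂_A(a, b) is the product over the maximal ideals 𝔪_j of B of the norms from κ(𝔪_j) to κ of
∂_{B_{𝔪_j}}(a, b). -/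
theorem result (A : Type u) [CommRing A] [IsNoetherianRing A] [IsLocalRing A] (hA : ringKrullDim A = 1) (B : Type u) [CommRing B] [Algebra A B] (hB : CycAlg.IsFinExt A B (IsLocalRing.maximalIdeal A)) (hass : IsLocalRing.maximalIdeal A ∉ associatedPrimes A B) [hloc : ∀ q : MaximalSpectrum B, IsLocalHom (algebraMap A (Localization.AtPrime q.asIdeal))] (a b : A) (ha : a ∈ nonZeroDivisors A) (hb : b ∈ nonZeroDivisors A) : CycAlg.tameSymbol A a b = ∏ᶠ q : MaximalSpectrum B, Algebra.norm (IsLocalRing.ResidueField A) (CycAlg.tameSymbol (Localization.AtPrime q.asIdeal) (algebraMap A (Localization.AtPrime q.asIdeal) a) (algebraMap A (Localization.AtPrime q.asIdeal) b)) := by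
  classical
  haveI : Ring.KrullDimLE 1 A := Ring.krullDimLE_iff.2 (le_of_eq hA)
  haveI : Module.Finite A B := hB.2.1
  haveI : IsNoetherianRing B := isNoetherian_of_tower A inferInstance
  -- nonzerodivisors of `A` stay so on `B`
  have hnB : ∀ c ∈ nonZeroDivisors A, algebraMap A B c ∈ nonZeroDivisors B := by
    intro c hc
    rw [mem_nonZeroDivisors_iff_right]
    intro x hx
    by_contra hx0
    obtain ⟨p, hp, hxp⟩ := exists_le_isAssociatedPrime_of_isNoetherianRing A x hx0
    haveI := hp.isPrime
    have hcp : c ∈ p := hxp (by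
      rw [Submodule.mem_colon_singleton, Submodule.mem_bot, Algebra.smul_def, mul_comm]; exact hx)
    rcases Ring.krullDimLE_one_iff.1 inferInstance p hp.isPrime with h | h
    · exact Set.disjoint_left.1 (Ideal.disjoint_nonZeroDivisors_of_mem_minimalPrimes h) hcp hc
    · exact hass (IsLocalRing.eq_maximalIdeal h ▸ hp)
  haveI := TameLib.finite_maximalSpectrum A (B := B)
  haveI : Fintype (MaximalSpectrum B) := Fintype.ofFinite _
  haveI : ∀ q : MaximalSpectrum B, Ring.KrullDimLE 1 (Localization.AtPrime q.asIdeal) := TameLib.krullDimLE_atPrime A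
  by_cases hm : a * b ∈ IsLocalRing.maximalIdeal A
  swap
  · obtain ⟨hu1, hu2⟩ := IsUnit.mul_iff.1 (not_not.1 hm)
    have key : ∀ (R : Type u) [CommRing R] [IsLocalRing R] [IsNoetherianRing R] [Ring.KrullDimLE 1 R] (x y : R),
        IsUnit x → IsUnit y → CycAlg.tameSymbol R x y = 1 := by
      intro R _ _ _ _ x y hx hy
      obtain ⟨u, rfl⟩ := hx
      rw [TameLib.tameSymbol_unit u y hy.mem_nonZeroDivisors]
      haveI : Subsingleton (R ⧸ Ideal.span {y}) :=
        Submodule.Quotient.subsingleton_iff.2 (Ideal.span_singleton_eq_top.2 hy)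
      rw [Module.length_eq_zero, ENat.toNat_zero, pow_zero]
    rw [key A a b hu1 hu2, finprod_eq_one_of_forall_eq_one]
    intro q
    rw [key _ _ _ (hu1.map _) (hu2.map _), map_one]
  obtain ⟨ι, hι⟩ := TameLib.embed_of_isFinExt hB (a * b) (mul_mem ha hb) hm (hnB _ (mul_mem ha hb))
  obtain ⟨S₀, hS₀, hsep⟩ := TameLib.exists_separating {a, b} (by simp [ha, hb])
  obtain ⟨C₀, hC₀, heq⟩ := TameLib.tameSymbol_eventually a b ha hb
  haveI : Module.Finite A ι.range := Module.Finite.of_surjective ι.rangeRestrict.toLinearMap ι.rangeRestrict_surjective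
  haveI := TameLib.finite_sup_subalgebra S₀ C₀
  haveI := TameLib.finite_sup_subalgebra ι.range (S₀ ⊔ C₀)
  obtain ⟨C, _, _, hfinC, f, hf, hr⟩ := TameLib.exists_carrier (ι.range ⊔ (S₀ ⊔ C₀))
  obtain ⟨v, hv, he⟩ := heq C f hf ((le_sup_of_le_right le_sup_right).trans hr.ge)
  obtain ⟨i, hi⟩ := TameLib.exists_lift ι f hf (le_sup_left.trans hr.ge)
  obtain ⟨i₀, hi₀⟩ := TameLib.exists_lift S₀.val f hf (S₀.range_val.trans_le ((le_sup_of_le_right le_sup_left).trans hr.ge))
  letI : Algebra B C := i.toRingHom.toAlgebra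
  haveI : IsScalarTower A B C := IsScalarTower.of_algebraMap_eq fun x => (i.commutes x).symm
  haveI : Algebra.IsIntegral A S₀ := Algebra.IsIntegral.of_finite A S₀
  haveI := TameLib.finite_maximalSpectrum A (B := C)
  haveI : Fintype (MaximalSpectrum C) := Fintype.ofFinite _
  have hsepC : ∀ l : MaximalSpectrum C, ∃ π : C, π ∈ nonZeroDivisors C ∧ ∀ x ∈ ({a, b} : Multiset A),
      ∃ (u : (Localization.AtPrime l.asIdeal)ˣ) (e : ℕ), algebraMap A (Localization.AtPrime l.asIdeal) x =
        (u : Localization.AtPrime l.asIdeal) * algebraMap C (Localization.AtPrime l.asIdeal) π ^ e := by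
    intro l
    haveI := l.isMaximal
    have hmax : (l.asIdeal.comap i₀.toRingHom).IsMaximal := by
      refine Ideal.isMaximal_of_isIntegral_of_isMaximal_comap (R := A) _ ?_
      rw [Ideal.comap_comap, AlgHom.toRingHom_eq_coe, i₀.comp_algebraMap, TameLib.comap_max A l.asIdeal]
      exact IsLocalRing.maximalIdeal.isMaximal A
    obtain ⟨π, hπ, hfac⟩ := hsep ⟨_, hmax⟩
    let φ := Localization.localRingHom (l.asIdeal.comap i₀.toRingHom) l.asIdeal i₀.toRingHom rfl
    refine ⟨i₀ π, TameLib.over_unit_mem f hf _ (by rw [hi₀]; exact hπ), fun x hx => ?_⟩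
    obtain ⟨u, e, hxu⟩ := hfac x hx
    refine ⟨Units.map φ.toMonoidHom u, e, ?_⟩
    have h1 : φ (algebraMap A _ x) = algebraMap A (Localization.AtPrime l.asIdeal) x := by
      rw [IsScalarTower.algebraMap_apply A S₀ (Localization.AtPrime (l.asIdeal.comap i₀.toRingHom))]
      show φ (algebraMap S₀ _ (algebraMap A S₀ x)) = _
      rw [Localization.localRingHom_to_map]
      exact (congrArg (algebraMap C (Localization.AtPrime l.asIdeal)) (i₀.commutes x)).trans
        (IsScalarTower.algebraMap_apply A C (Localization.AtPrime l.asIdeal) x).symm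
    rw [← h1, hxu, map_mul, map_pow]
    congr 2
    exact Localization.localRingHom_to_map _ _ _ _ _
  obtain ⟨s, hs, hden⟩ := TameLib.over_denominator f hf
  have hinj : Function.Injective (algebraMap B C) := fun x y h => hι (by
    rw [← hi, ← hi]; exact congrArg f h)
  have hsC : ∀ c : C, ∃ b' : B, algebraMap B C b' = s • c := fun c => by
    obtain ⟨x, hx⟩ := hden c
    exact ⟨algebraMap A B x, (IsScalarTower.algebraMap_apply A B C x).symm.trans hx⟩
  have hmaxB : ∀ l : MaximalSpectrum C, (l.asIdeal.comap (algebraMap B C)).IsMaximal := fun l => by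
    haveI := l.isMaximal
    haveI : Algebra.IsIntegral A B := Algebra.IsIntegral.of_finite A B
    refine Ideal.isMaximal_of_isIntegral_of_isMaximal_comap (R := A) _ ?_
    rw [Ideal.comap_comap, ← IsScalarTower.algebraMap_eq, TameLib.comap_max A l.asIdeal]
    exact IsLocalRing.maximalIdeal.isMaximal A
  rw [he, TameLib.symProd, finprod_eq_prod_of_fintype, finprod_eq_prod_of_fintype,
    ← Finset.prod_fiberwise Finset.univ (fun l => (⟨_, hmaxB l⟩ : MaximalSpectrum B))]
  refine Finset.prod_congr rfl fun q _ => ?_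
  rw [TameLib.norm_tameSymbol_atPrime q hinj s (hnB s hs) hsC a b (hnB a ha) (hnB b hb) hsepC
    (TameLib.over_algebraMap_mem f hf hb) v hv]
  refine Finset.prod_congr ?_ fun _ _ => rfl
  ext l
  simp only [Finset.mem_filter, Finset.mem_univ, true_and]
  exact ⟨fun h => congrArg MaximalSpectrum.asIdeal h, fun h => MaximalSpectrum.ext h⟩

end Groth.Agent.S1849
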