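import Groth.Statements.S18490
import Mathlib
-- import your own Groth.Agent.* helpers here

set_option autoImplicit false
universe u
open CategoryTheory CategoryTheory.Limits AlgebraicGeometry
open FlatMor

namespace Groth.Agent.S18490

open AlgebraicGeometry CategoryTheory

theorem flat_of_retract {A B C B' : Type u} [CommRing A] [CommRing B] [CommRing C] [CommRing B']
    (α : A →+* B) (β : B →+* C) (γ : C →+* B') (h : Function.Bijective (γ.comp β))
    (hflat : (β.comp α).Flat) : α.Flat := by
  algebraize [α, β.comp α]
  let e := RingEquiv.ofBijective (γ.comp β) h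
  let i : B →ₗ[A] C :=
    { toFun := β
      map_add' := β.map_add
      map_smul' := fun a b => by simp [Algebra.smul_def, RingHom.algebraMap_toAlgebra] }
  let r : C →ₗ[A] B :=
    { toFun := fun c => e.symm (γ c)
      map_add' := fun c d => by simp
      map_smul' := fun a c => by
        simp only [Algebra.smul_def, RingHom.algebraMap_toAlgebra, map_mul, RingHom.comp_apply,
          RingHom.id_apply]
        rw [show γ (β (α a)) = e (α a) from rfl, e.symm_apply_apply] }
  exact Module.Flat.of_retract i r (LinearMap.ext fun b => e.symm_apply_apply b)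

/-- Let f : X → S and g : Y → S be morphisms of schemes and suppose that g has a section y : S → Y. If
the structure morphism X ×_S Y → S (first projection followed by f) is quasi-compact, then so is f;
likewise for locally of finite type, for separated, and for flat. (Finite type, also listed in the
source, is the conjunction of the first two.) -/
theorem result {X Y S : Scheme.{u}} (f : X ⟶ S) (g : Y ⟶ S)
    (y : S ⟶ Y) (hy : y ≫ g = 𝟙 S) :
    (QuasiCompact (pullback.fst f g ≫ f) → QuasiCompact f) ∧
    (LocallyOfFiniteType (pullback.fst f g ≫ f) → LocallyOfFiniteType f) ∧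
    (IsSeparated (pullback.fst f g ≫ f) → IsSeparated f) ∧
    (Flat (pullback.fst f g ≫ f) → Flat f) := by
  let s := Limits.pullback.lift (f := f) (g := g) (𝟙 X) (f ≫ y) (by simp [hy])
  have hs : s ≫ Limits.pullback.fst f g = 𝟙 X := Limits.pullback.lift_fst _ _ _
  have hf : f = s ≫ Limits.pullback.fst f g ≫ f := by rw [reassoc_of% hs]
  have hsurj : Function.Surjective (Limits.pullback.fst f g) := fun x =>
    ⟨s x, by rw [← Scheme.Hom.comp_apply, hs]; rfl⟩
  refine ⟨fun h => ⟨fun V hV hVc => ?_⟩, fun h => ?_, fun h => ?_, fun h => ?_⟩
  · have h2 := (h.1 V hV hVc).image (Limits.pullback.fst f g).continuous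
    convert h2 using 1
    ext x
    constructor
    · intro hx
      obtain ⟨z, rfl⟩ := hsurj x
      exact ⟨z, hx, rfl⟩
    · rintro ⟨z, hz, rfl⟩
      exact hz
  · have : LocallyOfFiniteType (s ≫ Limits.pullback.fst f g) := hs.symm ▸ inferInstance
    have : LocallyOfFiniteType s := locallyOfFiniteType_of_comp s (Limits.pullback.fst f g)
    rw [hf]; infer_instance
  · have : IsSplitMono s := .mk' ⟨_, hs⟩
    have : Mono s := inferInstance
    have : IsSeparated s := inferInstance
    rw [hf]; infer_instance
  · refine Flat.of_stalkMap f fun x => ?_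
    have hiso : IsIso ((Limits.pullback.fst f g).stalkMap (s x) ≫ s.stalkMap x) := by
      rw [← Scheme.Hom.stalkMap_comp]
      have haux : ∀ (m : X ⟶ X), m = 𝟙 X → IsIso (m.stalkMap x) := by
        rintro _ rfl; infer_instance
      exact haux _ hs
    have hflat : ((Limits.pullback.fst f g ≫ f).stalkMap (s x)).hom.Flat := Flat.stalkMap _ _
    rw [Scheme.Hom.stalkMap_comp] at hflat
    have hx : (Limits.pullback.fst f g) (s x) = x := by rw [← Scheme.Hom.comp_apply, hs]; rfl
    suffices hgoal : (f.stalkMap (Limits.pullback.fst f g (s x))).hom.Flat from hx ▸ hgoal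
    exact flat_of_retract (f.stalkMap _).hom ((Limits.pullback.fst f g).stalkMap (s x)).hom
      (s.stalkMap x).hom (ConcreteCategory.bijective_of_isIso (C := CommRingCat.{u})
        ((Limits.pullback.fst f g).stalkMap (s x) ≫ s.stalkMap x)) hflat

end Groth.Agent.S18490
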