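import Groth.Statements.S18491
import Mathlib
import Groth.Agent.RichLib.FibreCrit
import Groth.Agent.EtaleRankLib.Basic
import Mathlib.AlgebraicGeometry.Group.Affine

set_option autoImplicit false
universe u
open CategoryTheory CategoryTheory.Limits AlgebraicGeometry MonObj
open GrpSch

namespace Groth.Agent.S18491

/-- Let S be a scheme and G an S-group scheme whose structure morphism is locally quasi-finite, of
finite type, flat and locally of finite presentation (a quasi-finite fppf group scheme). Suppose
that for every point s of S the fibre G_s, a finite group scheme over the residue field k(s), has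
order non-zero in k(s): the rank of G_s → Spec k(s) at the point of Spec k(s) is not divisible by
the characteristic. Then G → S is étale. -/
theorem result {S : Scheme.{u}} (G : Over S) [GrpObj G]
    [LocallyQuasiFinite G.hom] [QuasiCompact G.hom] [Flat G.hom] [LocallyOfFinitePresentation G.hom]
    (h : ∀ (s : S) (x : ↥(Spec (S.residueField s))),
      ((pullback.snd G.hom (S.fromSpecResidueField s)).finrank x : S.residueField s) ≠ 0) :
    Etale G.hom := by
  haveI : LocallyOfFiniteType G.hom := inferInstance
  have hfib : ∀ s : S, Etale (G.hom.fiberToSpecResidueField s) := fun s => by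
    let K : Over (Spec (CommRingCat.of (S.residueField s))) := (Over.pullback (S.fromSpecResidueField s)).obj G
    letI : GrpObj K := Functor.grpObjObj
    haveI : LocallyQuasiFinite K.hom := MorphismProperty.pullback_snd _ _ inferInstance
    haveI : QuasiCompact K.hom := MorphismProperty.pullback_snd _ _ inferInstance
    haveI : IsFinite K.hom := IsFinite.of_locallyQuasiFinite K.hom
    haveI : Flat K.hom := MorphismProperty.pullback_snd _ _ inferInstance
    haveI : LocallyOfFinitePresentation K.hom := MorphismProperty.pullback_snd _ _ inferInstance
    haveI : IsAffine K.left := isAffine_of_isAffineHom K.hom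
    letI : K.left.Over (Spec (CommRingCat.of (S.residueField s))) := ⟨K.hom⟩
    letI : GrpObj (K.left.asOver (Spec (CommRingCat.of (S.residueField s)))) := ‹GrpObj K›
    let B := Γ(K.left, ⊤)
    letI iH : HopfAlgebra (S.residueField s) B :=
      @instHopfAlgebraCarrierObjOppositeOpensCarrierCarrierCommRingCatPresheafOpOpensTopOfGrpObjOverSchemeSpecAsOverOfIsAffine
        (CommRingCat.of (S.residueField s)) K.left _ _ _
    let σ : CommRingCat.of (S.residueField s) ⟶ B := CommRingCat.ofHom (algebraMap (S.residueField s) B)
    have hσ : Spec.map σ = K.left.isoSpec.inv ≫ K.hom :=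
      Spec.fullyFaithful.map_preimage (K.left.isoSpec.inv ≫ K.left ↘ Spec (CommRingCat.of (S.residueField s)))
    have hfin : σ.hom.Finite := (IsFinite.SpecMap_iff σ).mp (hσ ▸ (inferInstance : IsFinite (K.left.isoSpec.inv ≫ K.hom)))
    haveI : Module.Finite (S.residueField s) B := RingHom.finite_algebraMap.mp hfin
    have hdeg : K.hom.finrank (IsLocalRing.closedPoint (S.residueField s)) = Module.finrank (S.residueField s) B := by
      rw [← Scheme.Hom.finrank_comp_left_of_isIso K.left.isoSpec.inv K.hom, ← hσ,
        show Spec.map σ = Spec.map (CommRingCat.ofHom (algebraMap (S.residueField s) B)) from rfl,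
        Scheme.Hom.finrank_SpecMap_algebraMap, Module.rankAtStalk_eq_finrank_of_free]
      rfl
    have hne : ((Module.finrank (S.residueField s) B : ℕ) : S.residueField s) ≠ 0 := by
      have e := h s (IsLocalRing.closedPoint (S.residueField s))
      rw [← hdeg]
      exact e
    have het : Algebra.Etale (S.residueField s) B :=
      @Groth.Agent.EtaleRank.etale_of_finrank_ne_zero _ _ B _ iH ‹_› hne
    haveI : Etale (Spec.map σ) := (HasRingHomProperty.Spec_iff (P := @Etale)).mpr (RingHom.etale_algebraMap.mpr het)
    have : Etale K.hom := by
      rw [show K.hom = K.left.isoSpec.hom ≫ Spec.map σ from ((Iso.eq_inv_comp _).mp hσ).symm]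
      infer_instance
    exact this
  haveI : FormallyUnramified G.hom := RichLib.FibreCrit.formallyUnramified_of_fibers G.hom fun y =>
    have := hfib y; inferInstance
  exact Etale.of_formallyUnramified_of_flat G.hom

end Groth.Agent.S18491
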