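import Groth.Statements.S18493
import Groth.Agent.S18485
import Groth.Agent.S1607
import Groth.Agent.FinSurjLib.Zmt
import Groth.Agent.MiscFlat6.LCPoint

set_option autoImplicit false
set_option backward.isDefEq.respectTransparency false
universe u
open CategoryTheory CategoryTheory.Limits AlgebraicGeometry MonObj
open Neron
open MonoidalCategory CartesianMonoidalCategory

namespace Groth.Agent.S18493

/-- Let R be a Dedekind domain with fraction field K, let A and B be group schemes over Spec R which are
Néron models of their generic fibres, both abelian varieties over K (proper and geometrically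
integral), let φ : A → B be a homomorphism whose generic fibre is an isogeny (surjective with finite
kernel), and let i : N → A be a kernel of φ (cartesian square against the unit section of B). If φ
is flat, then N → Spec R is locally quasi-finite, of finite type, flat and affine; if moreover A is
proper over Spec R then N → Spec R is finite. -/
theorem result (R : Type u) [CommRing R]
    [IsDedekindDomain R] (A B : Over (Spec (CommRingCat.of R))) [GrpObj A] [GrpObj B]
    (hA : Neron.IsNeronModelOf R A ((Neron.genericFibre R).obj A) (Iso.refl _))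
    (hB : Neron.IsNeronModelOf R B ((Neron.genericFibre R).obj B) (Iso.refl _))
    [IsProper ((Neron.genericFibre R).obj A).hom] [GeometricallyIntegral ((Neron.genericFibre R).obj A).hom]
    [IsProper ((Neron.genericFibre R).obj B).hom] [GeometricallyIntegral ((Neron.genericFibre R).obj B).hom]
    (φ : A ⟶ B) [IsMonHom φ] (hφ : SGA7.IsIsogenyOver ((Neron.genericFibre R).map φ)) [Flat φ.left]
    (N : Over (Spec (CommRingCat.of R))) (i : N ⟶ A) (hN : AlgGrp.IsKernel i φ) :
    (LocallyQuasiFinite N.hom ∧ QuasiCompact N.hom ∧ Flat N.hom ∧ IsAffineHom N.hom) ∧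
    (IsProper A.hom → IsFinite N.hom) := by
  obtain ⟨-, hAsep, hAlft, hAqc, -⟩ := hA
  obtain ⟨hBsm, hBsep, -, hBqc, -⟩ := hB
  haveI := hAsep; haveI := hAqc; haveI := hBsm; haveI := hBsep; haveI := hBqc
  let e := (η[B] : 𝟙_ _ ⟶ B).left
  have he : e ≫ B.hom = 𝟙 _ := Over.w (η[B] : 𝟙_ _ ⟶ B)
  haveI : IsClosedImmersion e := by
    haveI : IsClosedImmersion (e ≫ B.hom) := by rw [he]; infer_instance
    exact IsClosedImmersion.of_comp e B.hom
  have hsq : IsPullback i.left (toUnit N).left φ.left e := hN.map (Over.forget _)
  haveI : IsClosedImmersion i.left := MorphismProperty.of_isPullback hsq.flip ‹IsClosedImmersion e›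
  have hfl : Flat (toUnit N).left := MorphismProperty.of_isPullback hsq ‹Flat φ.left›
  haveI : Flat N.hom := by rw [Over.toUnit_left] at hfl; exact hfl
  haveI : IsSeparated N.hom := by rw [← Over.w i]; infer_instance
  haveI : QuasiCompact N.hom := by rw [← Over.w i]; infer_instance
  haveI := hAlft
  haveI : LocallyOfFiniteType N.hom := by rw [← Over.w i]; infer_instance
  -- the generic fibre is finite
  let F := Neron.genericFibre R
  haveI : IsFinite (F.obj N).hom := by
    refine hφ.2 (F.obj N) (F.map i) ?_
    let t : F.obj (𝟙_ _) ≅ 𝟙_ _ := (Functor.Monoidal.εIso F).symm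
    refine (hN.map F).of_iso (Iso.refl _) (Iso.refl _) t (Iso.refl _) (by simp) (toUnit_unique _ _) (by simp [F]) ?_
    rw [Iso.refl_hom, Category.comp_id,
      show (η[B] : 𝟙_ _ ⟶ B) = 1 from (MonObj.one_eq_one B), Functor.map_one, Hom.one_def]
    exact congrArg (· ≫ _) (toUnit_unique _ _)
  haveI : LocallyQuasiFinite N.hom := Groth.Agent.S18485.result R N
  refine ⟨⟨inferInstance, inferInstance, inferInstance, ?_⟩, fun hp => ?_⟩
  · haveI : LocallyOfFinitePresentation N.hom := inferInstance
    obtain ⟨T, j, π, hj, hjq, hπ, -, hjπ⟩ := FinSurjLib.exists_finite_factorization N.hom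
    haveI := hj; haveI := hjq; haveI := hπ
    haveI : IsAffine T := isAffine_of_isAffineHom π
    haveI : IsLocallyNoetherian T := LocallyOfFiniteType.isLocallyNoetherian π
    have hdim : ringKrullDim Γ(T, ⊤) ≤ 1 := by
      obtain ⟨c, hc⟩ := Spec.map_surjective (T.isoSpec.inv ≫ π)
      have hfin : c.hom.Finite := (IsFinite.SpecMap_iff c).1 (by rw [hc]; infer_instance)
      letI : Algebra R Γ(T, ⊤) := c.hom.toAlgebra
      haveI : Module.Finite R Γ(T, ⊤) := hfin
      exact (MiscFlat6.ringKrullDim_le_of_integral R Γ(T, ⊤)).1.trans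
        (Ring.krullDimLE_iff.1 inferInstance)
    have hTdim : ∀ x : T, IsNoetherianRing (T.presheaf.stalk x) ∧ ringKrullDim (T.presheaf.stalk x) ≤ 1 := by
      intro x
      refine ⟨inferInstance, ?_⟩
      have hU := isAffineOpen_top T
      letI : Algebra Γ(T, ⊤) (T.presheaf.stalk x) := TopCat.Presheaf.algebra_section_stalk T.presheaf (⟨x, trivial⟩ : (⊤ : T.Opens))
      haveI := hU.isLocalization_stalk ⟨x, trivial⟩
      rw [IsLocalization.AtPrime.ringKrullDim_eq_height (hU.primeIdealOf ⟨x, trivial⟩).asIdeal (T.presheaf.stalk x)]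
      exact (Ideal.height_le_ringKrullDim_of_ne_top (hU.primeIdealOf ⟨x, trivial⟩).isPrime.ne_top).trans hdim
    haveI : CompactSpace N.left := QuasiCompact.compactSpace_of_compactSpace N.hom
    have hopen : IsAffineOpen j.opensRange :=
      Groth.Agent.S1607.result T hTdim _ (isCompact_range j.continuous)
    haveI : IsAffine j.opensRange.toScheme := hopen
    haveI : IsAffine N.left := IsAffine.of_isIso j.isoOpensRange.hom
    infer_instance
  · haveI := hp
    haveI : IsProper N.hom := by rw [← Over.w i]; infer_instance
    exact IsFinite.of_isProper_of_locallyQuasiFinite N.hom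

end Groth.Agent.S18493
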