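import Groth.Statements.S18494
import Groth.Agent.NeronQFLib.Kill
import Groth.Agent.InertiaPtsLib.Points
import Groth.Agent.TorsLiftLib.Basic

set_option autoImplicit false
set_option backward.isDefEq.respectTransparency false
set_option maxHeartbeats 1000000
universe u
open CategoryTheory CategoryTheory.Limits AlgebraicGeometry MonObj
open Neron
open MonoidalCategory CartesianMonoidalCategory

namespace Groth.Agent.S18494

/-- Let R be a Dedekind domain with fraction field K, let A and B be group schemes over Spec R which are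
Néron models of their generic fibres, both abelian varieties over K (proper and geometrically
integral), let φ : A → B be a homomorphism whose generic fibre φ_K is an isogeny (surjective with
finite kernel), and let i : N → A be a kernel of φ. If the degree of φ_K, that is the order of the
finite K-group scheme N_K (its rank over Spec K), is a unit in R, then N is a Néron model of its
generic fibre N_K (smooth, separated, of finite type, with the Néron mapping property for smooth
Spec R-schemes) and N → Spec R is étale. -/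
theorem result (R : Type u) [CommRing R]
    [IsDedekindDomain R] (A B : Over (Spec (CommRingCat.of R))) [GrpObj A] [GrpObj B]
    (hA : Neron.IsNeronModelOf R A ((Neron.genericFibre R).obj A) (Iso.refl _))
    (hB : Neron.IsNeronModelOf R B ((Neron.genericFibre R).obj B) (Iso.refl _))
    [IsProper ((Neron.genericFibre R).obj A).hom] [GeometricallyIntegral ((Neron.genericFibre R).obj A).hom]
    [IsProper ((Neron.genericFibre R).obj B).hom] [GeometricallyIntegral ((Neron.genericFibre R).obj B).hom]
    (φ : A ⟶ B) [IsMonHom φ] (hφ : SGA7.IsIsogenyOver ((Neron.genericFibre R).map φ))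
    (N : Over (Spec (CommRingCat.of R))) (i : N ⟶ A) (hN : AlgGrp.IsKernel i φ)
    (hdeg : ∀ x : ↥(Spec (CommRingCat.of (FractionRing R))),
      IsUnit ((((Neron.genericFibre R).obj N).hom.finrank x : ℕ) : R)) :
    Neron.IsNeronModelOf R N ((Neron.genericFibre R).obj N) (Iso.refl _) ∧ Etale N.hom := by
  obtain ⟨hAsm, hAsep, hAlft, hAqc, hAbij⟩ := hA
  obtain ⟨hBsm, hBsep, hBlft, hBqc, hBbij⟩ := hB
  haveI := hAsm; haveI := hAsep; haveI := hAlft; haveI := hAqc
  haveI := hBsm; haveI := hBsep; haveI := hBlft; haveI := hBqc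
  let K := FractionRing R
  let F := Neron.genericFibre R
  haveI : IsCommMonObj A := InertiaPtsLib.isCommMonObj_neron (R := R) (K := K) A
    ⟨hAsm, hAsep, hAqc, fun Y hY => by
      have h := hAbij Y hY
      simp only [Iso.refl_hom, Category.comp_id] at h
      exact h⟩
  letI : GrpObj (F.obj A) := Functor.grpObjObj
  letI : GrpObj (F.obj B) := Functor.grpObjObj
  haveI : IsMonHom (F.map φ) := @Functor.map.instIsMonHom _ _ _ _ _ _ F _ _ _ _ _ φ _
  haveI : IsCommMonObj (F.obj A) := Functor.isCommMonObj_obj (F := F)
  haveI : IsIntegral (F.obj A).left := GeometricallyIntegral.isIntegral_of_subsingleton ((Neron.genericFibre R).obj A).hom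
  haveI : IsIntegral (F.obj B).left := GeometricallyIntegral.isIntegral_of_subsingleton ((Neron.genericFibre R).obj B).hom
  haveI : Mono i := NeronQFLib.mono_of_kernel φ i hN
  -- the generic kernel and its order
  have hNK : AlgGrp.IsKernel (F.map i) (F.map φ) := by
    let t : F.obj (𝟙_ _) ≅ 𝟙_ _ := (Functor.Monoidal.εIso F).symm
    refine (hN.map F).of_iso (Iso.refl _) (Iso.refl _) t (Iso.refl _) (by simp) (toUnit_unique _ _) (by simp [F]) ?_
    rw [Iso.refl_hom, Category.comp_id,
      show (η[B] : 𝟙_ _ ⟶ B) = 1 from (MonObj.one_eq_one B), Functor.map_one, Hom.one_def]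
    exact congrArg (· ≫ _) (toUnit_unique _ _)
  haveI : IsFinite (F.obj N).hom := hφ.2 _ _ hNK
  let d := (F.obj N).hom.finrank (IsLocalRing.closedPoint K)
  have hd : IsUnit (d : R) := hdeg _
  have hkill : F.map i ^ d = 1 := NeronQFLib.kernel_pow_finrank (F.map φ) (F.map i) hNK
  -- the generic isogeny is finite flat
  haveI : LocallyQuasiFinite (F.map φ).left := NeronQFLib.lqf_of_isFinite_kernel (F.map φ) hφ.2
  haveI : Surjective (F.map φ).left := hφ.1
  haveI : IsProper (F.obj A).hom := ‹IsProper ((Neron.genericFibre R).obj A).hom›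
  haveI : IsProper (F.obj B).hom := ‹IsProper ((Neron.genericFibre R).obj B).hom›
  haveI : IsProper ((F.map φ).left ≫ (F.obj B).hom) := by rw [Over.w]; infer_instance
  haveI : IsProper (F.map φ).left := IsProper.of_comp (F.map φ).left (F.obj B).hom
  haveI : GeometricallyIntegral (F.obj B).hom := ‹GeometricallyIntegral ((Neron.genericFibre R).obj B).hom›
  haveI : Smooth (F.obj A).hom := inferInstanceAs (Smooth (pullback.snd A.hom _))
  haveI : Flat (F.map φ).left := AbSchLib.flat_of_surjective (F.map φ)
  obtain ⟨ψK, hψK⟩ := NeronQFLib.exists_comp_eq_pow (F.map φ) (F.map i) hNK d hkill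
  obtain ⟨ψ, hψ⟩ := (hAbij B hBsm).2 ψK
  simp only [Iso.refl_hom, Category.comp_id] at hψ
  have hpow : ∀ n : ℕ, F.map ((𝟙 A : A ⟶ A) ^ n) = (𝟙 (F.obj A) : F.obj A ⟶ F.obj A) ^ n := by
    intro n
    induction n with
    | zero => rw [pow_zero, pow_zero, Functor.map_one]
    | succ n ih => rw [pow_succ, pow_succ, Functor.map_mul, ih, CategoryTheory.Functor.map_id]
  have hφψ : φ ≫ ψ = (𝟙 A) ^ d := by
    refine (hAbij A hAsm).1 ?_
    simp only [Iso.refl_hom, Category.comp_id]
    rw [Functor.map_comp, hψ, hψK, hpow]
  -- the kernel is killed by d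
  have hi : i ≫ φ = 1 := NeronQFLib.kernel_comp φ i hN
  have hid : i ≫ (𝟙 A) ^ d = 1 := by
    have hη : (η[B] : 𝟙_ _ ⟶ B) ≫ ψ = 1 := by
      rw [← IsMonHom.one_hom (f := φ), Category.assoc, hφψ, MonObj.comp_pow, Category.comp_id,
        MonObj.one_eq_one, one_pow]
    rw [← hφψ, ← Category.assoc, hi, Hom.one_def, Category.assoc, hη, MonObj.comp_one]
  -- hence unramified
  haveI : IsClosedImmersion (η[B] : 𝟙_ _ ⟶ B).left := by
    haveI : IsClosedImmersion ((η[B] : 𝟙_ _ ⟶ B).left ≫ B.hom) := by
      rw [Over.w (η[B] : 𝟙_ _ ⟶ B)]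
      exact inferInstanceAs (IsClosedImmersion (𝟙 _))
    exact IsClosedImmersion.of_comp _ B.hom
  have hsq : IsPullback i.left (toUnit N).left φ.left (η[B] : 𝟙_ _ ⟶ B).left := hN.map (Over.forget _)
  haveI : IsClosedImmersion i.left := MorphismProperty.of_isPullback hsq.flip inferInstance
  haveI : IsSeparated N.hom := by rw [← Over.w i]; infer_instance
  haveI : QuasiCompact N.hom := by rw [← Over.w i]; infer_instance
  haveI : LocallyOfFiniteType N.hom := by rw [← Over.w i]; infer_instance
  haveI := TorsLiftLib.etale_pow A d hd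
  let e := (η[A] : 𝟙_ _ ⟶ A).left
  haveI : Etale (pullback.snd ((𝟙 A : A ⟶ A) ^ d).left e) := MorphismProperty.pullback_snd _ _ inferInstance
  let l := pullback.lift (f := ((𝟙 A : A ⟶ A) ^ d).left) (g := e) i.left (toUnit N).left (by
    rw [← Over.comp_left, ← Over.comp_left, hid, Hom.one_def])
  haveI : IsClosedImmersion l := by
    haveI : IsSeparated e := by
      haveI : IsSeparated (e ≫ A.hom) := by
        rw [Over.w (η[A] : 𝟙_ _ ⟶ A)]
        exact inferInstanceAs (IsSeparated (𝟙 _))
      exact IsSeparated.of_comp e A.hom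
    haveI : IsClosedImmersion (l ≫ pullback.fst _ _) := by rw [pullback.lift_fst]; infer_instance
    exact IsClosedImmersion.of_comp l (pullback.fst _ _)
  haveI : FormallyUnramified N.hom := by
    haveI : FormallyUnramified l := inferInstance
    haveI : FormallyUnramified (pullback.snd ((𝟙 A : A ⟶ A) ^ d).left e) :=
      (Etale.iff_flat_and_formallyUnramified.1 inferInstance).2.1
    have : FormallyUnramified (l ≫ pullback.snd _ _) := MorphismProperty.comp_mem _ _ _ ‹_› ‹_›
    rw [pullback.lift_snd, Over.toUnit_left] at this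
    exact this
  haveI : LocallyQuasiFinite N.hom := EtLocLib.locallyQuasiFinite N.hom
  haveI : LocallyQuasiFinite φ.left := NeronQFLib.lqf_of_lqf_kernel φ i hN
  -- hence flat
  haveI : IrreducibleSpace ↥(pullback A.hom (Spec.map (CommRingCat.ofHom (algebraMap R K)))) :=
    inferInstanceAs (IrreducibleSpace (F.obj A).left)
  haveI : IrreducibleSpace ↥(pullback B.hom (Spec.map (CommRingCat.ofHom (algebraMap R K)))) :=
    inferInstanceAs (IrreducibleSpace (F.obj B).left)
  obtain ⟨g, hgA, hdA⟩ := NeronQFLib.exists_fibreDimAt_eq R K A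
  obtain ⟨g', hgB, hdB⟩ := NeronQFLib.exists_fibreDimAt_eq R K B
  have he := NeronQFLib.dim_closure_eq_of_lqf (F.map φ) (genericPoint (F.obj A).left)
  have hcl : ∀ {T : Type u} [TopologicalSpace T] (x : T), closure ({x} : Set T) = Set.univ →
      topologicalKrullDim (closure ({x} : Set T)) = topologicalKrullDim T := fun x hx => by
    rw [hx]
    exact IsHomeomorph.topologicalKrullDim_eq _ (Homeomorph.Set.univ _).isHomeomorph
  rw [hcl _ (genericPoint_closure (α := (F.obj A).left)), hcl _ (by
    refine Set.eq_univ_of_forall fun y => ?_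
    obtain ⟨x, rfl⟩ := (F.map φ).left.surjective y
    exact specializes_iff_mem_closure.1 ((genericPoint_specializes x).map (F.map φ).left.continuous))] at he
  have hgg : g = g' := by exact_mod_cast (hdA.symm.trans (he.trans hdB))
  subst hgg
  haveI : Flat φ.left := NeronQFLib.flat_of_lqf φ hgA hgB
  haveI : Flat N.hom := by
    have := MorphismProperty.of_isPullback (P := @Flat) hsq inferInstance
    rw [Over.toUnit_left] at this
    exact this
  haveI : LocallyOfFinitePresentation N.hom := inferInstance
  have hNet : Etale N.hom := Etale.iff_flat_and_formallyUnramified.2 ⟨inferInstance, inferInstance, inferInstance⟩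
  refine ⟨⟨inferInstance, inferInstance, inferInstance, inferInstance, fun Y hY => ?_⟩, hNet⟩
  haveI : Mono (F.map i) := NeronQFLib.mono_of_kernel (F.map φ) (F.map i) hNK
  refine ⟨fun a b e => ?_, fun h => ?_⟩
  · simp only [Iso.refl_hom, Category.comp_id] at e
    rw [← cancel_mono i]
    refine (hAbij Y hY).1 ?_
    simp only [Iso.refl_hom, Category.comp_id]
    rw [Functor.map_comp, Functor.map_comp, show F.map a = F.map b from e]
  · obtain ⟨a, ha⟩ := (hAbij Y hY).2 (h ≫ F.map i)
    simp only [Iso.refl_hom, Category.comp_id] at ha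
    obtain ⟨z, hz⟩ := NeronQFLib.exists_kernel_factor φ i hN a ((hBbij Y hY).1 (by
      simp only [Iso.refl_hom, Category.comp_id]
      rw [Functor.map_comp, ha, Functor.map_one, Category.assoc, NeronQFLib.kernel_comp (F.map φ) (F.map i) hNK,
        MonObj.comp_one]))
    refine ⟨z, ?_⟩
    simp only [Iso.refl_hom, Category.comp_id]
    rw [← cancel_mono (F.map i), ← Functor.map_comp, hz]
    exact ha

end Groth.Agent.S18494
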