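import Groth.Statements.S3207
import Groth.Agent.S3694
import Groth.Agent.EtLocLib.Finite
import Groth.Agent.AlgSpLib.CodimZero
import Groth.Agent.AlgSpLib.EtLocProp

set_option autoImplicit false
set_option backward.isDefEq.respectTransparency false
universe u
open CategoryTheory CategoryTheory.Limits AlgebraicGeometry
open SGA7

namespace Groth.Agent.S3207

/-- Let g : T -> S be locally quasi-finite, of finite presentation, separated and flat. If for every
maximal point s of S (a point with no proper generization) the fibre of g over s is either empty or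
mapped isomorphically onto Spec κ(s) (rank at most 1), then g is an open immersion. -/
theorem result {T S : Scheme.{u}} (g : T ⟶ S) [LocallyQuasiFinite g]
    [LocallyOfFinitePresentation g] [QuasiCompact g] [IsSeparated g] [Flat g]
    (h : ∀ s : S, (∀ t : S, t ⤳ s → t = s) →
      IsEmpty ↑(pullback g (S.fromSpecResidueField s)) ∨ IsIso (pullback.snd g (S.fromSpecResidueField s))) :
    IsOpenImmersion g := by
  -- the fibres over maximal points are monomorphic
  have hmono : ∀ s : S, (∀ t : S, t ⤳ s → t = s) → Mono (pullback.snd g (S.fromSpecResidueField s)) := by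
    intro s hs
    rcases h s hs with h0 | h0
    · refine ⟨fun {Z} a b _ => ?_⟩
      haveI : IsEmpty Z := Function.isEmpty a.base
      exact isInitialOfIsEmpty.hom_ext a b
    · infer_instance
  -- two morphisms from a scheme to `T` agreeing over a maximal point are equal
  have huniq : ∀ (s : S), (∀ t : S, t ⤳ s → t = s) → ∀ {Z : Scheme.{u}} (c : Z ⟶ Spec (S.residueField s))
      (a b : Z ⟶ T), a ≫ g = c ≫ S.fromSpecResidueField s → b ≫ g = c ≫ S.fromSpecResidueField s → a = b := by
    intro s hs Z c a b ha hb
    haveI := hmono s hs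
    have h1 : pullback.lift a c ha = pullback.lift b c hb := by
      rw [← cancel_mono (pullback.snd g (S.fromSpecResidueField s)), pullback.lift_snd, pullback.lift_snd]
    simpa using congrArg (· ≫ pullback.fst g (S.fromSpecResidueField s)) h1
  -- étaleness
  haveI : Etale g := by
    have key : ∀ x : T, ∃ (E : Scheme.{u}) (k : E ⟶ T), Etale k ∧ Etale (k ≫ g) ∧ x ∈ Set.range k.base := by
      intro x
      obtain ⟨V, c, hc, v, W, z, hv, -, hfin, hzW, hzv, hzx, -⟩ := EtLocLib.exists_finite_open_elementary g x
      haveI := hc
      haveI := hfin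
      let e := W.ι ≫ pullback.snd g c
      haveI : IsFinite e := hfin
      haveI : Flat e := inferInstance
      haveI : LocallyOfFinitePresentation e := inferInstance
      have hev : e.base ⟨z, hzW⟩ = v := hzv
      obtain ⟨v₀, hv₀, hmax⟩ := AlgSpLib.exists_maximal_generization v
      have hs₀ : ∀ t : S, t ⤳ c.base v₀ → t = c.base v₀ := by
        intro t ht
        obtain ⟨w, hw, rfl⟩ := Flat.generalizingMap c ht
        rw [hmax w hw]
      let j := V.fromSpecResidueField v₀
      let q := pullback.snd e j
      haveI : IsFinite q := inferInstance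
      haveI : Flat q := inferInstance
      haveI : Mono q := by
        refine ⟨fun {Z} a b hab => ?_⟩
        refine pullback.hom_ext ?_ hab
        haveI : Mono W.ι := inferInstance
        rw [← cancel_mono W.ι]
        refine pullback.hom_ext ?_ ?_
        · have hq2 : pullback.fst e j ≫ W.ι ≫ pullback.fst g c ≫ g =
              q ≫ Spec.map (c.residueFieldMap v₀) ≫ S.fromSpecResidueField (c.base v₀) := by
            rw [Scheme.Hom.SpecMap_residueFieldMap_fromSpecResidueField, pullback.condition,
              ← Category.assoc W.ι, pullback.condition_assoc]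
          refine huniq (c.base v₀) hs₀ (a ≫ q ≫ Spec.map (c.residueFieldMap v₀)) _ _ ?_ ?_
          · simp only [Category.assoc, hq2]
          · simp only [Category.assoc, hq2]
            rw [reassoc_of% hab]
        · simp only [Category.assoc]
          rw [pullback.condition, reassoc_of% hab]
      have hlc := Scheme.Hom.isLocallyConstant_finrank e
      have hr : e.finrank v₀ = e.finrank v :=
        hv₀.mem_open (hlc {e.finrank v}) (show v ∈ e.finrank ⁻¹' {e.finrank v} from rfl)
      have h1 : 1 ≤ e.finrank v := hev ▸ Scheme.Hom.one_le_finrank_map e _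
      have hone : e.finrank v = 1 := by
        let p := IsLocalRing.closedPoint (V.residueField v₀)
        have hq : q.finrank p = e.finrank v := by
          rw [Scheme.Hom.finrank_pullback_snd, Scheme.fromSpecResidueField_apply, hr]
        haveI : Surjective q := (Scheme.Hom.one_le_finrank_iff_surjective q).1 (fun y => by
          rw [show y = p from Subsingleton.elim _ _, hq]; exact h1)
        obtain ⟨w, hw⟩ := q.surjective p
        have h2 := congrFun (Scheme.Hom.finrank_eq_one_of_isIso (pullback.fst q q)) w
        rw [Scheme.Hom.finrank_pullback_fst q q w, hw, hq] at h2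
        exact h2
      let V₁ : V.Opens := ⟨e.finrank ⁻¹' {1}, hlc {1}⟩
      haveI : IsIso (e ∣_ V₁) := by
        haveI : Flat (e ∣_ V₁) := MorphismProperty.of_isPullback (isPullback_morphismRestrict e V₁).flip ‹Flat e›
        haveI : IsFinite (e ∣_ V₁) := MorphismProperty.of_isPullback (isPullback_morphismRestrict e V₁).flip ‹IsFinite e›
        haveI : LocallyOfFinitePresentation (e ∣_ V₁) := MorphismProperty.of_isPullback
          (isPullback_morphismRestrict e V₁).flip ‹LocallyOfFinitePresentation e›
        rw [Scheme.Hom.isIso_iff_finrank_eq]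
        funext y
        rw [Scheme.Hom.finrank_of_isPullback _ _ _ _ (isPullback_morphismRestrict e V₁).flip y]
        exact y.2
      refine ⟨_, (e ⁻¹ᵁ V₁).ι ≫ W.ι ≫ pullback.fst g c, inferInstance, ?_,
        ⟨⟨⟨z, hzW⟩, show e.finrank (e.base ⟨z, hzW⟩) = 1 by rw [hev, hone]⟩, hzx⟩⟩
      rw [show ((e ⁻¹ᵁ V₁).ι ≫ W.ι ≫ pullback.fst g c) ≫ g = ((e ∣_ V₁) ≫ V₁.ι) ≫ c by
        rw [morphismRestrict_ι]; simp [e, pullback.condition]]
      infer_instance
    choose E k hk hkg hx using key
    let U : T → T.Opens := fun x => ⟨Set.range (k x).base, (k x).isOpenMap.isOpen_range⟩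
    refine IsZariskiLocalAtSource.of_iSup_eq_top (P := @Etale) U
      (top_le_iff.mp fun x _ => TopologicalSpace.Opens.mem_iSup.2 ⟨x, hx x⟩) fun x => ?_
    let l : E x ⟶ (U x).toScheme := IsOpenImmersion.lift (U x).ι (k x) (by rw [Scheme.Opens.range_ι]; exact subset_rfl)
    have hl : l ≫ (U x).ι = k x := IsOpenImmersion.lift_fac _ _ _
    haveI : Etale (l ≫ (U x).ι) := hl ▸ hk x
    haveI : Etale l := Etale.of_comp l (U x).ι
    haveI : Surjective l := ⟨fun ⟨y, w, hw⟩ => ⟨w, (U x).ι.injective (by
      rw [← Scheme.Hom.comp_apply, hl]; exact hw)⟩⟩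
    exact AlgSpLib.EtLocProp.srcDescent (P := (@Etale : MorphismProperty Scheme.{u})) l ((U x).ι ≫ g)
      (by rw [← Category.assoc, hl]; exact hkg x)
  -- universally injective
  haveI : UniversallyInjective g := by
    rw [UniversallyInjective.iff_diagonal]
    refine ⟨fun w => ?_⟩
    let p := pullback.fst g g ≫ g
    obtain ⟨s, hs, hmax⟩ := AlgSpLib.exists_maximal_generization (p.base w)
    obtain ⟨w₀, hw₀, hw₀s⟩ := Flat.generalizingMap p hs
    have hd : w₀ ∈ Set.range (pullback.diagonal g).base := by
      subst hw₀s
      let o := (pullback g g).fromSpecResidueField w₀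
      have e : o ≫ pullback.fst g g = o ≫ pullback.snd g g := by
        refine huniq (p.base w₀) hmax (Spec.map (p.residueFieldMap w₀)) _ _ ?_ ?_
        · rw [Scheme.Hom.SpecMap_residueFieldMap_fromSpecResidueField, Category.assoc]
        · rw [Scheme.Hom.SpecMap_residueFieldMap_fromSpecResidueField, Category.assoc, ← pullback.condition]
      have e2 : o = (o ≫ pullback.fst g g) ≫ pullback.diagonal g := by
        apply pullback.hom_ext <;> simp [e]
      refine ⟨(o ≫ pullback.fst g g).base (IsLocalRing.closedPoint _), ?_⟩
      rw [← Scheme.Hom.comp_apply, ← e2, Scheme.fromSpecResidueField_apply]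
    exact closure_minimal (Set.singleton_subset_iff.2 hd) (pullback.diagonal g).isClosedEmbedding.isClosed_range
      (specializes_iff_mem_closure.1 hw₀)
  exact Groth.Agent.S3694.result g

end Groth.Agent.S3207
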