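import Groth.Statements.S4056
import Groth.Agent.UnipKerLib.Open
import Groth.Agent.S4060
import Groth.Agent.InertiaPtsLib.Points
import Groth.Agent.ChowLib.SchDom

set_option autoImplicit false
set_option backward.isDefEq.respectTransparency false
set_option maxHeartbeats 1000000
universe u
open CategoryTheory CategoryTheory.Limits MonoidalCategory CartesianMonoidalCategory AlgebraicGeometry MonObj
open SGA7

namespace Groth.Agent.S4056

theorem exists_lift (R K : Type u) [CommRing R] [IsDomain R] [Field K] [Algebra R K] [IsFractionRing R K]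
    {L : CommRingCat.{u}} (ψ : CommRingCat.of R ⟶ L) (hψ : ∀ r : R, r ≠ 0 → IsUnit (ψ.hom r)) :
    ∃ φ : CommRingCat.of K ⟶ L, CommRingCat.ofHom (algebraMap R K) ≫ φ = ψ :=
  ⟨CommRingCat.ofHom (IsLocalization.lift (M := nonZeroDivisors R) (g := ψ.hom)
      fun y => hψ y.1 (nonZeroDivisors.ne_zero y.2)),
    CommRingCat.hom_ext (IsLocalization.lift_comp _)⟩

/-- Last assertion: over a Dedekind domain R with fraction field K: let N be a group scheme over Spec R
which is a Néron model of its generic fibre, an abelian variety over K, and let G be a smooth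
separated group scheme of finite type over Spec R whose geometric fibres contain no copy of the
additive group. Then every homomorphism u : G -> N of group schemes over Spec R which is an
isomorphism on generic fibres is an open immersion. -/
theorem result (R K : Type u) [CommRing R] [IsDedekindDomain R] [Field K] [Algebra R K] [IsFractionRing R K]
    (N : Over (Spec (CommRingCat.of R))) [GrpObj N] (hN : SGA7.IsNeron R K N)
    [IsProper ((SGA7.genFib R K).obj N).hom] [GeometricallyIntegral ((SGA7.genFib R K).obj N).hom]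
    (G : Over (Spec (CommRingCat.of R))) [GrpObj G] [Smooth G.hom] [IsSeparated G.hom] [QuasiCompact G.hom]
    (hG : SGA7.FibresUnipotentRankZero G) (u : G ⟶ N) [IsMonHom u] [IsIso ((SGA7.genFib R K).map u)] :
    IsOpenImmersion u.left := by
  haveI := hN.1
  haveI := hN.2.1
  let ξ := Spec.map (CommRingCat.ofHom (algebraMap R K))
  let F := Over.pullback ξ
  letI : GrpObj (F.obj G) := Functor.grpObjObj
  letI : GrpObj (F.obj N) := Functor.grpObjObj
  haveI : IsIso (F.map u) := ‹IsIso ((SGA7.genFib R K).map u)›
  haveI := InertiaPtsLib.isCommMonObj_neron N hN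
  haveI : IsDominant ξ := ⟨by
    show DenseRange (PrimeSpectrum.comap (algebraMap R K))
    rw [PrimeSpectrum.denseRange_comap_iff_ker_le_nilRadical,
      (RingHom.injective_iff_ker_eq_bot _).1 (IsFractionRing.injective R K)]
    exact bot_le⟩
  haveI : IsSchemeTheoreticallyDominant ξ := IsSchemeTheoreticallyDominant.of_isDominant ξ
  haveI : Flat (G ⊗ G).hom := by
    have h : Flat ((fst G G).left ≫ G.hom) := by
      haveI : Flat (fst G G).left := inferInstanceAs (Flat (Limits.pullback.fst G.hom G.hom))
      infer_instance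
    rwa [Over.w] at h
  haveI : IsCommMonObj G := by
    have e1 : ((β_ G G).hom ≫ μ[G]) ≫ u = μ[G] ≫ u := by
      simp only [Category.assoc, IsMonHom.mul_hom]
      rw [← BraidedCategory.braiding_naturality_assoc, IsCommMonObj.mul_comm]
    have e2 : F.map ((β_ G G).hom ≫ μ[G]) = F.map μ[G] := by
      rw [← cancel_mono (F.map u), ← Functor.map_comp, ← Functor.map_comp, e1]
    refine ⟨Over.OverMorphism.ext (ChowLib.hom_ext_of_schDom (Limits.pullback.fst (G ⊗ G).hom ξ) G.hom
      (by rw [Over.w, Over.w]) ?_)⟩
    have e3 := congrArg (fun f => f.left ≫ pullback.fst G.hom ξ) e2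
    erw [(NeronQFLib.isPullback_map ξ ((β_ G G).hom ≫ μ[G])).w.symm,
      (NeronQFLib.isPullback_map ξ μ[G]).w.symm] at e3
    exact e3
  let t : Spec (CommRingCat.of R) := ((⟨⊥, Ideal.isPrime_bot⟩ : PrimeSpectrum R))
  have ht : ∀ x, t ⤳ x := fun x => (PrimeSpectrum.le_iff_specializes _ _).1 (bot_le (α := Ideal R))
  let j := (Spec (CommRingCat.of R)).fromSpecResidueField t
  let ψ : CommRingCat.of R ⟶ (Spec (CommRingCat.of R)).residueField t := Spec.preimage j
  have hψ : Function.Injective ψ.hom := by
    rw [RingHom.injective_iff_ker_eq_bot, RingHom.ker_eq_comap_bot, ← IsLocalRing.maximalIdeal_eq_bot]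
    have := Scheme.fromSpecResidueField_apply t (IsLocalRing.closedPoint _)
    rw [show (Spec (CommRingCat.of R)).fromSpecResidueField t = Spec.map ψ from (Spec.map_preimage j).symm] at this
    exact congrArg PrimeSpectrum.asIdeal this
  obtain ⟨φ, hφ⟩ := exists_lift R K ψ fun r hr => isUnit_iff_ne_zero.2 fun h => hr (hψ (h.trans (map_zero _).symm))
  let g := Spec.map φ
  have hg : g ≫ ξ = j := by
    rw [← Spec.map_preimage j, ← Spec.map_comp, hφ]
  obtain ⟨lX, lY, hsq, -⟩ := UnipKerLib.isPullback_map_comp g ξ j hg u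
  haveI : IsIso (F.map u).left := inferInstance
  haveI hiL : IsIso ((Over.pullback j).map u).left :=
    MorphismProperty.of_isPullback (P := MorphismProperty.isomorphisms Scheme) hsq ‹IsIso (F.map u).left›
  haveI : IsIso (SGA7.fibreHom t u) := by
    haveI : IsIso ((Over.forget _).map ((Over.pullback j).map u)) := hiL
    exact isIso_of_reflects_iso ((Over.pullback j).map u) (Over.forget _)
  haveI : Mono (SGA7.fibreHom t u) := inferInstance
  have hiso : SGA7.IsIsogenyOver (SGA7.fibreHom t u) := by
    refine ⟨⟨(SGA7.fibreHom t u).left.surjective⟩,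
      fun Z i hi => ?_⟩
    haveI : IsIso (toUnit Z) := hi.isIso_snd_of_isIso
    haveI : IsIso (toUnit Z).left := inferInstance
    have hw := Over.w (toUnit Z)
    haveI : IsIso Z.hom := hw ▸ (inferInstance : IsIso ((toUnit Z).left ≫ 𝟙 _))
    infer_instance
  refine IsZariskiLocalAtTarget.of_forall_exists_morphismRestrict fun x => ?_
  obtain ⟨U, hxU, hU⟩ := Groth.Agent.S4060.result t ht G N u (N.hom.base x) (hG _) hiso
  refine ⟨N.hom ⁻¹ᵁ U, hxU, ?_⟩
  let e := IsOpenImmersion.isoOfRangeEq (N.hom ⁻¹ᵁ U).ι (pullback.fst N.hom U.ι) (by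
    rw [Scheme.Opens.range_ι, Scheme.Pullback.range_fst, Scheme.Opens.range_ι]; rfl)
  have big1 := (isPullback_morphismRestrict u.left (N.hom ⁻¹ᵁ U)).flip
  have big2 := (IsPullback.of_hasPullback ((Over.pullback U.ι).map u).left e.hom).paste_horiz
    (NeronQFLib.isPullback_map U.ι u)
  rw [show e.hom ≫ pullback.fst N.hom U.ι = (N.hom ⁻¹ᵁ U).ι from IsOpenImmersion.isoOfRangeEq_hom_fac _ _ _] at big2
  rw [← IsPullback.isoIsPullback_hom_snd _ _ big1 big2]
  infer_instance

end Groth.Agent.S4056
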