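import Groth.Statements.S4077
import Groth.Agent.S4056
import Groth.Agent.UnipKerLib.OpenSub

set_option autoImplicit false
set_option backward.isDefEq.respectTransparency false
set_option maxHeartbeats 1000000
universe u
open CategoryTheory CategoryTheory.Limits MonoidalCategory CartesianMonoidalCategory AlgebraicGeometry MonObj
open SGA7

namespace Groth.Agent.S4077

/-- Let R be a Dedekind domain with fraction field K and N a group scheme over Spec R which is a Néron
model of its generic fibre A = N_K, an abelian variety (proper and geometrically integral over K).
Then A has semistable reduction over R (it extends to a smooth separated group scheme of finite type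
over Spec R whose geometric fibres contain no copy of the additive group) if and only if the
geometric fibres of N contain no copy of the additive group (that is, the identity components of the
fibres of N are extensions of abelian varieties by tori). -/
theorem result (R K : Type u) [CommRing R] [IsDedekindDomain R] [Field K] [Algebra R K] [IsFractionRing R K]
    (N : Over (Spec (CommRingCat.of R))) [GrpObj N] (hN : SGA7.IsNeron R K N)
    [IsProper ((SGA7.genFib R K).obj N).hom] [GeometricallyIntegral ((SGA7.genFib R K).obj N).hom] :
    SGA7.HasSemistableReduction R K ((SGA7.genFib R K).obj N) ↔ SGA7.FibresUnipotentRankZero N := by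
  let F := SGA7.genFib R K
  constructor
  · rintro ⟨G, _, e, he, hGs, hGsep, hGqc, hG⟩
    haveI := hN.1
    haveI := hGs; haveI := hGsep; haveI := hGqc
    letI : GrpObj (F.obj G) := Functor.grpObjObj
    letI : GrpObj (F.obj N) := Functor.grpObjObj
    obtain ⟨u, hu⟩ := (hN.2.2.2 G hGs).2 e.hom
    have hu' : F.map u = e.hom := hu
    haveI : Smooth (G ⊗ G).hom := by
      show Smooth (pullback.fst G.hom G.hom ≫ G.hom)
      infer_instance
    haveI : Smooth (𝟙_ (Over (Spec (CommRingCat.of R)))).hom := inferInstanceAs (Smooth (𝟙 _))
    haveI : IsMonHom u := by
      refine { one_hom := (hN.2.2.2 _ inferInstance).1 ?_, mul_hom := (hN.2.2.2 _ inferInstance).1 ?_ }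
      · show F.map (η[G] ≫ u) = F.map η[N]
        have := he.one_hom
        rw [Functor.obj.η_def, Functor.obj.η_def, Category.assoc] at this
        rw [Functor.map_comp, hu']
        exact (cancel_epi _).1 this
      · show F.map (μ[G] ≫ u) = F.map ((u ⊗ₘ u) ≫ μ[N])
        have := he.mul_hom
        rw [Functor.obj.μ_def, Functor.obj.μ_def, Category.assoc, ← hu', Functor.LaxMonoidal.μ_natural_assoc] at this
        rw [Functor.map_comp, Functor.map_comp]
        exact (cancel_epi _).1 this
    haveI : IsIso ((SGA7.genFib R K).map u) := by rw [hu']; infer_instance
    haveI := Groth.Agent.S4056.result R K N hN G hG u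
    intro s j hj hjc
    let P := Over.pullback (Red.geomPt s)
    letI : GrpObj (P.obj G) := Functor.grpObjObj
    letI : GrpObj (P.obj N) := Functor.grpObjObj
    haveI := AbSchLib.isMonHom_pullback_map (Red.geomPt s) u
    haveI : IsOpenImmersion (P.map u).left :=
      MorphismProperty.of_isPullback (P := @IsOpenImmersion) (NeronQFLib.isPullback_map (Red.geomPt s) u) ‹_›
    exact UnipKerLib.noGa_openSub (P.map u) (hG s) j hj hjc
  · intro h
    exact ⟨N, inferInstance, Iso.refl _, inferInstanceAs (IsMonHom (𝟙 _)), hN.1, hN.2.1, hN.2.2.1, h⟩

end Groth.Agent.S4077
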