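import Groth.Statements.S18495
import Groth.Agent.UnipKerLib.Component
import Groth.Agent.NeronQFLib.Flat
import Groth.Agent.S4077

set_option autoImplicit false
set_option backward.isDefEq.respectTransparency false
set_option maxHeartbeats 2000000
universe u
open CategoryTheory CategoryTheory.Limits MonoidalCategory CartesianMonoidalCategory AlgebraicGeometry MonObj
open Neron

namespace Groth.Agent.S18495

/-- A proper scheme over an algebraically closed field contains no additive group. -/
theorem noGa_of_proper {L : Type u} [Field L] [IsAlgClosed L] (X : Over (Spec (CommRingCat.of L))) [IsProper X.hom]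
    (j : Red.Ga (Spec (CommRingCat.of L)) ⟶ X) (hjc : IsClosedImmersion j.left) : False := by
  haveI := hjc
  let Y := Red.Ga (Spec (CommRingCat.of L))
  haveI : IsProper Y.hom := by rw [← Over.w j]; infer_instance
  haveI : IsAffineHom Red.GaZ.{u}.hom := by
    haveI : IsAffine Red.GaZ.{u}.left :=
      inferInstanceAs (IsAffine (Spec (CommRingCat.of (SymmetricAlgebra (ULift.{u} ℤ) (ULift.{u} ℤ)))))
    exact isAffineHom_of_isAffine _
  haveI : IsAffineHom Y.hom := MorphismProperty.pullback_snd (P := @IsAffineHom) _ _ inferInstance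
  haveI : IsFinite Y.hom := IsFinite.iff_isProper_and_isAffineHom.2 ⟨inferInstance, inferInstance⟩
  haveI : Subsingleton ↥(Spec (CommRingCat.of L)) := inferInstanceAs (Subsingleton (PrimeSpectrum L))
  haveI : Finite Y.left := by
    have h := Y.hom.finite_preimage (Set.finite_singleton (IsLocalRing.closedPoint L))
    rw [show Y.hom.base ⁻¹' {IsLocalRing.closedPoint L} = Set.univ from
      Set.eq_univ_of_forall fun z => Subsingleton.elim (α := ↥(Spec (CommRingCat.of L))) _ _] at h
    exact Set.finite_univ_iff.1 h
  haveI := SemiAbLib.infinite_ga_points (k := L)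
  exact not_finite_iff_infinite.2 this (Finite.of_injective
    (fun a : 𝟙_ (Over (Spec (CommRingCat.of L))) ⟶ Y => AVAmpleLib.pt a) fun a b h => AVRigidLib.ext_pt h)

/-- Geometric generic fibres are proper. -/
theorem proper_of_generic (R : Type u) [CommRing R] [IsDomain R] (A : Over (Spec (CommRingCat.of R)))
    [IsProper ((Neron.genericFibre R).obj A).hom] {L : Type u} [Field L]
    (ξ : Spec (CommRingCat.of L) ⟶ Spec (CommRingCat.of R))
    (hx : (ξ.base (IsLocalRing.closedPoint L)).asIdeal = ⊥) :
    IsProper (Red.bc ξ A).hom ∧ True := by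
  let ψ := Spec.preimage ξ
  have hψ : Function.Injective ψ.hom := by
    rw [RingHom.injective_iff_ker_eq_bot, RingHom.ker_eq_comap_bot, ← IsLocalRing.maximalIdeal_eq_bot]
    rw [show ξ = Spec.map ψ from (Spec.map_preimage ξ).symm] at hx
    exact hx
  let g := Spec.map (CommRingCat.ofHom (IsFractionRing.lift (K := FractionRing R) hψ))
  let ξK := Spec.map (CommRingCat.ofHom (algebraMap R (FractionRing R)))
  have hg : g ≫ ξK = ξ := by
    rw [← Spec.map_preimage ξ, ← Spec.map_comp]
    congr 1
    exact CommRingCat.hom_ext (RingHom.ext fun r => IsFractionRing.lift_algebraMap hψ r)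
  have hp : IsProper (pullback.snd (pullback.snd A.hom ξK) g) := by
    haveI : IsProper (pullback.snd A.hom ξK) := ‹IsProper ((Neron.genericFibre R).obj A).hom›
    infer_instance
  refine ⟨?_, trivial⟩
  show IsProper (pullback.snd A.hom ξ)
  rw [← hg, ← pullbackLeftPullbackSndIso_inv_snd_snd A.hom ξK g]
  exact (MorphismProperty.cancel_left_of_respectsIso @IsProper _ _).2 hp

/-- The case of multiplication by n over a discrete valuation ring. Let R be a discrete valuation ring
with fraction field K and residue field of characteristic p (p = 0 allowed), let A be a commutative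
group scheme over Spec R which is a Néron model of its generic fibre A_K, an abelian variety over K
(proper and geometrically integral), and let n ≥ 1. Then the n-th power endomorphism of A is flat if
and only if: whenever p divides n, A_K has semistable reduction over R (A_K extends to a smooth
separated group scheme of finite type over Spec R all of whose geometric fibres contain no closed
subgroup isomorphic to the additive group). (The published lemma is over a connected Dedekind
scheme, with the reduction condition at every nongeneric point whose residue characteristic divides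
n; the case of a discrete valuation ring is stated.) -/
theorem result (R : Type u) [CommRing R] [IsDomain R]
    [IsDiscreteValuationRing R] (A : Over (Spec (CommRingCat.of R))) [GrpObj A] [IsCommMonObj A]
    (hA : Neron.IsNeronModelOf R A ((Neron.genericFibre R).obj A) (Iso.refl _))
    [IsProper ((Neron.genericFibre R).obj A).hom] [GeometricallyIntegral ((Neron.genericFibre R).obj A).hom]
    (n : ℕ) (hn : 1 ≤ n) :
    Flat (((𝟙 A) ^ n : A ⟶ A)).left ↔
      (ringChar (IsLocalRing.ResidueField R) ∣ n →
        SGA7.HasSemistableReduction R (FractionRing R) ((Neron.genericFibre R).obj A)) := by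
  obtain ⟨hAs, hAsep, hAlft, hAqc, hAbij⟩ := hA
  haveI := hAs; haveI := hAsep; haveI := hAqc
  let K := FractionRing R
  have hN : SGA7.IsNeron R K A := ⟨hAs, hAsep, hAqc, fun Y hY => by
    simpa using hAbij Y hY⟩
  haveI : IsProper ((SGA7.genFib R K).obj A).hom := ‹IsProper ((Neron.genericFibre R).obj A).hom›
  haveI : GeometricallyIntegral ((SGA7.genFib R K).obj A).hom :=
    ‹GeometricallyIntegral ((Neron.genericFibre R).obj A).hom›
  let ξK := Spec.map (CommRingCat.ofHom (algebraMap R K))
  have hmon : IsMonHom ((𝟙 A : A ⟶ A) ^ n) := by rw [← zpow_natCast]; exact AbSchLib.isMonHom_zpow A (n : ℤ)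
  haveI := hmon
  let f := ((𝟙 A : A ⟶ A) ^ n).left
  haveI : LocallyOfFiniteType (f ≫ A.hom) := by rw [Over.w]; infer_instance
  haveI : LocallyOfFiniteType f := locallyOfFiniteType_of_comp f A.hom
  haveI : IrreducibleSpace ↥(pullback A.hom ξK) := by
    haveI : Subsingleton ↥(Spec (CommRingCat.of K)) := inferInstanceAs (Subsingleton (PrimeSpectrum K))
    haveI : IsIntegral ((SGA7.genFib R K).obj A).left := GeometricallyIntegral.isIntegral_of_subsingleton ((SGA7.genFib R K).obj A).hom
    exact inferInstanceAs (IrreducibleSpace ((SGA7.genFib R K).obj A).left)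
  obtain ⟨g, hg, -⟩ := NeronQFLib.exists_fibreDimAt_eq R K A
  have hflat : Flat f ↔ LocallyQuasiFinite f :=
    ⟨fun h => by haveI : Flat ((𝟙 A : A ⟶ A) ^ n).left := h; exact NeronQFLib.lqf_of_flat ((𝟙 A : A ⟶ A) ^ n) hg hg,
      fun h => by
        haveI : LocallyQuasiFinite ((𝟙 A : A ⟶ A) ^ n).left := h
        exact NeronQFLib.flat_of_lqf ((𝟙 A : A ⟶ A) ^ n) hg hg⟩
  have hiff : Flat f ↔ ∀ (L : Type u) [Field L] [IsAlgClosed L] (ξ : Spec (CommRingCat.of L) ⟶ Spec (CommRingCat.of R)),
      ((n : L) ≠ 0 ∨ ∀ j : Red.Ga (Spec (CommRingCat.of L)) ⟶ Red.bc ξ A,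
        IsMonHom j → IsClosedImmersion j.left → False) := by
    constructor
    · intro h L _ _ ξ
      letI : GrpObj ((Over.pullback ξ).obj A) := Functor.grpObjObj
      haveI : IsCommMonObj ((Over.pullback ξ).obj A) := Functor.isCommMonObj_obj (F := Over.pullback ξ)
      haveI : Smooth ((Over.pullback ξ).obj A).hom := inferInstanceAs (Smooth (pullback.snd A.hom ξ))
      have hq : LocallyQuasiFinite ((Over.pullback ξ).map ((𝟙 A : A ⟶ A) ^ n)).left :=
        MorphismProperty.of_isPullback (NeronQFLib.isPullback_map ξ ((𝟙 A : A ⟶ A) ^ n)) (hflat.1 h)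
      rw [UnipKerLib.pullback_map_pow] at hq
      exact (UnipKerLib.lqf_pow_iff ((Over.pullback ξ).obj A) n (by omega)).1 hq
    · intro h
      refine hflat.2 ((AlgSpLib.lqf_iff_fibreDimAt_eq_zero _).2 fun x => ?_)
      let ξ := Red.geomPt (A.hom.base x)
      obtain ⟨z, hz, -⟩ := NeronQFLib.exists_preimage (IsPullback.of_hasPullback A.hom ξ) x
        (IsLocalRing.closedPoint _) (Scheme.fromSpecResidueField_apply (A.hom.base x) _).symm
      letI : GrpObj ((Over.pullback ξ).obj A) := Functor.grpObjObj
      haveI : IsCommMonObj ((Over.pullback ξ).obj A) := Functor.isCommMonObj_obj (F := Over.pullback ξ)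
      haveI : Smooth ((Over.pullback ξ).obj A).hom := inferInstanceAs (Smooth (pullback.snd A.hom ξ))
      haveI : LocallyQuasiFinite ((Over.pullback ξ).map ((𝟙 A : A ⟶ A) ^ n)).left := by
        rw [UnipKerLib.pullback_map_pow]
        exact (UnipKerLib.lqf_pow_iff _ n (by omega)).2 (h _ ξ)
      haveI : LocallyOfFiniteType ((Over.pullback ξ).map ((𝟙 A : A ⟶ A) ^ n)).left :=
        MorphismProperty.of_isPullback (NeronQFLib.isPullback_map ξ ((𝟙 A : A ⟶ A) ^ n)) ‹LocallyOfFiniteType f›
      rw [← hz, ← FibDimLib.fibreDimAt_baseChange (NeronQFLib.isPullback_map ξ ((𝟙 A : A ⟶ A) ^ n)) z]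
      exact (AlgSpLib.lqf_iff_fibreDimAt_eq_zero _).1 inferInstance z
  have hcast : ∀ (L : Type u) [Field L] (ξ : Spec (CommRingCat.of L) ⟶ Spec (CommRingCat.of R)),
      ξ.base (IsLocalRing.closedPoint L) = IsLocalRing.closedPoint R →
        (ringChar (IsLocalRing.ResidueField R) ∣ n ↔ (n : L) = 0) := by
    intro L _ ξ hx
    let ψ := Spec.preimage ξ
    have hker : RingHom.ker ψ.hom = IsLocalRing.maximalIdeal R := by
      rw [show ξ = Spec.map ψ from (Spec.map_preimage ξ).symm] at hx
      rw [RingHom.ker_eq_comap_bot, ← IsLocalRing.maximalIdeal_eq_bot]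
      exact congrArg PrimeSpectrum.asIdeal hx
    rw [← ringChar.spec, ← map_natCast (IsLocalRing.residue R), IsLocalRing.residue_eq_zero_iff, ← hker,
      RingHom.mem_ker, map_natCast]
  rw [hiff]
  constructor
  · intro h hp
    refine (Groth.Agent.S4077.result R K A hN).2 fun s j hj hjc => ?_
    let ξ := Red.geomPt s
    have hξs : ξ.base (IsLocalRing.closedPoint (AlgebraicClosure ((Spec (CommRingCat.of R)).residueField s))) = s := by
      refine (Scheme.Hom.comp_apply _ _ _).trans ?_
      exact Scheme.fromSpecResidueField_apply s _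
    by_cases hs : s.asIdeal = ⊥
    · obtain ⟨hp', -⟩ := proper_of_generic R A ξ (by rw [hξs]; exact hs)
      haveI := hp'
      exact noGa_of_proper _ j hjc
    · have hsc : s = IsLocalRing.closedPoint R :=
        PrimeSpectrum.ext (IsLocalRing.eq_maximalIdeal (s.isPrime.isMaximal hs))
      rcases h _ ξ with h' | h'
      · exact h' ((hcast _ ξ (hξs.trans hsc)).1 hp)
      · exact h' j hj hjc
  · intro h L _ _ ξ
    let x := ξ.base (IsLocalRing.closedPoint L)
    by_cases hx : x.asIdeal = ⊥
    · obtain ⟨hp', -⟩ := proper_of_generic R A ξ hx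
      haveI := hp'
      exact Or.inr fun j _ hjc => noGa_of_proper _ j hjc
    · have hxc : x = IsLocalRing.closedPoint R :=
        PrimeSpectrum.ext (IsLocalRing.eq_maximalIdeal (x.isPrime.isMaximal hx))
      by_cases hn0 : (n : L) = 0
      · exact Or.inr fun j hj hjc => UnipKerLib.noGa_point L A
          ((Groth.Agent.S4077.result R K A hN).1 (h ((hcast L ξ hxc).2 hn0)) _) ξ hxc j hj hjc
      · exact Or.inl hn0

end Groth.Agent.S18495
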