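import Groth.Statements.S18497
import Groth.Agent.FinEtNeronLib.Main
-- import your own Groth.Agent.* helpers here

set_option autoImplicit false
universe u
open CategoryTheory CategoryTheory.Limits AlgebraicGeometry MonObj
open Neron

namespace Groth.Agent.S18497

open CategoryTheory CategoryTheory.Limits AlgebraicGeometry

/-- Let R be a Dedekind domain with fraction field K and G a finite étale group scheme over K. Then G
has a Néron model over Spec R which is separated, quasi-finite and étale: there are a Spec R-scheme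
N and an isomorphism e of its generic fibre N_K with G such that N is smooth, separated and of
finite type over Spec R with the Néron mapping property (for every smooth Spec R-scheme Y, g ↦ e ∘
g_K is a bijection from R-morphisms Y → N onto K-morphisms Y_K → G), and N → Spec R is étale and
locally quasi-finite. -/
theorem result (R : Type u) [CommRing R] [IsDedekindDomain R]
    (G : Over (Spec (CommRingCat.of (FractionRing R)))) [GrpObj G] [IsFinite G.hom] [Etale G.hom] :
    ∃ (N : Over (Spec (CommRingCat.of R))) (e : (Neron.genericFibre R).obj N ≅ G),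
      Neron.IsNeronModelOf R N G e ∧ Etale N.hom ∧ LocallyQuasiFinite N.hom := by
  let K := FractionRing R
  haveI : IsAffine G.left := isAffine_of_isAffineHom G.hom
  let L := Γ(G.left, ⊤)
  let φ : CommRingCat.of K ⟶ L := Spec.preimage (G.left.isoSpec.inv ≫ G.hom)
  have hφ : Spec.map φ = G.left.isoSpec.inv ≫ G.hom := Spec.map_preimage _
  haveI : IsFinite (Spec.map φ) := hφ ▸ inferInstance
  haveI : Etale (Spec.map φ) := hφ ▸ inferInstance
  letI : Algebra K L := φ.hom.toAlgebra
  letI : Algebra R L := (φ.hom.comp (algebraMap R K)).toAlgebra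
  haveI : IsScalarTower R K L := IsScalarTower.of_algebraMap_eq fun _ => rfl
  haveI : Algebra.Etale K L :=
    RingHom.etale_algebraMap.1 ((HasRingHomProperty.Spec_iff (P := @Etale)).1 (inferInstanceAs (Etale (Spec.map φ))))
  haveI : Module.Finite K L :=
    RingHom.finite_algebraMap.1 ((IsFinite.SpecMap_iff φ).1 (inferInstanceAs (IsFinite (Spec.map φ))))
  obtain ⟨N, e, hN, het, hqf⟩ := FinEtNeronLib.exists_model R L
  let c : Over.mk (FinEtNeronLib.strK R L) ≅ G := Over.isoMk G.left.isoSpec.symm hφ.symm
  refine ⟨N, e ≪≫ c, ⟨hN.1, hN.2.1, hN.2.2.1, hN.2.2.2.1, fun Y hY => ?_⟩, het, hqf⟩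
  obtain ⟨hi, hs⟩ := hN.2.2.2.2 Y hY
  refine ⟨fun g₁ g₂ h => hi ((cancel_mono c.hom).1 (by simpa using h)), fun ψ => ?_⟩
  obtain ⟨g, hg⟩ := hs (ψ ≫ c.inv)
  refine ⟨g, ?_⟩
  show (Neron.genericFibre R).map g ≫ e.hom ≫ c.hom = ψ
  rw [← Category.assoc, show (Neron.genericFibre R).map g ≫ e.hom = ψ ≫ c.inv from hg, Category.assoc, c.inv_hom_id,
    Category.comp_id]

end Groth.Agent.S18497
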