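import Groth.Statements.S18498
import Mathlib.AlgebraicGeometry.Morphisms.SchemeTheoreticallyDominant
import Mathlib.AlgebraicGeometry.Morphisms.Separated
-- import your own Groth.Agent.* helpers here

set_option autoImplicit false
universe u
open CategoryTheory CategoryTheory.Limits AlgebraicGeometry MonObj
open Neron

namespace Groth.Agent.S18498

/-- Let R be a Dedekind domain with fraction field K, X a Spec R-scheme which is flat over Spec R, Y a
Spec R-scheme which is separated over Spec R, and f, g : X → Y two R-morphisms whose restrictions to
generic fibres X_K → Y_K are equal. Then f = g: an R-morphism from a flat R-scheme to a separated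
R-scheme is determined by its generic fibre. (The source states this for algebraic spaces over a
connected Dedekind scheme; the case of schemes over an affine base is stated.) -/
theorem result (R : Type u) [CommRing R] [IsDedekindDomain R]
    (X Y : Over (Spec (CommRingCat.of R))) [Flat X.hom] [IsSeparated Y.hom] (f g : X ⟶ Y)
    (h : (Neron.genericFibre R).map f = (Neron.genericFibre R).map g) : f = g := by
  haveI : IsDominant (Neron.genPt R) := by
    rw [Neron.genPt]
    exact ⟨(PrimeSpectrum.denseRange_comap_iff_ker_le_nilRadical _).mpr (by
      simp [(RingHom.injective_iff_ker_eq_bot _).mp (IsFractionRing.injective R (FractionRing R))])⟩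
  haveI : QuasiCompact (Neron.genPt R) := by rw [Neron.genPt]; infer_instance
  haveI : IsSchemeTheoreticallyDominant (Neron.genPt R) := .of_isDominant _
  let p := pullback.fst X.hom (Neron.genPt R)
  haveI : IsSchemeTheoreticallyDominant p := IsSchemeTheoreticallyDominant.pullbackFst X.hom (Neron.genPt R)
  have hp : p ≫ f.left = p ≫ g.left := by
    have := congrArg (fun t => t.left ≫ pullback.fst Y.hom (Neron.genPt R)) h
    simp only [Over.pullback_map_left] at this
    erw [pullback.lift_fst, pullback.lift_fst] at this
    exact this
  let t : X.left ⟶ pullback Y.hom Y.hom := pullback.lift f.left g.left (by simp)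
  let i : pullback t (pullback.diagonal Y.hom) ⟶ X.left := pullback.fst _ _
  haveI : IsClosedImmersion i := inferInstance
  let l : pullback X.hom (Neron.genPt R) ⟶ pullback t (pullback.diagonal Y.hom) :=
    pullback.lift p (p ≫ f.left) (by
      apply pullback.hom_ext <;>
        simp only [t, Category.assoc, pullback.lift_fst, pullback.lift_snd, pullback.diagonal_fst, pullback.diagonal_snd, Category.comp_id, hp])
  have hker : i.ker = ⊥ := by
    rw [← le_bot_iff, ← p.ker_eq_bot, show p = l ≫ i from (pullback.lift_fst _ _ _).symm]
    exact l.le_ker_comp i
  haveI : IsIso i := IsClosedImmersion.isIso_iff_ker_eq_bot.mpr hker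
  apply Over.OverMorphism.ext
  rw [← cancel_epi i]
  have hc : i ≫ t = pullback.snd _ _ ≫ pullback.diagonal Y.hom := pullback.condition
  have h1 := congrArg (· ≫ pullback.fst Y.hom Y.hom) hc
  have h2 := congrArg (· ≫ pullback.snd Y.hom Y.hom) hc
  simp only [t, Category.assoc, pullback.lift_fst, pullback.lift_snd, pullback.diagonal_fst, pullback.diagonal_snd, Category.comp_id] at h1 h2
  rw [h1, h2]

end Groth.Agent.S18498
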