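import Groth.Statements.S18499
import Groth.Agent.S18495
import Groth.Agent.NeronQFLib.Kill
import Groth.Agent.InertiaPtsLib.Points
import Groth.Agent.AntiAffLib.KerSub

set_option autoImplicit false
set_option backward.isDefEq.respectTransparency false
set_option maxHeartbeats 2000000
universe u
open CategoryTheory CategoryTheory.Limits MonoidalCategory CartesianMonoidalCategory AlgebraicGeometry MonObj
open Neron

namespace Groth.Agent.S18499

/-- Let R be a discrete valuation ring with fraction field K and residue field of characteristic p (p =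
0 allowed), let A and B be group schemes over Spec R which are Néron models of their generic fibres,
both abelian varieties over K (proper and geometrically integral), let φ : A → B be a homomorphism
whose generic fibre φ_K is an isogeny (surjective with finite kernel), and let i : N → A be a kernel
of φ, so that N_K is a finite K-group scheme whose order (rank over Spec K) is the degree of φ_K.
If, whenever p divides that degree, A_K has semistable reduction over R (it extends to a smooth
separated group scheme of finite type over Spec R whose geometric fibres contain no closed subgroup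
isomorphic to the additive group), then φ is flat. (The converse fails in general. The published
lemma is over a connected Dedekind scheme, with the reduction condition at every nongeneric point
whose residue characteristic divides the degree; the case of a discrete valuation ring is stated.) -/
theorem result (R : Type u) [CommRing R]
    [IsDomain R] [IsDiscreteValuationRing R] (A B : Over (Spec (CommRingCat.of R))) [GrpObj A] [GrpObj B]
    (hA : Neron.IsNeronModelOf R A ((Neron.genericFibre R).obj A) (Iso.refl _))
    (hB : Neron.IsNeronModelOf R B ((Neron.genericFibre R).obj B) (Iso.refl _))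
    [IsProper ((Neron.genericFibre R).obj A).hom] [GeometricallyIntegral ((Neron.genericFibre R).obj A).hom]
    [IsProper ((Neron.genericFibre R).obj B).hom] [GeometricallyIntegral ((Neron.genericFibre R).obj B).hom]
    (φ : A ⟶ B) [IsMonHom φ] (hφ : SGA7.IsIsogenyOver ((Neron.genericFibre R).map φ))
    (N : Over (Spec (CommRingCat.of R))) (i : N ⟶ A) (hN : AlgGrp.IsKernel i φ)
    (h : ∀ x : ↥(Spec (CommRingCat.of (FractionRing R))),
      ringChar (IsLocalRing.ResidueField R) ∣ ((Neron.genericFibre R).obj N).hom.finrank x →
        SGA7.HasSemistableReduction R (FractionRing R) ((Neron.genericFibre R).obj A)) :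
    Flat φ.left := by
  obtain ⟨hAsm, hAsep, hAlft, hAqc, hAbij⟩ := id hA
  obtain ⟨hBsm, hBsep, hBlft, hBqc, hBbij⟩ := hB
  haveI := hAsm; haveI := hAsep; haveI := hAqc; haveI := hBsm; haveI := hBsep; haveI := hBqc
  let K := FractionRing R
  let F := Neron.genericFibre R
  have hNA : SGA7.IsNeron R K A := ⟨hAsm, hAsep, hAqc, fun Y hY => by simpa using hAbij Y hY⟩
  haveI : IsProper ((SGA7.genFib R K).obj A).hom := ‹IsProper ((Neron.genericFibre R).obj A).hom›
  haveI : GeometricallyIntegral ((SGA7.genFib R K).obj A).hom :=
    ‹GeometricallyIntegral ((Neron.genericFibre R).obj A).hom›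
  haveI := InertiaPtsLib.isCommMonObj_neron A hNA
  letI : GrpObj (F.obj A) := Functor.grpObjObj
  letI : GrpObj (F.obj B) := Functor.grpObjObj
  haveI : IsCommMonObj (F.obj A) := Functor.isCommMonObj_obj (F := F)
  haveI : IsMonHom (F.map φ) := AbSchLib.isMonHom_pullback_map _ φ
  haveI : Surjective (F.map φ).left := hφ.1
  haveI : Subsingleton ↥(Spec (CommRingCat.of K)) := inferInstanceAs (Subsingleton (PrimeSpectrum K))
  haveI : IsIntegral (F.obj A).left :=
    GeometricallyIntegral.isIntegral_of_subsingleton ((Neron.genericFibre R).obj A).hom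
  haveI : IsIntegral (F.obj B).left :=
    GeometricallyIntegral.isIntegral_of_subsingleton ((Neron.genericFibre R).obj B).hom
  -- the generic kernel
  have hk : AlgGrp.IsKernel (F.map i) (F.map φ) := by
    haveI : Mono i := NeronQFLib.mono_of_kernel φ i hN
    haveI : Mono (F.map i) := inferInstance
    refine AntiAffLib.isKernel_of_forall _ _ ?_ fun T g hg => ?_
    · rw [← Functor.map_comp, NeronQFLib.kernel_comp φ i hN, Functor.map_one]
    · let adj := Over.mapPullbackAdj (Neron.genPt R)
      have h1 : (adj.homEquiv T A).symm g ≫ φ = 1 := by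
        rw [← Adjunction.homEquiv_naturality_right_symm, show g ≫ F.map φ = 1 from hg, Equiv.symm_apply_eq,
          Adjunction.homEquiv_unit, Functor.map_one, MonObj.comp_one]
      obtain ⟨z, hz⟩ := NeronQFLib.exists_kernel_factor φ i hN _ h1
      refine ⟨adj.homEquiv T N z, ?_⟩
      rw [← Adjunction.homEquiv_naturality_right, hz, Equiv.apply_symm_apply]
  haveI : IsFinite (F.obj N).hom := hφ.2 _ _ hk
  let x₀ : Spec (CommRingCat.of K) := IsLocalRing.closedPoint K
  let d := (F.obj N).hom.finrank x₀
  have hd0 : d ≠ 0 := by
    intro h0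
    obtain ⟨z, -⟩ := NeronQFLib.exists_kernel_factor (F.map φ) (F.map i) hk (η[F.obj A]) (by
      rw [IsMonHom.one_hom, MonObj.one_eq_one])
    let zz := z.left.base x₀
    haveI : LocallyOfFinitePresentation (F.obj N).hom := inferInstance
    have := Scheme.Hom.one_le_finrank_map (F.obj N).hom zz
    rw [Subsingleton.elim ((F.obj N).hom.base zz) x₀] at this
    omega
  have hkill := NeronQFLib.kernel_pow_finrank (k := K) (F.map φ) (F.map i) hk
  haveI : IsSeparated (F.obj B).hom := inferInstanceAs (IsSeparated (pullback.snd B.hom _))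
  haveI : Flat (F.map φ).left := AntiAffLib.flat_of_surjective (F.map φ)
  haveI : QuasiCompact (F.map φ).left := by
    haveI : QuasiCompact ((F.map φ).left ≫ (F.obj B).hom) := by
      rw [Over.w]; exact inferInstanceAs (QuasiCompact (pullback.snd A.hom _))
    exact QuasiCompact.of_comp (F.map φ).left (F.obj B).hom
  obtain ⟨gK, hgK⟩ := NeronQFLib.exists_comp_eq_pow (F.map φ) (F.map i) hk d hkill
  obtain ⟨ψ, hψ⟩ := (hAbij B hBsm).2 gK
  have hψ' : F.map ψ = gK := by simpa using hψ
  have hcomp : φ ≫ ψ = (𝟙 A : A ⟶ A) ^ d := by
    refine (hAbij A hAsm).1 ?_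
    show F.map (φ ≫ ψ) ≫ _ = F.map _ ≫ _
    congr 1
    rw [Functor.map_comp, hψ', hgK]
    exact ((map_pow (Functor.homMonoidHom F : (A ⟶ A) →* _) (𝟙 A) d).trans
      (by rw [show Functor.homMonoidHom F (𝟙 A) = 𝟙 (F.obj A) from CategoryTheory.Functor.map_id F A])).symm
  haveI : Flat ((𝟙 A : A ⟶ A) ^ d).left :=
    (Groth.Agent.S18495.result R A hA d (Nat.one_le_iff_ne_zero.2 hd0)).2 (h x₀)
  haveI : IrreducibleSpace ↥(pullback A.hom (Spec.map (CommRingCat.ofHom (algebraMap R K)))) :=
    inferInstanceAs (IrreducibleSpace (F.obj A).left)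
  haveI : IrreducibleSpace ↥(pullback B.hom (Spec.map (CommRingCat.ofHom (algebraMap R K)))) :=
    inferInstanceAs (IrreducibleSpace (F.obj B).left)
  obtain ⟨g, hgA, hdA⟩ := NeronQFLib.exists_fibreDimAt_eq R K A
  obtain ⟨g', hgB, hdB⟩ := NeronQFLib.exists_fibreDimAt_eq R K B
  haveI : LocallyOfFiniteType (F.obj A).hom := inferInstanceAs (LocallyOfFiniteType (pullback.snd A.hom _))
  haveI : LocallyOfFiniteType (F.obj B).hom := inferInstanceAs (LocallyOfFiniteType (pullback.snd B.hom _))
  haveI : LocallyQuasiFinite (F.map φ).left := NeronQFLib.lqf_of_isFinite_kernel (F.map φ) hφ.2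
  have he := NeronQFLib.dim_closure_eq_of_lqf (F.map φ) (genericPoint (F.obj A).left)
  have hcl : ∀ {T : Type u} [TopologicalSpace T] (x : T), closure ({x} : Set T) = Set.univ →
      topologicalKrullDim (closure ({x} : Set T)) = topologicalKrullDim T := fun x hx => by
    rw [hx]
    exact IsHomeomorph.topologicalKrullDim_eq _ (Homeomorph.Set.univ _).isHomeomorph
  rw [hcl _ (genericPoint_closure (α := (F.obj A).left)), hcl _ (by
    refine Set.eq_univ_of_forall fun y => ?_
    obtain ⟨x, rfl⟩ := (F.map φ).left.surjective y
    exact specializes_iff_mem_closure.1 ((genericPoint_specializes x).map (F.map φ).left.continuous))] at he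
  have hgg : g = g' := by exact_mod_cast (hdA.symm.trans (he.trans hdB))
  subst hgg
  haveI : IsMonHom ((𝟙 A : A ⟶ A) ^ d) := by rw [← zpow_natCast]; exact AbSchLib.isMonHom_zpow A (d : ℤ)
  haveI : LocallyQuasiFinite ((𝟙 A : A ⟶ A) ^ d).left := NeronQFLib.lqf_of_flat _ hgA hgA
  haveI : LocallyQuasiFinite (φ.left ≫ ψ.left) := by rw [← Over.comp_left, hcomp]; infer_instance
  haveI : LocallyQuasiFinite φ.left := LocallyQuasiFinite.of_comp φ.left ψ.left
  exact NeronQFLib.flat_of_lqf φ hgA hgB

end Groth.Agent.S18499
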