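import Groth.Statements.S18500
import Groth.Agent.AlgSpRegLib.GenericClosure
import Groth.Agent.AlgSpRegLib.ImageQc
import Groth.Agent.AlgSpRegLib.ImageApps
import Groth.Agent.AlgSpLib.RepDescent
-- import your own Groth.Agent.* helpers here

set_option autoImplicit false
universe u
open CategoryTheory CategoryTheory.Limits AlgebraicGeometry
open AlgSp

namespace Groth.Agent.S18500

/-- Let R be a Dedekind domain with fraction field K, S = Spec R, and Y an algebraic space over S (an
fppf sheaf on S-schemes with representable diagonal and an étale atlas), with structure map p : Y →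
h_S; let Y_K → Y be its generic fibre, the pullback of p along h_{Spec K} → h_S; let k : H → Y_K be
a closed subspace (a representable closed immersion from an algebraic space) and i : Z → Y the
scheme theoretic image of the composite H → Y_K → Y. Then Z is flat over S (étale-locally on
charts), the square H → Z, H → Y_K, Z → Y, Y_K → Y is cartesian for the induced H → Z (the generic
fibre of Z is H), and Z is the unique such subspace: every closed subspace i' : Z' → Y which is flat
over S and whose pullback along Y_K → Y is H (through some H → Z') is isomorphic to Z over Y. (The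
source allows any connected Dedekind scheme as base; the affine base is stated.) -/
theorem result (R : Type u) [CommRing R] [IsDedekindDomain R]
    (Y YK H Z : AlgSp.Space (Spec (CommRingCat.of R)))
    (pY : Y.obj ⟶ (AlgSp.yon (Spec (CommRingCat.of R))).obj (Over.mk (𝟙 (Spec (CommRingCat.of R)))))
    (pr : YK ⟶ Y) (qK : YK.obj ⟶ (AlgSp.yon (Spec (CommRingCat.of R))).obj (Over.mk (Neron.genPt R)))
    (hYK : IsPullback pr.hom qK pY ((AlgSp.yon (Spec (CommRingCat.of R))).map (Over.mkIdTerminal.from (Over.mk (Neron.genPt R)))))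
    (k : H ⟶ YK) (hk : AlgSp.RepWith @IsClosedImmersion k.hom)
    (i : Z ⟶ Y) (hZ : AlgSp.IsSchImage (k.hom ≫ pr.hom) i.hom) :
    AlgSp.LocP @Flat (i.hom ≫ pY) ∧
    (∃ m : H ⟶ Z, m ≫ i = k ≫ pr ∧ IsPullback m.hom k.hom i.hom pr.hom) ∧
    (∀ (Z' : AlgSp.Space (Spec (CommRingCat.of R))) (i' : Z' ⟶ Y) (m' : H ⟶ Z'),
      AlgSp.RepWith @IsClosedImmersion i'.hom → AlgSp.LocP @Flat (i'.hom ≫ pY) →
      IsPullback m'.hom k.hom i'.hom pr.hom → ∃ e : Z ≅ Z', e.hom ≫ i' = i) := by
  open AlgSpLib AlgSpRegLib in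
  let F := AlgSp.yon (Spec (CommRingCat.of R))
  let One : Over (Spec (CommRingCat.of R)) := Over.mk (𝟙 _)
  let GK : Over (Spec (CommRingCat.of R)) := Over.mk (Neron.genPt R)
  let t : GK ⟶ One := Over.mkIdTerminal.from GK
  have hOne : IsTerminal (F.obj One) := IsTerminal.isTerminalObj F One Over.mkIdTerminal
  haveI : EtLocProp (@Flat : MorphismProperty Scheme.{u}) := etLocProp_of_list (by simp)
  obtain ⟨V, φ, hφ, hφs⟩ := Y.property.atlas
  let VK : Over (Spec (CommRingCat.of R)) := Over.mk (pullback.fst V.hom (Neron.genPt R) ≫ V.hom)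
  let pv : VK ⟶ V := Over.homMk (pullback.fst V.hom (Neron.genPt R)) rfl
  let qv : VK ⟶ GK := Over.homMk (pullback.snd V.hom (Neron.genPt R)) pullback.condition.symm
  let v : V ⟶ One := Over.homMk V.hom (Category.comp_id _)
  have hsch : IsPullback pv.left qv.left V.hom (Neron.genPt R) := IsPullback.of_hasPullback _ _
  have ht : t.left = Neron.genPt R := (Category.comp_id _).symm.trans (Over.w t)
  have sqV : IsPullback pv qv v t := isPullback_over (by rw [ht]; exact hsch)
  have hφp : φ ≫ pY = F.map v := hOne.hom_ext _ _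
  let φK : F.obj VK ⟶ YK.obj := hYK.lift (F.map pv ≫ φ) (F.map qv) (by
    rw [Category.assoc, hφp, ← Functor.map_comp, ← Functor.map_comp, sqV.w])
  have sqK : IsPullback φK (F.map pv) pr.hom φ :=
    (IsPullback.of_bot (by rw [hYK.lift_snd, hφp]; exact sqV.map F) (hYK.lift_fst _ _ _).symm hYK).flip
  have hφK : RepWith @Etale φK := repWith_of_isPullback sqK.flip hφ
  have hφKs : RepWith @Surjective φK := repWith_of_isPullback sqK.flip hφs
  obtain ⟨J, hJ⟩ := exists_isIdealOn hk φK
  obtain ⟨aH, sqH⟩ := id hJ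
  have hc : IsChartOn (k.hom ≫ pr.hom) φ aH (subι VK J ≫ pv) :=
    isChartOn_of_isPullback (by rw [Functor.map_comp]; exact sqH.paste_vert sqK)
  haveI : QuasiCompact pv.left := qc_of_isPullback hsch
  haveI : QuasiCompact (subι VK J).left := inferInstanceAs (QuasiCompact J.subschemeι)
  haveI : QuasiCompact (subι VK J ≫ pv).left := inferInstanceAs (QuasiCompact ((subι VK J).left ≫ pv.left))
  let I := (J.subschemeι ≫ pv.left).ker
  have hI : IsIdealOn i.hom φ I := (isSchImage_iff_ker Y.property hZ.1 hc hφ hφs).1 hZ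
  haveI := mono_of_closedImmersion hZ.1
  haveI := mono_of_closedImmersion hk
  have hIJ : I.comap pv.left = J := comap_closure hsch J
  refine ⟨?_, ?_, ?_⟩
  · obtain ⟨fst, sq⟩ := hI
    refine locP_of_chart (P := @Flat) (b₀ := 𝟙 _) (h₀ := subι V I ≫ v) (repWith_of_isPullback sq.flip hφ)
      (repWith_of_isPullback sq.flip hφs) (repWith_id _ _) (hOne.hom_ext _ _) ?_
    exact flat_closure hsch J
  · obtain ⟨f', hf'⟩ := hZ.2.1
    have sqP := IsPullback.of_hasPullback i.hom pr.hom
    have hP : RepWith @IsClosedImmersion (pullback.snd i.hom pr.hom) := repWith_of_isPullback sqP hZ.1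
    haveI := mono_of_closedImmersion hP
    have hI' := hI.comap hZ.1 pv
    rw [hIJ] at hI'
    obtain ⟨g, sqg⟩ := hI'
    have hPJ : IsIdealOn (pullback.snd i.hom pr.hom) φK J := by
      rw [← sqK.w] at sqg
      exact ⟨_, IsPullback.of_right (by rw [sqP.lift_fst]; exact sqg)
        (sqP.lift_snd g (F.map (subι VK J) ≫ φK) (by rw [Category.assoc]; exact sqg.w)) sqP⟩
    obtain ⟨m₁, hm₁⟩ := hJ.hom_of_le hφK hφKs hPJ le_rfl
    obtain ⟨m₂, hm₂⟩ := hPJ.hom_of_le hφK hφKs hJ le_rfl
    let e : H.obj ≅ pullback i.hom pr.hom := ⟨m₁, m₂,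
      (cancel_mono k.hom).1 (by rw [Category.assoc, hm₂, hm₁, Category.id_comp]),
      (cancel_mono (pullback.snd i.hom pr.hom)).1 (by rw [Category.assoc, hm₁, hm₂, Category.id_comp])⟩
    have he : e.hom ≫ pullback.fst i.hom pr.hom = f' := (cancel_mono i.hom).1 (by
      rw [hf', Category.assoc, sqP.w, ← Category.assoc, hm₁])
    refine ⟨ObjectProperty.homMk f', ObjectProperty.hom_ext _ hf', ?_⟩
    exact sqP.of_iso e.symm (Iso.refl _) (Iso.refl _) (Iso.refl _)
      (by rw [← he]; simp) (by rw [Iso.refl_hom, Category.comp_id, Iso.symm_hom]; exact hm₂.symm)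
      (by simp) (by simp)
  · intro Z' i' m' hi' hflat sq'
    haveI := mono_of_closedImmersion hi'
    obtain ⟨I', hI'⟩ := exists_isIdealOn hi' φ
    obtain ⟨g', sqg'⟩ := hI'.comap hi' pv
    have h1 : IsIdealOn k.hom φK (I'.comap pv.left) := by
      rw [← sqK.w] at sqg'
      exact ⟨_, IsPullback.of_right (by rw [sq'.lift_fst]; exact sqg')
        (sq'.lift_snd g' (F.map (subι VK _) ≫ φK) (by rw [Category.assoc]; exact sqg'.w)) sq'⟩
    have e1 : I'.comap pv.left = J := h1.unique hJ
    have hfl : Flat (I'.subschemeι ≫ V.hom) := by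
      obtain ⟨fst, sq⟩ := hI'
      exact hflat fst (𝟙 _) (subι V I' ≫ v) (repWith_of_isPullback sq.flip hφ) (repWith_id _ _) (hOne.hom_ext _ _)
    have e2 : I' = I := by
      rw [eq_closure_of_flat hsch I', e1]
    obtain ⟨a, ha⟩ := hI.hom_of_le hφ hφs hI' e2.le
    obtain ⟨b, hb⟩ := hI'.hom_of_le hφ hφs hI e2.ge
    exact ⟨ObjectProperty.isoMk _ ⟨a, b,
      (cancel_mono i.hom).1 (by rw [Category.assoc, hb, ha, Category.id_comp]),
      (cancel_mono i'.hom).1 (by rw [Category.assoc, ha, hb, Category.id_comp])⟩, ObjectProperty.hom_ext _ ha⟩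


end Groth.Agent.S18500
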