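import Groth.Statements.S18501
import Groth.Agent.NeronQFLib.Flat
import Groth.Agent.ProperConnLib.Core

set_option autoImplicit false
set_option backward.isDefEq.respectTransparency false
set_option maxHeartbeats 1000000
universe u
open CategoryTheory CategoryTheory.Limits AlgebraicGeometry MonObj
open Neron
open MonoidalCategory CartesianMonoidalCategory

namespace Groth.Agent.S18501

/-- Let R be a discrete valuation ring with fraction field K and residue field k, let A and B be group
schemes over Spec R which are Néron models of their generic fibres, both abelian varieties over K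
(proper and geometrically integral), and let φ : A → B be a homomorphism whose generic fibre is an
isogeny (surjective with finite kernel). Then φ is flat if and only if the special fibre φ_k : A_k →
B_k maps the connected component of the identity point of A_k onto the connected component of the
identity point of B_k, i.e. the image of the former subset is the latter (φ induces a surjection of
identity components; on the generic fibre this is automatic). (The published lemma is over a
connected Dedekind scheme, with this condition at every point, and includes a further equivalent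
condition, quasi-finiteness of φ; the case of a discrete valuation ring is stated here, where only
the closed point matters.) -/
theorem result (R : Type u) [CommRing R]
    [IsDomain R] [IsDiscreteValuationRing R] (A B : Over (Spec (CommRingCat.of R))) [GrpObj A] [GrpObj B]
    (hA : Neron.IsNeronModelOf R A ((Neron.genericFibre R).obj A) (Iso.refl _))
    (hB : Neron.IsNeronModelOf R B ((Neron.genericFibre R).obj B) (Iso.refl _))
    [IsProper ((Neron.genericFibre R).obj A).hom] [GeometricallyIntegral ((Neron.genericFibre R).obj A).hom]
    [IsProper ((Neron.genericFibre R).obj B).hom] [GeometricallyIntegral ((Neron.genericFibre R).obj B).hom]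
    (φ : A ⟶ B) [IsMonHom φ] (hφ : SGA7.IsIsogenyOver ((Neron.genericFibre R).map φ)) :
    Flat φ.left ↔
      ((Over.pullback (Spec.map (CommRingCat.ofHom (IsLocalRing.residue R)))).map φ).left.base ''
          connectedComponent ((η[Red.bc (Spec.map (CommRingCat.ofHom (IsLocalRing.residue R))) A]).left.base (IsLocalRing.closedPoint (IsLocalRing.ResidueField R))) =
        connectedComponent ((η[Red.bc (Spec.map (CommRingCat.ofHom (IsLocalRing.residue R))) B]).left.base (IsLocalRing.closedPoint (IsLocalRing.ResidueField R))) := by
  obtain ⟨hAsm, hAsep, -, hAqc, -⟩ := hA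
  obtain ⟨hBsm, hBsep, -, -, -⟩ := hB
  haveI := hAsm; haveI := hAsep; haveI := hAqc; haveI := hBsm; haveI := hBsep
  let K := FractionRing R
  let F := Neron.genericFibre R
  let b := Spec.map (CommRingCat.ofHom (IsLocalRing.residue R))
  let G := Over.pullback b
  letI : GrpObj (F.obj A) := Functor.grpObjObj
  letI : GrpObj (F.obj B) := Functor.grpObjObj
  haveI : IsMonHom (F.map φ) := AbSchLib.isMonHom_pullback_map _ φ
  haveI : Surjective (F.map φ).left := hφ.1
  letI : GrpObj (G.obj A) := Functor.grpObjObj
  letI : GrpObj (G.obj B) := Functor.grpObjObj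
  haveI : IsMonHom (G.map φ) := AbSchLib.isMonHom_pullback_map b φ
  haveI : LocallyOfFiniteType (G.obj A).hom := inferInstanceAs (LocallyOfFiniteType (pullback.snd A.hom b))
  haveI : LocallyOfFiniteType (G.obj B).hom := inferInstanceAs (LocallyOfFiniteType (pullback.snd B.hom b))
  let p := IsLocalRing.closedPoint (IsLocalRing.ResidueField R)
  have hbp : b.base p = IsLocalRing.closedPoint R := PrimeSpectrum.ext (by
    show Ideal.comap (IsLocalRing.residue R) (IsLocalRing.maximalIdeal _) = IsLocalRing.maximalIdeal R
    rw [IsLocalRing.maximalIdeal_eq_bot, ← RingHom.ker_eq_comap_bot, IsLocalRing.ker_residue])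
  have hunit : (η[G.obj B] : 𝟙_ _ ⟶ G.obj B).left ≫ pullback.fst B.hom b = b ≫ (η[B] : 𝟙_ _ ⟶ B).left := by
    simp [G]
  let eB : (G.obj B).left := (η[G.obj B] : 𝟙_ _ ⟶ G.obj B).left.base p
  let eA : (G.obj A).left := (η[G.obj A] : 𝟙_ _ ⟶ G.obj A).left.base p
  show Flat φ.left ↔ (G.map φ).left.base '' connectedComponent eA = connectedComponent eB
  have hee : (G.map φ).left.base eA = eB := by
    show ((η[G.obj A] : 𝟙_ _ ⟶ G.obj A).left ≫ (G.map φ).left).base p = _
    rw [← Over.comp_left, IsMonHom.one_hom]
  constructor
  · intro _
    haveI : IsIntegral (F.obj A).left :=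
      GeometricallyIntegral.isIntegral_of_subsingleton ((Neron.genericFibre R).obj A).hom
    haveI : IsIntegral (F.obj B).left :=
      GeometricallyIntegral.isIntegral_of_subsingleton ((Neron.genericFibre R).obj B).hom
    haveI : IrreducibleSpace ↥(pullback A.hom (Spec.map (CommRingCat.ofHom (algebraMap R K)))) :=
      inferInstanceAs (IrreducibleSpace (F.obj A).left)
    haveI : IrreducibleSpace ↥(pullback B.hom (Spec.map (CommRingCat.ofHom (algebraMap R K)))) :=
      inferInstanceAs (IrreducibleSpace (F.obj B).left)
    obtain ⟨g, hgA, hdA⟩ := NeronQFLib.exists_fibreDimAt_eq R K A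
    obtain ⟨g', hgB, hdB⟩ := NeronQFLib.exists_fibreDimAt_eq R K B
    haveI : LocallyQuasiFinite (F.map φ).left := NeronQFLib.lqf_of_isFinite_kernel (F.map φ) hφ.2
    have he := NeronQFLib.dim_closure_eq_of_lqf (F.map φ) (genericPoint (F.obj A).left)
    have hcl : ∀ {T : Type u} [TopologicalSpace T] (x : T), closure ({x} : Set T) = Set.univ →
        topologicalKrullDim (closure ({x} : Set T)) = topologicalKrullDim T := fun x hx => by
      rw [hx]
      exact IsHomeomorph.topologicalKrullDim_eq _ (Homeomorph.Set.univ _).isHomeomorph
    rw [hcl _ (genericPoint_closure (α := (F.obj A).left)), hcl _ (by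
      refine Set.eq_univ_of_forall fun y => ?_
      obtain ⟨x, rfl⟩ := (F.map φ).left.surjective y
      exact specializes_iff_mem_closure.1 ((genericPoint_specializes x).map (F.map φ).left.continuous))] at he
    have hgg : g = g' := by exact_mod_cast (hdA.symm.trans (he.trans hdB))
    subst hgg
    haveI : LocallyQuasiFinite φ.left := NeronQFLib.lqf_of_flat φ hgA hgB
    haveI : QuasiCompact (φ.left ≫ B.hom) := by rw [Over.w]; infer_instance
    haveI : QuasiCompact φ.left := QuasiCompact.of_comp φ.left B.hom
    have sq := NeronQFLib.isPullback_map b φ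
    haveI : LocallyQuasiFinite (G.map φ).left := MorphismProperty.of_isPullback sq inferInstance
    haveI : Flat (G.map φ).left := MorphismProperty.of_isPullback sq inferInstance
    haveI : QuasiCompact (G.map φ).left := MorphismProperty.of_isPullback sq inferInstance
    haveI : IsFinite (G.map φ).left := Groth.Agent.GrpHom.isFinite_of_lqf (G.map φ)
    haveI : IsLocallyNoetherian (G.obj A).left := LocallyOfFiniteType.isLocallyNoetherian (G.obj A).hom
    haveI : IsLocallyNoetherian (G.obj B).left := LocallyOfFiniteType.isLocallyNoetherian (G.obj B).hom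
    haveI : LocallyOfFinitePresentation (G.map φ).left := inferInstance
    haveI : LocallyConnectedSpace (G.obj A).left := ProperConnLib.locallyConnectedSpace _
    refine Set.Subset.antisymm ?_ ?_
    · exact (isPreconnected_connectedComponent.image _ (G.map φ).left.continuous.continuousOn).subset_connectedComponent
        ⟨eA, mem_connectedComponent, hee⟩
    · exact IsClopen.connectedComponent_subset
        ⟨(G.map φ).left.isClosedMap _ isClosed_connectedComponent,
          (G.map φ).left.isOpenMap _ isOpen_connectedComponent⟩ ⟨eA, mem_connectedComponent, hee⟩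
  · intro himg
    refine AbSchLib.flat_of_geometric_fibres φ fun L _ _ ξ => ?_
    letI : GrpObj ((Over.pullback ξ).obj A) := Functor.grpObjObj
    letI : GrpObj ((Over.pullback ξ).obj B) := Functor.grpObjObj
    haveI := AbSchLib.isMonHom_pullback_map ξ φ
    haveI : LocallyOfFiniteType ((Over.pullback ξ).obj A).hom :=
      inferInstanceAs (LocallyOfFiniteType (pullback.snd A.hom ξ))
    haveI : LocallyOfFiniteType ((Over.pullback ξ).obj B).hom :=
      inferInstanceAs (LocallyOfFiniteType (pullback.snd B.hom ξ))
    haveI : Smooth ((Over.pullback ξ).obj B).hom := inferInstanceAs (Smooth (pullback.snd B.hom ξ))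
    haveI : AlgebraicGeometry.IsReduced ((Over.pullback ξ).obj B).left :=
      AlgSpLib.isReduced_of_smooth ((Over.pullback ξ).obj B).hom
    let q := IsLocalRing.closedPoint L
    let e' := (η[(Over.pullback ξ).obj B] : 𝟙_ _ ⟶ (Over.pullback ξ).obj B).left.base q
    have hirr := isIrreducible_irreducibleComponent (x := e')
    have hg := hirr.isGenericPoint_genericPoint_closure
    rw [closure_eq_iff_isClosed.mpr isClosed_irreducibleComponent] at hg
    -- the generic point of that component maps into the image of φ
    let y := (pullback.fst B.hom ξ).base hirr.genericPoint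
    have hy : y ⤳ (η[B] : 𝟙_ _ ⟶ B).left.base (ξ.base q) := by
      have h1 := (hg.specializes (mem_irreducibleComponent (x := e'))).map (pullback.fst B.hom ξ).continuous
      have h2 : (η[(Over.pullback ξ).obj B] : 𝟙_ _ ⟶ (Over.pullback ξ).obj B).left ≫ pullback.fst B.hom ξ =
          ξ ≫ (η[B] : 𝟙_ _ ⟶ B).left := by simp
      exact h1.trans (specializes_of_eq (congrArg (fun m => m.base q) h2))
    have hyB : B.hom.base y = ξ.base q := by
      show (pullback.fst B.hom ξ ≫ B.hom).base hirr.genericPoint = _
      rw [pullback.condition, Scheme.Hom.comp_apply]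
      exact congrArg ξ.base (Subsingleton.elim (α := PrimeSpectrum L) _ _)
    have hrange : y ∈ Set.range φ.left.base := by
      by_cases hs : ξ.base q = IsLocalRing.closedPoint R
      · obtain ⟨y₀, hy₀⟩ : y ∈ Set.range (pullback.fst B.hom b).base := by
          rw [Scheme.Pullback.range_fst]
          exact ⟨p, by rw [hbp, hyB, hs]⟩
        haveI : IsClosedImmersion b := IsClosedImmersion.spec_of_surjective _ Ideal.Quotient.mk_surjective
        have hsp : y₀ ⤳ eB := by
          rw [← (pullback.fst B.hom b).isEmbedding.isInducing.specializes_iff, hy₀]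
          refine hy.trans (specializes_of_eq ?_)
          rw [hs, ← hbp]
          exact (congrArg (fun m => m.base p) hunit).symm
        have hmem : y₀ ∈ connectedComponent eB :=
          (isPreconnected_singleton.closure).subset_connectedComponent
            (specializes_iff_mem_closure.1 hsp) (subset_closure rfl)
        obtain ⟨x₀, -, hx₀⟩ := himg.ge hmem
        refine ⟨(pullback.fst A.hom b).base x₀, ?_⟩
        rw [← Scheme.Hom.comp_apply, (NeronQFLib.isPullback_map b φ).w, Scheme.Hom.comp_apply]
        exact (congrArg (pullback.fst B.hom b).base hx₀).trans hy₀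
      · obtain ⟨y₀, hy₀⟩ : y ∈ Set.range (pullback.fst B.hom (Neron.genPt R)).base := by
          rw [Scheme.Pullback.range_fst]
          refine ⟨IsLocalRing.closedPoint (FractionRing R), ?_⟩
          rw [hyB]
          refine PrimeSpectrum.ext ?_
          show Ideal.comap (algebraMap R (FractionRing R)) (IsLocalRing.maximalIdeal _) = _
          rw [IsLocalRing.maximalIdeal_eq_bot, ← RingHom.ker_eq_comap_bot,
            (RingHom.injective_iff_ker_eq_bot _).1 (IsFractionRing.injective R (FractionRing R))]
          by_contra hne
          exact hs (PrimeSpectrum.ext (IsLocalRing.eq_maximalIdeal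
            ((ξ.base q).isPrime.isMaximal (fun h => hne h.symm))))
        obtain ⟨x₀, hx₀⟩ := (F.map φ).left.surjective y₀
        refine ⟨(pullback.fst A.hom (Neron.genPt R)).base x₀, ?_⟩
        rw [← Scheme.Hom.comp_apply, (NeronQFLib.isPullback_map (Neron.genPt R) φ).w, Scheme.Hom.comp_apply]
        exact (congrArg (pullback.fst B.hom (Neron.genPt R)).base hx₀).trans hy₀
    obtain ⟨x₁, hx₁⟩ := hrange
    obtain ⟨x', -, hx'⟩ := NeronQFLib.exists_preimage (NeronQFLib.isPullback_map ξ φ) x₁ hirr.genericPoint hx₁
    refine AbSchLib.flat_of_algClosed _ _ _ ⟨x', ?_⟩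
    have := hg.def.symm ▸ irreducibleComponent_mem_irreducibleComponents e'
    rw [← hx'] at this
    exact this

end Groth.Agent.S18501
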