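import Groth.Statements.S18506
import Groth.Agent.MixZarLib.Basic

set_option autoImplicit false
set_option linter.style.haveILetI false
set_option backward.isDefEq.respectTransparency false
set_option backward.isDefEq.respectTransparency.types false

set_option autoImplicit false
universe u
open CategoryTheory MonoidalCategory CartesianMonoidalCategory MonObj GrpObj AlgebraicGeometry Topology
open EqInt

namespace Groth.Agent.S18506

/-- Over a field k, let an affine group scheme G of finite type act on X and on U (quasi-separated
schemes of finite type over k), and let π : U → B be a principal bundle quotient (π is G-invariant,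
flat and surjective and (σ, p₂) : G × U → U ×_B U is an isomorphism) which is locally trivial in the
Zariski topology: every point of B has an open neighbourhood over which π has a section. Then the
diagonal action of G on X × U has a principal bundle quotient X × U → Q in the category of schemes.
(The published hypothesis is that G is special, i.e. every principal G-bundle is Zariski-locally
trivial; only the local triviality of U → B is used, and it is what is assumed here.) -/
theorem result (k : Type u) [Field k]
    (G X U B : Over (Spec (CommRingCat.of k))) [GrpObj G] [IsAffine G.left] [LocallyOfFiniteType G.hom]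
    [LocallyOfFiniteType X.hom] [QuasiCompact X.hom] [QuasiSeparated X.hom]
    [LocallyOfFiniteType U.hom] [QuasiCompact U.hom] [QuasiSeparated U.hom]
    [LocallyOfFiniteType B.hom] [QuasiCompact B.hom] [QuasiSeparated B.hom]
    (a : AlgGrp.Action G X) (b : AlgGrp.Action G U) (π : U ⟶ B) (hinv : GIT.IsInvariant b π)
    [Flat π.left] [Surjective π.left] (hcart : IsIso (GIT.PsiY b π hinv))
    (hzar : ∀ y : ↥B.left, ∃ (W : B.left.Opens) (s : (↑W : Scheme.{u}) ⟶ U.left), y ∈ W ∧ s ≫ π.left = W.ι) :
    ∃ (Q : Over (Spec (CommRingCat.of k))) (ρ : X ⊗ U ⟶ Q) (hρ : GIT.IsInvariant (a.prod b) ρ),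
      Flat ρ.left ∧ Surjective ρ.left ∧ IsIso (GIT.PsiY (a.prod b) ρ hρ) := by
  have hc : IsPullback b.act (snd G U) π π :=
    IsPullback.of_map (Over.forget _) hinv (FibBCLib.isPullback_psiY b π hinv hcart)
  haveI : QuasiCompact π.left := FibBCLib.quasiCompact_left π
  obtain ⟨Q, q, r, sq, hq⟩ := Groth.Agent.AssocBun.exists_bundle_of_sections hc a hzar
  have hsw : (b.prod a).act ≫ (β_ X U).inv = (G ◁ (β_ X U).inv) ≫ (a.prod b).act := by
    apply CartesianMonoidalCategory.hom_ext <;>
      simp [AlgGrp.Action.prod_act, ← MonoidalCategory.whiskerLeft_comp_assoc]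
  have hsq : CategoryTheory.IsPullback (a.prod b).act (snd G (X ⊗ U)) ((β_ X U).hom ≫ q) ((β_ X U).hom ≫ q) :=
    hq.of_iso (whiskerLeftIso G (β_ X U).symm) (β_ X U).symm (β_ X U).symm (Iso.refl _) hsw
      (by simp) (by simp) (by simp)
  haveI : Flat q.left := MorphismProperty.of_isPullback (P := @Flat) sq inferInstance
  haveI : Surjective q.left := MorphismProperty.of_isPullback (P := @Surjective) sq inferInstance
  haveI : IsIso ((β_ X U).hom).left := ((Over.forget _).mapIso (β_ X U)).isIso_hom
  refine ⟨Q, (β_ X U).hom ≫ q, hsq.w, ?_, ?_, FibBCLib.isIso_psiY_of_cart _ _ _ hsq⟩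
  · rw [Over.comp_left]; infer_instance
  · rw [Over.comp_left]; infer_instance

end Groth.Agent.S18506
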