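import Groth.Statements.S18515
import Groth.Agent.NoriFGSLib.Action
import Mathlib.AlgebraicGeometry.ValuativeCriterion

set_option autoImplicit false
set_option backward.isDefEq.respectTransparency false
set_option backward.isDefEq.respectTransparency.types false
open CategoryTheory CategoryTheory.Limits MonoidalCategory CartesianMonoidalCategory MonObj GrpObj AlgebraicGeometry
universe u
open NonAbH1

namespace Groth.Agent.S18515

attribute [-instance] CategoryTheory.Hom.commGroup

/-- An equivariant isomorphism stays equivariant after changing the group along compatible homomorphisms. -/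
def equivIsoRestrict {S : Scheme.{u}} {H G' G : Over S} [GrpObj H] [GrpObj G'] [GrpObj G] {Y Y' : Over S}
    {a : AlgGrp.Action G' Y} {a' : AlgGrp.Action G Y'} {φ : G' ⟶ G} [IsMonHom φ]
    (E : NonAbH1.EquivIso a (a'.restrict φ)) (ψ : H ⟶ G') [IsMonHom ψ] (χ : H ⟶ G) [IsMonHom χ] (h : ψ ≫ φ = χ) :
    NonAbH1.EquivIso (a.restrict ψ) (a'.restrict χ) where
  iso := E.iso
  comm := by
    refine AlgGrp.Action.hom_ext_lift₂ fun W g v => ?_
    rw [← Category.assoc, AlgGrp.Action.lift_restrict_act, lift_whiskerLeft_assoc, AlgGrp.Action.lift_restrict_act,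
      Category.assoc, E.comm, lift_whiskerLeft_assoc, AlgGrp.Action.lift_restrict_act, Category.assoc, h]


/-- A class represented by a torsor over a complete variety is unramified at every discrete valuation
ring of the function field. The published lemma assumes G finite, k algebraically closed of
characteristic zero and K finitely generated over k; this row allows any field k, any field K and
any affine k-group scheme of finite type: let k be a field, X a proper k-scheme, G an affine k-group
scheme of finite type and P a torsor over X, locally trivial for the etale topology, under the base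
change of G. For every field K with a k-morphism e : Spec K ⟶ X (for instance the generic point of
an integral X) and every discrete valuation ring R with fraction field K containing k compatibly,
there is a torsor Q over Spec R under the base change of G whose restriction to Spec K is
equivariantly isomorphic to the pullback of P along e, both regarded as actions of the base change
of G to Spec K through the canonical identifications of iterated base changes. -/
theorem result
    (k K R : Type u) [Field k] [Field K] [Algebra k K]
    [CommRing R] [IsDomain R] [IsDiscreteValuationRing R] [Algebra k R] [Algebra R K] [IsFractionRing R K]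
    (hc : Spec.map (CommRingCat.ofHom (algebraMap R K)) ≫ Spec.map (CommRingCat.ofHom (algebraMap k R)) =
      Spec.map (CommRingCat.ofHom (algebraMap k K)))
    (X : Scheme.{u}) (x : X ⟶ Spec (CommRingCat.of k)) [IsProper x]
    (G : Over (Spec (CommRingCat.of k))) [GrpObj G] [IsAffine G.left] [LocallyOfFiniteType G.hom]
    (P : NonAbH1.TorsorSch (Red.bc x G) Scheme.etalePrecoverage)
    (e : Spec (CommRingCat.of K) ⟶ X) (he : e ≫ x = Spec.map (CommRingCat.ofHom (algebraMap k K))) :
    ∃ Q : NonAbH1.TorsorSch (Red.bc (Spec.map (CommRingCat.ofHom (algebraMap k R))) G) Scheme.etalePrecoverage,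
      Nonempty (NonAbH1.EquivIso
        ((Q.act.bc (Spec.map (CommRingCat.ofHom (algebraMap R K)))).restrict
          (ActBC.bcCompIso (Spec.map (CommRingCat.ofHom (algebraMap R K)))
            (Spec.map (CommRingCat.ofHom (algebraMap k R))) G hc).inv)
        ((P.act.bc e).restrict (ActBC.bcCompIso e x G he).inv)) := by
  classical
  let j : Spec (CommRingCat.of K) ⟶ Spec (CommRingCat.of R) := Spec.map (CommRingCat.ofHom (algebraMap R K))
  let rk : Spec (CommRingCat.of R) ⟶ Spec (CommRingCat.of k) := Spec.map (CommRingCat.ofHom (algebraMap k R))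
  have hval : ValuativeCriterion x := by
    have h := ‹IsProper x›
    rw [IsProper.eq_valuativeCriterion] at h
    exact h.1.1.1
  obtain ⟨⟨⟨g, hg1, hg2⟩⟩⟩ := (hval.existence
    { R := R, K := K, i₁ := e, i₂ := rk, commSq := ⟨he.trans hc.symm⟩ })
  have hje : j ≫ g = e := hg1
  have hgx : g ≫ x = rk := hg2
  haveI : IsMonHom (ActBC.bcCompIso g x G hgx).hom := ActBC.bcCompIso_isMonHom _ _ _
  haveI : IsMonHom (ActBC.bcCompIso e x G he).hom := ActBC.bcCompIso_isMonHom _ _ _
  haveI : IsMonHom (ActBC.bcCompIso j rk G hc).hom := ActBC.bcCompIso_isMonHom _ _ _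
  haveI : IsMonHom (ActBC.bcCompIso j g (Red.bc x G) hje).hom := ActBC.bcCompIso_isMonHom _ _ _
  let A := (P.act.bc g).restrict (ActBC.bcCompIso g x G hgx).inv
  have hA : NonAbH1.IsTorsorFor Scheme.etalePrecoverage A := by
    obtain ⟨h1, h2⟩ := NonAbH1.isTorsorFor_bc g Scheme.etalePrecoverage P.isTorsor
    refine ⟨Nori.isPseudoTorsorSch_of_points fun Z v v' => ?_, h2⟩
    obtain ⟨n, hn, hu⟩ := Nori.existsUnique_act h1 v v'
    refine ⟨n ≫ (ActBC.bcCompIso g x G hgx).hom, ?_, fun n' hn' => ?_⟩
    · show Nori.act A _ v = v'
      rw [Nori.act_restrict, Category.assoc, Iso.hom_inv_id, Category.comp_id, hn]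
    · rw [← hu (n' ≫ (ActBC.bcCompIso g x G hgx).inv) (by
        show Nori.act (P.act.bc g) _ v = v'
        rw [← Nori.act_restrict]
        exact hn'), Category.assoc, Iso.inv_hom_id, Category.comp_id]
  refine ⟨⟨Red.bc g P.X, A, hA⟩, ⟨?_⟩⟩
  show NonAbH1.EquivIso ((A.bc j).restrict (ActBC.bcCompIso j rk G hc).inv)
    ((P.act.bc e).restrict (ActBC.bcCompIso e x G he).inv)
  have hbc : (A.bc j).restrict (ActBC.bcCompIso j rk G hc).inv =
      ((P.act.bc g).bc j).restrict
        ((ActBC.bcCompIso j rk G hc).inv ≫ (Over.pullback j).map (ActBC.bcCompIso g x G hgx).inv) := by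
    refine AlgGrp.Action.ext' (AlgGrp.Action.hom_ext_lift₂ fun W n v => ?_)
    rw [AlgGrp.Action.lift_restrict_act, AlgGrp.Action.lift_restrict_act]
    simp only [A, AlgGrp.Action.bc_restrict, AlgGrp.Action.lift_restrict_act, Category.assoc]
  rw [hbc]
  refine equivIsoRestrict (ActBC.equivIsoBcComp j g hje P.act) _ _ ?_
  rw [← cancel_mono (ActBC.bcCompIso e x G he).hom, Iso.inv_hom_id]
  have key : (ActBC.bcCompIso j g (Red.bc x G) hje).hom ≫ (ActBC.bcCompIso e x G he).hom =
      (Over.pullback j).map (ActBC.bcCompIso g x G hgx).hom ≫ (ActBC.bcCompIso j rk G hc).hom := by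
    refine Over.OverMorphism.ext (pullback.hom_ext ?_ ?_)
    · simp only [Over.comp_left, Category.assoc, ActBC.bcCompIso_hom_left_fst,
        ActBC.bcCompIso_hom_left_fst_assoc, ActBC.pullback_map_left_fst_assoc]
    · exact (Over.w _).trans (Over.w _).symm
  rw [Category.assoc, Category.assoc, key, ← Functor.map_comp_assoc, Iso.inv_hom_id, CategoryTheory.Functor.map_id,
    Category.id_comp, Iso.inv_hom_id]

end Groth.Agent.S18515
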