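import Groth.Statements.S1852
import Mathlib
import Groth.Agent.TLenLib.Core
-- import your own Groth.Agent.* helpers here

set_option autoImplicit false
universe u
open CycAlg

namespace Groth.Agent.S1852

/-- Let R be a Noetherian local ring, M a finite R-module and 𝔮 a minimal prime of the support of M.
There are x₁, …, x_l in M such that 𝔮 is not in the support of M/⟨x₁, …, x_l⟩ and each ⟨x₁, …,
x_i⟩/⟨x₁, …, x_{i−1}⟩ is isomorphic to R/𝔮; and for any such sequence l equals the length of M_𝔮
over R_𝔮. -/
theorem result (R : Type u) [CommRing R] [IsNoetherianRing R] [IsLocalRing R] (M : Type u) [AddCommGroup M] [Module R M] [Module.Finite R M] (q : PrimeSpectrum R) (hq : Minimal (fun p : PrimeSpectrum R => p ∈ Module.support R M) q) : (∃ (l : ℕ) (x : Fin l → M), q ∉ Module.support R (M ⧸ Submodule.span R (Set.range x)) ∧ ∀ i : Fin l, Nonempty ((↥(CycDet.spanBefore R M x (i + 1)) ⧸ (CycDet.spanBefore R M x i).submoduleOf (CycDet.spanBefore R M x (i + 1))) ≃ₗ[R] (R ⧸ q.asIdeal))) ∧ ∀ (l : ℕ) (x : Fin l → M), q ∉ Module.support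 R (M ⧸ Submodule.span R (Set.range x)) → (∀ i : Fin l, Nonempty ((↥(CycDet.spanBefore R M x (i + 1)) ⧸ (CycDet.spanBefore R M x i).submoduleOf (CycDet.spanBefore R M x (i + 1))) ≃ₗ[R] (R ⧸ q.asIdeal))) → (l : ℕ∞) = Module.length (Localization.AtPrime q.asIdeal) (LocalizedModule q.asIdeal.primeCompl M) := by
  classical
  -- the spans of initial segments
  have hsb : ∀ {l : ℕ} (x : Fin l → M), CycDet.spanBefore R M x l = Submodule.span R (Set.range x) := fun {l} x => by
    rw [CycDet.spanBefore, ← Set.image_univ]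
    congr
    ext j
    simp
  have hsnoc : ∀ {l : ℕ} (x : Fin l → M) (y : M) (i : ℕ), i ≤ l →
      CycDet.spanBefore R M (Fin.snoc (α := fun _ => M) x y) i = CycDet.spanBefore R M x i := fun {l} x y i hi => by
    rw [CycDet.spanBefore, CycDet.spanBefore]
    congr 1
    ext m
    constructor
    · rintro ⟨j, hj, rfl⟩
      have hjl : (j : ℕ) < l := lt_of_lt_of_le hj hi
      refine ⟨⟨j, hjl⟩, hj, ?_⟩
      have : j = Fin.castSucc ⟨j, hjl⟩ := Fin.ext rfl
      conv_rhs => rw [this, Fin.snoc_castSucc]
    · rintro ⟨j, hj, rfl⟩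
      exact ⟨Fin.castSucc j, hj, by rw [Fin.snoc_castSucc]⟩
  -- the localized length grows by one at each step
  let L : Submodule R M → ℕ∞ := fun N =>
    Module.length (Localization.AtPrime q.asIdeal) (LocalizedModule q.asIdeal.primeCompl N)
  refine ⟨?_, ?_⟩
  swap
  · intro l x hx hq'
    have step : ∀ i : ℕ, i ≤ l → L (CycDet.spanBefore R M x i) = i := by
      intro i
      induction i with
      | zero =>
        intro _
        haveI : Subsingleton (CycDet.spanBefore R M x 0) := Submodule.subsingleton_iff_eq_bot.2 (by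
          rw [CycDet.spanBefore, Submodule.span_eq_bot]
          rintro m ⟨j, hj, rfl⟩
          exact absurd hj (Nat.not_lt_zero _))
        rw [Nat.cast_zero]
        exact TLenLib.length_localized_eq_zero q.asIdeal (c := 1)
          (fun h => q.2.ne_top ((Ideal.eq_top_iff_one _).2 h)) fun _ => Subsingleton.elim _ _
      | succ i ih =>
        intro hi
        obtain ⟨e⟩ := hq' ⟨i, hi⟩
        have hle : CycDet.spanBefore R M x i ≤ CycDet.spanBefore R M x (i + 1) :=
          Submodule.span_mono (Set.image_mono fun j (hj : (j : ℕ) < i) => Nat.lt_succ_of_lt hj)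
        show Module.length _ _ = _
        rw [TLenLib.length_localized_add q.asIdeal (Submodule.inclusion hle)
          ((CycDet.spanBefore R M x i).submoduleOf (CycDet.spanBefore R M x (i + 1))).mkQ
          (Submodule.inclusion_injective hle) (Submodule.mkQ_surjective _) (LinearMap.exact_iff.mpr (by
            rw [Submodule.ker_mkQ, Submodule.range_inclusion]; rfl)), TLenLib.length_localized_self q.asIdeal e]
        have := ih (by omega)
        simp only [L] at this
        rw [this]
        push_cast
        rfl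
    have h := step l le_rfl
    simp only [L] at h
    rw [hsb x] at h
    obtain ⟨c, hc, hcm⟩ : ∃ c : R, c ∉ q.asIdeal ∧ ∀ z : M ⧸ Submodule.span R (Set.range x), c • z = 0 := by
      rw [Module.mem_support_iff_of_finite, SetLike.not_le_iff_exists] at hx
      obtain ⟨c, h1, h2⟩ := hx
      exact ⟨c, h2, Module.mem_annihilator.1 h1⟩
    rw [TLenLib.length_localized_add q.asIdeal (Submodule.span R (Set.range x)).subtype
      (Submodule.span R (Set.range x)).mkQ (Submodule.subtype_injective _) (Submodule.mkQ_surjective _)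
      (LinearMap.exact_subtype_mkQ _), TLenLib.length_localized_eq_zero q.asIdeal hc hcm, add_zero]
    exact h.symm
  -- existence
  let Good : Submodule R M → Prop := fun N => ∃ (l : ℕ) (x : Fin l → M), Submodule.span R (Set.range x) = N ∧
    ∀ i : Fin l, Nonempty ((↥(CycDet.spanBefore R M x (i + 1)) ⧸ (CycDet.spanBefore R M x i).submoduleOf
      (CycDet.spanBefore R M x (i + 1))) ≃ₗ[R] (R ⧸ q.asIdeal))
  haveI : IsNoetherian R M := isNoetherian_of_isNoetherianRing_of_finite R M
  obtain ⟨N, hN, hNmax⟩ := set_has_maximal_iff_noetherian.2 inferInstance {N | Good N}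
    ⟨⊥, 0, Fin.elim0, by simp, fun i => i.elim0⟩
  obtain ⟨l, x, rfl, hgood⟩ := hN
  refine ⟨l, x, fun hq' => ?_, hgood⟩
  -- extend
  let N := Submodule.span R (Set.range x)
  have hmin : q.asIdeal ∈ (Module.annihilator R (M ⧸ N)).minimalPrimes := by
    refine ⟨⟨q.2, Module.mem_support_iff_of_finite.1 hq'⟩, fun p hp hle => ?_⟩
    have hp' : (⟨p, hp.1⟩ : PrimeSpectrum R) ∈ Module.support R M :=
      Module.support_subset_of_surjective N.mkQ (Submodule.mkQ_surjective _) (Module.mem_support_iff_of_finite.2 hp.2)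
    exact hq.2 hp' hle
  obtain ⟨-, y, hy⟩ := ((isAssociatedPrime_iff_exists_injective_linearMap q.asIdeal (M ⧸ N)).mp
    (Module.associatedPrimes.minimalPrimes_annihilator_subset_associatedPrimes R (M ⧸ N) hmin))
  obtain ⟨m, hm⟩ := Submodule.Quotient.mk_surjective N (y 1)
  have hbefore : CycDet.spanBefore R M (Fin.snoc (α := fun _ => M) x m) l = N := by rw [hsnoc x m l le_rfl]; exact hsb x
  have hrange : Set.range (Fin.snoc (α := fun _ => M) x m) = insert m (Set.range x) := Fin.range_snoc x m
  have hnot : m ∉ N := by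
    intro hmN
    have : y 1 = 0 := by rw [← hm, Submodule.Quotient.mk_eq_zero]; exact hmN
    have h10 : (1 : R ⧸ q.asIdeal) = 0 := hy (by rw [this, map_zero])
    exact q.2.ne_top ((Ideal.eq_top_iff_one _).2 (Ideal.Quotient.eq_zero_iff_mem.1 h10))
  refine hNmax (Submodule.span R (Set.range (Fin.snoc (α := fun _ => M) x m))) ⟨l + 1, Fin.snoc x m, rfl, ?_⟩
    (lt_of_le_of_ne (Submodule.span_mono (by rw [hrange]; exact Set.subset_insert _ _))
      fun e => hnot (e.ge (Submodule.subset_span (by rw [hrange]; exact Set.mem_insert _ _))))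
  intro i
  induction i using Fin.lastCases with
  | cast i =>
    rw [Fin.val_castSucc, hsnoc x m _ i.2, hsnoc x m _ i.2.le]
    exact hgood i
  | last =>
    rw [Fin.val_last, hbefore]
    have hT : CycDet.spanBefore R M (Fin.snoc (α := fun _ => M) x m) (l + 1) = R ∙ m ⊔ N :=
      (hsb (Fin.snoc (α := fun _ => M) x m)).trans (by rw [hrange, Submodule.span_insert])
    rw [hT]
    let S : Submodule R M := R ∙ m ⊔ N
    show Nonempty ((↥S ⧸ N.submoduleOf S) ≃ₗ[R] (R ⧸ q.asIdeal))
    let φ : R →ₗ[R] ↥S ⧸ N.submoduleOf S :=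
      (Submodule.mkQ _).comp (LinearMap.toSpanSingleton R ↥S ⟨m, Submodule.mem_sup_left (Submodule.mem_span_singleton_self m)⟩)
    have hφ : Function.Surjective φ := by
      intro z
      obtain ⟨⟨s, hs⟩, rfl⟩ := Submodule.Quotient.mk_surjective _ z
      obtain ⟨a, ha, n, hn, rfl⟩ := Submodule.mem_sup.1 hs
      obtain ⟨r, rfl⟩ := Submodule.mem_span_singleton.1 ha
      refine ⟨r, (Submodule.Quotient.eq _).2 ?_⟩
      show r • m - (r • m + n) ∈ N
      rw [sub_add_cancel_left]; exact neg_mem hn
    have hker : LinearMap.ker φ = q.asIdeal := by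
      ext r
      have h1 : y (Ideal.Quotient.mk q.asIdeal r) = Submodule.Quotient.mk (r • m) := by
        rw [Submodule.Quotient.mk_smul, hm, ← map_smul]
        congr 1
        rw [Algebra.smul_def, mul_one]; rfl
      show Submodule.Quotient.mk _ = 0 ↔ _
      rw [Submodule.Quotient.mk_eq_zero]
      show r • m ∈ N ↔ _
      rw [← Submodule.Quotient.mk_eq_zero N, ← h1, ← map_zero y, hy.eq_iff, Ideal.Quotient.eq_zero_iff_mem]
    exact ⟨(φ.quotKerEquivOfSurjective hφ).symm.trans (Submodule.quotEquivOfEq _ _ hker)⟩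

end Groth.Agent.S1852
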