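import Groth.Statements.S18524
import Mathlib
import Groth.Agent.ParHilbLib.Semi
-- import your own Groth.Agent.* helpers here

set_option autoImplicit false
universe u
open CategoryTheory CategoryTheory.Limits AlgebraicGeometry
open ParSh

namespace Groth.Agent.S18524

/-- Let X be a scheme proper over a field k with an ample invertible sheaf L, and 0 → F → E → G → 0 a
short exact sequence of coherent O_X-modules. Let 𝓔 be a finite weighted filtration of E by coherent
sub-modules E = E₀ ⊇ E₁ ⊇ ⋯ ⊇ E_l ⊇ B with B coherent and weights 0 ≤ w₀ < ⋯ < w_l < 1, and give F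
the filtration pulled back along F → E and G the image filtration along E → G, so that the sequence
is a parabolic extension. Then for every natural number m the parabolic Hilbert functions are
additive: par-χ(F, m) + par-χ(G, m) = par-χ(E, m), where par-χ(E, m) = χ(B ⊗ L^m) + Σ_j w_j (χ(E_j ⊗
L^m) − χ(E_{j+1} ⊗ L^m)) with E_{l+1} = B. The published statement is for parabolic sheaves along
effective Cartier divisors D on a projective scheme over an algebraically closed field, with B =
E(−D) and the functions averaged over several divisors; the identity holds for each weighted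
filtration separately, over any field and for any coherent bottom piece. -/
theorem result (k : Type u) [Field k] (X : Scheme.{u})
    [X.Over (Spec (CommRingCat.of k))] [IsProper (X ↘ Spec (CommRingCat.of k))]
    (L : X.Modules) (hL : CohB1.IsAmple L) {F E G : X.Modules}
    (hF : Coh.IsCoh F) (hE : Coh.IsCoh E) (hG : Coh.IsCoh G)
    (i : F ⟶ E) (p : E ⟶ G) [Epi p] (𝓕 : ParSh.Str F) (𝓔 : ParSh.Str E) (𝓖 : ParSh.Str G)
    (hext : ParSh.IsParExt i p 𝓕 𝓔 𝓖)
    (hcoh : ∀ j, Coh.IsCoh ((𝓔.piece j : Subobject E) : X.Modules))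
    (hbot : Coh.IsCoh ((𝓔.bot : Subobject E) : X.Modules)) (m : ℕ) :
    𝓕.parHilb k X L m + 𝓖.parHilb k X L m = 𝓔.parHilb k X L m := by
  obtain ⟨w, hS, rfl, rfl⟩ := hext
  have hc : ∀ j, Coh.IsCoh ((𝓔.pieceX j : Subobject E) : X.Modules) := fun j => by
    induction j using Fin.lastCases with
    | last => simpa using hbot
    | cast i => simpa using hcoh i
  have key := fun j => ParHilbLib.parHilb_add (k := k) hL hF hE hG i p w hS (𝓔.pieceX j) (hc j)
  have hco : ∀ j : Fin (𝓔.l + 2), (𝓔.coinduced p).pieceX j = imageSubobject ((𝓔.pieceX j).arrow ≫ p) := fun j => by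
    induction j using Fin.lastCases with
    | last => exact ((𝓔.coinduced p).pieceX_last).trans (congrArg (fun a => imageSubobject (Subobject.arrow a ≫ p)) 𝓔.pieceX_last.symm)
    | cast i => exact ((𝓔.coinduced p).pieceX_castSucc i).trans (congrArg (fun a => imageSubobject (Subobject.arrow a ≫ p)) (𝓔.pieceX_castSucc i).symm)
  have hQ : ∀ j : Fin (𝓔.l + 2), ShStab.IsHilbPoly k X L (((𝓔.induced i).pieceX j : Subobject F) : X.Modules)
      (StabLib.HPoly k L (((Subobject.pullback i).obj (𝓔.pieceX j) : Subobject F) : X.Modules)) := fun j => by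
    rw [ParHilbLib.induced_pieceX]
    exact StabLib.hPoly_spec hL (key j).2.1
  have hR : ∀ j : Fin (𝓔.l + 2), ShStab.IsHilbPoly k X L (((𝓔.coinduced p).pieceX j : Subobject G) : X.Modules)
      (StabLib.HPoly k L ((imageSubobject ((𝓔.pieceX j).arrow ≫ p) : Subobject G) : X.Modules)) := fun j => by
    rw [hco]
    exact StabLib.hPoly_spec hL (key j).2.2
  have e1 : (𝓔.induced i).parHilb k X L m = _ := ParHilbLib.parHilb_eq_eval (𝓔.induced i) hQ m
  have e2 : (𝓔.coinduced p).parHilb k X L m = _ := ParHilbLib.parHilb_eq_eval (𝓔.coinduced p) hR m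
  rw [e1, e2, ParHilbLib.parHilb_eq_eval 𝓔 (fun j => StabLib.hPoly_spec (k := k) (L := L) hL (hc j)) m,
    ParHilbLib.eval_parPoly, ParHilbLib.eval_parPoly, ParHilbLib.eval_parPoly]
  have ev : ∀ j : Fin (𝓔.l + 2),
      ((((StabLib.HPoly k L (((Subobject.pullback i).obj (𝓔.pieceX j) : Subobject F) : X.Modules)).eval (m : ℚ)) : ℚ) : ℝ) +
        ((((StabLib.HPoly k L ((imageSubobject ((𝓔.pieceX j).arrow ≫ p) : Subobject G) : X.Modules)).eval (m : ℚ)) : ℚ) : ℝ) =
        ((((StabLib.HPoly k L ((𝓔.pieceX j : Subobject E) : X.Modules)).eval (m : ℚ)) : ℚ) : ℝ) := fun j => by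
    rw [← Rat.cast_add, ← Polynomial.eval_add, (key j).1]
  have sumlem : ∀ (n : ℕ) (c : Fin n → ℝ) (A B D : Fin (n + 1) → ℝ), (∀ j, A j + B j = D j) →
      (A (Fin.last n) + ∑ j : Fin n, c j * (A j.castSucc - A j.succ)) +
          (B (Fin.last n) + ∑ j : Fin n, c j * (B j.castSucc - B j.succ)) =
        D (Fin.last n) + ∑ j : Fin n, c j * (D j.castSucc - D j.succ) := fun n c A B D h => by
    simp only [← h, mul_sub, mul_add, Finset.sum_sub_distrib, Finset.sum_add_distrib]
    ring
  exact sumlem (𝓔.l + 1) 𝓔.wt _ _ _ ev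

end Groth.Agent.S18524
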