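import Groth.Statements.S18528
import Mathlib
import Groth.Agent.ParHilbLib.Rows
-- import your own Groth.Agent.* helpers here

set_option autoImplicit false
universe u
open CategoryTheory CategoryTheory.Limits AlgebraicGeometry Polynomial
open ParSh

namespace Groth.Agent.S18528

/-- Reduced parabolic Hilbert polynomials versus parabolic slopes, for one test subsheaf. Let X be a
scheme proper over a field k with an ample invertible sheaf L, I the ideal of an effective Cartier
divisor D on X, and E a nonzero coherent O_X-module, pure of dimension d ≥ 1, with Supp E ∩ Supp D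
of topological Krull dimension less than d, carrying a finite weighted filtration 𝓔 along I by
coherent pieces E = E₀ ⊇ ⋯ ⊇ E_{l+1} = I·E with weights 0 ≤ w₀ < ⋯ < w_l < 1. Let P be the Hilbert
polynomial of E and P_j that of E_j. Let ι : W → E be a monomorphism from a coherent module W, give
W the induced filtration (pieces the preimages of the E_j, same weights) with Hilbert polynomials Q
of W and Q_j of its pieces, and write Par_E = P_{l+1} + Σ_j w_j (P_j − P_{j+1}), Par_W = Q_{l+1} +
Σ_j w_j (Q_j − Q_{j+1}), α_d for d! times the coefficient of degree d. Then: (i) if Par_W(m)·α_d(P)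
≤ Par_E(m)·α_d(Q) for all large natural numbers m, the coefficients of degree d − 1 satisfy
coeff(Par_W)·α_d(P) ≤ coeff(Par_E)·α_d(Q); (ii) if this coefficient inequality is strict, then
Par_W(m)·α_d(P) < Par_E(m)·α_d(Q) for all large m. With W running over the saturated nonzero proper
subsheaves this is the published implication: parabolic semistability for the reduced parabolic
Hilbert polynomial implies parabolic slope-semistability, and parabolic slope-stability implies
stability for the reduced parabolic Hilbert polynomial. -/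
theorem result (k : Type u) [Field k] (X : Scheme.{u})
    [X.Over (Spec (CommRingCat.of k))] [IsProper (X ↘ Spec (CommRingCat.of k))]
    (L : X.Modules) (hL : CohB1.IsAmple L) (I : X.IdealSheafData) (hD : FGA.IsEffCartier I)
    (E : X.Modules) (hE : Coh.IsCoh E) (h0 : ¬ IsZero E) (d : ℕ) (hd : 1 ≤ d)
    (hpure : ShStab.IsPure X E d) (𝓔 : ParSh.Str E) (h𝓔 : 𝓔.Along I)
    (hcoh : ∀ j, Coh.IsCoh ((𝓔.pieceX j : Subobject E) : X.Modules))
    (hsupp : topologicalKrullDim ↥(CohB1.support E ∩ (I.support : Set X)) < (d : WithBot ℕ∞))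
    (P : ℚ[X]) (hP : ShStab.IsHilbPoly k X L E P) (PX : Fin (𝓔.l + 2) → ℚ[X])
    (hPX : ∀ j, ShStab.IsHilbPoly k X L ((𝓔.pieceX j : Subobject E) : X.Modules) (PX j))
    {W : X.Modules} (ι : W ⟶ E) [Mono ι] (hW : Coh.IsCoh W)
    (Q : ℚ[X]) (hQ : ShStab.IsHilbPoly k X L W Q) (QX : Fin (𝓔.l + 2) → ℚ[X])
    (hQX : ∀ j, ShStab.IsHilbPoly k X L (((𝓔.induced ι).pieceX j : Subobject W) : X.Modules) (QX j)) :
    ((∃ M : ℕ, ∀ m : ℕ, M ≤ m →
        (W4swparbununimod.parPoly (𝓔.induced ι) QX).eval (m : ℝ) * (StabCat.alpha d P : ℝ) ≤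
          (W4swparbununimod.parPoly 𝓔 PX).eval (m : ℝ) * (StabCat.alpha d Q : ℝ)) →
      (W4swparbununimod.parPoly (𝓔.induced ι) QX).coeff (d - 1) * (StabCat.alpha d P : ℝ) ≤
        (W4swparbununimod.parPoly 𝓔 PX).coeff (d - 1) * (StabCat.alpha d Q : ℝ)) ∧
    ((W4swparbununimod.parPoly (𝓔.induced ι) QX).coeff (d - 1) * (StabCat.alpha d P : ℝ) <
        (W4swparbununimod.parPoly 𝓔 PX).coeff (d - 1) * (StabCat.alpha d Q : ℝ) →
      ∃ M : ℕ, ∀ m : ℕ, M ≤ m →
        (W4swparbununimod.parPoly (𝓔.induced ι) QX).eval (m : ℝ) * (StabCat.alpha d P : ℝ) <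
          (W4swparbununimod.parPoly 𝓔 PX).eval (m : ℝ) * (StabCat.alpha d Q : ℝ)) := by
  have hdimE := hpure E (𝟙 E) inferInstance hE h0
  have hPd : P.natDegree ≤ d := HilbPolyLib.natDegree_le hL hE hP hdimE.le
  have hQd : Q.natDegree ≤ d := HilbPolyLib.natDegree_le hL hW hQ
    ((StabLib.dim_mono (DevissLib.support_mono ι)).trans hdimE.le)
  obtain ⟨-, hWc⟩ := ParHilbLib.induced_data hL I hE h𝓔 hcoh hsupp ι hW hQ hQX
  let D : Polynomial ℝ := W4swparbununimod.parPoly 𝓔 PX * Polynomial.C (StabCat.alpha d Q : ℝ) -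
    W4swparbununimod.parPoly (𝓔.induced ι) QX * Polynomial.C (StabCat.alpha d P : ℝ)
  have hD : D.natDegree ≤ d - 1 := Polynomial.natDegree_le_iff_coeff_eq_zero.mpr fun n hn => by
    have hn' : d ≤ n := by omega
    simp only [D, Polynomial.coeff_sub, Polynomial.coeff_mul_C, hWc n hn',
      ParHilbLib.coeff_parPoly_high hL I hE h𝓔 hcoh hsupp hP hPX hn']
    rcases eq_or_lt_of_le hn' with rfl | hlt
    · simp only [StabCat.alpha, Rat.cast_mul]
      ring
    · rw [Polynomial.coeff_eq_zero_of_natDegree_lt (hPd.trans_lt hlt),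
        Polynomial.coeff_eq_zero_of_natDegree_lt (hQd.trans_lt hlt)]
      simp
  refine ⟨fun ⟨M, hM⟩ => ?_, fun hlt => ?_⟩
  · have := ParHilbLib.coeff_nonneg hD (Filter.eventually_atTop.mpr ⟨M, fun m hm => by
      simp only [D, Polynomial.eval_sub, Polynomial.eval_mul, Polynomial.eval_C]
      linarith [hM m hm]⟩)
    simp only [D, Polynomial.coeff_sub, Polynomial.coeff_mul_C] at this
    linarith
  · obtain ⟨M, hM⟩ := Filter.eventually_atTop.mp (ParHilbLib.eventually_pos hD (by
      simp only [D, Polynomial.coeff_sub, Polynomial.coeff_mul_C]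
      linarith))
    refine ⟨M, fun m hm => ?_⟩
    have := hM m hm
    simp only [D, Polynomial.eval_sub, Polynomial.eval_mul, Polynomial.eval_C] at this
    linarith

end Groth.Agent.S18528
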