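import Groth.Statements.S1853
import Mathlib
import Groth.Agent.TameLib.DetDefect
-- import your own Groth.Agent.* helpers here

set_option autoImplicit false
universe u
open CycDet

namespace Groth.Agent.S1853

/-- Let R be Noetherian local, 𝔮 a prime with dim R/𝔮 = 1, and φ : M → N a map of finite modules
generated by x₁, …, x_l and y₁, …, y_l respectively, with all successive quotients
⟨x₁..x_i⟩/⟨x₁..x_{i−1}⟩ and ⟨y₁..y_i⟩/⟨y₁..y_{i−1}⟩ isomorphic to R/𝔮. Then φ is injective iff φ_𝔮
is bijective; and in that case, if the symbols of (φ(x_i)) and (y_i) in det_{κ(𝔮)}(N_𝔮) differ by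
the scalar f, the length of coker φ equals ord_{R/𝔮}(f). -/
theorem result (R : Type u) [CommRing R] [IsNoetherianRing R] [IsLocalRing R] (q : PrimeSpectrum R) (hq : ringKrullDim (R ⧸ q.asIdeal) = 1) (M N : Type u) [AddCommGroup M] [Module R M] [AddCommGroup N] [Module R N] [Module.Finite R M] [Module.Finite R N] (φ : M →ₗ[R] N) (l : ℕ) (x : Fin l → M) (y : Fin l → N) (hx : Submodule.span R (Set.range x) = ⊤) (hy : Submodule.span R (Set.range y) = ⊤) (hxq : ∀ i : Fin l, Nonempty ((↥(CycDet.spanBefore R M x (i + 1)) ⧸ (CycDet.spanBefore R M x i).submoduleOf (CycDet.spanBefore R M x (i + 1))) ≃ₗ[R] (R ⧸ q.asIdeal))) (hyq : ∀ i : Fin l, Nonempty ((↥(CycDet.spanBefore R N y (i + 1)) ⧸ (CycDet.spanBefore R N y i).submoduleOf (CycDet.spanBefore R N y (i + 1))) ≃ₗ[R] (R ⧸ q.asIdeal))) : (Function.Injective φ ↔ Function.Bijective (LocalizedModule.map q.asIdeal.primeCompl φ)) ∧ (Function.Injective φ → ∀ (hl : (Module.length (Localization.AtPrime q.asIdeal) (LocalizedModule q.asIdeal.primeCompl N)).toNat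 = l) (ex ey : CycDet.Adm (Localization.AtPrime q.asIdeal) (LocalizedModule q.asIdeal.primeCompl N) (Module.length (Localization.AtPrime q.asIdeal) (LocalizedModule q.asIdeal.primeCompl N)).toNat) (f : q.asIdeal.ResidueField), (ex.1 = fun i => LocalizedModule.mkLinearMap q.asIdeal.primeCompl N (φ (x (Fin.cast hl i)))) → (ey.1 = fun i => LocalizedModule.mkLinearMap q.asIdeal.primeCompl N (y (Fin.cast hl i))) → CycDet.symbol (Localization.AtPrime q.asIdeal) (LocalizedModule q.asIdeal.primeCompl N) ex = f • CycDet.symbol (Localization.AtPrime q.asIdeal) (LocalizedModule q.asIdeal.primeCompl N) ey → ∃ n : ℕ, Module.length R (N ⧸ LinearMap.range φ) = n ∧ (n : ℤ) = CycAlg.ordFrac (R ⧸ q.asIdeal) q.asIdeal.ResidueField f) := by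
  classical
  open TameLib TameLib.Defect IsLocalRing in
  let Q := q.asIdeal
  let Rq := Localization.AtPrime Q
  haveI : Ring.KrullDimLE 1 (R ⧸ Q) := Ring.krullDimLE_iff.2 (le_of_eq (by rw [hq]; rfl))
  -- pieces `R/q`
  have hchain : ∀ (P : Type u) [AddCommGroup P] [Module R P] (z : Fin l → P),
      (∀ i : Fin l, Nonempty ((↥(CycDet.spanBefore R P z (i + 1)) ⧸
        (CycDet.spanBefore R P z i).submoduleOf (CycDet.spanBefore R P z (i + 1))) ≃ₗ[R] (R ⧸ q.asIdeal))) →
      Chain Q z := by
    intro P _ _ z hz i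
    obtain ⟨e⟩ := hz i
    have hmem : z i ∈ CycDet.spanBefore R P z ((i : ℕ) + 1) := CycDetLib.mem_sB z (Nat.lt_succ_self _)
    have hiff : ∀ r : R, r • z i ∈ CycDet.spanBefore R P z i ↔ r • e (Submodule.Quotient.mk ⟨z i, hmem⟩) = 0 := by
      intro r
      rw [← map_smul, LinearEquiv.map_eq_zero_iff, ← Submodule.Quotient.mk_smul, Submodule.Quotient.mk_eq_zero]
      rfl
    obtain ⟨c, hc⟩ := Ideal.Quotient.mk_surjective (e (Submodule.Quotient.mk ⟨z i, hmem⟩))
    refine ⟨fun r hr => ?_, fun t ht h => ?_⟩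
    · rw [hiff, ← hc]
      show Ideal.Quotient.mk Q (r * c) = 0
      rw [Ideal.Quotient.eq_zero_iff_mem]
      exact Q.mul_mem_right _ hr
    · rw [hiff, ← hc] at h
      have h' : t * c ∈ Q := Ideal.Quotient.eq_zero_iff_mem.1 h
      have hc0 : e (Submodule.Quotient.mk ⟨z i, hmem⟩) = 0 := by
        rw [← hc, Ideal.Quotient.eq_zero_iff_mem]
        exact (q.2.mem_or_mem h').resolve_left ht
      have hzi : z i ∈ CycDet.spanBefore R P z i := by
        rw [LinearEquiv.map_eq_zero_iff, Submodule.Quotient.mk_eq_zero] at hc0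
        exact hc0
      have hsub : Subsingleton (↥(CycDet.spanBefore R P z (i + 1)) ⧸
          (CycDet.spanBefore R P z i).submoduleOf (CycDet.spanBefore R P z (i + 1))) := by
        refine Submodule.Quotient.subsingleton_iff.2 (Submodule.submoduleOf_eq_top.2 ?_)
        rw [CycDetLib.sB_succ, sup_eq_left.2 ((Submodule.span_singleton_le_iff_mem _ _).2 hzi)]
      haveI : Subsingleton (R ⧸ Q) := e.symm.toEquiv.subsingleton
      exact q.2.ne_top (Ideal.Quotient.subsingleton_iff.1 inferInstance)
  have hcx := hchain M x hxq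
  have hcy := hchain N y hyq
  -- no torsion
  have htfM : ∀ v : M, LocalizedModule.mkLinearMap Q.primeCompl M v = 0 → v = 0 := fun v hv => by
    have h := of_mem_sB hcx (x := v) (i := 0) (hx ▸ Submodule.mem_top) (by rw [hv]; exact zero_mem _)
    rwa [CycDetLib.sB_zero, Submodule.mem_bot] at h
  have htfN : ∀ v : N, LocalizedModule.mkLinearMap Q.primeCompl N v = 0 → v = 0 := fun v hv => by
    have h := of_mem_sB hcy (x := v) (i := 0) (hy ▸ Submodule.mem_top) (by rw [hv]; exact zero_mem _)
    rwa [CycDetLib.sB_zero, Submodule.mem_bot] at h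
  -- the reference tuple
  have hgy := good_of_chain hcy
  have hspanN : Submodule.span Rq (Set.range fun j => LocalizedModule.mkLinearMap Q.primeCompl N (y j)) = ⊤ := by
    rw [eq_top_iff]
    intro v _
    induction v using LocalizedModule.induction_on with
    | h m s =>
      have h1 : LocalizedModule.mkLinearMap Q.primeCompl N m ∈
          Submodule.span Rq (Set.range fun j => LocalizedModule.mkLinearMap Q.primeCompl N (y j)) := by
        rw [← CycDetLib.sB_len (fun j => LocalizedModule.mkLinearMap Q.primeCompl N (y j)) le_rfl]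
        exact map_sB l (by rw [CycDetLib.sB_len y le_rfl, hy]; trivial)
      have h2 := Submodule.smul_mem _ (Localization.mk 1 s : Rq) h1
      rwa [LocalizedModule.mkLinearMap_apply, LocalizedModule.mk_smul_mk, one_smul, mul_one] at h2
  let F : CycDetLib.Ref Rq (LocalizedModule Q.primeCompl N) l := ⟨⟨_, hgy.1⟩, hspanN⟩
  -- the image of `x`
  let φx : Fin l → N := fun i => φ (x i)
  have hmapspan : ∀ i : ℕ, CycDet.spanBefore R N φx i = Submodule.map φ (CycDet.spanBefore R M x i) := fun i => by
    rw [CycDet.spanBefore, CycDet.spanBefore, Submodule.map_span, Set.image_image]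
  have hφx : Function.Injective φ → Chain Q φx := fun hinj i => by
    refine ⟨fun r hr => ?_, fun t ht h => (hcx i).2 t ht ?_⟩
    · rw [hmapspan]
      exact ⟨r • x i, (hcx i).1 r hr, map_smul φ r (x i)⟩
    · rw [hmapspan] at h
      obtain ⟨v, hv, hve⟩ := h
      rw [show φx i = φ (x i) from rfl, ← map_smul] at hve
      rwa [← hinj hve]
  refine ⟨⟨fun hinj => ⟨LocalizedModule.map_injective _ _ hinj, ?_⟩, fun hbij v w hvw => ?_⟩, ?_⟩
  · have hsp := good_span F hgy.2 (good_of_chain (hφx hinj))
    have hr : LinearMap.range (LocalizedModule.map Q.primeCompl φ) = ⊤ := by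
      rw [eq_top_iff, ← hsp, Submodule.span_le]
      rintro _ ⟨j, rfl⟩
      exact ⟨LocalizedModule.mk (x j) 1, by rw [LocalizedModule.map_mk]; rfl⟩
    exact LinearMap.range_eq_top.1 hr
  · rw [← sub_eq_zero]
    refine htfM _ (hbij.1 ?_)
    rw [map_zero, LocalizedModule.mkLinearMap_apply, LocalizedModule.map_mk, map_sub, hvw, sub_self,
      LocalizedModule.zero_mk]
  intro hinj
  have hgx := good_of_chain (hφx hinj)
  have hcxN := hφx hinj
  -- defects
  have hdefy : defect Q y = 0 := by
    refine Finset.sum_eq_zero fun i _ => ?_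
    have hs : ∀ k : ℕ, sat Q y k = CycDet.spanBefore R N y k := fun k =>
      le_antisymm (fun v hv => of_mem_sB hcy (hy ▸ Submodule.mem_top) hv) fun v hv => map_sB k hv
    rw [hs, hs, ← CycDetLib.sB_succ, qlen_self, ENat.toNat_zero, Nat.cast_zero]
  have hsum := qlen_eq_defect hcxN htfN l le_rfl
  have hfin : ∀ j : Fin l, qlen (sat Q φx j ⊔ Submodule.span R {φx j}) (sat Q φx ((j : ℕ) + 1)) ≠ ⊤ := fun j =>
    (gap_lt_top hgx j).ne
  have hsatl : sat Q φx l = ⊤ := by
    rw [eq_top_iff]
    intro v _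
    show LocalizedModule.mkLinearMap Q.primeCompl N v ∈
      CycDet.spanBefore Rq _ (fun j => LocalizedModule.mkLinearMap Q.primeCompl N (φx j)) l
    rw [CycDetLib.sB_len _ le_rfl, good_span F hgy.2 hgx]
    trivial
  have hrange : CycDet.spanBefore R N φx l = LinearMap.range φ := by
    rw [hmapspan, CycDetLib.sB_len x le_rfl, hx, Submodule.map_top]
  rw [Finset.filter_true_of_mem (fun j _ => j.2), hrange, hsatl, qlen_top] at hsum
  have hlen : Module.length R (N ⧸ LinearMap.range φ) ≠ ⊤ := by
    rw [hsum]; exact WithTop.sum_ne_top.2 fun j _ => hfin j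
  intro hl ex ey f hex hey hsym
  refine ⟨(Module.length R (N ⧸ LinearMap.range φ)).toNat, (ENat.natCast_toNat hlen).symm, ?_⟩
  have hdefx : defect Q φx = ((Module.length R (N ⧸ LinearMap.range φ)).toNat : ℤ) := by
    rw [hsum, ENat.toNat_sum fun j _ => hfin j, Nat.cast_sum]
    rfl
  have hinv := inv_eq F hgy.2 hgy l 0 φx hgx (zero_add l) fun j hj => absurd hj (Nat.not_lt_zero _)
  rw [inv, inv, hdefx, hdefy, show CycDetLib.phi F (fun j => LocalizedModule.mkLinearMap Q.primeCompl N (y j)) = 1 from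
    CycDetLib.phi_self F hgy.2, show CycAlg.ordFrac (R ⧸ Q) Q.ResidueField 1 = 0 from ordFrac_one, sub_zero,
    sub_eq_zero] at hinv
  -- identify `f`
  have hf : CycDetLib.phi F (fun j => LocalizedModule.mkLinearMap Q.primeCompl N (φx j)) = f := by
    have aux : ∀ (m : ℕ) (hl' : m = l) (ex' ey' : CycDet.Adm Rq (LocalizedModule Q.primeCompl N) m),
        (ex'.1 = fun i => LocalizedModule.mkLinearMap Q.primeCompl N (φx (Fin.cast hl' i))) →
        (ey'.1 = fun i => LocalizedModule.mkLinearMap Q.primeCompl N (y (Fin.cast hl' i))) →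
        (Submodule.Quotient.mk (CycDet.sym Rq _ ex') : CycDet.DetOfLen Rq (LocalizedModule Q.primeCompl N) m) =
          f • Submodule.Quotient.mk (CycDet.sym Rq _ ey') →
        CycDetLib.phi F (fun j => LocalizedModule.mkLinearMap Q.primeCompl N (φx j)) = f := by
      rintro m rfl ex' ey' hex' hey' hsym'
      have h := congrArg (CycDetLib.phiLin F) hsym'
      rw [map_smul, CycDetLib.phiLin_sym, CycDetLib.phiLin_sym, hex', hey'] at h
      exact h.trans ((congrArg (f * ·) (CycDetLib.phi_self F hgy.2)).trans (mul_one f))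
    exact aux _ hl ex ey hex hey hsym
  rw [← hinv]
  exact congrArg _ hf

end Groth.Agent.S1853
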