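import Groth.Statements.S18530
import Mathlib
import Groth.Agent.ParHilbLib.Rows
-- import your own Groth.Agent.* helpers here

set_option autoImplicit false
universe u
open CategoryTheory CategoryTheory.Limits AlgebraicGeometry Polynomial
open ParSh

namespace Groth.Agent.S18530

/-- The two leading coefficients of the first modified parabolic Hilbert polynomial. Let X be a scheme
proper over a field k with an ample invertible sheaf L, I the ideal of an effective Cartier divisor
D on X, and E a coherent O_X-module with a finite weighted filtration 𝓔 along I by coherent pieces E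
= E₀ ⊇ ⋯ ⊇ E_{l+1} = I·E, weights 0 ≤ w₀ < ⋯ < w_l < 1 and w_{l+1} := 1. Let d ≥ 1 with Supp E ∩
Supp D of topological Krull dimension less than d, and let H_j be the Hilbert polynomial of E/E_j,
with α_{d−1}(H_j) ≠ 0 for 1 ≤ j ≤ l+1 (α_i(H) = i!·coefficient of degree i), the numerical type of
𝓔. Let ι : W → E be a monomorphism from a coherent module W, with induced filtration W_j = W ∩ E_j,
Q the Hilbert polynomial of W, Q_j that of W_j and K_j that of W/W_j. Then the first modified
parabolic polynomial par-P₁(W ⊂ E) := Q − Σ_{j=1}^{l+1} (w_j −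
w_{j−1})·(α_{d−1}(K_j)/α_{d−1}(H_j))·H_j and the parabolic polynomial par-P₀(W) := Q_{l+1} + Σ_{j ≤
l} w_j (Q_j − Q_{j+1}) have the same coefficient in degree d and the same coefficient in degree d −
1. The published statement adds the consequences that p₁-semistability implies parabolic
slope-semistability and parabolic slope-stability implies p₁-stability, which are not part of this
row. -/
theorem result (k : Type u) [Field k] (X : Scheme.{u})
    [X.Over (Spec (CommRingCat.of k))] [IsProper (X ↘ Spec (CommRingCat.of k))]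
    (L : X.Modules) (hL : CohB1.IsAmple L) (I : X.IdealSheafData) (hD : FGA.IsEffCartier I)
    (E : X.Modules) (hE : Coh.IsCoh E) (𝓔 : ParSh.Str E) (h𝓔 : 𝓔.Along I)
    (hcoh : ∀ j, Coh.IsCoh ((𝓔.pieceX j : Subobject E) : X.Modules)) (d : ℕ) (hd : 1 ≤ d)
    (hsupp : topologicalKrullDim ↥(CohB1.support E ∩ (I.support : Set X)) < (d : WithBot ℕ∞))
    (H : Fin (𝓔.l + 2) → ℚ[X]) (hH : ∀ j, ShStab.IsHilbPoly k X L (cokernel (𝓔.pieceX j).arrow) (H j))
    (hHa : ∀ j : Fin (𝓔.l + 1), StabCat.alpha (d - 1) (H j.succ) ≠ 0)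
    {W : X.Modules} (ι : W ⟶ E) [Mono ι] (hW : Coh.IsCoh W)
    (Q : ℚ[X]) (hQ : ShStab.IsHilbPoly k X L W Q) (QX : Fin (𝓔.l + 2) → ℚ[X])
    (hQX : ∀ j, ShStab.IsHilbPoly k X L (((𝓔.induced ι).pieceX j : Subobject W) : X.Modules) (QX j))
    (QH : Fin (𝓔.l + 2) → ℚ[X])
    (hQH : ∀ j, ShStab.IsHilbPoly k X L (cokernel ((𝓔.induced ι).pieceX j).arrow) (QH j)) :
    (W4swparbununimod.parPolyOne 𝓔 d Q QH H).coeff d = (W4swparbununimod.parPoly (𝓔.induced ι) QX).coeff d ∧
      (W4swparbununimod.parPolyOne 𝓔 d Q QH H).coeff (d - 1) =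
        (W4swparbununimod.parPoly (𝓔.induced ι) QX).coeff (d - 1) := by
  have hcW := ParHilbLib.isCoh_induced k hE 𝓔 hcoh ι hW
  obtain ⟨h0, hsub⟩ := ParHilbLib.piece_eq_sub (𝓔 := 𝓔.induced ι) hL hW hcW hQ hQX hQH
  have hH0 : ∀ j n, d ≤ n → (H j).coeff n = 0 := fun j n hn =>
    ParHilbLib.coeff_eq_zero hL (QCohLib.isCoh_cokernel _ (hcoh j).1 hE) (hH j)
      ((StabLib.dim_mono (ParHilbLib.support_coker_piece I h𝓔 j)).trans_lt hsupp) hn
  have hK0 : ∀ j n, d ≤ n → (QH j).coeff n = 0 := fun j n hn =>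
    ParHilbLib.coeff_eq_zero hL (QCohLib.isCoh_cokernel _ (hcW j).1 hW) (hQH j)
      ((StabLib.dim_mono (ParHilbLib.support_coker_induced I h𝓔 ι j)).trans_lt hsupp) hn
  have key : ∀ n, (∀ j : Fin (𝓔.l + 1), (StabCat.alpha (d - 1) (QH j.succ) / StabCat.alpha (d - 1) (H j.succ)) *
        (H j.succ).coeff n = (QH j.succ).coeff n) →
      (W4swparbununimod.parPolyOne 𝓔 d Q QH H).coeff n = (W4swparbununimod.parPoly (𝓔.induced ι) QX).coeff n := by
    intro n hn
    have e' := (congrArg (fun R => Polynomial.coeff R n) (ParHilbLib.parPoly_eq (𝓔.induced ι) QX))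
    refine Eq.trans ?_ e'.symm
    rw [W4swparbununimod.parPolyOne]
    simp only [Polynomial.coeff_sub, Polynomial.finsetSum_coeff, Polynomial.coeff_C_mul, ParHilbLib.coeff_rpoly]
    refine congrArg₂ _ (congrArg _ (congrArg (fun R => Polynomial.coeff R n) h0).symm) (Finset.sum_congr rfl fun j _ => ?_)
    have e : (QX 0 - QX j.succ).coeff n = (QH j.succ).coeff n := congrArg (fun R => Polynomial.coeff R n) ((congrArg (· - QX j.succ) h0).trans (hsub j.succ))
    rw [Polynomial.coeff_sub] at e
    refine Eq.trans ?_ (congrArg _ (congrArg _ e).symm)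
    rw [← hn j]
    push_cast
    exact (mul_assoc _ _ _)
  refine ⟨key d fun j => by rw [hH0 _ d le_rfl, hK0 _ d le_rfl, mul_zero], key (d - 1) fun j => ?_⟩
  have hne := hHa j
  simp only [StabCat.alpha] at hne ⊢
  have h1 := left_ne_zero_of_mul hne
  have h2 := right_ne_zero_of_mul hne
  field_simp

end Groth.Agent.S18530
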