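import Groth.Statements.S18532
import Mathlib
import Groth.Agent.ParHilbLib.Rows
-- import your own Groth.Agent.* helpers here

set_option autoImplicit false
universe u
open CategoryTheory CategoryTheory.Limits AlgebraicGeometry Polynomial
open ParSh

namespace Groth.Agent.S18532

/-- The comparison of the second and first modified parabolic Hilbert polynomials for one test subsheaf.
Let X be a scheme proper over a field k with an ample invertible sheaf L, I the ideal of an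
effective Cartier divisor D on X, d ≥ 1, and E a nonzero coherent O_X-module, pure of dimension d,
with Supp E ∩ Supp D of topological Krull dimension less than d, carrying a finite weighted
filtration 𝓔 along I by coherent pieces E = E₀ ⊇ ⋯ ⊇ E_{l+1} = I·E, weights 0 ≤ w₀ < ⋯ < w_l < 1,
w_{l+1} := 1. Let P be the Hilbert polynomial of E, P_j of E_j, H_j of E/E_j with α_{d−1}(H_j) ≠ 0
for 1 ≤ j ≤ l+1, and Par_E = P_{l+1} + Σ_j w_j (P_j − P_{j+1}). Let ι : W → E be a monomorphism from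
a coherent module W with induced filtration W_j = W ∩ E_j, Q the Hilbert polynomial of W and K_j
that of W/W_j; put par-P₁(W ⊂ E) = Q − Σ_{j=1}^{l+1} (w_j − w_{j−1})·(α_{d−1}(K_j)/α_{d−1}(H_j))·H_j
and par-P₂(W ⊂ E)(x, y) = Q(x) − Σ_{j=1}^{l+1} (w_j − w_{j−1})·(K_j(y)/H_j(y))·H_j(x). Then: (i) if
there is M such that for every m ≥ M there is N with par-P₂(W ⊂ E)(m, n)·P(n) ≤ Par_E(m)·Q(n) for
all n ≥ N, then par-P₁(W ⊂ E)(m)·α_d(P) ≤ Par_E(m)·α_d(Q) for all large m; (ii) if par-P₁(W ⊂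
E)(m)·α_d(P) < Par_E(m)·α_d(Q) for all large m, then there is M such that for every m ≥ M there is N
with par-P₂(W ⊂ E)(m, n)·P(n) < Par_E(m)·Q(n) for all n ≥ N. With W running over the nonzero
saturated (proper) sub-modules this is the published implication p₂-semistable ⇒ p₁-semistable,
p₁-stable ⇒ p₂-stable; the further implications to and from parabolic slope-(semi)stability in the
published statement are not part of this row. -/
theorem result (k : Type u) [Field k] (X : Scheme.{u})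
    [X.Over (Spec (CommRingCat.of k))] [IsProper (X ↘ Spec (CommRingCat.of k))]
    (L : X.Modules) (hL : CohB1.IsAmple L) (I : X.IdealSheafData) (hD : FGA.IsEffCartier I)
    (E : X.Modules) (hE : Coh.IsCoh E) (𝓔 : ParSh.Str E) (h𝓔 : 𝓔.Along I)
    (hcoh : ∀ j, Coh.IsCoh ((𝓔.pieceX j : Subobject E) : X.Modules)) (d : ℕ) (hd : 1 ≤ d)
    (hsupp : topologicalKrullDim ↥(CohB1.support E ∩ (I.support : Set X)) < (d : WithBot ℕ∞))
    (h0 : ¬ IsZero E) (hpure : ShStab.IsPure X E d)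
    (P : ℚ[X]) (hP : ShStab.IsHilbPoly k X L E P) (PX : Fin (𝓔.l + 2) → ℚ[X])
    (hPX : ∀ j, ShStab.IsHilbPoly k X L ((𝓔.pieceX j : Subobject E) : X.Modules) (PX j))
    (H : Fin (𝓔.l + 2) → ℚ[X]) (hH : ∀ j, ShStab.IsHilbPoly k X L (cokernel (𝓔.pieceX j).arrow) (H j))
    (hHa : ∀ j : Fin (𝓔.l + 1), StabCat.alpha (d - 1) (H j.succ) ≠ 0)
    {W : X.Modules} (ι : W ⟶ E) [Mono ι] (hW : Coh.IsCoh W)
    (Q : ℚ[X]) (hQ : ShStab.IsHilbPoly k X L W Q) (QH : Fin (𝓔.l + 2) → ℚ[X])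
    (hQH : ∀ j, ShStab.IsHilbPoly k X L (cokernel ((𝓔.induced ι).pieceX j).arrow) (QH j)) :
    ((∃ M : ℕ, ∀ m : ℕ, M ≤ m → ∃ N : ℕ, ∀ n : ℕ, N ≤ n →
        (((Q.eval (m : ℚ) : ℚ) : ℝ) -
            ∑ j : Fin (𝓔.l + 1), (𝓔.wtX j.succ - 𝓔.wtX j.castSucc) *
              ((((QH j.succ).eval (n : ℚ) / (H j.succ).eval (n : ℚ) : ℚ) : ℝ) * (((H j.succ).eval (m : ℚ) : ℚ) : ℝ))) *
          ((P.eval (n : ℚ) : ℚ) : ℝ) ≤
        (W4swparbununimod.parPoly 𝓔 PX).eval (m : ℝ) * ((Q.eval (n : ℚ) : ℚ) : ℝ)) →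
      ∃ M : ℕ, ∀ m : ℕ, M ≤ m →
        (W4swparbununimod.parPolyOne 𝓔 d Q QH H).eval (m : ℝ) * (StabCat.alpha d P : ℝ) ≤
          (W4swparbununimod.parPoly 𝓔 PX).eval (m : ℝ) * (StabCat.alpha d Q : ℝ)) ∧
    ((∃ M : ℕ, ∀ m : ℕ, M ≤ m →
        (W4swparbununimod.parPolyOne 𝓔 d Q QH H).eval (m : ℝ) * (StabCat.alpha d P : ℝ) <
          (W4swparbununimod.parPoly 𝓔 PX).eval (m : ℝ) * (StabCat.alpha d Q : ℝ)) →
      ∃ M : ℕ, ∀ m : ℕ, M ≤ m → ∃ N : ℕ, ∀ n : ℕ, N ≤ n →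
        (((Q.eval (m : ℚ) : ℚ) : ℝ) -
            ∑ j : Fin (𝓔.l + 1), (𝓔.wtX j.succ - 𝓔.wtX j.castSucc) *
              ((((QH j.succ).eval (n : ℚ) / (H j.succ).eval (n : ℚ) : ℚ) : ℝ) * (((H j.succ).eval (m : ℚ) : ℚ) : ℝ))) *
          ((P.eval (n : ℚ) : ℚ) : ℝ) <
        (W4swparbununimod.parPoly 𝓔 PX).eval (m : ℝ) * ((Q.eval (n : ℚ) : ℚ) : ℝ)) := by
  have hdimE := hpure E (𝟙 E) inferInstance hE h0
  have hPd : P.natDegree ≤ d := HilbPolyLib.natDegree_le hL hE hP hdimE.le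
  have hQd : Q.natDegree ≤ d := HilbPolyLib.natDegree_le hL hW hQ
    ((StabLib.dim_mono (DevissLib.support_mono ι)).trans hdimE.le)
  have hcW := ParHilbLib.isCoh_induced k hE 𝓔 hcoh ι hW
  have hH0 : ∀ j, (H j).natDegree ≤ d - 1 := fun j =>
    ParHilbLib.natDegree_le_pred hL (QCohLib.isCoh_cokernel _ (hcoh j).1 hE) (hH j)
      ((StabLib.dim_mono (ParHilbLib.support_coker_piece I h𝓔 j)).trans_lt hsupp)
  have hK0 : ∀ j, (QH j).natDegree ≤ d - 1 := fun j =>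
    ParHilbLib.natDegree_le_pred hL (QCohLib.isCoh_cokernel _ (hcW j).1 hW) (hQH j)
      ((StabLib.dim_mono (ParHilbLib.support_coker_induced I h𝓔 ι j)).trans_lt hsupp)
  have hfac : (0 : ℝ) < (Nat.factorial d : ℝ) := by exact_mod_cast Nat.factorial_pos d
  let F : ℕ → ℕ → ℝ := fun m n => (((Q.eval (m : ℚ) : ℚ) : ℝ) -
            ∑ j : Fin (𝓔.l + 1), (𝓔.wtX j.succ - 𝓔.wtX j.castSucc) *
              ((((QH j.succ).eval (n : ℚ) / (H j.succ).eval (n : ℚ) : ℚ) : ℝ) * (((H j.succ).eval (m : ℚ) : ℚ) : ℝ)))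
  have hlim : ∀ m : ℕ, Filter.Tendsto (fun n => F m n * (((P.eval (n : ℚ) : ℚ) : ℝ) / (n : ℝ) ^ d)) Filter.atTop
      (nhds ((W4swparbununimod.parPolyOne 𝓔 d Q QH H).eval (m : ℝ) * (P.coeff d : ℝ))) := fun m => by
    refine Filter.Tendsto.mul ?_ (ParHilbLib.tendsto_rat hPd)
    simp only [F, W4swparbununimod.parPolyOne, Polynomial.eval_sub, Polynomial.eval_finsetSum,
      Polynomial.eval_mul, Polynomial.eval_C, ParHilbLib.eval_rpoly, mul_assoc]
    refine tendsto_const_nhds.sub (tendsto_finsetSum _ fun j _ => ((Filter.Tendsto.mul_const _ ?_)).const_mul _)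
    have hne := hHa j
    have h2 : ((H j.succ).coeff (d - 1) : ℝ) ≠ 0 := by exact_mod_cast right_ne_zero_of_mul hne
    have hl := (ParHilbLib.tendsto_rat (hK0 j.succ)).div (ParHilbLib.tendsto_rat (hH0 j.succ)) h2
    have e : ((StabCat.alpha (d - 1) (QH j.succ) / StabCat.alpha (d - 1) (H j.succ) : ℚ) : ℝ) =
        ((QH j.succ).coeff (d - 1) : ℝ) / ((H j.succ).coeff (d - 1) : ℝ) := by
      rw [StabCat.alpha, StabCat.alpha, mul_div_mul_left _ _ (left_ne_zero_of_mul hne)]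
      push_cast
      rfl
    rw [e]
    refine hl.congr' ?_
    filter_upwards [Filter.eventually_ne_atTop 0] with n hn
    simp only [Pi.div_apply]
    rw [div_div_div_cancel_right₀ (pow_ne_zero _ (Nat.cast_ne_zero.mpr hn))]
    push_cast
    rfl
  have hrhs : ∀ m : ℕ, Filter.Tendsto (fun n : ℕ => (W4swparbununimod.parPoly 𝓔 PX).eval (m : ℝ) *
      (((Q.eval (n : ℚ) : ℚ) : ℝ) / (n : ℝ) ^ d)) Filter.atTop
      (nhds ((W4swparbununimod.parPoly 𝓔 PX).eval (m : ℝ) * (Q.coeff d : ℝ))) := fun m =>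
    (ParHilbLib.tendsto_rat hQd).const_mul _
  refine ⟨fun ⟨M, hM⟩ => ⟨M, fun m hm => ?_⟩, fun ⟨M, hM⟩ => ⟨M, fun m hm => ?_⟩⟩
  · obtain ⟨N, hN⟩ := hM m hm
    have := le_of_tendsto_of_tendsto (hlim m) (hrhs m) (Filter.eventually_atTop.mpr ⟨N, fun n hn => by
      have := div_le_div_of_nonneg_right (hN n hn) (pow_nonneg (Nat.cast_nonneg (α := ℝ) n) d)
      simpa only [mul_div_assoc] using this⟩)
    have h' := mul_le_mul_of_nonneg_left this hfac.le
    simp only [StabCat.alpha, Rat.cast_mul, Rat.cast_natCast]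
    linarith
  · have h' := hM m hm
    simp only [StabCat.alpha, Rat.cast_mul, Rat.cast_natCast] at h'
    have hlt : (W4swparbununimod.parPolyOne 𝓔 d Q QH H).eval (m : ℝ) * (P.coeff d : ℝ) <
        (W4swparbununimod.parPoly 𝓔 PX).eval (m : ℝ) * (Q.coeff d : ℝ) :=
      lt_of_mul_lt_mul_left (by linarith) hfac.le
    obtain ⟨N, hN⟩ := Filter.eventually_atTop.mp (((hrhs m).sub (hlim m)).eventually_const_lt (sub_pos.mpr hlt))
    refine ⟨N + 1, fun n hn => ?_⟩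
    have := hN n (by omega)
    simp only [sub_pos, F, ← mul_div_assoc] at this
    exact (div_lt_div_iff_of_pos_right (pow_pos (by exact_mod_cast (by omega : 0 < n)) d)).mp this

end Groth.Agent.S18532
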