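import Groth.Statements.S18534
import Groth.Agent.EtAlgCplLib.Galois
import Groth.Agent.EtAlgCplLib.Compositum
-- import your own Groth.Agent.* helpers here

set_option autoImplicit false
set_option maxHeartbeats 2000000
set_option backward.isDefEq.respectTransparency false
universe u
open scoped Pointwise
open EtAlg

namespace Groth.Agent.S18534

theorem finite_of_galois (R S G : Type u) [CommRing R] [CommRing S] [IsDomain R] [IsDomain S] [IsNoetherianRing R]
    [IsIntegrallyClosed R] [IsIntegrallyClosed S] [Algebra R S] [FaithfulSMul R S] [Group G] [Finite G]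
    [MulSemiringAction G S] [IsGaloisGroup G R S] : Module.Finite R S := by
  let K := FractionRing R
  let L := FractionRing S
  letI : Algebra K L := FractionRing.liftAlgebra R L
  letI := IsFractionRing.mulSemiringAction G S L
  haveI : IsGaloisGroup G K L := IsGaloisGroup.toFractionRing G R S
  haveI := IsGaloisGroup.isGalois G K L
  haveI : FiniteDimensional K L := IsGaloisGroup.finiteDimensional G K L
  haveI : Algebra.IsIntegral R S := (IsGaloisGroup.isInvariant (G := G) (A := R) (B := S)).isIntegral
  haveI : IsIntegralClosure S R L := IsIntegralClosure.of_isIntegrallyClosed S R L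
  exact IsIntegralClosure.finite R K L S

/-- The completions at `P` and `Q`. -/
theorem facts (R S G : Type u) [CommRing R] [CommRing S] [IsDomain R] [IsDomain S] [IsIntegrallyClosed R]
    [IsIntegrallyClosed S] (hR : EGA4.IsExcellent R) [Algebra R S] [FaithfulSMul R S] [Group G] [Finite G]
    [MulSemiringAction G S] [IsGaloisGroup G R S] (P : Ideal R) [P.IsPrime] (Q : Ideal S) [Q.IsPrime] [Q.LiesOver P]
    (θ : Localization.AtPrime P →+* Localization.AtPrime Q)
    (hθ : ∀ r, θ (algebraMap R _ r) = algebraMap S _ (algebraMap R S r))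
    (ψ : EGA4.Cpl (Localization.AtPrime P) →+* EGA4.Cpl (Localization.AtPrime Q))
    (hψ : ∀ r, ψ (algebraMap (Localization.AtPrime P) _ r) = algebraMap (Localization.AtPrime Q) _ (θ r)) :
    IsNoetherianRing (Localization.AtPrime Q) ∧
    IsDomain (EGA4.Cpl (Localization.AtPrime P)) ∧ IsIntegrallyClosed (EGA4.Cpl (Localization.AtPrime P)) ∧
    IsDomain (EGA4.Cpl (Localization.AtPrime Q)) ∧
    (IsLocalRing.maximalIdeal (Localization.AtPrime P)).map θ ≤ IsLocalRing.maximalIdeal (Localization.AtPrime Q) ∧
    ψ.IsIntegral ∧ Function.Injective ψ ∧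
    ∀ X : Subring (EGA4.Cpl (Localization.AtPrime Q)), (∀ a, ψ a ∈ X) →
      (∀ s : S, algebraMap (Localization.AtPrime Q) _ (algebraMap S (Localization.AtPrime Q) s) ∈ X) → X = ⊤ := by
  haveI := hR.1
  haveI := finite_of_galois R S G
  haveI : IsNoetherianRing S := IsNoetherianRing.of_finite R S
  let R' := Localization.AtPrime P
  let SQ := Localization.AtPrime Q
  haveI : IsNoetherianRing R' := IsLocalization.isNoetherianRing P.primeCompl _ inferInstance
  haveI : IsNoetherianRing SQ := IsLocalization.isNoetherianRing Q.primeCompl _ inferInstance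
  haveI : IsIntegrallyClosed R' := isIntegrallyClosed_of_isLocalization _ P.primeCompl P.primeCompl_le_nonZeroDivisors
  let Msub := Algebra.algebraMapSubmonoid S P.primeCompl
  let SP := Localization Msub
  have hMQ : Msub ≤ Q.primeCompl := by
    rintro _ ⟨r, hr, rfl⟩ h
    exact hr ((Ideal.mem_of_liesOver Q P r).2 h)
  have hM0 : Msub ≤ nonZeroDivisors S := hMQ.trans Q.primeCompl_le_nonZeroDivisors
  haveI : IsDomain SP := IsLocalization.isDomain_localization hM0
  haveI : IsIntegrallyClosed SP := isIntegrallyClosed_of_isLocalization _ Msub hM0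
  haveI : Module.Finite R' SP :=
    Module.Finite.of_isLocalizedModule P.primeCompl (Rₚ := R') (IsScalarTower.toAlgHom R S SP).toLinearMap
  letI : Algebra SP SQ := (IsLocalization.map (M := Msub) (T := Q.primeCompl) SQ (RingHom.id S) hMQ).toAlgebra
  haveI : IsScalarTower S SP SQ := IsScalarTower.of_algebraMap_eq fun s => by
    show _ = IsLocalization.map (M := Msub) (T := Q.primeCompl) SQ (RingHom.id S) hMQ (algebraMap S SP s)
    rw [IsLocalization.map_eq]
    rfl
  have hinjQ : Function.Injective (algebraMap S SQ) := IsLocalization.injective _ Q.primeCompl_le_nonZeroDivisors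
  have hd : Disjoint (Msub : Set S) (Q : Set S) := Set.disjoint_left.2 fun x hx hxQ => hMQ hx hxQ
  let n : Ideal SP := Q.map (algebraMap S SP)
  haveI hnP : n.IsPrime := IsLocalization.isPrime_of_isPrime_disjoint Msub _ Q ‹_› hd
  have hnc : n.comap (algebraMap S SP) = Q := IsLocalization.under_map_of_isPrime_disjoint Msub SP ‹_› hd
  haveI : IsLocalization.AtPrime SQ n := by
    refine ⟨⟨?_, ?_, ?_⟩⟩
    · rintro ⟨x, hx⟩
      obtain ⟨s, ⟨t, ht⟩, rfl⟩ := IsLocalization.exists_mk'_eq Msub x
      have hs : s ∉ Q := fun h => hx (by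
        show IsLocalization.mk' SP s ⟨t, ht⟩ ∈ n
        rw [IsLocalization.mk'_mem_iff]
        exact Ideal.mem_map_of_mem _ h)
      refine isUnit_of_mul_isUnit_left (y := algebraMap SP SQ (algebraMap S SP t)) ?_
      rw [← map_mul, IsLocalization.mk'_spec, ← IsScalarTower.algebraMap_apply]
      exact IsLocalization.map_units SQ (⟨s, hs⟩ : Q.primeCompl)
    · intro z
      obtain ⟨⟨a, ⟨b, hb⟩⟩, h⟩ := IsLocalization.surj Q.primeCompl z
      refine ⟨⟨algebraMap S SP a, ⟨algebraMap S SP b, fun h' => hb (hnc ▸ h')⟩⟩, ?_⟩
      rw [← IsScalarTower.algebraMap_apply, ← IsScalarTower.algebraMap_apply]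
      exact h
    · intro x y h
      refine ⟨1, ?_⟩
      obtain ⟨a, ⟨t, ht⟩, rfl⟩ := IsLocalization.exists_mk'_eq Msub x
      obtain ⟨b, ⟨u, hu⟩, rfl⟩ := IsLocalization.exists_mk'_eq Msub y
      congr 1
      rw [IsLocalization.mk'_eq_iff_eq]
      refine congrArg _ (hinjQ ?_)
      have ha := congrArg (algebraMap SP SQ) (IsLocalization.mk'_spec SP a (⟨t, ht⟩ : Msub))
      have hb := congrArg (algebraMap SP SQ) (IsLocalization.mk'_spec SP b (⟨u, hu⟩ : Msub))
      rw [map_mul, ← IsScalarTower.algebraMap_apply S SP SQ, ← IsScalarTower.algebraMap_apply S SP SQ] at ha hb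
      rw [map_mul, map_mul, ← ha, ← hb, h]
      ring
  haveI : Algebra.IsIntegral R' SP := Algebra.IsIntegral.of_finite R' SP
  haveI : n.IsMaximal := by
    refine Ideal.isMaximal_of_isIntegral_of_isMaximal_comap (R := R') n ?_
    suffices n.comap (algebraMap R' SP) = IsLocalRing.maximalIdeal R' by rw [this]; exact IsLocalRing.maximalIdeal.isMaximal _
    refine le_antisymm (IsLocalRing.le_maximalIdeal Ideal.IsPrime.ne_top') ?_
    rw [← Localization.AtPrime.map_eq_maximalIdeal, Ideal.map_le_iff_le_comap, Ideal.comap_comap,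
      ← IsScalarTower.algebraMap_eq, IsScalarTower.algebraMap_eq R S SP, ← Ideal.comap_comap, hnc]
    exact (Ideal.LiesOver.over (P := Q) (p := P)).le
  have hθ' : θ = (algebraMap SP SQ).comp (algebraMap R' SP) := IsLocalization.ringHom_ext P.primeCompl (RingHom.ext fun r => by
    show θ (algebraMap R R' r) = algebraMap SP SQ (algebraMap R' SP (algebraMap R R' r))
    rw [hθ, ← IsScalarTower.algebraMap_apply R R' SP, IsScalarTower.algebraMap_apply R S SP, ← IsScalarTower.algebraMap_apply S SP SQ])
  have hψ' : ∀ r, ψ (algebraMap R' _ r) = algebraMap SQ _ (algebraMap SP SQ (algebraMap R' SP r)) := fun r => by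
    rw [hψ, hθ']; rfl
  have hreg : CAlg.IsRegularHom R' (EGA4.Cpl R') := hR.2.2.1.2 P
  haveI : IsIntegrallyClosed SQ := isIntegrallyClosed_of_isLocalization _ Q.primeCompl Q.primeCompl_le_nonZeroDivisors
  obtain ⟨hdA, hcA⟩ := EtAlgCplLib.normal_cpl hreg
  obtain ⟨hdB, -⟩ := EtAlgCplLib.normal_cpl (GRingFinLib.isRegularHom_cpl_of_finite R' SP SQ n hreg)
  refine ⟨inferInstance, hdA, hcA, hdB, hθ' ▸ EtAlgCplLib.map_maximalIdeal_le n,
    EtAlgCplLib.isIntegral_lift n ψ hψ', EtAlgCplLib.injective_lift n ?_ ψ hψ', fun X h1 h2 =>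
      EtAlgCplLib.subring_eq_top n ψ hψ' X h1 fun x => ?_⟩
  · intro a b h
    obtain ⟨a, t, rfl⟩ := IsLocalization.exists_mk'_eq P.primeCompl a
    obtain ⟨b, u, rfl⟩ := IsLocalization.exists_mk'_eq P.primeCompl b
    rw [IsLocalization.mk'_eq_iff_eq]
    refine congrArg _ (FaithfulSMul.algebraMap_injective R S (IsLocalization.injective SP hM0 ?_))
    have ha := congrArg (algebraMap R' SP) (IsLocalization.mk'_spec R' a t)
    have hb := congrArg (algebraMap R' SP) (IsLocalization.mk'_spec R' b u)
    rw [map_mul, ← IsScalarTower.algebraMap_apply R R' SP, ← IsScalarTower.algebraMap_apply R R' SP] at ha hb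
    rw [← IsScalarTower.algebraMap_apply R S SP, ← IsScalarTower.algebraMap_apply R S SP, map_mul, map_mul, ← ha, ← hb, h]
    ring
  · obtain ⟨s, ⟨_, ⟨t, ht, rfl⟩⟩, rfl⟩ := IsLocalization.exists_mk'_eq Msub x
    obtain ⟨v, hv⟩ := (IsLocalization.map_units R' (⟨t, ht⟩ : P.primeCompl)).exists_right_inv
    have h4 : IsLocalization.mk' SP s ⟨algebraMap R S t, Algebra.mem_algebraMapSubmonoid_of_mem ⟨t, ht⟩⟩ = algebraMap S SP s * algebraMap R' SP v := by
      rw [IsLocalization.mk'_eq_iff_eq_mul, mul_assoc, ← IsScalarTower.algebraMap_apply R S SP,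
        IsScalarTower.algebraMap_apply R R' SP, ← map_mul, mul_comm v, hv, map_one, mul_one]
    rw [h4, map_mul, map_mul, ← hψ', ← IsScalarTower.algebraMap_apply S SP SQ]
    exact mul_mem (h2 s) (h1 _)


/-- Let R be a normal domain which is excellent and S a normal domain containing R on which a finite
group G acts by R-algebra automorphisms, faithfully and with ring of invariants exactly R (so S is
the integral closure of R in a finite Galois extension of Frac R with group G), Q a prime of S lying
over the prime P of R, and D the decomposition group of Q (the stabilizer of Q in G). Equip the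
completion of the local ring S_Q with an action of D by ring automorphisms extending the action of D
on S, and with an algebra structure over the completion of R_P compatible with R → S (both exist and
are unique, by density and continuity). Then D is a Galois group for the completed extension: it
acts faithfully, linearly over the completion of R_P, and its ring of invariants is exactly the
image of the completion of R_P; equivalently the extension of fraction fields of the completed local
rings is Galois with group D. (Only the completions of the local rings R_P and S_Q are treated. For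
the P-adic completion of R itself and the Q-adic completion of S the analogous finiteness fails:
with R = k[x,y], S = k[y,t], t² = x + y², char k ≠ 2 and Q = (t − y) over P = (x), the Q-adic
completion k[y][[t − y]] is not finite over the (x)-adic completion k[y][[x]] and their fraction
fields form an extension of infinite degree.) -/
theorem result
    (R S G : Type u) [CommRing R] [CommRing S] [IsDomain R] [IsDomain S]
    [IsIntegrallyClosed R] [IsIntegrallyClosed S] (hR : EGA4.IsExcellent R)
    [Algebra R S] [FaithfulSMul R S]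
    [Group G] [Finite G] [MulSemiringAction G S] [SMulCommClass G R S] [IsGaloisGroup G R S]
    (P : Ideal R) [P.IsPrime] (Q : Ideal S) [Q.IsPrime] [Q.LiesOver P]
    [MulSemiringAction (MulAction.stabilizer G Q) (EGA4.Cpl (Localization.AtPrime Q))]
    (hact : ∀ (g : MulAction.stabilizer G Q) (s : S),
      g • algebraMap (Localization.AtPrime Q) (EGA4.Cpl (Localization.AtPrime Q)) (algebraMap S (Localization.AtPrime Q) s) =
        algebraMap (Localization.AtPrime Q) (EGA4.Cpl (Localization.AtPrime Q)) (algebraMap S (Localization.AtPrime Q) (g • s)))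
    [Algebra (EGA4.Cpl (Localization.AtPrime P)) (EGA4.Cpl (Localization.AtPrime Q))]
    (halg : ∀ r : R,
      algebraMap (EGA4.Cpl (Localization.AtPrime P)) (EGA4.Cpl (Localization.AtPrime Q)) (algebraMap (Localization.AtPrime P) (EGA4.Cpl (Localization.AtPrime P)) (algebraMap R (Localization.AtPrime P) r)) =
        algebraMap (Localization.AtPrime Q) (EGA4.Cpl (Localization.AtPrime Q)) (algebraMap S (Localization.AtPrime Q) (algebraMap R S r))) :
    IsGaloisGroup (MulAction.stabilizer G Q) (EGA4.Cpl (Localization.AtPrime P)) (EGA4.Cpl (Localization.AtPrime Q)) := by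
  haveI := hR.1
  let θ : Localization.AtPrime P →+* Localization.AtPrime Q :=
    Localization.localRingHom P Q (algebraMap R S) (Ideal.LiesOver.over (P := Q) (p := P))
  have hθ : ∀ r, θ (algebraMap R _ r) = algebraMap S _ (algebraMap R S r) := fun r => Localization.localRingHom_to_map ..
  let A := EGA4.Cpl (Localization.AtPrime P)
  let B := EGA4.Cpl (Localization.AtPrime Q)
  let ψ : A →+* B := algebraMap A B
  have hψ : ∀ r, ψ (algebraMap (Localization.AtPrime P) _ r) = algebraMap (Localization.AtPrime Q) _ (θ r) := by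
    intro r
    exact RingHom.congr_fun (IsLocalization.ringHom_ext P.primeCompl
      (j := ψ.comp (algebraMap (Localization.AtPrime P) A)) (k := (algebraMap (Localization.AtPrime Q) B).comp θ)
      (RingHom.ext fun a => by
        show ψ (algebraMap _ A (algebraMap R _ a)) = algebraMap _ B (θ (algebraMap R _ a))
        rw [hθ]; exact halg a)) r
  obtain ⟨hN, hdA, hcA, hdB, hm, hint, hinj, hgen⟩ := facts R S G hR P Q θ hθ ψ hψ
  haveI : IsNoetherianRing (Localization.AtPrime P) := IsLocalization.isNoetherianRing P.primeCompl _ inferInstance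
  haveI : Algebra.IsIntegral A B := ⟨hint⟩
  let ι : S →+* B := (algebraMap (Localization.AtPrime Q) B).comp (algebraMap S (Localization.AtPrime Q))
  have hι : Function.Injective ι := (EtAlgCplLib.injective_algebraMap_cpl _).comp
    (IsLocalization.injective _ Q.primeCompl_le_nonZeroDivisors)
  haveI : SMulCommClass G R S := IsGaloisGroup.commutes
  have hfix : ∀ (h : MulAction.stabilizer G Q) (a : A), h • ψ a = ψ a := by
    intro h a
    refine RingHom.congr_fun (EtAlgCplLib.hom_ext θ hm ((MulSemiringAction.toRingHom (MulAction.stabilizer G Q) B h).comp ψ) ψ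
      (fun r => ?_) hψ) a
    show h • ψ (algebraMap _ _ r) = algebraMap _ B (θ r)
    rw [hψ]
    refine RingHom.congr_fun (IsLocalization.ringHom_ext P.primeCompl
      (j := ((MulSemiringAction.toRingHom (MulAction.stabilizer G Q) B h).comp (algebraMap (Localization.AtPrime Q) B)).comp θ)
      (k := (algebraMap (Localization.AtPrime Q) B).comp θ) (RingHom.ext fun a => ?_)) r
    show h • algebraMap _ B (θ (algebraMap R _ a)) = algebraMap _ B (θ (algebraMap R _ a))
    rw [hθ, hact, show h • algebraMap R S a = algebraMap R S a from smul_algebraMap (h : G) a]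
  refine ⟨⟨fun {h₁ h₂} heq => ?_⟩, ⟨fun h a b => ?_⟩, ⟨fun x hx => ?_⟩⟩
  · refine Subtype.ext ((IsGaloisGroup.faithful R (G := G) (B := S)).eq_of_smul_eq_smul fun s => hι ?_)
    exact ((hact h₁ s).symm.trans (heq _)).trans (hact h₂ s)
  · rw [Algebra.smul_def, Algebra.smul_def, smul_mul']
    exact congrArg (· * (h • b)) (hfix h a)
  · refine EtAlgCplLib.mem_range_of_fixed (G := G) ((algebraMap (Localization.AtPrime P) A).comp (algebraMap R _)) ι
      hinj hι (fun r => halg r) hgen x fun σ g hσA hσS => ?_
    have hmem : ∀ s : S, s ∈ Q ↔ ¬ IsUnit (ι s) := fun s => by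
      haveI : Module.FaithfullyFlat (Localization.AtPrime Q) B := GeomRedFibLib.faithfullyFlat_hat _
      show s ∈ Q ↔ ¬ IsUnit (algebraMap (Localization.AtPrime Q) B (algebraMap S (Localization.AtPrime Q) s))
      rw [← IsLocalization.AtPrime.to_map_mem_maximal_iff (Localization.AtPrime Q) Q s, IsLocalRing.mem_maximalIdeal,
        mem_nonunits_iff, isUnit_map_iff (algebraMap (Localization.AtPrime Q) B)]
    have hQ : ∀ s : S, g • s ∈ Q ↔ s ∈ Q := fun s => by
      rw [hmem, hmem, ← hσS]
      exact not_congr (isUnit_map_iff σ _)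
    have hg : g ∈ MulAction.stabilizer G Q := by
      refine MulAction.mem_stabilizer_iff.2 (Ideal.ext fun s => ?_)
      rw [Ideal.mem_pointwise_smul_iff_inv_smul_mem, ← hQ (g⁻¹ • s), smul_inv_smul]
    let X : Subring B := RingHom.eqLocus σ.toRingHom (MulSemiringAction.toRingHom (MulAction.stabilizer G Q) B ⟨g, hg⟩)
    have hX : X = ⊤ := hgen X (fun a => ((hσA a).trans (hfix ⟨g, hg⟩ a).symm)) fun s => (hσS s).trans (hact ⟨g, hg⟩ s).symm
    exact (show x ∈ X by rw [hX]; trivial).trans (hx ⟨g, hg⟩)

end Groth.Agent.S18534
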