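import Groth.Statements.S18535
import Groth.Agent.GalCompleteLib.Main
-- import your own Groth.Agent.* helpers here

set_option autoImplicit false
universe u
open EtAlg

namespace Groth.Agent.S18535

/-- Let R be a complete Noetherian local normal domain with maximal ideal m, let S be a normal domain
containing R on which a finite group G acts by R-algebra automorphisms, faithfully and with ring of
invariants exactly R (so that S is the integral closure of R in some finite Galois extension, with
group G, of Frac R), and let n be a maximal ideal of S over m. Then the inertia subgroup of n in G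
(the elements g with g s - s ∈ n for all s ∈ S) is trivial if and only if mS = n and the residue
field S/n is finite and separable over R/m. -/
theorem result
    (R S G : Type u) [CommRing R] [CommRing S] [IsDomain R] [IsDomain S]
    [IsNoetherianRing R] [IsLocalRing R] [IsIntegrallyClosed R]
    [IsAdicComplete (IsLocalRing.maximalIdeal R) R]
    [Algebra R S] [FaithfulSMul R S] [IsIntegrallyClosed S]
    [Group G] [Finite G] [MulSemiringAction G S] [SMulCommClass G R S] [IsGaloisGroup G R S]
    (n : Ideal S) [n.IsMaximal] [n.LiesOver (IsLocalRing.maximalIdeal R)] :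
    n.toAddSubgroup.inertia G = ⊥ ↔
      ((IsLocalRing.maximalIdeal R).map (algebraMap R S) = n ∧
        Module.Finite (R ⧸ IsLocalRing.maximalIdeal R) (S ⧸ n) ∧
        Algebra.IsSeparable (R ⧸ IsLocalRing.maximalIdeal R) (S ⧸ n)) := by
  classical
  haveI := Fintype.ofFinite G
  haveI := IsGaloisGroup.isInvariant (G := G) (A := R) (B := S)
  haveI : FaithfulSMul G S := IsGaloisGroup.faithful R
  haveI : Algebra.IsIntegral R S := Algebra.IsInvariant.isIntegral R S G
  haveI : HenselianLocalRing R := HenselLib.henselianLocalRing_of_henselianRing
  haveI : IsLocalRing S := GalCompleteLib.isLocalRing_of_integral_domain (R := R) S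
  obtain rfl : n = IsLocalRing.maximalIdeal S := IsLocalRing.eq_maximalIdeal ‹_›
  haveI : IsLocalHom (algebraMap R S) := ⟨fun a ha => by
    by_contra hn
    have h1 : a ∈ (IsLocalRing.maximalIdeal S).under R := by
      rw [← Ideal.over_def (IsLocalRing.maximalIdeal S) (IsLocalRing.maximalIdeal R)]; exact hn
    exact h1 ha⟩
  have halg : (Ideal.Quotient.algebraOfLiesOver (IsLocalRing.maximalIdeal S) (IsLocalRing.maximalIdeal R) :
      Algebra (R ⧸ IsLocalRing.maximalIdeal R) (S ⧸ IsLocalRing.maximalIdeal S)) =
      (inferInstanceAs (Algebra (IsLocalRing.ResidueField R) (IsLocalRing.ResidueField S))) :=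
    Algebra.algebra_ext _ _ fun x => by
      obtain ⟨a, rfl⟩ := Ideal.Quotient.mk_surjective x
      rfl
  constructor
  · intro hI
    obtain ⟨hfin, hmap, hsep⟩ := GalCompleteLib.unramified_of_inertia (R := R) (S := S) (G := G) fun g hg =>
      Subgroup.mem_bot.1 (hI ▸ (show g ∈ (IsLocalRing.maximalIdeal S).toAddSubgroup.inertia G from hg))
    refine ⟨hmap, Module.Finite.of_restrictScalars_finite R _ _, ?_⟩
    rw [halg]; exact hsep
  · rintro ⟨hmap, hfink, hsepk⟩
    rw [halg] at hfink hsepk
    let K := FractionRing R
    let L := FractionRing S
    letI := FractionRing.liftAlgebra R (FractionRing S)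
    letI := IsFractionRing.mulSemiringAction G S (FractionRing S)
    haveI : IsGaloisGroup G K L := IsGaloisGroup.toFractionRing G R S
    haveI : FiniteDimensional K L := IsGaloisGroup.finiteDimensional G K L
    haveI : IsGalois K L := IsGaloisGroup.isGalois G K L
    haveI : IsIntegralClosure S R L := IsIntegralClosure.of_isIntegrallyClosed _ _ _
    haveI : Module.Finite R S := IsIntegralClosure.finite R K L S
    refine (Subgroup.eq_bot_iff_forall _).2 fun g hg => ?_
    exact @GalCompleteLib.eq_one_of_unramified R S G _ _ _ _ _ _ _ _ _ _ _ hmap hfink hsepk g hg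

end Groth.Agent.S18535
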