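import Groth.Statements.S18536
import Groth.Agent.EtAlgCplLib.Local
-- import your own Groth.Agent.* helpers here

set_option autoImplicit false
set_option maxHeartbeats 2000000
set_option backward.isDefEq.respectTransparency false
universe u
open EtAlg

namespace Groth.Agent.S18536

/-- Let R be an excellent normal local domain with fraction field K, let L, M ⊇ K be two finite
separable field extensions, both contained in a field Ω that they generate, let A ⊆ Ω be the
localization of the integral closure of R in Ω at one of its maximal ideals, and put S = A ∩ L, T =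
A ∩ M (local rings dominated by A); the completions at the maximal ideals give maps Ŝ → Â ← T̂ (the
algebra structures below are these inclusions and completed inclusions, pinned by the stated
compatibilities). If the residue field of A is generated, over the residue field of S, by the image
of the residue field of T, then the fraction field of Â is the compositum of the fraction fields of
Ŝ and T̂ inside it: every element of Â is a quotient of two elements of the subring of Â generated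
by the images of Ŝ and T̂. -/
theorem result
    (R K L M Ω : Type u) [CommRing R] [IsDomain R] [IsLocalRing R] [IsIntegrallyClosed R]
    (hR : EGA4.IsExcellent R)
    [Field K] [Field L] [Field M] [Field Ω]
    [Algebra R K] [IsFractionRing R K]
    [Algebra K L] [Algebra K M] [Algebra K Ω] [Algebra L Ω] [Algebra M Ω]
    [IsScalarTower K L Ω] [IsScalarTower K M Ω]
    [FiniteDimensional K L] [FiniteDimensional K M] [Algebra.IsSeparable K L] [Algebra.IsSeparable K M]
    (hΩ : IntermediateField.adjoin K (Set.range (algebraMap L Ω) ∪ Set.range (algebraMap M Ω)) = ⊤)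
    [Algebra R L] [Algebra R M] [Algebra R Ω] [IsScalarTower R K L] [IsScalarTower R K M] [IsScalarTower R K Ω]
    [IsScalarTower R L Ω] [IsScalarTower R M Ω]
    (𝔪 : Ideal ↥(integralClosure R Ω)) [𝔪.IsMaximal]
    (A : Subalgebra R Ω)
    (hA : ∀ z : Ω, z ∈ A ↔ ∃ a b : ↥(integralClosure R Ω), b ∉ 𝔪 ∧ z * (b : Ω) = (a : Ω))
    [IsLocalRing ↥A] [IsLocalRing ↥(Subalgebra.comap (IsScalarTower.toAlgHom R L Ω) A)] [IsLocalRing ↥(Subalgebra.comap (IsScalarTower.toAlgHom R M Ω) A)]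
    [Algebra ↥(Subalgebra.comap (IsScalarTower.toAlgHom R L Ω) A) ↥A]
    (hSA : ∀ s : ↥(Subalgebra.comap (IsScalarTower.toAlgHom R L Ω) A), ((algebraMap ↥(Subalgebra.comap (IsScalarTower.toAlgHom R L Ω) A) ↥A s : ↥A) : Ω) = algebraMap L Ω (s : L))
    [Algebra ↥(Subalgebra.comap (IsScalarTower.toAlgHom R M Ω) A) ↥A]
    (hTA : ∀ t : ↥(Subalgebra.comap (IsScalarTower.toAlgHom R M Ω) A), ((algebraMap ↥(Subalgebra.comap (IsScalarTower.toAlgHom R M Ω) A) ↥A t : ↥A) : Ω) = algebraMap M Ω (t : M))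
    [Algebra (EGA4.Cpl ↥(Subalgebra.comap (IsScalarTower.toAlgHom R L Ω) A)) (EGA4.Cpl ↥A)]
    (hcS : ∀ s : ↥(Subalgebra.comap (IsScalarTower.toAlgHom R L Ω) A), algebraMap (EGA4.Cpl ↥(Subalgebra.comap (IsScalarTower.toAlgHom R L Ω) A)) (EGA4.Cpl ↥A) (algebraMap ↥(Subalgebra.comap (IsScalarTower.toAlgHom R L Ω) A) (EGA4.Cpl ↥(Subalgebra.comap (IsScalarTower.toAlgHom R L Ω) A)) s) =
      algebraMap ↥A (EGA4.Cpl ↥A) (algebraMap ↥(Subalgebra.comap (IsScalarTower.toAlgHom R L Ω) A) ↥A s))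
    [Algebra (EGA4.Cpl ↥(Subalgebra.comap (IsScalarTower.toAlgHom R M Ω) A)) (EGA4.Cpl ↥A)]
    (hcT : ∀ t : ↥(Subalgebra.comap (IsScalarTower.toAlgHom R M Ω) A), algebraMap (EGA4.Cpl ↥(Subalgebra.comap (IsScalarTower.toAlgHom R M Ω) A)) (EGA4.Cpl ↥A) (algebraMap ↥(Subalgebra.comap (IsScalarTower.toAlgHom R M Ω) A) (EGA4.Cpl ↥(Subalgebra.comap (IsScalarTower.toAlgHom R M Ω) A)) t) =
      algebraMap ↥A (EGA4.Cpl ↥A) (algebraMap ↥(Subalgebra.comap (IsScalarTower.toAlgHom R M Ω) A) ↥A t))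
    [(IsLocalRing.maximalIdeal ↥A).LiesOver (IsLocalRing.maximalIdeal ↥(Subalgebra.comap (IsScalarTower.toAlgHom R M Ω) A))]
    [(IsLocalRing.maximalIdeal ↥A).LiesOver (IsLocalRing.maximalIdeal ↥(Subalgebra.comap (IsScalarTower.toAlgHom R L Ω) A))]
    (hres : Algebra.adjoin (↥(Subalgebra.comap (IsScalarTower.toAlgHom R L Ω) A) ⧸ IsLocalRing.maximalIdeal ↥(Subalgebra.comap (IsScalarTower.toAlgHom R L Ω) A))
      (Set.range (algebraMap (↥(Subalgebra.comap (IsScalarTower.toAlgHom R M Ω) A) ⧸ IsLocalRing.maximalIdeal ↥(Subalgebra.comap (IsScalarTower.toAlgHom R M Ω) A)) (↥A ⧸ IsLocalRing.maximalIdeal ↥A))) = ⊤) :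
    ∀ x : (EGA4.Cpl ↥A), ∃ a b : (EGA4.Cpl ↥A), a ∈ Algebra.adjoin (EGA4.Cpl ↥(Subalgebra.comap (IsScalarTower.toAlgHom R L Ω) A)) (Set.range (algebraMap (EGA4.Cpl ↥(Subalgebra.comap (IsScalarTower.toAlgHom R M Ω) A)) (EGA4.Cpl ↥A))) ∧ b ∈ Algebra.adjoin (EGA4.Cpl ↥(Subalgebra.comap (IsScalarTower.toAlgHom R L Ω) A)) (Set.range (algebraMap (EGA4.Cpl ↥(Subalgebra.comap (IsScalarTower.toAlgHom R M Ω) A)) (EGA4.Cpl ↥A))) ∧ b ≠ 0 ∧ x * b = a := by
  haveI := hR.1
  have hreg := EtAlgCplLib.isRegularHom_of_excellent R hR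
  obtain ⟨_, _⟩ := EtAlgCplLib.separable_compositum hΩ
  obtain ⟨hN, hdom, -, hθA, -⟩ := EtAlgCplLib.local_facts R K hreg A 𝔪 (EtAlgCplLib.closure_le hA)
    (EtAlgCplLib.isLocalization_A hA)
  haveI : (𝔪.comap (EtAlgCplLib.closureMap R L)).IsMaximal := EtAlgCplLib.isMaximal_comap R L 𝔪
  obtain ⟨hNS, -, -, hθS, -⟩ := EtAlgCplLib.local_facts R K hreg (Subalgebra.comap (IsScalarTower.toAlgHom R L Ω) A)
    (𝔪.comap (EtAlgCplLib.closureMap R L)) (EtAlgCplLib.closure_le_comap hA)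
    (EtAlgCplLib.isLocalization_comap (K := K) hA)
  obtain ⟨ψS, hψS⟩ := EtAlgCplLib.exists_psi _ hθS
  intro x
  let D := (Algebra.adjoin (EGA4.Cpl ↥(Subalgebra.comap (IsScalarTower.toAlgHom R L Ω) A))
    (Set.range (algebraMap (EGA4.Cpl ↥(Subalgebra.comap (IsScalarTower.toAlgHom R M Ω) A)) (EGA4.Cpl ↥A)))).toSubring
  let ψ : EGA4.Cpl R →+* EGA4.Cpl ↥A :=
    (algebraMap (EGA4.Cpl ↥(Subalgebra.comap (IsScalarTower.toAlgHom R L Ω) A)) (EGA4.Cpl ↥A)).comp ψS
  have hψ : ∀ r, ψ (algebraMap R (EGA4.Cpl R) r) = algebraMap ↥A (EGA4.Cpl ↥A) (algebraMap R ↥A r) := fun r => by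
    refine (congrArg (algebraMap _ _) (hψS r)).trans ((hcS _).trans (congrArg (algebraMap ↥A (EGA4.Cpl ↥A)) ?_))
    refine Subtype.ext ((hSA _).trans ?_)
    exact (IsScalarTower.algebraMap_apply R L Ω r).symm
  have htop := EtAlgCplLib.eq_top_of_traces hΩ hA ψ hψ D
    (fun a => EtAlgCplLib.le_fracClosure (Subalgebra.algebraMap_mem _ (ψS a)))
    (fun l a ha => ?_) (fun m a ha => ?_)
  · obtain ⟨a, b, ha, hb, hb0, h⟩ := (show x ∈ EtAlgCplLib.fracClosure D by rw [htop]; trivial)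
    exact ⟨a, b, ha, hb, hb0, h⟩
  · let s : ↥(Subalgebra.comap (IsScalarTower.toAlgHom R L Ω) A) := ⟨l, show algebraMap L Ω l ∈ A from ha ▸ a.2⟩
    have hs : algebraMap _ ↥A s = a := Subtype.ext ((hSA s).trans ha.symm)
    rw [← hs, ← hcS]
    exact EtAlgCplLib.le_fracClosure (Subalgebra.algebraMap_mem _ _)
  · let t : ↥(Subalgebra.comap (IsScalarTower.toAlgHom R M Ω) A) := ⟨m, show algebraMap M Ω m ∈ A from ha ▸ a.2⟩
    have ht : algebraMap _ ↥A t = a := Subtype.ext ((hTA t).trans ha.symm)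
    rw [← ht, ← hcT]
    exact EtAlgCplLib.le_fracClosure (Algebra.subset_adjoin ⟨_, rfl⟩)

end Groth.Agent.S18536
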