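import Groth.Statements.S18537
import Groth.Agent.EtAlgCplLib.Local
-- import your own Groth.Agent.* helpers here

set_option autoImplicit false
set_option maxHeartbeats 2000000
set_option backward.isDefEq.respectTransparency false
universe u
open EtAlg

namespace Groth.Agent.S18537

/-- Let R be an excellent normal local domain with fraction field K, let L, M ⊇ K be two finite
separable field extensions, both contained in a field Ω that they generate, let A ⊆ Ω be the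
localization of the integral closure of R in Ω at one of its maximal ideals, and put S = A ∩ L, T =
A ∩ M; these are local rings, T ⊆ A, and the completions at the maximal ideals give maps Ŝ → Â ← T̂
(the algebra structures below are these inclusions and completed inclusions, pinned by the stated
compatibilities). If, inside the fraction field of Â, the ring Ŝ lies in the fraction field of T̂
(every element of Ŝ becomes a quotient of two elements of T̂), then A is unramified over T: m_T A =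
m_A and A/m_A is a finite separable extension of T/m_T. -/
theorem result
    (R K L M Ω : Type u) [CommRing R] [IsDomain R] [IsLocalRing R] [IsIntegrallyClosed R]
    (hR : EGA4.IsExcellent R)
    [Field K] [Field L] [Field M] [Field Ω]
    [Algebra R K] [IsFractionRing R K]
    [Algebra K L] [Algebra K M] [Algebra K Ω] [Algebra L Ω] [Algebra M Ω]
    [IsScalarTower K L Ω] [IsScalarTower K M Ω]
    [FiniteDimensional K L] [FiniteDimensional K M] [Algebra.IsSeparable K L] [Algebra.IsSeparable K M]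
    (hΩ : IntermediateField.adjoin K (Set.range (algebraMap L Ω) ∪ Set.range (algebraMap M Ω)) = ⊤)
    [Algebra R L] [Algebra R M] [Algebra R Ω] [IsScalarTower R K L] [IsScalarTower R K M] [IsScalarTower R K Ω]
    [IsScalarTower R L Ω] [IsScalarTower R M Ω]
    (𝔪 : Ideal ↥(integralClosure R Ω)) [𝔪.IsMaximal]
    (A : Subalgebra R Ω)
    (hA : ∀ z : Ω, z ∈ A ↔ ∃ a b : ↥(integralClosure R Ω), b ∉ 𝔪 ∧ z * (b : Ω) = (a : Ω))
    [IsLocalRing ↥A] [IsLocalRing ↥(Subalgebra.comap (IsScalarTower.toAlgHom R L Ω) A)] [IsLocalRing ↥(Subalgebra.comap (IsScalarTower.toAlgHom R M Ω) A)]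
    [Algebra ↥(Subalgebra.comap (IsScalarTower.toAlgHom R L Ω) A) ↥A]
    (hSA : ∀ s : ↥(Subalgebra.comap (IsScalarTower.toAlgHom R L Ω) A), ((algebraMap ↥(Subalgebra.comap (IsScalarTower.toAlgHom R L Ω) A) ↥A s : ↥A) : Ω) = algebraMap L Ω (s : L))
    [Algebra ↥(Subalgebra.comap (IsScalarTower.toAlgHom R M Ω) A) ↥A]
    (hTA : ∀ t : ↥(Subalgebra.comap (IsScalarTower.toAlgHom R M Ω) A), ((algebraMap ↥(Subalgebra.comap (IsScalarTower.toAlgHom R M Ω) A) ↥A t : ↥A) : Ω) = algebraMap M Ω (t : M))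
    [Algebra (EGA4.Cpl ↥(Subalgebra.comap (IsScalarTower.toAlgHom R L Ω) A)) (EGA4.Cpl ↥A)]
    (hcS : ∀ s : ↥(Subalgebra.comap (IsScalarTower.toAlgHom R L Ω) A), algebraMap (EGA4.Cpl ↥(Subalgebra.comap (IsScalarTower.toAlgHom R L Ω) A)) (EGA4.Cpl ↥A) (algebraMap ↥(Subalgebra.comap (IsScalarTower.toAlgHom R L Ω) A) (EGA4.Cpl ↥(Subalgebra.comap (IsScalarTower.toAlgHom R L Ω) A)) s) =
      algebraMap ↥A (EGA4.Cpl ↥A) (algebraMap ↥(Subalgebra.comap (IsScalarTower.toAlgHom R L Ω) A) ↥A s))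
    [Algebra (EGA4.Cpl ↥(Subalgebra.comap (IsScalarTower.toAlgHom R M Ω) A)) (EGA4.Cpl ↥A)]
    (hcT : ∀ t : ↥(Subalgebra.comap (IsScalarTower.toAlgHom R M Ω) A), algebraMap (EGA4.Cpl ↥(Subalgebra.comap (IsScalarTower.toAlgHom R M Ω) A)) (EGA4.Cpl ↥A) (algebraMap ↥(Subalgebra.comap (IsScalarTower.toAlgHom R M Ω) A) (EGA4.Cpl ↥(Subalgebra.comap (IsScalarTower.toAlgHom R M Ω) A)) t) =
      algebraMap ↥A (EGA4.Cpl ↥A) (algebraMap ↥(Subalgebra.comap (IsScalarTower.toAlgHom R M Ω) A) ↥A t))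
    [(IsLocalRing.maximalIdeal ↥A).LiesOver (IsLocalRing.maximalIdeal ↥(Subalgebra.comap (IsScalarTower.toAlgHom R M Ω) A))]
    (hLM : ∀ x : (EGA4.Cpl ↥(Subalgebra.comap (IsScalarTower.toAlgHom R L Ω) A)), ∃ a b : (EGA4.Cpl ↥(Subalgebra.comap (IsScalarTower.toAlgHom R M Ω) A)), algebraMap (EGA4.Cpl ↥(Subalgebra.comap (IsScalarTower.toAlgHom R M Ω) A)) (EGA4.Cpl ↥A) b ≠ 0 ∧
      algebraMap (EGA4.Cpl ↥(Subalgebra.comap (IsScalarTower.toAlgHom R L Ω) A)) (EGA4.Cpl ↥A) x * algebraMap (EGA4.Cpl ↥(Subalgebra.comap (IsScalarTower.toAlgHom R M Ω) A)) (EGA4.Cpl ↥A) b = algebraMap (EGA4.Cpl ↥(Subalgebra.comap (IsScalarTower.toAlgHom R M Ω) A)) (EGA4.Cpl ↥A) a) :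
    (IsLocalRing.maximalIdeal ↥(Subalgebra.comap (IsScalarTower.toAlgHom R M Ω) A)).map (algebraMap ↥(Subalgebra.comap (IsScalarTower.toAlgHom R M Ω) A) ↥A) = IsLocalRing.maximalIdeal ↥A ∧
      Module.Finite (↥(Subalgebra.comap (IsScalarTower.toAlgHom R M Ω) A) ⧸ IsLocalRing.maximalIdeal ↥(Subalgebra.comap (IsScalarTower.toAlgHom R M Ω) A)) (↥A ⧸ IsLocalRing.maximalIdeal ↥A) ∧
      Algebra.IsSeparable (↥(Subalgebra.comap (IsScalarTower.toAlgHom R M Ω) A) ⧸ IsLocalRing.maximalIdeal ↥(Subalgebra.comap (IsScalarTower.toAlgHom R M Ω) A)) (↥A ⧸ IsLocalRing.maximalIdeal ↥A) := by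
  haveI := hR.1
  have hreg := EtAlgCplLib.isRegularHom_of_excellent R hR
  obtain ⟨_, _⟩ := EtAlgCplLib.separable_compositum hΩ
  obtain ⟨hN, hdom, -, hθA, hAfacts⟩ := EtAlgCplLib.local_facts R K hreg A 𝔪 (EtAlgCplLib.closure_le hA)
    (EtAlgCplLib.isLocalization_A hA)
  haveI : (𝔪.comap (EtAlgCplLib.closureMap R L)).IsMaximal := EtAlgCplLib.isMaximal_comap R L 𝔪
  obtain ⟨hNS, -, -, hθS, -⟩ := EtAlgCplLib.local_facts R K hreg (Subalgebra.comap (IsScalarTower.toAlgHom R L Ω) A)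
    (𝔪.comap (EtAlgCplLib.closureMap R L)) (EtAlgCplLib.closure_le_comap hA)
    (EtAlgCplLib.isLocalization_comap (K := K) hA)
  haveI : (𝔪.comap (EtAlgCplLib.closureMap R M)).IsMaximal := EtAlgCplLib.isMaximal_comap R M 𝔪
  obtain ⟨hNT, hdomT, hicT, hθT, hTfacts⟩ := EtAlgCplLib.local_facts R K hreg (Subalgebra.comap (IsScalarTower.toAlgHom R M Ω) A)
    (𝔪.comap (EtAlgCplLib.closureMap R M)) (EtAlgCplLib.closure_le_comap hA)
    (EtAlgCplLib.isLocalization_comap (K := K) hA)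
  obtain ⟨ψT, hψT⟩ := EtAlgCplLib.exists_psi _ hθT
  obtain ⟨hψTint, -⟩ := hTfacts ψT hψT
  let T := Subalgebra.comap (IsScalarTower.toAlgHom R M Ω) A
  let fT := algebraMap (EGA4.Cpl ↥T) (EGA4.Cpl ↥A)
  let ψ : EGA4.Cpl R →+* EGA4.Cpl ↥A := fT.comp ψT
  have hψ : ∀ r, ψ (algebraMap R (EGA4.Cpl R) r) = algebraMap ↥A (EGA4.Cpl ↥A) (algebraMap R ↥A r) := fun r => by
    refine (congrArg fT (hψT r)).trans ((hcT _).trans (congrArg (algebraMap ↥A (EGA4.Cpl ↥A)) ?_))
    refine Subtype.ext ((hTA _).trans ?_)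
    exact (IsScalarTower.algebraMap_apply R M Ω r).symm
  obtain ⟨hψint, hψinj⟩ := hAfacts ψ hψ
  -- `fT` is injective
  have hker : RingHom.ker fT = ⊥ := by
    haveI : (RingHom.ker fT).IsPrime := RingHom.ker_isPrime _
    letI := ψT.toAlgebra
    haveI : Algebra.IsIntegral (EGA4.Cpl R) (EGA4.Cpl ↥T) := ⟨hψTint⟩
    refine Ideal.eq_bot_of_comap_eq_bot (R := EGA4.Cpl R) (eq_bot_iff.2 fun a ha => ?_)
    exact Ideal.mem_bot.2 (hψinj ((show ψ a = 0 from ha).trans (map_zero ψ).symm))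
  have hfinj : Function.Injective fT := (RingHom.injective_iff_ker_eq_bot _).2 hker
  have htop := EtAlgCplLib.eq_top_of_traces hΩ hA ψ hψ fT.range
    (fun a => EtAlgCplLib.le_fracClosure ⟨ψT a, rfl⟩)
    (fun l a ha => ?_) (fun m a ha => ?_)
  rotate_left
  · let s : ↥(Subalgebra.comap (IsScalarTower.toAlgHom R L Ω) A) := ⟨l, show algebraMap L Ω l ∈ A from ha ▸ a.2⟩
    have hs : algebraMap _ ↥A s = a := Subtype.ext ((hSA s).trans ha.symm)
    rw [← hs, ← hcS]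
    obtain ⟨c, d, hd, hcd⟩ := hLM (algebraMap _ _ s)
    exact ⟨_, _, ⟨c, rfl⟩, ⟨d, rfl⟩, hd, hcd⟩
  · let t : ↥(Subalgebra.comap (IsScalarTower.toAlgHom R M Ω) A) := ⟨m, show algebraMap M Ω m ∈ A from ha ▸ a.2⟩
    have ht : algebraMap _ ↥A t = a := Subtype.ext ((hTA t).trans ha.symm)
    rw [← ht, ← hcT]
    exact EtAlgCplLib.le_fracClosure ⟨_, rfl⟩
  -- surjectivity by normality
  have hsurj : Function.Surjective fT := by
    intro x
    obtain ⟨_, _, ⟨c, rfl⟩, ⟨d, rfl⟩, hd0, hcd⟩ := (show x ∈ EtAlgCplLib.fracClosure fT.range by rw [htop]; trivial)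
    have hintx : fT.IsIntegralElem x := (RingHom.IsIntegral.tower_top ψT fT hψint) x
    obtain ⟨p, hp, hpx⟩ := hintx
    haveI := hdomT
    haveI := hicT
    let F := FractionRing (EGA4.Cpl ↥T)
    let E := FractionRing (EGA4.Cpl ↥A)
    haveI : FaithfulSMul (EGA4.Cpl ↥T) (EGA4.Cpl ↥A) := (faithfulSMul_iff_algebraMap_injective _ _).2 hfinj
    letI : Algebra F E := FractionRing.liftAlgebra (EGA4.Cpl ↥T) E
    let q : F := algebraMap _ F c / algebraMap _ F d
    have hq : algebraMap F E q = algebraMap (EGA4.Cpl ↥A) E x := by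
      rw [map_div₀, ← IsScalarTower.algebraMap_apply, ← IsScalarTower.algebraMap_apply,
        IsScalarTower.algebraMap_apply (EGA4.Cpl ↥T) (EGA4.Cpl ↥A) E c,
        IsScalarTower.algebraMap_apply (EGA4.Cpl ↥T) (EGA4.Cpl ↥A) E d, div_eq_iff
          (fun h => hd0 (IsFractionRing.injective (EGA4.Cpl ↥A) E (h.trans (map_zero _).symm))), ← map_mul]
      exact congrArg _ hcd.symm
    have hqint : IsIntegral (EGA4.Cpl ↥T) q := by
      rw [← isIntegral_algebraMap_iff (A := F) (B := E) (algebraMap F E).injective, hq]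
      exact IsIntegral.map (IsScalarTower.toAlgHom (EGA4.Cpl ↥T) (EGA4.Cpl ↥A) E) ⟨p, hp, hpx⟩
    obtain ⟨e, he⟩ := IsIntegrallyClosed.algebraMap_eq_of_integral hqint
    exact ⟨e, IsFractionRing.injective (EGA4.Cpl ↥A) E (by
      rw [← hq, ← he, ← IsScalarTower.algebraMap_apply, ← IsScalarTower.algebraMap_apply])⟩
  have hmT : IsLocalRing.maximalIdeal (EGA4.Cpl ↥T) = (IsLocalRing.maximalIdeal ↥T).map (algebraMap ↥T (EGA4.Cpl ↥T)) :=
    AdicCompletion.maximalIdeal_eq_map ..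
  have hmA : IsLocalRing.maximalIdeal (EGA4.Cpl ↥A) = (IsLocalRing.maximalIdeal ↥A).map (algebraMap ↥A (EGA4.Cpl ↥A)) :=
    AdicCompletion.maximalIdeal_eq_map ..
  haveI : Module.FaithfullyFlat ↥A (EGA4.Cpl ↥A) := GeomRedFibLib.faithfullyFlat_hat ↥A
  have hmax : (IsLocalRing.maximalIdeal ↥T).map (algebraMap ↥T ↥A) = IsLocalRing.maximalIdeal ↥A := by
    refine le_antisymm (Ideal.map_le_iff_le_comap.2 (Ideal.LiesOver.over (P := IsLocalRing.maximalIdeal ↥A)
      (p := IsLocalRing.maximalIdeal ↥T)).le) fun a ha => ?_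
    rw [← Ideal.comap_map_eq_self_of_faithfullyFlat (B := EGA4.Cpl ↥A) ((IsLocalRing.maximalIdeal ↥T).map (algebraMap ↥T ↥A)),
      Ideal.mem_comap, Ideal.map_map,
      show (algebraMap ↥A (EGA4.Cpl ↥A)).comp (algebraMap ↥T ↥A) = fT.comp (algebraMap ↥T (EGA4.Cpl ↥T)) from
        RingHom.ext fun t => (hcT t).symm, ← Ideal.map_map, ← hmT]
    have hmem : algebraMap ↥A (EGA4.Cpl ↥A) a ∈ IsLocalRing.maximalIdeal (EGA4.Cpl ↥A) := by
      rw [hmA]; exact Ideal.mem_map_of_mem _ ha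
    obtain ⟨y, hy⟩ := hsurj (algebraMap ↥A (EGA4.Cpl ↥A) a)
    rw [← hy]
    refine Ideal.mem_map_of_mem _ ?_
    by_contra hyu
    rw [IsLocalRing.mem_maximalIdeal, mem_nonunits_iff, not_not] at hyu
    exact (IsLocalRing.mem_maximalIdeal _).1 hmem (hy ▸ hyu.map fT)
  have hres : Function.Surjective (algebraMap (↥T ⧸ IsLocalRing.maximalIdeal ↥T) (↥A ⧸ IsLocalRing.maximalIdeal ↥A)) := by
    intro z
    obtain ⟨a, rfl⟩ := Ideal.Quotient.mk_surjective z
    obtain ⟨y, hy⟩ := hsurj (algebraMap ↥A (EGA4.Cpl ↥A) a)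
    obtain ⟨t, ht⟩ := AdicRingLib.exists_sub_mem_map_pow (IsNoetherian.noetherian (IsLocalRing.maximalIdeal ↥T)) 1 y
    rw [pow_one, ← hmT] at ht
    refine ⟨Ideal.Quotient.mk _ t, ?_⟩
    rw [Ideal.Quotient.algebraMap_mk_of_liesOver, Ideal.Quotient.mk_eq_mk_iff_sub_mem]
    by_contra hu
    rw [IsLocalRing.mem_maximalIdeal, mem_nonunits_iff, not_not] at hu
    have h1 : IsUnit (fT (algebraMap ↥T (EGA4.Cpl ↥T) t - y)) := by
      rw [map_sub, hy, hcT, ← map_sub]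
      exact hu.map _
    have h2 : algebraMap ↥T (EGA4.Cpl ↥T) t - y ∈ IsLocalRing.maximalIdeal (EGA4.Cpl ↥T) := by
      simpa using (IsLocalRing.maximalIdeal (EGA4.Cpl ↥T)).neg_mem ht
    refine (IsLocalRing.mem_maximalIdeal _).1 h2 ?_
    obtain ⟨w, hw⟩ := hsurj (↑h1.unit⁻¹)
    exact IsUnit.of_mul_eq_one w (hfinj (by rw [map_mul, hw, IsUnit.mul_val_inv, map_one]))
  refine ⟨hmax, Module.Finite.of_surjective (Algebra.linearMap _ _) hres, ?_⟩
  letI := Ideal.Quotient.field (IsLocalRing.maximalIdeal ↥T)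
  exact ⟨fun z => by
    obtain ⟨w, rfl⟩ := hres z
    exact isSeparable_algebraMap w⟩

end Groth.Agent.S18537
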