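import Groth.Statements.S18538
import Mathlib.RingTheory.TensorProduct.IncludeLeftSubRight
-- import your own Groth.Agent.* helpers here

set_option autoImplicit false
universe u
open EtAlg

open scoped TensorProduct
namespace Groth.Agent.S18538

/-- Let A ⊆ B be an injective finite extension of integrally closed domains, with fraction fields K ⊆ L
and L separable over K. Then A → B → B ⊗_A B is exact, the second map being b ↦ b ⊗ 1 - 1 ⊗ b: every
element of B whose two images in B ⊗_A B agree comes from A. -/
theorem result
    (A B K L : Type u) [CommRing A] [CommRing B] [IsDomain A] [IsDomain B]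
    [IsIntegrallyClosed A] [IsIntegrallyClosed B] [Algebra A B] [FaithfulSMul A B] [Module.Finite A B]
    [Field K] [Field L] [Algebra A K] [IsFractionRing A K] [Algebra B L] [IsFractionRing B L]
    [Algebra K L] [Algebra A L] [IsScalarTower A K L] [IsScalarTower A B L]
    [Algebra.IsSeparable K L] :
    Algebra.IsEffective A B := by
  intro b
  refine ⟨fun hb => ?_, fun hb => Algebra.TensorProduct.includeLeftSubRight_zero_of_mem_range hb⟩
  rw [Algebra.TensorProduct.includeLeftSubRight_apply, sub_eq_zero] at hb
  let i : B →ₐ[A] L := IsScalarTower.toAlgHom A B L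
  let Φ : B ⊗[A] B →ₐ[A] L ⊗[K] L := Algebra.TensorProduct.lift
    (((Algebra.TensorProduct.includeLeft : L →ₐ[K] L ⊗[K] L).restrictScalars A).comp i)
    (((Algebra.TensorProduct.includeRight : L →ₐ[K] L ⊗[K] L).restrictScalars A).comp i) fun _ _ => Commute.all _ _
  have h := congrArg Φ hb
  rw [Algebra.TensorProduct.lift_tmul, Algebra.TensorProduct.lift_tmul, map_one, map_one, mul_one, one_mul] at h
  have hK : Algebra.IsEffective K L := Algebra.IsEffective.of_faithfullyFlat K L
  obtain ⟨c, hc⟩ := (hK (algebraMap B L b)).1 (by
    rw [Algebra.TensorProduct.includeLeftSubRight_apply, sub_eq_zero]; exact h)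
  have hint : IsIntegral A c := by
    refine (isIntegral_algHom_iff (IsScalarTower.toAlgHom A K L) (algebraMap K L).injective).1 ?_
    show IsIntegral A (algebraMap K L c)
    rw [show algebraMap K L c = algebraMap B L b from hc]
    exact (Algebra.IsIntegral.isIntegral b).map i
  obtain ⟨a, rfl⟩ := IsIntegrallyClosed.isIntegral_iff.1 hint
  refine ⟨a, IsFractionRing.injective B L ?_⟩
  rw [← hc]
  show algebraMap B L (algebraMap A B a) = algebraMap K L (algebraMap A K a)
  rw [← IsScalarTower.algebraMap_apply, ← IsScalarTower.algebraMap_apply]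

end Groth.Agent.S18538
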