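import Groth.Statements.S18539
import Mathlib.RingTheory.Regular.RegularSequence

set_option autoImplicit false
universe u v w
open CAlg
open scoped Pointwise

namespace Groth.Agent.S18539

/-- For a commutative ring R, R-modules M and N and elements r₁, r₂ of R such that r₁ is a
non-zero-divisor on N and r₂ is a non-zero-divisor on N/r₁N, the element r₁ is a non-zero-divisor on
the module Hom_R(M, N) and r₂ is a non-zero-divisor on Hom_R(M, N)/r₁Hom_R(M, N). (Weak regularity
on both sides: no condition that the quotient by (r₁, r₂) is nonzero, which would fail for M = 0.) -/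
theorem result
    (R : Type u) [CommRing R] (M : Type v) (N : Type w)
    [AddCommGroup M] [Module R M] [AddCommGroup N] [Module R N]
    (r₁ r₂ : R) (h : RingTheory.Sequence.IsWeaklyRegular N [r₁, r₂]) :
    RingTheory.Sequence.IsWeaklyRegular (M →ₗ[R] N) [r₁, r₂] := by
  rw [RingTheory.Sequence.isWeaklyRegular_cons_iff, RingTheory.Sequence.isWeaklyRegular_singleton_iff] at h ⊢
  obtain ⟨h1, h2⟩ := h
  refine ⟨fun φ ψ he => LinearMap.ext fun m => h1 (LinearMap.congr_fun he m), ?_⟩
  rw [isSMulRegular_iff_right_eq_zero_of_smul]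
  intro q hq
  induction q using Submodule.Quotient.induction_on with
  | H φ =>
    rw [← Submodule.Quotient.mk_smul, Submodule.Quotient.mk_eq_zero] at hq
    obtain ⟨ψ, -, hψ⟩ := (Submodule.mem_smul_pointwise_iff_exists _ _ _).1 hq
    have hpt : ∀ m, ∃ z, r₁ • z = φ m := fun m => by
      have h3 : Submodule.Quotient.mk (p := r₁ • (⊤ : Submodule R N)) (φ m) = 0 := by
        refine (isSMulRegular_iff_right_eq_zero_of_smul.1 h2) _ ?_
        rw [← Submodule.Quotient.mk_smul, Submodule.Quotient.mk_eq_zero]
        exact (Submodule.mem_smul_pointwise_iff_exists _ _ _).2 ⟨ψ m, trivial, LinearMap.congr_fun hψ m⟩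
      obtain ⟨z, -, hz⟩ := (Submodule.mem_smul_pointwise_iff_exists _ _ _).1
        ((Submodule.Quotient.mk_eq_zero _).1 h3)
      exact ⟨z, hz⟩
    choose χ hχ using hpt
    let χ' : M →ₗ[R] N :=
      { toFun := χ
        map_add' := fun a b => h1 (show r₁ • χ (a + b) = r₁ • (χ a + χ b) by
          rw [smul_add, hχ, hχ, hχ, map_add])
        map_smul' := fun c a => h1 (show r₁ • χ (c • a) = r₁ • (c • χ a) by
          rw [smul_comm, hχ, hχ, map_smul]) }
    rw [Submodule.Quotient.mk_eq_zero]
    exact (Submodule.mem_smul_pointwise_iff_exists _ _ _).2 ⟨χ', trivial, LinearMap.ext hχ⟩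

end Groth.Agent.S18539
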