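import Groth.Statements.S1854
import Groth.Agent.CycDetLib.Gamma
import Mathlib.LinearAlgebra.TensorProduct.Basic

set_option autoImplicit false
universe u
open TensorProduct
open CycDet

namespace Groth.Agent.S1854

/-- Existence and the defining rule; the compatibilities (1)–(3) of the source are not restated: let 0 →
K → L → M → 0 be a short exact sequence of finite length modules over a local ring with residue
field κ. There is a κ-linear isomorphism γ : det_κ(K) ⊗ det_κ(M) → det_κ(L) such that whenever (e_i)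
is an admissible tuple of K with nonzero symbol, (f̄_j) an admissible tuple of M, and (g) the
admissible tuple of L consisting of the images of the e_i followed by lifts of the f̄_j, one has
γ([e] ⊗ [f̄]) = [g]. -/
theorem result (R : Type u) [CommRing R] [IsLocalRing R] (K L M : Type u) [AddCommGroup K] [Module R K] [AddCommGroup L] [Module R L] [AddCommGroup M] [Module R M] (hK : IsFiniteLength R K) (hM : IsFiniteLength R M) (f : K →ₗ[R] L) (g : L →ₗ[R] M) (hf : Function.Injective f) (hg : Function.Surjective g) (hfg : LinearMap.range f = LinearMap.ker g) (hlen : (Module.length R K).toNat + (Module.length R M).toNat = (Module.length R L).toNat) : ∃ γ : (CycDet.Det R K ⊗[IsLocalRing.ResidueField R] CycDet.Det R M) ≃ₗ[IsLocalRing.ResidueField R] CycDet.Det R L, ∀ (eK : CycDet.Adm R K (Module.length R K).toNat) (eM : CycDet.Adm R M (Module.length R M).toNat) (eL : CycDet.Adm R L (Module.length R L).toNat), CycDet.symbol R K eK ≠ 0 → (∀ i : Fin (Module.length R K).toNat, eL.1 (Fin.cast hlen (Fin.castAdd (Module.length R M).toNat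 i)) = f (eK.1 i)) → (∀ j : Fin (Module.length R M).toNat, g (eL.1 (Fin.cast hlen (Fin.natAdd (Module.length R K).toNat j))) = eM.1 j) → γ (CycDet.symbol R K eK ⊗ₜ CycDet.symbol R M eM) = CycDet.symbol R L eL := by
  obtain ⟨FK, hFK⟩ := CycDetLib.exists_ref_toNat hK
  obtain ⟨FM, hFM⟩ := CycDetLib.exists_ref_toNat hM
  let z := fun j => Function.surjInv hg (FM.f.1 j)
  let eF : Fin (Module.length R L).toNat → L := fun i => Fin.append (fun i => f (FK.f.1 i)) z (Fin.cast hlen.symm i)
  have hov : CycDetLib.Over' f g hlen FK.f.1 FM.f.1 eF :=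
    ⟨fun i => by simp [eF], fun j => by simp [eF, z, Function.surjInv_eq hg]⟩
  let FL : CycDetLib.Ref R L (Module.length R L).toNat :=
    ⟨⟨eF, CycDetLib.adm_of_over hov hfg FK.span_eq FK.f.2 FM.f.2⟩, CycDetLib.span_of_over hov hfg FK.span_eq FM.span_eq⟩
  have hval : CycDetLib.phi FL eF = 1 := by
    rw [CycDetLib.phi_over (FK := FK) (FM := FM) (FL := FL) hf hg hfg hov hov (by rw [CycDetLib.phi_self FK hFK]; exact one_ne_zero),
      CycDetLib.phi_self FK hFK, CycDetLib.phi_self FM hFM, mul_one]
  have hFL : CycDetLib.Nondeg (R := R) FL.f.1 := by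
    by_contra h
    exact one_ne_zero (hval.symm.trans (CycDetLib.phi_of_deg FL h))
  refine ⟨(TensorProduct.congr (CycDetLib.detEquiv FK hFK) (CycDetLib.detEquiv FM hFM)).trans
    ((TensorProduct.lid _ _).trans (CycDetLib.detEquiv FL hFL).symm), fun eK eM eL hne h1 h2 => ?_⟩
  have hK0 : CycDetLib.phi FK eK.1 ≠ 0 := fun h => hne ((CycDetLib.detEquiv FK hFK).map_eq_zero_iff.1
    ((CycDetLib.detEquiv_sym FK hFK eK).trans h))
  have key := CycDetLib.phi_over (FK := FK) (FM := FM) (FL := FL) hf hg hfg hov (⟨h1, h2⟩ : CycDetLib.Over' f g hlen eK.1 eM.1 eL.1) hK0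
  rw [LinearEquiv.trans_apply, LinearEquiv.trans_apply, TensorProduct.congr_tmul, TensorProduct.lid_tmul, LinearEquiv.symm_apply_eq]
  exact (congrArg₂ (· * ·) (CycDetLib.detEquiv_sym FK hFK eK) (CycDetLib.detEquiv_sym FM hFM eM)).trans
    (key.symm.trans (CycDetLib.detEquiv_sym FL hFL eL).symm)

end Groth.Agent.S1854
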