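import Groth.Statements.S18540
import Groth.Agent.AVAmpleLib.BcTate
import Groth.Agent.CubeConsLib.Transpose

set_option autoImplicit false
universe u
open CategoryTheory MonoidalCategory CartesianMonoidalCategory MonObj GrpObj AlgebraicGeometry
set_option linter.style.haveILetI false
open AbVar

namespace Groth.Agent.S18540

/-- Let k be a field with algebraic closure Ω, ℓ a prime number invertible in k, A an abelian variety
over k (a commutative group scheme over k which is smooth and proper with geometrically connected
fibres) and f an endomorphism of A over k. Suppose the ℓ-adic Tate module of Ω-valued points of A is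
free of finite rank over the ℓ-adic integers, and let P be a polynomial with integer coefficients
mapping to the characteristic polynomial of the endomorphism T_ℓ(f) of that Tate module (the
characteristic polynomial of f). Then P(f) = 0 in the endomorphism ring of A: f satisfies its own
characteristic polynomial. -/
theorem result (k Ω : Type u) [Field k] [Field Ω] [Algebra k Ω]
    [IsAlgClosure k Ω] (A : Over (Spec (CommRingCat.of k)))
    [GrpObj A] [IsCommMonObj A] [Smooth A.hom] [IsProper A.hom] [GeometricallyConnected A.hom]
    (l : ℕ) [Fact l.Prime] (hl : (l : k) ≠ 0)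
    [Module.Free ℤ_[l] (AbDual.TateMod A l (SGA7.pt Ω))] [Module.Finite ℤ_[l] (AbDual.TateMod A l (SGA7.pt Ω))]
    (f : EndAV.End A) (P : Polynomial ℤ)
    (hP : (EndAV.End.tateRep l (SGA7.pt Ω) f).charpoly = P.map (Int.castRingHom ℤ_[l])) :
    Polynomial.aeval f P = 0 := by
  haveI := CubeConsLib.geometricallyIntegral_of_smooth_group A
  haveI : IsAlgClosed Ω := IsAlgClosure.isAlgClosed k
  have hinj : Function.Injective (EndAV.End.tateRep (A := A) l (SGA7.pt Ω)) := fun a b h =>
    AVAmpleLib.tateMap_injective_ext Ω A A l (by rw [← map_natCast (algebraMap k Ω)]; exact (map_ne_zero _).2 hl) h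
  apply hinj
  rw [map_zero, ← LinearMap.aeval_self_charpoly (EndAV.End.tateRep l (SGA7.pt Ω) f), hP,
    Polynomial.aeval_def, Polynomial.hom_eval₂, Polynomial.aeval_def, Polynomial.eval₂_map]
  congr 1
  exact Subsingleton.elim _ _

end Groth.Agent.S18540
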