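import Groth.Statements.S18541
import Groth.Agent.AVBiextLib.Lambda
import Groth.Agent.CubeLib.Glue
import Groth.Agent.AmpleThLib.Pow

set_option backward.isDefEq.respectTransparency false
set_option maxHeartbeats 1000000

set_option autoImplicit false
universe u
open CategoryTheory MonoidalCategory CartesianMonoidalCategory MonObj GrpObj AlgebraicGeometry
open AbVar

namespace Groth.Agent.S18541

open CubeConsLib AVBiextLib AVIndexLib

open AmpleLib (res GenOn) in
/-- Pulling a line bundle back along the Frobenius endomorphism gives the `q`th power. -/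
theorem pullback_frob {X : AlgebraicGeometry.Scheme.{u}} (g : X ⟶ X) (q : ℕ) (hle : ∀ U : X.Opens, U ≤ g ⁻¹ᵁ U)
    (happ : ∀ (U : X.Opens) (s : Γ(X, U)), (g.appLE U U (hle U)).hom s = s ^ q)
    {L : X.Modules} (hL : PicF.IsInvertible L) :
    Nonempty ((AlgebraicGeometry.Scheme.Modules.pullback g).obj L ≅ CohB1.tensorPow L q) := by
  obtain ⟨φ, -⟩ := AmpleThLib.exists_iso_gens (M := KFlatLib.pb g L) (N := CohB1.tensorPow L q)
    (fun a : AmpleThLib.Gens L => a.1) (fun a => KFlatLib.puSecLE g L (hle a.1) a.2.1)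
    (fun a => AmpleThLib.pS a.2.1 q) (AmpleThLib.gens_cover hL)
    (fun a => CubeLib.genOn_puSecLE g a.2.2 _) (fun a => AmpleThLib.pS_genOn a.2.2 q) fun a b V ha hb => by
      obtain ⟨c, hc⟩ := (a.2.2 V ha).2 (res L hb b.2.1)
      dsimp only at hc
      refine ⟨c ^ q, ?_, ?_⟩
      · rw [CubeLib.res_puSecLE, CubeLib.res_puSecLE, ← CubeLib.puSecLE_res g L ha (hle V),
          ← CubeLib.puSecLE_res g L hb (hle V), ← hc, KFlatLib.puSecLE_smul, happ]
      · rw [AmpleThLib.pS_res, AmpleThLib.pS_res, ← hc, AmpleThLib.pS_smul]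
  exact ⟨φ⟩

/-- Let k be a finite field with q elements and A an abelian variety over k (a commutative group scheme
over k which is smooth and proper with geometrically connected fibres), given with a dual (A^t, φ)
for the fppf topology. Let π : A → A be the q-power Frobenius endomorphism of A (the identity on the
underlying space and the q-th power map on sections; a homomorphism) and π^t : A^t → A^t a transpose
of π. Let L be an invertible module on A and λ_L : A → A^t the homomorphism Λ(L) attached to L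
through φ. Then π followed by λ_L followed by π^t is q·λ_L, the q-th power of λ_L in the group of
morphisms A → A^t. (The published statement fixes L ample and reads π^‡ ∘ π = [q] for the Rosati
involution ‡ of L; its proof rewrites this as the displayed identity, which uses only that L is
invertible.) -/
theorem result (k : Type u) [Field k] [Finite k]
    (A At : Over (Spec (CommRingCat.of k)))
    [GrpObj A] [IsCommMonObj A] [Smooth A.hom] [IsProper A.hom] [GeometricallyConnected A.hom]
    [GrpObj At] [IsCommMonObj At]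
    (φ : AgPol.DualMap A At) (hdual : AbDual.IsDualAV Scheme.fppfPrecoverage A At φ)
    (π : A ⟶ A) [IsMonHom π] (hπb : π.left.base = 𝟙 _) (hπle : ∀ U : A.left.Opens, U ≤ π.left ⁻¹ᵁ U)
    (hπapp : ∀ (U : A.left.Opens) (s : Γ(A.left, U)), (π.left.appLE U U (hπle U)).hom s = s ^ Nat.card k)
    (πt : At ⟶ At) [IsMonHom πt] (hπt : AbDual.IsTranspose π φ φ πt)
    (L : A.left.Modules) (hL : PicF.IsInvertible L) (lam : A ⟶ At) (hlam : AgPol.IsLambda A At φ L lam) :
    π ≫ lam ≫ πt = lam ^ Nat.card k := by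
  haveI := AbSchLib.geometricallyReduced_of_smooth A.hom
  haveI := CubeConsLib.geometricallyIntegral_of_group A
  obtain ⟨N, hN, cN, hφ⟩ := exists_of_isLambda hL hlam
  have hN0 := isPicZeroCl_mumford hL cN
  let q := Nat.card k
  obtain ⟨i⟩ := pullback_frob π.left q hπle hπapp hL
  have hM := AmpleDevLib.isInvertible_pb π.left hL
  have cM : clA hM = q • clA hL := by
    rw [← clA_pow hL q]
    exact (clA_eq_iff _ _).2 ⟨i⟩
  have hmod : ∀ n : ℕ, φ A (PicF.pullCl (PicF.XTmap A.hom (𝟙 A ^ n)) (PicF.cl N)) = lam ^ n := fun n => by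
    induction n with
    | zero =>
      have e0 : pullA (PicF.XTmap A.hom (𝟙 A ^ 0)) (clA hN) = 0 := by
        rw [XTmap_eq_lift]
        show pullA _ (clA hN : PicA (A ⊗ A).left) = _
        rw [cN]
        refine (pullA_lam hL (lift (fst A A) (snd A A ≫ 𝟙 A ^ 0)) (fst A A) (snd A A)).trans ?_
        rw [lift_fst, lift_snd, pow_zero, MonObj.comp_one, lam_comm, lam_one_left]
      rw [pullA_clA _ hN, ← clA_one, clA_eq_iff] at e0
      rw [pow_zero lam, ← phi_structure hdual]
      exact congrArg (φ A) (Quot.sound e0)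
    | succ n ih =>
      have z1 := isPicZeroCl_XTmap (𝟙 A ^ n) hN0
      have g1 := AmpleDevLib.isInvertible_pb (PicF.XTmap A.hom (𝟙 A ^ n)) hN
      have g2 := AmpleDevLib.isInvertible_pb (PicF.XTmap A.hom (𝟙 A ^ (n + 1))) hN
      have e := hdual.mul A _ _ z1 hN0
      have hc : ∀ m : ℕ, pullA (PicF.XTmap A.hom (𝟙 A ^ m)) (clA hN) =
          (CubeConsLib.lam hL (fst A A) (snd A A ^ m) : PicA (A ⊗ A).left) := fun m => by
        rw [XTmap_eq_lift]
        show pullA _ (clA hN : PicA (A ⊗ A).left) = _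
        rw [cN]
        refine (pullA_lam hL (lift (fst A A) (snd A A ≫ 𝟙 A ^ m)) (fst A A) (snd A A)).trans ?_
        rw [lift_fst, lift_snd, MonObj.comp_pow, Category.comp_id]
      have hi : clA g2 = clA (HilbPolyLib.isInvertible_tensor g1 hN) := by
        rw [clA_tensor g1 hN, ← pullA_clA _ hN, ← pullA_clA _ hN, hc, hc]
        show (_ : PicA (A ⊗ A).left) = _ + (clA hN : PicA (A ⊗ A).left)
        rw [cN, pow_succ, lam_comm hL, lam_mul_left hL, lam_comm hL, lam_comm hL (snd A A)]
      obtain ⟨j⟩ := (clA_eq_iff _ _).1 hi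
      rw [show PicF.cl (CohB1.tensorMod ((Scheme.Modules.pullback (PicF.XTmap A.hom (𝟙 A ^ n))).obj N) N) =
        PicF.pullCl (PicF.XTmap A.hom (𝟙 A ^ (n + 1))) (PicF.cl N) from Quot.sound ⟨j.symm⟩] at e
      rw [e, pow_succ lam n, ← ih, ← hφ]
      rfl
  rw [← hmod q]
  have z := isPicZeroCl_XTmap π hN0
  have e1 := hπt A _ z
  rw [hdual.relPic.natural _ _ _ _ hN0, hφ, Category.assoc] at e1
  rw [← e1, pullCl_pullCl]
  refine congrArg (φ A) (pullCl_eq_of_pullA _ _ hN ?_)
  rw [← pullA_comp, ← whiskerRight_left, XTmap_eq_lift, XTmap_eq_lift]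
  show pullA (π ▷ A).left (pullA _ (clA hN : PicA (A ⊗ A).left)) = pullA _ (clA hN : PicA (A ⊗ A).left)
  rw [cN, pullA_lam, pullA_lam, pullA_lam, lift_fst, lift_snd, lift_fst, lift_snd, MonObj.comp_pow, Category.comp_id]
  have e2 : CubeConsLib.lam hL (fst A A ≫ π) (snd A A ≫ π) = q • CubeConsLib.lam hL (fst A A) (snd A A) := by
    have hPM : ∀ x : A ⊗ A ⟶ A, P hL (x ≫ π) = q • P hL x := fun x => by
      rw [← P_pullback hL π x, P, cM, map_nsmul]
      rfl
    rw [CubeConsLib.lam, CubeConsLib.lam, ← MonObj.mul_comp, hPM, hPM, hPM, smul_sub, smul_sub]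
  rw [whiskerRight_fst, ← Category.assoc, whiskerRight_snd, e2, lam_comm hL (fst A A) (snd A A ^ q), lam_pow_left,
    lam_comm hL (snd A A) (fst A A)]

end Groth.Agent.S18541
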