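import Groth.Statements.S18545
import Mathlib
-- import your own Groth.Agent.* helpers here

set_option autoImplicit false
universe u
open AbVar

namespace Groth.Agent.S18545

/-- A step in the proof of Tate's isogeny result over finite fields, in linear-algebra form. Let K be a
field and V a K-vector space of finite dimension 2g carrying a nondegenerate alternating bilinear
form e. Let F be a K-subalgebra of End(V) which is isomorphic as a K-algebra to a finite product K ×
⋯ × K and which is spanned over K by a set S of similitudes of e (for each s in S there is a nonzero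
scalar c with e(s x, s y) = c·e(x, y) for all x, y). Let D be a set of endomorphisms of V such that
every F-stable isotropic subspace W of dimension g (a maximal isotropic subspace) is D-stable. Then
every F-stable isotropic subspace of V is D-stable. (In the application V is the rational ℓ-adic
Tate module of an abelian variety over a finite field with the Riemann form of a polarisation, F the
algebra generated by the Galois group, split for the chosen ℓ, and D the commutant of the image of
the endomorphism algebra; the hypothesis on maximal isotropic subspaces is the step obtained from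
the finiteness of isomorphism classes.) -/
theorem result (K : Type u) [Field K]
    (V : Type u) [AddCommGroup V] [Module K V] [FiniteDimensional K V] (g : ℕ) (hV : Module.finrank K V = 2 * g)
    (e : LinearMap.BilinForm K V) (he : e.IsAlt) (hnd : e.Nondegenerate)
    (F : Subalgebra K (Module.End K V)) (r : ℕ) (hF : Nonempty (F ≃ₐ[K] (Fin r → K)))
    (S : Set (Module.End K V)) (hS : Submodule.span K S = Subalgebra.toSubmodule F)
    (hsim : ∀ s ∈ S, ∃ c : K, c ≠ 0 ∧ ∀ x y : V, e (s x) (s y) = c * e x y)
    (D : Set (Module.End K V))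
    (hmax : ∀ W : Submodule K V, (∀ f ∈ F, ∀ w ∈ W, f w ∈ W) → (∀ x ∈ W, ∀ y ∈ W, e x y = 0) →
      Module.finrank K W = g → ∀ d ∈ D, ∀ w ∈ W, d w ∈ W)
    (W : Submodule K V) (hWF : ∀ f ∈ F, ∀ w ∈ W, f w ∈ W) (hWiso : ∀ x ∈ W, ∀ y ∈ W, e x y = 0) :
    ∀ d ∈ D, ∀ w ∈ W, d w ∈ W := by
  classical
  obtain ⟨φ⟩ := hF
  intro d hd w hw
  by_contra hx
  have hrefl : e.IsRefl := he.isRefl
  let ei : Fin r → Module.End K V := fun n => ((φ.symm (Pi.single n 1) : F) : Module.End K V)
  have hei : ∀ n, ei n ∈ F := fun n => (φ.symm (Pi.single n 1)).2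
  have hsum : ∀ v : V, ∑ n, ei n v = v := by
    intro v
    have h1 : (∑ n, φ.symm (Pi.single n 1)) = 1 := by
      rw [← map_sum, Finset.univ_sum_single (fun _ : Fin r => (1:K))]
      exact map_one φ.symm
    have h2 := congrArg (fun f : F => (f : Module.End K V) v) h1
    simpa [ei, LinearMap.sum_apply] using h2
  have heig : ∀ n, ∀ f ∈ F, ∀ v : V, ∃ c : K, f (ei n v) = c • ei n v := by
    intro n f hf v
    refine ⟨φ ⟨f, hf⟩ n, ?_⟩
    have h1 : (⟨f, hf⟩ : F) * φ.symm (Pi.single n 1) = φ ⟨f, hf⟩ n • φ.symm (Pi.single n 1) := by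
      apply φ.injective
      rw [map_mul, map_smul, AlgEquiv.apply_symm_apply]
      ext m
      by_cases hm : m = n
      · subst hm; simp
      · simp [hm]
    exact congrArg (fun g : F => (g : Module.End K V) v) h1
  let P : Submodule K V → Prop := fun U =>
    (∀ f ∈ F, ∀ u ∈ U, f u ∈ U) ∧ (∀ x ∈ U, ∀ y ∈ U, e x y = 0)
  have hperp : ∀ U : Submodule K V, (∀ f ∈ F, ∀ u ∈ U, f u ∈ U) →
      ∀ f ∈ F, ∀ y ∈ e.orthogonal U, f y ∈ e.orthogonal U := by
    intro U hU
    have hsS : ∀ s ∈ S, ∀ y ∈ e.orthogonal U, s y ∈ e.orthogonal U := by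
      intro s hs y hy
      have hsF : s ∈ F := by
        have h0 : s ∈ Submodule.span K S := Submodule.subset_span hs
        rw [hS] at h0
        exact h0
      obtain ⟨c, hc, hsc⟩ := hsim s hs
      have hinj : Function.Injective s := by
        rw [← LinearMap.ker_eq_bot, Submodule.eq_bot_iff]
        intro x hx'
        apply hnd.1
        intro z
        have h1 := hsc x z
        rw [LinearMap.mem_ker.mp hx', map_zero, LinearMap.zero_apply] at h1
        exact (mul_eq_zero.mp h1.symm).resolve_left hc
      have hinjU : Function.Injective (s.restrict (hU s hsF)) := by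
        intro a b hab
        exact Subtype.ext (hinj (congrArg Subtype.val hab))
      have hsurjU := LinearMap.injective_iff_surjective.mp hinjU
      rw [LinearMap.BilinForm.mem_orthogonal_iff] at hy ⊢
      intro u hu
      obtain ⟨u', hu'⟩ := hsurjU ⟨u, hu⟩
      have hu'' : s (u' : V) = u := congrArg Subtype.val hu'
      have h2 := hsc u' y
      rw [hu''] at h2
      show e u (s y) = 0
      rw [h2, show e u' y = 0 from hy u' u'.2, mul_zero]
    intro f hf y hy
    have hf' : f ∈ Submodule.span K S := by rw [hS]; exact hf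
    induction hf' using Submodule.span_induction with
    | mem s hs => exact hsS s hs y hy
    | zero => simp
    | add s t hs ht ihs iht =>
      rw [LinearMap.add_apply]
      exact add_mem (ihs (by rw [hS] at hs; exact hs)) (iht (by rw [hS] at ht; exact ht))
    | smul c s hs ih =>
      rw [LinearMap.smul_apply]
      exact Submodule.smul_mem _ c (ih (by rw [hS] at hs; exact hs))
  have hgrow : ∀ U : Submodule K V, P U → ∀ n (v : V), ei n v ∈ e.orthogonal U →
      P (U ⊔ Submodule.span K {ei n v}) := by
    intro U hU n v hv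
    rw [LinearMap.BilinForm.mem_orthogonal_iff] at hv
    constructor
    · intro f hf u hu
      obtain ⟨a, ha, b, hb, rfl⟩ := Submodule.mem_sup.mp hu
      obtain ⟨c, rfl⟩ := Submodule.mem_span_singleton.mp hb
      obtain ⟨c', hc'⟩ := heig n f hf v
      refine Submodule.mem_sup.mpr ⟨f a, hU.1 f hf a ha, (c * c') • ei n v,
        Submodule.smul_mem _ _ (Submodule.mem_span_singleton_self _), ?_⟩
      rw [map_add, map_smul, hc', smul_smul]
    · intro x hx' y hy'
      obtain ⟨a, ha, b, hb, rfl⟩ := Submodule.mem_sup.mp hx'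
      obtain ⟨c, rfl⟩ := Submodule.mem_span_singleton.mp hb
      obtain ⟨a', ha', b', hb', rfl⟩ := Submodule.mem_sup.mp hy'
      obtain ⟨c', rfl⟩ := Submodule.mem_span_singleton.mp hb'
      have h1 : e a (ei n v) = 0 := hv a ha
      have h2 : e (ei n v) a' = 0 := hrefl.eq_zero (hv a' ha')
      simp [hU.2 a ha a' ha', h1, h2, he (ei n v)]
  have hlag : ∀ U : Submodule K V, P U → ∃ M, U ≤ M ∧ P M ∧ Module.finrank K M = g := by
    intro U hU
    obtain ⟨M, ⟨hUM, hM⟩, hmaxM⟩ :=
      wellFounded_gt.has_min {M : Submodule K V | U ≤ M ∧ P M} ⟨U, le_rfl, hU⟩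
    refine ⟨M, hUM, hM, ?_⟩
    have heq : e.orthogonal M = M := by
      refine le_antisymm ?_ ?_
      · intro y hy
        by_contra hyM
        have : ∃ n, ei n y ∉ M := by
          by_contra hall
          push_neg at hall
          exact hyM (hsum y ▸ Submodule.sum_mem M (fun n _ => hall n))
        obtain ⟨n, hn⟩ := this
        have hP := hgrow M hM n y (hperp M hM.1 _ (hei n) y hy)
        refine hmaxM _ ⟨le_trans hUM le_sup_left, hP⟩ (lt_of_le_of_ne le_sup_left ?_)
        intro heq'
        apply hn
        rw [heq']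
        exact Submodule.mem_sup_right (Submodule.mem_span_singleton_self _)
      · intro x hx'
        rw [LinearMap.BilinForm.mem_orthogonal_iff]
        intro y hy'
        exact hM.2 y hy' x hx'
    have hfr := LinearMap.BilinForm.finrank_orthogonal hnd M
    rw [heq, hV] at hfr
    have hle := Submodule.finrank_le M
    omega
  obtain ⟨M, hWM, hM, hMg⟩ := hlag W ⟨hWF, hWiso⟩
  have hxM : d w ∈ M := hmax M hM.1 hM.2 hMg d hd w (hWM hw)
  have hxW : d w ∈ e.orthogonal W := by
    rw [LinearMap.BilinForm.mem_orthogonal_iff]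
    intro y hy
    exact hM.2 y (hWM hy) (d w) hxM
  have hex : ∃ y ∈ e.orthogonal W, e (d w) y ≠ 0 := by
    by_contra hall
    push_neg at hall
    apply hx
    rw [← LinearMap.BilinForm.orthogonal_orthogonal hnd hrefl W,
      LinearMap.BilinForm.mem_orthogonal_iff]
    intro y hy
    exact hrefl.eq_zero (hall y hy)
  obtain ⟨y, hy, hy'⟩ := hex
  have hex2 : ∃ n, e (d w) (ei n y) ≠ 0 := by
    by_contra hall
    push_neg at hall
    apply hy'
    rw [← hsum y, map_sum]
    exact Finset.sum_eq_zero (fun n _ => hall n)
  obtain ⟨n, hn⟩ := hex2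
  obtain ⟨M', hle', hM', hMg'⟩ := hlag _ (hgrow W ⟨hWF, hWiso⟩ n y (hperp W hWF _ (hei n) y hy))
  apply hn
  exact hM'.2 _ (hmax M' hM'.1 hM'.2 hMg' d hd w (hle' (Submodule.mem_sup_left hw))) _
    (hle' (Submodule.mem_sup_right (Submodule.mem_span_singleton_self _)))

end Groth.Agent.S18545
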