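import Groth.Statements.S18550
import Groth.Agent.DerLib.Ghost

set_option autoImplicit false
open CategoryTheory Limits
universe w v u
open CohDer

namespace Groth.Agent.S18550

/-- Let A be an abelian category, X an object of its derived category whose cohomology objects H^i(X)
are zero for all integers i outside the interval [a, a + n], and f : X → X an endomorphism in the
derived category such that H^i(f) = 0 for every i. Then f^(n+1) = 0. (The source works in the
bounded derived category; the statement in D(A) for an object with cohomology bounded in this way is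
the same assertion, the bounded derived category being a full subcategory.) -/
theorem result (A : Type u) [Category.{v} A] [Abelian A]
    [HasDerivedCategory.{w} A] (X : DerivedCategory A) (a : ℤ) (n : ℕ)
    (hX : ∀ i : ℤ, i < a ∨ a + n < i → IsZero ((DerivedCategory.homologyFunctor A i).obj X))
    (f : CategoryTheory.End X) (hf : ∀ i : ℤ, (DerivedCategory.homologyFunctor A i).map f = 0) :
    f ^ (n + 1) = 0 := by
  suffices ∀ k : ℕ, ∃ (W : DerivedCategory A) (_ : W.IsLE (a + n - k)) (p : X ⟶ W) (q : W ⟶ X),
      (f ^ k : CategoryTheory.End X) = p ≫ q by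
    obtain ⟨W, hW, p, q, hpq⟩ := this (n + 1)
    have : X.IsGE a := (DerivedCategory.isGE_iff X a).2 fun i hi => hX i (Or.inl hi)
    have hq : q = 0 := DerivedCategory.TStructure.t.zero_of_isLE_of_isGE q (a + n - (n + 1 : ℕ)) a
      (by push_cast; omega) inferInstance inferInstance
    rw [hpq, hq, comp_zero]
  intro k
  induction k with
  | zero =>
    exact ⟨X, (DerivedCategory.isLE_iff X _).2 fun i hi => hX i (Or.inr (by simpa using hi)),
      𝟙 X, 𝟙 X, by simp [CategoryTheory.End.one_def]⟩
  | succ k ih =>
    obtain ⟨W, hW, p, q, hpq⟩ := ih
    obtain ⟨g, hg⟩ := Groth.Agent.DerLib.Ghost.exists_lift_truncLT (a + n - k) (q ≫ f)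
      (by rw [Functor.map_comp, hf, comp_zero])
    refine ⟨_, DerivedCategory.TStructure.t.isLE_truncLT_obj X (a + n - k) _ (by push_cast; omega),
      p ≫ g, (DerivedCategory.TStructure.t.truncLTι (a + n - k)).app X, ?_⟩
    rw [Category.assoc, hg, ← Category.assoc, ← hpq, pow_succ', CategoryTheory.End.mul_def]

end Groth.Agent.S18550
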