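import Groth.Statements.S18560
import Mathlib.LinearAlgebra.FiniteDimensional.Basic
import Mathlib.Tactic


-- import your own Groth.Agent.* helpers here

set_option autoImplicit false
universe u v
open PtQuiv

namespace Groth.Agent.S18560

/-- Let K be a field and s i ∈ K² (i in a finite index type) nonzero vectors, regarded as a
representation of the quiver with a central vertex carrying the plane and one vertex per i carrying
a line that maps to the plane by 1 ↦ s i. For a weight θ in the hypersimplex (0 ≤ θ i ≤ 1, Σ θ i =
2, central weight -1) the representation is θ-semistable if and only if, for every vector v, the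
indices i with s i on the line K ∙ v have total weight at most 1. (The published statement is over
an algebraically closed field, assumes semistability for some interior weight instead of s i ≠ 0,
and phrases the bound through the classes of pairwise proportional s i; any field is allowed here.
Its further assertion that the bounding walls, where the total weight of one proportionality class
equals 1, do not meet in the interior of the hypersimplex is not part of this row.) -/
theorem result (K : Type u) [Field K] (ι : Type v) [Fintype ι]
    (s : ι → (Fin 2 → K)) (hs : ∀ i, s i ≠ 0) (θ : ι → ℚ) (h0 : ∀ i, 0 ≤ θ i)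
    (h1 : ∀ i, θ i ≤ 1) (h2 : ∑ i, θ i = 2) :
    PtQuiv.QSemistable (-1) θ s ↔
      ∀ (J : Finset ι) (v : Fin 2 → K), (∀ i ∈ J, s i ∈ K ∙ v) → ∑ i ∈ J, θ i ≤ 1 := by
  classical
  constructor
  · rintro ⟨-, hsub⟩ J v hJ
    rcases eq_or_ne v 0 with rfl | hv
    · have : J = ∅ := Finset.eq_empty_of_forall_notMem fun i hi => hs i (by simpa using hJ i hi)
      rw [this, Finset.sum_empty]; exact zero_le_one
    · have h := hsub (K ∙ v) J hJ
      rw [PtQuiv.QWt, finrank_span_singleton hv] at h
      push_cast at h
      linarith
  · intro h
    refine ⟨by rw [h2]; norm_num, fun L I hI => ?_⟩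
    have hle : Module.finrank K L ≤ 2 := (Submodule.finrank_le L).trans (by simp)
    have hsum : ∑ i ∈ I, θ i ≤ 2 := h2 ▸ Finset.sum_le_univ_sum_of_nonneg h0
    rw [PtQuiv.QWt]
    interval_cases hr : Module.finrank K L
    · have : I = ∅ := Finset.eq_empty_of_forall_notMem fun i hi => hs i (by
        have := hI i hi
        rwa [Submodule.finrank_eq_zero.1 hr, Submodule.mem_bot] at this)
      rw [this, Finset.sum_empty]; norm_num
    · obtain ⟨v, -, hv⟩ := (finrank_eq_one_iff' (K := K) (V := L)).1 hr
      have := h I (v : Fin 2 → K) fun i hi => by
        obtain ⟨c, hc⟩ := hv ⟨s i, hI i hi⟩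
        exact Submodule.mem_span_singleton.2 ⟨c, congrArg Subtype.val hc⟩
      push_cast; linarith
    · push_cast; linarith

end Groth.Agent.S18560
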