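import Groth.Statements.S18561
import Mathlib.LinearAlgebra.FiniteDimensional.Basic
import Mathlib.Tactic


-- import your own Groth.Agent.* helpers here

set_option autoImplicit false
universe u v
open PtQuiv

namespace Groth.Agent.S18561

/-- Let K be a field and s i ∈ K² (i in a finite index type) nonzero vectors, regarded as a
representation of the quiver with a central vertex carrying the plane and one vertex per i carrying
a line mapping to the plane by 1 ↦ s i. Then the representation is stable for some weight of the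
hypersimplex (0 ≤ θ i ≤ 1, Σ θ i = 2, central weight -1) if and only if the s i fall into at least
three proportionality classes, i.e. three of them are pairwise non-proportional. (The published
statement is over an algebraically closed field and assumes semistability for some interior weight
instead of s i ≠ 0; any field is allowed here. Its further assertions, that the set of semistability
weights is full-dimensional exactly in this case and is a wall otherwise, are not part of this row.) -/
theorem result (K : Type u) [Field K] (ι : Type v)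
    [Fintype ι] (s : ι → (Fin 2 → K)) (hs : ∀ i, s i ≠ 0) :
    (∃ θ : ι → ℚ, (∀ i, 0 ≤ θ i) ∧ (∀ i, θ i ≤ 1) ∧ ∑ i, θ i = 2 ∧ PtQuiv.QStable (-1) θ s) ↔
      ∃ i j k : ι, s i ∉ K ∙ s j ∧ s j ∉ K ∙ s k ∧ s i ∉ K ∙ s k := by
  classical
  have hsymm : ∀ i j, s i ∈ K ∙ s j → s j ∈ K ∙ s i := by
    intro i j h
    obtain ⟨c, hc⟩ := Submodule.mem_span_singleton.1 h
    have hc0 : c ≠ 0 := fun e => hs i (by rw [← hc, e, zero_smul])
    exact Submodule.mem_span_singleton.2 ⟨c⁻¹, by rw [← hc, inv_smul_smul₀ hc0]⟩
  have hline : ∀ i, (K ∙ s i) ≠ ⊤ ∧ (K ∙ s i) ≠ ⊥ ∧ Module.finrank K ↥(K ∙ s i) = 1 := fun i => by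
    refine ⟨fun e => ?_, fun e => hs i (by simpa using e), finrank_span_singleton (hs i)⟩
    have := finrank_span_singleton (K := K) (hs i)
    rw [e, finrank_top, Module.finrank_fin_fun] at this
    omega
  constructor
  · rintro ⟨θ, h0, h1, h2, ⟨-, hsub⟩, hstab⟩
    have hlt : ∀ i, ∑ l ∈ Finset.univ.filter (fun l => s l ∈ K ∙ s i), θ l < 1 := by
      intro i
      have hS : PtQuiv.QSubrep s (K ∙ s i) (Finset.univ.filter fun l => s l ∈ K ∙ s i) := fun l hl => (Finset.mem_filter.1 hl).2
      have h := hsub _ _ hS
      rw [PtQuiv.QWt, (hline i).2.2] at h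
      push_cast at h
      refine lt_of_le_of_ne (by linarith) fun e => ?_
      rcases hstab _ _ hS (by rw [PtQuiv.QWt, (hline i).2.2, e]; norm_num) with ⟨h', -⟩ | ⟨h', -⟩
      · exact (hline i).2.1 h'
      · exact (hline i).1 h'
    by_contra hno
    push Not at hno
    rcases isEmpty_or_nonempty ι with hι | ⟨⟨i⟩⟩
    · rw [Finset.univ_eq_empty, Finset.sum_empty] at h2; norm_num at h2
    by_cases hall : ∀ l, s l ∈ K ∙ s i
    · have := hlt i
      rw [Finset.filter_true_of_mem (fun l _ => hall l), h2] at this
      norm_num at this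
    · push Not at hall
      obtain ⟨j, hj⟩ := hall
      have hcov : ∀ l, s l ∈ K ∙ s i ∨ s l ∈ K ∙ s j := fun l => by
        by_contra hl
        push Not at hl
        exact hl.1 (hsymm _ _ (hno i j l (fun h => hj (hsymm _ _ h)) (fun h => hl.2 (hsymm _ _ h))))
      have : ∑ l, θ l ≤ (∑ l ∈ Finset.univ.filter (fun l => s l ∈ K ∙ s i), θ l) + ∑ l ∈ Finset.univ.filter (fun l => s l ∈ K ∙ s j), θ l := by
        rw [← Finset.sum_union_inter]
        refine le_add_of_le_of_nonneg (Finset.sum_le_sum_of_subset_of_nonneg (fun l _ => ?_) fun l _ _ => h0 l) (Finset.sum_nonneg fun l _ => h0 l)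
        rcases hcov l with h | h
        · exact Finset.mem_union_left _ (Finset.mem_filter.2 ⟨Finset.mem_univ _, h⟩)
        · exact Finset.mem_union_right _ (Finset.mem_filter.2 ⟨Finset.mem_univ _, h⟩)
      have := hlt i
      have := hlt j
      linarith
  · rintro ⟨i, j, k, hij, hjk, hik⟩
    set T : Finset ι := {i, j, k} with hT
    have hij' : i ≠ j := fun e => hij (e ▸ Submodule.mem_span_singleton_self _)
    have hjk' : j ≠ k := fun e => hjk (e ▸ Submodule.mem_span_singleton_self _)
    have hik' : i ≠ k := fun e => hik (e ▸ Submodule.mem_span_singleton_self _)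
    have hcard : T.card = 3 := by rw [hT]; simp [hij', hjk', hik']
    set n : ℚ := (Fintype.card ι : ℚ) with hn
    have hn0 : 1 ≤ n := by
      rw [hn]; exact_mod_cast Fintype.card_pos_iff.2 ⟨i⟩
    set a : ℚ := 1 / (4 * n) with ha
    have ha0 : 0 < a := by positivity
    have hna : n * a = 1 / 4 := by rw [ha]; field_simp
    have ha4 : a ≤ 1 / 4 := by nlinarith
    set θ : ι → ℚ := fun l => a + if l ∈ T then 7 / 12 else 0 with hθ
    have hpos : ∀ l, 0 < θ l := fun l => by
      show 0 < a + _
      split_ifs <;> linarith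
    have hsum : ∀ I : Finset ι, ∑ l ∈ I, θ l = (I.card : ℚ) * a + ((I ∩ T).card : ℚ) * (7 / 12) := fun I => by
      simp only [hθ, Finset.sum_add_distrib, Finset.sum_const, nsmul_eq_mul, Finset.sum_ite_mem]
    have htot : ∑ l, θ l = 2 := by
      rw [hsum, Finset.univ_inter, hcard, Finset.card_univ, ← hn, hna]; norm_num
    have hle1 : ∀ l, θ l ≤ 1 := fun l => by
      show a + _ ≤ 1
      split_ifs <;> linarith
    have key : ∀ (v : Fin 2 → K) (I : Finset ι), (∀ l ∈ I, s l ∈ K ∙ v) → ∑ l ∈ I, θ l < 1 := by
      intro v I hI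
      have h1 : (I ∩ T).card ≤ 1 := by
        rw [Finset.card_le_one]
        intro p hp q hq
        simp only [Finset.mem_inter, hT, Finset.mem_insert, Finset.mem_singleton] at hp hq
        have hprop : s p ∈ K ∙ s q := by
          obtain ⟨c, hc⟩ := Submodule.mem_span_singleton.1 (hI p hp.1)
          obtain ⟨c', hc'⟩ := Submodule.mem_span_singleton.1 (hI q hq.1)
          have hc0 : c' ≠ 0 := fun e => hs q (by rw [← hc', e, zero_smul])
          exact Submodule.mem_span_singleton.2 ⟨c * c'⁻¹, by rw [← hc', ← hc, smul_smul, mul_assoc, inv_mul_cancel₀ hc0, mul_one]⟩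
        rcases hp.2 with rfl | rfl | rfl <;> rcases hq.2 with rfl | rfl | rfl <;>
          first
            | rfl
            | exact absurd hprop ‹_›
            | exact absurd (hsymm _ _ hprop) ‹_›
      rw [hsum]
      have h2' : ((I.card : ℚ)) ≤ n := by rw [hn]; exact_mod_cast Finset.card_le_univ I
      have h3 : ((I ∩ T).card : ℚ) ≤ 1 := by exact_mod_cast h1
      nlinarith
    refine ⟨θ, fun l => (hpos l).le, hle1, htot, ?_⟩
    have hdim : ∀ (L : Submodule K (Fin 2 → K)) (I : Finset ι), PtQuiv.QSubrep s L I →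
        PtQuiv.QWt K (-1) θ L I ≤ 0 ∧ (PtQuiv.QWt K (-1) θ L I = 0 → (L = ⊥ ∧ I = ∅) ∨ (L = ⊤ ∧ I = Finset.univ)) := by
      intro L I hI
      have hle : Module.finrank K L ≤ 2 := (Submodule.finrank_le L).trans (by simp)
      rw [PtQuiv.QWt]
      interval_cases hr : Module.finrank K L
      · have hL := Submodule.finrank_eq_zero.1 hr
        have : I = ∅ := Finset.eq_empty_of_forall_notMem fun l hl => hs l (by
          have := hI l hl; rwa [hL, Submodule.mem_bot] at this)
        subst this
        exact ⟨by simp, fun _ => Or.inl ⟨hL, rfl⟩⟩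
      · obtain ⟨v, -, hv⟩ := (finrank_eq_one_iff' (K := K) (V := L)).1 hr
        have := key (v : Fin 2 → K) I fun l hl => by
          obtain ⟨c, hc⟩ := hv ⟨s l, hI l hl⟩
          exact Submodule.mem_span_singleton.2 ⟨c, congrArg Subtype.val hc⟩
        push_cast
        exact ⟨by linarith, fun e => by linarith⟩
      · have h2' : ∑ l ∈ I, θ l ≤ 2 := htot ▸ Finset.sum_le_univ_sum_of_nonneg fun l => (hpos l).le
        push_cast
        refine ⟨by linarith, fun e => Or.inr ⟨Submodule.eq_top_of_finrank_eq (by rw [hr, Module.finrank_fin_fun]), ?_⟩⟩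
        by_contra hne
        obtain ⟨l, hl⟩ : ∃ l, l ∉ I := by
          by_contra h; push Not at h; exact hne (Finset.eq_univ_iff_forall.2 h)
        have := Finset.sum_lt_sum_of_subset (Finset.subset_univ I) (Finset.mem_univ l) hl (hpos l) (fun m _ _ => (hpos m).le)
        linarith
    exact ⟨⟨by rw [htot]; norm_num, fun L I h => (hdim L I h).1⟩, fun L I h => (hdim L I h).2⟩

end Groth.Agent.S18561
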