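import Groth.Statements.S18574
import Groth.Agent.RTrivLib.Link

set_option autoImplicit false
universe u v
open CategoryTheory AlgebraicGeometry
open REq

namespace Groth.Agent.S18574

/-- Let k be a field and Φ a contravariant functor from the category of schemes over Spec k to sets.
Assume that for every integral scheme Y smooth, separated and quasi-compact over k, the map Φ(Y) →
Φ(P^1_Y) induced by the projection P^1_Y → Y is bijective. Let X be a proper integral scheme over k
having a non-empty open subscheme smooth over k, and assume X is almost R-trivial over k. Then there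
is a non-empty open subscheme U of X, smooth over k, such that the image of Φ(X) → Φ(U) (restriction
along the inclusion) equals the image of Φ(Spec k) → Φ(U) (along the structure morphism of U). The
functor takes values in an arbitrary universe. -/
theorem result (k : Type u) [Field k]
    (Φ : (Over (Spec (CommRingCat.of k)))ᵒᵖ ⥤ Type v)
    (hΦ : ∀ (Y : Scheme.{u}) (g : Y ⟶ Spec (CommRingCat.of k)) [IsIntegral Y] [Smooth g]
      [IsSeparated g] [QuasiCompact g],
      Function.Bijective (Φ.map (Over.homMk (CohB1.ProjSpaceOver.toBase 1 Y) rfl :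
        Over.mk (CohB1.ProjSpaceOver.toBase 1 Y ≫ g) ⟶ Over.mk g).op))
    (X : Scheme.{u}) (f : X ⟶ Spec (CommRingCat.of k)) [IsIntegral X] [IsProper f]
    (hsm : ∃ V : X.Opens, (V : Set X).Nonempty ∧ Smooth (V.ι ≫ f))
    (hR : REq.IsAlmostRTrivial f) :
    ∃ U : X.Opens, (U : Set X).Nonempty ∧ Smooth (U.ι ≫ f) ∧
      Set.range (Φ.map (Over.homMk U.ι rfl : Over.mk (U.ι ≫ f) ⟶ Over.mk f).op) =
        Set.range (Φ.map (Over.homMk (U.ι ≫ f) (Category.comp_id _) :
          Over.mk (U.ι ≫ f) ⟶ Over.mk (𝟙 (Spec (CommRingCat.of k)))).op) := by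
  obtain ⟨V₀, hV₀, hsm₀⟩ := hsm
  haveI := hsm₀
  obtain ⟨U₀, hU₀, hU₀R⟩ := hR
  have hη : ∀ {W : X.Opens}, (W : Set X).Nonempty → genericPoint X ∈ W := fun {W} hW =>
    ((genericPoint_spec X).mem_open_set_iff W.2).mpr (by simpa using hW)
  letI : Algebra k X.functionField :=
    (Spec.preimage (X.fromSpecStalk (genericPoint X) ≫ f)).hom.toAlgebra
  have hK : X.fromSpecStalk (genericPoint X) ≫ f = specMap k X.functionField :=
    (Spec.map_preimage _).symm
  obtain ⟨⟨x₀, hx₀U⟩, -⟩ := hU₀R k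
  have hx₀ : x₀.1 ≫ f = 𝟙 _ := x₀.2.trans (by simp [specMap])
  let A : Pts f X.functionField := ⟨X.fromSpecStalk (genericPoint X), hK⟩
  let B : Pts f X.functionField := ⟨specMap k X.functionField ≫ x₀.1, by
    rw [Category.assoc, hx₀, Category.comp_id]⟩
  have hA : InOpen f U₀ A := by
    intro y hy
    have hy' : y ⤳ genericPoint X := by
      have h := (Scheme.range_fromSpecStalk (X := X) (x := genericPoint X)).le hy
      exact h
    exact hy'.mem_open U₀.2 (hη hU₀.nonempty)
  have hB : InOpen f U₀ B := by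
    rintro _ ⟨z, rfl⟩
    exact hx₀U ⟨(specMap k X.functionField).base z, rfl⟩
  obtain ⟨V, hV, hs, α, β, hα, hβ, he⟩ :=
    RTrivLib.agree_of_rEquiv f Φ hΦ hK (hη hV₀) ((hU₀R X.functionField).2 A B hA hB)
  haveI := hs
  let ι : Over.mk (V.ι ≫ f) ⟶ Over.mk f := Over.homMk V.ι rfl
  let s : Over.mk (V.ι ≫ f) ⟶ Over.mk (𝟙 (Spec (CommRingCat.of k))) :=
    Over.homMk (V.ι ≫ f) (Category.comp_id _)
  let x : Over.mk (𝟙 (Spec (CommRingCat.of k))) ⟶ Over.mk f := Over.homMk x₀.1 hx₀
  let q : Over.mk f ⟶ Over.mk (𝟙 (Spec (CommRingCat.of k))) := Over.homMk f (Category.comp_id _)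
  have e1 : α = ι := RTrivLib.hom_ext_gpt f hV _ _ (hα.trans (RTrivLib.gpt_ι V hV).symm)
  have e2 : β = s ≫ x := by
    refine RTrivLib.hom_ext_gpt f hV _ _ (hβ.trans ?_)
    change specMap k X.functionField ≫ x₀.1 = RTrivLib.gpt V hV ≫ (V.ι ≫ f) ≫ x₀.1
    rw [← Category.assoc, ← Category.assoc, RTrivLib.gpt_ι, hK]
  have e3 : x ≫ q = 𝟙 _ := Over.OverMorphism.ext hx₀
  rw [e1, e2, op_comp, Φ.map_comp] at he
  refine ⟨V, ⟨_, hV⟩, hs, ?_⟩
  change Set.range (Φ.map ι.op) = Set.range (Φ.map s.op)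
  apply Set.Subset.antisymm
  · rintro _ ⟨y, rfl⟩
    exact ⟨Φ.map x.op y, by rw [he]; rfl⟩
  · rintro _ ⟨y, rfl⟩
    refine ⟨Φ.map q.op y, ?_⟩
    have h1 : Φ.map q.op ≫ Φ.map x.op = 𝟙 _ := by
      rw [← Φ.map_comp, ← op_comp, e3, op_id, Φ.map_id]
    have h2 : (Φ.map q.op ≫ Φ.map x.op) y = y := by rw [h1]; rfl
    rw [he]
    exact congrArg (Φ.map s.op) h2

end Groth.Agent.S18574
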