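import Mathlib
import Groth.Statements.S18579
import Groth.Agent.RegUFDLib.Basic
import Groth.Agent.CohenLib.RegularField
-- import your own Groth.Agent.* helpers here

set_option autoImplicit false
universe u
open LogDiff

namespace Groth.Agent.S18579

/-- The exact sequence for units (first Milnor K-groups) when every component of the divisor is removed.
Let k be a field, B a smooth k-algebra, R the localization of B at a prime ideal, K the fraction
field of R and f_1, …, f_r pairwise non-associate prime elements of R. If w is a unit of K such that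
w and w⁻¹ both lie in R[1/(f_1⋯f_r)], i.e. each becomes an element of R after multiplication by a
power of f_1⋯f_r, then there is exactly one pair (v, b) consisting of a unit v of R and integers
b_1, …, b_r with w = v · ∏ f_i^{b_i} in K. (This is the exactness of 0 → Γ(Spec R, O^×) → Γ(Spec R ∖
V(f_1⋯f_r), O^×) → ℤ^r → 0, the last map being the orders along the f_i. The published statement
takes the f_i to be local equations of the components of a normal crossings divisor, over a field of
characteristic zero; this row allows arbitrary pairwise non-associate prime elements and any field.) -/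
theorem result
    {k B R K : Type u} [Field k] [CommRing B] [Algebra k B] [Algebra.Smooth k B]
    (p : Ideal B) [p.IsPrime] [CommRing R] [Algebra B R] [IsLocalization.AtPrime R p]
    [Field K] [Algebra R K] [IsFractionRing R K]
    {r : ℕ} (f : Fin r → R) (hf : ∀ i, Prime (f i)) (hfa : ∀ i j, Associated (f i) (f j) → i = j)
    (w : Kˣ)
    (hw : ∃ (a : R) (n : ℕ), (w : K) * algebraMap R K ((∏ i, f i) ^ n) = algebraMap R K a)
    (hw' : ∃ (a : R) (n : ℕ), (w⁻¹ : Kˣ) * algebraMap R K ((∏ i, f i) ^ n) = algebraMap R K a) :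
    ∃! vb : Rˣ × (Fin r → ℤ),
      (w : K) = algebraMap R K (vb.1 : R) * ∏ i, (algebraMap R K (f i)) ^ (vb.2 i) := by
  classical
  haveI : IsLocalRing R := IsLocalization.AtPrime.isLocalRing R p
  haveI : IsNoetherianRing B := Algebra.FiniteType.isNoetherianRing k B
  haveI : IsNoetherianRing R := IsLocalization.isNoetherianRing p.primeCompl R inferInstance
  letI : Algebra k R := ((algebraMap B R).comp (algebraMap k B)).toAlgebra
  haveI : IsScalarTower k B R := IsScalarTower.of_algebraMap_eq fun _ => rfl
  haveI : Algebra.FormallySmooth B R := Algebra.FormallySmooth.of_isLocalization p.primeCompl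
  haveI : Algebra.FormallySmooth k R := Algebra.FormallySmooth.comp k B R
  haveI : IsRegularLocalRing R := CohenLib.isRegularLocalRing_of_formallySmooth (k := k)
  haveI : IsDomain R := CommAlgDim.isDomain_of_isRegularLocalRing R
  haveI : UniqueFactorizationMonoid R := RegUFDLib.uniqueFactorizationMonoid R
  have hinj := IsFractionRing.injective R K
  have hne : ∀ i, algebraMap R K (f i) ≠ 0 := fun i h => (hf i).ne_zero (hinj (h.trans (map_zero _).symm))
  -- divisors of monomials in the `f i`
  have hdiv : ∀ (s : Finset (Fin r)) (N : ℕ) (a : R), a ∣ (∏ i ∈ s, f i) ^ N →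
      ∃ e : Fin r → ℕ, Associated a (∏ i, f i ^ e i) := by
    intro s
    induction s using Finset.induction_on with
    | empty =>
      intro N a ha
      rw [Finset.prod_empty, one_pow] at ha
      exact ⟨0, by simpa using associated_one_iff_isUnit.2 (isUnit_of_dvd_one ha)⟩
    | @insert j s hj ih =>
      intro N a ha
      rw [Finset.prod_insert hj, mul_pow] at ha
      obtain ⟨a₁, a₂, h1, h2, rfl⟩ := exists_dvd_and_dvd_of_dvd_mul ha
      obtain ⟨e, he⟩ := ih N a₂ h2
      obtain ⟨m, -, hm⟩ := (dvd_prime_pow (hf j) _).1 h1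
      refine ⟨e + Pi.single j m, (hm.mul_mul he).trans (Associated.of_eq ?_)⟩
      have hs : ∏ i, f i ^ (Pi.single j m : Fin r → ℕ) i = f j ^ m := by
        rw [Finset.prod_eq_single j (fun i _ hi => by simp [hi]) (fun h => absurd (Finset.mem_univ j) h),
          Pi.single_eq_same]
      simp only [Pi.add_apply, pow_add, Finset.prod_mul_distrib, hs]
      ring
  obtain ⟨a, n, ha⟩ := hw
  obtain ⟨a', m, ha'⟩ := hw'
  have haa : a * a' = (∏ i, f i) ^ (n + m) := by
    refine hinj ?_
    rw [map_mul, ← ha, ← ha', pow_add, map_mul]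
    linear_combination (algebraMap R K ((∏ i, f i) ^ n) * algebraMap R K ((∏ i, f i) ^ m)) * w.mul_inv
  obtain ⟨e, he⟩ := hdiv Finset.univ (n + m) a ⟨a', haa.symm⟩
  obtain ⟨v, hv⟩ := he.symm
  have hmain : (w : K) = algebraMap R K (v : R) * ∏ i, algebraMap R K (f i) ^ ((e i : ℤ) - n) := by
    have hF : algebraMap R K ((∏ i, f i) ^ n) ≠ 0 := by
      rw [map_pow, map_prod]; exact pow_ne_zero _ (Finset.prod_ne_zero_iff.2 fun i _ => hne i)
    refine mul_right_cancel₀ hF ?_
    rw [ha, ← hv, map_mul, map_pow, map_prod, map_prod, ← Finset.prod_pow, mul_assoc, ← Finset.prod_mul_distrib,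
      mul_comm]
    congr 1
    refine Finset.prod_congr rfl fun i _ => ?_
    rw [map_pow, ← zpow_natCast, ← zpow_natCast, ← zpow_add₀ (hne i), sub_add_cancel]
  refine ⟨(v, fun i => (e i : ℤ) - n), hmain, ?_⟩
  rintro ⟨v', b'⟩ hb'
  -- uniqueness
  obtain ⟨x, hx⟩ : ∃ x : Fin r → ℤ, ∀ i, x i = b' i - ((e i : ℤ) - n) := ⟨_, fun _ => rfl⟩
  have hsp : algebraMap R K (v' : R) * ∏ i, algebraMap R K (f i) ^ (x i).toNat =
      algebraMap R K (v : R) * ∏ i, algebraMap R K (f i) ^ (-x i).toNat := by
    have hP : ∀ i, algebraMap R K (f i) ^ (x i).toNat =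
        algebraMap R K (f i) ^ b' i * (algebraMap R K (f i) ^ ((e i : ℤ) - n))⁻¹ * algebraMap R K (f i) ^ (-x i).toNat := by
      intro i
      rw [← zpow_natCast, ← zpow_natCast, ← zpow_neg, ← zpow_add₀ (hne i), ← zpow_add₀ (hne i)]
      congr 1
      have := hx i
      omega
    simp only [hP, Finset.prod_mul_distrib, Finset.prod_inv_distrib]
    have h1 := hb'.symm.trans hmain
    dsimp only at h1
    have hne' : ∏ i, algebraMap R K (f i) ^ ((e i : ℤ) - n) ≠ 0 :=
      Finset.prod_ne_zero_iff.2 fun i _ => zpow_ne_zero _ (hne i)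
    calc _ = (algebraMap R K (v' : R) * ∏ i, algebraMap R K (f i) ^ b' i) *
          (∏ i, algebraMap R K (f i) ^ ((e i : ℤ) - n))⁻¹ * ∏ i, algebraMap R K (f i) ^ (-x i).toNat := by ring
      _ = _ := by rw [h1, mul_assoc (algebraMap R K (v : R)), mul_inv_cancel₀ hne', mul_one]
  simp only [← map_pow, ← map_prod, ← map_mul] at hsp
  have hR := hinj hsp
  have hzero : ∀ (y : Fin r → ℕ) (z : Fin r → ℕ) (s t : Rˣ),
      (s : R) * ∏ i, f i ^ y i = t * ∏ i, f i ^ z i → ∀ j, 0 < y j → 0 < z j := by
    intro y z s t h j hj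
    have hd : f j ∣ (t : R) * ∏ i, f i ^ z i :=
      h ▸ Dvd.dvd.mul_left ((dvd_pow_self _ hj.ne').trans (Finset.dvd_prod_of_mem (fun i => f i ^ y i) (Finset.mem_univ j))) _
    rw [Units.dvd_mul_left] at hd
    obtain ⟨i, -, hi⟩ := (hf j).exists_mem_finset_dvd hd
    rcases Nat.eq_zero_or_pos (z i) with h0 | h0
    · rw [h0, pow_zero] at hi; exact absurd (isUnit_of_dvd_one hi) (hf j).not_unit
    · rwa [hfa j i ((hf j).associated_of_dvd (hf i) ((hf j).dvd_of_dvd_pow hi))]
  have hx0 : ∀ i, x i = 0 := fun i => by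
    have h1 := hzero _ _ _ _ hR i
    have h2 := hzero _ _ _ _ hR.symm i
    omega
  have hb : b' = fun i => (e i : ℤ) - n := funext fun i => by have := hx i; have := hx0 i; omega
  refine Prod.ext (Units.ext ?_) hb
  simp only [hx0, Int.toNat_zero, neg_zero, pow_zero, Finset.prod_const_one, mul_one] at hR
  exact hR

end Groth.Agent.S18579
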