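import Groth.Statements.S18580
import Mathlib
import Groth.Agent.FFDescLib.EtaleGraph

set_option autoImplicit false
universe u
open EtBase

namespace Groth.Agent.S18580

open AlgebraicGeometry CategoryTheory in
/-- Let Y be a connected scheme and f : X ⟶ Y a separated morphism that is unramified (locally of finite
type and formally unramified). Then the sections of f correspond bijectively to the connected
components of X mapping isomorphically onto Y: there is a bijection from the set of sections s of f
to the set of open subschemes U of X whose underlying set is a connected component of X and for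
which U ⟶ X ⟶ Y is an isomorphism, sending s to its image. In particular every section is an
isomorphism onto a connected component of X and is determined by its image. (A connected component
mapping isomorphically onto Y is the image of a section, hence open, so restricting to open
components loses nothing. The published statement also assumes Y Noetherian; that hypothesis plays
no role and is omitted.) -/
theorem result {X Y : Scheme.{u}} (f : X ⟶ Y)
    [FormallyUnramified f] [LocallyOfFiniteType f] [IsSeparated f] [ConnectedSpace Y] :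
    ∃ e : {s : Y ⟶ X // s ≫ f = 𝟙 Y} ≃
        {U : X.Opens // (∃ x : X, (U : Set X) = connectedComponent x) ∧ IsIso (U.ι ≫ f)},
      ∀ s : {s : Y ⟶ X // s ≫ f = 𝟙 Y}, ((e s).1 : Set X) = Set.range s.1 := by
  have hop : ∀ s : {s : Y ⟶ X // s ≫ f = 𝟙 Y}, IsOpenImmersion s.1 := fun s =>
    FFDescLib.isOpenImmersion_of_section f s.1 s.2
  have hcl : ∀ s : {s : Y ⟶ X // s ≫ f = 𝟙 Y}, IsClosed (Set.range s.1) := fun s => by
    haveI : IsClosedImmersion (s.1 ≫ f) := by rw [s.2]; infer_instance
    haveI := IsClosedImmersion.of_comp s.1 f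
    exact s.1.isClosedEmbedding.isClosed_range
  have hcomp : ∀ s : {s : Y ⟶ X // s ≫ f = 𝟙 Y}, ∃ x : X, Set.range s.1 = connectedComponent x := fun s => by
    haveI := hop s
    obtain ⟨y⟩ := (inferInstance : Nonempty Y)
    refine ⟨s.1 y, le_antisymm ((isPreconnected_range s.1.continuous).subset_connectedComponent ⟨y, rfl⟩) ?_⟩
    exact IsClopen.connectedComponent_subset ⟨hcl s, s.1.isOpenEmbedding.isOpen_range⟩ ⟨y, rfl⟩
  have hiso : ∀ s : {s : Y ⟶ X // s ≫ f = 𝟙 Y},
      haveI := hop s
      IsIso (s.1.opensRange.ι ≫ f) := fun s => by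
    haveI := hop s
    have h1 : s.1.isoOpensRange.hom ≫ (s.1.opensRange.ι ≫ f) = 𝟙 Y := by
      rw [← Category.assoc, Scheme.Hom.isoOpensRange_hom_ι, s.2]
    exact IsIso.of_isIso_fac_left (f := s.1.isoOpensRange.hom) h1
  let toU : {s : Y ⟶ X // s ≫ f = 𝟙 Y} →
      {U : X.Opens // (∃ x : X, (U : Set X) = connectedComponent x) ∧ IsIso (U.ι ≫ f)} :=
    fun s => haveI := hop s; ⟨s.1.opensRange, hcomp s, hiso s⟩
  let toS : {U : X.Opens // (∃ x : X, (U : Set X) = connectedComponent x) ∧ IsIso (U.ι ≫ f)} →
      {s : Y ⟶ X // s ≫ f = 𝟙 Y} :=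
    fun U => haveI := U.2.2; ⟨inv (U.1.ι ≫ f) ≫ U.1.ι, by simp⟩
  refine ⟨⟨toU, toS, fun s => Subtype.ext ?_, fun U => Subtype.ext (SetLike.coe_injective ?_)⟩, fun s => rfl⟩
  · haveI := hop s
    haveI := hiso s
    change inv (s.1.opensRange.ι ≫ f) ≫ s.1.opensRange.ι = s.1
    rw [IsIso.inv_comp_eq, ← cancel_epi s.1.isoOpensRange.hom]
    simp only [Scheme.Hom.isoOpensRange_hom_ι, Scheme.Hom.isoOpensRange_hom_ι_assoc, Category.assoc,
      reassoc_of% s.2]
  · haveI := U.2.2
    change Set.range (toS U).1 = (U.1 : Set X)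
    change Set.range (inv (U.1.ι ≫ f) ≫ U.1.ι) = _
    rw [Scheme.Hom.comp_base, TopCat.coe_comp, Set.range_comp,
      ((inv (U.1.ι ≫ f)).surjective).range_eq, Set.image_univ]
    exact Scheme.Opens.range_ι U.1

end Groth.Agent.S18580
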