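import Groth.Statements.S18587
import Mathlib
-- import your own Groth.Agent.* helpers here

set_option autoImplicit false
universe u
open CAlg

namespace Groth.Agent.S18587

/-- Affine form with D = 0: let p be a prime, ℓ ≥ 1 an integer not divisible by p and n ≥ 1. Let A → B
be an injective ring homomorphism of integral domains of characteristic p such that B is spanned as
an A-module by finitely many elements y with y ^ ℓ in the image of A (a weakly ℓ-cyclic extension).
Then for every p-typical Witt vector ζ over B in the image of the n-fold Verschiebung there is a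
nonzero a in A such that the product of the Teichmüller representative of (the image of) a with ζ
lies in the ideal of W(B) generated by the images of the n-fold Verschiebungs of Witt vectors over
A. (This is the case D = 0 of the published statement, written for the coordinate rings; the
published statement allows a twist by a real Weil divisor D and assumes the rings excellent and
normal, hypotheses which the case D = 0 does not use.) -/
theorem result
    (p : ℕ) [Fact p.Prime] (ℓ n : ℕ) (hℓ : 0 < ℓ) (hpℓ : ¬ p ∣ ℓ) (hn : 0 < n)
    (A B : Type u) [CommRing A] [CommRing B] [IsDomain A] [IsDomain B] [Algebra A B]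
    [CharP A p] [CharP B p] (hinj : Function.Injective (algebraMap A B))
    (y : Finset B) (hspan : Submodule.span A (y : Set B) = ⊤)
    (hpow : ∀ b ∈ y, b ^ ℓ ∈ Set.range (algebraMap A B))
    (ζ : WittVector p B)
    (hζ : ∃ η : WittVector p B, (⇑(WittVector.verschiebung : WittVector p B →+ WittVector p B))^[n] η = ζ) :
    ∃ a : A, a ≠ 0 ∧ WittVector.teichmuller p (algebraMap A B a) * ζ ∈
      Ideal.span (Set.range (fun x : WittVector p A =>
        WittVector.map (algebraMap A B) ((⇑(WittVector.verschiebung : WittVector p A →+ WittVector p A))^[n] x))) := by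
  classical
  -- the finite set of non-zero generators and their ℓ-th powers
  set s : Finset B := y.erase 0 with hs
  have hspan' : Submodule.span A (s : Set B) = ⊤ := by
    rw [eq_top_iff, ← hspan, Submodule.span_le]
    intro z hz
    by_cases h0 : z = 0
    · subst h0; exact zero_mem _
    · exact Submodule.subset_span (by simp [hs, h0]; exact hz)
  have hex : ∀ z ∈ s, ∃ α : A, α ≠ 0 ∧ algebraMap A B α = z ^ ℓ := by
    intro z hz
    obtain ⟨hz0, hzy⟩ := Finset.mem_erase.1 hz
    obtain ⟨α, hα⟩ := hpow z hzy
    refine ⟨α, fun h => ?_, hα⟩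
    rw [h, map_zero] at hα
    exact pow_ne_zero ℓ hz0 hα.symm
  choose! α hα0 hα using hex
  set P : A := ∏ z ∈ s, α z with hP
  have hP0 : P ≠ 0 := Finset.prod_ne_zero_iff.2 hα0
  set f : A →+* B := algebraMap A B with hf
  -- the key step: a multiple of each generator is a multiple of a high p-power
  haveI : NeZero ℓ := ⟨hℓ.ne'⟩
  have hkey : ∀ (N : ℕ), ∀ z ∈ s, ∃ (u : Fin ℓ) (a : A),
      f (P ^ p ^ N) * z = f a * (z ^ (u.val + 1)) ^ p ^ N := by
    intro N z hz
    have hcop : Nat.Coprime (p ^ N) ℓ :=
      Nat.Coprime.pow_left N ((Nat.Prime.coprime_iff_not_dvd Fact.out).2 hpℓ)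
    obtain ⟨u, hu, w, hw⟩ : ∃ u < ℓ, ∃ w, p ^ N * (u + 1) = 1 + ℓ * w := by
      let v : (ZMod ℓ)ˣ := ZMod.unitOfCoprime (p ^ N) hcop
      refine ⟨(((v⁻¹ : (ZMod ℓ)ˣ) : ZMod ℓ) - 1).val, ZMod.val_lt _, ?_⟩
      set u := (((v⁻¹ : (ZMod ℓ)ˣ) : ZMod ℓ) - 1).val with hu
      have h1 : ((p ^ N * (u + 1) : ℕ) : ZMod ℓ) = ((1 : ℕ) : ZMod ℓ) := by
        rw [hu, Nat.cast_mul, Nat.cast_add, ZMod.natCast_zmod_val, Nat.cast_one, sub_add_cancel]
        exact Units.mul_inv v
      have h2 : 1 ≤ p ^ N * (u + 1) :=
        Nat.one_le_iff_ne_zero.2 (Nat.mul_ne_zero (pow_ne_zero _ (Fact.out : p.Prime).ne_zero) (by omega))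
      obtain ⟨w, hw⟩ := (Nat.modEq_iff_dvd' h2).1 ((ZMod.natCast_eq_natCast_iff _ _ _).1 h1).symm
      exact ⟨w, by omega⟩
    have hwle : w ≤ p ^ N := by
      have : ℓ * w ≤ p ^ N * ℓ := le_trans (by omega) (Nat.mul_le_mul_left (p ^ N) (show u + 1 ≤ ℓ by omega))
      rw [mul_comm (p ^ N)] at this
      exact Nat.le_of_mul_le_mul_left this hℓ
    refine ⟨⟨u, hu⟩, (∏ z' ∈ s.erase z, α z') ^ p ^ N * α z ^ (p ^ N - w), ?_⟩
    show _ = _ * (z ^ (u + 1)) ^ p ^ N
    rw [← pow_mul, mul_comm (u + 1), hw, hP, ← Finset.mul_prod_erase s α hz, mul_pow, map_mul,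
      map_mul, map_pow, map_pow, map_pow, pow_add, pow_one, pow_mul, ← hα z hz,
      ← pow_mul_pow_sub (f (α z)) hwle]
    ring
  -- coordinates with respect to the generators
  have hcoord : ∀ b : B, ∃ r : B → A, ∑ z ∈ s, r z • z = b := fun b => by
    obtain ⟨r, -, hr⟩ :=
      Submodule.mem_span_finset.1 (show b ∈ Submodule.span A (s : Set B) by rw [hspan']; trivial)
    exact ⟨r, hr⟩
  choose r hr using hcoord
  obtain ⟨η, rfl⟩ := hζ
  let V : WittVector p B →+ WittVector p B := WittVector.verschiebung
  let VA : WittVector p A →+ WittVector p A := WittVector.verschiebung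
  let F : WittVector p B →+* WittVector p B := WittVector.frobenius
  let T : B → WittVector p B := fun b => WittVector.teichmuller p b
  -- successive remainders
  let e : ℕ → WittVector p B := fun j => Nat.rec η
    (fun _ x => (x - ∑ z ∈ s, T (r (x.coeff 0) z • z)).shift 1) j
  have he : ∀ j, e j = ∑ z ∈ s, T (r ((e j).coeff 0) z • z) + V (e (j + 1)) := by
    intro j
    set x := e j
    have h0 : (x - ∑ z ∈ s, T (r (x.coeff 0) z • z)).coeff 0 = 0 := by
      rw [← WittVector.constantCoeff_apply, map_sub, map_sum]
      simp [T, WittVector.constantCoeff_apply, WittVector.teichmuller_coeff_zero, hr]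
    have h1 := WittVector.verschiebung_shift (x - ∑ z ∈ s, T (r (x.coeff 0) z • z)) 0
      (fun i hi => by obtain rfl : i = 0 := (by omega); exact h0)
    have h2 : (x - ∑ z ∈ s, T (r (x.coeff 0) z • z)).shift 0 =
        x - ∑ z ∈ s, T (r (x.coeff 0) z • z) := by
      ext i; simp [WittVector.shift_coeff]
    rw [h2] at h1
    show x = _ + V ((x - ∑ z ∈ s, T (r (x.coeff 0) z • z)).shift 1)
    simp only [V]
    rw [h1, add_sub_cancel]
  have hVadd : ∀ (j : ℕ) (a b : WittVector p B), V^[j] (a + b) = V^[j] a + V^[j] b :=
    fun j a b => iterate_map_add V j a b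
  have hVsum : ∀ (j : ℕ) {ι : Type u} (t : Finset ι) (g : ι → WittVector p B),
      V^[j] (∑ k ∈ t, g k) = ∑ k ∈ t, V^[j] (g k) := by
    intro j ι t g
    induction j with
    | zero => rfl
    | succ j ih =>
      rw [Function.iterate_succ_apply', ih, map_sum]
      simp only [Function.iterate_succ_apply']
  have hVsum' : ∀ (j : ℕ) (t : Finset (Fin ℓ)) (g : Fin ℓ → WittVector p B),
      V^[j] (∑ k ∈ t, g k) = ∑ k ∈ t, V^[j] (g k) := by
    intro j t g
    induction j with
    | zero => rfl
    | succ j ih =>
      rw [Function.iterate_succ_apply', ih, map_sum]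
      simp only [Function.iterate_succ_apply']
  have hexp : ∀ N, η = ∑ j ∈ Finset.range N, V^[j] (∑ z ∈ s, T (r ((e j).coeff 0) z • z))
      + V^[N] (e N) := by
    intro N
    induction N with
    | zero => simp [e]
    | succ N ih =>
      rw [Finset.sum_range_succ, add_assoc, Function.iterate_succ_apply, ← hVadd, ← he N]
      exact ih
  have hFT : ∀ (i : ℕ) (b : B), F^[i] (T b) = T (b ^ p ^ i) := by
    intro i
    induction i with
    | zero => intro b; simp
    | succ i ih =>
      intro b
      rw [Function.iterate_succ_apply', ih]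
      simp only [F, T]
      rw [WittVector.frobenius_eq_map_frobenius, WittVector.map_teichmuller, frobenius_def,
        ← pow_mul, ← pow_succ]
  have hmapV : ∀ (j : ℕ) (x : WittVector p A),
      WittVector.map f (VA^[j] x) = V^[j] (WittVector.map f x) := by
    intro j
    induction j with
    | zero => intro x; rfl
    | succ j ih =>
      intro x
      rw [Function.iterate_succ_apply', Function.iterate_succ_apply', ← ih]
      exact WittVector.map_verschiebung f _
  choose! U a' hUa using fun (j : ℕ) => hkey (n + j)
  let d : ℕ → B → A := fun j z => r ((e j).coeff 0) z * a' j z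
  let x : B → Fin ℓ → WittVector p A := fun z u =>
    WittVector.mk p (fun j => if U j z = u then d j z else 0)
  let Y : B → Fin ℓ → WittVector p B := fun z u => T (z ^ (u.val + 1))
  let W : WittVector p B := ∑ z ∈ s, ∑ u, WittVector.map f (x z u) * F^[n] (Y z u)
  set c : A := P ^ p ^ n with hc
  -- expansion of a Witt vector
  have hmk : ∀ (g : WittVector p A) (N : ℕ), ∀ i < N,
      (g - ∑ j ∈ Finset.range N, VA^[j] (WittVector.teichmuller p (g.coeff j))).coeff i = 0 := by
    have hone : ∀ g : WittVector p A,
        WittVector.teichmuller p (g.coeff 0) + VA (g.shift 1) = g := by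
      intro g
      ext i
      rw [WittVector.coeff_add_of_disjoint]
      · cases i with
        | zero => simp [VA, WittVector.verschiebung_coeff_zero, WittVector.teichmuller_coeff_zero]
        | succ i =>
          simp [VA, WittVector.verschiebung_coeff_succ, WittVector.shift_coeff,
            WittVector.teichmuller_coeff_pos, Nat.add_comm]
      · intro i
        cases i with
        | zero => exact Or.inr (WittVector.verschiebung_coeff_zero _)
        | succ i => exact Or.inl (WittVector.teichmuller_coeff_pos p _ _ (Nat.succ_pos i))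
    intro g N
    have hg : g = ∑ j ∈ Finset.range N, VA^[j] (WittVector.teichmuller p (g.coeff j))
        + VA^[N] (g.shift N) := by
      induction N with
      | zero =>
        simp only [Finset.range_zero, Finset.sum_empty, Function.iterate_zero, id_eq, zero_add]
        ext i; simp [WittVector.shift_coeff]
      | succ N ih =>
        rw [Finset.sum_range_succ, add_assoc, Function.iterate_succ_apply, ← iterate_map_add]
        have h1 := hone (g.shift N)
        have h2 : (g.shift N).shift 1 = g.shift (N + 1) := by
          ext i; simp [WittVector.shift_coeff, add_assoc]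
        rw [WittVector.shift_coeff, add_zero, h2] at h1
        rw [h1]
        exact ih
    intro i hi
    rw [sub_eq_iff_eq_add'.2 hg]
    exact WittVector.iterate_verschiebung_coeff_eq_zero _ hi
  -- `[c] η = W`
  have hW : T (f c) * η = W := by
    ext i
    set N := i + 1
    suffices h : WittVector.truncate N (T (f c) * η) = WittVector.truncate N W by
      have h' := congrArg (TruncatedWittVector.coeff ⟨i, Nat.lt_succ_self i⟩) h
      rw [WittVector.coeff_truncate, WittVector.coeff_truncate] at h'
      exact h'
    have hV0 : ∀ z : WittVector p B, WittVector.truncate N (V^[N] z) = 0 := fun z =>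
      (WittVector.mem_ker_truncate N _).2 fun k hk =>
        WittVector.iterate_verschiebung_coeff_eq_zero z hk
    have hx : ∀ (z : B) (u : Fin ℓ), WittVector.truncate N (WittVector.map f (x z u)) =
        WittVector.truncate N (WittVector.map f (∑ j ∈ Finset.range N,
          VA^[j] (WittVector.teichmuller p (if U j z = u then d j z else 0)))) := by
      intro z u
      rw [← sub_eq_zero, ← map_sub, ← map_sub]
      refine (WittVector.mem_ker_truncate N _).2 fun k hk => ?_
      have h3 : ∀ j, (if U j z = u then d j z else 0) = (x z u).coeff j := fun j => by simp [x]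
      simp only [h3]
      rw [WittVector.map_coeff, hmk (x z u) N k hk, map_zero]
    have hterm : ∀ (j : ℕ), ∀ z ∈ s, T (f c) * V^[j] (T (r ((e j).coeff 0) z • z)) =
        V^[j] (WittVector.map f (WittVector.teichmuller p (d j z))) * F^[n] (Y z (U j z)) := by
      intro j z hz
      simp only [V, F]
      rw [mul_comm, WittVector.iterate_verschiebung_mul_left, WittVector.iterate_verschiebung_mul_left]
      congr 1
      show T _ * F^[j] (T _) = WittVector.map f _ * F^[j] (F^[n] (T _))
      rw [← Function.iterate_add_apply, hFT, hFT, WittVector.map_teichmuller]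
      simp only [T]
      rw [← map_mul, ← map_mul]
      congr 1
      have h4 := hUa j z hz
      rw [hc, Algebra.smul_def, ← map_pow, ← pow_mul, ← pow_add, add_comm j n, ← hf, map_mul,
        mul_assoc, mul_comm z, h4]
      ring
    rw [hexp N, mul_add, map_add, map_mul (WittVector.truncate N) (T (f c)) (V^[N] (e N)), hV0,
      mul_zero, add_zero]
    simp only [W, map_sum, map_mul, hx]
    simp only [← map_sum, ← map_mul]
    congr 1
    simp only [Finset.mul_sum, hVsum, map_sum, Finset.sum_mul]
    rw [Finset.sum_comm]
    refine Finset.sum_congr rfl fun z hz => ?_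
    rw [Finset.sum_comm]
    refine Finset.sum_congr rfl fun j _ => ?_
    rw [hterm j z hz, Finset.sum_eq_single (U j z)]
    · rw [if_pos rfl, hmapV]
    · intro u _ hu
      rw [if_neg (Ne.symm hu), WittVector.teichmuller_zero, iterate_map_zero, map_zero, zero_mul]
    · simp
  refine ⟨P, hP0, ?_⟩
  have h5 : T (f P) * V^[n] η = ∑ z ∈ s, ∑ u, WittVector.map f (VA^[n] (x z u)) * Y z u := by
    simp only [V]
    rw [mul_comm, WittVector.iterate_verschiebung_mul_left]
    show V^[n] (η * F^[n] (T (f P))) = _
    rw [hFT, ← map_pow, ← hc, mul_comm, hW]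
    simp only [W, hVsum, hVsum']
    refine Finset.sum_congr rfl fun z _ => Finset.sum_congr rfl fun u _ => ?_
    rw [hmapV]
    exact (WittVector.iterate_verschiebung_mul_left _ _ n).symm
  show T (f P) * V^[n] η ∈ _
  rw [h5]
  refine Ideal.sum_mem _ fun z _ => Ideal.sum_mem _ fun u _ => ?_
  exact Ideal.mul_mem_right _ _ (Ideal.subset_span ⟨x z u, rfl⟩)

end Groth.Agent.S18587
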