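import Groth.Statements.S18589
import Mathlib.RingTheory.WittVector.Defs
import Mathlib.RingTheory.MvPolynomial.WeightedHomogeneous

set_option autoImplicit false
open CAlg

namespace Groth.Agent.S18589

/-- For a prime p and every natural number n, the n-th Witt addition polynomial over the integers (the
polynomial S_n with (x + y)_n = S_n(x_0, y_0, …, x_n, y_n) for p-typical Witt vectors x, y) is
weighted homogeneous of weighted degree p ^ n for the grading in which the variables x_i and y_i
have weight p ^ i. -/
theorem result (p : ℕ) [Fact p.Prime] (n : ℕ) :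
    MvPolynomial.IsWeightedHomogeneous (fun i : Fin 2 × ℕ => p ^ i.2) (WittVector.wittAdd p n) (p ^ n) := by
  suffices h : MvPolynomial.IsWeightedHomogeneous (fun i : Fin 2 × ℕ => p ^ i.2)
      (wittStructureRat p (MvPolynomial.X 0 + MvPolynomial.X 1 : MvPolynomial (Fin 2) ℚ) n) (p ^ n) by
    intro d hd
    refine h (d := d) ?_
    have h1 := map_wittStructureInt p (MvPolynomial.X 0 + MvPolynomial.X 1 : MvPolynomial (Fin 2) ℤ) n
    simp only [map_add, MvPolynomial.map_X] at h1
    rw [← h1, MvPolynomial.coeff_map]
    simpa [WittVector.wittAdd] using hd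
  induction n using Nat.strong_induction_on with
  | _ n ih =>
    rw [wittStructureRat_rec]
    refine MvPolynomial.IsWeightedHomogeneous.C_mul ?_ _
    refine MvPolynomial.IsWeightedHomogeneous.sub ?_ ?_
    · have hb : ∀ b : Fin 2, MvPolynomial.IsWeightedHomogeneous (fun i : Fin 2 × ℕ => p ^ i.2)
          (MvPolynomial.rename (fun i => (b, i)) (wittPolynomial p ℚ n)) (p ^ n) := by
        intro b
        rw [wittPolynomial_eq_sum_C_mul_X_pow, map_sum]
        refine MvPolynomial.IsWeightedHomogeneous.sum _ _ _ fun i hi => ?_
        simp only [map_mul, map_pow, MvPolynomial.rename_C, MvPolynomial.rename_X]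
        rw [← map_pow]
        refine MvPolynomial.IsWeightedHomogeneous.C_mul ?_ _
        have := (MvPolynomial.isWeightedHomogeneous_X ℚ (fun i : Fin 2 × ℕ => p ^ i.2) (b, i)).pow
          (p ^ (n - i))
        rw [Finset.mem_range] at hi
        rwa [smul_eq_mul, ← pow_add, Nat.sub_add_cancel (by omega)] at this
      simp only [map_add, MvPolynomial.bind₁_X_right]
      exact (hb 0).add (hb 1)
    · refine MvPolynomial.IsWeightedHomogeneous.sum _ _ _ fun i hi => ?_
      rw [Finset.mem_range] at hi
      refine MvPolynomial.IsWeightedHomogeneous.C_mul ?_ _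
      have := (ih i hi).pow (p ^ (n - i))
      rwa [smul_eq_mul, ← pow_add, Nat.sub_add_cancel hi.le] at this

end Groth.Agent.S18589
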