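import Groth.Prelude.Def_W4c5suslinpi1abAdj

/-! # Projection morphisms, exterior products and shriek products -/

set_option autoImplicit false

universe v u

open CategoryTheory MonoidalCategory Functor.LaxMonoidal Functor.OplaxMonoidal

namespace SuslinAdj

open W4c5suslinpi1ab

variable {C : Type u} [Category.{v} C] [MonoidalCategory C]
variable {D : Type u} [Category.{v} D] [MonoidalCategory D]
variable {L : C ⥤ D} {R : D ⥤ C} (adj : L ⊣ R) [R.LaxMonoidal]

theorem projR_natural_left {A A' : D} (f : A ⟶ A') (B : C) :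
    (R.map f ▷ B) ≫ projR adj A' B = projR adj A B ≫ R.map (f ▷ L.obj B) := by
  rw [projR, projR, ← whisker_exchange_assoc, Category.assoc]
  dsimp only [Functor.comp_obj, Functor.id_obj]
  rw [μ_natural_left]

theorem projR_natural_right (A : D) {B B' : C} (g : B ⟶ B') :
    (R.obj A ◁ g) ≫ projR adj A B' = projR adj A B ≫ R.map (A ◁ L.map g) := by
  rw [projR, projR, ← MonoidalCategory.whiskerLeft_comp_assoc, Category.assoc, ← μ_natural_right,
    ← MonoidalCategory.whiskerLeft_comp_assoc]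
  exact congrArg (fun t => (R.obj A ◁ t) ≫ μ R A (L.obj B')) (adj.unit.naturality g)

theorem projL_natural_left {A A' : C} (f : A ⟶ A') (B : D) :
    (f ▷ R.obj B) ≫ projL adj A' B = projL adj A B ≫ R.map (L.map f ▷ B) := by
  rw [projL, projL, ← MonoidalCategory.comp_whiskerRight_assoc, Category.assoc, ← μ_natural_left,
    ← MonoidalCategory.comp_whiskerRight_assoc]
  exact congrArg (fun t => (t ▷ R.obj B) ≫ μ R (L.obj A') B) (adj.unit.naturality f)

theorem projL_natural_right (A : C) {B B' : D} (g : B ⟶ B') :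
    (A ◁ R.map g) ≫ projL adj A B' = projL adj A B ≫ R.map (L.obj A ◁ g) := by
  rw [projL, projL, whisker_exchange_assoc, Category.assoc]
  dsimp only [Functor.comp_obj, Functor.id_obj]
  rw [μ_natural_right]

variable [L.OplaxMonoidal] [adj.IsMonoidal]

theorem map_projR_comp_counit (A : D) (B : C) :
    L.map (projR adj A B) ≫ adj.counit.app (A ⊗ L.obj B) = δ L (R.obj A) B ≫ (adj.counit.app A ▷ L.obj B) := by
  rw [projR, Functor.map_comp, Category.assoc, adj.map_μ_comp_counit_app_tensor]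
  dsimp only [Functor.comp_obj, Functor.id_obj]
  rw [← δ_natural_right_assoc,
    ← id_tensorHom, tensorHom_comp_tensorHom, Category.id_comp, adj.left_triangle_components]
  simp

theorem map_projL_comp_counit (A : C) (B : D) :
    L.map (projL adj A B) ≫ adj.counit.app (L.obj A ⊗ B) = δ L A (R.obj B) ≫ (L.obj A ◁ adj.counit.app B) := by
  rw [projL, Functor.map_comp, Category.assoc, adj.map_μ_comp_counit_app_tensor]
  dsimp only [Functor.comp_obj, Functor.id_obj]
  rw [← δ_natural_left_assoc,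
    ← tensorHom_id, tensorHom_comp_tensorHom, Category.id_comp, adj.left_triangle_components]
  simp

theorem cupShriek_natural_right {S : C ⥤ D} (adj' : R ⊣ S) [∀ (A : D) (B : C), IsIso (projR adj A B)]
    (A : C) {B B' : C} (g : B ⟶ B') :
    cupShriek adj adj' A B ≫ S.map (A ◁ g) = (S.obj A ◁ L.map g) ≫ cupShriek adj adj' A B' := by
  have e : inv (projR adj (S.obj A) B) ≫ (R.obj (S.obj A) ◁ g) = R.map (S.obj A ◁ L.map g) ≫ inv (projR adj (S.obj A) B') := by
    rw [IsIso.inv_comp_eq, ← Category.assoc, IsIso.eq_comp_inv, projR_natural_right]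
  rw [cupShriek, cupShriek, ← adj'.homEquiv_naturality_right, ← adj'.homEquiv_naturality_left]
  refine congrArg (adj'.homEquiv _ _) ?_
  rw [Category.assoc, ← reassoc_of% e]
  exact congrArg (fun t => inv (projR adj (S.obj A) B) ≫ t) (whisker_exchange (adj'.counit.app A) g).symm

section Square

variable {S₀ : Type u} [Category.{v} S₀] [MonoidalCategory S₀]
variable {Y₁ : Type u} [Category.{v} Y₁] [MonoidalCategory Y₁]
variable {Y₂ : Type u} [Category.{v} Y₂] [MonoidalCategory Y₂]
variable {X : Type u} [Category.{v} X] [MonoidalCategory X]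
variable {fL : S₀ ⥤ Y₁} {fR : Y₁ ⥤ S₀} (adjf : fL ⊣ fR) [fL.OplaxMonoidal] [fR.LaxMonoidal] [adjf.IsMonoidal]
  {gR : Y₂ ⥤ S₀}
variable {pL : Y₁ ⥤ X} {pR : X ⥤ Y₁} (adjp : pL ⊣ pR) [pL.OplaxMonoidal] [pR.LaxMonoidal] [adjp.IsMonoidal]
  {qL : Y₂ ⥤ X} {qR : X ⥤ Y₂} (adjq : qL ⊣ qR) (ν : qR ⋙ gR ⟶ pR ⋙ fR)

theorem extProd_adjoint (A : Y₁) (B : Y₂) :
    ((adjf.comp adjp).homEquiv _ _).symm (extProd adjf adjp adjq ν A B) =
      δ (fL ⋙ pL) (fR.obj A) (gR.obj B) ≫
        (pL.map (adjf.counit.app A) ⊗ₘ (pL.map ((bcMor adjf adjq ν).app B) ≫ adjp.counit.app (qL.obj B))) := by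
  rw [Adjunction.homEquiv_counit, Adjunction.comp_counit_app, Functor.comp_map, ← pL.map_comp_assoc]
  have h1 : fL.map (extProd adjf adjp adjq ν A B) ≫ adjf.counit.app (pR.obj (pL.obj A ⊗ qL.obj B)) =
      δ fL (fR.obj A) (gR.obj B) ≫ (adjf.counit.app A ⊗ₘ (bcMor adjf adjq ν).app B) ≫ projL adjp A (qL.obj B) := by
    rw [extProd, Functor.map_comp, Functor.map_comp, Category.assoc, Category.assoc]
    erw [adjf.counit_naturality, adjf.counit_naturality_assoc]
    rw [reassoc_of% (map_projR_comp_counit adjf A (gR.obj B)), tensorHom_def, Category.assoc]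
    rfl
  have hδ : δ (fL ⋙ pL) (fR.obj A) (gR.obj B) = pL.map (δ fL (fR.obj A) (gR.obj B)) ≫ δ pL _ _ :=
    Functor.OplaxMonoidal.comp_δ _ _ _ _
  erw [h1]
  rw [Functor.map_comp, Functor.map_comp, Category.assoc, Category.assoc, map_projL_comp_counit, hδ,
    Category.assoc]
  dsimp only [Functor.comp_obj, Functor.id_obj]
  rw [← δ_natural_assoc, ← id_tensorHom, tensorHom_comp_tensorHom, Category.comp_id]

theorem extProd_natural {A A' : Y₁} (f : A ⟶ A') {B B' : Y₂} (g : B ⟶ B') :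
    extProd adjf adjp adjq ν A B ≫ fR.map (pR.map (pL.map f ⊗ₘ qL.map g)) =
      (fR.map f ⊗ₘ gR.map g) ≫ extProd adjf adjp adjq ν A' B' := by
  rw [extProd, extProd, tensorHom_def (fR.map f), Category.assoc, Category.assoc, Category.assoc,
    ← Functor.map_comp, ← Functor.map_comp, ← Functor.map_comp, reassoc_of% (projR_natural_right adjf A' (gR.map g)),
    ← fR.map_comp, reassoc_of% (projR_natural_left adjf f (gR.obj B)), ← fR.map_comp]
  congr 2
  have hbc := (bcMor adjf adjq ν).naturality g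
  rw [← MonoidalCategory.whiskerLeft_comp_assoc]
  dsimp only [Functor.comp_obj, Functor.comp_map] at hbc
  rw [hbc, MonoidalCategory.whiskerLeft_comp_assoc, ← whisker_exchange_assoc, projL_natural_right,
    tensorHom_def (pL.map f), pR.map_comp]
  congr 1
  rw [← reassoc_of% (projL_natural_left adjp f (qL.obj B))]

variable {fS : S₀ ⥤ Y₁} (adjf' : fR ⊣ fS) {gS : S₀ ⥤ Y₂} (adjg' : gR ⊣ gS) {pS : Y₁ ⥤ X} (adjp' : pR ⊣ pS)
  [∀ (A : Y₁) (B : S₀), IsIso (projR adjf A B)] [∀ (A : Y₁) (B : X), IsIso (projL adjp A B)]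
  [∀ B : Y₂, IsIso ((bcMor adjf adjq ν).app B)]

theorem extProd_prodShriek_counit (A B : S₀) :
    extProd adjf adjp adjq ν (fS.obj A) (gS.obj B) ≫
      fR.map (pR.map (prodShriek adjf adjf' adjg' adjp adjp' adjq ν A B)) ≫ fR.map (adjp'.counit.app (fS.obj (A ⊗ B))) =
      (fR.obj (fS.obj A) ◁ adjg'.counit.app B) ≫ projR adjf (fS.obj A) B ≫ fR.map (cupShriek adjf adjf' A B) := by
  have h1 : pR.map (prodShriek adjf adjf' adjg' adjp adjp' adjq ν A B) ≫ adjp'.counit.app (fS.obj (A ⊗ B)) =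
      inv (projL adjp (fS.obj A) (qL.obj (gS.obj B))) ≫
        (fS.obj A ◁ inv ((bcMor adjf adjq ν).app (gS.obj B))) ≫
        cupShriek adjf adjf' A (gR.obj (gS.obj B)) ≫ fS.map (A ◁ adjg'.counit.app B) := by
    exact (adjp'.homEquiv_counit _ _ _).symm.trans (Equiv.symm_apply_apply _ _)
  rw [← fR.map_comp, h1, cupShriek_natural_right, extProd, Category.assoc, Category.assoc, ← fR.map_comp,
    IsIso.hom_inv_id_assoc, ← fR.map_comp, ← MonoidalCategory.whiskerLeft_comp_assoc]
  erw [IsIso.hom_inv_id]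
  rw [MonoidalCategory.whiskerLeft_id, Category.id_comp, fR.map_comp]
  erw [← reassoc_of% (projR_natural_right adjf (fS.obj A) (adjg'.counit.app B))]
  rfl

theorem extProd_prodShriek_adjoint (A B : S₀) :
    extProd adjf adjp adjq ν (fS.obj A) (gS.obj B) ≫
      ((adjp'.comp adjf').homEquiv _ _).symm (prodShriek adjf adjf' adjg' adjp adjp' adjq ν A B) =
      (adjf'.counit.app A ⊗ₘ adjg'.counit.app B) := by
  have h1 : ((adjp'.comp adjf').homEquiv _ _).symm (prodShriek adjf adjf' adjg' adjp adjp' adjq ν A B) =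
      (fR.map (pR.map (prodShriek adjf adjf' adjg' adjp adjp' adjq ν A B)) ≫
        fR.map (adjp'.counit.app (fS.obj (A ⊗ B)))) ≫ adjf'.counit.app (A ⊗ B) := by
    rw [Adjunction.homEquiv_counit, Adjunction.comp_counit_app, Category.assoc]
    rfl
  rw [h1]
  simp only [Category.assoc]
  rw [reassoc_of% (extProd_prodShriek_counit adjf adjp adjq ν adjf' adjg' adjp' A B)]
  have h2 : fR.map (cupShriek adjf adjf' A B) ≫ adjf'.counit.app (A ⊗ B) =
      inv (projR adjf (fS.obj A) B) ≫ (adjf'.counit.app A ▷ B) := by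
    exact (adjf'.homEquiv_counit _ _ _).symm.trans (Equiv.symm_apply_apply _ _)
  rw [h2, IsIso.hom_inv_id_assoc, tensorHom_def']
  rfl

theorem prodShriek_compatible (A B : S₀) (A' : Y₁) (B' : Y₂) (C' : X)
    (trA : A' ⟶ fS.obj A) (trB : B' ⟶ gS.obj B) (trC : C' ⟶ pS.obj (fS.obj (A ⊗ B)))
    (m : pL.obj A' ⊗ qL.obj B' ⟶ C') :
    ((pL.map trA ⊗ₘ qL.map trB) ≫ prodShriek adjf adjf' adjg' adjp adjp' adjq ν A B = m ≫ trC) ↔
      (((adjf'.homEquiv _ _).symm trA ⊗ₘ (adjg'.homEquiv _ _).symm trB) =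
        extProd adjf adjp adjq ν A' B' ≫ fR.map (pR.map m) ≫ ((adjp'.comp adjf').homEquiv _ _).symm trC) := by
  have hiso : IsIso (extProd adjf adjp adjq ν A' B') := by
    rw [extProd]
    infer_instance
  rw [← ((adjp'.comp adjf').homEquiv _ _).symm.injective.eq_iff]
  erw [(adjp'.comp adjf').homEquiv_naturality_left_symm (pL.map trA ⊗ₘ qL.map trB),
    (adjp'.comp adjf').homEquiv_naturality_left_symm m]
  rw [← cancel_epi (extProd adjf adjp adjq ν A' B')]
  have h : extProd adjf adjp adjq ν A' B' ≫ (pR ⋙ fR).map (pL.map trA ⊗ₘ qL.map trB) ≫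
      ((adjp'.comp adjf').homEquiv _ _).symm (prodShriek adjf adjf' adjg' adjp adjp' adjq ν A B) =
      ((adjf'.homEquiv _ _).symm trA ⊗ₘ (adjg'.homEquiv _ _).symm trB) := by
    rw [Adjunction.homEquiv_counit adjf', Adjunction.homEquiv_counit adjg', ← tensorHom_comp_tensorHom,
      ← extProd_prodShriek_adjoint adjf adjp adjq ν adjf' adjg' adjp' A B]
    exact (Category.assoc _ _ _).symm.trans ((congrArg (· ≫ _) (extProd_natural adjf adjp adjq ν trA trB)).trans (Category.assoc _ _ _))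
  rw [h]
  exact Iff.rfl

end Square

end SuslinAdj
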