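import Groth.Statements.S18595
import Groth.Agent.CycHorizLib.Geom
import Groth.Agent.CycHorizLib.Curve
import Groth.Agent.CycHorizLib.Topo
import Groth.Agent.CycSeqLib.Family
import Groth.Agent.CycLimLib.Basic
import Groth.Agent.CycDivLib.Pull

set_option autoImplicit false
set_option linter.style.haveILetI false
set_option backward.isDefEq.respectTransparency false
set_option backward.isDefEq.respectTransparency.types false

set_option autoImplicit false
universe u
open Cyc

namespace Groth.Agent.S18595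

open AlgebraicGeometry CategoryTheory CategoryTheory.Limits in
/-- Let k be a perfect field, X an integral smooth proper curve over k (proper standing for projective)
and P = X ×_k A¹_k, presented by a pullback square with projections p₁ : P ⟶ X and p₂ : P ⟶ Spec
k[T]. Fix a dimension function δ on P (in the sense of Cyc.IsSetup) and the integer c with δ(z) + 1
= c at every closed point z of P, so that the c-cycles on P are its Weil divisors. Then every
c-cycle α on P is rationally equivalent, as a c-cycle, to a c-cycle β without vertical components: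
every point z with β(z) ≠ 0 lies over the generic point of X, i.e. each prime component of β is
quasi-finite and dominant over X (equidimensional of relative dimension zero over X). (The published
statement is for any smooth projective curve; its connected components are treated one at a time and
a smooth proper curve over a field is projective, so X is taken integral and proper here.) -/
theorem result
    (k : Type u) [Field k] [PerfectField k] {X P : Scheme.{u}} (f : X ⟶ Spec (CommRingCat.of k))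
    [IsIntegral X] [IsProper f] [Smooth f] (hdim : topologicalKrullDim X = 1)
    (p₁ : P ⟶ X) (p₂ : P ⟶ Spec (CommRingCat.of (Polynomial k)))
    (hP : IsPullback p₁ p₂ f (Spec.map (CommRingCat.ofHom (Polynomial.C : k →+* Polynomial k))))
    (δ : P → ℤ) (hδ : Cyc.IsSetup P δ) (c : ℤ)
    (hc : ∀ z : P, IsClosed ({z} : Set P) → δ z + 1 = c)
    (α : AlgebraicCycle P ℤ) (hα : α ∈ Cyc.Zk P δ c) :
    ∃ β ∈ Cyc.Zk P δ c, Cyc.RatEquiv δ c α β ∧ ∀ z : P, β z ≠ 0 → p₁ z = genericPoint X := by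
  classical
  haveI := hδ.1
  haveI : IsIntegral P := CycHorizLib.isIntegral_total hP
  haveI : IsLocallyNoetherian X := LocallyOfFiniteType.isLocallyNoetherian f
  haveI : CompactSpace X := QuasiCompact.compactSpace_of_compactSpace f
  haveI : QuasiCompact p₁ := MorphismProperty.of_isPullback hP.flip
    (inferInstance : QuasiCompact (Spec.map (CommRingCat.ofHom (Polynomial.C : k →+* Polynomial k))))
  haveI : CompactSpace P := QuasiCompact.compactSpace_of_compactSpace p₁
  obtain ⟨ξ, hξ⟩ : ∃ ξ : P, ξ = genericPoint P := ⟨_, rfl⟩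
  have hη : p₁ ξ = genericPoint X := by rw [hξ]; exact CycHorizLib.fst_generic hP
  have hsp : ∀ x : P, ξ ⤳ x := fun x => hξ ▸ genericPoint_specializes x
  have hspX : ∀ y : X, p₁ ξ ⤳ y := fun y => hη ▸ genericPoint_specializes y
  have hclosed : ∀ z : P, p₁ z ≠ genericPoint X → IsClosed ({p₁ z} : Set X) := fun z hz =>
    CycHorizLib.isClosed_of_ne hdim.le hz
  have hnc : ∀ z : P, δ z = c → ¬ IsClosed ({z} : Set P) := fun z hz h => by
    have := hc z h
    omega
  -- the fibre has only one point of dimension c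
  have huniq : ∀ z z' : P, δ z = c → δ z' = c → p₁ z = p₁ z' → p₁ z ≠ genericPoint X → z = z' := by
    intro z z' hz hz' heq hv
    obtain ⟨j, s, h⟩ := CycHorizLib.exists_fibre hP (p₁ z)
    have hg : ∀ y : P, δ y = c → p₁ y = p₁ z → j (genericPoint _) = y := fun y hy hyz => by
      obtain ⟨hgen, -⟩ := CycHorizLib.isGen_of_not_closed hP (hyz ▸ hclosed z hv) (hnc y hy)
      obtain ⟨w, hw⟩ := (CycAffLib.range_of_isPullback h).ge (show y ∈ p₁ ⁻¹' {p₁ z} from hyz)
      refine hgen _ ((Set.mem_singleton_iff.1 ((CycAffLib.range_of_isPullback h).le ⟨_, rfl⟩)).trans hyz.symm) ?_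
      exact ((genericPoint_specializes w).map j.continuous).trans (specializes_of_eq hw)
    exact (hg z hz rfl).symm.trans (hg z' hz' heq.symm)
  let T0 : Γ(P, ⊤) := p₂.appTop ((Scheme.ΓSpecIso _).inv (Polynomial.X : Polynomial k))
  let t : P.residueField ξ := P.evaluation ⊤ ξ trivial T0
  let θ : X.residueField (p₁ ξ) →+* P.residueField ξ := (CycDivLib.gpull p₁ (rfl : p₁ ξ = p₁ ξ)).hom
  -- local computation
  have key : ∀ z : P, δ z = c → p₁ z ≠ genericPoint X → EquidimLib.dimBetween ξ z ≤ 1 ∧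
      ∀ d : X.residueField (p₁ ξ), d ≠ 0 →
        ((d ∈ Set.range (Cyc.specMap (p₁ z) (p₁ ξ) (hspX _)) →
            t + θ d ≠ 0 ∧ Cyc.ordAt z ξ (hsp z) (t + θ d) = 0) ∧
          (Cyc.ordAt (p₁ z) (p₁ ξ) (hspX _) d < 0 →
            t + θ d ≠ 0 ∧ Cyc.ordAt z ξ (hsp z) (t + θ d) = Cyc.ordAt (p₁ z) (p₁ ξ) (hspX _) d)) := by
    intro z hz hv
    haveI := CycHorizLib.isDVR (f := f) hdim (hclosed z hv)
    obtain ⟨ϖ, hϖ⟩ := IsDiscreteValuationRing.exists_irreducible (X.presheaf.stalk (p₁ z))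
    have hm := hϖ.maximalIdeal_eq
    have hdX := CycHorizLib.dimBetween_le_one (hspX (p₁ z)) hm
    have hmP := CycHorizLib.maximalIdeal_eq hP (hclosed z hv) (hnc z hz) hm
    have hd := CycHorizLib.dimBetween_le_one (hsp z) hmP
    refine ⟨hd, fun d hd0 => ?_⟩
    have hgp : ∀ a : X.presheaf.stalk (p₁ z),
        θ (Cyc.specMap (p₁ z) (p₁ ξ) (hspX _) a) = Cyc.specMap z ξ (hsp z) (p₁.stalkMap z a) := fun a =>
      CycDivLib.gpull_specMap p₁ rfl (hspX _) (hsp z) a
    have hne : p₁.stalkMap z ϖ ≠ 0 := fun e => hϖ.ne_zero (CycHorizLib.specMap_injective hη (hspX _)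
      (θ.injective (by rw [hgp, e, map_zero, map_zero, map_zero])))
    have ht : t = Cyc.specMap z ξ (hsp z) (P.presheaf.germ ⊤ z trivial T0) :=
      (CycPushLib.specMap_germ (hsp z) (U := ⊤) trivial trivial T0).symm
    refine ⟨?_, fun hlt => ?_⟩
    · rintro ⟨a, rfl⟩
      have hu := CycHorizLib.isUnit_add hP (hclosed z hv) (hnc z hz) a
      rw [hgp, ht, ← map_add]
      exact ⟨(hu.map _).ne_zero, CycHorizLib.ord_unit hξ (hsp z) hd hu⟩
    · obtain ⟨hge, -⟩ | ⟨-, b, hbm, hb⟩ := CycHorizLib.exists_form hη (hspX (p₁ z)) hd0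
      · omega
      have hb0 : b ≠ 0 := fun e => by rw [e, map_zero, mul_zero] at hb; exact zero_ne_one hb
      obtain ⟨n, u, rfl⟩ := IsDiscreteValuationRing.eq_unit_mul_pow_irreducible hb0 hϖ
      rw [mul_comm (u : X.presheaf.stalk (p₁ z))] at hb hbm hb0
      have hsb : Cyc.specMap (p₁ z) (p₁ ξ) (hspX _) (ϖ ^ n * u) ≠ 0 := right_ne_zero_of_mul_eq_one hb
      have hordX : Cyc.ordAt (p₁ z) (p₁ ξ) (hspX _) d = -(n : ℤ) := by
        have h1 := CycDivLib.ordAt_mul (hspX (p₁ z)) hdX hd0 hsb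
        rw [hb, CycHorizLib.ord_pow_mul hη _ hdX hm hϖ.ne_zero n u.isUnit,
          ← map_one (Cyc.specMap (p₁ z) (p₁ ξ) (hspX _)), CycHorizLib.ord_unit hη _ hdX isUnit_one] at h1
        omega
      have hψb : p₁.stalkMap z (ϖ ^ n * u) = p₁.stalkMap z ϖ ^ n * p₁.stalkMap z u := by rw [map_mul, map_pow]
      have hu : IsUnit (P.presheaf.germ ⊤ z trivial T0 * p₁.stalkMap z (ϖ ^ n * u) + 1) := by
        refine IsLocalRing.notMem_maximalIdeal.1 fun hmem => ?_
        refine (IsLocalRing.maximalIdeal.isMaximal (P.presheaf.stalk z)).ne_top ((Ideal.eq_top_iff_one _).2 ?_)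
        have h2 : p₁.stalkMap z (ϖ ^ n * u) ∈ IsLocalRing.maximalIdeal (P.presheaf.stalk z) := by
          rw [hmP]
          rw [hm, Ideal.mem_span_singleton] at hbm
          exact Ideal.mem_span_singleton.2 (map_dvd (p₁.stalkMap z).hom hbm)
        simpa using Ideal.sub_mem _ hmem (Ideal.mul_mem_left _ (P.presheaf.germ ⊤ z trivial T0) h2)
      have hθb : θ (Cyc.specMap (p₁ z) (p₁ ξ) (hspX _) (ϖ ^ n * u)) ≠ 0 := (map_ne_zero θ).2 hsb
      have hF : t + θ d = Cyc.specMap z ξ (hsp z) (P.presheaf.germ ⊤ z trivial T0 * p₁.stalkMap z (ϖ ^ n * u) + 1) /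
          Cyc.specMap z ξ (hsp z) (p₁.stalkMap z (ϖ ^ n * u)) := by
        rw [← hgp, eq_div_iff hθb, add_mul, ← map_mul θ, hb, map_one, ht, hgp]
        simp only [map_add, map_mul, map_one]
      have hψne : Cyc.specMap z ξ (hsp z) (p₁.stalkMap z (ϖ ^ n * u)) ≠ 0 := by rw [← hgp]; exact hθb
      have hnum := (hu.map (Cyc.specMap z ξ (hsp z))).ne_zero
      refine ⟨by rw [hF]; exact div_ne_zero hnum hψne, ?_⟩
      rw [hF, CycDivLib.ordAt_div (hsp z) hd hnum hψne, CycHorizLib.ord_unit hξ (hsp z) hd hu, hψb,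
        CycHorizLib.ord_pow_mul hξ (hsp z) hd hmP hne n (u.isUnit.map _), hordX]
      ring
  -- the points to remove
  let V : Set P := {z | α z ≠ 0 ∧ p₁ z ≠ genericPoint X}
  have hVfin : V.Finite := (CycLimLib.support_finite α).subset fun z hz => hz.1
  haveI : Finite V := hVfin.to_subtype
  have hVδ : ∀ i : V, δ i.1 = c := fun i => by_contra fun h => i.2.1 (hα i.1 h)
  choose D₁ D₂ hD₁ hD₂ hD₁0 hD₂0 hD hreg using fun i : V =>
    CycHorizLib.exists_pair (f := f) hdim hη (hclosed i.1 i.2.2) (hspX (p₁ i.1))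
  have hF0 : ∀ i : V, t + θ (D₁ i) ≠ 0 ∧ t + θ (D₂ i) ≠ 0 := fun i =>
    ⟨((key i.1 (hVδ i) i.2.2).2 _ (hD₁0 i)).2 (hD₁ i) |>.1, ((key i.1 (hVδ i) i.2.2).2 _ (hD₂0 i)).2 (hD₂ i) |>.1⟩
  have hξδ : V.Nonempty → δ ξ = c + 1 := by
    rintro ⟨z, hz⟩
    have hzc := hVδ ⟨z, hz⟩
    obtain ⟨hd, -⟩ := key z hzc hz.2
    have hne : ξ ≠ z := fun e => hz.2 (by rw [← e]; exact hη)
    refine ((hδ.2.2 ξ z (hsp z) hne).2 fun v hξv hvz => ?_).trans (by rw [hzc])
    exact CycHorizLib.immediate hξ hd (hsp z) hvz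
  let A : CycSeqLib.Fam P δ c :=
    { I := V
      ξ := fun _ => ξ
      f := fun i => ((t + θ (D₁ i)) / (t + θ (D₂ i))) ^ (α i.1)
      delta := fun i => hξδ ⟨i.1, i.2⟩
      ne_zero := fun i => zpow_ne_zero _ (div_ne_zero (hF0 i).1 (hF0 i).2)
      locFin := fun x => ⟨Set.univ, isOpen_univ, trivial, Set.toFinite _⟩ }
  have hsum : ∀ z : P, δ z = c → p₁ z ≠ genericPoint X → A.sum z = α z := by
    intro z hz hv
    obtain ⟨hd, hk⟩ := key z hz hv
    have hterm : ∀ i : V, Cyc.divFun δ (A.ξ i) (A.f i) z = if z = i.1 then α i.1 else 0 := by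
      intro i
      have hne := hF0 i
      show Cyc.divFun δ ξ (((t + θ (D₁ i)) / (t + θ (D₂ i))) ^ (α i.1)) z = _
      rw [Cyc.divFun, dif_pos ⟨hsp z, by rw [hξδ ⟨i.1, i.2⟩, hz]⟩, CycHorizLib.ordAt_zpow (hsp z) hd
        (div_ne_zero hne.1 hne.2), CycDivLib.ordAt_div (hsp z) hd hne.1 hne.2]
      by_cases hzi : z = i.1
      · rw [if_pos hzi]
        have h1 := ((hk (D₁ i) (hD₁0 i)).2 (by rw [hzi]; exact hD₁ i)).2
        have h2 := ((hk (D₂ i) (hD₂0 i)).2 (by rw [hzi]; exact hD₂ i)).2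
        rw [h1, h2]
        subst hzi
        rw [hD i, mul_one]
      · rw [if_neg hzi]
        obtain ⟨r1, r2⟩ := hreg i (p₁ z) (hspX _) fun e => hzi (huniq z i.1 hz (hVδ i) e hv)
        rw [((hk (D₁ i) (hD₁0 i)).1 r1).2, ((hk (D₂ i) (hD₂0 i)).1 r2).2, sub_self, mul_zero]
    show ∑ᶠ i, Cyc.divFun δ (A.ξ i) (A.f i) z = α z
    rw [finsum_congr hterm]
    by_cases hαz : α z = 0
    · rw [hαz]
      refine finsum_eq_zero_of_forall_eq_zero fun i => if_neg fun e => ?_
      exact i.2.1 (e ▸ hαz)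
    · rw [finsum_eq_single _ (⟨z, hαz, hv⟩ : V) (fun i hi => if_neg fun e => hi (Subtype.ext e.symm)), if_pos rfl]
  refine ⟨α - A.cyc hδ, ?_, ?_, fun z hz => ?_⟩
  · intro z hz
    show α z - A.sum z = 0
    rw [hα z hz, show A.sum z = 0 from by_contra fun h => hz (A.sum_ne_zero_delta h), sub_zero]
  · refine A.ratEquivZero fun z => ?_
    show α z - (α z - A.sum z) = A.sum z
    ring
  · by_contra hv
    refine hz ?_
    show α z - A.sum z = 0
    by_cases hzc : δ z = c
    · rw [hsum z hzc hv, sub_self]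
    · rw [hα z hzc, show A.sum z = 0 from by_contra fun h => hzc (A.sum_ne_zero_delta h), sub_zero]

end Groth.Agent.S18595
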