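import Groth.Statements.S18597
import Groth.Agent.EtRamTameLib.ResidueGalois
-- import your own Groth.Agent.* helpers here

set_option autoImplicit false
universe u
open EtRam

namespace Groth.Agent.S18597

open AlgebraicGeometry CategoryTheory in
/-- Let k be a perfect field and X a k-scheme. A finite étale cover of X by a torsor under a finite
group of order prime to the characteristic of k is curve-tame, i.e. tamely ramified at every place
at infinity of every regular k-curve mapping to X. Stated here unfolded at a single place and for a
connected Galois cover Z ⟶ X (the X-automorphisms of Z act transitively on geometric fibres) whose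
automorphism group has order invertible in k: for every point z of Z with image x and every discrete
valuation ring A of the residue field κ(x) through which Spec κ(x) ⟶ Spec k factors (so A contains k
and has the residue characteristic of k), the finite separable extension κ(z) of κ(x) is tamely
ramified with respect to A. Without the factorisation through Spec A the claim fails already for X =
Spec ℚ, Z = Spec ℚ(√2) and A = ℤ localised at 2. (The published statement is for torsors under a
finite abelian group of order prime to the characteristic; a connected component of such a torsor is
a Galois cover of this kind.) -/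
theorem result
    (k : Type u) [Field k] [PerfectField k] {X : Scheme.{u}} (s : X ⟶ Spec (CommRingCat.of k))
    (Z : FEt.Cat X) (hZ : PiSp.IsGaloisCover Z) (hn : (Nat.card (Aut Z) : k) ≠ 0) (z : Z.left)
    (A : ValuationSubring (X.residueField (Z.hom.base z))) [IsDiscreteValuationRing A]
    (a : Spec (CommRingCat.of A) ⟶ Spec (CommRingCat.of k))
    (ha : Spec.map (CommRingCat.ofHom A.subtype) ≫ a = X.fromSpecResidueField (Z.hom.base z) ≫ s) :
    EtRam.IsTamelyRamified A ((Z.hom.residueFieldMap z).hom.comp A.subtype) := by
  let K := X.residueField (Z.hom.base z)
  let L := Z.left.residueField z
  letI : Algebra K L := (Z.hom.residueFieldMap z).hom.toAlgebra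
  obtain ⟨hfd, hgal, hdvd⟩ : FiniteDimensional K L ∧ IsGalois K L ∧ Module.finrank K L ∣ Nat.card (Aut Z) :=
    EtRamTameLib.isGalois_residueField Z z hZ.2
  refine EtRamTameLib.tame_of_isGalois (A := A) (K := K) (L := L) fun h0 => hn ?_
  obtain ⟨c, hc⟩ := hdvd
  let ψ : k →+* IsLocalRing.ResidueField A := (IsLocalRing.residue A).comp (Spec.preimage a).hom
  apply ψ.injective
  rw [map_natCast, map_zero, hc, Nat.cast_mul, h0, zero_mul]

end Groth.Agent.S18597
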