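import Groth.Statements.S18598
import Mathlib


-- import your own Groth.Agent.* helpers here

set_option autoImplicit false
universe u
open SSRed

namespace Groth.Agent.S18598

/-- Let O be a commutative integral domain of characteristic zero, n a positive integer such that no
prime number dividing n is a unit in O, and α an element of O of finite multiplicative order such
that (α − 1)² is divisible by n in O. Then α = 1 if n ≥ 5, α² = 1 if n = 4, α³ = 1 if n = 3, and α⁴
= 1 if n = 2. -/
theorem result (O : Type u) [CommRing O] [IsDomain O] [CharZero O]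
    (n : ℕ) (hn : 0 < n) (hO : ∀ p : ℕ, p.Prime → p ∣ n → ¬ IsUnit (p : O))
    (α : O) (hα : IsOfFinOrder α) (h : (n : O) ∣ (α - 1) ^ 2) :
    (5 ≤ n → α = 1) ∧ (n = 4 → α ^ 2 = 1) ∧ (n = 3 → α ^ 3 = 1) ∧ (n = 2 → α ^ 4 = 1) := by
  classical
  have hr : 0 < orderOf α := orderOf_pos_iff.mpr hα
  have main : ∀ p k : ℕ, p.Prime → p ^ (k + 1) ∣ orderOf α →
      ∃ a : ℕ, n = p ^ a ∧ a * (p ^ k * (p - 1)) ≤ 2 := by
    intro p k hp hdvd
    obtain ⟨c, hc⟩ := hdvd
    have hprim : IsPrimitiveRoot (α ^ c) (p ^ (k + 1)) :=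
      IsPrimitiveRoot.pow hr (IsPrimitiveRoot.orderOf α) (by rw [hc, mul_comm])
    set β := α ^ c
    have h1 : α - 1 ∣ β - 1 := by simpa using sub_one_dvd_pow_sub_one α c
    have h2 : (n : O) ∣ (β - 1) ^ 2 := h.trans (pow_dvd_pow_of_dvd h1 2)
    have h3 : (β - 1) ^ (p ^ k * (p - 1)) ∣ (p : O) := by
      haveI : Fact p.Prime := ⟨hp⟩
      have h4 := Polynomial.cyclotomic_eq_prod_X_sub_primitiveRoots hprim
      have h5 := congrArg (Polynomial.eval (1 : O)) h4
      rw [Polynomial.eval_one_cyclotomic_prime_pow, Polynomial.eval_prod] at h5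
      have hcard : (primitiveRoots (p ^ (k + 1)) O).card = p ^ k * (p - 1) := by
        rw [IsPrimitiveRoot.card_primitiveRoots hprim, Nat.totient_prime_pow_succ hp]
      rw [h5, ← hcard, ← Finset.prod_const]
      refine Finset.prod_dvd_prod_of_dvd _ _ fun μ hμ => ?_
      rw [mem_primitiveRoots (pow_pos hp.pos _)] at hμ
      obtain ⟨i, _, rfl⟩ := hprim.eq_pow_of_pow_eq_one hμ.pow_eq_one
      rw [Polynomial.eval_sub, Polynomial.eval_X, Polynomial.eval_C, ← neg_sub (β ^ i)]
      exact (sub_one_dvd_pow_sub_one β i).neg_right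
    have h6 : ((n ^ (p ^ k * (p - 1)) : ℕ) : O) ∣ ((p ^ 2 : ℕ) : O) := by
      push_cast
      calc (n : O) ^ (p ^ k * (p - 1)) ∣ ((β - 1) ^ 2) ^ (p ^ k * (p - 1)) := pow_dvd_pow_of_dvd h2 _
        _ = ((β - 1) ^ (p ^ k * (p - 1))) ^ 2 := by rw [← pow_mul, ← pow_mul, mul_comm]
        _ ∣ (p : O) ^ 2 := pow_dvd_pow_of_dvd h3 2
    have hφ : 0 < p ^ k * (p - 1) := mul_pos (pow_pos hp.pos _) (by have := hp.two_le; omega)
    have hall : ∀ q : ℕ, q.Prime → q ∣ n → q = p := by
      intro q hq hqn
      by_contra hne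
      refine hO q hq hqn ?_
      have hco : IsCoprime (q : O) ((p ^ 2 : ℕ) : O) :=
        Nat.Coprime.cast (((Nat.coprime_primes hq hp).mpr hne).pow_right 2)
      refine hco.isUnit_of_dvd' dvd_rfl (dvd_trans ?_ h6)
      exact Nat.cast_dvd_cast (hqn.trans (dvd_pow_self n hφ.ne'))
    obtain ⟨a, ha⟩ : ∃ a, n = p ^ a :=
      ⟨n.primeFactorsList.length, Nat.eq_prime_pow_of_unique_prime_dvd hn.ne'
        (fun {d} hd hdn => hall d hd hdn)⟩
    refine ⟨a, ha, ?_⟩
    by_contra hlt
    have ha0 : a ≠ 0 := by rintro rfl; simp at hlt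
    refine hO p hp (ha ▸ dvd_pow_self p ha0) ?_
    have h7 : ((p : O) ^ 2) * (p : O) ∣ (p : O) ^ 2 := by
      have : (p ^ 3 : ℕ) ∣ n ^ (p ^ k * (p - 1)) := by
        rw [ha, ← pow_mul]; exact pow_dvd_pow p (by omega)
      have h8 := (Nat.cast_dvd_cast (α := O) this).trans h6
      push_cast at h8
      rwa [← pow_succ]
    have hp0 : (p : O) ^ 2 ≠ 0 := pow_ne_zero _ (by exact_mod_cast hp.ne_zero)
    exact isUnit_of_dvd_one ((mul_dvd_mul_iff_left hp0).mp (by rwa [mul_one]))
  refine ⟨fun h5 => ?_, fun h4 => ?_, fun h3 => ?_, fun h2 => ?_⟩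
  · rw [← orderOf_eq_one_iff]
    by_contra hne
    obtain ⟨p, hp, hpd⟩ := Nat.exists_prime_and_dvd hne
    obtain ⟨a, ha, hle⟩ := main p 0 hp (by simpa using hpd)
    simp at hle
    have := hp.two_le
    have ha2 : a ≤ 2 := by nlinarith [show 1 ≤ p - 1 by omega]
    interval_cases a
    · simp at ha; omega
    · simp at ha; omega
    · obtain rfl : p = 2 := by omega
      simp at ha; omega
  all_goals
    rw [← orderOf_dvd_iff_pow_eq_one, Nat.dvd_iff_prime_pow_dvd_dvd]
    intro p k hp hpk
    cases k with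
    | zero => simp
    | succ k =>
      obtain ⟨a, ha, hle⟩ := main p k hp hpk
      have ha0 : a ≠ 0 := by rintro rfl; simp at ha; omega
      have hpn : p ∣ n := ha ▸ dvd_pow_self p ha0
      subst n
      have := Nat.le_of_dvd (by omega) hpn
      have := hp.two_le
      interval_cases p
      all_goals try (norm_num at hp; done)
      all_goals try (norm_num at hpn; done)
      all_goals
        have hk : k ≤ 1 := by
          by_contra hk
          have := Nat.pow_le_pow_right (show 0 < 2 by norm_num) (show 2 ≤ k by omega)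
          have := Nat.pow_le_pow_right (show 0 < 3 by norm_num) (show 2 ≤ k by omega)
          nlinarith [Nat.pos_of_ne_zero ha0]
        interval_cases k
      all_goals try (norm_num; done)
      all_goals
        norm_num at hle
      all_goals
        have : a ≤ 1 := by omega
        interval_cases a
        all_goals (norm_num at ha; try omega)

end Groth.Agent.S18598
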