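import Groth.Statements.S18599
import Mathlib

set_option autoImplicit false
set_option backward.isDefEq.respectTransparency false
set_option backward.isDefEq.respectTransparency.types false
set_option maxHeartbeats 1000000
set_option synthInstance.maxHeartbeats 400000
universe u
open SSRed

namespace Groth.Agent.S18599

/-- The index of the multiples of `ℓ` in a free `ℤ_ℓ`-module of rank `c`. -/
private theorem index_ell_smul {ℓ : ℕ} [Fact ℓ.Prime] {P : Type u} [AddCommGroup P] [Module ℤ_[ℓ] P]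
    [Module.Free ℤ_[ℓ] P] [Module.Finite ℤ_[ℓ] P] :
    (((ℓ : ℤ_[ℓ]) • (LinearMap.id : P →ₗ[ℤ_[ℓ]] P)).toAddMonoidHom.range).index =
      ℓ ^ Module.finrank ℤ_[ℓ] P := by
  let b := Module.finBasis ℤ_[ℓ] P
  let φ : P →+ (Fin (Module.finrank ℤ_[ℓ] P) → ZMod ℓ) :=
    ((PadicInt.toZMod (p := ℓ)).toAddMonoidHom.compLeft _).comp b.equivFun.toLinearMap.toAddMonoidHom
  have hφ : Function.Surjective φ := fun v => by
    refine ⟨b.equivFun.symm fun i => ((v i).val : ℤ_[ℓ]), funext fun i => ?_⟩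
    show PadicInt.toZMod (b.equivFun (b.equivFun.symm fun i => ((v i).val : ℤ_[ℓ])) i) = v i
    rw [LinearEquiv.apply_symm_apply]
    simp
  have hker : ((ℓ : ℤ_[ℓ]) • (LinearMap.id : P →ₗ[ℤ_[ℓ]] P)).toAddMonoidHom.range = φ.ker := by
    ext x
    constructor
    · rintro ⟨y, rfl⟩
      simp [φ, funext_iff]
    · intro hx
      have : ∀ i, ∃ w, b.equivFun x i = (ℓ : ℤ_[ℓ]) * w := fun i => by
        have h1 : b.equivFun x i ∈ RingHom.ker (PadicInt.toZMod (p := ℓ)) := by
          simpa [φ] using congrFun hx i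
        rw [PadicInt.ker_toZMod, PadicInt.maximalIdeal_eq_span_p, Ideal.mem_span_singleton] at h1
        exact h1
      choose w hw using this
      refine ⟨b.equivFun.symm w, b.equivFun.injective (funext fun i => ?_)⟩
      simp only [LinearMap.toAddMonoidHom_coe, LinearMap.smul_apply, LinearMap.id_apply, map_smul,
        LinearEquiv.apply_symm_apply, Pi.smul_apply, smul_eq_mul]
      exact (hw i).symm
  rw [hker, AddSubgroup.index_eq_card, Nat.card_congr (QuotientAddGroup.quotientKerEquivOfSurjective φ hφ).toEquiv,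
    Nat.card_fun]
  simp [Nat.card_zmod]


/-- Let ℓ be a prime number, M a free ℤ_ℓ-module of finite rank, A an automorphism of M with A^ℓ = 1,
and c the rank of M minus the rank of the submodule of A-invariants. Assume that ℓ = 2 and A − 1 ∈
2·End(M), or that ℓ = 2 and (A − 1)² ∈ 4·End(M), or that ℓ = 3 and (A − 1)² ∈ 3·End(M). Then the
torsion submodule of M/(A − 1)M is a vector space over ℤ/ℓℤ of dimension c/(ℓ − 1): it is killed by
ℓ and has ℓ^r elements for some r with r(ℓ − 1) = c. -/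
theorem result (ℓ : ℕ) [Fact ℓ.Prime]
    (M : Type u) [AddCommGroup M] [Module ℤ_[ℓ] M] [Module.Free ℤ_[ℓ] M] [Module.Finite ℤ_[ℓ] M]
    (A : M ≃ₗ[ℤ_[ℓ]] M) (hA : A ^ ℓ = 1) (f : Module.End ℤ_[ℓ] M) (hf : f = (A : M →ₗ[ℤ_[ℓ]] M) - 1)
    (hcase : (ℓ = 2 ∧ ∃ B : Module.End ℤ_[ℓ] M, f = (2 : ℤ_[ℓ]) • B) ∨
      (ℓ = 2 ∧ ∃ B : Module.End ℤ_[ℓ] M, f ^ 2 = (4 : ℤ_[ℓ]) • B) ∨
      (ℓ = 3 ∧ ∃ B : Module.End ℤ_[ℓ] M, f ^ 2 = (3 : ℤ_[ℓ]) • B))
    (c : ℕ) (hc : c = Module.finrank ℤ_[ℓ] M - Module.finrank ℤ_[ℓ] (LinearMap.ker f)) :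
    (∀ x ∈ Submodule.torsion ℤ_[ℓ] (M ⧸ LinearMap.range f), (ℓ : ℤ_[ℓ]) • x = 0) ∧
      ∃ r : ℕ, r * (ℓ - 1) = c ∧
        Nat.card (Submodule.torsion ℤ_[ℓ] (M ⧸ LinearMap.range f)) = ℓ ^ r := by
  classical
  have hℓ : (ℓ : ℤ_[ℓ]) ≠ 0 := Nat.cast_ne_zero.2 (Fact.out : ℓ.Prime).ne_zero
  -- torsion-freeness of endomorphisms
  have tf : ∀ X Y : Module.End ℤ_[ℓ] M, (ℓ : ℤ_[ℓ]) • X = (ℓ : ℤ_[ℓ]) • Y → X = Y := fun X Y h =>
    LinearMap.ext fun x => smul_right_injective M hℓ (LinearMap.congr_fun h x)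
  have hAf : (A : M →ₗ[ℤ_[ℓ]] M) = f + 1 := by rw [hf, sub_add_cancel]
  have hpow : (f + 1) ^ ℓ = (1 : Module.End ℤ_[ℓ] M) := by
    rw [← hAf]
    have h := congrArg (fun e : M ≃ₗ[ℤ_[ℓ]] M => (e : M →ₗ[ℤ_[ℓ]] M)) hA
    have hcoe : ∀ n : ℕ, ((A ^ n : M ≃ₗ[ℤ_[ℓ]] M) : M →ₗ[ℤ_[ℓ]] M) = (A : M →ₗ[ℤ_[ℓ]] M) ^ n := by
      intro n
      induction n with
      | zero => rfl
      | succ n ih =>
        rw [pow_succ, pow_succ, ← ih]
        rfl
    exact (hcoe ℓ).symm.trans h
  -- the projection to the invariants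
  obtain ⟨e, he, hell⟩ : ∃ e : Module.End ℤ_[ℓ] M, f * ((ℓ : ℤ_[ℓ]) • e) = 0 ∧
      (ℓ = 2 ∧ (2 : ℤ_[ℓ]) • e = f + (2 : ℤ_[ℓ]) • 1 ∨
       ℓ = 3 ∧ (3 : ℤ_[ℓ]) • e = f ^ 2 + (3 : ℤ_[ℓ]) • f + (3 : ℤ_[ℓ]) • 1) := by
    rcases hcase with ⟨rfl, B, hB⟩ | ⟨rfl, B, hB⟩ | ⟨rfl, B, hB⟩
    · refine ⟨B + 1, ?_, Or.inl ⟨rfl, by rw [smul_add, ← hB]⟩⟩
      rw [Nat.cast_ofNat, smul_add, ← hB, mul_add, mul_smul_comm, mul_one]
      have : (f + 1) * (f + 1) = 1 := by rw [← sq]; exact hpow
      rw [add_mul, mul_add, mul_one, one_mul] at this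
      rw [two_smul]
      exact eq_of_sub_eq_zero (by linear_combination (norm := noncomm_ring) this)
    · have h2 : f ^ 2 + (2 : ℤ_[2]) • f = 0 := by
        have : (f + 1) * (f + 1) = 1 := by rw [← sq]; exact hpow
        rw [two_smul, sq]
        linear_combination (norm := noncomm_ring) this
      have hfB : f = (-2 : ℤ_[2]) • B := by
        refine tf _ _ ?_
        rw [Nat.cast_ofNat, eq_neg_of_add_eq_zero_right h2, hB, smul_smul, ← neg_smul]
        norm_num
      refine ⟨-B + 1, ?_, Or.inl ⟨rfl, ?_⟩⟩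
      · rw [Nat.cast_ofNat, smul_add, smul_neg, ← neg_smul, ← hfB, mul_add, mul_smul_comm, mul_one, ← sq]
        exact h2
      · rw [smul_add, smul_neg, ← neg_smul, ← hfB]
    · refine ⟨B + f + 1, ?_, Or.inr ⟨rfl, by rw [smul_add, smul_add, ← hB]⟩⟩
      rw [Nat.cast_ofNat, smul_add, smul_add, ← hB]
      have : (f + 1) * ((f + 1) * (f + 1)) = 1 := by rw [← sq, ← pow_succ']; exact hpow
      have h3 : f * (f ^ 2 + (3 : ℤ_[3]) • f + (3 : ℤ_[3]) • (1 : Module.End ℤ_[3] M)) =
          f * (f * f) + ((f * f) + (f * f) + (f * f)) + (f + f + f) := by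
        rw [show (3 : ℤ_[3]) = 1 + 1 + 1 by norm_num, sq]
        simp only [add_smul, one_smul, mul_add, mul_one]
      rw [h3]
      linear_combination (norm := noncomm_ring) this
  let K := LinearMap.ker e
  have hfe : f * e = 0 := by
    refine tf _ _ ?_
    rw [smul_zero, ← mul_smul_comm, he]
  have hee : ∀ x, e (e x) = e x := by
    intro x
    have hfx : f (e x) = 0 := LinearMap.congr_fun hfe x
    refine smul_right_injective M hℓ ?_
    show (ℓ : ℤ_[ℓ]) • e (e x) = (ℓ : ℤ_[ℓ]) • e x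
    rcases hell with ⟨h2, h⟩ | ⟨h3, h⟩
    · subst h2
      have := LinearMap.congr_fun h (e x)
      simp only [LinearMap.smul_apply, LinearMap.add_apply, hfx, zero_add] at this
      exact this
    · subst h3
      have := LinearMap.congr_fun h (e x)
      simp only [LinearMap.smul_apply, LinearMap.add_apply, hfx, smul_zero, zero_add, sq] at this
      simpa [hfx] using this
  have hef : ∀ x, e (f x) = 0 := by
    intro x
    refine smul_right_injective M hℓ ?_
    show (ℓ : ℤ_[ℓ]) • e (f x) = (ℓ : ℤ_[ℓ]) • 0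
    rw [smul_zero]
    have hx : f ((ℓ : ℤ_[ℓ]) • e x) = 0 := LinearMap.congr_fun he x
    rcases hell with ⟨h2, h⟩ | ⟨h3, h⟩
    · subst h2
      have h1 := LinearMap.congr_fun h (f x)
      have h0 := LinearMap.congr_fun h x
      simp only [Nat.cast_ofNat, LinearMap.smul_apply, LinearMap.add_apply, Module.End.one_apply] at h1 h0 hx ⊢
      rw [h1]; rw [h0, map_add, map_smul] at hx; exact hx
    · subst h3
      have h1 := LinearMap.congr_fun h (f x)
      have h0 := LinearMap.congr_fun h x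
      simp only [Nat.cast_ofNat, LinearMap.smul_apply, LinearMap.add_apply, Module.End.one_apply, sq,
        Module.End.mul_apply] at h1 h0 hx ⊢
      rw [h1]; rw [h0, map_add, map_add, map_smul, map_smul] at hx; exact hx
  -- `f` on `K` and the decomposition
  have hfK : ∀ x ∈ K, f x ∈ K := fun x _ => hef x
  let g : K →ₗ[ℤ_[ℓ]] K := f.restrict hfK
  have hginj : Function.Injective g := by
    rw [injective_iff_map_eq_zero]
    intro x hx
    have hx' : f x.1 = 0 := congrArg Subtype.val hx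
    have hk : e x.1 = 0 := x.2
    refine Subtype.ext (smul_right_injective M hℓ ?_)
    show (ℓ : ℤ_[ℓ]) • x.1 = (ℓ : ℤ_[ℓ]) • (0 : M)
    rcases hell with ⟨h2, h⟩ | ⟨h3, h⟩
    · subst h2; simpa [hx', hk] using (LinearMap.congr_fun h x.1).symm
    · subst h3; simpa [hx', hk, sq] using (LinearMap.congr_fun h x.1).symm
  have hrange : ∀ y, y ∈ LinearMap.range f ↔ ∃ x : K, f x.1 = y := fun y => by
    constructor
    · rintro ⟨z, rfl⟩
      refine ⟨⟨z - e z, ?_⟩, ?_⟩
      · show e (z - e z) = 0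
        rw [map_sub, hee, sub_self]
      · show f (z - e z) = f z
        rw [map_sub, show f (e z) = 0 from LinearMap.congr_fun hfe z, sub_zero]
    · rintro ⟨x, rfl⟩; exact ⟨_, rfl⟩
  have hsub : ∀ x : M, (ℓ : ℤ_[ℓ]) • x - (ℓ : ℤ_[ℓ]) • e x ∈ LinearMap.range f := by
    intro x
    rcases hell with ⟨h2, h⟩ | ⟨h3, h⟩
    · subst h2
      refine ⟨-x, ?_⟩
      have := LinearMap.congr_fun h x
      simp only [Nat.cast_ofNat, LinearMap.smul_apply, LinearMap.add_apply, Module.End.one_apply] at this ⊢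
      rw [map_neg, this]; abel
    · subst h3
      refine ⟨-(f x + (3 : ℤ_[3]) • x), ?_⟩
      have := LinearMap.congr_fun h x
      simp only [Nat.cast_ofNat, LinearMap.smul_apply, LinearMap.add_apply, Module.End.one_apply, sq,
        Module.End.mul_apply] at this ⊢
      rw [map_neg, map_add, map_smul, this]; abel
  let φ : K →ₗ[ℤ_[ℓ]] M ⧸ LinearMap.range f := (Submodule.mkQ _).comp K.subtype
  have htors : LinearMap.range φ = Submodule.torsion ℤ_[ℓ] (M ⧸ LinearMap.range f) := by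
    ext q
    constructor
    · rintro ⟨x, rfl⟩
      refine ⟨⟨(ℓ : ℤ_[ℓ]), mem_nonZeroDivisors_of_ne_zero hℓ⟩, ?_⟩
      show (ℓ : ℤ_[ℓ]) • (Submodule.Quotient.mk x.1 : M ⧸ LinearMap.range f) = 0
      rw [← Submodule.Quotient.mk_smul, Submodule.Quotient.mk_eq_zero]
      simpa [show e x.1 = 0 from x.2] using hsub x.1
    · rintro ⟨⟨a, ha⟩, hq⟩
      obtain ⟨x, rfl⟩ := Submodule.Quotient.mk_surjective _ q
      have hq' : a • x ∈ LinearMap.range f := by
        rw [← Submodule.Quotient.mk_eq_zero, Submodule.Quotient.mk_smul]; exact hq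
      obtain ⟨z, hz⟩ := (hrange _).1 hq'
      have hx : e x = 0 := by
        refine smul_right_injective M (nonZeroDivisors.ne_zero ha) ?_
        show a • e x = a • 0
        rw [smul_zero, ← map_smul, ← hz, hef]
      exact ⟨⟨x, hx⟩, rfl⟩
  have hkerφ : φ.toAddMonoidHom.ker = g.toAddMonoidHom.range := by
    ext x
    rw [AddMonoidHom.mem_ker]
    show (Submodule.Quotient.mk x.1 : M ⧸ LinearMap.range f) = 0 ↔ _
    rw [Submodule.Quotient.mk_eq_zero, hrange]
    constructor
    · rintro ⟨z, hz⟩; exact ⟨z, Subtype.ext hz⟩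
    · rintro ⟨z, rfl⟩; exact ⟨z, rfl⟩
  refine ⟨fun q hq => ?_, ?_⟩
  · rw [← htors] at hq
    obtain ⟨x, rfl⟩ := hq
    show (ℓ : ℤ_[ℓ]) • (Submodule.Quotient.mk x.1 : M ⧸ LinearMap.range f) = 0
    rw [← Submodule.Quotient.mk_smul, Submodule.Quotient.mk_eq_zero]
    simpa [show e x.1 = 0 from x.2] using hsub x.1
  -- rank of `K`
  have hrank : Module.finrank ℤ_[ℓ] K = c := by
    have hcompl : IsCompl K (LinearMap.ker f) := by
      constructor
      · rw [Submodule.disjoint_def]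
        intro x hx hfx
        exact congrArg Subtype.val (hginj (a₁ := ⟨x, hx⟩) (a₂ := 0) (Subtype.ext (by simpa [g] using hfx)))
      · rw [codisjoint_iff, eq_top_iff]
        intro x _
        rw [Submodule.mem_sup]
        refine ⟨x - e x, ?_, e x, LinearMap.congr_fun hfe x, by abel⟩
        show e (x - e x) = 0
        rw [map_sub, hee, sub_self]
    have h := (Submodule.prodEquivOfIsCompl K _ hcompl).finrank_eq
    rw [Module.finrank_prod] at h
    omega
  have hindex : Nat.card (Submodule.torsion ℤ_[ℓ] (M ⧸ LinearMap.range f)) = g.toAddMonoidHom.range.index := by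
    rw [← htors, ← hkerφ, AddSubgroup.index_ker]
    rfl
  have hid := index_ell_smul (ℓ := ℓ) (P := K)
  rw [hrank] at hid
  rw [hindex]
  rcases hell with ⟨h2, h⟩ | ⟨h3, h⟩
  · subst h2
    refine ⟨c, by simp, ?_⟩
    rw [← hid]
    congr 1
    have hg : ∀ x : K, g x = -((2 : ℤ_[2]) • x) := fun x => by
      refine Subtype.ext ?_
      show f x.1 = -((2 : ℤ_[2]) • x.1)
      have := LinearMap.congr_fun h x.1
      simp only [LinearMap.smul_apply, LinearMap.add_apply, Module.End.one_apply,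
        show e x.1 = 0 from x.2, smul_zero] at this
      exact eq_neg_of_add_eq_zero_left this.symm
    ext x
    constructor
    · rintro ⟨y, rfl⟩; exact ⟨-y, by simp [hg]⟩
    · rintro ⟨y, rfl⟩; exact ⟨-y, by simp [hg]⟩
  · subst h3
    have hgg : ∀ x : K, g (g x) = -((3 : ℤ_[3]) • (g x + x)) := fun x => by
      refine Subtype.ext ?_
      show f (f x.1) = -((3 : ℤ_[3]) • (f x.1 + x.1))
      have := LinearMap.congr_fun h x.1
      simp only [LinearMap.smul_apply, LinearMap.add_apply, Module.End.one_apply, sq, Module.End.mul_apply,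
        show e x.1 = 0 from x.2, smul_zero, add_assoc, ← smul_add] at this
      exact eq_neg_of_add_eq_zero_left this.symm
    have hAsurj : ∀ y : K, ∃ x : K, g x + x = y := fun y => by
      refine ⟨⟨A.symm y.1, ?_⟩, Subtype.ext ?_⟩
      · show e (A.symm y.1) = 0
        have hy : e y.1 = 0 := y.2
        have hA' : ∀ z, A z = f z + z := fun z => LinearMap.congr_fun hAf z
        rw [← A.apply_symm_apply y.1, hA', map_add, hef, zero_add] at hy
        exact hy
      · show f (A.symm y.1) + A.symm y.1 = y.1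
        have := LinearMap.congr_fun hAf (A.symm y.1)
        simp only [LinearEquiv.coe_coe, LinearEquiv.apply_symm_apply, LinearMap.add_apply,
          Module.End.one_apply] at this
        exact this.symm
    have hrange2 : g.toAddMonoidHom.range.map g.toAddMonoidHom =
        (((3 : ℕ) : ℤ_[3]) • (LinearMap.id : K →ₗ[ℤ_[3]] K)).toAddMonoidHom.range := by
      ext x
      constructor
      · rintro ⟨_, ⟨y, rfl⟩, rfl⟩; exact ⟨-(g y + y), by simp [hgg]⟩
      · rintro ⟨y, rfl⟩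
        obtain ⟨z, hz⟩ := hAsurj (-y)
        exact ⟨g z, ⟨z, rfl⟩, by simp [hgg, hz]⟩
    have hle : g.toAddMonoidHom.range.map g.toAddMonoidHom ≤ g.toAddMonoidHom.range := by
      rintro _ ⟨y, _, rfl⟩; exact ⟨y, rfl⟩
    have hmul := AddSubgroup.relIndex_mul_index hle
    have hrel : (g.toAddMonoidHom.range.map g.toAddMonoidHom).relIndex g.toAddMonoidHom.range =
        g.toAddMonoidHom.range.index := by
      have h1 := AddSubgroup.relIndex_map_map_of_injective g.toAddMonoidHom.range ⊤ (f := g.toAddMonoidHom) hginj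
      rwa [AddSubgroup.relIndex_top_right, ← AddMonoidHom.range_eq_map] at h1
    rw [hrel, hrange2, hid] at hmul
    obtain ⟨r, _, hr⟩ := (Nat.dvd_prime_pow (by norm_num)).1 (Dvd.intro _ hmul)
    refine ⟨r, ?_, hr⟩
    rw [hr, ← pow_add] at hmul
    have := Nat.pow_right_injective (le_refl 2 |>.trans (by norm_num : 2 ≤ 3)) hmul
    omega

end Groth.Agent.S18599
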