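import Groth.Statements.S18600
import Mathlib.LinearAlgebra.Matrix.Charpoly.Coeff
import Mathlib.RingTheory.IntegralClosure.IsIntegral.Basic
import Mathlib.Data.Nat.Factorization.Basic
import Mathlib.RingTheory.IntegralClosure.IsIntegralClosure.Basic
import Mathlib.Tactic.FieldSimp
import Mathlib.Tactic.LinearCombination
-- import your own Groth.Agent.* helpers here

set_option autoImplicit false
universe v
open SSRed

namespace Groth.Agent.S18600

/-- Let n be a positive integer, g a natural number and f ∈ ℤ[x] a monic polynomial such that for every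
prime ℓ dividing n there is a g × g matrix A_ℓ over ℤ_ℓ whose characteristic polynomial is f and
such that (A_ℓ − 1)² lies in n·M_g(ℤ_ℓ). Then for every root α of f in a field of characteristic
zero and every square root s of n in that field, (α − 1)/s is integral over ℤ. (The published
statement is for matrices of size 2d and speaks of the eigenvalues of the A_ℓ, which are the roots
of their common characteristic polynomial f; the parity of the size plays no role.) -/
theorem result (n : ℕ) (hn : 0 < n) (g : ℕ) (f : Polynomial ℤ)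
    (hf : f.Monic)
    (hA : ∀ (ℓ : ℕ) [Fact ℓ.Prime], ℓ ∣ n → ∃ A : Matrix (Fin g) (Fin g) ℤ_[ℓ],
      A.charpoly = f.map (Int.castRingHom ℤ_[ℓ]) ∧
        ∃ B : Matrix (Fin g) (Fin g) ℤ_[ℓ], (A - 1) ^ 2 = (n : ℤ_[ℓ]) • B)
    (K : Type v) [Field K] [CharZero K] (α s : K) (hα : Polynomial.aeval α f = 0) (hs : s ^ 2 = (n : K)) :
    IsIntegral ℤ ((α - 1) / s) := by
  classical
  have hαint : IsIntegral ℤ α := ⟨f, hf, by rwa [← Polynomial.aeval_def]⟩
  have hs0 : s ≠ 0 := fun h => by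
    rw [h, zero_pow two_ne_zero] at hs
    exact hn.ne' (by exact_mod_cast hs.symm)
  refine IsIntegral.of_pow two_pos ?_
  rw [div_pow, hs]
  by_cases hn1 : n = 1
  · subst hn1
    rw [Nat.cast_one, div_one]
    exact (IsIntegral.sub hαint isIntegral_one).pow 2
  set h : Polynomial ℤ := f.comp (Polynomial.X + Polynomial.C 1) with hh
  set H : Polynomial ℤ := Polynomial.C ((-1 : ℤ) ^ g) * (h * h.comp (-Polynomial.X)) with hH
  have key : ∀ (ℓ : ℕ) [Fact ℓ.Prime], ℓ ∣ n → ∃ B : Matrix (Fin g) (Fin g) ℤ_[ℓ],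
      H.map (Int.castRingHom ℤ_[ℓ]) = Polynomial.expand ℤ_[ℓ] 2 (((n : ℤ_[ℓ]) • B).charpoly) := by
    intro ℓ _ hℓ
    obtain ⟨A, hA1, B, hB⟩ := hA ℓ hℓ
    refine ⟨B, ?_⟩
    rw [← hB]
    have e1 : (A - 1).charpoly = (f.map (Int.castRingHom ℤ_[ℓ])).comp (Polynomial.X + Polynomial.C 1) := by
      rw [← hA1, ← Matrix.charpoly_sub_scalar, map_one]
    set M := A - 1 with hM
    have e2 : Polynomial.expand ℤ_[ℓ] 2 (M ^ 2).charpoly =
        (Matrix.scalar (Fin g) (Polynomial.X : Polynomial ℤ_[ℓ]) - M.map Polynomial.C).det *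
        (Matrix.scalar (Fin g) (Polynomial.X : Polynomial ℤ_[ℓ]) + M.map Polynomial.C).det := by
      rw [← Matrix.det_mul, Matrix.charpoly, AlgHom.map_det]
      congr 1
      have hc : Commute (Matrix.scalar (Fin g) (Polynomial.X : Polynomial ℤ_[ℓ])) (M.map Polynomial.C) :=
        Matrix.scalar_commute _ (Commute.all _) _
      rw [← hc.mul_self_sub_mul_self_eq', ← map_mul (Matrix.scalar (Fin g)), ← Matrix.map_mul, ← pow_two M,
        ← pow_two (Polynomial.X : Polynomial ℤ_[ℓ])]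
      refine Matrix.ext fun a b => ?_
      by_cases hab : a = b
      · subst hab; simp
      · simp [hab]
    have e3 : (Matrix.scalar (Fin g) (Polynomial.X : Polynomial ℤ_[ℓ]) + M.map Polynomial.C).det =
        Polynomial.C ((-1 : ℤ_[ℓ]) ^ g) * (M.charpoly.comp (-Polynomial.X)) := by
      rw [Matrix.charpoly, ← Polynomial.coe_compRingHom_apply, RingHom.map_det]
      have : (Polynomial.compRingHom (-Polynomial.X)).mapMatrix M.charmatrix =
          -(Matrix.scalar (Fin g) (Polynomial.X : Polynomial ℤ_[ℓ]) + M.map Polynomial.C) := by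
        refine Matrix.ext fun a b => ?_
        by_cases hab : a = b
        · subst hab; simp; ring
        · simp [hab]
      rw [this, Matrix.det_neg, Fintype.card_fin, ← mul_assoc, map_pow, map_neg, map_one, ← mul_pow]
      simp
    rw [e2, e3, show (Matrix.scalar (Fin g) (Polynomial.X : Polynomial ℤ_[ℓ]) - M.map Polynomial.C).det =
      M.charpoly from rfl, e1, hH, hh]
    simp only [Polynomial.map_mul, Polynomial.map_comp, Polynomial.map_C, Polynomial.map_neg, Polynomial.map_add,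
      Polynomial.map_X, map_pow, map_neg, map_one, Polynomial.map_pow, Polynomial.map_one]
    ring
  set G : Polynomial ℤ := Polynomial.contract 2 H with hG
  have hcoeff : ∀ (ℓ : ℕ) [Fact ℓ.Prime], ℓ ∣ n → ∃ B : Matrix (Fin g) (Fin g) ℤ_[ℓ],
      G.map (Int.castRingHom ℤ_[ℓ]) = ((n : ℤ_[ℓ]) • B).charpoly ∧
      H.map (Int.castRingHom ℤ_[ℓ]) = Polynomial.expand ℤ_[ℓ] 2 (G.map (Int.castRingHom ℤ_[ℓ])) := by
    intro ℓ _ hℓ
    obtain ⟨B, hB⟩ := key ℓ hℓ
    have : G.map (Int.castRingHom ℤ_[ℓ]) = ((n : ℤ_[ℓ]) • B).charpoly := by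
      ext k
      rw [Polynomial.coeff_map, hG, Polynomial.coeff_contract two_ne_zero, ← Polynomial.coeff_map, hB,
        Polynomial.coeff_expand_mul two_pos]
    exact ⟨B, this, by rw [this]; exact hB⟩
  obtain ⟨ℓ₀, hℓ₀, hℓ₀n⟩ : ∃ ℓ, ℓ.Prime ∧ ℓ ∣ n := ⟨n.minFac, Nat.minFac_prime hn1, n.minFac_dvd⟩
  haveI := Fact.mk hℓ₀
  obtain ⟨B₀, hB₀, hB₀H⟩ := hcoeff ℓ₀ hℓ₀n
  have hinj : Function.Injective (Int.castRingHom ℤ_[ℓ₀]) := (Int.castRingHom ℤ_[ℓ₀]).injective_int
  have hGmonic : G.Monic := Polynomial.monic_of_injective hinj (by rw [hB₀]; exact Matrix.charpoly_monic _)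
  have hGdeg : G.natDegree = g := by
    rw [← Polynomial.natDegree_map_eq_of_injective hinj G, hB₀, Matrix.charpoly_natDegree_eq_dim, Fintype.card_fin]
  have hHG : H = Polynomial.expand ℤ 2 G := Polynomial.map_injective _ hinj (by
    rw [Polynomial.map_expand]; exact hB₀H)
  have hscale : ∀ (ℓ : ℕ) [Fact ℓ.Prime] (B : Matrix (Fin g) (Fin g) ℤ_[ℓ]) (k : ℕ), k ≤ g →
      ((n : ℤ_[ℓ]) • B).charpoly.coeff k = (n : ℤ_[ℓ]) ^ (g - k) * B.charpoly.coeff k := by
    intro ℓ _ B k hk
    have hcomp : ((n : ℤ_[ℓ]) • B).charpoly.comp (Polynomial.C (n : ℤ_[ℓ]) * Polynomial.X) =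
        Polynomial.C ((n : ℤ_[ℓ]) ^ g) * B.charpoly := by
      rw [Matrix.charpoly, Matrix.charpoly, ← Polynomial.coe_compRingHom_apply, RingHom.map_det]
      have : (Polynomial.compRingHom (Polynomial.C (n : ℤ_[ℓ]) * Polynomial.X)).mapMatrix
          ((n : ℤ_[ℓ]) • B).charmatrix = Polynomial.C (n : ℤ_[ℓ]) • B.charmatrix := by
        refine Matrix.ext fun a b => ?_
        by_cases hab : a = b
        · subst hab; simp; ring
        · simp [hab]
      rw [this, Matrix.det_smul, Fintype.card_fin, map_pow]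
    have h2 := congrArg (fun q => q.coeff k) hcomp
    simp only [Polynomial.comp_C_mul_X_coeff, Polynomial.coeff_C_mul] at h2
    have hnℓ : (n : ℤ_[ℓ]) ≠ 0 := by exact_mod_cast hn.ne'
    refine mul_right_cancel₀ (pow_ne_zero k hnℓ) ?_
    rw [h2, mul_right_comm, ← pow_add, Nat.sub_add_cancel hk]
  have hdiv : ∀ k ≤ g, ((n ^ (g - k) : ℕ) : ℤ) ∣ G.coeff k := by
    intro k hk
    rw [Int.natCast_dvd, Nat.dvd_iff_prime_pow_dvd_dvd]
    intro p j hp hpj
    rcases Nat.eq_zero_or_pos j with rfl | hj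
    · simp
    haveI := Fact.mk hp
    have hpn : p ∣ n := hp.dvd_of_dvd_pow ((dvd_pow_self p hj.ne').trans hpj)
    obtain ⟨B, hB, -⟩ := hcoeff p hpn
    have h1 : (G.coeff k : ℤ_[p]) = (n : ℤ_[p]) ^ (g - k) * B.charpoly.coeff k := by
      rw [← hscale p B k hk, ← hB, Polynomial.coeff_map]; rfl
    have h2 : (p : ℤ_[p]) ^ j ∣ (G.coeff k : ℤ_[p]) := by
      rw [h1]
      refine Dvd.dvd.mul_right ?_ _
      obtain ⟨c, hc⟩ := hpj
      exact ⟨c, by exact_mod_cast hc⟩
    rw [PadicInt.pow_p_dvd_int_iff] at h2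
    rw [← Int.natCast_dvd]
    exact_mod_cast h2
  choose q hq using hdiv
  let P : Polynomial ℤ := Polynomial.X ^ g +
    ∑ k : Fin g, Polynomial.monomial (k : ℕ) (q k k.2.le)
  have hnK : (n : K) ≠ 0 := by exact_mod_cast hn.ne'
  refine ⟨P, Polynomial.monic_X_pow_add (lt_of_le_of_lt (Polynomial.degree_sum_le _ _)
    ((Finset.sup_lt_iff (WithBot.bot_lt_coe g)).2 fun k _ =>
      lt_of_le_of_lt (Polynomial.degree_monomial_le _ _) (Nat.cast_lt.2 k.2))), ?_⟩
  have hroot : Polynomial.aeval ((α - 1) ^ 2) G = 0 := by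
    rw [← Polynomial.expand_aeval 2 G (α - 1), ← hHG, hH, map_mul, map_mul, hh, Polynomial.aeval_comp]
    simp [hα]
  rw [← Polynomial.aeval_def]
  refine (mul_eq_zero.1 (?_ : (n : K) ^ g * Polynomial.aeval ((α - 1) ^ 2 / (n : K)) P = 0)).resolve_left
    (pow_ne_zero g hnK)
  rw [← hroot, Polynomial.aeval_eq_sum_range' (show G.natDegree < g + 1 by omega), Finset.sum_range_succ,
    map_add, map_pow, Polynomial.aeval_X, map_sum, mul_add, ← mul_pow, mul_div_cancel₀ _ hnK,
    show G.coeff g = 1 by rw [← hGdeg]; exact hGmonic, one_smul, add_comm, Finset.mul_sum,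
    Finset.sum_range fun k => G.coeff k • ((α - 1) ^ 2) ^ k]
  congr 1
  refine Finset.sum_congr rfl fun k _ => ?_
  rw [Polynomial.aeval_monomial, hq k k.2.le, zsmul_eq_mul]
  obtain ⟨r, hr⟩ : ∃ r, g = r + (k : ℕ) := ⟨g - k, by omega⟩
  rw [show g - (k : ℕ) = r by omega]
  have hpow : (n : K) ^ g = (n : K) ^ r * (n : K) ^ (k : ℕ) := by rw [← pow_add, ← hr]
  rw [hpow, div_pow]
  push_cast
  rw [eq_intCast]
  field_simp

end Groth.Agent.S18600
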