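import Groth.Statements.S18609
import Groth.Agent.SemiAbLib.Basic
import Groth.Agent.S5324
import Groth.Agent.AVAmpleLib.BcTate
import Groth.Agent.AlbLib.AVClass
import Groth.Agent.AntiAffLib.KerSub

set_option autoImplicit false
set_option backward.isDefEq.respectTransparency false
set_option linter.style.haveILetI false
set_option maxHeartbeats 1000000
universe u
open CategoryTheory CategoryTheory.Limits MonoidalCategory CartesianMonoidalCategory AlgebraicGeometry MonObj
open SGA7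
open Groth.Agent

namespace Groth.Agent.S18609

variable {k : Type u} [Field k]

/-- Division and torsion-freeness in the endomorphism ring of a group without additive part. -/
theorem end_spec (G : Over (Spec (CommRingCat.of k))) [GrpObj G] [IsCommMonObj G] [Smooth G.hom]
    [ConnectedSpace ↥G.left] (hG : SGA7.FibresUnipotentRankZero G) :
    LocallyOfFiniteType G.hom ∧
    (∀ m : ℕ, m ≠ 0 → ∀ (w : EndAV.End G), (∀ (T : Over (Spec (CommRingCat.of k))) (x : T ⟶ G),
      x ^ m = 1 → x ≫ w.toHom = 1) → ∃ w' : EndAV.End G, w = (m : ℤ) • w') ∧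
    (∀ (m : ℤ) (w : EndAV.End G), m ≠ 0 → m • w = 0 → w = 0) := by
  obtain ⟨pt⟩ : Nonempty ↥(Spec (CommRingCat.of k)) := inferInstance
  haveI : QuasiCompact G.hom := Groth.Agent.S5324.result _ G (fun s => MorphismProperty.pullback_snd _ _ inferInstance) fun s => by
    haveI : Subsingleton ↥(Spec (CommRingCat.of k)) := inferInstanceAs (Subsingleton (PrimeSpectrum k))
    have : G.hom.base ⁻¹' {s} = Set.univ := Set.eq_univ_of_forall fun x => Subsingleton.elim _ _
    rw [this]; exact isConnected_univ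
  let K : Type u := AlgebraicClosure ((Spec (CommRingCat.of k)).residueField pt)
  let g : Spec (CommRingCat.of K) ⟶ Spec (CommRingCat.of k) := Red.geomPt pt
  letI : Algebra k K := (Spec.preimage g).hom.toAlgebra
  have hg : Spec.map (CommRingCat.ofHom (algebraMap k K)) = g := Spec.map_preimage _
  let G' : Over (Spec (CommRingCat.of K)) := (AVAmpleLib.bcF (k := k) K).obj G
  letI : GrpObj G' := Functor.grpObjObj
  haveI : IsCommMonObj G' := Functor.isCommMonObj_obj (F := AVAmpleLib.bcF (k := k) K)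
  haveI : Smooth G'.hom := inferInstanceAs (Smooth (pullback.snd G.hom _))
  haveI : QuasiCompact G'.hom := inferInstanceAs (QuasiCompact (pullback.snd G.hom _))
  haveI := AlbLib.geometricallyIntegral_grp G
  haveI : IsIntegral G.left := GeometricallyIntegral.isIntegral_of_subsingleton G.hom
  haveI : GeometricallyIntegral G'.hom := inferInstanceAs (GeometricallyIntegral (pullback.snd G.hom _))
  haveI : ConnectedSpace G'.left := AlbLib.connectedSpace_gi G'
  have hS : SemiAbLib.IsSemiAb G' := SemiAbLib.isSemiAb_of_no_ga fun j hj hjc => by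
    have h0 : ∀ (g' : Spec (CommRingCat.of K) ⟶ Spec (CommRingCat.of k)) (_ : g' = g),
        ∀ (j : Red.Ga (Spec (CommRingCat.of K)) ⟶ Red.bc g' G), IsMonHom j → IsClosedImmersion j.left → False := by
      rintro _ rfl
      exact hG pt
    exact h0 _ hg j hj hjc
  haveI : IsSeparated G.hom := GrpField.isSeparated_grp (G := G)
  haveI hξ : Surjective (Spec.map (CommRingCat.ofHom (algebraMap k K))) :=
    ⟨fun y => ⟨Classical.arbitrary (PrimeSpectrum K), Subsingleton.elim (α := PrimeSpectrum k) _ _⟩⟩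
  have hpow : ∀ {m : ℕ}, m ≠ 0 → IsMonHom (𝟙 G ^ m) ∧ Surjective (𝟙 G ^ m).left ∧ Flat (𝟙 G ^ m).left := by
    intro m hm
    have h1 : IsMonHom (𝟙 G ^ m) := by rw [← zpow_natCast]; exact AbSchLib.isMonHom_zpow G (m : ℤ)
    haveI := h1
    obtain ⟨-, h2', -⟩ := hS.pow_spec hm
    have hmap : (AVAmpleLib.bcF (k := k) K).map (𝟙 G ^ m) = 𝟙 G' ^ m := by
      rw [show (AVAmpleLib.bcF (k := k) K).map (𝟙 G ^ m) = ((AVAmpleLib.bcF (k := k) K).map (𝟙 G)) ^ m from
        map_pow (Functor.homMonoidHom (AVAmpleLib.bcF (k := k) K) : (G ⟶ G) →* _) (𝟙 G) m,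
        CategoryTheory.Functor.map_id]
    haveI h2 : Surjective (𝟙 G ^ m).left := by
      haveI : Surjective ((AVAmpleLib.bcF (k := k) K).map (𝟙 G ^ m)).left := by rw [hmap]; exact h2'
      haveI : Surjective (pullback.fst G.hom (Spec.map (CommRingCat.ofHom (algebraMap k K)))) :=
        MorphismProperty.pullback_fst _ _ hξ
      haveI : Surjective (pullback.fst G.hom (Spec.map (CommRingCat.ofHom (algebraMap k K))) ≫ (𝟙 G ^ m).left) := by
        rw [← show ((AVAmpleLib.bcF (k := k) K).map (𝟙 G ^ m)).left ≫ pullback.fst G.hom _ = _ from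
          pullback.lift_fst _ _ _]
        infer_instance
      exact Surjective.of_comp (pullback.fst G.hom (Spec.map (CommRingCat.ofHom (algebraMap k K)))) (𝟙 G ^ m).left
    exact ⟨h1, h2, AntiAffLib.flat_of_surjective _⟩
  have hdiv : ∀ {m : ℕ}, m ≠ 0 → ∀ (w : EndAV.End G), (∀ (T : Over (Spec (CommRingCat.of k))) (x : T ⟶ G),
      x ^ m = 1 → x ≫ w.toHom = 1) → ∃ w' : EndAV.End G, w = (m : ℤ) • w' := by
    intro m hm w hw
    obtain ⟨h1, h2, h3⟩ := hpow hm
    haveI := h1; haveI := h2; haveI := h3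
    haveI := AntiAffLib.lfp_of_lft (𝟙 G ^ m)
    obtain ⟨y, hy, hy'⟩ := AntiAffLib.CommCat.exists_descend (𝟙 G ^ m) w.toHom fun T a ha =>
      hw T a (by rwa [MonObj.comp_pow, Category.comp_id] at ha)
    haveI := hy'
    refine ⟨EndAV.End.of y, EndAV.Hom.ext ?_⟩
    show w.toHom = ((m : ℤ) • (EndAV.Hom.of y : EndAV.Hom G G)).toHom
    rw [EndAV.Hom.toHom_zsmul, zpow_natCast]
    show w.toHom = y ^ m
    rw [← hy, MonObj.pow_comp, Category.id_comp]
  have htf : ∀ (m : ℤ) (w : EndAV.End G), m ≠ 0 → m • w = 0 → w = 0 := by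
    intro m w hm h
    have h0 : m.natAbs • w = 0 := by
      rcases Int.natAbs_eq m with he | he
      · rwa [he, natCast_zsmul] at h
      · rwa [he, neg_zsmul, natCast_zsmul, neg_eq_zero] at h
    obtain ⟨h1, h2, h3⟩ := hpow (Int.natAbs_ne_zero.2 hm)
    haveI := h1; haveI := h2; haveI := h3
    haveI := AntiAffLib.lfp_of_lft (𝟙 G ^ m.natAbs)
    haveI := Groth.Agent.MonoQuot.epi_over (𝟙 G ^ m.natAbs)
    refine EndAV.Hom.ext ?_
    rw [← cancel_epi (𝟙 G ^ m.natAbs), MonObj.pow_comp, Category.id_comp,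
      show EndAV.Hom.toHom (0 : EndAV.End G) = 1 from rfl, MonObj.comp_one, ← EndAV.Hom.toHom_nsmul, h0]
    rfl
  exact ⟨inferInstance, fun m hm => hdiv hm, htf⟩

/-- The idempotent attached to an involution or an element of order three congruent to one. -/
theorem exists_idem {R : Type u} [Ring R] (htf : ∀ (m : ℤ) (w : R), m ≠ 0 → m • w = 0 → w = 0)
    {q S : R} {m : ℤ} (hm : m ≠ 0) (hq : m • q = S) (hS : S * S = m • S) : q * q = q := by
  refine sub_eq_zero.1 (htf (m * m) _ (mul_ne_zero hm hm) ?_)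
  rw [smul_sub, ← smul_mul_smul_comm, hq, hS, mul_smul, hq, sub_self]

theorem connected_of_retract {X Y : Over (Spec (CommRingCat.of k))} [ConnectedSpace ↥Y.left] (i : X ⟶ Y)
    (r : Y ⟶ X) (h : i ≫ r = 𝟙 X) : ConnectedSpace ↥X.left := by
  refine Function.Surjective.connectedSpace (f := r.left.base) (fun x => ⟨i.left.base x, ?_⟩) r.left.base.hom.continuous
  exact congr($(congrArg CommaMorphism.left h).base x)


/-- Let k be a field, G a smooth connected commutative k-group scheme whose geometric fibre contains no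
copy of the additive group (an extension of an abelian variety by a torus), and α an automorphism of
the group scheme G. For a point x of G with values in a k-scheme write (α − 1)x = α(x)·x⁻¹. Assume
(a) α² = 1 and (α − 1)x = 1 whenever x² = 1, or (b) α² = 1 and (α − 1)((α − 1)x) = 1 whenever x⁴ =
1, or (c) α³ = 1 and (α − 1)((α − 1)x) = 1 whenever x³ = 1. Then there is an idempotent endomorphism
p of G with p + p = 1 + α in cases (a) and (b) and p + p + p = 1 + α + α² in case (c) (sums taken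
pointwise), the kernels G₁ of 1 − p and G₂ of p are closed connected subgroup schemes, and
multiplication G₁ × G₂ → G is an isomorphism. (The published statement further identifies G₁ with
the identity component of ker(1 − α) and G₂ with that of ker(1 + α), resp. ker(1 + α + α²); over a
field of characteristic 2, resp. 3, this fails scheme-theoretically — for α = −1 on an ordinary
elliptic curve in characteristic 2 one gets G₁ trivial while ker(1 − α) = ker 2 has a non-trivial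
connected part — so it is not restated.) -/
theorem result (k : Type u) [Field k]
    (G : Over (Spec (CommRingCat.of k))) [GrpObj G] [IsCommMonObj G] [Smooth G.hom] [ConnectedSpace ↥G.left]
    (hG : SGA7.FibresUnipotentRankZero G) (u : Aut G) [IsMonHom u.hom]
    (h : (u * u = 1 ∧ ∀ (T : Over (Spec (CommRingCat.of k))) (x : T ⟶ G), x ^ 2 = 1 → x ≫ u.hom = x) ∨
      (u * u = 1 ∧ ∀ (T : Over (Spec (CommRingCat.of k))) (x : T ⟶ G), x ^ 4 = 1 →
        (((x ≫ u.hom) * x⁻¹) ≫ u.hom) * ((x ≫ u.hom) * x⁻¹)⁻¹ = 1) ∨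
      (u * u * u = 1 ∧ ∀ (T : Over (Spec (CommRingCat.of k))) (x : T ⟶ G), x ^ 3 = 1 →
        (((x ≫ u.hom) * x⁻¹) ≫ u.hom) * ((x ≫ u.hom) * x⁻¹)⁻¹ = 1)) :
    ∃ (p : G ⟶ G) (G₁ G₂ : Over (Spec (CommRingCat.of k))) (_ : GrpObj G₁) (_ : GrpObj G₂)
      (i₁ : G₁ ⟶ G) (i₂ : G₂ ⟶ G),
      IsMonHom p ∧ p ≫ p = p ∧
      (u * u = 1 → p * p = 𝟙 G * u.hom) ∧ (u * u * u = 1 → p * p * p = 𝟙 G * u.hom * (u * u).hom) ∧
      IsMonHom i₁ ∧ IsMonHom i₂ ∧ IsClosedImmersion i₁.left ∧ IsClosedImmersion i₂.left ∧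
      AlgGrp.IsKernel i₁ (𝟙 G * p⁻¹) ∧ AlgGrp.IsKernel i₂ p ∧
      ConnectedSpace ↥G₁.left ∧ ConnectedSpace ↥G₂.left ∧
      IsIso ((i₁ ⊗ₘ i₂) ≫ μ[G]) := by
  obtain ⟨hlft, hdiv, htf⟩ := end_spec G hG
  haveI := hlft
  let u₀ : EndAV.End G := EndAV.End.of u.hom
  let v : EndAV.End G := u₀ - 1
  have hv : ∀ (T : Over (Spec (CommRingCat.of k))) (x : T ⟶ G), x ≫ v.toHom = (x ≫ u.hom) * x⁻¹ := by
    intro T x
    show x ≫ (u.hom / 𝟙 G) = _
    rw [div_eq_mul_inv, MonObj.comp_mul, GrpObj.comp_inv, Category.comp_id]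
  have hvv : ∀ (T : Over (Spec (CommRingCat.of k))) (x : T ⟶ G), x ≫ (v * v).toHom =
      (((x ≫ u.hom) * x⁻¹) ≫ u.hom) * ((x ≫ u.hom) * x⁻¹)⁻¹ := by
    intro T x
    rw [EndAV.End.toHom_mul, ← Category.assoc, hv, hv]
  have hu : u₀ = 1 + v := (add_sub_cancel 1 u₀).symm
  have h2' : u * u = 1 → u₀ * u₀ = 1 := fun e => EndAV.End.ext (congrArg Iso.hom e)
  have h3' : u * u * u = 1 → u₀ * u₀ * u₀ = 1 := fun e => EndAV.End.ext (by
    have e' := congrArg Iso.hom e
    simp only [EndAV.End.toHom_mul]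
    exact e')
  have hone : u * u = 1 → u * u * u = 1 → u₀ = 1 := fun e e' => by
    rw [← h3' e', h2' e, _root_.one_mul]
  obtain ⟨q, hqq, hq2, hq3⟩ : ∃ q : EndAV.End G, q * q = q ∧ (u * u = 1 → (2 : ℤ) • q = 1 + u₀) ∧
      (u * u * u = 1 → (3 : ℤ) • q = 1 + u₀ + u₀ * u₀) := by
    have inv : ∀ w : EndAV.End G, u * u = 1 → v = (2 : ℤ) • w → ∃ q : EndAV.End G, q * q = q ∧
        (u * u = 1 → (2 : ℤ) • q = 1 + u₀) ∧ (u * u * u = 1 → (3 : ℤ) • q = 1 + u₀ + u₀ * u₀) := by
      intro w e hw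
      have hq : (2 : ℤ) • (1 + w) = 1 + u₀ := by rw [hu, hw]; module
      refine ⟨1 + w, exists_idem htf two_ne_zero hq ?_, fun _ => hq, fun e' => ?_⟩
      · simp only [add_mul, mul_add, _root_.one_mul, _root_.mul_one, h2' e]; module
      · have hw0 : w = 0 := htf 2 w two_ne_zero (by rw [← hw]; exact sub_eq_zero.2 (hone e e'))
        rw [hw0, hone e e', add_zero, _root_.mul_one]; module
    rcases h with ⟨e, hx⟩ | ⟨e, hx⟩ | ⟨e, hx⟩
    · obtain ⟨w, hw⟩ := hdiv 2 two_ne_zero v fun T x hxx => by rw [hv, hx T x hxx, mul_inv_cancel]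
      exact inv w e (by exact_mod_cast hw)
    · obtain ⟨w, hw⟩ := hdiv 4 (by norm_num) (v * v) fun T x hxx => by rw [hvv, hx T x hxx]
      push_cast at hw
      have hv2 : v * v = -((2 : ℤ) • v) := by
        simp only [v, mul_sub, sub_mul, _root_.one_mul, _root_.mul_one, h2' e]; module
      refine inv (-w) e (sub_eq_zero.1 (htf 2 _ two_ne_zero ?_))
      calc (2 : ℤ) • (v - (2 : ℤ) • -w) = (2 : ℤ) • v + (4 : ℤ) • w := by module
        _ = 0 := by rw [← hw, hv2, add_neg_cancel]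
    · obtain ⟨w, hw⟩ := hdiv 3 (by norm_num) (v * v) fun T x hxx => by rw [hvv, hx T x hxx]
      push_cast at hw
      have hq : (3 : ℤ) • (1 + v + w) = 1 + u₀ + u₀ * u₀ := by
        rw [smul_add, ← hw, hu]; simp only [add_mul, mul_add, _root_.one_mul, _root_.mul_one]; module
      refine ⟨1 + v + w, exists_idem htf three_ne_zero hq ?_, fun e' => ?_, fun _ => hq⟩
      · have h1 : (1 + u₀ + u₀ * u₀) * u₀ = 1 + u₀ + u₀ * u₀ := by
          simp only [add_mul, _root_.one_mul, h3' e]; abel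
        rw [mul_add, mul_add, _root_.mul_one, ← _root_.mul_assoc, h1, h1]; module
      · have h1 := hone e' e
        have hw0 : w = 0 := htf 3 w three_ne_zero (by rw [← hw]; simp [v, h1])
        simp only [v, h1, hw0, sub_self, add_zero]; module
  let p : G ⟶ G := q.toHom
  haveI : IsMonHom p := EndAV.Hom.isMonHom_toHom q
  have hp : p ≫ p = p := congrArg EndAV.End.toHom hqq
  haveI hm' : IsMonHom (𝟙 G * p⁻¹) := by
    have := EndAV.Hom.isMonHom_toHom ((1 : EndAV.End G) - q)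
    rwa [show EndAV.Hom.toHom ((1 : EndAV.End G) - q) = 𝟙 G / p from rfl, div_eq_mul_inv] at this
  obtain ⟨G₁, _, i₁, _, hc₁, hk₁, -⟩ := AntiAffLib.exists_kernel (𝟙 G * p⁻¹)
  obtain ⟨G₂, _, i₂, _, hc₂, hk₂, -⟩ := AntiAffLib.exists_kernel p
  haveI := hc₁; haveI := hc₂
  haveI : Mono i₁ := Over.mono_of_mono_left i₁
  haveI : Mono i₂ := Over.mono_of_mono_left i₂
  have e₁ : i₁ ≫ p = i₁ := by
    have : i₁ ≫ (𝟙 G * p⁻¹) = 1 := by rw [hk₁.w, Hom.one_def]
    rw [MonObj.comp_mul, GrpObj.comp_inv, Category.comp_id, mul_inv_eq_one] at this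
    exact this.symm
  have e₂ : i₂ ≫ p = 1 := by rw [hk₂.w, Hom.one_def]
  have w₁ : p ≫ (𝟙 G * p⁻¹) = 1 := by
    rw [MonObj.comp_mul, GrpObj.comp_inv, Category.comp_id, hp, mul_inv_cancel]
  have w₂ : (𝟙 G * p⁻¹) ≫ p = 1 := by
    rw [MonObj.mul_comp, Category.id_comp, GrpObj.inv_comp, hp, mul_inv_cancel]
  let r₁ : G ⟶ G₁ := hk₁.lift p (toUnit G) (by rw [w₁, Hom.one_def])
  let r₂ : G ⟶ G₂ := hk₂.lift (𝟙 G * p⁻¹) (toUnit G) (by rw [w₂, Hom.one_def])
  have l₁ : r₁ ≫ i₁ = p := hk₁.lift_fst _ _ _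
  have l₂ : r₂ ≫ i₂ = 𝟙 G * p⁻¹ := hk₂.lift_fst _ _ _
  have ret₁ : i₁ ≫ r₁ = 𝟙 G₁ := by rw [← cancel_mono i₁, Category.assoc, l₁, e₁, Category.id_comp]
  have ret₂ : i₂ ≫ r₂ = 𝟙 G₂ := by
    rw [← cancel_mono i₂, Category.assoc, l₂, MonObj.comp_mul, GrpObj.comp_inv, e₂, Category.comp_id,
      Category.id_comp, inv_one, _root_.mul_one]
  refine ⟨p, G₁, G₂, inferInstance, inferInstance, i₁, i₂, inferInstance, hp, fun e => ?_, fun e => ?_,
    inferInstance, inferInstance, hc₁, hc₂, hk₁, hk₂, connected_of_retract i₁ r₁ ret₁,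
    connected_of_retract i₂ r₂ ret₂, ⟨lift r₁ r₂, ?_, ?_⟩⟩
  · rw [← pow_two, ← zpow_natCast]
    exact (EndAV.Hom.toHom_zsmul 2 q).symm.trans (congrArg EndAV.End.toHom (hq2 e))
  · rw [← pow_three', ← zpow_natCast]
    exact (EndAV.Hom.toHom_zsmul 3 q).symm.trans (congrArg EndAV.End.toHom (hq3 e))
  · have hmul : (i₁ ⊗ₘ i₂) ≫ μ[G] = (fst G₁ G₂ ≫ i₁) * (snd G₁ G₂ ≫ i₂) := by
      rw [Hom.mul_def, ← lift_map_assoc, lift_fst_snd, Category.id_comp]
    refine CartesianMonoidalCategory.hom_ext _ _ ?_ ?_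
    · rw [Category.assoc, lift_fst, Category.id_comp, ← cancel_mono i₁, Category.assoc, l₁, hmul,
        MonObj.mul_comp, Category.assoc, Category.assoc, e₁, e₂, MonObj.comp_one, _root_.mul_one]
    · rw [Category.assoc, lift_snd, Category.id_comp, ← cancel_mono i₂, Category.assoc, l₂, hmul,
        MonObj.comp_mul, GrpObj.comp_inv, Category.comp_id, MonObj.mul_comp, Category.assoc, Category.assoc,
        e₁, e₂, MonObj.comp_one, _root_.mul_one, mul_inv_cancel_comm]
  · rw [← Category.assoc, lift_map, l₁, l₂, ← Hom.mul_def]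
    rw [mul_left_comm, mul_inv_cancel, _root_.mul_one]

end Groth.Agent.S18609
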