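import Groth.Statements.S18614
import Mathlib.Topology.Algebra.LinearTopology
import Mathlib.Topology.Algebra.Module.LinearMap
import Mathlib.Topology.Algebra.OpenSubgroup
import Mathlib.LinearAlgebra.Basis.VectorSpace
import Mathlib.LinearAlgebra.Isomorphisms

set_option autoImplicit false
universe u v
open LinTop

namespace Groth.Agent.S18614

/-- Let k be a field carrying the discrete topology and M a separated topological k-module with a
k-linear topology (the open k-submodules form a basis of neighbourhoods of zero and M is a
topological additive group). For a closed submodule M₁, the perpendicular of the perpendicular of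
M₁, both taken with respect to the pairing of M with its continuous dual (the continuous k-linear
maps M → k), is M₁ itself: an element killed by every continuous functional vanishing on M₁ belongs
to M₁. -/
theorem result (k : Type u) (M : Type v) [Field k]
    [TopologicalSpace k] [DiscreteTopology k] [AddCommGroup M] [Module k M] [TopologicalSpace M]
    [IsTopologicalAddGroup M] [IsLinearTopology k M] [T2Space M]
    (M₁ : Submodule k M) (hM₁ : IsClosed (M₁ : Set M)) (x : M)
    (hx : ∀ φ : M →L[k] k, (∀ m ∈ M₁, φ m = 0) → φ x = 0) : x ∈ M₁ := by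
  by_contra hxM
  have h1 : (fun y => x + y) ⁻¹' ((M₁ : Set M)ᶜ) ∈ nhds (0 : M) :=
    (hM₁.isOpen_compl.preimage (continuous_const_add x)).mem_nhds
      (show x + 0 ∈ (M₁ : Set M)ᶜ by rw [add_zero]; exact hxM)
  obtain ⟨U, hU, hUx⟩ := (IsLinearTopology.hasBasis_open_submodule (R := k) (M := M)).mem_iff.mp h1
  have hx' : x ∉ M₁ ⊔ U := by
    rw [Submodule.mem_sup]
    rintro ⟨m, hm, u, hu, rfl⟩
    exact hUx (U.neg_mem hu) (show m + u + -u ∈ M₁ by rwa [add_neg_cancel_right])
  obtain ⟨f, hf, hfM⟩ := Submodule.exists_le_ker_of_notMem hx'
  have hcont : Continuous f := continuous_of_continuousAt_zero f fun W hW => by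
    rw [map_zero] at hW
    refine Filter.mem_map.mpr (Filter.mem_of_superset (hU.mem_nhds U.zero_mem) fun u hu => ?_)
    show f u ∈ W
    rw [LinearMap.mem_ker.mp (hfM (le_sup_right (a := M₁) hu))]
    exact mem_of_mem_nhds hW
  exact hf (hx ⟨f, hcont⟩ fun m hm => LinearMap.mem_ker.mp (hfM (le_sup_left (b := U) hm)))

end Groth.Agent.S18614
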