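import Groth.Statements.S18615
import Mathlib.Topology.Algebra.LinearTopology
import Mathlib.Topology.Algebra.Module.LinearMap
import Mathlib.Topology.Algebra.OpenSubgroup
import Mathlib.LinearAlgebra.Basis.VectorSpace
import Mathlib.LinearAlgebra.Isomorphisms

set_option autoImplicit false
universe u v
open LinTop

namespace Groth.Agent.S18615

/-- Let k be a field carrying the discrete topology and M a separated topological k-module with a
k-linear topology (open k-submodules form a basis of neighbourhoods of zero, M a topological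
additive group). For closed submodules M₁ ⊆ M₂ there is a short exact sequence 0 → M₂^⊥ → M₁^⊥ →
(M₂/M₁)^* → 0 of plain k-modules, where ⊥ denotes the annihilator in the continuous dual of M and *
the continuous dual. Stated here as its one non-formal part, surjectivity on the right: every
continuous functional on M₂ (subspace topology) that vanishes on M₁ is the restriction of a
continuous functional on M vanishing on M₁ (continuous functionals on M₂/M₁ being the continuous
functionals on M₂ that kill M₁). -/
theorem result (k : Type u) (M : Type v) [Field k]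
    [TopologicalSpace k] [DiscreteTopology k] [AddCommGroup M] [Module k M] [TopologicalSpace M]
    [IsTopologicalAddGroup M] [IsLinearTopology k M] [T2Space M]
    (M₁ M₂ : Submodule k M) (h₁₂ : M₁ ≤ M₂) (hM₁ : IsClosed (M₁ : Set M))
    (hM₂ : IsClosed (M₂ : Set M)) (ψ : M₂ →L[k] k)
    (hψ : ∀ m : M₂, (m : M) ∈ M₁ → ψ m = 0) :
    ∃ φ : M →L[k] k, (∀ m ∈ M₁, φ m = 0) ∧ ∀ m : M₂, φ (m : M) = ψ m := by
  have h0 : (ψ : M₂ → k) ⁻¹' {0} ∈ nhds (0 : M₂) :=
    ((isOpen_discrete ({0} : Set k)).preimage ψ.continuous).mem_nhds (map_zero ψ)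
  rw [nhds_subtype_eq_comap, Filter.mem_comap] at h0
  obtain ⟨W, hW, hWψ⟩ := h0
  obtain ⟨U, hU, hUW⟩ := (IsLinearTopology.hasBasis_open_submodule (R := k) (M := M)).mem_iff.mp hW
  let g : M₂ →ₗ[k] M ⧸ U := U.mkQ.comp M₂.subtype
  have hker : LinearMap.ker g ≤ LinearMap.ker (ψ : M₂ →ₗ[k] k) := fun m hm => by
    have : (m : M) ∈ U := by simpa [g] using hm
    exact hWψ (hUW this)
  obtain ⟨h, hh⟩ := LinearMap.exists_extend
    (((LinearMap.ker g).liftQ (ψ : M₂ →ₗ[k] k) hker).comp g.quotKerEquivRange.symm.toLinearMap)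
  have hval : ∀ m : M₂, h (U.mkQ (m : M)) = ψ m := fun m => by
    have := LinearMap.congr_fun hh ⟨g m, LinearMap.mem_range_self g m⟩
    exact this.trans (congrArg ((LinearMap.ker g).liftQ (ψ : M₂ →ₗ[k] k) hker)
      (LinearMap.quotKerEquivRange_symm_apply_image g m (LinearMap.mem_range_self g m)))
  have hcont : Continuous (h.comp U.mkQ) := continuous_of_continuousAt_zero (h.comp U.mkQ) fun V hV => by
    rw [map_zero] at hV
    refine Filter.mem_map.mpr (Filter.mem_of_superset (hU.mem_nhds U.zero_mem) fun u hu => ?_)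
    show h (U.mkQ u) ∈ V
    rw [Submodule.mkQ_apply, (Submodule.Quotient.mk_eq_zero U).mpr hu, map_zero]
    exact mem_of_mem_nhds hV
  exact ⟨⟨h.comp U.mkQ, hcont⟩, fun m hm => (hval ⟨m, h₁₂ hm⟩).trans (hψ _ hm), hval⟩

end Groth.Agent.S18615
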