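import Groth.Statements.S18616
import Mathlib

-- import your own Groth.Agent.* helpers here

set_option autoImplicit false
set_option maxHeartbeats 1000000
universe u
open DeRham

namespace Groth.Agent.S18616

open exteriorPower in
/-- The formal Poincaré lemma. The published statement is that for a complete separated linearly
topologized commutative algebra K over a field k of characteristic zero the inclusion of the
separated de Rham complex of K into that of K[[t_1, ..., t_n]] is a quasi-isomorphism; this row is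
the case K = k in positive degrees. Concretely: k is a field of characteristic 0, σ is finite, A =
k[[σ]]; the separated differentials are modelled by the free A-module of functions σ → A (the
coordinate dt_i being the i-th basis vector) with the derivation δ whose components are the formal
partial derivatives, so that δ(A) generates it; d is any family of k-linear maps between consecutive
exterior powers of this module over A satisfying the de Rham rule with d ∘ d = 0. Then for every p ≥
1 the closed p-forms are exact. (Degree zero, that a power series with all partial derivatives zero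
is constant, is omitted.) -/
theorem result (k : Type u) [Field k] [CharZero k]
    (σ : Type u) [Finite σ]
    (δ : Derivation k (MvPowerSeries σ k) (σ → MvPowerSeries σ k))
    (hδ : ∀ (f : MvPowerSeries σ k) (i : σ), δ f i = MvPowerSeries.pderiv k i f)
    (hgen : Submodule.span (MvPowerSeries σ k) (Set.range δ) = ⊤)
    (d : ∀ p : ℕ, ↥(⋀[MvPowerSeries σ k]^p (σ → MvPowerSeries σ k)) →ₗ[k]
      ↥(⋀[MvPowerSeries σ k]^(p + 1) (σ → MvPowerSeries σ k)))
    (hd : DeRham.IsDiff δ d) (p : ℕ) :
    DeRham.cocycles d (p + 1) ≤ DeRham.coboundaries d (p + 1) := by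
  classical
  haveI := Fintype.ofFinite σ
  letI : LinearOrder σ := LinearOrder.lift' (Fintype.equivFin σ) (Fintype.equivFin σ).injective
  let φ : (σ → MvPowerSeries σ k) →ₗ[MvPowerSeries σ k] MvPowerSeries σ k :=
    ∑ i, (MvPowerSeries.X i : MvPowerSeries σ k) • LinearMap.proj i
  let C : ExteriorAlgebra (MvPowerSeries σ k) (σ → MvPowerSeries σ k) →ₗ[MvPowerSeries σ k]
      ExteriorAlgebra (MvPowerSeries σ k) (σ → MvPowerSeries σ k) := CliffordAlgebra.contractLeft φ
  let ν := fun m : σ → MvPowerSeries σ k => ExteriorAlgebra.ι (MvPowerSeries σ k) m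
  have hC : ∀ m x, C (ν m * x) = φ m • x - ν m * C x := fun m x => CliffordAlgebra.contractLeft_ι_mul φ m x
  have hC1 : C 1 = 0 := CliffordAlgebra.contractLeft_one _ φ
  have hanti : ∀ x y, ν x * ν y = -(ν y * ν x) := fun x y =>
    eq_neg_of_add_eq_zero_left (ExteriorAlgebra.ι_add_mul_swap x y)
  -- additive generation by the elements of the rule
  have gen_ind : ∀ (n : ℕ) (P : ↥(⋀[MvPowerSeries σ k]^n (σ → MvPowerSeries σ k)) → Prop), P 0 →
      (∀ x y, P x → P y → P (x + y)) → (∀ b₀ b, P (DeRham.gen δ n b₀ b)) → ∀ x, P x := by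
    intro n P h0 hadd hg x
    have hspan := exteriorPower.ιMulti_span_of_span (MvPowerSeries σ k) n (σ → MvPowerSeries σ k) hgen
    have hx := (eq_top_iff.mp hspan) (Submodule.mem_top (x := x))
    have : ∀ a : MvPowerSeries σ k, P (a • x) := by
      induction hx using Submodule.span_induction with
      | mem y hy =>
        intro a
        obtain ⟨v, hv, rfl⟩ := hy
        choose b hb using fun i => hv ⟨i, rfl⟩
        obtain rfl : (fun i => δ (b i)) = v := funext hb
        exact hg a b
      | zero => intro a; rw [smul_zero]; exact h0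
      | add y z _ _ hy hz => intro a; rw [smul_add]; exact hadd _ _ (hy a) (hz a)
      | smul c y _ hy => intro a; rw [smul_smul]; exact hy _
    simpa using this 1
  -- contraction lowers the degree
  have hCdeg : ∀ (n : ℕ) (v : Fin (n + 1) → σ → MvPowerSeries σ k),
      C (ExteriorAlgebra.ιMulti (MvPowerSeries σ k) (n + 1) v) ∈ ⋀[MvPowerSeries σ k]^n (σ → MvPowerSeries σ k) := by
    intro n
    induction n with
    | zero =>
      intro v
      rw [ExteriorAlgebra.ιMulti_succ_apply, ExteriorAlgebra.ιMulti_zero_apply, hC, hC1, mul_zero, sub_zero]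
      exact Submodule.smul_mem _ _ (Submodule.one_le.mp (le_of_eq (pow_zero _).symm))
    | succ n ih =>
      intro v
      rw [ExteriorAlgebra.ιMulti_succ_apply, hC]
      refine Submodule.sub_mem _ (Submodule.smul_mem _ _ ?_) ?_
      · exact ((exteriorPower.ιMulti (MvPowerSeries σ k) (n + 1)) (Matrix.vecTail v)).2
      · rw [ExteriorAlgebra.exteriorPower, pow_succ']
        exact Submodule.mul_mem_mul ⟨v 0, rfl⟩ (ih _)
  have hCW : ∀ (n : ℕ) (x : ↥(⋀[MvPowerSeries σ k]^(n + 1) (σ → MvPowerSeries σ k))),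
      C x.1 ∈ ⋀[MvPowerSeries σ k]^n (σ → MvPowerSeries σ k) := by
    intro n
    refine gen_ind (n + 1) _ (by simp) (fun x y hx hy => ?_) fun b₀ b => ?_
    · rw [Submodule.coe_add, map_add]; exact add_mem hx hy
    · simp only [DeRham.gen, Submodule.coe_smul, exteriorPower.ιMulti_apply_coe, map_smul]
      exact Submodule.smul_mem _ _ (hCdeg n _)
  let c : ∀ n : ℕ, ↥(⋀[MvPowerSeries σ k]^(n + 1) (σ → MvPowerSeries σ k)) →ₗ[MvPowerSeries σ k]
      ↥(⋀[MvPowerSeries σ k]^n (σ → MvPowerSeries σ k)) := fun n =>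
    (C ∘ₗ Submodule.subtype _).codRestrict _ (hCW n)
  have hcv : ∀ n x, (c n x).1 = C x.1 := fun n x => rfl
  -- left multiplication by a closed one-form
  have hmulmem : ∀ (n : ℕ) (m : σ → MvPowerSeries σ k) (x : ↥(⋀[MvPowerSeries σ k]^n (σ → MvPowerSeries σ k))),
      ν m * x.1 ∈ ⋀[MvPowerSeries σ k]^(n + 1) (σ → MvPowerSeries σ k) := fun n m x => by
    rw [ExteriorAlgebra.exteriorPower, pow_succ']
    exact Submodule.mul_mem_mul ⟨m, rfl⟩ x.2
  have hdgen : ∀ (n : ℕ) (b₀ : MvPowerSeries σ k) (b : Fin n → MvPowerSeries σ k),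
      (d n (DeRham.gen δ n b₀ b)).1 =
        ν (δ b₀) * ExteriorAlgebra.ιMulti (MvPowerSeries σ k) n (fun i => δ (b i)) := by
    intro n b₀ b
    rw [hd.1 n b₀ b, exteriorPower.ιMulti_apply_coe, ExteriorAlgebra.ιMulti_succ_apply]
    rfl
  have leib : ∀ (n : ℕ) (a : MvPowerSeries σ k) (x : ↥(⋀[MvPowerSeries σ k]^n (σ → MvPowerSeries σ k))),
      (d (n + 1) ⟨ν (δ a) * x.1, hmulmem n _ x⟩).1 = -(ν (δ a) * (d n x).1) := by
    intro n a
    refine gen_ind n _ ?_ (fun x y hx hy => ?_) fun b₀ b => ?_
    · simp only [ZeroMemClass.coe_zero, mul_zero, map_zero, neg_zero]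
      exact congrArg Subtype.val ((d (n+1)).map_zero)
    · rw [show (⟨ν (δ a) * (x + y).1, hmulmem n _ _⟩ : ↥(⋀[MvPowerSeries σ k]^(n + 1) (σ → MvPowerSeries σ k))) =
        ⟨ν (δ a) * x.1, hmulmem n _ _⟩ + ⟨ν (δ a) * y.1, hmulmem n _ _⟩ from Subtype.ext (mul_add _ _ _),
        map_add, Submodule.coe_add, hx, hy, map_add, Submodule.coe_add, mul_add, neg_add]
    · rw [hdgen]
      have e : (⟨ν (δ a) * (DeRham.gen δ n b₀ b).1, hmulmem n _ _⟩ :
          ↥(⋀[MvPowerSeries σ k]^(n + 1) (σ → MvPowerSeries σ k))) = DeRham.gen δ (n + 1) b₀ (Fin.cons a b) := by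
        refine Subtype.ext ?_
        simp only [DeRham.gen, Submodule.coe_smul, exteriorPower.ιMulti_apply_coe, mul_smul_comm]
        rw [ExteriorAlgebra.ιMulti_succ_apply]
        rfl
      rw [e, hdgen, ExteriorAlgebra.ιMulti_succ_apply, ← mul_assoc]
      show ν (δ b₀) * ν (δ a) * _ = _
      rw [hanti, neg_mul, mul_assoc]
      rfl
  have hX : ∀ i, δ (MvPowerSeries.X i) = Pi.single i 1 := fun i => by
    funext j
    rw [hδ, Pi.single_apply, MvPowerSeries.pderiv_X]
    simp [Pi.single_apply, eq_comm]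
  -- the key formula
  have key : ∀ (n : ℕ) (s : Fin (n + 1) → σ) (f : MvPowerSeries σ k),
      (d n (f • c n (exteriorPower.ιMulti (MvPowerSeries σ k) (n + 1) (fun i => δ (MvPowerSeries.X (s i)))))).1 =
        ν (δ f) * C (ExteriorAlgebra.ιMulti (MvPowerSeries σ k) (n + 1) (fun i => δ (MvPowerSeries.X (s i)))) +
        (((n : MvPowerSeries σ k) + 1) * f) •
          ExteriorAlgebra.ιMulti (MvPowerSeries σ k) (n + 1) (fun i => δ (MvPowerSeries.X (s i))) := by
    intro n
    induction n with
    | zero =>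
      intro s f
      have hw : ExteriorAlgebra.ιMulti (MvPowerSeries σ k) 1 (fun i => δ (MvPowerSeries.X (s i))) =
          ν (δ (MvPowerSeries.X (s 0))) := by
        rw [ExteriorAlgebra.ιMulti_succ_apply, ExteriorAlgebra.ιMulti_zero_apply, mul_one]
      have hCw : C (ν (δ (MvPowerSeries.X (s 0)))) = φ (δ (MvPowerSeries.X (s 0))) • (1 : ExteriorAlgebra _ _) := by
        have := hC (δ (MvPowerSeries.X (s 0))) 1
        rwa [mul_one, hC1, mul_zero, sub_zero] at this
      have hφX : φ (δ (MvPowerSeries.X (s 0))) = MvPowerSeries.X (s 0) := by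
        simp [φ, hX, Pi.single_apply]
      have e : f • c 0 (exteriorPower.ιMulti (MvPowerSeries σ k) 1 (fun i => δ (MvPowerSeries.X (s i)))) =
          DeRham.gen δ 0 (f * MvPowerSeries.X (s 0)) Fin.elim0 := by
        refine Subtype.ext ?_
        simp only [DeRham.gen, Submodule.coe_smul, hcv, exteriorPower.ιMulti_apply_coe, hw, hCw, hφX,
          ExteriorAlgebra.ιMulti_zero_apply, smul_smul]
      rw [e, hdgen, hw, hCw, hφX, ExteriorAlgebra.ιMulti_zero_apply, mul_one, Derivation.leibniz]
      simp only [ν, map_add, map_smul, mul_smul_comm, mul_one, Nat.cast_zero, zero_add, one_mul]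
      exact add_comm _ _
    | succ n ih =>
      intro s f
      set a := s 0
      set s' : Fin (n + 1) → σ := fun i => s i.succ
      set w' := ExteriorAlgebra.ιMulti (MvPowerSeries σ k) (n + 1) (fun i => δ (MvPowerSeries.X (s' i))) with hw'
      have hw : ExteriorAlgebra.ιMulti (MvPowerSeries σ k) (n + 1 + 1) (fun i => δ (MvPowerSeries.X (s i))) =
          ν (δ (MvPowerSeries.X a)) * w' := ExteriorAlgebra.ιMulti_succ_apply _
      have hCw : C (ν (δ (MvPowerSeries.X a)) * w') =
          (MvPowerSeries.X a : MvPowerSeries σ k) • w' - ν (δ (MvPowerSeries.X a)) * C w' := by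
        rw [hC]; simp [φ, hX, Pi.single_apply]
      have e : f • c (n + 1) (exteriorPower.ιMulti (MvPowerSeries σ k) (n + 1 + 1) (fun i => δ (MvPowerSeries.X (s i)))) =
          DeRham.gen δ (n + 1) (f * MvPowerSeries.X a) (fun i => MvPowerSeries.X (s' i)) -
          ⟨ν (δ (MvPowerSeries.X a)) * (f • c n (exteriorPower.ιMulti (MvPowerSeries σ k) (n + 1)
            (fun i => δ (MvPowerSeries.X (s' i))))).1, hmulmem n _ _⟩ := by
        refine Subtype.ext ?_
        simp only [DeRham.gen, Submodule.coe_smul, Submodule.coe_sub, hcv, exteriorPower.ιMulti_apply_coe, hw, hCw,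
          smul_sub, smul_smul, mul_smul_comm, ← hw']
      rw [e, map_sub, Submodule.coe_sub, hdgen, leib, ih s' f, hw, hCw, ← hw', Derivation.leibniz]
      have h1 := hanti (δ (MvPowerSeries.X a)) (δ f)
      simp only [ν] at h1 ⊢
      simp only [map_add, map_smul, add_mul, mul_add, mul_sub, smul_mul_assoc, mul_smul_comm, ← mul_assoc, h1,
        neg_mul, Nat.cast_succ]
      simp only [one_mul, add_smul, neg_add_rev, neg_neg, sub_eq_add_neg]
      abel
  -- the Lie derivative
  let L : ∀ n : ℕ, ↥(⋀[MvPowerSeries σ k]^(n + 1) (σ → MvPowerSeries σ k)) →ₗ[k]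
      ↥(⋀[MvPowerSeries σ k]^(n + 1) (σ → MvPowerSeries σ k)) := fun n =>
    d n ∘ₗ (c n).restrictScalars k + (c (n + 1)).restrictScalars k ∘ₗ d (n + 1)
  have hL : ∀ (n : ℕ) (s : Fin (n + 1) → σ) (f : MvPowerSeries σ k),
      L n (f • exteriorPower.ιMulti (MvPowerSeries σ k) (n + 1) (fun i => δ (MvPowerSeries.X (s i)))) =
        (φ (δ f) + ((n : MvPowerSeries σ k) + 1) * f) •
          exteriorPower.ιMulti (MvPowerSeries σ k) (n + 1) (fun i => δ (MvPowerSeries.X (s i))) := by
    intro n s f
    refine Subtype.ext ?_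
    simp only [L, LinearMap.add_apply, LinearMap.comp_apply, LinearMap.restrictScalars_apply, map_smul (c n),
      Submodule.coe_add, Submodule.coe_smul, exteriorPower.ιMulti_apply_coe]
    rw [key, hcv, show f • exteriorPower.ιMulti (MvPowerSeries σ k) (n + 1) (fun i => δ (MvPowerSeries.X (s i))) =
      DeRham.gen δ (n + 1) f (fun i => MvPowerSeries.X (s i)) from rfl, hdgen, hC, add_smul]
    abel
  have hE : ∀ (f : MvPowerSeries σ k) (e : σ →₀ ℕ),
      MvPowerSeries.coeff e (φ (δ f)) = ((∑ i, e i : ℕ) : k) * MvPowerSeries.coeff e f := by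
    intro f e
    rw [show φ (δ f) = ∑ i, MvPowerSeries.X i * MvPowerSeries.pderiv k i f by
      simp [φ, hδ, Fintype.sum_apply], map_sum, Nat.cast_sum, Finset.sum_mul]
    refine Finset.sum_congr rfl fun i _ => ?_
    rw [MvPowerSeries.X_def, MvPowerSeries.coeff_monomial_mul]
    split_ifs with h
    · have h1 : 1 ≤ e i := by simpa using h i
      rw [one_mul, MvPowerSeries.coeff_pderiv, tsub_add_cancel_of_le h, Finsupp.tsub_apply, Finsupp.single_eq_same,
        Nat.cast_sub h1]
      push_cast; ring
    · have h1 : e i = 0 := by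
        by_contra h0
        exact h (Finsupp.single_le_iff.mpr (Nat.one_le_iff_ne_zero.mpr h0))
      rw [h1, Nat.cast_zero, zero_mul]
  have hpos : ∀ (n : ℕ) (e : σ →₀ ℕ), ((∑ i, e i : ℕ) : k) + ((n : k) + 1) ≠ 0 := fun n e => by
    exact_mod_cast Nat.succ_ne_zero ((∑ i, e i) + n)
  have hscal : ∀ (n : ℕ) (f : MvPowerSeries σ k) (e : σ →₀ ℕ),
      MvPowerSeries.coeff e (φ (δ f) + ((n : MvPowerSeries σ k) + 1) * f) =
        (((∑ i, e i : ℕ) : k) + ((n : k) + 1)) * MvPowerSeries.coeff e f := by
    intro n f e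
    rw [map_add, hE, show ((n : MvPowerSeries σ k) + 1) = MvPowerSeries.C ((n : k) + 1) by rw [map_add, map_natCast, map_one],
      MvPowerSeries.coeff_C_mul]
    ring
  have hLbij : ∀ n : ℕ, Function.Bijective (L n) := by
    intro n
    let B := (Pi.basisFun (MvPowerSeries σ k) σ).exteriorPower (n + 1)
    have hB : ∀ t, B t = exteriorPower.ιMulti (MvPowerSeries σ k) (n + 1)
        (fun i => δ (MvPowerSeries.X (Set.powersetCard.ofFinEmbEquiv.symm t i))) := by
      intro t
      simp only [B, exteriorPower.basis_apply, exteriorPower.ιMulti_family]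
      congr 1
      funext i
      simp [hX]
    have hrep : ∀ x t, B.repr (L n x) t =
        φ (δ (B.repr x t)) + ((n : MvPowerSeries σ k) + 1) * B.repr x t := by
      intro x t
      conv_lhs => rw [← B.sum_repr x]
      rw [map_sum, map_sum, Finset.sum_apply']
      rw [Finset.sum_congr rfl fun u _ => show B.repr (L n (B.repr x u • B u)) t =
        if u = t then φ (δ (B.repr x u)) + ((n : MvPowerSeries σ k) + 1) * B.repr x u else 0 by
          rw [hB, hL, ← hB]
          rw [map_smul, Module.Basis.repr_self, Finsupp.smul_apply, Finsupp.single_apply, smul_eq_mul, mul_ite, mul_one, mul_zero]]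
      simp
    constructor
    · intro x y hxy
      refine B.repr.injective (Finsupp.ext fun t => MvPowerSeries.ext fun e => ?_)
      have h := congrArg (fun z => MvPowerSeries.coeff e (B.repr z t)) hxy
      simp only [hrep, hscal] at h
      exact mul_left_cancel₀ (hpos n e) h
    · intro y
      let g : Set.powersetCard σ (n + 1) → MvPowerSeries σ k := fun t e =>
        (((∑ i, e i : ℕ) : k) + ((n : k) + 1))⁻¹ * MvPowerSeries.coeff e (B.repr y t)
      refine ⟨∑ t, g t • B t, B.repr.injective (Finsupp.ext fun t => MvPowerSeries.ext fun e => ?_)⟩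
      rw [hrep, hscal, B.repr_sum_self]
      exact mul_inv_cancel_left₀ (hpos n e) _
  intro ω hω
  rw [DeRham.cocycles, LinearMap.mem_ker] at hω
  obtain ⟨ω', rfl⟩ := (hLbij p).2 ω
  have hdd : ∀ n x, d (n + 1) (d n x) = 0 := fun n x => LinearMap.congr_fun (hd.2 n) x
  have hcomm : L (p + 1) (d (p + 1) ω') = 0 := by
    rw [← hω]
    simp [L, hdd]
  have hω' : d (p + 1) ω' = 0 := (hLbij (p + 1)).1 (hcomm.trans (map_zero _).symm)
  refine ⟨c p ω', ?_⟩
  simp [L, hω']

end Groth.Agent.S18616
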