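import Groth.Statements.S18631
import Groth.Agent.LMLib.Rank
import Groth.Agent.LMLib.Mu
import Groth.Agent.PicPnLib.Twist
import Groth.Agent.KoszOrthLib.PnGen
import Groth.Agent.TwistLib.PullGen
import Groth.Agent.AVVanishLib.Family
import Groth.Agent.HilbPolyLib.Twist

set_option autoImplicit false
universe u
open VBPn

set_option backward.isDefEq.respectTransparency false
set_option backward.isDefEq.respectTransparency.types false
set_option maxHeartbeats 1200000

namespace Groth.Agent.S18631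

open CategoryTheory CategoryTheory.Limits AlgebraicGeometry in
/-- Tensoring a monomorphism out of the structure sheaf. -/
theorem exists_mul {Y : Scheme.{u}} [IsIntegral Y] [IsLocallyNoetherian Y] {M B C : Y.Modules} (hM : PicF.IsInvertible M)
    (φ : Coh.structureModule Y ⟶ B) (hφ : Mono φ) (e : CohB1.tensorMod M B ≅ C) :
    ∃ ψ : M ⟶ C, Mono ψ := by
  haveI : Mono ((CurvLib.tensorLeft' M).map φ) :=
    (HilbPolyLib.shortExact_tensor hM (PicOneLib.ses_coker φ)).mono_f
  let i : M ≅ (CurvLib.tensorLeft' M).obj (Coh.structureModule Y) :=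
    (HilbPolyLib.swapIso M (Coh.structureModule Y) ≪≫ HilbPolyLib.unitLeft M).symm
  exact ⟨i.hom ≫ (CurvLib.tensorLeft' M).map φ ≫ e.hom, inferInstance⟩

open CategoryTheory CategoryTheory.Limits AlgebraicGeometry in
/-- Twisting a monomorphism into a section. -/
theorem exists_twist_mono {Y : Scheme.{u}} [IsIntegral Y] [IsLocallyNoetherian Y] {M A B C : Y.Modules} (hM : PicF.IsInvertible M)
    (u : A ⟶ B) (hu : Mono u) (e0 : CohB1.tensorMod M A ≅ Coh.structureModule Y) (e : CohB1.tensorMod M B ≅ C) :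
    ∃ v : Coh.structureModule Y ⟶ C, Mono v := by
  haveI : Mono ((CurvLib.tensorLeft' M).map u) :=
    (HilbPolyLib.shortExact_tensor hM (PicOneLib.ses_coker u)).mono_f
  exact ⟨e0.inv ≫ (CurvLib.tensorLeft' M).map u ≫ e.hom, inferInstance⟩

open CategoryTheory CategoryTheory.Limits AlgebraicGeometry TopologicalSpace in
/-- Let k be an algebraically closed field of characteristic zero and X ⊆ P³_k a smooth integral surface
of degree d ≥ 4: ι : X → P³_k a closed immersion over k whose ideal is that of one form F of degree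
d, X proper and smooth over k of dimension 2, polarised by the ample L = ι^*O(1); assume Pic X is
generated by O_X(1), i.e. every invertible O_X-module is isomorphic to ι^*O(n) for some integer n.
Let Z ⊆ X be a closed subscheme with finite support such that H⁰(X, I_Z ⊗ ι^*O(d−2)) = 0, and let 0
→ O_X → E → I_Z ⊗ ι^*O(d−1) → 0 be a short exact sequence of O_X-modules with E finite locally free
of rank 2. Then E is slope-stable (of dimension 2, with respect to L). (The published statement is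
for the rank-2 Ulrich bundles on a general degree-d surface, 4 ≤ d ≤ 15, which come with such a
presentation and vanishing; its argument uses about generality only that Pic X is generated by
O_X(1), and about E only the displayed data; it concludes through the quoted criterion that a rank-2
bundle on such an X is slope-stable once its normalised twist has no sections.) -/
theorem result (k : Type u) [Field k] [IsAlgClosed k] [CharZero k]
    (X : Scheme.{u}) [X.Over (Spec (CommRingCat.of k))] [AlgebraicGeometry.IsIntegral X]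
    [IsProper (X ↘ (Spec (CommRingCat.of k)))] [Smooth (X ↘ (Spec (CommRingCat.of k)))]
    (hdim : topologicalKrullDim X = 2)
    (ι : X ⟶ CohB1.ProjSpace 3 k) [IsClosedImmersion ι] (hιk : ι ≫ CohB1.ProjSpace.toSpec 3 k = X ↘ (Spec (CommRingCat.of k)))
    (hL : CohB1.IsAmple ((Scheme.Modules.pullback ι).obj (Twist.twistProjSpace 3 k (1))))
    (d : ℕ) (hd : 4 ≤ d) (F : LefPen.Form 3 k d) (hF : ι.ker = LefPen.hypIdeal F)
    (hPic : ∀ M : X.Modules, PicF.IsInvertible M → ∃ n : ℤ, Nonempty (M ≅ ((Scheme.Modules.pullback ι).obj (Twist.twistProjSpace 3 k (n)))))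
    (Z : X.IdealSheafData) (hZfin : (Z.support : Set X).Finite)
    (hZ : Subsingleton (Coh.HH X (CohB1.tensorMod (ClSub.idealMod Z) ((Scheme.Modules.pullback ι).obj (Twist.twistProjSpace 3 k ((d : ℤ) - 2)))) 0))
    (S : ShortComplex X.Modules) (hS : S.ShortExact)
    (h₁ : Nonempty (S.X₁ ≅ Coh.structureModule X))
    (h₃ : Nonempty (S.X₃ ≅ CohB1.tensorMod (ClSub.idealMod Z) ((Scheme.Modules.pullback ι).obj (Twist.twistProjSpace 3 k ((d : ℤ) - 1)))))
    (hE : FlatMod.IsFinLocFreeOfRank 2 S.X₂) :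
    ShStab.IsMuStable k X ((Scheme.Modules.pullback ι).obj (Twist.twistProjSpace 3 k (1))) S.X₂ 2 := by
  haveI := CurvLib.isNoetherian k (X := X)
  haveI := SurfNumLib.smoothRel_of_dim (k := k) (X := X) (n := 2) hdim
  letI := LMLib.law X
  let O := Coh.structureModule X
  have hOc : Coh.IsCoh O := DevissLib.isCoh_structureModule X
  have hOtf : TorSh.IsTorsionFree O :=
    PicOneLib.torsionFree_of_isFinLocFree (Formal2VBLib.isFinLocFree_structureModule X)
  have hO1 : CurvLib.genRank O = 1 := AVAmpleLib.genRank_structureModule X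
  let P : ℤ → X.Modules := fun n => (Scheme.Modules.pullback ι).obj (Twist.twistProjSpace 3 k n)
  have hPi : ∀ n, PicF.IsInvertible (P n) := fun n => AmpleDevLib.isInvertible_pb ι (PicPnLib.twist_inv 3 k n)
  have padd : ∀ a b : ℤ, Nonempty (CohB1.tensorMod (P a) (P b) ≅ P (a + b)) := fun a b => by
    obtain ⟨e⟩ := PicPnLib.twist_add 3 k a b
    haveI := KFlatLib.isIso_pullθ ι (Twist.twistProjSpace 3 k a) (Twist.twistProjSpace 3 k b)
    exact ⟨(asIso (KFlatLib.pullθ ι (Twist.twistProjSpace 3 k a) (Twist.twistProjSpace 3 k b))).symm ≪≫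
      (Scheme.Modules.pullback ι).mapIso e⟩
  have padd' : ∀ a b c : ℤ, a + b = c → Nonempty (CohB1.tensorMod (P a) (P b) ≅ P c) := fun a b c h => h ▸ padd a b
  obtain ⟨e0⟩ : Nonempty (P 0 ≅ O) := by
    obtain ⟨e⟩ := PicPnLib.twist_zero 3 k
    exact ⟨(Scheme.Modules.pullback ι).mapIso e ≪≫ KFlatLib.pullUnitIso ι⟩
  let c : Multiplicative ℤ →* PicLoc.PicSet X :=
    { toFun := fun n => PicGrp.cls (P n.toAdd) (hPi _)
      map_one' := (PicGrp.cls_eq_one_iff _).2 ⟨e0⟩
      map_mul' := fun a b => Subtype.ext ((PicGrp.cls_val _ _).trans ((Eq.trans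
        ((PicGrp.cl_eq_cl_iff _ _).2 ((padd a.toAdd b.toAdd).map Iso.symm))
        (PicGrp.cls_mul_cls_val (hPi a.toAdd) (hPi b.toAdd)).symm))) }
  have hcls : ∀ n : ℤ, PicGrp.cls (P n) (hPi n) = PicGrp.cls (P 1) hL.1 ^ n := fun n => by
    have h := map_zpow c (Multiplicative.ofAdd (1 : ℤ)) n
    rw [← ofAdd_zsmul, smul_eq_mul, mul_one] at h
    exact h
  have hgen : ∀ q : PicLoc.PicSet X, ∃ n : ℤ, q = PicGrp.cls (P 1) hL.1 ^ n := fun q => by
    obtain ⟨M, hM, rfl⟩ := PicGrp.exists_eq_cls q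
    obtain ⟨n, e⟩ := hPic M hM
    exact ⟨n, ((PicGrp.cls_eq_cls_iff hM (hPi n)).2 e).trans (hcls n)⟩
  have hα := PicOneLib.alpha_pos' k hdim hL
  have ptf : ∀ n, TorSh.IsTorsionFree (P n) := fun n => PicOneLib.torsionFree_of_isFinLocFree
    (CurveVBLib.isFinLocFree_of_rank (CurvLib.locFree_of_isInvertible (hPi n)))
  have hO0 : ¬ IsZero O := fun h => by
    rw [CurveVBLib.genRank_of_isZero h] at hO1
    exact zero_ne_one hO1
  -- the subscheme
  let M := P ((d : ℤ) - 1)
  let T := CurvLib.tensorLeft' M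
  have hI := HilbPolyLib.shortExact_tensor (hPi ((d : ℤ) - 1)) (CurvLib.idealSeq_shortExact Z)
  obtain ⟨e₁⟩ := h₁
  obtain ⟨e₃⟩ := h₃
  let eN : S.X₃ ≅ T.obj (ClSub.idealMod Z) := e₃ ≪≫ HilbPolyLib.swapIso _ M
  let eM : T.obj O ≅ M := HilbPolyLib.swapIso M O ≪≫ HilbPolyLib.unitLeft M
  have hMc := CurvLib.isCoh_of_isInvertible (hPi ((d : ℤ) - 1))
  have hQc : Coh.IsCoh (T.obj (ClSub.quotMod Z)) :=
    HilbPolyLib.isCoh_tensor (hPi _) (CurvLib.isCoh_quotMod Z)
  have hTOc : Coh.IsCoh (T.obj O) := HilbPolyLib.isCoh_tensor (hPi _) hOc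
  have hcl : ∀ x ∈ (Z.support : Set X), IsClosed ({x} : Set X) := fun x hx => by
    haveI : JacobsonSpace X := LocallyOfFiniteType.jacobsonSpace (X ↘ Spec (CommRingCat.of k))
    have h1 := closure_inter_closedPoints Z.support.isClosed
    have hf : ((Z.support : Set X) ∩ closedPoints X).Finite := hZfin.inter_of_left _
    have h2 : IsClosed ((Z.support : Set X) ∩ closedPoints X) := by
      rw [← Set.biUnion_of_singleton ((Z.support : Set X) ∩ closedPoints X)]
      exact hf.isClosed_biUnion fun y hy => hy.2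
    rw [h2.closure_eq] at h1
    exact (h1.symm ▸ hx : x ∈ (Z.support : Set X) ∩ closedPoints X).2
  have hQd : topologicalKrullDim (CohB1.support (T.obj (ClSub.quotMod Z))) ≤ 0 := by
    rw [show CohB1.support (T.obj (ClSub.quotMod Z)) = CohB1.support (ClSub.quotMod Z) from
      HilbPolyLib.support_tensor (hPi _) _]
    exact (StabLib.dim_mono (CurvLib.support_quotMod_subset Z)).trans
      (AVVanishLib.topologicalKrullDim_le_zero_of_finite hZfin hcl)
  have hTIc : Coh.IsCoh (T.obj (ClSub.idealMod Z)) :=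
    HilbPolyLib.isCoh_tensor (hPi _) (QCohLib.isCoh_kernel _ hOc (CurvLib.isCoh_quotMod Z).1)
  obtain ⟨q1, q0⟩ := PicOneLib.c1_finite k hdim hL hQc hQd
  obtain ⟨hM1, hMr⟩ := PicOneLib.c1_class k hdim hL (hPi ((d : ℤ) - 1)) (hcls _)
  have hTO1 : PicOneLib.c1 k (P 1) (T.obj O) = PicOneLib.c1 k (P 1) M :=
    PicOneLib.c1_congr k hdim hL hMc eM
  have hTOr : CurvLib.genRank (T.obj O) = 1 := (EtaleChiLib.genRank_congr eM).trans hMr
  have rI : CurvLib.genRank (T.obj O) =
      CurvLib.genRank (T.obj (ClSub.idealMod Z)) + CurvLib.genRank (T.obj (ClSub.quotMod Z)) :=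
    CurvLib.genRank_add (S := (CurvLib.idealSeq Z).map T) hI hTIc hTOc hQc
  have pI : StabLib.HPoly k (P 1) (T.obj O) =
      StabLib.HPoly k (P 1) (T.obj (ClSub.idealMod Z)) + StabLib.HPoly k (P 1) (T.obj (ClSub.quotMod Z)) :=
    StabLib.hPoly_add (S := (CurvLib.idealSeq Z).map T) hL hI hTIc hTOc hQc
  have cI : PicOneLib.c1 k (P 1) (T.obj O) = PicOneLib.c1 k (P 1) (T.obj (ClSub.idealMod Z)) := by
    have := congrArg (fun p : Polynomial ℚ => p.coeff 1) pI
    simp only [Polynomial.coeff_add] at this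
    change PicOneLib.c1 k (P 1) (T.obj O) = _ + PicOneLib.c1 k (P 1) (T.obj (ClSub.quotMod Z)) at this
    rw [q1, add_zero] at this
    exact this
  have hX3 : Coh.IsCoh S.X₃ := QCohLib.isCoh_of_iso eN.symm hTIc
  have hX1 : Coh.IsCoh S.X₁ := QCohLib.isCoh_of_iso e₁.symm hOc
  have hX3r : CurvLib.genRank S.X₃ = 1 := by
    have := EtaleChiLib.genRank_congr eN
    omega
  haveI : Mono (T.map (ClSub.idealModι Z)) := hI.mono_f
  have hX3tf : TorSh.IsTorsionFree S.X₃ := PicOneLib.torsionFree_of_mono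
    (eN.hom ≫ T.map (ClSub.idealModι Z) ≫ eM.hom) (ptf _)
  have hEc : Coh.IsCoh S.X₂ := CurvLib.isCoh_of_locFree hE
  have hEf := CurveVBLib.isFinLocFree_of_rank hE
  have hEr : CurvLib.genRank S.X₂ = 2 := CurveVBLib.genRank_eq hE
  have hE1 : PicOneLib.c1 k (P 1) S.X₂ = 2 * PicOneLib.c1 k (P 1) O +
      2 * ((d : ℚ) - 1) * PicOneLib.c2 k (P 1) O := by
    have := congrArg (fun p : Polynomial ℚ => p.coeff 1) (StabLib.hPoly_add (k := k) hL hS hX1 hEc hX3)
    simp only [Polynomial.coeff_add] at this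
    change PicOneLib.c1 k (P 1) S.X₂ = PicOneLib.c1 k (P 1) S.X₁ + PicOneLib.c1 k (P 1) S.X₃ at this
    rw [PicOneLib.c1_congr k hdim hL hOc e₁, PicOneLib.c1_congr k hdim hL hTIc eN, ← cI, hTO1, hM1] at this
    rw [this]
    push_cast
    ring
  refine LMLib.isMuStable_of_bound k hdim hL hEc (PicOneLib.torsionFree_of_isFinLocFree hEf) two_pos hEr
    fun F i hi hF h0 h1 => ?_
  haveI := hi
  have hF1 : CurvLib.genRank F = 1 := by omega
  have hFtf := PicOneLib.torsionFree_of_mono i (PicOneLib.torsionFree_of_isFinLocFree hEf)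
  obtain ⟨a, J, hJ, j, hj, hjd, hJc, ha⟩ := PicOneLib.exists_class k hdim hL hgen hF hFtf hF1
  haveI := hj
  have hJcoh := CurvLib.isCoh_of_isInvertible hJ
  obtain ⟨g, hg⟩ := PicOneLib.exists_extend_finite k hdim hF hJcoh j hjd hEf i
  have hJtf : TorSh.IsTorsionFree J := PicOneLib.torsionFree_of_isFinLocFree
    (CurveVBLib.isFinLocFree_of_rank (CurvLib.locFree_of_isInvertible hJ))
  obtain ⟨hJ1, hJr⟩ := PicOneLib.c1_class k hdim hL hJ hJc
  have ha0 : a ≤ 0 := by
    by_contra hpos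
    by_cases hgS : g ≫ S.g = 0
    · -- inside the trivial submodule
      haveI := hS.mono_f
      let l : J ⟶ O := hS.exact.lift g hgS ≫ e₁.hom
      have hl : l ≠ 0 := fun h => by
        have h' : hS.exact.lift g hgS = 0 := by
          rw [← cancel_mono e₁.hom, Limits.zero_comp]; exact h
        have := hS.exact.lift_f g hgS
        rw [h', Limits.zero_comp] at this
        rw [← this, Limits.comp_zero] at hg
        have hz : IsZero F := (IsZero.iff_id_eq_zero F).2 (by rw [← cancel_mono i, ← hg, Limits.comp_zero, Limits.comp_zero])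
        rw [CurveVBLib.genRank_of_isZero hz] at hF1
        exact zero_ne_one hF1
      haveI := PicOneLib.mono_of_ne_zero k hJcoh hJtf hJr hOc hOtf l hl
      have hle := (PicOneLib.c1_mono k hdim hL l hJcoh hOc (hJr.trans hO1.symm)).1
      rw [hJ1] at hle
      have : (1 : ℚ) ≤ a := by exact_mod_cast (show (1 : ℤ) ≤ a by omega)
      nlinarith
    · -- a section of the twisted ideal
      haveI := PicOneLib.mono_of_ne_zero k hJcoh hJtf hJr hX3 hX3tf (g ≫ S.g) hgS
      obtain ⟨s, hs⟩ : ∃ s : O ⟶ P 1, Mono s := by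
        obtain ⟨σ, -, hσ⟩ := KoszOrthLib.exists_genAt_coordSec 3 k (ι (genericPoint X))
        let s := QCohLib.unitHom (P 1) (KFlatLib.puSec ι (U := ⊤) σ)
        refine ⟨s, PicOneLib.mono_of_ne_zero k hOc hOtf hO1 (CurvLib.isCoh_of_isInvertible (hPi 1)) (ptf 1) s
          fun h => ?_⟩
        have hz : KFlatLib.puSec ι (U := ⊤) σ = (0 : Γ(P 1, ⊤)) :=
          (GenusOneSSLib.unitHom_top _).symm.trans (by
            show s.app ⊤ _ = 0
            rw [h]; rfl)
        have hgen := TwistLib.GenAt.puSec ι (x := genericPoint X) hσ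
        have h10 : (1 : X.presheaf.stalk (genericPoint X)) = 0 := hgen.1 (by
          show (1 : X.presheaf.stalk (genericPoint X)) • ((P 1).presheaf.germ ⊤ (genericPoint X) trivial).hom
            (KFlatLib.puSec ι (U := ⊤) σ) = 0 • _
          rw [hz, map_zero, smul_zero, zero_smul])
        exact one_ne_zero h10
      obtain ⟨m, hm⟩ : ∃ m : ℕ, (m : ℤ) = a - 1 := ⟨(a - 1).toNat, Int.toNat_of_nonneg (by omega)⟩
      have hσ : ∀ q : ℕ, ∃ σ : O ⟶ P (q : ℤ), Mono σ := fun q => by
        induction q with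
        | zero => exact ⟨e0.inv, inferInstance⟩
        | succ q ih =>
          obtain ⟨σ, hσ⟩ := ih
          obtain ⟨e⟩ := padd' (q : ℤ) 1 ((q + 1 : ℕ) : ℤ) (by omega)
          obtain ⟨ψ, hψ⟩ := exists_mul (hPi (q : ℤ)) s hs e
          exact ⟨σ ≫ ψ, @mono_comp _ _ _ _ _ σ hσ ψ hψ⟩
      obtain ⟨σ, hσm⟩ := hσ m
      obtain ⟨eJ⟩ : Nonempty (CohB1.tensorMod (P 1) (P (m : ℤ)) ≅ J) := by
        obtain ⟨e⟩ := padd' 1 (m : ℤ) a (by omega)
        obtain ⟨e'⟩ := (PicGrp.cls_eq_cls_iff (hPi a) hJ).1 ((hcls a).trans hJc.symm)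
        exact ⟨e ≪≫ e'⟩
      obtain ⟨ψ, hψ⟩ := exists_mul (hPi 1) σ hσm eJ
      have hu : Mono (ψ ≫ g ≫ S.g) := @mono_comp _ _ _ _ _ ψ hψ (g ≫ S.g) inferInstance
      obtain ⟨em⟩ := padd' (-1) 1 0 (by omega)
      obtain ⟨ed⟩ := padd' (-1) ((d : ℤ) - 1) ((d : ℤ) - 2) (by omega)
      obtain ⟨v, hv⟩ := exists_twist_mono (hPi (-1)) (ψ ≫ g ≫ S.g) hu (em ≪≫ e0)
        (HilbPolyLib.congrRight (P (-1)) e₃ ≪≫ HilbPolyLib.leftComm (P (-1)) (ClSub.idealMod Z) _ ≪≫
          HilbPolyLib.congrRight (ClSub.idealMod Z) ed)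
      haveI := hv
      haveI : Subsingleton (O ⟶ CohB1.tensorMod (ClSub.idealMod Z) (P ((d : ℤ) - 2))) :=
        (GenusOneSSLib.homEquiv (k := k) _).toEquiv.subsingleton
      exact hO0 ((IsZero.iff_id_eq_zero O).2 (by rw [← cancel_mono v]; exact Subsingleton.elim _ _))
  rw [ha, hF1, hE1]
  have h1 : (a : ℚ) ≤ 0 := by exact_mod_cast ha0
  have h2 : (4 : ℚ) ≤ d := by exact_mod_cast hd
  push_cast
  nlinarith

end Groth.Agent.S18631
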