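import Groth.Statements.S18633
import Groth.Agent.SurfAmpleLib.Triv
import Groth.Agent.SurfAmpleLib.Adj
import Groth.Agent.AmpleFinGenLib.Divisor
import Groth.Agent.PnHNLib.Main
import Groth.Agent.AmpleDevLib.Pull
import Groth.Agent.AmpleDevLib.Components
-- import your own Groth.Agent.* helpers here

set_option autoImplicit false
set_option backward.isDefEq.respectTransparency false
set_option backward.isDefEq.respectTransparency.types false
set_option maxHeartbeats 1000000
universe u
open CategoryTheory CategoryTheory.Limits AlgebraicGeometry TopologicalSpace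
open Surf

open TopologicalSpace HilbPolyLib DevissLib IntMultLib IntFunLib HodgeIdxLib
open KFlatLib (pb)

namespace Groth.Agent.S18633

/-- Let k be an algebraically closed field of characteristic zero and X a strong del Pezzo surface over
k: an integral scheme, proper and smooth over k of dimension 2, with canonical module W (a second
exterior power of Ω_{X/k}) and a tensor inverse D of W which is very ample relative to k — there is
a closed immersion ι : X → P^N_k over k with ι^*O(1) ≅ D. Assume H¹(X, O_X) = 0. Then H¹(X, D^{⊗m})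
= 0 and H¹(X, W^{⊗m}) = 0 for every m ≥ 0; that is, H¹(X, O_X(m)) = 0 for all m ∈ ℤ in the
anticanonical embedding X ⊆ P^d. (The published statement is that the anticanonically embedded X is
arithmetically Cohen–Macaulay; its argument obtains H¹(X, O_X) = 0 from the rationality of del Pezzo
surfaces, quoted, and that vanishing is the hypothesis here; the part about H¹ of the twisted ideal
sheaves of X is not restated.) -/
theorem result (k : Type u) [Field k] [IsAlgClosed k] [CharZero k] (X : Scheme.{u})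
    [X.Over (Spec (CommRingCat.of k))] [IsIntegral X] [IsProper (X ↘ (Spec (CommRingCat.of k)))] [Smooth (X ↘ (Spec (CommRingCat.of k)))]
    (hdim : topologicalKrullDim X = 2)
    (W : X.Modules) (hW : ExtPow.IsExtPow 2 (Omega.sheaf (X ↘ (Spec (CommRingCat.of k)))) W)
    (D : X.Modules) (hD : ClSub.IsInverseOf D W)
    (hva : ∃ (N : ℕ) (ι : X ⟶ CohB1.ProjSpace N k), IsClosedImmersion ι ∧
      ι ≫ CohB1.ProjSpace.toSpec N k = X ↘ (Spec (CommRingCat.of k)) ∧
      Nonempty ((Scheme.Modules.pullback ι).obj (Twist.twistProjSpace N k 1) ≅ D))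
    (hq : Subsingleton (Coh.HH X (Coh.structureModule X) 1)) (m : ℕ) :
    Subsingleton (Coh.HH X (CohB1.tensorPow D m) 1) ∧ Subsingleton (Coh.HH X (CohB1.tensorPow W m) 1) := by
  haveI := CurvLib.isNoetherian k (X := X)
  have hX : topologicalKrullDim X = ((2 : ℕ) : WithBot ℕ∞) := hdim
  have hX2 : topologicalKrullDim X ≤ ((2 : ℕ) : WithBot ℕ∞) := hX.le
  obtain ⟨n₀, ι, hι, -, ⟨eD⟩⟩ := hva
  obtain ⟨eDW⟩ := hD
  have hWi : PicF.IsInvertible W := SurfAmpleLib.isInvertible_canonical hX hW
  have hT : CohB1.IsAmple (Twist.twistProjSpace n₀ k 1) := PnHNLib.isAmple_twist_one n₀ k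
  have hpi : PicF.IsInvertible ((Scheme.Modules.pullback ι).obj (Twist.twistProjSpace n₀ k 1)) :=
    AmpleDevLib.isInvertible_pb ι hT.1
  have hDi : PicF.IsInvertible D := isInvertible_of_iso eD hpi
  have hDA : CohB1.IsAmple D := AmpleDevLib.isAmple_of_iso hpi hDi eD (AmpleDevLib.isAmple_pb ι hT.1 hT)
  have hK : 0 < pr k D D := pr_ample_pos hX hDA
  have hWQ : ∀ {Q : X.Modules}, PicF.IsInvertible Q → pr k W Q = -pr k D Q :=
    fun {Q} hQ => pr_inverse (k := k) hX2 hDi hWi hQ eDW
  have hWD : pr k W D < 0 := by rw [hWQ hDi]; omega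
  -- negative modules have no sections
  have hnosec : ∀ {P : X.Modules}, PicF.IsInvertible P → pr k P D < 0 → hh k P 0 = 0 := by
    intro P hP hneg
    by_contra hne
    haveI := CurvLib.finite_HH (k := k) (CurvLib.isCoh_of_isInvertible hP) 0
    obtain ⟨φ, hφ⟩ := CurvLib.exists_hom_ne_zero (L := P)
      (Module.nontrivial_of_finrank_pos (R := k) (Nat.pos_of_ne_zero hne))
    rcases (CohB1.support (cokernel φ)).eq_empty_or_nonempty with he | he
    · haveI := CurvLib.mono_of_ne_zero CurvLib.isInvertible_structureModule hP hφ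
      have hz := DevissLib.isZero_of_support_empty he
      haveI : Epi φ := Abelian.epi_of_cokernel_π_eq_zero φ (hz.eq_of_tgt _ _)
      haveI := isIso_of_mono_of_epi φ
      rw [pr, N_congr_head (asIso φ).symm, ← pr, pr_unit] at hneg
      exact lt_irrefl _ hneg
    · exact (SurfNumLib.pos_of_section hX hP hDA hφ he).not_gt hneg
  -- a section of D
  have hh2 : ∀ {L L' : X.Modules}, PicF.IsInvertible L → (CohB1.tensorMod L L' ≅ Coh.structureModule X) →
      hh k L 2 = hh k (CohB1.tensorMod L' W) 0 := fun hL e => SurfAmpleLib.hh_dual hX hW hL e 2 le_rfl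
  have hOi := CurvLib.isInvertible_structureModule (X := X)
  have hχO : Curv2.euler k X (Coh.structureModule X) = 1 := by
    rw [SurfNumLib.euler_eq_three (k := k) hX2]
    haveI := hq
    have h0 : hh k (Coh.structureModule X) 0 = 1 := SurfNumLib.h0_structure k
    have h1 : hh k (Coh.structureModule X) 1 = 0 := Module.finrank_zero_of_subsingleton
    have h2 : hh k (Coh.structureModule X) 2 = 0 := by
      rw [hh2 hOi (unitLeft (Coh.structureModule X)), hh_congr (k := k) (unitLeft W) 0]
      exact hnosec hWi hWD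
    omega
  have hD0 : hh k D 0 ≠ 0 := by
    intro h0
    have hrr := SurfAmpleLib.riemann_roch hX hW hDi
    have h2 : hh k D 2 = 0 := by
      rw [hh2 hDi eDW]
      refine hnosec (HilbPolyLib.isInvertible_tensor hWi hWi) ?_
      rw [pr_tensor hX2 hWi hWi hDi]
      omega
    rw [hχO, pr_comm D W, hWQ hDi, SurfNumLib.euler_eq_three (k := k) hX2] at hrr
    omega
  haveI := CurvLib.finite_HH (k := k) (CurvLib.isCoh_of_isInvertible hDi) 0
  obtain ⟨s, hs⟩ := CurvLib.exists_hom_ne_zero (L := D)
    (Module.nontrivial_of_finrank_pos (R := k) (Nat.pos_of_ne_zero hD0))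
  haveI := CurvLib.mono_of_ne_zero CurvLib.isInvertible_structureModule hDi hs
  let Z := PicF2.zeroScheme D s
  have hZ : BlowUp.IsEffCartierIdeal Z := AmpleFinGenLib.isEffCartier_zeroScheme hDi s
  obtain ⟨eZ⟩ := AmpleFinGenLib.idealMod_tensor_iso hDi s
  have hIZ := IntMultLib.isInvertible_idealMod Z hZ
  let eW : ClSub.idealMod Z ≅ W :=
    (swapIso _ _ ≪≫ unitLeft _).symm ≪≫ congrRight _ eDW.symm ≪≫ (assocIso _ _ _).symm ≪≫
      congrLeft eZ _ ≪≫ unitLeft W
  -- ample divisors are numerically connected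
  have hgrow : ∀ Y R : X.IdealSheafData, BlowUp.IsEffCartierIdeal Y → BlowUp.IsEffCartierIdeal R → Y ≠ ⊤ → R ≠ ⊤ →
      Z = Y * R → ∃ c : X, topologicalKrullDim (closure ({c} : Set X)) = ((1 : ℕ) : WithBot ℕ∞) ∧ c ∈ R.support ∧
        IntFunLib.N k [ClSub.idealMod Y] (Fpt c) < 0 := by
    intro Y R hY hR hYne hRne he
    have hy := IntMultLib.isInvertible_idealMod Y hY
    have hr := IntMultLib.isInvertible_idealMod R hR
    obtain ⟨φ⟩ := SurfNumLib.nonempty_idealMod_mul hY hR
    have hyr : ∀ {Q : X.Modules}, PicF.IsInvertible Q →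
        pr k (ClSub.idealMod Y) Q + pr k (ClSub.idealMod R) Q = -pr k D Q := fun {Q} hQ => by
      rw [← pr_tensor hX2 hy hr hQ, ← hWQ hQ, pr, pr,
        N_congr_head (φ ≪≫ eqToIso (congrArg ClSub.idealMod he.symm) ≪≫ eW)]
    have ha := SurfNumLib.pr_effCartier_pos (k := k) hX hY hYne hDA
    have hb := SurfNumLib.pr_effCartier_pos (k := k) hX hR hRne hDA
    refine SurfAmpleLib.exists_curve_neg hX hR hy ?_
    rw [pr_comm]
    by_contra hle
    push Not at hle
    have e1 := hyr hy
    have e2 := hyr hr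
    rw [pr_comm (ClSub.idealMod R) (ClSub.idealMod Y), pr_comm D (ClSub.idealMod Y)] at e1
    rw [pr_comm D (ClSub.idealMod R)] at e2
    have h := light₂ (k := k) hX hDA hy hr (pr k (ClSub.idealMod R) D) (-pr k (ClSub.idealMod Y) D) (by ring)
    have hyy : 0 < pr k (ClSub.idealMod Y) (ClSub.idealMod Y) := by omega
    have hrr : 0 < pr k (ClSub.idealMod R) (ClSub.idealMod R) := by omega
    nlinarith [mul_pos (mul_pos_of_neg_of_neg hb hb) hyy, mul_pos (mul_pos_of_neg_of_neg ha ha) hrr,
      mul_nonneg (mul_nonneg_of_nonpos_of_nonpos ha.le hb.le) (neg_nonneg.2 hle)]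
  -- powers
  have hWm : ∀ j, PicF.IsInvertible (CohB1.tensorPow W j) := fun j => AmpleThLib.tensorPow_isInvertible hWi j
  have hWmQ : ∀ (j : ℕ) {Q : X.Modules}, PicF.IsInvertible Q → pr k (CohB1.tensorPow W j) Q = (j : ℤ) * pr k W Q := by
    intro j
    induction j with
    | zero => intro Q _; rw [Nat.cast_zero, zero_mul]; exact pr_unit Q
    | succ j ih =>
      intro Q hQ
      change pr k (CohB1.tensorMod (CohB1.tensorPow W j) W) Q = _
      rw [pr_tensor hX2 (hWm j) hWi hQ, ih hQ]
      push_cast; ring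
  have hcurve : ∀ (j : ℕ) (c : X), topologicalKrullDim (closure ({c} : Set X)) = ((1 : ℕ) : WithBot ℕ∞) →
      IntFunLib.N k [CohB1.tensorPow W j] (Fpt c) ≤ 0 := by
    intro j c hc
    haveI := isIntegral_ptIdeal c
    have hcoh : Coh.IsCoh (Fpt c) := CurvLib.isCoh_quotMod _
    have hsd : topologicalKrullDim (CohB1.support (Fpt c)) ≤ ((1 : ℕ) : WithBot ℕ∞) := by
      rw [SurfNumLib.support_quotMod_eq, IntFunLib.dim_ptIdeal, hc]
    induction j with
    | zero =>
      change IntFunLib.N k [Coh.structureModule X] (Fpt c) ≤ 0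
      rw [IntFunLib.N, IntFunLib.N, IntFunLib.N, CurvLib.euler_congr (k := k) (unitLeft _), sub_self]
    | succ j ih =>
      change IntFunLib.N k [CohB1.tensorMod (CohB1.tensorPow W j) W] (Fpt c) ≤ 0
      rw [N_tensor (k := k) (l := []) (by simp) (hWm j) hWi hcoh hsd]
      have hneg : IntFunLib.N k [D] (Fpt c) + IntFunLib.N k [W] (Fpt c) = 0 := by
        rw [← N_tensor (k := k) (l := []) (by simp) hDi hWi hcoh hsd, N_congr_head eDW, IntFunLib.N, IntFunLib.N, IntFunLib.N, CurvLib.euler_congr (k := k) (unitLeft _), sub_self]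
      have hpos : 0 < IntFunLib.N k [D] (Fpt c) := N_ample_pos (k := k) (d := 1) hDA hc
      omega
  have hres : ∀ j, 1 ≤ j → hh k (CohB1.tensorMod (CohB1.tensorPow W j) (ClSub.quotMod Z)) 0 = 0 := by
    intro j hj
    by_contra hne
    obtain ⟨e⟩ := SurfAmpleLib.nonempty_iso_of_h0 hX hZ hgrow (hWm j) (fun c hc _ => hcurve j c hc) hne
    have h1 : IntFunLib.N k [CohB1.tensorPow W j] (ClSub.quotMod Z) = 0 := by
      rw [IntFunLib.N, IntFunLib.N, IntFunLib.N, CurvLib.euler_congr (k := k) e, sub_self]
    have h2 := SurfNumLib.pr_ideal (k := k) Z (CurvLib.isCoh_of_isInvertible hIZ) (hWm j)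
    rw [h1, neg_zero, pr, N_congr_head eW, ← pr, pr_comm, hWmQ j hWi, hWQ hWi, pr_comm D W, hWQ hDi] at h2
    have h3 : 0 < (j : ℤ) * pr k D D := mul_pos (by exact_mod_cast hj) hK
    linarith
  -- vanishing for the powers of W
  have hW1 : ∀ j, hh k (CohB1.tensorPow W j) 1 = 0 := by
    intro j
    haveI := hq
    have hO1 : hh k (Coh.structureModule X) 1 = 0 := Module.finrank_zero_of_subsingleton
    induction j with
    | zero => exact hO1
    | succ j ih =>
      rcases Nat.eq_zero_or_pos j with rfl | hj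
      · refine (hh_congr (k := k) (unitLeft W) 1).trans ?_
        rw [SurfAmpleLib.hh_dual hX hW hWi (swapIso W D ≪≫ eDW) 1 (by omega), hh_congr (k := k) eDW]
        exact hO1
      · let T := (CurvLib.idealSeq Z).map (CurvLib.tensorLeft' (CohB1.tensorPow W j))
        have hTs : T.ShortExact := HilbPolyLib.shortExact_tensor (hWm j) (CurvLib.idealSeq_shortExact Z)
        have h3 : Subsingleton (Coh.HH X T.X₃ 0) := by
          haveI := CurvLib.finite_HH (k := k) (M := T.X₃) (HilbPolyLib.isCoh_tensor (hWm j) (CurvLib.isCoh_quotMod Z)) 0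
          exact Module.finrank_zero_iff (R := k).1 (hres j hj)
        let e₁ : T.X₁ ≅ CohB1.tensorPow W (j + 1) := congrRight _ eW
        let e₂ : T.X₂ ≅ CohB1.tensorPow W j := swapIso _ _ ≪≫ unitLeft _
        have hs2 : Subsingleton (Coh.HH X T.X₂ 1) := by
          haveI := CurvLib.finite_HH (k := k) (M := CohB1.tensorPow W j) (CurvLib.isCoh_of_isInvertible (hWm j)) 1
          haveI := Module.finrank_zero_iff (R := k).1 ih
          exact (CurvLib.hIso (k := k) e₂ 1).toEquiv.subsingleton
        have hs1 : Subsingleton (Coh.HH X T.X₁ 1) := by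
          refine subsingleton_of_forall_eq 0 fun y => ?_
          have hy : y ∈ LinearMap.range (CurvLib.hDel (k := k) hTs 0) := by
            rw [CurvLib.exact₁ (k := k) hTs 0, LinearMap.mem_ker]
            exact Subsingleton.elim _ _
          obtain ⟨z, rfl⟩ := hy
          rw [@Subsingleton.elim _ h3 z 0, map_zero]
        haveI := hs1
        rw [← hh_congr (k := k) e₁ 1]
        exact Module.finrank_zero_of_subsingleton
  have hDm : ∀ j, PicF.IsInvertible (CohB1.tensorPow D j) := fun j => AmpleThLib.tensorPow_isInvertible hDi j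
  have einv : ∀ j, Nonempty (CohB1.tensorMod (CohB1.tensorPow D j) (CohB1.tensorPow W j) ≅ Coh.structureModule X) := by
    intro j
    induction j with
    | zero => exact ⟨unitLeft _⟩
    | succ j ih =>
      obtain ⟨e⟩ := ih
      exact ⟨assocIso (CohB1.tensorPow D j) D (CohB1.tensorMod (CohB1.tensorPow W j) W) ≪≫
        congrRight _ ((assocIso D (CohB1.tensorPow W j) W).symm ≪≫ congrLeft (swapIso D _) W ≪≫
          assocIso (CohB1.tensorPow W j) D W ≪≫ congrRight _ eDW ≪≫ swapIso _ _ ≪≫ unitLeft _) ≪≫ e⟩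
  constructor
  · obtain ⟨e⟩ := einv m
    haveI := CurvLib.finite_HH (k := k) (CurvLib.isCoh_of_isInvertible (hDm m)) 1
    refine Module.finrank_zero_iff (R := k).1 ?_
    exact (SurfAmpleLib.hh_dual hX hW (hDm m) e 1 (by omega)).trans (hW1 (m + 1))
  · haveI := CurvLib.finite_HH (k := k) (CurvLib.isCoh_of_isInvertible (hWm m)) 1
    exact Module.finrank_zero_iff (R := k).1 (hW1 m)

end Groth.Agent.S18633
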