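import Groth.Statements.S18635
import Groth.Agent.GrInjDimLib.Basic

set_option autoImplicit false
universe u
open GrLC

open CategoryTheory CategoryTheory.Abelian GrModLib

namespace Groth.Agent.S18635

variable {R : Type u} [CommRing R] {𝒜 : ℤ → AddSubgroup R} [GradedRing 𝒜] {M : Type u}
  [AddCommGroup M] [Module R M] {ℳ : ℤ → AddSubgroup M} [DirectSum.Decomposition ℳ] [SetLike.GradedSMul 𝒜 ℳ]

omit [GradedRing 𝒜] in
/-- The elements killed by a homogeneous denominator. -/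
def small (𝒜 : ℤ → AddSubgroup R) (q : Ideal R) (M : Type u) [AddCommGroup M] [Module R M] : Submodule R M where
  carrier := {z | ∃ r ∈ homCompl 𝒜 q, r • z = 0}
  zero_mem' := ⟨1, one_mem _, smul_zero _⟩
  add_mem' := by
    rintro a b ⟨r, hr, hra⟩ ⟨r', hr', hrb⟩
    exact ⟨r * r', mul_mem hr hr', by rw [smul_add, mul_comm, mul_smul, hra, smul_zero, mul_comm, mul_smul, hrb,
      smul_zero, zero_add]⟩
  smul_mem' := by
    rintro c a ⟨r, hr, hra⟩
    exact ⟨r, hr, by rw [smul_comm, hra, smul_zero]⟩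

theorem homCompl_le_core [IsNoetherianRing R] (p : Ideal R) [p.IsPrime] :
    homCompl 𝒜 (Ideal.homogeneousCore 𝒜 p).toIdeal ≤ p.primeCompl :=
  homCompl_le (notMem_of_notMem_core (p := p))

/-- If `f ∈ p` times an element killed by `p*` is a large element, then `f` is homogeneous modulo `p*`. -/
theorem absurd_of_smul_eq [IsNoetherianRing R] (p : Ideal R) [p.IsPrime] (hp : ¬ Ideal.IsHomogeneous 𝒜 p)
    (f : R) (hfp : f ∈ p) (hfq : f ∉ (Ideal.homogeneousCore 𝒜 p).toIdeal) {g₀ : ℤ} (m : M) (hm : m ∈ ℳ g₀)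
    (hms : m ∉ small 𝒜 (Ideal.homogeneousCore 𝒜 p).toIdeal M) (y : M)
    (hy : ∀ r ∈ (Ideal.homogeneousCore 𝒜 p).toIdeal, r • y = 0) (hfy : f • y = m) : False := by
  classical
  let q := (Ideal.homogeneousCore 𝒜 p).toIdeal
  have hqh : q.IsHomogeneous 𝒜 := (Ideal.homogeneousCore 𝒜 p).isHomogeneous
  haveI hq : q.IsPrime := Ideal.IsPrime.homogeneousCore ‹p.IsPrime›
  let T := small 𝒜 q M
  obtain ⟨sf, hsf0, hsf⟩ := exists_finset 𝒜 f
  obtain ⟨sy, hsy0, hsy⟩ := exists_finset ℳ y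
  let Sf := sf.filter fun i => pr 𝒜 i f ∉ q
  let Sy := sy.filter fun i => pr ℳ i y ∉ T
  have hkill : ∀ i, ∀ r ∈ q, r • pr ℳ i y = 0 := fun i r hr => by
    have h := tors_isHomogeneous (𝒜 := 𝒜) ℳ hqh i ((mem_tors q).2 hy : y ∈ tors q M)
    exact (mem_tors q).1 h r hr
  have hcomp : ∀ (k i : ℤ), pr 𝒜 i f • pr ℳ k y ∈ T ↔ (i ∉ Sf ∨ k ∉ Sy) := by
    intro k i
    constructor
    · rintro ⟨r, hr, h0⟩
      by_contra hne
      push_neg at hne
      obtain ⟨-, hi⟩ := Finset.mem_filter.1 hne.1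
      obtain ⟨-, hk⟩ := Finset.mem_filter.1 hne.2
      rw [← mul_smul] at h0
      exact hk ⟨r * pr 𝒜 i f, mul_mem hr (Submonoid.subset_closure ⟨⟨i, pr_mem 𝒜 i f⟩, hi⟩), h0⟩
    · rintro (h | h)
      · by_cases hi : i ∈ sf
        · have hiq : pr 𝒜 i f ∈ q := not_not.1 fun hn => h (Finset.mem_filter.2 ⟨hi, hn⟩)
          rw [hkill k _ hiq]
          exact zero_mem _
        · rw [hsf0 i hi, zero_smul]
          exact zero_mem _
      · by_cases hk : k ∈ sy
        · exact T.smul_mem _ (not_not.1 fun hn => h (Finset.mem_filter.2 ⟨hk, hn⟩))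
        · rw [hsy0 k hk, smul_zero]
          exact zero_mem _
  have hne_f : Sf.Nonempty := by
    rw [Finset.nonempty_iff_ne_empty]
    intro h
    refine hfq (hsf ▸ Submodule.sum_mem _ fun i hi => ?_)
    exact not_not.1 fun hn => Finset.notMem_empty i (h ▸ Finset.mem_filter.2 ⟨hi, hn⟩)
  have hne_y : Sy.Nonempty := by
    rw [Finset.nonempty_iff_ne_empty]
    intro h
    refine hms (hfy ▸ T.smul_mem f ?_)
    rw [← hsy]
    exact Submodule.sum_mem _ fun i hi => not_not.1 fun hn => Finset.notMem_empty i (h ▸ Finset.mem_filter.2 ⟨hi, hn⟩)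
  have hpr : ∀ (i₀ : ℤ), i₀ ∈ Sf → ∀ k₀, k₀ ∈ Sy → (∀ i ∈ Sf, ∀ k ∈ Sy, i + k = i₀ + k₀ → i = i₀) →
      i₀ + k₀ = g₀ := by
    intro i₀ hi₀ k₀ hk₀ huniq
    by_contra hne
    have h0 : pr ℳ (i₀ + k₀) (f • y) = 0 := by rw [hfy]; exact pr_ne ℳ hm (Ne.symm hne)
    have hsum : pr ℳ (i₀ + k₀) (f • y) = ∑ i ∈ sf, pr 𝒜 i f • pr ℳ (i₀ + k₀ - i) y := by
      conv_lhs => rw [← hsf]
      rw [Finset.sum_smul, map_sum]
      exact Finset.sum_congr rfl fun i _ => pr_smul 𝒜 ℳ (pr_mem 𝒜 i f) _ y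
    rw [h0, ← Finset.add_sum_erase sf _ (Finset.mem_filter.1 hi₀).1, add_sub_cancel_left] at hsum
    have hrest : ∑ i ∈ sf.erase i₀, pr 𝒜 i f • pr ℳ (i₀ + k₀ - i) y ∈ T := Submodule.sum_mem _ fun i hi => by
      refine (hcomp _ i).2 (by_contra fun hne' => ?_)
      push_neg at hne'
      exact (Finset.ne_of_mem_erase hi) (huniq i hne'.1 _ hne'.2 (by ring))
    have h1 : pr 𝒜 i₀ f • pr ℳ k₀ y ∈ T := by
      rw [eq_neg_of_add_eq_zero_left hsum.symm]
      exact neg_mem hrest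
    rcases (hcomp k₀ i₀).1 h1 with h | h
    exacts [h hi₀, h hk₀]
  have hmax := hpr _ (Sf.max'_mem hne_f) _ (Sy.max'_mem hne_y) fun i hi k hk h => by
    have := Sf.le_max' i hi; have := Sy.le_max' k hk; omega
  have hmin := hpr _ (Sf.min'_mem hne_f) _ (Sy.min'_mem hne_y) fun i hi k hk h => by
    have := Sf.min'_le i hi; have := Sy.min'_le k hk; omega
  have hle1 := Sy.min'_le _ (Sy.max'_mem hne_y)
  have hle2 := Sf.min'_le _ (Sf.max'_mem hne_f)
  let i₀ := Sf.max' hne_f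
  have hsingle : ∀ i ∈ Sf, i = i₀ := fun i hi => by
    have := Sf.le_max' i hi; have := Sf.min'_le i hi; omega
  have hlead : f - pr 𝒜 i₀ f ∈ q := by
    have hmem : i₀ ∈ sf := (Finset.mem_filter.1 (Sf.max'_mem hne_f)).1
    nth_rw 1 [← hsf]
    rw [← Finset.add_sum_erase sf _ hmem, add_sub_cancel_left]
    refine Submodule.sum_mem _ fun i hi => not_not.1 fun hn => ?_
    exact Finset.ne_of_mem_erase hi (hsingle i (Finset.mem_filter.2 ⟨Finset.mem_of_mem_erase hi, hn⟩))
  refine (Finset.mem_filter.1 (Sf.max'_mem hne_f)).2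
    (Ideal.mem_homogeneousCore_of_homogeneous_of_mem ⟨i₀, pr_mem 𝒜 i₀ f⟩ ?_)
  have := sub_mem hfp (Ideal.toIdeal_homogeneousCore_le 𝒜 p hlead)
  rwa [sub_sub_cancel] at this

/-- If the core of no non-graded prime is associated, the module is injective. -/
theorem injective_of [IsNoetherianRing R] (hM : GrLC.IsStarInj 𝒜 ℳ)
    (h : ∀ p : Ideal R, p.IsPrime → ¬ Ideal.IsHomogeneous 𝒜 p →
      (Ideal.homogeneousCore 𝒜 p).toIdeal ∉ associatedPrimes R M) : Module.Injective R M := by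
  classical
  refine (Module.injective_iff_injective_object R M).2
    (ProjLib.injective_of_ext_one_cyclic (ModuleCat.of R M) (GrInjDimLib.subsingleton_all fun p hp x => ?_))
  have hgr : ∀ (I : Ideal R), I.IsHomogeneous 𝒜 →
      Subsingleton (Ext.{u} (ModuleCat.of R (R ⧸ I)) (ModuleCat.of R M) 1) := fun I hI => by
    let Q := quotG 𝒜 (ℳ := 𝒜) I hI
    haveI : Module.Finite R Q.carrier := inferInstanceAs (Module.Finite R (R ⧸ I))
    exact GrModLib.subsingleton_ext hM 0 Q.carrier Q.gr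
  by_cases hph : p.IsHomogeneous 𝒜
  · exact ⟨1, fun h => hp.ne_top ((Ideal.eq_top_iff_one _).2 h), @Subsingleton.elim _ (hgr p hph) _ _⟩
  let q := (Ideal.homogeneousCore 𝒜 p).toIdeal
  haveI := hp
  haveI hq : q.IsPrime := Ideal.IsPrime.homogeneousCore hp
  have hqh : q.IsHomogeneous 𝒜 := (Ideal.homogeneousCore 𝒜 p).isHomogeneous
  have hqp : q ≤ p := Ideal.toIdeal_homogeneousCore_le 𝒜 p
  have hsmall : ∀ m : M, (∀ r ∈ q, r • m = 0) → m ∈ small 𝒜 q M := by
    intro m hm
    obtain ⟨s, -, hs⟩ := exists_finset ℳ m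
    rw [← hs]
    refine Submodule.sum_mem _ fun g _ => by_contra fun hns => h p hp hph ?_
    refine isAssociatedPrime_iff.2 ⟨hq, pr ℳ g m, ?_⟩
    ext r
    rw [Submodule.mem_colon_singleton, Submodule.mem_bot]
    refine ⟨fun hr => ?_, fun hr => ?_⟩
    · have h' := tors_isHomogeneous (𝒜 := 𝒜) ℳ hqh g ((mem_tors q).2 hm : m ∈ tors q M)
      exact (mem_tors q).1 h' r hr
    · by_contra hrq
      obtain ⟨sr, -, hsr⟩ := exists_finset 𝒜 r
      obtain ⟨i, -, hi⟩ : ∃ i ∈ sr, pr 𝒜 i r ∉ q := by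
        by_contra hall
        push_neg at hall
        exact hrq (hsr ▸ Submodule.sum_mem _ hall)
      refine hns ⟨pr 𝒜 i r, Submonoid.subset_closure ⟨⟨i, pr_mem 𝒜 i r⟩, hi⟩, ?_⟩
      exact Submodule.mem_annihilator_span_singleton _ _ |>.1
        ((colon_isHomogeneous (𝒜 := 𝒜) ℳ (pr_mem ℳ g m)) i
          ((Submodule.mem_annihilator_span_singleton _ _).2 hr))
  let g : (R ⧸ q) →ₗ[R] R ⧸ p := Submodule.factor hqp
  have hS : (ShortComplex.moduleCatMk (LinearMap.ker g).subtype g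
      (LinearMap.exact_subtype_ker_map g).linearMap_comp_eq_zero).ShortExact :=
    { exact := (ShortComplex.ShortExact.moduleCat_exact_iff_function_exact _).2 (LinearMap.exact_subtype_ker_map g)
      mono_f := (ModuleCat.mono_iff_injective _).2 (Submodule.injective_subtype _)
      epi_g := (ModuleCat.epi_iff_surjective _).2 (Submodule.factor_surjective hqp) }
  obtain ⟨y, rfl⟩ := Ext.contravariant_sequence_exact₃ hS (ModuleCat.of R M) x (n₀ := 0)
    (@Subsingleton.elim _ (hgr q hqh) _ _) rfl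
  obtain ⟨ψ, rfl⟩ := (Ext.mk₀_bijective _ _).2 y
  let ψ' : LinearMap.ker g →ₗ[R] M := ψ.hom
  obtain ⟨G, hG⟩ := (Module.Finite.fg_top : (⊤ : Submodule R (LinearMap.range ψ')).FG)
  have hr : ∀ v : G, ∃ r, r ∈ homCompl 𝒜 q ∧ r • ((v : LinearMap.range ψ') : M) = 0 := by
    rintro ⟨⟨_, k, rfl⟩, -⟩
    refine hsmall _ fun r hr => ?_
    rw [← map_smul, show r • k = 0 from Subtype.ext ?_, map_zero]
    show r • (k : R ⧸ q) = 0
    obtain ⟨c, hc⟩ := Submodule.mkQ_surjective q (k : R ⧸ q)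
    rw [← hc, Submodule.mkQ_apply, ← Submodule.Quotient.mk_smul, Submodule.Quotient.mk_eq_zero, smul_eq_mul]
    exact q.mul_mem_right c hr
  choose r hrS hr0 using hr
  refine ⟨∏ v : G, r v, homCompl_le_core p (prod_mem fun v _ => hrS v), ?_⟩
  have hψ : (∏ v : G, r v) • ψ' = 0 := by
    refine LinearMap.ext fun k => ?_
    have hk : (⟨ψ' k, k, rfl⟩ : LinearMap.range ψ') ∈ Submodule.span R (G : Set (LinearMap.range ψ')) :=
      hG ▸ Submodule.mem_top
    have hle : Submodule.span R (G : Set (LinearMap.range ψ')) ≤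
        LinearMap.ker ((∏ v : G, r v) • (LinearMap.range ψ').subtype) := Submodule.span_le.2 fun v hv => by
      show (∏ v : G, r v) • (v : M) = 0
      rw [← Finset.prod_erase_mul Finset.univ r (Finset.mem_univ ⟨v, hv⟩), mul_smul, hr0 ⟨v, hv⟩, smul_zero]
    exact hle hk
  refine (Ext.comp_smul hS.extClass (Ext.mk₀ ψ) _ _).symm.trans ?_
  rw [← Ext.mk₀_smul, show (∏ v : G, r v) • ψ = 0 from ModuleCat.hom_ext hψ, Ext.mk₀_zero]
  exact Ext.comp_zero ..

/-- Let R be a commutative Noetherian ℤ-graded ring and M a *injective graded R-module (an injective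
object of the category of graded R-modules). Then M fails to be injective as an ordinary R-module —
equivalently, since a *injective graded module has ordinary injective dimension at most 1, its
ordinary injective dimension is exactly 1 — if and only if there is a prime ideal p of R which is
not graded and whose graded core p* (the largest graded ideal contained in p, itself a prime) is an
associated prime of M. -/
theorem result (R : Type u) [CommRing R] [IsNoetherianRing R] (𝒜 : ℤ → AddSubgroup R) [GradedRing 𝒜] (M : Type u) [AddCommGroup M] [Module R M] (ℳ : ℤ → AddSubgroup M) [DirectSum.Decomposition ℳ] [SetLike.GradedSMul 𝒜 ℳ] (hM : GrLC.IsStarInj 𝒜 ℳ) : ¬ Module.Injective R M ↔ ∃ p : Ideal R, p.IsPrime ∧ ¬ Ideal.IsHomogeneous 𝒜 p ∧ (Ideal.homogeneousCore 𝒜 p).toIdeal ∈ associatedPrimes R M := by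
  constructor
  · intro hni
    by_contra hne
    push_neg at hne
    exact hni (injective_of hM fun p hp hph => hne p hp hph)
  · rintro ⟨p, hp, hph, hass⟩ hinj
    haveI := hp
    let q := (Ideal.homogeneousCore 𝒜 p).toIdeal
    haveI hq : q.IsPrime := Ideal.IsPrime.homogeneousCore hp
    obtain ⟨-, m, hm⟩ := isAssociatedPrime_iff.1 hass
    have hann : ∀ r, r ∈ q ↔ r • m = 0 := fun r => by
      rw [show q = Submodule.colon ⊥ {m} from hm, Submodule.mem_colon_singleton, Submodule.mem_bot]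
    have hnsmall : m ∉ small 𝒜 q M := by
      rintro ⟨r, hr, h0⟩
      exact homCompl_le_core p hr (Ideal.toIdeal_homogeneousCore_le 𝒜 p ((hann r).2 h0))
    obtain ⟨s, -, hs⟩ := exists_finset ℳ m
    obtain ⟨g, hg⟩ : ∃ g, pr ℳ g m ∉ small 𝒜 q M := by
      by_contra hall
      push_neg at hall
      exact hnsmall (hs ▸ Submodule.sum_mem _ fun g _ => hall g)
    obtain ⟨f, hfp, hfq⟩ : ∃ f ∈ p, f ∉ q := by
      by_contra hall
      push_neg at hall
      exact hph (le_antisymm hall (Ideal.toIdeal_homogeneousCore_le 𝒜 p) ▸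
        (Ideal.homogeneousCore 𝒜 p).isHomogeneous)
    have hm' : ∀ r ∈ q, r • pr ℳ g m = 0 := fun r hr =>
      (mem_tors q).1 (tors_isHomogeneous (𝒜 := 𝒜) ℳ (Ideal.homogeneousCore 𝒜 p).isHomogeneous g
        ((mem_tors q).2 fun r hr => (hann r).1 hr : m ∈ tors q M)) r hr
    let μ : (R ⧸ q) →ₗ[R] R ⧸ q := LinearMap.lsmul R (R ⧸ q) f
    have hμ : Function.Injective μ := (injective_iff_map_eq_zero _).2 fun z hz => by
      obtain ⟨c, rfl⟩ := Submodule.mkQ_surjective q z
      rw [LinearMap.lsmul_apply, Submodule.mkQ_apply, ← Submodule.Quotient.mk_smul, Submodule.Quotient.mk_eq_zero,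
        smul_eq_mul] at hz
      exact (Submodule.Quotient.mk_eq_zero q).2 ((hq.mem_or_mem hz).resolve_left hfq)
    obtain ⟨φ, hφ⟩ := hinj.out μ hμ (Submodule.liftQ q (LinearMap.toSpanSingleton R M (pr ℳ g m)) hm')
    have h1 : φ (f • Submodule.Quotient.mk (1 : R)) = pr ℳ g m :=
      (hφ (Submodule.Quotient.mk 1)).trans (one_smul R _)
    rw [map_smul] at h1
    exact absurd_of_smul_eq p hph f hfp hfq _ (pr_mem ℳ g m) hg _ (fun r hr => by
      rw [← map_smul, ← Submodule.Quotient.mk_smul, smul_eq_mul, mul_one,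
        (Submodule.Quotient.mk_eq_zero q).2 hr, map_zero]) h1

end Groth.Agent.S18635
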