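import Groth.Statements.S18636
import Mathlib
import Groth.Agent.GrModLib.BassMain

set_option autoImplicit false
universe u
open GrLC

namespace Groth.Agent.S18636

/-- Let R be a commutative Noetherian ℤ-graded ring, M a graded R-module (not necessarily finitely
generated) and p a prime ideal of R which is not graded; write p* for the largest graded ideal
contained in p (a graded prime). Then μ_0(p, M) = 0 and μ_{i+1}(p, M) = μ_i(p*, M) for every i ≥ 0.
(Bass numbers μ_i(q, M) are taken as the k(q)-dimension of Ext^i over R_q of k(q) into M_q, as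
extended natural numbers; the published text also recalls their description as multiplicities in a
minimal injective resolution, and the two agree over a Noetherian ring.) -/
theorem result (R : Type u) [CommRing R] [IsNoetherianRing R] (𝒜 : ℤ → AddSubgroup R) [GradedRing 𝒜] (M : Type u) [AddCommGroup M] [Module R M] (ℳ : ℤ → AddSubgroup M) [DirectSum.Decomposition ℳ] [SetLike.GradedSMul 𝒜 ℳ] (p : Ideal R) [p.IsPrime] (hp : ¬ Ideal.IsHomogeneous 𝒜 p) [(Ideal.homogeneousCore 𝒜 p).toIdeal.IsPrime] : GrLC.bassNum p M 0 = 0 ∧ ∀ i : ℕ, GrLC.bassNum p M (i + 1) = GrLC.bassNum (Ideal.homogeneousCore 𝒜 p).toIdeal M i := by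
  set q := (Ideal.homogeneousCore 𝒜 p).toIdeal with hq
  have hqh : q.IsHomogeneous 𝒜 := (Ideal.homogeneousCore 𝒜 p).isHomogeneous
  have hqp : q ≤ p := Ideal.toIdeal_homogeneousCore_le 𝒜 p
  obtain ⟨-, -, hle⟩ := GrModLib.regular_quot p q hqh hqp (GrModLib.notMem_of_notMem_core (p := p))
  have hP : (p.map (Ideal.Quotient.mk q)).IsPrime :=
    Ideal.map_isPrime_of_surjective Ideal.Quotient.mk_surjective (by rwa [Ideal.mk_ker])
  have hne : p.map (Ideal.Quotient.mk q) ≠ ⊥ := by
    intro h
    rw [Ideal.map_eq_bot_iff_le_ker, Ideal.mk_ker] at h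
    exact hp (le_antisymm hqp h ▸ hqh)
  have hd : (p.map (Ideal.Quotient.mk q)).height = (1 : ℕ) := by
    refine le_antisymm (hle.trans (by simp)) ?_
    rw [Nat.cast_one, ENat.one_le_iff_ne_zero, ne_eq, Ideal.height_eq_zero_iff, IsDomain.minimalPrimes_eq_singleton_bot,
      Set.mem_singleton_iff]
    exact hne
  obtain ⟨h0, h1⟩ := GrModLib.bassNum_eq ℳ p q hqh hqp GrModLib.notMem_of_notMem_core 1 hd
  exact ⟨h0 0 one_pos, h1⟩

end Groth.Agent.S18636
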