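import Groth.Statements.S18637
import Mathlib
import Groth.Agent.GrModLib.Prime
import Groth.Agent.GrModLib.Ext
import Groth.Agent.InjHullLib.Matlis

set_option autoImplicit false
universe u
open GrLC

namespace Groth.Agent.S18637

/-- Let R be a commutative Noetherian ℤ-graded ring and m a maximal ideal of R which is graded. If e :
R/m → E is a *injective envelope of R/m in the category of graded R-modules (E graded and
*injective, e degree-preserving and injective, every nonzero graded submodule of E meeting the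
image), then e is an injective hull of R/m as an ordinary R-module: E is an injective R-module and e
is an essential injection. -/
theorem result (R : Type u) [CommRing R] [IsNoetherianRing R] (𝒜 : ℤ → AddSubgroup R) [GradedRing 𝒜] (m : HomogeneousIdeal 𝒜) [m.toIdeal.IsMaximal] (E' : Type u) [AddCommGroup E'] [Module R E'] (𝓔 : ℤ → AddSubgroup E') [DirectSum.Decomposition 𝓔] [SetLike.GradedSMul 𝒜 𝓔] (e : (R ⧸ m.toIdeal) →ₗ[R] E') (he : GrLC.IsStarInjHull 𝒜 (GrLC.quotGr 𝒜 m) 𝓔 e) : InjHull.IsInjectiveHull e := by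
  have hess := GrModLib.isEssentialInj_quot he.toIsStarEss
  obtain ⟨I, _, _, f, hf⟩ := InjHullLib.exists_injectiveHull (R := R) E'
  have hfe : InjHull.IsEssentialInj (f ∘ₗ e) := InjHullLib.isEssentialInj_comp hess hf.toIsEssentialInj
  have htor : LocCoh.IsPowerTorsion m.toIdeal I := InjHullLib.isPowerTorsion_hull hfe
  let C := I ⧸ LinearMap.range f
  have hsurj : Function.Surjective f := by
    rw [← LinearMap.range_eq_top]
    by_contra hne
    obtain ⟨y, hy⟩ : ∃ y : I, (LinearMap.range f).mkQ y ≠ 0 := by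
      by_contra h
      push Not at h
      exact hne (eq_top_iff.2 fun y _ => (Submodule.Quotient.mk_eq_zero _).1 (h y))
    classical
    have hex : ∃ n, ∀ a ∈ m.toIdeal ^ n, a • (LinearMap.range f).mkQ y = 0 := by
      obtain ⟨n, hn⟩ := htor y
      exact ⟨n, fun a ha => by rw [← map_smul, hn a ha, map_zero]⟩
    have hn := Nat.find_spec hex
    obtain ⟨k, hk⟩ : ∃ k, Nat.find hex = k + 1 := Nat.exists_eq_succ_of_ne_zero fun h0 => by
      rw [h0] at hn
      exact hy (by simpa using hn 1 (by simp))
    obtain ⟨a, ha, haz⟩ : ∃ a ∈ m.toIdeal ^ k, a • (LinearMap.range f).mkQ y ≠ 0 := by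
      by_contra h
      push Not at h
      exact Nat.find_min hex (by omega : k < Nat.find hex) h
    let ψ : (R ⧸ m.toIdeal) →ₗ[R] C := Submodule.liftQ m.toIdeal
      (LinearMap.toSpanSingleton R C (a • (LinearMap.range f).mkQ y)) fun r hr => by
      show r • a • (LinearMap.range f).mkQ y = 0
      rw [← mul_smul]
      exact hn _ (by rw [hk, pow_succ']; exact Ideal.mul_mem_mul hr ha)
    have hS : (CategoryTheory.ShortComplex.moduleCatMk f (LinearMap.range f).mkQ
        (LinearMap.exact_map_mkQ_range f).linearMap_comp_eq_zero).ShortExact :=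
      { exact := (CategoryTheory.ShortComplex.ShortExact.moduleCat_exact_iff_function_exact _).2 (LinearMap.exact_map_mkQ_range f)
        mono_f := (ModuleCat.mono_iff_injective _).2 hf.injective
        epi_g := (ModuleCat.epi_iff_surjective _).2 (Submodule.mkQ_surjective _) }
    let Q := GrModLib.quotG 𝒜 (ℳ := 𝒜) m.toIdeal m.isHomogeneous
    haveI : Module.Finite R Q.carrier := inferInstanceAs (Module.Finite R (R ⧸ m.toIdeal))
    have h1 : Subsingleton (CategoryTheory.Abelian.Ext.{u} (ModuleCat.of R (R ⧸ m.toIdeal)) (ModuleCat.of R E') 1) :=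
      GrModLib.subsingleton_ext he.starInj 0 Q.carrier Q.gr
    obtain ⟨φ, hφ⟩ := CategoryTheory.Abelian.Ext.covariant_sequence_exact₃ (ModuleCat.of R (R ⧸ m.toIdeal)) hS
      (CategoryTheory.Abelian.Ext.mk₀ (ModuleCat.ofHom ψ)) rfl (h1.elim _ _)
    obtain ⟨φ, rfl⟩ := (CategoryTheory.Abelian.Ext.mk₀_bijective _ _).2 φ
    rw [CategoryTheory.Abelian.Ext.mk₀_comp_mk₀] at hφ
    have h2 : (LinearMap.range f).mkQ (φ.hom (Submodule.Quotient.mk 1)) = ψ (Submodule.Quotient.mk 1) :=
      congrArg (fun g : ModuleCat.of R (R ⧸ m.toIdeal) ⟶ ModuleCat.of R C => g.hom (Submodule.Quotient.mk 1))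
        ((CategoryTheory.Abelian.Ext.mk₀_bijective _ _).1 hφ)
    obtain ⟨z, hz⟩ := InjHullLib.mem_range_of_smul_eq_zero hfe (x := φ.hom (Submodule.Quotient.mk 1)) fun s hs => by
      have h0 : s • (Submodule.Quotient.mk 1 : R ⧸ m.toIdeal) = 0 := by
        rw [← Submodule.Quotient.mk_smul, smul_eq_mul, mul_one, (Submodule.Quotient.mk_eq_zero _).2 hs]
      exact (map_smul φ.hom s _).symm.trans ((congrArg φ.hom h0).trans (map_zero φ.hom))
    refine haz ((one_smul R _).symm.trans ?_)
    refine h2.symm.trans ?_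
    rw [← hz]
    exact (Submodule.Quotient.mk_eq_zero _).2 ⟨e z, rfl⟩
  exact ⟨hess, InjHullLib.injective_of_equiv hf.isInjective (LinearEquiv.ofBijective f ⟨hf.injective, hsurj⟩).symm⟩

end Groth.Agent.S18637
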