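import Groth.Statements.S18638
import Mathlib
import Groth.Agent.GrModLib.Cyclic
import Groth.Agent.GrModLib.GorType
import Groth.Agent.S0345

set_option autoImplicit false
universe u
open GrLC

namespace Groth.Agent.S18638

/-- Let R be a graded ring defined over a field which is Cohen–Macaulay, and K_R its canonical module.
Then R is Gorenstein exactly when K_R is isomorphic to a degree shift R(a) of R for some integer a,
that is, there is a bijective R-linear map R → K_R homogeneous of some fixed degree. Here 'graded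
ring defined over a field' means R = ⊕_{n ≥ 0} R_n is Noetherian with R_0 a field (so R is finitely
generated over R_0), m = R_+ is its unique graded maximal ideal and n = dim R; the canonical module
K_R (the graded dual of H^n_m(R)) is represented by a finitely generated graded module C together
with a homogeneous isomorphism from Hom_R(C, E) onto H^n_m(R), where E is a *injective envelope of
R/m and H^n_m(R) is computed from a *injective resolution of R in the graded category; by graded
Matlis duality this says exactly that C ≅ K_R as graded modules. -/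
theorem result (R : Type u) [CommRing R] [LocCoh.IsCohenMacaulayRing R] (𝒜 : ℤ → AddSubgroup R) [GradedRing 𝒜] (hpos : ∀ n : ℤ, n < 0 → 𝒜 n = ⊥) (h0 : IsField (GrLC.deg0 𝒜)) (m : HomogeneousIdeal 𝒜) (hm : GrLC.IsStarLocal 𝒜 m) (hmsp : m.toIdeal = Ideal.span (⋃ n ∈ Set.Ioi (0 : ℤ), (𝒜 n : Set R))) (n : ℕ) (hn : ringKrullDim R = n) (I : GrLC.StarInjRes 𝒜 𝒜) (E' : Type u) [AddCommGroup E'] [Module R E'] (𝓔 : ℤ → AddSubgroup E') [DirectSum.Decomposition 𝓔] [SetLike.GradedSMul 𝒜 𝓔] (e : (R ⧸ m.toIdeal) →ₗ[R] E') (he : GrLC.IsStarInjHull 𝒜 (GrLC.quotGr 𝒜 m) 𝓔 e) (C : Type u) [AddCommGroup C] [Module R C] (𝒞 : ℤ → AddSubgroup C) [DirectSum.Decomposition 𝒞] [SetLike.GradedSMul 𝒜 𝒞] (hC : GrLC.IsStarCanonical 𝒜 𝒞 𝓔 m n I) : LocCoh.IsGorensteinRing R ↔ ∃ (a : ℤ) (f : R →ₗ[R] C), Function.Bijective f ∧ GrLC.IsGrHomDeg 𝒜 𝒞 f a := by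
  obtain rfl : m = GrModLib.posIdeal 𝒜 := HomogeneousIdeal.ext hmsp
  let q := (GrModLib.posIdeal 𝒜).toIdeal
  haveI hmax : q.IsMaximal := GrModLib.isMaximal_of_starLocal hpos hm
  haveI : Module.Finite R C := hC.1
  let CG := GrLC.GMod.of 𝒜 C 𝒞
  haveI : Module.Finite R CG.carrier := hC.1
  let RG := GrLC.GMod.of 𝒜 R 𝒜
  haveI : Module.Finite R RG.carrier := inferInstanceAs (Module.Finite R R)
  obtain ⟨h1, -, h3⟩ := GrModLib.canon_data hpos h0 he hn I CG hC
  let A := Localization.AtPrime q
  let ψ : LocalizedModule q.primeCompl R ≃ₗ[A] A :=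
    LinearEquiv.extendScalarsOfIsLocalization q.primeCompl A
      (IsLocalizedModule.linearEquiv q.primeCompl (LocalizedModule.mkLinearMap q.primeCompl R)
        (Algebra.linearMap R A))
  have hdimA : ringKrullDim A = (n : WithBot ℕ∞) := by
    rw [IsLocalization.AtPrime.ringKrullDim_eq_height q A, ← GrModLib.ringKrullDim_eq_height hpos hm, hn]
  constructor
  · intro hG
    haveI : LocCoh.IsGorensteinLocalRing A := hG.isGorensteinLocalRing_localization q
    have hone : GrLC.bassNum q R n = 1 :=
      (GrModLib.length_ext_congr_right ψ n).trans (GrModLib.length_ext_self_of_gorenstein hdimA)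
    obtain ⟨a, c, hc, hsurj⟩ := GrModLib.exists_homogeneous_generator hpos CG (by
      have h4 := h3.symm.trans hone
      exact_mod_cast h4)
    refine ⟨a, LinearMap.toSpanSingleton R C c, ⟨?_, hsurj⟩, ?_⟩
    · obtain ⟨-, φ, -⟩ := hC
      exact GrModLib.injective_of_surjective_canon hpos h0 he n RG CG inferInstance inferInstance I
        (fun j hj k => GrModLib.van_below_dim hpos hm hn j hj k) ((Module.supportDim_le_ringKrullDim R R).trans hn.le)
        φ a (LinearMap.toSpanSingleton R CG.carrier c)
        (fun g r hr => by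
          show r • c ∈ 𝒞 (g + a)
          exact GrModLib.smul_mem 𝒜 𝒞 hr hc)
        hsurj
    · intro g r hr
      show r • c ∈ 𝒞 (g + a)
      exact GrModLib.smul_mem 𝒜 𝒞 hr hc
  · rintro ⟨a, f, hf, -⟩
    have hR : ∀ i, i ≠ n → GrLC.bassNum q R i = 0 := fun i hi =>
      ((GrModLib.bassNum_congr q (LinearEquiv.ofBijective f hf) i).trans (h1 i)).trans (if_neg hi)
    have hloc : GorLib.IDLT A (LocalizedModule q.primeCompl R) (n + 1) :=
      GorLib.hasInjectiveDimensionLT_of_residueField fun i hi =>
        Module.length_eq_zero_iff.1 (hR i (by omega))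
    exact ((Groth.Agent.S0345.result R).1 ⟨n + n + 1, GrModLib.idlt_of_local hpos h0 RG hn.le hloc⟩).1

end Groth.Agent.S18638
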