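import Groth.Statements.S18639
import Mathlib
import Groth.Agent.GrModLib.CanonCM

set_option autoImplicit false
universe u
open GrLC

namespace Groth.Agent.S18639

/-- Let R be a graded ring defined over a field which is Cohen–Macaulay, with graded maximal ideal m and
canonical module K_R. Then (i) K_R is a Cohen–Macaulay R-module — stated here at m: the localisation
of K_R at m is a Cohen–Macaulay module over R_m, which is what the published proof computes (the Ext
groups of the residue field into K_R vanish outside degree n = dim R) — and (ii) K_R has finite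
injective dimension as an R-module. Here 'graded ring defined over a field' means R = ⊕_{n ≥ 0} R_n
is Noetherian with R_0 a field (so R is finitely generated over R_0), m = R_+ is its unique graded
maximal ideal and n = dim R; the canonical module K_R (the graded dual of H^n_m(R)) is represented
by a finitely generated graded module C together with a homogeneous isomorphism from Hom_R(C, E)
onto H^n_m(R), where E is a *injective envelope of R/m and H^n_m(R) is computed from a *injective
resolution of R in the graded category; by graded Matlis duality this says exactly that C ≅ K_R as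
graded modules. -/
theorem result (R : Type u) [CommRing R] [LocCoh.IsCohenMacaulayRing R] (𝒜 : ℤ → AddSubgroup R) [GradedRing 𝒜] (hpos : ∀ n : ℤ, n < 0 → 𝒜 n = ⊥) (h0 : IsField (GrLC.deg0 𝒜)) (m : HomogeneousIdeal 𝒜) (hm : GrLC.IsStarLocal 𝒜 m) (hmsp : m.toIdeal = Ideal.span (⋃ n ∈ Set.Ioi (0 : ℤ), (𝒜 n : Set R))) [m.toIdeal.IsMaximal] (n : ℕ) (hn : ringKrullDim R = n) (I : GrLC.StarInjRes 𝒜 𝒜) (E' : Type u) [AddCommGroup E'] [Module R E'] (𝓔 : ℤ → AddSubgroup E') [DirectSum.Decomposition 𝓔] [SetLike.GradedSMul 𝒜 𝓔] (e : (R ⧸ m.toIdeal) →ₗ[R] E') (he : GrLC.IsStarInjHull 𝒜 (GrLC.quotGr 𝒜 m) 𝓔 e) (C : Type u) [AddCommGroup C] [Module R C] (𝒞 : ℤ → AddSubgroup C) [DirectSum.Decomposition 𝒞] [SetLike.GradedSMul 𝒜 𝒞] (hC : GrLC.IsStarCanonical 𝒜 𝒞 𝓔 m n I) : LocCoh.IsCohenMacaulayModule (Localization.AtPrime m.toIdeal) (LocalizedModule m.toIdeal.primeCompl C) ∧ ∃ N : ℕ, CategoryTheory.HasInjectiveDimensionLT (ModuleCat.of R C) N := by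
  obtain rfl : m = GrModLib.posIdeal 𝒜 := HomogeneousIdeal.ext hmsp
  obtain ⟨h1, -, -⟩ := GrModLib.canon_data hpos h0 he hn I (GrLC.GMod.of 𝒜 C 𝒞) hC
  haveI : Module.Finite R C := hC.1
  haveI : Module.Finite R (GrLC.GMod.of 𝒜 C 𝒞).carrier := hC.1
  let q := (GrModLib.posIdeal 𝒜).toIdeal
  let A := Localization.AtPrime q
  haveI : Nontrivial (LocalizedModule q.primeCompl C) := by
    by_contra hnt
    rw [not_nontrivial_iff_subsingleton] at hnt
    have hz : GrLC.bassNum q C n = 0 := by
      show Module.length A _ = 0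
      rw [Module.length_eq_zero_iff]
      refine subsingleton_of_forall_eq 0 fun α => ?_
      rw [← CategoryTheory.Abelian.Ext.comp_mk₀_id α,
        show CategoryTheory.CategoryStruct.id (ModuleCat.of A (LocalizedModule q.primeCompl C)) = 0 from
          ModuleCat.hom_ext (LinearMap.ext fun x => Subsingleton.elim _ _),
        CategoryTheory.Abelian.Ext.mk₀_zero, CategoryTheory.Abelian.Ext.comp_zero]
    have h2 : GrLC.bassNum q C n = 1 := (h1 n).trans (if_pos rfl)
    rw [hz] at h2
    exact zero_ne_one h2
  refine ⟨GrModLib.isCM_of_length_ext (n := n) _ ?_ fun i hi => (h1 i).trans (if_neg hi.ne), ⟨n + n + 1, ?_⟩⟩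
  · rw [IsLocalization.AtPrime.ringKrullDim_eq_height q A]
    exact (Ideal.height_le_ringKrullDim_of_ne_top (Ideal.IsPrime.ne_top inferInstance)).trans hn.le
  · refine GrModLib.idlt_of_local hpos h0 (GrLC.GMod.of 𝒜 C 𝒞) hn.le
      (GorLib.hasInjectiveDimensionLT_of_residueField fun i hi => ?_)
    exact Module.length_eq_zero_iff.1 ((h1 i).trans (if_neg (by omega)))

end Groth.Agent.S18639
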