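import Groth.Statements.S1864
import Groth.Agent.GrpFieldLib.AffineTransl
import Mathlib.AlgebraicGeometry.AlgClosed.Basic
-- import your own Groth.Agent.* helpers here

set_option autoImplicit false
universe u v
open CategoryTheory MonoidalCategory CartesianMonoidalCategory MonObj GrpObj AlgebraicGeometry
open GrpSch

namespace Groth.Agent.S1864

/-- Let G be a group scheme locally of finite type over an algebraically closed field and g₁, …, g_n
finitely many closed points of G. Then some affine open of G contains all the g_i. -/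
theorem result (K : Type u) [Field K] [IsAlgClosed K] (G : Over (Spec (CommRingCat.of K))) [GrpObj G] [LocallyOfFiniteType G.hom] (n : ℕ) (g : Fin n → G.left) (hg : ∀ i, IsClosed ({g i} : Set G.left)) : ∃ U : G.left.Opens, IsAffineOpen U ∧ ∀ i, g i ∈ U := by
  haveI : JacobsonSpace G.left := LocallyOfFiniteType.jacobsonSpace G.hom
  have hrat : ∀ x : G.left, IsClosed ({x} : Set G.left) → ∃ p : Spec (CommRingCat.of K) ⟶ G.left,
      p ≫ G.hom = 𝟙 _ ∧ p (IsLocalRing.closedPoint K) = x := fun x hx =>
    ⟨pointOfClosedPoint G.hom x hx, pointOfClosedPoint_comp _ _ _, pointOfClosedPoint_apply _ _ _ _⟩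
  let J₀ := ULift.{u} (Fin n)
  let R : J₀ → CommRingCat.{u} := fun _ => CommRingCat.of K
  choose p hp hpx using fun i => hrat (g i) (hg i)
  let f : Spec (CommRingCat.of (J₀ → K)) ⟶ G.left := CategoryTheory.inv (sigmaSpec R) ≫ CategoryTheory.Limits.Sigma.desc fun i => p i.down
  have hf : f ≫ G.hom = Spec.map (CommRingCat.ofHom (algebraMap K (J₀ → K))) := by
    simp only [f, Category.assoc, IsIso.inv_comp_eq]
    refine CategoryTheory.Limits.Sigma.hom_ext _ _ fun i => ?_
    rw [CategoryTheory.Limits.Sigma.ι_desc_assoc, hp, ι_sigmaSpec_assoc, ← Spec.map_comp]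
    exact Spec.map_id _ |>.symm
  obtain ⟨U, hU, hsub⟩ := Groth.Agent.GrpField.exists_affineOpen_image hrat
    (Over.homMk f hf : Over.mk (Spec.map (CommRingCat.ofHom (algebraMap K (J₀ → K)))) ⟶ G)
  refine ⟨U, hU, fun i => hsub ?_⟩
  refine ⟨(CategoryTheory.Limits.Sigma.ι (fun j => Spec (R j)) ⟨i⟩ ≫ sigmaSpec R) (IsLocalRing.closedPoint K), ?_⟩
  show f _ = g i
  have key : (CategoryTheory.Limits.Sigma.ι (fun j => Spec (R j)) ⟨i⟩ ≫ sigmaSpec R) ≫ f = p i := by
    simp only [f, Category.assoc, IsIso.hom_inv_id_assoc]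
    exact CategoryTheory.Limits.Sigma.ι_desc _ _
  rw [← hpx i, ← key]
  rfl
end Groth.Agent.S1864
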