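import Groth.Statements.S18643
import Mathlib
import Groth.Agent.GrModLib.VerType

set_option autoImplicit false
universe u
open GrLC

namespace Groth.Agent.S18643

/-- Let R be a graded ring defined over a field k = R_0 which is Gorenstein and generated over k by R_1,
with dim R ≥ 1 and dim_k R_1 ≥ 2, and let q ≥ 1. Then the Veronese subring R^(q) is a Gorenstein
ring if and only if q divides the a-invariant a(R). Here 'graded ring defined over a field' means R
= ⊕_{n ≥ 0} R_n is Noetherian with R_0 a field, and m = R_+ is its unique graded maximal ideal. The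
a-invariant a(R) is the largest degree in which the graded local cohomology H^n_m(R) (n = dim R, m =
R_+), computed from a *injective resolution of R in the graded category, is nonzero. The Veronese
subring R^(q) = ⊕_j R_{jq}, regraded by (R^(q))_j = R_{jq}, is presented abstractly as a ℤ-graded
ring R' with an injective ring homomorphism φ : R' → R carrying R'_j onto R_{jq} for every j. -/
theorem result (R : Type u) [CommRing R] [LocCoh.IsGorensteinRing R] (𝒜 : ℤ → AddSubgroup R) [GradedRing 𝒜] (hpos : ∀ n : ℤ, n < 0 → 𝒜 n = ⊥) (h0 : IsField (GrLC.deg0 𝒜)) (m : HomogeneousIdeal 𝒜) (hm : GrLC.IsStarLocal 𝒜 m) (hmsp : m.toIdeal = Ideal.span (⋃ n ∈ Set.Ioi (0 : ℤ), (𝒜 n : Set R))) (hstd : Ideal.span (⋃ n ∈ Set.Ioi (0 : ℤ), (𝒜 n : Set R)) = Ideal.span ((𝒜 1 : AddSubgroup R) : Set R)) (hR1 : 2 ≤ Module.finrank (GrLC.deg0 𝒜) (GrLC.comp 𝒜 𝒜 1)) (n : ℕ) (hn : ringKrullDim R = n) (h1 : 1 ≤ n) (I : GrLC.StarInjRes 𝒜 𝒜) (a : ℤ) (ha :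 GrLC.endDeg (I.Hgr m n) = ((a : WithTop ℤ) : WithBot (WithTop ℤ))) (q : ℕ) (hq : 0 < q) (R' : Type u) [CommRing R'] (𝒜' : ℤ → AddSubgroup R') [GradedRing 𝒜'] (φ : R' →+* R) (hφ : Function.Injective φ) (hdeg : ∀ j : ℤ, (𝒜' j).map (φ : R' →+ R) = 𝒜 (j * q)) : LocCoh.IsGorensteinRing R' ↔ (q : ℤ) ∣ a := by
  obtain rfl : m = GrModLib.posIdeal 𝒜 := HomogeneousIdeal.ext hmsp
  have hV : GrModLib.IsVer 𝒜 𝒜' φ q := ⟨hq, hφ, hdeg⟩
  refine ⟨fun hG => ?_, fun hdvd => GrModLib.gorenstein_veronese hV hpos h0 hn I a ha hdvd⟩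
  haveI := hG
  haveI := hV.isNoetherianRing
  have hpos' := hV.hpos' hpos
  have hm' := GrModLib.isStarLocal_posIdeal (𝒜 := 𝒜') hpos' (hV.isField' h0)
  haveI := GrModLib.isMaximal_of_starLocal hpos' hm'
  have hqz : (q : ℤ) ≠ 0 := by omega
  have hρa : (q : ℤ) ∣ a - a % (q : ℤ) := ⟨a / (q : ℤ), by rw [Int.emod_def]; ring⟩
  have htype := GrModLib.bassNum_veronese hV hpos h0 hstd hn I a ha (a % (q : ℤ)) (Int.emod_nonneg a hqz)
    (Int.emod_lt_of_pos a (by omega)) hρa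
  have hn' : (GrModLib.posIdeal 𝒜').toIdeal.height = (n : ℕ∞) := by
    have h := (GrModLib.ringKrullDim_eq_height hpos' hm').symm.trans ((hV.ringKrullDim_eq hpos).trans hn)
    exact_mod_cast h
  rw [GrModLib.bassNum_self_of_gorenstein _ hn' n, if_pos rfl] at htype
  have h1 : Module.finrank (GrLC.deg0 𝒜) (GrLC.comp 𝒜 𝒜 (a % (q : ℤ))) = 1 := by exact_mod_cast htype.symm
  have hgam : GrLC.gam (GrModLib.posIdeal 𝒜).toIdeal R = ⊥ := by
    haveI : LocCoh.IsCohenMacaulayRing R := ⟨fun p _ => by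
      haveI := LocCoh.IsGorensteinRing.isGorensteinLocalRing_localization (A := R) p
      exact SMTLib.isCohenMacaulayLocalRing_of_isCM _ GorLib.isCM_of_gorenstein⟩
    refine eq_bot_iff.2 fun y hy => (Submodule.mem_bot R).2 (GrModLib.pr_ext 𝒜 fun g => ?_)
    rw [map_zero]
    exact GrModLib.eq_zero_of_van_zero (GrModLib.van_below_dim hpos hm hn 0 (by omega) g)
      (GrModLib.pr_mem 𝒜 g y) (GrModLib.gam_isHomogeneous (ℳ := 𝒜) (GrModLib.posIdeal 𝒜) g hy)
  by_contra hndvd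
  have hρ0 : a % (q : ℤ) ≠ 0 := fun h => hndvd (Int.dvd_of_emod_eq_zero h)
  have hnn := Int.emod_nonneg a hqz
  obtain ⟨t, ht⟩ : ∃ t : ℕ, a % (q : ℤ) = (t : ℤ) + 1 := ⟨(a % (q : ℤ) - 1).toNat, by omega⟩
  have h2 := GrModLib.two_le_finrank_piece h0 hstd hgam hR1 t
  rw [← ht] at h2
  omega

end Groth.Agent.S18643
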