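import Groth.Statements.S18644
import Mathlib
import Groth.Agent.GrModLib.StdField
import Groth.Agent.S17771

set_option autoImplicit false
universe u
open GrLC

namespace Groth.Agent.S18644

/-- Let R be a graded ring defined over a field k = R_0 which is Cohen–Macaulay and generated over k by
R_1, of dimension r. Then a(R) = −r holds exactly when R is isomorphic to the polynomial ring over k
in r variables. Here 'graded ring defined over a field' means R = ⊕_{n ≥ 0} R_n is Noetherian with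
R_0 a field, and m = R_+ is its unique graded maximal ideal. The a-invariant a(R) is the largest
degree in which the graded local cohomology H^n_m(R) (n = dim R, m = R_+), computed from a
*injective resolution of R in the graded category, is nonzero. (The inequality a(R) ≥ −r of the same
lemma is stated separately.) -/
theorem result (R : Type u) [CommRing R] [LocCoh.IsCohenMacaulayRing R] (𝒜 : ℤ → AddSubgroup R) [GradedRing 𝒜] (hpos : ∀ n : ℤ, n < 0 → 𝒜 n = ⊥) (h0 : IsField (GrLC.deg0 𝒜)) (m : HomogeneousIdeal 𝒜) (hm : GrLC.IsStarLocal 𝒜 m) (hmsp : m.toIdeal = Ideal.span (⋃ n ∈ Set.Ioi (0 : ℤ), (𝒜 n : Set R))) (hstd : Ideal.span (⋃ n ∈ Set.Ioi (0 : ℤ), (𝒜 n : Set R)) = Ideal.span ((𝒜 1 : AddSubgroup R) : Set R)) (r : ℕ) (hr : ringKrullDim R = r) (I : GrLC.StarInjRes 𝒜 𝒜) : GrLC.endDeg (I.Hgr m r) = (((-(r : ℤ) : ℤ) : WithTop ℤ) : WithBot (WithTop ℤ)) ↔ Nonempty (R ≃+* MvPolynomial (Fin r) (GrLC.deg0 𝒜)) := by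
  have hstd' : (GrModLib.posIdeal 𝒜).toIdeal = Ideal.span ((𝒜 1 : AddSubgroup R) : Set R) := hstd
  have hle := GrModLib.posIdeal_le_of_starLocal hpos hm
  have hmax : (GrModLib.posIdeal 𝒜).toIdeal.IsMaximal := by
    have := GrModLib.isMaximal_of_starLocal hpos hm
    rwa [hmsp] at this
  have hbelow := GrModLib.van_below_dim (𝒜 := 𝒜) hpos hm hr
  haveI := GrModLib.isArtinianRing_of_isField (K := GrLC.deg0 𝒜) h0
  have hge : (((-(r : ℤ) : ℤ) : WithTop ℤ) : WithBot (WithTop ℤ)) ≤ GrLC.endDeg (I.Hgr m r) :=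
    Groth.Agent.S17771.result R 𝒜 hpos hstd m hm r hr I
  constructor
  · intro ha
    have hf0 : GrModLib.hf (GrLC.GMod.of 𝒜 R 𝒜) 0 = 1 := by
      let e : GrLC.comp 𝒜 𝒜 0 ≃ₗ[GrLC.deg0 𝒜] GrLC.deg0 𝒜 :=
        { toFun := fun x => ⟨x.1, x.2⟩, invFun := fun x => ⟨x.1, x.2⟩, map_add' := fun _ _ => rfl,
          map_smul' := fun _ _ => rfl, left_inv := fun _ => rfl, right_inv := fun _ => rfl }
      exact (GrModLib.qlen_congr e).trans (GrModLib.qlen_field (K := GrLC.deg0 𝒜) h0)
    have hvan : ∀ i, i ≤ r → ∀ j : ℤ, -(r : ℤ) < j → GrModLib.Van m 𝒜 i j := fun i hi j hj => by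
      rcases hi.eq_or_lt with rfl | hlt
      · exact (GrModLib.endDeg_le_iff I i _).1 ha.le j hj
      · exact hbelow i hlt j
    have hf1 := GrModLib.hf_one_eq hpos hstd' m hle (GrModLib.starLocal_le_radical hpos hm) hr.le hvan hf0 I
    haveI : Module.Finite R (GrLC.GMod.of 𝒜 R 𝒜).carrier := inferInstanceAs (Module.Finite R R)
    haveI := GrModLib.isNoetherian_comp (GrLC.GMod.of 𝒜 R 𝒜) 1
    obtain ⟨b, hb⟩ := GrModLib.exists_spanning (K := GrLC.deg0 𝒜) (M := GrLC.comp 𝒜 (GrLC.GMod.of 𝒜 R 𝒜).gr 1) h0 hf1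
    let x : Fin r → R := fun i => (b i).1
    have hgen : (GrModLib.posIdeal 𝒜).toIdeal ≤ Ideal.span (Set.range x) := by
      rw [hstd', Ideal.span_le]
      intro y hy
      obtain ⟨c, hc⟩ := hb ⟨y, hy⟩
      have h1 := congrArg (GrLC.comp 𝒜 (GrLC.GMod.of 𝒜 R 𝒜).gr 1).subtype hc
      rw [map_sum] at h1
      have h2 : (∑ i, (c i : R) * x i) = y := h1
      rw [SetLike.mem_coe, ← h2]
      exact sum_mem fun i _ => Ideal.mul_mem_left _ _ (Ideal.subset_span ⟨i, rfl⟩)
    exact ⟨(RingEquiv.ofBijective _ (GrModLib.bijective_of_dim h0 hr _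
      (GrModLib.eval₂_surjective hpos x (fun i => show (b i).1 ∈ 𝒜 1 from (b i).2) hgen))).symm⟩
  · rintro ⟨ψ⟩
    obtain ⟨x, hx, hgen⟩ := GrModLib.exists_linear_generators hpos h0 hmax hstd' ψ
    let e := RingEquiv.ofBijective _ (GrModLib.bijective_of_dim h0 hr _
      (GrModLib.eval₂_surjective hpos x hx hgen))
    have hreg : RingTheory.Sequence.IsWeaklyRegular R (List.ofFn x) := by
      refine (e.toAddEquiv.isWeaklyRegular_congr ?_).1 (GrModLib.isWeaklyRegular_X (GrLC.deg0 𝒜) r)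
      rw [List.forall₂_iff_get]
      refine ⟨by simp, fun i h₁ h₂ p => ?_⟩
      simp only [List.get_eq_getElem, List.getElem_ofFn]
      show e (MvPolynomial.X _ * p) = _ * e p
      rw [map_mul]
      congr 1
      exact MvPolynomial.eval₂Hom_X' _ _ _
    exact le_antisymm (GrModLib.endDeg_le_neg hpos hle x hx hgen hreg hbelow I) hge

end Groth.Agent.S18644
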