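import Groth.Statements.S18646
import Groth.Agent.SegreLib.Finite
-- import your own Groth.Agent.* helpers here

set_option autoImplicit false
universe u
open scoped TensorProduct
open GrSegre

namespace Groth.Agent.S18646

/-- Let R and S be graded rings defined over a field k. Then their Segre product T = R # S is a
Noetherian ring (hence again a graded ring defined over k). Here a graded ring defined over k is a
commutative k-algebra of finite type, graded in nonnegative degrees by k-subspaces with degree-zero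
part k·1; the Segre product T = R # S = ⊕_n R_n ⊗_k S_n (graded by T_n = R_n ⊗_k S_n) is presented
abstractly as a graded k-algebra T with an injective k-algebra homomorphism ψ : T → R ⊗_k S carrying
T_n onto the k-span of the elementary tensors a ⊗ b with a ∈ R_n, b ∈ S_n, for every n. -/
theorem result (k : Type u) [Field k] (R : Type u) [CommRing R] [Algebra k R] (𝒜 : ℤ → Submodule k R) [GradedAlgebra 𝒜] (hposR : ∀ n : ℤ, n < 0 → 𝒜 n = ⊥) (h0R : 𝒜 0 = Submodule.span k {(1 : R)}) [Algebra.FiniteType k R] (S : Type u) [CommRing S] [Algebra k S] (ℬ : ℤ → Submodule k S) [GradedAlgebra ℬ] (hposS : ∀ n : ℤ, n < 0 → ℬ n = ⊥) (h0S : ℬ 0 = Submodule.span k {(1 : S)}) [Algebra.FiniteType k S] (T : Type u) [CommRing T] [Algebra k T] (𝒯 : ℤ → Submodule k T) [GradedAlgebra 𝒯] (ψ : T →ₐ[k] TensorProduct k R S) (hψ : Function.Injective ψ) (hdegT : ∀ n : ℤ, (𝒯 n).map ψ.toLinearMap = Submodule.span k {x : TensorProduct k R S | ∃ a ∈ 𝒜 n, ∃ b ∈ ℬ n, x = a ⊗ₜ[k] b}) : IsNoetherianRing T := by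
  have hr : LinearMap.range ψ.toLinearMap = SegreLib.diagPart (k := k) 𝒜 ℬ :=
    SegreLib.range_eq_diagPart 𝒜 ℬ 𝒯 ψ.toLinearMap fun n => by
      rw [← Submodule.map_coe, hdegT n]; rfl
  refine isNoetherianRing_iff.2 (SegreLib.isNoetherian_segre 𝒜 ℬ ψ hr 𝒜 ℬ ψ.toLinearMap hψ hr fun t p => ?_)
  show ψ (t * p) = _
  rw [map_mul]
  refine (LinearMap.congr_fun₂ (f := GrSeg.act k R S R S) (g := LinearMap.mul k (R ⊗[k] S)) ?_ (ψ t) (ψ p)).symm
  ext r s a b
  simp [GrSeg.act_tmul]

end Groth.Agent.S18646
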