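import Groth.Statements.S18648
import Mathlib
import Groth.Agent.SegreLC.Std

set_option autoImplicit false
universe u
open scoped TensorProduct
open GrSegre

namespace Groth.Agent.S18648

/-- Let R and S be standard graded rings defined over a field k which are Cohen–Macaulay, of dimensions
r ≥ 2 and s ≥ 2. Then the Segre product T = R # S is a Cohen–Macaulay ring if and only if a(R) < 0
and a(S) < 0. Here a graded ring defined over k is a commutative k-algebra of finite type, graded in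
nonnegative degrees by k-subspaces with degree-zero part k·1, and it is standard graded when its
irrelevant ideal is generated by the degree-one piece; the a-invariant a(R) is the largest degree in
which the graded local cohomology H^{dim R}_{R_+}(R), computed from a *injective resolution of R in
the graded category, is nonzero; the Segre product T = R # S = ⊕_n R_n ⊗_k S_n is presented
abstractly as a graded k-algebra T with an injective k-algebra homomorphism ψ : T → R ⊗_k S carrying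
T_n onto the k-span of the elementary tensors a ⊗ b with a ∈ R_n, b ∈ S_n. -/
theorem result (k : Type u) [Field k] (R : Type u) [CommRing R] [Algebra k R] (𝒜 : ℤ → Submodule k R) [GradedAlgebra 𝒜] (hposR : ∀ n : ℤ, n < 0 → 𝒜 n = ⊥) (h0R : 𝒜 0 = Submodule.span k {(1 : R)}) [Algebra.FiniteType k R] (S : Type u) [CommRing S] [Algebra k S] (ℬ : ℤ → Submodule k S) [GradedAlgebra ℬ] (hposS : ∀ n : ℤ, n < 0 → ℬ n = ⊥) (h0S : ℬ 0 = Submodule.span k {(1 : S)}) [Algebra.FiniteType k S] (T : Type u) [CommRing T] [Algebra k T] (𝒯 : ℤ → Submodule k T) [GradedAlgebra 𝒯] (ψ : T →ₐ[k] TensorProduct k R S) (hψ : Function.Injective ψ) (hdegT : ∀ n : ℤ, (𝒯 n).map ψ.toLinearMap = Submodule.span k {x : TensorProduct k R S | ∃ a ∈ 𝒜 n, ∃ b ∈ ℬ n, x = a ⊗ₜ[k] b}) [LocCoh.IsCohenMacaulayRing R] [LocCoh.IsCohenMacaulayRing S] (mR : HomogeneousIdeal 𝒜) (hmR : mR.toIdeal = Ideal.span (⋃ n ∈ Set.Ioi (0 : ℤ), (𝒜 n : Set R))) (hstdR : Ideal.span (⋃ n ∈ Set.Ioi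 (0 : ℤ), (𝒜 n : Set R)) = Ideal.span ((𝒜 1 : Submodule k R) : Set R)) (I : GrLC.StarInjRes 𝒜 𝒜) (mS : HomogeneousIdeal ℬ) (hmS : mS.toIdeal = Ideal.span (⋃ n ∈ Set.Ioi (0 : ℤ), (ℬ n : Set S))) (hstdS : Ideal.span (⋃ n ∈ Set.Ioi (0 : ℤ), (ℬ n : Set S)) = Ideal.span ((ℬ 1 : Submodule k S) : Set S)) (J : GrLC.StarInjRes ℬ ℬ) (r s : ℕ) (hr : ringKrullDim R = r) (hs : ringKrullDim S = s) (h2r : 2 ≤ r) (h2s : 2 ≤ s) : LocCoh.IsCohenMacaulayRing T ↔ GrLC.endDeg (I.Hgr mR r) < 0 ∧ GrLC.endDeg (J.Hgr mS s) < 0 := by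
  have hT : GrSeg.IsSegreRing 𝒜 ℬ 𝒯 ψ := ⟨hψ, hdegT⟩
  haveI := SegreLC.isNoetherianRing_T hT
  haveI := SegreLC.nontrivial_T' hT hr hs
  obtain ⟨r, rfl⟩ : ∃ r', r = r' + 2 := ⟨r - 2, by omega⟩
  obtain ⟨s, rfl⟩ : ∃ s', s = s' + 2 := ⟨s - 2, by omega⟩
  rw [← SegreLC.isCMMod_self_iff T, SegreLC.endDeg_lt_zero_iff, SegreLC.endDeg_lt_zero_iff]
  refine (SegreLC.cm_segre_iff hposR h0R hposS h0S hT (SegreLC.isSegreMod_self hT)
    ((Module.supportDim_self_eq_ringKrullDim (R := R)).trans hr)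
    ((Module.supportDim_self_eq_ringKrullDim (R := S)).trans hs)
    ((SegreLC.isCMMod_self_iff R).2 inferInstance) ((SegreLC.isCMMod_self_iff S).2 inferInstance) hmR hmS
    (SegreLC.resOfG I) (SegreLC.resOfG J)).trans ?_
  have eR : ∀ d, Subsingleton (SegreLC.Hd (SegreLC.resOfG I) (GrModLib.toAddIdeal mR) (r + 2) d) ↔
      I.Hgr mR (r + 2) d = ⊥ := fun d => by
    rw [← SegreLC.Hcomp_eq_bot_iff_Hd, Submodule.eq_bot_iff, AddSubgroup.eq_bot_iff_forall]; rfl
  have eS : ∀ d, Subsingleton (SegreLC.Hd (SegreLC.resOfG J) (GrModLib.toAddIdeal mS) (s + 2) d) ↔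
      J.Hgr mS (s + 2) d = ⊥ := fun d => by
    rw [← SegreLC.Hcomp_eq_bot_iff_Hd, Submodule.eq_bot_iff, AddSubgroup.eq_bot_iff_forall]; rfl
  simp only [← SegreLC.submodule_eq_bot_iff, eR, eS]
  constructor
  · rintro ⟨h1, h2⟩
    exact ⟨fun n hn => (h2 n).resolve_right (SegreLC.piece_ne_bot (r := s + 1) hposS h0S hstdS hs hn),
      fun n hn => (h1 n).resolve_left (SegreLC.piece_ne_bot (r := r + 1) hposR h0R hstdR hr hn)⟩
  · rintro ⟨hR, hS⟩
    exact ⟨fun d => (lt_or_ge d 0).elim (fun h => .inl (hposR d h)) (fun h => .inr (hS d h)),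
      fun d => (lt_or_ge d 0).elim (fun h => .inr (hposS d h)) (fun h => .inl (hR d h))⟩

end Groth.Agent.S18648
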