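import Groth.Statements.S1865
import Groth.Agent.GrpFieldLib.Comps
-- import your own Groth.Agent.* helpers here

set_option autoImplicit false
universe u v
open CategoryTheory MonoidalCategory CartesianMonoidalCategory MonObj GrpObj AlgebraicGeometry
open GrpSch

namespace Groth.Agent.S1865

/-- A group scheme over a field contains an open and closed subset containing the identity point which
is a countable union of affine opens. (The source does not mention the identity point; its
construction contains it, and without it the empty set would do.) -/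
theorem result (K : Type u) [Field K] (G : Over (Spec (CommRingCat.of K))) [GrpObj G] : ∃ U : G.left.Opens, IsClosed (U : Set G.left) ∧ η[G].left (IsLocalRing.closedPoint K) ∈ U ∧ ∃ V : ℕ → G.left.Opens, (∀ n, IsAffineOpen (V n)) ∧ (U : Set G.left) = ⋃ n, (V n : Set G.left) := by
  open Groth.Agent.GrpField in
  haveI := quasiSeparatedSpace_grp (G := G)
  open Groth.Agent.GrpField Groth.Agent.HomogDense in
  obtain ⟨W, hW, heW, -⟩ := exists_isAffineOpen_mem_and_subset (X := G.left) (x := η[G].left (IsLocalRing.closedPoint K)) (U := ⊤) trivial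
  open Groth.Agent.GrpField in
  have hcl := isClopen_compsMeeting (GrpShear.mulAction G) surjective_mulAction_shear W hW.isCompact
  open Groth.Agent.GrpField in
  have hk := (isOpen_compsMeeting_and_compact (GrpShear.mulAction G) surjective_mulAction_shear W).2 hW.isCompact
  open Groth.Agent.GrpField in
  refine ⟨⟨compsMeeting (W : Set G.left), hcl.2⟩, hcl.1, fun ξ _ h => h.mem_open W.2 heW, ?_⟩
  open Groth.Agent.GrpField in
  have hcov : ∀ x : compsMeeting (W : Set G.left), ∃ V : G.left.Opens, IsAffineOpen V ∧ x.1 ∈ V ∧ (V : Set G.left) ⊆ compsMeeting (W : Set G.left) := fun x =>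
    exists_isAffineOpen_mem_and_subset (X := G.left) (x := x.1) (U := ⟨_, hcl.2⟩) x.2
  choose V hV hxV hVs using hcov
  open Groth.Agent.GrpField in
  obtain ⟨t, ht⟩ := hk.elim_finite_subcover (fun x => (V x : Set G.left)) (fun x => (V x).2)
    (fun x hx => Set.mem_iUnion.2 ⟨⟨x, hx⟩, hxV _⟩)
  open Groth.Agent.GrpField in
  haveI : Nonempty (compsMeeting (W : Set G.left)) := ⟨⟨_, fun ξ _ h => h.mem_open W.2 heW⟩⟩
  classical
  refine ⟨fun n => V (t.toList.getD n (Classical.arbitrary _)), fun n => hV _, subset_antisymm (fun x hx => ?_) ?_⟩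
  · obtain ⟨y, hy, hxy⟩ := Set.mem_iUnion₂.1 (ht hx)
    refine Set.mem_iUnion.2 ⟨t.toList.idxOf y, ?_⟩
    show x ∈ (V (t.toList.getD (t.toList.idxOf y) _) : Set G.left)
    rw [List.getD_eq_getElem _ _ (List.idxOf_lt_length_iff.2 (Finset.mem_toList.2 hy)), List.getElem_idxOf]
    exact hxy
  · exact Set.iUnion_subset fun n => hVs _
end Groth.Agent.S1865
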