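import Groth.Statements.S18650
import Mathlib
import Groth.Agent.GrModLib.GorCrit
import Groth.Agent.GrModLib.CMLib

set_option autoImplicit false
universe u
open GrLC

namespace Groth.Agent.S18650

/-- The case M = R of the published statement. Let R be a commutative Noetherian ℤ-graded ring which is
H-local, i.e. has a unique maximal graded ideal m, and which is Cohen–Macaulay, with ht m = n. Then
R is a Gorenstein ring if and only if the graded local cohomology module H^n_m(R) is an injective
object of the category of graded R-modules. Here H^n_m(R) is computed from a *injective resolution I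
of R in the graded category, and its *injectivity is expressed as the existence of a *injective
graded R-module X and an R-linear isomorphism H^n_m(R) ≅ X preserving degrees. (The published item
is stated for a Cohen–Macaulay graded module M and the notion of Gorenstein module; this row is its
case M = R.) -/
theorem result (R : Type u) [CommRing R] [LocCoh.IsCohenMacaulayRing R] (𝒜 : ℤ → AddSubgroup R) [GradedRing 𝒜] (m : HomogeneousIdeal 𝒜) (hm : GrLC.IsStarLocal 𝒜 m) (n : ℕ) (hn : m.toIdeal.height = n) (I : GrLC.StarInjRes 𝒜 𝒜) : LocCoh.IsGorensteinRing R ↔ ∃ (X : GrLC.GMod.{u} 𝒜) (φ : I.H m n ≃ₗ[R] X.carrier), GrLC.IsStarInj 𝒜 X.gr ∧ GrLC.IsGrHom (I.Hgr m n) X.gr φ.toLinearMap := by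
  haveI hp := GrModLib.isPrime_of_coatom hm.1
  constructor
  · intro hG
    haveI := hG
    letI : DirectSum.Decomposition (GrLC.quotGr 𝒜 m) :=
      (GrModLib.quotGr'_isInternal (ℳ := 𝒜) m.toIdeal m.isHomogeneous).chooseDecomposition
    haveI : SetLike.GradedSMul 𝒜 (GrLC.quotGr 𝒜 m) := ⟨fun {h g r x} hr ⟨y, hy, e⟩ =>
      ⟨r • y, GrModLib.smul_mem 𝒜 𝒜 hr hy, e ▸ (Submodule.mkQ m.toIdeal).map_smul r y⟩⟩
    obtain ⟨E, f, hf⟩ := GrModLib.exists_hull (𝒜 := 𝒜) (GrLC.quotGr 𝒜 m)
    obtain ⟨g, φ, hφ⟩ := GrModLib.exists_top_equiv_of_gorenstein hm.1 hn I E.gr f hf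
    refine ⟨GrModLib.shiftG 𝒜 E.gr g, φ, fun A B i hi hii ψ hψ => ?_, fun j x hx => hφ j x hx⟩
    obtain ⟨h, hh, hhi⟩ := GrModLib.extend_deg hf.starInj A.gr B.gr i hi hii ψ g hψ
    exact ⟨h, hh, hhi⟩
  · rintro ⟨X, φ, hX, hφ⟩
    exact GrModLib.gorensteinRing_of_starLocal hm (fun J hJ => GrModLib.le_of_starLocal hm J hJ) hn
      (GrModLib.gorensteinLocal_of_starInj hm.1 hn I X φ hX hφ)

end Groth.Agent.S18650
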