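import Groth.Statements.S18653
import Mathlib
import Groth.Agent.CommAlgDim.Integral
-- import your own Groth.Agent.* helpers here

set_option autoImplicit false
universe u
open GrLC

namespace Groth.Agent.S18653

/-- Let R be a graded ring defined over an algebraically closed field k which is an integral domain of
dimension one. Then R is isomorphic to a semigroup ring (the subring of k[T] spanned by the
monomials T^h, h in an additive submonoid H of ℕ); moreover, if R is generated over k by R_1, then R
is a polynomial ring k[T]. Here a graded ring defined over k is a commutative k-algebra of finite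
type graded in nonnegative degrees by k-subspaces with degree-zero part k·1; the isomorphisms
asserted are ring isomorphisms. -/
theorem result (k : Type u) [Field k] [IsAlgClosed k] (R : Type u) [CommRing R] [IsDomain R] [Algebra k R] (𝒜 : ℤ → Submodule k R) [GradedAlgebra 𝒜] (hpos : ∀ n : ℤ, n < 0 → 𝒜 n = ⊥) (h0 : 𝒜 0 = Submodule.span k {(1 : R)}) [Algebra.FiniteType k R] (h1 : ringKrullDim R = 1) : (∃ H : AddSubmonoid ℕ, Nonempty (R ≃+* AddMonoidAlgebra k H)) ∧ (Ideal.span (⋃ n ∈ Set.Ioi (0 : ℤ), (𝒜 n : Set R)) = Ideal.span ((𝒜 1 : Submodule k R) : Set R) → Nonempty (R ≃+* Polynomial k)) := by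
  classical
  -- transcendence degree one
  obtain ⟨s, g, hginj, hgfin⟩ := exists_finite_inj_algHom_of_fg k R
  have hs : s = 1 := by
    letI := g.toRingHom.toAlgebra
    haveI : Module.Finite (MvPolynomial (Fin s) k) R := hgfin
    rw [CommAlgDim.ringKrullDim_eq_of_integral (MvPolynomial (Fin s) k) R hginj,
      MvPolynomial.ringKrullDim_of_isNoetherianRing, ringKrullDim_eq_zero_of_field] at h1
    simpa using h1
  have htr : Algebra.trdeg k R ≤ 1 := by
    letI := g.toRingHom.toAlgebra
    haveI : IsScalarTower k (MvPolynomial (Fin s) k) R := IsScalarTower.of_algebraMap_eq fun c => (g.commutes c).symm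
    haveI : Module.Finite (MvPolynomial (Fin s) k) R := hgfin
    haveI : FaithfulSMul (MvPolynomial (Fin s) k) R := (faithfulSMul_iff_algebraMap_injective _ _).mpr hginj
    rw [← trdeg_add_eq k (MvPolynomial (Fin s) k), trdeg_eq_zero (R := MvPolynomial (Fin s) k) (A := R), add_zero, MvPolynomial.trdeg_of_isDomain, hs]
    simp
  -- every homogeneous piece is at most a line
  have hline : ∀ n : ℤ, ∀ x ∈ 𝒜 n, x ≠ 0 → ∀ y ∈ 𝒜 n, ∃ c : k, y = c • x := by
    intro n x hx hx0 y hy
    by_cases hn0 : n = 0
    · subst hn0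
      rw [h0, Submodule.mem_span_singleton] at hx hy
      obtain ⟨a, rfl⟩ := hx
      obtain ⟨b, rfl⟩ := hy
      refine ⟨b / a, ?_⟩
      rw [smul_smul, div_mul_cancel₀]
      rintro rfl
      simp at hx0
    have hdep : ¬ AlgebraicIndependent k ![x, y] := fun h => by
      have h2 := h.lift_cardinalMk_le_trdeg
      simp at h2
      exact absurd (h2.trans htr) (by norm_num)
    rw [AlgebraicIndependent, injective_iff_map_eq_zero] at hdep
    push Not at hdep
    obtain ⟨f, hf, hf0⟩ := hdep
    obtain ⟨e₀, he₀⟩ := MvPolynomial.support_nonempty.mpr hf0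
    set d := e₀ 0 + e₀ 1 with hd
    have hmon : ∀ e : Fin 2 →₀ ℕ, x ^ e 0 * y ^ e 1 ∈ 𝒜 (((e 0 + e 1 : ℕ) : ℤ) * n) := by
      intro e
      have := SetLike.mul_mem_graded (SetLike.pow_mem_graded (e 0) hx) (SetLike.pow_mem_graded (e 1) hy)
      convert this using 2
      simp only [nsmul_eq_mul, Nat.cast_add]
      ring
    let proj : R →+ R := GradedRing.proj 𝒜 (((d : ℕ) : ℤ) * n)
    have hterm : ∀ e, proj (MvPolynomial.coeff e f • (x ^ e 0 * y ^ e 1)) =
        if e 0 + e 1 = d then MvPolynomial.coeff e f • (x ^ e 0 * y ^ e 1) else 0 := by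
      intro e
      have hm := (𝒜 (((e 0 + e 1 : ℕ) : ℤ) * n)).smul_mem (MvPolynomial.coeff e f) (hmon e)
      simp only [proj, GradedRing.proj_apply]
      split_ifs with h
      · rw [h] at hm
        exact DirectSum.decompose_of_mem_same 𝒜 hm
      · refine DirectSum.decompose_of_mem_ne 𝒜 hm ?_
        intro hc
        exact h (by exact_mod_cast mul_right_cancel₀ hn0 hc)
    have hexp : MvPolynomial.aeval ![x, y] f = ∑ e ∈ f.support, MvPolynomial.coeff e f • (x ^ e 0 * y ^ e 1) := by
      conv_lhs => rw [f.as_sum]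
      rw [map_sum]
      refine Finset.sum_congr rfl fun e _ => ?_
      rw [MvPolynomial.aeval_monomial, Finsupp.prod_fintype _ _ (fun i => pow_zero _), Fin.prod_univ_two, Algebra.smul_def]
      simp
    have hzero := congrArg proj hf
    rw [hexp, map_sum, map_zero, Finset.sum_congr rfl (fun e _ => hterm e), ← Finset.sum_filter] at hzero
    let K := FractionRing R
    let q : K := algebraMap R K y / algebraMap R K x
    have hx' : algebraMap R K x ≠ 0 := by rw [Ne, map_eq_zero_iff _ (IsFractionRing.injective R K)]; exact hx0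
    set S := f.support.filter (fun e => e 0 + e 1 = d) with hS
    let P : Polynomial k := ∑ e ∈ S, Polynomial.monomial (e 1) (MvPolynomial.coeff e f)
    have hP : Polynomial.aeval q P = 0 := by
      have h3 := congrArg (algebraMap R K) hzero
      rw [map_sum, map_zero] at h3
      have h4 : algebraMap R K x ^ d * Polynomial.aeval q P = 0 := by
        rw [map_sum, Finset.mul_sum, ← h3]
        refine Finset.sum_congr rfl fun e he => ?_
        rw [Finset.mem_filter] at he
        rw [Polynomial.aeval_monomial, Algebra.smul_def, map_mul, map_mul, map_pow, map_pow, ← IsScalarTower.algebraMap_apply,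
          ← he.2, pow_add, show q = algebraMap R K y / algebraMap R K x from rfl, div_pow]
        have key : ∀ A B c Y : K, B ≠ 0 → A * B * (c * (Y / B)) = c * (A * Y) := fun A B c Y hB => by
          rw [show A * B * (c * (Y / B)) = c * (A * (Y / B * B)) by ring, div_mul_cancel₀ _ hB]
        exact key _ _ _ _ (pow_ne_zero _ hx')
      exact (mul_eq_zero.mp h4).resolve_left (pow_ne_zero _ hx')
    have hP0 : P ≠ 0 := by
      intro h
      have h5 := congrArg (fun Q : Polynomial k => Q.coeff (e₀ 1)) h
      simp only [P, Polynomial.finsetSum_coeff, Polynomial.coeff_monomial, Polynomial.coeff_zero] at h5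
      rw [Finset.sum_eq_single e₀ ?_ ?_] at h5
      · rw [if_pos rfl] at h5
        exact MvPolynomial.mem_support_iff.mp he₀ h5
      · intro e he hne
        rw [if_neg]
        intro h6
        apply hne
        have h7 := (Finset.mem_filter.mp he).2
        ext i
        fin_cases i
        · show e 0 = e₀ 0; omega
        · exact h6
      · intro h6
        exact (h6 (Finset.mem_filter.mpr ⟨he₀, rfl⟩)).elim
    have hint : IsIntegral k q := (show IsAlgebraic k q from ⟨P, hP0, hP⟩).isIntegral
    obtain ⟨c, hc⟩ : q ∈ (algebraMap k K).range := by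
      have hdeg := IsAlgClosed.degree_eq_one_of_irreducible k (minpoly.irreducible hint)
      exact minpoly.mem_range_of_degree_eq_one k q hdeg
    refine ⟨c, IsFractionRing.injective R K ?_⟩
    rw [Algebra.smul_def, map_mul, ← IsScalarTower.algebraMap_apply, hc]
    exact (div_mul_cancel₀ _ hx').symm
  -- a homogeneous element of positive degree
  obtain ⟨n₀, hn₀, f₀, hf₀, hf₀0⟩ : ∃ n : ℤ, 0 < n ∧ ∃ f ∈ 𝒜 n, f ≠ 0 := by
    by_contra hno
    push Not at hno
    have hsurj : Function.Surjective (algebraMap k R) := by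
      intro r
      induction r using DirectSum.Decomposition.inductionOn 𝒜 with
      | zero => exact ⟨0, map_zero _⟩
      | @homogeneous i m =>
        rcases lt_trichotomy i 0 with hi | hi | hi
        · have hb : (m : R) ∈ (⊥ : Submodule k R) := (hpos i hi).le m.2
          exact ⟨0, by rw [map_zero]; exact ((Submodule.mem_bot k).mp hb).symm⟩
        · subst hi
          obtain ⟨a, ha⟩ := Submodule.mem_span_singleton.mp (h0.le m.2)
          exact ⟨a, by rw [← ha, Algebra.algebraMap_eq_smul_one]⟩
        · exact ⟨0, by rw [map_zero]; exact (hno i hi _ m.2).symm⟩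
      | add a b ha hb =>
        obtain ⟨a', rfl⟩ := ha
        obtain ⟨b', rfl⟩ := hb
        exact ⟨a' + b', map_add _ _ _⟩
    have hle := ringKrullDim_le_of_surjective (algebraMap k R) hsurj
    rw [h1, ringKrullDim_eq_zero_of_field] at hle
    exact absurd hle (by norm_num)
  -- a point at which it does not vanish
  obtain ⟨M, hM, hfM⟩ : ∃ M : Ideal R, M.IsMaximal ∧ f₀ ∉ M := by
    by_contra hno
    push Not at hno
    haveI : IsJacobsonRing R := isJacobsonRing_of_finiteType (A := k)
    have hj : (⊥ : Ideal R).jacobson = ⊥ := IsJacobsonRing.out inferInstance (by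
      rw [Ideal.isRadical_iff_quotient_reduced]
      exact isReduced_of_injective (RingEquiv.quotientBot R) (RingEquiv.quotientBot R).injective)
    apply hf₀0
    have hmem : f₀ ∈ (⊥ : Ideal R).jacobson := by
      rw [Ideal.jacobson, Ideal.mem_sInf]
      rintro (J : Ideal R) ⟨-, hJ⟩
      exact hno J hJ
    rw [hj] at hmem
    exact hmem
  haveI := hM
  letI : Field (R ⧸ M) := Ideal.Quotient.field M
  haveI : Module.Finite k (R ⧸ M) := finite_of_finite_type_of_isJacobsonRing k (R ⧸ M)
  let e : k ≃ₐ[k] (R ⧸ M) := AlgEquiv.ofBijective (Algebra.ofId k (R ⧸ M)) (IsAlgClosed.algebraMap_bijective_of_isIntegral (k := k) (K := R ⧸ M))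
  let φ : R →ₐ[k] k := e.symm.toAlgHom.comp (Ideal.Quotient.mkₐ k M)
  have hφf : φ f₀ ≠ 0 := by
    intro h
    apply hfM
    have : e.symm (Ideal.Quotient.mk M f₀) = e.symm 0 := by rw [map_zero]; exact h
    exact Ideal.Quotient.eq_zero_iff_mem.mp (e.symm.injective this)
  have hφne : ∀ i : ℤ, ∀ x ∈ 𝒜 i, x ≠ 0 → φ x ≠ 0 := by
    intro i x hx hx0 hφx
    rcases lt_trichotomy i 0 with hi | hi | hi
    · exact hx0 (by rw [hpos i hi] at hx; exact hx)
    · subst hi
      rw [h0, Submodule.mem_span_singleton] at hx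
      obtain ⟨a, rfl⟩ := hx
      rw [map_smul, map_one, smul_eq_mul, mul_one] at hφx
      simp [hφx] at hx0
    · obtain ⟨a, ha⟩ : ∃ a : ℕ, (a : ℤ) = i := ⟨i.toNat, Int.toNat_of_nonneg hi.le⟩
      obtain ⟨b, hb⟩ : ∃ b : ℕ, (b : ℤ) = n₀ := ⟨n₀.toNat, Int.toNat_of_nonneg hn₀.le⟩
      have h3 := SetLike.pow_mem_graded b hx
      have h4 := SetLike.pow_mem_graded a hf₀
      have e4 : a • n₀ = b • i := by rw [nsmul_eq_mul, nsmul_eq_mul, ← ha, ← hb]; simp [mul_comm]
      rw [e4] at h4
      obtain ⟨c, hc⟩ := hline _ _ h3 (pow_ne_zero _ hx0) _ h4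
      have h5 := congrArg φ hc
      rw [map_pow, map_smul, map_pow, hφx, zero_pow (by omega), smul_zero] at h5
      exact pow_ne_zero _ hφf h5
  -- the map to the group algebra
  let F : ∀ i : ℤ, 𝒜 i →ₗ[k] AddMonoidAlgebra k ℤ := fun i =>
    (AddMonoidAlgebra.lsingle i).comp (φ.toLinearMap.comp (𝒜 i).subtype)
  have hF : ∀ i (x : 𝒜 i), F i x = AddMonoidAlgebra.single i (φ x) := fun i x => rfl
  let Φ₀ : (DirectSum ℤ fun i => 𝒜 i) →ₐ[k] AddMonoidAlgebra k ℤ :=
    DirectSum.toAlgebra k (fun i => 𝒜 i) F (by rw [hF, SetLike.coe_gOne, map_one]; rfl) (fun {i j} ai aj => by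
      rw [hF, hF, hF, SetLike.coe_gMul, map_mul, AddMonoidAlgebra.single_mul_single])
  let Φ : R →ₐ[k] AddMonoidAlgebra k ℤ := Φ₀.comp (DirectSum.decomposeAlgEquiv 𝒜).toAlgHom
  have hΦ : ∀ i, ∀ x ∈ 𝒜 i, Φ x = AddMonoidAlgebra.single i (φ x) := by
    intro i x hx
    show Φ₀ (DirectSum.decompose 𝒜 x) = _
    rw [DirectSum.decompose_of_mem 𝒜 hx]
    show DirectSum.toModule k ℤ _ F (DirectSum.lof k ℤ _ i ⟨x, hx⟩) = _
    rw [DirectSum.toModule_lof]
    rfl
  have hcoeff : ∀ r i, (Φ r).coeff i = φ (DirectSum.decompose 𝒜 r i) := by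
    intro r i
    induction r using DirectSum.Decomposition.inductionOn 𝒜 with
    | zero => simp
    | @homogeneous j m =>
      rw [hΦ j m m.2, DirectSum.decompose_coe]
      by_cases hij : j = i
      · subst hij; rw [DirectSum.of_eq_same, AddMonoidAlgebra.coeff_single_apply, if_pos rfl]
      · rw [DirectSum.of_eq_of_ne _ _ _ (Ne.symm hij), AddMonoidAlgebra.coeff_single_apply, if_neg hij]; simp
    | add a b ha hb => rw [map_add, AddMonoidAlgebra.coeff_add, Finsupp.add_apply, ha, hb, DirectSum.decompose_add, DirectSum.add_apply, Submodule.coe_add, map_add]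
  have hΦinj : Function.Injective Φ := by
    rw [injective_iff_map_eq_zero]
    intro r hr
    apply (DirectSum.decompose 𝒜).injective
    rw [DirectSum.decompose_zero]
    refine DFinsupp.ext fun i => Subtype.ext ?_
    by_contra hne
    exact hφne i _ (DirectSum.decompose 𝒜 r i).2 hne (by rw [← hcoeff, hr]; rfl)
  -- the monoid
  let H : AddSubmonoid ℕ :=
    { carrier := {m | ∃ x ∈ 𝒜 (m : ℤ), x ≠ 0}
      zero_mem' := ⟨1, SetLike.one_mem_graded 𝒜, one_ne_zero⟩
      add_mem' := by
        rintro a b ⟨x, hx, hx0⟩ ⟨y, hy, hy0⟩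
        exact ⟨x * y, by rw [Nat.cast_add]; exact SetLike.mul_mem_graded hx hy, mul_ne_zero hx0 hy0⟩ }
  let ι : H →+ ℤ := (Nat.castAddMonoidHom ℤ).comp H.subtype
  have hι : Function.Injective ι := fun a b h => Subtype.ext (Int.ofNat_inj.mp h)
  let j : AddMonoidAlgebra k H →ₐ[k] AddMonoidAlgebra k ℤ := AddMonoidAlgebra.mapDomainAlgHom k k ι
  have hjinj : Function.Injective j := AddMonoidAlgebra.mapDomain_injective hι
  have hrange : Φ.range = j.range := by
    apply le_antisymm
    · rintro _ ⟨r, rfl⟩
      show Φ r ∈ j.range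
      induction r using DirectSum.Decomposition.inductionOn 𝒜 with
      | zero => rw [map_zero]; exact zero_mem _
      | @homogeneous i m =>
        rw [hΦ i m m.2]
        by_cases hm : (m : R) = 0
        · rw [hm, map_zero, AddMonoidAlgebra.single_zero]; exact zero_mem _
        · have hi : 0 ≤ i := by
            by_contra hi
            exact hm ((Submodule.mem_bot k).mp ((hpos i (not_le.mp hi)).le m.2))
          have hmem : i.toNat ∈ H := ⟨m, by rw [Int.toNat_of_nonneg hi]; exact m.2, hm⟩
          refine ⟨AddMonoidAlgebra.single ⟨i.toNat, hmem⟩ (φ m), ?_⟩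
          show j (AddMonoidAlgebra.single _ _) = _
          simp [j, ι, Int.toNat_of_nonneg hi]
      | add a b ha hb => rw [map_add]; exact add_mem ha hb
    · rintro _ ⟨z, rfl⟩
      show j z ∈ Φ.range
      induction z using AddMonoidAlgebra.induction_linear with
      | zero => rw [map_zero]; exact zero_mem _
      | add a b ha hb => rw [map_add]; exact add_mem ha hb
      | single m c =>
        obtain ⟨x, hx, hx0⟩ := m.2
        refine ⟨(c / φ x) • x, ?_⟩
        show Φ ((c / φ x) • x) = _
        rw [map_smul, hΦ _ x hx]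
        rw [AddMonoidAlgebra.smul_single, smul_eq_mul, div_mul_cancel₀ _ (hφne _ x hx hx0)]
        show _ = AddMonoidAlgebra.mapDomain ι _
        rw [AddMonoidAlgebra.mapDomain_single]
        rfl
  let E : R ≃+* AddMonoidAlgebra k H :=
    ((AlgEquiv.ofInjective Φ hΦinj).trans ((Subalgebra.equivOfEq _ _ hrange).trans (AlgEquiv.ofInjective j hjinj).symm)).toRingEquiv
  refine ⟨⟨H, ⟨E⟩⟩, fun hgen => ?_⟩
  have hone : (1 : ℕ) ∈ H := by
    by_contra hno
    apply hf₀0
    have hsub : ((𝒜 1 : Submodule k R) : Set R) ⊆ {0} := fun x hx => by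
      by_contra hx0
      exact hno ⟨x, by simpa using hx, hx0⟩
    have hmem : f₀ ∈ Ideal.span (⋃ n ∈ Set.Ioi (0 : ℤ), (𝒜 n : Set R)) :=
      Ideal.subset_span (Set.mem_biUnion hn₀ hf₀)
    rw [hgen] at hmem
    have h9 := Ideal.span_mono hsub hmem
    rw [Ideal.span_singleton_eq_bot.mpr rfl] at h9
    exact h9
  have htop : H = ⊤ := by
    rw [eq_top_iff]
    intro m _
    have := H.nsmul_mem hone m
    simpa using this
  let eH : H ≃+ ℕ := (AddEquiv.addSubmonoidCongr htop).trans AddSubmonoid.topEquiv
  exact ⟨E.trans ((AddMonoidAlgebra.mapDomainRingEquiv k eH).trans (Polynomial.toFinsuppIso k).symm)⟩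

end Groth.Agent.S18653
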