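import Groth.Statements.S18654
import Mathlib
import Groth.Agent.GrModLib.Kronecker

set_option autoImplicit false
universe u
open GrLC

namespace Groth.Agent.S18654

/-- Let R be a graded ring defined over a field k = R_0 which is Cohen–Macaulay and generated over k by
R_1, with dim R ≥ 1, and write H(n, R) = dim_k R_n. Then H(n + 1, R) ≥ H(n, R) for every integer n.
Here 'graded ring defined over a field' means R = ⊕_{n ≥ 0} R_n is Noetherian with R_0 a field, and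
m = R_+ is its unique graded maximal ideal. -/
theorem result (R : Type u) [CommRing R] [LocCoh.IsCohenMacaulayRing R] (𝒜 : ℤ → AddSubgroup R) [GradedRing 𝒜] (hpos : ∀ n : ℤ, n < 0 → 𝒜 n = ⊥) (h0 : IsField (GrLC.deg0 𝒜)) (hstd : Ideal.span (⋃ n ∈ Set.Ioi (0 : ℤ), (𝒜 n : Set R)) = Ideal.span ((𝒜 1 : AddSubgroup R) : Set R)) (h1 : 1 ≤ ringKrullDim R) (n : ℤ) : Module.finrank (GrLC.deg0 𝒜) (GrLC.comp 𝒜 𝒜 n) ≤ Module.finrank (GrLC.deg0 𝒜) (GrLC.comp 𝒜 𝒜 (n + 1)) := by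
  have hm := GrModLib.isStarLocal_posIdeal hpos h0
  have hmax := GrModLib.isMaximal_of_starLocal hpos hm
  have hfin : (GrModLib.posIdeal 𝒜).toIdeal.height ≠ ⊤ := Ideal.height_ne_top hmax.ne_top
  obtain ⟨d, hd⟩ := ENat.ne_top_iff_exists.1 hfin
  have hdim : ringKrullDim R = (d : ℕ) := by rw [GrModLib.ringKrullDim_eq_height hpos hm, ← hd]; rfl
  have hd1 : 0 < d := by
    rw [hdim] at h1
    exact_mod_cast h1
  have hgam : GrLC.gam (GrModLib.posIdeal 𝒜).toIdeal R = ⊥ := by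
    refine (Submodule.eq_bot_iff _).2 fun z hz => ?_
    obtain ⟨t, -, ht⟩ := GrModLib.exists_finset 𝒜 z
    rw [← ht]
    exact Finset.sum_eq_zero fun i _ => GrModLib.eq_zero_of_van_zero
      (GrModLib.van_below_dim hpos hm hdim 0 hd1 i) (GrModLib.pr_mem 𝒜 i z)
      (GrModLib.gam_isHomogeneous (ℳ := 𝒜) (GrModLib.posIdeal 𝒜) i hz)
  obtain ⟨e, he⟩ := GrModLib.exists_kronecker (𝒜 := 𝒜) hstd hgam n
  haveI : Module.Finite R (GrLC.GMod.of 𝒜 R 𝒜).carrier := inferInstanceAs (Module.Finite R R)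
  exact @GrModLib.finrank_le_of_kronecker _ _ h0 _ _ _ _ _ _
    (GrModLib.isNoetherian_comp (GrLC.GMod.of 𝒜 R 𝒜) n)
    (GrModLib.isNoetherian_comp (GrLC.GMod.of 𝒜 R 𝒜) (n + 1)) e he

end Groth.Agent.S18654
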