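import Groth.Statements.S18656
import Mathlib
import Groth.Agent.GrModLib.CMLib
import Groth.Agent.LocCohLib.CohDim

set_option autoImplicit false
universe u
open GrLC

namespace Groth.Agent.S18656

/-- Let R be a graded ring defined over a field k = R_0, generated over k by R_1, of dimension r ≥ 1,
and let a(R) be its a-invariant. Then the homogeneous piece H^r_m(R)_n is nonzero for every n ≤
a(R). Here 'graded ring defined over a field' means R = ⊕_{n ≥ 0} R_n is Noetherian with R_0 a
field, and m = R_+ is its unique graded maximal ideal. The a-invariant a(R) is the largest degree in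
which the graded local cohomology H^n_m(R) (n = dim R, m = R_+), computed from a *injective
resolution of R in the graded category, is nonzero. -/
theorem result (R : Type u) [CommRing R] [IsNoetherianRing R] (𝒜 : ℤ → AddSubgroup R) [GradedRing 𝒜] (hpos : ∀ n : ℤ, n < 0 → 𝒜 n = ⊥) (h0 : IsField (GrLC.deg0 𝒜)) (m : HomogeneousIdeal 𝒜) (hm : GrLC.IsStarLocal 𝒜 m) (hmsp : m.toIdeal = Ideal.span (⋃ n ∈ Set.Ioi (0 : ℤ), (𝒜 n : Set R))) (hstd : Ideal.span (⋃ n ∈ Set.Ioi (0 : ℤ), (𝒜 n : Set R)) = Ideal.span ((𝒜 1 : AddSubgroup R) : Set R)) (r : ℕ) (hr : ringKrullDim R = r) (h1 : 1 ≤ r) (I : GrLC.StarInjRes 𝒜 𝒜) (a : ℤ) (ha : GrLC.endDeg (I.Hgr m r) = ((a : WithTop ℤ) : WithBot (WithTop ℤ))) (n : ℤ) (hn : n ≤ a) : I.Hcomp m r n ≠ ⊥ := by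
  intro hbot
  have hspan : m.toIdeal = Ideal.span ((𝒜 1 : AddSubgroup R) : Set R) := hmsp.trans hstd
  have hvan : ∀ j : ℕ, GrModLib.Van m 𝒜 r (n + j) := by
    intro j
    induction j with
    | zero =>
      rw [Nat.cast_zero, add_zero, GrModLib.van_iff_Hcomp I]
      exact hbot
    | succ j ih =>
      have hdiag : ∀ i : ℕ, r ≤ i → GrModLib.Van m 𝒜 i (n + j + r - i) := fun i hi => by
        rcases hi.eq_or_lt with rfl | hi
        · rwa [add_sub_cancel_right]
        · refine GrModLib.van_of_subsingleton_H (LocCohLib.subsingleton_H_of_supportDim_lt i R ?_) _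
          refine (Module.supportDim_le_ringKrullDim R R).trans_lt ?_
          rw [hr]; exact_mod_cast hi
      have h2 := GrModLib.van_diag hspan h1 hdiag r le_rfl
      rwa [show n + (j : ℤ) + r + 1 - r = n + ((j + 1 : ℕ) : ℤ) by push_cast; ring] at h2
  have hne : I.Hgr m r a ≠ ⊥ := by
    intro hb
    have hle : GrLC.endDeg (I.Hgr m r) ≤ (((a - 1 : ℤ) : WithTop ℤ) : WithBot (WithTop ℤ)) := by
      refine iSup₂_le fun j hj => WithBot.coe_le_coe.2 (WithTop.coe_le_coe.2 ?_)
      have h2 : ((j : WithTop ℤ) : WithBot (WithTop ℤ)) ≤ GrLC.endDeg (I.Hgr m r) := le_iSup₂_of_le j hj le_rfl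
      rw [ha] at h2
      have h3 : j ≤ a := WithTop.coe_le_coe.1 (WithBot.coe_le_coe.1 h2)
      rcases h3.eq_or_lt with rfl | h3
      · exact absurd hb hj
      · omega
    rw [ha] at hle
    have := WithTop.coe_le_coe.1 (WithBot.coe_le_coe.1 hle)
    omega
  refine hne ((AddSubgroup.eq_bot_iff_forall _).2 fun y hy => ?_)
  have h2 := hvan (a - n).toNat
  rw [Int.toNat_of_nonneg (sub_nonneg.2 hn), add_sub_cancel] at h2
  exact h2 I y hy

end Groth.Agent.S18656
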