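import Groth.Statements.S18657
import Mathlib
import Groth.Agent.GrModLib.CanonGrowth

set_option autoImplicit false
universe u
open GrLC

namespace Groth.Agent.S18657

/-- Let R be a graded ring defined over a field k = R_0 which is Cohen–Macaulay and generated over k by
R_1, of dimension r ≥ 2, with canonical module K_R and a-invariant a(R). Then dim_k (K_R)_n ≥ 2 for
every n > −a(R). Here 'graded ring defined over a field' means R = ⊕_{n ≥ 0} R_n is Noetherian with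
R_0 a field (so R is finitely generated over R_0), m = R_+ is its unique graded maximal ideal and n
= dim R; the canonical module K_R (the graded dual of H^n_m(R)) is represented by a finitely
generated graded module C together with a homogeneous isomorphism from Hom_R(C, E) onto H^n_m(R),
where E is a *injective envelope of R/m and H^n_m(R) is computed from a *injective resolution of R
in the graded category; by graded Matlis duality this says exactly that C ≅ K_R as graded modules.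
The a-invariant a(R) is the largest degree in which the graded local cohomology H^n_m(R) (n = dim R,
m = R_+), computed from a *injective resolution of R in the graded category, is nonzero. -/
theorem result (R : Type u) [CommRing R] [LocCoh.IsCohenMacaulayRing R] (𝒜 : ℤ → AddSubgroup R) [GradedRing 𝒜] (hpos : ∀ n : ℤ, n < 0 → 𝒜 n = ⊥) (h0 : IsField (GrLC.deg0 𝒜)) (m : HomogeneousIdeal 𝒜) (hm : GrLC.IsStarLocal 𝒜 m) (hmsp : m.toIdeal = Ideal.span (⋃ n ∈ Set.Ioi (0 : ℤ), (𝒜 n : Set R))) (hstd : Ideal.span (⋃ n ∈ Set.Ioi (0 : ℤ), (𝒜 n : Set R)) = Ideal.span ((𝒜 1 : AddSubgroup R) : Set R)) (n : ℕ) (hn : ringKrullDim R = n) (h2 : 2 ≤ n) (I : GrLC.StarInjRes 𝒜 𝒜) (a : ℤ) (ha : GrLC.endDeg (I.Hgr m n) = ((a : WithTop ℤ) : WithBot (WithTop ℤ))) (E' : Type u) [AddCommGroup E'] [Module R E'] (𝓔 : ℤ → AddSubgroup E') [DirectSum.Decomposition 𝓔] [SetLike.GradedSMul 𝒜 𝓔] (e : (R ⧸ m.toIdeal) →ₗ[R] E') (he : GrLC.IsStarInjHull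 𝒜 (GrLC.quotGr 𝒜 m) 𝓔 e) (C : Type u) [AddCommGroup C] [Module R C] (𝒞 : ℤ → AddSubgroup C) [DirectSum.Decomposition 𝒞] [SetLike.GradedSMul 𝒜 𝒞] (hC : GrLC.IsStarCanonical 𝒜 𝒞 𝓔 m n I) (j : ℤ) (hj : -a < j) : 2 ≤ Module.finrank (GrLC.deg0 𝒜) (GrLC.comp 𝒜 𝒞 j) := by
  obtain rfl : m = GrModLib.posIdeal 𝒜 := HomogeneousIdeal.ext hmsp
  let q := (GrModLib.posIdeal 𝒜).toIdeal
  haveI hmax : q.IsMaximal := GrModLib.isMaximal_of_starLocal hpos hm
  have hstd' : q = Ideal.span ((𝒜 1 : AddSubgroup R) : Set R) := hmsp.trans hstd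
  let CG := GrLC.GMod.of 𝒜 C 𝒞
  haveI : Module.Finite R CG.carrier := hC.1
  let RG := GrLC.GMod.of 𝒜 R 𝒜
  haveI : Module.Finite R RG.carrier := inferInstanceAs (Module.Finite R R)
  obtain ⟨-, φ, hφ⟩ := hC
  obtain ⟨d, rfl⟩ : ∃ d, n = d + 1 + 1 := ⟨n - 2, by omega⟩
  obtain ⟨k, x, Q, C', π, ρ, F, hk, hx, -, -, hxC, -, -, -, -, hρs, hρk, hQf, hC'f, hvQ, hdimQ, ⟨Φ'⟩⟩ :=
    GrModLib.canon_step hpos h0 he (d := d + 1) RG CG I
      (fun j hj l => GrModLib.van_below_dim hpos hm hn j hj l)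
      ((Module.supportDim_le_ringKrullDim R R).trans hn.le) φ
  obtain ⟨l, y, Q', C'', π', ρ', F', hl, hy, -, -, hyC', -⟩ :=
    GrModLib.canon_step hpos h0 he (d := d) Q C' F hvQ hdimQ Φ'
  have hgam_of : ∀ (X : GrLC.GMod.{u} 𝒜) (z : R) (t : ℤ), 0 < t → z ∈ 𝒜 t → IsSMulRegular X.carrier z →
      GrLC.gam q X.carrier = ⊥ := fun X z t ht hz hr => eq_bot_iff.2 fun v ⟨c, hc⟩ => (Submodule.mem_bot R).2
    ((hr.pow c).right_eq_zero_of_smul (hc _ (Ideal.pow_mem_pow (GrModLib.mem_posIdeal ht hz) c)))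
  have hgamC := hgam_of CG x k hk hx hxC
  have hgamC' := hgam_of C' y l hl hy hyC'
  obtain ⟨kn, rfl⟩ : ∃ kn : ℕ, (kn : ℤ) = k := ⟨k.toNat, by omega⟩
  have hup : ∀ (g : ℤ) (v : CG.carrier), v ∈ CG.gr g → v ≠ 0 → ∃ r ∈ 𝒜 1, r • v ≠ 0 := by
    intro g v _ hv0
    by_contra hcon
    push Not at hcon
    refine hv0 ((Submodule.mem_bot R).1 (hgamC.le ⟨1, fun r hr => ?_⟩))
    rw [pow_one, hstd'] at hr
    induction hr using Submodule.span_induction with
    | mem r hr => exact hcon r hr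
    | zero => exact zero_smul R v
    | add a b _ _ ha hb => rw [add_smul, ha, hb, add_zero]
    | smul c a _ ha => rw [smul_eq_mul, mul_smul, ha, smul_zero]
  have hne : ∃ v ∈ CG.gr (-a), v ≠ 0 := by
    obtain ⟨z, hz, hz0⟩ : ∃ z ∈ I.Hgr (GrModLib.posIdeal 𝒜) (d + 1 + 1) a, z ≠ 0 := by
      by_contra hcon
      push Not at hcon
      have h1 : GrLC.endDeg (I.Hgr (GrModLib.posIdeal 𝒜) (d + 1 + 1)) ≤ ((a - 1 : ℤ) : WithTop ℤ) :=
        (GrModLib.endDeg_le_iff I _ _).2 fun l' hl' => by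
          rcases eq_or_lt_of_le (show a ≤ l' by omega) with h | h
          · subst h; exact (GrModLib.van_iff I _ _).2 hcon
          · exact (GrModLib.endDeg_le_iff I _ a).1 ha.le l' h
      rw [ha] at h1
      have := WithTop.coe_le_coe.1 (WithBot.coe_le_coe.1 h1)
      omega
    exact GrModLib.exists_piece_ne_zero hpos he CG _ (GrModLib.Hgr_isInternal I _ _) φ hφ hz hz0
  have hall : ∀ t : ℕ, ∃ v ∈ CG.gr (-a + t), v ≠ 0 := by
    intro t
    induction t with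
    | zero => simpa using hne
    | succ t ih =>
      obtain ⟨v, hv, hv0⟩ := ih
      obtain ⟨r, hr, hrv⟩ := hup _ v hv hv0
      refine ⟨r • v, ?_, hrv⟩
      have := GrModLib.smul_mem 𝒜 CG.gr hr hv
      rwa [show (1 : ℤ) + (-a + t) = -a + ((t + 1 : ℕ) : ℤ) by push_cast; ring] at this
  by_contra hlt
  obtain ⟨t, ht⟩ : ∃ t : ℕ, j = -a + t + 1 := ⟨(j + a - 1).toNat, by omega⟩
  subst ht
  obtain ⟨v, hv, hv0⟩ := hall t
  obtain ⟨r₀, hr₀, hr₀v⟩ := hup _ v hv hv0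
  haveI hfin : Module.Finite (GrLC.deg0 𝒜) (GrLC.comp 𝒜 𝒞 (-a + t + 1)) := by
    haveI : IsNoetherian (GrLC.deg0 𝒜) (GrLC.comp 𝒜 𝒞 (-a + t + 1)) := GrModLib.isNoetherian_comp CG (-a + t + 1)
    exact Module.IsNoetherian.finite _ _
  have hsmul : ∀ s ∈ 𝒜 1, s • v ∈ GrLC.comp 𝒜 𝒞 (-a + t + 1) := fun s hs => by
    show s • v ∈ CG.gr (-a + t + 1)
    rw [show -a + (t : ℤ) + 1 = 1 + (-a + t) by ring]
    exact GrModLib.smul_mem 𝒜 CG.gr hs hv
  have hprop : ∀ s ∈ 𝒜 1, ∃ c ∈ 𝒜 0, s • v = c • r₀ • v := fun s hs => by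
    obtain ⟨c, hc⟩ := GrModLib.exists_smul_of_finrank_lt_two h0 (V := GrLC.comp 𝒜 𝒞 (-a + t + 1))
      (lt_of_not_ge hlt) (w := ⟨r₀ • v, hsmul r₀ hr₀⟩) (fun h => hr₀v (congrArg Subtype.val h)) ⟨s • v, hsmul s hs⟩
    exact ⟨c, c.2, (congrArg Subtype.val hc).symm⟩
  obtain ⟨B, hB⟩ := GrModLib.exists_bot_bound hpos CG
  have hdesc : ∀ i : ℕ, ∃ u ∈ CG.gr (-a + t - i * kn), u ≠ 0 ∧ ∀ s ∈ 𝒜 1, ∃ c ∈ 𝒜 0, s • u = c • r₀ • u := by
    intro i
    induction i with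
    | zero => exact ⟨v, by simpa using hv, hv0, hprop⟩
    | succ i ih =>
      obtain ⟨u, hu, hu0, hup'⟩ := ih
      obtain ⟨u', hu', hu'0, hup''⟩ :=
        GrModLib.descent_step h0 hstd' CG C' ρ hx hxC hρk hgamC' hgamC hr₀ hu hu0 hup'
      refine ⟨u', ?_, hu'0, hup''⟩
      rwa [show -a + (t : ℤ) - ((i + 1 : ℕ) : ℤ) * kn = -a + t - i * kn - kn by push_cast; ring]
  obtain ⟨u, hu, hu0, -⟩ := hdesc ((-a + t - B).toNat + 1)
  refine hu0 (hB _ u ?_ hu)
  have h5 : (1 : ℤ) ≤ kn := by omega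
  have h6 := Int.self_le_toNat (-a + t - B)
  push_cast
  nlinarith

end Groth.Agent.S18657
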