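import Groth.Statements.S1866
import Groth.Agent.AVAmpleLib.Exist
import Groth.Agent.AmpleThLib.ProjA

set_option autoImplicit false
universe u v
open CategoryTheory MonoidalCategory CartesianMonoidalCategory MonObj GrpObj AlgebraicGeometry
open GrpSch

namespace Groth.Agent.S1866

/-- An abelian variety over a field K is projective over K; stated as: there is a closed immersion into
projective n-space over K compatible with the structure morphisms, for some n. -/
theorem result (K : Type u) [Field K] (A : Over (Spec (CommRingCat.of K))) [GrpObj A] [IsProper A.hom] [GeometricallyIntegral A.hom] : ∃ (n : ℕ) (j : A.left ⟶ CohB1.ProjSpace n K), IsClosedImmersion j ∧ j ≫ CohB1.ProjSpace.toSpec n K = A.hom := by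
  obtain ⟨L, hL⟩ := AVAmpleLib.exists_ample A
  obtain ⟨m, r, hr, hrq⟩ := AmpleThLib.exists_closedImmersion A.hom hL.1 hL
  exact ⟨m, r, hr, hrq⟩

end Groth.Agent.S1866
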