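import Groth.Statements.S18662
import Mathlib
import Groth.Agent.GrModLib.Graded

set_option autoImplicit false
universe u
open GrLC

namespace Groth.Agent.S18662

/-- Let R be a graded ring defined over a field, m = R_+, and M a graded R-module satisfying condition
(**): there is a homogeneous f ∈ R_d with d > 0 such that multiplication by f on M is bijective.
Then H^q_m(M) = 0 for every integer q (graded local cohomology, computed from any *injective
resolution of M in the graded category). Here 'graded ring defined over a field' means R = ⊕_{n ≥ 0}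
R_n is Noetherian with R_0 a field, and m = R_+ is its unique graded maximal ideal. -/
theorem result (R : Type u) [CommRing R] [IsNoetherianRing R] (𝒜 : ℤ → AddSubgroup R) [GradedRing 𝒜] (hpos : ∀ n : ℤ, n < 0 → 𝒜 n = ⊥) (h0 : IsField (GrLC.deg0 𝒜)) (m : HomogeneousIdeal 𝒜) (hm : GrLC.IsStarLocal 𝒜 m) (hmsp : m.toIdeal = Ideal.span (⋃ n ∈ Set.Ioi (0 : ℤ), (𝒜 n : Set R))) (M : Type u) [AddCommGroup M] [Module R M] (ℳ : ℤ → AddSubgroup M) [DirectSum.Decomposition ℳ] [SetLike.GradedSMul 𝒜 ℳ] (d : ℤ) (hd : 0 < d) (f : R) (hf : f ∈ 𝒜 d) (hbij : Function.Bijective (fun x : M => f • x)) (E : GrLC.StarInjRes 𝒜 ℳ) (q : ℕ) : Subsingleton (E.H m q) := by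
  obtain ⟨e⟩ := GrModLib.nonempty_H_equiv E m q
  have hfm : f ∈ m.toIdeal := by
    rw [hmsp]; exact Ideal.subset_span (Set.mem_iUnion₂.2 ⟨d, hd, hf⟩)
  let F : ModuleCat.of R M ≅ ModuleCat.of R M :=
    (LinearEquiv.ofBijective (f • LinearMap.id : M →ₗ[R] M) hbij).toModuleIso
  have hbij' : Function.Injective fun y : LocCoh.H m.toIdeal q M => f • y := by
    have h1 : ((localCohomology m.toIdeal q).mapIso F).hom = f • CategoryTheory.CategoryStruct.id _ :=
      LocCohLib.map_smul_id m.toIdeal f q (ModuleCat.of R M)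
    intro y z hyz
    refine (((localCohomology m.toIdeal q).mapIso F).toLinearEquiv).injective ?_
    have h2 : ∀ w, ((localCohomology m.toIdeal q).mapIso F).toLinearEquiv w = f • w := fun w =>
      congrArg (fun φ : (localCohomology m.toIdeal q).obj (ModuleCat.of R M) ⟶ (localCohomology m.toIdeal q).obj (ModuleCat.of R M) => φ.hom w) h1
    rw [h2, h2]; exact hyz
  refine @Function.Injective.subsingleton _ _ _ e.injective (subsingleton_of_forall_eq 0 fun y => ?_)
  obtain ⟨n, hn⟩ := LocCohLib.isPowerTorsion_H m.toIdeal q M y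
  have key : ∀ (k : ℕ) (w : LocCoh.H m.toIdeal q M), f ^ k • w = 0 → w = 0 := by
    intro k
    induction k with
    | zero => intro w hw; rwa [pow_zero, one_smul] at hw
    | succ k ih =>
      intro w hw
      rw [pow_succ, mul_smul] at hw
      exact hbij' (show f • w = f • (0 : LocCoh.H m.toIdeal q M) by rw [ih _ hw, smul_zero])
  exact key n y (hn _ (Ideal.pow_mem_pow hfm n))

end Groth.Agent.S18662
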