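import Groth.Statements.S18664
import Mathlib
import Groth.Agent.SegreLC.DimOne

set_option autoImplicit false
universe u
open scoped TensorProduct
open GrSegre

namespace Groth.Agent.S18664

/-- Let R and S be standard graded rings defined over a field k which are Cohen–Macaulay, with dim R = 1
and dim S ≥ 2. Then the Segre product T = R # S is a Cohen–Macaulay ring if and only if R is a
polynomial ring over k (in one variable). Here a graded ring defined over k is a commutative
k-algebra of finite type, graded in nonnegative degrees by k-subspaces with degree-zero part k·1,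
standard graded when its irrelevant ideal is generated by the degree-one piece; the Segre product T
= ⊕_n R_n ⊗_k S_n is presented abstractly as a graded k-algebra T with an injective k-algebra
homomorphism ψ : T → R ⊗_k S carrying T_n onto the k-span of the elementary tensors a ⊗ b with a ∈
R_n, b ∈ S_n. -/
theorem result (k : Type u) [Field k] (R : Type u) [CommRing R] [Algebra k R] (𝒜 : ℤ → Submodule k R) [GradedAlgebra 𝒜] (hposR : ∀ n : ℤ, n < 0 → 𝒜 n = ⊥) (h0R : 𝒜 0 = Submodule.span k {(1 : R)}) [Algebra.FiniteType k R] (S : Type u) [CommRing S] [Algebra k S] (ℬ : ℤ → Submodule k S) [GradedAlgebra ℬ] (hposS : ∀ n : ℤ, n < 0 → ℬ n = ⊥) (h0S : ℬ 0 = Submodule.span k {(1 : S)}) [Algebra.FiniteType k S] (T : Type u) [CommRing T] [Algebra k T] (𝒯 : ℤ → Submodule k T) [GradedAlgebra 𝒯] (ψ : T →ₐ[k] TensorProduct k R S) (hψ : Function.Injective ψ) (hdegT : ∀ n : ℤ, (𝒯 n).map ψ.toLinearMap = Submodule.span k {x : TensorProduct k R S | ∃ a ∈ 𝒜 n, ∃ b ∈ ℬ n, x = a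 ⊗ₜ[k] b}) [LocCoh.IsCohenMacaulayRing R] [LocCoh.IsCohenMacaulayRing S] (hstdR : Ideal.span (⋃ n ∈ Set.Ioi (0 : ℤ), (𝒜 n : Set R)) = Ideal.span ((𝒜 1 : Submodule k R) : Set R)) (hstdS : Ideal.span (⋃ n ∈ Set.Ioi (0 : ℤ), (ℬ n : Set S)) = Ideal.span ((ℬ 1 : Submodule k S) : Set S)) (hr : ringKrullDim R = 1) (hs : 2 ≤ ringKrullDim S) : LocCoh.IsCohenMacaulayRing T ↔ Nonempty (R ≃ₐ[k] Polynomial k) := by
  have hT : GrSeg.IsSegreRing 𝒜 ℬ 𝒯 ψ := ⟨hψ, hdegT⟩
  haveI : IsNoetherianRing R := Algebra.FiniteType.isNoetherianRing k R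
  haveI : IsNoetherianRing S := Algebra.FiniteType.isNoetherianRing k S
  haveI : Nontrivial R := not_subsingleton_iff_nontrivial.1 fun _ => by
    rw [ringKrullDim_eq_bot_of_subsingleton] at hr; exact WithBot.bot_ne_coe hr
  haveI : Nontrivial S := not_subsingleton_iff_nontrivial.1 fun _ => by
    rw [ringKrullDim_eq_bot_of_subsingleton] at hs; exact absurd hs (by simp)
  haveI := SegreLC.isNoetherianRing_T hT
  haveI := SegreLC.nontrivial_T hT
  have hmR : (SegreLC.posIdeal' 𝒜).toIdeal = Ideal.span (⋃ n ∈ Set.Ioi (0 : ℤ), (𝒜 n : Set R)) := rfl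
  have hmS : (SegreLC.posIdeal' ℬ).toIdeal = Ideal.span (⋃ n ∈ Set.Ioi (0 : ℤ), (ℬ n : Set S)) := rfl
  haveI := SegreLC.isMaximal_pos hposS h0S hmS
  obtain ⟨s, hs'⟩ := SegreLC.exists_supportDim_eq (𝒜 := GrModLib.toAdd ℬ) (GrModLib.toAdd ℬ)
    (m := GrModLib.toAddIdeal (SegreLC.posIdeal' ℬ)) (SegreLC.le_pos hposS h0S hmS)
  have hsd : ringKrullDim S = (s : WithBot ℕ∞) := (Module.supportDim_self_eq_ringKrullDim (R := S)).symm.trans hs'
  obtain ⟨s, rfl⟩ : ∃ s', s = s' + 2 := ⟨s - 2, by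
    rw [hsd] at hs
    have : 2 ≤ s := by exact_mod_cast hs
    omega⟩
  obtain ⟨E⟩ := GrModLib.nonempty_resG (SegreLC.ofG 𝒜 R 𝒜)
  have key := SegreLC.cm_segre_one hmR hT hposR h0R hposS h0S (SegreLC.isSegreMod_self hT) (s := s + 1)
    ((Module.supportDim_self_eq_ringKrullDim (R := R)).trans hr) hs'
    ((SegreLC.isCMMod_self_iff R).2 inferInstance) ((SegreLC.isCMMod_self_iff S).2 inferInstance) E
  rw [SegreLC.isCMMod_self_iff T] at key
  simp only [Nat.le_add_left, forall_const, ← SegreLC.submodule_eq_bot_iff] at key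
  have hS0 : ∀ n : ℤ, 0 ≤ n → ℬ n ≠ ⊥ := fun n hn => SegreLC.piece_ne_bot (r := s + 1) hposS h0S hstdS hsd hn
  rw [key]
  constructor
  · intro h
    obtain ⟨D, x, hD, hx, hxr⟩ := SegreLC.exists_regular_one hposR h0R hr inferInstance
    exact SegreLC.nonempty_polynomial hposR h0R hstdR hD hx hxr ((SegreLC.subsingleton_H_one_iff hposR h0R hmR
      hD hx hxr hr E).1 fun n hn => (h n).resolve_right (hS0 n hn))
  · rintro ⟨e⟩ d
    rcases lt_or_ge d 0 with hd | hd
    · exact .inr (hposS d hd)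
    refine .inl ?_
    haveI : IsDomain R := e.toMulEquiv.isDomain
    obtain ⟨z, hz, hlin⟩ := SegreLC.onto_of_polynomial hposR h0R e
    have hz0 : z ≠ 0 := fun h => SegreLC.piece_ne_bot (r := 0) hposR h0R hstdR hr (n := 1) zero_le_one
      ((Submodule.eq_bot_iff _).2 fun a ha => by
        obtain ⟨c, rfl⟩ := hlin a ha
        rw [h, smul_zero])
    exact (SegreLC.subsingleton_H_one_iff hposR h0R hmR (D := 1) one_pos (by simpa using hz)
      (IsSMulRegular.of_ne_zero hz0) hr E).2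
      (fun n hn a ha => SegreLC.onto_of_linear hposR h0R hstdR hz hlin n hn ha) d hd

end Groth.Agent.S18664
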