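import Groth.Statements.S18666
import Groth.Agent.VeroProjLib.Laurent

set_option autoImplicit false
set_option backward.isDefEq.respectTransparency false
set_option backward.isDefEq.respectTransparency.types false
universe u
open GrProj

namespace Groth.Agent.S18666

open AlgebraicGeometry Pointwise in
/-- Let A = ⊕_{n ≥ 0} A_n be a commutative Noetherian graded ring satisfying condition (#) — there is an
integer d_0 such that for every d ≥ d_0 the Veronese subring A^(d) is generated by A_d over A_0,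
equivalently A_{(n+1)d} is additively generated by the products A_d A_{nd} for every n ≥ 1 — and
assume A is a Gorenstein ring. Then X = Proj A is a Gorenstein scheme: all of its local rings are
Gorenstein local rings. (The Cohen–Macaulay case of the same lemma is stated separately.) -/
theorem result (A : Type u) [CommRing A] (𝒜 : ℕ → AddSubgroup A) [GradedRing 𝒜] [LocCoh.IsGorensteinRing A] (hsharp : ∃ d₀ : ℕ, ∀ d : ℕ, d₀ ≤ d → ∀ n : ℕ, 1 ≤ n → 𝒜 ((n + 1) * d) = AddSubgroup.closure ((𝒜 d : Set A) * (𝒜 (n * d) : Set A))) (x : Proj 𝒜) : LocCoh.IsGorensteinLocalRing ((Proj 𝒜).presheaf.stalk x) := by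
  classical
  let p := x.asHomogeneousIdeal.toIdeal
  haveI : p.IsPrime := x.isPrime
  obtain ⟨d₀, hd₀⟩ := hsharp
  -- a homogeneous element of positive degree outside `p`
  obtain ⟨e, a, he, ha, hap⟩ : ∃ (e : ℕ) (a : A), 0 < e ∧ a ∈ 𝒜 e ∧ a ∉ p := by
    by_contra hcon
    push Not at hcon
    refine x.not_irrelevant_le fun y hy => ?_
    show y ∈ p
    rw [← DirectSum.sum_support_decompose 𝒜 y]
    refine p.sum_mem fun i _ => ?_
    rcases Nat.eq_zero_or_pos i with rfl | hi
    · have h0 : (DirectSum.decompose 𝒜 y 0 : A) = 0 := by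
        have := (HomogeneousIdeal.mem_irrelevant_iff 𝒜 y).1 hy
        rwa [GradedRing.proj_apply] at this
      rw [h0]; exact p.zero_mem
    · exact hcon i _ hi (SetLike.coe_mem _)
  let d := (d₀ + 1) * e
  have hdd : d₀ ≤ d := le_trans (Nat.le_succ d₀) (Nat.le_mul_of_pos_right _ he)
  have hf : a ^ (d₀ + 1) ∈ 𝒜 d := by
    have := SetLike.pow_mem_graded (d₀ + 1) ha
    rwa [smul_eq_mul] at this
  have hfp : a ^ (d₀ + 1) ∉ p := fun h => hap (Ideal.IsPrime.mem_of_pow_mem ‹_› _ h)
  obtain ⟨g, hg, hgp⟩ : ∃ g ∈ 𝒜 (d + 1), g ∉ p := by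
    by_contra hcon
    push Not at hcon
    have h1 : a ^ (2 * (d + 1)) ∈ 𝒜 ((2 * e - 1 + 1) * (d + 1)) := by
      have := SetLike.pow_mem_graded (2 * (d + 1)) ha
      rwa [smul_eq_mul, show 2 * (d + 1) * e = (2 * e - 1 + 1) * (d + 1) by
        rw [Nat.sub_add_cancel (by omega : 1 ≤ 2 * e)]; ring] at this
    rw [hd₀ (d + 1) (by omega) (2 * e - 1) (by omega)] at h1
    refine hap (Ideal.IsPrime.mem_of_pow_mem ‹_› (2 * (d + 1))
      ((AddSubgroup.closure_le (K := p.toAddSubgroup)).2 ?_ h1))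
    rintro _ ⟨y, hy, z, -, rfl⟩
    exact p.mul_mem_right z (hcon y hy)
  haveI : IsNoetherianRing A := inferInstance
  exact GorLib.gorenstein_of_ringEquiv (AlgebraicGeometry.Proj.stalkIso 𝒜 x).commRingCatIsoToRingEquiv
    (VeroProjLib.gorenstein_atPrime 𝒜 p (a ^ (d₀ + 1)) g hf hg hfp hgp
      (LocCoh.IsGorensteinRing.isGorensteinLocalRing_localization p))
end Groth.Agent.S18666
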