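import Groth.Statements.S18671
import Mathlib
import Groth.Agent.GrModLib.VerLC

set_option autoImplicit false
universe u
open GrLC

namespace Groth.Agent.S18671

/-- Let R be a graded ring defined over a field, q ≥ 1, R' = R^(q) its Veronese subring with m' = R'_+,
and M a graded R-module with Veronese submodule M^(q) = ⊕_j M_{jq}, a graded R'-module. Then
H^p_{m'}(M^(q)) ≅ (H^p_m(M))^(q) for every p. Stated here, for M finitely generated, as the equality
of dimensions dim H^p_{m'}(M^(q))_j = dim H^p_m(M)_{jq} over the degree-zero fields R'_0 ≅ R_0, for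
all p and j (the published isomorphism is one of graded R'-modules; all these pieces are
finite-dimensional). Here 'graded ring defined over a field' means R = ⊕_{n ≥ 0} R_n is Noetherian
with R_0 a field, and m = R_+ is its unique graded maximal ideal. The graded local cohomologies are
computed from *injective resolutions in the respective graded categories; the Veronese subring R^(q)
= ⊕_j R_{jq}, regraded by (R^(q))_j = R_{jq}, is presented abstractly as a ℤ-graded ring R' with an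
injective ring homomorphism φ : R' → R carrying R'_j onto R_{jq} for every j. The module M^(q) is
presented as a graded R'-module M' with an injective additive map g : M' → M, semilinear over φ,
carrying M'_j onto M_{jq} for every j. -/
theorem result (R : Type u) [CommRing R] [IsNoetherianRing R] (𝒜 : ℤ → AddSubgroup R) [GradedRing 𝒜] (hpos : ∀ n : ℤ, n < 0 → 𝒜 n = ⊥) (h0 : IsField (GrLC.deg0 𝒜)) (m : HomogeneousIdeal 𝒜) (hm : GrLC.IsStarLocal 𝒜 m) (hmsp : m.toIdeal = Ideal.span (⋃ n ∈ Set.Ioi (0 : ℤ), (𝒜 n : Set R))) (M : Type u) [AddCommGroup M] [Module R M] (ℳ : ℤ → AddSubgroup M) [DirectSum.Decomposition ℳ] [SetLike.GradedSMul 𝒜 ℳ] [Module.Finite R M] (E : GrLC.StarInjRes 𝒜 ℳ) (q : ℕ) (hq : 0 < q) (R' : Type u) [CommRing R'] (𝒜' : ℤ → AddSubgroup R') [GradedRing 𝒜'] (φ : R' →+* R) (hφ : Function.Injective φ) (hdeg : ∀ j : ℤ, (𝒜' j).map (φ : R' →+ R) = 𝒜 (j * q)) (m' : HomogeneousIdeal 𝒜') (hm' : GrLC.IsStarLocal 𝒜' m') (hm'sp : m'.toIdeal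 = Ideal.span (⋃ j ∈ Set.Ioi (0 : ℤ), (𝒜' j : Set R'))) (M' : Type u) [AddCommGroup M'] [Module R' M'] (ℳ' : ℤ → AddSubgroup M') [DirectSum.Decomposition ℳ'] [SetLike.GradedSMul 𝒜' ℳ'] (g : M' →ₛₗ[φ] M) (hg : Function.Injective g) (hgdeg : ∀ j : ℤ, (ℳ' j).map (g : M' →+ M) = ℳ (j * q)) (F : GrLC.StarInjRes 𝒜' ℳ') (p : ℕ) (j : ℤ) : Module.finrank (GrLC.deg0 𝒜') (F.Hcomp m' p j) = Module.finrank (GrLC.deg0 𝒜) (E.Hcomp m p (j * q)) := by
  obtain rfl : m = GrModLib.posIdeal 𝒜 := HomogeneousIdeal.ext hmsp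
  obtain rfl : m' = GrModLib.posIdeal 𝒜' := HomogeneousIdeal.ext hm'sp
  have hV : GrModLib.IsVer 𝒜 𝒜' φ q := ⟨hq, hφ, hdeg⟩
  obtain ⟨Φ, hΦi, hΦs, hΦj⟩ := GrModLib.exists_verH hV (GrLC.GMod.of 𝒜 M ℳ) (GrLC.GMod.of 𝒜' M' ℳ') g hg hgdeg E F p
  obtain ⟨e, he⟩ := hV.bijective_deg0
  let T := F.Hcomp (GrModLib.posIdeal 𝒜') p j
  let S := E.Hcomp (GrModLib.posIdeal 𝒜) p (j * q)
  have hmem : ∀ x : T, Φ x.1 ∈ S := fun x => (hΦj j).le ⟨x.1, x.2, rfl⟩
  let f : T →+ S :=
    { toFun := fun x => ⟨Φ x.1, hmem x⟩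
      map_zero' := Subtype.ext (map_zero Φ)
      map_add' := fun x y => Subtype.ext (map_add Φ x.1 y.1) }
  have hf : Function.Bijective f := by
    refine ⟨fun x y h => Subtype.ext (hΦi (congrArg Subtype.val h)), fun y => ?_⟩
    obtain ⟨x, hx, hxy⟩ := (hΦj j).ge y.2
    exact ⟨⟨x, hx⟩, Subtype.ext hxy⟩
  refine congrArg Cardinal.toNat (rank_eq_of_equiv_equiv (R := GrLC.deg0 𝒜') (R' := GrLC.deg0 𝒜) (M := T) (M₁ := S)
    (fun r => e r) (AddEquiv.ofBijective f hf) e.bijective fun r x => Subtype.ext ?_)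
  show Φ ((r : R') • x.1) = (e r : R) • Φ x.1
  rw [he]
  exact hΦs (r : R') x.1

end Groth.Agent.S18671
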