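import Groth.Statements.S18672
import Mathlib.RingTheory.GradedAlgebra.Basic

set_option autoImplicit false
universe u
open GrLC

namespace Groth.Agent.S18672

/-- Let R be a graded ring defined over a field k = R_0 which is Cohen–Macaulay and generated over k by
R_1 (the standing hypotheses of this section; only generation in degree one is used), q ≥ 1, R' =
R^(q), and a an integer. Then the Veronese submodule [R(a)]^(q) = ⊕_j R_{a+jq} is generated over R'
by its piece R(a)_n = R_{a+n}, where n is the smallest multiple of q with n + a ≥ 0. Here 'graded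
ring defined over a field' means R = ⊕_{n ≥ 0} R_n is Noetherian with R_0 a field, and m = R_+ is
its unique graded maximal ideal. The Veronese subring R^(q) = ⊕_j R_{jq}, regraded by (R^(q))_j =
R_{jq}, is presented abstractly as a ℤ-graded ring R' with an injective ring homomorphism φ : R' → R
carrying R'_j onto R_{jq} for every j. The module [R(a)]^(q) is presented as a graded R'-module M'
with an injective additive map g : M' → R, semilinear over φ, carrying M'_j onto R_{a+jq} for every
j; with n = j₀q, the conclusion is that the R'-span of M'_{j₀} is all of M'. -/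
theorem result (R : Type u) [CommRing R] [LocCoh.IsCohenMacaulayRing R] (𝒜 : ℤ → AddSubgroup R) [GradedRing 𝒜] (hpos : ∀ n : ℤ, n < 0 → 𝒜 n = ⊥) (h0 : IsField (GrLC.deg0 𝒜)) (hstd : Ideal.span (⋃ n ∈ Set.Ioi (0 : ℤ), (𝒜 n : Set R)) = Ideal.span ((𝒜 1 : AddSubgroup R) : Set R)) (q : ℕ) (hq : 0 < q) (R' : Type u) [CommRing R'] (𝒜' : ℤ → AddSubgroup R') [GradedRing 𝒜'] (φ : R' →+* R) (hφ : Function.Injective φ) (hdeg : ∀ j : ℤ, (𝒜' j).map (φ : R' →+ R) = 𝒜 (j * q)) (a : ℤ) (M' : Type u) [AddCommGroup M'] [Module R' M'] (ℳ' : ℤ → AddSubgroup M') [DirectSum.Decomposition ℳ'] [SetLike.GradedSMul 𝒜' ℳ'] (g : M' →ₛₗ[φ] R) (hg : Function.Injective g) (hgdeg : ∀ j : ℤ, (ℳ' j).map (g : M' →+ R) = 𝒜 (a + j * q)) (j₀ : ℤ) (hj₀ : 0 ≤ a + j₀ * q) (hj₀' : a + (j₀ - 1) * q < 0) : Submodule.span R' ((ℳ' j₀ : AddSubgroup M') : Set M') = ⊤ := by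
  classical
  -- products of pieces
  let P : ℤ → ℤ → AddSubgroup R := fun u v => AddSubgroup.closure {z | ∃ b ∈ 𝒜 u, ∃ c ∈ 𝒜 v, z = b * c}
  have hone : ∀ n : ℤ, 0 < n → 𝒜 n ≤ P (n - 1) 1 := by
    intro n hn z hz
    have h1 : z ∈ Submodule.span R ((𝒜 1 : AddSubgroup R) : Set R) := by
      change z ∈ Ideal.span ((𝒜 1 : AddSubgroup R) : Set R)
      rw [← hstd]
      exact Ideal.subset_span (Set.mem_biUnion (Set.mem_Ioi.2 hn) hz)
    have h2 : ∀ y ∈ Submodule.span R ((𝒜 1 : AddSubgroup R) : Set R), ((DirectSum.decompose 𝒜 y n : 𝒜 n) : R) ∈ P (n - 1) 1 := by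
      intro y hy
      induction hy using Submodule.closure_induction with
      | zero => simp
      | add s t _ _ hs ht => rw [DirectSum.decompose_add, DirectSum.add_apply, AddSubgroup.coe_add]; exact add_mem hs ht
      | smul_mem r b hb =>
        rw [smul_eq_mul]
        induction r using DirectSum.Decomposition.inductionOn 𝒜 with
        | zero => simp
        | @homogeneous i c =>
          by_cases hi : i + 1 = n
          · subst hi
            rw [DirectSum.decompose_of_mem_same 𝒜 (SetLike.mul_mem_graded c.2 hb), show i + 1 - 1 = i by ring]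
            exact AddSubgroup.subset_closure ⟨c, c.2, b, hb, rfl⟩
          · rw [DirectSum.decompose_of_mem_ne 𝒜 (SetLike.mul_mem_graded c.2 hb) hi]
            exact zero_mem _
        | add s t hs ht => rw [add_mul, DirectSum.decompose_add, DirectSum.add_apply, AddSubgroup.coe_add]; exact add_mem hs ht
    have h3 := h2 z h1
    rwa [DirectSum.decompose_of_mem_same 𝒜 hz] at h3
  have hmul : ∀ (v : ℕ) (u : ℤ), 0 ≤ u → 𝒜 (u + v) ≤ P u v := by
    intro v
    induction v with
    | zero =>
      intro u hu z hz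
      rw [Nat.cast_zero, add_zero] at hz
      exact AddSubgroup.subset_closure ⟨z, hz, 1, by rw [Nat.cast_zero]; exact SetLike.GradedOne.one_mem, (mul_one z).symm⟩
    | succ v ih =>
      intro u hu z hz
      push_cast at hz ⊢
      rw [← add_assoc] at hz
      have h1 := hone _ (by omega) hz
      rw [show u + v + 1 - 1 = u + v by ring] at h1
      refine AddSubgroup.closure_le _ |>.2 ?_ h1
      rintro _ ⟨b, hb, c, hc, rfl⟩
      refine AddSubgroup.closure_induction (fun w hw => ?_) (by simp) (fun s t _ _ hs ht => by rw [add_mul]; exact add_mem hs ht)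
        (fun s _ hs => by rw [neg_mul]; exact neg_mem hs) (ih u hu hb)
      obtain ⟨b', hb', c', hc', rfl⟩ := hw
      exact AddSubgroup.subset_closure ⟨b', hb', c' * c, SetLike.mul_mem_graded hc' hc, mul_assoc _ _ _⟩
  refine Submodule.eq_top_iff'.2 fun x => ?_
  induction x using DirectSum.Decomposition.inductionOn ℳ' with
  | zero => exact zero_mem _
  | add s t hs ht => exact add_mem hs ht
  | @homogeneous j m =>
    have hgm : g (m : M') ∈ 𝒜 (a + j * q) := by rw [← hgdeg]; exact ⟨m, m.2, rfl⟩
    rcases lt_or_ge (a + j * q) 0 with hlt | hge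
    · have h1 : g (m : M') = 0 := by simpa [hpos _ hlt] using hgm
      rw [hg (h1.trans (map_zero g).symm)]
      exact zero_mem _
    · have hj : j₀ ≤ j := by nlinarith
      obtain ⟨k, rfl⟩ : ∃ k : ℕ, j = j₀ + k := ⟨(j - j₀).toNat, by omega⟩
      rw [show a + (j₀ + (k : ℤ)) * q = (a + j₀ * q) + ((k * q : ℕ) : ℤ) by push_cast; ring] at hgm
      have h1 := hmul (k * q) _ hj₀ hgm
      have h2 : P (a + j₀ * q) ((k * q : ℕ) : ℤ) ≤ (Submodule.span R' ((ℳ' j₀ : AddSubgroup M') : Set M')).toAddSubgroup.map (g : M' →+ R) := by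
        refine (AddSubgroup.closure_le _).2 ?_
        rintro _ ⟨b, hb, c, hc, rfl⟩
        rw [← hgdeg] at hb
        obtain ⟨mb, hmb, rfl⟩ := hb
        rw [Nat.cast_mul, ← hdeg] at hc
        obtain ⟨rc, -, rfl⟩ := hc
        refine ⟨rc • mb, Submodule.smul_mem _ rc (Submodule.subset_span hmb), ?_⟩
        show g (rc • mb) = g mb * φ rc
        rw [map_smulₛₗ, smul_eq_mul, mul_comm]
      obtain ⟨y, hy, hgy⟩ := h2 h1
      rw [← hg hgy]
      exact hy

end Groth.Agent.S18672
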