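import Groth.Statements.S1868
import Mathlib
import Groth.Agent.CycPushLib.FiniteLen
import Groth.Agent.WeightLib.Pts
-- import your own Groth.Agent.* helpers here

set_option autoImplicit false
universe u
open CategoryTheory AlgebraicGeometry
open Cyc

namespace Groth.Agent.S1868

/-- Let f : X → Y be finite locally free of constant degree d (finite, flat, rank function constantly
d). Then f has relative dimension 0 and for every k-cycle α on Y, f_*(f^*α) = d·α (for any cycle
f^*α on X with the flat-pullback coefficients). Here a pair (X, δ) with Cyc.IsSetup plays the role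
of a scheme locally of finite type over a fixed base with a dimension function (X locally Noetherian
with universally catenary local rings, δ a dimension function), and Cyc.DeltaCompat records that the
dimension function upstairs is the induced one. -/
theorem result (X Y : Scheme.{u}) (δX : X → ℤ) (δY : Y → ℤ) (hX : Cyc.IsSetup X δX) (hY : Cyc.IsSetup Y δY) (f : X ⟶ Y) [IsFinite f] [Flat f] (d : ℕ) (hd : ∀ y : Y, f.finrank y = d) (hδ : Cyc.DeltaCompat f δX δY) (k : ℤ) : Cyc.HasRelDim f 0 ∧ ∀ (α : AlgebraicCycle Y ℤ), α ∈ Cyc.Zk Y δY k → ∀ α' : AlgebraicCycle X ℤ, ⇑α' = Cyc.pullFun f δX δY 0 ⇑α → AlgebraicCycle.map f δX δY α' = d • α := by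
      classical
      haveI := hX.1
      haveI := hY.1
      refine ⟨fun y T hT => ?_, fun α _ α' hα' => ?_⟩
      · have hd : _root_.IsDiscrete (f ⁻¹' {y}) := f.isDiscrete_preimage_singleton y
        haveI : DiscreteTopology (f ⁻¹' {y}) := hd.1
        haveI : DiscreteTopology ↥(f.fiber y) := (f.fiberHomeo y).symm.discreteTopology
        obtain ⟨x, hx⟩ := hT.1.1
        have hTx : T = {x} := by
          refine Set.eq_singleton_iff_unique_mem.2 ⟨hx, fun z hz => ?_⟩
          by_contra hne
          obtain ⟨w, -, hw1, hw2⟩ := hT.1.2 {x} {z} (isOpen_discrete _) (isOpen_discrete _) ⟨x, hx, rfl⟩ ⟨z, hz, rfl⟩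
          exact hne (hw2.symm.trans hw1)
        subst hTx
        rw [Nat.cast_zero]
        haveI : DiscreteTopology ({x} : Set ↥(f.fiber y)) := inferInstance
        haveI : Nonempty (TopologicalSpace.IrreducibleCloseds ({x} : Set ↥(f.fiber y))) :=
          ⟨⟨{⟨x, rfl⟩}, isIrreducible_singleton, isClosed_discrete _⟩⟩
        exact le_antisymm (topologicalKrullDim_zero_of_discreteTopology ({x} : Set ↥(f.fiber y)))
          Order.krullDim_nonneg
      have hdel : ∀ x : X, δX x = δY (f x) := fun x => by
        obtain ⟨n, hn, hn'⟩ := hδ x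
        letI := (f.residueFieldMap x).hom.toAlgebra
        haveI : Module.Finite (Y.residueField (f x)) (X.residueField x) := WeightLib.finite_residueFieldMap f x
        have h0 : Algebra.trdeg (Y.residueField (f x)) (X.residueField x) = 0 := trdeg_eq_zero
        rw [h0, eq_comm, Nat.cast_eq_zero] at hn
        omega
      ext y
      obtain ⟨hfin, -, hsum⟩ := CycPushLib.finrank_eq_sum f y
      show ∑ᶠ x ∈ f ⁻¹' {y}, α' x * ((AlgebraicCycle.mapCoeff f δX δY x : ℕ) : ℤ) = (d • α) y
      rw [show (d • α) y = (d : ℤ) * α y from nsmul_eq_mul _ _, ← hd y, hsum, finsum_mem_mul]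
      refine finsum_mem_congr rfl fun x hx => ?_
      rw [hα', AlgebraicCycle.mapCoeff, if_pos (hdel x)]
      simp only [Cyc.pullFun]
      rw [if_pos (by rw [hdel x, add_zero])]
      subst hx
      show _ * _ * _ = _
      ring

end Groth.Agent.S1868
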