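import Groth.Statements.S18694
import Groth.Prelude.Def_GmPts
import Mathlib.RingTheory.Ideal.GoingUp

set_option autoImplicit false
set_option backward.isDefEq.respectTransparency false
set_option backward.isDefEq.respectTransparency.types false
open CategoryTheory MonoidalCategory CartesianMonoidalCategory MonObj GrpObj AlgebraicGeometry
universe u
open MultTori

namespace Groth.Agent.S18694

open CategoryTheory.Limits
open scoped TensorProduct

theorem exists_unit_lift {A B : Type u} [CommRing A] [Finite (MaximalSpectrum A)] [CommRing B] [Algebra A B]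
    [Module.Finite A B] (v : ∀ m : MaximalSpectrum A, ((A ⧸ m.asIdeal) ⊗[A] B)ˣ) :
    ∃ b : Bˣ, ∀ m : MaximalSpectrum A,
      Algebra.TensorProduct.includeRight (R := A) (A := A ⧸ m.asIdeal) (b : B) = (v m : (A ⧸ m.asIdeal) ⊗[A] B) := by
  classical
  letI := Fintype.ofFinite (MaximalSpectrum A)
  have hcop : Pairwise (Function.onFun IsCoprime fun m : MaximalSpectrum A => m.asIdeal) := fun m n hmn =>
    Ideal.isCoprime_iff_sup_eq.2 (Ideal.IsMaximal.coprime_of_ne m.isMaximal n.isMaximal
      fun h => hmn (MaximalSpectrum.ext h))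
  have he : ∀ n : MaximalSpectrum A, ∃ e : A, ∀ m : MaximalSpectrum A,
      Ideal.Quotient.mk m.asIdeal e = if m = n then 1 else 0 := fun n => by
    obtain ⟨e, he⟩ := Ideal.quotientInfToPiQuotient_surj hcop (fun m => if m = n then 1 else 0)
    obtain ⟨e, rfl⟩ := Ideal.Quotient.mk_surjective e
    exact ⟨e, fun m => congrFun he m⟩
  choose e he using he
  have hr : ∀ (m : MaximalSpectrum A) (x : (A ⧸ m.asIdeal) ⊗[A] B),
      ∃ b : B, Algebra.TensorProduct.includeRight (R := A) (A := A ⧸ m.asIdeal) b = x := fun m x => by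
    induction x with
    | zero => exact ⟨0, map_zero _⟩
    | tmul q b =>
      obtain ⟨a, rfl⟩ := Ideal.Quotient.mk_surjective q
      refine ⟨a • b, ?_⟩
      rw [Algebra.TensorProduct.includeRight_apply, TensorProduct.tmul_smul, TensorProduct.smul_tmul']
      congr 1
      rw [Algebra.smul_def, _root_.mul_one]
      rfl
    | add x y hx hy =>
      obtain ⟨a, rfl⟩ := hx
      obtain ⟨b, rfl⟩ := hy
      exact ⟨a + b, map_add _ _ _⟩
  have hlift : ∀ w : ∀ m : MaximalSpectrum A, (A ⧸ m.asIdeal) ⊗[A] B, ∃ b : B, ∀ m : MaximalSpectrum A,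
      Algebra.TensorProduct.includeRight (R := A) (A := A ⧸ m.asIdeal) b = w m := fun w => by
    choose c hc using fun m => hr m (w m)
    refine ⟨∑ n, e n • c n, fun m => ?_⟩
    rw [map_sum, Finset.sum_eq_single m]
    · rw [map_smul, ← hc m, Algebra.smul_def]
      have : algebraMap A ((A ⧸ m.asIdeal) ⊗[A] B) (e m) = 1 := by
        rw [IsScalarTower.algebraMap_apply A (A ⧸ m.asIdeal) ((A ⧸ m.asIdeal) ⊗[A] B),
          Ideal.Quotient.algebraMap_eq, he m m, if_pos rfl, map_one]
      rw [this, _root_.one_mul]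
    · intro n _ hn
      rw [map_smul, Algebra.smul_def, IsScalarTower.algebraMap_apply A (A ⧸ m.asIdeal) ((A ⧸ m.asIdeal) ⊗[A] B),
          Ideal.Quotient.algebraMap_eq, he n m, if_neg (Ne.symm hn), map_zero, zero_mul]
    · simp
  obtain ⟨b, hb⟩ := hlift fun m => (v m : (A ⧸ m.asIdeal) ⊗[A] B)
  obtain ⟨c, hc⟩ := hlift fun m => ((v m)⁻¹ : ((A ⧸ m.asIdeal) ⊗[A] B)ˣ)
  have hbc : IsUnit (b * c) := by
    by_contra hu
    obtain ⟨M, hM, hmem⟩ := exists_max_ideal_of_mem_nonunits hu
    haveI := hM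
    let m : MaximalSpectrum A := ⟨M.comap (algebraMap A B), Ideal.isMaximal_comap_of_isIntegral_of_isMaximal M⟩
    let f : (A ⧸ m.asIdeal) ⊗[A] B →ₐ[A] B ⧸ M := Algebra.TensorProduct.productMap
      (Ideal.Quotient.liftₐ m.asIdeal (Algebra.ofId A (B ⧸ M)) fun a ha => by
        show Ideal.Quotient.mk M (algebraMap A B a) = 0
        exact Ideal.Quotient.eq_zero_iff_mem.2 ha)
      (Ideal.Quotient.mkₐ A M)
    have h1 : Algebra.TensorProduct.includeRight (R := A) (A := A ⧸ m.asIdeal) (b * c) = 1 := by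
      rw [map_mul, hb, hc]
      exact Units.mul_inv _
    have h2 : Ideal.Quotient.mk M (b * c) = 1 := by
      rw [← map_one f, ← h1, Algebra.TensorProduct.includeRight_apply]
      simp [f]
    rw [Ideal.Quotient.eq_zero_iff_mem.2 hmem] at h2
    exact zero_ne_one h2
  exact ⟨(isUnit_of_mul_isUnit_left hbc).unit, hb⟩


/-- In the case of the quasitrivial torus R_{B/A}(G_m), let A be a semilocal ring (finitely many maximal
ideals m, residue fields κ_m = A/m), B a finite étale A-algebra, and (P, q) a Weil restriction along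
Spec B → Spec A of the multiplicative group over B (P an A-scheme with q : P ×_A B → G_{m,B}
universal). Then the reduction map P(A) → ∏_m P(κ_m) is surjective: every family (u_m) of κ_m-points
of P over the closed points of Spec A is the family of restrictions of one section of P over A. (The
source states this for every invertible A-torus and reduces it to this case; the
invertible/quasitrivial notions are not available here, so only this case is stated.) -/
theorem result
    (A : Type u) [CommRing A] [Finite (MaximalSpectrum A)]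
    (B : Type u) [CommRing B] [Algebra A B] [Module.Finite A B] [Algebra.Etale A B]
    (P : Over (Spec (CommRingCat.of A))) (q : Red.bc (Spec.map (CommRingCat.ofHom (algebraMap A B))) P ⟶ Red.Gm (Spec (CommRingCat.of B)))
    (hP : WeilRes.IsWeilRes (Spec.map (CommRingCat.ofHom (algebraMap A B))) (Red.Gm (Spec (CommRingCat.of B))) P q)
    (u : ∀ m : MaximalSpectrum A, Spec (CommRingCat.of (A ⧸ m.asIdeal)) ⟶ P.left)
    (hu : ∀ m : MaximalSpectrum A, u m ≫ P.hom = (Spec.map (CommRingCat.ofHom (Ideal.Quotient.mk m.asIdeal)))) :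
    ∃ s : Spec (CommRingCat.of A) ⟶ P.left, s ≫ P.hom = 𝟙 (Spec (CommRingCat.of A)) ∧
      ∀ m : MaximalSpectrum A, (Spec.map (CommRingCat.ofHom (Ideal.Quotient.mk m.asIdeal))) ≫ s = u m := by
  classical
  let b := Spec.map (CommRingCat.ofHom (algebraMap A B))
  let T : MaximalSpectrum A → Over (Spec (CommRingCat.of A)) := fun m =>
    Over.mk (Spec.map (CommRingCat.ofHom (algebraMap A (A ⧸ m.asIdeal))))
  let T₁ : Over (Spec (CommRingCat.of A)) := Over.mk (𝟙 _)
  let g : ∀ m, T m ⟶ T₁ := fun m => Over.homMk (Spec.map (CommRingCat.ofHom (Ideal.Quotient.mk m.asIdeal)))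
    (Category.comp_id _)
  let y : ∀ m, Red.bc b (T m) ⟶ Red.Gm (Spec (CommRingCat.of B)) := fun m =>
    WeilRes.restr b q (T m) (Over.homMk (u m) (hu m))
  let ρ : ∀ X : Over (Spec (CommRingCat.of A)), CommRingCat.of B ⟶ Γ((Red.bc b X).left, ⊤) := fun X =>
    (Scheme.ΓSpecIso (CommRingCat.of B)).inv ≫ (Red.bc b X).hom.appTop
  let ψ : ∀ m, Γ((Red.bc b (T m)).left, ⊤) ≅ CommRingCat.of ((A ⧸ m.asIdeal) ⊗[A] B) := fun m =>
    Scheme.Γ.mapIso (pullbackSpecIso A (A ⧸ m.asIdeal) B).op.symm ≪≫ Scheme.ΓSpecIso _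
  have hψ : ∀ m (x : B), (ψ m).hom (ρ (T m) x) =
      Algebra.TensorProduct.includeRight (R := A) (A := A ⧸ m.asIdeal) x := fun m x => by
    have h : ρ (T m) ≫ (ψ m).hom =
        CommRingCat.ofHom (Algebra.TensorProduct.includeRight (R := A) (A := A ⧸ m.asIdeal) (B := B)).toRingHom := by
      show ((Scheme.ΓSpecIso (CommRingCat.of B)).inv ≫ (pullback.snd _ b).appTop) ≫
        (pullbackSpecIso A (A ⧸ m.asIdeal) B).inv.appTop ≫ (Scheme.ΓSpecIso _).hom = _
      rw [Category.assoc, ← Scheme.Hom.comp_appTop_assoc, pullbackSpecIso_inv_snd, Scheme.ΓSpecIso_naturality,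
        Iso.inv_hom_id_assoc]
      rfl
    exact congrArg (fun φ => φ.hom x) h
  obtain ⟨c, hc⟩ := exists_unit_lift fun m => Units.map (ψ m).hom.hom.toMonoidHom (GmPts.unitOfPt (y m))
  let V : (Γ((Red.bc b T₁).left, ⊤))ˣ := Units.map (ρ T₁).hom.toMonoidHom c
  obtain ⟨s, hs⟩ := (hP T₁).2 (GmPts.ptOfUnit V)
  refine ⟨s.left, (Over.w s : _), fun m => ?_⟩
  have h : g m ≫ s = (Over.homMk (u m) (hu m) : T m ⟶ P) := by
    refine (hP (T m)).1 ?_
    show (Over.pullback b).map (g m ≫ s) ≫ q = y m
    rw [Functor.map_comp, Category.assoc, show (Over.pullback b).map s ≫ q = GmPts.ptOfUnit V from hs]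
    refine GmPts.gmFn_injective ?_
    show Red.gmFn _ = Red.gmFn _
    rw [GmPts.gmFn_comp, GmPts.gmFn_ptOfUnit]
    have hρ : ρ T₁ ≫ ((Over.pullback b).map (g m)).left.appTop = ρ (T m) := by
      show (_ ≫ _) ≫ _ = _
      rw [Category.assoc, ← Scheme.Hom.comp_appTop, Over.w ((Over.pullback b).map (g m))]
    have hinj : Function.Injective (ψ m).hom.hom := (ψ m).commRingCatIsoToRingEquiv.injective
    refine hinj ?_
    refine Eq.trans (congrArg (ψ m).hom (congrArg (fun φ => φ.hom (c : B)) hρ)) ?_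
    rw [hψ, hc]
    rfl
  exact congrArg Over.Hom.left h

end Groth.Agent.S18694
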