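import Groth.Statements.S18697
import Groth.Agent.RetrLiftLib.Main

set_option autoImplicit false
open CategoryTheory MonoidalCategory CartesianMonoidalCategory MonObj GrpObj AlgebraicGeometry
universe u
open MultTori

set_option backward.isDefEq.respectTransparency false

namespace Groth.Agent.S18697

/-- (viii) ⇒ (iii): let k be a field and T an isotrivial k-torus (isomorphic to a split torus of some
rank after one finite étale surjective base change) which is retract rational over k: there are a
nonempty open subscheme U of T, an open subscheme Y of an affine space over k and k-morphisms U → Y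
→ U whose composite is the identity of U. Then for every local k-algebra A with residue field κ the
reduction map T(A) → T(κ) is surjective: every k-morphism Spec κ → T factors through an A-point of
T. -/
theorem result
    (k : Type u) [Field k] (T : Over (Spec (CommRingCat.of k))) [GrpObj T]
    (hT : ∃ r : ℕ, TwC.Locally (Spec (CommRingCat.of k)) .finiteEtale
        (fun S' g => Red.IsSplitTorusWith (Fin r → ℤ) (Red.bc g T)))
    (hret : ∃ (U : T.left.Opens) (n : ℕ) (Y : (Spec (CommRingCat.of (MvPolynomial (Fin n) k))).Opens)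
        (a : (U : Scheme.{u}) ⟶ (Y : Scheme.{u})) (b : (Y : Scheme.{u}) ⟶ (U : Scheme.{u})),
        (U : Set T.left).Nonempty ∧ a ≫ b = 𝟙 (U : Scheme.{u}) ∧
        a ≫ Y.ι ≫ Spec.map (CommRingCat.ofHom (algebraMap k (MvPolynomial (Fin n) k))) = U.ι ≫ T.hom ∧
        b ≫ U.ι ≫ T.hom = Y.ι ≫ Spec.map (CommRingCat.ofHom (algebraMap k (MvPolynomial (Fin n) k)))) :
    ∀ (A : Type u) [CommRing A] [IsLocalRing A] [Algebra k A]
        (u : Spec (CommRingCat.of (IsLocalRing.ResidueField A)) ⟶ T.left),
        u ≫ T.hom = Spec.map (CommRingCat.ofHom ((IsLocalRing.residue A).comp (algebraMap k A))) →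
        ∃ s : Spec (CommRingCat.of A) ⟶ T.left, s ≫ T.hom = Spec.map (CommRingCat.ofHom (algebraMap k A)) ∧
          Spec.map (CommRingCat.ofHom (IsLocalRing.residue A)) ≫ s = u := by
  obtain ⟨U, n, Y, a, b, hne, hab, wa, wb⟩ := hret
  obtain ⟨r, S', f, hfin, het, hsurj, hloc⟩ := hT
  haveI := hfin
  haveI := het
  haveI := hsurj
  have htor : Red.IsTorus T := by
    refine ⟨S', f, inferInstance, hsurj, fun V hV => ⟨f ⁻¹ᵁ V, (hV.preimage f).isCompact, ?_⟩, fun s' => ?_⟩
    · show f.base '' (f.base ⁻¹' (V : Set _)) = _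
      exact Set.image_preimage_eq _ f.surjective
    · obtain ⟨U, hU, -, hsplit⟩ := hloc s'
      exact ⟨U, hU, r, hsplit⟩
  intro A _ _ _ u hu
  have hu' : u ≫ T.hom = Spec.map (CommRingCat.ofHom (algebraMap k (IsLocalRing.ResidueField A))) := hu
  obtain ⟨s, hs⟩ := RetrLift.exists_lift ⟨U, n, Y, a, b, hne, hab, wa, wb⟩ htor A (Over.homMk u hu')
  exact ⟨s.left, Over.w s, congrArg CommaMorphism.left hs⟩

end Groth.Agent.S18697
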