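import Groth.Statements.S1870
import Mathlib
import Groth.Agent.PerHLib.Basic
import Groth.Agent.S6464
-- import your own Groth.Agent.* helpers here

set_option autoImplicit false
universe u v
open CycAlg

namespace Groth.Agent.S1870

/-- A morphism of (2,1)-periodic complexes, both with finite-length cohomology, whose kernel and
cokernel have finite length does not change the additive Herbrand quotient: e_R(M, φ, ψ) = e_R(M',
φ', ψ'). -/
theorem result {R : Type u} [CommRing R] {M M' : Type v} [AddCommGroup M] [Module R M] [AddCommGroup M'] [Module R M'] (φ ψ : M →ₗ[R] M) (φ' ψ' : M' →ₗ[R] M') (h : CycAlg.IsPeriodic φ ψ) (h' : CycAlg.IsPeriodic φ' ψ') (f : M →ₗ[R] M') (cφ : φ' ∘ₗ f = f ∘ₗ φ) (cψ : ψ' ∘ₗ f = f ∘ₗ ψ) (hfin : CycAlg.FinCoh R φ ψ) (hfin' : CycAlg.FinCoh R φ' ψ') (hker : Module.length R (LinearMap.ker f) < ⊤) (hcoker : Module.length R (M' ⧸ LinearMap.range f) < ⊤) : CycAlg.herbrand R φ ψ = CycAlg.herbrand R φ' ψ'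 := by
  have c1 : ∀ x, φ' (f x) = f (φ x) := LinearMap.congr_fun cφ
  have c2 : ∀ x, ψ' (f x) = f (ψ x) := LinearMap.congr_fun cψ
  obtain ⟨p1, p2⟩ := h
  obtain ⟨q1, q2⟩ := h'
  have P1 : ∀ x, φ (ψ x) = 0 := LinearMap.congr_fun p1
  have P2 : ∀ x, ψ (φ x) = 0 := LinearMap.congr_fun p2
  have Q1 : ∀ x, φ' (ψ' x) = 0 := LinearMap.congr_fun q1
  have Q2 : ∀ x, ψ' (φ' x) = 0 := LinearMap.congr_fun q2
  let K := LinearMap.ker f
  let I := LinearMap.range f
  let φK : K →ₗ[R] K := φ.restrict (p := K) (q := K) fun x hx => by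
    show f (φ x) = 0
    rw [← c1, show f x = 0 from hx, map_zero]
  let ψK : K →ₗ[R] K := ψ.restrict (p := K) (q := K) fun x hx => by
    show f (ψ x) = 0
    rw [← c2, show f x = 0 from hx, map_zero]
  let φI : I →ₗ[R] I := φ'.restrict (p := I) (q := I) (by rintro _ ⟨x, rfl⟩; exact ⟨φ x, (c1 x).symm⟩)
  let ψI : I →ₗ[R] I := ψ'.restrict (p := I) (q := I) (by rintro _ ⟨x, rfl⟩; exact ⟨ψ x, (c2 x).symm⟩)
  let φC : (M' ⧸ I) →ₗ[R] (M' ⧸ I) := Submodule.mapQ I I φ' (by rintro _ ⟨x, rfl⟩; exact ⟨φ x, (c1 x).symm⟩)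
  let ψC : (M' ⧸ I) →ₗ[R] (M' ⧸ I) := Submodule.mapQ I I ψ' (by rintro _ ⟨x, rfl⟩; exact ⟨ψ x, (c2 x).symm⟩)
  have hK : IsPeriodic φK ψK := ⟨LinearMap.ext fun x => Subtype.ext (P1 x.1), LinearMap.ext fun x => Subtype.ext (P2 x.1)⟩
  have hI : IsPeriodic φI ψI := ⟨LinearMap.ext fun x => Subtype.ext (Q1 x.1), LinearMap.ext fun x => Subtype.ext (Q2 x.1)⟩
  have hC : IsPeriodic φC ψC := by
    constructor <;> refine Submodule.linearMap_qext I (LinearMap.ext fun x => ?_)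
    · exact congrArg (Submodule.Quotient.mk (p := I)) (Q1 x)
    · exact congrArg (Submodule.Quotient.mk (p := I)) (Q2 x)
  obtain ⟨finK, eK⟩ := Groth.Agent.S6464.result φK ψK hK hker hker
  obtain ⟨finC, eC⟩ := Groth.Agent.S6464.result φC ψC hC hcoker hcoker
  rw [sub_self] at eK eC
  obtain ⟨-, -, -, e1⟩ := PerHLib.two_of_three φK ψK φ ψ φI ψI hK ⟨p1, p2⟩ K.subtype K.subtype
    f.rangeRestrict f.rangeRestrict rfl rfl (LinearMap.ext fun x => Subtype.ext (c1 x))
    (LinearMap.ext fun x => Subtype.ext (c2 x)) (Submodule.injective_subtype _) (Submodule.injective_subtype _)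
    f.surjective_rangeRestrict f.surjective_rangeRestrict
    (by rw [Submodule.range_subtype, LinearMap.ker_rangeRestrict])
    (by rw [Submodule.range_subtype, LinearMap.ker_rangeRestrict]) (Or.inl ⟨finK, hfin⟩)
  obtain ⟨-, -, -, e2⟩ := PerHLib.two_of_three φI ψI φ' ψ' φC ψC hI ⟨q1, q2⟩ I.subtype I.subtype
    I.mkQ I.mkQ rfl rfl rfl rfl (Submodule.injective_subtype _) (Submodule.injective_subtype _)
    I.mkQ_surjective I.mkQ_surjective
    (by rw [Submodule.range_subtype, Submodule.ker_mkQ])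
    (by rw [Submodule.range_subtype, Submodule.ker_mkQ]) (Or.inr (Or.inr ⟨hfin', finC⟩))
  rw [e1, e2, eK, eC, zero_add, add_zero]

end Groth.Agent.S1870
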