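import Groth.Statements.S18704
import Groth.Agent.DepthTwoLib.Reflexive
import Groth.Agent.S18699
import Groth.Agent.S18724

set_option autoImplicit false
universe u
open QGor

namespace Groth.Agent.S18704

/-- Affine form. Let A be a Noetherian ring with Serre's condition (S_2), I an ideal with ht I ≥ 2
(every prime containing I has height ≥ 2), and G a finite A-module with G_p reflexive for every
prime p not containing I. Then the following are equivalent: (i) G has (S_2) and dim Supp(G_p) ≥ 2
for every prime p ⊇ I in Supp G; (ii) depth_I G ≥ 2; (iii) G is reflexive. -/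
theorem result (A : Type u) [CommRing A] [IsNoetherianRing A]
    (hA : LocCoh.HasSk 2 A A) (I : Ideal A) (hI : 2 ≤ I.height)
    (G : Type u) [AddCommGroup G] [Module A G] [Module.Finite A G]
    (hU : ∀ p : PrimeSpectrum A, ¬ I ≤ p.asIdeal →
      Module.IsReflexive (Localization.AtPrime p.asIdeal) (LocalizedModule p.asIdeal.primeCompl G)) :
    ((LocCoh.HasSk 2 A G ∧ ∀ p : PrimeSpectrum A, I ≤ p.asIdeal → p ∈ Module.support A G →
        (2 : WithBot ℕ∞) ≤ Module.supportDim (Localization.AtPrime p.asIdeal) (LocalizedModule p.asIdeal.primeCompl G)) ↔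
      2 ≤ LocCoh.idealDepth I G) ∧
    (2 ≤ LocCoh.idealDepth I G ↔ Module.IsReflexive A G) := by
  open DepthTwoLib in
  have hA2 : (2 : ℕ∞) ≤ LocCoh.idealDepth I A := by
    have := Groth.Agent.S18699.result 2 A A I hA fun p hIp _ => ?_
    · simpa using this
    · have e : LocalizedModule p.asIdeal.primeCompl A ≃ₗ[Localization.AtPrime p.asIdeal] Localization.AtPrime p.asIdeal :=
        LinearEquiv.extendScalarsOfIsLocalization p.asIdeal.primeCompl (Localization.AtPrime p.asIdeal)
          (IsLocalizedModule.linearEquiv p.asIdeal.primeCompl (LocalizedModule.mkLinearMap p.asIdeal.primeCompl A)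
            (Algebra.linearMap A (Localization.AtPrime p.asIdeal)))
      rw [Module.supportDim_eq_of_equiv e, Module.supportDim_self_eq_ringKrullDim,
        IsLocalization.AtPrime.ringKrullDim_eq_height p.asIdeal]
      exact WithBot.coe_le_coe.2 (hI.trans (Ideal.height_mono hIp))
  have h32 : Module.IsReflexive A G → (2 : ℕ∞) ≤ LocCoh.idealDepth I G := fun _ =>
    two_le_iff.2 ((idealDepth_reflexive G).2 (two_le_iff.1 hA2))
  have h23 : (2 : ℕ∞) ≤ LocCoh.idealDepth I G → Module.IsReflexive A G := fun h =>
    isReflexive_of_d2 G (one_le_iff.1 (le_trans one_le_two hA2)) (two_le_iff.1 h) hU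
  refine ⟨⟨fun ⟨hG, hd⟩ => ?_, fun h => ⟨?_, fun p hIp hp => ?_⟩⟩, h23, h32⟩
  · have := Groth.Agent.S18699.result 2 A G I hG (fun p hIp hp => by simpa using hd p hIp hp)
    simpa using this
  · have := h23 h
    exact (hasSk_reflexive G).2 hA
  · exact le_trans (WithBot.coe_le_coe.2 h) (Groth.Agent.S18724.result A G I p hIp hp)

end Groth.Agent.S18704
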