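import Groth.Statements.S1871
import Groth.Agent.DiagTorLib.Prod
import Groth.Agent.S1874

set_option autoImplicit false
set_option backward.isDefEq.respectTransparency false
set_option backward.isDefEq.respectTransparency.types false
universe u
open CategoryTheory AlgebraicGeometry
attribute [local instance] HasDerivedCategory.standard
open IntMult CategoryTheory.Limits

namespace Groth.Agent.S1871

/-- Positivity of intersection multiplicities. Let X be a nonsingular variety of dimension n over an
algebraically closed field K (X integral, smooth, separated and quasi-compact over K), and V, W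
integral closed subschemes of X, given by quasi-coherent ideal sheaves, of dimensions r and s, which
intersect properly (if V ∩ W is nonempty then n ≤ r + s and dim(V ∩ W) ≤ r + s − n). Let ξ be the
generic point of an irreducible component Z of V ∩ W, i.e. a point of V ∩ W such that every point of
V ∩ W specializing to ξ equals ξ. Then the intersection multiplicity e(X, V·W, Z) = ∑_i (−1)^i
length_{O_{X,ξ}} Tor_i^{O_{X,ξ}}(O_{X,ξ}/I_{W,ξ}, O_{X,ξ}/I_{V,ξ}) is positive. -/
theorem result (K : Type u) [Field K] [IsAlgClosed K] (X : Scheme.{u}) (f : X ⟶ Spec (CommRingCat.of K)) [Smooth f] [IsSeparated f] [QuasiCompact f] [IsIntegral X] (IV IW : X.IdealSheafData) [IsIntegral IV.subscheme] [IsIntegral IW.subscheme] (n r s : ℕ) (hn : topologicalKrullDim X = n) (hr : topologicalKrullDim IV.support = r) (hs : topologicalKrullDim IW.support = s) (hprop : IntMult.ProperInt (IV.support : Set X) (IW.support : Set X) n r s) (ξ : X) (hξV : ξ ∈ IV.support) (hξW : ξ ∈ IW.support) (hmax : ∀ ξ' : X, ξ' ∈ IV.support → ξ' ∈ IW.support → ξ' ⤳ ξ → ξ'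 = ξ) : 0 < IntMult.mult IV IW ξ := by
  let m := pullback.map (IV.subschemeι ≫ f) (IW.subschemeι ≫ f) f f IV.subschemeι IW.subschemeι (𝟙 _)
    (Category.comp_id _) (Category.comp_id _)
  let Δ := pullback.diagonal f
  let F := pullback.fst f f ≫ f
  haveI : IsClosedImmersion m := MorphismProperty.pullbackMap (P := @IsClosedImmersion) inferInstance inferInstance rfl rfl
  haveI : IsIntegral (pullback f f) := DiagTorLib.isIntegral_pullback f f
  haveI : IsIntegral (pullback (IV.subschemeι ≫ f) (IW.subschemeι ≫ f)) := DiagTorLib.isIntegral_pullback _ _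
  haveI : IsIntegral Δ.ker.subscheme := DiagTorLib.isIntegral_subscheme_ker Δ
  haveI : IsIntegral m.ker.subscheme := DiagTorLib.isIntegral_subscheme_ker m
  have hsub : ∀ I : X.IdealSheafData, topologicalKrullDim ↥I.subscheme = topologicalKrullDim ↥(I.support : Set X) :=
    fun I => by
      conv_rhs => rw [← Scheme.IdealSheafData.ker_subschemeι I]
      exact (DiagTorLib.dim_support_ker I.subschemeι).symm
  have hN : topologicalKrullDim ↥(pullback f f) = ((n + n : ℕ) : WithBot ℕ∞) := by
    rw [DiagTorLib.dim_pullback, hn]; push_cast; rfl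
  have hΔ : topologicalKrullDim Δ.ker.support = (n : WithBot ℕ∞) := (DiagTorLib.dim_support_ker Δ).trans hn
  have hm : topologicalKrullDim m.ker.support = ((r + s : ℕ) : WithBot ℕ∞) := by
    refine (DiagTorLib.dim_support_ker m).trans ?_
    rw [DiagTorLib.dim_pullback, hsub, hsub]
    push_cast
    exact congrArg₂ (· + ·) hr hs
  have hset : (Δ.ker.support : Set ↥(pullback f f)) ∩ m.ker.support = Δ '' ((IV.support : Set X) ∩ IW.support) :=
    Set.ext fun z => DiagTorLib.mem_inter_iff f IV IW z
  have hP : IntMult.ProperInt (Δ.ker.support : Set ↥(pullback f f)) (m.ker.support : Set ↥(pullback f f))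
      (n + n) n (r + s) := by
    intro _
    obtain ⟨h1, h2⟩ := hprop ⟨ξ, hξV, hξW⟩
    refine ⟨by omega, ?_⟩
    rw [hset, DiagTorLib.dim_image Δ Δ.isClosedEmbedding.isEmbedding, show n + (r + s) - (n + n) = r + s - n by omega]
    exact h2
  obtain ⟨g, hg, hreg⟩ := DiagTorLib.exists_regular_diag f n hn ξ
  have hmem := (DiagTorLib.mem_inter_iff f IV IW (Δ ξ)).2 ⟨ξ, ⟨hξV, hξW⟩, rfl⟩
  have h := (Groth.Agent.S1874.result K (pullback f f) F Δ.ker m.ker (n + n) n (r + s) hN hΔ hm hP (Δ ξ) hmem.1 hmem.2
    (fun z hz1 hz2 hz => by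
      obtain ⟨x, ⟨hxV, hxW⟩, rfl⟩ := (DiagTorLib.mem_inter_iff f IV IW z).1 ⟨hz1, hz2⟩
      rw [hmax x hxV hxW (Δ.isClosedEmbedding.isEmbedding.isInducing.specializes_iff.1 hz)])
    n g hg hreg).2
  rw [DiagTorLib.mult_eq f IV IW ξ, IntMult.mult, IntMultRegLib.chi_comm]
  exact h

end Groth.Agent.S1871
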