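import Groth.Statements.S18710
import Groth.Agent.LocCohLib.NonVanishingApp
import Groth.Agent.CatLib.Flat

set_option autoImplicit false
set_option backward.isDefEq.respectTransparency false
set_option backward.isDefEq.respectTransparency.types false
universe u
open QGor

namespace Groth.Agent.S18710

open TensorProduct in
/-- Affine form. Let A → B be a flat homomorphism of Noetherian rings and I an ideal of A with V(I)
contained in the image of Spec B → Spec A (every prime containing I is a contraction of a prime of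
B). Then ht(IB) = ht(I) (codimension of the preimage equals codimension), and for every finite
A-module G one has depth_{IB} (B ⊗_A G) = depth_I G. -/
theorem result (A B : Type u) [CommRing A] [CommRing B]
    [IsNoetherianRing A] [IsNoetherianRing B] [Algebra A B] [Module.Flat A B] (I : Ideal A)
    (hI : ∀ p : PrimeSpectrum A, I ≤ p.asIdeal → ∃ q : PrimeSpectrum B, q.asIdeal.comap (algebraMap A B) = p.asIdeal)
    (G : Type u) [AddCommGroup G] [Module A G] [Module.Finite A G] :
    (I.map (algebraMap A B)).height = I.height ∧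
    LocCoh.idealDepth (I.map (algebraMap A B)) (B ⊗[A] G) = LocCoh.idealDepth I G := by
  have htriv : ∀ (N : Type u) [AddCommGroup N] [Module A N], LocCoh.IsPowerTorsion I N →
      Subsingleton (B ⊗[A] N) → Subsingleton N := by
    intro N _ _ hN hsub
    refine subsingleton_of_forall_eq 0 fun x => ?_
    by_contra hx
    let a : Ideal A := LinearMap.ker (LinearMap.toSpanSingleton A N x)
    let φ : (A ⧸ a) →ₗ[A] N := a.liftQ (LinearMap.toSpanSingleton A N x) le_rfl
    have hφ : Function.Injective φ := LinearMap.ker_eq_bot.1 (Submodule.ker_liftQ_eq_bot _ _ _ le_rfl)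
    haveI : Subsingleton (B ⊗[A] (A ⧸ a)) :=
      (Module.Flat.lTensor_preserves_injective_linearMap (M := B) φ hφ).subsingleton
    have hne : a ≠ ⊤ := fun h => hx (by
      have h1 : (1 : A) ∈ a := h ▸ Submodule.mem_top
      simpa [a, LinearMap.mem_ker, LinearMap.toSpanSingleton_apply] using h1)
    obtain ⟨p, hp, hap⟩ := Ideal.exists_le_maximal a hne
    obtain ⟨n, hn⟩ := hN x
    have hIp : I ≤ p := fun y hy => hp.isPrime.mem_of_pow_mem n (hap (by
      simpa [a, LinearMap.mem_ker, LinearMap.toSpanSingleton_apply] using hn _ (Ideal.pow_mem_pow hy n)))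
    obtain ⟨q, hq⟩ := hI ⟨p, hp.isPrime⟩ hIp
    have h0 : ((1 : B) ⊗ₜ[A] (Ideal.Quotient.mk a 1 : A ⧸ a)) = 0 := Subsingleton.elim _ _
    have haq : a.map (algebraMap A B) ≤ q.asIdeal := by
      rw [Ideal.map_le_iff_le_comap, hq]; exact hap
    let ψ : (A ⧸ a) →ₗ[A] B ⧸ a.map (algebraMap A B) :=
      Submodule.mapQ a ((a.map (algebraMap A B)).restrictScalars A) (Algebra.linearMap A B)
        (fun y hy => Ideal.mem_map_of_mem _ hy)
    have h1 : Ideal.Quotient.mk (a.map (algebraMap A B)) 1 = 0 := by
      have e1 : (AlgebraTensorModule.lift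
          ((LinearMap.lsmul B (B ⧸ a.map (algebraMap A B))).flip.restrictScalars A ∘ₗ ψ).flip)
          ((1 : B) ⊗ₜ[A] (Ideal.Quotient.mk a 1 : A ⧸ a)) =
          (1 : B) • Ideal.Quotient.mk (a.map (algebraMap A B)) (algebraMap A B 1) := rfl
      rwa [h0, map_zero, one_smul, map_one, eq_comm] at e1
    exact q.isPrime.ne_top ((Ideal.eq_top_iff_one _).2 (haq (Ideal.Quotient.eq_zero_iff_mem.1 h1)))
  refine ⟨?_, le_antisymm (ENat.forall_natCast_le_iff_le.1 fun n hn => ?_) (LocCohLib.idealDepth_baseChange_ge I G)⟩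
  · refine le_antisymm ?_ ?_
    · rw [Ideal.height_eq_inf_minimalPrimes (I := I)]
      refine le_iInf₂ fun p hp => ?_
      haveI := hp.1.1
      obtain ⟨q, hq⟩ := hI ⟨p, hp.1.1⟩ hp.1.2
      obtain ⟨Q, hQ, hQq⟩ := Ideal.exists_minimalPrimes_le (I := p.map (algebraMap A B)) (J := q.asIdeal)
        (by rw [Ideal.map_le_iff_le_comap, hq])
      haveI := hQ.1.1
      haveI : Q.LiesOver p := ⟨le_antisymm (Ideal.map_le_iff_le_comap.1 hQ.1.2)
        ((Ideal.comap_mono hQq).trans hq.le)⟩
      have h := Ideal.height_eq_height_add_of_liesOver_of_hasGoingDown p Q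
      have h2 : (Q.map (Ideal.Quotient.mk (p.map (algebraMap A B)))).height = 0 := by
        haveI : (Q.map (Ideal.Quotient.mk (p.map (algebraMap A B)))).IsPrime :=
          Ideal.map_isPrime_of_surjective Ideal.Quotient.mk_surjective (by rw [Ideal.mk_ker]; exact hQ.1.2)
        rw [Ideal.height_eq_zero_iff]
        exact CatLib.map_mem_minimalPrimes hQ
      rw [h2, add_zero] at h
      exact (Ideal.height_mono ((Ideal.map_mono hp.1.2).trans hQ.1.2)).trans h.le
    · rw [Ideal.height_eq_inf_minimalPrimes (I := I.map (algebraMap A B))]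
      refine le_iInf₂ fun Q hQ => ?_
      haveI := hQ.1.1
      haveI : Q.LiesOver (Q.comap (algebraMap A B)) := ⟨rfl⟩
      rw [Ideal.height_eq_height_add_of_liesOver_of_hasGoingDown (Q.comap (algebraMap A B)) Q]
      exact (Ideal.height_mono (Ideal.map_le_iff_le_comap.1 hQ.1.2)).trans le_self_add
  · refine (LocCohLib.le_idealDepth_iff_subsingleton_H G n).2 fun i hi => ?_
    haveI := (LocCohLib.le_idealDepth_iff_subsingleton_H (B ⊗[A] G) n).1 hn i hi
    exact htriv _ (LocCohLib.isPowerTorsion_H I i G) (LocCohLib.tensLcEquiv I G i).injective.subsingleton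
end Groth.Agent.S18710
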