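import Groth.Statements.S18722
import Groth.Agent.DepthTwoLib.FibreStalk

set_option autoImplicit false
universe u
open QGor

namespace Groth.Agent.S18722

/-- Affine form. Let A → B be a flat homomorphism of Noetherian rings and J an ideal of B such that the
fibre local ring B_q/pB_q has depth ≥ 1 at every prime q ⊇ J (p the contraction of q); let F be a
finite B-module. (1) If F_q is reflexive for every prime q not containing J and depth_J F ≥ 2 (F is
the module of sections of its restriction off V(J)), then F is reflexive. (2) If F is reflexive and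
the fibre local rings at primes q ⊇ J have depth ≥ 2, then depth_J F ≥ 2. -/
theorem result (A B : Type u) [CommRing A] [CommRing B]
    [IsNoetherianRing A] [IsNoetherianRing B] [Algebra A B] [Module.Flat A B] (J : Ideal B)
    (hZ1 : ∀ q : PrimeSpectrum B, J ≤ q.asIdeal →
      1 ≤ LocCoh.idealDepth (q.asIdeal.map (algebraMap B (EGA4.FibLocRing A B q.asIdeal))) (EGA4.FibLocRing A B q.asIdeal))
    (F : Type u) [AddCommGroup F] [Module B F] [Module.Finite B F] :
    ((∀ q : PrimeSpectrum B, ¬ J ≤ q.asIdeal →
        Module.IsReflexive (Localization.AtPrime q.asIdeal) (LocalizedModule q.asIdeal.primeCompl F)) →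
      2 ≤ LocCoh.idealDepth J F → Module.IsReflexive B F) ∧
    (Module.IsReflexive B F →
      (∀ q : PrimeSpectrum B, J ≤ q.asIdeal →
        2 ≤ LocCoh.idealDepth (q.asIdeal.map (algebraMap B (EGA4.FibLocRing A B q.asIdeal))) (EGA4.FibLocRing A B q.asIdeal)) →
      2 ≤ LocCoh.idealDepth J F) := by
  open DepthTwoLib in
  have key : ∀ q : Ideal B, ∀ [q.IsPrime], ∀ k : ℕ∞,
      k ≤ LocCoh.idealDepth (q.map (algebraMap B (EGA4.FibLocRing A B q))) (EGA4.FibLocRing A B q) →
      k ≤ LocCoh.idealDepth (q.map (algebraMap B (EGA4.FibLocRing A B q))) (EGA4.FibLocMod A B q B) := by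
    intro q _ k h
    let 𝔞 : Ideal (Localization.AtPrime q) :=
      (q.comap (algebraMap A B)).map (algebraMap A (Localization.AtPrime q))
    let e0 : LocalizedModule q.primeCompl B ≃ₗ[Localization.AtPrime q] Localization.AtPrime q :=
      LinearEquiv.extendScalarsOfIsLocalization q.primeCompl (Localization.AtPrime q)
        (IsLocalizedModule.linearEquiv q.primeCompl (LocalizedModule.mkLinearMap q.primeCompl B)
          (Algebra.linearMap B (Localization.AtPrime q)))
    have hmap : (𝔞 • (⊤ : Submodule (Localization.AtPrime q) (LocalizedModule q.primeCompl B))).map e0.toLinearMap = 𝔞 := by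
      rw [Submodule.map_smul'', Submodule.map_top, LinearEquiv.range, smul_eq_mul, Ideal.mul_top]
    let e1 := Submodule.Quotient.equiv _ 𝔞 e0 hmap
    let e : EGA4.FibLocMod A B q B ≃ₗ[EGA4.FibLocRing A B q] EGA4.FibLocRing A B q :=
      { e1.toAddEquiv with
        map_smul' := fun c x => by
          obtain ⟨c, rfl⟩ := Ideal.Quotient.mk_surjective c
          obtain ⟨y, rfl⟩ := Submodule.Quotient.mk_surjective _ x
          show e1 (c • Submodule.Quotient.mk y) = c • e1 (Submodule.Quotient.mk y)
          rw [map_smul] }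
    exact le_of_le_of_eq h (CommAlgDim.idealDepth_congr _ e).symm
  have hB1 : 1 ≤ LocCoh.idealDepth J B := (CommAlgDim.le_idealDepth_iff J 1).2
    ((CommAlgDim.hasSeqIn_iff_forall_localization J 1).2 fun q hq hJq =>
      (depth_stalk_of_fibre (A := A) (E := B) q).1 (key q 1 (hZ1 ⟨q, hq⟩ hJq)))
  refine ⟨fun hU hF => isReflexive_of_d2 F (one_le_iff.1 hB1) (two_le_iff.1 hF) hU, fun hr hZ2 => ?_⟩
  have hB2 : 2 ≤ LocCoh.idealDepth J B := (CommAlgDim.le_idealDepth_iff J 2).2
    ((CommAlgDim.hasSeqIn_iff_forall_localization J 2).2 fun q hq hJq =>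
      (depth_stalk_of_fibre (A := A) (E := B) q).2 (key q 2 (hZ2 ⟨q, hq⟩ hJq)))
  exact two_le_iff.2 ((idealDepth_reflexive F).2 (two_le_iff.1 hB2))

end Groth.Agent.S18722
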