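import Groth.Statements.S18726
import Groth.Agent.DepthTwoLib.H2
import Groth.Agent.S18708

set_option autoImplicit false
set_option backward.isDefEq.respectTransparency false
set_option backward.isDefEq.respectTransparency.types false
universe u
open QGor

namespace Groth.Agent.S18726

/-- Affine-local form at a point. Let A → B be a local homomorphism of Noetherian local rings, m the
maximal ideal of A, J an ideal of B, and 0 → F → E⁰ → E¹ → G → 0 an exact sequence of finite
B-modules with E⁰, E¹ flat over A, G_q flat over A for every prime q not containing J, depth_J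
(E⁰/mE⁰) ≥ 2 and depth_J (E¹/mE¹) ≥ 1. Assume H²_J(F/mF) = 0; since under these hypotheses the
module of sections of F/mF off V(J) is finite and its J-depth is ≥ 3 exactly when H²_J(F/mF)
vanishes, this is the condition that that module of sections has J-depth ≥ 3. Then F and G are flat
over A, and depth_J (F/mF) ≥ 2 (the restriction map of the closed fibre of F off V(J) is bijective). -/
theorem result (A B : Type u) [CommRing A] [CommRing B]
    [IsNoetherianRing A] [IsNoetherianRing B] [IsLocalRing A] [IsLocalRing B] [Algebra A B]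
    [IsLocalHom (algebraMap A B)] (J : Ideal B)
    (F E0 E1 G : Type u) [AddCommGroup F] [Module B F] [Module A F] [IsScalarTower A B F] [Module.Finite B F]
    [AddCommGroup E0] [Module B E0] [Module A E0] [IsScalarTower A B E0] [Module.Finite B E0] [Module.Flat A E0]
    [AddCommGroup E1] [Module B E1] [Module A E1] [IsScalarTower A B E1] [Module.Finite B E1] [Module.Flat A E1]
    [AddCommGroup G] [Module B G] [Module A G] [IsScalarTower A B G] [Module.Finite B G]
    (f : F →ₗ[B] E0) (u : E0 →ₗ[B] E1) (v : E1 →ₗ[B] G)
    (hf : Function.Injective f) (hfu : Function.Exact f u) (huv : Function.Exact u v) (hv : Function.Surjective v)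
    (hGU : ∀ q : PrimeSpectrum B, ¬ J ≤ q.asIdeal → FlatCA.FlatAt A q.asIdeal G)
    (h0 : 2 ≤ LocCoh.idealDepth J (EGA4.FibMod A B E0)) (h1 : 1 ≤ LocCoh.idealDepth J (EGA4.FibMod A B E1))
    (hH2 : Subsingleton (LocCoh.H J 2 (EGA4.FibMod A B F))) :
    Module.Flat A F ∧ Module.Flat A G ∧ 2 ≤ LocCoh.idealDepth J (EGA4.FibMod A B F) := by
  have hflat : Module.Flat A G := by
    let K := LinearMap.range u
    haveI := Module.Finite.range u
    obtain ⟨eF⟩ := DepthTwoLib.tensor_residue_equiv (A := A) (B := B) F (IsLocalRing.maximalIdeal A)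
    obtain ⟨e0⟩ := DepthTwoLib.tensor_residue_equiv (A := A) (B := B) E0 (IsLocalRing.maximalIdeal A)
    obtain ⟨e1⟩ := DepthTwoLib.tensor_residue_equiv (A := A) (B := B) E1 (IsLocalRing.maximalIdeal A)
    have h0' := (LocCohLib.le_idealDepth_iff_subsingleton_H (I := J) (EGA4.FibMod A B E0) 2).1 h0
    have h1' := (LocCohLib.le_idealDepth_iff_subsingleton_H (I := J) (EGA4.FibMod A B E1) 1).1
      (by exact_mod_cast h1) 0 Nat.one_pos
    exact DepthTwoLib.flat_coker_of_H2 (J := J) K.subtype v K.injective_subtype
      (LinearMap.exact_iff.mpr (by rw [Submodule.range_subtype]; exact LinearMap.exact_iff.mp huv)) hv f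
      u.rangeRestrict hf (LinearMap.exact_iff.mpr (by rw [LinearMap.ker_rangeRestrict]; exact LinearMap.exact_iff.mp hfu))
      u.surjective_rangeRestrict hGU (fun n hn => DepthTwoLib.subsingleton_H_congr e0 n (h0' n hn))
      (DepthTwoLib.subsingleton_H_congr e1 0 h1') (DepthTwoLib.subsingleton_H_congr eF 2 hH2)
  obtain ⟨hiff, -, hfl⟩ := Groth.Agent.S18708.result A B J F E0 E1 G f u v hf hfu huv hv hGU h0 h1
  exact ⟨hfl hflat, hflat, hiff.2 hflat⟩
end Groth.Agent.S18726
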