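import Groth.Statements.S1873
import Groth.Agent.DiagTorLib.Trans
import Groth.Agent.IntMultRegLib.Geom
import Groth.Agent.S6452

set_option autoImplicit false
set_option backward.isDefEq.respectTransparency false
set_option backward.isDefEq.respectTransparency.types false
universe u
open CategoryTheory AlgebraicGeometry
attribute [local instance] HasDerivedCategory.standard
open IntMult

namespace Groth.Agent.S1873

/-- If the multiplicity of Z in the closed subscheme V ∩ W is 1, i.e. length_{O_{X,ξ}}(O_{V∩W,ξ}) = 1,
then e(X, V·W, Z) = 1 and the local rings O_{V,ξ}, O_{W,ξ} are regular (V and W are smooth at a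
general point of Z). Here X is a nonsingular variety over an algebraically closed field K (smooth,
separated, of finite type, integral), V and W are closed subvarieties given by quasi-coherent ideal
sheaves with integral subschemes, of dimensions r and s with dim X = n, intersecting properly, and ξ
is the generic point of an irreducible component Z of V ∩ W; e(X, V·W, Z) is the alternating sum of
lengths of Tor over O_{X,ξ}. -/
theorem result (K : Type u) [Field K] [IsAlgClosed K] (X : Scheme.{u}) (f : X ⟶ Spec (CommRingCat.of K)) [Smooth f] [IsSeparated f] [QuasiCompact f] [IsIntegral X] (IV IW : X.IdealSheafData) [IsIntegral IV.subscheme] [IsIntegral IW.subscheme] (n r s : ℕ) (hn : topologicalKrullDim X = n) (hr : topologicalKrullDim IV.support = r) (hs : topologicalKrullDim IW.support = s) (hprop : IntMult.ProperInt (IV.support : Set X) (IW.support : Set X) n r s) (ξ : X) (hξV : ξ ∈ IV.support) (hξW : ξ ∈ IW.support) (hmax : ∀ ξ' : X, ξ' ∈ IV.support → ξ' ∈ IW.support → ξ' ⤳ ξ → ξ' = ξ) (h1 : Module.length (X.presheaf.stalk ξ) (↑(X.presheaf.stalk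 ξ) ⧸ (IntMult.stalkIdeal IV ξ ⊔ IntMult.stalkIdeal IW ξ)) = 1) : IntMult.mult IV IW ξ = 1 ∧ IsRegularLocalRing (↑(X.presheaf.stalk ξ) ⧸ IntMult.stalkIdeal IV ξ) ∧ IsRegularLocalRing (↑(X.presheaf.stalk ξ) ⧸ IntMult.stalkIdeal IW ξ) := by
  haveI : IsLocallyNoetherian X := LocallyOfFiniteType.isLocallyNoetherian f
  let R := X.presheaf.stalk ξ
  haveI : IsRegularLocalRing R := WeilExtLib.isRegular_stalk_smooth f ξ
  let I := IntMult.stalkIdeal IV ξ
  let J := IntMult.stalkIdeal IW ξ
  haveI : I.IsPrime := SDivLib.stalkIdeal_isPrime hξV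
  haveI : J.IsPrime := SDivLib.stalkIdeal_isPrime hξW
  haveI : IsLocalRing (↑R ⧸ I) := IsLocalRing.of_surjective' (Ideal.Quotient.mk _) Ideal.Quotient.mk_surjective
  haveI : IsLocalRing (↑R ⧸ J) := IsLocalRing.of_surjective' (Ideal.Quotient.mk _) Ideal.Quotient.mk_surjective
  have hsup : I ⊔ J = IsLocalRing.maximalIdeal R := DiagTorLib.sup_eq_maximalIdeal_of_length h1
  have hdim : ringKrullDim R ≤ ringKrullDim (↑R ⧸ I) + ringKrullDim (↑R ⧸ J) := by
    obtain ⟨δ, hδ⟩ := UOpenLib.exists_fibreClosureDim_eq_nat f ξ
    obtain ⟨dR, hdR⟩ := EquidimLib.exists_stalk_dim_eq_nat ξ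
    have hV := IntMultRegLib.dim_support_eq f IV hξV
    have hW := IntMultRegLib.dim_support_eq f IW hξW
    have hX := IntMultRegLib.dim_eq f ξ
    rw [hn, hδ, hdR] at hX
    rw [show topologicalKrullDim ↥(IV.support : Set X) = r from hr, hδ] at hV
    rw [show topologicalKrullDim ↥(IW.support : Set X) = s from hs, hδ] at hW
    obtain ⟨hh1, hh2⟩ := hprop ⟨ξ, hξV, hξW⟩
    have h3 : (δ : WithBot ℕ∞) ≤ ((r + s - n : ℕ) : WithBot ℕ∞) := by
      rw [← hδ, IntMultRegLib.fibreClosureDim_eq f]
      exact le_trans (Topology.IsInducing.topologicalKrullDim_le (Topology.IsEmbedding.inclusion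
        (closure_minimal (Set.singleton_subset_iff.2 (Set.mem_inter hξV hξW))
          (IV.support.isClosed.inter IW.support.isClosed))).isInducing) hh2
    rw [hdR]
    generalize ringKrullDim (↑R ⧸ I) = a at hV ⊢
    generalize ringKrullDim (↑R ⧸ J) = b at hW ⊢
    cases a with
    | bot => simp at hV
    | coe a =>
      cases b with
      | bot => simp at hW
      | coe b =>
        cases a with
        | top => exact absurd hV (by norm_cast; simp)
        | coe a =>
          cases b with
          | top => exact absurd hW (by norm_cast; simp)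
          | coe b =>
            norm_cast at hV hW hX h3 ⊢
            omega
  obtain ⟨hI, hJ⟩ := DiagTorLib.isRegularLocalRing_of_transversal hsup hdim
  refine ⟨?_, hI, hJ⟩
  obtain ⟨rs, hrs, hrsI⟩ := CommAlgDim.exists_isRegular_of_regular_quotient (R := R) (J := I)
  have hg : IntMult.stalkIdeal IV ξ = Ideal.span (Set.range rs.get) := by
    rw [Set.range_list_get]; exact hrsI.symm
  have hreg : RingTheory.Sequence.IsRegular (↑R) (List.ofFn rs.get) := by rw [List.ofFn_get]; exact hrs
  have h := Groth.Agent.S6452.result K X f IV IW n r s hn hr hs hprop ξ hξV hξW hmax rs.length rs.get hg hreg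
    (SMTLib.isCohenMacaulayLocalRing_of_isCM _ (CommAlgDim.isCM_of_isRegularLocalRing _))
  rw [sup_comm, h1] at h
  simpa using h

end Groth.Agent.S1873
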