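import Groth.Statements.S18740
import Groth.Agent.RGFlatLib.Setup

set_option autoImplicit false
universe u
open CategoryTheory CategoryTheory.Limits AlgebraicGeometry TopologicalSpace
open ModPair

namespace Groth.Agent.S18740

/-- Let (X, I_X) be a modulus pair (a scheme with the quasi-coherent ideal sheaf of an effective Cartier
divisor) with X quasi-compact and quasi-separated, u : Y ⟶ X a minimal morphism of modulus pairs
(I_Y = I_X.comap u) which is flat and of finite presentation (flat, locally of finite presentation,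
quasi-compact, quasi-separated), and b : Y' ⟶ Y an abstract admissible blow-up of modulus pairs.
Then there exist an abstract admissible blow-up a : X' ⟶ X of modulus pairs, a minimal morphism v :
V ⟶ X' of modulus pairs which is again flat and of finite presentation, and an abstract admissible
blow-up w : V ⟶ Y', such that w ≫ b ≫ u = v ≫ a. If u is in addition surjective (an fppf covering),
then v can be chosen surjective as well. -/
theorem result {X Y Y' : Scheme.{u}} [CompactSpace X]
    [QuasiSeparatedSpace X] (IX : X.IdealSheafData) (IY : Y.IdealSheafData) (IY' : Y'.IdealSheafData)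
    (hX : BlowUp.IsEffCartierIdeal IX) (hY : BlowUp.IsEffCartierIdeal IY)
    (hY' : BlowUp.IsEffCartierIdeal IY') (u : Y ⟶ X) (hu : ModPair.IsMinimal IY IX u) [Flat u]
    [LocallyOfFinitePresentation u] [QuasiCompact u] [QuasiSeparated u]
    (b : Y' ⟶ Y) (hb : ModPair.IsAdmBlowup IY' IY b) :
    ∃ (X' : Scheme.{u}) (IX' : X'.IdealSheafData) (a : X' ⟶ X) (V : Scheme.{u})
      (IV : V.IdealSheafData) (v : V ⟶ X') (w : V ⟶ Y'),
      BlowUp.IsEffCartierIdeal IX' ∧ ModPair.IsAdmBlowup IX' IX a ∧
        BlowUp.IsEffCartierIdeal IV ∧ ModPair.IsMinimal IV IX' v ∧ Flat v ∧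
        LocallyOfFinitePresentation v ∧ QuasiCompact v ∧ QuasiSeparated v ∧
        ModPair.IsAdmBlowup IV IY' w ∧ w ≫ b ≫ u = v ≫ a ∧
        (Surjective u → Surjective v) := by
  obtain ⟨hbm, hbp, hbi⟩ := hb
  haveI := hbp
  haveI : CompactSpace Y := QuasiCompact.compactSpace_of_compactSpace u
  haveI : QuasiSeparatedSpace Y := quasiSeparatedSpace_of_quasiSeparated u
  haveI : CompactSpace Y' := QuasiCompact.compactSpace_of_compactSpace b
  have hI : ModPair.interior IY = u ⁻¹ᵁ ModPair.interior IX := by
    rw [show IY = IX.comap u from hu, ModPairLib.interior_comap]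
  have hbu : IsIso (b ∣_ (u ⁻¹ᵁ ModPair.interior IX)) := by rw [← hI]; exact hbi
  have hUq : IsCompact ((ModPair.interior IX : X.Opens) : Set X) := by
    haveI := ModPairLib.isAffineHom_interior hX
    exact isCompact_iff_compactSpace.mpr (QuasiCompact.compactSpace_of_compactSpace (ModPair.interior IX).ι)
  haveI : Flat ((b ≫ u) ∣_ ModPair.interior IX) := by
    rw [morphismRestrict_comp]
    haveI : Flat (u ∣_ ModPair.interior IX) := IsZariskiLocalAtTarget.restrict ‹Flat u› _
    exact MorphismProperty.comp_mem (W := @Flat) _ _ (@MorphismProperty.of_isIso _ _ @Flat _ _ _ _ (b ∣_ (u ⁻¹ᵁ ModPair.interior IX)) hbu) inferInstance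
  haveI : LocallyOfFinitePresentation ((b ≫ u) ∣_ ModPair.interior IX) := by
    rw [morphismRestrict_comp]
    haveI : LocallyOfFinitePresentation (u ∣_ ModPair.interior IX) := IsZariskiLocalAtTarget.restrict ‹LocallyOfFinitePresentation u› _
    exact MorphismProperty.comp_mem (W := @LocallyOfFinitePresentation) _ _ (HasRingHomProperty.of_isOpenImmersion RingHom.finitePresentation_holdsForLocalizationAway.containsIdentities (f := b ∣_ (u ⁻¹ᵁ ModPair.interior IX))) inferInstance
  obtain ⟨𝓚, X', a, ha, hadm, hprop, hiso, hint, hflat⟩ :=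
    RGFlatLib.exists_flattening_blowUp (b ≫ u) (ModPair.interior IX) hUq
  have hpb := IsPullback.of_hasPullback (b ≫ u) a
  obtain ⟨𝒥, h𝒥⟩ := RGFlatLib.exists_strictIdeal ha.1 (pullback.snd (b ≫ u) a)
  rw [← RGFlatLib.exceptional_eq hpb] at h𝒥
  obtain ⟨hF, hP, hQ, hι, -⟩ := hflat _ _ _ hpb 𝒥 h𝒥
  haveI := hprop
  haveI := hF
  haveI := hP
  haveI : QuasiSeparated (b ≫ u) := inferInstance
  haveI : QuasiSeparated (pullback.snd (b ≫ u) a) := inferInstance
  have hX' : BlowUp.IsEffCartierIdeal (IX.comap a) := BlowUpLib.isEffCartier_comap ha hX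
  let v := 𝒥.subschemeι ≫ pullback.snd (b ≫ u) a
  let w := 𝒥.subschemeι ≫ pullback.fst (b ≫ u) a
  have hw : w ≫ b ≫ u = v ≫ a := by rw [Category.assoc, pullback.condition, ← Category.assoc]
  have hIY' : IY' = IX.comap (b ≫ u) := by
    rw [show IY' = IY.comap b from hbm, show IY = IX.comap u from hu, ← Scheme.IdealSheafData.comap_comp]
  have hV : IY'.comap w = (IX.comap a).comap v := by
    rw [hIY', ← Scheme.IdealSheafData.comap_comp, hw, Scheme.IdealSheafData.comap_comp]
  have hVC : BlowUp.IsEffCartierIdeal (IY'.comap w) := by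
    rw [hV]
    exact BlowUpLib.isEffCartier_comap_of_flat _ hX'
  have hIY'' : ModPair.interior IY' = (b ≫ u) ⁻¹ᵁ ModPair.interior IX := by
    rw [hIY', ModPairLib.interior_comap]
  have hwiso : IsIso (w ∣_ ModPair.interior IY') := by
    rw [hIY'', morphismRestrict_comp]
    have e : pullback.fst (b ≫ u) a ⁻¹ᵁ (b ≫ u) ⁻¹ᵁ ModPair.interior IX =
        pullback.snd (b ≫ u) a ⁻¹ᵁ a ⁻¹ᵁ ModPair.interior IX := by
      rw [← Scheme.Hom.comp_preimage, pullback.condition]
      rfl
    have h1 : IsIso (𝒥.subschemeι ∣_ (pullback.fst (b ≫ u) a ⁻¹ᵁ (b ≫ u) ⁻¹ᵁ ModPair.interior IX)) := by rw [e]; exact hι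
    have h2 : IsIso (pullback.fst (b ≫ u) a ∣_ ((b ≫ u) ⁻¹ᵁ ModPair.interior IX)) :=
      RGFlatLib.isIso_restrict_of_isPullback hpb hiso
    exact IsIso.comp_isIso' h1 h2
  refine ⟨X', IX.comap a, a, 𝒥.subscheme, IY'.comap w, v, w, hX', ⟨rfl, hprop, hiso⟩, hVC, hV, hF, hP,
    hQ, inferInstanceAs (QuasiSeparated (𝒥.subschemeι ≫ pullback.snd (b ≫ u) a)), ⟨rfl, inferInstance, hwiso⟩, hw,
    fun hu' => ?_⟩
  haveI := hu'
  -- the flat pullback of `u` is the closure of its interior
  let r : 𝒥.subscheme ⟶ pullback u a := pullback.lift (w ≫ b) v (by rw [Category.assoc]; exact hw)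
  haveI : IsProper w := inferInstanceAs (IsProper (𝒥.subschemeι ≫ pullback.fst (b ≫ u) a))
  haveI : IsProper (r ≫ pullback.fst u a) := by rw [pullback.lift_fst]; infer_instance
  haveI : IsProper r := IsProper.of_comp r (pullback.fst u a)
  have hC : BlowUp.IsEffCartierIdeal ((IX.comap a).comap (pullback.snd u a)) :=
    BlowUpLib.isEffCartier_comap_of_flat _ hX'
  let O := ModPair.interior ((IX.comap a).comap (pullback.snd u a))
  have hsurj : (O : Set ↥(pullback u a)) ⊆ Set.range r := by
    intro z hz
    have hz1 : pullback.fst u a z ∈ ModPair.interior IY := by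
      have : z ∈ ModPair.interior ((IY).comap (pullback.fst u a)) := by
        rw [show IY = IX.comap u from hu, ← Scheme.IdealSheafData.comap_comp, pullback.condition,
          Scheme.IdealSheafData.comap_comp]
        exact hz
      exact (ModPairLib.interior_comap _ _).le this
    haveI hwb : IsIso ((r ≫ pullback.fst u a) ∣_ ModPair.interior IY) := by
      rw [pullback.lift_fst, morphismRestrict_comp]
      have : b ⁻¹ᵁ ModPair.interior IY = ModPair.interior IY' := by
        rw [show IY' = IY.comap b from hbm, ModPairLib.interior_comap]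
      have h0 : IsIso (w ∣_ (b ⁻¹ᵁ ModPair.interior IY)) := this.symm ▸ hwiso
      exact IsIso.comp_isIso' h0 hbi
    rw [morphismRestrict_comp] at hwb
    haveI h2 : IsIso (pullback.fst u a ∣_ ModPair.interior IY) := by
      rw [hI]
      exact RGFlatLib.isIso_restrict_of_isPullback (IsPullback.of_hasPullback u a) hiso
    haveI : IsIso (r ∣_ (pullback.fst u a ⁻¹ᵁ ModPair.interior IY)) :=
      @IsIso.of_isIso_comp_right _ _ _ _ _ _ (pullback.fst u a ∣_ ModPair.interior IY) h2 hwb
    obtain ⟨z', hz'⟩ := (r ∣_ (pullback.fst u a ⁻¹ᵁ ModPair.interior IY)).homeomorph.surjective ⟨z, hz1⟩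
    have h := congrArg Subtype.val hz'
    rw [Scheme.Hom.homeomorph_apply, morphismRestrict_base_coe] at h
    exact ⟨z'.1, h⟩
  have hdense : Dense (O : Set ↥(pullback u a)) := by
    haveI := ModPairLib.isAffineHom_interior hC
    haveI := ModPairLib.isDominant_interior hC
    have hd : IsDominant O.ι := inferInstance
    have h2 : Dense (Set.range O.ι) := hd.denseRange
    rwa [Scheme.Opens.range_ι] at h2
  haveI : Surjective r := ⟨fun z => by
    have hcl : IsClosed (Set.range r) := r.isClosedMap.isClosed_range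
    exact hcl.closure_subset_iff.mpr hsurj (hdense z)⟩
  haveI : Surjective (pullback.snd u a) := inferInstance
  rw [show v = r ≫ pullback.snd u a from (pullback.lift_snd _ _ _).symm]
  infer_instance

end Groth.Agent.S18740
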