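import Groth.Statements.S18741
import Groth.Agent.CatLib.LocLimits
import Mathlib.CategoryTheory.Comma.Over.Basic

set_option autoImplicit false
universe v₁ v₂ v₃ u₁ u₂ u₃
open CategoryTheory
open ModPair

namespace Groth.Agent.S18741

open CategoryTheory

theorem hasRightCalculus_inverseImage {C : Type u₁} [Category.{v₁} C] (W : MorphismProperty C)
    [W.HasRightCalculusOfFractions] (S : C) :
    (W.inverseImage (Over.forget S)).HasRightCalculusOfFractions where
  toIsMultiplicative := inferInstance
  exists_rightFraction A B φ := by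
    obtain ⟨ψ, hψ⟩ := (MorphismProperty.LeftFraction.mk φ.f.left φ.s.left φ.hs).exists_rightFraction
    refine ⟨MorphismProperty.RightFraction.mk (X' := Over.mk (ψ.s ≫ A.hom)) (Over.homMk ψ.s) ψ.hs
      (Over.homMk ψ.f ?_), Over.OverMorphism.ext hψ⟩
    change ψ.f ≫ B.hom = ψ.s ≫ A.hom
    rw [← Over.w φ.s, ← Over.w φ.f, ← Category.assoc, ← Category.assoc]
    exact congrArg (· ≫ φ.Y'.hom) hψ.symm
  ext A B B' f₁ f₂ s hs h := by
    obtain ⟨X', t, ht, h'⟩ := MorphismProperty.HasRightCalculusOfFractions.ext f₁.left f₂.left s.left hs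
      (congrArg CommaMorphism.left h)
    exact ⟨Over.mk (t ≫ A.hom), Over.homMk t, ht, Over.OverMorphism.ext h'⟩


/-- Let C be a category, W a class of morphisms of C admitting a calculus of right fractions, and S an
object of C; let W_S be the class of morphisms of the slice category over S whose underlying
morphism lies in W. Then the canonical functor from the localization of the slice category C/S at
W_S to the slice category over S of the localization of C at W is an equivalence: for every
localization functor L : C ⥤ D at W, every localization functor L' : C/S ⥤ E at W_S, and every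
functor Φ : E ⥤ D/L(S) through which the functor C/S ⥤ D/L(S) induced by L factors up to
isomorphism, Φ is an equivalence of categories. -/
theorem result {C : Type u₁}
    [Category.{v₁} C] (W : MorphismProperty C) [W.HasRightCalculusOfFractions] (S : C)
    {D : Type u₂} [Category.{v₂} D] (L : C ⥤ D) [L.IsLocalization W]
    {E : Type u₃} [Category.{v₃} E] (L' : Over S ⥤ E)
    [L'.IsLocalization (W.inverseImage (Over.forget S))]
    (Φ : E ⥤ Over (L.obj S)) (e : L' ⋙ Φ ≅ Over.post L) : Φ.IsEquivalence := by
  haveI hW' := hasRightCalculus_inverseImage W S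
  haveI := Localization.essSurj L' (W.inverseImage (Over.forget S))
  haveI := Localization.essSurj L W
  have hmap : ∀ {A B : Over S} (k : A ⟶ B),
      Φ.map (L'.map k) = e.hom.app A ≫ (Over.post L).map k ≫ e.inv.app B := fun {A B} k => by
    have h := e.hom.naturality k
    change Φ.map (L'.map k) ≫ _ = _ at h
    rw [← Category.assoc, ← h, Category.assoc, e.hom_inv_id_app]
    exact (Category.comp_id _).symm
  have hfull : ∀ (A B : Over S) (g : (Over.post L).obj A ⟶ (Over.post L).obj B),
      ∃ m : L'.obj A ⟶ L'.obj B, e.inv.app A ≫ Φ.map m ≫ e.hom.app B = g := by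
    intro A B g
    obtain ⟨Z, s, hs, k, hk⟩ := LocLimits.exists_frac L W g.left
    have h : L.map (k ≫ B.hom) = L.map (s ≫ A.hom) := by
      rw [L.map_comp, L.map_comp, ← hk, Category.assoc]
      exact congrArg (L.map s ≫ ·) (Over.w g)
    obtain ⟨Z', t, ht, h'⟩ := (MorphismProperty.map_eq_iff_precomp L W _ _).mp h
    let A' : Over S := Over.mk ((t ≫ s) ≫ A.hom)
    let σ : A' ⟶ A := Over.homMk (t ≫ s)
    let κ : A' ⟶ B := Over.homMk (t ≫ k) (by simpa [A'] using h')
    have hσ : (W.inverseImage (Over.forget S)) σ := W.comp_mem t s ht hs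
    haveI : IsIso (L'.map σ) := Localization.inverts L' (W.inverseImage (Over.forget S)) σ hσ
    haveI : IsIso (L.map (t ≫ s)) := Localization.inverts L W _ (W.comp_mem t s ht hs)
    refine ⟨inv (L'.map σ) ≫ L'.map κ, ?_⟩
    have hg : (Over.post L).map σ ≫ g = (Over.post L).map κ := by
      refine Over.OverMorphism.ext ?_
      change L.map (t ≫ s) ≫ g.left = L.map (t ≫ k)
      rw [L.map_comp, L.map_comp, Category.assoc]
      exact congrArg (L.map t ≫ ·) hk
    haveI : IsIso (Φ.map (L'.map σ)) := inferInstance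
    rw [Φ.map_comp, Functor.map_inv, Category.assoc]
    rw [← cancel_epi (e.hom.app A), e.hom_inv_id_app_assoc, IsIso.inv_comp_eq, hmap, hmap, ← hg]
    simp
  have hfaith : ∀ (A B : Over S) (m m' : L'.obj A ⟶ L'.obj B), Φ.map m = Φ.map m' → m = m' := by
    intro A B m m' h
    obtain ⟨A', r, hr, k, k', hk, hk'⟩ := LocLimits.exists_frac₂ L' (W.inverseImage (Over.forget S)) m m'
    refine LocLimits.cancel_map L' (W.inverseImage (Over.forget S)) hr ?_
    rw [hk, hk']
    have h2 : (Over.post L).map k = (Over.post L).map k' := by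
      have h1 : Φ.map (L'.map k) = Φ.map (L'.map k') := by
        rw [← hk, ← hk', Φ.map_comp, Φ.map_comp, h]
      rw [hmap, hmap, cancel_epi] at h1
      exact (cancel_mono _).mp h1
    have h3 : L.map k.left = L.map k'.left := congrArg CommaMorphism.left h2
    obtain ⟨Z, t, ht, h'⟩ := (MorphismProperty.map_eq_iff_precomp L W _ _).mp h3
    let τ : Over.mk (t ≫ A'.hom) ⟶ A' := Over.homMk t
    have hτ : (W.inverseImage (Over.forget S)) τ := ht
    refine LocLimits.cancel_map L' (W.inverseImage (Over.forget S)) hτ ?_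
    rw [← L'.map_comp, ← L'.map_comp]
    exact congrArg L'.map (Over.OverMorphism.ext h')
  haveI : Φ.Full := ⟨fun {A B} g => by
    let a := L'.objObjPreimageIso A
    let b := L'.objObjPreimageIso B
    obtain ⟨m, hm⟩ := hfull _ _ (e.inv.app _ ≫ Φ.map a.hom ≫ g ≫ Φ.map b.inv ≫ e.hom.app _)
    refine ⟨a.inv ≫ m ≫ b.hom, ?_⟩
    rw [cancel_epi, ← Category.assoc (Φ.map a.hom), ← Category.assoc (Φ.map a.hom ≫ g)] at hm
    have hm' := (cancel_mono _).mp hm
    rw [Φ.map_comp, Φ.map_comp, hm']
    simp⟩
  haveI : Φ.Faithful := ⟨fun {A B} m m' h => by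
    let a := L'.objObjPreimageIso A
    let b := L'.objObjPreimageIso B
    have := hfaith _ _ (a.hom ≫ m ≫ b.inv) (a.hom ≫ m' ≫ b.inv) (by simp [h])
    simpa using this⟩
  haveI : Φ.EssSurj := ⟨fun Y => by
    let y := L.objObjPreimageIso Y.left
    obtain ⟨X', s, hs, f, hf⟩ := LocLimits.exists_frac L W (y.hom ≫ Y.hom)
    haveI : IsIso (L.map s) := Localization.inverts L W s hs
    exact ⟨L'.obj (Over.mk f), ⟨e.app (Over.mk f) ≪≫
      Over.isoMk (Localization.isoOfHom L W s hs ≪≫ y) ((Category.assoc _ _ _).trans hf)⟩⟩⟩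
  exact { }
end Groth.Agent.S18741
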