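import Groth.Statements.S1875
import Groth.Agent.LenInsepLib.Fg

set_option autoImplicit false
universe u
open TensorProduct
open RelCyc

namespace Groth.Agent.S1875

/-- Let k be a field of exponential characteristic p, K/k any field extension and L/k a finitely
generated field extension (the function field of an integral scheme locally of finite type over k).
For every minimal prime 𝔮 of K ⊗_k L the length of the Artinian local ring (K ⊗_k L)_𝔮 — the
multiplicity of the corresponding irreducible component of the base change — is a power of p (so 1
in characteristic zero). -/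
theorem result (k K L : Type u) [Field k] [Field K] [Field L] [Algebra k K] [Algebra k L] (hL : (⊤ : IntermediateField k L).FG) (p : ℕ) [ExpChar k p] (q : Ideal (K ⊗[k] L)) [q.IsPrime] (hq : q ∈ minimalPrimes (K ⊗[k] L)) : ∃ n : ℕ, Module.length (Localization.AtPrime q) (Localization.AtPrime q) = (p ^ n : ℕ) := by
  haveI : Algebra.EssFiniteType k L := IntermediateField.fg_top_iff.1 hL
  let e : L ⊗[k] K ≃+* K ⊗[k] L := (Algebra.TensorProduct.comm k L K).toRingEquiv
  have hmin : q.comap e.toRingHom ∈ minimalPrimes (L ⊗[k] K) := by
    refine ⟨⟨inferInstance, bot_le⟩, fun r hr hle => ?_⟩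
    haveI := hr.1
    have hr' : r.comap e.symm.toRingHom ≤ q := fun z hz => by
      have := hle hz
      rwa [Ideal.mem_comap, show e.toRingHom (e.symm.toRingHom z) = z from e.apply_symm_apply z] at this
    intro z hz
    have := hq.2 ⟨Ideal.IsPrime.comap _, bot_le⟩ hr' hz
    rwa [Ideal.mem_comap, show e.symm.toRingHom (e.toRingHom z) = z from e.symm_apply_apply z] at this
  obtain ⟨n, hn⟩ := LenInsepLib.length_localization_fg k L K p (q.comap e.toRingHom) hmin
  exact ⟨n, (LenInsepLib.length_localization_congr e _ q rfl).symm.trans hn⟩

end Groth.Agent.S1875
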