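import Groth.Statements.S18753
import Groth.Agent.BlowUpLib.RegSmooth
import Groth.Agent.ModPairLib.Extra2
import Groth.Agent.ValFibLib.Dim
import Groth.Agent.RGFlatLib.Finite

set_option autoImplicit false
universe u
open CategoryTheory CategoryTheory.Limits AlgebraicGeometry TopologicalSpace
open ModPair

namespace Groth.Agent.S18753

open TopologicalSpace

theorem mem_interior_specIdeal {A : Type u} [CommRing A] (f : A) (p : Spec (CommRingCat.of A)) :
    p ∈ ModPair.interior (Spec.map (CommRingCat.ofHom (Ideal.Quotient.mk (Ideal.span {f})))).ker ↔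
      f ∉ p.asIdeal := by
  haveI : IsClosedImmersion (Spec.map (CommRingCat.ofHom (Ideal.Quotient.mk (Ideal.span {f})))) :=
    IsClosedImmersion.spec_of_surjective _ Ideal.Quotient.mk_surjective
  show p ∉ ((Spec.map (CommRingCat.ofHom (Ideal.Quotient.mk (Ideal.span {f})))).ker.support : Set _) ↔ _
  rw [Scheme.Hom.support_ker,
    (Spec.map (CommRingCat.ofHom (Ideal.Quotient.mk (Ideal.span {f})))).isClosedEmbedding.isClosed_range.closure_eq]
  show p ∉ Set.range (PrimeSpectrum.comap (Ideal.Quotient.mk (Ideal.span {f}))) ↔ _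
  rw [range_comap_of_surjective _ _ Ideal.Quotient.mk_surjective, Ideal.mk_ker]
  exact not_congr ((PrimeSpectrum.mem_zeroLocus (p : PrimeSpectrum A) _).trans
    (SetLike.coe_subset_coe.trans (Ideal.span_singleton_le_iff_mem _)))

/-- a point outside the interior has a generization over the prime `mA` -/
theorem exists_generization_alg {A C : Type u} [CommRing A] [CommRing C] (φ : A →+* C) (f : A) (mA : Ideal A)
    (hdiv : ∀ a ∈ mA, ∃ b ∈ mA, a = f * b) (hmax : ∀ p : Ideal A, p.IsPrime → mA ≤ p → f ∉ p → p = mA)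
    (hf : φ f ∈ nonZeroDivisors C) (P : Ideal C) [P.IsPrime] (hfP : φ f ∈ P) :
    ∃ P' : Ideal C, P'.IsPrime ∧ P' ≤ P ∧ P'.comap φ = mA := by
  let CP := Localization.AtPrime P
  let ψ : A →+* CP := (algebraMap C CP).comp φ
  have hpow : ∀ (n : ℕ), mA.map ψ ≤ Ideal.span {ψ f ^ n} := by
    intro n
    induction n with
    | zero => rw [pow_zero, Ideal.span_singleton_one]; exact le_top
    | succ n ih =>
      rw [Ideal.map_le_iff_le_comap]
      intro a ha
      obtain ⟨b, hb, rfl⟩ := hdiv a ha
      obtain ⟨c, hc⟩ := Ideal.mem_span_singleton'.1 (ih (Ideal.mem_map_of_mem ψ hb))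
      rw [Ideal.mem_comap, Ideal.mem_span_singleton', map_mul]
      exact ⟨c, by rw [← hc]; ring⟩
  have hnz : ψ f ∈ nonZeroDivisors CP :=
    BlowUpLib.nzd_of_flat _ (RingHom.flat_algebraMap_iff.2 inferInstance) hf
  have hdisj : Disjoint ((mA.map ψ : Ideal CP) : Set CP) (Submonoid.powers (ψ f) : Set CP) := by
    rw [Set.disjoint_left]
    rintro _ hmem ⟨n, rfl⟩
    obtain ⟨c, hc⟩ := Ideal.mem_span_singleton'.1 (hpow (n + 1) hmem)
    have hnz' : ψ f ^ n ∈ nonZeroDivisors CP := pow_mem hnz n
    have h1 : c * ψ f = 1 := by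
      refine (mul_cancel_right_mem_nonZeroDivisors hnz').1 ?_
      rw [one_mul, mul_assoc, ← pow_succ', hc]
    have h2 : IsUnit (ψ f) := IsUnit.of_mul_eq_one c (by rw [mul_comm]; exact h1)
    exact (IsLocalization.AtPrime.isUnit_to_map_iff CP P (φ f)).1 h2 hfP
  obtain ⟨P', hP', hle, hd⟩ := Ideal.exists_le_prime_disjoint _ _ hdisj
  refine ⟨P'.comap (algebraMap C CP), hP'.comap _, ?_, ?_⟩
  · intro c hc
    by_contra hcP
    exact hP'.ne_top (Ideal.eq_top_of_isUnit_mem _ hc ((IsLocalization.AtPrime.isUnit_to_map_iff CP P c).2 hcP))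
  · refine hmax _ ((hP'.comap _).comap _) (fun a ha => hle (Ideal.mem_map_of_mem ψ ha)) fun h => ?_
    exact Set.disjoint_left.1 hd h ⟨1, pow_one _⟩


/-- Let O be a local ring with residue field κ, R a valuation ring of κ, A ⊆ O the subring of elements
whose residue class lies in R (the fibre product ring R ×_κ O, a semi-valuation ring), and f an
element of A such that O is the localization of A obtained by inverting f. Equip P = Spec A with the
modulus V(f), the closed subscheme cut out by f (an effective Cartier divisor: f is a unit of O, so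
a nonzerodivisor of A), whose interior is Spec O. Let q : Q ⟶ P be a proper, minimal morphism of
modulus pairs (the modulus of Q is the pull-back of V(f) and is an effective Cartier divisor) whose
restriction over the interior of P is a finite morphism. Then q is finite. -/
theorem result {O : Type u} [CommRing O]
    [IsLocalRing O] (R : ValuationSubring (IsLocalRing.ResidueField O))
    (f : ↥((R.toSubring).comap (IsLocalRing.residue O)))
    [IsLocalization.Away f O] {Q : Scheme.{u}} (IQ : Q.IdealSheafData)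
    (hQ : BlowUp.IsEffCartierIdeal IQ)
    (q : Q ⟶ Spec (CommRingCat.of ↥((R.toSubring).comap (IsLocalRing.residue O))))
    (hq : ModPair.IsMinimal IQ
      (Spec.map (CommRingCat.ofHom (Ideal.Quotient.mk (Ideal.span {f})))).ker q)
    [IsProper q]
    (hfin : IsFinite (q ∣_ ModPair.interior
      (Spec.map (CommRingCat.ofHom (Ideal.Quotient.mk (Ideal.span {f})))).ker)) :
    IsFinite q := by
  classical
  let A₀ := (R.toSubring).comap (IsLocalRing.residue O)
  let π : A₀ →+* R := ((IsLocalRing.residue O).comp A₀.subtype).codRestrict R fun a => a.2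
  have hπ : Function.Surjective π := by
    rintro ⟨r, hr⟩
    obtain ⟨o, rfl⟩ := IsLocalRing.residue_surjective r
    exact ⟨⟨o, hr⟩, rfl⟩
  let mA : Ideal A₀ := RingHom.ker π
  have hmem : ∀ a : A₀, a ∈ mA ↔ (a : O) ∈ IsLocalRing.maximalIdeal O := fun a => by
    rw [RingHom.mem_ker, ← IsLocalRing.residue_eq_zero_iff, ← Subtype.coe_inj]
    rfl
  have hfu : IsUnit (algebraMap A₀ O f) := IsLocalization.Away.algebraMap_isUnit f
  have hdiv : ∀ a ∈ mA, ∃ b ∈ mA, a = f * b := by
    intro a ha
    obtain ⟨v, hv⟩ := hfu.exists_left_inv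
    have hm : v * (a : O) ∈ IsLocalRing.maximalIdeal O := Ideal.mul_mem_left _ _ ((hmem a).1 ha)
    have hA : v * (a : O) ∈ A₀ := by
      show IsLocalRing.residue O (v * (a : O)) ∈ R.toSubring
      rw [(IsLocalRing.residue_eq_zero_iff _).2 hm]
      exact zero_mem _
    refine ⟨⟨v * a, hA⟩, (hmem _).2 hm, Subtype.ext ?_⟩
    show (a : O) = algebraMap A₀ O f * (v * a)
    rw [← mul_assoc, mul_comm (algebraMap A₀ O f) v, hv, one_mul]
  have hmax : ∀ p : Ideal A₀, p.IsPrime → mA ≤ p → f ∉ p → p = mA := by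
    intro p hp hle hfp
    refine le_antisymm (fun a ha => ?_) hle
    by_contra hna
    have hu : IsUnit (a : O) := IsLocalRing.notMem_maximalIdeal.1 fun h => hna ((hmem a).2 h)
    obtain ⟨v, hv⟩ := hu.exists_left_inv
    obtain ⟨⟨b, ⟨_, n, rfl⟩⟩, hb⟩ := IsLocalization.surj (Submonoid.powers f) v
    refine hfp (hp.mem_of_pow_mem n ?_)
    have : f ^ n = b * a := Subtype.ext (by
      show algebraMap A₀ O (f ^ n) = algebraMap A₀ O b * (a : O)
      rw [← hb, mul_comm v, mul_assoc, hv, mul_one])
    rw [this]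
    exact p.mul_mem_left b ha
  let P₀ := Spec (CommRingCat.of A₀)
  let K := (Spec.map (CommRingCat.ofHom (Ideal.Quotient.mk (Ideal.span {f})))).ker
  let V := ModPair.interior K
  let j : Spec (CommRingCat.of R) ⟶ P₀ := Spec.map (CommRingCat.ofHom π)
  haveI : IsClosedImmersion j := IsClosedImmersion.spec_of_surjective _ hπ
  let toR := pullback.snd q j
  let fst := pullback.fst q j
  have hj : ∀ p : P₀, f ∈ p.asIdeal → p ∈ Set.range j := by
    intro p hp
    show p ∈ Set.range (PrimeSpectrum.comap π)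
    rw [range_comap_of_surjective _ _ hπ]
    refine (PrimeSpectrum.mem_zeroLocus (p : PrimeSpectrum A₀) _).2 fun a ha => ?_
    obtain ⟨b, -, rfl⟩ := hdiv a ha
    exact p.asIdeal.mul_mem_right b hp
  have hVfib : ∀ p : P₀, f ∉ p.asIdeal → (q ⁻¹' {p}).Finite := by
    intro p hp
    have hpV : p ∈ V := (mem_interior_specIdeal f p).2 hp
    have h := (q ∣_ V).finite_preimage_singleton ⟨p, hpV⟩
    refine (h.image (q ⁻¹ᵁ V).ι).subset ?_
    intro z hz
    have hzV : z ∈ q ⁻¹ᵁ V := by
      show q z ∈ V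
      rw [show q z = p from hz]
      exact hpV
    refine ⟨⟨z, hzV⟩, Subtype.ext ?_, rfl⟩
    rw [morphismRestrict_base_coe]
    exact hz
  -- generizations over the prime `mA`
  have hgen : ∀ z : Q, mA ≤ (q z).asIdeal → ∃ ζ : Q, ζ ⤳ z ∧ (q ζ).asIdeal = mA := by
    intro z hz
    by_cases hfz : f ∈ (q z).asIdeal
    swap
    · exact ⟨z, specializes_rfl, hmax _ (q z).isPrime hz hfz⟩
    obtain ⟨_, ⟨U, hU, rfl⟩, hzU, -⟩ :=
      Q.isBasis_affineOpens.exists_subset_of_mem_open (Set.mem_univ z) isOpen_univ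
    obtain ⟨φ, hφ⟩ := Spec.map_surjective (hU.fromSpec ≫ q)
    have hC : BlowUp.IsEffCartierIdeal ((IQ).comap hU.fromSpec) := BlowUpLib.isEffCartier_comap_of_flat _ hQ
    have hK : IQ.comap hU.fromSpec = BlowUpLib.specIdeal (Ideal.span {φ.hom f}) := by
      rw [show IQ = K.comap q from hq, ← Scheme.IdealSheafData.comap_comp, ← hφ]
      show Scheme.IdealSheafData.comap K (Spec.map φ) = _
      rw [show K = BlowUpLib.specIdeal (Ideal.span {f}) from BlowUpLib.ker_SpecMap_mk _,
        ← Set.image_singleton, ← Ideal.map_span]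
      exact BlowUpLib.comap_specIdeal φ.hom _
    have hnz : φ.hom f ∈ nonZeroDivisors Γ(Q, U) := by
      have h1 := ModPairLib.nzd_of_ideal_eq (hK ▸ hC) (V := ⟨⊤, isAffineOpen_top _⟩)
        (a := (Scheme.ΓSpecIso Γ(Q, U)).inv.hom (φ.hom f)) (by
          rw [BlowUpLib.specIdeal_top, Ideal.map_span, Set.image_singleton]; rfl)
      have h2 := BlowUpLib.nzd_of_bijective (Scheme.ΓSpecIso Γ(Q, U)).hom.hom
        (ConcreteCategory.bijective_of_isIso _) h1
      rwa [Iso.inv_hom_id_apply] at h2
    let P := hU.primeIdealOf ⟨z, hzU⟩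
    have hqP : ∀ P' : Spec Γ(Q, U), q (hU.fromSpec P') = Spec.map φ P' := fun P' => by
      rw [hφ]; rfl
    have hqz : q z = Spec.map φ P := by
      rw [← hqP, hU.fromSpec_primeIdealOf]
    rw [hqz] at hfz
    obtain ⟨P', hP', hle, hP'c⟩ := exists_generization_alg φ.hom f mA hdiv hmax hnz P.asIdeal hfz
    refine ⟨hU.fromSpec ⟨P', hP'⟩, ?_, ?_⟩
    · have h := ((PrimeSpectrum.le_iff_specializes (⟨P', hP'⟩ : PrimeSpectrum _) P).mp hle).map
        hU.fromSpec.continuous
      rwa [hU.fromSpec_primeIdealOf] at h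
    · rw [hqP]
      exact hP'c
  let η := genericPoint (Spec (CommRingCat.of R))
  have hη : (j η).asIdeal = mA := by
    show Ideal.comap π η.asIdeal = RingHom.ker π
    rw [show η = (⟨⊥, Ideal.isPrime_bot⟩ : PrimeSpectrum R) from genericPoint_eq_bot_of_affine _]
    rfl
  have hcomm : ∀ y, q (fst y) = j (toR y) := fun y => by
    show (fst ≫ q) y = (toR ≫ j) y
    rw [pullback.condition]
  have hjinj : Function.Injective j := j.isClosedEmbedding.injective
  haveI : IsClosedImmersion fst := MorphismProperty.pullback_fst _ _ inferInstance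
  have hfη : f ∉ (j η).asIdeal := by
    rw [hη, hmem]
    exact fun h => (IsLocalRing.mem_maximalIdeal _).1 h hfu
  have hgenfin : (toR ⁻¹' {η}).Finite :=
    ((hVfib (j η) hfη).preimage fst.isClosedEmbedding.injective.injOn).subset fun y hy => by
      show q (fst y) = j η
      rw [hcomm, show toR y = η from hy]
  have hspec : ∀ y, ∃ y', y' ⤳ y ∧ toR y' = η := by
    intro y
    obtain ⟨ζ, hζ, hζm⟩ := hgen (fst y) (by
      rw [hcomm]
      exact fun a ha => (by rw [RingHom.mem_ker] at ha; show π a ∈ (toR y).asIdeal; rw [ha]; exact zero_mem _))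
    have hr : ζ ∈ Set.range fst := by
      rw [Scheme.Pullback.range_fst]
      exact ⟨η, PrimeSpectrum.ext (hη.trans hζm.symm)⟩
    obtain ⟨y', rfl⟩ := hr
    refine ⟨y', (fst.isEmbedding.isInducing.specializes_iff).1 hζ, hjinj ?_⟩
    rw [← hcomm]
    exact PrimeSpectrum.ext (hζm.trans hη.symm)
  have hfin0 : ∀ r, (toR ⁻¹' {r}).Finite := by
    intro r
    refine RGFlatLib.finite_of_fiber_dim_le_zero toR r ?_
    exact (ValFibLib.fiber_dim_le_generic toR r fun y _ => hspec y).trans
      (RGFlatLib.fiber_dim_le_zero toR η hgenfin)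
  haveI : LocallyQuasiFinite q := LocallyQuasiFinite.of_finite_preimage_singleton q fun p => by
    by_cases hp : f ∈ p.asIdeal
    swap
    · exact hVfib p hp
    obtain ⟨r, rfl⟩ := hj p hp
    refine ((hfin0 r).image fst).subset fun z hz => ?_
    have hr : z ∈ Set.range fst := by
      rw [Scheme.Pullback.range_fst]
      exact ⟨r, (show q z = j r from hz).symm⟩
    obtain ⟨y, rfl⟩ := hr
    refine ⟨y, hjinj ?_, rfl⟩
    rw [← hcomm]
    exact hz
  exact IsFinite.of_isProper_of_locallyQuasiFinite q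

end Groth.Agent.S18753
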