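import Groth.Statements.S2076
import Groth.Agent.NoethApproxLib.Stage2076
-- import your own Groth.Agent.* helpers here

set_option autoImplicit false
universe u
open CategoryTheory AlgebraicGeometry
open Lim

namespace Groth.Agent.S2076

/-- Let `X = lim X_i` be a cofiltered limit of quasi-compact schemes over `S` with affine transition
morphisms and `h : Y → X` a closed immersion with `Y → S` locally of finite type. Then `Y → X_i` is
a closed immersion for some `i`. -/
theorem result {I : Type u} [SmallCategory I] [IsCofiltered I] (S : Scheme.{u})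
    (D : I ⥤ Over S) (c : Limits.Cone D) (hc : Limits.IsLimit c)
    [∀ (i j : I) (f : i ⟶ j), IsAffineHom (D.map f).left] [∀ i, CompactSpace (D.obj i).left]
    {Y : Scheme.{u}} (h : Y ⟶ c.pt.left) [IsClosedImmersion h] [LocallyOfFiniteType (h ≫ c.pt.hom)] :
    ∃ i : I, IsClosedImmersion (h ≫ (c.π.app i).left) := by
  haveI : IsConnected I := IsCofiltered.isConnected I
  haveI : ∀ {i j : I} (a : i ⟶ j), IsAffineHom ((D ⋙ Over.forget S).map a) := fun {i j} a ↦
    (inferInstance : IsAffineHom (D.map a).left)
  haveI : ∀ i, CompactSpace ((D ⋙ Over.forget S).obj i) := fun i ↦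
    (inferInstance : CompactSpace (D.obj i).left)
  haveI : IsClosedImmersion (show Y ⟶ ((Over.forget S).mapCone c).pt from h) := ‹IsClosedImmersion h›
  obtain ⟨i, hi⟩ := NoethApproxLib.exists_isClosedImmersion_comp (D ⋙ Over.forget S)
    (fun i ↦ (D.obj i).hom) (fun a ↦ Over.w (D.map a)) ((Over.forget S).mapCone c)
    (Limits.isLimitOfPreserves (Over.forget S) hc) h (fun i ↦ by
      show LocallyOfFiniteType (h ≫ (c.π.app i).left ≫ (D.obj i).hom)
      rw [Over.w]
      exact (inferInstance : LocallyOfFiniteType (h ≫ c.pt.hom)))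
  exact ⟨i, hi i (𝟙 i)⟩

end Groth.Agent.S2076
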