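import Groth.Statements.S18754
import Groth.Agent.S2076
import Groth.Agent.ModPairLib.Basic

set_option backward.isDefEq.respectTransparency false
set_option backward.isDefEq.respectTransparency.types false

set_option autoImplicit false
universe u
open CategoryTheory CategoryTheory.Limits AlgebraicGeometry TopologicalSpace
open ModPair

namespace Groth.Agent.S18754

/-- Let (Y, I_Y) be a modulus pair with Y quasi-compact and quasi-separated, and let (X_i ⟶ Y) be a
cofiltered system of Y-schemes with affine transition morphisms such that every X_i is quasi-compact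
and quasi-separated, the pulled-back ideal I_Y.comap (X_i ⟶ Y) is the ideal of an effective Cartier
divisor, and X_i ⟶ Y is an abstract admissible blow-up of modulus pairs which is locally of finite
presentation. Let X be the limit of the system over Y and suppose that X ⟶ Y, with the pulled-back
modulus (assumed effective Cartier), is also an abstract admissible blow-up. Then X ⟶ Y is locally
of finite presentation: an abstract admissible blow-up of quasi-compact quasi-separated modulus
pairs which is not of finite presentation is never a limit of finitely presented ones. -/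
theorem result {Y : Scheme.{u}}
    [CompactSpace Y] [QuasiSeparatedSpace Y] (IY : Y.IdealSheafData) (hY : BlowUp.IsEffCartierIdeal IY)
    {I : Type u} [SmallCategory I] [IsCofiltered I] (D : I ⥤ Over Y) (c : Cone D) (hc : IsLimit c)
    [∀ (i j : I) (t : i ⟶ j), IsAffineHom (D.map t).left]
    [∀ i, CompactSpace (D.obj i).left] [∀ i, QuasiSeparatedSpace (D.obj i).left]
    (hI : ∀ i, BlowUp.IsEffCartierIdeal (IY.comap (D.obj i).hom))
    (hadm : ∀ i, ModPair.IsAdmBlowup (IY.comap (D.obj i).hom) IY (D.obj i).hom)
    [∀ i, LocallyOfFinitePresentation (D.obj i).hom]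
    (hX : BlowUp.IsEffCartierIdeal (IY.comap c.pt.hom))
    (hXadm : ModPair.IsAdmBlowup (IY.comap c.pt.hom) IY c.pt.hom) :
    LocallyOfFinitePresentation c.pt.hom := by
  obtain ⟨-, hXp, hXiso⟩ := hXadm
  haveI := hXp
  haveI : LocallyOfFiniteType (𝟙 c.pt.left ≫ c.pt.hom) := by rw [Category.id_comp]; infer_instance
  obtain ⟨i, hi⟩ := Groth.Agent.S2076.result Y D c hc (𝟙 c.pt.left)
  haveI : IsClosedImmersion (c.π.app i).left := by rwa [Category.id_comp] at hi
  let V : (D.obj i).left.Opens := (D.obj i).hom ⁻¹ᵁ ModPair.interior IY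
  haveI : IsSchemeTheoreticallyDominant V.ι := by
    have h := ModPairLib.isDominant_interior (hI i)
    rwa [ModPairLib.interior_comap] at h
  haveI := (hadm i).2.2
  haveI := hXiso
  have hw : ((c.π.app i).left ∣_ V) ≫ ((D.obj i).hom ∣_ ModPair.interior IY) =
      ((c.π.app i).left ≫ (D.obj i).hom) ∣_ ModPair.interior IY := (morphismRestrict_comp _ _ _).symm
  have h2 : IsIso (((c.π.app i).left ≫ (D.obj i).hom) ∣_ ModPair.interior IY) := by
    rw [Over.w (c.π.app i)]; exact hXiso
  haveI : IsIso ((c.π.app i).left ∣_ V) := by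
    haveI : IsIso (((c.π.app i).left ∣_ V) ≫ ((D.obj i).hom ∣_ ModPair.interior IY)) := hw ▸ h2
    exact IsIso.of_isIso_comp_right _ ((D.obj i).hom ∣_ ModPair.interior IY)
  have hbot : (c.π.app i).left.ker = ⊥ := le_bot_iff.mp (by
    rw [← IsSchemeTheoreticallyDominant.ker_eq_bot V.ι,
      ← show (inv ((c.π.app i).left ∣_ V) ≫ ((c.π.app i).left ⁻¹ᵁ V).ι) ≫ (c.π.app i).left = V.ι by
        rw [Category.assoc, ← morphismRestrict_ι, IsIso.inv_hom_id_assoc]]
    exact Scheme.Hom.le_ker_comp _ _)
  haveI : IsIso (c.π.app i).left := IsClosedImmersion.isIso_of_ker_eq (c.π.app i).left (𝟙 _) (c.π.app i).left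
    (Category.comp_id _) (hbot.trans (Scheme.Hom.ker_eq_bot_of_isIso _).symm)
  have he : (c.π.app i).left ≫ (D.obj i).hom = c.pt.hom := Over.w (c.π.app i)
  rw [← he]
  infer_instance

end Groth.Agent.S18754
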