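import Groth.Statements.S18759
import Groth.Agent.NoethApproxLib.Proper
import Groth.Agent.ModPairLib.AmbientStage
import Groth.Agent.ModPairLib.Product
import Groth.Agent.GenFlatStrat.FGExtend
import Groth.Agent.RGFlatLib.Dominate

set_option autoImplicit false
universe u
open CategoryTheory CategoryTheory.Limits AlgebraicGeometry TopologicalSpace
open ModPair

namespace Groth.Agent.S18759

open TopologicalSpace NoethApproxLib Opposite

section
variable {X Y Z : Scheme.{u}}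

theorem exists_model [CompactSpace X] [QuasiSeparatedSpace X] [CompactSpace Y] [QuasiSeparatedSpace Y]
    (f : X ⟶ Y) [LocallyOfFiniteType f] :
    ∃ (Z : Scheme.{u}) (g : Z ⟶ Y) (ι : X ⟶ Z), LocallyOfFinitePresentation g ∧ QuasiCompact g ∧
      QuasiSeparated g ∧ CompactSpace Z ∧ QuasiSeparatedSpace Z ∧ IsClosedImmersion ι ∧ ι ≫ g = f ∧
      (IsProper f → IsProper g) := by
  by_cases h : IsProper f
  · obtain ⟨P, -, hP⟩ := exists_proper_system f
    obtain ⟨i⟩ := IsCofiltered.nonempty (C := P.Jᵒᵖ)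
    exact ⟨_, (P.D.obj i).hom, P.proj i, inferInstance, inferInstance, inferInstance, inferInstance,
      inferInstance, (hP i).1, P.proj_hom i, fun _ => (hP i).2⟩
  · obtain ⟨P, i, hi⟩ := exists_isClosedImmersion_model f
    exact ⟨_, (P.D.obj i).hom, P.proj i, inferInstance, inferInstance, inferInstance, inferInstance,
      inferInstance, hi i (𝟙 i), P.proj_hom i, fun h' => absurd h' h⟩

theorem app_surjective (ι : X ⟶ Z) [IsClosedImmersion ι] {W : Z.Opens} (hW : IsAffineOpen W) :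
    Function.Surjective (ι.app W).hom := by
  haveI : IsAffine (W : Scheme.{u}) := hW
  have h := (IsClosedImmersion.isAffine_surjective_of_isAffine (ι ∣_ W)).2
  rw [morphismRestrict_appTop] at h
  have h2 : Function.Surjective (ι.app (W.ι ''ᵁ ⊤)).hom := by
    intro y
    obtain ⟨x, hx⟩ := h ((X.presheaf.map (eqToHom (image_morphismRestrict_preimage ι W ⊤)).op).hom y)
    refine ⟨x, (ConcreteCategory.bijective_of_isIso
      (X.presheaf.map (eqToHom (image_morphismRestrict_preimage ι W ⊤)).op)).1 ?_⟩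
    exact hx
  rwa [Scheme.Opens.ι_image_top] at h2

theorem ker_app_fg (ι : X ⟶ Z) [IsClosedImmersion ι] (O : Z.Opens) [LocallyOfFinitePresentation (ι ∣_ O)]
    (W : O.toScheme.affineOpens) : (RingHom.ker (ι.app (O.ι ''ᵁ W.1)).hom).FG := by
  have hpre : IsAffineOpen ((ι ∣_ O) ⁻¹ᵁ W.1) := W.2.preimage _
  have h := (ι ∣_ O).finitePresentation_appLE W.2 hpre le_rfl
  rw [← Scheme.Hom.app_eq_appLE] at h
  have hker : RingHom.ker ((ι ∣_ O).app W.1).hom = RingHom.ker (ι.app (O.ι ''ᵁ W.1)).hom := by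
    rw [morphismRestrict_app]
    ext x
    exact map_eq_zero_iff _ (ConcreteCategory.bijective_of_isIso
      (X.presheaf.map (eqToHom (image_morphismRestrict_preimage ι O W.1)).op)).1
  rw [← hker]
  algebraize [((ι ∣_ O).app W.1).hom]
  exact Algebra.FinitePresentation.ker_fG_of_surjective (Algebra.ofId Γ(O.toScheme, W.1) Γ((ι ⁻¹ᵁ O).toScheme, (ι ∣_ O) ⁻¹ᵁ W.1))
    (app_surjective (ι ∣_ O) W.2)

theorem exists_fg_ker [CompactSpace Z] [QuasiSeparatedSpace Z] (ι : X ⟶ Z) [IsClosedImmersion ι]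
    {σ : Type} [Finite σ] (W : σ → Z.affineOpens) (t : ∀ k, Finset Γ(Z, (W k).1))
    (I : Z.IdealSheafData) (ht : ∀ k, ∀ y ∈ t k, y ∈ I.ideal (W k)) :
    ∃ E : Z.IdealSheafData, (∀ V, (E.ideal V).FG) ∧ E ≤ I ∧ ∀ k, ∀ y ∈ t k, y ∈ E.ideal (W k) := by
  classical
  haveI := Fintype.ofFinite σ
  choose E hE hle hmem using fun k => GenFlatStrat.exists_fg_le I (W k) (t k) (ht k)
  exact ⟨Finset.univ.sup E, fun V => SmoothStrat.fg_sup _ _ V fun k _ => hE k V,
    Finset.sup_le fun k _ => hle k, fun k y hy => (Finset.le_sup (f := E) (Finset.mem_univ k)) (W k) (hmem k y hy)⟩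

/-- the stagewise consequences -/
theorem eventually_le [CompactSpace Z] [QuasiSeparatedSpace Z] {ι : X ⟶ Z} (P : ApproxSys ι)
    (J K : Z.IdealSheafData) (hJ : BlowUp.IsFiniteTypeIdeal J) (h : J.comap ι ≤ K.comap ι) :
    ∃ j₀, ∀ k, (k ⟶ j₀) → J.comap (P.D.obj k).hom ≤ K.comap (P.D.obj k).hom := by
  obtain ⟨i⟩ := IsCofiltered.nonempty (C := P.Jᵒᵖ)
  let J' : ((P.D ⋙ Over.forget Z).obj i).IdealSheafData := J.comap (P.D.obj i).hom
  let K' : ((P.D ⋙ Over.forget Z).obj i).IdealSheafData := K.comap (P.D.obj i).hom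
  haveI : LocallyOfFinitePresentation J'.subschemeι :=
    SmoothStrat.lfp_subschemeι J' fun V => RGFlatLib.isFiniteTypeIdeal_comap hJ (P.D.obj i).hom V
  obtain ⟨j, t, hj⟩ := ModPairLib.exists_comap_le (P.D ⋙ Over.forget Z) P.cone P.isLimitCone i
    J' K' (by
      rw [← Scheme.IdealSheafData.comap_comp, ← Scheme.IdealSheafData.comap_comp]
      show J.comap (P.proj i ≫ _) ≤ K.comap (P.proj i ≫ _)
      rwa [P.proj_hom])
  refine ⟨j, fun k a => ?_⟩
  rw [← Scheme.IdealSheafData.comap_comp, ← Scheme.IdealSheafData.comap_comp] at hj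
  dsimp only [Functor.comp_map, Over.forget_map] at hj
  have e : (P.D.map a).left ≫ (P.D.map t).left ≫ (P.D.obj i).hom = (P.D.obj k).hom := by
    rw [Over.w, Over.w]
  have := Scheme.IdealSheafData.comap_mono (P.D.map a).left hj
  dsimp only at this
  exact ((congrArg J.comap e).symm.trans (Scheme.IdealSheafData.comap_comp _ _ _)).le.trans
    (this.trans ((Scheme.IdealSheafData.comap_comp _ _ _).symm.trans (congrArg K.comap e)).le)

theorem exists_cover [CompactSpace Z] (ι : X ⟶ Z) [IsClosedImmersion ι] (IX : X.IdealSheafData)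
    (hX : BlowUp.IsEffCartierIdeal IX) :
    ∃ (σ : Type) (_ : Finite σ) (W : σ → Z.affineOpens), (∀ z, ∃ k, z ∈ (W k).1) ∧
      ∀ k, ∃ t, IX.ideal ⟨ι ⁻¹ᵁ (W k).1, (W k).2.preimage ι⟩ = Ideal.span {t} := by
  classical
  have key : ∀ z : Z, ∃ W : Z.affineOpens, z ∈ W.1 ∧
      ∃ t, IX.ideal ⟨ι ⁻¹ᵁ W.1, W.2.preimage ι⟩ = Ideal.span {t} := by
    intro z
    by_cases hz : z ∈ Set.range ι
    · obtain ⟨x, rfl⟩ := hz
      obtain ⟨U, hxU, s, -, hU⟩ := hX x
      obtain ⟨O, hO, hOU⟩ := ι.isClosedEmbedding.isInducing.isOpen_iff.1 U.1.2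
      have hxO : ι x ∈ O := by rw [← Set.mem_preimage, hOU]; exact hxU
      obtain ⟨_, ⟨W, hW, rfl⟩, hxW, hWO⟩ := Z.isBasis_affineOpens.exists_subset_of_mem_open hxO hO
      have hle : (⟨ι ⁻¹ᵁ W, hW.preimage ι⟩ : X.affineOpens) ≤ U := fun y hy => by
        have : y ∈ ι ⁻¹' O := hWO hy
        rwa [hOU] at this
      refine ⟨⟨W, hW⟩, hxW, (X.presheaf.map (homOfLE hle).op).hom s, ?_⟩
      rw [← IX.map_ideal hle, hU, Ideal.map_span, Set.image_singleton]
    · have ho : IsOpen (Set.range ι)ᶜ := ι.isClosedEmbedding.isClosed_range.isOpen_compl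
      obtain ⟨_, ⟨W, hW, rfl⟩, hxW, hWO⟩ := Z.isBasis_affineOpens.exists_subset_of_mem_open hz ho
      refine ⟨⟨W, hW⟩, hxW, 0, ?_⟩
      have : ι ⁻¹ᵁ W = ⊥ := eq_bot_iff.2 fun y hy => absurd ⟨y, rfl⟩ (hWO hy)
      haveI : Subsingleton Γ(X, ι ⁻¹ᵁ W) := by
        rw [this]; infer_instance
      exact Subsingleton.elim _ _
  choose W hzW hW using key
  obtain ⟨T, hT⟩ := isCompact_univ.elim_finite_subcover (fun z => ((W z).1 : Set Z)) (fun z => (W z).1.2)
    fun z _ => Set.mem_iUnion.2 ⟨z, hzW z⟩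
  refine ⟨Fin T.card, inferInstance, fun k => W (T.equivFin.symm k).1, fun z => ?_, fun k => hW _⟩
  obtain ⟨w, hw, hzw⟩ := Set.mem_iUnion₂.1 (hT (Set.mem_univ z))
  exact ⟨T.equivFin ⟨w, hw⟩, by simp only [Equiv.symm_apply_apply]; exact hzw⟩

theorem exists_ideal [CompactSpace Z] [QuasiSeparatedSpace Z] (ι : X ⟶ Z) [IsClosedImmersion ι]
    (IX : X.IdealSheafData) {σ : Type} [Finite σ] (W : σ → Z.affineOpens) (hW : ∀ z, ∃ k, z ∈ (W k).1)
    (t : ∀ k, Γ(X, ι ⁻¹ᵁ (W k).1)) (ht : ∀ k, IX.ideal ⟨ι ⁻¹ᵁ (W k).1, (W k).2.preimage ι⟩ = Ideal.span {t k}) :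
    ∃ (J : Z.IdealSheafData) (_ : ∀ V, (J.ideal V).FG) (y : ∀ k, Γ(Z, (W k).1)), J.comap ι = IX ∧
      (∀ k, y k ∈ J.ideal (W k)) ∧
      ∀ k, ∀ g ∈ J.ideal (W k), ∃ a, (ι.app (W k).1).hom (g - a * y k) = 0 := by
  classical
  choose y hy using fun k => app_surjective ι (W k).2 (t k)
  obtain ⟨J, hJ, hle, hmem⟩ := exists_fg_ker ι W (fun k => {y k}) (IX.map ι) fun k w hw => by
    rw [Finset.mem_singleton] at hw
    rw [hw, Scheme.IdealSheafData.ideal_map_of_isAffineHom, Ideal.mem_comap, hy, ht]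
    exact Ideal.subset_span rfl
  refine ⟨J, hJ, y, le_antisymm (Scheme.IdealSheafData.le_map_iff_comap_le.1 hle) ?_,
    fun k => hmem k _ (Finset.mem_singleton_self _), fun k g hg => ?_⟩
  · refine Scheme.IdealSheafData.le_of_iSup_eq_top (fun k => ⟨ι ⁻¹ᵁ (W k).1, (W k).2.preimage ι⟩)
      (eq_top_iff.2 fun x _ => by obtain ⟨k, hk⟩ := hW (ι x); exact Opens.mem_iSup.2 ⟨k, hk⟩) fun k => ?_
    rw [ht, Ideal.span_singleton_le_iff_mem, ← hy k]
    have h1 : y k ∈ ((J.comap ι).map ι).ideal (W k) :=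
      Scheme.IdealSheafData.le_map_comap J ι (W k) (hmem k _ (Finset.mem_singleton_self _))
    rwa [Scheme.IdealSheafData.ideal_map_of_isAffineHom] at h1
  · have h1 := hle (W k) hg
    rw [Scheme.IdealSheafData.ideal_map_of_isAffineHom, Ideal.mem_comap, ht, Ideal.mem_span_singleton'] at h1
    obtain ⟨a, ha⟩ := h1
    obtain ⟨a, rfl⟩ := app_surjective ι (W k).2 a
    exact ⟨a, by rw [map_sub, map_mul, hy, ha, sub_self]⟩

theorem app_eq_zero_of_comap_eq_bot {T : Scheme.{u}} (q : T ⟶ Z) [IsClosedImmersion q] {E : Z.IdealSheafData}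
    (h : E.comap q = ⊥) (W : Z.affineOpens) {e : Γ(Z, W.1)} (he : e ∈ E.ideal W) : (q.app W.1).hom e = 0 := by
  have h1 : E ≤ q.ker := by
    rw [← Scheme.IdealSheafData.map_bot q, Scheme.IdealSheafData.le_map_iff_comap_le, h]
  have h2 := h1 W he
  rwa [Scheme.Hom.ker_apply, RingHom.mem_ker] at h2

theorem isLocPrincipal_stage {T : Scheme.{u}} (q : T ⟶ Z) [IsClosedImmersion q] (J E : Z.IdealSheafData)
    {σ : Type} (W : σ → Z.affineOpens) (hW : ∀ z, ∃ k, z ∈ (W k).1) (y : ∀ k, Γ(Z, (W k).1))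
    (hy : ∀ k, y k ∈ J.ideal (W k)) (G : ∀ k, Finset Γ(Z, (W k).1)) (hG : ∀ k, Ideal.span (G k) = J.ideal (W k))
    (hE : ∀ k, ∀ g ∈ G k, ∃ a, g - a * y k ∈ E.ideal (W k)) (hbot : E.comap q = ⊥) :
    Curv2.IsLocPrincipal (J.comap q) := by
  intro x _
  obtain ⟨k, hk⟩ := hW (q x)
  refine ⟨⟨q ⁻¹ᵁ (W k).1, (W k).2.preimage q⟩, hk, (q.app (W k).1).hom (y k), ?_⟩
  rw [Groth.Agent.S4666.ideal_comap_eq J q (W k) ⟨q ⁻¹ᵁ (W k).1, (W k).2.preimage q⟩ le_rfl,
    ← Scheme.Hom.app_eq_appLE]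
  refine le_antisymm ?_ ((Ideal.span_singleton_le_iff_mem _).2 (Ideal.mem_map_of_mem _ (hy k)))
  rw [← hG k, Ideal.map_span, Ideal.span_le]
  rintro _ ⟨g, hg, rfl⟩
  obtain ⟨a, ha⟩ := hE k g hg
  have h0 := app_eq_zero_of_comap_eq_bot q hbot (W k) ha
  rw [map_sub, sub_eq_zero, map_mul] at h0
  rw [SetLike.mem_coe, h0]
  exact Ideal.mul_mem_left _ _ (Ideal.subset_span rfl)

theorem isIso_restrict_stage {T : Scheme.{u}} (p : X ⟶ T) [IsClosedImmersion p] (q : T ⟶ Z)
    [IsClosedImmersion q] (O : Z.Opens) {σ : Type} (W : σ → O.toScheme.affineOpens)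
    (hW : ∀ z : O.toScheme, ∃ k, z ∈ (W k).1)
    (hker : ∀ k, ∀ e, ((p ≫ q).app (O.ι ''ᵁ (W k).1)).hom e = 0 → (q.app (O.ι ''ᵁ (W k).1)).hom e = 0) :
    IsIso (p ∣_ q ⁻¹ᵁ O) := by
  let 𝒲 : σ → (q ⁻¹ᵁ O).toScheme.Opens := fun k => (q ⁻¹ᵁ O).ι ⁻¹ᵁ (q ⁻¹ᵁ (O.ι ''ᵁ (W k).1))
  show MorphismProperty.isomorphisms Scheme.{u} _
  rw [IsZariskiLocalAtTarget.iff_of_iSup_eq_top (P := MorphismProperty.isomorphisms Scheme.{u}) 𝒲
    (eq_top_iff.2 fun x _ => by
      obtain ⟨k, hk⟩ := hW ⟨q x.1, x.2⟩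
      exact Opens.mem_iSup.2 ⟨k, ⟨q x.1, x.2⟩, hk, rfl⟩)]
  intro k
  refine ((MorphismProperty.isomorphisms Scheme.{u}).arrow_mk_iso_iff (morphismRestrictRestrict p _ _)).2 ?_
  show IsIso _
  have himg : (q ⁻¹ᵁ O).ι ''ᵁ 𝒲 k = q ⁻¹ᵁ (O.ι ''ᵁ (W k).1) := by
    rw [Scheme.Hom.image_preimage_eq_opensRange_inf, Scheme.Opens.opensRange_ι]
    exact inf_eq_right.2 (Scheme.Hom.preimage_mono q (O.ι.image_le_opensRange _ |>.trans
      (Scheme.Opens.opensRange_ι O).le))
  rw [himg]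
  have haff : IsAffineOpen (O.ι ''ᵁ (W k).1) := (W k).2.image_of_isOpenImmersion O.ι
  haveI : IsAffine (q ⁻¹ᵁ (O.ι ''ᵁ (W k).1) : Scheme.{u}) := haff.preimage q
  refine IsClosedImmersion.isIso_of_injective_of_isAffine ?_
  have hinj : Function.Injective (p.app (q ⁻¹ᵁ (O.ι ''ᵁ (W k).1))).hom := by
    rw [injective_iff_map_eq_zero]
    intro a ha
    obtain ⟨b, rfl⟩ := app_surjective q haff a
    exact hker k b (by rw [Scheme.Hom.comp_app]; exact ha)
  rw [morphismRestrict_appTop]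
  refine (ConcreteCategory.bijective_of_isIso (X.presheaf.map (eqToHom
    (image_morphismRestrict_preimage p (q ⁻¹ᵁ (O.ι ''ᵁ (W k).1)) ⊤)).op)).1.comp ?_
  have key : ∀ V, V = q ⁻¹ᵁ (O.ι ''ᵁ (W k).1) → Function.Injective (p.app V).hom := fun V e => by
    subst e; exact hinj
  exact key _ (Scheme.Opens.ι_image_top _)

end


/-- Let (X, I_X) and (Y, I_Y) be modulus pairs with X, Y quasi-compact and quasi-separated, and f : X ⟶
Y an ambient morphism (modulus condition I_X ≤ I_Y.comap f) which is locally of finite type. Then X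
⟶ Y is a cofiltered limit of Y-schemes X_i such that: (1) every X_i ⟶ Y is of finite presentation
and all transition maps X_i ⟶ X_j and projections X ⟶ X_i are closed immersions; (2) every X_i
carries a locally principal quasi-coherent ideal sheaf J_i whose pull-back to X is I_X and whose
pull-back along each transition map X_i ⟶ X_j of J_j is J_i; (3) every X_i ⟶ Y satisfies the modulus
condition for J_i, and if f is minimal all X_i ⟶ Y are minimal; (4) if f is proper all X_i ⟶ Y are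
proper; (5) if f is minimal and an isomorphism over the interior of Y, every X_i ⟶ Y is an
isomorphism over the interior of Y. (Part (5) is given here in the minimal case, where the interior
of (X_i, J_i) is the preimage of the interior of Y.) -/
theorem result {X Y : Scheme.{u}}
    [CompactSpace X] [QuasiSeparatedSpace X] [CompactSpace Y] [QuasiSeparatedSpace Y]
    (IX : X.IdealSheafData) (IY : Y.IdealSheafData) (hX : BlowUp.IsEffCartierIdeal IX)
    (hY : BlowUp.IsEffCartierIdeal IY) (f : X ⟶ Y) (hf : ModPair.IsAmbient IX IY f)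
    [LocallyOfFiniteType f] :
    ∃ (I : Type u) (_ : SmallCategory I) (_ : IsCofiltered I) (D : I ⥤ Over Y) (c : Cone D)
      (_ : IsLimit c) (e : c.pt ≅ Over.mk f) (J : ∀ i, (D.obj i).left.IdealSheafData),
      (∀ i, LocallyOfFinitePresentation (D.obj i).hom ∧ QuasiCompact (D.obj i).hom ∧
          QuasiSeparated (D.obj i).hom) ∧
        (∀ (i j : I) (t : i ⟶ j), IsClosedImmersion (D.map t).left) ∧
        (∀ i, IsClosedImmersion (c.π.app i).left) ∧
        (∀ i, Curv2.IsLocPrincipal (J i)) ∧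
        (∀ i, IX = (J i).comap (e.inv.left ≫ (c.π.app i).left)) ∧
        (∀ (i j : I) (t : i ⟶ j), J i = (J j).comap (D.map t).left) ∧
        (∀ i, ModPair.IsAmbient (J i) IY (D.obj i).hom) ∧
        (ModPair.IsMinimal IX IY f → ∀ i, ModPair.IsMinimal (J i) IY (D.obj i).hom) ∧
        (IsProper f → ∀ i, IsProper (D.obj i).hom) ∧
        (ModPair.IsMinimal IX IY f → IsIso (f ∣_ ModPair.interior IY) →
          ∀ i, IsIso ((D.obj i).hom ∣_ ModPair.interior IY)) := by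
  classical
  obtain ⟨Z, g, ι, hg1, hg2, hg3, hZc, hZq, hι, hfac, hprop⟩ := exists_model f
  subst hfac
  obtain ⟨σ, hσ, W, hWcov, ht⟩ := exists_cover ι IX hX
  choose t ht using ht
  obtain ⟨J, hJ, y, hJι, hyJ, hJgen⟩ := exists_ideal ι IX W hWcov t ht
  choose G hG using fun k => hJ (W k)
  choose a ha using fun (k : σ) (x : G k) => hJgen k x.1 (hG k ▸ Ideal.subset_span x.2)
  -- elements of the kernel needed for local principality
  obtain ⟨E₁, hE₁, hE₁le, hE₁mem⟩ := exists_fg_ker ι W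
    (fun k => (G k).attach.image fun x => x.1 - a k x * y k) ι.ker fun k e he => by
      obtain ⟨x, -, rfl⟩ := Finset.mem_image.1 he
      rw [Scheme.Hom.ker_apply, RingHom.mem_ker]
      exact ha k x
  obtain ⟨P, hPt, hPh⟩ := exists_closed_sys ι
  have hPp : ∀ k, IsClosedImmersion (P.proj k) := fun k => by
    haveI := hPh k
    haveI : IsClosedImmersion (P.proj k ≫ (P.D.obj k).hom) := by rw [P.proj_hom]; exact hι
    exact IsClosedImmersion.of_comp _ (P.D.obj k).hom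
  have hkerι : ∀ E : Z.IdealSheafData, E ≤ ι.ker → E.comap ι ≤ (⊥ : Z.IdealSheafData).comap ι := by
    intro E hE
    rw [Scheme.IdealSheafData.comap_bot, ← Scheme.IdealSheafData.le_map_iff_comap_le,
      Scheme.IdealSheafData.map_bot]
    exact hE
  obtain ⟨j₁, hj₁⟩ := eventually_le P E₁ ⊥ hE₁ (hkerι E₁ hE₁le)
  -- the modulus conditions
  have hIY : BlowUp.IsFiniteTypeIdeal (IY.comap g) := ModPairLib.fg_comap_of_isEffCartier hY g
  obtain ⟨j₂, hj₂⟩ := eventually_le P J (IY.comap g) hJ (by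
    rw [hJι, ← Scheme.IdealSheafData.comap_comp]; exact hf)
  obtain ⟨j₃, hj₃⟩ : ∃ j₃, ModPair.IsMinimal IX IY (ι ≫ g) → ∀ k, (k ⟶ j₃) →
      (IY.comap g).comap (P.D.obj k).hom ≤ J.comap (P.D.obj k).hom := by
    by_cases hmin : ModPair.IsMinimal IX IY (ι ≫ g)
    · obtain ⟨j₃, h⟩ := eventually_le P (IY.comap g) J hIY (by
        rw [hJι, ← Scheme.IdealSheafData.comap_comp]; exact le_of_eq hmin.symm)
      exact ⟨j₃, fun _ => h⟩
    · exact ⟨j₁, fun h => absurd h hmin⟩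
  -- the isomorphism over the interior
  let O : Z.Opens := g ⁻¹ᵁ ModPair.interior IY
  obtain ⟨j₄, hj₄⟩ : ∃ j₄, IsIso ((ι ≫ g) ∣_ ModPair.interior IY) → ∀ k, (k ⟶ j₄) →
      IsIso (((P.D.obj k).hom ≫ g) ∣_ ModPair.interior IY) := by
    by_cases hiso : IsIso ((ι ≫ g) ∣_ ModPair.interior IY)
    · haveI : LocallyOfFinitePresentation (ι ∣_ O ≫ g ∣_ ModPair.interior IY) := by
        rw [← morphismRestrict_comp]
        exact @locallyOfFinitePresentation_of_isOpenImmersion _ _ _ (@IsOpenImmersion.of_isIso _ _ _ hiso)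
      haveI : LocallyOfFinitePresentation (ι ∣_ O) :=
        Groth.Agent.S12442.lfp_of_comp_lft (ι ∣_ O) (g ∣_ ModPair.interior IY)
      haveI := ModPairLib.isAffineHom_interior hY
      haveI : CompactSpace (ModPair.interior IY : Scheme.{u}) :=
        QuasiCompact.compactSpace_of_compactSpace (ModPair.interior IY).ι
      haveI : CompactSpace O.toScheme :=
        QuasiCompact.compactSpace_of_compactSpace (g ∣_ ModPair.interior IY)
      obtain ⟨T, hT⟩ := isCompact_univ.elim_finite_subcover (fun W : O.toScheme.affineOpens => (W.1 : Set O.toScheme))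
        (fun W => W.1.2) fun z _ => by
          obtain ⟨_, ⟨W, hW, rfl⟩, hzW, -⟩ :=
            O.toScheme.isBasis_affineOpens.exists_subset_of_mem_open (Set.mem_univ z) isOpen_univ
          exact Set.mem_iUnion.2 ⟨⟨W, hW⟩, hzW⟩
      let W' : Fin T.card → O.toScheme.affineOpens := fun k => (T.equivFin.symm k).1
      let W'' : Fin T.card → Z.affineOpens := fun k => ⟨O.ι ''ᵁ (W' k).1, (W' k).2.image_of_isOpenImmersion O.ι⟩
      choose G' hG' using fun k => ker_app_fg ι O (W' k)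
      obtain ⟨E₂, hE₂, hE₂le, hE₂mem⟩ := exists_fg_ker ι W'' G' ι.ker fun k e he => by
        rw [Scheme.Hom.ker_apply]
        exact (hG' k).le (Submodule.subset_span he)
      obtain ⟨j₄, h⟩ := eventually_le P E₂ ⊥ hE₂ (hkerι E₂ hE₂le)
      refine ⟨j₄, fun _ k ak => ?_⟩
      haveI := hPh k
      haveI := hPp k
      have hbot : E₂.comap (P.D.obj k).hom = ⊥ := by
        have := h k ak
        rwa [Scheme.IdealSheafData.comap_bot, le_bot_iff] at this
      haveI : IsIso (P.proj k ∣_ (P.D.obj k).hom ⁻¹ᵁ O) := by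
        refine isIso_restrict_stage (P.proj k) (P.D.obj k).hom O W' (fun z => ?_) fun l e he => ?_
        · obtain ⟨V, hV, hzV⟩ := Set.mem_iUnion₂.1 (hT (Set.mem_univ z))
          exact ⟨T.equivFin ⟨V, hV⟩, by simpa [W'] using hzV⟩
        · rw [Scheme.Hom.congr_app (P.proj_hom k) (O.ι ''ᵁ (W' l).1)] at he
          have he' : (ι.app (O.ι ''ᵁ (W' l).1)).hom e = 0 :=
            (ConcreteCategory.bijective_of_isIso (X.presheaf.map (eqToHom _).op)).1 (he.trans (map_zero _).symm)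
          have hmem : e ∈ E₂.ideal (W'' l) := by
            have : Ideal.span (G' l : Set Γ(Z, (W'' l).1)) ≤ E₂.ideal (W'' l) :=
              Ideal.span_le.2 fun e he => hE₂mem l e he
            exact this ((hG' l).ge he')
          exact app_eq_zero_of_comap_eq_bot _ hbot (W'' l) hmem
      have h1 : IsIso ((P.proj k ≫ ((P.D.obj k).hom ≫ g)) ∣_ ModPair.interior IY) := by
        rw [← Category.assoc, P.proj_hom]; exact hiso
      rw [morphismRestrict_comp] at h1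
      haveI : IsIso (P.proj k ∣_ ((P.D.obj k).hom ≫ g) ⁻¹ᵁ ModPair.interior IY) :=
        (inferInstance : IsIso (P.proj k ∣_ (P.D.obj k).hom ⁻¹ᵁ O))
      exact @IsIso.of_isIso_comp_left _ _ _ _ _ (P.proj k ∣_ ((P.D.obj k).hom ≫ g) ⁻¹ᵁ ModPair.interior IY) _ ‹_› h1
    · exact ⟨j₁, fun h => absurd h hiso⟩
  obtain ⟨a₁₂, b₁, b₂, -⟩ := IsCofilteredOrEmpty.cone_objs j₁ j₂
  obtain ⟨a₃₄, b₃, b₄, -⟩ := IsCofilteredOrEmpty.cone_objs j₃ j₄
  obtain ⟨m, c₁, c₂, -⟩ := IsCofilteredOrEmpty.cone_objs a₁₂ a₃₄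
  let Q := (P.tail m.unop).map g
  let q : ∀ i : (P.tail m.unop).Jᵒᵖ, ((P.tail m.unop).D.obj i).left ⟶ Z := fun i => ((P.tail m.unop).D.obj i).hom
  have hle : ∀ i : (P.tail m.unop).Jᵒᵖ, (op i.unop.1 : P.Jᵒᵖ) ⟶ m := fun i => (homOfLE i.unop.2).op
  refine ⟨Q.Jᵒᵖ, inferInstance, inferInstance, Q.D, Cone.mk (Over.mk (ι ≫ g)) Q.π, Q.isLimit, Iso.refl _,
    fun i => J.comap (q i), fun i => ⟨Q.lfp i, Q.qc i, Q.qs i⟩, fun i j b => hPt _, fun i => hPp _,
    fun i => ?_, fun i => ?_, fun i j b => ?_, fun i => ?_, fun hmin i => ?_, fun hpr i => ?_,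
    fun hmin hiso i => ?_⟩
  · haveI : IsClosedImmersion (q i) := hPh _
    refine isLocPrincipal_stage (q i) J E₁ W hWcov y hyJ G hG (fun k x hx => ⟨a k ⟨x, hx⟩,
      hE₁mem k _ (Finset.mem_image.2 ⟨⟨x, hx⟩, Finset.mem_attach _ _, rfl⟩)⟩) ?_
    have := hj₁ _ (hle i ≫ c₁ ≫ b₁)
    rw [Scheme.IdealSheafData.comap_bot, le_bot_iff] at this
    exact this
  · show IX = (J.comap (q i)).comap (𝟙 X ≫ (P.tail m.unop).proj i)
    rw [Category.id_comp, ← Scheme.IdealSheafData.comap_comp, (P.tail m.unop).proj_hom, hJι]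
  · show J.comap (q i) = (J.comap (q j)).comap ((P.tail m.unop).D.map b).left
    rw [← Scheme.IdealSheafData.comap_comp, Over.w]
  · show J.comap (q i) ≤ IY.comap (q i ≫ g)
    rw [Scheme.IdealSheafData.comap_comp]
    exact hj₂ _ (hle i ≫ c₁ ≫ b₂)
  · show J.comap (q i) = IY.comap (q i ≫ g)
    rw [Scheme.IdealSheafData.comap_comp]
    exact le_antisymm (hj₂ _ (hle i ≫ c₁ ≫ b₂)) (hj₃ hmin _ (hle i ≫ c₂ ≫ b₃))
  · haveI : IsClosedImmersion (q i) := hPh _
    haveI := hprop hpr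
    show IsProper (q i ≫ g)
    infer_instance
  · exact hj₄ hiso _ (hle i ≫ c₂ ≫ b₄)

end Groth.Agent.S18759
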