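import Groth.Statements.S1876
import Groth.Agent.DRingLib.Basic

set_option autoImplicit false
universe u
open CategoryTheory
attribute [local instance] HasDerivedCategory.standard
open Trace

namespace Groth.Agent.S1876

open CategoryTheory.Limits in
section

variable {Λ : Type u} [CommRing Λ]

/-- The alternating trace. -/
noncomputable def chi (P : DRing.Cx Λ) (a b : ℤ) (f : P ⟶ P) : Λ :=
  ∑ i ∈ Finset.Icc a b, ((i.negOnePow : ℤˣ) : ℤ) • LinearMap.trace Λ (P.X i) (f.f i).hom

lemma tr_cyclic {P Q : DRing.Cx Λ} (hPf : DRing.TermwiseFiniteFree P)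
    (hQf : DRing.TermwiseFiniteFree Q) {i j : ℤ} (u : P.X i ⟶ Q.X j) (v : Q.X j ⟶ P.X i) :
    LinearMap.trace Λ (P.X i) (u ≫ v).hom = LinearMap.trace Λ (Q.X j) (v ≫ u).hom := by
  have := (hPf i).1; have := (hPf i).2; have := (hQf j).1; have := (hQf j).2
  rw [ModuleCat.hom_comp, ModuleCat.hom_comp, LinearMap.trace_comp_comm']

lemma chi_cyclic {P Q : DRing.Cx Λ} (hPf : DRing.TermwiseFiniteFree P)
    (hQf : DRing.TermwiseFiniteFree Q) (a b : ℤ) (u : P ⟶ Q) (v : Q ⟶ P) :
    chi P a b (u ≫ v) = chi Q a b (v ≫ u) :=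
  Finset.sum_congr rfl fun i _ => by rw [HomologicalComplex.comp_f, HomologicalComplex.comp_f,
    tr_cyclic hPf hQf]

lemma chi_homotopic {P : DRing.Cx Λ} (hPf : DRing.TermwiseFiniteFree P) {a b : ℤ}
    (hP : DRing.VanishesOutside P a b) {f g : P ⟶ P} (h : Homotopy f g) :
    chi P a b f = chi P a b g := by
  let T : ℤ → Λ := fun i => LinearMap.trace Λ (P.X i) (P.d i (i + 1) ≫ h.hom (i + 1) i).hom
  have hz : ∀ i, (i < a ∨ b < i + 1) → T i = 0 := by
    intro i hi
    have h0 : P.d i (i + 1) ≫ h.hom (i + 1) i = 0 := by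
      rcases hi with hi | hi
      · exact (hP i (Or.inl hi)).eq_of_src _ _
      · rw [(hP (i + 1) (Or.inr hi)).eq_of_tgt (P.d i (i + 1)) 0, zero_comp]
    simp only [T, h0, ModuleCat.hom_zero, map_zero]
  have hterm : ∀ i, LinearMap.trace Λ (P.X i) (f.f i).hom
      = T i + T (i - 1) + LinearMap.trace Λ (P.X i) (g.f i).hom := by
    intro i
    have e := h.comm i
    rw [dNext_eq h.hom (show (ComplexShape.up ℤ).Rel i (i + 1) by simp),
      prevD_eq h.hom (show (ComplexShape.up ℤ).Rel (i - 1) i by simp)] at e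
    rw [e, ModuleCat.hom_add, ModuleCat.hom_add, map_add, map_add]
    congr 2
    rw [tr_cyclic hPf hPf (h.hom i (i - 1)) (P.d (i - 1) i)]
    have key : ∀ j k : ℤ, k = j + 1 →
        LinearMap.trace Λ (P.X j) (P.d j k ≫ h.hom k j).hom = T j := fun j k hk => by
      subst hk; rfl
    exact key (i - 1) i (by omega)
  have hsum : (∑ i ∈ Finset.Icc a b, ((i.negOnePow : ℤˣ) : ℤ) • T i)
      + ∑ i ∈ Finset.Icc a b, ((i.negOnePow : ℤˣ) : ℤ) • T (i - 1) = 0 := by
    have e : (∑ i ∈ Finset.Icc a b, ((i.negOnePow : ℤˣ) : ℤ) • T (i - 1))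
        = ∑ i ∈ Finset.Icc (a - 1) (b - 1), (((i + 1).negOnePow : ℤˣ) : ℤ) • T i :=
      Finset.sum_nbij' (fun i => i - 1) (fun i => i + 1)
        (fun i hi => by simp only [Finset.coe_Icc, Set.mem_Icc, Finset.mem_Icc] at hi ⊢; omega)
        (fun i hi => by simp only [Finset.coe_Icc, Set.mem_Icc, Finset.mem_Icc] at hi ⊢; omega)
        (fun i _ => by simp) (fun i _ => by simp) (fun i _ => by simp)
    have e1 : (∑ i ∈ Finset.Icc a b, ((i.negOnePow : ℤˣ) : ℤ) • T i)
        = ∑ i ∈ Finset.Icc (a - 1) b, ((i.negOnePow : ℤˣ) : ℤ) • T i :=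
      Finset.sum_subset (fun i hi => by simp only [Finset.mem_Icc] at hi ⊢; omega)
        (fun i hi hi' => by
          simp only [Finset.mem_Icc] at hi hi'
          rw [hz i (Or.inl (by omega)), smul_zero])
    have e2 : (∑ i ∈ Finset.Icc (a - 1) (b - 1), (((i + 1).negOnePow : ℤˣ) : ℤ) • T i)
        = ∑ i ∈ Finset.Icc (a - 1) b, (((i + 1).negOnePow : ℤˣ) : ℤ) • T i :=
      Finset.sum_subset (fun i hi => by simp only [Finset.mem_Icc] at hi ⊢; omega)
        (fun i hi hi' => by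
          simp only [Finset.mem_Icc] at hi hi'
          rw [hz i (Or.inr (by omega)), smul_zero])
    rw [e, e1, e2, ← Finset.sum_add_distrib]
    refine Finset.sum_eq_zero fun i _ => ?_
    rw [← add_smul, Int.negOnePow_succ, Units.val_neg, add_neg_cancel, zero_smul]
  simp only [chi, hterm, smul_add, Finset.sum_add_distrib]
  rw [hsum, zero_add]

end

/-- Commutative coefficient ring, finite free terms: let P and Q be bounded complexes of finite free
Λ-modules with chain endomorphisms f and g, and α : P ≅ Q an isomorphism in the derived category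
D(Λ) with α ∘ f = g ∘ α there. Then Σ_i (−1)^i Tr(f^i | P^i) = Σ_i (−1)^i Tr(g^i | Q^i); that is,
the trace of an endomorphism of a perfect object of D(Λ) is well defined. -/
theorem result (Λ : Type u) [CommRing Λ] (P Q : DRing.Cx Λ) (a b : ℤ) (hP : DRing.VanishesOutside P a b) (hQ : DRing.VanishesOutside Q a b) (hPf : DRing.TermwiseFiniteFree P) (hQf : DRing.TermwiseFiniteFree Q) (f : P ⟶ P) (g : Q ⟶ Q) (α : DRing.toD P ≅ DRing.toD Q) (h : α.hom ≫ DerivedCategory.Q.map g = DerivedCategory.Q.map f ≫ α.hom) : ∑ i ∈ Finset.Icc a b, ((i.negOnePow : ℤˣ) : ℤ) • LinearMap.trace Λ (P.X i) (f.f i).hom = ∑ i ∈ Finset.Icc a b, ((i.negOnePow : ℤˣ) : ℤ) • LinearMap.trace Λ (Q.X i) (g.f i).hom := by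
  haveI : P.IsKProjective := DRingLib.isKProjective_of_free P b
    (fun i hi => hP i (Or.inr hi)) fun i => (hPf i).2
  haveI : Q.IsKProjective := DRingLib.isKProjective_of_free Q b
    (fun i hi => hQ i (Or.inr hi)) fun i => (hQf i).2
  have hom : ∀ {K L : DRing.Cx Λ} [K.IsKProjective] (u v : K ⟶ L),
      DerivedCategory.Q.map u = DerivedCategory.Q.map v → Nonempty (Homotopy u v) :=
    fun {K L} _ u v huv => by
      have hinj := (CochainComplex.IsKProjective.Qh_map_bijective K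
        ((HomotopyCategory.quotient _ (ComplexShape.up ℤ)).obj L)).1
      exact ⟨HomotopyCategory.homotopyOfEq u v (hinj huv)⟩
  obtain ⟨u, hu⟩ := DRingLib.Q_map_surjective P Q α.hom
  obtain ⟨v, hv⟩ := DRingLib.Q_map_surjective Q P α.inv
  obtain ⟨H1⟩ := hom (u ≫ v) (𝟙 P) (by
    rw [Functor.map_comp, hu, hv, CategoryTheory.Functor.map_id]; exact α.hom_inv_id)
  obtain ⟨H2⟩ := hom (v ≫ u) (𝟙 Q) (by
    rw [Functor.map_comp, hu, hv, CategoryTheory.Functor.map_id]; exact α.inv_hom_id)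
  obtain ⟨H3⟩ := hom (u ≫ g) (f ≫ u) (by
    rw [Functor.map_comp, Functor.map_comp, hu]; exact h)
  show chi P a b f = chi Q a b g
  calc chi P a b f = chi P a b (f ≫ u ≫ v) :=
        (chi_homotopic hPf hP ((H1.compLeft f).trans (Homotopy.ofEq (Category.comp_id f)))).symm
    _ = chi P a b ((f ≫ u) ≫ v) := by rw [Category.assoc]
    _ = chi Q a b (v ≫ f ≫ u) := chi_cyclic hPf hQf a b (f ≫ u) v
    _ = chi Q a b (v ≫ u ≫ g) := (chi_homotopic hQf hQ (H3.compLeft v)).symm
    _ = chi Q a b ((v ≫ u) ≫ g) := by rw [Category.assoc]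
    _ = chi Q a b g :=
        chi_homotopic hQf hQ ((H2.compRight g).trans (Homotopy.ofEq (Category.id_comp g)))

end Groth.Agent.S1876
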