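import Groth.Statements.S18764
import Groth.Agent.NoriFGSLib.FibreProd
import Groth.Agent.NoriFGSLib.FlatPseudo
import Groth.Agent.Unram17Lib.FibreMap
-- import your own Groth.Agent.* helpers here

set_option autoImplicit false
universe u
open CategoryTheory CategoryTheory.Limits MonoidalCategory CartesianMonoidalCategory MonObj GrpObj AlgebraicGeometry
open NonAbH1

set_option backward.isDefEq.respectTransparency false
set_option linter.style.haveILetI false
set_option maxHeartbeats 800000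
open CategoryTheory.Limits
open Groth.Agent

namespace Groth.Agent.S18764

/-- Let k be a field and X a quasi-compact k-scheme, connected and reduced, having a k-point x; let G,
G₁, G₂ be finite group schemes over k with homomorphisms φ₁ : G₁ → G and φ₂ : G₂ → G, and let T, T₁,
T₂ be torsors over X (fppf-locally trivial) under the base changes to X of G, G₁, G₂ respectively,
each pointed by a k-point lying over x. Let f₁ : T₁ → T and f₂ : T₂ → T be morphisms of pointed
torsors: X-morphisms which intertwine the actions along φ₁, φ₂ and send the marked points of T₁, T₂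
to that of T. Let P be the fibre product group scheme G₁ ×_G G₂ with its projections π₁, π₂. Then
the fibre product T₁ ×_T T₂ carries an action of the base change of P for which both projections to
T₁ and T₂ are equivariant (along π₁, π₂) and which makes it a torsor over X (fppf-locally trivial).
(The published statement says that such an X has a fundamental group scheme; this row states the
closure of finite pointed torsors under fibre products to which it is reduced.) -/
theorem result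
    (k : Type u) [Field k] (X : Scheme.{u}) [X.Over (Spec (CommRingCat.of k))] [ConnectedSpace X]
    [CompactSpace X] [AlgebraicGeometry.IsReduced X]
    (x : Spec (CommRingCat.of k) ⟶ X) (hx : x ≫ (X ↘ Spec (CommRingCat.of k)) = 𝟙 _)
    (G G₁ G₂ : Over (Spec (CommRingCat.of k))) [GrpObj G] [GrpObj G₁] [GrpObj G₂]
    [IsFinite G.hom] [IsFinite G₁.hom] [IsFinite G₂.hom]
    (φ₁ : G₁ ⟶ G) (φ₂ : G₂ ⟶ G) [IsMonHom φ₁] [IsMonHom φ₂]
    (T T₁ T₂ : Over X)
    (a : AlgGrp.Action (Red.bc (X ↘ Spec (CommRingCat.of k)) G) T)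
    (a₁ : AlgGrp.Action (Red.bc (X ↘ Spec (CommRingCat.of k)) G₁) T₁)
    (a₂ : AlgGrp.Action (Red.bc (X ↘ Spec (CommRingCat.of k)) G₂) T₂)
    (hT : NonAbH1.IsTorsorFor Scheme.fppfPrecoverage a)
    (hT₁ : NonAbH1.IsTorsorFor Scheme.fppfPrecoverage a₁)
    (hT₂ : NonAbH1.IsTorsorFor Scheme.fppfPrecoverage a₂)
    (t : Spec (CommRingCat.of k) ⟶ T.left) (t₁ : Spec (CommRingCat.of k) ⟶ T₁.left)
    (t₂ : Spec (CommRingCat.of k) ⟶ T₂.left)
    (ht : t ≫ T.hom = x) (ht₁ : t₁ ≫ T₁.hom = x) (ht₂ : t₂ ≫ T₂.hom = x)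
    (f₁ : T₁ ⟶ T) (f₂ : T₂ ⟶ T)
    (hf₁ : AlgGrp.Action.IsEquivariant a₁ (a.restrict ((Over.pullback (X ↘ Spec (CommRingCat.of k))).map φ₁)) f₁)
    (hf₂ : AlgGrp.Action.IsEquivariant a₂ (a.restrict ((Over.pullback (X ↘ Spec (CommRingCat.of k))).map φ₂)) f₂)
    (hft₁ : t₁ ≫ f₁.left = t) (hft₂ : t₂ ≫ f₂.left = t)
    (P : Over (Spec (CommRingCat.of k))) [GrpObj P] (π₁ : P ⟶ G₁) (π₂ : P ⟶ G₂) [IsMonHom π₁] [IsMonHom π₂]
    (hP : IsPullback π₁ π₂ φ₁ φ₂) :
    ∃ c : AlgGrp.Action (Red.bc (X ↘ Spec (CommRingCat.of k)) P) (pullback f₁ f₂),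
      AlgGrp.Action.IsEquivariant c (a₁.restrict ((Over.pullback (X ↘ Spec (CommRingCat.of k))).map π₁)) (pullback.fst f₁ f₂) ∧
      AlgGrp.Action.IsEquivariant c (a₂.restrict ((Over.pullback (X ↘ Spec (CommRingCat.of k))).map π₂)) (pullback.snd f₁ f₂) ∧
      NonAbH1.IsTorsorFor Scheme.fppfPrecoverage c := by
  let F := Over.pullback (X ↘ Spec (CommRingCat.of k))
  have hPX : IsPullback (F.map π₁) (F.map π₂) (F.map φ₁) (F.map φ₂) := Functor.map_isPullback _ hP
  have hf₁' := (Nori.isEquivariant_iff a₁ a (F.map φ₁) f₁).1 hf₁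
  have hf₂' := (Nori.isEquivariant_iff a₂ a (F.map φ₂) f₂).1 hf₂
  -- the action on the fibre product
  let q₁ : Red.bc (X ↘ Spec (CommRingCat.of k)) P ⊗ pullback f₁ f₂ ⟶ T₁ :=
    Nori.act a₁ (fst _ _ ≫ F.map π₁) (snd _ _ ≫ pullback.fst f₁ f₂)
  let q₂ : Red.bc (X ↘ Spec (CommRingCat.of k)) P ⊗ pullback f₁ f₂ ⟶ T₂ :=
    Nori.act a₂ (fst _ _ ≫ F.map π₂) (snd _ _ ≫ pullback.snd f₁ f₂)
  let α : Red.bc (X ↘ Spec (CommRingCat.of k)) P ⊗ pullback f₁ f₂ ⟶ pullback f₁ f₂ := pullback.lift q₁ q₂ (by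
    simp only [q₁, q₂, hf₁', hf₂', Category.assoc, hPX.w, pullback.condition])
  have hα₁ : ∀ {Z : Over X} (g : Z ⟶ Red.bc (X ↘ Spec (CommRingCat.of k)) P) (s : Z ⟶ pullback f₁ f₂),
      lift g s ≫ α ≫ pullback.fst f₁ f₂ = Nori.act a₁ (g ≫ F.map π₁) (s ≫ pullback.fst f₁ f₂) := fun g s => by
    simp only [α, pullback.lift_fst, q₁, Nori.comp_act, lift_fst_assoc, lift_snd_assoc]
  have hα₂ : ∀ {Z : Over X} (g : Z ⟶ Red.bc (X ↘ Spec (CommRingCat.of k)) P) (s : Z ⟶ pullback f₁ f₂),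
      lift g s ≫ α ≫ pullback.snd f₁ f₂ = Nori.act a₂ (g ≫ F.map π₂) (s ≫ pullback.snd f₁ f₂) := fun g s => by
    simp only [α, pullback.lift_snd, q₂, Nori.comp_act, lift_fst_assoc, lift_snd_assoc]
  let c := Nori.mkAction α
    (fun Z s => pullback.hom_ext (by rw [Category.assoc, hα₁, MonObj.one_comp, Nori.act_one])
      (by rw [Category.assoc, hα₂, MonObj.one_comp, Nori.act_one]))
    (fun Z g g' s => pullback.hom_ext
      (by simp only [Category.assoc, hα₁, MonObj.mul_comp, Nori.act_mul])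
      (by simp only [Category.assoc, hα₂, MonObj.mul_comp, Nori.act_mul]))
  have hc : NonAbH1.IsPseudoTorsorSch c := Nori.isPseudoTorsorSch_of_points fun Z s s' => by
    obtain ⟨g₁, hg₁, hu₁⟩ := Nori.existsUnique_act hT₁.1 (s ≫ pullback.fst f₁ f₂) (s' ≫ pullback.fst f₁ f₂)
    obtain ⟨g₂, hg₂, hu₂⟩ := Nori.existsUnique_act hT₂.1 (s ≫ pullback.snd f₁ f₂) (s' ≫ pullback.snd f₁ f₂)
    have hg : g₁ ≫ F.map φ₁ = g₂ ≫ F.map φ₂ := by
      refine Nori.act_left_cancel hT.1 (x := (s ≫ pullback.fst f₁ f₂) ≫ f₁) ?_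
      rw [← hf₁', hg₁]
      simp only [Category.assoc, pullback.condition]
      rw [← Category.assoc, ← Category.assoc, ← hf₂', hg₂]
    refine ⟨hPX.lift g₁ g₂ hg, pullback.hom_ext ?_ ?_, fun g hgs => hPX.hom_ext ?_ ?_⟩
    · show (lift _ s ≫ α) ≫ _ = _
      rw [Category.assoc, hα₁, hPX.lift_fst, hg₁]
    · show (lift _ s ≫ α) ≫ _ = _
      rw [Category.assoc, hα₂, hPX.lift_snd, hg₂]
    · rw [hPX.lift_fst]
      refine hu₁ _ ?_
      show Nori.act a₁ _ _ = _
      rw [← hgs, ← hα₁]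
      exact (Category.assoc _ _ _).symm
    · rw [hPX.lift_snd]
      refine hu₂ _ ?_
      show Nori.act a₂ _ _ = _
      rw [← hgs, ← hα₂]
      exact (Category.assoc _ _ _).symm
  refine ⟨c, (Nori.isEquivariant_iff c a₁ _ _).2 fun Z g s => (Category.assoc _ _ _).trans (hα₁ g s),
    (Nori.isEquivariant_iff c a₂ _ _).2 fun Z g s => (Category.assoc _ _ _).trans (hα₂ g s),
    hc, ?_⟩
  haveI : IsSeparated T.hom := by
    haveI := (Nori.finite_flat_torsor (Nori.fpqc_of_fppf hT)).1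
    infer_instance
  obtain ⟨h1a, -, h1c⟩ := Nori.finite_flat_torsor (Nori.fpqc_of_fppf hT₁)
  obtain ⟨h2a, -, h2c⟩ := Nori.finite_flat_torsor (Nori.fpqc_of_fppf hT₂)
  obtain ⟨hTa, -, hTc⟩ := Nori.finite_flat_torsor (Nori.fpqc_of_fppf hT)
  haveI := h1a; haveI := h1c; haveI := h2a; haveI := h2c; haveI := hTa; haveI := hTc
  haveI : IsFinite f₂.left := by
    haveI : IsFinite (f₂.left ≫ T.hom) := by rw [Over.w f₂]; infer_instance
    exact IsFinite.of_comp f₂.left T.hom
  haveI : LocallyOfFinitePresentation f₂.left :=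
    haveI : LocallyOfFinitePresentation (f₂.left ≫ T.hom) := by rw [Over.w f₂]; infer_instance
    Unram17Lib.lfp_of_comp_lft f₂.left T.hom
  have sq : IsPullback (pullback.fst f₁ f₂).left (pullback.snd f₁ f₂).left f₁.left f₂.left :=
    (IsPullback.of_hasPullback f₁ f₂).map (Over.forget X)
  haveI : IsFinite (pullback f₁ f₂).hom := by
    haveI : IsFinite (pullback.fst f₁ f₂).left := MorphismProperty.of_isPullback sq.flip ‹IsFinite f₂.left›
    rw [← Over.w (pullback.fst f₁ f₂)]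
    infer_instance
  haveI : LocallyOfFinitePresentation (pullback f₁ f₂).hom := by
    haveI : LocallyOfFinitePresentation (pullback.fst f₁ f₂).left :=
      MorphismProperty.of_isPullback sq.flip ‹LocallyOfFinitePresentation f₂.left›
    rw [← Over.w (pullback.fst f₁ f₂)]
    infer_instance
  haveI : Surjective (pullback f₁ f₂).hom :=
    Nori.surjective_fibreProd (Nori.fpqc_of_fppf hT) (Nori.fpqc_of_fppf hT₁) (Nori.fpqc_of_fppf hT₂)
      f₁ f₂ t₁ t₂ ht₁ ht₂ (hft₁.trans hft₂.symm)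
  haveI : IsFinite P.hom := by
    have sP : IsPullback π₁.left π₂.left φ₁.left φ₂.left := hP.map (Over.forget _)
    haveI : IsFinite φ₂.left := by
      haveI : IsFinite (φ₂.left ≫ G.hom) := by rw [Over.w φ₂]; infer_instance
      exact IsFinite.of_comp φ₂.left G.hom
    haveI : IsFinite π₁.left := MorphismProperty.of_isPullback sP.flip ‹IsFinite φ₂.left›
    rw [← Over.w π₁]
    infer_instance
  haveI : Flat (pullback f₁ f₂).hom := Nori.flat_of_isPseudoTorsorSch (c := c) hc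
  refine ⟨_, Scheme.Hom.singleton_mem_fppfPrecoverage (pullback f₁ f₂).hom, fun S' g hg => ?_⟩
  obtain ⟨⟩ := hg
  exact ⟨𝟙 _, Category.id_comp _⟩


end Groth.Agent.S18764
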