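import Groth.Statements.S18771
import Groth.Agent.ModifPtLib.Curve
import Groth.Agent.ModifPtLib.Free
import Groth.Agent.TFNodalLib.Node

set_option autoImplicit false
set_option linter.style.haveILetI false
set_option backward.isDefEq.respectTransparency false
set_option backward.isDefEq.respectTransparency.types false

set_option autoImplicit false
universe u
open CategoryTheory CategoryTheory.Limits AlgebraicGeometry
open TFNodal

namespace Groth.Agent.S18771

/-- Let k be algebraically closed of characteristic zero, X a connected proper curve over k (dimension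
one) whose closed points are smooth points or nodes, and π : Y → X its normalization, given as a
finite morphism from a smooth k-scheme that is an isomorphism over the complement U of the nodes
with dense preimage of U; let F be a coherent O_X-module, torsion free of rank r with type a(x) at
each node x (stalk free of rank r off the nodes, isomorphic to O_x^{a(x)} ⊕ m_x^{r − a(x)} at a node
x). Then there are a locally free O_X-module G of rank r and a monomorphism j : F → G whose cokernel
has zero stalk off the nodes and, at each node x, stalk annihilated by the maximal ideal m_x and of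
length r − a(x) (so G/F is the direct sum over the nodes of k(x)^{r − a(x)}). -/
theorem result (k : Type u) [Field k] [IsAlgClosed k] [CharZero k]
    (X : Scheme.{u}) [X.Over (Spec (CommRingCat.of k))] [IsProper (X ↘ Spec (CommRingCat.of k))]
    [ConnectedSpace X] (hdim : topologicalKrullDim X = 1) (hnod : Curv2.AtWorstNodal k X)
    (Y : Scheme.{u}) (π : Y ⟶ X) [IsFinite π] [Smooth (π ≫ (X ↘ Spec (CommRingCat.of k)))]
    (U : X.Opens) (hU : ∀ x : X, x ∈ U ↔ ¬ Curv2.IsNode k X x) (hUiso : IsIso (π ∣_ U))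
    (hUd : Dense ((π ⁻¹ᵁ U : Y.Opens) : Set Y))
    (r : ℕ) (F : X.Modules) (hF : Coh.IsCoh F) (a : X → ℕ)
    (hfree : ∀ x : X, ¬ Curv2.IsNode k X x →
      Nonempty (F.presheaf.stalk x ≃ₗ[X.presheaf.stalk x] (Fin r → X.presheaf.stalk x)))
    (htype : ∀ x : X, Curv2.IsNode k X x → a x ≤ r ∧
      Nonempty (F.presheaf.stalk x ≃ₗ[X.presheaf.stalk x]
        ((Fin (a x) → X.presheaf.stalk x) × (Fin (r - a x) → IsLocalRing.maximalIdeal (X.presheaf.stalk x))))) :
    ∃ (G : X.Modules) (j : F ⟶ G), FlatMod.IsFinLocFreeOfRank r G ∧ Mono j ∧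
      (∀ x : X, ¬ Curv2.IsNode k X x → Subsingleton ((cokernel j).presheaf.stalk x)) ∧
      (∀ x : X, Curv2.IsNode k X x →
        IsLocalRing.maximalIdeal (X.presheaf.stalk x) • (⊤ : Submodule (X.presheaf.stalk x) ((cokernel j).presheaf.stalk x)) = ⊥ ∧
        Module.length (X.presheaf.stalk x) ((cokernel j).presheaf.stalk x) = ((r - a x : ℕ) : ℕ∞)) := by
  classical
  haveI := CurvLib.isNoetherian k (X := X)
  haveI := NodalLib.isReduced k hnod
  let S : Set X := {x | Curv2.IsNode k X x}
  have hScl : IsClosed S := by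
    have hS : S = (U : Set X)ᶜ := Set.ext fun x => ⟨fun h hx => (hU x).1 hx h, fun h => not_not.1 fun h' => h ((hU x).2 h')⟩
    exact hS ▸ U.2.isClosed_compl
  have hgen : ∀ x ∈ S, ¬ FinPicLib.IsGen x := fun x hx hg => TFNodalLib.not_node_of_isGen k X hg hx
  have hSfin : S.Finite := by
    obtain ⟨C, hCfin, hCc, hCi, hSC⟩ := TopologicalSpace.NoetherianSpace.exists_finite_set_isClosed_irreducible hScl
    rw [hSC]
    refine hCfin.sUnion fun t ht => ?_
    obtain ⟨η, hη⟩ := QuasiSober.sober (hCi t ht) (hCc t ht)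
    have hηt : η ∈ t := hη.def ▸ subset_closure (Set.mem_singleton η)
    refine (Set.finite_singleton η).subset fun w hw => ?_
    exact (FinPicLib.eq_of_specializes_of_not_isGen hdim.le (hgen η (hSC ▸ Set.mem_sUnion_of_mem hηt ht))
      (specializes_iff_mem_closure.2 (hη.def.symm ▸ hw))).symm
  have hmem : ∀ x, x ∈ hSfin.toFinset ↔ Curv2.IsNode k X x := fun x => hSfin.mem_toFinset
  obtain ⟨D, hD⟩ := ModifPtLib.exists_data hdim.le hSfin.toFinset fun x hx => hgen x ((hmem x).1 hx)
  have e0 := fun x (hx : Curv2.IsNode k X x) => (htype x hx).2.some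
  let φ : ∀ x, (DevissLib.St x).obj F →ₗ[X.presheaf.stalk x]
      ((Fin (a x) → X.presheaf.stalk x) × (Fin (r - a x) → X.presheaf.stalk x)) := fun x =>
    if hx : Curv2.IsNode k X x then
      (LinearMap.prodMap LinearMap.id ((IsLocalRing.maximalIdeal (X.presheaf.stalk x)).subtype.compLeft (Fin (r - a x)))) ∘ₗ
        (e0 x hx).toLinearMap
    else 0
  have hφ : ∀ x (hx : Curv2.IsNode k X x) m,
      φ x m = ((e0 x hx m).1, fun i => ((e0 x hx m).2 i : X.presheaf.stalk x)) := fun x hx m => by
    simp only [φ, dif_pos hx]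
    rfl
  have hrange : ∀ x (hx : Curv2.IsNode k X x) v, (∃ m, φ x m = v) ↔
      ∀ i, v.2 i ∈ IsLocalRing.maximalIdeal (X.presheaf.stalk x) := fun x hx v => by
    refine ⟨?_, fun h => ⟨(e0 x hx).symm (v.1, fun i => ⟨v.2 i, h i⟩), ?_⟩⟩
    · rintro ⟨m, rfl⟩ i
      rw [hφ x hx]
      exact ((e0 x hx m).2 i).2
    · rw [hφ x hx, LinearEquiv.apply_symm_apply]
  obtain ⟨G, j, hG, hj, hout, hin⟩ := ModifPtLib.exists_up F hF hSfin.toFinset
    (fun x hx => ModifPtLib.isClosed_of_not_isGen hdim.le (hgen x ((hmem x).1 hx))) D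
    (fun x hx m hm => TFNodalLib.torsionFree (e0 x ((hmem x).1 hx)) _ (hD x hx).1 m hm)
    (fun x => (Fin (a x) → X.presheaf.stalk x) × (Fin (r - a x) → X.presheaf.stalk x)) φ
    (fun x hx m n h => by
      rw [hφ x ((hmem x).1 hx), hφ x ((hmem x).1 hx)] at h
      obtain ⟨h1, h2⟩ := Prod.mk.inj h
      exact (e0 x ((hmem x).1 hx)).injective (Prod.ext h1 (funext fun i => Subtype.ext (congrFun h2 i))))
    (fun x hx => ⟨1, fun v => (hrange x ((hmem x).1 hx) _).2 fun i => by
      rw [pow_one]
      exact Ideal.mul_mem_right _ _ (hD x hx).2⟩)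
    (fun x hx v hv => by
      refine Prod.ext (funext fun i => ?_) (funext fun i => ?_)
      · exact mem_nonZeroDivisors_iff_right.1 (hD x hx).1 _ (by rw [mul_comm]; exact congrFun (congrArg Prod.fst hv) i)
      · exact mem_nonZeroDivisors_iff_right.1 (hD x hx).1 _ (by rw [mul_comm]; exact congrFun (congrArg Prod.snd hv) i))
  refine ⟨G, j, ?_, hj, fun x hx => ModifPtLib.subsingleton_cokernel_stalk j x
    (hout x (fun h => hx ((hmem x).1 h))).2, fun x hx => ?_⟩
  · refine ModifPtLib.isFinLocFreeOfRank_of_stalk G hG r fun x => ?_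
    by_cases hx : Curv2.IsNode k X x
    · obtain ⟨e, -⟩ := hin x ((hmem x).2 hx)
      exact ⟨e.trans ((LinearEquiv.sumArrowLequivProdArrow _ _ _ _).symm.trans (LinearEquiv.funCongrLeft _ _
        ((finCongr (Nat.add_sub_cancel' (htype x hx).1).symm).trans finSumFinEquiv.symm)))⟩
    · exact ⟨(LinearEquiv.ofBijective _ (hout x (fun h => hx ((hmem x).1 h)))).symm.trans (hfree x hx).some⟩
  · obtain ⟨e, he⟩ := hin x ((hmem x).2 hx)
    let A := X.presheaf.stalk x
    let q : ((Fin (a x) → A) × (Fin (r - a x) → A)) →ₗ[A] (Fin (r - a x) → A ⧸ IsLocalRing.maximalIdeal A) :=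
      ((IsLocalRing.maximalIdeal A).mkQ.compLeft (Fin (r - a x))) ∘ₗ LinearMap.snd A _ _
    obtain ⟨E⟩ := ModifPtLib.exists_cokernel_stalk_equiv j x e q
      (fun w => by
        choose v hv using fun i => Submodule.mkQ_surjective (IsLocalRing.maximalIdeal A) (w i)
        exact ⟨(0, v), funext hv⟩)
      (fun v => by
        simp only [he]
        rw [hrange x hx v, funext_iff]
        exact forall_congr' fun i => Submodule.Quotient.mk_eq_zero _)
    refine ⟨?_, ?_⟩
    · rw [Submodule.eq_bot_iff]
      intro c hc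
      refine Submodule.smul_induction_on hc (fun s hs n _ => E.injective ?_) fun y z hy hz => by rw [hy, hz, add_zero]
      rw [map_smul, map_zero]
      funext i
      obtain ⟨v, hv⟩ := Submodule.mkQ_surjective (IsLocalRing.maximalIdeal A) (E n i)
      show s • E n i = 0
      rw [← hv, ← map_smul, Submodule.mkQ_apply, Submodule.Quotient.mk_eq_zero]
      exact Ideal.mul_mem_right _ _ hs
    · haveI : IsSimpleModule A (A ⧸ IsLocalRing.maximalIdeal A) :=
        isSimpleModule_iff_isCoatom.2 (IsLocalRing.maximalIdeal.isMaximal A).out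
      rw [E.length_eq, Module.length_pi, Module.length_eq_one A (A ⧸ IsLocalRing.maximalIdeal A), mul_one, ENat.card_eq_coe_natCard, Nat.card_fin]

end Groth.Agent.S18771
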