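import Groth.Statements.S18778
import Mathlib
import Groth.Agent.CurveSDLib.Sections
import Groth.Agent.CurveSDLib.Splitting
import Groth.Agent.GrassLib.SchProjSpace
import Groth.Agent.GenusZeroLib.RatData
import Groth.Agent.FibVALib.Curve
-- import your own Groth.Agent.* helpers here

set_option autoImplicit false
universe u
open CategoryTheory CategoryTheory.Limits AlgebraicGeometry
open VBCurve

namespace Groth.Agent.S18778

/-- Let k be a finite field and C a smooth proper geometrically integral curve over k (proper, smooth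
and geometrically integral over k, of dimension one) of genus one, i.e. dim_k H^1(C, O_C) = 1, with
a k-rational point O (an elliptic curve over k). Let G be a finite locally free O_C-module of rank r
≥ 1 and degree 0, where the degree of a rank-n locally free module H is χ(H) − n·χ(O_C), which is
semistable: deg H · r ≤ deg G · rk H = 0 for every finite locally free submodule H of G of positive
rank. Then dim_k H^0(C, G) ≤ r. -/
theorem result (k : Type u) [Field k] [Finite k] (X : Scheme.{u}) [X.Over (Spec (CommRingCat.of k))]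
    [IsProper (X ↘ Spec (CommRingCat.of k))] [Smooth (X ↘ Spec (CommRingCat.of k))]
    [GeometricallyIntegral (X ↘ Spec (CommRingCat.of k))] (hdim : topologicalKrullDim ↥X = 1)
    (hg : Curv2.genus k X = 1) (O : Spec (CommRingCat.of k) ⟶ X) (hO : O ≫ (X ↘ Spec (CommRingCat.of k)) = 𝟙 _)
    (G : X.Modules) (r : ℕ) (hr : 0 < r) (hG : FlatMod.IsFinLocFreeOfRank r G)
    (hdeg : Curv2.deg k X G r = 0)
    (hGss : (∀ (H : X.Modules) (r' : ℕ) (i : H ⟶ G), Mono i → 0 < r' → FlatMod.IsFinLocFreeOfRank r' H →
      Curv2.deg k X H r' * (r : ℤ) ≤ Curv2.deg k X G r * (r' : ℤ))) :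
    Module.finrank k (Coh.HH X G 0) ≤ r := by
  haveI : IsIntegral X := GeometricallyIntegral.isIntegral_of_subsingleton (X ↘ Spec (CommRingCat.of k))
  haveI := CurvLib.isNoetherian k (X := X)
  obtain ⟨p⟩ : Nonempty ↥(Spec (CommRingCat.of k)) := inferInstance
  have hx := GenusZeroLib.isClosed_rational O hO p
  haveI := HurwitzLib.dvr_stalk_closed (k := k) hdim hx
  obtain ⟨L, ⟨eL⟩, hL, hLd⟩ := GenusZeroLib.exists_idealMod_iso (k := k) hx hdim
  rw [GenusZeroLib.finrank_residueField_rational O hO p, Nat.cast_one] at hLd
  have hd : topologicalKrullDim ((GenusZeroLib.ptIdeal hx).support : Set X) ≤ 0 := by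
    have e : ((GenusZeroLib.ptIdeal hx).support : Set X) = {O p} := by
      rw [Scheme.IdealSheafData.coe_support_vanishingIdeal]; rfl
    rw [e]
    exact topologicalKrullDim_zero_of_discreteTopology ({O p} : Set X)
  refine (CurveSDLib.finrank_h0_le_add (k := k) hdim hG (GenusZeroLib.ptIdeal hx) eL hL hd hLd).trans ?_
  rw [CurveSDLib.finrank_h0_eq_zero (k := k) hdim hG hGss hL (by rw [hdeg, hLd]; omega)]
  omega

end Groth.Agent.S18778
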