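import Groth.Statements.S18784
import Groth.Agent.NodalLib.Unit
import Groth.Agent.NefH1Lib.Adjunction.GorCurve
import Groth.Agent.RedImgLib.Main

set_option autoImplicit false
set_option backward.isDefEq.respectTransparency false
set_option backward.isDefEq.respectTransparency.types false
set_option maxHeartbeats 1000000
set_option linter.style.haveILetI false

universe u
open CategoryTheory CategoryTheory.Limits AlgebraicGeometry
attribute [local instance] HasDerivedCategory.standard
open Curves

namespace Groth.Agent.S18784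

/-- Let k be a perfect field and X a proper scheme over k of dimension one which is geometrically
connected and geometrically reduced over k, Gorenstein with trivial dualizing sheaf: its dualizing
module ω_X (the degree −1 cohomology sheaf of f^! O for the structure morphism f, assuming Rf_* on
D_QCoh and its right adjoint exist) is isomorphic to O_X. Let D be an effective Cartier divisor on X
of positive degree, given here as an invertible module L = O_X(D) with a monomorphism s : O_X → L
and deg L = χ(L) − χ(O_X) > 0. Then H^1(X, O_X(D)) = 0. (The first assertion of the lemma, H^0(X,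
O_X) = k, is not restated.) -/
theorem result (k : Type u) [Field k] [PerfectField k]
    (X : Scheme.{u}) [X.Over (Spec (CommRingCat.of k))] [IsProper (X ↘ Spec (CommRingCat.of k))]
    [GeometricallyConnected (X ↘ Spec (CommRingCat.of k))] [GeometricallyReduced (X ↘ Spec (CommRingCat.of k))]
    (hdim : topologicalKrullDim ↥X = 1)
    [DCoh.HasRpush (X ↘ Spec (CommRingCat.of k))] (h : DCoh.RpushPreservesQCoh (X ↘ Spec (CommRingCat.of k))) [DCoh.HasShriek (X ↘ Spec (CommRingCat.of k)) h]
    (OY : DCoh.DQCoh (Spec (CommRingCat.of k))) (hOY : Nonempty (OY.obj ≅ DCoh.inD (Spec (CommRingCat.of k)) (Coh.structureModule (Spec (CommRingCat.of k)))))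
    (hω : Nonempty (DCoh.dualizingMod (X ↘ Spec (CommRingCat.of k)) h OY 1 ≅ Coh.structureModule X))
    (L : X.Modules) (hL : PicF.IsInvertible L) (s : Coh.structureModule X ⟶ L) [Mono s]
    (hdeg : 0 < Curv2.deg k X L 1) :
    Subsingleton (Coh.HH X L 1) := by
  let f := X ↘ Spec (CommRingCat.of k)
  haveI : ConnectedSpace X := GeometricallyConnected.connectedSpace_of_subsingleton (f := f)
  haveI : AlgebraicGeometry.IsReduced X := GeometricallyReduced.geometrically_isReduced (f := f) (𝟙 _) (𝟙 X) f IsPullback.of_id_fst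
  haveI := CurvLib.isNoetherian k (X := X)
  obtain ⟨hdual, -⟩ := NefH1Lib.Adj.setup k hdim h OY hOY
  obtain ⟨e⟩ := hω
  have hωc : Coh.IsCoh (DCoh.dualizingMod f h OY 1) := QCohLib.isCoh_of_iso e.symm (DevissLib.isCoh_structureModule X)
  have hLc := CurvLib.isCoh_of_isInvertible hL
  haveI := CurvLib.finite_HH (k := k) hLc 1
  obtain ⟨E⟩ := hdual L hLc.1
  have hzero : ∀ φ : L ⟶ DCoh.dualizingMod f h OY 1, φ = 0 := by
    intro φ
    by_contra hne
    have hsψ : s ≫ φ ≫ e.hom = 0 := by
      by_contra hc
      haveI := NodalLib.isIso_of_ne_zero k _ hc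
      haveI : Epi (φ ≫ e.hom) := epi_of_epi s (φ ≫ e.hom)
      have h2 : inv (s ≫ φ ≫ e.hom) ≫ s ≫ φ ≫ e.hom = 𝟙 _ := IsIso.inv_hom_id _
      haveI : IsSplitEpi (φ ≫ e.hom) := IsSplitEpi.mk' ⟨inv (s ≫ φ ≫ e.hom) ≫ s, by rw [Category.assoc]; exact h2⟩
      haveI : Mono (φ ≫ e.hom) := by
        refine NefH1Lib.Subcurve.mono_of_detected _ ?_ fun η hη => ?_
        · obtain ⟨B, hB⟩ : ∃ B : Set X, B = {η : X | NefH1Lib.Subcurve.IsMaxPt η} := ⟨_, rfl⟩
          have hd := NefH1Lib.Subcurve.detected_tB (k := k) hL B (NefH1Lib.Subcurve.finite_maxPts.subset hB.le)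
            fun η h' => hB.le h'
          obtain ⟨eq⟩ := NefH1Lib.Adj.nonempty_quot_all (X := X) (T := B) fun η h' => hB.ge h'
          exact NefH1Lib.Subcurve.detected_of_iso
            (SerreVanLib.tensorCongr L eq.symm ≪≫ KFlatLib.tensSwap (Coh.structureModule X) L ≪≫ KFlatLib.tensUnitIso L).symm hd
        · obtain ⟨U, g, hηU, hg⟩ := TwistLib.exists_genOn hL η
          refine NefH1Lib.Subcurve.injective_of_cyclic (NefH1Lib.Subcurve.isField_stalk hη) _ (hg.genAt hηU).2 _ fun h0 => ?_
          obtain ⟨v, hv⟩ := NefH1Lib.Adj.exists_gen_one η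
          have hgm := (ModuleCat.epi_iff_surjective ((DevissLib.St η).map (φ ≫ e.hom))).mp inferInstance
          obtain ⟨T, hT⟩ := hgm v
          have hv0 : v = 0 := hT.symm.trans (LinearMap.congr_fun h0 T)
          have h1 := (AmpleLib.one_genOn (X := X) ⊤).genAt (show η ∈ (⊤ : X.Opens) from trivial)
          obtain ⟨r, hr⟩ := hv (DevissLib.gm (Coh.structureModule X) η (show η ∈ (⊤ : X.Opens) from trivial) (1 : Γ(X, ⊤)))
          exact one_ne_zero (h1.1 (a₁ := 1) (a₂ := 0) ((one_smul _ _).trans ((hr.symm.trans (by rw [hv0, smul_zero])).trans (zero_smul _ _).symm)))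
      haveI := isIso_of_mono_of_epi (φ ≫ e.hom)
      have hd : Curv2.deg k X L 1 = 0 := by
        rw [Curv2.deg, CurvLib.euler_congr (k := k) (asIso (φ ≫ e.hom))]
        push_cast
        ring
      omega
    have h3 : s ≫ φ = 0 := by
      rw [← cancel_mono e.hom, Category.assoc, hsψ, zero_comp]
    refine hne (NefH1Lib.Subcurve.hom_eq_zero (k := k) hdim.le hωc hdual hLc φ fun η hη => LinearMap.ext fun a => ?_)
    obtain ⟨U, g, hηU, hg⟩ := TwistLib.exists_genOn hL η
    obtain ⟨c, hc⟩ := (hg.genAt hηU).2 a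
    obtain ⟨v, hv⟩ := NefH1Lib.Adj.exists_gen_one η
    obtain ⟨d, hd⟩ := (hg.genAt hηU).2 (((DevissLib.St η).map s).hom v)
    dsimp only at hc hd
    have hsv : ((DevissLib.St η).map φ).hom (((DevissLib.St η).map s).hom v) = 0 := by
      rw [← LinearMap.comp_apply, ← ModuleCat.hom_comp, ← Functor.map_comp, h3, Functor.map_zero]
      rfl
    have hd0 : d ≠ 0 := fun h0 => by
      rw [h0, zero_smul] at hd
      have hsi := (ModuleCat.mono_iff_injective ((DevissLib.St η).map s)).mp inferInstance
      have hv0 : v = 0 := hsi (hd.symm.trans (map_zero _).symm)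
      have h1 := (AmpleLib.one_genOn (X := X) ⊤).genAt (show η ∈ (⊤ : X.Opens) from trivial)
      obtain ⟨r, hr⟩ := hv (DevissLib.gm (Coh.structureModule X) η (show η ∈ (⊤ : X.Opens) from trivial) (1 : Γ(X, ⊤)))
      exact one_ne_zero (h1.1 (a₁ := 1) (a₂ := 0) ((one_smul _ _).trans ((hr.symm.trans (by rw [hv0, smul_zero])).trans (zero_smul _ _).symm)))
    obtain ⟨d', hd'⟩ := (NefH1Lib.Subcurve.isField_stalk hη).mul_inv_cancel hd0
    have ha : a = (c * d') • ((DevissLib.St η).map s).hom v := by
      rw [← hd, smul_smul, mul_assoc, mul_comm d', hd', mul_one]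
      exact hc.symm
    rw [ha, map_smul, hsv, smul_zero]
    rfl
  haveI : Subsingleton (L ⟶ DCoh.dualizingMod f h OY 1) := ⟨fun a b => (hzero a).trans (hzero b).symm⟩
  have h0 : Module.finrank k (Coh.HH X L 1) = 0 := by
    rw [← Subspace.dual_finrank_eq, ← E.finrank_eq]
    exact Module.finrank_zero_of_subsingleton
  exact Module.finrank_zero_iff.mp h0

end Groth.Agent.S18784
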