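import Groth.Statements.S18786
import Groth.Agent.EllDescLib.Main
-- import your own Groth.Agent.* helpers here

set_option autoImplicit false
universe u
open CategoryTheory CategoryTheory.Limits AlgebraicGeometry
open VBCurve

namespace Groth.Agent.S18786

/-- Let k be a finite field and C a smooth proper geometrically integral curve over k (proper, smooth
and geometrically integral over k, of dimension one) of genus one, i.e. dim_k H^1(C, O_C) = 1, with
a k-rational point O (an elliptic curve over k); k is finite with q elements. Let G be a finite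
locally free O_C-module of rank 2 and degree 0 (the degree of a rank-n locally free module being χ −
n·χ(O_C)) which is indecomposable (nonzero, no isomorphism with a direct sum of two nonzero modules)
but not geometrically indecomposable (its pull-back to C_K splits into two nonzero summands for some
field extension K of k, taken in the universe of k), and put E = O_C ⊕ G. Then Aut(E) has exactly (q
− 1)(q² − 1) elements. (The accompanying bound on the number of isomorphism classes of such E is not
restated.) (The published setting takes k of characteristic at least 5; the argument does not use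
this and the row allows every finite field.) -/
theorem result (k : Type u) [Field k] [Finite k] (X : Scheme.{u}) [X.Over (Spec (CommRingCat.of k))]
    [IsProper (X ↘ Spec (CommRingCat.of k))] [Smooth (X ↘ Spec (CommRingCat.of k))]
    [GeometricallyIntegral (X ↘ Spec (CommRingCat.of k))] (hdim : topologicalKrullDim ↥X = 1)
    (hg : Curv2.genus k X = 1) (O : Spec (CommRingCat.of k) ⟶ X) (hO : O ≫ (X ↘ Spec (CommRingCat.of k)) = 𝟙 _)
    (G : X.Modules) (hG : FlatMod.IsFinLocFreeOfRank 2 G) (hdeg : Curv2.deg k X G 2 = 0)
    (hGi : (¬ IsZero G ∧ ∀ (E₁ E₂ : X.Modules), Nonempty (G ≅ E₁ ⊞ E₂) → IsZero E₁ ∨ IsZero E₂)) (hGng : (∃ (K : Type u) (_ : Field K) (_ : Algebra k K) (E₁ E₂ : (Curv2.bc k X K).Modules),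
      ¬ IsZero E₁ ∧ ¬ IsZero E₂ ∧ Nonempty ((Scheme.Modules.pullback (Curv2.bcFst k X K)).obj G ≅ E₁ ⊞ E₂))) :
    Nat.card (Aut (Coh.structureModule X ⊞ G)) = (Nat.card k - 1) * (Nat.card k ^ 2 - 1) := by
  classical
  obtain ⟨D, _, _, π₀, _, -, -, hD⟩ := EllDescLib.exists_residue_prime Nat.prime_two hG hGi hGng
  obtain ⟨π, Y, i, p, hπ, hY, htot, -, -, hdY, hpull⟩ :=
    EllDescLib.exists_lines hdim Nat.prime_two hG hGi hGng D hD
  haveI : IsIntegral X := GeometricallyIntegral.isIntegral_of_subsingleton (X ↘ Spec (CommRingCat.of k))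
  haveI := CurvLib.isNoetherian k (X := X)
  haveI : Finite D := Module.finite_of_finite k
  haveI := (Groth.Agent.PerfLib.isCoh_of_isFinLocFree (CurveVBLib.isFinLocFree_of_rank hG)).1
  haveI := (DevissLib.isCoh_structureModule X).1
  haveI := VeryAmpleLib.isIntegral_bc k X D
  haveI : IsProper (Curv2.bc k X D ↘ Spec (CommRingCat.of D)) := VeryAmpleLib.isProper_bc k X D
  haveI : Smooth (Curv2.bc k X D ↘ Spec (CommRingCat.of D)) :=
    inferInstanceAs (Smooth (pullback.snd (X ↘ Spec (CommRingCat.of k)) _))
  have hdimL : topologicalKrullDim (Curv2.bc k X D) = 1 := (VeryAmpleLib.dim_bc k X D).trans hdim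
  let u := KFlatLib.pullUnitIso (Curv2.bcFst k X D)
  have hO := CurvLib.isInvertible_structureModule (X := Curv2.bc k X D)
  have hd : ∀ a, Curv2.deg D (Curv2.bc k X D) (Coh.structureModule _) 1 =
      Curv2.deg D (Curv2.bc k X D) (Y a) 1 := fun a => by
    have h1 := hdY a
    rw [hdeg] at h1
    have h2 : Curv2.deg D (Curv2.bc k X D) (Coh.structureModule _) 1 = 0 := by simp [Curv2.deg]
    omega
  have hne : ∀ a, ¬ Nonempty (Coh.structureModule _ ≅ Y a) := fun a ⟨w⟩ =>
    hpull a (Coh.structureModule X) CurvLib.isInvertible_structureModule ⟨w.symm ≪≫ u.symm⟩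
  have h₁ : ∀ φ : Coh.structureModule X ⟶ G, φ = 0 := fun φ => by
    refine EllDescLib.map_injective (k := k) (L := D) ?_
    rw [Functor.map_zero]
    refine EllDescLib.eq_zero_of_comp' i p htot _ fun a => ?_
    have h0 := EllAutLib.hom_eq_zero_line (k := D) hdimL hO (hY a) (hd a) (hne a)
      (u.inv ≫ (EllDescLib.P k X D).map φ ≫ p a)
    exact (cancel_epi u.inv).1 (h0.trans comp_zero.symm)
  have h₂ : ∀ φ : G ⟶ Coh.structureModule X, φ = 0 := fun φ => by
    refine EllDescLib.map_injective (k := k) (L := D) ?_
    rw [Functor.map_zero]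
    refine EllDescLib.eq_zero_of_comp i p htot _ fun a => ?_
    have h0 := EllAutLib.hom_eq_zero_line (k := D) hdimL (hY a) hO (hd a).symm
      (fun ⟨w⟩ => hne a ⟨w.symm⟩) ((i a ≫ (EllDescLib.P k X D).map φ) ≫ u.hom)
    exact (cancel_mono u.hom).1 (h0.trans zero_comp.symm)
  rw [EllAutLib.card_aut_biprod _ _ h₁ h₂, EllAutLib.card_aut, EllAutLib.card_aut,
    ← EllAutLib.card_units_congr (RingEquiv.ofBijective (algebraMap k (End (Coh.structureModule X)))
      (EllAutLib.scalar_bijective hdim CurvLib.isInvertible_structureModule)).toMulEquiv,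
    EllAutLib.card_units_congr (AlgEquiv.ofBijective π hπ).toMulEquiv, Nat.card_units, Nat.card_units,
    Module.natCard_eq_pow_finrank (K := k) (V := D), hD]

end Groth.Agent.S18786
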