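import Groth.Statements.S18787
import Groth.Agent.EllAutLib.Main
-- import your own Groth.Agent.* helpers here

set_option autoImplicit false
set_option maxHeartbeats 1000000
universe u
open CategoryTheory CategoryTheory.Limits AlgebraicGeometry
open VBCurve

noncomputable section

namespace Groth.Agent.S18787


attribute [local instance] Abelian.hasFiniteBiproducts

variable {C : Type*} [Category C] [Abelian C]

/-- `L ⊞ L` as a power. -/
def power2 (L : C) : L ⊞ L ≅ ⨁ fun _ : Fin 2 => L where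
  hom := biprod.fst ≫ biproduct.ι (fun _ : Fin 2 => L) 0 + biprod.snd ≫ biproduct.ι (fun _ : Fin 2 => L) 1
  inv := biprod.lift (biproduct.π _ 0) (biproduct.π _ 1)
  hom_inv_id := by
    ext <;> simp [biproduct.ι_π]
  inv_hom_id := by
    refine biproduct.hom_ext _ _ fun i => biproduct.hom_ext' _ _ fun j => ?_
    fin_cases i <;> fin_cases j <;> simp [biproduct.ι_π]

/-- `L ⊞ (L ⊞ L)` as a power. -/
def power3 (L : C) : L ⊞ (L ⊞ L) ≅ ⨁ fun _ : Fin 3 => L where
  hom := biprod.fst ≫ biproduct.ι (fun _ : Fin 3 => L) 0 + biprod.snd ≫ (biprod.fst ≫ biproduct.ι (fun _ : Fin 3 => L) 1 + biprod.snd ≫ biproduct.ι (fun _ : Fin 3 => L) 2)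
  inv := biprod.lift (biproduct.π _ 0) (biprod.lift (biproduct.π _ 1) (biproduct.π _ 2))
  hom_inv_id := by
    ext <;> simp [biproduct.ι_π]
  inv_hom_id := by
    refine biproduct.hom_ext _ _ fun i => biproduct.hom_ext' _ _ fun j => ?_
    fin_cases i <;> fin_cases j <;> simp [biproduct.ι_π]

/-- `A ⊞ (B ⊞ D) ≅ B ⊞ (A ⊞ D)`. -/
def shuffle (A B D : C) : A ⊞ (B ⊞ D) ≅ B ⊞ (A ⊞ D) where
  hom := biprod.lift (biprod.snd ≫ biprod.fst) (biprod.lift biprod.fst (biprod.snd ≫ biprod.snd))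
  inv := biprod.lift (biprod.snd ≫ biprod.fst) (biprod.lift biprod.fst (biprod.snd ≫ biprod.snd))

/-- Let k be a finite field and C a smooth proper geometrically integral curve over k (proper, smooth
and geometrically integral over k, of dimension one) of genus one, i.e. dim_k H^1(C, O_C) = 1, with
a k-rational point O (an elliptic curve over k); k is finite with q elements. Let L₁ and L₂ be
invertible O_C-modules of degree 0 (χ(L) − χ(O_C) = 0) and E = O_C ⊕ L₁ ⊕ L₂. Then the number of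
automorphisms of E is: (q³ − 1)(q³ − q)(q³ − q²) if L₁ ≅ L₂ ≅ O_C; (q − 1)³ (q + 1) q if L₁ ≅ L₂ and
L₁ ≇ O_C; (q − 1)³ (q + 1) q if L₁ ≇ L₂ and L₂ ≅ O_C; and (q − 1)³ if O_C, L₁, L₂ are pairwise
non-isomorphic. (In the third case the published value is (q − 1)² q³, and the published computation
gives (q − 1)³ q²; but there E ≅ O_C ⊕ O_C ⊕ L₁ with L₁ of degree 0 and non-trivial, whose
endomorphism ring is M₂(k) × k, so Aut(E) ≅ GL₂(k) × kˣ has (q − 1)³ (q + 1) q elements, the same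
count as in the second case; the row states this corrected value.) (The published setting takes k of
characteristic at least 5; the argument does not use this and the row allows every finite field.) -/
theorem result (k : Type u) [Field k] [Finite k] (X : Scheme.{u}) [X.Over (Spec (CommRingCat.of k))]
    [IsProper (X ↘ Spec (CommRingCat.of k))] [Smooth (X ↘ Spec (CommRingCat.of k))]
    [GeometricallyIntegral (X ↘ Spec (CommRingCat.of k))] (hdim : topologicalKrullDim ↥X = 1)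
    (hg : Curv2.genus k X = 1) (O : Spec (CommRingCat.of k) ⟶ X) (hO : O ≫ (X ↘ Spec (CommRingCat.of k)) = 𝟙 _)
    (L₁ L₂ : X.Modules) (hL₁ : PicF.IsInvertible L₁) (hL₂ : PicF.IsInvertible L₂)
    (hd₁ : Curv2.deg k X L₁ 1 = 0) (hd₂ : Curv2.deg k X L₂ 1 = 0) :
    (Nonempty (L₁ ≅ Coh.structureModule X) → Nonempty (L₂ ≅ Coh.structureModule X) →
      Nat.card (Aut (Coh.structureModule X ⊞ L₁ ⊞ L₂)) =
        (Nat.card k ^ 3 - 1) * (Nat.card k ^ 3 - Nat.card k) * (Nat.card k ^ 3 - Nat.card k ^ 2)) ∧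
    (Nonempty (L₁ ≅ L₂) → ¬ Nonempty (L₁ ≅ Coh.structureModule X) →
      Nat.card (Aut (Coh.structureModule X ⊞ L₁ ⊞ L₂)) = (Nat.card k - 1) ^ 3 * (Nat.card k + 1) * Nat.card k) ∧
    (¬ Nonempty (L₁ ≅ L₂) → Nonempty (L₂ ≅ Coh.structureModule X) →
      Nat.card (Aut (Coh.structureModule X ⊞ L₁ ⊞ L₂)) = (Nat.card k - 1) ^ 3 * (Nat.card k + 1) * Nat.card k) ∧
    (¬ Nonempty (L₁ ≅ Coh.structureModule X) → ¬ Nonempty (L₂ ≅ Coh.structureModule X) → ¬ Nonempty (L₁ ≅ L₂) →
      Nat.card (Aut (Coh.structureModule X ⊞ L₁ ⊞ L₂)) = (Nat.card k - 1) ^ 3) := by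
  haveI : IsIntegral X := GeometricallyIntegral.isIntegral_of_subsingleton (X ↘ Spec (CommRingCat.of k))
  haveI := CurvLib.isNoetherian k (X := X)
  have hO := CurvLib.isInvertible_structureModule (X := X)
  have hO0 : Curv2.deg k X (Coh.structureModule X) 1 = 0 := ExtLineLib.deg_structure
  letI : Fintype k := Fintype.ofFinite k
  have hq : 1 < Nat.card k := Finite.one_lt_card
  have h2 : ∀ {A : X.Modules}, PicF.IsInvertible A →
      Nat.card (Aut (⨁ fun _ : Fin 2 => A)) = (Nat.card k ^ 2 - 1) * (Nat.card k ^ 2 - Nat.card k) := fun hA => by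
    rw [EllAutLib.card_aut_power (k := k) (EllAutLib.scalar_bijective (k := k) hdim hA) 2, Fin.prod_univ_two]
    simp
  have harith : (Nat.card k - 1) * ((Nat.card k ^ 2 - 1) * (Nat.card k ^ 2 - Nat.card k)) =
      (Nat.card k - 1) ^ 3 * (Nat.card k + 1) * Nat.card k := by
    obtain ⟨j, hj⟩ : ∃ j, Nat.card k = j + 1 := ⟨Nat.card k - 1, by omega⟩
    rw [hj]
    have e1 : (j + 1) ^ 2 - 1 = j * (j + 2) := by
      have : (j + 1) ^ 2 = j * (j + 2) + 1 := by ring
      omega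
    have e2 : (j + 1) ^ 2 - (j + 1) = j * (j + 1) := by
      have : (j + 1) ^ 2 = j * (j + 1) + (j + 1) := by ring
      omega
    rw [e1, e2, Nat.add_sub_cancel]
    ring
  have hbad : ∀ {A B : X.Modules}, PicF.IsInvertible A → PicF.IsInvertible B → Curv2.deg k X A 1 = 0 →
      Curv2.deg k X B 1 = 0 → ¬ Nonempty (A ≅ B) → ∀ φ : A ⟶ B, φ = 0 := fun hA hB dA dB hne =>
    EllAutLib.hom_eq_zero_line (k := k) hdim hA hB (dA.trans dB.symm) hne
  refine ⟨?_, ?_, ?_, ?_⟩
  · rintro ⟨i₁⟩ ⟨i₂⟩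
    rw [EllAutLib.card_aut_congr (biprod.mapIso (Iso.refl _) (biprod.mapIso i₁ i₂) ≪≫ power3 (Coh.structureModule X)),
      EllAutLib.card_aut_power (k := k) (EllAutLib.scalar_bijective (k := k) hdim hO) 3, Fin.prod_univ_three]
    simp
  · rintro ⟨i⟩ hne
    have n' : ¬ Nonempty (Coh.structureModule X ≅ L₁) := fun ⟨j⟩ => hne ⟨j.symm⟩
    rw [EllAutLib.card_aut_congr (biprod.mapIso (Iso.refl (Coh.structureModule X))
        (biprod.mapIso (Iso.refl L₁) i.symm ≪≫ power2 L₁)),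
      EllAutLib.card_aut_biprod _ _ (fun φ => biproduct.hom_ext _ _ fun j => by
        rw [zero_comp]; exact hbad hO hL₁ hO0 hd₁ n' _)
        (fun φ => biproduct.hom_ext' _ _ fun j => by
        rw [comp_zero]; exact hbad hL₁ hO hd₁ hO0 hne _),
      EllAutLib.card_aut_scalar (k := k) (EllAutLib.scalar_bijective (k := k) hdim hO), h2 hL₁, harith]
  · rintro hne ⟨i⟩
    have hne' : ¬ Nonempty (L₁ ≅ Coh.structureModule X) := fun ⟨j⟩ => hne ⟨j ≪≫ i.symm⟩
    have n' : ¬ Nonempty (Coh.structureModule X ≅ L₁) := fun ⟨j⟩ => hne' ⟨j.symm⟩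
    rw [EllAutLib.card_aut_congr (shuffle (Coh.structureModule X) L₁ L₂ ≪≫ biprod.mapIso (Iso.refl L₁)
        (biprod.mapIso (Iso.refl (Coh.structureModule X)) i ≪≫ power2 (Coh.structureModule X))),
      EllAutLib.card_aut_biprod _ _ (fun φ => biproduct.hom_ext _ _ fun j => by
        rw [zero_comp]; exact hbad hL₁ hO hd₁ hO0 hne' _)
        (fun φ => biproduct.hom_ext' _ _ fun j => by
        rw [comp_zero]; exact hbad hO hL₁ hO0 hd₁ n' _),
      EllAutLib.card_aut_scalar (k := k) (EllAutLib.scalar_bijective (k := k) hdim hL₁), h2 hO, harith]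
  · intro n1 n2 n12
    have n1' : ¬ Nonempty (Coh.structureModule X ≅ L₁) := fun ⟨j⟩ => n1 ⟨j.symm⟩
    have n2' : ¬ Nonempty (Coh.structureModule X ≅ L₂) := fun ⟨j⟩ => n2 ⟨j.symm⟩
    have n12' : ¬ Nonempty (L₂ ≅ L₁) := fun ⟨j⟩ => n12 ⟨j.symm⟩
    rw [EllAutLib.card_aut_biprod _ _
        (fun φ => biprod.hom_ext _ _ (by rw [zero_comp]; exact hbad hO hL₁ hO0 hd₁ n1' _)
          (by rw [zero_comp]; exact hbad hO hL₂ hO0 hd₂ n2' _))
        (fun φ => biprod.hom_ext' _ _ (by rw [comp_zero]; exact hbad hL₁ hO hd₁ hO0 n1 _)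
          (by rw [comp_zero]; exact hbad hL₂ hO hd₂ hO0 n2 _)),
      EllAutLib.card_aut_biprod _ _ (hbad hL₁ hL₂ hd₁ hd₂ n12) (hbad hL₂ hL₁ hd₂ hd₁ n12'),
      EllAutLib.card_aut_scalar (k := k) (EllAutLib.scalar_bijective (k := k) hdim hO),
      EllAutLib.card_aut_scalar (k := k) (EllAutLib.scalar_bijective (k := k) hdim hL₁),
      EllAutLib.card_aut_scalar (k := k) (EllAutLib.scalar_bijective (k := k) hdim hL₂)]
    ring

end Groth.Agent.S18787
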