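import Groth.Statements.S18788
import Groth.Agent.EllAutLib.Main
-- import your own Groth.Agent.* helpers here

set_option autoImplicit false
set_option maxHeartbeats 1000000
universe u
open CategoryTheory CategoryTheory.Limits AlgebraicGeometry
open VBCurve

namespace Groth.Agent.S18788

/-- Let k be a finite field and C a smooth proper geometrically integral curve over k (proper, smooth
and geometrically integral over k, of dimension one) of genus one, i.e. dim_k H^1(C, O_C) = 1, with
a k-rational point O (an elliptic curve over k); k is finite with q elements. Let F be an O_C-module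
with a short exact sequence 0 → O_C → F → O_C → 0 that does not split, and L an invertible
O_C-module of degree 0 (χ(L) − χ(O_C) = 0). Then Aut(O_C ⊕ F) has (q − 1)² q³ elements, and if L ≇
O_C then Aut(O_C ⊕ (L ⊗ F)) has (q − 1)² q elements. (The source states this for E = O_C ⊕ G with G
a geometrically indecomposable rank-2 bundle of degree 0, which it writes as L ⊗ F with F the
non-split self-extension of O_C by a classification it quotes; the row takes G in that form
directly. The accompanying count of isomorphism classes is not restated.) (The published setting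
takes k of characteristic at least 5; the argument does not use this and the row allows every finite
field.) -/
theorem result (k : Type u) [Field k] [Finite k] (X : Scheme.{u}) [X.Over (Spec (CommRingCat.of k))]
    [IsProper (X ↘ Spec (CommRingCat.of k))] [Smooth (X ↘ Spec (CommRingCat.of k))]
    [GeometricallyIntegral (X ↘ Spec (CommRingCat.of k))] (hdim : topologicalKrullDim ↥X = 1)
    (hg : Curv2.genus k X = 1) (O : Spec (CommRingCat.of k) ⟶ X) (hO : O ≫ (X ↘ Spec (CommRingCat.of k)) = 𝟙 _)
    (T : ShortComplex X.Modules) (hT : T.ShortExact)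
    (e₁ : T.X₁ ≅ Coh.structureModule X) (e₃ : T.X₃ ≅ Coh.structureModule X) (hns : ¬ IsSplitEpi T.g)
    (L : X.Modules) (hL : PicF.IsInvertible L) (hdeg : Curv2.deg k X L 1 = 0) :
    Nat.card (Aut (Coh.structureModule X ⊞ T.X₂)) = (Nat.card k - 1) ^ 2 * Nat.card k ^ 3 ∧
    (¬ Nonempty (L ≅ Coh.structureModule X) →
      Nat.card (Aut (Coh.structureModule X ⊞ CohB1.tensorMod L T.X₂)) = (Nat.card k - 1) ^ 2 * Nat.card k) := by
  haveI : IsIntegral X := GeometricallyIntegral.isIntegral_of_subsingleton (X ↘ Spec (CommRingCat.of k))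
  haveI := CurvLib.isNoetherian k (X := X)
  have hfg : (e₁.inv ≫ T.f) ≫ (T.g ≫ e₃.hom) = 0 := EllAutLib.fg_zero e₁ e₃
  refine ⟨EllAutLib.card_aut_sum (k := k) hfg (EllAutLib.mkE_bijective (k := k) hdim hT e₁ e₃ hns), fun hne => ?_⟩
  haveI := hT.mono_f
  haveI := hT.epi_g
  obtain ⟨eL⟩ := MiscFlat6.nonempty_dualIso hL
  let Φ := CurvLib.tensorLeft' L
  haveI : Φ.IsEquivalence := VBP1Lib.isEquivalence_tensor (L := L) (M := MiscFlat6.dual L) eL
  have hS : (T.map Φ).ShortExact := CurvLib.shortExact_tensor_locFree (CurvLib.locFree_of_isInvertible hL) hT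
  haveI := hS.mono_f
  haveI := hS.epi_g
  let i₁ : (T.map Φ).X₁ ≅ L := Φ.mapIso e₁ ≪≫ (CurveSDLib.unitR L).symm
  let i₃ : (T.map Φ).X₃ ≅ L := Φ.mapIso e₃ ≪≫ (CurveSDLib.unitR L).symm
  have hO := CurvLib.isInvertible_structureModule (X := X)
  have hd0 : Curv2.deg k X L 1 = Curv2.deg k X (Coh.structureModule X) 1 := by rw [hdeg, ExtLineLib.deg_structure]
  have hne' : ¬ Nonempty (Coh.structureModule X ≅ L) := fun ⟨j⟩ => hne ⟨j.symm⟩
  have h₁ : ∀ φ : Coh.structureModule X ⟶ (T.map Φ).X₂, φ = 0 := fun φ => by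
    have hz : φ ≫ (T.map Φ).g = 0 := by
      rw [← cancel_mono i₃.hom, zero_comp]
      exact EllAutLib.hom_eq_zero_line (k := k) hdim hO hL hd0.symm hne' _
    have hl : hS.exact.lift φ hz = 0 := by
      rw [← cancel_mono i₁.hom, zero_comp]
      exact EllAutLib.hom_eq_zero_line (k := k) hdim hO hL hd0.symm hne' _
    rw [← hS.exact.lift_f φ hz, hl, zero_comp]
  have h₂ : ∀ φ : (T.map Φ).X₂ ⟶ Coh.structureModule X, φ = 0 := fun φ => by
    have hz : (T.map Φ).f ≫ φ = 0 := by
      rw [← cancel_epi i₁.inv, comp_zero]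
      exact EllAutLib.hom_eq_zero_line (k := k) hdim hL hO hd0 hne _
    have hl : hS.exact.desc φ hz = 0 := by
      rw [← cancel_epi i₃.inv, comp_zero]
      exact EllAutLib.hom_eq_zero_line (k := k) hdim hL hO hd0 hne _
    rw [← hS.exact.g_desc φ hz, hl, comp_zero]
  have hF : Nat.card (Aut (Φ.obj T.X₂)) = (Nat.card k - 1) * Nat.card k := by
    rw [← Nat.card_congr ((Functor.FullyFaithful.ofFullyFaithful Φ).autMulEquivOfFullyFaithful T.X₂).toEquiv]
    exact EllAutLib.card_aut_ext (k := k) hfg (EllAutLib.mkF_bijective (k := k) hdim hT e₁ e₃ hns)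
  calc Nat.card (Aut (Coh.structureModule X ⊞ CohB1.tensorMod L T.X₂))
      = Nat.card (Aut (Coh.structureModule X ⊞ (T.map Φ).X₂)) := rfl
    _ = Nat.card (Aut (Coh.structureModule X)) * Nat.card (Aut (T.map Φ).X₂) := EllAutLib.card_aut_biprod _ _ h₁ h₂
    _ = (Nat.card k - 1) * ((Nat.card k - 1) * Nat.card k) := by
      rw [EllAutLib.card_aut_scalar (k := k) (EllAutLib.scalar_bijective (k := k) hdim hO)]
      exact congrArg _ hF
    _ = _ := by ring

end Groth.Agent.S18788
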