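import Groth.Statements.S18789
import Mathlib


-- import your own Groth.Agent.* helpers here

set_option autoImplicit false
universe u v w x
open TorusGr

namespace Groth.Agent.S18789

open DirectSum in
/-- Let `A` be a commutative algebra over a field `k`, graded by an additive commutative group `M` (for
`M` the character group of a split torus `T` this is a `T`-action on `Spec A`, and an `M`-graded
`A`-module is a `T`-equivariant quasi-coherent sheaf), let `P` be a finitely generated projective
`A`-module with a compatible `M`-grading (a locally free `T`-sheaf of finite rank), and let `m` be a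
homogeneous maximal ideal with residue field `k` (a `T`-fixed rational point). If homogeneous
elements `f i` of `P` reduce to a basis of `P/mP`, then there is a homogeneous `s ∉ m` such that
after inverting `s` the `f i` generate `P` and every relation among them is killed by a power of
`s`: on the invariant open `D(s)` the module is free on the homogeneous sections `f i`, with the
weights of the fibre `P/mP`. (The published statement has `M ≅ ℤ^r`, a split torus; here `M` is any
additive commutative group, i.e. any diagonalizable group.) -/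
theorem result
    {k : Type u} [Field k] {M : Type v} [AddCommGroup M] [DecidableEq M]
    {A : Type w} [CommRing A] [Algebra k A] (𝒜 : M → Submodule k A) [GradedAlgebra 𝒜]
    {P : Type x} [AddCommGroup P] [Module A P] [Module k P] [IsScalarTower k A P]
    (ℳ : M → Submodule k P) [Decomposition ℳ] [SetLike.GradedSMul 𝒜 ℳ]
    [Module.Finite A P] [Module.Projective A P]
    (m : Ideal A) [m.IsMaximal] (hm : m.IsHomogeneous 𝒜)
    (hrat : Function.Surjective (algebraMap k (A ⧸ m)))
    {n : ℕ} (wt : Fin n → M) (f : Fin n → P) (hf : ∀ i, f i ∈ ℳ (wt i))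
    (hli : LinearIndependent (A ⧸ m)
      (fun i => (Submodule.Quotient.mk (f i) : P ⧸ (m • (⊤ : Submodule A P)))))
    (hsp : Submodule.span A (Set.range f) ⊔ m • (⊤ : Submodule A P) = ⊤) :
    ∃ s : A, SetLike.IsHomogeneousElem 𝒜 s ∧ s ∉ m ∧
      (∀ p : P, ∃ (N : ℕ) (c : Fin n → A), s ^ N • p = ∑ i, c i • f i) ∧
      (∀ c : Fin n → A, ∑ i, c i • f i = 0 → ∃ N : ℕ, ∀ i, s ^ N * c i = 0) := by
  classical
  have hcomp : ∀ (a : A) (w : M) (x : P), x ∈ ℳ w → ∀ j : M,
      (decompose ℳ (a • x) j : P) = (decompose 𝒜 a (j - w) : A) • x := by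
    intro a w x hx j
    conv_lhs => rw [← DirectSum.sum_support_decompose 𝒜 a]
    rw [Finset.sum_smul, DirectSum.decompose_sum, DFinsupp.finsetSum_apply, Submodule.coe_sum,
      Finset.sum_eq_single (j - w)]
    · refine DirectSum.decompose_of_mem_same ℳ ?_
      have := SetLike.GradedSMul.smul_mem (SetLike.coe_mem (decompose 𝒜 a (j - w))) hx
      rwa [vadd_eq_add, sub_add_cancel] at this
    · intro l _ hl
      refine DirectSum.decompose_of_mem_ne ℳ (SetLike.GradedSMul.smul_mem (SetLike.coe_mem _) hx) ?_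
      rw [vadd_eq_add]
      exact fun e => hl (eq_sub_of_add_eq e)
    · intro hl
      rw [DFinsupp.notMem_support_iff] at hl
      simp [hl]
  let F := Fintype.linearCombination A f
  let N := LinearMap.range F
  have hmemN : ∀ y, y ∈ N ↔ ∃ c : Fin n → A, ∑ i, c i • f i = y := fun y => Iff.rfl
  have hNhom : ∀ y ∈ N, ∀ j, (decompose ℳ y j : P) ∈ N := by
    intro y hy j
    obtain ⟨c, rfl⟩ := (hmemN y).1 hy
    rw [DirectSum.decompose_sum, DFinsupp.finsetSum_apply, Submodule.coe_sum]
    refine Submodule.sum_mem _ fun i _ => ?_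
    rw [hcomp _ _ _ (hf i)]
    refine Submodule.smul_mem _ _ ((hmemN _).2 ⟨Pi.single i 1, ?_⟩)
    rw [Finset.sum_eq_single i (fun l _ hl => by simp [hl]) (fun h => absurd (Finset.mem_univ i) h)]
    simp
  have hnm : ∀ r : A, r ∉ m → ∃ l, (decompose 𝒜 r l : A) ∉ m := by
    intro r hr
    by_contra! h
    exact hr (DirectSum.sum_support_decompose 𝒜 r ▸ Ideal.sum_mem _ fun l _ => h l)
  -- generation
  have hspan : N = Submodule.span A (Set.range f) := Fintype.range_linearCombination A f
  obtain ⟨r₁, hr₁, hr₁'⟩ : ∃ r : A, r - 1 ∈ m ∧ ∀ p : P ⧸ N, r • p = 0 := by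
    obtain ⟨r, hr, hr'⟩ := Submodule.exists_sub_one_mem_and_smul_eq_zero_of_fg_of_le_smul m (⊤ : Submodule A (P ⧸ N))
      Module.Finite.fg_top (by
        intro y _
        obtain ⟨p, rfl⟩ := Submodule.Quotient.mk_surjective N y
        have hp : p ∈ Submodule.span A (Set.range f) ⊔ m • (⊤ : Submodule A P) := by rw [hsp]; trivial
        obtain ⟨u, hu, v, hv, rfl⟩ := Submodule.mem_sup.1 hp
        rw [← hspan] at hu
        rw [Submodule.Quotient.mk_add, (Submodule.Quotient.mk_eq_zero N).2 hu, zero_add]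
        have h3 : N.mkQ v ∈ Submodule.map N.mkQ (m • ⊤) := Submodule.mem_map_of_mem hv
        rw [Submodule.map_smul'', Submodule.map_top, Submodule.range_mkQ] at h3
        exact h3)
    exact ⟨r, hr, fun p => hr' p trivial⟩
  have hr₁m : r₁ ∉ m := fun h => (Ideal.IsPrime.ne_top inferInstance) ((Ideal.eq_top_iff_one m).2 (by simpa using sub_mem h hr₁))
  obtain ⟨l₁, hl₁⟩ := hnm r₁ hr₁m
  set t₁ : A := (decompose 𝒜 r₁ l₁ : A)
  have ht₁ : ∀ p : P, t₁ • p ∈ N := by
    intro p
    rw [← DirectSum.sum_support_decompose ℳ p, Finset.smul_sum]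
    refine Submodule.sum_mem _ fun j _ => ?_
    have h := hNhom (r₁ • (decompose ℳ p j : P)) ((Submodule.Quotient.mk_eq_zero N).1
      (by rw [Submodule.Quotient.mk_smul]; exact hr₁' _)) (l₁ + j)
    rwa [hcomp _ _ _ (SetLike.coe_mem _), add_sub_cancel_right] at h
  -- relations
  obtain ⟨σ, hσ⟩ := Module.projective_lifting_property F.rangeRestrict
    (LinearMap.codRestrict N (t₁ • LinearMap.id) ht₁) F.surjective_rangeRestrict
  have hσ' : ∀ p, F (σ p) = t₁ • p := fun p => congrArg Subtype.val (LinearMap.congr_fun hσ p)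
  let e : (Fin n → A) →ₗ[A] (Fin n → A) := t₁ • LinearMap.id - σ ∘ₗ F
  have hK : ∀ c, F c = 0 → ∀ i, c i ∈ m := by
    intro c hc i
    have h0 : ∑ i, (Ideal.Quotient.mk m (c i)) • (Submodule.Quotient.mk (f i) : P ⧸ (m • (⊤ : Submodule A P))) = 0 := by
      have h1 : Submodule.Quotient.mk (p := m • (⊤ : Submodule A P)) (∑ i, c i • f i) = 0 := by
        rw [show ∑ i, c i • f i = F c from rfl, hc, Submodule.Quotient.mk_zero]
      rw [← h1, ← Submodule.mkQ_apply, map_sum]
      exact Finset.sum_congr rfl fun i _ => rfl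
    exact Ideal.Quotient.eq_zero_iff_mem.1 (Fintype.linearIndependent_iff.1 hli _ h0 i)
  have heK : ∀ c, F (e c) = 0 := fun c => by
    simp only [e, LinearMap.sub_apply, LinearMap.smul_apply, LinearMap.id_apply, LinearMap.comp_apply, map_sub,
      map_smul, hσ', sub_self]
  have heq : ∀ c, F c = 0 → e c = t₁ • c := fun c hc => by
    simp [e, hc]
  obtain ⟨u, hu⟩ : ∃ u : A, u * t₁ - 1 ∈ m := by
    obtain ⟨y, hy⟩ := ((Ideal.Quotient.maximal_ideal_iff_isField_quotient m).1 inferInstance).mul_inv_cancel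
      (a := Ideal.Quotient.mk m t₁) (fun h => hl₁ (Ideal.Quotient.eq_zero_iff_mem.1 h))
    rw [mul_comm] at hy
    obtain ⟨y, rfl⟩ := Ideal.Quotient.mk_surjective y
    exact ⟨y, by rw [← Ideal.Quotient.eq, map_mul, map_one, hy]⟩
  obtain ⟨r₂, hr₂, hr₂'⟩ := Submodule.exists_sub_one_mem_and_smul_eq_zero_of_fg_of_le_smul m (LinearMap.range e)
    (by rw [LinearMap.range_eq_map]; exact Module.Finite.fg_top.map e) (by
      intro c hc
      have hc0 : F c = 0 := by obtain ⟨b, rfl⟩ := hc; exact heK b
      have h1 : e c ∈ m • LinearMap.range e := by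
        rw [show c = ∑ i, c i • (Pi.single i 1 : Fin n → A) from pi_eq_sum_univ' c, map_sum]
        refine Submodule.sum_mem _ fun i _ => ?_
        rw [map_smul]
        exact Submodule.smul_mem_smul (hK c hc0 i) ⟨_, rfl⟩
      rw [show c = u • (t₁ • c) - (u * t₁ - 1) • c by rw [sub_smul, one_smul, ← smul_smul]; abel, ← heq c hc0]
      exact sub_mem (Submodule.smul_mem _ u h1) (Submodule.smul_mem_smul hu hc))
  set r₃ := r₂ * t₁
  have hr₃m : r₃ ∉ m := fun h => (Ideal.IsPrime.mem_or_mem inferInstance h).elim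
    (fun h2 => (Ideal.IsPrime.ne_top inferInstance) ((Ideal.eq_top_iff_one m).2 (by simpa using sub_mem h2 hr₂))) hl₁
  obtain ⟨l₂, hl₂⟩ := hnm r₃ hr₃m
  set t₂ : A := (decompose 𝒜 r₃ l₂ : A)
  have ht₂ : ∀ c : Fin n → A, ∑ i, c i • f i = 0 → ∀ i, t₂ * c i = 0 := by
    intro c hc i
    have hkill : ∀ b : Fin n → A, F b = 0 → r₃ • b = 0 := fun b hb => by
      rw [mul_smul, ← heq b hb]
      exact hr₂' _ ⟨b, rfl⟩
    conv_lhs => rw [← DirectSum.sum_support_decompose 𝒜 (c i)]
    rw [Finset.mul_sum]
    refine Finset.sum_eq_zero fun q _ => ?_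
    let cj : Fin n → A := fun l => (decompose 𝒜 (c l) (q + wt i - wt l) : A)
    have hcj : F cj = 0 := by
      change ∑ l, cj l • f l = 0
      have h := congrArg (fun y => (decompose ℳ y (q + wt i) : P)) hc
      simp only [DirectSum.decompose_zero, DirectSum.zero_apply, ZeroMemClass.coe_zero] at h
      rw [DirectSum.decompose_sum, DFinsupp.finsetSum_apply, Submodule.coe_sum] at h
      exact (Finset.sum_congr rfl fun l _ => (hcomp _ _ _ (hf l) _).symm).trans h
    have h2 : r₃ * (decompose 𝒜 (c i) q : A) = 0 := by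
      have h2' : r₃ * cj i = 0 := congrFun (hkill cj hcj) i
      rwa [show cj i = (decompose 𝒜 (c i) q : A) by show (decompose 𝒜 (c i) (q + wt i - wt i) : A) = _; rw [add_sub_cancel_right]] at h2'
    have h3 : (decompose 𝒜 (r₃ * (decompose 𝒜 (c i) q : A)) (l₂ + q) : A) = 0 := by
      rw [h2, DirectSum.decompose_zero]; rfl
    rw [DirectSum.coe_decompose_mul_add_of_right_mem 𝒜 (SetLike.coe_mem _)] at h3
    exact h3
  refine ⟨t₁ * t₂, ⟨l₁ + l₂, SetLike.mul_mem_graded (SetLike.coe_mem _) (SetLike.coe_mem _)⟩,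
    fun h => (Ideal.IsPrime.mem_or_mem inferInstance h).elim hl₁ hl₂, fun p => ?_, fun c hc => ?_⟩
  · obtain ⟨c, hc⟩ := (hmemN _).1 (N.smul_mem t₂ (ht₁ p))
    exact ⟨1, c, by rw [pow_one, mul_comm, mul_smul, hc]⟩
  · exact ⟨1, fun i => by rw [pow_one, mul_assoc, ht₂ c hc i, mul_zero]⟩

end Groth.Agent.S18789
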