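import Groth.Statements.S18790
import Mathlib


-- import your own Groth.Agent.* helpers here

set_option autoImplicit false
universe u v w
open TorusGr

namespace Groth.Agent.S18790

/-- Let `A` be a commutative algebra over a field `k`, graded by an additive commutative group `M` (for
`M` the character group of a split torus `T`, a `T`-action on `Spec A`), let `J` be the ideal
generated by the homogeneous elements of non-zero degree (its zero locus is the fixed-point
subscheme) and let `m ⊇ J` be a maximal ideal with residue field `k` (a fixed rational point) at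
which the fixed-point subscheme is the reduced point: `J` and `m` agree after localizing at `m`.
Then the cotangent space `m/m²` has no part of weight zero: every degree-zero element of `m` lies in
`m²`. (The published statement has `M ≅ ℤ^r`, a split torus, and phrases the conclusion as the
non-vanishing of the weights of a semi-invariant basis of `m/m²`; here `M` is any additive
commutative group, i.e. any diagonalizable group.) -/
theorem result
    {k : Type u} [Field k] {M : Type v} [AddCommGroup M] [DecidableEq M]
    {A : Type w} [CommRing A] [Algebra k A] (𝒜 : M → Submodule k A) [GradedAlgebra 𝒜]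
    (m : Ideal A) [m.IsMaximal] (hrat : Function.Surjective (algebraMap k (A ⧸ m)))
    (hfix : ∀ i : M, i ≠ 0 → ∀ a ∈ 𝒜 i, a ∈ m)
    (hred : ∀ a ∈ m, ∃ s ∉ m, s * a ∈ Ideal.span {b : A | ∃ i : M, i ≠ 0 ∧ b ∈ 𝒜 i})
    {f : A} (hf0 : f ∈ 𝒜 0) (hfm : f ∈ m) : f ∈ m ^ 2 := by
  classical
  obtain ⟨s, hs, hsf⟩ := hred f hfm
  have hm : ∀ (i : M), i ≠ 0 → ∀ a : A, (DirectSum.decompose 𝒜 a i : A) ∈ m := fun i hi a =>
    hfix i hi _ (SetLike.coe_mem _)
  have key : ∀ x ∈ Ideal.span {b : A | ∃ i : M, i ≠ 0 ∧ b ∈ 𝒜 i}, (DirectSum.decompose 𝒜 x 0 : A) ∈ m ^ 2 := by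
    intro x hx
    induction hx using Submodule.span_induction with
    | mem b hb =>
      obtain ⟨i, hi, hb⟩ := hb
      rw [DirectSum.decompose_of_mem_ne 𝒜 hb hi]
      exact zero_mem _
    | zero => simp
    | add a b _ _ ha hb =>
      rw [DirectSum.decompose_add, DirectSum.add_apply, Submodule.coe_add]
      exact add_mem ha hb
    | smul r b hb' hb =>
      rw [smul_eq_mul, ← DirectSum.sum_support_decompose 𝒜 r, Finset.sum_mul, DirectSum.decompose_sum,
        DFinsupp.finsetSum_apply, Submodule.coe_sum]
      refine Submodule.sum_mem _ fun l _ => ?_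
      conv => arg 2; rw [show (0 : M) = l + -l by abel]
      rw [DirectSum.coe_decompose_mul_add_of_left_mem 𝒜 (SetLike.coe_mem _)]
      rcases eq_or_ne l 0 with rfl | hl
      · rw [neg_zero]; exact Ideal.mul_mem_left _ _ hb
      · rw [pow_two]; exact Ideal.mul_mem_mul (hm l hl r) (hm (-l) (neg_ne_zero.2 hl) b)
  set s₀ : A := (DirectSum.decompose 𝒜 s 0 : A)
  have hs₀ : s₀ ∉ m := by
    intro h0
    refine hs ?_
    rw [← DirectSum.sum_support_decompose 𝒜 s]
    refine Ideal.sum_mem _ fun j _ => ?_
    rcases eq_or_ne j 0 with rfl | hj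
    · exact h0
    · exact hm j hj s
  have h1 : s₀ * f ∈ m ^ 2 := by
    have h := key _ hsf
    rw [show (0 : M) = 0 + 0 by rw [add_zero], DirectSum.coe_decompose_mul_add_of_right_mem 𝒜 hf0] at h
    exact h
  obtain ⟨t, u, hu, htu⟩ := Ideal.IsMaximal.exists_inv inferInstance hs₀
  have : f = t * (s₀ * f) + u * f := by rw [← mul_assoc, ← add_mul, htu, one_mul]
  rw [this]
  exact add_mem (Ideal.mul_mem_left _ _ h1) (pow_two m ▸ Ideal.mul_mem_mul hu hfm)

end Groth.Agent.S18790
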