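import Groth.Statements.S18791
import Mathlib


-- import your own Groth.Agent.* helpers here

set_option autoImplicit false
universe u v w x
open TorusGr

namespace Groth.Agent.S18791

/-- Let `φ : B → A` be a degree-preserving homomorphism of commutative algebras over a field `k` graded
by an additive commutative group `M` (for `M` the character group of a split torus, an equivariant
morphism `Spec A → Spec B`), and let `m` be a maximal ideal of `A` containing all homogeneous
elements of non-zero degree (a fixed point). Then the ideal of those `b` whose image is zero in the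
local ring `A_m` is homogeneous: the homogeneous (weight) components of such a `b` again die in
`A_m`. Since `A_m` embeds in its completion when `A` is Noetherian, these are the elements of `B`
that die in the completed local ring. (The published lemma asserts moreover that, for `B = k[Y_1, …,
Y_d]` mapping the `Y_i` to semi-invariant lifts of a basis of `m/m²`, the kernel of the induced
surjection of completions `k[[Y]] → Â_m` is generated by semi-invariant polynomials; generation of
that kernel by polynomials can fail, so only the statement about polynomial elements of the kernel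
is recorded here. The published statement has `M ≅ ℤ^r` (a split torus) and `B` the polynomial ring
on the lifts; here `M` is any additive commutative group and `B` any `M`-graded `k`-algebra.) -/
theorem result
    {k : Type u} [Field k] {M : Type v} [AddCommGroup M] [DecidableEq M]
    {A : Type w} [CommRing A] [Algebra k A] (𝒜 : M → Submodule k A) [GradedAlgebra 𝒜]
    {B : Type x} [CommRing B] [Algebra k B] (ℬ : M → Submodule k B) [GradedAlgebra ℬ]
    (φ : B →ₐ[k] A) (hφ : ∀ i : M, ∀ b ∈ ℬ i, φ b ∈ 𝒜 i)
    (m : Ideal A) [m.IsMaximal] (hfix : ∀ i : M, i ≠ 0 → ∀ a ∈ 𝒜 i, a ∈ m) :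
    (RingHom.ker ((algebraMap A (Localization.AtPrime m)).comp (φ : B →+* A))).IsHomogeneous ℬ := by
  classical
  intro i b hb
  rw [RingHom.mem_ker, RingHom.comp_apply] at hb ⊢
  obtain ⟨⟨s, hs⟩, hsb⟩ := (IsLocalization.map_eq_zero_iff m.primeCompl (Localization.AtPrime m) _).1 hb
  let ι := algebraMap A (Localization.AtPrime m)
  let a : M → A := fun j => φ (DirectSum.decompose ℬ b j : B)
  let s' : M → A := fun j => (DirectSum.decompose 𝒜 s j : A)
  have ha : ∀ j, a j ∈ 𝒜 j := fun j => hφ j _ (SetLike.coe_mem _)
  have hφb : (φ : B →+* A) b = ∑ j ∈ (DirectSum.decompose ℬ b).support, a j := by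
    conv_lhs => rw [← DirectSum.sum_support_decompose ℬ b]
    exact map_sum φ _ _
  have hdec : ∀ j, (DirectSum.decompose 𝒜 ((φ : B →+* A) b) j : A) = a j := by
    intro j
    rw [hφb, DirectSum.decompose_sum, DFinsupp.finsetSum_apply, Submodule.coe_sum, Finset.sum_eq_single j]
    · exact DirectSum.decompose_of_mem_same 𝒜 (ha j)
    · exact fun l _ hl => DirectSum.decompose_of_mem_ne 𝒜 (ha l) hl
    · intro hj
      rw [DFinsupp.notMem_support_iff] at hj
      simp [a, hj]
  have hs0 : s' 0 ∉ m := by
    intro h0
    refine hs ?_
    rw [← DirectSum.sum_support_decompose 𝒜 s]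
    refine Ideal.sum_mem _ fun j _ => ?_
    rcases eq_or_ne j 0 with rfl | hj
    · exact h0
    · exact hfix j hj _ (SetLike.coe_mem _)
  have hu : IsUnit (ι (s' 0)) := IsLocalization.map_units (Localization.AtPrime m) (⟨s' 0, hs0⟩ : m.primeCompl)
  let N : Submodule (Localization.AtPrime m) (Localization.AtPrime m) :=
    Submodule.span _ ((DirectSum.decompose ℬ b).support.image fun j => ι (a j))
  have hN : N = ⊥ := by
    refine Submodule.eq_bot_of_le_smul_of_le_jacobson_bot (IsLocalRing.maximalIdeal _) N
      (Submodule.fg_span (Finset.finite_toSet _)) ?_ (IsLocalRing.maximalIdeal_le_jacobson _)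
    refine Submodule.span_le.2 ?_
    intro y hy
    obtain ⟨j, hj, rfl⟩ := Finset.mem_image.1 hy
    have key : s' 0 * a j + ∑ l ∈ (DirectSum.decompose 𝒜 s).support.erase 0, s' l * a (j - l) = 0 := by
      have hsum : s' 0 * a j + ∑ l ∈ (DirectSum.decompose 𝒜 s).support.erase 0, s' l * a (j - l) =
          ∑ l ∈ (DirectSum.decompose 𝒜 s).support, s' l * a (j - l) := by
        have h0mem : (0 : M) ∈ (DirectSum.decompose 𝒜 s).support := by
          rw [DFinsupp.mem_support_iff]
          intro hz
          exact hs0 (by simp [s', hz])
        rw [← Finset.add_sum_erase _ _ h0mem, sub_zero]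
      rw [hsum]
      have hzero : (DirectSum.decompose 𝒜 (s * (φ : B →+* A) b) j : A) = 0 := by
        rw [hsb]; simp
      rw [← hzero]
      conv_rhs => rw [← DirectSum.sum_support_decompose 𝒜 s]
      rw [Finset.sum_mul, DirectSum.decompose_sum, DFinsupp.finsetSum_apply, Submodule.coe_sum]
      refine Finset.sum_congr rfl fun l _ => ?_
      conv_rhs => rw [show j = l + (j - l) by abel]
      rw [DirectSum.coe_decompose_mul_add_of_left_mem 𝒜 (SetLike.coe_mem _), hdec]
    have h2 := congrArg ι key
    rw [map_add, map_mul, map_sum, map_zero, add_eq_zero_iff_eq_neg] at h2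
    have h3 : ι (a j) = ((hu.unit⁻¹ : (Localization.AtPrime m)ˣ) : Localization.AtPrime m) *
        -∑ l ∈ (DirectSum.decompose 𝒜 s).support.erase 0, ι (s' l * a (j - l)) := by
      rw [← h2, ← mul_assoc, IsUnit.val_inv_mul, one_mul]
    change ι (a j) ∈ IsLocalRing.maximalIdeal (Localization.AtPrime m) • N
    rw [h3, ← smul_eq_mul]
    refine Submodule.smul_mem _ _ (neg_mem (Submodule.sum_mem _ fun l hl => ?_))
    rw [map_mul, ← smul_eq_mul]
    refine Submodule.smul_mem_smul ?_ ?_
    · exact (IsLocalization.AtPrime.to_map_mem_maximal_iff (Localization.AtPrime m) m _).2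
        (hfix l (Finset.ne_of_mem_erase hl) _ (SetLike.coe_mem _))
    · by_cases hjl : j - l ∈ (DirectSum.decompose ℬ b).support
      · exact Submodule.subset_span (Finset.mem_image_of_mem _ hjl)
      · rw [DFinsupp.notMem_support_iff] at hjl
        simp [a, hjl]
  change ι (a i) = 0
  by_cases hi : i ∈ (DirectSum.decompose ℬ b).support
  · have : ι (a i) ∈ N := Submodule.subset_span (Finset.mem_image_of_mem _ hi)
    rwa [hN, Submodule.mem_bot] at this
  · rw [DFinsupp.notMem_support_iff] at hi
    simp [a, hi]

end Groth.Agent.S18791
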