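import Groth.Statements.S18792
import Mathlib


-- import your own Groth.Agent.* helpers here

set_option autoImplicit false
universe u
open DefMod

namespace Groth.Agent.S18792

/-- Let A be an associative unital algebra over ℚ, let a ∈ A be nilpotent and let b ∈ A. Then the
commutator map x ↦ a x − x a is a nilpotent ℚ-linear endomorphism of A, and exp(a) b exp(−a) =
exp(ad a)(b), where exp is the finite exponential series of a nilpotent element and ad a is the
commutator map. (The published statement takes A an algebra over an arbitrary commutative ring; the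
factorials in the exponential series require the rationals to act, so A is taken to be a ℚ-algebra
here. The intermediate double-sum expansion printed between the two sides is not restated.) -/
theorem result {A : Type u} [Ring A] [Algebra ℚ A] (a b : A)
    (ha : IsNilpotent a) :
    IsNilpotent (LinearMap.mulLeft ℚ a - LinearMap.mulRight ℚ a) ∧
      IsNilpotent.exp a * b * IsNilpotent.exp (-a) =
        IsNilpotent.exp (LinearMap.mulLeft ℚ a - LinearMap.mulRight ℚ a) b := by
  have hL : IsNilpotent (LinearMap.mulLeft ℚ a) := (LinearMap.isNilpotent_mulLeft_iff ℚ a).2 ha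
  have hR : IsNilpotent (LinearMap.mulRight ℚ a) := (LinearMap.isNilpotent_mulRight_iff ℚ a).2 ha
  have hc : Commute (LinearMap.mulLeft ℚ a) (-LinearMap.mulRight ℚ a) :=
    Commute.neg_right (R := Module.End ℚ A) (LinearMap.commute_mulLeft_right a a)
  refine ⟨by rw [sub_eq_add_neg]; exact hc.isNilpotent_add hL hR.neg, ?_⟩
  rw [sub_eq_add_neg, IsNilpotent.exp_add_of_commute hc hL hR.neg]
  obtain ⟨n, hn⟩ := ha
  have h1 : (LinearMap.mulLeft ℚ a) ^ n = 0 := by rw [LinearMap.pow_mulLeft, hn, LinearMap.mulLeft_zero_eq_zero]
  have h2 : (-LinearMap.mulRight ℚ a) ^ n = 0 := by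
    rw [neg_pow (R := Module.End ℚ A), LinearMap.pow_mulRight, hn, LinearMap.mulRight_zero_eq_zero, mul_zero]
  have h3 : (-a) ^ n = 0 := by rw [neg_pow, hn, mul_zero]
  rw [IsNilpotent.exp_eq_sum h1, IsNilpotent.exp_eq_sum h2, IsNilpotent.exp_eq_sum hn, IsNilpotent.exp_eq_sum h3]
  have hneg : -LinearMap.mulRight ℚ a = LinearMap.mulRight ℚ (-a) := LinearMap.ext fun x => (mul_neg x a).symm
  simp only [hneg, LinearMap.pow_mulLeft, LinearMap.pow_mulRight, Module.End.mul_apply, LinearMap.sum_apply,
    LinearMap.smul_apply, LinearMap.mulLeft_apply, LinearMap.mulRight_apply, Finset.mul_sum, Finset.sum_mul,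
    mul_smul_comm, smul_mul_assoc, Finset.smul_sum, map_sum, map_smul, mul_assoc]

end Groth.Agent.S18792
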