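import Groth.Statements.S18794
import Mathlib

set_option autoImplicit false
universe u v w
open scoped TensorProduct
open DefMod

namespace Groth.Agent.S18794

section
variable {K : Type u} [Field K] {D : Type v} [Ring D] [Algebra K D]
  {E : Type w} [AddCommGroup E] [Module K E] [Module D E] [IsScalarTower K D E]
  {L : Type u} [Field L] [Algebra K L] {M : Type u} [Field M] [Algebra K M]

variable (E) in
def jmap (φ : L →ₐ[K] M) : L ⊗[K] E →ₗ[K] M ⊗[K] E := TensorProduct.map φ.toLinearMap LinearMap.id

omit [Module D E] [IsScalarTower K D E] in
theorem jmap_smul (φ : L →ₐ[K] M) (l : L) (x : L ⊗[K] E) : jmap E φ (l • x) = φ l • jmap E φ x := by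
  induction x with
  | zero => simp
  | tmul a e => simp [jmap, TensorProduct.smul_tmul']
  | add x y hx hy => simp [hx, hy, smul_add]

theorem jmap_bc (φ : L →ₐ[K] M) (d : D) (x : L ⊗[K] E) :
    jmap E φ ((DistribSMul.toLinearMap K E d).baseChange L x) =
      (DistribSMul.toLinearMap K E d).baseChange M (jmap E φ x) := by
  induction x with
  | zero => simp
  | tmul a e => simp [jmap]
  | add x y hx hy => simp [hx, hy]

omit [Module D E] [IsScalarTower K D E] in
theorem exists_fd (x : M ⊗[K] E) [Algebra.IsAlgebraic K M] :
    ∃ L : IntermediateField K M, FiniteDimensional K L ∧ x ∈ LinearMap.range (jmap E L.val) := by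
  induction x with
  | zero => exact ⟨⊥, inferInstance, zero_mem _⟩
  | tmul c e =>
    exact ⟨IntermediateField.adjoin K {c},
      IntermediateField.adjoin.finiteDimensional (Algebra.IsIntegral.isIntegral c),
      ⟨(⟨c, IntermediateField.mem_adjoin_simple_self K c⟩ : IntermediateField.adjoin K {c}) ⊗ₜ e, by simp [jmap]⟩⟩
  | add x y hx hy =>
    obtain ⟨L₁, h₁, a, rfl⟩ := hx
    obtain ⟨L₂, h₂, b, rfl⟩ := hy
    refine ⟨L₁ ⊔ L₂, inferInstance, add_mem ?_ ?_⟩
    · refine ⟨jmap E (IntermediateField.inclusion le_sup_left) a, ?_⟩
      induction a with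
      | zero => simp
      | tmul p q => simp [jmap]
      | add p q hp hq => simp [hp, hq]
    · refine ⟨jmap E (IntermediateField.inclusion le_sup_right) b, ?_⟩
      induction b with
      | zero => simp
      | tmul p q => simp [jmap]
      | add p q hp hq => simp [hp, hq]

end


/-- Let E be a left module over an associative algebra D over a field K of characteristic zero. For a
field extension L of K, the base change L ⊗_K E is a module over L ⊗_K D, i.e. an L-vector space
with a commuting action of D; call it irreducible when it is nonzero and its only L-subspaces stable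
under every element of D are 0 and the whole space. Then E is absolutely irreducible (its base
change to an algebraic closure of K is irreducible) if and only if L ⊗_K E is irreducible for every
finite extension L of K. (Finite extensions are taken in the universe of K.) -/
theorem result
    {K : Type u} [Field K] [CharZero K]
    {D : Type v} [Ring D] [Algebra K D]
    {E : Type w} [AddCommGroup E] [Module K E] [Module D E] [IsScalarTower K D E] :
    (Nontrivial (AlgebraicClosure K ⊗[K] E) ∧ ∀ N : Submodule (AlgebraicClosure K) (AlgebraicClosure K ⊗[K] E), (∀ (d : D) (x : AlgebraicClosure K ⊗[K] E), x ∈ N → (DistribSMul.toLinearMap K E d).baseChange (AlgebraicClosure K) x ∈ N) → N = ⊥ ∨ N = ⊤) ↔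
      ∀ (L : Type u) [Field L] [Algebra K L] [FiniteDimensional K L],
        (Nontrivial (L ⊗[K] E) ∧ ∀ N : Submodule (L) (L ⊗[K] E), (∀ (d : D) (x : L ⊗[K] E), x ∈ N → (DistribSMul.toLinearMap K E d).baseChange (L) x ∈ N) → N = ⊥ ∨ N = ⊤) := by
  constructor
  · rintro ⟨hnt, hirr⟩ L _ _ _
    haveI : Nontrivial E := by
      by_contra hE
      rw [not_nontrivial_iff_subsingleton] at hE
      exact not_subsingleton (AlgebraicClosure K ⊗[K] E) inferInstance
    refine ⟨inferInstance, fun N hN => ?_⟩
    let φ : L →ₐ[K] AlgebraicClosure K := IsAlgClosed.lift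
    letI : Algebra L (AlgebraicClosure K) := φ.toRingHom.toAlgebra
    haveI : IsScalarTower K L (AlgebraicClosure K) := IsScalarTower.of_algebraMap_eq fun x => (φ.commutes x).symm
    obtain ⟨r, hr⟩ := LinearMap.exists_leftInverse_of_injective (Algebra.linearMap L (AlgebraicClosure K))
      (LinearMap.ker_eq_bot.2 (algebraMap L (AlgebraicClosure K)).injective)
    have hr1 : ∀ l : L, r (φ l) = l := fun l => LinearMap.congr_fun hr l
    let R : AlgebraicClosure K ⊗[K] E →ₗ[K] L ⊗[K] E := (r.restrictScalars K).rTensor E
    have hR : ∀ (c : AlgebraicClosure K) (n : L ⊗[K] E), R (c • jmap E φ n) = r c • n := by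
      intro c n
      induction n with
      | zero => simp
      | tmul a e =>
        simp only [jmap, TensorProduct.map_tmul, AlgHom.toLinearMap_apply, LinearMap.id_apply,
          TensorProduct.smul_tmul', R, LinearMap.rTensor_tmul, LinearMap.restrictScalars_apply, smul_eq_mul]
        congr 1
        rw [mul_comm c, show φ a * c = a • c from rfl, map_smul, smul_eq_mul, mul_comm]
      | add x y hx hy => simp only [map_add, smul_add, hx, hy]
    let N' : Submodule (AlgebraicClosure K) (AlgebraicClosure K ⊗[K] E) := Submodule.span _ (jmap E φ '' N)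
    have hN' : ∀ (d : D) x, x ∈ N' → (DistribSMul.toLinearMap K E d).baseChange (AlgebraicClosure K) x ∈ N' := by
      intro d x hx
      induction hx using Submodule.span_induction with
      | mem x hx =>
        obtain ⟨n, hn, rfl⟩ := hx
        rw [← jmap_bc]
        exact Submodule.subset_span ⟨_, hN d n hn, rfl⟩
      | zero => simp
      | add x y _ _ hx hy => rw [map_add]; exact add_mem hx hy
      | smul c x _ hx => rw [map_smul]; exact Submodule.smul_mem _ c hx
    have hback : ∀ x ∈ N', R x ∈ N := by
      intro x hx
      have hgen : ∀ x ∈ N', ∀ c : AlgebraicClosure K, R (c • x) ∈ N := by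
        intro x hx
        induction hx using Submodule.span_induction with
        | mem x hx =>
          obtain ⟨n, hn, rfl⟩ := hx
          exact fun c => by rw [hR]; exact N.smul_mem _ hn
        | zero => simp
        | add x y _ _ hx hy => exact fun c => by rw [smul_add, map_add]; exact add_mem (hx c) (hy c)
        | smul a x _ hx => exact fun c => by rw [smul_smul]; exact hx _
      simpa using hgen x hx 1
    have h1 : ∀ n, R (jmap E φ n) = n := fun n => by
      have := hR 1 n
      rwa [one_smul, ← map_one φ, hr1, one_smul] at this
    rcases hirr N' hN' with h | h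
    · refine Or.inl ((Submodule.eq_bot_iff _).2 fun n hn => ?_)
      have : jmap E φ n ∈ N' := Submodule.subset_span ⟨n, hn, rfl⟩
      rw [h, Submodule.mem_bot] at this
      rw [← h1 n, this, map_zero]
    · refine Or.inr (eq_top_iff.2 fun n _ => ?_)
      rw [← h1 n]
      exact hback _ (h ▸ Submodule.mem_top)
  · intro h
    haveI : Nontrivial E := by
      by_contra hE
      rw [not_nontrivial_iff_subsingleton] at hE
      haveI := (h K).1
      exact not_subsingleton (K ⊗[K] E) inferInstance
    refine ⟨inferInstance, fun N hN => or_iff_not_imp_left.2 fun hne => ?_⟩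
    obtain ⟨v, hv, hv0⟩ := Submodule.exists_mem_ne_zero_of_ne_bot hne
    obtain ⟨L, hL, a, rfl⟩ := exists_fd v
    let M₀ : Submodule L (L ⊗[K] E) :=
      { carrier := {x | jmap E L.val x ∈ N}
        add_mem' := fun {x y} hx hy => by
          show jmap E L.val (x + y) ∈ N
          rw [map_add]; exact add_mem hx hy
        zero_mem' := by
          show jmap E L.val 0 ∈ N
          rw [map_zero]; exact zero_mem _
        smul_mem' := fun l x hx => by
          show jmap E L.val (l • x) ∈ N
          rw [jmap_smul]; exact N.smul_mem _ hx }
    rcases (h L).2 M₀ (fun d x hx => by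
        show jmap E L.val _ ∈ N
        rw [jmap_bc]; exact hN d _ hx) with h0 | h0
    · exfalso
      have : a ∈ M₀ := hv
      rw [h0, Submodule.mem_bot] at this
      exact hv0 (by rw [this, map_zero])
    · refine eq_top_iff.2 fun x _ => ?_
      induction x with
      | zero => exact zero_mem _
      | tmul c e =>
        have : (1 : L) ⊗ₜ[K] e ∈ M₀ := h0 ▸ Submodule.mem_top
        have h2 : (1 : AlgebraicClosure K) ⊗ₜ[K] e ∈ N := by simpa [jmap] using (show jmap E L.val _ ∈ N from this)
        simpa [TensorProduct.smul_tmul'] using N.smul_mem c h2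
      | add x y hx hy => exact add_mem (hx trivial) (hy trivial)
end Groth.Agent.S18794
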