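import Groth.Statements.S18795
import Mathlib
-- import your own Groth.Agent.* helpers here

set_option autoImplicit false
universe u v w
open scoped TensorProduct
open DefMod

namespace Groth.Agent.S18795

/-- Let E be a left module over an associative algebra D over a field K of characteristic zero. Assume
that the D-linear endomorphisms of E form a finite-dimensional K-vector space, that E has a finite
presentation over D, and that E is absolutely irreducible: its base change K̄ ⊗_K E to an algebraic
closure K̄ of K is nonzero and its only K̄-subspaces stable under every element of D are 0 and the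
whole space. Then End_D(E) = K: every D-linear endomorphism of E is multiplication by a scalar from
K. -/
theorem result
    {K : Type u} [Field K] [CharZero K]
    {D : Type v} [Ring D] [Algebra K D]
    {E : Type w} [AddCommGroup E] [Module K E] [Module D E] [IsScalarTower K D E]
    [Module.Finite K (E →ₗ[D] E)] [Module.FinitePresentation D E]
    (habs : (Nontrivial (AlgebraicClosure K ⊗[K] E) ∧ ∀ N : Submodule (AlgebraicClosure K) (AlgebraicClosure K ⊗[K] E), (∀ (d : D) (x : AlgebraicClosure K ⊗[K] E), x ∈ N → (DistribSMul.toLinearMap K E d).baseChange (AlgebraicClosure K) x ∈ N) → N = ⊥ ∨ N = ⊤))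
    (φ : E →ₗ[D] E) : ∃ c : K, ∀ x : E, φ x = c • x := by
  classical
  obtain ⟨⟨hnt, hirr⟩, -⟩ : (Nontrivial (AlgebraicClosure K ⊗[K] E) ∧ ∀ N : Submodule (AlgebraicClosure K) (AlgebraicClosure K ⊗[K] E), (∀ (d : D) (x : AlgebraicClosure K ⊗[K] E), x ∈ N → (DistribSMul.toLinearMap K E d).baseChange (AlgebraicClosure K) x ∈ N) → N = ⊥ ∨ N = ⊤) ∧ True :=
    ⟨habs, trivial⟩
  set F := AlgebraicClosure K
  haveI : IsScalarTower K (AlgebraicClosure K) (AlgebraicClosure K ⊗[K] E) := TensorProduct.isScalarTower_left
  let R : (E →ₗ[D] E) →ₐ[K] Module.End K E :=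
    { toFun := fun f => f.restrictScalars K
      map_one' := rfl
      map_mul' := fun _ _ => rfl
      map_zero' := rfl
      map_add' := fun _ _ => rfl
      commutes' := fun r => by ext x; rfl }
  let Φ : Module.End K E →ₐ[K] Module.End F (F ⊗[K] E) := Module.End.baseChangeHom K F E
  set T := Φ (R φ) with hT
  obtain ⟨P, hP, hP0⟩ := IsIntegral.of_finite K (φ : Module.End D E)
  have hcomm : ∀ (d : D) (y : F ⊗[K] E), T ((DistribSMul.toLinearMap K E d).baseChange F y) =
      (DistribSMul.toLinearMap K E d).baseChange F (T y) := by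
    intro d y
    induction y using TensorProduct.induction_on with
    | zero => simp
    | tmul r e =>
      show r ⊗ₜ[K] φ (d • e) = r ⊗ₜ[K] (d • φ e)
      rw [map_smul]
    | add y z hy hz => simp only [map_add, hy, hz]
  have hTP : Polynomial.aeval T (P.map (algebraMap K F)) = 0 := by
    rw [Polynomial.aeval_map_algebraMap, hT, Polynomial.aeval_algHom_apply, Polynomial.aeval_algHom_apply,
      show Polynomial.aeval φ P = 0 from hP0, map_zero, map_zero]
  obtain ⟨l, hl⟩ : ∃ l : F, ¬ Function.Injective (T - algebraMap F (Module.End F (F ⊗[K] E)) l) := by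
    by_contra! hall
    have hsplit := IsAlgClosed.splits (P.map (algebraMap K F))
    have hprod := hsplit.eq_prod_roots_of_monic (hP.map _)
    rw [hprod] at hTP
    have hinj : ∀ m : Multiset F, Function.Injective
        (Polynomial.aeval T (m.map fun a => Polynomial.X - Polynomial.C a).prod) := by
      intro m
      induction m using Multiset.induction with
      | empty => simp [Function.Injective]
      | cons a s ih =>
        rw [Multiset.map_cons, Multiset.prod_cons, map_mul, map_sub, Polynomial.aeval_X, Polynomial.aeval_C]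
        intro y z h
        exact ih (hall a h)
    have h := hinj (P.map (algebraMap K F)).roots
    rw [hTP] at h
    exact not_subsingleton (F ⊗[K] E) ⟨fun y z => h rfl⟩
  have htop : ∀ y : F ⊗[K] E, T y = l • y := by
    rcases hirr (LinearMap.ker (T - algebraMap F (Module.End F (F ⊗[K] E)) l)) (fun d y hy => by
      rw [LinearMap.mem_ker, LinearMap.sub_apply, Module.algebraMap_end_apply, sub_eq_zero] at hy ⊢
      rw [hcomm, hy, map_smul]) with h | h
    · exact absurd (LinearMap.ker_eq_bot.1 h) hl
    · intro y
      have hy : y ∈ LinearMap.ker (T - algebraMap F (Module.End F (F ⊗[K] E)) l) := by rw [h]; trivial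
      rwa [LinearMap.mem_ker, LinearMap.sub_apply, Module.algebraMap_end_apply, sub_eq_zero] at hy
  obtain ⟨b⟩ := (⟨Module.Free.chooseBasis K E⟩ : Nonempty (Module.Basis (Module.Free.ChooseBasisIndex K E) K E))
  have hne : Nonempty (Module.Free.ChooseBasisIndex K E) := by
    by_contra h
    rw [not_nonempty_iff] at h
    haveI : Subsingleton E := b.repr.toEquiv.subsingleton
    exact not_subsingleton (F ⊗[K] E) inferInstance
  obtain ⟨i⟩ := hne
  refine ⟨b.repr (φ (b i)) i, fun x => ?_⟩
  let ψ : F ⊗[K] E →ₗ[K] F := TensorProduct.lift ((LinearMap.lsmul K F).flip.compl₂ (b.coord i))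
  have hψ : ∀ (r : F) (e : E), ψ (r ⊗ₜ e) = b.repr e i • r := fun r e => rfl
  have hl' : algebraMap K F (b.repr (φ (b i)) i) = l := by
    have h2 : (1 : F) ⊗ₜ[K] φ (b i) = (l • (1 : F)) ⊗ₜ[K] b i := htop ((1 : F) ⊗ₜ b i)
    have h3 := congrArg ψ h2
    rwa [hψ, hψ, b.repr_self, Finsupp.single_eq_same, one_smul, smul_eq_mul, mul_one, ← Algebra.algebraMap_eq_smul_one] at h3
  have h4 : (1 : F) ⊗ₜ[K] φ x = (1 : F) ⊗ₜ[K] (b.repr (φ (b i)) i • x) := by
    rw [TensorProduct.tmul_smul, ← algebraMap_smul F (b.repr (φ (b i)) i), hl']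
    exact htop ((1 : F) ⊗ₜ x)
  exact Module.Flat.rTensor_preserves_injective_linearMap (M := E) (Algebra.linearMap K F) (algebraMap K F).injective |>
    fun hinj => by
      have h5 : Function.Injective fun e : E => (1 : F) ⊗ₜ[K] e := fun e e' he => by
        have : (1 : K) ⊗ₜ[K] e = (1 : K) ⊗ₜ[K] e' := hinj (by simpa using he)
        simpa using congrArg (TensorProduct.lid K E) this
      exact h5 h4


end Groth.Agent.S18795
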