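import Groth.Statements.S18796
import Mathlib

set_option autoImplicit false
universe u v w w' u'
open scoped TensorProduct
open DefMod

namespace Groth.Agent.S18796

open TensorProduct in
theorem eqv_bc {K : Type u} [Field K] {D : Type v} [Ring D] [Algebra K D]
    {F : Type w'} [AddCommGroup F] [Module K F] [Module D F] [IsScalarTower K D F]
    {P : Type u'} [CommRing P] [Algebra K P] {ι : Type*} [DecidableEq ι] (b : Module.Basis ι K P)
    (d : D) (x : P ⊗[K] F) (i : ι) :
    equivFinsuppOfBasisLeft b ((DistribSMul.toLinearMap K F d).baseChange P x) i =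
      d • equivFinsuppOfBasisLeft b x i := by
  induction x with
  | zero => simp
  | tmul p m =>
    rw [LinearMap.baseChange_tmul, equivFinsuppOfBasisLeft_apply_tmul_apply, equivFinsuppOfBasisLeft_apply_tmul_apply]
    exact smul_comm _ _ _
  | add x y hx hy => simp [hx, hy, smul_add]


/-- Let K be a field of characteristic zero, D an associative K-algebra, E a left D-module that is
finitely presented over D, F a left D-module and P a commutative K-algebra. The canonical P-linear
map Φ : P ⊗_K Hom_D(E, F) → Hom_P(P ⊗_K E, P ⊗_K F), determined by p ⊗ f ↦ p · (1_P ⊗ f), is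
injective, and its image consists exactly of the P-linear maps that commute with the action of every
element of D; in other words Φ identifies P ⊗_K Hom_D(E, F) with the module of homomorphisms P ⊗_K E
→ P ⊗_K F over P ⊗_K D. The map Φ is pinned here by its values on pure tensors. -/
theorem result
    {K : Type u} [Field K] [CharZero K]
    {D : Type v} [Ring D] [Algebra K D]
    {E : Type w} [AddCommGroup E] [Module K E] [Module D E] [IsScalarTower K D E]
    [Module.FinitePresentation D E]
    {F : Type w'} [AddCommGroup F] [Module K F] [Module D F] [IsScalarTower K D F]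
    (P : Type u') [CommRing P] [Algebra K P]
    (Φ : P ⊗[K] (E →ₗ[D] F) →ₗ[P] (P ⊗[K] E →ₗ[P] P ⊗[K] F))
    (hΦ : ∀ (p : P) (f : E →ₗ[D] F), Φ (p ⊗ₜ[K] f) = p • (f.restrictScalars K).baseChange P) :
    Function.Injective Φ ∧
      ∀ g : P ⊗[K] E →ₗ[P] P ⊗[K] F,
        g ∈ LinearMap.range Φ ↔
          ∀ d : D, g ∘ₗ (DistribSMul.toLinearMap K E d).baseChange P =
            (DistribSMul.toLinearMap K F d).baseChange P ∘ₗ g := by
  classical
  let b := Module.Free.chooseBasis K P
  let eH := TensorProduct.equivFinsuppOfBasisLeft (N := E →ₗ[D] F) b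
  let eF := TensorProduct.equivFinsuppOfBasisLeft (N := F) b
  have key : ∀ (z : P ⊗[K] (E →ₗ[D] F)) (e : E) i, eF (Φ z ((1 : P) ⊗ₜ[K] e)) i = (eH z i) e := by
    intro z e i
    induction z with
    | zero => simp
    | tmul p f =>
      simp [eF, eH, hΦ, TensorProduct.smul_tmul', TensorProduct.equivFinsuppOfBasisLeft_apply_tmul_apply]
    | add x y hx hy => simp [hx, hy]
  constructor
  · rw [injective_iff_map_eq_zero]
    intro z hz
    refine eH.injective (Finsupp.ext fun i => LinearMap.ext fun e => ?_)
    rw [← key, hz]
    simp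
  intro g
  constructor
  · rintro ⟨z, rfl⟩ d
    induction z with
    | zero => simp
    | tmul p f =>
      refine TensorProduct.AlgebraTensorModule.ext fun q e => ?_
      simp [hΦ, TensorProduct.smul_tmul']
    | add x y hx hy => rw [map_add, LinearMap.add_comp, LinearMap.comp_add, hx, hy]
  · intro hg
    let f : _ → (E →ₗ[D] F) := fun i =>
      { toFun := fun e => eF (g ((1 : P) ⊗ₜ[K] e)) i
        map_add' := fun x y => by simp [TensorProduct.tmul_add]
        map_smul' := fun d e => by
          have h1 := LinearMap.congr_fun (hg d) ((1 : P) ⊗ₜ[K] e)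
          simp only [LinearMap.comp_apply, LinearMap.baseChange_tmul, DistribSMul.toLinearMap_apply] at h1
          rw [h1]
          exact eqv_bc b d _ i }
    obtain ⟨s, hs⟩ := (Module.Finite.fg_top : (⊤ : Submodule D E).FG)
    let S := s.biUnion fun e => (eF (g ((1 : P) ⊗ₜ[K] e))).support
    have hS : ∀ i, i ∉ S → f i = 0 := fun i hi => by
      refine LinearMap.ext_on hs fun e he => ?_
      show eF (g ((1 : P) ⊗ₜ[K] e)) i = 0
      by_contra hc
      exact hi (Finset.mem_biUnion.2 ⟨e, he, Finsupp.mem_support_iff.2 hc⟩)
    refine ⟨eH.symm (Finsupp.onFinset S f fun i hi => by_contra fun h => hi (hS i h)),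
      TensorProduct.AlgebraTensorModule.ext fun q e => ?_⟩
    rw [show q ⊗ₜ[K] e = q • ((1 : P) ⊗ₜ[K] e) by rw [TensorProduct.smul_tmul', smul_eq_mul, mul_one],
      map_smul, map_smul]
    congr 1
    refine eF.injective (Finsupp.ext fun i => ?_)
    rw [key, LinearEquiv.apply_symm_apply, Finsupp.onFinset_apply]
    rfl
end Groth.Agent.S18796
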