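import Groth.Statements.S1880
import Groth.Agent.GrpdLib.Scheme
import Mathlib.RingTheory.Norm.Basic
-- import your own Groth.Agent.* helpers here

set_option autoImplicit false
universe u
open CategoryTheory CategoryTheory.Limits AlgebraicGeometry
open Grpd

namespace Groth.Agent.S1880


/-- Let (U, R, s, t, c) be a groupoid scheme with U, R affine and s, t finite locally free. For f ∈
Γ(U), the norm along s♯ of t♯(f) is an R-invariant function. (Mathlib's norm is the determinant when
Γ(R) is free over Γ(U) via s♯ and 1 otherwise; the content is the free case, e.g. after localizing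
U.) (A groupoid scheme carries U, R, s, t, c, e, i over S with the groupoid axioms on T-points;
'finite locally free' is finite, flat and locally of finite presentation; C ⊂ Γ(U) is the ring of
functions a with s♯(a) = t♯(a) and M = Spec C.) -/
theorem result (S : Scheme.{u}) (G : Grpd.GroupoidScheme S) [IsAffine G.U] [IsAffine G.R] [IsFinite G.s] [Flat G.s] [LocallyOfFinitePresentation G.s] [IsFinite G.t] [Flat G.t] [LocallyOfFinitePresentation G.t] (f : Γ(G.U, ⊤)) : G.normST f ∈ G.invariants := by
  let _ := G.s.appTop.hom.toAlgebra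
  obtain ⟨_, _⟩ := GrpdLib.finite_projective G
  obtain ⟨E, hE⟩ := GrpdLib.exists_grd G
  have hinv : E.inv = G.invariants := by
    show RingHom.eqLocus G.s.appTop.hom E.t = _
    rw [hE]
    rfl
  show Algebra.norm Γ(G.U, ⊤) (G.t.appTop.hom f) ∈ G.invariants
  rw [← hinv, ← hE]
  cases subsingleton_or_nontrivial Γ(G.U, ⊤) with
  | inl h =>
    rw [Subsingleton.elim (Algebra.norm Γ(G.U, ⊤) (E.t f)) 1]
    exact E.inv.one_mem
  | inr h =>
    by_cases hb : ∃ s : Finset Γ(G.R, ⊤), Nonempty (Module.Basis s Γ(G.U, ⊤) Γ(G.R, ⊤))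
    · obtain ⟨s, ⟨b⟩⟩ := hb
      have : Module.Free Γ(G.U, ⊤) Γ(G.R, ⊤) := Module.Free.of_basis b
      let b' := Module.finBasis Γ(G.U, ⊤) Γ(G.R, ⊤)
      suffices h : Algebra.norm Γ(G.U, ⊤) (E.t f) = E.norm (GrpdLib.Frame.ofBasis b') f by
        rw [h]; exact E.norm_mem _ f
      rw [GrpdLib.Grd.norm, GrpdLib.Frame.rev, Matrix.charpolyRev, ← Polynomial.coe_evalRingHom,
        RingHom.map_det, Algebra.norm_eq_matrix_det b']
      congr 1
      ext i j
      simp [GrpdLib.Frame.mat, GrpdLib.Frame.ofBasis, GrpdLib.Grd.mulT, Matrix.one_apply,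
        Algebra.leftMulMatrix_eq_repr_mul, Finsupp.single_apply, sub_mul, eq_comm]
    · rw [Algebra.norm_eq_one_of_not_exists_basis _ hb]
      exact E.inv.one_mem

end Groth.Agent.S1880
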