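import Groth.Statements.S18802
import Mathlib
-- import your own Groth.Agent.* helpers here

set_option autoImplicit false
universe u v w w' w''
open DefMod

namespace Groth.Agent.S18802

/-- Let K be a field of characteristic zero, D an associative K-algebra and E, F left D-modules. A
K-linear map s : D → Hom_K(E, F) with s(ab)(e) = a s(b)(e) + s(a)(b e) (a derivation into the
bimodule Hom_K(E, F), i.e. a Hochschild 1-cocycle) defines the twisted sum F ⊕_s E = F × E with a ·
(f, e) = (a f + s(a) e, a e), an extension of E by F. Every extension of left D-modules 0 → F → Q →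
E → 0 arises this way: there are such an s and a D-linear isomorphism Q ≅ F ⊕_s E carrying the given
map F → Q to the inclusion f ↦ (f, 0) and compatible with the two projections onto E. (Together with
the splitting criterion this identifies derivations modulo principal derivations with Ext¹_D(E, F);
the compatibility of that identification with addition and scalars is not restated.) -/
theorem result
    {K : Type u} [Field K] [CharZero K]
    {D : Type v} [Ring D] [Algebra K D]
    {E : Type w} [AddCommGroup E] [Module K E] [Module D E] [IsScalarTower K D E]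
    {F : Type w'} [AddCommGroup F] [Module K F] [Module D F] [IsScalarTower K D F]
    {Q : Type w''} [AddCommGroup Q] [Module D Q]
    (i : F →ₗ[D] Q) (p : Q →ₗ[D] E) (hi : Function.Injective i) (hp : Function.Surjective p)
    (hex : Function.Exact i p) :
    ∃ (s : D →ₗ[K] E →ₗ[K] F) (hs : W4c6defoisocp1.IsHomDerivation s) (Φ : Q ≃ₗ[D] W4c6defoisocp1.TwistExt s hs),
      (∀ f : F, Φ (i f) = W4c6defoisocp1.TwistExt.inl f) ∧ ∀ q : Q, W4c6defoisocp1.TwistExt.snd (Φ q) = p q := by
  letI : Module K Q := Module.compHom Q (algebraMap K D)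
  haveI : IsScalarTower K D Q := IsScalarTower.of_compHom K D Q
  obtain ⟨σ, hσ⟩ := (p.restrictScalars K).exists_rightInverse_of_surjective (LinearMap.range_eq_top.2 hp)
  have hσ' : ∀ e, p (σ e) = e := fun e => LinearMap.congr_fun hσ e
  have hmem : ∀ q : Q, ∃ f, i f = q - σ (p q) := fun q => (hex _).1 (by rw [map_sub, hσ', sub_self])
  choose ρ hρ using hmem
  have hρadd : ∀ q q', ρ (q + q') = ρ q + ρ q' := fun q q' => hi (by
    rw [map_add, hρ, hρ, hρ, map_add, map_add]; abel)
  have hρK : ∀ (c : K) q, ρ (c • q) = c • ρ q := fun c q => hi (by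
    rw [LinearMap.map_smul_of_tower, hρ, hρ, p.map_smul_of_tower, σ.map_smul, smul_sub])
  let ρl : Q →ₗ[K] F := { toFun := ρ, map_add' := hρadd, map_smul' := hρK }
  let s : D →ₗ[K] E →ₗ[K] F := LinearMap.mk₂ K (fun a e => ρl (a • σ e))
    (fun a a' e => by rw [add_smul, map_add]) (fun c a e => by rw [smul_assoc, map_smul])
    (fun a e e' => by rw [map_add, smul_add, map_add])
    (fun c a e => by rw [σ.map_smul, smul_comm a c, ρl.map_smul])
  have hρD : ∀ (a : D) q, ρ (a • q) = a • ρ q + s a (p q) := fun a q => hi (by
    show i (ρ (a • q)) = i (a • ρ q + ρ (a • σ (p q)))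
    rw [map_add, i.map_smul, hρ, hρ, hρ, p.map_smul, p.map_smul, hσ', smul_sub]; abel)
  have hs : W4c6defoisocp1.IsHomDerivation s := fun a b e => by
    show ρ ((a * b) • σ e) = a • ρ (b • σ e) + s a (b • e)
    rw [mul_smul, hρD, map_smul, hσ']
  refine ⟨s, hs,
    { toFun := fun q => W4c6defoisocp1.TwistExt.mk (ρ q, p q)
      invFun := fun x => i (W4c6defoisocp1.TwistExt.val x).1 + σ (W4c6defoisocp1.TwistExt.val x).2
      map_add' := fun q q' => W4c6defoisocp1.TwistExt.ext (by simp [hρadd]) (by simp)
      map_smul' := fun a q => W4c6defoisocp1.TwistExt.ext (by simp [hρD]) (by simp)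
      left_inv := fun q => by simp [hρ]
      right_inv := fun x => ?_ }, fun f => ?_, fun q => rfl⟩
  · have h2 : p (i (W4c6defoisocp1.TwistExt.val x).1 + σ (W4c6defoisocp1.TwistExt.val x).2) =
        (W4c6defoisocp1.TwistExt.val x).2 := by
      rw [map_add, hσ', hex.apply_apply_eq_zero, zero_add]
    refine W4c6defoisocp1.TwistExt.ext ?_ h2
    show ρ _ = _
    refine hi ?_
    rw [hρ, h2, add_sub_cancel_right]
  · have h2 : p (i f) = 0 := hex.apply_apply_eq_zero f
    refine W4c6defoisocp1.TwistExt.ext (hi ?_) h2
    show i (ρ (i f)) = i f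
    rw [hρ, h2, map_zero, sub_zero]

end Groth.Agent.S18802
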