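import Groth.Statements.S18804
import Groth.Agent.RRVanLib.GG

set_option autoImplicit false
universe u
open CategoryTheory CategoryTheory.Limits AlgebraicGeometry
open Curves

namespace Groth.Agent.S18804

/-- Let k be an algebraically closed field of characteristic zero, X a smooth proper integral curve over
k (integral, proper and smooth over k, of dimension one) of genus g, and L an invertible O_X-module
of degree deg L = χ(L) − χ(O_X) at least 2g + 3. Then L is 3-very ample: every closed subscheme Z of
X of length 4 imposes independent conditions on H^0(X, L), stated as dim_k H^0(X, L ⊗ I) + 4 = dim_k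
H^0(X, L) for every quasi-coherent ideal I of O_X with dim_k H^0(X, O_X/I) = 4. -/
theorem result
    (k : Type u) [Field k] [IsAlgClosed k] [CharZero k]
    (X : Scheme.{u}) [X.Over (Spec (CommRingCat.of k))] [IsIntegral X]
    [IsProper (X ↘ Spec (CommRingCat.of k))] [Smooth (X ↘ Spec (CommRingCat.of k))]
    (hdim : topologicalKrullDim X = 1)
    (L : X.Modules) (hL : PicF.IsInvertible L)
    (hdeg : 2 * (Curv2.genus k X : ℤ) + 3 ≤ Curv2.deg k X L 1)
    (I : X.IdealSheafData) (hI : Module.finrank k (Coh.HH X (ClSub.quotMod I) 0) = 4) :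
    Module.finrank k (Coh.HH X (CohB1.tensorMod L (ClSub.idealMod I)) 0) + 4 =
      Module.finrank k (Coh.HH X L 0) := by
  haveI := CurvLib.isNoetherian k (X := X)
  have h0 := RRVanLib.finrank_h0_structure (k := k) (X := X)
  have hZ : topologicalKrullDim (I.support : Set X) ≤ 0 := by
    refine CurvLib.topologicalKrullDim_le_zero_of_lt hdim I.support.isClosed fun hu => ?_
    have hbot : I = ⊥ := by
      refine le_bot_iff.mp ?_
      refine (Scheme.IdealSheafData.le_support_iff_le_vanishingIdeal
        (Z := (⊤ : TopologicalSpace.Closeds X)) (I := I)).mp (fun x _ => hu.ge trivial) |>.trans ?_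
      rw [Scheme.IdealSheafData.vanishingIdeal_top, Scheme.nilradical_eq_bot]
    subst hbot
    haveI : IsIso (⊥ : X.IdealSheafData).subschemeι := inferInstance
    have hf : (⊥ : X.IdealSheafData).subschemeι ≫ (X ↘ Spec (CommRingCat.of k)) =
      (⊥ : X.IdealSheafData).subschemeι ≫ (X ↘ Spec (CommRingCat.of k)) := rfl
    letI : (⊥ : X.IdealSheafData).subscheme.Over (Spec (CommRingCat.of k)) :=
      ⟨(⊥ : X.IdealSheafData).subschemeι ≫ (X ↘ Spec (CommRingCat.of k))⟩
    haveI : Nonempty (⊥ : X.IdealSheafData).subscheme :=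
      ⟨((inv (⊥ : X.IdealSheafData).subschemeι) (genericPoint X))⟩
    haveI : IsIntegral (⊥ : X.IdealSheafData).subscheme :=
      isIntegral_of_isOpenImmersion (⊥ : X.IdealSheafData).subschemeι
    haveI : IsProper ((⊥ : X.IdealSheafData).subscheme ↘ Spec (CommRingCat.of k)) :=
      inferInstanceAs (IsProper ((⊥ : X.IdealSheafData).subschemeι ≫ (X ↘ Spec (CommRingCat.of k))))
    have h1 := (DegPullLib.finrank_H0_push k (⊥ : X.IdealSheafData).subschemeι rfl
      (Coh.structureModule (⊥ : X.IdealSheafData).subscheme)).symm.trans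
      (RRVanLib.finrank_h0_structure (k := k) (X := (⊥ : X.IdealSheafData).subscheme))
    exact absurd (h1.symm.trans hI) (by norm_num)
  obtain ⟨hF, he⟩ := RRVanLib.twist_data (k := k) hdim I hZ hL
  let sw : CohB1.tensorMod L (ClSub.idealMod I) ≅ CohB1.tensorMod (ClSub.idealMod I) L :=
    KFlatLib.tensSwap (ClSub.idealMod I) L
  haveI h1 : Subsingleton (Coh.HH X (CohB1.tensorMod (ClSub.idealMod I) L) 1) := by
    rcases subsingleton_or_nontrivial (Coh.HH X (CohB1.tensorMod (ClSub.idealMod I) L) 1) with h | h
    · exact h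
    have := RRVanLib.deg_le_of_nontrivial hdim h0 hL I hZ h
    omega
  haveI h2 := RRVanLib.subsingleton_h1 (k := k) hdim h0 hL (by omega)
  rw [CurvLib.euler_curve (k := k) hdim, CurvLib.euler_curve (k := k) hdim,
    Module.finrank_zero_of_subsingleton (R := k) (M := Coh.HH X (CohB1.tensorMod (ClSub.idealMod I) L) 1),
    Module.finrank_zero_of_subsingleton (R := k) (M := Coh.HH X L 1), hI] at he
  rw [(CurvLib.hIso (k := k) sw 0).finrank_eq]
  omega

end Groth.Agent.S18804
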