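import Groth.Statements.S18805
import Groth.Agent.CurveH0Lib.NineBridge
import Groth.Agent.CurveVBLib.Basic
import Groth.Agent.S16491
-- import your own Groth.Agent.* helpers here

set_option autoImplicit false
universe u
open CategoryTheory CategoryTheory.Limits AlgebraicGeometry
open Curves

namespace Groth.Agent.S18805

attribute [local instance] CurveDualLib.algFF

section
variable {k : Type u} [Field k] [IsAlgClosed k] {X : Scheme.{u}} [X.Over (Spec (CommRingCat.of k))] [IsIntegral X]
  [IsProper (X ↘ Spec (CommRingCat.of k))] [Smooth (X ↘ Spec (CommRingCat.of k))]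
  (hdim : topologicalKrullDim X = 1)

include hdim in
/-- The divisor of a closed subscheme with four-dimensional functions. -/
theorem exists_div_of_four (I : X.IdealSheafData) (h4 : Module.finrank k (Coh.HH X (ClSub.quotMod I) 0) = 4) :
    ∃ D : FunFld.Divisor k X.functionField, D.deg = -4 ∧ ZetaCurveLib.HasDiv (k := k) hdim (ClSub.idealMod I) D := by
  haveI := CurvLib.isNoetherian k (X := X)
  have h0 := RRVanLib.finrank_h0_structure (k := k) (X := X)
  have hO : PicF.IsInvertible (Coh.structureModule X) := CurvLib.isInvertible_structureModule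
  have hOl := CurvLib.locFree_of_isInvertible hO
  have hS := CurvLib.idealSeq_shortExact I
  have hIc : Coh.IsCoh (ClSub.idealMod I) :=
    QCohLib.isCoh_kernel _ (CurvLib.isCoh_of_isInvertible hO) (CurvLib.isCoh_quotMod I).1
  let ι : ClSub.idealMod I ⟶ Coh.structureModule X := ClSub.idealModι I
  haveI : Mono ι := inferInstanceAs (Mono (kernel.ι (ClSub.toSubscheme I)))
  let eQ : cokernel ι ≅ ClSub.quotMod I :=
    haveI := hS.epi_g
    (cokernelIsCokernel ι).coconePointUniqueUpToIso hS.exact.gIsCokernel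
  have hQ : Module.finrank k (Coh.HH X (cokernel ι) 0) = 4 := (CurvLib.hIso (k := k) eQ 0).finrank_eq.trans h4
  have hne : ι ≠ 0 := fun h => by
    haveI : IsIso (cokernel.π (0 : ClSub.idealMod I ⟶ Coh.structureModule X)) := inferInstance
    have e : Coh.structureModule X ≅ cokernel ι := asIso (cokernel.π (0 : ClSub.idealMod I ⟶ Coh.structureModule X)) ≪≫
      cokernelIsoOfEq h.symm
    have := (CurvLib.hIso (k := k) e 0).finrank_eq
    omega
  have hr : CurvLib.genRank (ClSub.idealMod I) = 1 := by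
    have h1 := CurveVBLib.genRank_mono ι hIc (CurvLib.isCoh_of_isInvertible hO)
    rw [CurveVBLib.genRank_eq hOl] at h1
    rcases Nat.eq_zero_or_pos (CurvLib.genRank (ClSub.idealMod I)) with hz | hp
    · have hl := CurveVBLib.locFree_of_mono k hdim.le hOl ι hIc
      rw [hz] at hl
      exact absurd ((CurveVBLib.isZero_of_genRank_zero hOl ι hl).eq_of_src ι 0) hne
    · omega
  have hI : PicF.IsInvertible (ClSub.idealMod I) := S16491.isInvertible_of_rank_one
    (hr ▸ CurveVBLib.locFree_of_mono k hdim.le hOl ι hIc)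
  have he := CurvLib.euler_sub_eq_h0 (k := k) hI hO hdim hne
  rw [hQ] at he
  obtain ⟨D, hD⟩ := ZetaCurveLib.exists_hasDiv (k := k) hdim hI
  refine ⟨D, ?_, hD⟩
  have hd := hD.deg hdim h0
  simp only [Curv2.deg] at hd
  omega

include hdim in
theorem iso_congr {M N : X.Modules} (hN : PicF.IsInvertible N) (e : CohB1.tensorMod N M ≅ Coh.structureModule X)
    {D : FunFld.Divisor k X.functionField} (hD : ZetaCurveLib.HasDiv (k := k) hdim N D) :
    ∃ E : FunFld.Divisor k X.functionField, ZetaCurveLib.HasDiv (k := k) hdim M E ∧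
      ∀ F : FunFld.Divisor k X.functionField, FunFld.ell (F + D + E) = FunFld.ell F ∧ FunFld.Divisor.deg E = -D.deg := by
  have h0 := RRVanLib.finrank_h0_structure (k := k) (X := X)
  obtain ⟨eN⟩ := MiscFlat6.nonempty_dualIso hN
  have hM : PicF.IsInvertible M :=
    HilbPolyLib.isInvertible_of_iso ((HilbPolyLib.congrRight (MiscFlat6.dual N) e).symm ≪≫
      (HilbPolyLib.assocIso _ N M).symm ≪≫ HilbPolyLib.congrLeft (HilbPolyLib.swapIso _ N ≪≫ eN) M ≪≫ HilbPolyLib.unitLeft M)
      (HilbPolyLib.isInvertible_tensor (MiscFlat6.dual_isInvertible hN) CurvLib.isInvertible_structureModule)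
  obtain ⟨E, hE⟩ := ZetaCurveLib.exists_hasDiv (k := k) hdim hM
  obtain ⟨O, hO⟩ := ZetaCurveLib.exists_hasDiv (k := k) hdim (CurvLib.isInvertible_structureModule (X := X))
  have hK := CurveDualLib.isFunctionField (k := k) (X := X) hdim
  obtain ⟨f, hf, hfe⟩ := ((hD.tensor hdim hE).of_iso hdim e CurvLib.isInvertible_structureModule).unique hdim h0 hO
  have hO1 : FunFld.ell O = 1 := by rw [← CurveH0Lib.LinStable.h0_eq_ell hdim hO]; exact h0
  have hO0 : O.deg = 0 := by
    rw [← hO.deg hdim h0]
    simp only [Curv2.deg]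
    omega
  obtain ⟨z, hz, hze⟩ := Groth.Agent.FFLib.exists_effective_of_ell_pos hK.1 (D := O) (by omega)
  have h00 := Groth.Agent.FFLib.eq_zero_of_deg_eq_zero hK hze (by
    rw [Groth.Agent.FFLib.deg_add, Groth.Agent.FFLib.deg_div hK.1, hO0]; rfl)
  refine ⟨E, hE, fun F => ?_⟩
  have hsum : D + E = FunFld.div k (z * f)⁻¹ := by
    rw [Groth.Agent.FFLib.div_inv hK.1, Groth.Agent.FFLib.div_mul hK.1 hz hf]
    rw [hfe] at h00
    linear_combination (norm := abel) h00
  refine ⟨by rw [add_assoc, hsum, Groth.Agent.FFLib.ell_add_div hK.1 F (inv_ne_zero (mul_ne_zero hz hf))], ?_⟩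
  have h := congrArg FunFld.Divisor.deg hsum
  rw [Groth.Agent.FFLib.deg_add, Groth.Agent.FFLib.deg_div hK.1] at h
  omega

end

/-- Let k be an algebraically closed field of characteristic zero and X a smooth proper integral curve
over k (integral, proper and smooth over k, of dimension one), with sheaf of differentials ω =
Ω_(X/k). Then ω is 3-very ample, meaning dim_k H^0(X, ω ⊗ I) + 4 = dim_k H^0(X, ω) for every
quasi-coherent ideal I of O_X with dim_k H^0(X, O_X/I) = 4, if and only if X carries no g^1_4,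
meaning that for every such I (the ideal of an effective divisor D of degree 4) every module M with
I ⊗ M ≅ O_X (so M plays the role of O_X(D)) has dim_k H^0(X, M) = 1. -/
theorem result
    (k : Type u) [Field k] [IsAlgClosed k] [CharZero k]
    (X : Scheme.{u}) [X.Over (Spec (CommRingCat.of k))] [IsIntegral X]
    [IsProper (X ↘ Spec (CommRingCat.of k))] [Smooth (X ↘ Spec (CommRingCat.of k))]
    (hdim : topologicalKrullDim X = 1) :
    (∀ (I : X.IdealSheafData), Module.finrank k (Coh.HH X (ClSub.quotMod I) 0) = 4 →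
      Module.finrank k (Coh.HH X (CohB1.tensorMod (Omega.sheaf (X ↘ Spec (CommRingCat.of k))) (ClSub.idealMod I)) 0) + 4 =
        Module.finrank k (Coh.HH X (Omega.sheaf (X ↘ Spec (CommRingCat.of k))) 0)) ↔
    (∀ (I : X.IdealSheafData), Module.finrank k (Coh.HH X (ClSub.quotMod I) 0) = 4 →
      ∀ (M : X.Modules), ClSub.IsInverseOf (ClSub.idealMod I) M →
        Module.finrank k (Coh.HH X M 0) = 1) := by
  have h0 := RRVanLib.finrank_h0_structure (k := k) (X := X)
  obtain ⟨C, hCd, hC⟩ := CurveH0Lib.LinStable.exists_canonical_hasDiv (k := k) hdim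
  have hK := CurveDualLib.isFunctionField (k := k) (X := X) hdim
  have hlC := (Groth.Agent.FFLib.canonical_ell_deg hK hC).1
  have key : ∀ I : X.IdealSheafData, Module.finrank k (Coh.HH X (ClSub.quotMod I) 0) = 4 →
      ∃ D : FunFld.Divisor k X.functionField, ZetaCurveLib.HasDiv (k := k) hdim (ClSub.idealMod I) D ∧
      ((Module.finrank k (Coh.HH X (CohB1.tensorMod (Omega.sheaf (X ↘ Spec (CommRingCat.of k))) (ClSub.idealMod I)) 0) + 4 =
        Module.finrank k (Coh.HH X (Omega.sheaf (X ↘ Spec (CommRingCat.of k))) 0)) ↔ FunFld.ell (-D) = 1) := by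
    intro I hI
    obtain ⟨D, hd, hD⟩ := exists_div_of_four hdim I hI
    refine ⟨D, hD, ?_⟩
    rw [CurveH0Lib.LinStable.h0_eq_ell hdim (hCd.tensor hdim hD), CurveH0Lib.LinStable.h0_eq_ell hdim hCd, hlC]
    have hr := Groth.Agent.FFLib.riemann_roch hK hC (-D)
    have hneg : FunFld.Divisor.deg (-D) = 4 := by
      have := Groth.Agent.FFLib.deg_add D (-D)
      rw [add_neg_cancel, Groth.Agent.FFLib.deg_zero, hd] at this
      omega
    rw [sub_neg_eq_add, hneg] at hr
    omega
  constructor
  · intro h I hI M hM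
    obtain ⟨D, hD, hiff⟩ := key I hI
    obtain ⟨e⟩ := hM
    obtain ⟨E, hE, hF⟩ := iso_congr hdim hD.1 e hD
    have := (hF (-D)).1
    rw [neg_add_cancel, zero_add] at this
    rw [CurveH0Lib.LinStable.h0_eq_ell hdim hE, this]
    exact hiff.1 (h I hI)
  · intro h I hI
    obtain ⟨D, hD, hiff⟩ := key I hI
    refine hiff.2 ?_
    obtain ⟨eI⟩ := MiscFlat6.nonempty_dualIso hD.1
    obtain ⟨E, hE, hF⟩ := iso_congr hdim hD.1 eI hD
    have := (hF (-D)).1
    rw [neg_add_cancel, zero_add] at this
    rw [← this, ← CurveH0Lib.LinStable.h0_eq_ell hdim hE]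
    exact h I hI _ ⟨eI⟩

end Groth.Agent.S18805
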