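import Groth.Statements.S18806
import Groth.Agent.ComodLib.LinRed
import Groth.Prelude.Def_ComodTens
-- import your own Groth.Agent.* helpers here

set_option autoImplicit false
universe u v v' w w' x
open TensorProduct
open HopfRep

namespace Groth.Agent.S18806

open scoped ComodLib

/-- Let k be a field, i : C → D an injective morphism of k-coalgebras and V a right D-comodule with
coaction ρ : V → V ⊗ D. If ρ(v) lies in the image of V ⊗ C → V ⊗ D (induced by i) for every v, then
V comes from a C-comodule: there is a C-comodule structure on V whose coaction, followed by V ⊗ C →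
V ⊗ D, is ρ. (The source states this for left comodules over the coordinate bialgebras of an affine
monoid scheme over k and of its group of units, assumed open and schematically dense, and uses that
assumption only through the injectivity of the restriction map of coordinate rings; the row is the
right-comodule mirror image for any injective coalgebra map. The converse direction is immediate.) -/
theorem result (k : Type u) [Field k]
    (C : Type v) [AddCommGroup C] [Module k C] [Coalgebra k C]
    (D : Type v') [AddCommGroup D] [Module k D] [Coalgebra k D]
    (i : C →ₗc[k] D) (hi : Function.Injective i)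
    (V : Type w) [AddCommGroup V] [Module k V] [HopfRep.Comod k D V]
    (h : ∀ v : V, HopfRep.Comod.coact (k := k) (A := D) v ∈ LinearMap.range ((i : C →ₗ[k] D).lTensor V)) :
    ∃ c : HopfRep.Comod k C V,
      (i : C →ₗ[k] D).lTensor V ∘ₗ c.coact = HopfRep.Comod.coact (k := k) (A := D) := by
  have hinj : Function.Injective ((i : C →ₗ[k] D).lTensor V) :=
    Module.Flat.lTensor_preserves_injective_linearMap _ hi
  let e := LinearEquiv.ofInjective _ hinj
  let c : V →ₗ[k] TensorProduct k V C :=
    e.symm.toLinearMap ∘ₗ (HopfRep.Comod.coact (k := k) (A := D)).codRestrict _ h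
  have hc : (i : C →ₗ[k] D).lTensor V ∘ₗ c = HopfRep.Comod.coact (k := k) (A := D) :=
    LinearMap.ext fun v => congrArg Subtype.val (e.apply_symm_apply ⟨_, h v⟩)
  refine ⟨⟨c, ?_, ?_⟩, hc⟩
  · refine LinearMap.ext fun v => ?_
    have h2 : Function.Injective ((TensorProduct.map (i : C →ₗ[k] D) (i : C →ₗ[k] D)).lTensor V) := by
      refine Module.Flat.lTensor_preserves_injective_linearMap _ ?_
      rw [← LinearMap.rTensor_comp_lTensor, LinearMap.coe_comp]
      exact (Module.Flat.rTensor_preserves_injective_linearMap _ hi).comp
        (Module.Flat.lTensor_preserves_injective_linearMap _ hi)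
    refine h2 ?_
    simp only [LinearMap.comp_apply, LinearEquiv.coe_coe]
    rw [← ComodTens.assoc_rTensor_lTensor_lTensor, ComodTens.lTensor_rTensor_comm,
      ← LinearMap.rTensor_comp_apply, hc, ← LinearMap.comp_apply _ c, hc,
      ComodLib.coassoc_apply, ← LinearMap.lTensor_comp_apply, CoalgHomClass.map_comp_comul,
      LinearMap.lTensor_comp_apply, ← LinearMap.comp_apply _ c, hc]
  · rw [show (CoalgebraStruct.counit (R := k) (A := C)) =
      CoalgebraStruct.counit (R := k) (A := D) ∘ₗ (i : C →ₗ[k] D) from
        (CoalgHomClass.counit_comp i).symm, LinearMap.lTensor_comp, LinearMap.comp_assoc, hc]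
    exact HopfRep.Comod.counit_comp

end Groth.Agent.S18806
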