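import Groth.Statements.S18808
import Groth.Agent.ComodLib.Semisimple
-- import your own Groth.Agent.* helpers here

set_option autoImplicit false
universe u v v' w w' x
open TensorProduct
open HopfRep

namespace Groth.Agent.S18808

open scoped ComodLib

/-- Let k be a field, i : C → D an injective morphism of k-coalgebras and V a right D-comodule with
coaction ρ. Call a D-subcomodule K of V admissible when the induced coaction of V/K, namely ρ
followed by the projection V ⊗ D → (V/K) ⊗ D, takes all its values in the image of (V/K) ⊗ C → (V/K)
⊗ D (so that V/K comes from a C-comodule). Then there is a least admissible D-subcomodule of V: V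
has a largest quotient D-comodule coming from C, through which every D-comodule map from V to a
comodule coming from C factors. (The source states this for left comodules over the coordinate
bialgebras of an affine monoid scheme and its open schematically dense group of units, as the
existence of a universal map from a representation of the unit group to a representation of the
monoid; it uses that assumption only through the injectivity of the restriction map.) -/
theorem result (k : Type u) [Field k]
    (C : Type v) [AddCommGroup C] [Module k C] [Coalgebra k C]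
    (D : Type v') [AddCommGroup D] [Module k D] [Coalgebra k D]
    (i : C →ₗc[k] D) (hi : Function.Injective i)
    (V : Type w) [AddCommGroup V] [Module k V] [HopfRep.Comod k D V] :
    ∃ K : Submodule k V, HopfRep.IsSubcomod (k := k) (A := D) K ∧
      (∀ v : V, K.mkQ.rTensor D (HopfRep.Comod.coact (k := k) (A := D) v) ∈
        LinearMap.range ((i : C →ₗ[k] D).lTensor (V ⧸ K))) ∧
      ∀ K' : Submodule k V, HopfRep.IsSubcomod (k := k) (A := D) K' →
        (∀ v : V, K'.mkQ.rTensor D (HopfRep.Comod.coact (k := k) (A := D) v) ∈
          LinearMap.range ((i : C →ₗ[k] D).lTensor (V ⧸ K'))) → K ≤ K' := by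
  classical
  let F : Set (D →ₗ[k] k) := {f | ∀ c : C, f (i c) = 0}
  let K : Submodule (ComodLib.Dual' k D) V := Submodule.span (ComodLib.Dual' k D)
    {y | ∃ f ∈ F, ∃ v : V, (WithConv.toConv f : ComodLib.Dual' k D) • v = y}
  have crit : ∀ L : Submodule k V,
      (∀ v : V, L.mkQ.rTensor D (HopfRep.Comod.coact (k := k) (A := D) v) ∈
        LinearMap.range ((i : C →ₗ[k] D).lTensor (V ⧸ L))) ↔
      ∀ f ∈ F, ∀ v : V, (WithConv.toConv f : ComodLib.Dual' k D) • v ∈ L := by
    intro L
    have hex : Function.Exact ((i : C →ₗ[k] D).lTensor (V ⧸ L))
        ((LinearMap.range (i : C →ₗ[k] D)).mkQ.lTensor (V ⧸ L)) :=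
      lTensor_exact _ (LinearMap.exact_map_mkQ_range _) (Submodule.mkQ_surjective _)
    constructor
    · intro h f hf v
      obtain ⟨y, hy⟩ := h v
      rw [← Submodule.Quotient.mk_eq_zero, ← Submodule.mkQ_apply, ComodLib.smul_eq,
        ← ComodLib.slice_rTensor, ← hy, ComodLib.slice_lTensor,
        show (WithConv.toConv f).ofConv ∘ₗ (i : C →ₗ[k] D) = 0 from LinearMap.ext hf,
        ComodLib.slice_zero]
    · intro h v
      refine (hex _).1 (ComodLib.ext_slice fun f => ?_)
      rw [map_zero, ComodLib.slice_lTensor, ComodLib.slice_rTensor, Submodule.mkQ_apply,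
        Submodule.Quotient.mk_eq_zero]
      refine h _ (fun c => ?_) v
      have hc : (Submodule.Quotient.mk (i c) : D ⧸ LinearMap.range (i : C →ₗ[k] D)) = 0 :=
        (Submodule.Quotient.mk_eq_zero _).2 (LinearMap.mem_range_self (i : C →ₗ[k] D) c)
      show f (Submodule.Quotient.mk (i c)) = 0
      rw [hc, map_zero]
  refine ⟨K.restrictScalars k, ComodLib.isSubcomod_restrictScalars K, ?_, fun L hL hadm => ?_⟩
  · exact (crit _).2 fun f hf v => Submodule.subset_span ⟨f, hf, v, rfl⟩
  · refine (Submodule.span_le.2 ?_ : K ≤ ComodLib.toSub L hL)
    rintro _ ⟨f, hf, v, rfl⟩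
    exact (crit L).1 hadm f hf v

end Groth.Agent.S18808
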