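import Groth.Statements.S18809
import Groth.Agent.ComodLib.LinRed
import Groth.Prelude.Def_ComodTens
-- import your own Groth.Agent.* helpers here

set_option autoImplicit false
universe u v v' w w' x
open TensorProduct
open HopfRep

namespace Groth.Agent.S18809

open scoped ComodLib

/-- Let k be a field and i : C → D an injective morphism of k-coalgebras. If every right D-comodule is
semisimple (every subcomodule has a complementary subcomodule), then every right C-comodule is
semisimple. (The source states this for the coordinate bialgebras of an affine monoid scheme over k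
and of its open schematically dense group of units, through the injectivity of the restriction map,
with semisimple meaning that every representation is a sum of irreducible subrepresentations;
D-comodules are quantified in the universe of the given C-comodule.) -/
theorem result (k : Type u) [Field k]
    (C : Type v) [AddCommGroup C] [Module k C] [Coalgebra k C]
    (D : Type v') [AddCommGroup D] [Module k D] [Coalgebra k D]
    (i : C →ₗc[k] D) (hi : Function.Injective i)
    (hD : ∀ (W : Type w) [AddCommGroup W] [Module k W] [HopfRep.Comod k D W], HopfRep.IsSemisimpleComod k D W)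
    (V : Type w) [AddCommGroup V] [Module k V] [HopfRep.Comod k C V] :
    HopfRep.IsSemisimpleComod k C V := by
  let cD : HopfRep.Comod k D V :=
    { coact := (i : C →ₗ[k] D).lTensor V ∘ₗ HopfRep.Comod.coact (k := k) (A := C)
      coassoc := by
        refine LinearMap.ext fun v => ?_
        simp only [LinearMap.comp_apply, LinearMap.rTensor_comp_apply, LinearEquiv.coe_coe]
        rw [← ComodTens.lTensor_rTensor_comm, ComodTens.assoc_rTensor_lTensor_lTensor,
          ComodLib.coassoc_apply, ← LinearMap.lTensor_comp_apply, ← LinearMap.lTensor_comp_apply,
          CoalgHomClass.map_comp_comul]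
      counit_comp := by
        refine LinearMap.ext fun v => ?_
        rw [LinearMap.comp_apply, LinearMap.comp_apply, ← LinearMap.lTensor_comp_apply,
          CoalgHomClass.counit_comp]
        exact LinearMap.congr_fun (HopfRep.Comod.counit_comp (k := k) (A := C) (V := V)) v }
  have hext : ∀ f : C →ₗ[k] k, ∃ f' : D →ₗ[k] k, f' ∘ₗ (i : C →ₗ[k] D) = f := by
    intro f
    obtain ⟨p, hp⟩ := LinearMap.exists_leftInverse_of_injective (i : C →ₗ[k] D)
      (LinearMap.ker_eq_bot.2 hi)
    exact ⟨f ∘ₗ p, by rw [LinearMap.comp_assoc, hp, LinearMap.comp_id]⟩
  have hiff : ∀ W : Submodule k V, HopfRep.IsSubcomod (k := k) (A := C) W ↔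
      @HopfRep.IsSubcomod k D _ _ _ _ V _ _ cD W := by
    intro W
    rw [ComodLib.isSubcomod_iff, @ComodLib.isSubcomod_iff k _ D _ _ _ V _ _ cD]
    constructor
    · intro h f v hv
      have := h (WithConv.toConv (f.ofConv ∘ₗ (i : C →ₗ[k] D))) v hv
      rw [ComodLib.smul_eq] at this
      show ComodLib.slice f.ofConv ((i : C →ₗ[k] D).lTensor V _) ∈ W
      rw [ComodLib.slice_lTensor]
      exact this
    · intro h f v hv
      obtain ⟨f', hf'⟩ := hext f.ofConv
      have := h (WithConv.toConv f') v hv
      rw [ComodLib.smul_eq, ← hf', ← ComodLib.slice_lTensor]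
      exact this
  intro W hW
  obtain ⟨W', hW', hc⟩ := @hD V _ _ cD W ((hiff W).1 hW)
  exact ⟨W', (hiff W').2 hW', hc⟩

end Groth.Agent.S18809
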