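import Groth.Statements.S18810
import Groth.Agent.ComodLib.Semisimple
-- import your own Groth.Agent.* helpers here

set_option autoImplicit false
universe u v v' w w' x
open TensorProduct
open HopfRep

namespace Groth.Agent.S18810

open scoped ComodLib

/-- Let k be a field, C a k-coalgebra, V a right C-comodule and (S_j) a family of simple C-comodules
which are pairwise non-isomorphic (for j ≠ j' no k-linear isomorphism S_j ≃ S_j' commutes with the
coactions). For each j let V[j] be the isotypic component of type S_j: the sum of the images of all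
comodule maps S_j → V (equivalently of all simple subcomodules of V isomorphic to S_j, a nonzero
such map being injective). Then the family j ↦ V[j] is independent, so that the socle of V is the
direct sum of its isotypic components. (The source states this for representations of an affine
monoid scheme over k, i.e. left comodules over its coordinate bialgebra; the row is the
right-comodule form over any coalgebra.) -/
theorem result (k : Type u) [Field k]
    (C : Type v) [AddCommGroup C] [Module k C] [Coalgebra k C]
    (V : Type w) [AddCommGroup V] [Module k V] [HopfRep.Comod k C V]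
    {ι : Type x} (S : ι → Type w') [∀ j, AddCommGroup (S j)] [∀ j, Module k (S j)]
    [∀ j, HopfRep.Comod k C (S j)] (hS : ∀ j, HopfRep.IsSimpleComod k C (S j))
    (hne : ∀ j j', j ≠ j' → ∀ e : S j ≃ₗ[k] S j', ¬ Hoch.IsComodHom C (e : S j →ₗ[k] S j')) :
    iSupIndep (fun j => ⨆ f : {f : S j →ₗ[k] V // Hoch.IsComodHom C f}, LinearMap.range f.1) := by
  have hsimple : ∀ j, IsSimpleModule (ComodLib.Dual' k C) (S j) := fun j =>
    ComodLib.isSimpleComod_iff.1 (hS j)
  let comp : ι → Submodule (ComodLib.Dual' k C) V := fun j =>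
    isotypicComponent (ComodLib.Dual' k C) V (S j)
  have hle : ∀ j, (⨆ f : {f : S j →ₗ[k] V // Hoch.IsComodHom C f}, LinearMap.range f.1) ≤
      (comp j).restrictScalars k := by
    intro j
    refine iSup_le fun f => ?_
    have := hsimple j
    rcases LinearMap.injective_or_eq_zero (ComodLib.toHom (A := C) f.1 f.2) with hinj | h0
    · have h : LinearMap.range (ComodLib.toHom (A := C) f.1 f.2) ≤ comp j :=
        le_sSup ⟨(LinearEquiv.ofInjective _ hinj).symm⟩
      rintro _ ⟨x, rfl⟩
      exact h ⟨x, rfl⟩
    · rintro _ ⟨x, rfl⟩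
      rw [show f.1 x = 0 from LinearMap.congr_fun h0 x]
      exact zero_mem _
  refine iSupIndep.mono ?_ hle
  rw [ComodLib.restrictScalars_iSupIndep, iSupIndep]
  intro j
  rw [disjoint_iff]
  by_contra hbot
  obtain ⟨N, hN, hNs⟩ := ComodLib.exists_simple_le C hbot
  have := hsimple j
  obtain ⟨e₁⟩ := isIsotypicOfType_submodule_iff.1
    (IsIsotypicOfType.isotypicComponent _ V (S := S j)) N (hN.trans inf_le_left)
  have hsup : N ≤ sSup {m : Submodule (ComodLib.Dual' k C) V | ∃ j', j' ≠ j ∧ Nonempty (m ≃ₗ[ComodLib.Dual' k C] S j')} := by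
    refine hN.trans (inf_le_right.trans (iSup₂_le fun j' hj' => sSup_le fun m hm => ?_))
    exact le_sSup ⟨j', hj', hm⟩
  have : ∀ m : {m : Submodule (ComodLib.Dual' k C) V |
      ∃ j', j' ≠ j ∧ Nonempty (m ≃ₗ[ComodLib.Dual' k C] S j')},
      IsSimpleModule (ComodLib.Dual' k C) m.1 := by
    rintro ⟨m, j', -, ⟨e⟩⟩
    have := hsimple j'
    exact IsSimpleModule.congr e
  obtain ⟨m, ⟨j', hj', ⟨e₂⟩⟩, ⟨e₃⟩⟩ := N.linearEquiv_of_le_sSup _ hsup
  exact hne j' j hj' (((e₂.symm.trans e₃.symm).trans e₁).restrictScalars k)
    (ComodLib.isComodHom_restrictScalars ((e₂.symm.trans e₃.symm).trans e₁).toLinearMap)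

end Groth.Agent.S18810
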