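import Groth.Statements.S18814
import Mathlib
import Groth.Agent.GLinFinLib.Trig
-- import your own Groth.Agent.* helpers here

set_option autoImplicit false
universe u v v' w w'
open TensorProduct
open HopfRep

open scoped TensorProduct
open scoped ComodLib
namespace Groth.Agent.S18814

/-- Let k be a field, C and D commutative bialgebras over k (coordinate rings of affine monoid schemes M
and N) and V a k-vector space carrying a right C-comodule structure with coaction ρ_C : V → V ⊗ C
and a right D-comodule structure with coaction ρ_D : V → V ⊗ D which commute: (ρ_C ⊗ id_D) ∘ ρ_D and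
(ρ_D ⊗ id_C) ∘ ρ_C agree in V ⊗ C ⊗ D after reassociating and swapping the last two factors (the
actions of M and N on V commute). Assume V is semisimple as a D-comodule. Then for every simple
D-comodule S the isotypic component of V of type S, the sum of the images of all D-comodule maps S →
V, is a C-subcomodule of V. (The source works with left comodules; this is the right-comodule form.) -/
theorem result (k : Type u) [Field k]
    (C : Type v) [CommRing C] [Bialgebra k C] (D : Type v') [CommRing D] [Bialgebra k D]
    (V : Type w) [AddCommGroup V] [Module k V] [HopfRep.Comod k C V] [HopfRep.Comod k D V]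
    (hcomm : (TensorProduct.assoc k V C D).toLinearMap ∘ₗ
        (HopfRep.Comod.coact (k := k) (A := C) (V := V)).rTensor D ∘ₗ HopfRep.Comod.coact (k := k) (A := D) =
      (TensorProduct.comm k D C).toLinearMap.lTensor V ∘ₗ (TensorProduct.assoc k V D C).toLinearMap ∘ₗ
        (HopfRep.Comod.coact (k := k) (A := D) (V := V)).rTensor C ∘ₗ HopfRep.Comod.coact (k := k) (A := C))
    (hV : HopfRep.IsSemisimpleComod k D V)
    (S : Type w') [AddCommGroup S] [Module k S] [HopfRep.Comod k D S] (hS : HopfRep.IsSimpleComod k D S) :
    HopfRep.IsSubcomod (k := k) (A := C)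
      (⨆ f : {f : S →ₗ[k] V // Hoch.IsComodHom D f}, LinearMap.range f.1) := by
  classical
  rw [ComodLib.isSubcomod_iff]
  intro φ v hv
  rw [ComodLib.smul_eq]
  set T : V →ₗ[k] V := ComodLib.slice φ.ofConv ∘ₗ HopfRep.Comod.coact (k := k) (A := C) with hTdef
  have hT : Hoch.IsComodHom D T := by
    refine LinearMap.ext fun x => ?_
    simp only [LinearMap.comp_apply, hTdef]
    let Λ : V ⊗[k] (C ⊗[k] D) →ₗ[k] V ⊗[k] D :=
      ((TensorProduct.lid k D).toLinearMap ∘ₗ φ.ofConv.rTensor D).lTensor V
    have h := congrArg Λ (LinearMap.congr_fun hcomm x)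
    simp only [LinearMap.comp_apply, LinearEquiv.coe_coe] at h
    have e1 : ∀ y : V ⊗[k] D, Λ (TensorProduct.assoc k V C D ((HopfRep.Comod.coact (k := k) (A := C) (V := V)).rTensor D y)) =
        (ComodLib.slice φ.ofConv ∘ₗ HopfRep.Comod.coact (k := k) (A := C)).rTensor D y := fun y => by
      induction y with
      | zero => simp
      | add a b ha hb => simp only [map_add, ha, hb]
      | tmul p q =>
        simp only [LinearMap.rTensor_tmul, LinearMap.comp_apply]
        generalize HopfRep.Comod.coact (k := k) (A := C) p = z
        induction z with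
        | zero => simp
        | add a b ha hb => simp only [TensorProduct.add_tmul, map_add, ha, hb]
        | tmul r s => simp [Λ, TensorProduct.smul_tmul]
    have e2 : ∀ y : V ⊗[k] C, Λ ((TensorProduct.comm k D C).toLinearMap.lTensor V
        (TensorProduct.assoc k V D C ((HopfRep.Comod.coact (k := k) (A := D) (V := V)).rTensor C y))) =
        HopfRep.Comod.coact (k := k) (A := D) (ComodLib.slice φ.ofConv y) := fun y => by
      induction y with
      | zero => simp
      | add a b ha hb => simp only [map_add, ha, hb]
      | tmul p q =>
        simp only [LinearMap.rTensor_tmul, ComodLib.slice_tmul, map_smul]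
        generalize HopfRep.Comod.coact (k := k) (A := D) p = z
        induction z with
        | zero => simp
        | add a b ha hb => simp only [TensorProduct.add_tmul, map_add, smul_add, ha, hb]
        | tmul r s => simp [Λ, TensorProduct.tmul_smul]
    rw [e1, e2] at h
    exact h.symm
  refine Submodule.iSup_induction _ (motive := fun x => T x ∈ ⨆ f : {f : S →ₗ[k] V // Hoch.IsComodHom D f}, LinearMap.range f.1)
    hv (fun f x hx => ?_) (by simp) (fun x y hx hy => by rw [map_add]; exact add_mem hx hy)
  obtain ⟨s, rfl⟩ := hx
  refine Submodule.mem_iSup_of_mem ⟨T ∘ₗ f.1, ?_⟩ ⟨s, rfl⟩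
  refine LinearMap.ext fun t => ?_
  have h1 := LinearMap.congr_fun f.2 t
  have h2 := LinearMap.congr_fun hT (f.1 t)
  simp only [LinearMap.comp_apply] at h1 h2 ⊢
  rw [h2, h1, ← LinearMap.rTensor_comp_apply]

end Groth.Agent.S18814
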