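import Groth.Statements.S18816
import Groth.Agent.WeilResLib.Maps


-- import your own Groth.Agent.* helpers here

set_option autoImplicit false
universe u
open CategoryTheory MonoidalCategory CartesianMonoidalCategory AlgebraicGeometry
open AlgGrp

namespace Groth.Agent.S18816

/-- Let k be a field, X a separated k-scheme, Y an arbitrary k-scheme and a : Y ×_k X → X an arbitrary
k-morphism. Consider the subfunctor X^a of X whose T-valued points, for a k-scheme T, are the
k-morphisms x : T → X with a ∘ (id_Y × x) = x ∘ pr_T as morphisms Y ×_k T → X. Then X^a is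
represented by a closed subscheme of X: there is a closed immersion j : Z → X over k lying in X^a(Z)
through which every element of X^a(T) factors. In particular, when Y = G is a k-group scheme and a
is an action of G on the separated k-scheme X, the functor X^G of G-fixed points is representable by
some closed subscheme of X. No finiteness condition is imposed on X, Y or G. -/
theorem result (k : Type u) [Field k]
    (X Y : Over (Spec (CommRingCat.of k))) [IsSeparated X.hom] (a : Y ⊗ X ⟶ X) :
    ∃ (Z : Over (Spec (CommRingCat.of k))) (j : Z ⟶ X), IsClosedImmersion j.left ∧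
      (Y ◁ j) ≫ a = CartesianMonoidalCategory.snd Y Z ≫ j ∧
      ∀ (T : Over (Spec (CommRingCat.of k))) (x : T ⟶ X),
        (Y ◁ x) ≫ a = CartesianMonoidalCategory.snd Y T ≫ x → ∃ z : T ⟶ Z, z ≫ j = x := by
  let a0 : X ⊗ Y ⟶ X := lift (snd X Y) (fst X Y) ≫ a
  obtain ⟨Z, z, hz, hZ, -⟩ := Groth.Agent.WeilRes.exists_eqLocus_essFree a0 (fst X Y)
    (Groth.Agent.WeilRes.isEssentiallyFree_of_field Y.hom)
  have key : ∀ (T : Over (Spec (CommRingCat.of k))) (x : T ⟶ X), (∃ w : T ⟶ Z, w ≫ z = x) ↔
      (Y ◁ x) ≫ a = snd Y T ≫ x := by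
    intro T x
    refine (hZ T x).trans ⟨fun h => ?_, fun h S'' s y => ?_⟩
    · have e := h (Y ⊗ T) (snd Y T) (fst Y T)
      simp only [a0, comp_lift_assoc, lift_fst, lift_snd] at e
      rwa [show Y ◁ x = lift (fst Y T) (snd Y T ≫ x) from
        CartesianMonoidalCategory.hom_ext _ _ (by simp) (by simp)]
    · have e := congrArg (lift y s ≫ ·) h
      simp only [lift_snd_assoc, ← Category.assoc] at e
      rw [lift_whiskerLeft] at e
      simp only [a0, comp_lift_assoc, lift_fst, lift_snd]
      exact e.trans (by rw [lift_snd])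
  exact ⟨Z, z, hz, (key Z z).1 ⟨𝟙 Z, Category.id_comp z⟩, fun T x h => (key T x).2 h⟩

end Groth.Agent.S18816
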