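import Groth.Statements.S18818
import Groth.Agent.ComodLib.LinRed
-- import your own Groth.Agent.* helpers here

set_option autoImplicit false
universe u v w
open TensorProduct
open HopfRep

namespace Groth.Agent.S18818

open scoped ComodLib

/-- Let k be a field, C a k-coalgebra and V a right C-comodule which is semisimple in the sense that
every subcomodule has a complementary subcomodule (equivalently every injective comodule map into V
splits). Then V is completely reducible: V is the sum of its simple subcomodules, the nonzero
subcomodules W whose only subcomodules are 0 and W. (The source states this for representations of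
an affine monoid scheme over k, i.e. left comodules over its coordinate bialgebra; the converse
implication and the stability of the class under subobjects and quotients are not part of this row.) -/
theorem result (k : Type u) [Field k]
    (C : Type v) [AddCommGroup C] [Module k C] [Coalgebra k C]
    (V : Type w) [AddCommGroup V] [Module k V] [HopfRep.Comod k C V] (hV : HopfRep.IsSemisimpleComod k C V) :
    (⨆ W : {W : Submodule k V // HopfRep.IsSubcomod (k := k) (A := C) W ∧ W ≠ ⊥ ∧
        ∀ W' : Submodule k V, HopfRep.IsSubcomod (k := k) (A := C) W' → W' ≤ W → W' = ⊥ ∨ W' = W},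
      (W.1 : Submodule k V)) = ⊤ := by
  have hs := ComodLib.isSemisimpleComod_iff.1 hV
  refine eq_top_iff.2 ?_
  have h := IsSemisimpleModule.sSup_simples_eq_top (ComodLib.Dual' k C) V
  rw [sSup_eq_iSup'] at h
  have h' := congrArg (Submodule.restrictScalars k) h
  rw [Submodule.restrictScalars_top, Submodule.restrictScalars_iSup] at h'
  rw [← h']
  refine iSup_le fun ⟨m, hm⟩ => ?_
  have h2 := (ComodLib.isSimple_sub_iff m).1 hm
  exact le_iSup (fun W : {W : Submodule k V // HopfRep.IsSubcomod (k := k) (A := C) W ∧ W ≠ ⊥ ∧
    ∀ W' : Submodule k V, HopfRep.IsSubcomod (k := k) (A := C) W' → W' ≤ W → W' = ⊥ ∨ W' = W} =>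
      W.1) ⟨m.restrictScalars k, ComodLib.isSubcomod_restrictScalars m, h2⟩

end Groth.Agent.S18818
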