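import Groth.Statements.S18819
import Groth.Agent.ComodLib.LinRed
-- import your own Groth.Agent.* helpers here

set_option autoImplicit false
universe u v w w'
open TensorProduct
open HopfRep

namespace Groth.Agent.S18819

open scoped ComodLib

/-- Let k be a field, C a k-coalgebra and V a right C-comodule which is the sum of finitely many simple
subcomodules, given as the images of comodule maps g_i : K_i → V (i < n) from simple comodules K_i.
If S is a simple comodule and f : S → V a nonzero comodule map (so that its image is a simple
subcomodule of V), then S is isomorphic as a comodule to some K_i: there is a k-linear isomorphism S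
≃ K_i commuting with the coactions. (The source states this for representations of an affine monoid
scheme over k with the subrepresentations given as subspaces; here the simple subcomodules are
presented as images of maps from simple comodules.) -/
theorem result (k : Type u) [Field k]
    (C : Type v) [AddCommGroup C] [Module k C] [Coalgebra k C]
    (V : Type w) [AddCommGroup V] [Module k V] [HopfRep.Comod k C V]
    {n : ℕ} (K : Fin n → Type w') [∀ i, AddCommGroup (K i)] [∀ i, Module k (K i)] [∀ i, HopfRep.Comod k C (K i)]
    (hK : ∀ i, HopfRep.IsSimpleComod k C (K i)) (g : ∀ i, K i →ₗ[k] V) (hg : ∀ i, Hoch.IsComodHom C (g i))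
    (hsum : (⨆ i, LinearMap.range (g i)) = ⊤)
    (S : Type w') [AddCommGroup S] [Module k S] [HopfRep.Comod k C S] (hS : HopfRep.IsSimpleComod k C S)
    (f : S →ₗ[k] V) (hf : Hoch.IsComodHom C f) (hf0 : f ≠ 0) :
    ∃ (i : Fin n) (e : S ≃ₗ[k] K i), Hoch.IsComodHom C (e : S →ₗ[k] K i) := by
  have := ComodLib.isSimpleComod_iff.1 hS
  have hKs : ∀ i, IsSimpleModule (ComodLib.Dual' k C) (K i) := fun i => ComodLib.isSimpleComod_iff.1 (hK i)
  let F := ComodLib.toHom (A := C) f hf
  have hinj : Function.Injective F := by
    rcases LinearMap.injective_or_eq_zero F with h | h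
    · exact h
    · exact (hf0 (LinearMap.ext fun x => LinearMap.congr_fun h x)).elim
  -- V is semisimple, so the inclusion of S has a retraction
  let G : ∀ i, K i →ₗ[ComodLib.Dual' k C] V := fun i => ComodLib.toHom (A := C) (g i) (hg i)
  have htop : (⨆ i, LinearMap.range (G i)) = ⊤ := ComodLib.restrictScalars_iSup_eq_top.1 hsum
  have hss : IsSemisimpleModule (ComodLib.Dual' k C) V :=
    isSemisimpleModule_of_isSemisimpleModule_submodule' (fun i => IsSemisimpleModule.range (G i)) htop
  obtain ⟨r, hr⟩ := IsSemisimpleModule.extension_property F hinj LinearMap.id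
  obtain ⟨i, hi⟩ : ∃ i, r ∘ₗ G i ≠ 0 := by
    by_contra h
    simp only [not_exists, not_not] at h
    have hr0 : r = 0 := by
      rw [← LinearMap.ker_eq_top, eq_top_iff, ← htop, iSup_le_iff]
      rintro i _ ⟨x, rfl⟩
      exact LinearMap.congr_fun (h i) x
    have := hS.1
    obtain ⟨s, hs⟩ := exists_ne (0 : S)
    apply hs
    have h1 := LinearMap.congr_fun hr s
    rw [hr0] at h1
    exact h1.symm
  have := hKs i
  let e := LinearEquiv.ofBijective _ ((LinearMap.bijective_or_eq_zero (r ∘ₗ G i)).resolve_right hi)
  exact ⟨i, e.symm.restrictScalars k, ComodLib.isComodHom_restrictScalars e.symm.toLinearMap⟩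

end Groth.Agent.S18819
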