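import Groth.Statements.S18821
import Mathlib


-- import your own Groth.Agent.* helpers here

set_option autoImplicit false
universe u
open CategoryTheory MonoidalCategory CartesianMonoidalCategory MonObj AlgebraicGeometry
open AlgGrp

namespace Groth.Agent.S18821

/-- Let k be a commutative ring and M a monoid k-scheme (a monoid object in k-schemes). Then the group
k-functor of units T ↦ M(T)^× is representable by a k-scheme: there are a k-scheme G and a
monomorphism i : G → M such that, for every k-scheme T, a T-valued point of M factors through i if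
and only if it is invertible in the monoid M(T). If moreover M is affine then G is affine. -/
theorem result (k : Type u) [CommRing k]
    (M : Over (Spec (CommRingCat.of k))) [MonObj M] :
    ∃ (G : Over (Spec (CommRingCat.of k))) (i : G ⟶ M), Mono i ∧
      (∀ (T : Over (Spec (CommRingCat.of k))) (m : T ⟶ M), (∃ g : T ⟶ G, g ≫ i = m) ↔ IsUnit m) ∧
      (IsAffine M.left → IsAffine G.left) := by
  let c : M ⊗ M ⟶ M ⊗ M := lift (fst M M * snd M M) (snd M M * fst M M)
  let o : 𝟙_ (Over (Spec (CommRingCat.of k))) ⟶ M ⊗ M := lift η[M] η[M]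
  let i : Limits.pullback c o ⟶ M := Limits.pullback.fst c o ≫ fst M M
  have key : ∀ {T : Over (Spec (CommRingCat.of k))} (a b : T ⟶ M), lift a b ≫ c = toUnit T ≫ o ↔ a * b = 1 ∧ b * a = 1 := by
    intro T a b
    simp only [c, o, comp_lift, MonObj.comp_mul, lift_fst, lift_snd]
    refine ⟨fun h => ⟨?_, ?_⟩, fun h => by rw [h.1, h.2, Hom.one_def]⟩
    · simpa [Hom.one_def] using congrArg (· ≫ fst M M) h
    · simpa [Hom.one_def] using congrArg (· ≫ snd M M) h
  have hp : ∀ {T : Over (Spec (CommRingCat.of k))} (z : T ⟶ Limits.pullback c o),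
      (z ≫ i) * (z ≫ Limits.pullback.fst c o ≫ snd M M) = 1 ∧ (z ≫ Limits.pullback.fst c o ≫ snd M M) * (z ≫ i) = 1 := by
    intro T z
    refine (key _ _).1 ?_
    rw [show lift (z ≫ i) (z ≫ Limits.pullback.fst c o ≫ snd M M) = z ≫ Limits.pullback.fst c o from
      CartesianMonoidalCategory.hom_ext _ _ (by simp [i]) (by simp), Category.assoc, Limits.pullback.condition,
      ← Category.assoc, toUnit_unique (z ≫ Limits.pullback.snd c o) (toUnit T)]
  refine ⟨Limits.pullback c o, i, ⟨fun {T} z z' h => ?_⟩, fun T m => ⟨?_, fun hm => ?_⟩, fun hM => ?_⟩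
  · refine Limits.pullback.hom_ext (CartesianMonoidalCategory.hom_ext _ _ (by simpa [i] using h) ?_) (toUnit_unique _ _)
    have h1 := (hp z).2
    have h2 := (hp z').1
    rw [h] at h1
    simpa using left_inv_eq_right_inv h1 h2
  · rintro ⟨g, rfl⟩
    exact ⟨⟨_, _, (hp g).1, (hp g).2⟩, rfl⟩
  · obtain ⟨u, rfl⟩ := hm
    refine ⟨Limits.pullback.lift (lift (u : T ⟶ M) (↑u⁻¹ : T ⟶ M)) (toUnit T) ((key _ _).2 ⟨u.mul_inv, u.inv_mul⟩), ?_⟩
    show Limits.pullback.lift _ _ _ ≫ Limits.pullback.fst c o ≫ fst M M = _
    rw [Limits.pullback.lift_fst_assoc, lift_fst]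
  · haveI := hM
    haveI : IsAffine (M ⊗ M).left := inferInstanceAs (IsAffine (Limits.pullback M.hom M.hom))
    haveI : IsAffine (𝟙_ (Over (Spec (CommRingCat.of k)))).left := inferInstanceAs (IsAffine (Spec (CommRingCat.of k)))
    haveI : IsAffineHom o.left := inferInstance
    haveI : IsAffine (Limits.pullback c.left o.left) := isAffine_of_isAffineHom (Limits.pullback.fst c.left o.left)
    haveI : IsAffine (Limits.pullback ((Over.forget _).map c) ((Over.forget _).map o)) := this
    exact IsAffine.of_isIso ((Limits.PreservesPullback.iso (Over.forget _) c o).hom)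

end Groth.Agent.S18821
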