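import Groth.Statements.S18822
import Mathlib.CategoryTheory.Sites.SubcanonicalOver
import Mathlib.AlgebraicGeometry.Sites.BigZariski

set_option autoImplicit false
universe u
open CategoryTheory MonoidalCategory CartesianMonoidalCategory MonObj AlgebraicGeometry Opposite
open Magnet

namespace Groth.Agent.S18822

/-- Let k be a commutative ring, M a monoid k-scheme and X a k-scheme with an action a of M. Then the
fixed-point subpresheaf X^M of X, whose T-valued points are the k-morphisms x : T → X such that g ·
(x ∘ t) = x ∘ t for every k-scheme T', every t : T' → T and every T'-valued point g of M, is a sheaf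
for the Zariski topology on k-schemes (the topology induced on schemes over Spec k). -/
theorem result (k : Type u) [CommRing k]
    (M X : Over (Spec (CommRingCat.of k))) [MonObj M] (a : Magnet.MonAct M X) :
    Presheaf.IsSheaf (Scheme.zariskiTopology.over (Spec (CommRingCat.of k))) (Magnet.MonAct.fixedPsh a) := by
  rw [isSheaf_iff_isSheaf_of_type]
  intro T R hR x hx
  let J := Scheme.zariskiTopology.over (Spec (CommRingCat.of k))
  have hY : Presieve.IsSheaf J (yoneda.obj X) := GrothendieckTopology.Subcanonical.isSheaf_of_isRepresentable _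
  let x' : Presieve.FamilyOfElements (yoneda.obj X) R.arrows := fun Y g hg => (x g hg).1
  have hx' : x'.Compatible := fun Y₁ Y₂ Z g₁ g₂ f₁ f₂ h₁ h₂ e => congrArg Subtype.val (hx g₁ g₂ h₁ h₂ e)
  obtain ⟨w, hw, huniq⟩ := hY R hR x' hx'
  have hfix : ∀ (T' : Over (Spec (CommRingCat.of k))) (t : T' ⟶ T) (g : T' ⟶ M),
      lift g (t ≫ w) ≫ a.act = t ≫ w := by
    intro T' t g
    refine (hY _ (J.pullback_stable t hR)).isSeparatedFor.ext fun Y s hs => ?_
    have hxs : (s ≫ t) ≫ w = (x (s ≫ t) hs).1 := hw (s ≫ t) hs
    have h := (x (s ≫ t) hs).2 Y (𝟙 _) (s ≫ g)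
    rw [Category.id_comp, ← hxs] at h
    change s ≫ lift g (t ≫ w) ≫ a.act = s ≫ t ≫ w
    rw [← Category.assoc, comp_lift]
    simpa only [Category.assoc] using h
  exact ⟨⟨w, hfix⟩, fun Y g hg => Subtype.ext (hw g hg),
    fun y hy => Subtype.ext (huniq y.1 fun Y g hg => congrArg Subtype.val (hy g hg))⟩


end Groth.Agent.S18822
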