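import Groth.Statements.S18823
import Mathlib
import Groth.Agent.WeilResLib.Maps
-- import your own Groth.Agent.* helpers here

set_option autoImplicit false
set_option backward.isDefEq.respectTransparency false
universe u
open CategoryTheory MonoidalCategory CartesianMonoidalCategory AlgebraicGeometry
open AlgGrp

namespace Groth.Agent.S18823

/-- Let k be a field, X a separated k-scheme, M a k-scheme (in the source a monoid k-scheme) acting on X
through a : M ×_k X → X, and i : G → M a morphism of k-schemes which is a scheme-theoretically
dominant open immersion: no nonzero quasi-coherent ideal of O_M restricts to zero on G (for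
quasi-compact i this is the usual schematic density, O_M → i_*O_G injective; in the source G is the
group of units of M, open and schematically dense). For a k-scheme T and a T-valued point x of X, x
is fixed under M, i.e. a ∘ (id_M × x) = x ∘ pr_T on M ×_k T, if and only if x is fixed under G, i.e.
a ∘ (i × x) = x ∘ pr_T on G ×_k T. Thus the fixed-point subpresheaves X^M and X^G of X are equal.
(The published statement has no separatedness assumption on X and reduces to points landing in an
affine open; the step asserting that the equalizer of the two maps M ×_k T → X is closed uses that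
the target is separated, so X is taken separated here, the case the printed argument establishes.
The monoid structure and the action axioms play no role in that argument and are not assumed.) -/
theorem result (k : Type u) [Field k]
    (M G X : Over (Spec (CommRingCat.of k))) [IsSeparated X.hom] (a : M ⊗ X ⟶ X) (i : G ⟶ M)
    [IsOpenImmersion i.left] [IsSchemeTheoreticallyDominant i.left]
    (T : Over (Spec (CommRingCat.of k))) (x : T ⟶ X) :
    (M ◁ x) ≫ a = CartesianMonoidalCategory.snd M T ≫ x ↔
      (G ◁ x) ≫ (i ▷ X) ≫ a = CartesianMonoidalCategory.snd G T ≫ x := by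
  constructor
  · intro h
    have e : (G ◁ x) ≫ (i ▷ X) = (i ▷ T) ≫ (M ◁ x) :=
      CartesianMonoidalCategory.hom_ext _ _ (by simp) (by simp)
    rw [← Category.assoc, e, Category.assoc, h, ← Category.assoc, whiskerRight_snd]
  · intro h
    obtain ⟨C, t, ht, hiff, -⟩ := Groth.Agent.WeilRes.exists_eqLocus_essFree (G := X) (P := M) (X := T)
      ((M ◁ x) ≫ a) (snd M T ≫ x) (Groth.Agent.WeilRes.isEssentiallyFree_of_field T.hom)
    haveI := ht
    have hfix : ∀ (S'' : Over (Spec (CommRingCat.of k))) (g : S'' ⟶ G) (y : S'' ⟶ T),
        lift (g ≫ i) y ≫ (M ◁ x) ≫ a = lift (g ≫ i) y ≫ snd M T ≫ x := fun S'' g y => by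
      have e := congrArg (lift g y ≫ ·) h
      simp only [lift_whiskerLeft_assoc, lift_whiskerRight_assoc, lift_snd_assoc] at e ⊢
      exact e
    obtain ⟨z, hz⟩ := (hiff G i).2 fun S'' s y => hfix S'' s y
    haveI : IsIso t.left := by
      refine IsClosedImmersion.isIso_iff_ker_eq_bot.mpr (le_bot_iff.mp ?_)
      rw [← i.left.ker_eq_bot, ← hz, Over.comp_left]
      exact z.left.le_ker_comp t.left
    haveI : IsIso ((Over.forget _).map t) := ‹IsIso t.left›
    haveI : IsIso t := isIso_of_reflects_iso t (Over.forget _)
    have e := (hiff M (𝟙 M)).1 ⟨inv t, IsIso.inv_hom_id t⟩ (M ⊗ T) (fst M T) (snd M T)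
    simpa only [Category.comp_id, lift_fst_snd, Category.id_comp] using e

end Groth.Agent.S18823
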