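import Groth.Statements.S18825
import Groth.Agent.GrpHomLib.Image


-- import your own Groth.Agent.* helpers here

set_option autoImplicit false
universe u
open CategoryTheory MonoidalCategory CartesianMonoidalCategory MonObj AlgebraicGeometry
open AlgGrp

namespace Groth.Agent.S18825

/-- Let k be a field and f : H → G a homomorphism of locally algebraic groups over k (group k-schemes
locally of finite type) which is of finite type (equivalently quasi-compact). Let H → K → G be the
factorization of f through its scheme-theoretic image: i : K → G a closed immersion and g : H → K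
with g followed by i equal to f and O_K → g_*O_H injective. Then (1) K is a closed subgroup scheme
of G: the unit section of G factors through i and, for every k-scheme T and T-valued points k₁, k₂
of K, the T-valued point (i k₁)⁻¹ · (i k₂) of G factors through i; and (2) g : H → K is surjective.
(The source also records that g is a homomorphism for the group structure induced on K; this row
does not state it.) -/
theorem result (k : Type u) [Field k]
    (H G K : Over (Spec (CommRingCat.of k))) [GrpObj H] [GrpObj G]
    [LocallyOfFiniteType H.hom] [LocallyOfFiniteType G.hom]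
    (f : H ⟶ G) [IsMonHom f] [QuasiCompact f.left]
    (i : K ⟶ G) [IsClosedImmersion i.left] (g : H ⟶ K) (hgi : g ≫ i = f)
    [IsSchemeTheoreticallyDominant g.left] :
    ((∃ e : 𝟙_ (Over (Spec (CommRingCat.of k))) ⟶ K, e ≫ i = η[G]) ∧
      ∀ (T : Over (Spec (CommRingCat.of k))) (k₁ k₂ : T ⟶ K),
        ∃ k₃ : T ⟶ K, k₃ ≫ i = (k₁ ≫ i)⁻¹ * (k₂ ≫ i)) ∧
    Surjective g.left := by
  obtain ⟨C, _, j, p, hj, hp, hpj, hjc, hpd, hpq, hps⟩ := Groth.Agent.GrpHom.exists_image f
  haveI := hjc
  haveI := hpd
  haveI := hj
  obtain ⟨a, ha⟩ := Groth.Agent.GrpHom.exists_factor i p j g (by rw [hpj, hgi])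
  obtain ⟨b, hb⟩ := Groth.Agent.GrpHom.exists_factor j g i p (by rw [hpj, hgi])
  haveI : Mono i := Over.mono_of_mono_left i
  haveI : Mono j := Over.mono_of_mono_left j
  have hba : b ≫ a = 𝟙 K := by rw [← cancel_mono i, Category.assoc, ha, hb, Category.id_comp]
  have hab : a ≫ b = 𝟙 C := by rw [← cancel_mono j, Category.assoc, hb, ha, Category.id_comp]
  refine ⟨⟨⟨η[C] ≫ a, by rw [Category.assoc, ha, IsMonHom.one_hom]⟩, fun T k₁ k₂ =>
    ⟨((k₁ ≫ b)⁻¹ * (k₂ ≫ b)) ≫ a, ?_⟩⟩, ?_⟩
  · rw [Category.assoc, ha, MonObj.mul_comp, GrpObj.inv_comp, Category.assoc, Category.assoc, hb]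
  · haveI : IsIso a := ⟨b, hab, hba⟩
    haveI : IsIso a.left := inferInstanceAs (IsIso ((Over.forget _).map a))
    have hg : g.left = p.left ≫ a.left := by
      rw [← Over.comp_left]
      congr 1
      rw [← cancel_mono i, Category.assoc, ha, hpj, hgi]
    rw [hg]
    haveI := hps
    infer_instance

end Groth.Agent.S18825
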