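import Groth.Statements.S18826
import Groth.Agent.UOpenLib.Criterion

set_option autoImplicit false
universe u
open CategoryTheory MonoidalCategory CartesianMonoidalCategory MonObj AlgebraicGeometry
open AlgGrp

namespace Groth.Agent.S18826
open Limits

theorem act_one {S : Scheme.{u}} {G X : Over S} [GrpObj G] (a : AlgGrp.Action G X) {T : Over S} (x : T ⟶ X) :
    lift (1 : T ⟶ G) x ≫ a.act = x := by
  have h := lift (toUnit T) x ≫= a.one_act
  rw [← Category.assoc, lift_whiskerRight] at h
  rw [Hom.one_def, h]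
  simp

theorem act_mul {S : Scheme.{u}} {G X : Over S} [GrpObj G] (a : AlgGrp.Action G X) {T : Over S} (g h : T ⟶ G)
    (x : T ⟶ X) : lift (g * h) x ≫ a.act = lift g (lift h x ≫ a.act) ≫ a.act := by
  have h' := lift (lift g h) x ≫= a.mul_act
  rw [← Category.assoc, lift_whiskerRight, ← Category.assoc, lift_lift_associator_hom, ← Category.assoc,
    lift_whiskerLeft] at h'
  rw [Hom.mul_def, h']

/-- The shear isomorphism `(g, x) ↦ (g, g · x)`. -/
noncomputable def shear {S : Scheme.{u}} {G X : Over S} [GrpObj G] (a : AlgGrp.Action G X) : G ⊗ X ≅ G ⊗ X where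
  hom := lift (fst G X) a.act
  inv := lift (fst G X) (lift (fst G X)⁻¹ (snd G X) ≫ a.act)
  hom_inv_id := by
    refine CartesianMonoidalCategory.hom_ext _ _ ?_ ?_
    · simp
    · rw [Category.assoc, lift_snd, ← Category.assoc, comp_lift, Category.id_comp]
      rw [GrpObj.comp_inv, lift_fst, lift_snd]
      have h := act_mul a (fst G X)⁻¹ (fst G X) (snd G X)
      rw [inv_mul_cancel, act_one, lift_fst_snd, Category.id_comp] at h
      exact h.symm
  inv_hom_id := by
    refine CartesianMonoidalCategory.hom_ext _ _ ?_ ?_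
    · simp
    · rw [Category.assoc, lift_snd, Category.id_comp, ← act_mul, mul_inv_cancel, act_one]

theorem shear_snd {S : Scheme.{u}} {G X : Over S} [GrpObj G] (a : AlgGrp.Action G X) :
    (shear a).hom ≫ snd G X = a.act := lift_snd _ _

/-- Base change of a morphism along a projection. -/
theorem isPullback_snd {S : Scheme.{u}} (T : Over S) {Y Z : Over S} (g : Y ⟶ Z) :
    IsPullback (snd T Y).left (T ◁ g).left g.left (snd T Z).left := by
  refine IsPullback.flip ?_
  show IsPullback (T ◁ g).left (pullback.snd T.hom Y.hom) (pullback.snd T.hom Z.hom) g.left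
  refine IsPullback.of_right ?_ ?_ (IsPullback.of_hasPullback T.hom Z.hom)
  · rw [Over.w g, Over.whiskerLeft_left_fst]
    exact IsPullback.of_hasPullback T.hom Y.hom
  · exact Over.whiskerLeft_left_snd g

theorem isPullback_act {S : Scheme.{u}} {G X Y : Over S} [GrpObj G] (aX : AlgGrp.Action G X)
    (aY : AlgGrp.Action G Y) (f : X ⟶ Y) (hf : (G ◁ f) ≫ aY.act = aX.act ≫ f) :
    IsPullback aX.act.left (G ◁ f).left f.left aY.act.left := by
  refine (isPullback_snd G f).of_iso ((Over.forget S).mapIso (shear aX).symm) (Iso.refl _)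
    ((Over.forget S).mapIso (shear aY).symm) (Iso.refl _) ?_ ?_ ?_ ?_
  · show (snd G X).left ≫ 𝟙 _ = (shear aX).inv.left ≫ aX.act.left
    rw [← shear_snd aX, Category.comp_id, ← Over.comp_left, Iso.inv_hom_id_assoc]
  · show (G ◁ f).left ≫ (shear aY).inv.left = (shear aX).inv.left ≫ (G ◁ f).left
    rw [← Over.comp_left, ← Over.comp_left]
    refine congrArg CommaMorphism.left (?_ : G ◁ f ≫ (shear aY).inv = (shear aX).inv ≫ G ◁ f)
    rw [Iso.comp_inv_eq, Category.assoc, Iso.eq_inv_comp]
    refine CartesianMonoidalCategory.hom_ext _ _ ?_ ?_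
    · simp [shear]
    · simp only [Category.assoc, shear_snd, whiskerLeft_snd, hf]
      rw [← Category.assoc, shear_snd]
  · show f.left ≫ 𝟙 _ = 𝟙 _ ≫ f.left
    simp
  · show (snd G Y).left ≫ 𝟙 _ = (shear aY).inv.left ≫ aY.act.left
    rw [← shear_snd aY, Category.comp_id, ← Over.comp_left, Iso.inv_hom_id_assoc]

/-- Restricting a cartesian square over opens. -/
theorem isPullback_restrict {X Y X' Y' : Scheme.{u}} {p' : X' ⟶ X} {g : X' ⟶ Y'} {f : X ⟶ Y} {π : Y' ⟶ Y}
    (h : IsPullback p' g f π) (V : Y.Opens) (W : Y'.Opens) (hW : W ≤ π ⁻¹ᵁ V) :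
    ∃ (q : ↑(g ⁻¹ᵁ W) ⟶ ↑(f ⁻¹ᵁ V)), IsPullback q (g ∣_ W) (f ∣_ V) (π.resLE V W hW) := by
  have h1 : IsPullback ((g ⁻¹ᵁ W).ι ≫ p') (g ∣_ W) f (W.ι ≫ π) :=
    (isPullback_morphismRestrict g W).flip.paste_horiz h
  have h2 := (isPullback_morphismRestrict f V).flip
  rw [← π.resLE_comp_ι hW] at h1
  refine ⟨h2.lift ((g ⁻¹ᵁ W).ι ≫ p') ((g ∣_ W) ≫ π.resLE V W hW) ?_, IsPullback.of_right ?_ (h2.lift_snd _ _ _) h2⟩
  · rw [Category.assoc (g ∣_ W)]; exact h1.w
  · rw [h2.lift_fst]; exact h1


/-- Let k be a field, G a locally algebraic group over k (a group k-scheme locally of finite type)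
acting on k-schemes X and Y, and f : X → Y a G-equivariant k-morphism. Let P be a property of
morphisms of schemes which is local on the target for the Zariski topology, stable under base
change, and descends along flat surjective universally open morphisms (the published hypothesis is
descent along fpqc morphisms; the printed argument descends only along the restriction G ×_k U → G·U
of the action, which is flat, surjective and universally open). Then there is a largest open subset
V of Y such that the restriction f⁻¹(V) → V of f has P, and this V is G-stable: the action G ×_k Y →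
Y maps G ×_k V into V. -/
theorem result (k : Type u) [Field k]
    (G X Y : Over (Spec (CommRingCat.of k))) [GrpObj G] [LocallyOfFiniteType G.hom]
    (aX : AlgGrp.Action G X) (aY : AlgGrp.Action G Y) (f : X ⟶ Y) (hf : (G ◁ f) ≫ aY.act = aX.act ≫ f)
    (P : MorphismProperty Scheme.{u}) [IsZariskiLocalAtTarget P] [P.IsStableUnderBaseChange]
    [P.DescendsAlong (@Flat ⊓ @Surjective ⊓ @UniversallyOpen)] :
    ∃ V : Y.left.Opens, P (f.left ∣_ V) ∧ (∀ V' : Y.left.Opens, P (f.left ∣_ V') → V' ≤ V) ∧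
      (CartesianMonoidalCategory.snd G Y).left ⁻¹ᵁ V ≤ aY.act.left ⁻¹ᵁ V := by
  haveI : IsLocallyNoetherian (Spec (CommRingCat.of k)) := inferInstance
  haveI : LocallyOfFinitePresentation G.hom := UOpenLib.locallyOfFinitePresentation_of_isLocallyNoetherian G.hom
  haveI : Flat G.hom := inferInstance
  haveI : UniversallyOpen G.hom := inferInstance
  -- properties of the projection and of the action
  have hsndF : Flat (snd G Y).left := MorphismProperty.pullback_snd _ _ ‹Flat G.hom›
  have hsndU : UniversallyOpen (snd G Y).left := MorphismProperty.pullback_snd _ _ ‹UniversallyOpen G.hom›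
  have hactE : aY.act.left = (shear aY).hom.left ≫ (snd G Y).left := by
    rw [← Over.comp_left, shear_snd]
  haveI : IsIso (shear aY).hom.left := inferInstanceAs (IsIso ((Over.forget _).map (shear aY).hom))
  have hactF : Flat aY.act.left := by rw [hactE]; infer_instance
  have hactU : UniversallyOpen aY.act.left := by rw [hactE]; infer_instance
  -- the largest open
  let 𝒱 : Set Y.left.Opens := {V | P (f.left ∣_ V)}
  let V : Y.left.Opens := sSup 𝒱
  have hV : P (f.left ∣_ V) := by
    refine IsZariskiLocalAtTarget.of_iSup_eq_top (P := P) (fun i : 𝒱 => V.ι ⁻¹ᵁ i.1) ?_ fun i => ?_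
    · refine TopologicalSpace.Opens.ext (Set.eq_univ_of_forall fun y => ?_)
      obtain ⟨U, hU, hy⟩ := TopologicalSpace.Opens.mem_sSup.1
        (show V.ι.base y ∈ sSup 𝒱 from (V.range_ι ▸ Set.mem_range_self y : V.ι.base y ∈ (V : Set Y.left)))
      exact TopologicalSpace.Opens.mem_iSup.2 ⟨⟨U, hU⟩, hy⟩
    · refine (P.arrow_mk_iso_iff (morphismRestrictRestrict f.left V (V.ι ⁻¹ᵁ i.1) ≪≫
        morphismRestrictEq f.left ?_)).2 i.2
      rw [Scheme.Hom.image_preimage_eq_opensRange_inf, Scheme.Opens.opensRange_ι]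
      exact inf_eq_right.2 (le_sSup i.2)
  have key : ∀ (π₁ π₂ : (G ⊗ Y).left ⟶ Y.left) (p₁ p₂ : (G ⊗ X).left ⟶ X.left),
      IsPullback p₁ (G ◁ f).left f.left π₁ → IsPullback p₂ (G ◁ f).left f.left π₂ →
      Flat π₂ → UniversallyOpen π₂ → π₁ ⁻¹ᵁ V ≤ π₂ ⁻¹ᵁ V := by
    intro π₁ π₂ p₁ p₂ h₁ h₂ hF hU
    let W := π₁ ⁻¹ᵁ V
    let I : Y.left.Opens := ⟨π₂.base '' W, π₂.isOpenMap _ W.isOpen⟩
    have hWI : W ≤ π₂ ⁻¹ᵁ I := fun w hw => ⟨w, hw, rfl⟩
    obtain ⟨q₁, hq₁⟩ := isPullback_restrict h₁ V W le_rfl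
    obtain ⟨q₂, hq₂⟩ := isPullback_restrict h₂ I W hWI
    have hres : π₂.resLE I W hWI ≫ I.ι = W.ι ≫ π₂ := π₂.resLE_comp_ι hWI
    haveI : Surjective (π₂.resLE I W hWI) := by
      refine ⟨fun y => ?_⟩
      obtain ⟨w, hw, hwy⟩ : I.ι.base y ∈ π₂.base '' W := (I.range_ι ▸ Set.mem_range_self y : I.ι.base y ∈ (I : Set Y.left))
      obtain ⟨w', rfl⟩ : w ∈ Set.range W.ι.base := W.range_ι.symm ▸ hw
      refine ⟨w', I.ι.isOpenEmbedding.injective ?_⟩
      rw [← Scheme.Hom.comp_apply, hres, Scheme.Hom.comp_apply]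
      exact hwy
    haveI : Flat (π₂.resLE I W hWI) := by
      haveI : Flat (π₂.resLE I W hWI ≫ I.ι) := by rw [hres]; infer_instance
      exact MorphismProperty.of_postcomp (W := @Flat) (W' := @IsOpenImmersion) _ I.ι inferInstance inferInstance
    haveI : UniversallyOpen (π₂.resLE I W hWI) := by
      haveI : UniversallyOpen (π₂.resLE I W hWI ≫ I.ι) := by rw [hres]; infer_instance
      exact MorphismProperty.of_postcomp (W := @UniversallyOpen) (W' := @IsOpenImmersion) _ I.ι inferInstance inferInstance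
    have hI : P (f.left ∣_ I) := MorphismProperty.of_isPullback_of_descendsAlong (Q := @Flat ⊓ @Surjective ⊓ @UniversallyOpen)
      hq₂.flip ⟨⟨inferInstance, inferInstance⟩, inferInstance⟩ (P.of_isPullback hq₁ hV)
    have hIV : I ≤ V := le_sSup hI
    exact fun w hw => hIV (show π₂.base w ∈ I from ⟨w, hw, rfl⟩)
  refine ⟨V, hV, fun V' hV' => le_sSup hV', ?_⟩
  exact key _ _ _ _ (isPullback_snd G f) (isPullback_act aX aY f hf) hactF hactU
end Groth.Agent.S18826
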