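import Groth.Statements.S18829
import Mathlib
import Groth.Agent.GLinFinLib.Trig
-- import your own Groth.Agent.* helpers here

set_option autoImplicit false
universe u
open scoped TensorProduct
open HopfRep

open scoped TensorProduct
open scoped ComodLib
namespace Groth.Agent.S18829

/-- Let k be a field and A a finitely generated commutative Hopf algebra over k, the coordinate ring of
an affine algebraic group T. Suppose T is a torus: for some algebraically closed field extension K
of k the base change K ⊗_k A is isomorphic as a K-bialgebra to the group algebra over K of a free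
abelian group ℤ^n (T_K is a split torus of rank n). Then T is linearly reductive in the sense that
every finite-dimensional A-comodule is semisimple. (The source's definition of a torus asks for such
an isomorphism over every algebraically closed extension; one suffices for the printed argument. The
source's notion of a linearly reductive algebraic group also includes smoothness of T over k, which
this row does not assert.) -/
theorem result (k K A : Type u) [Field k] [Field K]
    [Algebra k K] [IsAlgClosed K] [CommRing A] [HopfAlgebra k A] [Algebra.FiniteType k A] (n : ℕ)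
    (e : (K ⊗[k] A) ≃ₐc[K] MonoidAlgebra K (Multiplicative (Fin n → ℤ))) :
    HopfRep.IsLinearlyReductive k A := by
  classical
  let H := MonoidAlgebra K (Multiplicative (Fin n → ℤ))
  let b := MonoidAlgebra.basis (Multiplicative (Fin n → ℤ)) K
  let eC : (K ⊗[k] A) →ₗ[K] H := (e : (K ⊗[k] A) →ₗc[K] H)
  let αK : (K ⊗[k] A) →ₗ[K] K := b.coord 1 ∘ₗ eC
  have hinvH : ∀ c : H, ComodLib.sliceL (b.coord 1) (CoalgebraStruct.comul (R := K) c) = b.coord 1 c • (1 : H) := by
    intro c
    have h : ComodLib.sliceL (b.coord 1) ∘ₗ CoalgebraStruct.comul = (b.coord 1).smulRight (1 : H) := b.ext fun a => by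
      have hb : CoalgebraStruct.comul (R := K) (b a) = b a ⊗ₜ[K] b a := by simp [b]
      simp only [LinearMap.comp_apply, hb, ComodLib.sliceL_tmul, LinearMap.smulRight_apply]
      rcases eq_or_ne a 1 with h | h
      · subst h
        rw [Module.Basis.coord_apply, Module.Basis.repr_self, Finsupp.single_eq_same, one_smul, one_smul]
        exact (show b 1 = 1 by rw [MonoidAlgebra.one_def]; simp [b])
      · simp [h]
    exact LinearMap.congr_fun h c
  have hinvK : ∀ x, ComodLib.sliceL αK (CoalgebraStruct.comul (R := K) x) = αK x • (1 : K ⊗[k] A) := fun x => by
    apply (show Function.Injective eC from e.injective)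
    rw [show eC (ComodLib.sliceL αK (CoalgebraStruct.comul (R := K) x)) =
      ComodLib.sliceL (b.coord 1) (TensorProduct.map eC eC (CoalgebraStruct.comul (R := K) x)) by
        generalize CoalgebraStruct.comul (R := K) x = z
        induction z with
        | zero => simp
        | add p q hp hq => simp only [map_add, hp, hq]
        | tmul p q => simp [αK],
      show TensorProduct.map eC eC (CoalgebraStruct.comul (R := K) x) = CoalgebraStruct.comul (R := K) (eC x) from
        CoalgHomClass.map_comp_comul_apply e x, hinvH, map_smul,
      show eC 1 = 1 from map_one e]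
    rfl
  obtain ⟨r, hr⟩ := LinearMap.exists_leftInverse_of_injective (Algebra.linearMap k K)
    (LinearMap.ker_eq_bot.2 (algebraMap k K).injective)
  have hr1 : r 1 = 1 := by simpa using LinearMap.congr_fun hr 1
  let j : A →ₗ[k] K ⊗[k] A := TensorProduct.mk k K A 1
  let α : A →ₗ[k] k := r ∘ₗ αK.restrictScalars k ∘ₗ j
  refine ComodLib.isLinearlyReductive_of_invariant (α := α) (fun a => ?_) ?_
  · let π : K ⊗[k] A →ₗ[k] A := TensorProduct.lid k A ∘ₗ r.rTensor A
    have h := congrArg π (hinvK (j a))
    have e1 : π (αK (j a) • (1 : K ⊗[k] A)) = α a • (1 : A) := by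
      rw [Algebra.TensorProduct.one_def, TensorProduct.smul_tmul', smul_eq_mul, mul_one]
      simp [π, α]
    rw [e1, show j a = (1 : K) ⊗ₜ[k] a from rfl, TensorProduct.comul_tmul] at h
    rw [← h]
    rw [CommSemiring.comul_apply]
    generalize CoalgebraStruct.comul (R := k) a = z
    induction z with
    | zero => simp
    | add p q hp hq => simp only [TensorProduct.tmul_add, map_add, hp, hq]
    | tmul p q =>
      simp only [ComodLib.sliceL_tmul, TensorProduct.AlgebraTensorModule.tensorTensorTensorComm_tmul]
      rw [TensorProduct.smul_tmul', smul_eq_mul, mul_one]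
      simp [π, α, j]
  · show r (αK ((1 : K) ⊗ₜ[k] (1 : A))) = 1
    rw [← Algebra.TensorProduct.one_def, show αK 1 = 1 by
      show b.coord 1 (eC 1) = 1
      rw [show eC 1 = 1 from map_one e, show (1 : H) = b 1 by simp only [H, b, MonoidAlgebra.basis_apply]; rfl,
        Module.Basis.coord_apply, Module.Basis.repr_self, Finsupp.single_eq_same], hr1]

end Groth.Agent.S18829
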