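import Groth.Statements.S18830
import Mathlib
-- import your own Groth.Agent.* helpers here

set_option autoImplicit false
set_option backward.isDefEq.respectTransparency false
universe u
open CategoryTheory MonoidalCategory CartesianMonoidalCategory MonObj AlgebraicGeometry
open AlgGrp CategoryTheory.Limits

namespace Groth.Agent.S18830

/-- Let k be a field and M an algebraic monoid over k (a monoid k-scheme of finite type). Let i : G → M
be its group of units: a monomorphism of k-schemes through which a T-valued point of M factors if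
and only if it is invertible in the monoid M(T). Then G is of finite type over k, i.e. the unit
group is an algebraic group. -/
theorem result (k : Type u) [Field k]
    (M G : Over (Spec (CommRingCat.of k))) [MonObj M] [LocallyOfFiniteType M.hom] [QuasiCompact M.hom]
    (i : G ⟶ M) [Mono i]
    (hi : ∀ (T : Over (Spec (CommRingCat.of k))) (m : T ⟶ M), (∃ g : T ⟶ G, g ≫ i = m) ↔ IsUnit m) :
    LocallyOfFiniteType G.hom ∧ QuasiCompact G.hom := by
  classical
  let q : M ⊗ M ⟶ M ⊗ M := lift (fst M M * snd M M) (snd M M * fst M M)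
  let e : 𝟙_ (Over (Spec (CommRingCat.of k))) ⟶ M ⊗ M := lift 1 1
  let U : Over (Spec (CommRingCat.of k)) := Over.mk (pullback.fst q.left e.left ≫ (M ⊗ M).hom)
  let j : U ⟶ M ⊗ M := Over.homMk (pullback.fst q.left e.left) rfl
  haveI : LocallyOfFiniteType (pullback.fst M.hom M.hom) := MorphismProperty.pullback_fst _ _ inferInstance
  haveI : QuasiCompact (pullback.fst M.hom M.hom) := MorphismProperty.pullback_fst _ _ inferInstance
  haveI : LocallyOfFiniteType (M ⊗ M).hom := inferInstanceAs (LocallyOfFiniteType (pullback.fst M.hom M.hom ≫ M.hom))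
  haveI : QuasiCompact (M ⊗ M).hom := inferInstanceAs (QuasiCompact (pullback.fst M.hom M.hom ≫ M.hom))
  haveI : LocallyOfFiniteType (e.left ≫ (M ⊗ M).hom) := by
    rw [Over.w]; exact inferInstanceAs (LocallyOfFiniteType (𝟙 (Spec (CommRingCat.of k))))
  haveI : LocallyOfFiniteType e.left := locallyOfFiniteType_of_comp e.left (M ⊗ M).hom
  haveI : QuasiCompact e.left := ⟨fun V _ _ => by
    haveI : Finite ↥(𝟙_ (Over (Spec (CommRingCat.of k)))).left := inferInstanceAs (Finite (PrimeSpectrum k))
    exact (Set.toFinite _).isCompact⟩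
  haveI : LocallyOfFiniteType (pullback.fst q.left e.left) := MorphismProperty.pullback_fst _ _ inferInstance
  haveI : QuasiCompact (pullback.fst q.left e.left) := MorphismProperty.pullback_fst _ _ inferInstance
  haveI : LocallyOfFiniteType U.hom := inferInstanceAs (LocallyOfFiniteType (pullback.fst q.left e.left ≫ (M ⊗ M).hom))
  haveI : QuasiCompact U.hom := inferInstanceAs (QuasiCompact (pullback.fst q.left e.left ≫ (M ⊗ M).hom))
  -- the universal invertible point
  have hj : j ≫ q = toUnit U ≫ e := by
    refine Over.OverMorphism.ext ?_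
    show pullback.fst q.left e.left ≫ q.left = (toUnit U).left ≫ e.left
    have h2 : pullback.snd q.left e.left = (toUnit U).left := by
      rw [Over.toUnit_left]
      show _ = pullback.fst q.left e.left ≫ (M ⊗ M).hom
      rw [← Over.w q, pullback.condition_assoc, Over.w]
      exact (Category.comp_id _).symm
    rw [pullback.condition, h2]
  have h1 : (j ≫ fst M M) * (j ≫ snd M M) = 1 := by
    have h := congrArg (· ≫ fst M M) hj
    simp only [q, e, Category.assoc, lift_fst, MonObj.comp_mul, MonObj.comp_one] at h
    exact h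
  have h2 : (j ≫ snd M M) * (j ≫ fst M M) = 1 := by
    have h := congrArg (· ≫ snd M M) hj
    simp only [q, e, Category.assoc, lift_snd, MonObj.comp_mul, MonObj.comp_one] at h
    exact h
  obtain ⟨ψ, hψ⟩ := (hi U (j ≫ fst M M)).2 (isUnit_iff_exists.2 ⟨_, h1, h2⟩)
  obtain ⟨b, hb1, hb2⟩ := isUnit_iff_exists.1 ((hi G i).1 ⟨𝟙 G, Category.id_comp i⟩)
  have hb : lift i b ≫ q = toUnit G ≫ e := by
    simp only [q, e, comp_lift, MonObj.comp_mul, lift_fst, lift_snd, hb1, hb2, MonObj.comp_one]
  let φ : G ⟶ U := Over.homMk (pullback.lift (lift i b).left (toUnit G).left congr($(hb).left))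
    (by show _ ≫ pullback.fst q.left e.left ≫ (M ⊗ M).hom = G.hom
        rw [pullback.lift_fst_assoc, Over.w])
  have hφ : φ ≫ j = lift i b := Over.OverMorphism.ext (pullback.lift_fst _ _ _)
  have h3 : φ ≫ ψ = 𝟙 G := by
    rw [← cancel_mono i, Category.assoc, hψ, ← Category.assoc, hφ, lift_fst, Category.id_comp]
  haveI : Mono j := by
    haveI : Mono e.left := by
      haveI : IsSplitMono e := IsSplitMono.mk' ⟨toUnit _, toUnit_unique _ _⟩
      exact inferInstanceAs (Mono ((Over.forget _).map e))
    haveI : Mono j.left := inferInstanceAs (Mono (pullback.fst q.left e.left))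
    exact Over.mono_of_mono_left j
  have h4 : ψ ≫ φ = 𝟙 U := by
    have hbb : (ψ ≫ b) = j ≫ snd M M := by
      refine left_inv_eq_right_inv (a := j ≫ fst M M) ?_ h1
      rw [← hψ, ← MonObj.comp_mul, hb2, MonObj.comp_one]
    rw [← cancel_mono j, Category.assoc, hφ, comp_lift, hψ, hbb, Category.id_comp, ← comp_lift, lift_fst_snd,
      Category.comp_id]
  haveI : IsIso φ.left := ((Over.forget _).mapIso ⟨φ, ψ, h3, h4⟩).isIso_hom
  rw [← Over.w φ]
  exact ⟨inferInstance, inferInstance⟩

end Groth.Agent.S18830
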