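import Groth.Statements.S18831
import Mathlib
import Groth.Agent.CurveSDLib.Sections
-- import your own Groth.Agent.* helpers here

set_option autoImplicit false
universe u
open CategoryTheory CategoryTheory.Limits AlgebraicGeometry
open VBCurve

namespace Groth.Agent.S18831

/-- Let X be a smooth projective integral curve over an algebraically closed field k of characteristic
zero, and G a finite locally free O_X-module of rank r ≥ 1 which is slope-semistable, of slope μ =
deg G / r (deg G = χ(G) − r χ(O_X)). Then dim_k H^0(X, G) ≤ r · max(⌊μ⌋ + 1, 0); in particular a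
slope-semistable bundle of negative slope has no nonzero global section. -/
theorem result (k : Type u) [Field k] [IsAlgClosed k] [CharZero k]
    (X : Scheme.{u}) [X.Over (Spec (CommRingCat.of k))]
    [IsIntegral X] [IsProper (X ↘ Spec (CommRingCat.of k))] [Smooth (X ↘ Spec (CommRingCat.of k))]
    (hdim : topologicalKrullDim X = 1)
    (r : ℕ) (hr : 0 < r) (G : X.Modules) (hG : FlatMod.IsFinLocFreeOfRank r G)
    (hss : ModFun.IsSlopeSemistable k X G r) :
    (Module.finrank k (Coh.HH X G 0) : ℤ) ≤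
      (r : ℤ) * max (⌊(Curv2.deg k X G r : ℚ) / (r : ℚ)⌋ + 1) 0 := by
  obtain ⟨m, hm⟩ : ∃ m : ℕ, (m : ℤ) = max (⌊(Curv2.deg k X G r : ℚ) / (r : ℚ)⌋ + 1) 0 :=
    ⟨_, Int.toNat_of_nonneg (le_max_right _ _)⟩
  have hO : Curv2.deg k X (Coh.structureModule X) 1 = 0 := by rw [Curv2.deg]; push_cast; ring
  have h := CurveSDLib.finrank_h0_le (k := k) hdim hG hss m (Coh.structureModule X) CurvLib.isInvertible_structureModule (by
    rw [hO, mul_zero, add_zero, mul_comm]
    have hr' : (0 : ℚ) < (r : ℚ) := by exact_mod_cast hr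
    have h1 := Int.lt_floor_add_one ((Curv2.deg k X G r : ℚ) / (r : ℚ))
    have h2 : (⌊(Curv2.deg k X G r : ℚ) / (r : ℚ)⌋ : ℚ) + 1 ≤ ((m : ℤ) : ℚ) := by
      rw [hm]; push_cast; exact le_max_left _ _
    have h3 : (Curv2.deg k X G r : ℚ) < ((m : ℤ) : ℚ) * (r : ℚ) := (div_lt_iff₀ hr').1 (lt_of_lt_of_le h1 h2)
    exact_mod_cast h3)
  rw [(CurvLib.hIso (k := k) (CurveSDLib.unitR G) 0).finrank_eq, ← hm]
  exact_mod_cast h

end Groth.Agent.S18831
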