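import Groth.Statements.S18832
import Groth.Agent.CurviLib.Basic
import Groth.Agent.FlatLib.SmoothSource

set_option autoImplicit false
universe u
open Polynomial
open DefT

namespace Groth.Agent.S18832


open Polynomial in
theorem smooth_lift {k : Type u} [Field k] [CharZero k] [IsAlgClosed k] {A : Type u} [CommRing A] [Algebra k A]
    [Algebra.FiniteType k A] (m : Ideal A) [m.IsMaximal] [IsRegularLocalRing (Localization.AtPrime m)]
    (hres : ∀ a : A, ∃ c : k, a - algebraMap k A c ∈ m) {l : ℕ} (hl : 1 ≤ l)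
    (φ : A →ₐ[k] (k[X] ⧸ Ideal.span {(X : k[X]) ^ l})) (hφ : ∀ a ∈ m, IsNilpotent (φ a)) :
    ∃ ψ : A →ₐ[k] (k[X] ⧸ Ideal.span {(X : k[X]) ^ (l + 1)}),
      (Ideal.Quotient.factorₐ k
        (Ideal.span_singleton_le_span_singleton.mpr (pow_dvd_pow (X : k[X]) (Nat.le_succ l)))).comp ψ = φ := by
  haveI : Algebra.IsGeometricallyReduced k m.ResidueField :=
    Groth.Agent.HopfFF.isGeometricallyReduced_of_perfectField _
  haveI : Algebra.FormallySmooth k (Localization.AtPrime m) :=
    (CohenLib.isSmoothAt_iff_isRegularLocalRing k A m).2 inferInstance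
  have hu : ∀ s : m.primeCompl, IsUnit (φ s) := fun s => by
    obtain ⟨c, hc⟩ := hres s
    have hc0 : c ≠ 0 := fun h => s.2 (by simpa [h] using hc)
    have h1 := (hφ _ hc).isUnit_add_right_of_commute ((isUnit_iff_ne_zero.2 hc0).map (algebraMap k _)) (Commute.all _ _)
    rwa [map_sub, φ.commutes, sub_add_cancel] at h1
  let φR : Localization.AtPrime m →ₐ[k] (k[X] ⧸ Ideal.span {(X : k[X]) ^ l}) :=
    IsLocalization.liftAlgHom (M := m.primeCompl) (f := φ) hu
  let g := Ideal.Quotient.factorₐ k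
    (Ideal.span_singleton_le_span_singleton.mpr (pow_dvd_pow (X : k[X]) (Nat.le_succ l)))
  have hg : IsNilpotent (RingHom.ker g.toRingHom) := by
    refine ⟨2, ?_⟩
    rw [show RingHom.ker g.toRingHom = (Ideal.span {(X : k[X]) ^ l}).map (Ideal.Quotient.mk _) from
      Ideal.Quotient.factor_ker (Ideal.span_singleton_le_span_singleton.mpr (pow_dvd_pow (X : k[X]) (Nat.le_succ l))),
      ← Ideal.map_pow, Ideal.span_singleton_pow, Ideal.map_span, Set.image_singleton, ← pow_mul]
    rw [Ideal.zero_eq_bot, Ideal.span_singleton_eq_bot, Ideal.Quotient.eq_zero_iff_mem, Ideal.mem_span_singleton]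
    exact pow_dvd_pow _ (by omega)
  have hgs : Function.Surjective g := Ideal.Quotient.factor_surjective
    (Ideal.span_singleton_le_span_singleton.mpr (pow_dvd_pow (X : k[X]) (Nat.le_succ l)))
  refine ⟨(Algebra.FormallySmooth.liftOfSurjective φR g hgs hg).comp
    (IsScalarTower.toAlgHom k A (Localization.AtPrime m)), AlgHom.ext fun a => ?_⟩
  show g (Algebra.FormallySmooth.liftOfSurjective φR g hgs hg (algebraMap A _ a)) = φ a
  rw [Algebra.FormallySmooth.liftOfSurjective_apply φR g hgs hg]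
  exact IsLocalization.lift_eq _ _

open Polynomial in
theorem regular_of_lifts {k : Type u} [Field k] [IsAlgClosed k] {A : Type u} [CommRing A] [Algebra k A]
    [IsNoetherianRing A] (m : Ideal A) [m.IsMaximal]
    (hres : ∀ a : A, ∃ c : k, a - algebraMap k A c ∈ m)
    (h : ∀ (l : ℕ), 1 ≤ l →
        ∀ (φ : A →ₐ[k] (k[X] ⧸ Ideal.span {(X : k[X]) ^ l})),
          (∀ a ∈ m, IsNilpotent (φ a)) →
          ∃ ψ : A →ₐ[k] (k[X] ⧸ Ideal.span {(X : k[X]) ^ (l + 1)}),
            (Ideal.Quotient.factorₐ k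
                (Ideal.span_singleton_le_span_singleton.mpr (pow_dvd_pow (X : k[X]) (Nat.le_succ l)))).comp ψ = φ) :
    IsRegularLocalRing (Localization.AtPrime m) := by
  classical
  have hk : ∀ r : Localization.AtPrime m, ∃ c : k,
      r - algebraMap k _ c ∈ IsLocalRing.maximalIdeal (Localization.AtPrime m) := fun r => by
    obtain ⟨a, ⟨s, hs⟩, rfl⟩ := IsLocalization.exists_mk'_eq m.primeCompl r
    obtain ⟨ca, hca⟩ := hres a
    obtain ⟨cs, hcs⟩ := hres s
    have hs0 : cs ≠ 0 := fun h => hs (by simpa [h] using hcs)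
    refine ⟨ca / cs, (Ideal.mul_unit_mem_iff_mem _ (IsLocalization.map_units (M := m.primeCompl) (Localization.AtPrime m) ⟨s, hs⟩)).1 ?_⟩
    rw [sub_mul, IsLocalization.mk'_spec, IsScalarTower.algebraMap_apply k A (Localization.AtPrime m), ← map_mul,
      ← map_sub, IsLocalization.AtPrime.to_map_mem_maximal_iff (Localization.AtPrime m) m]
    show a - algebraMap k A (ca / cs) * s ∈ m
    have h1 : algebraMap k A (ca / cs) * algebraMap k A cs = algebraMap k A ca := by
      rw [← map_mul, div_mul_cancel₀ _ hs0]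
    have h2 : a - algebraMap k A (ca / cs) * s = (a - algebraMap k A ca) - algebraMap k A (ca / cs) * (s - algebraMap k A cs) := by
      rw [mul_sub, h1]; ring
    rw [h2]
    exact sub_mem hca (Ideal.mul_mem_left _ _ hcs)
  obtain ⟨e, he⟩ : ∃ e, e = (IsLocalRing.maximalIdeal (Localization.AtPrime m)).spanFinrank := ⟨_, rfl⟩
  obtain ⟨x, hx⟩ : ∃ x : Fin e → Localization.AtPrime m, Ideal.span (Set.range x) = IsLocalRing.maximalIdeal _ :=
    he ▸ KunzLib.exists_minimal_generators (Localization.AtPrime m)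
  choose a s has using fun i => IsLocalization.exists_mk'_eq m.primeCompl (x i)
  let y : Fin e → Localization.AtPrime m := fun i => algebraMap A _ (a i)
  have hxy : ∀ i, x i * algebraMap A _ (s i : A) = y i := fun i => by rw [← has i]; exact IsLocalization.mk'_spec _ _ _
  have hy : Ideal.span (Set.range y) = IsLocalRing.maximalIdeal _ := by
    refine le_antisymm (Ideal.span_le.2 (Set.range_subset_iff.2 fun i => ?_)) ?_
    · rw [← hxy]; exact Ideal.mul_mem_right _ _ (hx ▸ Ideal.subset_span ⟨i, rfl⟩)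
    · conv_lhs => rw [← hx]
      refine Ideal.span_le.2 (Set.range_subset_iff.2 fun i => ?_)
      exact (Ideal.mul_unit_mem_iff_mem _ (IsLocalization.map_units (Localization.AtPrime m) (s i))).1
        (hxy i ▸ Ideal.subset_span ⟨i, rfl⟩)
  have hym : ∀ i, a i ∈ m := fun i => (IsLocalization.AtPrime.to_map_mem_maximal_iff (Localization.AtPrime m) m (a i)).1
    (hy ▸ Ideal.subset_span ⟨i, rfl⟩)
  suffices ∀ j, ∀ F : MvPolynomial (Fin e) k, F.IsHomogeneous j →
      MvPolynomial.aeval y F ∈ IsLocalRing.maximalIdeal (Localization.AtPrime m) ^ (j + 1) → F = 0 from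
    CurviLib.isRegularLocalRing_of_noRel hk hy fun n j _ => this j
  intro j
  induction j using Nat.strong_induction_on with
  | _ d ih =>
  intro F hF hFm
  rcases lt_or_ge d 2 with hd2 | hd2
  · exact CurviLib.noRel_one_two hy he.symm hd2 hF hFm
  by_contra hne
  have hNR : CurviLib.NoRel (k := k) y d := fun j hj => ih j hj
  obtain ⟨v, hv⟩ : ∃ v : Fin e → k, MvPolynomial.eval v F ≠ 0 := by
    by_contra hall
    push Not at hall
    exact hne (MvPolynomial.funext fun v => by rw [hall v, map_zero])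
  have hker : ∀ (l : ℕ) (q : k[X] ⧸ Ideal.span {(X : k[X]) ^ l}), (Ideal.Quotient.mk _ X) ^ l * q = 0 := fun l q => by
    rw [← map_pow, Ideal.Quotient.eq_zero_iff_mem.2 (Ideal.mem_span_singleton_self _), zero_mul]
  -- the jet `yᵢ ↦ vᵢ t` modulo `t ^ d`
  let p : MvPolynomial (Fin e) k →ₐ[k] Localization.AtPrime m ⧸ IsLocalRing.maximalIdeal (Localization.AtPrime m) ^ d :=
    (Ideal.Quotient.mkₐ k _).comp (MvPolynomial.aeval y)
  have hp : Function.Surjective p := fun z => by
    obtain ⟨r, rfl⟩ := Ideal.Quotient.mk_surjective z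
    obtain ⟨G, hG⟩ := CurviLib.exists_poly hk hy d r
    exact ⟨G, (Ideal.Quotient.eq.2 hG).symm⟩
  let χ : MvPolynomial (Fin e) k →ₐ[k] k[X] ⧸ Ideal.span {(X : k[X]) ^ d} :=
    MvPolynomial.aeval fun i => Ideal.Quotient.mk _ X * algebraMap k _ (v i)
  have hle : ∀ G ∈ RingHom.ker p.toRingHom, χ G = 0 := by
    intro G hG
    have hG' : MvPolynomial.aeval y G ∈ IsLocalRing.maximalIdeal (Localization.AtPrime m) ^ d :=
      Ideal.Quotient.eq_zero_iff_mem.1 hG
    have hc := CurviLib.component_eq_zero (fun i => hy ▸ Ideal.subset_span ⟨i, rfl⟩) hNR hG'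
    rw [← MvPolynomial.sum_homogeneousComponent G, map_sum]
    refine Finset.sum_eq_zero fun i _ => ?_
    rcases lt_or_ge i d with hi | hi
    · rw [hc i hi, map_zero]
    · rw [CurviLib.aeval_smul_homogeneous _ _ (MvPolynomial.homogeneousComponent_isHomogeneous i G),
        ← Nat.add_sub_cancel' hi, pow_add, mul_assoc, hker]
  let φ : A →ₐ[k] k[X] ⧸ Ideal.span {(X : k[X]) ^ d} :=
    (((Ideal.Quotient.liftₐ (RingHom.ker p.toRingHom) χ hle).comp
      (Ideal.quotientKerAlgEquivOfSurjective hp).symm.toAlgHom).comp (Ideal.Quotient.mkₐ k _)).comp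
      (IsScalarTower.toAlgHom k A (Localization.AtPrime m))
  have hφp : ∀ (b : A) G, p G = Ideal.Quotient.mk _ (algebraMap A (Localization.AtPrime m) b) → φ b = χ G := by
    intro b G hb
    show Ideal.Quotient.liftₐ _ χ hle ((Ideal.quotientKerAlgEquivOfSurjective hp).symm
      (Ideal.Quotient.mk _ (algebraMap A (Localization.AtPrime m) b))) = _
    rw [← hb, show (Ideal.quotientKerAlgEquivOfSurjective hp).symm (p G) = Ideal.Quotient.mk _ G from
      (AlgEquiv.symm_apply_eq _).2 rfl]
    rfl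
  have hφy : ∀ i, φ (a i) = Ideal.Quotient.mk _ X * algebraMap k _ (v i) := fun i => by
    rw [hφp (a i) (MvPolynomial.X i) (by simp [p, y])]
    exact MvPolynomial.aeval_X _ i
  have hφnil : ∀ b ∈ m, IsNilpotent (φ b) := by
    intro b hb
    refine ⟨d, ?_⟩
    obtain ⟨G, hG⟩ := hp (Ideal.Quotient.mk _ (algebraMap A (Localization.AtPrime m) b))
    rw [← map_pow, hφp (b ^ d) (G ^ d) (by rw [map_pow, hG, map_pow, map_pow])]
    refine hle (G ^ d) ?_
    show p (G ^ d) = 0
    rw [map_pow, hG, ← map_pow, Ideal.Quotient.eq_zero_iff_mem]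
    exact Ideal.pow_mem_pow ((IsLocalization.AtPrime.to_map_mem_maximal_iff (Localization.AtPrime m) m b).2 hb) d
  obtain ⟨ψ, hψ⟩ := h d (by omega) φ hφnil
  have hu : ∀ b : m.primeCompl, IsUnit (ψ b) := by
    intro b
    obtain ⟨c, hc⟩ := hres b
    have hc0 : c ≠ 0 := fun h => b.2 (by simpa [h] using hc)
    obtain ⟨N, hN⟩ := hφnil _ hc
    have h2 : IsNilpotent (ψ ((b : A) - algebraMap k A c)) := by
      refine ⟨N * 2, ?_⟩
      have h3 := AlgHom.congr_fun hψ (((b : A) - algebraMap k A c) ^ N)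
      rw [map_pow φ, hN, AlgHom.comp_apply, map_pow] at h3
      obtain ⟨g, hg⟩ := Ideal.Quotient.mk_surjective (ψ ((b : A) - algebraMap k A c) ^ N)
      rw [← hg] at h3
      have h4 : (X : k[X]) ^ d ∣ g := Ideal.mem_span_singleton.1 (Ideal.Quotient.eq_zero_iff_mem.1 h3)
      rw [pow_mul, ← hg, ← map_pow, Ideal.Quotient.eq_zero_iff_mem, Ideal.mem_span_singleton]
      refine (pow_dvd_pow _ (show d + 1 ≤ d * 2 by omega)).trans ?_
      rw [pow_mul]; exact pow_dvd_pow_of_dvd h4 2
    have h1 := h2.isUnit_add_right_of_commute ((isUnit_iff_ne_zero.2 hc0).map (algebraMap k _)) (Commute.all _ _)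
    rwa [map_sub, ψ.commutes, sub_add_cancel] at h1
  let ψR : Localization.AtPrime m →ₐ[k] k[X] ⧸ Ideal.span {(X : k[X]) ^ (d + 1)} :=
    IsLocalization.liftAlgHom (M := m.primeCompl) (f := ψ) hu
  let τ : k[X] ⧸ Ideal.span {(X : k[X]) ^ (d + 1)} := Ideal.Quotient.mk _ X
  have hw : ∀ i, ∃ w, ψR (y i) = τ * (algebraMap k _ (v i) + τ ^ (d - 1) * w) := by
    intro i
    obtain ⟨g, hg⟩ := Ideal.Quotient.mk_surjective (ψ (a i))
    have h3 := AlgHom.congr_fun hψ (a i)
    rw [hφy, AlgHom.comp_apply, ← hg] at h3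
    change Ideal.Quotient.mk _ g = Ideal.Quotient.mk _ X * Ideal.Quotient.mk _ (C (v i)) at h3
    rw [← map_mul, Ideal.Quotient.eq, Ideal.mem_span_singleton] at h3
    obtain ⟨w, hw⟩ := h3
    refine ⟨Ideal.Quotient.mk _ w, ?_⟩
    rw [show ψR (y i) = ψ (a i) from IsLocalization.lift_eq _ _, ← hg]
    show _ = τ * (Ideal.Quotient.mk _ (C (v i)) + _)
    rw [← map_pow, ← map_mul, ← map_add, ← map_mul]
    congr 1
    rw [mul_add, ← mul_assoc, ← pow_succ', Nat.sub_add_cancel (by omega : 1 ≤ d)]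
    linear_combination hw
  choose w hw using hw
  have hle' : IsLocalRing.maximalIdeal (Localization.AtPrime m) ≤ (Ideal.span {τ}).comap ψR := by
    rw [← hy]
    refine Ideal.span_le.2 (Set.range_subset_iff.2 fun i => ?_)
    show ψR (y i) ∈ Ideal.span {τ}
    rw [hw]; exact Ideal.mul_mem_right _ _ (Ideal.mem_span_singleton_self _)
  have h0 : ψR (MvPolynomial.aeval y F) = 0 := by
    have := ((Ideal.pow_right_mono hle' (d + 1)).trans (Ideal.le_comap_pow _ _)) hFm
    rwa [Ideal.mem_comap, Ideal.span_singleton_pow,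
      show τ ^ (d + 1) = 0 by simpa using hker (d + 1) 1, Ideal.span_singleton_eq_bot.2 rfl, Ideal.mem_bot] at this
  rw [← AlgHom.comp_apply, MvPolynomial.comp_aeval] at h0
  simp only [hw] at h0
  rw [CurviLib.aeval_smul_homogeneous _ _ hF] at h0
  obtain ⟨g, hg⟩ := Ideal.Quotient.mk_surjective
    (MvPolynomial.aeval (fun i => algebraMap k (k[X] ⧸ Ideal.span {(X : k[X]) ^ (d + 1)}) (v i) + τ ^ (d - 1) * w i) F)
  rw [← hg, ← map_pow, ← map_mul, Ideal.Quotient.eq_zero_iff_mem, Ideal.mem_span_singleton, pow_succ,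
    mul_dvd_mul_iff_left (pow_ne_zero d X_ne_zero)] at h0
  let ε : k[X] ⧸ Ideal.span {(X : k[X]) ^ (d + 1)} →ₐ[k] k := Ideal.Quotient.liftₐ _ (Polynomial.aeval (0 : k)) fun q hq => by
    obtain ⟨q, rfl⟩ := Ideal.mem_span_singleton.1 hq
    simp
  have hετ : ε τ = 0 := by simp [ε, τ]
  have h5 : ε (Ideal.Quotient.mk _ g) = 0 := by
    obtain ⟨q, rfl⟩ := h0
    simp [ε]
  rw [hg, ← AlgHom.comp_apply, MvPolynomial.comp_aeval] at h5
  refine hv ?_
  rw [← h5]
  simp [hετ, show d - 1 ≠ 0 by omega, MvPolynomial.aeval_eq_eval]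

/-- Let k be an algebraically closed field of characteristic zero, A a finitely generated k-algebra and
m a maximal ideal of A. Then A_m is a regular local ring (the pointed scheme (Spec A, m) is smooth
at m) if and only if, for every l ≥ 1, every k-algebra homomorphism φ : A → k[X]/(X^l) mapping m
into the nilpotent elements extends to a k-algebra homomorphism ψ : A → k[X]/(X^(l+1)) reducing to φ
modulo X^l. Only jets along Spec k[X]/(X^l) are tested, not all local Artinian algebras. -/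
theorem result (k : Type u) [Field k] [IsAlgClosed k] [CharZero k]
    (A : Type u) [CommRing A] [Algebra k A] [Algebra.FiniteType k A]
    (m : Ideal A) [m.IsMaximal] :
    IsRegularLocalRing (Localization.AtPrime m) ↔
      ∀ (l : ℕ), 1 ≤ l →
        ∀ (φ : A →ₐ[k] (k[X] ⧸ Ideal.span {(X : k[X]) ^ l})),
          (∀ a ∈ m, IsNilpotent (φ a)) →
          ∃ ψ : A →ₐ[k] (k[X] ⧸ Ideal.span {(X : k[X]) ^ (l + 1)}),
            (Ideal.Quotient.factorₐ k
                (Ideal.span_singleton_le_span_singleton.mpr (pow_dvd_pow (X : k[X]) (Nat.le_succ l)))).comp ψ = φ := by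
  haveI : IsNoetherianRing A := Algebra.FiniteType.isNoetherianRing k A
  letI := Ideal.Quotient.field m
  haveI : Module.Finite k (A ⧸ m) := finite_of_finite_type_of_isJacobsonRing k (A ⧸ m)
  haveI : Algebra.IsIntegral k (A ⧸ m) := Algebra.IsIntegral.of_finite k _
  have hres : ∀ a : A, ∃ c : k, a - algebraMap k A c ∈ m := fun a => by
    obtain ⟨c, hc⟩ := (IsAlgClosed.algebraMap_bijective_of_isIntegral (k := k) (K := A ⧸ m)).2 (Ideal.Quotient.mk m a)
    exact ⟨c, Ideal.Quotient.eq.1 hc.symm⟩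
  constructor
  · intro hreg l hl φ hφ
    exact smooth_lift m hres hl φ hφ
  · exact regular_of_lifts m hres

end Groth.Agent.S18832
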