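import Groth.Statements.S18835
import Groth.Agent.EulerPnLib.Deriv
import Groth.Agent.DiscExtLib.Main
import Groth.Agent.FiltSectLib.Stalks
import Groth.Agent.AVThetaLib.Scalar
import Groth.Agent.PicPnLib.BaseChange
import Groth.Agent.ProjRecLib.Sections
import Groth.Agent.ParaFDescLib.Main

set_option autoImplicit false
set_option backward.isDefEq.respectTransparency false
set_option backward.isDefEq.respectTransparency.types false
set_option maxHeartbeats 1000000

universe u
open CategoryTheory CategoryTheory.Limits AlgebraicGeometry Polynomial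
open VBCurve

namespace Groth.Agent.S18835

open CategoryTheory CategoryTheory.Limits AlgebraicGeometry TopologicalSpace Opposite

noncomputable section Aux

section Cat

variable {C : Type*} [Category C] [Abelian C]

/-- The cokernel of a map with an invertible component. -/
theorem isIso_coker_component {A T B D : C} (φ : A ⟶ T) (e : T ≅ B ⊞ D) [IsIso (φ ≫ e.hom ≫ biprod.fst)] :
    IsIso (biprod.inr ≫ e.inv ≫ cokernel.π φ) := by
  let f₁ := φ ≫ e.hom ≫ biprod.fst
  let f₂ := φ ≫ e.hom ≫ biprod.snd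
  haveI : IsIso f₁ := inferInstanceAs (IsIso (φ ≫ e.hom ≫ biprod.fst))
  let δ : B ⊞ D ⟶ D := biprod.desc (-(inv f₁ ≫ f₂)) (𝟙 D)
  have h0 : φ ≫ e.hom = biprod.lift f₁ f₂ := by ext <;> simp [f₁, f₂]
  have hδ : φ ≫ e.hom ≫ δ = 0 := by
    rw [← Category.assoc, h0, biprod.lift_desc, Preadditive.comp_neg, IsIso.hom_inv_id_assoc, Category.comp_id,
      neg_add_cancel]
  refine ⟨cokernel.desc φ (e.hom ≫ δ) hδ, ?_, ?_⟩
  · simp [δ]
  · rw [← cancel_epi (cokernel.π φ), cokernel.π_desc_assoc, Category.comp_id, Category.assoc,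
      ← cancel_epi e.inv, Iso.inv_hom_id_assoc]
    refine biprod.hom_ext' _ _ ?_ ?_
    · rw [biprod.inl_desc_assoc, Preadditive.neg_comp, Category.assoc]
      refine neg_eq_of_add_eq_zero_left ?_
      rw [← cancel_epi f₁, Preadditive.comp_add, IsIso.hom_inv_id_assoc, Limits.comp_zero]
      calc f₁ ≫ biprod.inl ≫ e.inv ≫ cokernel.π φ + f₂ ≫ biprod.inr ≫ e.inv ≫ cokernel.π φ
          = biprod.lift f₁ f₂ ≫ e.inv ≫ cokernel.π φ := by
            rw [biprod.lift_eq, Preadditive.add_comp]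
            simp [f₁, Category.assoc]
        _ = 0 := by rw [← h0, Category.assoc, Iso.hom_inv_id_assoc, cokernel.condition]
    · rw [biprod.inr_desc_assoc, Category.id_comp]

def cokerComponentIso {A T B D : C} (φ : A ⟶ T) (e : T ≅ B ⊞ D) [IsIso (φ ≫ e.hom ≫ biprod.fst)] :
    cokernel φ ≅ D :=
  haveI := isIso_coker_component φ e
  (asIso (biprod.inr ≫ e.inv ≫ cokernel.π φ)).symm

/-- The cokernel of a map with a zero component. -/
def cokerZeroIso {A B G : C} (f : A ⟶ G) :
    cokernel (biprod.lift (0 : A ⟶ B) f) ≅ B ⊞ cokernel f where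
  hom := cokernel.desc _ (biprod.map (𝟙 B) (cokernel.π f)) (by ext <;> simp)
  inv := biprod.desc (biprod.inl ≫ cokernel.π _) (cokernel.desc f (biprod.inr ≫ cokernel.π _) (by
    rw [← Category.assoc, show f ≫ biprod.inr = biprod.lift (0 : A ⟶ B) f by ext <;> simp, cokernel.condition]))
  hom_inv_id := by
    refine (cancel_epi (cokernel.π _)).1 ?_
    rw [cokernel.π_desc_assoc]
    refine Eq.trans ?_ (Category.comp_id _).symm
    refine biprod.hom_ext' _ _ ?_ ?_ <;> simp
  inv_hom_id := by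
    refine biprod.hom_ext' _ _ ?_ ?_
    · simp
    · rw [← cancel_epi (cokernel.π f)]
      simp

variable {C' : Type*} [Category C'] [Abelian C'] (F : C' ⥤ C) [F.Additive]

/-- Moving a summand to the front. -/
def frontIso (A : C) (L₁ L₂ : C') : A ⊞ F.obj (L₁ ⊞ L₂) ≅ F.obj L₁ ⊞ (A ⊞ F.obj L₂) where
  hom := biprod.lift (biprod.snd ≫ F.map biprod.fst) (biprod.map (𝟙 A) (F.map biprod.snd))
  inv := biprod.desc (F.map biprod.inl ≫ biprod.inr) (biprod.map (𝟙 A) (F.map biprod.inr))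
  hom_inv_id := by
    rw [biprod.lift_desc]
    refine biprod.hom_ext' _ _ ?_ ?_
    · simp
    · simp only [Preadditive.comp_add, biprod.inr_snd_assoc, biprod.inr_map_assoc, biprod.inr_map]
      rw [Category.assoc, biprod.inr_snd_assoc, ← F.map_comp_assoc, ← F.map_comp_assoc, ← Preadditive.add_comp,
        ← F.map_add, biprod.total, F.map_id, Category.id_comp, Category.comp_id]
  inv_hom_id := by
    ext <;> simp [← F.map_comp]

theorem frontIso_fst (A : C) (L₁ L₂ : C') :
    (frontIso F A L₁ L₂).hom ≫ biprod.fst = biprod.snd ≫ F.map biprod.fst := biprod.lift_fst _ _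

end Cat

section CatDesc

variable {C : Type*} [Category C] [Abelian C] {C' : Type*} [Category C'] [Abelian C'] (Q : C' ⥤ C) [Q.Additive]
  [PreservesColimitsOfSize.{0, 0} Q] {A L₁ L₂ N : C'} (a₁ : A ⟶ L₁) (a₂ : A ⟶ L₂) (b₁ : L₁ ⟶ N) (b₂ : L₂ ⟶ N)
  (w : biprod.lift a₁ a₂ ≫ biprod.desc b₁ (-b₂) = 0)

theorem isIso_map_desc_left (ha : IsIso (Q.map a₁)) (hb : IsIso (Q.map b₂)) :
    IsIso (Q.map (cokernel.desc _ _ w)) := by
  haveI := preservesBinaryBiproducts_of_preservesBinaryCoproducts Q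
  let f := biprod.lift a₁ a₂
  let e₀ := Q.mapBiprod L₁ L₂
  let c := PreservesCokernel.iso Q f
  haveI : IsIso (Q.map f ≫ e₀.hom ≫ biprod.fst) := by
    rw [Functor.mapBiprod_hom, biprod.lift_fst, ← Q.map_comp, biprod.lift_fst]
    exact ha
  haveI := isIso_coker_component (Q.map f) e₀
  haveI : IsIso (Q.map (biprod.inr ≫ cokernel.π f)) := by
    have : Q.map (biprod.inr ≫ cokernel.π f) = (biprod.inr ≫ e₀.inv ≫ cokernel.π (Q.map f)) ≫ c.inv := by
      simp [e₀, c, Functor.mapBiprod_inv]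
    rw [this]; infer_instance
  haveI : IsIso (Q.map (biprod.inr ≫ cokernel.π f) ≫ Q.map (cokernel.desc f _ w)) := by
    rw [← Q.map_comp, Category.assoc, cokernel.π_desc, biprod.inr_desc, Q.map_neg]
    exact ⟨-inv (Q.map b₂), by simp, by simp⟩
  exact IsIso.of_isIso_comp_left (Q.map (biprod.inr ≫ cokernel.π f)) _

theorem isIso_map_desc_right (ha : IsIso (Q.map a₂)) (hb : IsIso (Q.map b₁)) :
    IsIso (Q.map (cokernel.desc _ _ w)) := by
  haveI := preservesBinaryBiproducts_of_preservesBinaryCoproducts Q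
  let f := biprod.lift a₁ a₂
  let c := PreservesCokernel.iso Q f
  let e₁ := Q.mapBiprod L₁ L₂ ≪≫ biprod.braiding _ _
  haveI : IsIso (Q.map f ≫ e₁.hom ≫ biprod.fst) := by
    simp only [e₁, Iso.trans_hom, Category.assoc, biprod.braiding_hom, biprod.lift_fst, Functor.mapBiprod_hom,
      biprod.lift_snd]
    rw [← Q.map_comp, biprod.lift_snd]
    exact ha
  haveI := isIso_coker_component (Q.map f) e₁
  haveI : IsIso (Q.map (biprod.inl ≫ cokernel.π f)) := by
    have : Q.map (biprod.inl ≫ cokernel.π f) = (biprod.inr ≫ e₁.inv ≫ cokernel.π (Q.map f)) ≫ c.inv := by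
      simp [e₁, c, Functor.mapBiprod_inv]
    rw [this]; infer_instance
  haveI : IsIso (Q.map (biprod.inl ≫ cokernel.π f) ≫ Q.map (cokernel.desc f _ w)) := by
    rw [← Q.map_comp, Category.assoc, cokernel.π_desc, biprod.inl_desc]
    exact hb
  exact IsIso.of_isIso_comp_left (Q.map (biprod.inl ≫ cokernel.π f)) _

end CatDesc

section Sheaves

variable {X Y : Scheme.{u}}

theorem preservesColim_pb (f : X ⟶ Y) : PreservesColimitsOfSize.{0, 0} (Scheme.Modules.pullback f) :=
  (Scheme.Modules.pullbackPushforwardAdjunction f).leftAdjoint_preservesColimits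

theorem preservesColim_res (f : X ⟶ Y) [IsOpenImmersion f] :
    PreservesColimitsOfSize.{0, 0} (Scheme.Modules.restrictFunctor f) :=
  (Scheme.Modules.restrictAdjunction f).leftAdjoint_preservesColimits

theorem additive_pb (f : X ⟶ Y) : (Scheme.Modules.pullback f).Additive :=
  haveI := preservesColim_pb f
  haveI := preservesBinaryBiproducts_of_preservesBinaryCoproducts (Scheme.Modules.pullback f)
  Functor.additive_of_preservesBinaryBiproducts _

theorem additive_res (f : X ⟶ Y) [IsOpenImmersion f] : (Scheme.Modules.restrictFunctor f).Additive :=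
  haveI := preservesColim_res f
  haveI := preservesBinaryBiproducts_of_preservesBinaryCoproducts (Scheme.Modules.restrictFunctor f)
  Functor.additive_of_preservesBinaryBiproducts _

/-- A morphism invertible on the members of a cover is invertible. -/
theorem isIso_of_cover {M N : X.Modules} (φ : M ⟶ N) {ι : Type*} (U : ι → X.Opens) (hU : ∀ x, ∃ i, x ∈ U i)
    (h : ∀ i, IsIso ((Scheme.Modules.restrictFunctor (U i).ι).map φ)) : IsIso φ := by
  refine FiltSectLib.isIso_of_stalks φ fun x => ?_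
  obtain ⟨i, hi⟩ := hU x
  haveI := h i
  have h1 : IsIso ((Scheme.Modules.toPresheaf X ⋙
      TopCat.Presheaf.stalkFunctor Ab.{u} ((U i).ι ⟨x, hi⟩ : X.toTopCat)).map φ) :=
    (NatIso.isIso_map_iff (Scheme.Modules.restrictStalkNatIso (U i).ι ⟨x, hi⟩) φ).1
      (inferInstanceAs (IsIso ((Scheme.Modules.toPresheaf _ ⋙ TopCat.Presheaf.stalkFunctor Ab.{u} _).map
        ((Scheme.Modules.restrictFunctor (U i).ι).map φ))))
  rw [ConcreteCategory.isIso_iff_bijective]
  have hb := (ConcreteCategory.isIso_iff_bijective _).1 h1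
  exact hb

/-- Invertibility over an open persists after pullback. -/
theorem isIso_pb_restrict (f : X ⟶ Y) (D : Y.Opens) {M N : Y.Modules} (φ : M ⟶ N)
    (h : IsIso ((Scheme.Modules.restrictFunctor D.ι).map φ)) :
    IsIso ((Scheme.Modules.restrictFunctor (f ⁻¹ᵁ D).ι).map ((Scheme.Modules.pullback f).map φ)) := by
  refine (NatIso.isIso_map_iff (Scheme.Modules.restrictFunctorIsoPullback (f ⁻¹ᵁ D).ι) _).2 ?_
  refine (NatIso.isIso_map_iff (Scheme.Modules.pullbackComp (f ⁻¹ᵁ D).ι f) φ).2 ?_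
  refine (NatIso.isIso_map_iff (Scheme.Modules.pullbackCongr (morphismRestrict_ι f D).symm) φ).2 ?_
  refine (NatIso.isIso_map_iff (Scheme.Modules.pullbackComp (f ∣_ D) D.ι).symm φ).2 ?_
  haveI := (NatIso.isIso_map_iff (Scheme.Modules.restrictFunctorIsoPullback D.ι) φ).1 h
  exact inferInstanceAs (IsIso ((Scheme.Modules.pullback (f ∣_ D)).map ((Scheme.Modules.pullback D.ι).map φ)))

/-- Rank is local. -/
theorem rank_of_local {n : ℕ} {F : X.Modules}
    (h : ∀ x : X, ∃ (U : X.Opens) (B : X.Modules), x ∈ U ∧ FlatMod.IsFinLocFreeOfRank n B ∧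
      Nonempty (F.restrict U.ι ≅ B.restrict U.ι)) : FlatMod.IsFinLocFreeOfRank n F := fun x => by
  obtain ⟨U, B, hxU, hB, ⟨e⟩⟩ := h x
  obtain ⟨V, hxV, e'⟩ := hB x
  have h1 := RankLocusLib.freeAlong_comp ((RankLocusLib.freeAlong_restrict_iff B V).2 e')
    (X.homOfLE (inf_le_right : U ⊓ V ≤ V))
  rw [Scheme.homOfLE_ι, ← Scheme.homOfLE_ι X (inf_le_left : U ⊓ V ≤ U)] at h1
  have h2 := (RankLocusLib.freeAlong_pullback_iff U.ι (X.homOfLE (inf_le_left : U ⊓ V ≤ U))).2 h1
  have t : (Scheme.Modules.pullback U.ι).obj F ≅ (Scheme.Modules.pullback U.ι).obj B :=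
    ((Scheme.Modules.restrictFunctorIsoPullback U.ι).app F).symm ≪≫ e ≪≫
      (Scheme.Modules.restrictFunctorIsoPullback U.ι).app B
  have h3 : RankLocusLib.FreeAlong n ((Scheme.Modules.pullback U.ι).obj F) (X.homOfLE (inf_le_left : U ⊓ V ≤ U)) :=
    h2.map fun i => (Scheme.Modules.pullback _).mapIso t ≪≫ i
  have h4 := (RankLocusLib.freeAlong_pullback_iff _ _).1 h3
  rw [Scheme.homOfLE_ι] at h4
  exact ⟨U ⊓ V, ⟨hxU, hxV⟩, (RankLocusLib.freeAlong_restrict_iff F _).1 h4⟩

end Sheaves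

section Line

abbrev R₀ : Type u := ULift.{u} ℤ

abbrev Z : Scheme.{u} := CohB1.ProjSpace 1 R₀.{u}

abbrev O (d : ℤ) : Z.{u}.Modules := Twist.twistProjSpace 1 R₀.{u} d

abbrev D (j : Fin 2) : Z.{u}.Opens := QCohLib.stdOpen 1 R₀.{u} j

theorem mem_D (z : Z.{u}) : ∃ j, z ∈ D.{u} j := by
  refine Opens.mem_iSup.1 ?_
  rw [QCohLib.iSup_stdOpen]
  trivial

def xj (j : Fin 2) (m : ℕ) : ↥(CohB1.polyGrading 1 R₀.{u} m) :=
  ⟨MvPolynomial.X j ^ m, by simpa using SetLike.pow_mem_graded m (GradedCechLib.X_mem 1 R₀.{u} j)⟩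

theorem bijective_mulHomX (j : Fin 2) (m : ℕ) {p q : ℤ} (hq : p + m = q) {V : Z.{u}.Opens} (hV : V ≤ D j) :
    Function.Bijective ((EulerPnLib.mulHomX (xj.{u} j m) hq).app V) := by
  have hnin : ∀ x : V, (MvPolynomial.X j : GradedCechLib.Poly 1 R₀.{u}) ^ m ∉ x.1.asHomogeneousIdeal :=
    fun x h => hV x.2 (x.1.isPrime.mem_of_pow_mem m h)
  have hu : ∀ x : V, Localization.mk 1 ⟨_, hnin x⟩ *
      algebraMap (GradedCechLib.Poly 1 R₀.{u}) (Twist.Loc (CohB1.polyGrading 1 R₀.{u}) x.1) (MvPolynomial.X j ^ m) = 1 := by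
    intro x
    rw [← Localization.mk_one_eq_algebraMap, Localization.mk_mul, one_mul, mul_one]
    exact Localization.mk_self ⟨_, hnin x⟩
  refine ⟨fun t t' h => TwistLib.sec_ext (V := V) fun x => ?_, fun t => ?_⟩
  · have h' := congrArg (fun s => Localization.mk 1 ⟨_, hnin x⟩ * TwistLib.val (V := V) s x) h
    simp only [EulerPnLib.val_mulHomX] at h'
    rw [← mul_assoc, ← mul_assoc] at h'
    change (Localization.mk 1 ⟨_, hnin x⟩ * algebraMap _ _ (MvPolynomial.X j ^ m)) * TwistLib.val t x =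
      (Localization.mk 1 ⟨_, hnin x⟩ * algebraMap _ _ (MvPolynomial.X j ^ m)) * TwistLib.val t' x at h'
    rw [hu x, one_mul, one_mul] at h'
    exact h'
  · refine ⟨EulerPnLib.secOf (fun x => Localization.mk 1 ⟨_, hnin x⟩ * TwistLib.val (V := V) t x) fun x => ?_,
      TwistLib.sec_ext (V := V) fun x => ?_⟩
    · obtain ⟨W, hxW, hW, a, b, u, v, hu', hv', hnin', hd, hval⟩ := TwistLib.val_exists (V := V) t x
      refine ⟨W, hxW, hW, a, m + b, u, MvPolynomial.X j ^ m * v, hu',
        SetLike.mul_mem_graded (xj.{u} j m).2 hv',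
        fun y h => (y.1.isPrime.mem_or_mem h).elim (hnin ⟨y.1, hW y.2⟩) (hnin' y), ?_, fun y => ?_⟩
      · rcases hd with hd | hd
        · exact Or.inl (by push_cast; omega)
        · exact Or.inr hd
      · rw [hval y, Localization.mk_mul, one_mul]
        rfl
    · rw [EulerPnLib.val_mulHomX]
      show _ * (Localization.mk 1 ⟨_, hnin x⟩ * _) = _
      rw [← mul_assoc, mul_comm (algebraMap _ _ _)]
      show Localization.mk 1 ⟨_, hnin x⟩ * algebraMap _ _ (MvPolynomial.X j ^ m) * _ = _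
      rw [hu x, one_mul]

theorem isIso_mulHomX (j : Fin 2) (m : ℕ) {p q : ℤ} (hq : p + m = q) :
    IsIso ((Scheme.Modules.restrictFunctor (D.{u} j).ι).map (EulerPnLib.mulHomX (xj.{u} j m) hq)) :=
  DiscExtLib.isIso_restrict_of_bijective _ fun _ hV => bijective_mulHomX j m hq hV

theorem mulHomX_comm {d d' : ℕ} (g : ↥(CohB1.polyGrading 1 R₀.{u} d)) (g' : ↥(CohB1.polyGrading 1 R₀.{u} d'))
    {p q q' r : ℤ} (h₁ : p + d = q) (h₂ : q + d' = r) (h₃ : p + d' = q') (h₄ : q' + d = r) :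
    EulerPnLib.mulHomX g h₁ ≫ EulerPnLib.mulHomX g' h₂ = EulerPnLib.mulHomX g' h₃ ≫ EulerPnLib.mulHomX g h₄ := by
  refine Scheme.Modules.hom_ext _ _ fun U => ConcreteCategory.hom_ext _ _ fun t => ?_
  refine TwistLib.sec_ext (V := U) fun x => ?_
  show TwistLib.val ((EulerPnLib.mulHomX g' h₂).app U ((EulerPnLib.mulHomX g h₁).app U t)) x =
    TwistLib.val ((EulerPnLib.mulHomX g h₄).app U ((EulerPnLib.mulHomX g' h₃).app U t)) x
  rw [EulerPnLib.val_mulHomX, EulerPnLib.val_mulHomX, EulerPnLib.val_mulHomX, EulerPnLib.val_mulHomX]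
  exact mul_left_comm _ _ _

variable (i : ℕ)

abbrev AA : Z.{u}.Modules := O (-((i : ℤ) + 1))

def f₁ : AA.{u} i ⟶ O.{u} i := EulerPnLib.mulHomX (xj 0 (2 * i + 1)) (by push_cast; ring)

def f₂ : AA.{u} i ⟶ O.{u} (-(i : ℤ)) := EulerPnLib.mulHomX (xj 1 1) (by push_cast; ring)

def ff : AA.{u} i ⟶ O.{u} i ⊞ O.{u} (-(i : ℤ)) := biprod.lift (f₁ i) (f₂ i)

def g₁ : O.{u} i ⟶ O.{u} ((i : ℤ) + 1) := EulerPnLib.mulHomX (xj 1 1) (by push_cast; ring)

def g₂ : O.{u} (-(i : ℤ)) ⟶ O.{u} ((i : ℤ) + 1) := EulerPnLib.mulHomX (xj 0 (2 * i + 1)) (by push_cast; ring)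

theorem ff_gg : ff.{u} i ≫ biprod.desc (g₁ i) (-g₂ i) = 0 := by
  rw [ff, biprod.lift_desc, Preadditive.comp_neg, ← sub_eq_add_neg, sub_eq_zero]
  exact mulHomX_comm _ _ _ _ _ _

theorem isIso_f₁ : IsIso ((Scheme.Modules.restrictFunctor (D.{u} 0).ι).map (f₁.{u} i)) := isIso_mulHomX 0 _ _

theorem isIso_f₂ : IsIso ((Scheme.Modules.restrictFunctor (D.{u} 1).ι).map (f₂.{u} i)) := isIso_mulHomX 1 _ _

theorem isIso_g₁ : IsIso ((Scheme.Modules.restrictFunctor (D.{u} 1).ι).map (g₁.{u} i)) := isIso_mulHomX 1 _ _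

theorem isIso_g₂ : IsIso ((Scheme.Modules.restrictFunctor (D.{u} 0).ι).map (g₂.{u} i)) := isIso_mulHomX 0 _ _

theorem cases_two {motive : Fin 2 → Prop} (h0 : motive 0) (h1 : motive 1) (j : Fin 2) : motive j :=
  Fin.forall_fin_two.2 ⟨h0, h1⟩ j

/-- The cokernel of `(x^{2i+1}, y)`. -/
theorem isIso_desc : IsIso (cokernel.desc (ff.{u} i) _ (ff_gg i)) :=
  isIso_of_cover _ D mem_D (cases_two
    (haveI := preservesColim_res (D.{u} 0).ι
     haveI := additive_res (D.{u} 0).ι
     isIso_map_desc_left (Scheme.Modules.restrictFunctor (D.{u} 0).ι) (f₁ i) (f₂ i) (g₁ i) (g₂ i) (ff_gg i)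
      (isIso_f₁ i) (isIso_g₂ i))
    (haveI := preservesColim_res (D.{u} 1).ι
     haveI := additive_res (D.{u} 1).ι
     isIso_map_desc_right (Scheme.Modules.restrictFunctor (D.{u} 1).ι) (f₁ i) (f₂ i) (g₁ i) (g₂ i) (ff_gg i)
      (isIso_f₂ i) (isIso_g₁ i)))

end Line

section Family

variable (k : Type u) [Field k] (i : ℕ)

open Polynomial in
abbrev P : Scheme.{u} := CohB1.ProjSpaceOver 1 (Spec (CommRingCat.of k[X]))

open Polynomial in
abbrev pr : P k ⟶ Z.{u} := pullback.fst _ _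

open Polynomial in
def tt : Γ(P k, ⊤) :=
  (pullback.snd (CohB1.ProjSpace.toSpec 1 R₀.{u}) (specULiftZIsTerminal.from (Spec (CommRingCat.of k[X])))).appTop
    ((Scheme.ΓSpecIso (CommRingCat.of k[X])).inv Polynomial.X)

abbrev A' : (P k).Modules := (Scheme.Modules.pullback (pr k)).obj (AA i)

abbrev G' : (P k).Modules := (Scheme.Modules.pullback (pr k)).obj (O i ⊞ O (-(i : ℤ)))

def φ : A' k i ⟶ A' k i ⊞ G' k i :=
  biprod.lift (StabLib.smulHom (A' k i) (tt k)) ((Scheme.Modules.pullback (pr k)).map (ff i))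

theorem rank_F : FlatMod.IsFinLocFreeOfRank 2 (cokernel (φ k i)) := by
  haveI := additive_pb (pr k)
  refine rank_of_local fun x => ?_
  obtain ⟨j, hj⟩ := mem_D (pr k x)
  let V := pr k ⁻¹ᵁ D j
  let Q := Scheme.Modules.restrictFunctor V.ι
  let p := Scheme.Modules.pullback (pr k)
  haveI := preservesColim_res V.ι
  haveI := additive_res V.ι
  haveI := preservesBinaryBiproducts_of_preservesBinaryCoproducts Q
  have inv' : ∀ d : ℤ, FlatMod.IsFinLocFreeOfRank 1 (p.obj (O.{u} d)) := fun d =>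
    (ParaFDescLib.invertible_iff_rankOne _).1 (AmpleDevLib.isInvertible_pb _ (PicPnLib.twist_inv 1 _ d))
  fin_cases j
  · let e := Q.mapIso (frontIso p (A' k i) (O.{u} i) (O.{u} (-(i : ℤ)))) ≪≫ Q.mapBiprod _ _
    haveI : IsIso (Q.map (φ k i) ≫ e.hom ≫ biprod.fst) := by
      simp only [e, Iso.trans_hom, Functor.mapIso_hom, Category.assoc, Functor.mapBiprod_hom, biprod.lift_fst]
      rw [← Q.map_comp, ← Q.map_comp, frontIso_fst, φ, biprod.lift_snd_assoc, ← p.map_comp, ff, biprod.lift_fst]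
      exact isIso_pb_restrict (pr k) (D 0) _ (isIso_mulHomX 0 _ _)
    exact ⟨V, A' k i ⊞ p.obj (O.{u} (-(i : ℤ))), hj, ProjRecLib.rank_two_biprod (inv' _) (inv' _),
      ⟨PreservesCokernel.iso Q (φ k i) ≪≫ cokerComponentIso _ e⟩⟩
  · let e := Q.mapIso (biprod.mapIso (Iso.refl (A' k i)) (p.mapIso (biprod.braiding (O.{u} i) (O.{u} (-(i : ℤ))))) ≪≫
      frontIso p (A' k i) (O.{u} (-(i : ℤ))) (O.{u} i)) ≪≫ Q.mapBiprod _ _
    haveI : IsIso (Q.map (φ k i) ≫ e.hom ≫ biprod.fst) := by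
      simp only [e, Iso.trans_hom, Functor.mapIso_hom, Category.assoc, Functor.mapBiprod_hom, biprod.lift_fst]
      rw [← Q.map_comp, ← Q.map_comp, Category.assoc, frontIso_fst, φ, biprod.mapIso_hom, biprod.map_snd_assoc,
        biprod.lift_snd_assoc, Functor.mapIso_hom, ← p.map_comp, ← p.map_comp, biprod.braiding_hom,
        biprod.lift_fst, ff, biprod.lift_snd]
      exact isIso_pb_restrict (pr k) (D 1) _ (isIso_mulHomX 1 _ _)
    exact ⟨V, A' k i ⊞ p.obj (O.{u} i), hj, ProjRecLib.rank_two_biprod (inv' _) (inv' _),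
      ⟨PreservesCokernel.iso Q (φ k i) ≪≫ cokerComponentIso _ e⟩⟩

open Polynomial in
theorem fibre_iso (a : k)
    (ι : CohB1.ProjSpaceOver 1 (Spec (CommRingCat.of k)) ⟶ P k) (h1 : ι ≫ pr k = pullback.fst _ _)
    (h2 : ι ≫ pullback.snd _ _ = pullback.snd _ _ ≫ Spec.map (CommRingCat.ofHom (Polynomial.evalRingHom a))) :
    (a = 0 → Nonempty ((Scheme.Modules.pullback ι).obj (cokernel (φ k i)) ≅
        Twist.twistOver 1 (Spec (CommRingCat.of k)) ((i : ℤ) + 1) ⊞
          Twist.twistOver 1 (Spec (CommRingCat.of k)) (-((i : ℤ) + 1)))) ∧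
      (a ≠ 0 → Nonempty ((Scheme.Modules.pullback ι).obj (cokernel (φ k i)) ≅
        Twist.twistOver 1 (Spec (CommRingCat.of k)) (i : ℤ) ⊞
          Twist.twistOver 1 (Spec (CommRingCat.of k)) (-(i : ℤ)))) := by
  let Q := Scheme.Modules.pullback ι
  let p := Scheme.Modules.pullback (pr k)
  let pk := Scheme.Modules.pullback
    (pullback.fst (CohB1.ProjSpace.toSpec 1 R₀.{u}) (specULiftZIsTerminal.from (Spec (CommRingCat.of k))))
  haveI := preservesColim_pb ι
  haveI := preservesColim_pb (pr k)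
  haveI := preservesColim_pb
    (pullback.fst (CohB1.ProjSpace.toSpec 1 R₀.{u}) (specULiftZIsTerminal.from (Spec (CommRingCat.of k))))
  haveI := additive_pb ι
  haveI := preservesBinaryBiproducts_of_preservesBinaryCoproducts Q
  haveI := preservesBinaryBiproducts_of_preservesBinaryCoproducts pk
  let η : p ⋙ Q ≅ pk := Scheme.Modules.pullbackComp ι (pr k) ≪≫ Scheme.Modules.pullbackCongr h1
  let e := Q.mapBiprod (A' k i) (G' k i)
  have ht : ι.appTop (tt k) = (pullback.snd (CohB1.ProjSpace.toSpec 1 R₀.{u})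
      (specULiftZIsTerminal.from (Spec (CommRingCat.of k)))).appTop ((Scheme.ΓSpecIso (CommRingCat.of k)).inv a) := by
    rw [tt]
    refine (ConcreteCategory.congr_hom (congrArg Scheme.Hom.appTop h2) _).trans ?_
    rw [Scheme.Hom.comp_appTop, ConcreteCategory.comp_apply]
    refine congrArg _ ?_
    have := ConcreteCategory.congr_hom
      (Scheme.ΓSpecIso_inv_naturality (CommRingCat.ofHom (Polynomial.evalRingHom a))) Polynomial.X
    refine this.symm.trans ?_
    show (Scheme.ΓSpecIso (CommRingCat.of k)).inv (Polynomial.evalRingHom a Polynomial.X) = _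
    rw [Polynomial.coe_evalRingHom, Polynomial.eval_X]
  have hs : Q.map (StabLib.smulHom (A' k i) (tt k)) = StabLib.smulHom _ (ι.appTop (tt k)) :=
    AVThetaLib.pullback_map_smulHom ι _ _
  constructor
  · intro ha
    have h0 : Q.map (φ k i) ≫ e.hom = biprod.lift 0 (Q.map (p.map (ff i))) := by
      refine biprod.hom_ext _ _ ?_ ?_
      · rw [Category.assoc, Functor.mapBiprod_hom, biprod.lift_fst, ← Q.map_comp, φ, biprod.lift_fst, hs, ht, ha,
          map_zero, map_zero, biprod.lift_fst]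
        refine Scheme.Modules.hom_ext _ _ fun U => ConcreteCategory.hom_ext _ _ fun m => ?_
        refine (StabLib.smulHom_app _ _ U m).trans ?_
        rw [map_zero, zero_smul]
        rfl
      · rw [Category.assoc, Functor.mapBiprod_hom, biprod.lift_snd, ← Q.map_comp, φ, biprod.lift_snd, biprod.lift_snd]
    haveI := isIso_desc.{u} i
    exact ⟨PreservesCokernel.iso Q (φ k i) ≪≫ (cokernelCompIsIso _ e.hom).symm ≪≫
      cokernelIsoOfEq h0 ≪≫ cokerZeroIso _ ≪≫
      biprod.mapIso (η.app _) ((PreservesCokernel.iso Q (p.map (ff i))).symm ≪≫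
        Q.mapIso ((PreservesCokernel.iso p (ff i)).symm ≪≫ p.mapIso (asIso (cokernel.desc (ff i) _ (ff_gg i)))) ≪≫
        η.app _) ≪≫ biprod.braiding _ _⟩
  · intro ha
    haveI : IsIso (Q.map (φ k i) ≫ e.hom ≫ biprod.fst) := by
      rw [Functor.mapBiprod_hom, biprod.lift_fst, ← Q.map_comp, φ, biprod.lift_fst, hs, ht]
      let c (z : k) := (pullback.snd (CohB1.ProjSpace.toSpec 1 R₀.{u})
        (specULiftZIsTerminal.from (Spec (CommRingCat.of k)))).appTop ((Scheme.ΓSpecIso (CommRingCat.of k)).inv z)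
      have hc : ∀ y z : k, y * z = 1 →
          StabLib.smulHom (Q.obj (A' k i)) (c y) ≫ StabLib.smulHom _ (c z) = 𝟙 _ := by
        intro y z hyz
        rw [AVThetaLib.smulHom_mul, show c z * c y = 1 by
          rw [← map_mul, ← map_mul, mul_comm, hyz, map_one, map_one]]
        exact AVThetaLib.smulHom_one _
      exact ⟨StabLib.smulHom _ (c a⁻¹), hc _ _ (mul_inv_cancel₀ ha), hc _ _ (inv_mul_cancel₀ ha)⟩
    exact ⟨PreservesCokernel.iso Q (φ k i) ≪≫ cokerComponentIso _ e ≪≫ η.app _ ≪≫ pk.mapBiprod _ _⟩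

end Family

end Aux


/-- Let k be an algebraically closed field of characteristic zero and i ≥ 0. On the projective line P
over the affine line Spec k[t] (that is A^1 × P^1 over k) there is a finite locally free module F of
rank 2 whose restriction to the fibre over t = 0 is isomorphic to O(i+1) ⊕ O(−i−1) and whose
restriction to the fibre over every k-point t = a with a ≠ 0 is isomorphic to O(i) ⊕ O(−i). Fibres
are the copies of P^1_k mapped into P by the k-algebra maps k[t] → k, t ↦ a; in particular the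
isomorphism type of the fibres of a vector bundle in a family can jump at a special point. -/
theorem result (k : Type u) [Field k] [IsAlgClosed k] [CharZero k]
    (i : ℕ) :
    ∃ F : (CohB1.ProjSpaceOver 1 (Spec (CommRingCat.of k[X]))).Modules,
      FlatMod.IsFinLocFreeOfRank 2 F ∧
      (∀ a : k,
        letI ι : CohB1.ProjSpaceOver 1 (Spec (CommRingCat.of k)) ⟶ CohB1.ProjSpaceOver 1 (Spec (CommRingCat.of k[X])) :=
          pullback.lift (pullback.fst _ _)
            (pullback.snd _ _ ≫ Spec.map (CommRingCat.ofHom (Polynomial.evalRingHom a)))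
            (specULiftZIsTerminal.hom_ext _ _)
        (a = 0 → Nonempty ((Scheme.Modules.pullback ι).obj F ≅
            Twist.twistOver 1 (Spec (CommRingCat.of k)) ((i : ℤ) + 1) ⊞
              Twist.twistOver 1 (Spec (CommRingCat.of k)) (-((i : ℤ) + 1)))) ∧
        (a ≠ 0 → Nonempty ((Scheme.Modules.pullback ι).obj F ≅
            Twist.twistOver 1 (Spec (CommRingCat.of k)) (i : ℤ) ⊞
              Twist.twistOver 1 (Spec (CommRingCat.of k)) (-(i : ℤ))))) := by
  refine ⟨cokernel (φ k i), rank_F k i, fun a => ?_⟩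
  exact fibre_iso k i a _ (pullback.lift_fst _ _ _) (pullback.lift_snd _ _ _)

end Groth.Agent.S18835
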