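import Groth.Statements.S18836
import Mathlib
import Groth.Agent.QuotSchLib.DvrExt
import Groth.Agent.PnCohLib.Syz
-- import your own Groth.Agent.* helpers here

set_option autoImplicit false
universe u
open CategoryTheory CategoryTheory.Limits AlgebraicGeometry
open FGA

namespace Groth.Agent.S18836

/-- Let k be an algebraically closed field of characteristic zero, X a projective k-scheme (proper over
k, carrying an ample invertible sheaf), R a discrete valuation ring containing k with fraction field
K, X_R = X ×_k Spec R and X_K = X_R ×_(Spec R) Spec K with j : X_K → X_R the canonical open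
immersion. If F is a coherent module on X_K which is a quotient of O^N, then there is a coherent
module F' on X_R, flat over Spec R and again a quotient of O^N, whose restriction j^*F' to X_K is
isomorphic to F. (The Hilbert polynomial of the closed fibre of F' then equals that of F by
flatness; that clause is not restated.) The published statement is for a valuation ring R containing
k; its argument uses a uniformiser, and this row takes R a discrete valuation ring. The row asserts
only the existence of an isomorphism j^*F' ≅ F, not its compatibility with the two quotient maps. -/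
theorem result (k : Type u) [Field k] [IsAlgClosed k] [CharZero k]
    (X : Scheme.{u}) [X.Over (Spec (CommRingCat.of k))] [IsProper (X ↘ Spec (CommRingCat.of k))]
    (L : X.Modules) (hLi : PicF.IsInvertible L) (hL : CohB1.IsAmple L)
    (R : Type u) [CommRing R] [IsDomain R] [IsDiscreteValuationRing R] [Algebra k R]
    (N : ℕ)
    (F : (pullback (pullback.snd (X ↘ Spec (CommRingCat.of k))
              (Spec.map (CommRingCat.ofHom (algebraMap k R))))
            (Spec.map (CommRingCat.ofHom (algebraMap R (FractionRing R))))).Modules)
    (hF : Coh.IsCoh F)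
    (q : FlatMod.freeMod _ N ⟶ F) (hq : Epi q) :
    ∃ (F' : (pullback (X ↘ Spec (CommRingCat.of k)) (Spec.map (CommRingCat.ofHom (algebraMap k R)))).Modules)
      (q' : FlatMod.freeMod _ N ⟶ F'),
      Coh.IsCoh F' ∧ Epi q' ∧
      FlatMod.IsFlatOver (pullback.snd (X ↘ Spec (CommRingCat.of k))
          (Spec.map (CommRingCat.ofHom (algebraMap k R)))) F' ∧
      Nonempty ((Scheme.Modules.pullback
          (pullback.fst (pullback.snd (X ↘ Spec (CommRingCat.of k))
              (Spec.map (CommRingCat.ofHom (algebraMap k R))))
            (Spec.map (CommRingCat.ofHom (algebraMap R (FractionRing R)))))).obj F' ≅ F) := by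
  let σR := Spec.map (CommRingCat.ofHom (algebraMap k R))
  let p := pullback.snd (X ↘ Spec (CommRingCat.of k)) σR
  haveI : IsLocallyNoetherian (pullback (X ↘ Spec (CommRingCat.of k)) σR) :=
    LocallyOfFiniteType.isLocallyNoetherian p
  let j := pullback.fst p (Spec.map (CommRingCat.ofHom (algebraMap R (FractionRing R))))
  haveI := hq
  haveI : Epi ((KFlatLib.pullFreeIso j N).hom ≫ q) := epi_comp _ _
  have hfree : Coh.IsCoh (FlatMod.freeMod (pullback (X ↘ Spec (CommRingCat.of k)) σR) N) :=
    ⟨CurvLib.isQCoh_freeMod _ N, CurvLib.isFT_freeMod _ N⟩
  obtain ⟨F', φ, e, hF', hφ, hfl, -⟩ := QuotSchLib.exists_flat_extension p (IsPullback.of_hasPullback _ _)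
    hfree hF.1 ((KFlatLib.pullFreeIso j N).hom ≫ q)
  exact ⟨F', φ, hF', hφ, hfl, ⟨e⟩⟩

end Groth.Agent.S18836
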