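import Groth.Statements.S18838
import Groth.Agent.DefTruncLib.Basic

set_option autoImplicit false
set_option linter.style.haveILetI false
set_option maxHeartbeats 1000000
universe u
open Polynomial TensorProduct
open Deform

namespace Groth.Agent.S18838

/-- Let k be an algebraically closed field of characteristic zero, n ≥ 1, D = k[X]/(X^(n+1)) (given with
a k-algebra isomorphism e identifying the class of X with τ ∈ D), and B a finitely generated
k-algebra which is a flat D-algebra such that B/tB is smooth over k, where t is the image of τ in B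
(an affine open of a flat deformation of a smooth k-scheme over Spec D); put B' = B/t^nB. The map μ
: B → B' × (B' ⊗_B Ω_(B/k)) sending f to (f mod t^n, 1 ⊗ df) is injective, and its image consists
exactly of the pairs (g, α) with dg = r(α) in Ω_(B'/k), r being the canonical map B' ⊗_B Ω_(B/k) →
Ω_(B'/k). Injectivity uses that n is invertible in k. The source works with a flat proper family
over Spec D with smooth central fibre; the statement is local and is given here on an affine open. -/
theorem result (k : Type u) [Field k] [IsAlgClosed k] [CharZero k] (n : ℕ) (hn : 1 ≤ n)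
    (D : Type u) [CommRing D] [Algebra k D] (τ : D)
    (e : (k[X] ⧸ Ideal.span {(X : k[X]) ^ (n + 1)}) ≃ₐ[k] D)
    (he : e (Ideal.Quotient.mk (Ideal.span {(X : k[X]) ^ (n + 1)}) X) = τ)
    (B : Type u) [CommRing B] [Algebra k B] [Algebra D B] [IsScalarTower k D B]
    [Algebra.FiniteType k B] [Module.Flat D B]
    (t : B) (ht : t = algebraMap D B τ) (hsm : Algebra.Smooth k (B ⧸ Ideal.span {t})) :
    Function.Injective (fun f : B =>
      ((Ideal.Quotient.mk (Ideal.span {t ^ n}) f,
        (1 : (B ⧸ Ideal.span {t ^ n})) ⊗ₜ[B] KaehlerDifferential.D k B f) : (B ⧸ Ideal.span {t ^ n}) × ((B ⧸ Ideal.span {t ^ n}) ⊗[B] Ω[B⁄k]))) ∧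
    Set.range (fun f : B =>
      ((Ideal.Quotient.mk (Ideal.span {t ^ n}) f,
        (1 : (B ⧸ Ideal.span {t ^ n})) ⊗ₜ[B] KaehlerDifferential.D k B f) : (B ⧸ Ideal.span {t ^ n}) × ((B ⧸ Ideal.span {t ^ n}) ⊗[B] Ω[B⁄k]))) =
      {p | KaehlerDifferential.D k (B ⧸ Ideal.span {t ^ n}) p.1 = KaehlerDifferential.mapBaseChange k B (B ⧸ Ideal.span {t ^ n}) p.2} := by
  have hD := DefTruncLib.isTrunc_of_equiv τ e he
  haveI := DefTruncLib.formallySmooth hD ht hsm
  obtain ⟨m, rfl⟩ : ∃ m, n = m + 1 := ⟨n - 1, by omega⟩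
  set B' := B ⧸ Ideal.span {t ^ (m + 1)}
  have hI : ∀ g : B, (Ideal.Quotient.mk (Ideal.span {t ^ (m + 1)}) (t ^ (m + 1) * g)) = 0 := fun g =>
    Ideal.Quotient.eq_zero_iff_mem.2 (Ideal.mul_mem_right _ _ (Ideal.mem_span_singleton_self _))
  have key : ∀ g : B, ((1 : B') ⊗ₜ[B] KaehlerDifferential.D k B (t ^ (m + 1) * g)) =
      (Ideal.Quotient.mk (Ideal.span {t ^ (m + 1)}) ((m + 1 : B) * t ^ m * g)) • DefTruncLib.dt k (m + 1) t := by
    intro g
    rw [Derivation.leibniz, Derivation.leibniz_pow, Nat.add_sub_cancel, TensorProduct.tmul_add,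
      ← TensorProduct.smul_tmul (t ^ (m + 1)), Algebra.smul_def, mul_one,
      Ideal.Quotient.algebraMap_eq, Ideal.Quotient.eq_zero_iff_mem.2 (Ideal.mem_span_singleton_self _),
      TensorProduct.zero_tmul, zero_add, ← Nat.cast_smul_eq_nsmul B, smul_smul, smul_smul,
      TensorProduct.tmul_smul, ← Ideal.Quotient.algebraMap_eq, algebraMap_smul, Nat.cast_add, Nat.cast_one]
    congr 1
    ring
  constructor
  · intro f f' h
    simp only [Prod.mk.injEq] at h
    obtain ⟨g, hg⟩ := Ideal.mem_span_singleton.1 (Ideal.Quotient.eq.1 h.1)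
    have h2 : ((1 : B') ⊗ₜ[B] KaehlerDifferential.D k B (f - f')) = 0 := by
      rw [map_sub, TensorProduct.tmul_sub, h.2, sub_self]
    rw [hg, key] at h2
    obtain ⟨a, ha⟩ := Ideal.mem_span_singleton.1 (DefTruncLib.mem_span_of_smul_dt hD ht h2)
    obtain ⟨v, hv⟩ := DefTruncLib.isUnit_natCast (k := k) (B := B) (m + 1) (Nat.succ_ne_zero m)
    push_cast at hv
    have h3 : ((m + 1 : B)) * (t ^ (m + 1) * g) = 0 := by
      have h4 : ((m + 1 : B)) * (t ^ (m + 1) * g) = t ^ (m + 1 + 1) * a := by
        linear_combination t * ha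
      rw [h4, DefTruncLib.pow_succ_eq_zero hD ht, zero_mul]
    rw [← hv, Units.mul_right_eq_zero] at h3
    exact sub_eq_zero.1 (hg.trans h3)
  · ext ⟨b, w⟩
    simp only [Set.mem_range, Set.mem_setOf_eq, Prod.mk.injEq]
    constructor
    · rintro ⟨f, rfl, rfl⟩
      rw [KaehlerDifferential.mapBaseChange_tmul, one_smul, KaehlerDifferential.map_D]
      rfl
    · intro h
      obtain ⟨f, rfl⟩ := Ideal.Quotient.mk_surjective b
      obtain ⟨g, hg⟩ := DefTruncLib.mem_ker_mapBaseChange (w - (1 : B') ⊗ₜ KaehlerDifferential.D k B f) (by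
        rw [map_sub, ← h, KaehlerDifferential.mapBaseChange_tmul, one_smul, KaehlerDifferential.map_D]
        exact sub_self _)
      exact ⟨f + t ^ (m + 1) * g, by rw [map_add, hI, add_zero],
        by rw [map_add, TensorProduct.tmul_add, ← hg, add_sub_cancel]⟩

end Groth.Agent.S18838
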