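import Groth.Statements.S18839
import Groth.Agent.DefTruncLib.Basic

set_option autoImplicit false
set_option linter.style.haveILetI false
set_option maxHeartbeats 1000000
universe u
open Polynomial TensorProduct
open Deform

namespace Groth.Agent.S18839

/-- Let k be an algebraically closed field of characteristic zero, n ≥ 1, D = k[X]/(X^(n+1)) (given with
a k-algebra isomorphism e identifying the class of X with τ ∈ D), and B a finitely generated
k-algebra which is a flat D-algebra such that B/tB is smooth over k, where t is the image of τ in B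
(an affine open of a flat deformation of a smooth k-scheme over Spec D); put B' = B/t^nB. The map ν
: Ω_(B/k) → Ω_(B/D) × (B' ⊗_B Ω_(B/k)), η ↦ (η relative to D, 1 ⊗ η), is injective, and its image
consists exactly of the pairs (α, β) with the same image in Ω_(B'/D) under the canonical maps
Ω_(B/D) → Ω_(B'/D) and B' ⊗_B Ω_(B/k) → Ω_(B'/k) → Ω_(B'/D). Injectivity uses that n + 1 is
invertible in k (so that t^n dt = 0 in Ω_(B/k)). The source works with a flat proper family over
Spec D with smooth central fibre; the statement is local and is given here on an affine open. -/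
theorem result (k : Type u) [Field k] [IsAlgClosed k] [CharZero k] (n : ℕ) (hn : 1 ≤ n)
    (D : Type u) [CommRing D] [Algebra k D] (τ : D)
    (e : (k[X] ⧸ Ideal.span {(X : k[X]) ^ (n + 1)}) ≃ₐ[k] D)
    (he : e (Ideal.Quotient.mk (Ideal.span {(X : k[X]) ^ (n + 1)}) X) = τ)
    (B : Type u) [CommRing B] [Algebra k B] [Algebra D B] [IsScalarTower k D B]
    [Algebra.FiniteType k B] [Module.Flat D B]
    (t : B) (ht : t = algebraMap D B τ) (hsm : Algebra.Smooth k (B ⧸ Ideal.span {t})) :
    Function.Injective (fun η : Ω[B⁄k] =>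
      ((KaehlerDifferential.map k D B B η, (1 : (B ⧸ Ideal.span {t ^ n})) ⊗ₜ[B] η) : Ω[B⁄D] × ((B ⧸ Ideal.span {t ^ n}) ⊗[B] Ω[B⁄k]))) ∧
    Set.range (fun η : Ω[B⁄k] =>
      ((KaehlerDifferential.map k D B B η, (1 : (B ⧸ Ideal.span {t ^ n})) ⊗ₜ[B] η) : Ω[B⁄D] × ((B ⧸ Ideal.span {t ^ n}) ⊗[B] Ω[B⁄k]))) =
      {p | KaehlerDifferential.map D D B (B ⧸ Ideal.span {t ^ n}) p.1 =
        KaehlerDifferential.map k D (B ⧸ Ideal.span {t ^ n}) (B ⧸ Ideal.span {t ^ n}) (KaehlerDifferential.mapBaseChange k B (B ⧸ Ideal.span {t ^ n}) p.2)} := by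
  have hD := DefTruncLib.isTrunc_of_equiv τ e he
  haveI := DefTruncLib.formallySmooth hD ht hsm
  set B' := B ⧸ Ideal.span {t ^ n}
  have hker := DefTruncLib.ker_map_eq (B := B) hD ht
  have hsq : ∀ w : B' ⊗[B] Ω[B⁄k],
      KaehlerDifferential.map k D B' B' (KaehlerDifferential.mapBaseChange k B B' w) =
        KaehlerDifferential.mapBaseChange D B B' (LinearMap.baseChange B' (KaehlerDifferential.map k D B B) w) := by
    intro w
    induction w using TensorProduct.induction_on with
    | zero => simp only [map_zero]
    | add x y hx hy => simp only [map_add, hx, hy]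
    | tmul c η =>
      rw [LinearMap.baseChange_tmul, KaehlerDifferential.mapBaseChange_tmul, KaehlerDifferential.mapBaseChange_tmul,
        map_smul]
      congr 1
      have hw : η ∈ Submodule.span B (Set.range (KaehlerDifferential.D k B)) := by
        rw [KaehlerDifferential.span_range_derivation]; trivial
      induction hw using Submodule.span_induction with
      | mem y hy =>
        obtain ⟨f, rfl⟩ := hy
        simp only [KaehlerDifferential.map_D]
        simp
      | zero => simp only [map_zero]
      | add x y _ _ hx hy => simp only [map_add, hx, hy]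
      | smul b x _ hx =>
        rw [(KaehlerDifferential.map k k B B').map_smul, (KaehlerDifferential.map k D B B).map_smul,
          (KaehlerDifferential.map D D B B').map_smul, ← algebraMap_smul B' b, LinearMap.map_smul, hx,
          algebraMap_smul]
  constructor
  · intro η η' h
    simp only [Prod.mk.injEq] at h
    obtain ⟨b, hb⟩ : η - η' ∈ LinearMap.range (LinearMap.toSpanSingleton B Ω[B⁄k] (KaehlerDifferential.D k B t)) :=
      hker ▸ LinearMap.mem_ker.2 (by rw [map_sub, h.1, sub_self])
    have h2 : ((1 : B') ⊗ₜ[B] (η - η')) = 0 := by rw [TensorProduct.tmul_sub, h.2, sub_self]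
    rw [← hb, LinearMap.toSpanSingleton_apply, TensorProduct.tmul_smul,
      ← algebraMap_smul (B ⧸ Ideal.span {t ^ n}) b, Ideal.Quotient.algebraMap_eq] at h2
    obtain ⟨c, rfl⟩ := Ideal.mem_span_singleton.1 (DefTruncLib.mem_span_of_smul_dt hD ht h2)
    rw [LinearMap.toSpanSingleton_apply, mul_comm, ← smul_smul, DefTruncLib.pow_smul_D_eq_zero hD ht,
      smul_zero] at hb
    exact sub_eq_zero.1 hb.symm
  · ext ⟨a, w⟩
    simp only [Set.mem_range, Set.mem_setOf_eq, Prod.mk.injEq]
    constructor
    · rintro ⟨η, rfl, rfl⟩
      rw [hsq, LinearMap.baseChange_tmul, KaehlerDifferential.mapBaseChange_tmul, one_smul]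
    · intro h
      obtain ⟨η, rfl⟩ := KaehlerDifferential.map_surjective k D B a
      have h0 : LinearMap.baseChange B' (KaehlerDifferential.map k D B B) (w - (1 : B') ⊗ₜ η) = 0 := by
        refine DefTruncLib.injective_mapBaseChange_rel (D := D) ht ?_
        rw [map_sub, map_sub, map_zero, ← hsq, ← h, LinearMap.baseChange_tmul,
          KaehlerDifferential.mapBaseChange_tmul, one_smul, sub_self]
      obtain ⟨c, hc⟩ := (DefTruncLib.exact_dt hD ht _).1 h0
      obtain ⟨b, rfl⟩ := Ideal.Quotient.mk_surjective c
      refine ⟨η + b • KaehlerDifferential.D k B t, ?_, ?_⟩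
      · rw [map_add, map_smul, KaehlerDifferential.map_D, Algebra.algebraMap_self, RingHom.id_apply,
          show KaehlerDifferential.D D B t = 0 by rw [ht, Derivation.map_algebraMap], smul_zero, add_zero]
      · rw [LinearMap.toSpanSingleton_apply, ← Ideal.Quotient.algebraMap_eq, algebraMap_smul] at hc
        rw [TensorProduct.tmul_add, TensorProduct.tmul_smul, hc, add_sub_cancel]

end Groth.Agent.S18839
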