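import Groth.Statements.S18841
import Mathlib
import Groth.Agent.QuotSchLib.RegBounded
import Groth.Agent.QuotSchLib.Push
import Groth.Agent.QuotSchLib.HilbQuot
import Groth.Agent.QuotSchLib.Src
import Groth.Agent.S12111
-- import your own Groth.Agent.* helpers here

set_option autoImplicit false
universe u
open CategoryTheory CategoryTheory.Limits AlgebraicGeometry Polynomial
open Variety

namespace Groth.Agent.S18841

/-- Let k be an algebraically closed field of characteristic zero, X a projective k-scheme embedded in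
projective n-space by a closed immersion ι, with L ≅ ι^*O(1), and fix N ≥ 0 and a rational
polynomial P. There is an integer l_0 such that for every coherent O_X-module F which is a quotient
q : O_X^N → F with Hilbert polynomial P with respect to L, writing G for the kernel of q, one has
for all l ≥ l_0: H^i(X, F(l)) = 0 and H^i(X, G(l)) = 0 for every i > 0, and G(l) is generated by its
global sections (twists M(l) = M ⊗ L^(⊗l)). -/
theorem result
    (k : Type u) [Field k] [IsAlgClosed k] [CharZero k]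
    (X : Scheme.{u}) [X.Over (Spec (CommRingCat.of k))] [IsProper (X ↘ Spec (CommRingCat.of k))]
    (n : ℕ) (ι : X ⟶ CohB1.ProjSpace n k) [IsClosedImmersion ι]
    (hι : ι ≫ CohB1.ProjSpace.toSpec n k = X ↘ Spec (CommRingCat.of k))
    (L : X.Modules) (hL : Nonempty (L ≅ (Scheme.Modules.pullback ι).obj (Twist.twistProjSpace n k 1)))
    (N : ℕ) (P : ℚ[X]) :
    ∃ l₀ : ℕ, ∀ (F : X.Modules) (q : FlatMod.freeMod X N ⟶ F),
      Coh.IsCoh F → Epi q → ShStab.IsHilbPoly k X L F P →
        ∀ l : ℕ, l₀ ≤ l →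
          (∀ i : ℕ, 0 < i → Subsingleton (Coh.HH X (ShStab.twist X L F l) i)) ∧
          (∀ i : ℕ, 0 < i → Subsingleton (Coh.HH X (ShStab.twist X L (kernel q) l) i)) ∧
          Curv2.IsGloballyGenerated (ShStab.twist X L (kernel q) l) := by
  let Pn := CohB1.ProjSpace n k
  let O' := Twist.twistProjSpace n k
  let G := Scheme.Modules.pushforward ι
  haveI := MumfordLib.isProper_projSpace (n := n) k
  haveI : IsLocallyNoetherian Pn := (CurvLib.isNoetherian k (X := Pn)).toIsLocallyNoetherian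
  haveI : IsLocallyNoetherian X := (CurvLib.isNoetherian k (X := X)).toIsLocallyNoetherian
  haveI : G.IsRightAdjoint := (Scheme.Modules.pullbackPushforwardAdjunction ι).isRightAdjoint
  obtain ⟨hfP, -, -⟩ := MumfordLib.freeMod_data (n := n) k N
  have hfX : Coh.IsCoh (FlatMod.freeMod X N) :=
    QCohLib.isCoh_of_iso (KFlatLib.pullFreeIso ι N) (ConsLib.isCoh_pullback ι hfP)
  have hB : Coh.IsCoh (G.obj (FlatMod.freeMod X N)) := QCohLib.isCoh_push_finite ι _ hfX
  haveI := QuotSchLib.epi_unitToPush ι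
  let f : FlatMod.freeMod Pn N ⟶ G.obj (FlatMod.freeMod X N) := Sigma.desc fun l =>
    ClSub.unitToPush ι ≫ G.map (Sigma.ι (fun _ : Fin N => Coh.structureModule X) l)
  haveI hf : Epi f := by
    classical
    refine Preadditive.epi_of_cancel_zero _ fun {W : Pn.Modules} (π : G.obj (FlatMod.freeMod X N) ⟶ W) hπ => ?_
    have h0 : ∀ l, G.map (Sigma.ι (fun _ : Fin N => Coh.structureModule X) l) ≫ π = 0 := fun l => by
      have := congrArg (Sigma.ι (fun _ : Fin N => Coh.structureModule Pn) l ≫ ·) hπ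
      simp only [f, Sigma.ι_desc_assoc, Limits.comp_zero] at this
      rw [← cancel_epi (ClSub.unitToPush ι), Limits.comp_zero]
      simpa using this
    let p : ∀ l : Fin N, FlatMod.freeMod X N ⟶ Coh.structureModule X := fun l =>
      Sigma.desc fun j => if j = l then 𝟙 _ else 0
    have h1 : 𝟙 (FlatMod.freeMod X N) = ∑ l, p l ≫ Sigma.ι (fun _ : Fin N => Coh.structureModule X) l := by
      refine Sigma.hom_ext _ _ fun j => ?_
      rw [Preadditive.comp_sum, Finset.sum_eq_single j (fun l _ hl => by simp [p, Ne.symm hl])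
        (fun h => absurd (Finset.mem_univ j) h)]
      simp [p]
    calc π = G.map (𝟙 _) ≫ π := by rw [G.map_id, Category.id_comp]
      _ = 0 := by
        rw [h1, Functor.map_sum, Preadditive.sum_comp]
        refine Finset.sum_eq_zero fun l _ => ?_
        rw [G.map_comp, Category.assoc, h0, Limits.comp_zero]
  have hK0 : Coh.IsCoh (kernel f) := QCohLib.isCoh_kernel f hfP hB.1
  obtain ⟨d₀, hd₀⟩ := PnCohLib.exists_vanishing_twist k (kernel f) hK0
  obtain ⟨B, hBd⟩ := QuotSchLib.exists_quot_bound.{u} n N P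
  have hpow : ∀ l : ℕ, Nonempty (CohB1.tensorPow L l ≅ (Scheme.Modules.pullback ι).obj (O' (l : ℤ))) := by
    intro l
    induction l with
    | zero =>
      obtain ⟨e⟩ := PicPnLib.twist_zero n k
      exact ⟨(KFlatLib.pullUnitIso ι).symm ≪≫ (Scheme.Modules.pullback ι).mapIso e.symm⟩
    | succ l ih =>
      obtain ⟨e⟩ := ih
      obtain ⟨e'⟩ := PicPnLib.twist_add n k (l : ℤ) 1
      haveI := KFlatLib.isIso_pullθ ι (O' (l : ℤ)) (O' 1)
      exact ⟨HilbPolyLib.congrLeft e _ ≪≫ HilbPolyLib.congrRight _ hL.some ≪≫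
        (@asIso _ _ _ _ (KFlatLib.pullθ ι (O' (l : ℤ)) (O' 1)) this).symm ≪≫
        (Scheme.Modules.pullback ι).mapIso (e' ≪≫ eqToIso (by push_cast; rfl))⟩
  have htw : ∀ (M : X.Modules) (l : ℕ), Nonempty (ShStab.twist X L M l ≅ Pic13.twistOn k ι M l) := fun M l =>
    ⟨HilbPolyLib.congrRight M (hpow l).some⟩
  refine ⟨(max B d₀ + n).toNat, fun F q hF hq hP => ?_⟩
  haveI := hq
  haveI := hF.1
  have hK : Coh.IsCoh (kernel q) := QCohLib.isCoh_kernel q hfX hF.1
  have hC : Coh.IsCoh (G.obj F) := QCohLib.isCoh_push_finite ι F hF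
  haveI : Epi (G.map q) := QuotSchLib.epi_push ι q
  obtain ⟨e₀⟩ := PicPnLib.twist_zero n k
  let e : QuotSchLib.srcMod k n N 0 ≅ FlatMod.freeMod Pn N := HilbPolyLib.congrLeft e₀ _ ≪≫ HilbPolyLib.unitLeft _
  haveI : Epi (e.hom ≫ f ≫ G.map q) := epi_comp _ _
  have hiso : ∀ (M : X.Modules) (d : ℤ),
      Nonempty (CohB1.tensorMod (G.obj M) (O' d) ≅ G.obj (Pic13.twistOn k ι M d)) := fun M d => by
    have hLf : FlatMod.IsFinLocFree (O' d) :=
      CurveVBLib.isFinLocFree_of_rank (CurvLib.locFree_of_isInvertible (PicPnLib.twist_inv n k d))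
    exact ⟨HilbPolyLib.swapIso _ _ ≪≫ @asIso _ _ _ _ (ProjFormLib.projApp ι (O' d) M) (ProjFormLib.isIso_projApp ι hLf M) ≪≫
      G.mapIso (HilbPolyLib.swapIso _ _)⟩
  have hqM : ∀ (M : X.Modules) [Coh.IsQCoh M] (d : ℤ), Coh.IsQCoh (Pic13.twistOn k ι M d) := fun M _ d =>
    MiscFlat6.isQCoh_tensor (AmpleDevLib.isInvertible_pb ι (PicPnLib.twist_inv n k d))
  have hchi : ∀ t : ℤ, (MumfordLib.chi k (G.obj F) t : ℚ) = P.eval (t : ℚ) := by
    obtain ⟨Ψ, hΨ⟩ := QuotSchLib.exists_chi_field k n hC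
    suffices h : Ψ = P by rw [← h]; exact hΨ
    refine Polynomial.eq_of_infinite_eval_eq Ψ P (Set.infinite_of_injective_forall_mem (f := fun t : ℕ => (t : ℚ))
      Nat.cast_injective fun t => ?_)
    show Ψ.eval ((t : ℕ) : ℚ) = P.eval ((t : ℕ) : ℚ)
    haveI := hqM F (t : ℤ)
    rw [← hP t, CurvLib.euler_congr (htw F t).some, (PushLinLib.euler_push k ι hι (Pic13.twistOn k ι F t)).2,
      ← CurvLib.euler_congr (k := k) (hiso F t).some, ← MumfordLib.chi_eq_euler, hΨ t, Int.cast_natCast]
  obtain ⟨hreg, hregF, -⟩ := hBd 0 B (by omega) k (G.obj F) hC (e.hom ≫ f ≫ G.map q)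
    (fun t => by rw [add_zero]; exact hchi t)
  obtain ⟨a, b, w, hS⟩ : ∃ (a : kernel f ⟶ kernel (f ≫ G.map q)) (b : kernel (f ≫ G.map q) ⟶ kernel (G.map q))
      (w : a ≫ b = 0), (ShortComplex.mk a b w).ShortExact := by
    let g := G.map q
    let a : kernel f ⟶ kernel (f ≫ g) := kernel.lift _ (kernel.ι f) (by rw [kernel.condition_assoc, Limits.zero_comp])
    let b : kernel (f ≫ g) ⟶ kernel g := kernel.lift _ (kernel.ι (f ≫ g) ≫ f) (by rw [Category.assoc, kernel.condition])
    have w : a ≫ b = 0 := by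
      rw [← cancel_mono (kernel.ι g)]
      simp [a, b]
    refine ⟨a, b, w, { exact := ?_, mono_f := ?_, epi_g := ?_ }⟩
    · rw [ShortComplex.exact_iff_exact_up_to_refinements]
      intro A x hx
      refine ⟨A, 𝟙 A, inferInstance, kernel.lift f (x ≫ kernel.ι (f ≫ g)) ?_, ?_⟩
      · simpa [b] using hx =≫ kernel.ι g
      · rw [← cancel_mono (kernel.ι (f ≫ g))]
        simp [a]
    · exact mono_of_mono_fac (show a ≫ kernel.ι (f ≫ g) = kernel.ι f by simp [a])
    · rw [epi_iff_surjective_up_to_refinements]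
      intro A y
      obtain ⟨A', π, hπ, x, hx⟩ := surjective_up_to_refinements_of_epi f (y ≫ kernel.ι g)
      refine ⟨A', π, hπ, kernel.lift (f ≫ g) x (by rw [← Category.assoc, ← hx]; simp), ?_⟩
      rw [← cancel_mono (kernel.ι g)]
      simp [b, hx]
  have hvK : ∀ t : ℤ, max B d₀ ≤ t → ∀ i : ℕ, 1 ≤ i →
      Subsingleton (Coh.HH Pn (CohB1.tensorMod (G.obj (kernel q)) (O' t)) i) := fun t ht i hi => by
    have hT := HilbPolyLib.shortExact_tensor (PicPnLib.twist_inv n k t) hS
    have h2 : Subsingleton (Coh.HH Pn (CohB1.tensorMod (O' t) (kernel (f ≫ G.map q))) i) :=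
      SerreVanLib.subsingleton_HH_of_iso (HilbPolyLib.swapIso _ _ ≪≫
          HilbPolyLib.congrLeft (kernelIsIsoComp e.hom (f ≫ G.map q)).symm _) i
        (PnCohLib.vanishing_ge k _ (QCohLib.isCoh_kernel _ (PnCohLib.isCoh_tensor_free (PicPnLib.twist_inv n k 0) N) hC.1).1
          B hreg i hi t (by omega))
    have h1 : Subsingleton (Coh.HH Pn (CohB1.tensorMod (O' t) (kernel f)) (i + 1)) :=
      SerreVanLib.subsingleton_HH_of_iso (HilbPolyLib.swapIso _ _) (i + 1) (hd₀ t (by omega) (i + 1) (by omega))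
    exact SerreVanLib.subsingleton_HH_of_iso (HilbPolyLib.swapIso _ _ ≪≫
        HilbPolyLib.congrRight _ (PreservesKernel.iso G q)) i (MumfordLib.subsingleton_X₃ k hT h2 h1)
  have hregK : Pic13.IsMRegular k ι (kernel q) (max B d₀ + n) := fun i hi => by
    haveI := hK.1
    haveI := hqM (kernel q) (max B d₀ + n - i)
    obtain ⟨E'⟩ := QCohLib.nonempty_HH_push ι (Pic13.twistOn k ι (kernel q) (max B d₀ + n - i)) i
    haveI : Subsingleton (Coh.HH Pn (G.obj (Pic13.twistOn k ι (kernel q) (max B d₀ + n - i))) i) := by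
      refine SerreVanLib.subsingleton_HH_of_iso (hiso (kernel q) _).some.symm i ?_
      rcases Nat.lt_or_ge n i with h | h
      · exact PnCohLib.subsingleton_HH_of_big k _ (QCohLib.isCoh_push_finite ι _ hK).1 _ i h
      · exact hvK _ (by omega) i hi
    first
    | exact E'.toEquiv.subsingleton
    | exact E'.symm.toEquiv.subsingleton
  have hregX : Pic13.IsMRegular k ι F B := fun i hi => by
    haveI := hqM F (B - i)
    obtain ⟨E'⟩ := QCohLib.nonempty_HH_push ι (Pic13.twistOn k ι F (B - i)) i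
    haveI : Subsingleton (Coh.HH Pn (G.obj (Pic13.twistOn k ι F (B - i))) i) :=
      SerreVanLib.subsingleton_HH_of_iso (hiso F _).some.symm i
        (PnCohLib.vanishing_ge k _ hC.1 B hregF i hi _ (by omega))
    first
    | exact E'.toEquiv.subsingleton
    | exact E'.symm.toEquiv.subsingleton
  intro l hl
  refine ⟨fun i hi => ?_, fun i hi => ?_, ?_⟩
  · have h := (Groth.Agent.S12111.result k n ι F hF B hregX (l + i) (by omega)).1 i hi
    rw [add_sub_cancel_right] at h
    exact SerreVanLib.subsingleton_HH_of_iso (htw F l).some i h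
  · have h := (Groth.Agent.S12111.result k n ι (kernel q) hK _ hregK (l + i) (by omega)).1 i hi
    rw [add_sub_cancel_right] at h
    exact SerreVanLib.subsingleton_HH_of_iso (htw (kernel q) l).some i h
  · exact MiscFlat6.isGloballyGenerated_of_iso (htw (kernel q) l).some.symm
      (Groth.Agent.S12111.result k n ι (kernel q) hK _ hregK l (by omega)).2

end Groth.Agent.S18841
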