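import Groth.Statements.S18844
import Groth.Agent.TFQuotLib.Decomp
import Groth.Agent.TFQuotLib.Scalar
import Mathlib.LinearAlgebra.Lagrange

set_option autoImplicit false
universe u
open CategoryTheory CategoryTheory.Limits AlgebraicGeometry
open TFOne

namespace Groth.Agent.S18844

/-- Let X be a proper, geometrically reduced scheme of pure dimension one over a field k whose
irreducible components (with their reduced structure) are geometrically integral over k, assume X is
non-empty, and take a torsion-free sheaf I of rank one on X. Then I is simple over k (every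
endomorphism of I is multiplication by a scalar) exactly when I is not decomposable, that is, when
there do not exist closed proper subcurves Y and Z of X (non-empty unions of irreducible components,
each different from X) together with the torsion-free quotients I_Y, I_Z of I on them (pinned by
their defining property) such that the canonical map I ⟶ I_Y ⊞ I_Z is an isomorphism. -/
theorem result (k : Type u) [Field k] (X : Scheme.{u}) [X.Over (Spec (CommRingCat.of k))] [IsProper (X ↘ Spec (CommRingCat.of k))] [IsReduced X] [GeometricallyReduced (X ↘ Spec (CommRingCat.of k))] (hpure : ∀ C ∈ irreducibleComponents (X : Type u), topologicalKrullDim C = 1) (hgi : ∀ (C : Set X) (hC : C ∈ irreducibleComponents (X : Type u)), GeometricallyIntegral (VecSt.subschι X C (isClosed_of_mem_irreducibleComponents C hC) ≫ (X ↘ Spec (CommRingCat.of k)))) [Nonempty X] (I : X.Modules) (hI : TFOne.IsTF1 X I) : TFOne.IsSimple X k (X ↘ Spec (CommRingCat.of k)) I ↔ ¬ ∃ (Y Z : Set X) (hY : IsClosed Y) (hZ : IsClosed Z) (GY GZ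 : X.Modules) (πY : I ⟶ GY) (πZ : I ⟶ GZ), VecSt.IsSubcurve X Y ∧ VecSt.IsSubcurve X Z ∧ Y ≠ Set.univ ∧ Z ≠ Set.univ ∧ TFOne.IsQuotOn X I Y GY πY ∧ TFOne.IsQuotOn X I Z GZ πZ ∧ IsIso (biprod.lift πY πZ) := by
  haveI := CurvLib.isNoetherian k (X := X)
  constructor
  · rintro hs ⟨Y, Z, hY, hZ, GY, GZ, πY, πZ, hYs, hZs, -, -, hGY, hGZ, hiso⟩
    haveI := hiso
    haveI := hGY.1
    haveI := hGZ.1
    have hne : ∀ {T : Set X} {G : X.Modules} {π : I ⟶ G}, VecSt.IsSubcurve X T → TFOne.IsQuotOn X I T G π →
        ¬ IsZero G := fun {T G π} hT hG hz => by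
      obtain ⟨S, hS, ⟨C, hC⟩, rfl⟩ := hT
      obtain ⟨x, hx⟩ := (hS hC).1.1
      exact (hG.2.2.2.ge ⟨C, hC, hx⟩ : x ∈ CohB1.support G)
        (ModuleCat.subsingleton_of_isZero ((DevissLib.St x).map_isZero hz))
    let L : I ⟶ GY ⊞ GZ := biprod.lift πY πZ
    let e : I ⟶ I := L ≫ biprod.fst ≫ biprod.inl ≫ inv L
    have eY : e ≫ πY = πY := by
      rw [show πY = L ≫ biprod.fst from (biprod.lift_fst _ _).symm]
      simp only [e, Category.assoc, IsIso.inv_hom_id_assoc, biprod.inl_fst, Category.comp_id]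
    have eZ : e ≫ πZ = 0 := by
      rw [show πZ = L ≫ biprod.snd from (biprod.lift_snd _ _).symm]
      simp only [e, Category.assoc, IsIso.inv_hom_id_assoc, biprod.inl_snd, comp_zero]
    obtain ⟨c, hc'⟩ := hs.2 e
    have hc : e = Formal.smulMod k I c := hc'
    have hc0 : c = 0 := by
      refine TFQuotLib.smul_eq_zero' (hne hZs hGZ) ((cancel_epi πZ).mp ?_)
      rw [AlgzCohLib.smulMod_naturality, ← hc, eZ, comp_zero]
    refine hne hYs hGY ((IsZero.iff_id_eq_zero GY).mpr ((cancel_epi πY).mp ?_))
    rw [Category.comp_id, comp_zero, ← eY, hc, hc0, TFQuotLib.smul_zero', zero_comp]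
  intro hdec
  classical
  have hnz : ¬ IsZero I := fun hz => by
    obtain ⟨x⟩ := ‹Nonempty X›
    obtain ⟨C, hC, -⟩ := exists_mem_irreducibleComponents_subset_of_isIrreducible _
      (isIrreducible_singleton (x := x)).closure
    have hg := hC.1.isGenericPoint_genericPoint (isClosed_of_mem_irreducibleComponents C hC)
    have hη : hC.1.genericPoint ∈ genericPoints (X : Type u) := by
      show closure {hC.1.genericPoint} ∈ irreducibleComponents (X : Type u)
      rw [hg.def]
      exact hC
    have hl := TFQuotLib.len_rkOne hI hη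
    rw [IntMultLib.len_eq_zero fun h => (h : _ ∈ CohB1.support I)
      (ModuleCat.subsingleton_of_isZero ((DevissLib.St hC.1.genericPoint).map_isZero hz))] at hl
    exact zero_ne_one hl
  refine ⟨hnz, fun φ => ?_⟩
  have hsc : ∀ η : X, ∃ a : k, η ∈ genericPoints (X : Type u) → ∀ P : Polynomial k, ∀ v,
      ((DevissLib.St η).map (Polynomial.aeval (show End I from φ) P)).hom v =
        Curv2.stalkMap k X η (P.eval a) • v := fun η => by
    by_cases h : η ∈ genericPoints (X : Type u)
    · obtain ⟨a, ha⟩ := TFQuotLib.exists_scalar_component hI h (hgi _ h) φ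
      exact ⟨a, fun _ => ha⟩
    · exact ⟨0, fun h' => absurd h' h⟩
  choose c hc using hsc
  by_cases hall : ∃ a, ∀ η ∈ genericPoints (X : Type u), c η = a
  · obtain ⟨a, ha⟩ := hall
    refine ⟨a, TFQuotLib.eq_smulMod_of_generic hI φ a fun η hη v => ?_⟩
    have h := hc η hη Polynomial.X v
    rw [Polynomial.eval_X, ha η hη] at h
    exact (congrArg (fun t : I ⟶ I => ((DevissLib.St η).map t).hom v)
      (Polynomial.aeval_X (show End I from φ)).symm).trans h
  exfalso
  push Not at hall
  have hfin : (genericPoints (X : Type u)).Finite := by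
    refine Set.Finite.of_finite_image (f := fun η => closure ({η} : Set X))
      (TopologicalSpace.NoetherianSpace.finite_irreducibleComponents.subset ?_) fun a ha b hb h => ?_
    · rintro _ ⟨η, hη, rfl⟩
      exact hη
    · exact TFQuotLib.eq_of_specializes_generic hb
        (specializes_iff_mem_closure.mpr (h.ge (subset_closure rfl)))
  obtain ⟨η₀, hη₀, -⟩ := hall 0
  let a := c η₀
  obtain ⟨η₁, hη₁, hne⟩ := hall a
  let s : Finset k := insert a (hfin.toFinset.image c)
  let P : Polynomial k := Lagrange.basis s id a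
  have hP : ∀ η ∈ genericPoints (X : Type u), P.eval (c η) = if c η = a then 1 else 0 := fun η hη => by
    split_ifs with h
    · rw [h]
      exact Lagrange.eval_basis_self (Function.injective_id.injOn) (Finset.mem_insert_self _ _)
    · exact Lagrange.eval_basis_of_ne (v := id) (Ne.symm h)
        (Finset.mem_insert_of_mem (Finset.mem_image_of_mem c (hfin.mem_toFinset.mpr hη)))
  let e : I ⟶ I := (Polynomial.aeval (show End I from φ) P : End I)
  have he : ∀ η ∈ genericPoints (X : Type u), ∀ v, ((DevissLib.St η).map e).hom v =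
      if c η = a then v else 0 := fun η hη v => by
    refine (hc η hη P v).trans ?_
    rw [hP η hη]
    split_ifs with h
    · rw [map_one]
      exact one_smul _ v
    · rw [map_zero]
      exact zero_smul _ v
  have he2 : ∀ η ∈ genericPoints (X : Type u), ∀ v, ((DevissLib.St η).map (𝟙 I - e)).hom v =
      if c η = a then 0 else v := fun η hη v => by
    rw [Functor.map_sub, CategoryTheory.Functor.map_id]
    refine (congrArg (v - ·) (he η hη v)).trans ?_
    split_ifs
    · exact sub_self v
    · exact sub_zero v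
  have hidem : e ≫ e = e := by
    rw [← sub_eq_zero]
    refine TFQuotLib.eq_zero_of_generic _ hI.1.1 hI.1 hI.2.1 fun η hη => ?_
    rw [Functor.map_sub, sub_eq_zero, Functor.map_comp]
    ext v
    rw [ModuleCat.comp_apply, he η hη, he η hη]
    split_ifs <;> rfl
  let SS : (X → Prop) → Set (Set X) := fun p => {C | ∃ η ∈ genericPoints (X : Type u), p η ∧ closure {η} = C}
  have hcl : ∀ p, IsClosed (⋃₀ SS p) := fun p => by
    rw [Set.sUnion_eq_biUnion]
    refine Set.Finite.isClosed_biUnion ((hfin.image fun η => closure ({η} : Set X)).subset ?_) ?_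
    · rintro _ ⟨η, hη, -, rfl⟩
      exact ⟨η, hη, rfl⟩
    · rintro _ ⟨η, -, -, rfl⟩
      exact isClosed_closure
  have hmem : ∀ p, ∀ η ∈ genericPoints (X : Type u), η ∈ ⋃₀ SS p ↔ p η := fun p η hη => by
    refine ⟨?_, fun h => ⟨_, ⟨η, hη, h, rfl⟩, subset_closure rfl⟩⟩
    rintro ⟨_, ⟨η', hη', hp, rfl⟩, h⟩
    rwa [← TFQuotLib.eq_of_specializes_generic hη (specializes_iff_mem_closure.mpr h)]
  have hgen : ∀ p, ∀ x ∈ ⋃₀ SS p, ∃ η ∈ genericPoints (X : Type u), η ∈ ⋃₀ SS p ∧ η ⤳ x := by
    rintro p x ⟨_, ⟨η, hη, hp, rfl⟩, hx⟩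
    exact ⟨η, hη, (hmem p η hη).mpr hp, specializes_iff_mem_closure.mpr hx⟩
  have hsub : ∀ p, (∃ η ∈ genericPoints (X : Type u), p η) → VecSt.IsSubcurve X (⋃₀ SS p) := by
    rintro p ⟨η, hη, hp⟩
    refine ⟨SS p, ?_, ⟨_, η, hη, hp, rfl⟩, rfl⟩
    rintro _ ⟨η', hη', -, rfl⟩
    exact hη'
  let pY : X → Prop := fun η => c η = a
  let pZ : X → Prop := fun η => c η ≠ a
  refine hdec ⟨⋃₀ SS pY, ⋃₀ SS pZ, hcl _, hcl _, Abelian.image e, Abelian.image (𝟙 I - e),
    Abelian.factorThruImage e, Abelian.factorThruImage (𝟙 I - e), hsub _ ⟨η₀, hη₀, rfl⟩,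
    hsub _ ⟨η₁, hη₁, hne⟩, fun h => hne ((hmem pY η₁ hη₁).mp (h.ge (Set.mem_univ _))),
    fun h => (hmem pZ η₀ hη₀).mp (h.ge (Set.mem_univ _)) rfl, ?_, ?_, TFQuotLib.isIso_lift_of_idem e hidem⟩
  · exact TFQuotLib.isQuotOn_image hI e (hcl _) (hgen _)
      (fun η hη h v => (he η hη v).trans (if_pos ((hmem pY η hη).mp h)))
      (fun η hη h v => (he η hη v).trans (if_neg fun h' => h ((hmem pY η hη).mpr h')))
  · exact TFQuotLib.isQuotOn_image hI (𝟙 I - e) (hcl _) (hgen _)
      (fun η hη h v => (he2 η hη v).trans (if_neg ((hmem pZ η hη).mp h)))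
      (fun η hη h v => (he2 η hη v).trans (if_pos (not_not.mp fun h' => h ((hmem pZ η hη).mpr h'))))

end Groth.Agent.S18844
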