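import Groth.Statements.S18845
import Groth.Agent.TFQuotLib.Scalar

set_option autoImplicit false
universe u
open CategoryTheory CategoryTheory.Limits AlgebraicGeometry
open TFOne

open DevissLib

namespace Groth.Agent.S18845

theorem nonzero_generic {X : Scheme.{u}} {G : X.Modules} (hG : TFOne.IsTF1 X G) {z : X} (hz : z ∈ genericPoints X) :
    z ∈ CohB1.support G := by
  obtain ⟨e'⟩ := hG.2.2 z hz
  let e : (St z).obj G ≃ₗ[X.presheaf.stalk z] X.presheaf.stalk z := e'
  exact (mem_support_iff_nonzero _ z).mpr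
    ⟨e.symm 1, fun h => one_ne_zero (e.symm.injective (h.trans (map_zero e.symm).symm))⟩

/-- Let X be a proper, geometrically reduced scheme of pure dimension one over a field k whose
irreducible components (with their reduced structure) are geometrically integral over k, let Y and Z
be closed subcurves (non-empty unions of irreducible components) with Y ∪ Z = X, and let M be a
torsion-free sheaf of rank one on X. Suppose M sits in a short exact sequence 0 ⟶ i_{Y*} I ⟶ M ⟶
i_{Z*} J ⟶ 0 of modules on X, where I is a simple torsion-free sheaf of rank one on the reduced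
closed subscheme Y, J is a simple torsion-free sheaf of rank one on the reduced closed subscheme Z,
and i_{Y*}, i_{Z*} are the direct images. Then M is simple over k exactly when the sequence does not
split (the epimorphism M ⟶ i_{Z*} J has no section). -/
theorem result (k : Type u) [Field k] (X : Scheme.{u}) [X.Over (Spec (CommRingCat.of k))] [IsProper (X ↘ Spec (CommRingCat.of k))] [IsReduced X] [GeometricallyReduced (X ↘ Spec (CommRingCat.of k))] (hpure : ∀ C ∈ irreducibleComponents (X : Type u), topologicalKrullDim C = 1) (hgi : ∀ (C : Set X) (hC : C ∈ irreducibleComponents (X : Type u)), GeometricallyIntegral (VecSt.subschι X C (isClosed_of_mem_irreducibleComponents C hC) ≫ (X ↘ Spec (CommRingCat.of k)))) (Y Z : Set X) (hY : IsClosed Y) (hZ : IsClosed Z) (hYs : VecSt.IsSubcurve X Y) (hZs : VecSt.IsSubcurve X Z) (hcov : Y ∪ Z = Set.univ) (M : X.Modules) (hM : TFOne.IsTF1 X M) (I : (VecSt.subsch X Y hY).Modules) (hI : TFOne.IsTF1 (VecSt.subsch X Y hY) I)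 (hIs : TFOne.IsSimple (VecSt.subsch X Y hY) k (VecSt.subschι X Y hY ≫ (X ↘ Spec (CommRingCat.of k))) I) (J : (VecSt.subsch X Z hZ).Modules) (hJ : TFOne.IsTF1 (VecSt.subsch X Z hZ) J) (hJs : TFOne.IsSimple (VecSt.subsch X Z hZ) k (VecSt.subschι X Z hZ ≫ (X ↘ Spec (CommRingCat.of k))) J) (a : (Coh.push (VecSt.subschι X Y hY)).obj I ⟶ M) (b : M ⟶ (Coh.push (VecSt.subschι X Z hZ)).obj J) (w : a ≫ b = 0) (hex : (ShortComplex.mk a b w).ShortExact) : TFOne.IsSimple X k (X ↘ Spec (CommRingCat.of k)) M ↔ ¬ IsSplitEpi b := by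
  haveI := CurvLib.isNoetherian k (X := X)
  haveI := DevissLib.isReduced_vanishingIdeal' (⟨Y, hY⟩ : TopologicalSpace.Closeds X)
  haveI := DevissLib.isReduced_vanishingIdeal' (⟨Z, hZ⟩ : TopologicalSpace.Closeds X)
  letI : (VecSt.subsch X Y hY).Over (Spec (CommRingCat.of k)) :=
    ⟨VecSt.subschι X Y hY ≫ (X ↘ Spec (CommRingCat.of k))⟩
  letI : (VecSt.subsch X Z hZ).Over (Spec (CommRingCat.of k)) :=
    ⟨VecSt.subschι X Z hZ ≫ (X ↘ Spec (CommRingCat.of k))⟩
  let iY := VecSt.subschι X Y hY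
  let iZ := VecSt.subschι X Z hZ
  have rY : Set.range ⇑iY = Y := Scheme.IdealSheafData.range_subschemeι _
  have rZ : Set.range ⇑iZ = Z := Scheme.IdealSheafData.range_subschemeι _
  obtain ⟨SY, hSY, -, hYe⟩ := hYs
  obtain ⟨SZ, hSZ, -, hZe⟩ := hZs
  have gY : ∀ z, z ∈ genericPoints ↥(VecSt.subsch X Y hY) → iY z ∈ genericPoints (X : Type u) :=
    fun z hz => TFQuotLib.map_generic iY hSY (rY.trans hYe) hz
  have gZ : ∀ z, z ∈ genericPoints ↥(VecSt.subsch X Z hZ) → iZ z ∈ genericPoints (X : Type u) :=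
    fun z hz => TFQuotLib.map_generic iZ hSZ (rZ.trans hZe) hz
  have sY : ∀ η ∈ genericPoints (X : Type u), η ∈ Y → η ∈ CohB1.support ((Coh.push iY).obj I) := fun η hη h => by
    obtain ⟨z, rfl⟩ := rY.ge h
    exact TFQuotLib.mem_support_push iY (nonzero_generic hI (TFQuotLib.generic_of_map iY hη))
  have sZ : ∀ η ∈ genericPoints (X : Type u), η ∈ Z → η ∈ CohB1.support ((Coh.push iZ).obj J) := fun η hη h => by
    obtain ⟨z, rfl⟩ := rZ.ge h
    exact TFQuotLib.mem_support_push iZ (nonzero_generic hJ (TFQuotLib.generic_of_map iZ hη))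
  have hne : ∀ η ∈ genericPoints (X : Type u), η ∈ Y → η ∈ Z → False := fun η hη h h' => by
    have e1 : IntMultLib.len M η =
        IntMultLib.len ((Coh.push iY).obj I) η + IntMultLib.len ((Coh.push iZ).obj J) η :=
      IntMultLib.len_add hex η
    rw [TFQuotLib.len_rkOne hM hη] at e1
    have hp : ∀ G : X.Modules, η ∈ CohB1.support G → 1 ≤ IntMultLib.len G η := fun G hs =>
      ENat.one_le_iff_ne_zero.mpr fun h0 => hs (Module.length_eq_zero_iff.mp h0)
    have h2 := add_le_add (hp _ (sY η hη h)) (hp _ (sZ η hη h'))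
    rw [← e1] at h2
    norm_num at h2
  have hIc := QCohLib.isCoh_push_finite iY I hI.1
  have hJc := QCohLib.isCoh_push_finite iZ J hJ.1
  have hYZ : ∀ φ : (Coh.push iY).obj I ⟶ (Coh.push iZ).obj J, φ = 0 :=
    TFQuotLib.hom_push_eq_zero iZ gZ hJ.1 hJ.2.1 hIc.1 fun η hη hr hs => by
      obtain ⟨z, rfl⟩ := DevissLib.support_push_subset iY I hs
      exact hne _ hη (rY.le ⟨z, rfl⟩) (rZ.le hr)
  have hZY : ∀ φ : (Coh.push iZ).obj J ⟶ (Coh.push iY).obj I, φ = 0 :=
    TFQuotLib.hom_push_eq_zero iY gY hI.1 hI.2.1 hJc.1 fun η hη hr hs => by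
      obtain ⟨z, rfl⟩ := DevissLib.support_push_subset iZ J hs
      exact hne _ hη (rY.le hr) (rZ.le ⟨z, rfl⟩)
  have nY := TFQuotLib.not_isZero_push iY hIs.1
  have nZ := TFQuotLib.not_isZero_push iZ hJs.1
  haveI : Mono a := hex.mono_f
  haveI : Epi b := hex.epi_g
  constructor
  · intro hs hsplit
    obtain ⟨⟨⟨s, hb⟩⟩⟩ := hsplit
    obtain ⟨c, hc'⟩ := hs.2 (b ≫ s)
    have hc : b ≫ s = Formal.smulMod k M c := hc'
    have hc0 : c = 0 := by
      refine TFQuotLib.smul_eq_zero' nY ((cancel_mono a).mp ?_)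
      rw [← AlgzCohLib.smulMod_naturality, ← hc, ← Category.assoc, w, zero_comp, zero_comp]
    refine nZ ((IsZero.iff_id_eq_zero _).mpr ((cancel_epi b).mp ?_))
    calc b ≫ 𝟙 _ = (b ≫ s) ≫ b := by rw [Category.assoc, hb]
      _ = 0 := by rw [hc, hc0, TFQuotLib.smul_zero', zero_comp]
      _ = b ≫ 0 := comp_zero.symm
  · intro hns
    refine ⟨fun h => nY (IsZero.of_mono a h), fun φ => ?_⟩
    obtain ⟨φ', hφ'⟩ : ∃ φ', φ' ≫ a = a ≫ φ :=
      ⟨hex.fIsKernel.lift (KernelFork.ofι (a ≫ φ) (by rw [Category.assoc]; exact hYZ _)),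
        hex.fIsKernel.fac (KernelFork.ofι (a ≫ φ) (by rw [Category.assoc]; exact hYZ _))
          WalkingParallelPair.zero⟩
    obtain ⟨c, hc⟩ := TFQuotLib.exists_scalar_push iY rfl hIs.2 φ'
    have h0 : a ≫ (φ - Formal.smulMod k M c) = 0 := by
      rw [Preadditive.comp_sub, AlgzCohLib.smulMod_naturality, ← hc, ← hφ', sub_self]
    obtain ⟨g, hg⟩ : ∃ g, b ≫ g = φ - Formal.smulMod k M c :=
      ⟨hex.gIsCokernel.desc (CokernelCofork.ofπ _ h0),
        hex.gIsCokernel.fac (CokernelCofork.ofπ _ h0) WalkingParallelPair.one⟩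
    obtain ⟨e, he⟩ := TFQuotLib.exists_scalar_push iZ rfl hJs.2 (g ≫ b)
    have he0 : e = 0 := by
      by_contra hne0
      refine hns (IsSplitEpi.mk' ⟨Formal.smulMod k _ e⁻¹ ≫ g, ?_⟩)
      rw [Category.assoc, he]
      exact TFQuotLib.smul_inv_comp _ hne0
    obtain ⟨h, hh⟩ : ∃ h, h ≫ a = g :=
      ⟨hex.fIsKernel.lift (KernelFork.ofι g (by rw [he, he0]; exact TFQuotLib.smul_zero' _)),
        hex.fIsKernel.fac (KernelFork.ofι g (by rw [he, he0]; exact TFQuotLib.smul_zero' _))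
          WalkingParallelPair.zero⟩
    have h0' : φ - Formal.smulMod k M c = 0 := by
      rw [← hg, ← hh, hZY h, zero_comp, comp_zero]
    exact ⟨c, sub_eq_zero.mp h0'⟩

end Groth.Agent.S18845
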