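import Groth.Statements.S18847
import Groth.Agent.TFModLib.Main

set_option autoImplicit false
universe u
open CategoryTheory CategoryTheory.Limits AlgebraicGeometry
open TFOne

namespace Groth.Agent.S18847

/-- Let R be a discrete valuation ring with residue field κ, f : X ⟶ Spec R flat and proper, and X_s its
special fibre, assumed reduced of pure dimension one with geometrically integral irreducible
components over κ. Let I be a coherent R-flat module on X whose restriction I(s) to X_s is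
torsion-free rank-1, E a locally free module of rank r > 0 on X with restriction E(s), and d an
integer with χ(I(s)) = d and deg E(s) = -r·d. For a closed subset T of X_s write I(s)_T for the
torsion-free quotient of I(s) on T (pinned by its defining property) and β(T) := r·χ(I(s)_T) +
deg(E(s)|_T) (the source's β cleared of the denominator r). Let Y be a closed subcurve of X_s (a
non-empty union of irreducible components), and let I^Y be the kernel of the composite I ⟶ i_* I(s)
⟶ i_* I(s)_Y, with restriction I^Y(s) to X_s and quotients I^Y(s)_T and numbers β^Y(T) :=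
r·χ(I^Y(s)_T) + deg(E(s)|_T) defined likewise. Assume that Y is the largest closed subcurve of X_s
on which β is minimal: β(Y) ≤ β(T) for every closed subcurve T of X_s, and every closed subcurve T
with β(T) = β(Y) is contained in Y. Then for every closed subcurve Z of X_s one has β(Y) ≤ β^Y(Z),
and β^Y(Z) = β(Y) only if Z ⊆ Y. (The source takes f projective.) -/
theorem result (R : Type u) [CommRing R] [IsDomain R] [IsDiscreteValuationRing R] (X : Scheme.{u}) (f : X ⟶ Spec (CommRingCat.of R)) [Flat f] [IsProper f] (Xs : Scheme.{u}) [Xs.Over (Spec (CommRingCat.of (IsLocalRing.ResidueField R)))] (i : Xs ⟶ X) (hsq : IsPullback i (Xs ↘ Spec (CommRingCat.of (IsLocalRing.ResidueField R))) f (Spec.map (CommRingCat.ofHom (IsLocalRing.residue R)))) [IsReduced Xs] (hpure : ∀ C ∈ irreducibleComponents (Xs : Type u), topologicalKrullDim C = 1) (hgi : ∀ (C : Set Xs) (hC : C ∈ irreducibleComponents (Xs : Type u)), GeometricallyIntegral (VecSt.subschι Xs C (isClosed_of_mem_irreducibleComponents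 C hC) ≫ (Xs ↘ Spec (CommRingCat.of (IsLocalRing.ResidueField R))))) (I : X.Modules) (hIc : Coh.IsCoh I) (hIf : FlatMod.IsFlatOver f I) (hIs : TFOne.IsTF1 Xs ((Scheme.Modules.pullback i).obj I)) (E : X.Modules) (r : ℕ) (hr : 0 < r) (hE : FlatMod.IsFinLocFreeOfRank r E) (d : ℤ) (hχ : Curv2.euler (IsLocalRing.ResidueField R) Xs ((Scheme.Modules.pullback i).obj I) = d) (hEd : Curv2.deg (IsLocalRing.ResidueField R) Xs ((Scheme.Modules.pullback i).obj E) r = -(r : ℤ) * d) (Y : Set Xs) (hY : IsClosed Y) (hYs : VecSt.IsSubcurve Xs Y) (GY : Xs.Modules) (πY : ((Scheme.Modules.pullback i).obj I) ⟶ GY) (hGY : TFOne.IsQuotOn Xs ((Scheme.Modules.pullback i).obj I) Y GY πY) (IY : X.Modules) (hIY : IY = kernel ((Scheme.Modules.pullbackPushforwardAdjunction i).unit.app I ≫ (Scheme.Modules.pushforward i).map πY)) (hmin : ∀ (T : Set Xs) (hT : IsClosed T), VecSt.IsSubcurve Xs T → ∀ (G : Xs.Modules) (π : ((Scheme.Modules.pullback i).obj I) ⟶ G), TFOne.IsQuotOn Xs ((Scheme.Modules.pullback i).obj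 I) T G π → TFOne.rBeta Xs (IsLocalRing.ResidueField R) (Xs ↘ Spec (CommRingCat.of (IsLocalRing.ResidueField R))) Y hY ((Scheme.Modules.pullback i).obj E) r GY ≤ TFOne.rBeta Xs (IsLocalRing.ResidueField R) (Xs ↘ Spec (CommRingCat.of (IsLocalRing.ResidueField R))) T hT ((Scheme.Modules.pullback i).obj E) r G) (hmax : ∀ (T : Set Xs) (hT : IsClosed T), VecSt.IsSubcurve Xs T → ∀ (G : Xs.Modules) (π : ((Scheme.Modules.pullback i).obj I) ⟶ G), TFOne.IsQuotOn Xs ((Scheme.Modules.pullback i).obj I) T G π → TFOne.rBeta Xs (IsLocalRing.ResidueField R) (Xs ↘ Spec (CommRingCat.of (IsLocalRing.ResidueField R))) T hT ((Scheme.Modules.pullback i).obj E) r G = TFOne.rBeta Xs (IsLocalRing.ResidueField R) (Xs ↘ Spec (CommRingCat.of (IsLocalRing.ResidueField R))) Y hY ((Scheme.Modules.pullback i).obj E) r GY → T ⊆ Y) (Z : Set Xs) (hZ : IsClosed Z) (hZs : VecSt.IsSubcurve Xs Z) (GZ1 : Xs.Modules) (πZ1 : ((Scheme.Modules.pullback i).obj IY) ⟶ GZ1) (hGZ1 : TFOne.IsQuotOn Xs ((Scheme.Modules.pullback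 i).obj IY) Z GZ1 πZ1) : TFOne.rBeta Xs (IsLocalRing.ResidueField R) (Xs ↘ Spec (CommRingCat.of (IsLocalRing.ResidueField R))) Y hY ((Scheme.Modules.pullback i).obj E) r GY ≤ TFOne.rBeta Xs (IsLocalRing.ResidueField R) (Xs ↘ Spec (CommRingCat.of (IsLocalRing.ResidueField R))) Z hZ ((Scheme.Modules.pullback i).obj E) r GZ1 ∧ (TFOne.rBeta Xs (IsLocalRing.ResidueField R) (Xs ↘ Spec (CommRingCat.of (IsLocalRing.ResidueField R))) Z hZ ((Scheme.Modules.pullback i).obj E) r GZ1 = TFOne.rBeta Xs (IsLocalRing.ResidueField R) (Xs ↘ Spec (CommRingCat.of (IsLocalRing.ResidueField R))) Y hY ((Scheme.Modules.pullback i).obj E) r GY → Z ⊆ Y) := by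
  obtain ⟨hP, a, b, hmod⟩ := TFModLib.exists_isModif f i hsq hIc hIf hGY hIY
  haveI := hP
  haveI := CurvLib.isNoetherian (IsLocalRing.ResidueField R) (X := Xs)
  have hd := TFQuotLib.dim_le_of_pure hpure
  obtain ⟨D, hβ, hadd, hDu, hD0⟩ := TFModLib.exists_beta (k := IsLocalRing.ResidueField R) hd
    (Groth.Agent.S7640.isFinLocFreeOfRank_pb i hE)
  have hgY : TFModLib.GDense Y := TFModLib.gdense_subcurve hYs hY
  have hgZ : TFModLib.GDense Z := TFModLib.gdense_subcurve hZs hZ
  let W : Set Xs := ⋃₀ {C | C ∈ irreducibleComponents (Xs : Type u) ∧ C ⊆ Y ∩ Z}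
  have hWc : IsClosed W := by
    show IsClosed (⋃₀ _)
    rw [Set.sUnion_eq_biUnion]
    exact Set.Finite.isClosed_biUnion (TopologicalSpace.NoetherianSpace.finite_irreducibleComponents.subset
      fun C h => h.1) fun C h => isClosed_of_mem_irreducibleComponents C h.1
  have hgW : TFModLib.GDense W := TFModLib.gdense_sUnion (fun C h => h.1) hWc
  have hWm : ∀ η ∈ genericPoints (Xs : Type u), η ∈ W ↔ η ∈ Y ∧ η ∈ Z := fun η hη => by
    rw [TFModLib.mem_sUnion_comp (p := fun C => C ⊆ Y ∩ Z) hη, TFModLib.closure_subset_iff (hY.inter hZ)]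
    rfl
  have hWY : W ⊆ Y := hgW.subset_iff hY fun η hη h => ((hWm η hη).mp h).1
  obtain ⟨GW, πW, hGW⟩ := TFModLib.exists_quot hIs hgW
  obtain ⟨GU, πU, hGU⟩ := TFModLib.exists_quot hIs (hgY.union hgZ)
  have c1 := (hmod.compare (V := ∅) hIs hGY (k := IsLocalRing.ResidueField R) hd hWY hWm hGZ1 hGW hGU).1
  have h2 := hadd Y Z W hWm
  have hUs : VecSt.IsSubcurve Xs (Y ∪ Z) := TFModLib.isSubcurve_of_gdense (hgY.union hgZ)
    ((TFModLib.nonempty_subcurve hYs).mono Set.subset_union_left)
  have key : TFOne.rBeta Xs (IsLocalRing.ResidueField R) (Xs ↘ Spec (CommRingCat.of (IsLocalRing.ResidueField R))) W hWc ((Scheme.Modules.pullback i).obj E) r GW + TFOne.rBeta Xs (IsLocalRing.ResidueField R) (Xs ↘ Spec (CommRingCat.of (IsLocalRing.ResidueField R))) (Y ∪ Z) (hY.union hZ) ((Scheme.Modules.pullback i).obj E) r GU ≤ TFOne.rBeta Xs (IsLocalRing.ResidueField R) (Xs ↘ Spec (CommRingCat.of (IsLocalRing.ResidueField R))) Z hZ ((Scheme.Modules.pullback i).obj E) r GZ1 + TFOne.rBeta Xs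 (IsLocalRing.ResidueField R) (Xs ↘ Spec (CommRingCat.of (IsLocalRing.ResidueField R))) Y hY ((Scheme.Modules.pullback i).obj E) r GY := by
    rw [hβ, hβ, hβ, hβ]
    nlinarith [c1, h2, hr]
  obtain ⟨GM, πM, hGM⟩ := TFModLib.exists_quot hIs TFModLib.gdense_univ
  have hM0 : TFOne.rBeta Xs (IsLocalRing.ResidueField R) (Xs ↘ Spec (CommRingCat.of (IsLocalRing.ResidueField R))) Set.univ isClosed_univ ((Scheme.Modules.pullback i).obj E) r GM = 0 := by
    rw [hβ, TFModLib.beta_univ (k := IsLocalRing.ResidueField R) hIs hGM, hDu, hχ, hEd]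
    ring
  have hW0 : W = ∅ → TFOne.rBeta Xs (IsLocalRing.ResidueField R) (Xs ↘ Spec (CommRingCat.of (IsLocalRing.ResidueField R))) W hWc ((Scheme.Modules.pullback i).obj E) r GW = 0 := fun h => by
    rw [hβ, TFModLib.euler_eq_zero_of_support (k := IsLocalRing.ResidueField R) hGW.2.1 (hGW.2.2.2.trans h),
      h, hD0]
    ring
  have huniv : VecSt.IsSubcurve Xs (Set.univ : Set Xs) := TFModLib.isSubcurve_of_gdense TFModLib.gdense_univ
    ((TFModLib.nonempty_subcurve hYs).mono (Set.subset_univ _))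
  have hWge : TFOne.rBeta Xs (IsLocalRing.ResidueField R) (Xs ↘ Spec (CommRingCat.of (IsLocalRing.ResidueField R))) Y hY ((Scheme.Modules.pullback i).obj E) r GY ≤ TFOne.rBeta Xs (IsLocalRing.ResidueField R) (Xs ↘ Spec (CommRingCat.of (IsLocalRing.ResidueField R))) W hWc ((Scheme.Modules.pullback i).obj E) r GW := by
    rcases W.eq_empty_or_nonempty with hW | hW
    · rw [hW0 hW, ← hM0]
      exact hmin Set.univ isClosed_univ huniv GM πM hGM
    · exact hmin W hWc (TFModLib.isSubcurve_of_gdense hgW hW) GW πW hGW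
  have hUge := hmin _ (hY.union hZ) hUs GU πU hGU
  exact ⟨by linarith, fun h =>
    Set.subset_union_right.trans (hmax _ (hY.union hZ) hUs GU πU hGU (by linarith))⟩

end Groth.Agent.S18847
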