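import Groth.Statements.S18848
import Groth.Agent.TFModLib.Main
import Groth.Agent.TFModLib.SubPush

set_option autoImplicit false
universe u
open CategoryTheory CategoryTheory.Limits AlgebraicGeometry
open TFOne

namespace Groth.Agent.S18848

/-- Let R be a discrete valuation ring with residue field κ, f : X ⟶ Spec R flat and proper, and X_s its
special fibre, assumed reduced of pure dimension one with geometrically integral irreducible
components over κ. Let I be a coherent R-flat module on X whose restriction I(s) to X_s is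
torsion-free rank-1, E a locally free module of rank r > 0 on X with restriction E(s), and d an
integer with χ(I(s)) = d and deg E(s) = -r·d. For a closed subset T of X_s write I(s)_T for the
torsion-free quotient of I(s) on T (pinned by its defining property) and β(T) := r·χ(I(s)_T) +
deg(E(s)|_T) (the source's β cleared of the denominator r). Let Y be a closed subcurve of X_s (a
non-empty union of irreducible components), and let I^Y be the kernel of the composite I ⟶ i_* I(s)
⟶ i_* I(s)_Y, with restriction I^Y(s) to X_s and quotients I^Y(s)_T and numbers β^Y(T) :=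
r·χ(I^Y(s)_T) + deg(E(s)|_T) defined likewise. Assume I(s) is semistable with respect to E(s). Then
I^Y(s) is semistable with respect to E(s) if and only if β(Y) = 0 and I(s)_Y, viewed on the reduced
closed subscheme Y, is semistable with respect to E(s)|_Y. (Here β(Y) = 0 says that E(s)|_Y is a
polarisation for I(s)_Y, the source's implicit requirement for semistability with respect to
E(s)|_Y. The source states the conclusion for semistability of I^Y over Spec R, which it reduces at
once to the special fibre since I^Y and I agree off Y; it also asserts that I^Y(s) and I(s) are then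
Jordan–Hölder equivalent, which is not stated here; it takes f projective.) -/
theorem result (R : Type u) [CommRing R] [IsDomain R] [IsDiscreteValuationRing R] (X : Scheme.{u}) (f : X ⟶ Spec (CommRingCat.of R)) [Flat f] [IsProper f] (Xs : Scheme.{u}) [Xs.Over (Spec (CommRingCat.of (IsLocalRing.ResidueField R)))] (i : Xs ⟶ X) (hsq : IsPullback i (Xs ↘ Spec (CommRingCat.of (IsLocalRing.ResidueField R))) f (Spec.map (CommRingCat.ofHom (IsLocalRing.residue R)))) [IsReduced Xs] (hpure : ∀ C ∈ irreducibleComponents (Xs : Type u), topologicalKrullDim C = 1) (hgi : ∀ (C : Set Xs) (hC : C ∈ irreducibleComponents (Xs : Type u)), GeometricallyIntegral (VecSt.subschι Xs C (isClosed_of_mem_irreducibleComponents C hC) ≫ (Xs ↘ Spec (CommRingCat.of (IsLocalRing.ResidueField R))))) (I : X.Modules) (hIc : Coh.IsCoh I) (hIf : FlatMod.IsFlatOver f I) (hIs : TFOne.IsTF1 Xs ((Scheme.Modules.pullback i).obj I)) (E : X.Modules) (r : ℕ) (hr : 0 < r) (hE : FlatMod.IsFinLocFreeOfRank r E) (d : ℤ) (hχ : Curv2.euler (IsLocalRing.ResidueField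 R) Xs ((Scheme.Modules.pullback i).obj I) = d) (hEd : Curv2.deg (IsLocalRing.ResidueField R) Xs ((Scheme.Modules.pullback i).obj E) r = -(r : ℤ) * d) (hss : TFOne.IsSemistable Xs (IsLocalRing.ResidueField R) (Xs ↘ Spec (CommRingCat.of (IsLocalRing.ResidueField R))) ((Scheme.Modules.pullback i).obj I) ((Scheme.Modules.pullback i).obj E) r) (Y : Set Xs) (hY : IsClosed Y) (hYs : VecSt.IsSubcurve Xs Y) (GY : Xs.Modules) (πY : ((Scheme.Modules.pullback i).obj I) ⟶ GY) (hGY : TFOne.IsQuotOn Xs ((Scheme.Modules.pullback i).obj I) Y GY πY) (IY : X.Modules) (hIY : IY = kernel ((Scheme.Modules.pullbackPushforwardAdjunction i).unit.app I ≫ (Scheme.Modules.pushforward i).map πY)) : TFOne.IsSemistable Xs (IsLocalRing.ResidueField R) (Xs ↘ Spec (CommRingCat.of (IsLocalRing.ResidueField R))) ((Scheme.Modules.pullback i).obj IY) ((Scheme.Modules.pullback i).obj E) r ↔ (TFOne.rBeta Xs (IsLocalRing.ResidueField R) (Xs ↘ Spec (CommRingCat.of (IsLocalRing.ResidueField R))) Y hY ((Scheme.Modules.pullback i).obj E) r GY = 0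 ∧ TFOne.IsSemistable (VecSt.subsch Xs Y hY) (IsLocalRing.ResidueField R) (VecSt.subschι Xs Y hY ≫ (Xs ↘ Spec (CommRingCat.of (IsLocalRing.ResidueField R)))) ((Scheme.Modules.pullback (VecSt.subschι Xs Y hY)).obj GY) ((Scheme.Modules.pullback (VecSt.subschι Xs Y hY)).obj ((Scheme.Modules.pullback i).obj E)) r) := by
  obtain ⟨hP, a, b, hmod⟩ := TFModLib.exists_isModif f i hsq hIc hIf hGY hIY
  haveI := hP
  haveI := CurvLib.isNoetherian (IsLocalRing.ResidueField R) (X := Xs)
  have hd := TFQuotLib.dim_le_of_pure hpure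
  have hEs := Groth.Agent.S7640.isFinLocFreeOfRank_pb i hE
  obtain ⟨D, hdeg, hadd, hDu, hD0, hDF⟩ := TFModLib.exists_degFun' (k := IsLocalRing.ResidueField R) hd hEs
  have hβ : ∀ (T : Set Xs) (hT : IsClosed T) (G : Xs.Modules),
      TFOne.rBeta Xs (IsLocalRing.ResidueField R) (Xs ↘ Spec (CommRingCat.of (IsLocalRing.ResidueField R))) T hT
        ((Scheme.Modules.pullback i).obj E) r G = r * Curv2.euler (IsLocalRing.ResidueField R) Xs G + D T :=
    fun T hT G => congrArg (fun t : ℤ => (r : ℤ) * Curv2.euler (IsLocalRing.ResidueField R) Xs G + t) (hdeg T hT)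
  have hgY : TFModLib.GDense Y := TFModLib.gdense_subcurve hYs hY
  have hnn : ∀ (T : Set Xs) (hT : IsClosed T), TFModLib.GDense T → T.Nonempty → ∀ (G : Xs.Modules) (π : ((Scheme.Modules.pullback i).obj I) ⟶ G), TFOne.IsQuotOn Xs ((Scheme.Modules.pullback i).obj I) T G π → 0 ≤ TFOne.rBeta Xs (IsLocalRing.ResidueField R) (Xs ↘ Spec (CommRingCat.of (IsLocalRing.ResidueField R))) T hT ((Scheme.Modules.pullback i).obj E) r G := by
    intro T hT hg hne G π hG
    rcases eq_or_ne T Set.univ with hu | hu
    · subst hu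
      rw [hβ, TFModLib.beta_univ (k := IsLocalRing.ResidueField R) hIs hG, hDu, hχ, hEd]
      nlinarith
    · exact hss.2 T hT (TFModLib.isSubcurve_of_gdense hg hne) hu G π hG
  have hN := hmod.isTF1 hIs hGY
  have hY0 := hnn Y hY hgY (TFModLib.nonempty_subcurve hYs) GY πY hGY
  constructor
  · intro hN'
    refine ⟨?_, ?_⟩
    · rcases eq_or_ne Y Set.univ with hu | hu
      · subst hu
        rw [hβ, TFModLib.beta_univ (k := IsLocalRing.ResidueField R) hIs hGY, hDu, hχ, hEd]
        ring
      let Y' : Set Xs := ⋃₀ {C | C ∈ irreducibleComponents (Xs : Type u) ∧ ¬ C ⊆ Y}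
      have hY'c : IsClosed Y' := by
        show IsClosed (⋃₀ _)
        rw [Set.sUnion_eq_biUnion]
        exact Set.Finite.isClosed_biUnion (TopologicalSpace.NoetherianSpace.finite_irreducibleComponents.subset
          fun C h => h.1) fun C h => isClosed_of_mem_irreducibleComponents C h.1
      have hgY' : TFModLib.GDense Y' := TFModLib.gdense_sUnion (fun C h => h.1) hY'c
      have hY'm : ∀ η ∈ genericPoints (Xs : Type u), η ∈ Y' ↔ η ∉ Y := fun η hη => by
        rw [TFModLib.mem_sUnion_comp (p := fun C => ¬ C ⊆ Y) hη, TFModLib.closure_subset_iff hY]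
      have hcov : Y ∪ Y' = Set.univ := Set.univ_subset_iff.mp (TFModLib.gdense_univ.subset_iff (hY.union hY'c)
        fun η hη _ => (em (η ∈ Y)).imp id (hY'm η hη).mpr)
      have hne : Y'.Nonempty := Set.nonempty_iff_ne_empty.mpr fun h => hu (by rw [← hcov, h, Set.union_empty])
      have hnu : Y' ≠ Set.univ := fun h => by
        obtain ⟨x, hx⟩ := TFModLib.nonempty_subcurve hYs
        obtain ⟨η, hη, hηY, -⟩ := hgY.2 x hx
        exact (hY'm η hη).mp (h.ge (Set.mem_univ η)) hηY
      obtain ⟨G2, π2, hG2⟩ := TFModLib.exists_quot hN hgY'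
      obtain ⟨GM, πM, hGM⟩ := TFModLib.exists_quot hIs TFModLib.gdense_univ
      obtain ⟨GE, πE, hGE⟩ := TFModLib.exists_quot hIs (T := (∅ : Set Xs)) ⟨isClosed_empty, fun x hx => hx.elim⟩
      have eM := TFModLib.beta_univ (k := IsLocalRing.ResidueField R) hIs hGM
      have c2 := (hmod.compare (V := Y') hIs hGY (k := IsLocalRing.ResidueField R) hd (Set.empty_subset Y)
        (Z := Y') (fun η hη => iff_of_false (Set.notMem_empty η) fun h => (hY'm η hη).mp h.2 h.1) hG2 hGE
        (hcov.symm ▸ hGM)).2.2 hgY' (fun η hη => ⟨fun h => ⟨h, (hY'm η hη).mp h⟩, fun h => h.1⟩) hG2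
      have h1 := hN'.2 Y' hY'c (TFModLib.isSubcurve_of_gdense hgY' hne) hnu G2 π2 hG2
      have h2 := hadd Y Y' ∅ fun η hη => iff_of_false (Set.notMem_empty η) fun h => (hY'm η hη).mp h.2 h.1
      rw [hcov, hD0, hDu, hEd] at h2
      rw [hβ, c2, eM, hχ] at h1
      rw [hβ] at hY0 ⊢
      linarith
    · let iY := VecSt.subschι Xs Y hY
      haveI := DevissLib.isReduced_vanishingIdeal' (⟨Y, hY⟩ : TopologicalSpace.Closeds Xs)
      have rY : Set.range ⇑iY = Y := Scheme.IdealSheafData.range_subschemeι _
      obtain ⟨SY, hSY, -, hYe⟩ := hYs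
      have gY : ∀ z, z ∈ genericPoints ↥(VecSt.subsch Xs Y hY) → iY z ∈ genericPoints (Xs : Type u) :=
        fun z hz => TFQuotLib.map_generic iY hSY (rY.trans hYe) hz
      refine ⟨TFModLib.isTF1_pull iY hIs hGY rY gY, fun Z0 hZ0 hZ0s hne G π hG => ?_⟩
      classical
      letI : (VecSt.subsch Xs Y hY).Over (Spec (CommRingCat.of (IsLocalRing.ResidueField R))) :=
        ⟨iY ≫ (Xs ↘ Spec (CommRingCat.of (IsLocalRing.ResidueField R)))⟩
      haveI : IsProper ((VecSt.subsch Xs Y hY) ↘ Spec (CommRingCat.of (IsLocalRing.ResidueField R))) :=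
        inferInstanceAs (IsProper (iY ≫ (Xs ↘ Spec (CommRingCat.of (IsLocalRing.ResidueField R)))))
      haveI := CurvLib.isNoetherian (IsLocalRing.ResidueField R) (X := VecSt.subsch Xs Y hY)
      have hgT := TFModLib.gdense_subcurve hZ0s hZ0
      obtain ⟨π', hq⟩ := TFModLib.isQuotOn_push iY hGY rY gY hgT hG
      have hT := TFModLib.gdense_image iY gY hgT
      have hnn' : 0 ≤ TFOne.rBeta Xs (IsLocalRing.ResidueField R)
          (Xs ↘ Spec (CommRingCat.of (IsLocalRing.ResidueField R))) (iY '' Z0) hT.1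
          ((Scheme.Modules.pullback i).obj E) r ((Coh.push iY).obj G) :=
        hnn _ hT.1 hT ((TFModLib.nonempty_subcurve hZ0s).image _) _ π' hq
      have hE' := Groth.Agent.S7640.isFinLocFreeOfRank_pb iY hEs
      let Q := ClSub.quotMod (Scheme.IdealSheafData.vanishingIdeal
        (⟨Z0, hZ0⟩ : TopologicalSpace.Closeds (VecSt.subsch Xs Y hY)))
      have hQ : Coh.IsCoh Q := CurvLib.isCoh_quotMod _
      haveI := hQ.1
      haveI := hG.2.1.1
      haveI : Coh.IsQCoh (CohB1.tensorMod Q ((Scheme.Modules.pullback iY).obj ((Scheme.Modules.pullback i).obj E))) :=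
        (IntMultLib.isCoh_tensor_locFree hE' hQ).1
      have e1 := IntMultLib.euler_quotMod_tensor (IsLocalRing.ResidueField R) hE'
        (Scheme.IdealSheafData.vanishingIdeal (⟨Z0, hZ0⟩ : TopologicalSpace.Closeds (VecSt.subsch Xs Y hY)))
      let pr := @asIso _ _ _ _ (ProjFormLib.projApp iY ((Scheme.Modules.pullback i).obj E) Q)
        (ProjFormLib.isIso_projApp iY (CurveVBLib.isFinLocFree_of_rank hEs) _)
      have e2 : Curv2.euler (IsLocalRing.ResidueField R) (VecSt.subsch Xs Y hY)
          (CohB1.tensorMod Q ((Scheme.Modules.pullback iY).obj ((Scheme.Modules.pullback i).obj E))) =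
          Curv2.euler (IsLocalRing.ResidueField R) Xs
            (CohB1.tensorMod ((Coh.push iY).obj Q) ((Scheme.Modules.pullback i).obj E)) :=
        (PushLinLib.euler_push (IsLocalRing.ResidueField R) iY rfl _).2.trans
          (CurvLib.euler_congr (HilbPolyLib.swapIso _ _ ≪≫ pr ≪≫ (Coh.push iY).mapIso
            (HilbPolyLib.swapIso _ _))).symm
      have e3 := (PushLinLib.euler_push (IsLocalRing.ResidueField R) iY rfl Q).2
      have e4 := (PushLinLib.euler_push (IsLocalRing.ResidueField R) iY rfl G).2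
      have e5 := hDF ((Coh.push iY).obj Q) (iY '' Z0) (QCohLib.isCoh_push_finite iY Q hQ) fun η hη => by
        by_cases hr' : η ∈ Set.range ⇑iY
        · obtain ⟨z, rfl⟩ := hr'
          rw [TFModLib.len_push iY Q z, TFModLib.len_quotMod_vanishing (TFQuotLib.generic_of_map iY hη) hZ0]
          simp only [iY.isClosedEmbedding.injective.mem_set_image]
        · rw [IntMultLib.len_eq_zero fun hs => hr' (DevissLib.support_push_subset iY Q hs),
            if_neg fun hm => hr' (Set.image_subset_range _ _ hm)]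
      rw [hβ, ← e5, ← e4, ← e2, ← e3] at hnn'
      show 0 ≤ (r : ℤ) * Curv2.euler (IsLocalRing.ResidueField R) (VecSt.subsch Xs Y hY) G + _
      exact le_of_le_of_eq hnn' (congrArg _ e1)
  · rintro ⟨hβY, -⟩
    refine ⟨hN, fun Z hZ hZs hne GZ1 π1 hGZ1 => ?_⟩
    have hgZ := TFModLib.gdense_subcurve hZs hZ
    let W : Set Xs := ⋃₀ {C | C ∈ irreducibleComponents (Xs : Type u) ∧ C ⊆ Y ∩ Z}
    have hWc : IsClosed W := by
      show IsClosed (⋃₀ _)
      rw [Set.sUnion_eq_biUnion]
      exact Set.Finite.isClosed_biUnion (TopologicalSpace.NoetherianSpace.finite_irreducibleComponents.subset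
        fun C h => h.1) fun C h => isClosed_of_mem_irreducibleComponents C h.1
    have hgW : TFModLib.GDense W := TFModLib.gdense_sUnion (fun C h => h.1) hWc
    have hWm : ∀ η ∈ genericPoints (Xs : Type u), η ∈ W ↔ η ∈ Y ∧ η ∈ Z := fun η hη => by
      rw [TFModLib.mem_sUnion_comp (p := fun C => C ⊆ Y ∩ Z) hη, TFModLib.closure_subset_iff (hY.inter hZ)]
      rfl
    have hWY : W ⊆ Y := hgW.subset_iff hY fun η hη h => ((hWm η hη).mp h).1
    obtain ⟨GW, πW, hGW⟩ := TFModLib.exists_quot hIs hgW
    obtain ⟨GU, πU, hGU⟩ := TFModLib.exists_quot hIs (hgY.union hgZ)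
    have c1 := (hmod.compare (V := ∅) hIs hGY (k := IsLocalRing.ResidueField R) hd hWY hWm hGZ1 hGW hGU).1
    have h2 := hadd Y Z W hWm
    have hUs : VecSt.IsSubcurve Xs (Y ∪ Z) := TFModLib.isSubcurve_of_gdense (hgY.union hgZ)
      ((TFModLib.nonempty_subcurve hYs).mono Set.subset_union_left)
    have key : TFOne.rBeta Xs (IsLocalRing.ResidueField R) (Xs ↘ Spec (CommRingCat.of (IsLocalRing.ResidueField R))) W hWc ((Scheme.Modules.pullback i).obj E) r GW + TFOne.rBeta Xs (IsLocalRing.ResidueField R) (Xs ↘ Spec (CommRingCat.of (IsLocalRing.ResidueField R))) (Y ∪ Z) (hY.union hZ) ((Scheme.Modules.pullback i).obj E) r GU ≤ TFOne.rBeta Xs (IsLocalRing.ResidueField R) (Xs ↘ Spec (CommRingCat.of (IsLocalRing.ResidueField R))) Z hZ ((Scheme.Modules.pullback i).obj E) r GZ1 + TFOne.rBeta Xs (IsLocalRing.ResidueField R) (Xs ↘ Spec (CommRingCat.of (IsLocalRing.ResidueField R))) Y hY ((Scheme.Modules.pullback i).obj E) r GY := by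
      rw [hβ, hβ, hβ, hβ]
      nlinarith [c1, h2, hr]
    have hU0 := hnn _ (hY.union hZ) (hgY.union hgZ) ((TFModLib.nonempty_subcurve hYs).mono Set.subset_union_left)
      GU πU hGU
    rcases W.eq_empty_or_nonempty with hW | hW
    · have hW0 : TFOne.rBeta Xs (IsLocalRing.ResidueField R) (Xs ↘ Spec (CommRingCat.of (IsLocalRing.ResidueField R))) W hWc ((Scheme.Modules.pullback i).obj E) r GW = 0 := by
        rw [hβ, TFModLib.euler_eq_zero_of_support (k := IsLocalRing.ResidueField R) hGW.2.1 (hGW.2.2.2.trans hW),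
          hW, hD0]
        ring
      linarith
    · have hW0 := hnn W hWc hgW hW GW πW hGW
      linarith

end Groth.Agent.S18848
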