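import Groth.Statements.S18853
import Groth.Agent.TFModLib.Main

set_option autoImplicit false
universe u
open CategoryTheory CategoryTheory.Limits AlgebraicGeometry
open TFOne

namespace Groth.Agent.S18853

/-- Let R be a discrete valuation ring with residue field κ, f : X ⟶ Spec R flat and proper, and X_s its
special fibre, assumed reduced of pure dimension one with geometrically integral irreducible
components over κ. Let I be a coherent R-flat module on X whose restriction I(s) to X_s is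
torsion-free rank-1, E a locally free module of rank r > 0 on X with restriction E(s), and d an
integer with χ(I(s)) = d and deg E(s) = -r·d. For a closed subset T of X_s write I(s)_T for the
torsion-free quotient of I(s) on T (pinned by its defining property) and β(T) := r·χ(I(s)_T) +
deg(E(s)|_T) (the source's β cleared of the denominator r). Let Y be a closed subcurve of X_s (a
non-empty union of irreducible components), and let I^Y be the kernel of the composite I ⟶ i_* I(s)
⟶ i_* I(s)_Y, with restriction I^Y(s) to X_s and quotients I^Y(s)_T and numbers β^Y(T) :=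
r·χ(I^Y(s)_T) + deg(E(s)|_T) defined likewise. Assume I(s) is semistable with respect to E(s). Let W
be an irreducible component of X_s and suppose that Y is the smallest closed subcurve of X_s
containing W with β(Y) = 0 (it is contained in every closed subcurve T ⊇ W with β(T) = 0). If Z is a
closed subcurve containing W with β^Y(Z) = 0 which is smallest with this property, then Y ⊆ Z. (The
source adds that I^Y is again semistable, which follows from the preceding semistability criterion
for I^Y, and that Y = Z exactly when I^Y(s) decomposes at Y; neither is stated here. The source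
takes f projective.) -/
theorem result (R : Type u) [CommRing R] [IsDomain R] [IsDiscreteValuationRing R] (X : Scheme.{u}) (f : X ⟶ Spec (CommRingCat.of R)) [Flat f] [IsProper f] (Xs : Scheme.{u}) [Xs.Over (Spec (CommRingCat.of (IsLocalRing.ResidueField R)))] (i : Xs ⟶ X) (hsq : IsPullback i (Xs ↘ Spec (CommRingCat.of (IsLocalRing.ResidueField R))) f (Spec.map (CommRingCat.ofHom (IsLocalRing.residue R)))) [IsReduced Xs] (hpure : ∀ C ∈ irreducibleComponents (Xs : Type u), topologicalKrullDim C = 1) (hgi : ∀ (C : Set Xs) (hC : C ∈ irreducibleComponents (Xs : Type u)), GeometricallyIntegral (VecSt.subschι Xs C (isClosed_of_mem_irreducibleComponents C hC) ≫ (Xs ↘ Spec (CommRingCat.of (IsLocalRing.ResidueField R))))) (I : X.Modules) (hIc : Coh.IsCoh I) (hIf : FlatMod.IsFlatOver f I) (hIs : TFOne.IsTF1 Xs ((Scheme.Modules.pullback i).obj I)) (E : X.Modules) (r : ℕ) (hr : 0 < r) (hE : FlatMod.IsFinLocFreeOfRank r E) (d : ℤ) (hχ : Curv2.euler (IsLocalRing.ResidueField R) Xs ((Scheme.Modules.pullback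 i).obj I) = d) (hEd : Curv2.deg (IsLocalRing.ResidueField R) Xs ((Scheme.Modules.pullback i).obj E) r = -(r : ℤ) * d) (hss : TFOne.IsSemistable Xs (IsLocalRing.ResidueField R) (Xs ↘ Spec (CommRingCat.of (IsLocalRing.ResidueField R))) ((Scheme.Modules.pullback i).obj I) ((Scheme.Modules.pullback i).obj E) r) (Y : Set Xs) (hY : IsClosed Y) (hYs : VecSt.IsSubcurve Xs Y) (GY : Xs.Modules) (πY : ((Scheme.Modules.pullback i).obj I) ⟶ GY) (hGY : TFOne.IsQuotOn Xs ((Scheme.Modules.pullback i).obj I) Y GY πY) (IY : X.Modules) (hIY : IY = kernel ((Scheme.Modules.pullbackPushforwardAdjunction i).unit.app I ≫ (Scheme.Modules.pushforward i).map πY)) (W : Set Xs) (hWc : W ∈ irreducibleComponents (Xs : Type u)) (hWY : W ⊆ Y) (hY0 : TFOne.rBeta Xs (IsLocalRing.ResidueField R) (Xs ↘ Spec (CommRingCat.of (IsLocalRing.ResidueField R))) Y hY ((Scheme.Modules.pullback i).obj E) r GY = 0) (hYmin : ∀ (T : Set Xs) (hT : IsClosed T), VecSt.IsSubcurve Xs T → W ⊆ T → ∀ (G : Xs.Modules) (π : ((Scheme.Modules.pullback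 i).obj I) ⟶ G), TFOne.IsQuotOn Xs ((Scheme.Modules.pullback i).obj I) T G π → TFOne.rBeta Xs (IsLocalRing.ResidueField R) (Xs ↘ Spec (CommRingCat.of (IsLocalRing.ResidueField R))) T hT ((Scheme.Modules.pullback i).obj E) r G = 0 → Y ⊆ T) (Z : Set Xs) (hZ : IsClosed Z) (hZs : VecSt.IsSubcurve Xs Z) (hWZ : W ⊆ Z) (GZ1 : Xs.Modules) (πZ1 : ((Scheme.Modules.pullback i).obj IY) ⟶ GZ1) (hGZ1 : TFOne.IsQuotOn Xs ((Scheme.Modules.pullback i).obj IY) Z GZ1 πZ1) (hZ0 : TFOne.rBeta Xs (IsLocalRing.ResidueField R) (Xs ↘ Spec (CommRingCat.of (IsLocalRing.ResidueField R))) Z hZ ((Scheme.Modules.pullback i).obj E) r GZ1 = 0) (hZmin : ∀ (T : Set Xs) (hT : IsClosed T), VecSt.IsSubcurve Xs T → W ⊆ T → ∀ (G : Xs.Modules) (π : ((Scheme.Modules.pullback i).obj IY) ⟶ G), TFOne.IsQuotOn Xs ((Scheme.Modules.pullback i).obj IY) T G π → TFOne.rBeta Xs (IsLocalRing.ResidueField R) (Xs ↘ Spec (CommRingCat.of (IsLocalRing.ResidueField R))) T hT ((Scheme.Modules.pullback i).obj E) r G = 0 → Z ⊆ T) : Y ⊆ Z :=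 by
  obtain ⟨hP, a, b, hmod⟩ := TFModLib.exists_isModif f i hsq hIc hIf hGY hIY
  haveI := hP
  haveI := CurvLib.isNoetherian (IsLocalRing.ResidueField R) (X := Xs)
  have hd := TFQuotLib.dim_le_of_pure hpure
  obtain ⟨D, hβ, hadd, hDu, hD0⟩ := TFModLib.exists_beta (k := IsLocalRing.ResidueField R) hd
    (Groth.Agent.S7640.isFinLocFreeOfRank_pb i hE)
  have hgY : TFModLib.GDense Y := TFModLib.gdense_subcurve hYs hY
  have hgZ : TFModLib.GDense Z := TFModLib.gdense_subcurve hZs hZ
  let W₁ : Set Xs := ⋃₀ {C | C ∈ irreducibleComponents (Xs : Type u) ∧ C ⊆ Y ∩ Z}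
  have hW₁c : IsClosed W₁ := by
    show IsClosed (⋃₀ _)
    rw [Set.sUnion_eq_biUnion]
    exact Set.Finite.isClosed_biUnion (TopologicalSpace.NoetherianSpace.finite_irreducibleComponents.subset
      fun C h => h.1) fun C h => isClosed_of_mem_irreducibleComponents C h.1
  have hgW : TFModLib.GDense W₁ := TFModLib.gdense_sUnion (fun C h => h.1) hW₁c
  have hWm : ∀ η ∈ genericPoints (Xs : Type u), η ∈ W₁ ↔ η ∈ Y ∧ η ∈ Z := fun η hη => by
    rw [TFModLib.mem_sUnion_comp (p := fun C => C ⊆ Y ∩ Z) hη, TFModLib.closure_subset_iff (hY.inter hZ)]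
    rfl
  have hW₁Y : W₁ ⊆ Y := hgW.subset_iff hY fun η hη h => ((hWm η hη).mp h).1
  obtain ⟨GW, πW, hGW⟩ := TFModLib.exists_quot hIs hgW
  obtain ⟨GU, πU, hGU⟩ := TFModLib.exists_quot hIs (hgY.union hgZ)
  have c1 := (hmod.compare (V := ∅) hIs hGY (k := IsLocalRing.ResidueField R) hd hW₁Y hWm hGZ1 hGW hGU).1
  have h2 := hadd Y Z W₁ hWm
  have hUs : VecSt.IsSubcurve Xs (Y ∪ Z) := TFModLib.isSubcurve_of_gdense (hgY.union hgZ)
    ((TFModLib.nonempty_subcurve hYs).mono Set.subset_union_left)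
  have key : TFOne.rBeta Xs (IsLocalRing.ResidueField R) (Xs ↘ Spec (CommRingCat.of (IsLocalRing.ResidueField R))) W₁ hW₁c ((Scheme.Modules.pullback i).obj E) r GW + TFOne.rBeta Xs (IsLocalRing.ResidueField R) (Xs ↘ Spec (CommRingCat.of (IsLocalRing.ResidueField R))) (Y ∪ Z) (hY.union hZ) ((Scheme.Modules.pullback i).obj E) r GU ≤ TFOne.rBeta Xs (IsLocalRing.ResidueField R) (Xs ↘ Spec (CommRingCat.of (IsLocalRing.ResidueField R))) Z hZ ((Scheme.Modules.pullback i).obj E) r GZ1 + TFOne.rBeta Xs (IsLocalRing.ResidueField R) (Xs ↘ Spec (CommRingCat.of (IsLocalRing.ResidueField R))) Y hY ((Scheme.Modules.pullback i).obj E) r GY := by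
    rw [hβ, hβ, hβ, hβ]
    nlinarith [c1, h2, hr]
  obtain ⟨GM, πM, hGM⟩ := TFModLib.exists_quot hIs TFModLib.gdense_univ
  have hM0 : TFOne.rBeta Xs (IsLocalRing.ResidueField R) (Xs ↘ Spec (CommRingCat.of (IsLocalRing.ResidueField R))) Set.univ isClosed_univ ((Scheme.Modules.pullback i).obj E) r GM = 0 := by
    rw [hβ, TFModLib.beta_univ (k := IsLocalRing.ResidueField R) hIs hGM, hDu, hχ, hEd]
    ring
  have hW0 : W₁ = ∅ → TFOne.rBeta Xs (IsLocalRing.ResidueField R) (Xs ↘ Spec (CommRingCat.of (IsLocalRing.ResidueField R))) W₁ hW₁c ((Scheme.Modules.pullback i).obj E) r GW = 0 := fun h => by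
    rw [hβ, TFModLib.euler_eq_zero_of_support (k := IsLocalRing.ResidueField R) hGW.2.1 (hGW.2.2.2.trans h),
      h, hD0]
    ring
  have hnn : ∀ (T : Set Xs) (hT : IsClosed T), TFModLib.GDense T → T.Nonempty → ∀ (G : Xs.Modules) (π : ((Scheme.Modules.pullback i).obj I) ⟶ G), TFOne.IsQuotOn Xs ((Scheme.Modules.pullback i).obj I) T G π → 0 ≤ TFOne.rBeta Xs (IsLocalRing.ResidueField R) (Xs ↘ Spec (CommRingCat.of (IsLocalRing.ResidueField R))) T hT ((Scheme.Modules.pullback i).obj E) r G := by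
    intro T hT hg hne G π hG
    rcases eq_or_ne T Set.univ with hu | hu
    · subst hu
      rw [hβ, TFModLib.beta_univ (k := IsLocalRing.ResidueField R) hIs hG, hDu, hχ, hEd]
      nlinarith
    · exact hss.2 T hT (TFModLib.isSubcurve_of_gdense hg hne) hu G π hG
  have hWW : W ⊆ W₁ := Set.subset_sUnion_of_mem ⟨hWc, Set.subset_inter hWY hWZ⟩
  have hWne : W₁.Nonempty := Set.Nonempty.mono hWW hWc.1.1
  have h0 := hnn W₁ hW₁c hgW hWne GW πW hGW
  have h0' := hnn _ (hY.union hZ) (hgY.union hgZ) ((TFModLib.nonempty_subcurve hYs).mono Set.subset_union_left)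
    GU πU hGU
  exact (hYmin W₁ hW₁c (TFModLib.isSubcurve_of_gdense hgW hWne) hWW GW πW hGW (by linarith)).trans
    (hgW.subset_iff hZ fun η hη h => ((hWm η hη).mp h).2)

end Groth.Agent.S18853
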