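import Groth.Statements.S18856
import Groth.Agent.TFModLib.Main

set_option autoImplicit false
universe u
open CategoryTheory CategoryTheory.Limits AlgebraicGeometry
open TFOne

namespace Groth.Agent.S18856

/-- Let R be a discrete valuation ring with residue field κ, f : X ⟶ Spec R flat and proper, and X_s its
special fibre, assumed reduced of pure dimension one with geometrically integral irreducible
components over κ. Let I be a coherent R-flat module on X whose restriction I(s) to X_s is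
torsion-free rank-1, E a locally free module of rank r > 0 on X with restriction E(s), and d an
integer with χ(I(s)) = d and deg E(s) = -r·d. For a closed subset T of X_s write I(s)_T for the
torsion-free quotient of I(s) on T (pinned by its defining property) and β(T) := r·χ(I(s)_T) +
deg(E(s)|_T) (the source's β cleared of the denominator r). Let Y be a closed subcurve of X_s (a
non-empty union of irreducible components), and let I^Y be the kernel of the composite I ⟶ i_* I(s)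
⟶ i_* I(s)_Y, with restriction I^Y(s) to X_s and quotients I^Y(s)_T and numbers β^Y(T) :=
r·χ(I^Y(s)_T) + deg(E(s)|_T) defined likewise. Let Z be a closed subcurve of X_s, W the union of the
irreducible components of X_s contained in Y ∩ Z, Y' the union of the components not contained in Y,
and V the union of the components contained in Z but not in Y (each possibly empty; the torsion-free
quotient on the empty set is 0). Then the inequality β^Y(Z) + β(Y) ≥ β(W) + β(Y ∪ Z) is an equality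
if and only if χ(I^Y(s)_W) + χ(I^Y(s)_{Y'}) − χ(I^Y(s)_{W ∪ Y'}) = χ(I^Y(s)_W) + χ(I^Y(s)_V) −
χ(I^Y(s)_Z), that is δ(W, Y') = δ(W, V) for δ(A, B) := χ(I^Y(s)_A) + χ(I^Y(s)_B) − χ(I^Y(s)_{A ∪ B})
(note W ∪ V = Z). (The source takes f projective.) -/
theorem result (R : Type u) [CommRing R] [IsDomain R] [IsDiscreteValuationRing R] (X : Scheme.{u}) (f : X ⟶ Spec (CommRingCat.of R)) [Flat f] [IsProper f] (Xs : Scheme.{u}) [Xs.Over (Spec (CommRingCat.of (IsLocalRing.ResidueField R)))] (i : Xs ⟶ X) (hsq : IsPullback i (Xs ↘ Spec (CommRingCat.of (IsLocalRing.ResidueField R))) f (Spec.map (CommRingCat.ofHom (IsLocalRing.residue R)))) [IsReduced Xs] (hpure : ∀ C ∈ irreducibleComponents (Xs : Type u), topologicalKrullDim C = 1) (hgi : ∀ (C : Set Xs) (hC : C ∈ irreducibleComponents (Xs : Type u)), GeometricallyIntegral (VecSt.subschι Xs C (isClosed_of_mem_irreducibleComponents C hC) ≫ (Xs ↘ Spec (CommRingCat.of (IsLocalRing.ResidueField R))))) (I : X.Modules) (hIc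 : Coh.IsCoh I) (hIf : FlatMod.IsFlatOver f I) (hIs : TFOne.IsTF1 Xs ((Scheme.Modules.pullback i).obj I)) (E : X.Modules) (r : ℕ) (hr : 0 < r) (hE : FlatMod.IsFinLocFreeOfRank r E) (d : ℤ) (hχ : Curv2.euler (IsLocalRing.ResidueField R) Xs ((Scheme.Modules.pullback i).obj I) = d) (hEd : Curv2.deg (IsLocalRing.ResidueField R) Xs ((Scheme.Modules.pullback i).obj E) r = -(r : ℤ) * d) (Y : Set Xs) (hY : IsClosed Y) (hYs : VecSt.IsSubcurve Xs Y) (GY : Xs.Modules) (πY : ((Scheme.Modules.pullback i).obj I) ⟶ GY) (hGY : TFOne.IsQuotOn Xs ((Scheme.Modules.pullback i).obj I) Y GY πY) (IY : X.Modules) (hIY : IY = kernel ((Scheme.Modules.pullbackPushforwardAdjunction i).unit.app I ≫ (Scheme.Modules.pushforward i).map πY)) (Z W Y' V : Set Xs) (hZ : IsClosed Z) (hZs : VecSt.IsSubcurve Xs Z) (hW : W = ⋃₀ {C | C ∈ irreducibleComponents (Xs : Type u) ∧ C ⊆ Y ∩ Z}) (hWc : IsClosed W) (hY' : Y' = ⋃₀ {C | C ∈ irreducibleComponents (Xs : Type u) ∧ ¬ C ⊆ Y}) (hY'c : IsClosed Y')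 (hV : V = ⋃₀ {C | C ∈ irreducibleComponents (Xs : Type u) ∧ C ⊆ Z ∧ ¬ C ⊆ Y}) (hVc : IsClosed V) (GZ1 G2 G3 G4 G5 : Xs.Modules) (πZ1 : ((Scheme.Modules.pullback i).obj IY) ⟶ GZ1) (π5 : ((Scheme.Modules.pullback i).obj IY) ⟶ G5) (hG5 : TFOne.IsQuotOn Xs ((Scheme.Modules.pullback i).obj IY) W G5 π5) (π2 : ((Scheme.Modules.pullback i).obj IY) ⟶ G2) (π3 : ((Scheme.Modules.pullback i).obj IY) ⟶ G3) (π4 : ((Scheme.Modules.pullback i).obj IY) ⟶ G4) (hGZ1 : TFOne.IsQuotOn Xs ((Scheme.Modules.pullback i).obj IY) Z GZ1 πZ1) (hG2 : TFOne.IsQuotOn Xs ((Scheme.Modules.pullback i).obj IY) Y' G2 π2) (hG3 : TFOne.IsQuotOn Xs ((Scheme.Modules.pullback i).obj IY) (W ∪ Y') G3 π3) (hG4 : TFOne.IsQuotOn Xs ((Scheme.Modules.pullback i).obj IY) V G4 π4) (GW GU : Xs.Modules) (πW : ((Scheme.Modules.pullback i).obj I) ⟶ GW) (πU : ((Scheme.Modules.pullback i).obj I) ⟶ GU) (hGW : TFOne.IsQuotOn Xs ((Scheme.Modules.pullback i).obj I) W GW πW) (hGU : TFOne.IsQuotOn Xs ((Scheme.Modules.pullback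 i).obj I) (Y ∪ Z) GU πU) : TFOne.rBeta Xs (IsLocalRing.ResidueField R) (Xs ↘ Spec (CommRingCat.of (IsLocalRing.ResidueField R))) W hWc ((Scheme.Modules.pullback i).obj E) r GW + TFOne.rBeta Xs (IsLocalRing.ResidueField R) (Xs ↘ Spec (CommRingCat.of (IsLocalRing.ResidueField R))) (Y ∪ Z) (hY.union hZ) ((Scheme.Modules.pullback i).obj E) r GU = TFOne.rBeta Xs (IsLocalRing.ResidueField R) (Xs ↘ Spec (CommRingCat.of (IsLocalRing.ResidueField R))) Z hZ ((Scheme.Modules.pullback i).obj E) r GZ1 + TFOne.rBeta Xs (IsLocalRing.ResidueField R) (Xs ↘ Spec (CommRingCat.of (IsLocalRing.ResidueField R))) Y hY ((Scheme.Modules.pullback i).obj E) r GY ↔ Curv2.euler (IsLocalRing.ResidueField R) Xs G5 + Curv2.euler (IsLocalRing.ResidueField R) Xs G2 - Curv2.euler (IsLocalRing.ResidueField R) Xs G3 = Curv2.euler (IsLocalRing.ResidueField R) Xs G5 + Curv2.euler (IsLocalRing.ResidueField R) Xs G4 - Curv2.euler (IsLocalRing.ResidueField R) Xs GZ1 := by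
  obtain ⟨hP, a, b, hmod⟩ := TFModLib.exists_isModif f i hsq hIc hIf hGY hIY
  haveI := hP
  haveI := CurvLib.isNoetherian (IsLocalRing.ResidueField R) (X := Xs)
  have hd := TFQuotLib.dim_le_of_pure hpure
  obtain ⟨D, hβ, hadd, hDu, hD0⟩ := TFModLib.exists_beta (k := IsLocalRing.ResidueField R) hd
    (Groth.Agent.S7640.isFinLocFreeOfRank_pb i hE)
  have hgY : TFModLib.GDense Y := TFModLib.gdense_subcurve hYs hY
  have hgZ : TFModLib.GDense Z := TFModLib.gdense_subcurve hZs hZ
  have hgW : TFModLib.GDense W := by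
    subst hW
    exact TFModLib.gdense_sUnion (fun C h => h.1) hWc
  have hWm : ∀ η ∈ genericPoints (Xs : Type u), η ∈ W ↔ η ∈ Y ∧ η ∈ Z := fun η hη => by
    rw [hW, TFModLib.mem_sUnion_comp (p := fun C => C ⊆ Y ∩ Z) hη,
      TFModLib.closure_subset_iff (hY.inter hZ)]
    rfl
  have hWY : W ⊆ Y := hgW.subset_iff hY fun η hη h => ((hWm η hη).mp h).1
  have hgY' : TFModLib.GDense Y' := by
    subst hY'
    exact TFModLib.gdense_sUnion (fun C h => h.1) hY'c
  have hgV : TFModLib.GDense V := by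
    subst hV
    exact TFModLib.gdense_sUnion (fun C h => h.1) hVc
  have hY'm : ∀ η ∈ genericPoints (Xs : Type u), η ∈ Y' ↔ η ∉ Y := fun η hη => by
    rw [hY', TFModLib.mem_sUnion_comp (p := fun C => ¬ C ⊆ Y) hη, TFModLib.closure_subset_iff hY]
  have hVm : ∀ η ∈ genericPoints (Xs : Type u), η ∈ V ↔ η ∈ Z ∧ η ∉ Y := fun η hη => by
    rw [hV, TFModLib.mem_sUnion_comp (p := fun C => C ⊆ Z ∧ ¬ C ⊆ Y) hη,
      TFModLib.closure_subset_iff hY, TFModLib.closure_subset_iff hZ]
  have hcov : ∀ η ∈ genericPoints (Xs : Type u), η ∈ Y ∪ Y' := fun η hη =>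
    (em (η ∈ Y)).imp id (hY'm η hη).mpr
  have hcov' : Y ∪ Y' = Set.univ :=
    Set.univ_subset_iff.mp (TFModLib.gdense_univ.subset_iff (hY.union hY'c) fun η hη _ => hcov η hη)
  have hUY' : Y ∪ (W ∪ Y') = Set.univ := Set.univ_subset_iff.mp
    (hcov'.ge.trans (Set.union_subset_union_right _ Set.subset_union_right))
  obtain ⟨GM, πM, hGM⟩ := TFModLib.exists_quot hIs TFModLib.gdense_univ
  obtain ⟨GE, πE, hGE⟩ := TFModLib.exists_quot hIs (T := (∅ : Set Xs)) ⟨isClosed_empty, fun x hx => hx.elim⟩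
  have eM := TFModLib.beta_univ (k := IsLocalRing.ResidueField R) hIs hGM
  have c1 := hmod.compare (V := V) hIs hGY (k := IsLocalRing.ResidueField R) hd hWY hWm hGZ1 hGW hGU
  have c4 := c1.2.2 hgV hVm hG4
  have c2 := (hmod.compare (V := Y') hIs hGY (k := IsLocalRing.ResidueField R) hd (Set.empty_subset Y)
    (Z := Y') (fun η hη => iff_of_false (Set.notMem_empty η) fun h => (hY'm η hη).mp h.2 h.1) hG2 hGE
    (hcov'.symm ▸ hGM)).2.2 hgY' (fun η hη => ⟨fun h => ⟨h, (hY'm η hη).mp h⟩, fun h => h.1⟩) hG2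
  have c3 := (hmod.compare (V := V) hIs hGY (k := IsLocalRing.ResidueField R) hd hWY (Z := W ∪ Y')
    (fun η hη => ⟨fun h => ⟨((hWm η hη).mp h).1, Or.inl h⟩,
      fun h => h.2.elim id fun h' => absurd h.1 ((hY'm η hη).mp h')⟩) hG3 hGW (hUY'.symm ▸ hGM)).2.1
    fun η _ => hUY'.symm ▸ Set.mem_univ η
  have h2 := hadd Y Z W hWm
  rw [hβ, hβ, hβ, hβ]
  constructor
  · intro h
    have h3 : (r : ℤ) * (Curv2.euler (IsLocalRing.ResidueField R) Xs GW + Curv2.euler (IsLocalRing.ResidueField R) Xs GU) =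
        (r : ℤ) * (Curv2.euler (IsLocalRing.ResidueField R) Xs GZ1 + Curv2.euler (IsLocalRing.ResidueField R) Xs GY) := by
      linarith
    have h4 := mul_left_cancel₀ (Int.natCast_ne_zero.mpr hr.ne') h3
    omega
  · intro h
    have h3 : Curv2.euler (IsLocalRing.ResidueField R) Xs GW + Curv2.euler (IsLocalRing.ResidueField R) Xs GU =
        Curv2.euler (IsLocalRing.ResidueField R) Xs GZ1 + Curv2.euler (IsLocalRing.ResidueField R) Xs GY := by
      omega
    have h4 := congrArg (fun t : ℤ => (r : ℤ) * t) h3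
    simp only [mul_add] at h4
    linarith

end Groth.Agent.S18856
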