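import Groth.Statements.S18859
import Mathlib
import Groth.Agent.TorsFpqcLib.Basic
-- import your own Groth.Agent.* helpers here

set_option autoImplicit false
set_option backward.isDefEq.respectTransparency false
universe u
open CategoryTheory MonoidalCategory CartesianMonoidalCategory MonObj GrpObj AlgebraicGeometry
open NonAbH1

namespace Groth.Agent.S18859

open CategoryTheory.Limits in
/-- A global function as a morphism to the affine line over the integers. -/
noncomputable def fn {Y : Scheme.{u}} :
    (Y ⟶ Spec (CommRingCat.of (MvPolynomial PUnit.{u + 1} (ULift.{u} ℤ)))) ≃ (PUnit.{u + 1} → Γ(Y, ⊤)) :=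
  AffineSpace.toSpecMvPolyIntEquiv _

theorem fn_comp {Y Z : Scheme.{u}} (f : Y ⟶ Z) (g : Z ⟶ Spec (CommRingCat.of (MvPolynomial PUnit.{u + 1} (ULift.{u} ℤ)))) :
    fn (f ≫ g) PUnit.unit = f.appTop (fn g PUnit.unit) := rfl


/-- Let S be a scheme, G a group scheme over S and X → S a G-torsor for the fpqc topology (a
pseudo-torsor under G acquiring sections on the members of some fpqc covering family of S). Then the
functions on S are the G-invariant functions on X: the ring map Γ(S, O_S) → Γ(X, O_X) is injective,
and a global function s on X lies in its image if and only if the pullbacks of s to G ×_S X along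
the action morphism and along the second projection coincide. (The source works over a scheme of
finite type over a field with G the base change of an affine group scheme over that field and states
the equality O_S = (O_X)^G as sheaves on S; applied to the restriction of the torsor over each open
of S, the present global form is that equality.) -/
theorem result {S : Scheme.{u}} {G X : Over S}
    [GrpObj G] (a : AlgGrp.Action G X) (ha : NonAbH1.IsTorsorFor Scheme.fpqcPrecoverage a) :
    Function.Injective X.hom.appTop.hom ∧
      ∀ s : Γ(X.left, ⊤), s ∈ Set.range X.hom.appTop.hom ↔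
        a.act.left.appTop.hom s = (CartesianMonoidalCategory.snd G X).left.appTop.hom s := by
  obtain ⟨hp, R, hR, hsec⟩ := ha
  let A : Scheme.{u} := Spec (CommRingCat.of (MvPolynomial PUnit.{u + 1} (ULift.{u} ℤ)))
  have hsheaf : Presieve.IsSheaf Scheme.fpqcTopology (yoneda.obj A) :=
    GrothendieckTopology.Subcanonical.isSheaf_of_isRepresentable _
  have hgen : Sieve.generate R ∈ Scheme.fpqcTopology S :=
    Precoverage.generate_mem_toGrothendieck (J := Scheme.fpqcPrecoverage) hR
  have hRS : Presieve.IsSheafFor (yoneda.obj A) R := (Presieve.isSheafFor_iff_generate R).2 (hsheaf _ hgen)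
  -- two points of the torsor over the same point of the base differ by the group
  have hsame : ∀ (s : Γ(X.left, ⊤)), a.act.left.appTop.hom s = (CartesianMonoidalCategory.snd G X).left.appTop.hom s →
      ∀ {Z : Scheme.{u}} (p q : Z ⟶ X.left), p ≫ X.hom = q ≫ X.hom →
        p ≫ fn.symm (fun _ => s) = q ≫ fn.symm (fun _ => s) := by
    intro s hs Z p q hpq
    haveI : IsIso (lift a.act (snd G X)) := hp
    let T : Over S := Over.mk (q ≫ X.hom)
    let p' : T ⟶ X := Over.homMk p hpq
    let q' : T ⟶ X := Over.homMk q rfl
    let w : T ⟶ G ⊗ X := lift p' q' ≫ inv (lift a.act (snd G X))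
    have hw : w ≫ lift a.act (snd G X) = lift p' q' := by simp only [w, Category.assoc, IsIso.inv_hom_id, Category.comp_id]
    have h1 : w ≫ a.act = p' := by simpa using congrArg (· ≫ fst X X) hw
    have h2 : w ≫ snd G X = q' := by simpa using congrArg (· ≫ snd X X) hw
    have e1 : w.left ≫ a.act.left = p := congrArg CommaMorphism.left h1
    have e2 : w.left ≫ (snd G X).left = q := congrArg CommaMorphism.left h2
    refine fn.injective (funext fun _ => ?_)
    show fn (p ≫ _) PUnit.unit = fn (q ≫ _) PUnit.unit
    rw [fn_comp, fn_comp, Equiv.apply_symm_apply, ← e1, ← e2, Scheme.Hom.comp_appTop, Scheme.Hom.comp_appTop]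
    exact congrArg w.left.appTop.hom hs
  refine ⟨fun b b' e => ?_, fun s => ⟨?_, fun hs => ?_⟩⟩
  · have : (fn.symm (fun _ => b) : S ⟶ A) = fn.symm (fun _ => b') := hRS.isSeparatedFor.ext fun T f hf => by
      obtain ⟨t, ht⟩ := hsec f hf
      show f ≫ fn.symm _ = f ≫ fn.symm _
      refine fn.injective (funext fun _ => ?_)
      show fn (f ≫ _) PUnit.unit = fn (f ≫ _) PUnit.unit
      rw [fn_comp, fn_comp, Equiv.apply_symm_apply, Equiv.apply_symm_apply, ← ht, Scheme.Hom.comp_appTop]
      exact congrArg t.appTop.hom e
    exact congrFun (fn.symm.injective this) PUnit.unit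
  · rintro ⟨b, rfl⟩
    have e : a.act.left ≫ X.hom = (CartesianMonoidalCategory.snd G X).left ≫ X.hom := (Over.w a.act).trans (Over.w _).symm
    exact congr($(congrArg Scheme.Hom.appTop e) b)
  · let σ : X.left ⟶ A := fn.symm (fun _ => s)
    let fam : Presieve.FamilyOfElements (yoneda.obj A) R := fun T f hf => (hsec f hf).choose ≫ σ
    have hfam : fam.Compatible := by
      intro Y₁ Y₂ Z g₁ g₂ f₁ f₂ hf₁ hf₂ e
      show g₁ ≫ _ ≫ σ = g₂ ≫ _ ≫ σ
      rw [← Category.assoc, ← Category.assoc]
      refine hsame s hs _ _ ?_
      rw [Category.assoc, Category.assoc, (hsec f₁ hf₁).choose_spec, (hsec f₂ hf₂).choose_spec]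
      exact e
    obtain ⟨d, hd, -⟩ := hRS fam hfam
    refine ⟨fn d PUnit.unit, ?_⟩
    have hX : X.hom ≫ d = σ := by
      have hpb : (Sieve.generate R).pullback X.hom ∈ Scheme.fpqcTopology X.left :=
        GrothendieckTopology.pullback_stable _ _ hgen
      refine (hsheaf _ hpb).isSeparatedFor.ext fun Z h hh => ?_
      obtain ⟨Y, k, f, hf, hkf⟩ := hh
      show h ≫ X.hom ≫ d = h ≫ σ
      rw [← Category.assoc, ← hkf, Category.assoc]
      have hdf : f ≫ d = (hsec f hf).choose ≫ σ := hd f hf
      rw [hdf, ← Category.assoc]
      refine hsame s hs _ _ ?_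
      rw [Category.assoc, (hsec f hf).choose_spec]
      exact hkf
    have := congrArg (fun m => fn m PUnit.unit) hX
    rwa [fn_comp, Equiv.apply_symm_apply] at this

end Groth.Agent.S18859
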