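import Groth.Statements.S18863
import Groth.Agent.TorsLimLib.Basic
import Groth.Agent.TorsLimLib.GrpLimit
import Groth.Agent.AlgSpLib.AffineDescent

set_option autoImplicit false
set_option backward.isDefEq.respectTransparency false
set_option linter.style.haveILetI false
universe u
open CategoryTheory CategoryTheory.Limits MonoidalCategory CartesianMonoidalCategory MonObj GrpObj AlgebraicGeometry
open NonAbH1

namespace Groth.Agent.S18863

theorem act_point {S : Scheme.{u}} {G H X Y Z : Over S} [GrpObj G] [GrpObj H] (a : AlgGrp.Action G X)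
    (b : AlgGrp.Action H Y) (φ : G ⟶ H) [IsMonHom φ] (f : X ⟶ Y) (h : AlgGrp.Action.IsEquivariant a (b.restrict φ) f)
    (g : Z ⟶ G) (t : Z ⟶ X) : lift g t ≫ a.act ≫ f = lift (g ≫ φ) (t ≫ f) ≫ b.act := by
  unfold AlgGrp.Action.IsEquivariant at h
  rw [h, AlgGrp.Action.restrict_act, ← Category.assoc, lift_whiskerLeft, ← Category.assoc, lift_whiskerRight]

/-- Let k be a field and X a quasi-compact k-scheme. Let (G_i)_{i ∈ I} be a cofiltered inverse system of
affine group schemes of finite type over k with limit G in the category of k-group schemes (a limit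
cone of homomorphisms G → G_i), and (T_i)_{i ∈ I} an inverse system of X-schemes such that each T_i
is a torsor over X for the fpqc topology under the base change of G_i to X and each transition map
T_j → T_i is equivariant along G_j → G_i. Let T be a limit of the T_i over X, with an action of the
base change of G to X for which every projection T → T_i is equivariant along G → G_i. Then T is a
torsor over X under the base change of G for the fpqc topology. (The source indexes the system by a
directed partially ordered set and also records that T is pointed over a rational point of X when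
all the T_i are; the limit scheme, the limit group and the limit action, which exist and are unique,
are taken here as data.) -/
theorem result (k : Type u) [Field k]
    (X : Scheme.{u}) [X.Over (Spec (CommRingCat.of k))] [CompactSpace X]
    {I : Type u} [SmallCategory I] [IsCofiltered I]
    (DG : I ⥤ Grp (Over (Spec (CommRingCat.of k))))
    [∀ i, IsAffineHom (DG.obj i).X.hom] [∀ i, LocallyOfFiniteType (DG.obj i).X.hom]
    (cG : Cone DG) (hcG : IsLimit cG)
    (DT : I ⥤ Over X)
    (aT : ∀ i, AlgGrp.Action (Red.bc (X ↘ Spec (CommRingCat.of k)) (DG.obj i).X) (DT.obj i))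
    (hT : ∀ i, NonAbH1.IsTorsorFor Scheme.fpqcPrecoverage (aT i))
    (hDT : ∀ (i j : I) (φ : i ⟶ j), AlgGrp.Action.IsEquivariant (aT i)
      ((aT j).restrict ((Over.pullback (X ↘ Spec (CommRingCat.of k))).map (DG.map φ).hom.hom)) (DT.map φ))
    (cT : Cone DT) (hcT : IsLimit cT)
    (a : AlgGrp.Action (Red.bc (X ↘ Spec (CommRingCat.of k)) cG.pt.X) cT.pt)
    (ha : ∀ i, AlgGrp.Action.IsEquivariant a
      ((aT i).restrict ((Over.pullback (X ↘ Spec (CommRingCat.of k))).map (cG.π.app i).hom.hom)) (cT.π.app i)) :
    NonAbH1.IsTorsorFor Scheme.fpqcPrecoverage a := by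
  let p := X ↘ Spec (CommRingCat.of k)
  let D0 := DG ⋙ Grp.forget (Over (Spec (CommRingCat.of k)))
  haveI : ∀ i, IsAffine (DG.obj i).X.left := fun i => isAffine_of_isAffineHom (DG.obj i).X.hom
  let D1 : I ⥤ AffineScheme.{u} :=
    { obj := fun i => AffineScheme.of (DG.obj i).X.left
      map := fun f => AffineScheme.ofHom (DG.map f).hom.hom.left
      map_id := fun i => by simp; rfl
      map_comp := fun f g => by simp; rfl }
  haveI : Limits.HasLimit (D0 ⋙ Over.forget _) :=
    (inferInstance : Limits.HasLimit (D1 ⋙ AffineScheme.forgetToScheme))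
  haveI := IsCofiltered.isConnected I
  haveI : Limits.HasLimit D0 := hasLimit_of_created D0 (Over.forget _)
  haveI := TorsLim.preservesLimit_forget DG
  have hcX : Limits.IsLimit ((Over.pullback p).mapCone ((Grp.forget _).mapCone cG)) :=
    Limits.isLimitOfPreserves _ (Limits.isLimitOfPreserves (Grp.forget _) hcG)
  let φ : ∀ i, Red.bc p cG.pt.X ⟶ Red.bc p (DG.obj i).X := fun i => (Over.pullback p).map (cG.π.app i).hom.hom
  -- the transition maps, on points
  have hcomp : ∀ (i : I) {Y : Over X} (g : Y ⟶ Red.bc p cG.pt.X) (t : Y ⟶ cT.pt),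
      lift g t ≫ a.act ≫ cT.π.app i = lift (g ≫ φ i) (t ≫ cT.π.app i) ≫ (aT i).act := by
    intro i Y g t
    exact act_point a (aT i) _ _ (ha i) g t
  have hstage : ∀ {i j : I} (f : i ⟶ j) {Y : Over X} (g : Y ⟶ Red.bc p (DG.obj i).X) (t : Y ⟶ DT.obj i),
      lift g t ≫ (aT i).act ≫ DT.map f =
        lift (g ≫ (Over.pullback p).map (DG.map f).hom.hom) (t ≫ DT.map f) ≫ (aT j).act := by
    intro i j f Y g t
    exact act_point (aT i) (aT j) _ _ (hDT i j f) g t
  have hu : ∀ {Y : Over X} (t t' : Y ⟶ cT.pt), ∃! g : Y ⟶ Red.bc p cG.pt.X, lift g t ≫ a.act = t' := by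
    intro Y t t'
    choose g hg hguniq using fun i =>
      TorsLim.existsUnique_point (aT i) (hT i).1 (t ≫ cT.π.app i) (t' ≫ cT.π.app i)
    let cY : Limits.Cone ((DG ⋙ Grp.forget _) ⋙ Over.pullback p) :=
      { pt := Y
        π :=
          { app := g
            naturality := fun i j f => by
              show 𝟙 Y ≫ g j = g i ≫ (Over.pullback p).map (DG.map f).hom.hom
              rw [Category.id_comp]
              refine (hguniq j _ ?_).symm
              show lift _ _ ≫ _ = _
              rw [← cT.w f, ← Category.assoc t, ← hstage f (g i), ← Category.assoc, hg i, Category.assoc, cT.w f] } }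
    have hfac : ∀ i, hcX.lift cY ≫ φ i = g i := fun i => hcX.fac cY i
    refine ⟨hcX.lift cY, hcT.hom_ext fun i => ?_, fun g' hg' => hcX.hom_ext fun i => ?_⟩
    · rw [Category.assoc, hcomp, hfac, hg i]
    · rw [hcX.fac cY i]
      refine hguniq i _ ?_
      show lift (g' ≫ φ i) _ ≫ _ = _
      rw [← hcomp i g' t, ← Category.assoc, hg']
  have hpseudo : NonAbH1.IsPseudoTorsorSch a := by
    obtain ⟨g, hg, -⟩ := hu (snd cT.pt cT.pt) (fst cT.pt cT.pt)
    refine ⟨lift g (snd _ _), ?_, ?_⟩
    · obtain ⟨g₀, -, h₀⟩ := hu (snd (Red.bc p cG.pt.X) cT.pt) a.act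
      rw [comp_lift, lift_snd]
      have e : lift a.act (snd _ cT.pt) ≫ g = fst (Red.bc p cG.pt.X) cT.pt := by
        refine (h₀ _ ?_).trans (h₀ _ ?_).symm
        · have := congrArg (lift a.act (snd _ cT.pt) ≫ ·) hg
          simpa only [comp_lift_assoc, lift_snd, lift_fst] using this
        · show lift (fst _ _) (snd _ _) ≫ _ = _
          rw [lift_fst_snd, Category.id_comp]
      rw [e, lift_fst_snd]
    · rw [comp_lift, hg, lift_snd, lift_fst_snd]
  -- the limit is a flat surjective affine scheme over `X`
  refine ⟨hpseudo, ?_⟩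
  have hGf : ∀ i, Flat (Red.bc p (DG.obj i).X).hom ∧ Surjective (Red.bc p (DG.obj i).X).hom ∧
      IsAffineHom (Red.bc p (DG.obj i).X).hom := by
    intro i
    haveI : Surjective (DG.obj i).X.hom := by
      refine ⟨fun x => ⟨η[(DG.obj i).X].left x, ?_⟩⟩
      rw [← Scheme.Hom.comp_apply, Over.w]
      rfl
    exact ⟨MorphismProperty.pullback_snd _ _ inferInstance, MorphismProperty.pullback_snd _ _ this,
      MorphismProperty.pullback_snd _ _ inferInstance⟩
  let A := TorsLim.overSys DT (fun i => Groth.Agent.TorsFpqc.property_of_torsor @IsAffineHom (aT i) (hT i) (hGf i).2.2) cT hcT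
  haveI hfl : Flat cT.pt.hom :=
    TorsLim.flat A fun i => Groth.Agent.TorsFpqc.property_of_torsor @Flat (aT i) (hT i) (hGf i).1
  haveI hsu : Surjective cT.pt.hom :=
    TorsLim.surjective A fun i => Groth.Agent.TorsFpqc.property_of_torsor @Surjective (aT i) (hT i) (hGf i).2.1
  haveI : IsAffineHom cT.pt.hom := A.affine_s
  refine ⟨_, cT.pt.hom.singleton_mem_fpqcPrecoverage, ?_⟩
  rintro S' f ⟨⟩
  exact ⟨𝟙 _, Category.id_comp _⟩

end Groth.Agent.S18863
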