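import Groth.Statements.S18864
import Mathlib
-- import your own Groth.Agent.* helpers here

set_option autoImplicit false
universe u v w
open HopfRep

open scoped TensorProduct
namespace Groth.Agent.S18864

/-- Let k be a field and G = lim G_i a pro-algebraic group scheme over k, so that G = Spec A with A the
direct limit of the Hopf algebras A_i of the affine group schemes G_i of finite type; assume
moreover that the maps A_i → A are injective, so that A is the directed union of the A_i, here given
as injective bialgebra maps A_i → A with directed, jointly covering images. Then every homomorphism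
from G to an affine group scheme H = Spec B of finite type over k factors through some projection G
→ G_i: every bialgebra map f : B → A with B finitely generated as a k-algebra is the composite of
A_i → A with a bialgebra map B → A_i for some i. (The published statement allows arbitrary
transition maps in the system; this row assumes each A_i → A injective, the case the printed
argument treats. The source also states the pro-finite variant with H finite, which is the case of
finite-dimensional A_i and B; finite generation of the A_i is not used.) -/
theorem result (k : Type u) [Field k]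
    (A : Type v) [CommRing A] [HopfAlgebra k A] {ι : Type v} (Aι : ι → Type v)
    [∀ i, CommRing (Aι i)] [∀ i, HopfAlgebra k (Aι i)] (emb : ∀ i, Aι i →ₐc[k] A)
    (hinj : ∀ i, Function.Injective (emb i))
    (hdir : ∀ i j, ∃ l, Set.range (emb i) ⊆ Set.range (emb l) ∧ Set.range (emb j) ⊆ Set.range (emb l))
    (hcov : ∀ a : A, ∃ i, a ∈ Set.range (emb i))
    (B : Type w) [CommRing B] [HopfAlgebra k B] [Algebra.FiniteType k B] (f : B →ₐc[k] A) :
    ∃ (i : ι) (g : B →ₐc[k] Aι i), (emb i).comp g = f := by
  classical
  obtain ⟨gens, hgens⟩ := (inferInstance : Algebra.FiniteType k B).out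
  haveI : Nonempty ι := ⟨(hcov 0).choose⟩
  have hall : ∀ t : Finset B, ∃ i, ∀ b ∈ t, f b ∈ Set.range (emb i) := fun t => by
    induction t using Finset.induction_on with
    | empty => exact ⟨Classical.arbitrary ι, by simp⟩
    | insert b t _ ih =>
      obtain ⟨i, hi⟩ := ih
      obtain ⟨j, hj⟩ := hcov (f b)
      obtain ⟨l, hil, hjl⟩ := hdir i j
      refine ⟨l, fun x hx => ?_⟩
      rcases Finset.mem_insert.1 hx with rfl | hx
      exacts [hjl hj, hil (hi x hx)]
  obtain ⟨i, hi⟩ := hall gens
  let e : Aι i →ₐ[k] A := emb i
  let fA : B →ₐ[k] A := f
  have hr : ∀ b, fA b ∈ e.range := fun b => by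
    have : Algebra.adjoin k (gens : Set B) ≤ e.range.comap fA :=
      Algebra.adjoin_le fun x hx => hi x hx
    exact this (hgens ▸ Algebra.mem_top)
  let g : B →ₐ[k] Aι i := (AlgEquiv.ofInjective e (hinj i)).symm.toAlgHom.comp (fA.codRestrict e.range hr)
  have hg : ∀ b, e (g b) = fA b := fun b =>
    congrArg Subtype.val ((AlgEquiv.ofInjective e (hinj i)).apply_symm_apply ⟨fA b, hr b⟩)
  refine ⟨i, BialgHom.ofAlgHom g ?_ ?_, ?_⟩
  · refine AlgHom.ext fun b => ?_
    show CoalgebraStruct.counit (R := k) (g b) = CoalgebraStruct.counit (R := k) b
    rw [← CoalgHomClass.counit_comp_apply (emb i) (g b)]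
    show CoalgebraStruct.counit (R := k) (e (g b)) = _
    rw [hg]
    exact CoalgHomClass.counit_comp_apply f b
  · refine AlgHom.ext fun b => ?_
    have hinj2 : Function.Injective (TensorProduct.map e.toLinearMap e.toLinearMap) := by
      rw [show TensorProduct.map e.toLinearMap e.toLinearMap = e.toLinearMap.lTensor A ∘ₗ e.toLinearMap.rTensor (Aι i) from
        (LinearMap.lTensor_comp_rTensor _ _ _).symm, LinearMap.coe_comp]
      exact (Module.Flat.lTensor_preserves_injective_linearMap _ (hinj i)).comp
        (Module.Flat.rTensor_preserves_injective_linearMap _ (hinj i))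
    apply hinj2
    simp only [AlgHom.comp_apply, Bialgebra.comulAlgHom_apply]
    rw [show TensorProduct.map e.toLinearMap e.toLinearMap (CoalgebraStruct.comul (R := k) (g b)) =
      CoalgebraStruct.comul (R := k) (e (g b)) from CoalgHomClass.map_comp_comul_apply (emb i) (g b), hg,
      show CoalgebraStruct.comul (R := k) (fA b) = TensorProduct.map fA.toLinearMap fA.toLinearMap (CoalgebraStruct.comul (R := k) b)
        from (CoalgHomClass.map_comp_comul_apply f b).symm]
    generalize CoalgebraStruct.comul (R := k) b = z
    induction z with
    | zero => simp
    | add x y hx hy => simp only [map_add, hx, hy]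
    | tmul p q => simp [hg]
  · exact DFunLike.ext _ _ hg

end Groth.Agent.S18864
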