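import Groth.Statements.S18866
import Groth.Agent.LiaisonLib.Poly

set_option autoImplicit false
universe u
open Liaison

namespace Groth.Agent.S18866

/-- Let K be a field, R = K[x_0, …, x_n] graded by degree, c ≥ 2, 𝔠 ⊂ R a homogeneous ideal of height c
such that R/𝔠 is a Gorenstein ring, and I, J ⊂ R homogeneous ideals that are directly linked by 𝔠,
that is 𝔠 : I = J and 𝔠 : J = I. If R/I and R/J have no associated prime in common, then I ∩ J = 𝔠,
so I and J are geometrically linked by 𝔠. -/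
theorem result (K : Type u) [Field K] (n c : ℕ) (hc : 2 ≤ c)
    (𝔠 I J : Ideal (MvPolynomial (Fin (n + 1)) K))
    (h𝔠 : 𝔠.IsHomogeneous (GrSyz.stdGr K (Fin (n + 1)))) (hI : I.IsHomogeneous (GrSyz.stdGr K (Fin (n + 1)))) (hJ : J.IsHomogeneous (GrSyz.stdGr K (Fin (n + 1))))
    [LocCoh.IsGorensteinRing (MvPolynomial (Fin (n + 1)) K ⧸ 𝔠)] (h𝔠c : 𝔠.height = c)
    (hIJ : 𝔠.colon (I : Set (MvPolynomial (Fin (n + 1)) K)) = J) (hJI : 𝔠.colon (J : Set (MvPolynomial (Fin (n + 1)) K)) = I)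
    (hdisj : Disjoint (associatedPrimes (MvPolynomial (Fin (n + 1)) K) (MvPolynomial (Fin (n + 1)) K ⧸ I)) (associatedPrimes (MvPolynomial (Fin (n + 1)) K) (MvPolynomial (Fin (n + 1)) K ⧸ J))) :
    I ⊓ J = 𝔠 := by
  refine le_antisymm (fun x hx => ?_) (le_inf ?_ ?_)
  · by_contra hxc
    obtain ⟨P, hP, hPx⟩ := exists_le_isAssociatedPrime_of_isNoetherianRing (MvPolynomial (Fin (n + 1)) K)
      (M := MvPolynomial (Fin (n + 1)) K ⧸ 𝔠) (Ideal.Quotient.mk 𝔠 x)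
      (fun h => hxc (Ideal.Quotient.eq_zero_iff_mem.1 h))
    have hmin := LiaisonLib.minimal_of_mem_associatedPrimes (LiaisonLib.isCohenMacaulayRing_of_gorenstein inferInstance) hP
    have key : ∀ A B : Ideal (MvPolynomial (Fin (n + 1)) K), x ∈ B → 𝔠.colon (A : Set (MvPolynomial (Fin (n + 1)) K)) = B → A ≤ P := by
      intro A B hxB hAB a ha
      apply hPx
      rw [← hAB] at hxB
      rw [Submodule.mem_colon_singleton, Submodule.mem_bot]
      show Ideal.Quotient.mk 𝔠 (a * x) = 0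
      rw [Ideal.Quotient.eq_zero_iff_mem, mul_comm]
      exact Submodule.mem_colon.1 hxB a ha
    have hcI : 𝔠 ≤ I := hJI ▸ LiaisonLib.le_colon 𝔠 _
    have hcJ : 𝔠 ≤ J := hIJ ▸ LiaisonLib.le_colon 𝔠 _
    have mk : ∀ A : Ideal (MvPolynomial (Fin (n + 1)) K), 𝔠 ≤ A → A ≤ P → P ∈ A.minimalPrimes := fun A hA hAP =>
      ⟨⟨hmin.1.1, hAP⟩, fun Q hQ hQP => hmin.2 ⟨hQ.1, hA.trans hQ.2⟩ hQP⟩
    exact Set.disjoint_left.1 hdisj
      (LiaisonLib.mem_associatedPrimes_of_minimal (mk I hcI (key I J hx.2 hIJ)))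
      (LiaisonLib.mem_associatedPrimes_of_minimal (mk J hcJ (key J I hx.1 hJI)))
  · exact hJI ▸ LiaisonLib.le_colon 𝔠 _
  · exact hIJ ▸ LiaisonLib.le_colon 𝔠 _

end Groth.Agent.S18866
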