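import Groth.Statements.S18870
import Groth.Agent.LiaisonLib.CMQuot

set_option autoImplicit false
universe u
open Liaison

namespace Groth.Agent.S18870

/-- Let K be a field, R = K[x_0, …, x_n] graded by degree, and J ⊆ I ⊂ R homogeneous ideals with J ≠ 0,
height I = height J + 1 = h + 1 and R/J Cohen–Macaulay; let f ∈ R be homogeneous of degree d with J
: f = J, and put Ĩ = J + fI (the basic double link). Then Ĩ has the same height h + 1 as I. -/
theorem result (K : Type u) [Field K] (n h : ℕ)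
    (J I : Ideal (MvPolynomial (Fin (n + 1)) K))
    (hJ : J.IsHomogeneous (GrSyz.stdGr K (Fin (n + 1)))) (hI : I.IsHomogeneous (GrSyz.stdGr K (Fin (n + 1))))
    (hJ0 : J ≠ ⊥) (hJI : J ≤ I) (hJh : J.height = h) (hIh : I.height = h + 1)
    [LocCoh.IsCohenMacaulayRing (MvPolynomial (Fin (n + 1)) K ⧸ J)]
    (f : MvPolynomial (Fin (n + 1)) K) (d : ℕ) (hf : f ∈ GrSyz.stdGr K (Fin (n + 1)) (d : ℤ)) (hJf : J.colon {f} = J) :
    (J ⊔ Ideal.span {f} * I).height = h + 1 := by
  have hle : J ⊔ Ideal.span {f} * I ≤ I := sup_le hJI Ideal.mul_le_right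
  have hne : J ⊔ Ideal.span {f} * I ≠ ⊤ := fun e => LiaisonLib.ne_top_of_height_eq (c := h + 1) (by exact_mod_cast hIh) (top_le_iff.1 (e ▸ hle))
  refine le_antisymm (hIh ▸ Ideal.height_mono hle) ?_
  rw [Ideal.height_eq_inf_minimalPrimes]
  refine le_iInf₂ fun P hP => ?_
  haveI := hP.1.1
  have hJP : J ≤ P := le_sup_left.trans hP.1.2
  have hfI : Ideal.span {f} * I ≤ P := le_sup_right.trans hP.1.2
  rcases hP.1.1.mul_le.1 hfI with hf' | hI'
  · obtain ⟨Q, hQ, hQP⟩ := LiaisonLib.exists_lt_of_minimal_sup inferInstance hJf hP.1.1 hJP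
      (hf' (Ideal.mem_span_singleton_self f))
    haveI := hQ.1.1
    have h1 := LiaisonLib.height_of_mem_associatedPrimes hJ inferInstance (LiaisonLib.mem_associatedPrimes_of_minimal hQ)
    rw [← hJh, ← h1]
    exact (ENat.add_one_le_iff (Ideal.height_ne_top hQ.1.1.ne_top)).2 (Ideal.height_strict_mono_of_isPrime hQP)
  · rw [← hIh]
    exact Ideal.height_mono hI'

end Groth.Agent.S18870
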