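import Groth.Statements.S18872
import Groth.Agent.DoubleLinkLib.Basic

set_option autoImplicit false
set_option backward.isDefEq.respectTransparency false
set_option backward.isDefEq.respectTransparency.types false
universe u
open Liaison

namespace Groth.Agent.S18872

/-- Let K be a field, R = K[x_0, …, x_n] graded by degree, and J ⊆ I ⊂ R homogeneous ideals with J ≠ 0,
height I = height J + 1 = h + 1 and R/J Cohen–Macaulay; let f ∈ R be homogeneous of degree d with J
: f = J, and put Ĩ = J + fI (the basic double link). Then for every i < n − h = dim R/I the local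
cohomology modules of R/Ĩ and of R/I with support in the irrelevant ideal 𝔪 = (x_0, …, x_n) are
isomorphic in degree i. (The graded statement is H^i_𝔪(R/Ĩ) ≅ H^i_𝔪(R/I)(−d); here only the
existence of an R-linear isomorphism of the underlying modules is asserted, the grading and the
shift by d being dropped.) -/
theorem result (K : Type u) [Field K] (n h : ℕ)
    (J I : Ideal (MvPolynomial (Fin (n + 1)) K))
    (hJ : J.IsHomogeneous (GrSyz.stdGr K (Fin (n + 1)))) (hI : I.IsHomogeneous (GrSyz.stdGr K (Fin (n + 1))))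
    (hJ0 : J ≠ ⊥) (hJI : J ≤ I) (hJh : J.height = h) (hIh : I.height = h + 1)
    [LocCoh.IsCohenMacaulayRing (MvPolynomial (Fin (n + 1)) K ⧸ J)]
    (f : MvPolynomial (Fin (n + 1)) K) (d : ℕ) (hf : f ∈ GrSyz.stdGr K (Fin (n + 1)) (d : ℤ)) (hJf : J.colon {f} = J) (i : ℕ) (hi : i + h < n) :
    Nonempty (LocCoh.H (GrSyz.irrel (GrSyz.stdGr K (Fin (n + 1)))).toIdeal i (MvPolynomial (Fin (n + 1)) K ⧸ (J ⊔ Ideal.span {f} * I)) ≃ₗ[MvPolynomial (Fin (n + 1)) K]
      LocCoh.H (GrSyz.irrel (GrSyz.stdGr K (Fin (n + 1)))).toIdeal i (MvPolynomial (Fin (n + 1)) K ⧸ I)) := by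
  classical
  let S := MvPolynomial (Fin (n + 1)) K
  have hm := DoubleLinkLib.irrel_eq (K := K) (n := n)
  have hvan : ∀ j : ℕ, j + h < n + 1 →
      Subsingleton (LocCoh.H (GrSyz.irrel (GrSyz.stdGr K (Fin (n + 1)))).toIdeal j (S ⧸ J)) := fun j hj => by
    rw [hm]
    exact DoubleLinkLib.subsingleton_H_quot hJ inferInstance hJh j hj
  haveI := hvan i (by omega)
  haveI := hvan (i + 1) (by omega)
  let M : Submodule S (S ⧸ J) := Submodule.map J.mkQ I
  let Q : Ideal S := J ⊔ Ideal.span {f} * I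
  have hJQ : J ≤ Q := le_sup_left
  have hreg : ∀ y : S ⧸ J, f • y = 0 → y = 0 := by
    intro y hy
    obtain ⟨y, rfl⟩ := Submodule.Quotient.mk_surjective _ y
    rw [← Submodule.Quotient.mk_smul, Submodule.Quotient.mk_eq_zero, smul_eq_mul, mul_comm] at hy
    rw [Submodule.Quotient.mk_eq_zero]
    rw [← hJf, Submodule.mem_colon_singleton]
    exact hy
  let b : M →ₗ[S] S ⧸ J := f • M.subtype
  have hb : Function.Injective b := by
    rw [injective_iff_map_eq_zero]
    intro y hy
    exact Subtype.ext (hreg y hy)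
  have hexA : Function.Exact M.subtype (Submodule.factor hJI) := by
    intro y
    obtain ⟨y, rfl⟩ := Submodule.Quotient.mk_surjective _ y
    show (Submodule.Quotient.mk y : S ⧸ I) = 0 ↔ _
    rw [Submodule.Quotient.mk_eq_zero]
    constructor
    · exact fun hy => ⟨⟨_, y, hy, rfl⟩, rfl⟩
    · rintro ⟨⟨_, z, hz, rfl⟩, he⟩
      have h2 : z - y ∈ J := (Submodule.Quotient.eq J).1 he
      simpa using I.sub_mem hz (hJI h2)
  have hexB : Function.Exact b (Submodule.factor hJQ) := by
    intro y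
    obtain ⟨y, rfl⟩ := Submodule.Quotient.mk_surjective _ y
    show (Submodule.Quotient.mk y : S ⧸ Q) = 0 ↔ _
    rw [Submodule.Quotient.mk_eq_zero]
    constructor
    · intro hy
      obtain ⟨a, ha, c, hc, hac⟩ := Submodule.mem_sup.1 hy
      obtain ⟨z, hz, hzc⟩ := Ideal.mem_span_singleton_mul.1 hc
      refine ⟨⟨_, z, hz, rfl⟩, ?_⟩
      show f • (Submodule.Quotient.mk z : S ⧸ J) = Submodule.Quotient.mk y
      rw [← Submodule.Quotient.mk_smul, Submodule.Quotient.eq, smul_eq_mul, hzc, ← hac]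
      rw [show c - (a + c) = -a by ring]
      exact J.neg_mem ha
    · rintro ⟨⟨_, z, hz, rfl⟩, he⟩
      change f • (Submodule.Quotient.mk z : S ⧸ J) = Submodule.Quotient.mk y at he
      rw [← Submodule.Quotient.mk_smul, Submodule.Quotient.eq, smul_eq_mul] at he
      have h2 : f * z ∈ Q := Submodule.mem_sup_right (Ideal.mul_mem_mul (Ideal.mem_span_singleton_self f) hz)
      simpa using Q.sub_mem h2 (hJQ he)
  obtain ⟨hA1, hA2⟩ := LocCohLib.exact_Hδ (I := (GrSyz.irrel (GrSyz.stdGr K (Fin (n + 1)))).toIdeal)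
    (Submodule.injective_subtype M) hexA (Submodule.factor_surjective hJI) i
  obtain ⟨hB1, hB2⟩ := LocCohLib.exact_Hδ (I := (GrSyz.irrel (GrSyz.stdGr K (Fin (n + 1)))).toIdeal)
    hb hexB (Submodule.factor_surjective hJQ) i
  let δA := LocCohLib.Hδ (I := (GrSyz.irrel (GrSyz.stdGr K (Fin (n + 1)))).toIdeal)
    (Submodule.injective_subtype M) hexA (Submodule.factor_surjective hJI) i
  let δB := LocCohLib.Hδ (I := (GrSyz.irrel (GrSyz.stdGr K (Fin (n + 1)))).toIdeal)
    hb hexB (Submodule.factor_surjective hJQ) i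
  have eA : Function.Bijective δA := by
    refine ⟨?_, fun y => (hA1 y).1 (Subsingleton.elim _ _)⟩
    rw [injective_iff_map_eq_zero]
    intro y hy
    obtain ⟨w, rfl⟩ := (hA2 y).1 hy
    rw [Subsingleton.elim w 0, map_zero]
  have eB : Function.Bijective δB := by
    refine ⟨?_, fun y => (hB1 y).1 (Subsingleton.elim _ _)⟩
    rw [injective_iff_map_eq_zero]
    intro y hy
    obtain ⟨w, rfl⟩ := (hB2 y).1 hy
    rw [Subsingleton.elim w 0, map_zero]
  exact ⟨(LinearEquiv.ofBijective δB eB).trans (LinearEquiv.ofBijective δA eA).symm⟩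
end Groth.Agent.S18872
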