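import Groth.Statements.S18873
import Groth.Agent.LiaisonLib.ColonLength
import Groth.Agent.GrSyzLib.Hilbert

set_option autoImplicit false
universe u
open Liaison

namespace Groth.Agent.S18873

open GradedHilbLib Filter

variable {K : Type u} [Field K] {n : ℕ}

local notation "S'" => MvPolynomial (Fin (n + 1)) K
local notation "𝒜" => CohB1.polyGrading n K
local notation "ℬ" => GrSyz.stdGr K (Fin (n + 1))

theorem piece_eq (m : ℕ) : ℬ (m : ℤ) = 𝒜 m := GrSyzLib.stdGr_nat _ _ m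

theorem decompose_cast (x : S') (m : ℕ) :
    ((DirectSum.decompose ℬ x (m : ℤ) : ℬ (m : ℤ)) : S') = ((DirectSum.decompose 𝒜 x m : 𝒜 m) : S') := by
  induction x using DirectSum.Decomposition.inductionOn 𝒜 with
  | zero => simp
  | @homogeneous d y =>
    have hy : (y : S') ∈ ℬ (d : ℤ) := by rw [piece_eq]; exact y.2
    rcases eq_or_ne d m with rfl | hne
    · rw [DirectSum.decompose_of_mem_same _ hy, DirectSum.decompose_of_mem_same _ y.2]
    · rw [DirectSum.decompose_of_mem_ne _ hy (by exact_mod_cast hne), DirectSum.decompose_of_mem_ne _ y.2 hne]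
  | add a b ha hb => simp [ha, hb]

theorem homogeneous_nat {I : Ideal S'} (hI : I.IsHomogeneous ℬ) : I.IsHomogeneous 𝒜 := fun m x hx =>
  decompose_cast x m ▸ hI (m : ℤ) hx

theorem colon_homogeneous {c I : Ideal S'} (hc : c.IsHomogeneous 𝒜) (hI : I.IsHomogeneous 𝒜) :
    (c.colon (I : Set S')).IsHomogeneous 𝒜 := by
  classical
  intro i x hx
  refine Submodule.mem_colon.2 fun y hy => ?_
  rw [smul_eq_mul, ← DirectSum.sum_support_decompose 𝒜 y, Finset.mul_sum]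
  refine c.sum_mem fun d _ => ?_
  have h := hc (i + d) (Submodule.mem_colon.1 hx _ (hI d hy))
  rw [smul_eq_mul] at h
  rwa [DirectSum.coe_decompose_mul_add_of_right_mem 𝒜 (SetLike.coe_mem _)] at h

theorem finrank_map_mk {I : Ideal S'} (m : ℕ) :
    (Module.finrank K ↥(Submodule.map (Ideal.Quotient.mkₐ K I).toLinearMap (ℬ (m : ℤ))) : ℚ) = hf I m := by
  rw [piece_eq]
  set f := (Ideal.Quotient.mkₐ K I).toLinearMap
  have h := LinearMap.finrank_range_add_finrank_ker (f.comp (𝒜 m).subtype)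
  rw [LinearMap.range_comp, Submodule.range_subtype] at h
  have hk : Module.finrank K ↥(LinearMap.ker (f.comp (𝒜 m).subtype)) =
      Module.finrank K ↥(Submodule.restrictScalars K I ⊓ 𝒜 m) := by
    rw [LinearMap.ker_comp, show LinearMap.ker f = Submodule.restrictScalars K I by
      ext y; exact Ideal.Quotient.eq_zero_iff_mem]
    rw [show Submodule.comap (𝒜 m).subtype (Submodule.restrictScalars K I) =
      Submodule.comap (𝒜 m).subtype (Submodule.restrictScalars K I ⊓ 𝒜 m) by simp]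
    exact (Submodule.comapSubtypeEquivOfLe inf_le_right).finrank_eq
  rw [hf, ← h, hk]
  push_cast
  ring

theorem eq_hilb_of {I : Ideal S'} {p : Polynomial ℚ}
    (h : ∃ j₀ : ℕ, ∀ j : ℕ, j₀ ≤ j →
      (Module.finrank K ↥(Submodule.map (Ideal.Quotient.mkₐ K I).toLinearMap (ℬ (j : ℤ))) : ℚ) = p.eval (j : ℚ)) :
    p = hilb I := by
  obtain ⟨j₀, hj⟩ := h
  refine eq_hilb (eventually_atTop.2 ⟨j₀, fun j hjj => ?_⟩)
  rw [← finrank_map_mk]
  exact hj j hjj

theorem degree_hilb_le {c : ℕ} (hcn : c ≤ n) {𝔠 : Ideal S'} (h : 𝔠.IsHomogeneous 𝒜) (hc : 𝔠.height = c) :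
    (hilb 𝔠).degree ≤ ((n - c : ℕ) : WithBot ℕ) := by
  rcases eq_or_ne (hilb 𝔠) 0 with h0 | h0
  · rw [h0, Polynomial.degree_zero]; exact bot_le
  obtain ⟨q, hq, hqd⟩ := exists_minimalPrime_degree_eq h h0
  haveI := hq.1.1
  have hqh := SegreLib.minimalPrime_isHomogeneous 𝒜 h hq
  have hq0 : hilb q ≠ 0 := fun hz => h0 (Polynomial.degree_eq_bot.1 (hqd ▸ by rw [hz]; exact Polynomial.degree_zero))
  have hd := exists_dim_add_height q hqh
  rw [(ringKrullDim_quotient hqh hq.1.1.ne_top).2 hq0] at hd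
  have hle : (c : ℕ∞) ≤ q.height := hc ▸ Ideal.height_mono hq.1.2
  obtain ⟨e, he⟩ : ∃ e : ℕ, q.height = e := by
    cases hh : q.height with
    | top => exact absurd hh (Ideal.height_ne_top hq.1.1.ne_top)
    | coe e => exact ⟨e, rfl⟩
  rw [he] at hd hle
  have hd' : (hilb q).natDegree + 1 + e = n + 1 := by exact_mod_cast hd
  have hle' : c ≤ e := by exact_mod_cast hle
  rw [← hqd]
  exact Polynomial.degree_le_natDegree.trans (by exact_mod_cast (by omega : (hilb q).natDegree ≤ n - c))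

/-- Let K be a field, R = K[x_0, …, x_n] graded by degree, 2 ≤ c ≤ n, 𝔠 ⊂ R a homogeneous ideal of
height c such that R/𝔠 is a Gorenstein ring, I ⊂ R a homogeneous ideal of height c containing 𝔠, and
J = 𝔠 : I. Write h_𝔞(j) = dim_K [R/𝔞]_j for the Hilbert function of R/𝔞. If p_𝔠, p_I, p_J ∈ ℚ[t] are
polynomials agreeing with h_𝔠, h_I, h_J in all sufficiently large degrees (Hilbert polynomials; R/𝔠
and R/I have dimension n + 1 − c ≥ 1, and so has R/J unless I = 𝔠, when J = R and p_J = 0), then the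
coefficients of t^(n−c) satisfy p_J = p_𝔠 − p_I in that degree; multiplying by (n − c)! this says
deg J = deg 𝔠 − deg I. -/
theorem result (K : Type u) [Field K] (n c : ℕ) (hc : 2 ≤ c) (hcn : c ≤ n)
    (𝔠 I : Ideal (MvPolynomial (Fin (n + 1)) K))
    (h𝔠 : 𝔠.IsHomogeneous (GrSyz.stdGr K (Fin (n + 1)))) (hI : I.IsHomogeneous (GrSyz.stdGr K (Fin (n + 1))))
    [LocCoh.IsGorensteinRing (MvPolynomial (Fin (n + 1)) K ⧸ 𝔠)] (h𝔠c : 𝔠.height = c) (hIc : I.height = c) (h𝔠I : 𝔠 ≤ I)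
    (p𝔠 pI pJ : Polynomial ℚ)
    (hp𝔠 : ∃ j₀ : ℕ, ∀ j : ℕ, j₀ ≤ j → (Module.finrank K ↥(Submodule.map (Ideal.Quotient.mkₐ K (𝔠)).toLinearMap (GrSyz.stdGr K (Fin (n + 1)) (j : ℤ))) : ℚ) = p𝔠.eval (j : ℚ))
    (hpI : ∃ j₀ : ℕ, ∀ j : ℕ, j₀ ≤ j → (Module.finrank K ↥(Submodule.map (Ideal.Quotient.mkₐ K (I)).toLinearMap (GrSyz.stdGr K (Fin (n + 1)) (j : ℤ))) : ℚ) = pI.eval (j : ℚ))
    (hpJ : ∃ j₀ : ℕ, ∀ j : ℕ, j₀ ≤ j → (Module.finrank K ↥(Submodule.map (Ideal.Quotient.mkₐ K (𝔠.colon (I : Set (MvPolynomial (Fin (n + 1)) K)))).toLinearMap (GrSyz.stdGr K (Fin (n + 1)) (j : ℤ))) : ℚ) = pJ.eval (j : ℚ)) :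
    pJ.coeff (n - c) = p𝔠.coeff (n - c) - pI.coeff (n - c) := by
  classical
  have hA := homogeneous_nat h𝔠
  have hB := homogeneous_nat hI
  have hJ := colon_homogeneous hA hB
  have hAJ : 𝔠 ≤ 𝔠.colon (I : Set (MvPolynomial (Fin (n + 1)) K)) := LiaisonLib.le_colon _ _
  rw [eq_hilb_of hp𝔠, eq_hilb_of hpI, eq_hilb_of hpJ]
  have hdeg := degree_hilb_le hcn hA h𝔠c
  set t := n - c
  let s := (Ideal.finite_minimalPrimes_of_isNoetherianRing (MvPolynomial (Fin (n + 1)) K) 𝔠).toFinset.filter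
    fun q => q.IsHomogeneous (CohB1.polyGrading n K) ∧ (hilb q).degree = (t : WithBot ℕ)
  have hs : ∀ q ∈ s, q.IsPrime ∧ q.IsHomogeneous (CohB1.polyGrading n K) ∧ (hilb q).degree = (t : WithBot ℕ) := by
    intro q hq
    obtain ⟨h1, h2, h3⟩ := Finset.mem_filter.1 hq
    exact ⟨((Set.Finite.mem_toFinset _).1 h1).1.1, h2, h3⟩
  have hall : ∀ q : Ideal (MvPolynomial (Fin (n + 1)) K), q.IsPrime → q.IsHomogeneous (CohB1.polyGrading n K) →
      𝔠 ≤ q → (hilb q).degree = (t : WithBot ℕ) → q ∈ s := by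
    intro q hqp hqh hle hqd
    obtain ⟨p, hp, hpq⟩ := Ideal.exists_minimalPrimes_le hle
    haveI := hp.1.1
    have hph := SegreLib.minimalPrime_isHomogeneous (CohB1.polyGrading n K) hA hp
    rcases eq_or_lt_of_le hpq with rfl | hlt
    · exact Finset.mem_filter.2 ⟨(Set.Finite.mem_toFinset _).2 hp, hqh, hqd⟩
    have hne : hilb p ≠ 0 := fun h => by
      have := degree_hilb_mono hph hqh hpq
      rw [hqd, h, Polynomial.degree_zero, le_bot_iff] at this
      exact WithBot.coe_ne_bot this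
    have h1 := degree_hilb_lt hph hqh hlt hne
    rw [hqd] at h1
    exact absurd ((degree_hilb_mono hA hph hp.1.2).trans hdeg) (not_le.2 h1)
  obtain ⟨fA, eA⟩ := coeff_eq_sum t 𝔠 hA s hdeg hs hall
  obtain ⟨fB, eB⟩ := coeff_eq_sum t I hB s ((degree_hilb_mono hA hB h𝔠I).trans hdeg) hs
    fun q hq hqh hle => hall q hq hqh (h𝔠I.trans hle)
  obtain ⟨fJ, eJ⟩ := coeff_eq_sum t _ hJ s ((degree_hilb_mono hA hJ hAJ).trans hdeg) hs
    fun q hq hqh hle => hall q hq hqh (hAJ.trans hle)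
  rw [eA, eB, eJ, ← Finset.sum_sub_distrib]
  refine Finset.sum_congr rfl fun q hq => ?_
  haveI := (hs q hq).1
  have hG : LocCoh.IsGorensteinRing (MvPolynomial (Fin (n + 1)) K ⧸ 𝔠) := inferInstance
  have e : lenAt q I + lenAt q (𝔠.colon (I : Set (MvPolynomial (Fin (n + 1)) K))) = lenAt q 𝔠 :=
    LiaisonLib.length_add_colon hG ((Set.Finite.mem_toFinset _).1 (Finset.mem_filter.1 hq).1) h𝔠I
  rw [mult_eq, mult_eq, mult_eq, ← e, ENat.toNat_add (fB q hq _) (fJ q hq _), Nat.cast_add]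
  ring

end Groth.Agent.S18873
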