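import Groth.Statements.S18876
import Groth.Agent.GerbeLib.Basic
import Groth.Agent.AlgStBig.Rows1
import Mathlib.AlgebraicGeometry.AlgClosed.Basic

set_option autoImplicit false
set_option linter.all false
set_option backward.isDefEq.respectTransparency false
set_option backward.isDefEq.respectTransparency.types false
universe u
open Gerb

namespace Groth.Agent.S18876

section
open CategoryTheory AlgebraicGeometry Opposite AlgSp FibCat FibLib AlgSpLib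

variable {S : Scheme.{u}}

def whiskL {C : Type*} [Category C] {𝒳 𝒴 𝒵 : BasedCategory C} (F : 𝒳 ⥤ᵇ 𝒴) {G H : 𝒴 ⥤ᵇ 𝒵} (α : G ≅ H) :
    BasedFunctor.comp F G ≅ BasedFunctor.comp F H :=
  BasedNatIso.mkNatIso (Functor.isoWhiskerLeft F.toFunctor ((BasedNatTrans.forgetful _ _).mapIso α))
    (fun a => (BasedCategory.whiskerLeft F α.hom).isHomLift' a)

def whiskR {C : Type*} [Category C] {𝒳 𝒴 𝒵 : BasedCategory C} {F G : 𝒳 ⥤ᵇ 𝒴} (α : F ≅ G) (H : 𝒴 ⥤ᵇ 𝒵) :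
    BasedFunctor.comp F H ≅ BasedFunctor.comp G H :=
  BasedNatIso.mkNatIso (Functor.isoWhiskerRight ((BasedNatTrans.forgetful _ _).mapIso α) H.toFunctor)
    (fun a => (BasedCategory.whiskerRight α.hom H).isHomLift' a)

/-- An fppf covering sieve of a geometric point is trivial. -/
lemma id_mem_of_mem_J {Ω : Type u} [Field Ω] [IsAlgClosed Ω] (t : Spec (CommRingCat.of Ω) ⟶ S)
    {R : Sieve (Over.mk t)} (hR : R ∈ QuotSh.J Scheme.fppfPrecoverage S (Over.mk t)) :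
    R.arrows (𝟙 (Over.mk t)) := by
  obtain ⟨V, h, hh, hfp, hs⟩ := AlgStBig.exists_cover_of_mem hR
  obtain ⟨i, hi⟩ := hs (Points.schemeHomeo (Over.mk t) (IsLocalRing.closedPoint Ω))
  obtain ⟨w, -⟩ := hi
  obtain ⟨v, -⟩ := (Points.schemeHomeo (V i)).surjective w
  haveI : Nonempty ↥(V i).left := ⟨v⟩
  haveI : LocallyOfFinitePresentation (h i).left :=
    (locP_yon_map_iff (P := @LocallyOfFinitePresentation) _).mp (hfp i).2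
  haveI : JacobsonSpace ↥(Over.mk t).left := inferInstanceAs (JacobsonSpace ↥(Spec (CommRingCat.of Ω)))
  haveI : JacobsonSpace ↥(V i).left := LocallyOfFiniteType.jacobsonSpace (h i).left
  obtain ⟨x, -, hx⟩ := nonempty_inter_closedPoints (Z := (Set.univ : Set (V i).left)) Set.univ_nonempty
    isOpen_univ.isLocallyClosed
  let σ₀ : Spec (CommRingCat.of Ω) ⟶ (V i).left := pointOfClosedPoint (h i).left x hx
  have hσ₀ : σ₀ ≫ (h i).left = 𝟙 _ := pointOfClosedPoint_comp _ _ _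
  let σ : Over.mk t ⟶ V i := Over.homMk σ₀ (by rw [← Over.w (h i), reassoc_of% hσ₀])
  have hσ : σ ≫ h i = 𝟙 _ := Over.OverMorphism.ext hσ₀
  rw [← hσ]
  exact R.downward_closed (hh i) σ

lemma sec_map {M : AlgSp.Sp S} {a b : (AlgSt.ofSp M).obj} (φ : a ⟶ b) {T : Over S} (ha : a.base = T)
    (hb : b.base = T) (h : (AlgSt.ofSp M).p.IsHomLift (𝟙 T) φ) :
    M.obj.map (eqToHom ha.symm).op a.sec = M.obj.map (eqToHom hb.symm).op b.sec := by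
  have e : φ.hom = eqToHom ha ≫ 𝟙 T ≫ eqToHom hb.symm :=
    @IsHomLift.fac' _ _ _ _ (AlgSt.ofSp M).p _ _ _ _ (𝟙 T) φ h
  rw [← φ.map_sec, e, ← Functor.map_comp_apply, ← op_comp]
  simp

variable {𝒳 𝒴 : AlgSt.Cat S}

lemma fibSec_iso {M : AlgSp.Sp S} (π : 𝒳 ⥤ᵇ AlgSt.ofSp M) {T : Over S} {x y : 𝒳.p.Fiber T} (φ : x ⟶ y) :
    AlgSt.fibSec π x = AlgSt.fibSec π y :=
  sec_map (π.map φ.1) ((π.w_obj x.1).trans x.2) ((π.w_obj y.1).trans y.2) (by haveI := φ.2; exact π.preserves_isHomLift (𝟙 T) φ.1)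

lemma fibSec_congr {M : AlgSp.Sp S} {π π' : 𝒳 ⥤ᵇ AlgSt.ofSp M} (α : π ≅ π') {T : Over S}
    (x : 𝒳.p.Fiber T) : AlgSt.fibSec π x = AlgSt.fibSec π' x :=
  sec_map (α.hom.toNatTrans.app x.1) ((π.w_obj x.1).trans x.2) ((π'.w_obj x.1).trans x.2) (α.hom.isHomLift x.2)

lemma geomPtBij_congr {M : AlgSp.Sp S} {π π' : 𝒳 ⥤ᵇ AlgSt.ofSp M} (α : π ≅ π') (h : AlgSt.GeomPtBij π) :
    AlgSt.GeomPtBij π' := by
  intro Ω _ _ t
  obtain ⟨h₁, h₂⟩ := h Ω t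
  refine ⟨fun m => ?_, fun x y e => h₂ x y ?_⟩
  · obtain ⟨x, hx⟩ := h₁ m
    exact ⟨x, (fibSec_congr α x).symm.trans hx⟩
  · rwa [fibSec_congr α x, fibSec_congr α y]

abbrev imgF (F : 𝒳 ⥤ᵇ 𝒴) {T : Over S} (x : 𝒳.p.Fiber T) : 𝒴.p.Fiber T :=
  Functor.Fiber.mk (p := 𝒴.p) (a := F.obj x.1) ((F.w_obj x.1).trans x.2)

variable [IsFibGrpd 𝒳.p] [IsFibGrpd 𝒴.p] {F : 𝒳 ⥤ᵇ 𝒴}

lemma geomPtBij_comp_iff (hF : Gerb.IsGerbeOver (QuotSh.J Scheme.fppfPrecoverage S) F) {M : AlgSp.Sp S}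
    (π : 𝒴 ⥤ᵇ AlgSt.ofSp M) : AlgSt.GeomPtBij (BasedFunctor.comp F π) ↔ AlgSt.GeomPtBij π := by
  have ess : ∀ (Ω : Type u) [Field Ω] [IsAlgClosed Ω] (t : Spec (CommRingCat.of Ω) ⟶ S)
      (y : 𝒴.p.Fiber (Over.mk t)), ∃ (x : 𝒳.p.Fiber (Over.mk t))
        (φ : imgF F x ≅ y), True := by
    intro Ω _ _ t y
    obtain ⟨R, hR, h⟩ := GerbeLib.locSurjObj_at hF.1 y.1 y.2
    obtain ⟨x, g, hg⟩ := h _ (id_mem_of_mem_J t hR)
    have hx : 𝒳.p.obj x = Over.mk t :=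
      (F.w_obj x).symm.trans (@IsHomLift.domain_eq _ _ _ _ _ _ _ _ _ (𝟙 (Over.mk t)) g hg)
    haveI := hg
    haveI : IsIso g := isIso_of_isHomLift (p := 𝒴.p) (𝟙 (Over.mk t)) g
    exact ⟨Functor.Fiber.mk (p := 𝒳.p) hx, FibLib.fiberIso 𝒴.p (a := imgF F (Functor.Fiber.mk (p := 𝒳.p) hx)) (b := y) (asIso g) hg, trivial⟩
  refine ⟨fun h => ?_, fun h => ?_⟩
  · intro Ω _ _ t
    obtain ⟨h₁, h₂⟩ := h Ω t
    refine ⟨fun m => ?_, fun y y' e => ?_⟩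
    · obtain ⟨x, hx⟩ := h₁ m
      exact ⟨imgF F x, hx⟩
    · obtain ⟨x, φ, -⟩ := ess Ω t y
      obtain ⟨x', φ', -⟩ := ess Ω t y'
      obtain ⟨i⟩ := h₂ x x' ((fibSec_iso π φ.hom).trans (e.trans (fibSec_iso π φ'.inv)))
      exact ⟨φ.symm ≪≫ FibLib.fiberIso 𝒴.p (a := imgF F x) (b := imgF F x') (F.toFunctor.mapIso ((Functor.Fiber.fiberInclusion).mapIso i))
        (by haveI := i.hom.2; exact F.preserves_isHomLift (𝟙 (Over.mk t)) i.hom.1) ≪≫ φ'⟩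
  · intro Ω _ _ t
    obtain ⟨h₁, h₂⟩ := h Ω t
    refine ⟨fun m => ?_, fun x x' e => ?_⟩
    · obtain ⟨y, hy⟩ := h₁ m
      obtain ⟨x, φ, -⟩ := ess Ω t y
      exact ⟨x, (fibSec_iso π φ.hom).trans hy⟩
    · obtain ⟨i⟩ := h₂ (imgF F x) (imgF F x') e
      obtain ⟨R, hR, hl⟩ := GerbeLib.locSurjHom_at hF.2 x.1 x'.1 x.2 i.hom.1 i.hom.2
      obtain ⟨z, φ, ψ, hφ, hψ, -⟩ := hl _ (id_mem_of_mem_J t hR)
      haveI := hφ
      haveI := hψ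
      haveI : IsIso φ := isIso_of_isHomLift (p := 𝒳.p) (𝟙 (Over.mk t)) φ
      haveI : IsIso ψ := isIso_of_isHomLift (p := 𝒳.p) (𝟙 (Over.mk t)) ψ
      have hz : 𝒳.p.obj z = Over.mk t := IsHomLift.domain_eq 𝒳.p (𝟙 (Over.mk t)) φ
      exact ⟨(FibLib.fiberIso 𝒳.p (a := Functor.Fiber.mk (p := 𝒳.p) hz) (b := x) (asIso φ) hφ).symm ≪≫
        FibLib.fiberIso 𝒳.p (a := Functor.Fiber.mk (p := 𝒳.p) hz) (b := x') (asIso ψ) hψ⟩

end

open CategoryTheory AlgebraicGeometry in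
/-- Let S be a scheme and F : 𝒳 → 𝒴 a morphism of algebraic stacks over S which makes 𝒳 an fppf gerbe
over 𝒴 and through which every morphism from 𝒳 to an algebraic space factors, uniquely up to
2-isomorphism. Then 𝒴 admits a coarse moduli space exactly when 𝒳 does, and the two coarse moduli
spaces coincide: for every coarse moduli map π : 𝒴 → M the composite 𝒳 → 𝒴 → M is a coarse moduli
map of 𝒳. (The published statement is about the rigidification F of 𝒳 along a flat finitely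
presented subgroup stack of its inertia; only two of its properties are assumed here, that F is a
gerbe and that maps to algebraic spaces factor through F, which is what the published argument uses;
neither stack is assumed quasi-separated or locally of finite presentation over S, and their
diagonals are not assumed quasi-compact or separated.) -/
theorem result (S : Scheme.{u}) (𝒳 𝒴 : AlgSt.Cat S)
    (h𝒳 : AlgSt.IsAlgStack Scheme.fppfPrecoverage 𝒳) (h𝒴 : AlgSt.IsAlgStack Scheme.fppfPrecoverage 𝒴)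
    (F : 𝒳 ⥤ᵇ 𝒴) (hF : Gerb.IsGerbeOver (QuotSh.J Scheme.fppfPrecoverage S) F)
    (huniv : ∀ (N : AlgSp.Sp S), AlgSp.IsAlgSpace N → ∀ φ : 𝒳 ⥤ᵇ AlgSt.ofSp N,
      ∃ ψ : 𝒴 ⥤ᵇ AlgSt.ofSp N, Nonempty (BasedFunctor.comp F ψ ≅ φ) ∧
        ∀ ψ' : 𝒴 ⥤ᵇ AlgSt.ofSp N, Nonempty (BasedFunctor.comp F ψ' ≅ φ) → Nonempty (ψ' ≅ ψ)) :
    ((∃ (M : AlgSp.Sp S) (π : 𝒴 ⥤ᵇ AlgSt.ofSp M), AlgSt.IsCoarseModuli π) ↔
        ∃ (M : AlgSp.Sp S) (π : 𝒳 ⥤ᵇ AlgSt.ofSp M), AlgSt.IsCoarseModuli π) ∧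
      ∀ (M : AlgSp.Sp S) (π : 𝒴 ⥤ᵇ AlgSt.ofSp M), AlgSt.IsCoarseModuli π →
        AlgSt.IsCoarseModuli (BasedFunctor.comp F π) := by
  haveI := h𝒳.isStack.1
  haveI := h𝒴.isStack.1
  have fwd : ∀ (M : AlgSp.Sp S) (π : 𝒴 ⥤ᵇ AlgSt.ofSp M), AlgSt.IsCoarseModuli π →
      AlgSt.IsCoarseModuli (BasedFunctor.comp F π) := by
    intro M π hπ
    refine ⟨⟨hπ.1.1, fun N hN φ => ?_⟩, (geomPtBij_comp_iff hF π).mpr hπ.2⟩
    obtain ⟨ψ, ⟨α⟩, hu⟩ := huniv N hN φ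
    obtain ⟨g, ⟨β⟩, hg⟩ := hπ.1.2 N hN ψ
    refine ⟨g, ⟨whiskL F β ≪≫ α⟩, fun g' ⟨γ⟩ => hg g' ?_⟩
    exact hu _ ⟨γ⟩
  refine ⟨⟨fun ⟨M, π, hπ⟩ => ⟨M, _, fwd M π hπ⟩, fun ⟨M, π', hπ'⟩ => ?_⟩, fwd⟩
  obtain ⟨π, ⟨α⟩, -⟩ := huniv M hπ'.1.1 π'
  refine ⟨M, π, ⟨hπ'.1.1, fun N hN φ => ?_⟩, (geomPtBij_comp_iff hF π).mp (geomPtBij_congr α.symm hπ'.2)⟩
  obtain ⟨g, ⟨β⟩, hg⟩ := hπ'.1.2 N hN (BasedFunctor.comp F φ)
  obtain ⟨ψ, -, hu⟩ := huniv N hN (BasedFunctor.comp F φ)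
  obtain ⟨a⟩ := hu φ ⟨Iso.refl _⟩
  obtain ⟨b⟩ := hu (BasedFunctor.comp π (AlgSt.ofSpMap g))
    ⟨(whiskR α (AlgSt.ofSpMap g) : BasedFunctor.comp F (BasedFunctor.comp π (AlgSt.ofSpMap g)) ≅ _) ≪≫ β⟩
  refine ⟨g, ⟨b ≪≫ a.symm⟩, fun g' ⟨γ⟩ => hg g' ⟨?_⟩⟩
  exact (whiskR α.symm (AlgSt.ofSpMap g') : BasedFunctor.comp π' (AlgSt.ofSpMap g') ≅
    BasedFunctor.comp F (BasedFunctor.comp π (AlgSt.ofSpMap g'))) ≪≫ whiskL F γ

end Groth.Agent.S18876
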