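import Groth.Statements.S18877
import Groth.Agent.GISpreadLib.GeomProp
import Groth.Agent.GISpreadLib.Cons
import Groth.Agent.ConsLib.General
import Groth.Agent.S1339

set_option autoImplicit false
set_option backward.isDefEq.respectTransparency false
set_option backward.isDefEq.respectTransparency.types false
set_option maxRecDepth 8000
set_option maxHeartbeats 1000000
universe u
open Lim

namespace Groth.Agent.S18877

open CategoryTheory AlgebraicGeometry in
/-- Let S = lim S_i be a cofiltered limit of Noetherian schemes with affine transition morphisms, let X₀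
→ S_{i₀} be a scheme of finite type over one stage and X → S its base change to the limit. If all
geometric fibres of X → S are connected, then for some stage S_i → S_{i₀} all geometric fibres of
the base change X₀ ×_{S_{i₀}} S_i → S_i are connected. (Connected is read so as to allow the empty
fibre: the underlying space of each geometric fibre is preconnected; the geometric fibre of X₀
×_{S_{i₀}} S_i over Spec Ω → S_i is written as the pullback of X₀ → S_{i₀} along Spec Ω → S_i →
S_{i₀}.) -/
theorem result {I : Type u} [SmallCategory I] [IsCofiltered I]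
    (D : I ⥤ Scheme.{u}) (c : Limits.Cone D) (hc : Limits.IsLimit c)
    [∀ (i j : I) (a : i ⟶ j), IsAffineHom (D.map a)] [∀ i : I, AlgebraicGeometry.IsNoetherian (D.obj i)]
    (i₀ : I) {X₀ : Scheme.{u}} (f₀ : X₀ ⟶ D.obj i₀) [QuasiCompact f₀] [LocallyOfFiniteType f₀]
    {X : Scheme.{u}} (f : X ⟶ c.pt) (q : X ⟶ X₀) (hX : IsPullback q f f₀ (c.π.app i₀))
    (hconn : ∀ (Ω : Type u) [Field Ω] [IsAlgClosed Ω] (t : Spec (CommRingCat.of Ω) ⟶ c.pt),
      PreconnectedSpace ↥(Limits.pullback f t)) :
    ∃ (i : I) (a : i ⟶ i₀), ∀ (Ω : Type u) [Field Ω] [IsAlgClosed Ω] (t : Spec (CommRingCat.of Ω) ⟶ D.obj i),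
      PreconnectedSpace ↥(Limits.pullback f₀ (t ≫ D.map a)) := by
  open Limits in
  haveI : IsNoetherian (D.obj i₀) := inferInstance
  haveI : LocallyOfFinitePresentation f₀ := inferInstance
  haveI : IsLocallyNoetherian X₀ := LocallyOfFiniteType.isLocallyNoetherian f₀
  haveI : QuasiSeparated f₀ := inferInstance
  have hpre : ∀ (α : Type u) [TopologicalSpace α], PreconnectedSpace α ↔ ENat.card (_root_.ConnectedComponents α) ≤ 1 := by
    intro α _
    rw [ENat.card_le_one_iff_subsingleton]
    constructor
    · intro h; infer_instance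
    · intro h
      refine preconnectedSpace_iff_connectedComponent.mpr fun x => Set.eq_univ_of_forall fun y => ?_
      exact ConnectedComponents.coe_eq_coe'.mp (Subsingleton.elim _ _)
  have hcount : ∀ {W Z : Scheme.{u}} (g : W ⟶ Z) (Ω : Type u) [Field Ω] [IsAlgClosed Ω]
      (t : Spec (CommRingCat.of Ω) ⟶ Z), ENat.card (_root_.ConnectedComponents ↥(pullback g t)) =
      MoreMor.nGeomConnComp g (t.base (IsLocalRing.closedPoint Ω)) := fun g Ω _ _ t =>
    (GISpreadLib.sameComp_geomFiber g Ω t _ rfl).2
  have hE : Topology.IsLocallyConstructible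
      {y : D.obj i₀ | MoreMor.nGeomConnComp f₀ y = 0 ∨ MoreMor.nGeomConnComp f₀ y = 1} :=
    (Groth.Agent.S1339.result f₀ 0).union (Groth.Agent.S1339.result f₀ 1)
  obtain ⟨j, φ, hφ⟩ := ConsLib.exists_stage_subset D c hc i₀
    (ProConsLib.isLocallyConstructible_iff_ind_and_pro.mp hE).1 (fun s => by
      let Ω := AlgebraicClosure (c.pt.residueField s)
      let t : Spec (CommRingCat.of Ω) ⟶ c.pt :=
        Spec.map (CommRingCat.ofHom (algebraMap (c.pt.residueField s) Ω)) ≫ c.pt.fromSpecResidueField s
      have ht : t.base (IsLocalRing.closedPoint Ω) = s := by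
        rw [Scheme.Hom.comp_apply]; exact c.pt.fromSpecResidueField_apply s _
      have h1 := (hpre _).mp (hconn Ω t)
      rw [hcount f Ω t, ht] at h1
      have h2 := (GISpreadLib.sameComp_geomFiber_comp f₀ f q (c.π.app i₀) hX s).2
      change MoreMor.nGeomConnComp f s = MoreMor.nGeomConnComp f₀ _ at h2
      rw [h2] at h1
      exact ENat.le_one_iff_eq_zero_or_eq_one.mp h1)
  refine ⟨j, φ, fun Ω _ _ t => ?_⟩
  rw [hpre, hcount f₀ Ω (t ≫ D.map φ), Scheme.Hom.comp_apply]
  exact ENat.le_one_iff_eq_zero_or_eq_one.mpr (hφ _)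

end Groth.Agent.S18877
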