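import Groth.Statements.S18879
import Groth.Agent.DimIneqLib.Scheme


set_option autoImplicit false
set_option linter.all false
universe u
open CategoryTheory AlgebraicGeometry
open Resolve

namespace Groth.Agent.S18879

/-- Let f : Y ⟶ X be a morphism locally of finite type between Noetherian separated schemes which is
birational: it maps the maximal points of Y bijectively onto the maximal points of X, and over every
maximal point of X its fibre is one point with the same residue field. Then for every point y of Y,
the Krull dimension of the local ring of Y at y is at most the Krull dimension of the local ring of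
X at f y (the codimension of a point does not increase along f). -/
theorem result {X Y : Scheme.{u}} (f : Y ⟶ X)
    [IsNoetherian X] [X.IsSeparated] [IsNoetherian Y] [Y.IsSeparated] [LocallyOfFiniteType f]
    (hf : RadPt.IsBirational f) (y : Y) :
    ringKrullDim (Y.presheaf.stalk y) ≤ ringKrullDim (X.presheaf.stalk (f.base y)) := by
  obtain ⟨ξ, hmax, hξy, h⟩ := DimIneqLib.stalk_le f y
  have hgen : ξ ∈ genericPoints Y := DimIneqLib.closure_mem_components hmax
  have hfξ : f ξ ∈ genericPoints X := hf.1.mapsTo hgen
  have hb := (hf.2 (f ξ) hfξ).2 ξ rfl
  have h0 : DimIneqLib.trH (f.residueFieldMap ξ).hom ≤ ((0 : ℕ) : ℕ∞) := by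
    apply DimIneqLib.trH_natCast_le
    letI := (f.residueFieldMap ξ).hom.toAlgebra
    haveI : Algebra.IsAlgebraic (X.residueField (f ξ)) (Y.residueField ξ) :=
      ⟨fun z => by obtain ⟨w, rfl⟩ := hb.2 z; exact isAlgebraic_algebraMap w⟩
    rw [trdeg_eq_zero]
    simp
  have h0' : DimIneqLib.trH (f.residueFieldMap ξ).hom = 0 := le_antisymm (h0.trans (by simp)) zero_le
  rw [h0'] at h
  refine le_trans (le_trans (le_add_of_nonneg_right ?_) h) (by simp)
  exact_mod_cast zero_le

end Groth.Agent.S18879
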