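import Groth.Statements.S18884
import Mathlib.Algebra.Group.Subgroup.Basic
-- import your own Groth.Agent.* helpers here

set_option autoImplicit false
universe v u w
open CategoryTheory CategoryTheory.Limits
open Desc

open CategoryTheory CategoryTheory.Limits
namespace Groth.Agent.S18884

theorem exists_hom {C : Type u} [Category.{v} C] [HasPullbacks C] (W : MorphismProperty C)
    [W.IsStableUnderBaseChange] [W.IsStableUnderComposition] (D : ObjectProperty C)
    (hD : ∀ X : C, ∃ (Y : C) (π : Y ⟶ X), W π ∧ D Y) (F G : C ⥤ AddCommGrpCat.{w})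
    (hs : ∀ ⦃Y X : C⦄ (π : Y ⟶ X), W π → Function.Surjective (F.map π).hom ∧
      (F.map π).hom.ker = ((F.map (pullback.fst π π)).hom - (F.map (pullback.snd π π)).hom).range)
    (η : D.ι ⋙ F ⟶ D.ι ⋙ G) : ∃ θ : F ⟶ G, D.ι.whiskerLeft θ = η := by
  let e (Y : C) (h : D Y) : F.obj Y ⟶ G.obj Y := η.app ⟨Y, h⟩
  have he : ∀ {Y Z : C} (hY : D Y) (hZ : D Z) (f : Z ⟶ Y), F.map f ≫ e Y hY = e Z hZ ≫ G.map f :=
    fun hY hZ f => η.naturality (X := ⟨_, hZ⟩) (Y := ⟨_, hY⟩) (ObjectProperty.homMk f)
  choose Y π hπ hY using hD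
  have hex : ∀ X, ∃ a : F.obj X ⟶ G.obj X, F.map (π X) ≫ a = e (Y X) (hY X) ≫ G.map (π X) := by
    intro X
    refine ⟨AddCommGrpCat.ofHom (AddMonoidHom.liftOfRightInverse (F.map (π X)).hom (Function.surjInv (hs _ (hπ X)).1) (Function.rightInverse_surjInv (hs _ (hπ X)).1)
      ⟨(e (Y X) (hY X) ≫ G.map (π X)).hom, fun a ha => ?_⟩), ?_⟩
    · rw [(hs _ (hπ X)).2] at ha
      obtain ⟨c, rfl⟩ := ha
      obtain ⟨z, rfl⟩ := (hs _ (hπ (pullback (π X) (π X)))).1 c
      let P := pullback (π X) (π X)
      let q₁ := π P ≫ pullback.fst (π X) (π X)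
      let q₂ := π P ≫ pullback.snd (π X) (π X)
      have h₁ : F.map q₁ ≫ e _ (hY X) ≫ G.map (π X) = F.map q₂ ≫ e _ (hY X) ≫ G.map (π X) := by
        rw [← Category.assoc, he (hY X) (hY P), ← Category.assoc, he (hY X) (hY P), Category.assoc,
          Category.assoc, ← G.map_comp, ← G.map_comp]
        simp only [q₁, q₂, Category.assoc, pullback.condition]
      rw [AddMonoidHom.mem_ker, AddMonoidHom.sub_apply, map_sub, sub_eq_zero]
      have h₂ := ConcreteCategory.congr_hom h₁ z
      simpa [q₁, q₂, P] using h₂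
    · ext a
      simp [AddMonoidHom.liftOfRightInverse_comp_apply]
  choose θ hθ using hex
  have hcov : ∀ {A X : C} (p : A ⟶ X), W p → ∀ {H : AddCommGrpCat.{w}} (a b : F.obj X ⟶ H),
      F.map p ≫ a = F.map p ≫ b → a = b := by
    intro A X p hp H a b h
    ext x
    obtain ⟨z, rfl⟩ := (hs p hp).1 x
    exact ConcreteCategory.congr_hom h z
  refine ⟨{ app := θ, naturality := fun X' X f => ?_ }, ?_⟩
  · let P := pullback (π X' ≫ f) (π X)
    let a := π P ≫ pullback.fst (π X' ≫ f) (π X)
    let b := π P ≫ pullback.snd (π X' ≫ f) (π X)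
    have ha : W a := W.comp_mem _ _ (hπ P) (MorphismProperty.pullback_fst _ _ (hπ X))
    have hab : (a ≫ π X') ≫ f = b ≫ π X := by simp only [a, b, Category.assoc, pullback.condition]
    refine hcov (a ≫ π X') (W.comp_mem _ _ ha (hπ X')) _ _ ?_
    calc F.map (a ≫ π X') ≫ F.map f ≫ θ X
        = F.map b ≫ F.map (π X) ≫ θ X := by rw [← F.map_comp_assoc, hab, F.map_comp, Category.assoc]
      _ = e _ (hY P) ≫ G.map (b ≫ π X) := by
          rw [hθ, ← Category.assoc, he (hY X) (hY P), Category.assoc, ← G.map_comp]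
      _ = e _ (hY P) ≫ G.map a ≫ G.map (π X') ≫ G.map f := by
          rw [← hab, G.map_comp, G.map_comp, Category.assoc]
      _ = F.map (a ≫ π X') ≫ θ X' ≫ G.map f := by
          rw [F.map_comp, Category.assoc, reassoc_of% hθ X', ← Category.assoc (F.map a), he (hY X') (hY P),
            Category.assoc]
  · ext ⟨X, hX⟩ : 2
    refine hcov (π X) (hπ X) _ _ ?_
    exact (hθ X).trans (he hX (hY X) (π X)).symm


/-- Let C be a category with pullbacks equipped with a class W of morphisms, the covers, stable under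
base change and under composition. An abelian cosheaf is a functor F : C ⥤ Ab such that for every
cover π : Y ⟶ X the map F(π) is surjective and its kernel is the image of F(p₁) − F(p₂), where p₁,
p₂ : Y ×_X Y ⟶ Y are the two projections. If D is a full subcategory of C such that every object of
C is the target of a cover whose source lies in D, then the restriction functor from the full
subcategory of abelian cosheaves in C ⥤ Ab to D ⥤ Ab is full and faithful. -/
theorem result {C : Type u} [Category.{v} C]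
    [HasPullbacks C] (W : MorphismProperty C) [W.IsStableUnderBaseChange] [W.IsStableUnderComposition]
    (D : ObjectProperty C) (hD : ∀ X : C, ∃ (Y : C) (π : Y ⟶ X), W π ∧ D Y) :
    (ObjectProperty.ι (fun F : C ⥤ AddCommGrpCat.{w} =>
        ∀ ⦃Y X : C⦄ (π : Y ⟶ X), W π → Function.Surjective (F.map π).hom ∧
          (F.map π).hom.ker = ((F.map (pullback.fst π π)).hom - (F.map (pullback.snd π π)).hom).range) ⋙
      (Functor.whiskeringLeft D.FullSubcategory C AddCommGrpCat.{w}).obj D.ι).Full ∧
    (ObjectProperty.ι (fun F : C ⥤ AddCommGrpCat.{w} =>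
        ∀ ⦃Y X : C⦄ (π : Y ⟶ X), W π → Function.Surjective (F.map π).hom ∧
          (F.map π).hom.ker = ((F.map (pullback.fst π π)).hom - (F.map (pullback.snd π π)).hom).range) ⋙
      (Functor.whiskeringLeft D.FullSubcategory C AddCommGrpCat.{w}).obj D.ι).Faithful := by
  constructor
  · refine ⟨fun {F G} η => ?_⟩
    obtain ⟨θ, hθ⟩ := exists_hom W D hD F.1 G.1 F.2 η
    exact ⟨ObjectProperty.homMk θ, hθ⟩
  · refine ⟨fun {F G} a b h => ?_⟩
    ext X x
    obtain ⟨Y, π, hπ, hY⟩ := hD X
    obtain ⟨y, rfl⟩ := (F.2 π hπ).1 x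
    have hY' : a.hom.app Y = b.hom.app Y := NatTrans.congr_app h ⟨Y, hY⟩
    rw [← ConcreteCategory.comp_apply, ← ConcreteCategory.comp_apply, a.hom.naturality, b.hom.naturality, hY']

end Groth.Agent.S18884
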