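import Groth.Statements.S18887
import Mathlib

-- import your own Groth.Agent.* helpers here

set_option autoImplicit false
universe u v
open DblCov

namespace Groth.Agent.S18887

/-- Let A be a commutative ring in which 2 is invertible and B a commutative A-algebra which is free of
rank 2 as an A-module and whose trace form tr : B → A has kernel free of rank 1 over A. Then σ(b) =
tr(b) − b defines an A-algebra endomorphism σ of B with σ ≠ id and σ ∘ σ = id, and the elements
fixed by σ are exactly the image of A in B. -/
theorem result {A : Type u} {B : Type v} [CommRing A] [CommRing B]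
    [Algebra A B] (h2 : IsUnit (2 : A)) [Module.Free A B] [Module.Finite A B]
    (hrk : Module.finrank A B = 2)
    [Module.Free A (LinearMap.ker (Algebra.trace A B))]
    (hker : Module.finrank A (LinearMap.ker (Algebra.trace A B)) = 1) :
    ∃ σ : B →ₐ[A] B, (∀ b : B, σ b = algebraMap A B (Algebra.trace A B b) - b) ∧
      σ ≠ AlgHom.id A B ∧ σ.comp σ = AlgHom.id A B ∧
      ∀ b : B, σ b = b ↔ b ∈ Set.range (algebraMap A B) := by
  classical
  obtain ⟨h, hh⟩ := h2.exists_left_inv
  haveI : Nontrivial A := by
    by_contra hn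
    rw [not_nontrivial_iff_subsingleton] at hn
    haveI := hn
    haveI : Subsingleton B := Module.subsingleton A B
    simp at hrk
  let tr := Algebra.trace A B
  have htr1 : ∀ a : A, tr (algebraMap A B a) = 2 * a := fun a => by
    simp [tr, Algebra.trace_algebraMap, hrk, two_mul, two_smul]
  haveI : Module.Finite A (LinearMap.ker tr) := Module.finite_of_finrank_eq_succ (n := 0) hker
  obtain ⟨bk⟩ : Nonempty (Module.Basis (Fin 1) A (LinearMap.ker tr)) :=
    ⟨(Module.Free.chooseBasis A _).reindex (Fintype.equivFinOfCardEq (by rw [← Module.finrank_eq_card_chooseBasisIndex]; exact hker))⟩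
  let e : B := (bk 0 : LinearMap.ker tr)
  have hte : tr e = 0 := LinearMap.mem_ker.1 (bk 0).2
  have hdec : ∀ b : B, ∃ c : A, b = algebraMap A B (h * tr b) + c • e := by
    intro b
    have hm : b - algebraMap A B (h * tr b) ∈ LinearMap.ker tr := by
      rw [LinearMap.mem_ker, map_sub, htr1, ← mul_assoc, mul_comm (2 : A) h, hh, one_mul, sub_self]
    refine ⟨bk.repr ⟨_, hm⟩ 0, ?_⟩
    have := congrArg Subtype.val (bk.sum_repr ⟨_, hm⟩)
    simp only [Fin.sum_univ_one, Submodule.coe_smul] at this
    rw [this]; abel
  have hinj : ∀ p q : A, algebraMap A B p + q • e = 0 → p = 0 ∧ q = 0 := by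
    intro p q hpq
    have h1 := congrArg tr hpq
    rw [map_add, map_smul, hte, smul_zero, add_zero, htr1, map_zero] at h1
    have hp : p = 0 := h2.mul_left_cancel (h1.trans (mul_zero _).symm)
    subst hp
    rw [map_zero, zero_add] at hpq
    refine ⟨rfl, ?_⟩
    have h3 : q • bk 0 = 0 := Subtype.ext hpq
    have := congrArg (fun z => bk.repr z 0) h3
    simpa using this
  obtain ⟨β, hβ⟩ := hdec (e * e)
  let bb : Module.Basis (Fin 2) A B := Module.Basis.mk (v := ![1, e]) (by
      rw [LinearIndependent.pair_iff]
      intro p q hpq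
      exact hinj p q (by rw [Algebra.algebraMap_eq_smul_one]; exact hpq))
    (by
      rintro b -
      obtain ⟨c, hc⟩ := hdec b
      rw [hc, Algebra.algebraMap_eq_smul_one]
      exact add_mem (Submodule.smul_mem _ _ (Submodule.subset_span ⟨0, rfl⟩)) (Submodule.smul_mem _ _ (Submodule.subset_span ⟨1, rfl⟩)))
  have hb0 : bb 0 = 1 := by simp [bb]
  have hb1 : bb 1 = e := by simp [bb]
  have hβ0 : β = 0 := by
    have h4 : tr e = bb.repr e 0 + bb.repr (e * e) 1 := by
      rw [show tr e = Matrix.trace (Algebra.leftMulMatrix bb e) from Algebra.trace_eq_matrix_trace bb e]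
      simp [Matrix.trace, Fin.sum_univ_two, Algebra.leftMulMatrix_eq_repr_mul, hb0, hb1]
    rw [hte, hβ, Algebra.algebraMap_eq_smul_one, ← hb0, ← hb1] at h4
    simpa using h4.symm
  subst hβ0
  rw [zero_smul, add_zero] at hβ
  have hσ1 : ∀ p q : A, algebraMap A B (tr (algebraMap A B p + q • e)) - (algebraMap A B p + q • e) = algebraMap A B p - q • e := fun p q => by
    rw [map_add, map_smul, hte, smul_zero, add_zero, htr1, map_mul, map_ofNat]; ring
  let σl : B →ₗ[A] B := (Algebra.linearMap A B) ∘ₗ tr - LinearMap.id
  have hσl : ∀ b, σl b = algebraMap A B (tr b) - b := fun b => rfl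
  have hone : σl 1 = 1 := by
    rw [hσl, ← map_one (algebraMap A B), htr1, map_mul, map_ofNat, map_one]; ring
  have hmul : ∀ x y, σl (x * y) = σl x * σl y := by
    intro x y
    obtain ⟨c, hc⟩ := hdec x
    obtain ⟨d, hd⟩ := hdec y
    generalize h * tr x = p at hc
    generalize h * tr y = q at hd
    subst hc hd
    have e1 : (algebraMap A B p + c • e) * (algebraMap A B q + d • e) = algebraMap A B (p * q + c * d * (h * tr (e * e))) + (p * d + c * q) • e := by
      rw [map_add, map_mul, map_mul (algebraMap A B) (c * d), map_mul (algebraMap A B) c d, ← hβ]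
      simp only [Algebra.smul_def, map_add, map_mul]
      ring
    rw [e1, hσl, hσl, hσl, hσ1, hσ1, hσ1]
    rw [map_add, map_mul, map_mul (algebraMap A B) (c * d), map_mul (algebraMap A B) c d, ← hβ]
    simp only [Algebra.smul_def, map_add, map_mul]
    ring
  refine ⟨AlgHom.ofLinearMap σl hone hmul, fun b => rfl, ?_, ?_, fun b => ?_⟩
  · intro hid
    have h5 : σl e = e := congrArg (fun F : B →ₐ[A] B => F e) hid
    rw [hσl, hte, map_zero, zero_sub] at h5
    have h6 := hinj 0 2 (by rw [map_zero, zero_add, two_smul]; nth_rw 1 [← h5]; rw [neg_add_cancel])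
    exact h2.ne_zero h6.2
  · apply AlgHom.ext
    intro b
    change σl (σl b) = b
    rw [hσl, hσl, map_sub, htr1, map_sub, map_mul, map_ofNat]
    ring
  · change σl b = b ↔ _
    constructor
    · intro hb
      rw [hσl] at hb
      refine ⟨h * tr b, ?_⟩
      have e2 : algebraMap A B h * 2 = 1 := by rw [← map_ofNat (algebraMap A B), ← map_mul, hh, map_one]
      rw [map_mul]
      linear_combination algebraMap A B h * hb + b * e2
    · rintro ⟨a, rfl⟩
      rw [hσl, htr1, map_mul, map_ofNat]; ring

end Groth.Agent.S18887
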