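import Groth.Statements.S18888
import Mathlib.LinearAlgebra.FiniteDimensional.Lemmas
import Mathlib.LinearAlgebra.FiniteDimensional.Basic
import Mathlib.RingTheory.Polynomial.RationalRoot
import Mathlib.LinearAlgebra.Dimension.Free
import Mathlib.Algebra.Squarefree.Basic
import Mathlib.RingTheory.Localization.NumDen
import Mathlib.FieldTheory.Minpoly.IsIntegrallyClosed


-- import your own Groth.Agent.* helpers here

set_option autoImplicit false
universe u v w
open CAlg

namespace Groth.Agent.S18888

/-- Let A be a unique factorisation domain in which 2 is invertible, with fraction field K, and let L ⊇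
K be a quadratic extension field (of degree 2 over K) containing an element y ∉ K whose square is a
squarefree element d of A. Then the integral closure of A in L equals the A-subalgebra A[y]
generated by y. -/
theorem result {A : Type u} {K : Type v} {L : Type w}
    [CommRing A] [IsDomain A] [UniqueFactorizationMonoid A] [Field K] [Algebra A K] [IsFractionRing A K]
    [Field L] [Algebra K L] [Algebra A L] [IsScalarTower A K L]
    (h2 : IsUnit (2 : A)) (hL : Module.finrank K L = 2)
    (d : A) (hd : Squarefree d) (y : L) (hy : y * y = algebraMap A L d)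
    (hyK : y ∉ Set.range (algebraMap K L)) :
    integralClosure A L = Algebra.adjoin A {y} := by
  have : IsIntegrallyClosed A := inferInstance
  have hinjL : Function.Injective (algebraMap A L) := by
    rw [IsScalarTower.algebraMap_eq A K L]; exact (algebraMap K L).injective.comp (IsFractionRing.injective A K)
  have hyint : IsIntegral A y := by
    refine ⟨Polynomial.X ^ 2 - Polynomial.C d, Polynomial.monic_X_pow_sub_C d two_ne_zero, ?_⟩
    simp [sq, hy]
  refine le_antisymm (fun x hx => ?_) (Algebra.adjoin_le (Set.singleton_subset_iff.2 hyint))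
  replace hx : IsIntegral A x := hx
  -- coordinates of `x` in the basis `1, y`
  have hind : LinearIndependent K ![(1 : L), y] := by
    rw [LinearIndependent.pair_iff' one_ne_zero]
    exact fun c hc => hyK ⟨c, by rw [← hc, Algebra.algebraMap_eq_smul_one]⟩
  have hspan : x ∈ Submodule.span K (Set.range ![(1 : L), y]) := by
    rw [LinearIndependent.span_eq_top_of_card_eq_finrank hind (by simp [hL])]; trivial
  rw [Matrix.range_cons, Matrix.range_cons, Matrix.range_empty, Set.union_empty, Set.singleton_union, Submodule.mem_span_pair] at hspan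
  obtain ⟨a, b, rfl⟩ := hspan
  rw [← Algebra.algebraMap_eq_smul_one] at hx ⊢
  by_cases hb : b = 0
  · subst hb
    rw [zero_smul, add_zero] at hx ⊢
    obtain ⟨a', rfl⟩ := IsIntegrallyClosed.algebraMap_eq_of_integral (R := A) ((isIntegral_algebraMap_iff (algebraMap K L).injective).1 hx)
    rw [← IsScalarTower.algebraMap_apply]
    exact Subalgebra.algebraMap_mem _ _
  set x := algebraMap K L a + b • y with hxdef
  let q : Polynomial K := Polynomial.X ^ 2 - (Polynomial.C (2 * a) * Polynomial.X - Polynomial.C (a ^ 2 - algebraMap A K d * b ^ 2))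
  have hqm : q.Monic := Polynomial.monic_X_pow_sub (lt_of_le_of_lt (Polynomial.degree_sub_le _ _) (max_lt
    ((Polynomial.degree_C_mul_X_le _).trans_lt (by norm_num)) (Polynomial.degree_C_le.trans_lt (by norm_num))))
  have hqx : Polynomial.aeval x q = 0 := by
    simp only [q, map_sub, map_pow, map_mul, Polynomial.aeval_X, Polynomial.aeval_C, x, Algebra.smul_def, map_ofNat]
    rw [← IsScalarTower.algebraMap_apply, ← hy]
    ring
  have hxK : x ∉ Set.range (algebraMap K L) := by
    rintro ⟨c, hc⟩
    refine hyK ⟨(c - a) / b, ?_⟩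
    have hb' : algebraMap K L b ≠ 0 := (map_ne_zero _).2 hb
    rw [map_div₀, map_sub, hc, div_eq_iff hb', mul_comm, ← Algebra.smul_def]
    exact add_sub_cancel_left _ _
  have hxint : IsIntegral K x := hx.tower_top
  have hmin : q = minpoly K x := by
    refine minpoly.unique' K x hqm hqx fun r hr => or_iff_not_imp_left.2 fun hr0 h0 => ?_
    have hqdeg : q.natDegree = 2 := by
      refine Polynomial.natDegree_eq_of_degree_eq_some ?_
      rw [Polynomial.degree_sub_eq_left_of_degree_lt, Polynomial.degree_X_pow]
      rw [Polynomial.degree_X_pow]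
      exact lt_of_le_of_lt (Polynomial.degree_sub_le _ _) (max_lt
        ((Polynomial.degree_C_mul_X_le _).trans_lt (by norm_num)) (Polynomial.degree_C_le.trans_lt (by norm_num)))
    have h1 := Polynomial.natDegree_le_of_dvd (minpoly.dvd K x h0) hr0
    have h2 : 2 ≤ (minpoly K x).natDegree := (minpoly.two_le_natDegree_iff hxint).2 hxK
    rw [Polynomial.degree_eq_natDegree hr0, Polynomial.degree_eq_natDegree hqm.ne_zero, hqdeg, Nat.cast_lt] at hr
    omega
  have hcoef : ∀ i, ∃ e : A, algebraMap A K e = q.coeff i := fun i =>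
    ⟨(minpoly A x).coeff i, by rw [hmin, minpoly.isIntegrallyClosed_eq_field_fractions' K hx, Polynomial.coeff_map]⟩
  obtain ⟨c1, hc1⟩ := hcoef 1
  obtain ⟨c0, hc0⟩ := hcoef 0
  rw [show Polynomial.coeff q 1 = -(2 * a) by simp only [q, Polynomial.coeff_sub, Polynomial.coeff_X_pow, Polynomial.coeff_C_mul, Polynomial.coeff_X_one, Polynomial.coeff_C]; simp] at hc1
  rw [show Polynomial.coeff q 0 = a ^ 2 - algebraMap A K d * b ^ 2 by simp only [q, Polynomial.coeff_sub, Polynomial.coeff_X_pow, Polynomial.coeff_C_mul, Polynomial.coeff_X_zero, Polynomial.coeff_C]; simp] at hc0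
  obtain ⟨u, hu⟩ := isUnit_iff_exists_inv.1 h2
  have hu' : (2 : K) * algebraMap A K u = 1 := by rw [← map_ofNat (algebraMap A K) 2, ← map_mul, hu, map_one]
  have ha : algebraMap A K (-(c1 * u)) = a := by
    rw [map_neg, map_mul, hc1]
    linear_combination a * hu'
  have hdb : algebraMap A K ((-(c1 * u)) ^ 2 - c0) = algebraMap A K d * b ^ 2 := by
    rw [map_sub, map_pow, ha, hc0]; ring
  -- `b` lies in `A`
  obtain ⟨p, s, hcop, hps⟩ := IsFractionRing.exists_reduced_fraction A b
  have hs2 : (s : A) * s ∣ p ^ 2 * d := by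
    refine ⟨(-(c1 * u)) ^ 2 - c0, IsFractionRing.injective A K ?_⟩
    rw [map_mul (algebraMap A K) ((s : A) * s), hdb, ← hps, map_mul, map_mul, map_pow]
    linear_combination -(algebraMap A K d) * (IsLocalization.mk' K p s * algebraMap A K s + algebraMap A K p) * IsLocalization.mk'_spec K p s
  have hsu : IsUnit (s : A) := by
    refine isUnit_of_dvd_one ?_
    have hrp : IsRelPrime ((s : A) * s) (p ^ 2) := (hcop.symm.mul_left hcop.symm).pow_right
    have := hrp.dvd_of_dvd_mul_left hs2
    exact (hd _ this).dvd
  obtain ⟨v, hv⟩ := hsu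
  have hbA : algebraMap A K (p * (v⁻¹ : Aˣ)) = b := by
    rw [← hps, eq_comm, IsLocalization.mk'_eq_iff_eq_mul, ← map_mul, mul_assoc, ← hv, Units.inv_mul, mul_one]
  have hxe : x = algebraMap A L (-(c1 * u)) + algebraMap A L (p * (v⁻¹ : Aˣ)) * y := by
    rw [hxdef, IsScalarTower.algebraMap_apply A K L, IsScalarTower.algebraMap_apply A K L, ha, hbA, Algebra.smul_def]
  show x ∈ Algebra.adjoin A {y}
  rw [hxe]
  exact add_mem (Subalgebra.algebraMap_mem _ _) (mul_mem (Subalgebra.algebraMap_mem _ _) (Algebra.subset_adjoin rfl))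

end Groth.Agent.S18888
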