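import Groth.Statements.S18890
import Mathlib.RepresentationTheory.Invariants
import Mathlib.LinearAlgebra.TensorProduct.Basic

set_option autoImplicit false
universe u v w w'
open CAlg

namespace Groth.Agent.S18890

/-- Let R be a commutative ring, G a finite group whose order is invertible in R, M an R-module with an
R-linear action ρ of G and N an arbitrary R-module. Then the natural map M^G ⊗_R N → M ⊗_R N induced
by the inclusion of the invariants is injective, and its image is the submodule of invariants of M
⊗_R N under the action ρ ⊗ 1 (G acting on the first factor). (The source lets G be a group of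
R-automorphisms of M; a possibly non-faithful linear action changes nothing.) -/
theorem result {R : Type u} [CommRing R]
    {G : Type v} [Group G] [Finite G] (hG : IsUnit ((Nat.card G : ℕ) : R))
    {M : Type w} {N : Type w'} [AddCommGroup M] [Module R M] [AddCommGroup N] [Module R N]
    (ρ : Representation R G M) :
    Function.Injective (LinearMap.rTensor N ρ.invariants.subtype) ∧
      LinearMap.range (LinearMap.rTensor N ρ.invariants.subtype) =
        (ρ.tprod (Representation.trivial R G N)).invariants := by
  classical
  haveI : Fintype G := Fintype.ofFinite G
  haveI : Invertible (Fintype.card G : R) := (Nat.card_eq_fintype_card (α := G) ▸ hG).invertible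
  let e : M →ₗ[R] ρ.invariants :=
    LinearMap.codRestrict _ (Representation.averageMap ρ) (Representation.averageMap_invariant ρ)
  have he : e ∘ₗ ρ.invariants.subtype = LinearMap.id :=
    LinearMap.ext fun v => Subtype.ext (Representation.averageMap_id ρ v.1 v.2)
  refine ⟨Function.LeftInverse.injective (g := LinearMap.rTensor N e) fun x => ?_, ?_⟩
  · rw [← LinearMap.comp_apply, ← LinearMap.rTensor_comp, he, LinearMap.rTensor_id, LinearMap.id_apply]
  · have hact : ∀ (g : G) (z : TensorProduct R M N),
        (ρ.tprod (Representation.trivial R G N)) g z = LinearMap.rTensor N (ρ g) z := by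
      intro g z
      induction z using TensorProduct.induction_on with
      | zero => rw [map_zero, map_zero]
      | tmul m n => simp [Representation.tprod_apply]
      | add a b ha hb => rw [map_add, map_add, ha, hb]
    refine le_antisymm ?_ fun x hx => ?_
    · rintro _ ⟨y, rfl⟩ g
      rw [hact, ← LinearMap.comp_apply, ← LinearMap.rTensor_comp,
        show ρ g ∘ₗ ρ.invariants.subtype = ρ.invariants.subtype from LinearMap.ext fun v => v.2 g]
    · refine ⟨LinearMap.rTensor N e x, ?_⟩
      have havg : ρ.invariants.subtype ∘ₗ e = ⅟(Fintype.card G : R) • ∑ g : G, ρ g := by
        show Representation.averageMap ρ = _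
        simp [GroupAlgebra.average, map_sum]
      rw [← LinearMap.comp_apply, ← LinearMap.rTensor_comp, havg, LinearMap.rTensor_smul, LinearMap.smul_apply,
        show LinearMap.rTensor N (∑ g : G, ρ g) = ∑ g : G, LinearMap.rTensor N (ρ g) from
          map_sum (LinearMap.rTensorHom N) _ _,
        LinearMap.sum_apply, Finset.sum_congr rfl fun g _ => (hact g x).symm.trans (hx g),
        Finset.sum_const, Finset.card_univ, ← Nat.cast_smul_eq_nsmul R, smul_smul, invOf_mul_self, one_smul]

end Groth.Agent.S18890
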