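import Groth.Statements.S18891
import Mathlib
-- import your own Groth.Agent.* helpers here

set_option autoImplicit false
universe u
open CategoryTheory CategoryTheory.Limits AlgebraicGeometry
open Mor

namespace Groth.Agent.S18891

/-- Let f : X → Y be a morphism of schemes which is proper and formally unramified, and such that for
every algebraically closed field Ω the map X(Ω) → Y(Ω), g ↦ g ≫ f, is injective. Then f is a closed
immersion. -/
theorem result {X Y : Scheme.{u}} (f : X ⟶ Y)
    [IsProper f] [FormallyUnramified f]
    (hinj : ∀ (Ω : Type u) [Field Ω] [IsAlgClosed Ω],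
      Function.Injective (fun g : Spec (CommRingCat.of Ω) ⟶ X => g ≫ f)) :
    IsClosedImmersion f := by
  haveI : IsOpenImmersion (pullback.diagonal f) := inferInstance
  have hsurj : Surjective (pullback.diagonal f) := ⟨fun z => by
    let K := (pullback f f).residueField z
    let ξ : Spec (CommRingCat.of (AlgebraicClosure K)) ⟶ pullback f f :=
      Spec.map (CommRingCat.ofHom (algebraMap (↑K) (AlgebraicClosure K))) ≫
        (pullback f f).fromSpecResidueField z
    have he : ξ ≫ pullback.fst f f = ξ ≫ pullback.snd f f :=
      hinj _ (by simp only [Category.assoc, pullback.condition])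
    have hξ : ξ = (ξ ≫ pullback.fst f f) ≫ pullback.diagonal f := by
      apply pullback.hom_ext
      · rw [Category.assoc, Category.assoc]; erw [pullback.diagonal_fst]; rw [Category.comp_id]
      · rw [Category.assoc, Category.assoc]; erw [pullback.diagonal_snd]
        rw [Category.comp_id]; exact he.symm
    refine ⟨(ξ ≫ pullback.fst f f).base (IsLocalRing.closedPoint _), ?_⟩
    rw [← Scheme.Hom.comp_apply, ← hξ]
    rw [Scheme.Hom.comp_apply]
    exact Scheme.fromSpecResidueField_apply z _⟩
  haveI : IsIso (pullback.diagonal f) :=
    (isIso_iff_isOpenImmersion_and_surjective _).mpr ⟨inferInstance, hsurj⟩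
  haveI : Mono f := (pullback.isIso_diagonal_iff f).mp inferInstance
  exact (IsClosedImmersion.iff_isProper_and_mono _).mpr ⟨inferInstance, inferInstance⟩

end Groth.Agent.S18891
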