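import Groth.Statements.S18893
import Groth.Agent.CurveFFLib.DoubleUniq
import Groth.Agent.S7843
-- import your own Groth.Agent.* helpers here

set_option autoImplicit false
universe u
open CategoryTheory CategoryTheory.Limits AlgebraicGeometry
open Curves

namespace Groth.Agent.S18893

attribute [local instance] CurveDualLib.algFF

/-- Let k be an algebraically closed field of characteristic different from 2 and X a hyperelliptic
curve over k (p : X → Spec k smooth and proper, X connected of dimension one, genus dim_k H¹(X, O_X)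
≥ 2, with a double cover h : X → P¹_k, finite and flat of rank 2 everywhere) with hyperelliptic
involution σ (σ ≫ h = h, σ ≠ id). Then σ lies in the centre of the automorphism group of X over k:
it commutes with every k-automorphism τ of X. -/
theorem result (k : Type u) [Field k] [IsAlgClosed k] (h2 : (2 : k) ≠ 0)
    {X : Scheme.{u}} (p : X ⟶ Spec (CommRingCat.of k)) [IsProper p] [Smooth p] [ConnectedSpace ↥X]
    (hX : topologicalKrullDim ↥X = 1) (hg : 2 ≤ @Curv2.genus k _ X ⟨p⟩)
    (h : X ⟶ CohB1.ProjSpace 1 k) (hh : h ≫ CohB1.ProjSpace.toSpec 1 k = p)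
    [IsFinite h] [Flat h] (hr : ∀ y : ↥(CohB1.ProjSpace 1 k), h.finrank y = 2)
    (σ : X ⟶ X) (hσ : σ ≫ h = h) (hσ₁ : σ ≠ 𝟙 X)
    (τ : X ≅ X) (hτ : τ.hom ≫ p = p) :
    τ.hom ≫ σ = σ ≫ τ.hom := by
  letI : X.Over (Spec (CommRingCat.of k)) := ⟨p⟩
  letI := CurveFFLib.overLine k
  haveI : IsProper (X ↘ Spec (CommRingCat.of k)) := ‹IsProper p›
  haveI : Smooth (X ↘ Spec (CommRingCat.of k)) := ‹Smooth p›
  haveI : IsIntegral X := S7843.isIntegral_of_smooth (k := k)
  haveI : IsIntegral (CohB1.ProjSpace 1 k) := GenusZeroLib.isIntegral_projSpace k 1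
  have h0P := S14339.finrank_h0_projSpace_one k
  have hgP : Curv2.genus k (CohB1.ProjSpace 1 k) = 0 := by
    rw [← CurveDualLib.genus_eq' (GenusZeroLib.dim_projSpace k 1) h0P]
    exact CurveFFLib.genus_line
  haveI : IsFinite (τ.hom ≫ h) := inferInstance
  haveI : Flat (τ.hom ≫ h) := inferInstance
  have hne : τ.hom ≫ σ ≫ τ.inv ≠ 𝟙 X := fun h1 => hσ₁ (by
    have h3 := congrArg (fun φ => τ.inv ≫ φ ≫ τ.hom) h1
    simpa using h3)
  have key := CurveFFLib.invol_unique (k := k) hX (RRVanLib.finrank_h0_structure (k := k) (X := X)) hg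
    (GenusZeroLib.dim_projSpace k 1) h0P hgP (GenusZeroLib.dim_projSpace k 1) h0P hgP
    h hh (hr _) (τ.hom ≫ h) (show (τ.hom ≫ h) ≫ CohB1.ProjSpace.toSpec 1 k = p by rw [Category.assoc, hh, hτ])
    (by rw [Scheme.Hom.finrank_comp_left_of_isIso]; exact hr _)
    h2 hσ hσ₁ (τ := τ.hom ≫ σ ≫ τ.inv) (by simp [hσ]) hne
  calc τ.hom ≫ σ = (τ.hom ≫ σ ≫ τ.inv) ≫ τ.hom := by simp
    _ = σ ≫ τ.hom := by rw [← key]

end Groth.Agent.S18893
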