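import Groth.Statements.S18895
import Groth.Agent.GenusZeroLib.TwoPoints

set_option autoImplicit false
universe u
open CategoryTheory CategoryTheory.Limits AlgebraicGeometry
open Curves

namespace Groth.Agent.S18895

/-- Let k be an algebraically closed field of characteristic different from 2 (the standing convention
of the section; it plays no role here) and X a connected smooth proper curve over k of genus dim_k
H¹(X, O_X) ≥ 1. For every invertible O_X-module L of positive degree one has dim_k H⁰(X, L) ≤ deg L. -/
theorem result (k : Type u) [Field k] [IsAlgClosed k] (h2 : (2 : k) ≠ 0)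
    (X : Scheme.{u}) [X.Over (Spec (CommRingCat.of k))]
    [IsProper (X ↘ Spec (CommRingCat.of k))] [Smooth (X ↘ Spec (CommRingCat.of k))] [ConnectedSpace ↥X]
    (hX : topologicalKrullDim ↥X = 1) (hg : 1 ≤ Curv2.genus k X)
    (L : X.Modules) (hL : PicF.IsInvertible L) (hdeg : 0 < Curv2.deg k X L 1) :
    (Module.finrank k (Coh.HH X L 0) : ℤ) ≤ Curv2.deg k X L 1 := by
  classical
  haveI := CurvLib.isNoetherian k (X := X)
  haveI : ∀ x : X, IsDomain (X.presheaf.stalk x) := fun x =>
    haveI := CurveVBLib.regular_stalk (k := k) x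
    CommAlgDim.isDomain_of_isRegularLocalRing _
  haveI : IsIntegral X := CurveVBLib.isIntegral_of_connected
  have hn : ∀ x : X, IsIntegrallyClosed (X.presheaf.stalk x) := fun x =>
    (GenusZeroLib.isIntegrallyClosed_of_mem_smoothLocus (k := k)
      (x := x) (by rw [Scheme.Hom.smoothLocus_eq_top]; trivial)).2
  have h0 := RRVanLib.finrank_h0_structure (k := k) (X := X)
  obtain ⟨w, hw⟩ := GenusZeroLib.exists_rational_point_of_smooth (X ↘ Spec (CommRingCat.of k))
  let P := w (IsLocalRing.closedPoint k)
  have hP : IsClosed ({P} : Set X) := GenusZeroLib.isClosed_rational w hw _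
  haveI := GenusZeroLib.isDiscreteValuationRing_stalk k hX hP (hn P)
  obtain ⟨N, q, hN, hNd, hq⟩ := GenusZeroLib.exists_point_bundle_neg_hom (k := k) hX hP
  rw [GenusZeroLib.finrank_residueField_rational w hw] at hNd
  suffices H : ∀ (d : ℕ) (L : X.Modules), PicF.IsInvertible L → Curv2.deg k X L 1 = (d + 1 : ℕ) →
      Module.finrank k (Coh.HH X L 0) ≤ d + 1 by
    obtain ⟨d, hd⟩ : ∃ d : ℕ, Curv2.deg k X L 1 = (d + 1 : ℕ) := ⟨(Curv2.deg k X L 1).toNat - 1, by omega⟩
    have := H d L hL hd
    omega
  intro d
  induction d with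
  | zero =>
    intro L hL hd
    by_contra hlt
    have := GenusZeroLib.subsingleton_h1_of_pencil k hX hL (by exact_mod_cast hd) (by omega)
    rw [Curv2.genus, Module.finrank_zero_of_subsingleton] at hg
    omega
  | succ d ih =>
    intro L hL hd
    let e : (CurvLib.tensorLeft' L).obj (Coh.structureModule X) ≅ L :=
      KFlatLib.tensSwap (Coh.structureModule X) L ≪≫ KFlatLib.tensUnitIso L
    let L' : X.Modules := (CurvLib.tensorLeft' L).obj N
    have hL' : PicF.IsInvertible L' := AmpleThLib.shT_isInvertible hL hN
    have hd' : Curv2.deg k X L' 1 = (d + 1 : ℕ) := by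
      refine (GenusZeroLib.deg_tensor k hX hL hN).trans ?_
      rw [hd, hNd]
      push_cast
      ring
    haveI : Mono q := CurvLib.mono_of_ne_zero hN CurvLib.isInvertible_structureModule hq
    have hS : (ShortComplex.mk q (cokernel.π q) (cokernel.condition q)).ShortExact :=
      { exact := ShortComplex.exact_of_g_is_cokernel _ (cokernelIsCokernel q) }
    haveI hmono : Mono ((CurvLib.tensorLeft' L).map q) :=
      (CurvLib.shortExact_tensor_locFree (CurvLib.locFree_of_isInvertible hL) hS).mono_f
    let φ : L' ⟶ L := (CurvLib.tensorLeft' L).map q ≫ e.hom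
    have hφ : φ ≠ 0 := fun h => by
      have hz : (CurvLib.tensorLeft' L).map q = 0 := by
        rw [← cancel_mono e.hom, Limits.zero_comp]
        exact h
      have h1 : Limits.IsZero L' := by
        haveI : Mono (0 : L' ⟶ (CurvLib.tensorLeft' L).obj (Coh.structureModule X)) := hz ▸ hmono
        exact Limits.IsZero.of_mono_zero L' ((CurvLib.tensorLeft' L).obj (Coh.structureModule X))
      have h2 := CurveVBLib.genRank_of_isZero h1
      rw [CurveVBLib.genRank_eq (CurvLib.locFree_of_isInvertible hL')] at h2
      exact one_ne_zero h2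
    have h1L := CurvLib.h1_le (k := k) hX hL' hL hφ
    have e1 := CurvLib.deg_curve (k := k) hX L h0
    have e2 := CurvLib.deg_curve (k := k) hX L' h0
    have := ih L' hL' hd'
    omega

end Groth.Agent.S18895
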