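import Groth.Statements.S18898
import Groth.Agent.ConsLib.General
import Groth.Agent.Unram17LimLib.Noeth
import Groth.Agent.ConsLib.PairProper
import Groth.Agent.CohCmpLib.EulerConst
import Groth.Agent.CohCmpLib.EulerFibre
import Groth.Agent.CohCmpLib.SemiCont
import Groth.Agent.CohCmpLib.LineBundle
import Groth.Agent.BlowRegLib.CurveGeomConn
import Groth.Agent.FibDimLib.FieldExt
import Groth.Agent.CurvLib.Euler
import Groth.Agent.CurvLib.SupportVanish
import Groth.Agent.S0403
import Groth.Agent.S0404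
-- import your own Groth.Agent.* helpers here

set_option autoImplicit false
universe u
open CategoryTheory CategoryTheory.Limits AlgebraicGeometry
open Curves

namespace Groth.Agent.S18898

open RichLib.LimBC ConsLib RichLib.FlatNoeth

attribute [local instance] ConsLib.zAlgebra

set_option backward.isDefEq.respectTransparency false

noncomputable section

theorem exists_model (A : Type u) [CommRing A] {X : Scheme.{u}} (f : X ⟶ Spec (CommRingCat.of A))
    [Smooth f] [IsProper f] :
    ∃ A₀ : Subalgebra ℤ A, A₀.FG ∧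
      ∃ (X₀ : Scheme.{u}) (f₀ : X₀ ⟶ Spec (CommRingCat.of ↥A₀)) (q : X ⟶ X₀),
        Smooth f₀ ∧ IsProper f₀ ∧
          IsPullback q f f₀ (Spec.map (CommRingCat.ofHom (algebraMap (↥A₀) A))) := by
  let A' := zSys A
  haveI : ∀ i j (a : i ⟶ j), IsAffineHom (A'.D.map a) := fun _ _ a => A'.affine_map a
  haveI : ∀ i, IsNoetherian (A'.D.obj i) := fun i => zSys_obj _ i
  let e : Spec (CommRingCat.of A) ≅ A'.c.pt := (zSysIso _).symm
  obtain ⟨i, ⟨N⟩⟩ := DescFP.exists_model A'.hc (f ≫ e.hom)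
  haveI := N.lfp
  haveI := N.qc
  haveI := N.qs
  haveI := N.compactSpace
  let Z := ofStage A'.D A'.c A'.hc i
  let eX : X ≅ pullback N.p Z.s := N.sq.isoPullback
  have hX₂ : eX.hom ≫ pullback.snd N.p Z.s = f ≫ e.hom := N.sq.isoPullback_hom_snd
  have hlim : ∀ (P : MorphismProperty Scheme.{u}) [P.RespectsIso], P f → AtLim Z N.p P := by
    intro P _ hf
    show P (pullback.snd N.p Z.s)
    refine (MorphismProperty.cancel_left_of_respectsIso P eX.hom _).mp ?_
    rw [hX₂]
    exact (MorphismProperty.cancel_right_of_respectsIso P f e.hom).mpr hf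
  obtain ⟨ψ₁, hψ₁⟩ := Unram17LimLib.exists_at_of_pointwise @Smooth Z N.p (hlim @Smooth ‹_›)
    fun x hx => Unram17LimLib.exists_stage_smooth Z N.p x hx
  obtain ⟨ψ₂, hψ₂⟩ := ConsLib.exists_at_isProper Z N.p (hlim @IsProper ‹_›)
  let ψ := IsCofiltered.min ψ₁ ψ₂
  refine ⟨toZ ψ.left.unop.1, fg_toZ _ ψ.left.unop.2, _, pullback.snd N.p (Z.t ψ), eX.hom ≫ pbπ Z N.p ψ,
    at_of_hom Z N.p (IsCofiltered.minToLeft ψ₁ ψ₂) hψ₁, at_of_hom Z N.p (IsCofiltered.minToRight ψ₁ ψ₂) hψ₂, ?_⟩
  refine (isPullback_cone Z N.p ψ).of_iso eX.symm (Iso.refl _) e.symm (Iso.refl _) ?_ ?_ ?_ ?_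
  · exact (Category.comp_id _).trans (Iso.inv_hom_id_assoc _ _).symm
  · exact (Iso.eq_inv_comp eX).mpr ((Category.assoc _ _ _).symm.trans ((Iso.comp_inv_eq e).mpr hX₂))
  · exact (Category.comp_id _).trans (Category.id_comp _).symm
  · exact (Category.comp_id _).trans (Iso.inv_hom_id_assoc _ _).symm

variable {X S : Scheme.{u}} (f : X ⟶ S) [IsProper f] [Smooth f]

theorem hyps : CohB1.IsFP (Coh.structureModule X) ∧ FlatMod.IsFlatOver f (Coh.structureModule X) :=
  (CohCmpLib.rank_one_hyps f (CohCmpLib.rank_one_structureModule X)).2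

/-- The good locus. -/
def Good (g : ℕ) : Set S :=
  {s | (0 : WithBot ℕ∞) < topologicalKrullDim ↥(f.fiber s)} ∩ {s | topologicalKrullDim ↥(f.fiber s) ≤ 1} ∩
    {s | PerfAux.betti f (Coh.structureModule X) s 0 < 2} ∩
    {s | PerfAux.eulerChar f (Coh.structureModule X) s = 1 - (g : ℤ)}

theorem isOpen_good (g : ℕ) : IsOpen (Good f g) :=
  (((Groth.Agent.S0404.result f 0).inter (Groth.Agent.S0403.result f 1)).inter
    (CohCmpLib.isOpen_betti_lt (hyps f).1 (hyps f).2 0 2)).inter
    ((CohCmpLib.isLocallyConstant_eulerChar (hyps f).1 (hyps f).2).isOpen_fiber _)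

/-- The invariants of a fibre of a base change are those of the fibre. -/
theorem fibre_spec {X' S' : Scheme.{u}} {f' : X' ⟶ S'} {g' : X' ⟶ X} {u : S' ⟶ S}
    (H : IsPullback g' f' f u) (s : S') :
    letI : (f'.fiber s).Over (Spec (CommRingCat.of (S'.residueField s))) := ⟨f'.fiberToSpecResidueField s⟩
    topologicalKrullDim ↥(f'.fiber s) = topologicalKrullDim ↥(f.fiber (u s)) ∧
      Module.finrank (S'.residueField s) (Coh.HH (f'.fiber s) (Coh.structureModule (f'.fiber s)) 0) =
        PerfAux.betti f (Coh.structureModule X) (u s) 0 ∧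
      Curv2.euler (S'.residueField s) (f'.fiber s) (Coh.structureModule (f'.fiber s)) =
        PerfAux.eulerChar f (Coh.structureModule X) (u s) := by
  let K : Type u := S'.residueField s
  letI : (f'.fiber s).Over (Spec (CommRingCat.of K)) := ⟨f'.fiberToSpecResidueField s⟩
  obtain ⟨hfp, hfl⟩ := hyps f
  have : Coh.IsQCoh (Coh.structureModule X) := (CohCmpLib.rank_one_hyps f (CohCmpLib.rank_one_structureModule X)).1
  let g'' : f'.fiber s ⟶ X := pullback.fst f' (S'.fromSpecResidueField s) ≫ g'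
  have H' : IsPullback g'' (f'.fiberToSpecResidueField s) f
      (S'.fromSpecResidueField s ≫ u) :=
    (IsPullback.of_hasPullback f' (S'.fromSpecResidueField s)).paste_horiz H
  have hv : ∀ z : Spec (CommRingCat.of K), (S'.fromSpecResidueField s ≫ u) z = u s := fun z => by
    show u (S'.fromSpecResidueField s z) = u s
    rw [Scheme.fromSpecResidueField_apply]
  let z : Spec (CommRingCat.of K) := (⊥ : PrimeSpectrum K)
  let e : (Scheme.Modules.pullback g'').obj (Coh.structureModule X) ≅ Coh.structureModule (f'.fiber s) :=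
    KFlatLib.pullUnitIso g''
  refine ⟨FibDimLib.topologicalKrullDim_fiber_baseChange H s, ?_, ?_⟩
  · obtain ⟨W, C, hW, hz⟩ := CohCmpLib.exists_chart_at hfp hfl (u s)
    have h := C.finrank_bc hW H' (fun z' => Set.mem_of_eq_of_mem (hv z') hz) z 0
    exact ((CurvLib.hIso (k := K) e 0).finrank_eq).symm.trans (h.trans
      (congrArg (fun t => PerfAux.betti f (Coh.structureModule X) t 0) (hv z)))
  · have h := CohCmpLib.euler_bc hfp hfl H' z
    exact (CurvLib.euler_congr (k := K) e).symm.trans (h.trans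
      (congrArg (fun t => PerfAux.eulerChar f (Coh.structureModule X) t) (hv z)))

/-- A curve over a field with `h⁰ = 1` has Euler characteristic `1 - h¹`. -/
theorem euler_curve (k : Type u) [Field k] (Y : Scheme.{u}) [Y.Over (Spec (CommRingCat.of k))]
    [IsProper (Y ↘ Spec (CommRingCat.of k))] (hd : topologicalKrullDim ↥Y = 1)
    (h0 : Module.finrank k (Coh.HH Y (Coh.structureModule Y) 0) = 1) :
    Curv2.euler k Y (Coh.structureModule Y) = 1 - (Curv2.genus k Y : ℤ) := by
  haveI := CurvLib.isNoetherian k (X := Y)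
  rw [CurvLib.euler_eq_sub (k := k) fun n hn => CurvLib.subsingleton_HH_of_dim_le _ (d := 1) hd.le n (by omega), h0]
  rfl

theorem good_of_pullback {X' S' : Scheme.{u}} (f' : X' ⟶ S') [IsProper f'] [Smooth f'] [GeometricallyConnected f']
    {g' : X' ⟶ X} {u : S' ⟶ S} (H : IsPullback g' f' f u) (g : ℕ)
    (hdim : ∀ s : S', topologicalKrullDim ↥(f'.fiber s) = 1)
    (hgen : ∀ s : S', letI : (f'.fiber s).Over (Spec (S'.residueField s)) := ⟨f'.fiberToSpecResidueField s⟩
      Curv2.genus (S'.residueField s) (f'.fiber s) = g) (s : S') : u s ∈ Good f g := by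
  let K : Type u := S'.residueField s
  letI : (f'.fiber s).Over (Spec (CommRingCat.of K)) := ⟨f'.fiberToSpecResidueField s⟩
  haveI : IsProper ((f'.fiber s) ↘ Spec (CommRingCat.of K)) :=
    MorphismProperty.pullback_snd (P := @IsProper) f' (S'.fromSpecResidueField s) ‹_›
  haveI : Smooth ((f'.fiber s) ↘ Spec (CommRingCat.of K)) :=
    MorphismProperty.pullback_snd (P := @Smooth) f' (S'.fromSpecResidueField s) ‹_›
  obtain ⟨h1, h2, h3⟩ := fibre_spec f H s
  have h0 : Module.finrank K (Coh.HH (f'.fiber s) (Coh.structureModule (f'.fiber s)) 0) = 1 :=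
    ((BlowRegLib.CurveGeomConn.constants_iff K (f'.fiber s) (hdim s)).1).2
      (inferInstanceAs (GeometricallyConnected (f'.fiberToSpecResidueField s)))
  have hχ := euler_curve K (f'.fiber s) (hdim s) h0
  refine ⟨⟨⟨?_, ?_⟩, ?_⟩, ?_⟩
  · show (0 : WithBot ℕ∞) < _
    rw [← h1, hdim s]
    exact zero_lt_one
  · show _ ≤ (1 : WithBot ℕ∞)
    rw [← h1, hdim s]
  · show _ < 2
    rw [← h2, h0]
    exact one_lt_two
  · show _ = _
    rw [← h3, hχ, hgen s]

theorem curve_of_good {X' S' : Scheme.{u}} (f' : X' ⟶ S') [IsProper f'] [Smooth f']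
    {g' : X' ⟶ X} {u : S' ⟶ S} (H : IsPullback g' f' f u) (g : ℕ) (hu : ∀ s, u s ∈ Good f g) :
    (∀ s : S', topologicalKrullDim ↥(f'.fiber s) = 1) ∧ GeometricallyConnected f' ∧
    ∀ s : S', letI : (f'.fiber s).Over (Spec (S'.residueField s)) := ⟨f'.fiberToSpecResidueField s⟩
      Curv2.genus (S'.residueField s) (f'.fiber s) = g := by
  have key : ∀ s : S', topologicalKrullDim ↥(f'.fiber s) = 1 ∧
      GeometricallyConnected (f'.fiberToSpecResidueField s) ∧
      (letI : (f'.fiber s).Over (Spec (S'.residueField s)) := ⟨f'.fiberToSpecResidueField s⟩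
       Curv2.genus (S'.residueField s) (f'.fiber s) = g) := fun s => by
    let K : Type u := S'.residueField s
    letI : (f'.fiber s).Over (Spec (CommRingCat.of K)) := ⟨f'.fiberToSpecResidueField s⟩
    haveI : IsProper ((f'.fiber s) ↘ Spec (CommRingCat.of K)) :=
      MorphismProperty.pullback_snd (P := @IsProper) f' (S'.fromSpecResidueField s) ‹_›
    haveI : Smooth ((f'.fiber s) ↘ Spec (CommRingCat.of K)) :=
      MorphismProperty.pullback_snd (P := @Smooth) f' (S'.fromSpecResidueField s) ‹_›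
    obtain ⟨h1, h2, h3⟩ := fibre_spec f H s
    obtain ⟨⟨⟨hpos, hle⟩, hb⟩, hχ'⟩ := hu s
    have hd : topologicalKrullDim ↥(f'.fiber s) = 1 := by
      rw [h1]
      change (0 : WithBot ℕ∞) < _ at hpos
      change _ ≤ (1 : WithBot ℕ∞) at hle
      generalize topologicalKrullDim ↥(f.fiber (u s)) = d at hpos hle ⊢
      refine le_antisymm hle ?_
      cases d with
      | bot => simp at hpos
      | coe d => exact WithBot.one_le_coe.2 (Order.one_le_iff_pos.2 (WithBot.coe_pos.1 hpos))
    haveI : Nonempty ↥(f'.fiber s) := by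
      by_contra h
      haveI : IsEmpty ↥(f'.fiber s) := not_nonempty_iff.mp h
      have := topologicalKrullDim_zero_of_discreteTopology ↥(f'.fiber s)
      rw [hd] at this
      exact absurd this (not_le.mpr zero_lt_one)
    haveI := CurvLib.finite_HH (k := K) (DevissLib.isCoh_structureModule (f'.fiber s)) 0
    obtain ⟨x⟩ := ‹Nonempty ↥(f'.fiber s)›
    haveI : Nonempty (⊤ : (f'.fiber s).Opens) := ⟨⟨x, trivial⟩⟩
    haveI : Nontrivial (Coh.HH (f'.fiber s) (Coh.structureModule (f'.fiber s)) 0) :=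
      (DegPullLib.e0 (Coh.structureModule (f'.fiber s))).toEquiv.nontrivial (β := Γ(f'.fiber s, ⊤))
    have h0 : Module.finrank K (Coh.HH (f'.fiber s) (Coh.structureModule (f'.fiber s)) 0) = 1 := by
      have hp := Module.finrank_pos (R := K) (M := Coh.HH (f'.fiber s) (Coh.structureModule (f'.fiber s)) 0)
      change _ < 2 at hb
      rw [← h2] at hb
      change Module.finrank K (Coh.HH (f'.fiber s) (Coh.structureModule (f'.fiber s)) 0) < 2 at hb
      omega
    refine ⟨hd, ((BlowRegLib.CurveGeomConn.constants_iff K (f'.fiber s) hd).1).1 h0, ?_⟩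
    change _ = (1 - (g : ℤ)) at hχ'
    have hh := (euler_curve K (f'.fiber s) hd h0).symm.trans (h3.trans hχ')
    show Curv2.genus K (f'.fiber s) = g
    omega
  refine ⟨fun s => (key s).1, ⟨?_⟩, fun s => (key s).2.2⟩
  rw [geometrically_iff_forall_fiberToSpecResidueField]
  exact fun s => (key s).2.1.geometrically_connectedSpace

/-- Enlarging a finitely generated subalgebra into an open set. -/
theorem exists_factor {A : Type u} [CommRing A] (A₀ : Subalgebra ℤ A) (hA₀ : A₀.FG)
    (V : Set (PrimeSpectrum ↥A₀)) (hV : IsOpen V) (h : ∀ p : PrimeSpectrum A, p.comap (algebraMap ↥A₀ A) ∈ V) :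
    ∃ (A₁ : Subalgebra ℤ A) (hle : A₀ ≤ A₁), A₁.FG ∧
      ∀ q : PrimeSpectrum ↥A₁, q.comap (Subalgebra.inclusion hle).toRingHom ∈ V := by
  classical
  obtain ⟨I, hI⟩ := (PrimeSpectrum.isClosed_iff_zeroLocus_ideal _).1 hV.isClosed_compl
  have htop : (1 : A) ∈ Ideal.map (algebraMap ↥A₀ A) I := by
    by_contra h1
    obtain ⟨m, hm, hle⟩ := Ideal.exists_le_maximal _ ((Ideal.ne_top_iff_one _).2 h1)
    have h2 : (⟨m, hm.isPrime⟩ : PrimeSpectrum A).comap (algebraMap ↥A₀ A) ∈ Vᶜ := by
      rw [hI]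
      exact Ideal.map_le_iff_le_comap.1 hle
    exact h2 (h _)
  obtain ⟨n, a, b, hab⟩ := Submodule.mem_span_set'.1 htop
  choose c hc hcb using fun i => (b i).2
  refine ⟨A₀ ⊔ Algebra.adjoin ℤ (Finset.univ.image a : Set A), le_sup_left, hA₀.sup ⟨_, rfl⟩, fun q => ?_⟩
  by_contra hq
  rw [← Set.mem_compl_iff, hI] at hq
  set j : ↥A₀ →+* ↥(A₀ ⊔ Algebra.adjoin ℤ (Finset.univ.image a : Set A)) :=
    (Subalgebra.inclusion le_sup_left).toRingHom
  have ha : ∀ i, a i ∈ A₀ ⊔ Algebra.adjoin ℤ (Finset.univ.image a : Set A) := fun i =>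
    le_sup_right (a := A₀) (Algebra.subset_adjoin (by simp))
  have h1 : (1 : ↥(A₀ ⊔ Algebra.adjoin ℤ (Finset.univ.image a : Set A))) = ∑ i, ⟨a i, ha i⟩ * j (c i) := by
    apply Subtype.ext
    rw [AddSubmonoidClass.coe_finset_sum]
    refine hab.symm.trans (Finset.sum_congr rfl fun i _ => ?_)
    rw [← hcb i]
    rfl
  exact q.isPrime.ne_top ((Ideal.eq_top_iff_one _).2 (h1 ▸ Ideal.sum_mem _ fun i _ =>
    Ideal.mul_mem_left _ _ (hq (hc i))))

end


/-- Take an affine base S and a smooth genus-g curve f : X → S over it (proper and smooth, with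
geometrically connected fibres of dimension one and genus g). Then there exist an affine scheme S₀
whose ring of global sections is of finite type over ℤ (in particular S₀ is Noetherian), a morphism
u : S → S₀ which is injective on global sections (so that S₀ is the spectrum of a subring of
O_S(S)), and a smooth curve of genus g, f₀ : X₀ → S₀, together with a cartesian square making f the
base change of f₀ along u. -/
theorem result {X S : Scheme.{u}} (f : X ⟶ S) [IsAffine S]
    [IsProper f] [Smooth f] [GeometricallyConnected f]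
    (hdim : ∀ s : S, topologicalKrullDim ↥(f.fiber s) = 1) (g : ℕ)
    (hgen : ∀ s : S, letI : (f.fiber s).Over (Spec (S.residueField s)) := ⟨f.fiberToSpecResidueField s⟩
      Curv2.genus (S.residueField s) (f.fiber s) = g) :
    ∃ (S₀ X₀ : Scheme.{u}) (f₀ : X₀ ⟶ S₀) (u : S ⟶ S₀) (v : X ⟶ X₀),
      IsAffine S₀ ∧ Algebra.FiniteType ℤ Γ(S₀, ⊤) ∧ Function.Injective (u.appTop).hom ∧
      IsPullback v f f₀ u ∧ IsProper f₀ ∧ Smooth f₀ ∧ GeometricallyConnected f₀ ∧
      (∀ s : S₀, topologicalKrullDim ↥(f₀.fiber s) = 1) ∧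
      ∀ s : S₀, letI : (f₀.fiber s).Over (Spec (S₀.residueField s)) := ⟨f₀.fiberToSpecResidueField s⟩
        Curv2.genus (S₀.residueField s) (f₀.fiber s) = g := by
  let A : Type u := Γ(S, ⊤)
  let f' : X ⟶ Spec (CommRingCat.of A) := f ≫ S.isoSpec.hom
  haveI : IsProper f' := (MorphismProperty.cancel_right_of_respectsIso @IsProper f S.isoSpec.hom).2 ‹_›
  haveI : Smooth f' := (MorphismProperty.cancel_right_of_respectsIso @Smooth f S.isoSpec.hom).2 ‹_›
  obtain ⟨A₀, hA₀, X₀, f₀, q, hs, hp, sq⟩ := exists_model A f'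
  let u₀ : S ⟶ Spec (CommRingCat.of ↥A₀) := S.isoSpec.hom ≫ Spec.map (CommRingCat.ofHom (algebraMap ↥A₀ A))
  have sq₀ : IsPullback q f f₀ u₀ :=
    sq.of_iso (Iso.refl _) (Iso.refl _) S.isoSpec.symm (Iso.refl _) (by simp) (by simp [f']) (by simp)
      (by simp [u₀])
  have hgood : ∀ p : PrimeSpectrum A, p.comap (algebraMap ↥A₀ A) ∈ Good f₀ g := fun p => by
    have h1 := good_of_pullback f₀ f sq₀ g hdim hgen (S.isoSpec.inv p)
    have h2 : S.isoSpec.hom (S.isoSpec.inv p) = p := by
      rw [← Scheme.Hom.comp_apply, S.isoSpec.inv_hom_id]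
      rfl
    rw [show u₀ (S.isoSpec.inv p) = (Spec.map (CommRingCat.ofHom (algebraMap ↥A₀ A))) p from
      congrArg (Spec.map (CommRingCat.ofHom (algebraMap ↥A₀ A))) h2] at h1
    exact h1
  obtain ⟨A₁, hle, hA₁, hq⟩ := exists_factor A₀ hA₀ (Good f₀ g) (isOpen_good f₀ g) hgood
  let v : Spec (CommRingCat.of ↥A₁) ⟶ Spec (CommRingCat.of ↥A₀) :=
    Spec.map (CommRingCat.ofHom (Subalgebra.inclusion hle).toRingHom)
  let f₁ : pullback f₀ v ⟶ Spec (CommRingCat.of ↥A₁) := pullback.snd f₀ v
  haveI : IsProper f₁ := MorphismProperty.pullback_snd _ _ hp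
  haveI : Smooth f₁ := MorphismProperty.pullback_snd _ _ hs
  obtain ⟨hd1, hgc, hg1⟩ := curve_of_good f₀ f₁ (IsPullback.of_hasPullback f₀ v) g fun s => hq s
  let u : S ⟶ Spec (CommRingCat.of ↥A₁) := S.isoSpec.hom ≫ Spec.map (CommRingCat.ofHom (algebraMap ↥A₁ A))
  have huv : u ≫ v = u₀ := by
    simp only [u, v, u₀, Category.assoc, ← Spec.map_comp]
    rfl
  let w : X ⟶ pullback f₀ v := pullback.lift q (f ≫ u) (by rw [Category.assoc, huv]; exact sq₀.w)
  have hw : IsPullback w f f₁ u := by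
    refine IsPullback.of_right ?_ (pullback.lift_snd _ _ _) (IsPullback.of_hasPullback f₀ v)
    rw [pullback.lift_fst, huv]
    exact sq₀
  refine ⟨Spec (CommRingCat.of ↥A₁), pullback f₀ v, f₁, u, w, inferInstance, ?_, ?_, hw, inferInstance,
    inferInstance, hgc, hd1, hg1⟩
  · haveI : Algebra.FiniteType ℤ ↥A₁ := ⟨(Subalgebra.fg_top _).2 hA₁⟩
    exact RingHom.finiteType_algebraMap.1 (RingHom.FiniteType.of_surjective _ (Scheme.ΓSpecIso
      (CommRingCat.of ↥A₁)).commRingCatIsoToRingEquiv.symm.surjective |>.comp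
      (RingHom.finiteType_algebraMap.2 ‹_›) |> fun h => by convert h; exact RingHom.ext_int _ _)
  · have hu : u.appTop = (Scheme.ΓSpecIso (CommRingCat.of ↥A₁)).hom ≫
        CommRingCat.ofHom (algebraMap ↥A₁ A) ≫ (Scheme.ΓSpecIso (CommRingCat.of A)).inv ≫
          S.isoSpec.hom.appTop := by
      rw [Scheme.ΓSpecIso_inv_naturality_assoc, Iso.hom_inv_id_assoc]
      rfl
    rw [hu]
    have h1 : Function.Injective (algebraMap ↥A₁ A) := Subtype.val_injective
    exact ((ConcreteCategory.bijective_of_isIso S.isoSpec.hom.appTop).1.comp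
      ((ConcreteCategory.bijective_of_isIso (Scheme.ΓSpecIso (CommRingCat.of A)).inv).1.comp h1)).comp
      (ConcreteCategory.bijective_of_isIso (Scheme.ΓSpecIso (CommRingCat.of ↥A₁)).hom).1

end Groth.Agent.S18898
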