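import Groth.Statements.S18899
import Mathlib.Algebra.MvPolynomial.Basic
import Mathlib.RingTheory.MvPolynomial.Basic
import Mathlib.Algebra.Polynomial.Eval.Coeff
import Mathlib.Algebra.Polynomial.BigOperators

set_option autoImplicit false
universe u v w
open CAlg

namespace Groth.Agent.S18899

/-- Let A be a commutative ring on which a finite group G acts by ring automorphisms, with ring of
invariants A^G, and let K be a field. If two ring homomorphisms f₁, f₂ : A → K have the same
restriction to A^G, then f₂ = f₁ ∘ γ for some γ ∈ G. -/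
theorem result {A : Type u} [CommRing A] {G : Type v} [Group G] [Finite G]
    [MulSemiringAction G A] {K : Type w} [Field K] (f₁ f₂ : A →+* K)
    (h : ∀ a : A, (∀ g : G, g • a = a) → f₁ a = f₂ a) :
    ∃ γ : G, ∀ a : A, f₂ a = f₁ (γ • a) := by
  classical
  haveI : Fintype G := Fintype.ofFinite G
  by_contra hne
  push_neg at hne
  choose a ha using hne
  let σ : G → MvPolynomial G A →+* MvPolynomial G A := fun g => MvPolynomial.map (MulSemiringAction.toRingHom G A g)
  let P : MvPolynomial G A := ∑ g, MvPolynomial.C (a g) * MvPolynomial.X g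
  let Q : Polynomial (MvPolynomial G A) := ∏ g, (Polynomial.X - Polynomial.C (σ g P))
  have hσσ : ∀ g g' x, σ g (σ g' x) = σ (g * g') x := fun g g' x => by
    rw [MvPolynomial.map_map]
    congr 2
    exact RingHom.ext fun y => (mul_smul g g' y).symm
  have hQ : ∀ g, Q.map (σ g) = Q := fun g => by
    rw [Polynomial.map_prod]
    refine Fintype.prod_equiv (Equiv.mulLeft g) _ _ fun x => ?_
    rw [Polynomial.map_sub, Polynomial.map_X, Polynomial.map_C, hσσ]
    rfl
  have hQf : Q.map (MvPolynomial.map f₁) = Q.map (MvPolynomial.map f₂) := by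
    refine Polynomial.ext fun k => MvPolynomial.ext _ _ fun m => ?_
    rw [Polynomial.coeff_map, Polynomial.coeff_map, MvPolynomial.coeff_map, MvPolynomial.coeff_map]
    refine h _ fun g => ?_
    have := congrArg (fun p => MvPolynomial.coeff m (Polynomial.coeff p k)) (hQ g)
    simpa [Polynomial.coeff_map, σ, MvPolynomial.coeff_map] using this
  have hσ1 : σ 1 P = P := by
    rw [show σ 1 = RingHom.id _ from ?_]
    · rfl
    · refine MvPolynomial.ringHom_ext (fun x => ?_) (fun i => ?_)
      · simp [σ]
      · simp [σ]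
  have h0 : ∏ g, (MvPolynomial.map f₂ P - MvPolynomial.map f₁ (σ g P)) = 0 := by
    have h1 : ∀ f : A →+* K, (Q.map (MvPolynomial.map f)).eval (MvPolynomial.map f₂ P) =
        ∏ g, (MvPolynomial.map f₂ P - MvPolynomial.map f (σ g P)) := fun f => by
      simp only [Q, Polynomial.map_prod, Polynomial.eval_prod, Polynomial.map_sub, Polynomial.map_X,
        Polynomial.map_C, Polynomial.eval_sub, Polynomial.eval_X, Polynomial.eval_C]
    rw [← h1 f₁, hQf, h1 f₂]
    exact Finset.prod_eq_zero (Finset.mem_univ 1) (by rw [hσ1, sub_self])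
  obtain ⟨g, -, hg⟩ := Finset.prod_eq_zero_iff.1 h0
  refine ha g ?_
  have hc : ∀ i, MvPolynomial.coeff (Finsupp.single i 1) P = a i := fun i => by
    simp [P, MvPolynomial.coeff_sum, MvPolynomial.coeff_C_mul, MvPolynomial.coeff_X']
    rw [Finset.sum_eq_single i (fun j _ hj => if_neg fun h' => hj ((Finsupp.single_left_inj one_ne_zero).1 h'))
      (fun h' => absurd (Finset.mem_univ i) h'), if_pos rfl]
  have := congrArg (MvPolynomial.coeff (Finsupp.single g 1)) (sub_eq_zero.1 hg)
  simpa [σ, MvPolynomial.coeff_map, hc] using this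

end Groth.Agent.S18899
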