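import Groth.Statements.S1890
import Mathlib
-- import your own Groth.Agent.* helpers here

set_option autoImplicit false
universe u
open CategoryTheory CategoryTheory.Limits AlgebraicGeometry
open Grpd

namespace Groth.Agent.S1890

/-- Take a quasi-compact immersion j : V → Spec A and an element f ∈ A such that j⁻¹(D(f)) is affine and
j(V) ∩ V(f) is closed in Spec A. Then V is affine. -/
theorem result (A : Type u) [CommRing A] (V : Scheme.{u}) (j : V ⟶ Spec (CommRingCat.of A)) [IsImmersion j] [QuasiCompact j] (f : A) (haff : IsAffineOpen (j ⁻¹ᵁ PrimeSpectrum.basicOpen f)) (hcl : IsClosed (Set.range ⇑j ∩ PrimeSpectrum.zeroLocus {f})) : IsAffine V := by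
  classical
  have h : ∀ x : Spec (CommRingCat.of A), ∃ D : (Spec (CommRingCat.of A)).Opens,
      x ∈ D ∧ IsAffineOpen D ∧ IsAffineOpen (j ⁻¹ᵁ D) := fun x => by
    by_cases hf : x ∈ PrimeSpectrum.basicOpen f
    · exact ⟨PrimeSpectrum.basicOpen f, hf, IsAffineOpen.Spec_basicOpen (R := CommRingCat.of A) f, haff⟩
    by_cases hx : x ∈ Set.range j
    · obtain ⟨_, ⟨a, rfl⟩, hxa, haW⟩ := PrimeSpectrum.isTopologicalBasis_basic_opens.exists_subset_of_mem_open
        (show x ∈ (j.coborderRange : Set _) by
          obtain ⟨v, rfl⟩ := hx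
          rw [show j v = j.coborderRange.ι (j.liftCoborder v) from
            (congrArg (fun φ : V ⟶ Spec (CommRingCat.of A) => φ v) j.liftCoborder_ι).symm]
          exact (j.liftCoborder v).2)
        j.coborderRange.2
      refine ⟨PrimeSpectrum.basicOpen a, hxa, IsAffineOpen.Spec_basicOpen a, ?_⟩
      have hD := (IsAffineOpen.Spec_basicOpen a).preimage_of_isOpenImmersion j.coborderRange.ι
        (by rw [Scheme.Opens.opensRange_ι]; exact haW)
      have := hD.preimage j.liftCoborder
      rwa [← Scheme.Hom.comp_preimage, Scheme.Hom.liftCoborder_ι] at this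
    · obtain ⟨_, ⟨b, rfl⟩, hxb, hb⟩ := PrimeSpectrum.isTopologicalBasis_basic_opens.exists_subset_of_mem_open
        (show x ∈ (Set.range j ∩ PrimeSpectrum.zeroLocus {f})ᶜ from fun h => hx h.1) hcl.isOpen_compl
      refine ⟨PrimeSpectrum.basicOpen b, hxb, IsAffineOpen.Spec_basicOpen b, ?_⟩
      have hle : j ⁻¹ᵁ PrimeSpectrum.basicOpen b ≤ j ⁻¹ᵁ PrimeSpectrum.basicOpen f := fun v hv => by
        have := hb hv
        by_contra hc
        exact this ⟨⟨v, rfl⟩, fun a ha => by
          rw [Set.mem_singleton_iff.mp ha]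
          exact not_not.mp hc⟩
      let B : (Spec (CommRingCat.of A)).Opens := PrimeSpectrum.basicOpen b
      let s : Γ(Spec (CommRingCat.of A), ⊤) := (Scheme.ΓSpecIso (CommRingCat.of A)).inv b
      have hs : B = (Spec (CommRingCat.of A)).basicOpen s := (basicOpen_eq_of_affine b).symm
      have heq : j ⁻¹ᵁ B = V.basicOpen
          (V.presheaf.map (homOfLE (le_top : j ⁻¹ᵁ PrimeSpectrum.basicOpen f ≤ ⊤)).op (j.app ⊤ s)) := by
        refine Eq.trans ?_ (Scheme.basicOpen_res V (j.app ⊤ s) _).symm
        refine Eq.trans (inf_eq_right.mpr hle).symm ?_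
        refine congrArg _ ?_
        show j ⁻¹ᵁ B = _
        rw [hs]
        exact Scheme.preimage_basicOpen j s
      show IsAffineOpen (j ⁻¹ᵁ B)
      rw [heq]
      exact haff.basicOpen _
  choose D hxD hD hjD using h
  haveI : IsAffineHom j := by
    refine HasAffineProperty.of_iSup_eq_top (P := @IsAffineHom) (fun x => ⟨D x, hD x⟩) ?_ hjD
    exact eq_top_iff.mpr fun x _ => TopologicalSpace.Opens.mem_iSup.mpr ⟨x, hxD x⟩
  exact isAffine_of_isAffineHom j

end Groth.Agent.S1890
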