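import Groth.Statements.S18900
import Groth.Agent.DblCovLib.Algebra
import Groth.Agent.QuotLib.Restrict
import Groth.Agent.QuotLib.Affine
import Groth.Agent.QuotLib.Local
import Mathlib.AlgebraicGeometry.Morphisms.FlatRank

set_option autoImplicit false
set_option backward.isDefEq.respectTransparency false
set_option backward.isDefEq.respectTransparency.types false
universe u
open CategoryTheory CategoryTheory.Limits AlgebraicGeometry
open DblCov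

namespace Groth.Agent.S18900

/-- An affine open over which the cover has a basis `1, w`. -/
structure Chart {X Y : Scheme.{u}} (f : X ⟶ Y) where
  U : Y.Opens
  hU : IsAffineOpen U
  w : Γ(X, f ⁻¹ᵁ U)
  hw : letI := (f.app U).hom.toAlgebra; DblCovLib.Good Γ(Y, U) w

variable {X Y : Scheme.{u}} {f : X ⟶ Y}

/-- The involution of a chart on sections. -/
noncomputable def Chart.inv (c : Chart f) : Γ(X, f ⁻¹ᵁ c.U) ⟶ Γ(X, f ⁻¹ᵁ c.U) :=
  letI := (f.app c.U).hom.toAlgebra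
  CommRingCat.ofHom (DblCovLib.invol c.hw).toRingHom

theorem app_res (f : X ⟶ Y) {U V : Y.Opens} (h : V ≤ U) (a : Γ(Y, U)) :
    (X.presheaf.map (homOfLE (f.preimage_mono h)).op).hom ((f.app U).hom a) =
      (f.app V).hom ((Y.presheaf.map (homOfLE h).op).hom a) := by
  change (f.app U ≫ X.presheaf.map _).hom a = (Y.presheaf.map _ ≫ f.app V).hom a
  simp only [Scheme.Hom.app_eq_appLE, Scheme.Hom.appLE_map, Scheme.Hom.map_appLE]

theorem good_basicOpen [IsAffineHom f] {U : Y.Opens} (hU : IsAffineOpen U) (g : Γ(Y, U)) {V : Y.Opens}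
    (hV : V = Y.basicOpen g) (hle : V ≤ U) (w : Γ(X, f ⁻¹ᵁ U))
    (hs : ∀ x : Γ(X, f ⁻¹ᵁ U), ∃ (n : ℕ) (a c : Γ(Y, U)),
      (f.app U).hom g ^ n * x = (f.app U).hom a + (f.app U).hom c * w)
    (hi : ∀ a c : Γ(Y, U), (f.app U).hom a + (f.app U).hom c * w = 0 → ∃ n : ℕ, g ^ n * a = 0 ∧ g ^ n * c = 0) :
    letI := (f.app V).hom.toAlgebra
    DblCovLib.Good Γ(Y, V) ((X.presheaf.map (homOfLE (f.preimage_mono hle)).op).hom w) := by
  letI := (f.app U).hom.toAlgebra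
  letI := (f.app V).hom.toAlgebra
  letI : Algebra Γ(Y, U) Γ(Y, V) := (Y.presheaf.map (homOfLE hle).op).hom.toAlgebra
  letI : Algebra Γ(X, f ⁻¹ᵁ U) Γ(X, f ⁻¹ᵁ V) := (X.presheaf.map (homOfLE (f.preimage_mono hle)).op).hom.toAlgebra
  haveI : IsLocalization.Away g Γ(Y, V) := hU.isLocalization_of_eq_basicOpen g (homOfLE hle) hV
  haveI : IsLocalization.Away (algebraMap Γ(Y, U) Γ(X, f ⁻¹ᵁ U) g) Γ(X, f ⁻¹ᵁ V) :=
    (hU.preimage f).isLocalization_of_eq_basicOpen ((f.app U).hom g) (homOfLE (f.preimage_mono hle))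
      (by rw [hV, Scheme.preimage_basicOpen])
  exact DblCovLib.good_of_away g (fun a => app_res f hle a) w hs hi

/-- A basic open of a chart is a chart. -/
noncomputable def Chart.sub [IsAffineHom f] (c : Chart f) (g : Γ(Y, c.U)) : Chart f where
  U := Y.basicOpen g
  hU := c.hU.basicOpen g
  w := (X.presheaf.map (homOfLE (f.preimage_mono (Y.basicOpen_le g))).op).hom c.w
  hw := by
    letI := (f.app c.U).hom.toAlgebra
    refine good_basicOpen c.hU g rfl (Y.basicOpen_le g) c.w (fun x => ?_) fun a b h => ⟨0, ?_⟩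
    · obtain ⟨⟨a, b⟩, h⟩ := c.hw.2 x
      exact ⟨0, a, b, by rw [pow_zero, one_mul]; exact h.symm⟩
    · have h0 : (f.app c.U).hom a + (f.app c.U).hom b * c.w = (f.app c.U).hom 0 + (f.app c.U).hom 0 * c.w := by
        rw [h]; simp
      obtain ⟨rfl, rfl⟩ := DblCovLib.coeff_eq c.hw h0
      simp

theorem exists_chart [IsFinite f] [Flat f] [LocallyOfFinitePresentation f] (hrk : ∀ y : Y, f.finrank y = 2) (y : Y) :
    ∃ c : Chart f, y ∈ c.U := by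
  obtain ⟨U, hU, hy, -⟩ := exists_isAffineOpen_mem_and_subset (x := y) (U := (⊤ : Y.Opens)) trivial
  letI := (f.app U).hom.toAlgebra
  have hB := hU.preimage f
  haveI : Module.Finite Γ(Y, U) Γ(X, f ⁻¹ᵁ U) := IsFinite.finite_app f U hU
  haveI : Module.Flat Γ(Y, U) Γ(X, f ⁻¹ᵁ U) := by
    have := f.flat_appLE hU hB le_rfl
    rwa [← Scheme.Hom.app_eq_appLE] at this
  let g' := Spec.map (CommRingCat.ofHom (algebraMap Γ(Y, U) Γ(X, f ⁻¹ᵁ U)))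
  have hsq : IsPullback hB.fromSpec g' f hU.fromSpec := by
    refine (IsOpenImmersion.isPullback g' hB.fromSpec hU.fromSpec f ?_ ?_).flip
    · have := IsAffineOpen.SpecMap_appLE_fromSpec f hU hB (le_refl (f ⁻¹ᵁ U))
      rw [← Scheme.Hom.app_eq_appLE] at this
      exact this.symm
    · rw [hU.opensRange_fromSpec, hB.opensRange_fromSpec]
  have hrank : ∀ p : PrimeSpectrum Γ(Y, U), Module.rankAtStalk Γ(X, f ⁻¹ᵁ U) p = 2 := fun p => by
    rw [← Scheme.Hom.finrank_SpecMap_algebraMap, Scheme.Hom.finrank_of_isPullback _ _ _ _ hsq]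
    exact hrk _
  obtain ⟨g, hg, w, hs, hi⟩ := DblCovLib.exists_good_near hrank (hU.primeIdealOf ⟨y, hy⟩)
  refine ⟨⟨Y.basicOpen g, hU.basicOpen g, _, good_basicOpen hU g rfl (Y.basicOpen_le g) w hs hi⟩, ?_⟩
  have h1 : hU.primeIdealOf ⟨y, hy⟩ ∈ PrimeSpectrum.basicOpen g := hg
  have h2 : hU.primeIdealOf ⟨y, hy⟩ ∈ hU.fromSpec ⁻¹ᵁ Y.basicOpen g := by
    rw [hU.fromSpec_preimage_basicOpen]; exact h1
  change hU.fromSpec (hU.primeIdealOf ⟨y, hy⟩) ∈ Y.basicOpen g at h2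
  rwa [hU.fromSpec_primeIdealOf] at h2

theorem inv_res (c c' : Chart f) (h : c'.U ≤ c.U)
    (hgood : letI := (f.app c'.U).hom.toAlgebra
      DblCovLib.Good Γ(Y, c'.U) ((X.presheaf.map (homOfLE (f.preimage_mono h)).op).hom c.w)) :
    c.inv ≫ X.presheaf.map (homOfLE (f.preimage_mono h)).op = X.presheaf.map (homOfLE (f.preimage_mono h)).op ≫ c'.inv := by
  letI := (f.app c.U).hom.toAlgebra
  letI := (f.app c'.U).hom.toAlgebra
  ext b
  exact DblCovLib.invol_natural c.hw (Y.presheaf.map (homOfLE h).op).hom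
    (X.presheaf.map (homOfLE (f.preimage_mono h)).op).hom (fun a => app_res f h a) c'.hw hgood b

variable [IsAffineHom f]

/-- The involution of a chart. -/
noncomputable def Chart.e (c : Chart f) : (f ⁻¹ᵁ c.U).toScheme ⟶ (f ⁻¹ᵁ c.U).toScheme :=
  (c.hU.preimage f).isoSpec.hom ≫ Spec.map c.inv ≫ (c.hU.preimage f).isoSpec.inv

theorem e_e (c : Chart f) : c.e ≫ c.e = 𝟙 _ := by
  have : c.inv ≫ c.inv = 𝟙 _ := CommRingCat.hom_ext (RingHom.ext fun b => by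
    letI := (f.app c.U).hom.toAlgebra
    exact DblCovLib.invol_invol c.hw b)
  simp only [Chart.e, Category.assoc, Iso.inv_hom_id_assoc]
  rw [← Spec.map_comp_assoc, this, Spec.map_id, Category.id_comp, Iso.hom_inv_id]

theorem e_ι (c : Chart f) :
    c.e ≫ (f ⁻¹ᵁ c.U).ι = (f ⁻¹ᵁ c.U).toSpecΓ ≫ Spec.map c.inv ≫ (c.hU.preimage f).fromSpec := by
  simp only [Chart.e, Category.assoc, IsAffineOpen.isoSpec_inv_ι, IsAffineOpen.isoSpec_hom]

theorem e_ι_f (c : Chart f) : c.e ≫ (f ⁻¹ᵁ c.U).ι ≫ f = (f ⁻¹ᵁ c.U).ι ≫ f := by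
  rw [← Category.assoc, e_ι]
  have h1 := IsAffineOpen.SpecMap_appLE_fromSpec f c.hU (c.hU.preimage f) (le_refl (f ⁻¹ᵁ c.U))
  rw [← Scheme.Hom.app_eq_appLE] at h1
  have h2 : f.app c.U ≫ c.inv = f.app c.U := CommRingCat.hom_ext (RingHom.ext fun a => by
    letI := (f.app c.U).hom.toAlgebra
    exact (DblCovLib.invol c.hw).commutes a)
  simp only [Category.assoc]
  rw [← h1, ← Spec.map_comp_assoc, h2, h1, IsAffineOpen.toSpecΓ_fromSpec_assoc]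

theorem e_res (c c' : Chart f) (h : c'.U ≤ c.U)
    (hgood : letI := (f.app c'.U).hom.toAlgebra
      DblCovLib.Good Γ(Y, c'.U) ((X.presheaf.map (homOfLE (f.preimage_mono h)).op).hom c.w)) :
    X.homOfLE (f.preimage_mono h) ≫ c.e ≫ (f ⁻¹ᵁ c.U).ι = c'.e ≫ (f ⁻¹ᵁ c'.U).ι := by
  rw [e_ι, e_ι, ← Scheme.Opens.toSpecΓ_SpecMap_presheaf_map_assoc _ _ (f.preimage_mono h), ← Spec.map_comp_assoc,
    inv_res c c' h hgood, Spec.map_comp_assoc, IsAffineOpen.map_fromSpec]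

theorem e_compat (c c' : Chart f) (x : X) (hx : f x ∈ c.U) (hx' : f x ∈ c'.U) :
    ∃ (W : X.Opens) (h : W ≤ f ⁻¹ᵁ c.U) (h' : W ≤ f ⁻¹ᵁ c'.U), x ∈ W ∧
      X.homOfLE h ≫ c.e ≫ (f ⁻¹ᵁ c.U).ι = X.homOfLE h' ≫ c'.e ≫ (f ⁻¹ᵁ c'.U).ι := by
  obtain ⟨g, g', hgg, hxg⟩ := exists_basicOpen_le_affine_inter c.hU c'.hU (f x) ⟨hx, hx'⟩
  let d := c.sub g
  let d' := c'.sub g'
  have hle : d.U ≤ d'.U := hgg.le
  have hle' : d.U ≤ c'.U := hgg.le.trans (Y.basicOpen_le g')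
  refine ⟨f ⁻¹ᵁ d.U, f.preimage_mono (Y.basicOpen_le g), f.preimage_mono hle', hxg, ?_⟩
  have key : ∀ (V : Y.Opens) (hV : V = Y.basicOpen g') (hle : V ≤ c'.U),
      letI := (f.app V).hom.toAlgebra
      DblCovLib.Good Γ(Y, V) ((X.presheaf.map (homOfLE (f.preimage_mono hle)).op).hom c'.w) := by
    rintro V rfl hle
    exact d'.hw
  rw [e_res c d (Y.basicOpen_le g) d.hw, e_res c' d hle' (key _ hgg hle')]

theorem exists_involution [IsFinite f] [Flat f] [LocallyOfFinitePresentation f] (hrk : ∀ y : Y, f.finrank y = 2) :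
    ∃ s : X ⟶ X, s ≫ s = 𝟙 X ∧ s ≫ f = f ∧ ∀ c : Chart f, (f ⁻¹ᵁ c.U).ι ≫ s = c.e ≫ (f ⁻¹ᵁ c.U).ι := by
  choose c hc using exists_chart hrk
  let 𝒰 : X.OpenCover := X.openCoverOfIsOpenCover (fun y : Y => f ⁻¹ᵁ (c y).U)
    (TopologicalSpace.IsOpenCover.mk (eq_top_iff.2 fun x _ => TopologicalSpace.Opens.mem_iSup.2 ⟨f x, hc (f x)⟩))
  let s : X ⟶ X := 𝒰.glueMorphisms (fun y => (c y).e ≫ (f ⁻¹ᵁ (c y).U).ι) fun i j => by
    refine Scheme.hom_ext_of_forall _ _ fun z => ?_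
    let a := pullback.fst (𝒰.f i) (𝒰.f j)
    let b := pullback.snd (𝒰.f i) (𝒰.f j)
    have hab : a ≫ (f ⁻¹ᵁ (c i).U).ι = b ≫ (f ⁻¹ᵁ (c j).U).ι := pullback.condition
    obtain ⟨W, h, h', hxW, hW⟩ := e_compat (c i) (c j) ((a ≫ (f ⁻¹ᵁ (c i).U).ι) z) (a z).2 (by
      rw [hab]; exact (b z).2)
    refine ⟨(a ≫ (f ⁻¹ᵁ (c i).U).ι) ⁻¹ᵁ W, hxW, ?_⟩
    let k := (a ≫ (f ⁻¹ᵁ (c i).U).ι).resLE W ((a ≫ (f ⁻¹ᵁ (c i).U).ι) ⁻¹ᵁ W) le_rfl
    have ha : ((a ≫ (f ⁻¹ᵁ (c i).U).ι) ⁻¹ᵁ W).ι ≫ a = k ≫ X.homOfLE h := by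
      rw [← cancel_mono (f ⁻¹ᵁ (c i).U).ι]
      simp [k]
    have hb : ((a ≫ (f ⁻¹ᵁ (c i).U).ι) ⁻¹ᵁ W).ι ≫ b = k ≫ X.homOfLE h' := by
      rw [← cancel_mono (f ⁻¹ᵁ (c j).U).ι]
      simp [k, ← hab]
    rw [reassoc_of% ha, reassoc_of% hb, hW]
  have hs : ∀ y, (f ⁻¹ᵁ (c y).U).ι ≫ s = (c y).e ≫ (f ⁻¹ᵁ (c y).U).ι := fun y => 𝒰.ι_glueMorphisms _ _ y
  have hall : ∀ d : Chart f, (f ⁻¹ᵁ d.U).ι ≫ s = d.e ≫ (f ⁻¹ᵁ d.U).ι := fun d => by
    refine Scheme.hom_ext_of_forall _ _ fun z => ?_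
    obtain ⟨W, h, h', hxW, hW⟩ := e_compat d (c (f z.1)) z.1 z.2 (hc _)
    refine ⟨(f ⁻¹ᵁ d.U).ι ⁻¹ᵁ W, hxW, ?_⟩
    let k := (f ⁻¹ᵁ d.U).ι.resLE W ((f ⁻¹ᵁ d.U).ι ⁻¹ᵁ W) le_rfl
    have ha : ((f ⁻¹ᵁ d.U).ι ⁻¹ᵁ W).ι = k ≫ X.homOfLE h := by
      rw [← cancel_mono (f ⁻¹ᵁ d.U).ι]
      simp [k]
    have hι : X.homOfLE h ≫ (f ⁻¹ᵁ d.U).ι = X.homOfLE h' ≫ (f ⁻¹ᵁ (c (f z.1)).U).ι := by simp
    rw [ha, Category.assoc, Category.assoc, hW, reassoc_of% hι, hs]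
  refine ⟨s, 𝒰.hom_ext _ _ fun y => ?_, 𝒰.hom_ext _ _ fun y => ?_, hall⟩
  · change (f ⁻¹ᵁ (c y).U).ι ≫ s ≫ s = (f ⁻¹ᵁ (c y).U).ι ≫ 𝟙 X
    rw [reassoc_of% hs y, hs y, reassoc_of% e_e (c y), Category.comp_id]
  · change (f ⁻¹ᵁ (c y).U).ι ≫ s ≫ f = (f ⁻¹ᵁ (c y).U).ι ≫ f
    rw [reassoc_of% hs y, e_ι_f]

theorem appLE_eq_inv (c : Chart f) (s : X ⟶ X) (hs : (f ⁻¹ᵁ c.U).ι ≫ s = c.e ≫ (f ⁻¹ᵁ c.U).ι)
    (hle : f ⁻¹ᵁ c.U ≤ s ⁻¹ᵁ (f ⁻¹ᵁ c.U)) : s.appLE (f ⁻¹ᵁ c.U) (f ⁻¹ᵁ c.U) hle = c.inv := by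
  apply Spec.map_injective
  rw [← cancel_mono (c.hU.preimage f).fromSpec, IsAffineOpen.SpecMap_appLE_fromSpec s (c.hU.preimage f) (c.hU.preimage f),
    ← (c.hU.preimage f).isoSpec_inv_ι, Category.assoc, hs]
  simp only [Chart.e, Category.assoc, Iso.inv_hom_id_assoc]


/-- Let f : X → Y be a double cover, i.e. a finite, flat, locally finitely presented morphism of rank 2
at every point, and assume 2 is invertible in O_Y(Y). Then X carries a Y-automorphism σ with σ ∘ σ =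
id such that f is the quotient of X by the group generated by σ: f is affine and σ-invariant, and
over every open subset of Y the sections of O_Y are exactly the σ-invariant sections of O_X. (The
source adds that σ has order exactly 2, which holds as soon as X is non-empty.) -/
theorem result {X Y : Scheme.{u}} (f : X ⟶ Y)
    [IsFinite f] [Flat f] [LocallyOfFinitePresentation f] (hrk : ∀ y : Y, f.finrank y = 2)
    (h2 : IsUnit (2 : Γ(Y, ⊤))) :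
    ∃ σ : Aut X, σ.hom ≫ f = f ∧ σ * σ = 1 ∧ SGA1.IsQuot (Subgroup.zpowers σ).subtype f := by
  obtain ⟨s, hss, hsf, hchart⟩ := exists_involution (f := f) hrk
  let σ : Aut X := { hom := s, inv := s, hom_inv_id := hss, inv_hom_id := hss }
  have hσ2 : σ * σ = 1 := Iso.ext hss
  refine ⟨σ, hsf, hσ2, ?_⟩
  haveI : Finite (Subgroup.zpowers σ) := finite_zpowers.2 (isOfFinOrder_iff_pow_eq_one.2 ⟨2, two_pos, by rw [pow_two, hσ2]⟩)
  have hinv : ∀ g : Subgroup.zpowers σ, ((Subgroup.zpowers σ).subtype g).hom ≫ f = f := by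
    rintro ⟨g, k, rfl⟩
    rcases Int.even_or_odd' k with ⟨l, rfl | rfl⟩
    · have : σ ^ (2 * l) = 1 := by rw [zpow_mul, zpow_two, hσ2, one_zpow]
      change (σ ^ (2 * l)).hom ≫ f = f
      rw [this]; exact Category.id_comp f
    · have : σ ^ (2 * l + 1) = σ := by rw [zpow_add, zpow_mul, zpow_two, hσ2, one_zpow, one_mul, zpow_one]
      change (σ ^ (2 * l + 1)).hom ≫ f = f
      rw [this]; exact hsf
  choose c hc using exists_chart (f := f) hrk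
  refine QuotLib.isQuot_of_cover hinv (fun y => (c y).U) (fun y => ⟨y, hc y⟩) fun y => ?_
  haveI : IsAffine (c y).U.toScheme := (c y).hU
  haveI : IsAffine (f ⁻¹ᵁ (c y).U).toScheme := (c y).hU.preimage f
  have hr : ∀ g, (QuotLib.restrictAct hinv (c y).U g).hom ≫ (f ∣_ (c y).U) = f ∣_ (c y).U := fun g => by
    rw [← cancel_mono (c y).U.ι, Category.assoc, morphismRestrict_ι, ← Category.assoc, QuotLib.restrictAct_ι,
      Category.assoc, hinv]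
  have key : ∀ (O : X.Opens) (O' : Y.Opens) (_ : O = f ⁻¹ᵁ (c y).U) (_ : O' = (c y).U) (e : O ≤ f ⁻¹ᵁ O')
      (es : O ≤ s ⁻¹ᵁ O),
      Function.Injective (f.appLE O' O e).hom ∧
      ∀ b, (s.appLE O O es).hom b = b → b ∈ Set.range (f.appLE O' O e).hom := by
    rintro O O' rfl rfl e es
    letI := (f.app (c y).U).hom.toAlgebra
    rw [← Scheme.Hom.app_eq_appLE, appLE_eq_inv (c y) s (hchart _) es]
    refine ⟨DblCovLib.algebraMap_injective (c y).hw, fun b hb => DblCovLib.fixed_mem_range (c y).hw ?_ hb⟩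
    have := h2.map (Y.presheaf.map (homOfLE (le_top : (c y).U ≤ ⊤)).op).hom
    rwa [map_ofNat] at this
  have hO : (f ⁻¹ᵁ (c y).U).ι ''ᵁ ⊤ = f ⁻¹ᵁ (c y).U := Scheme.Opens.ι_image_top _
  have es : (f ⁻¹ᵁ (c y).U).ι ''ᵁ ⊤ ≤ s ⁻¹ᵁ ((f ⁻¹ᵁ (c y).U).ι ''ᵁ ⊤) := by
    rw [hO, ← Scheme.Hom.comp_preimage, hsf]
  have e0 : (f ⁻¹ᵁ (c y).U).ι ''ᵁ ⊤ ≤ f ⁻¹ᵁ ((c y).U.ι ''ᵁ ⊤) := by
    rw [hO, Scheme.Opens.ι_image_top]
  obtain ⟨hinj, hsurj⟩ := key _ _ hO (Scheme.Opens.ι_image_top _) e0 es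
  have happ : (f ∣_ (c y).U).appTop = f.appLE ((c y).U.ι ''ᵁ ⊤) ((f ⁻¹ᵁ (c y).U).ι ''ᵁ ⊤) e0 := by
    rw [← QuotLib.appTop_eq_appLE (f ∣_ (c y).U) (by simp), morphismRestrict_appLE]
  refine QuotLib.isQuot_of_affine hr (by rw [happ]; exact hinj) fun b hb => ?_
  rw [happ]
  refine hsurj b ?_
  have h1 := hb ⟨σ, Subgroup.mem_zpowers σ⟩
  rw [← QuotLib.appTop_eq_appLE _ (by simp),
    QuotLib.appLE_of_lift s _ (QuotLib.restrictAct_ι hinv (c y).U ⟨σ, Subgroup.mem_zpowers σ⟩) ⊤ _ es] at h1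
  exact h1

end Groth.Agent.S18900
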