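import Groth.Statements.S18904
import Groth.Agent.CurveDualLib.ProjectivePn
import Groth.Agent.CurveDualLib.PushOmega
import Groth.Agent.S18910
-- import your own Groth.Agent.* helpers here

set_option autoImplicit false
universe u
open CategoryTheory CategoryTheory.Limits AlgebraicGeometry
open Curves

namespace Groth.Agent.S18904

/-- A smooth curve of genus g ≥ 2, i.e. a proper smooth morphism f : X → S whose fibres are
geometrically connected of dimension one and genus g, is a projective morphism: X is isomorphic over
S to the homogeneous spectrum of a quasi-coherent graded O_S-algebra generated by its degree-one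
part, the latter of finite type. -/
theorem result {X S : Scheme.{u}} (f : X ⟶ S)
    [IsProper f] [Smooth f] [GeometricallyConnected f]
    (hdim : ∀ s : S, topologicalKrullDim ↥(f.fiber s) = 1) (g : ℕ) (hg : 2 ≤ g)
    (hgen : ∀ s : S, letI : (f.fiber s).Over (Spec (S.residueField s)) := ⟨f.fiberToSpecResidueField s⟩
      Curv2.genus (S.residueField s) (f.fiber s) = g) :
    RelProj.IsProjective f := by
  have hL := AmpleThLib.tensorPow_isInvertible (CurveDualLib.omega_invertible_family f hdim) 3
  have hrk := (CurveDualLib.push_omega_pow f hdim hg hgen 3 (by omega)).1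
  refine CurveDualLib.isProjective_of_locally_pn f hL
    (LocSuppLib.isCoh_of_isFinLocFree (fun x => let ⟨U, h⟩ := hrk x; ⟨U, _, h⟩)).2 fun s => ?_
  obtain ⟨V, hV, hsV⟩ := QCohLib.exists_affine_nhd s
  have hva : RelProj.IsRelVeryAmple f _ := Groth.Agent.S18910.result f hdim g hg hgen 3 le_rfl
  have hcov : (⨆ b : ULift.{u} Bool, if b.down then V else ⊤) = (⊤ : S.Opens) :=
    eq_top_iff.mpr (le_iSup (fun b : ULift.{u} Bool => if b.down then V else ⊤) ⟨false⟩)
  have h := (EGA2SymLib.isRelVeryAmple_iff_of_openCover f hL
    (fun b : ULift.{u} Bool => if b.down then V else ⊤) hcov).mp hva ⟨true⟩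
  haveI : IsAffine (V : Scheme.{u}) := hV
  exact ⟨V, hsV, hV, EGA2SymLib.isRelVeryAmplePn_of_isRelVeryAmple (f ∣_ V)
    (AmpleThLib.restrict_isInvertible hL (f ⁻¹ᵁ V).ι) h⟩

end Groth.Agent.S18904
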