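import Groth.Statements.S18907
import Groth.Agent.QuotTameLib.Desc
import Groth.Agent.RelProjLib.ProjProper

set_option autoImplicit false
set_option backward.isDefEq.respectTransparency false
set_option backward.isDefEq.respectTransparency.types false
universe u
open CategoryTheory CategoryTheory.Limits AlgebraicGeometry
open Curves

namespace Groth.Agent.S18907

/-- Let f : X → S be a projective morphism of schemes (X ≅ Proj of a quasi-coherent graded O_S-algebra
generated in degree one with degree-one part of finite type), G a finite group acting on X by
S-automorphisms, and π : X → Y, with q : Y → S and π ≫ q = f, a quotient of X by G: π is affine and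
G-invariant and over every open of Y the sections of O_Y are exactly the G-invariant sections of
O_X. Then π is surjective, finite, open and closed. If moreover the order of G is invertible in
O_S(S), then: Y is flat over S whenever X is; q is separated; and if f is locally of finite
presentation then q is proper and locally of finite presentation and π is locally of finite
presentation. (The existence of the quotient, parts (1), (2), and the base-change statement (5) of
the source are not stated.) -/
theorem result {X Y S : Scheme.{u}} (f : X ⟶ S)
    (hf : RelProj.IsProjective f)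
    {G : Type u} [Group G] [Finite G] (ρ : G →* Aut X) (hρ : ∀ g : G, (ρ g).hom ≫ f = f)
    (π : X ⟶ Y) (q : Y ⟶ S) (hπ : π ≫ q = f) (hquot : SGA1.IsQuot ρ π) :
    (Surjective π ∧ IsFinite π ∧ IsOpenMap π ∧ IsClosedMap π) ∧
      (IsUnit ((Nat.card G : ℕ) : Γ(S, ⊤)) →
        (Flat f → Flat q) ∧ IsSeparated q ∧
        (LocallyOfFinitePresentation f →
          IsProper q ∧ LocallyOfFinitePresentation q ∧ LocallyOfFinitePresentation π)) := by
  haveI : IsProper f := RelProjLib.isProper_of_isProjective hf
  subst hπ
  haveI hs : Surjective π := ⟨QuotLib.surjective hquot⟩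
  haveI : IsFinite π := QuotLib.isFinite_of_locallyOfFiniteType hquot q
  haveI : IsSeparated q := QuotLib.isSeparated_desc hquot q
  refine ⟨⟨hs, inferInstance, fun O hO => ?_, π.isClosedMap⟩, fun hN => ⟨fun _ => QuotTame.flat_desc hquot q hN, inferInstance, fun hfp => ?_⟩⟩
  · rw [← (QuotLib.isQuotientMap hquot).isOpen_preimage]
    have e : π ⁻¹' (π '' O) = ⋃ g : G, (ρ g).hom ⁻¹' O := by
      ext x
      simp only [Set.mem_preimage, Set.mem_image, Set.mem_iUnion]
      constructor
      · rintro ⟨y, hy, hyx⟩
        obtain ⟨g, hg⟩ := (QuotLib.orbit_iff hquot x y).1 hyx.symm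
        exact ⟨g, hg ▸ hy⟩
      · rintro ⟨g, hg⟩
        exact ⟨_, hg, ((QuotLib.orbit_iff hquot x _).2 ⟨g, rfl⟩).symm⟩
    rw [e]
    exact isOpen_iUnion fun g => hO.preimage (ρ g).hom.continuous
  · haveI := QuotTame.locallyOfFinitePresentation_desc hquot q hN
    haveI : UniversallyClosed q := UniversallyClosed.of_comp_surjective π q
    exact ⟨⟨⟩, inferInstance, QuotTame.locallyOfFinitePresentation_quot hquot q⟩

end Groth.Agent.S18907
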