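import Groth.Statements.S18908
import Mathlib.RingTheory.TotallySplit
import Mathlib.RingTheory.Etale.Field
import Mathlib.FieldTheory.SeparableDegree
import Mathlib.RingTheory.TensorProduct.Maps
import Mathlib.LinearAlgebra.Dimension.Constructions

set_option autoImplicit false
universe u v w
open scoped TensorProduct
open CAlg

namespace Groth.Agent.S18908

/-- Let K ⊇ k be a finite field extension of degree n and Ω ⊇ k an algebraically closed extension. Then
K is separable over k if and only if Ω ⊗_k K is isomorphic, as an Ω-algebra, to the product of n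
copies of Ω. (The source says 'for every (some) algebraically closed extension Ω'; the equivalence
is stated for each fixed Ω, which gives both readings.) -/
theorem result (k : Type u) (K : Type v) (Ω : Type w)
    [Field k] [Field K] [Algebra k K] [FiniteDimensional k K]
    [Field Ω] [Algebra k Ω] [IsAlgClosed Ω] :
    Algebra.IsSeparable k K ↔ Nonempty ((Ω ⊗[k] K) ≃ₐ[Ω] (Fin (Module.finrank k K) → Ω)) := by
  constructor
  · intro hsep
    haveI : Algebra.FinitePresentation k K := Algebra.FinitePresentation.of_finiteType.1 inferInstance
    haveI : Algebra.FormallyEtale k K := Algebra.FormallyEtale.of_isSeparable k K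
    haveI : Algebra.Etale k K := ⟨inferInstance, inferInstance⟩
    obtain ⟨m, ⟨e⟩⟩ := Algebra.IsFiniteSplit.nonempty_algEquiv_fun Ω (Ω ⊗[k] K)
    have hm : Module.finrank k K = m := by
      have := e.toLinearEquiv.finrank_eq
      rwa [Module.finrank_baseChange, Module.finrank_fin_fun] at this
    exact ⟨hm.symm ▸ e⟩
  · rintro ⟨e⟩
    rw [← Field.finSepDegree_eq_finrank_iff]
    refine le_antisymm (Field.finSepDegree_le_finrank k K) ?_
    rw [Field.finSepDegree_eq_of_isAlgClosed k K Ω]
    let ev : Fin (Module.finrank k K) → ((Ω ⊗[k] K) →ₐ[Ω] Ω) := fun i =>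
      (Pi.evalAlgHom Ω (fun _ : Fin (Module.finrank k K) => Ω) i).comp e.toAlgHom
    have hev : Function.Injective ev := fun i j hij => by
      classical
      by_contra hne
      have := AlgHom.congr_fun hij (e.symm (Pi.single i 1))
      simp [ev, Pi.single_eq_of_ne (Ne.symm hne)] at this
    have := Nat.card_le_card_of_injective _
      ((Algebra.TensorProduct.liftEquivRight k Ω Ω (B := K)).symm.injective.comp hev)
    rwa [Nat.card_fin] at this

end Groth.Agent.S18908
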