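import Groth.Statements.S18919
import Groth.Agent.NodeSpreadLib.Main
import Groth.Agent.KFlatLib.PullTensor
import Groth.Agent.SurfExtLib.CBGeom

set_option autoImplicit false
universe u
open CategoryTheory CategoryTheory.Limits AlgebraicGeometry
open TFNodal

namespace Groth.Agent.S18919

/-- Let k be an algebraically closed field of characteristic zero, X a connected proper curve over k (a
proper k-scheme of dimension one) whose closed points are smooth points or nodes, and F a coherent
torsion free O_X-module (every stalk a torsion free module over the local ring). Let x be a node at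
which the stalk F_x is isomorphic, as an O_{X,x}-module, to m_x^{⊕a} ⊕ O_{X,x}^{⊕b} (F of type given
by a and b at x). Then there is an open neighbourhood U of x containing no other node such that F|_U
is isomorphic to I|_U^{⊕a} ⊕ O_U^{⊕b}, where I ⊆ O_X is the ideal sheaf of the reduced closed point
x (existence of an isomorphism; the source produces one whose stalk at x is the given one). The
published statement assumes F of uniform multirank r with b = r − a; this row allows any a and b,
the argument being local at x. -/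
theorem result
    (k : Type u) [Field k] [IsAlgClosed k] [CharZero k]
    (X : Scheme.{u}) [X.Over (Spec (CommRingCat.of k))] [IsProper (X ↘ Spec (CommRingCat.of k))]
    [ConnectedSpace X] (hdim : topologicalKrullDim X = 1) (hnod : Curv2.AtWorstNodal k X)
    (F : X.Modules) (hF : Coh.IsCoh F) (htF : TorSh.IsTorsionFree F)
    (x : X) (hx : Curv2.IsNode k X x) (a b : ℕ)
    (hΦ : Nonempty (F.presheaf.stalk x ≃ₗ[X.presheaf.stalk x]
      ((Fin a → IsLocalRing.maximalIdeal (X.presheaf.stalk x)) × (Fin b → X.presheaf.stalk x)))) :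
    ∃ U : X.Opens, x ∈ U ∧ (∀ y ∈ U, Curv2.IsNode k X y → y = x) ∧
      Nonempty (F.restrict U.ι ≅
        (∐ fun _ : Fin a =>
            (ClSub.idealMod (Scheme.IdealSheafData.vanishingIdeal (⟨{x}, hx.1⟩ : TopologicalSpace.Closeds X))).restrict U.ι) ⨿
          (∐ fun _ : Fin b => Coh.structureModule (↑U : Scheme.{u}))) := by
  haveI := CurvLib.isNoetherian k (X := X)
  obtain ⟨Φ⟩ := hΦ
  let I := ClSub.idealMod (Scheme.IdealSheafData.vanishingIdeal (⟨{x}, hx.1⟩ : TopologicalSpace.Closeds X))
  let O := Coh.structureModule X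
  let G : X.Modules := (∐ fun _ : Fin a => I) ⨿ (∐ fun _ : Fin b => O)
  have hO : Coh.IsCoh O := DevissLib.isCoh_structureModule X
  have hI : Coh.IsCoh I := SurfExtLib.isCoh_idealMod _
  have hG : Coh.IsCoh G := NodeSpreadLib.isCoh_coprod hI hO a b
  obtain ⟨eI⟩ := NodeSpreadLib.nonempty_stalk_ptIdeal hx.1
  obtain ⟨eS⟩ := NodeSpreadLib.nonempty_stalk_sum I O a b x
  obtain ⟨eO⟩ := RefHullLib.nonempty_stalk_unit X x
  let eG : G.presheaf.stalk x ≃ₗ[X.presheaf.stalk x]
      (Fin a → IsLocalRing.maximalIdeal (X.presheaf.stalk x)) × (Fin b → X.presheaf.stalk x) :=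
    eS ≪≫ₗ LinearEquiv.prodCongr (LinearEquiv.piCongrRight fun _ => eI) (LinearEquiv.piCongrRight fun _ => eO.symm)
  obtain ⟨W, hxW, hW⟩ := NodeSpreadLib.exists_nhd_node k hdim.le hnod hx.1
  obtain ⟨U, hxU, hUW, ⟨e⟩⟩ := StalkSpreadLib.exists_iso_nhd hF hG x (Φ ≪≫ₗ eG.symm) W hxW
  let R := Scheme.Modules.restrictFunctor U.ι
  haveI : R.IsLeftAdjoint := ⟨_, ⟨Scheme.Modules.restrictAdjunction U.ι⟩⟩
  let eo : R.obj O ≅ Coh.structureModule (↑U : Scheme.{u}) :=
    (Scheme.Modules.restrictFunctorIsoPullback U.ι).app O ≪≫ KFlatLib.pullUnitIso U.ι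
  exact ⟨U, hxU, fun y hy hn => hW y (hUW hy) hn, ⟨e ≪≫ (PreservesColimitPair.iso R _ _).symm ≪≫
    coprod.mapIso (PreservesCoproduct.iso R _) (PreservesCoproduct.iso R _ ≪≫ Sigma.mapIso fun _ => eo)⟩⟩

end Groth.Agent.S18919
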