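import Groth.Statements.S18921
import Groth.Agent.SlopeSumLib.Glue

set_option autoImplicit false
set_option backward.isDefEq.respectTransparency false
set_option backward.isDefEq.respectTransparency.types false
set_option maxHeartbeats 1000000
universe u
open CategoryTheory CategoryTheory.Limits AlgebraicGeometry
open VBCurve

namespace Groth.Agent.S18921

/-- Let k be an algebraically closed field of characteristic zero, Y a smooth proper k-scheme of
dimension one, possibly disconnected but with no isolated points (every connected component is a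
curve), and L an ample invertible O_Y-module. Say (Y, L) has property P when for any two finite
locally free O_Y-modules E, F with nowhere-zero stalks (support equal to Y) that are semistable of
dimension one with respect to L, the tensor product E ⊗ F is again semistable. If (Y, L) has
property P then for every connected component U of Y, with j : U → Y the inclusion, O_U =
j_*(O_Y|_U) and L_U = j_*(L|_U), the Euler characteristics over k satisfy χ(O_U) · (χ(L) − χ(O_Y)) =
χ(O_Y) · (χ(L_U) − χ(O_U)); in words, χ(O_U)/deg(L|_U) is the same for all components and equals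
χ(O_Y)/deg L. -/
theorem result
    (k : Type u) [Field k] [IsAlgClosed k] [CharZero k]
    (Y : Scheme.{u}) [Y.Over (Spec (CommRingCat.of k))] [IsProper (Y ↘ Spec (CommRingCat.of k))]
    [Smooth (Y ↘ Spec (CommRingCat.of k))] (hdim : topologicalKrullDim Y = 1)
    (hpure : ∀ y : Y, ¬ IsOpen ({y} : Set Y))
    (L : Y.Modules) (hL : CohB1.IsAmple L)
    (hP : ∀ E F : Y.Modules, FlatMod.IsFinLocFree E → FlatMod.IsFinLocFree F →
      (∀ y : Y, ¬ Subsingleton (E.presheaf.stalk y)) → (∀ y : Y, ¬ Subsingleton (F.presheaf.stalk y)) →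
      ShStab.IsSemistable k Y L E 1 → ShStab.IsSemistable k Y L F 1 →
      ShStab.IsSemistable k Y L (CohB1.tensorMod E F) 1)
    (U : Y.Opens) (hUc : IsClopen (U : Set Y)) (hUconn : _root_.IsConnected (U : Set Y)) :
    Curv2.euler k Y ((Scheme.Modules.pushforward U.ι).obj ((Coh.structureModule Y).restrict U.ι)) *
        (Curv2.euler k Y L - Curv2.euler k Y (Coh.structureModule Y)) =
      Curv2.euler k Y (Coh.structureModule Y) *
        (Curv2.euler k Y ((Scheme.Modules.pushforward U.ι).obj (L.restrict U.ι)) -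
          Curv2.euler k Y ((Scheme.Modules.pushforward U.ι).obj ((Coh.structureModule Y).restrict U.ι))) := by
  haveI : IsNoetherian Y := CurvLib.isNoetherian k (X := Y)
  have hd1 : topologicalKrullDim Y ≤ (1 : ℕ) := hdim.le
  haveI : Nonempty Y := ⟨hUconn.1.some⟩
  obtain ⟨M, hM⟩ := SlopeSum.exists_glue Y
    (fun V A => PicF.IsInvertible A ∧
      (letI := SlopeSum.overU k V; Curv2.euler k V.toScheme A = 0))
    (fun V A B e h => ⟨HilbPolyLib.isInvertible_of_iso e h.1,
      (letI := SlopeSum.overU k V; (CurvLib.euler_congr (k := k) e).symm.trans h.2)⟩)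
    (fun V hcl hcn => SlopeSum.exists_invertible_euler_zero (k := k) hd1 hpure hcl hcn)
  haveI := SquareLib.locallyConnected Y
  have hMl : FlatMod.IsFinLocFree M := ResPropLib.isFinLocFree_of_local_res fun x => by
    let V : Y.Opens := ⟨connectedComponent x, isOpen_connectedComponent⟩
    refine ⟨V.toScheme, V.ι, inferInstance, ⟨x, mem_connectedComponent⟩, rfl, ?_⟩
    exact CurveVBLib.isFinLocFree_of_rank (CurvLib.locFree_of_isInvertible
      (hM V ⟨isClosed_connectedComponent, isOpen_connectedComponent⟩ isConnected_connectedComponent).1)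
  have hMc := LocSuppLib.isCoh_of_isFinLocFree hMl
  have hMM := SBTaut.isCoh_tensor hMc hMc
  have h1 : ∀ V : Y.Opens, IsClopen (V : Set Y) → _root_.IsConnected (V : Set Y) →
      FlatMod.IsFinLocFreeOfRank 1 (M.restrict V.ι) ∧ Curv2.euler k Y (BoxSurjLib.cutMod V M) = 0 :=
    fun V hcl hcn => ⟨CurvLib.locFree_of_isInvertible (hM V hcl hcn).1,
      (SlopeSum.euler_cut (k := k) hcl.1 hMc).trans (hM V hcl hcn).2⟩
  have hs := SlopeSum.semistable_of_euler_zero (k := k) hd1 hpure hL hMc h1
  have hM0 : ∀ y : Y, ¬ Subsingleton (M.presheaf.stalk y) := fun y hy => by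
    let V : Y.Opens := ⟨connectedComponent y, isOpen_connectedComponent⟩
    obtain ⟨φ⟩ := CurvLib.nonempty_stalk_pi_of_locFree
      (h1 V ⟨isClosed_connectedComponent, isOpen_connectedComponent⟩ isConnected_connectedComponent).1
      ⟨y, mem_connectedComponent⟩
    exact not_subsingleton _ (@Equiv.subsingleton _ _ φ.toEquiv.symm
      ((Groth.Agent.DCohRestrLib.subsingleton_stalk_restrict V.ι M _).2 hy))
  have hT := hP M M hMl hMl hM0 hM0 hs hs
  have key : ∀ V : Y.Opens, IsClopen (V : Set Y) → _root_.IsConnected (V : Set Y) →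
      Curv2.euler k Y (BoxSurjLib.cutMod V (CohB1.tensorMod M M)) =
          -Curv2.euler k Y (BoxSurjLib.cutMod V (Coh.structureModule Y)) ∧
        Curv2.euler k Y (BoxSurjLib.cutMod V (CohB1.tensorMod M M)) * SlopeSum.al k L (CohB1.tensorMod M M) =
          Curv2.euler k Y (CohB1.tensorMod M M) *
            (Curv2.euler k Y (BoxSurjLib.cutMod V L) - Curv2.euler k Y (BoxSurjLib.cutMod V (Coh.structureModule Y))) := by
    intro V hcl hcn
    obtain ⟨hr, he⟩ := h1 V hcl hcn
    obtain ⟨e⟩ := SlopeSum.nonempty_restrict_tensor V M M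
    have hr2 : FlatMod.IsFinLocFreeOfRank 1 ((CohB1.tensorMod M M).restrict V.ι) :=
      SeesawLib.isFinLocFreeOfRank_of_iso (HopfIneqLib.locFree_tensor hr hr) e
    have hal := SlopeSum.al_cut (k := k) hd1 hpure hL hcl hcn hMM hr2
    rw [Nat.cast_one, one_mul] at hal
    have heu := SlopeSum.euler_cut_tensor (k := k) hd1 hpure hcl hcn hMc hMc hMM hr hr
    rw [he] at heu
    have hdV := SlopeSum.degree_pos_cut (k := k) hd1 hpure hL hcl hcn
    refine ⟨by rw [heu]; push_cast; ring, ?_⟩
    have h0 : ¬ IsZero (BoxSurjLib.cutMod V (CohB1.tensorMod M M)) := fun hz => by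
      rw [(SlopeSum.euler_al_zero (k := k) hz).2] at hal
      omega
    obtain ⟨hss, heq⟩ := SSComp.semistable_cut V hL hd1 hT hcl.1 h0
    rw [← hal]
    exact (SSComp.redEq_iff_euler (k := k) hL hd1 hss.1 hT.1).1 heq
  have hpos : 0 < SlopeSum.al k L (CohB1.tensorMod M M) := by
    have h := StabLib.alpha_pos_of_pure (k := k) hL hT.2.2.1 (𝟙 _) hT.1 hT.2.1
    rw [(SlopeSum.alpha_eq_euler (k := k) hL hd1 hT.1).2.2.2] at h
    exact_mod_cast h
  let κ : ℚ := -(Curv2.euler k Y (CohB1.tensorMod M M) : ℚ) / (SlopeSum.al k L (CohB1.tensorMod M M) : ℚ)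
  have hκ : ∀ V : Y.Opens, IsClopen (V : Set Y) → _root_.IsConnected (V : Set Y) →
      (Curv2.euler k Y (BoxSurjLib.cutMod V (Coh.structureModule Y)) : ℚ) = κ *
        ((Curv2.euler k Y (BoxSurjLib.cutMod V L) - Curv2.euler k Y (BoxSurjLib.cutMod V (Coh.structureModule Y)) : ℤ) : ℚ) := by
    intro V hcl hcn
    obtain ⟨ka, kb⟩ := key V hcl hcn
    rw [ka] at kb
    show _ = _ / _ * _
    rw [div_mul_eq_mul_div, eq_div_iff (by exact_mod_cast hpos.ne'), neg_mul]
    rw [← neg_eq_iff_eq_neg, ← neg_mul]
    exact_mod_cast kb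
  have hO := DevissLib.isCoh_structureModule Y
  have hsum := (SlopeSum.slope_of_cut (k := k) hL κ hO fun V hcl hcn => by
    rw [SlopeSum.al_cut (k := k) hd1 hpure hL hcl hcn hO (SlopeSum.unit_rank V), Nat.cast_one, one_mul]
    exact ⟨hκ V hcl hcn, Or.inr (SlopeSum.degree_pos_cut (k := k) hd1 hpure hL hcl hcn)⟩).1
  have halO : SlopeSum.al k L (Coh.structureModule Y) =
      Curv2.euler k Y L - Curv2.euler k Y (Coh.structureModule Y) := by
    rw [SlopeSum.al, CurvLib.euler_congr (k := k) (HilbPolyLib.unitLeft L)]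
  rw [halO] at hsum
  have hU := hκ U hUc hUconn
  show Curv2.euler k Y (BoxSurjLib.cutMod U (Coh.structureModule Y)) * _ = _ *
    (Curv2.euler k Y (BoxSurjLib.cutMod U L) - Curv2.euler k Y (BoxSurjLib.cutMod U (Coh.structureModule Y)))
  apply (Int.cast_injective (α := ℚ))
  rw [Int.cast_mul, Int.cast_mul, hU, hsum]
  ring

end Groth.Agent.S18921
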