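import Groth.Statements.S18923
import Groth.Agent.SlopeSumLib.Main

set_option autoImplicit false
set_option backward.isDefEq.respectTransparency false
set_option backward.isDefEq.respectTransparency.types false
set_option maxHeartbeats 1000000
universe u
open CategoryTheory CategoryTheory.Limits AlgebraicGeometry
open VBCurve

namespace Groth.Agent.S18923

/-- Let k be an algebraically closed field of characteristic zero, Y a smooth proper k-scheme of
dimension one, possibly disconnected but with no isolated points, and L an ample invertible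
O_Y-module such that for every connected component U of Y, with j : U → Y, O_U = j_*(O_Y|_U) and L_U
= j_*(L|_U), one has χ(O_U) · (χ(L) − χ(O_Y)) = χ(O_Y) · (χ(L_U) − χ(O_U)) (all correction terms of
the components vanish). Let E and F be finite locally free O_Y-modules with nowhere-zero stalks,
both semistable of dimension one with respect to L, and write α(M) = χ(M ⊗ L) − χ(M). Then χ(E ⊗
F)/α(E ⊗ F) = χ(E)/α(E) + χ(F)/α(F) − χ(O_Y)/(χ(L) − χ(O_Y)) as rational numbers; equivalently the
slope of E ⊗ F is the sum of the slopes of E and F. The published statement speaks of any two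
semistable locally free sheaves; this row takes E and F with nowhere-zero stalks (support all of Y),
without which E ⊗ F can be zero and the slopes undefined. -/
theorem result
    (k : Type u) [Field k] [IsAlgClosed k] [CharZero k]
    (Y : Scheme.{u}) [Y.Over (Spec (CommRingCat.of k))] [IsProper (Y ↘ Spec (CommRingCat.of k))]
    [Smooth (Y ↘ Spec (CommRingCat.of k))] (hdim : topologicalKrullDim Y = 1)
    (hpure : ∀ y : Y, ¬ IsOpen ({y} : Set Y))
    (L : Y.Modules) (hL : CohB1.IsAmple L)
    (hB : ∀ U : Y.Opens, IsClopen (U : Set Y) → _root_.IsConnected (U : Set Y) →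
      Curv2.euler k Y ((Scheme.Modules.pushforward U.ι).obj ((Coh.structureModule Y).restrict U.ι)) * (Curv2.euler k Y L - Curv2.euler k Y (Coh.structureModule Y)) =
        Curv2.euler k Y (Coh.structureModule Y) * (Curv2.euler k Y ((Scheme.Modules.pushforward U.ι).obj (L.restrict U.ι)) - Curv2.euler k Y ((Scheme.Modules.pushforward U.ι).obj ((Coh.structureModule Y).restrict U.ι))))
    (E F : Y.Modules) (hE : FlatMod.IsFinLocFree E) (hF : FlatMod.IsFinLocFree F)
    (hE0 : ∀ y : Y, ¬ Subsingleton (E.presheaf.stalk y)) (hF0 : ∀ y : Y, ¬ Subsingleton (F.presheaf.stalk y))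
    (hEs : ShStab.IsSemistable k Y L E 1) (hFs : ShStab.IsSemistable k Y L F 1) :
    ((Curv2.euler k Y (CohB1.tensorMod E F) : ℚ) /
        ((Curv2.euler k Y (CohB1.tensorMod (CohB1.tensorMod E F) L) - Curv2.euler k Y (CohB1.tensorMod E F) : ℤ) : ℚ)) =
      (Curv2.euler k Y E : ℚ) / ((Curv2.euler k Y (CohB1.tensorMod E L) - Curv2.euler k Y E : ℤ) : ℚ) +
        (Curv2.euler k Y F : ℚ) / ((Curv2.euler k Y (CohB1.tensorMod F L) - Curv2.euler k Y F : ℤ) : ℚ) -
        (Curv2.euler k Y (Coh.structureModule Y) : ℚ) /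
          ((Curv2.euler k Y L - Curv2.euler k Y (Coh.structureModule Y) : ℤ) : ℚ) := by
  have hd1 : topologicalKrullDim Y ≤ (1 : ℕ) := hdim.le
  have hEc := LocSuppLib.isCoh_of_isFinLocFree hE
  have hFc := LocSuppLib.isCoh_of_isFinLocFree hF
  have hEFc := SBTaut.isCoh_tensor hEc hFc
  haveI : Nonempty Y := by
    by_contra hc
    haveI : IsEmpty (TopologicalSpace.IrreducibleCloseds Y) := ⟨fun Z => hc ⟨Z.isIrreducible.1.some⟩⟩
    simp [topologicalKrullDim, Order.krullDim_eq_bot] at hdim
  have hd := SlopeSum.degree_pos (k := k) hL hd1 hpure fun U hcl hcn => by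
    obtain ⟨r, -, -, hdU, -, -⟩ := SlopeSum.comp_slope (k := k) hd1 hL hpure hE hE0 hEs hcl hcn
    exact hdU
  have key : ∀ U : Y.Opens, IsClopen (U : Set Y) → _root_.IsConnected (U : Set Y) →
      0 < SlopeSum.al k L (BoxSurjLib.cutMod U (CohB1.tensorMod E F)) ∧
      (Curv2.euler k Y (BoxSurjLib.cutMod U (CohB1.tensorMod E F)) : ℚ) =
        ((Curv2.euler k Y E : ℚ) / (SlopeSum.al k L E : ℚ) + (Curv2.euler k Y F : ℚ) / (SlopeSum.al k L F : ℚ) -
          (Curv2.euler k Y (Coh.structureModule Y) : ℚ) /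
            ((Curv2.euler k Y L - Curv2.euler k Y (Coh.structureModule Y) : ℤ) : ℚ)) *
          (SlopeSum.al k L (BoxSurjLib.cutMod U (CohB1.tensorMod E F)) : ℚ) := fun U hcl hcn => by
    obtain ⟨a, ha, ha0, hdU, haE, hE'⟩ := SlopeSum.comp_slope (k := k) hd1 hL hpure hE hE0 hEs hcl hcn
    obtain ⟨b, hb, hb0, -, hbF, hF'⟩ := SlopeSum.comp_slope (k := k) hd1 hL hpure hF hF0 hFs hcl hcn
    obtain ⟨e⟩ := SlopeSum.nonempty_restrict_tensor U E F
    have hal := SlopeSum.al_cut (k := k) hd1 hpure hL hcl hcn hEFc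
      (SeesawLib.isFinLocFreeOfRank_of_iso (HopfIneqLib.locFree_tensor ha hb) e)
    rw [hal, SlopeSum.euler_cut_tensor (k := k) hd1 hpure hcl hcn hEc hFc hEFc ha hb]
    exact ⟨mul_pos (by exact_mod_cast Nat.mul_pos ha0 hb0) hdU,
      SlopeSum.slope_arith haE.ne' hbF.ne' hd.ne' hE' hF' (hB U hcl hcn)⟩
  obtain ⟨hχ, hpos⟩ := SlopeSum.slope_of_cut (k := k) hL _ hEFc fun U hcl hcn =>
    ⟨(key U hcl hcn).2, Or.inr (key U hcl hcn).1⟩
  have hne : (SlopeSum.al k L (CohB1.tensorMod E F) : ℚ) ≠ 0 := by
    rcases hpos with h | h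
    · exfalso
      haveI : IsNoetherian Y := CurvLib.isNoetherian k (X := Y)
      haveI := SquareLib.locallyConnected Y
      obtain ⟨x⟩ := (inferInstance : Nonempty Y)
      let U : Y.Opens := ⟨connectedComponent x, isOpen_connectedComponent⟩
      have h1 := (key U ⟨isClosed_connectedComponent, isOpen_connectedComponent⟩ isConnected_connectedComponent).1
      rw [(SlopeSum.euler_al_zero (k := k) (SlopeSum.isZero_cut_of U h)).2] at h1
      exact lt_irrefl _ h1
    · exact_mod_cast h.ne'
  exact (div_eq_iff hne).2 hχ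

end Groth.Agent.S18923
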