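import Groth.Statements.S18924
import Groth.Agent.ResCountLib.Main

set_option autoImplicit false
set_option backward.isDefEq.respectTransparency false
set_option backward.isDefEq.respectTransparency.types false
set_option maxHeartbeats 1000000
set_option synthInstance.maxHeartbeats 400000
universe u
open ResHyp

namespace Groth.Agent.S18924

/-- Let F be a finite field with q elements and let n ≥ 3 be odd. Count the pairs (f, g) where f is a
binary quadratic form and g a binary form of degree n over F, recorded by their coefficient vectors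
of lengths 3 and n + 1 (leading coefficients may vanish), whose resultant — the Sylvester
determinant of the two coefficient vectors with size parameters 2 and n — equals 1. The number of
such pairs is q ^ (n + 3) - q ^ (n + 1). (The published statement gives q ^ (n + 3) + q ^ (n + 1);
for q = 3 and n = 3 the count is 648, not 810.) -/
theorem result (F : Type u) [Field F] [Fintype F] (n : ℕ)
    (hn : Odd n) (h3 : 3 ≤ n) :
    Nat.card {p : (Fin 3 → F) × (Fin (n + 1) → F) //
      Polynomial.resultant (∑ i : Fin 3, Polynomial.C (p.1 i) * Polynomial.X ^ (i : ℕ))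
        (∑ j : Fin (n + 1), Polynomial.C (p.2 j) * Polynomial.X ^ (j : ℕ)) 2 n = 1} =
      Fintype.card F ^ (n + 3) - Fintype.card F ^ (n + 1) := by
  classical
  rw [Nat.card_eq_fintype_card, Fintype.card_subtype]
  have h := (ResCountLib.card_one_mul (F := F) n hn).trans (ResCountLib.card_ne_zero (F := F) n (by omega))
  obtain ⟨a, ha⟩ : ∃ a, Fintype.card F = a + 2 :=
    ⟨Fintype.card F - 2, by have := Fintype.one_lt_card (α := F); omega⟩
  rw [ha] at h ⊢
  refine Nat.eq_of_mul_eq_mul_right (show 0 < a + 1 by omega) ?_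
  rw [show a + 2 - 1 = a + 1 by omega] at h
  refine (Eq.trans ?_ (h.trans ?_))
  · rfl
  · have e1 : (a + 2) ^ (n + 4) = (a + 2) ^ (n + 3) + (a + 2) ^ (n + 2) + (a + 2) ^ (n + 1) * ((a + 2) * ((a + 2) * (a + 1)) - (a + 2)) := by
      obtain ⟨d, hd⟩ : ∃ d, (a + 2) * ((a + 2) * (a + 1)) = (a + 2) + d :=
        Nat.exists_eq_add_of_le (Nat.le_mul_of_pos_right _ (by positivity))
      rw [hd, Nat.add_sub_cancel_left]
      have : (a + 2) ^ (n + 4) = (a + 2) ^ (n + 1) * ((a + 2) * ((a + 2) * (a + 1)) + (a + 2) * (a + 2)) := by ring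
      rw [this, hd]; ring
    obtain ⟨d, hd⟩ : ∃ d, (a + 2) ^ 2 = 1 + d := Nat.exists_eq_add_of_le (Nat.one_le_pow _ _ (by omega))
    rw [show (a + 2) ^ (n + 3) = (a + 2) ^ (n + 1) * (a + 2) ^ 2 from by rw [← pow_add]] at e1 ⊢
    rw [e1, hd, mul_add, mul_one, Nat.add_sub_cancel_left]
    obtain ⟨c, hc⟩ : ∃ c, (a + 2) * ((a + 2) * (a + 1)) = (a + 2) + c :=
      Nat.exists_eq_add_of_le (Nat.le_mul_of_pos_right _ (by positivity))
    rw [hc, Nat.add_sub_cancel_left]
    have hgeneral : ∀ A B C D : ℕ, A + B + C + D - (A + B) - C + A = D + A := fun A B C D => by omega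
    rw [hgeneral]
    have hq : c + 1 = d * (a + 1) := by nlinarith
    calc _ = (a + 2) ^ (n + 1) * (c + 1) := by ring
      _ = _ := by rw [hq]; ring

end Groth.Agent.S18924
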