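import Groth.Statements.S18928
import Mathlib


-- import your own Groth.Agent.* helpers here

set_option autoImplicit false
universe u
open DPow

namespace Groth.Agent.S18928

/-- Let B be a commutative ring, I an ideal of B with a divided power structure, p a prime, r a natural
number, b an element of B and δ an element of I. Then (b + δ)^(p^r) − b^(p^r) lies in the ideal p^r
I. (The source states this for a divided power thickening over the Witt vectors of length n and 0 ≤
r ≤ n; neither restriction is used.) -/
theorem result {B : Type u} [CommRing B] {I : Ideal B}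
    (hI : DividedPowers I) (p : ℕ) [Fact p.Prime] (r : ℕ) (b δ : B) (hδ : δ ∈ I) :
    (b + δ) ^ (p ^ r) - b ^ (p ^ r) ∈ Ideal.span {((p : B) ^ r)} * I := by
  classical
  rw [add_comm, add_pow, Finset.sum_range_succ', pow_zero, one_mul, Nat.sub_zero, Nat.choose_zero_right,
    Nat.cast_one, mul_one, add_sub_cancel_right]
  refine Ideal.sum_mem _ fun i hi => ?_
  obtain ⟨c, hc⟩ : p ^ r ∣ (i + 1).factorial * (p ^ r).choose (i + 1) := by
    rw [← Nat.descFactorial_eq_factorial_mul_choose]
    obtain ⟨q, hq⟩ : ∃ q, p ^ r = q + 1 :=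
      ⟨p ^ r - 1, by have := Nat.pow_pos (n := r) (Fact.out : p.Prime).pos; omega⟩
    rw [hq, Nat.succ_descFactorial_succ]
    exact Dvd.intro _ rfl
  have h : δ ^ (i + 1) = ((i + 1).factorial : B) * hI.dpow (i + 1) δ := (hI.factorial_mul_dpow_eq_pow hδ).symm
  have : δ ^ (i + 1) * b ^ (p ^ r - (i + 1)) * ((p ^ r).choose (i + 1) : B)
      = (p : B) ^ r * ((c : B) * b ^ (p ^ r - (i + 1)) * hI.dpow (i + 1) δ) := by
    rw [h]
    have h2 := congrArg (fun t : ℕ => (t : B)) hc
    simp only [Nat.cast_mul, Nat.cast_pow] at h2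
    linear_combination (hI.dpow (i + 1) δ * b ^ (p ^ r - (i + 1))) * h2
  rw [this]
  exact Ideal.mul_mem_mul (Ideal.mem_span_singleton_self _)
    (Ideal.mul_mem_left _ _ (hI.dpow_mem (Nat.succ_ne_zero i) hδ))

end Groth.Agent.S18928
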