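import Groth.Statements.S18935
import Groth.Agent.KRLib.Seq

set_option autoImplicit false
universe u
open LCI

namespace Groth.Agent.S18935

/-- Let R be a commutative ring and I a proper ideal of R which is generated by some Koszul-regular
sequence. A finite sequence f of generators of I is Koszul-regular if and only if f has the smallest
possible length among all finite generating sequences of I. (Properness of I is needed: the
sequences (1) and (1, 1) are both Koszul-regular and generate the unit ideal.) -/
theorem result {R : Type u} [CommRing R] {I : Ideal R} (hI : I ≠ ⊤)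
    (g : List R) (hg : LCI.IsKoszulRegularSeq R g) (hgI : Ideal.ofList g = I)
    (f : List R) (hfI : Ideal.ofList f = I) :
    LCI.IsKoszulRegularSeq R f ↔ ∀ h : List R, Ideal.ofList h = I → f.length ≤ h.length := by
  subst hgI
  have hG : KoszDetLib.IsExactK g.get :=
    KoszDetLib.isExactK_of_isKoszulRegularSeq _ (by rwa [List.ofFn_get])
  have hsp : ∀ h : List R, Ideal.span (Set.range h.get) = Ideal.ofList h := fun h => by
    rw [Ideal.ofList, Set.range_list_get]
  constructor
  · intro hf h hh
    have hF : KoszDetLib.IsExactK f.get :=
      KoszDetLib.isExactK_of_isKoszulRegularSeq _ (by rwa [List.ofFn_get])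
    exact KRLib.length_le_of_isExactK hF (g := h.get) (by rw [hsp, hsp, hfI, hh])
      (by rwa [hsp, hfI])
  · intro hmin
    have h1 : f.length = g.length := le_antisymm (hmin g rfl)
      (KRLib.length_le_of_isExactK hG (g := f.get) (by rw [hsp, hsp, hfI]) (by rwa [hsp]))
    have hrange : Set.range (fun i : Fin g.length => f.get (Fin.cast h1.symm i)) = Set.range f.get :=
      (finCongr h1.symm).surjective.range_comp f.get
    have h2 := KRLib.isExactK_of_length_eq hG (f := fun i => f.get (Fin.cast h1.symm i))
      (by rw [hrange, hsp, hsp, hfI])
    have h3 := KRLib.isKoszulRegularSeq_of_isExactK f.get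
      (KRLib.isExactK_cast h2 h1.symm fun i => rfl)
    rwa [List.ofFn_get] at h3

end Groth.Agent.S18935
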