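import Groth.Statements.S18936
import Mathlib.RingTheory.Localization.Away.Basic
import Mathlib.RingTheory.Noetherian.Basic

set_option autoImplicit false
universe u
open CAlg

namespace Groth.Agent.S18936

/-- Let A be a Noetherian commutative ring, q a prime ideal of A and f an element of A whose image in
the localization A_q is a non-zero-divisor. Then there is an element b of A not in q such that the
image of f in A[1/b] is a non-zero-divisor. -/
theorem result {A : Type u} [CommRing A] [IsNoetherianRing A]
    (q : Ideal A) [q.IsPrime] (f : A)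
    (hf : algebraMap A (Localization.AtPrime q) f ∈ nonZeroDivisors (Localization.AtPrime q)) :
    ∃ b : A, b ∉ q ∧ algebraMap A (Localization.Away b) f ∈ nonZeroDivisors (Localization.Away b) := by
  classical
  let K : Ideal A := LinearMap.ker (LinearMap.mulLeft A f)
  obtain ⟨G, hG⟩ := (IsNoetherian.noetherian K : K.FG)
  have hkill : ∀ z ∈ G, ∃ s ∈ q.primeCompl, s * z = 0 := fun z hz => by
    have hz' : f * z = 0 := (hG ▸ Submodule.subset_span hz : z ∈ K)
    have h1 : algebraMap A (Localization.AtPrime q) z * algebraMap A (Localization.AtPrime q) f = 0 := by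
      rw [← map_mul, mul_comm, hz', map_zero]
    obtain ⟨⟨s, hs⟩, hsz⟩ := (IsLocalization.map_eq_zero_iff q.primeCompl (Localization.AtPrime q) z).1
      ((mem_nonZeroDivisors_iff_right.1 hf) _ h1)
    exact ⟨s, hs, hsz⟩
  choose s hs hsz using hkill
  let b := ∏ z : G, s z.1 z.2
  refine ⟨b, fun hb => ?_, ?_⟩
  · obtain ⟨z, -, hz⟩ := (‹q.IsPrime›.prod_mem_iff).1 hb
    exact hs z.1 z.2 hz
  · have hbK : ∀ z ∈ K, b * z = 0 := fun z hz => by
      rw [← hG] at hz
      induction hz using Submodule.span_induction with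
      | mem x hx =>
        obtain ⟨d, hd⟩ : s x hx ∣ b := Finset.dvd_prod_of_mem (fun z : G => s z.1 z.2) (Finset.mem_univ ⟨x, hx⟩)
        rw [hd, mul_right_comm, hsz x hx, zero_mul]
      | zero => rw [mul_zero]
      | add x y _ _ hx hy => rw [mul_add, hx, hy, add_zero]
      | smul r x _ hx => rw [smul_eq_mul, mul_left_comm, hx, mul_zero]
    rw [mem_nonZeroDivisors_iff_right]
    intro z hz
    obtain ⟨⟨a, m⟩, rfl⟩ := IsLocalization.mk'_surjective (Submonoid.powers b) z |>.imp fun _ h => h
    rw [← IsLocalization.mk'_one (M := Submonoid.powers b) (Localization.Away b) f, ← IsLocalization.mk'_mul,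
      mul_one, IsLocalization.mk'_eq_zero_iff] at hz
    obtain ⟨⟨c, hc⟩, hcz⟩ := hz
    have hK : c * a ∈ K := by
      show f * (c * a) = 0
      rw [← hcz]; ring
    rw [IsLocalization.mk'_eq_zero_iff]
    refine ⟨⟨b, Submonoid.mem_powers b⟩ * ⟨c, hc⟩, ?_⟩
    show b * c * a = 0
    rw [mul_assoc]
    exact hbK _ hK

end Groth.Agent.S18936
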