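import Groth.Statements.S18939
import Groth.Agent.KRLib.Ideal

set_option autoImplicit false
universe u
open LCI

namespace Groth.Agent.S18939

/-- Let R be a commutative ring, I a proper ideal of R and f_1, …, f_r a Koszul-regular sequence of
elements of I generating I. Then I/I² is a free R/I-module of rank r, with basis the classes of f_1,
…, f_r. -/
theorem result {R : Type u} [CommRing R] {I : Ideal R} (hI : I ≠ ⊤)
    (r : ℕ) (f : Fin r → I) (hf : LCI.IsKoszulRegularSeq R (List.ofFn (fun i => (f i : R))))
    (hfI : Ideal.span (Set.range (fun i => (f i : R))) = I) :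
    ∃ b : Module.Basis (Fin r) (R ⧸ I) I.Cotangent, ∀ i, b i = I.toCotangent (f i) := by
  have hex := KoszDetLib.isExactK_of_isKoszulRegularSeq _ hf
  let v : Fin r → I.Cotangent := fun i => I.toCotangent (f i)
  have hli : LinearIndependent (R ⧸ I) v := by
    rw [Fintype.linearIndependent_iff]
    intro c hc i
    choose a ha using fun i => Ideal.Quotient.mk_surjective (c i)
    have h0 : I.toCotangent (∑ i, a i • f i) = 0 := by
      rw [map_sum, ← hc]
      refine Finset.sum_congr rfl fun i _ => ?_
      rw [map_smul, ← ha i, ← Ideal.Quotient.algebraMap_eq, algebraMap_smul]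
    rw [Ideal.toCotangent_eq_zero] at h0
    have hval : ((∑ i, a i • f i : I) : R) = ∑ i, a i * (f i : R) := by simp
    rw [hval, pow_two] at h0
    have hle : I * I ≤ Submodule.map (Fintype.linearCombination R fun i => (f i : R))
        (Submodule.pi Set.univ fun _ : Fin r => I) := by
      rw [Ideal.mul_le]
      intro x hx y hy
      rw [← hfI, Ideal.mem_span_range_iff_exists_fun] at hy
      obtain ⟨d, rfl⟩ := hy
      refine ⟨fun i => x * d i, fun i _ => Ideal.mul_mem_right _ _ hx, ?_⟩
      rw [Fintype.linearCombination_apply, Finset.mul_sum]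
      simp [mul_assoc]
    obtain ⟨b, hb, hb'⟩ := hle h0
    have h1 : ∑ i, (a i - b i) * (f i : R) = 0 := by
      rw [Fintype.linearCombination_apply] at hb'
      simp only [sub_mul, Finset.sum_sub_distrib]
      rw [← hb']
      simp
    have h2 := KRLib.coeff_mem_of_relation hex _ h1 i
    rw [hfI] at h2
    rw [← ha i, Ideal.Quotient.eq_zero_iff_mem]
    simpa using I.add_mem h2 (hb i trivial)
  refine ⟨Module.Basis.mk hli ?_, fun i => Module.Basis.mk_apply _ _ _⟩
  intro x _
  obtain ⟨⟨y, hy⟩, rfl⟩ := I.toCotangent_surjective x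
  have hy' := hy
  rw [← hfI, Ideal.mem_span_range_iff_exists_fun] at hy'
  obtain ⟨a, rfl⟩ := hy'
  rw [Submodule.mem_span_range_iff_exists_fun]
  refine ⟨fun i => Ideal.Quotient.mk I (a i), ?_⟩
  have : (⟨∑ i, a i * (f i : R), hy⟩ : I) = ∑ i, a i • f i := Subtype.ext (by simp)
  rw [this, map_sum]
  refine Finset.sum_congr rfl fun i _ => ?_
  rw [map_smul, ← Ideal.Quotient.algebraMap_eq, algebraMap_smul]

end Groth.Agent.S18939
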