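import Groth.Statements.S18942
import Groth.Agent.WittThetaLib.Basic
-- import your own Groth.Agent.* helpers here

set_option autoImplicit false
universe u
open DPow

namespace Groth.Agent.S18942

/-- Let p be a prime, k a perfect field of characteristic p, n a natural number and x an element of
W_n(k), written here as the truncation of a Witt vector x over k. For any Witt vectors y_0, …,
y_{n−1} over k lifting the components of x under the map y ↦ (y_0)^(p^n) (that is, (y_i)_0^(p^n) =
x_i), one has x = Σ_{i<n} p^i y_i^(p^(n−i)) in W_n(k). -/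
theorem result (p : ℕ) [Fact p.Prime]
    (k : Type u) [Field k] [CharP k p] [PerfectRing k p] (n : ℕ) (x : WittVector p k)
    (y : Fin n → WittVector p k) (hy : ∀ i : Fin n, ((y i).coeff 0) ^ (p ^ n) = x.coeff i) :
    WittVector.truncate n x =
      WittVector.truncate n (∑ i : Fin n, (p : WittVector p k) ^ (i : ℕ) * (y i) ^ (p ^ (n - i))) := by
  have hterm : ∀ i : Fin n, (p : WittVector p k) ^ n ∣
      (p : WittVector p k) ^ (i : ℕ) * y i ^ (p ^ (n - i)) -
        WittVector.teichmuller p ((y i).coeff 0 ^ (p ^ (n - i))) * (p : WittVector p k) ^ (i : ℕ) := fun i => by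
    have h1 : (p : WittVector p k) ∣ y i - WittVector.teichmuller p ((y i).coeff 0) := by
      rw [← pow_one (p : WittVector p k), ← Ideal.mem_span_singleton, WittVector.mem_span_p_pow_iff_le_coeff_eq_zero,
        ← WittVector.le_coeff_eq_iff_le_sub_coeff_eq_zero]
      intro j hj
      obtain rfl : j = 0 := by omega
      rw [WittVector.teichmuller_coeff_zero]
    obtain ⟨e, he⟩ := dvd_sub_pow_of_dvd_sub h1 (n - i)
    refine ⟨(p : WittVector p k) * e, ?_⟩
    rw [map_pow, mul_comm (WittVector.teichmuller p _ ^ _), ← mul_sub, he, ← mul_assoc, ← mul_assoc, ← pow_add, ← pow_succ]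
    congr 2
    omega
  have hsum : (p : WittVector p k) ^ n ∣ (∑ i : Fin n, (p : WittVector p k) ^ (i : ℕ) * (y i) ^ (p ^ (n - i))) -
      ∑ i : Fin n, WittVector.teichmuller p ((y i).coeff 0 ^ (p ^ (n - i))) * (p : WittVector p k) ^ (i : ℕ) := by
    rw [← Finset.sum_sub_distrib]
    exact Finset.dvd_sum fun i _ => hterm i
  have hker : ∀ z : WittVector p k, (p : WittVector p k) ^ n ∣ z → WittVector.truncate (p := p) n z = 0 := fun z hz => by
    rw [← RingHom.mem_ker, WittVector.mem_ker_truncate]
    exact (WittVector.mem_span_p_pow_iff_le_coeff_eq_zero z n).1 (Ideal.mem_span_singleton.2 hz)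
  have h2 := hker _ hsum
  rw [map_sub, sub_eq_zero] at h2
  rw [h2]
  refine TruncatedWittVector.ext fun i => ?_
  rw [WittVector.coeff_truncate, WittVector.coeff_truncate, WittVector.sum_coeff_eq_coeff_sum,
    Finset.sum_eq_single i]
  · rw [WittVector.teichmuller_mul_pow_coeff, ← hy i, ← pow_mul, ← pow_add, Nat.sub_add_cancel i.2.le]
  · exact fun b _ hb => WittVector.teichmuller_mul_pow_coeff_of_ne _ (fun h => hb (Fin.ext h.symm))
  · intro h; simp at h
  · refine fun m => ⟨fun ⟨a, _, ha⟩ ⟨b, _, hb⟩ => ?_⟩
    ext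
    dsimp only [ne_eq, Set.mem_ofPred_eq]
    rw [← Not.imp_symm (WittVector.teichmuller_mul_pow_coeff_of_ne _) ha]
    exact Not.imp_symm (WittVector.teichmuller_mul_pow_coeff_of_ne _) hb


end Groth.Agent.S18942
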