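import Groth.Statements.S18943
import Mathlib.Analysis.Calculus.ParametricIntervalIntegral
import Mathlib.Analysis.Calculus.ContDiff.Deriv
import Mathlib.MeasureTheory.Integral.IntervalIntegral.FundThmCalculus
import Mathlib.Analysis.Calculus.Deriv.Comp
import Mathlib.Analysis.Calculus.Deriv.Mul

set_option autoImplicit false
open scoped ContDiff
open CInfGerm

namespace Groth.Agent.S18943

/-- Let f be an infinitely differentiable real-valued function on the real line with f(0) = 0. Then f(x)
= x·g(x) for an infinitely differentiable function g. (The source phrases this for germs at 0: the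
maximal ideal of the local ring of germs of smooth functions at the origin is generated by the
coordinate t; the global form stated here is what its argument, smooth extension of f(x)/x across 0,
gives.) -/
theorem result (f : ℝ → ℝ) (hf : ContDiff ℝ ∞ f) (h0 : f 0 = 0) :
    ∃ g : ℝ → ℝ, ContDiff ℝ ∞ g ∧ ∀ x : ℝ, f x = x * g x := by
  have key : ∀ (h : ℝ → ℝ) (k : ℕ), ContDiff ℝ ∞ h → ∀ x₀ : ℝ,
      HasDerivAt (fun x => ∫ t in (0:ℝ)..1, t ^ k * h (t * x)) (∫ t in (0:ℝ)..1, t ^ (k + 1) * deriv h (t * x₀)) x₀ := by
    intro h k hh x₀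
    obtain ⟨hd, hd'⟩ := contDiff_infty_iff_deriv.1 hh
    have c0 : Continuous h := hh.continuous
    have c1 : Continuous (deriv h) := hd'.continuous
    obtain ⟨C, hC⟩ := (isCompact_Icc (a := -(|x₀| + 1)) (b := |x₀| + 1)).exists_bound_of_continuousOn c1.continuousOn
    refine (intervalIntegral.hasDerivAt_integral_of_dominated_loc_of_deriv_le
      (F := fun x t => t ^ k * h (t * x)) (F' := fun x t => t ^ (k + 1) * deriv h (t * x))
      (s := Metric.ball x₀ 1) (bound := fun _ => C) (Metric.ball_mem_nhds _ one_pos)
      (Filter.Eventually.of_forall fun x => (Continuous.aestronglyMeasurable (by fun_prop)))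
      (Continuous.intervalIntegrable (by fun_prop) _ _) (Continuous.aestronglyMeasurable (by fun_prop))
      (Filter.Eventually.of_forall fun t ht x hx => ?_) intervalIntegrable_const
      (Filter.Eventually.of_forall fun t ht x hx => ?_)).2
    · rw [Set.uIoc_of_le zero_le_one] at ht
      rw [Metric.mem_ball, Real.dist_eq] at hx
      have h1 : |t * x| ≤ |x₀| + 1 := by
        rw [abs_mul, abs_of_nonneg ht.1.le]
        have : |x| ≤ |x₀| + 1 := by linarith [abs_sub_abs_le_abs_sub x x₀]
        exact le_trans (mul_le_of_le_one_left (abs_nonneg x) ht.2) this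
      have h2 := hC (t * x) (abs_le.1 h1)
      rw [norm_mul, norm_pow, Real.norm_eq_abs, abs_of_nonneg ht.1.le]
      exact le_trans (mul_le_of_le_one_left (norm_nonneg _) (pow_le_one₀ ht.1.le ht.2)) h2
    · have h1 := ((hd (t * x)).hasDerivAt.comp x ((hasDerivAt_id x).const_mul t)).const_mul (t ^ k)
      simpa [pow_succ, mul_comm, mul_left_comm, mul_assoc, Function.comp_def] using h1
  have smooth : ∀ (n : ℕ) (h : ℝ → ℝ) (k : ℕ), ContDiff ℝ ∞ h →
      ContDiff ℝ n (fun x => ∫ t in (0:ℝ)..1, t ^ k * h (t * x)) := by
    intro n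
    induction n with
    | zero =>
      intro h k hh
      rw [Nat.cast_zero, contDiff_zero]
      exact continuous_iff_continuousAt.2 fun x => (key h k hh x).continuousAt
    | succ n ih =>
      intro h k hh
      rw [Nat.cast_succ, contDiff_succ_iff_deriv]
      refine ⟨fun x => (key h k hh x).differentiableAt, fun hn => absurd hn (by exact_mod_cast WithTop.coe_ne_top), ?_⟩
      rw [funext fun x => (key h k hh x).deriv]
      exact ih _ (k + 1) (contDiff_infty_iff_deriv.1 hh).2
  obtain ⟨hd, hd'⟩ := contDiff_infty_iff_deriv.1 hf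
  refine ⟨fun x => ∫ t in (0:ℝ)..1, deriv f (t * x), contDiff_infty.2 fun n => by simpa using smooth n _ 0 hd', fun x => ?_⟩
  have h1 := intervalIntegral.smul_integral_comp_mul_right (a := (0:ℝ)) (b := 1) (deriv f) x
  rw [smul_eq_mul, zero_mul, one_mul, intervalIntegral.integral_deriv_eq_sub (fun y _ => hd y)
    (hd'.continuous.intervalIntegrable _ _), h0, sub_zero] at h1
  exact h1.symm

end Groth.Agent.S18943
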