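import Groth.Statements.S18944
import Groth.Agent.KRLib.Imm
import Mathlib.RingTheory.Regular.Flat
import Mathlib.RingTheory.Localization.Algebra

set_option autoImplicit false
universe u
open CategoryTheory AlgebraicGeometry
open RegImm

namespace Groth.Agent.S18944

/-- Let i : Z → X be a regular immersion of schemes (kind: successive non-zero-divisors). Then for every
point z of Z the kernel of the induced map of local rings O_{X, i(z)} → O_{Z, z} is generated by a
regular sequence of O_{X, i(z)}. (No Noetherian hypothesis; over a locally Noetherian X the converse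
also holds.) -/
theorem result {Z X : Scheme.{u}} (i : Z ⟶ X)
    (h : RegImm.IsRegularImmersion RegImm.Kind.regular i) (z : Z) :
    ∃ rs : List (X.presheaf.stalk (i z)),
      RingTheory.Sequence.IsRegular (X.presheaf.stalk (i z)) rs ∧
        RingHom.ker (i.stalkMap z).hom = Ideal.ofList rs := by
  obtain ⟨⟨U, hU⟩, hzU, hcl, rs, hrs, hker⟩ := h.2 z
  obtain ⟨hV, hs⟩ := (KRLib.isClosedImmersion_restrict_iff i hU).1 hcl
  let q := hV.primeIdealOf ⟨z, hzU⟩
  let p := hU.primeIdealOf ⟨i z, hzU⟩
  have hpq : q.asIdeal.comap (i.app U).hom = p.asIdeal := by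
    have := IsAffineOpen.comap_primeIdealOf_appLE (f := i) U hU (i ⁻¹ᵁ U) hV le_rfl hzU
    rw [Scheme.Hom.app_eq_appLE]
    exact congr($(this).1)
  letI := X.presheaf.algebra_section_stalk (⟨i z, hzU⟩ : U)
  letI := Z.presheaf.algebra_section_stalk (⟨z, hzU⟩ : ↥(i ⁻¹ᵁ U))
  haveI : IsLocalization.AtPrime (X.presheaf.stalk (i z)) p.asIdeal := hU.isLocalization_stalk ⟨i z, hzU⟩
  haveI : IsLocalization.AtPrime (Z.presheaf.stalk z) q.asIdeal := hV.isLocalization_stalk ⟨z, hzU⟩
  have hT : Submonoid.map (i.app U).hom p.asIdeal.primeCompl = q.asIdeal.primeCompl := by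
    ext b
    constructor
    · rintro ⟨a, ha, rfl⟩
      exact fun hb => ha (hpq ▸ hb)
    · intro hb
      obtain ⟨a, rfl⟩ := hs b
      exact ⟨a, fun ha => hb (show a ∈ q.asIdeal.comap (i.app U).hom from hpq ▸ ha), rfl⟩
  have hsm : (i.stalkMap z).hom = IsLocalization.map (Z.presheaf.stalk z) (i.app U).hom
      (M := p.asIdeal.primeCompl) (T := q.asIdeal.primeCompl)
      (show p.asIdeal.primeCompl ≤ q.asIdeal.primeCompl.comap (i.app U).hom from
        hT ▸ Submonoid.le_comap_map _) := by
    refine IsLocalization.ringHom_ext p.asIdeal.primeCompl ?_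
    rw [IsLocalization.map_comp]
    exact congrArg CommRingCat.Hom.hom (i.germ_stalkMap U z hzU)
  let A := X.presheaf.stalk (i z)
  have hreg : RingTheory.Sequence.IsWeaklyRegular A (rs.map (algebraMap Γ(X, U) A)) := by
    haveI : Module.Flat Γ(X, U) A := IsLocalization.flat _ p.asIdeal.primeCompl
    exact RingTheory.Sequence.IsWeaklyRegular.of_flat hrs.toIsWeaklyRegular
  refine ⟨rs.map (algebraMap Γ(X, U) A), RingTheory.Sequence.IsRegular.of_isWeaklyRegular_of_mem_maximalIdeal _ ?_ hreg, ?_⟩
  · intro r hr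
    obtain ⟨a, ha, rfl⟩ := List.mem_map.1 hr
    rw [← IsLocalization.AtPrime.map_eq_maximalIdeal p.asIdeal A]
    refine Ideal.mem_map_of_mem _ ?_
    rw [← hpq, Ideal.mem_comap]
    have : (i.app U).hom a = 0 := by
      rw [← RingHom.mem_ker, hker]
      exact Ideal.subset_span ha
    rw [this]
    exact zero_mem _
  · rw [hsm, IsLocalization.ker_map _ _ hT, hker, Ideal.map_ofList]

end Groth.Agent.S18944
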