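import Groth.Statements.S18946
import Mathlib
import Mathlib
-- import your own Groth.Agent.* helpers here

set_option autoImplicit false
set_option maxHeartbeats 2000000
universe u
open scoped BigOperators
open InvQ

namespace Groth.Agent.S18946

/-- Let k be an algebraically closed field of characteristic zero and n a natural number, and let the
torus of (n+1)-tuples of units of k with product 1 act on the polynomial ring k[t_0, ..., t_n] by
rescaling each variable t_i by the i-th unit. A polynomial is fixed by every such rescaling if and
only if it lies in the k-subalgebra generated by the product t_0 t_1 ... t_n. (This is the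
computation of the ring of functions on affine (n+1)-space invariant under the maximal diagonal
torus of the special linear group, identified with the polynomial ring in the single coordinate t =
t_0 ... t_n of the line it maps to by the product map; invariance is tested on k-valued points of
the torus, which over an infinite field is the same as invariance under the group scheme.) -/
theorem result
    (k : Type u) [Field k] [IsAlgClosed k] [CharZero k] (n : ℕ)
    (f : MvPolynomial (Fin (n + 1)) k) :
    (∀ σ : Fin (n + 1) → kˣ, ∏ i, (σ i : k) = 1 →
        MvPolynomial.aeval (fun i => MvPolynomial.C (σ i : k) * MvPolynomial.X i) f = f) ↔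
      f ∈ Algebra.adjoin k ({∏ i : Fin (n + 1), MvPolynomial.X i} : Set (MvPolynomial (Fin (n + 1)) k)) := by
  classical
  have hmono : ∀ b : Fin (n + 1) →₀ ℕ, (∏ x, (MvPolynomial.X x : MvPolynomial (Fin (n + 1)) k) ^ b x) = MvPolynomial.monomial b 1 := fun b => by
    rw [MvPolynomial.monomial_eq, map_one, one_mul, Finsupp.prod_fintype _ _ fun x => pow_zero _]
  constructor
  · intro h
    have hc : ∀ d ∈ f.support, ∀ i j, d i = d j := by
      intro d hd i j
      rcases eq_or_ne i j with rfl | hij
      · rfl
      let t : kˣ := Units.mk0 2 two_ne_zero
      let σ : Fin (n + 1) → kˣ := Pi.mulSingle i t * Pi.mulSingle j t⁻¹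
      have hσ : ∏ l, (σ l : k) = 1 := by
        rw [← Units.coe_prod]
        have : ∏ l, σ l = 1 := by simp [σ, Finset.prod_mul_distrib]
        rw [this, Units.val_one]
      have e := congrArg (MvPolynomial.coeff d) (h σ hσ)
      have hmon : MvPolynomial.coeff d (MvPolynomial.aeval (fun l => MvPolynomial.C (σ l : k) * MvPolynomial.X l) f) =
          (∏ l, (σ l : k) ^ d l) * MvPolynomial.coeff d f := by
        conv_lhs => rw [f.as_sum, map_sum, MvPolynomial.coeff_sum]
        rw [Finset.sum_eq_single d]
        · rw [MvPolynomial.aeval_monomial, Finsupp.prod_fintype _ _ (fun l => by simp)]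
          simp only [mul_pow, Finset.prod_mul_distrib, ← map_pow, ← map_prod]
          rw [MvPolynomial.algebraMap_eq, ← mul_assoc, ← map_mul, hmono, MvPolynomial.C_mul_monomial,
            mul_one, MvPolynomial.coeff_monomial, if_pos]
          · ring
          · rfl
        · intro b _ hb
          rw [MvPolynomial.aeval_monomial, Finsupp.prod_fintype _ _ (fun l => by simp)]
          simp only [mul_pow, Finset.prod_mul_distrib, ← map_pow, ← map_prod]
          rw [MvPolynomial.algebraMap_eq, ← mul_assoc, ← map_mul, hmono, MvPolynomial.C_mul_monomial,
            MvPolynomial.coeff_monomial, if_neg hb]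
        · exact fun h' => absurd hd h'
      rw [hmon] at e
      have h1 : (∏ l, (σ l : k) ^ d l) = 1 := by
        refine mul_right_cancel₀ (MvPolynomial.mem_support_iff.1 hd) ?_
        rw [e, one_mul]
      rw [Finset.prod_eq_mul i j hij (fun l _ hl => by simp [σ, hl.1, hl.2]) (fun h' => absurd (Finset.mem_univ i) h')
        (fun h' => absurd (Finset.mem_univ j) h')] at h1
      simp only [σ, Pi.mul_apply, Pi.mulSingle_eq_same, Pi.mulSingle_eq_of_ne hij, Pi.mulSingle_eq_of_ne hij.symm,
        mul_one, one_mul] at h1
      have h2 : (2 : k) ^ d i = (2 : k) ^ d j := by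
        have : (2 : k) ^ d i * ((2 : k)⁻¹) ^ d j = 1 := by simpa [t] using h1
        rwa [inv_pow, mul_inv_eq_one₀ (pow_ne_zero _ two_ne_zero)] at this
      have h3 : ((2 ^ d i : ℕ) : k) = ((2 ^ d j : ℕ) : k) := by push_cast; exact h2
      exact Nat.pow_right_injective le_rfl (Nat.cast_injective h3)
    rw [f.as_sum]
    refine Subalgebra.sum_mem _ fun d hd => ?_
    rw [← mul_one (MvPolynomial.coeff d f), ← MvPolynomial.C_mul_monomial]
    refine Subalgebra.mul_mem _ (Subalgebra.algebraMap_mem _ _) ?_
    rw [← hmono, Finset.prod_congr rfl fun l _ => congrArg (fun e => (MvPolynomial.X l : MvPolynomial (Fin (n + 1)) k) ^ e) (hc d hd l 0), Finset.prod_pow]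
    refine Subalgebra.pow_mem _ ?_ _
    apply Algebra.subset_adjoin
    exact Set.mem_singleton _
  · intro hf σ hσ
    induction hf using Algebra.adjoin_induction with
    | mem x hx =>
      rw [Set.mem_singleton_iff] at hx
      subst hx
      rw [map_prod]
      simp only [MvPolynomial.aeval_X, Finset.prod_mul_distrib, ← map_prod, hσ, map_one, one_mul]
    | algebraMap r => simp
    | add x y _ _ hx hy => rw [map_add, hx, hy]
    | mul x y _ _ hx hy => rw [map_mul, hx, hy]

end Groth.Agent.S18946
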