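import Groth.Statements.S18948
import Mathlib


-- import your own Groth.Agent.* helpers here

set_option autoImplicit false
universe u v
open CExt

namespace Groth.Agent.S18948

/-- Let f : E → G be a surjective homomorphism of groups whose kernel is central in E, and let x ∈ E.
Then f maps the conjugacy class of x bijectively onto the conjugacy class of f(x) if and only if
every element of G commuting with f(x) is the image of some element of E commuting with x. (In the
source E → G is the central extension, with kernel the roots of unity, attached to a Brauer class of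
the classifying stack of a finite tame étale group scheme, and a conjugacy class of E mapping
bijectively onto a given class of G is a marking; the equivalence is stated here for an arbitrary
central extension of abstract groups.) -/
theorem result {E : Type u} {G : Type v} [Group E] [Group G]
    (f : E →* G) (hf : Function.Surjective f) (hker : f.ker ≤ Subgroup.center E) (x : E) :
    Set.BijOn f (MulAction.orbit (ConjAct E) x) (MulAction.orbit (ConjAct G) (f x)) ↔
      ∀ g : G, g * f x = f x * g → ∃ e : E, f e = g ∧ e * x = x * e := by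
  have hc : ∀ k ∈ f.ker, ∀ e : E, e * k = k * e := fun k hk e => Subgroup.mem_center_iff.1 (hker hk) e
  have horb : ∀ y, y ∈ MulAction.orbit (ConjAct E) x ↔ ∃ e : E, e * x * e⁻¹ = y := fun y => by
    simp only [MulAction.mem_orbit_iff, ConjAct.smul_def]
    exact ⟨fun ⟨e, he⟩ => ⟨ConjAct.ofConjAct e, he⟩, fun ⟨e, he⟩ => ⟨ConjAct.toConjAct e, he⟩⟩
  have horbG : ∀ y, y ∈ MulAction.orbit (ConjAct G) (f x) ↔ ∃ g : G, g * f x * g⁻¹ = y := fun y => by
    simp only [MulAction.mem_orbit_iff, ConjAct.smul_def]
    exact ⟨fun ⟨e, he⟩ => ⟨ConjAct.ofConjAct e, he⟩, fun ⟨e, he⟩ => ⟨ConjAct.toConjAct e, he⟩⟩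
  constructor
  · intro h g hg
    obtain ⟨e, rfl⟩ := hf g
    refine ⟨e, rfl, ?_⟩
    have h1 : e * x * e⁻¹ = x := by
      refine h.injOn ((horb _).2 ⟨e, rfl⟩) ((horb _).2 ⟨1, by simp⟩) ?_
      rw [map_mul, map_mul, map_inv, hg, mul_inv_cancel_right]
    exact mul_inv_eq_iff_eq_mul.1 h1
  · intro h
    refine ⟨fun y hy => ?_, fun y hy z hz hyz => ?_, fun y hy => ?_⟩
    · obtain ⟨e, rfl⟩ := (horb y).1 hy
      exact (horbG _).2 ⟨f e, by simp [map_mul, map_inv]⟩
    · obtain ⟨a, rfl⟩ := (horb y).1 hy
      obtain ⟨b, rfl⟩ := (horb z).1 hz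
      simp only [map_mul, map_inv] at hyz
      obtain ⟨e, he, hex⟩ := h ((f b)⁻¹ * f a) (by
        have := congrArg (fun t => (f b)⁻¹ * t * f a) hyz
        simpa [mul_assoc] using this)
      have hk : a⁻¹ * (b * e) ∈ f.ker := by simp [MonoidHom.mem_ker, he]
      have hbe : b * e = a * (a⁻¹ * (b * e)) := by rw [mul_inv_cancel_left]
      generalize a⁻¹ * (b * e) = k at hk hbe
      calc a * x * a⁻¹ = (a * k) * x * (a * k)⁻¹ := by
            rw [mul_assoc a k x, ← hc k hk x]
            group
        _ = (b * e) * x * (b * e)⁻¹ := by rw [hbe]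
        _ = b * x * b⁻¹ := by rw [mul_assoc b e x, hex]; group
    · obtain ⟨g, rfl⟩ := (horbG y).1 hy
      obtain ⟨e, rfl⟩ := hf g
      exact ⟨e * x * e⁻¹, (horb _).2 ⟨e, rfl⟩, by simp [map_mul, map_inv]⟩

end Groth.Agent.S18948
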