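import Groth.Statements.S18949
import Mathlib


-- import your own Groth.Agent.* helpers here

set_option autoImplicit false
universe u v
open CExt

namespace Groth.Agent.S18949

/-- Automorphisms over the base: let f : E → G be a surjective homomorphism of groups with central
kernel A. For every homomorphism χ : G → A the map e ↦ χ(f(e)) · e is an endomorphism of E over G
which is the identity on A; and every endomorphism α of E with f ∘ α = f and α equal to the identity
on A is of this form for exactly one χ. (In the source this identifies the automorphisms of a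
central extension fixing its kernel with Hom(G, A), for extensions of profinite étale group schemes
over a field; stated here for abstract groups.) -/
theorem result {E : Type u} {G : Type v} [Group E] [Group G]
    (f : E →* G) (hf : Function.Surjective f) (hker : f.ker ≤ Subgroup.center E) :
    (∀ χ : G →* f.ker, ∃ α : E →* E, f.comp α = f ∧ (∀ a ∈ f.ker, α a = a) ∧
        ∀ e : E, α e = (χ (f e) : E) * e) ∧
      ∀ α : E →* E, f.comp α = f → (∀ a ∈ f.ker, α a = a) →
        ∃! χ : G →* f.ker, ∀ e : E, α e = (χ (f e) : E) * e := by
  refine ⟨fun χ => ?_, fun α hα hA => ?_⟩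
  · let α : E →* E :=
      { toFun := fun e => (χ (f e) : E) * e
        map_one' := by simp
        map_mul' := fun a b => by
          have hc := Subgroup.mem_center_iff.1 (hker (χ (f b)).2) a
          rw [map_mul, map_mul, Subgroup.coe_mul, mul_assoc, ← mul_assoc _ a b, ← hc]
          group }
    refine ⟨α, MonoidHom.ext fun e => ?_, fun a ha => ?_, fun e => rfl⟩
    · change f ((χ (f e) : E) * e) = f e
      rw [map_mul, MonoidHom.mem_ker.1 (χ (f e)).2, one_mul]
    · change (χ (f a) : E) * a = a
      rw [MonoidHom.mem_ker.1 ha, map_one, Subgroup.coe_one, one_mul]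
  · have hmem : ∀ e, α e * e⁻¹ ∈ f.ker := fun e => by
      rw [MonoidHom.mem_ker, map_mul, map_inv, show f (α e) = f e from DFunLike.congr_fun hα e, mul_inv_cancel]
    let ψ : E →* f.ker :=
      { toFun := fun e => ⟨α e * e⁻¹, hmem e⟩
        map_one' := Subtype.ext (by simp)
        map_mul' := fun a b => Subtype.ext (by
          change α (a * b) * (a * b)⁻¹ = (α a * a⁻¹) * (α b * b⁻¹)
          have hc := Subgroup.mem_center_iff.1 (hker (hmem b)) a⁻¹
          rw [mul_assoc (α a), hc, map_mul]
          group) }
    let s := Function.surjInv hf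
    have hker' : f.ker ≤ ψ.ker := fun a ha => MonoidHom.mem_ker.2 (Subtype.ext (by
      change α a * a⁻¹ = 1; rw [hA a ha, mul_inv_cancel]))
    let χ := f.liftOfSurjective hf ⟨ψ, hker'⟩
    have hχ : ∀ e, χ (f e) = ψ e := fun e => MonoidHom.liftOfRightInverse_comp_apply _ _ _ ⟨ψ, hker'⟩ e
    refine ⟨χ, fun e => ?_, fun χ' h' => MonoidHom.ext fun g => ?_⟩
    · rw [hχ]
      change α e = α e * e⁻¹ * e
      group
    · obtain ⟨e, rfl⟩ := hf g
      rw [hχ]
      refine Subtype.ext ?_
      change (χ' (f e) : E) = α e * e⁻¹
      rw [h' e]; group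

end Groth.Agent.S18949
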