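import Groth.Statements.S18950
-- import your own Groth.Agent.* helpers here

set_option autoImplicit false
universe u v
open CExt

namespace Groth.Agent.S18950

/-- Let f : E → G be a homomorphism of groups whose kernel is central in E, let α be an endomorphism of
E with f ∘ α = f which is the identity on the kernel, and let S ⊆ E be a subset fixed pointwise by α
such that f(S) generates G. Then α is the identity. (In the source S is the marking of a marked
central extension of finite tame étale group schemes and the hypothesis is that the marked conjugacy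
classes generate G; the conclusion there is that a morphism of marked extensions inducing the
identity on the kernel and on G is unique.) -/
theorem result {E : Type u} {G : Type v} [Group E] [Group G]
    (f : E →* G) (hker : f.ker ≤ Subgroup.center E) (α : E →* E) (hα : f.comp α = f)
    (hαA : ∀ a ∈ f.ker, α a = a) (S : Set E) (hS : Subgroup.closure (f '' S) = ⊤)
    (hαS : ∀ s ∈ S, α s = s) : α = MonoidHom.id E := by
  ext e
  have key : ∀ g ∈ Subgroup.closure (f '' S), ∃ e : E, f e = g ∧ α e = e := by
    intro g hg
    refine Subgroup.closure_induction (p := fun g _ => ∃ e : E, f e = g ∧ α e = e) ?_ ?_ ?_ ?_ hg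
    · rintro _ ⟨s, hs, rfl⟩; exact ⟨s, rfl, hαS s hs⟩
    · exact ⟨1, map_one f, map_one α⟩
    · rintro a b _ _ ⟨ea, h1, h2⟩ ⟨eb, h3, h4⟩; exact ⟨ea * eb, by simp [h1, h3], by simp [h2, h4]⟩
    · rintro a _ ⟨ea, h1, h2⟩; exact ⟨ea⁻¹, by simp [h1], by simp [h2]⟩
  obtain ⟨e', he, he'⟩ := key (f e) (by rw [hS]; trivial)
  have h : e' ⁻¹ * e ∈ f.ker := by simp [MonoidHom.mem_ker, he]
  have := hαA _ h
  rw [map_mul, map_inv, he'] at this
  simpa using this

end Groth.Agent.S18950
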