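import Groth.Statements.S18951
import Mathlib

-- import your own Groth.Agent.* helpers here

set_option autoImplicit false
universe u
open OrbPic

namespace Groth.Agent.S18951

/-- Let G be a group and C ⊆ G a subset that generates G. Then the projection (χ, w) ↦ w from the group
of geometric partial orbifold line bundles with respect to C to functions G → ℚ is injective, its
image contains every conjugation-invariant integer-valued function vanishing at 1 and outside C, and
the group is torsion-free. (The source works with the geometric points of a tame finite étale group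
scheme, characters with values in roots of unity and weights on conjugacy classes of the Tate twist;
here these are identified with a group, homomorphisms to ℚ/ℤ and class functions as the source does
after choosing roots of unity. The case C = G ∖ {1} is the statement for full orbifold line
bundles.) -/
theorem result (G : Type u) [Group G] (C : Set G)
    (hC : Subgroup.closure C = ⊤) :
    Set.InjOn (fun p : (Additive G →+ W4c6brauerbgmalle.QmodZ) × (G → ℚ) => p.2) (W4c6brauerbgmalle.picOrb G C) ∧
      (∀ w ∈ W4c6brauerbgmalle.intWeights G C, ((0 : Additive G →+ W4c6brauerbgmalle.QmodZ), w) ∈ W4c6brauerbgmalle.picOrb G C) ∧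
      ∀ (n : ℕ) (p : (Additive G →+ W4c6brauerbgmalle.QmodZ) × (G → ℚ)), p ∈ W4c6brauerbgmalle.picOrb G C → n ≠ 0 →
        n • p = 0 → p = 0 := by
  classical
  refine ⟨?_, ?_, ?_⟩
  · rintro ⟨χ, w⟩ ⟨-, -, -, h⟩ ⟨χ', w'⟩ ⟨-, -, -, h'⟩ (e : w = w')
    subst e
    refine Prod.ext ?_ rfl
    apply AddMonoidHom.ext
    intro g
    obtain ⟨g, rfl⟩ : ∃ g' : G, Additive.ofMul g' = g := ⟨g.toMul, rfl⟩
    have hg : g ∈ Subgroup.closure C := hC ▸ Subgroup.mem_top g
    induction hg using Subgroup.closure_induction with
    | mem x hx => exact (h x hx).symm.trans (h' x hx)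
    | one => simp
    | mul x y _ _ hx hy => rw [ofMul_mul, map_add, map_add, hx, hy]
    | inv x _ hx => rw [ofMul_inv, map_neg, map_neg, hx]
  · rintro w ⟨h1, h2, h3, h4⟩
    refine ⟨h1, h2, h3, fun g _ => ?_⟩
    obtain ⟨n, hn⟩ := h4 g
    change W4c6brauerbgmalle.toQmodZ (w g) = 0
    rw [hn]
    exact (QuotientAddGroup.eq_zero_iff _).2 (AddSubgroup.mem_zmultiples_iff.2 ⟨n, by simp⟩)
  · rintro n ⟨χ, w⟩ ⟨-, -, -, h⟩ hn e
    have hw : w = 0 := funext fun g => by
      have := congrFun (congrArg Prod.snd e) g
      simpa [hn] using this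
    subst hw
    refine Prod.ext ?_ rfl
    apply AddMonoidHom.ext
    intro g
    obtain ⟨g, rfl⟩ : ∃ g' : G, Additive.ofMul g' = g := ⟨g.toMul, rfl⟩
    have hg : g ∈ Subgroup.closure C := hC ▸ Subgroup.mem_top g
    induction hg using Subgroup.closure_induction with
    | mem x hx => simpa using (h x hx).symm
    | one => simp
    | mul x y _ _ hx hy => change χ _ = 0; rw [ofMul_mul, map_add, show χ (Additive.ofMul x) = 0 from hx, show χ (Additive.ofMul y) = 0 from hy, add_zero]
    | inv x _ hx => change χ _ = 0; rw [ofMul_inv, map_neg, show χ (Additive.ofMul x) = 0 from hx, neg_zero]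

end Groth.Agent.S18951
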