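import Groth.Statements.S18952
import Mathlib


-- import your own Groth.Agent.* helpers here

set_option autoImplicit false
universe u
open OrbPic

namespace Groth.Agent.S18952

/-- Let G be a group and C ⊆ G a subset stable under conjugation. Then (χ, w) ↦ χ maps the group of
geometric partial orbifold line bundles with respect to C onto all characters G → ℚ/ℤ, and a pair in
its kernel (χ trivial) has w a conjugation-invariant integer-valued function vanishing at 1 and
outside C: with the inclusion of such functions this is the exact sequence 0 → Hom(C/conj, ℤ) → Pic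
→ Hom(G, ℚ/ℤ) → 0 over a separably closed field. (As in the source after a choice of roots of unity,
the group G stands for the geometric points of a tame finite étale group scheme, characters are
homomorphisms to ℚ/ℤ and weights are class functions on G.) -/
theorem result (G : Type u) [Group G] (C : Set G)
    (hC : ∀ g h : G, g ∈ C → h * g * h⁻¹ ∈ C) :
    (∀ χ : Additive G →+ W4c6brauerbgmalle.QmodZ, ∃ w : G → ℚ, (χ, w) ∈ W4c6brauerbgmalle.picOrb G C) ∧
      (∀ p : (Additive G →+ W4c6brauerbgmalle.QmodZ) × (G → ℚ), p ∈ W4c6brauerbgmalle.picOrb G C → p.1 = 0 →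
        p.2 ∈ W4c6brauerbgmalle.intWeights G C) := by
  classical
  constructor
  · intro χ
    have hconj : ∀ g h : G, χ (Additive.ofMul (h * g * h⁻¹)) = χ (Additive.ofMul g) := fun g h => by
      rw [ofMul_mul, ofMul_mul, ofMul_inv, map_add, map_add, map_neg]; abel
    refine ⟨fun g => if g ∈ C ∧ g ≠ 1 then (χ (Additive.ofMul g)).out else 0, by simp, fun g hg => if_neg fun h => hg h.1, fun g h => ?_, fun g hg => ?_⟩
    · have h1 : h * g * h⁻¹ ∈ C ↔ g ∈ C := ⟨fun hh => by simpa [mul_assoc] using hC _ h⁻¹ hh, hC g h⟩
      simp only [h1, hconj, ne_eq, conj_eq_one_iff]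
    · by_cases h1 : g = 1
      · simp [h1]
      · simp only [if_pos (And.intro hg h1)]
        exact QuotientAddGroup.out_eq' _
  · rintro ⟨χ, w⟩ ⟨h1, h2, h3, h4⟩ h0
    refine ⟨h1, h2, h3, fun g => ?_⟩
    by_cases hg : g ∈ C
    · have h5 : W4c6brauerbgmalle.toQmodZ (w g) = 0 := by rw [h4 g hg, show χ = 0 from h0]; rfl
      obtain ⟨n, hn⟩ := AddSubgroup.mem_zmultiples_iff.1 ((QuotientAddGroup.eq_zero_iff _).1 h5)
      exact ⟨n, by simpa using hn.symm⟩
    · exact ⟨0, by simpa using h2 g hg⟩

end Groth.Agent.S18952
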