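import Groth.Statements.S18953
import Mathlib
import Mathlib
-- import your own Groth.Agent.* helpers here

set_option autoImplicit false
universe u v
open OrbPic

namespace Groth.Agent.S18953

/-- Let G₁ and G₂ be groups with subsets C₁ ⊆ G₁ and C₂ ⊆ G₂, and let C ⊆ G₁ × G₂ be the union of C₁ ×
{1} and {1} × C₂. Restricting the character and the weight along the two inclusions G₁ → G₁ × G₂ and
G₂ → G₁ × G₂ is a bijection from the geometric partial orbifold line bundles of G₁ × G₂ with respect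
to C onto pairs of geometric partial orbifold line bundles of G₁ with respect to C₁ and of G₂ with
respect to C₂. (As in the source after a choice of roots of unity, each group stands for the
geometric points of a tame finite étale group scheme, characters are homomorphisms to ℚ/ℤ and
weights are class functions; the source states the Galois-equivariant version, which follows by
taking invariants.) -/
theorem result (G₁ : Type u) (G₂ : Type v) [Group G₁] [Group G₂] (C₁ : Set G₁) (C₂ : Set G₂) :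
    Set.BijOn
      (fun p : (Additive (G₁ × G₂) →+ W4c6brauerbgmalle.QmodZ) × (G₁ × G₂ → ℚ) =>
        ((p.1.comp (MonoidHom.toAdditive (MonoidHom.inl G₁ G₂)), fun g => p.2 (g, 1)),
          (p.1.comp (MonoidHom.toAdditive (MonoidHom.inr G₁ G₂)), fun g => p.2 (1, g))))
      (W4c6brauerbgmalle.picOrb (G₁ × G₂) ((fun g => (g, (1 : G₂))) '' C₁ ∪ (fun g => ((1 : G₁), g)) '' C₂))
      ((W4c6brauerbgmalle.picOrb G₁ C₁ : Set _) ×ˢ (W4c6brauerbgmalle.picOrb G₂ C₂ : Set _)) := by
  classical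
  refine ⟨fun p hp => ?_, fun p hp q hq hpq => ?_, fun ⟨⟨a, f⟩, ⟨b, g⟩⟩ hab => ?_⟩
  · obtain ⟨h1, h2, h3, h4⟩ := hp
    refine ⟨⟨h1, fun x hx => ?_, fun x y => ?_, fun x hx => h4 _ (Or.inl ⟨x, hx, rfl⟩)⟩,
      ⟨h1, fun x hx => ?_, fun x y => ?_, fun x hx => h4 _ (Or.inr ⟨x, hx, rfl⟩)⟩⟩
    · show p.2 (x, 1) = 0
      rcases eq_or_ne x 1 with rfl | hx1
      · exact h1
      refine h2 _ ?_
      rintro (⟨y, hy, h⟩ | ⟨y, -, h⟩)
      · exact hx ((Prod.mk.inj h).1 ▸ hy)
      · exact hx1 (Prod.mk.inj h).1.symm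
    · show p.2 (y * x * y⁻¹, 1) = p.2 (x, 1)
      rw [← h3 (x, 1) (y, 1)]; simp
    · show p.2 (1, x) = 0
      rcases eq_or_ne x 1 with rfl | hx1
      · exact h1
      refine h2 _ ?_
      rintro (⟨y, -, h⟩ | ⟨y, hy, h⟩)
      · exact hx1 (Prod.mk.inj h).2.symm
      · exact hx ((Prod.mk.inj h).2 ▸ hy)
    · show p.2 (1, y * x * y⁻¹) = p.2 (1, x)
      rw [← h3 (1, x) (1, y)]; simp
  · simp only [Prod.mk.injEq] at hpq
    obtain ⟨⟨ha, hf⟩, hb, hg⟩ := hpq
    refine Prod.ext (AddMonoidHom.ext fun z => ?_) (funext fun z => ?_)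
    · obtain ⟨x, y, rfl⟩ : ∃ x y, z = Additive.ofMul ((x, 1) : G₁ × G₂) + Additive.ofMul ((1, y) : G₁ × G₂) :=
        ⟨(Additive.toMul z).1, (Additive.toMul z).2, by rw [← ofMul_mul]; simp⟩
      rw [map_add, map_add]
      exact congrArg₂ (· + ·) (DFunLike.congr_fun ha (Additive.ofMul x)) (DFunLike.congr_fun hb (Additive.ofMul y))
    · obtain ⟨x, y⟩ := z
      rcases eq_or_ne y 1 with rfl | hy
      · exact congrFun hf x
      rcases eq_or_ne x 1 with rfl | hx
      · exact congrFun hg y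
      have hn : ((x, y) : G₁ × G₂) ∉ (fun g => (g, (1 : G₂))) '' C₁ ∪ (fun g => ((1 : G₁), g)) '' C₂ := by
        rintro (⟨w, -, h⟩ | ⟨w, -, h⟩)
        · exact hy (Prod.mk.inj h).2.symm
        · exact hx (Prod.mk.inj h).1.symm
      rw [hp.2.1 _ hn, hq.2.1 _ hn]
  · obtain ⟨⟨a1, a2, a3, a4⟩, ⟨b1, b2, b3, b4⟩⟩ := hab
    simp only at a1 a2 a3 a4 b1 b2 b3 b4
    refine ⟨(a.comp (MonoidHom.toAdditive (MonoidHom.fst G₁ G₂)) + b.comp (MonoidHom.toAdditive (MonoidHom.snd G₁ G₂)),
      fun z => if z.2 = 1 then f z.1 else if z.1 = 1 then g z.2 else 0), ⟨by simp [a1], fun z hz => ?_, fun z w => ?_, fun z hz => ?_⟩, ?_⟩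
    · obtain ⟨x, y⟩ := z
      show (if y = 1 then f x else if x = 1 then g y else 0) = 0
      split_ifs with hy hx
      · exact a2 x fun hx' => hz (Or.inl ⟨x, hx', by rw [hy]⟩)
      · exact b2 y fun hy' => hz (Or.inr ⟨y, hy', by rw [hx]⟩)
      · rfl
    · simp only [Prod.fst_mul, Prod.snd_mul, Prod.fst_inv, Prod.snd_inv, conj_eq_one_iff, a3, b3]
    · rcases hz with ⟨x, hx, rfl⟩ | ⟨y, hy, rfl⟩
      · simp [a4 x hx]
      · rcases eq_or_ne y 1 with rfl | hy1
        · simp [a1]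
        · simp [hy1, b4 y hy]
    · refine Prod.ext (Prod.ext (AddMonoidHom.ext fun z => by simp) (funext fun x => by simp)) (Prod.ext (AddMonoidHom.ext fun z => by simp) (funext fun y => ?_))
      rcases eq_or_ne y 1 with rfl | hy1
      · simp [a1, b1]
      · simp [hy1]

end Groth.Agent.S18953
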