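import Groth.Statements.S18955
import Groth.Agent.MonEqvLib.Aff

set_option autoImplicit false
set_option backward.isDefEq.respectTransparency false
set_option backward.isDefEq.respectTransparency.types false
set_option maxRecDepth 8000
set_option maxHeartbeats 1000000
universe u
open CategoryTheory MonoidalCategory CartesianMonoidalCategory MonObj AlgebraicGeometry Opposite
open Magnet

namespace Groth.Agent.S18955

/-- Let k be a field, M an affine monoid k-scheme (a monoid object in k-schemes with affine underlying
scheme), G an affine group k-scheme and i : G → M a homomorphism of monoids which is an open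
immersion with scheme-theoretically dense image, and let X be an affine k-scheme with an action a of
G. Let D_X be the functor on k-schemes whose value at Y is the set of k-morphisms M ×_k Y → X that
are G-equivariant for G acting on M ×_k Y by left multiplication through i on the first factor and
on X through a. Then D_X is representable by a k-scheme Z, and the canonical map D_X → X
(restriction to the unit section of M) is a closed immersion j : Z → X. (The published statement
takes G to be the group of units of M, open and schematically dense; here it is assumed only that i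
is a homomorphism of monoids and a scheme-theoretically dominant open immersion of affine schemes.) -/
theorem result (k : Type u) [Field k]
    (M G X : Over (Spec (CommRingCat.of k))) [MonObj M] [GrpObj G] [IsAffine M.left] [IsAffine G.left]
    [IsAffine X.left] (i : G ⟶ M) [IsMonHom i] [IsOpenImmersion i.left]
    [IsSchemeTheoreticallyDominant i.left] (a : AlgGrp.Action G X) :
    ∃ (Z : Over (Spec (CommRingCat.of k))) (j : Z ⟶ X)
      (e : (Magnet.MonAct.eqvHom ((Magnet.MonAct.regular M).restrict i) (Magnet.MonAct.ofAction a)).RepresentableBy Z),
      IsClosedImmersion j.left ∧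
      ∀ (T : Over (Spec (CommRingCat.of k))) (z : T ⟶ Z),
        (Magnet.MonAct.eqvHom.evalAt ((Magnet.MonAct.regular M).restrict i) (Magnet.MonAct.ofAction a) η[M]).app
          (op T) (e.homEquiv z) = z ≫ j := by
  haveI : QuasiCompact i.left := inferInstance
  haveI : IsAffineHom X.hom := isAffineHom_of_isAffine _
  haveI : IsSeparated X.hom := inferInstance
  obtain ⟨Z, j, hj, ⟨ψu, hψu⟩, hfac⟩ := MonEqvLib.exists_closed i (Magnet.MonAct.ofAction a)
  haveI := hj
  haveI : Mono j := (Over.forget _).mono_of_mono_map (show Mono j.left from inferInstance)
  let b := Magnet.MonAct.ofAction a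
  have horb : ∀ {T : Over (Spec (CommRingCat.of k))} (z : T ⟶ Z),
      (i ▷ T) ≫ (M ◁ z) ≫ ψu = MonEqvLib.orbit b (z ≫ j) := fun z => by
    rw [← whisker_exchange_assoc, hψu, MonEqvLib.orbit_comp]
  have heval : ∀ {T : Over (Spec (CommRingCat.of k))} (z : T ⟶ Z),
      MonEqvLib.eval ((M ◁ z) ≫ ψu) = z ≫ j := fun z => MonEqvLib.eval_eq i b (horb z)
  have hsurj : ∀ {T : Over (Spec (CommRingCat.of k))}
      (φ : (Magnet.MonAct.eqvHom ((Magnet.MonAct.regular M).restrict i) b).obj (op T)),
      ∃ z : T ⟶ Z, z ≫ j = MonEqvLib.eval φ.1 := fun φ =>
    hfac _ _ ⟨φ.1, MonEqvLib.restrict_eq_orbit i b φ.2⟩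
  let e : (Magnet.MonAct.eqvHom ((Magnet.MonAct.regular M).restrict i) b).RepresentableBy Z :=
    { homEquiv := fun {T} =>
        { toFun := fun z => ⟨(M ◁ z) ≫ ψu, MonEqvLib.isEquivariant_of_orbit i b (horb z)⟩
          invFun := fun φ => (hsurj φ).choose
          left_inv := fun z => (cancel_mono j).mp ((hsurj _).choose_spec.trans (heval z))
          right_inv := fun φ => Subtype.ext (MonEqvLib.ext_unique i (by
            refine (horb (hsurj φ).choose).trans ?_
            rw [(hsurj φ).choose_spec]
            exact (MonEqvLib.restrict_eq_orbit i b φ.2).symm)) }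
      homEquiv_comp := fun {T T'} f g => Subtype.ext (by simp) }
  exact ⟨Z, j, e, hj, fun T z => heval z⟩

end Groth.Agent.S18955
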