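import Groth.Statements.S18956
import Groth.Agent.MonEqvLib.Base

set_option autoImplicit false
set_option backward.isDefEq.respectTransparency false
set_option backward.isDefEq.respectTransparency.types false
set_option maxRecDepth 8000
set_option maxHeartbeats 1000000
universe u
open CategoryTheory MonoidalCategory CartesianMonoidalCategory MonObj AlgebraicGeometry Opposite
open Magnet

namespace Groth.Agent.S18956

/-- Let k be a field, M an affine monoid k-scheme, G an affine group k-scheme and i : G → M a
homomorphism of monoids which is a quasi-compact open immersion with scheme-theoretically dense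
image. Let X be a k-scheme with an action aX of G, and j : Z → X a closed immersion which is
G-equivariant for an action aZ of G on Z (a closed G-stable subscheme). For a G-scheme W write D_W
for the functor on k-schemes whose value at Y is the set of k-morphisms M ×_k Y → W that are
G-equivariant for G acting on M ×_k Y by left multiplication through i on the first factor. Then the
square of presheaves formed by D_Z → D_X (composition with j), the restrictions D_Z → Z and D_X → X
to the unit section of M, and j is cartesian. (The published statement takes G to be the group of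
units of M, open and schematically dense; here it is assumed only that i is a homomorphism of
monoids and a quasi-compact, scheme-theoretically dominant open immersion.) -/
theorem result (k : Type u) [Field k]
    (M G X Z : Over (Spec (CommRingCat.of k))) [MonObj M] [GrpObj G] [IsAffine M.left] [IsAffine G.left]
    (i : G ⟶ M) [IsMonHom i] [IsOpenImmersion i.left] [QuasiCompact i.left]
    [IsSchemeTheoreticallyDominant i.left]
    (aX : AlgGrp.Action G X) (aZ : AlgGrp.Action G Z) (j : Z ⟶ X) [IsClosedImmersion j.left]
    (hj : Magnet.MonAct.IsEquivariant (Magnet.MonAct.ofAction aZ) (Magnet.MonAct.ofAction aX) j) :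
    IsPullback
      (Magnet.MonAct.eqvHom.postcomp ((Magnet.MonAct.regular M).restrict i) j hj)
      (Magnet.MonAct.eqvHom.evalAt ((Magnet.MonAct.regular M).restrict i) (Magnet.MonAct.ofAction aZ) η[M])
      (Magnet.MonAct.eqvHom.evalAt ((Magnet.MonAct.regular M).restrict i) (Magnet.MonAct.ofAction aX) η[M])
      (yoneda.map j) := by
  haveI : Mono j := (Over.forget _).mono_of_mono_map (show Mono j.left from inferInstance)
  refine IsPullback.of_forall_isPullback_app fun T => ?_
  rw [CategoryTheory.Limits.Types.isPullback_iff]
  refine ⟨?_, ?_, ?_⟩
  · ext φ
    exact (Category.assoc _ _ _).symm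
  · rintro x y ⟨h1, -⟩
    exact Subtype.ext ((cancel_mono j).mp (congrArg Subtype.val h1))
  · intro φ z hc
    have hφ := MonEqvLib.restrict_eq_orbit i (Magnet.MonAct.ofAction aX) φ.2
    have hc' : MonEqvLib.eval φ.1 = z ≫ j := hc
    have horb : (i ▷ unop T) ≫ φ.1 = MonEqvLib.orbit (Magnet.MonAct.ofAction aZ) z ≫ j := by
      rw [hφ, hc', MonEqvLib.orbit, MonEqvLib.orbit, MonoidalCategory.whiskerLeft_comp, Category.assoc,
        Category.assoc]
      exact congrArg ((G ◁ z) ≫ ·) (show _ = _ from hj).symm
    haveI := (MonEqvLib.std_whiskerRight i (unop T)).1
    obtain ⟨χ, hχ⟩ := MonEqvLib.exists_lift_closed (i ▷ unop T) j φ.1 _ horb.symm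
    have hχe : Magnet.MonAct.IsEquivariant (((Magnet.MonAct.regular M).restrict i).prod
        (Magnet.MonAct.trivial G (unop T))) (Magnet.MonAct.ofAction aZ) χ := by
      have h : _ = _ := φ.2
      have hj' : _ = _ := hj
      unfold Magnet.MonAct.IsEquivariant
      refine (cancel_mono j).mp ?_
      rw [Category.assoc, hχ, Category.assoc, hj', ← Category.assoc, ← MonoidalCategory.whiskerLeft_comp, hχ]
      exact h
    refine ⟨⟨χ, hχe⟩, Subtype.ext hχ, (cancel_mono j).mp ?_⟩
    change (MonEqvLib.eval χ) ≫ j = z ≫ j
    rw [← hc', MonEqvLib.eval, MonEqvLib.eval, Category.assoc, hχ]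

end Groth.Agent.S18956
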