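import Groth.Statements.S1896
import Mathlib
import Groth.Agent.S1916
import Groth.Agent.KFlatLib.Stalk
-- import your own Groth.Agent.* helpers here

set_option autoImplicit false
universe u
open CategoryTheory AlgebraicGeometry
open Cyc

namespace Groth.Agent.S1896

/-- For a short exact sequence 0 → F → G → H → 0 of coherent O_X-modules (X locally Noetherian with
dimension function δ) whose supports have δ-dimension at most k, one has [G]_k = [F]_k + [H]_k
coefficientwise. Here (X, δ) satisfies Cyc.IsSetup (X locally Noetherian with universally catenary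
local rings, δ a dimension function). -/
theorem result (X : Scheme.{u}) (δ : X → ℤ) (hX : Cyc.IsSetup X δ) (k : ℤ) (T : ShortComplex X.Modules) (hT : T.ShortExact) (h₁ : Coh.IsCoh T.X₁) (h₂ : Coh.IsCoh T.X₂) (h₃ : Coh.IsCoh T.X₃) (hdim : ∀ x : X, Nontrivial (T.X₂.presheaf.stalk x) → δ x ≤ k) : Cyc.sheafFun δ k T.X₂ = Cyc.sheafFun δ k T.X₁ + Cyc.sheafFun δ k T.X₃ := by
  haveI := hX.1
  funext x
  simp only [Cyc.sheafFun, Pi.add_apply]
  split_ifs with hx
  swap
  · rfl
  have hS := hT.map_of_exact (DevissLib.St x)
  have hadd : Module.length (X.presheaf.stalk x) ((DevissLib.St x).obj T.X₂) =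
      Module.length (X.presheaf.stalk x) ((DevissLib.St x).obj T.X₁) +
        Module.length (X.presheaf.stalk x) ((DevissLib.St x).obj T.X₃) :=
    Module.length_eq_add_of_exact _ _ hS.moduleCat_injective_f hS.moduleCat_surjective_g
      ((ShortComplex.ShortExact.moduleCat_exact_iff_function_exact _).1 hS.exact)
  have hfin : Module.length (X.presheaf.stalk x) ((DevissLib.St x).obj T.X₂) ≠ ⊤ := by
    rcases subsingleton_or_nontrivial ((DevissLib.St x).obj T.X₂) with h | h
    · rw [Module.length_eq_zero]
      exact ENat.zero_ne_top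
    · refine ((Groth.Agent.S1916.result X T.X₂ h₂).2 x h fun z hz hzx => ?_).ne
      by_contra hne
      have h1 := (hX.2.2 z x hzx hne).1
      have h2 := hdim z hz
      omega
  rw [hadd] at hfin
  rw [ne_eq, ENat.add_eq_top, not_or] at hfin
  obtain ⟨ha, hb⟩ := hfin
  show ((Module.length (X.presheaf.stalk x) ((DevissLib.St x).obj T.X₂)).toNat : ℤ) =
    ((Module.length (X.presheaf.stalk x) ((DevissLib.St x).obj T.X₁)).toNat : ℤ) +
      ((Module.length (X.presheaf.stalk x) ((DevissLib.St x).obj T.X₃)).toNat : ℤ)
  rw [hadd, ENat.toNat_add ha hb, Nat.cast_add]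

end Groth.Agent.S1896
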