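import Mathlib
import Groth.Statements.S18960

-- import your own Groth.Agent.* helpers here

set_option autoImplicit false
universe w' w v u
open CategoryTheory Limits
open CatLim

namespace Groth.Agent.S18960

/-- Let C be a category and T an endofunctor of C; let C(T) be the category whose objects are pairs (X,
u) with u : T X → X an isomorphism and whose morphisms (X, u) → (Y, w) are the morphisms X → Y
compatible with u and w — the full subcategory of T-algebras with invertible structure map — and let
π : C(T) → C be the forgetful functor. If T preserves colimits of shape J then π creates colimits of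
shape J. (The source assumes T preserves all small colimits and concludes for all small shapes; the
argument is shape by shape.) -/
theorem result {C : Type u} [Category.{v} C] (T : C ⥤ C)
    (J : Type w) [Category.{w'} J] [PreservesColimitsOfShape J T] :
    Nonempty (CreatesColimitsOfShape J
      ((ObjectProperty.ι (fun A : Endofunctor.Algebra T => IsIso A.str)) ⋙ Endofunctor.Algebra.forget T)) := by
  let P : ObjectProperty (Endofunctor.Algebra T) := fun A => IsIso A.str
  refine ⟨⟨fun {K} => ?_⟩⟩
  refine createsColimitOfReflectsIso fun c hc => ?_
  let G := P.ι ⋙ Endofunctor.Algebra.forget T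
  let α : (K ⋙ G) ⋙ T ⟶ K ⋙ G :=
    { app := fun j => (K.obj j).obj.str
      naturality := fun i j f => (K.map f).hom.h }
  haveI : ∀ j, IsIso (α.app j) := fun j => (K.obj j).property
  haveI : IsIso α := NatIso.isIso_of_isIso_app α
  let e := IsColimit.coconePointsIsoOfNatIso (isColimitOfPreserves T hc) hc (asIso α)
  have he : ∀ j, T.map (c.ι.app j) ≫ e.hom = (K.obj j).obj.str ≫ c.ι.app j := fun j =>
    IsColimit.comp_coconePointsIsoOfNatIso_hom (isColimitOfPreserves T hc) hc (asIso α) j
  let A : P.FullSubcategory := ⟨⟨c.pt, e.hom⟩, (inferInstance : IsIso e.hom)⟩
  let c' : Cocone K :=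
    { pt := A
      ι :=
        { app := fun j => P.homMk ⟨c.ι.app j, he j⟩
          naturality := fun i j f => by
            refine ObjectProperty.hom_ext _ (Endofunctor.Algebra.Hom.ext ?_)
            exact (c.w f).trans (Category.comp_id _).symm } }
  refine
    { liftedCocone := c'
      validLift := Cocone.ext (Iso.refl _) (fun j => Category.comp_id _)
      makesColimit :=
        { desc := fun s => P.homMk
            { f := hc.desc ((P.ι ⋙ Endofunctor.Algebra.forget T).mapCocone s)
              h := (isColimitOfPreserves T hc).hom_ext fun j => by
                show T.map (c.ι.app j) ≫ _ ≫ _ = T.map (c.ι.app j) ≫ e.hom ≫ _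
                erw [← Category.assoc, ← T.map_comp, hc.fac, ← Category.assoc (T.map (c.ι.app j)) e.hom, he j,
                  Category.assoc, hc.fac]
                exact ((s.ι.app j).hom).h }
          fac := fun s j => by
            ext
            exact hc.fac _ j
          uniq := fun s m hm => by
            ext
            exact hc.uniq ((P.ι ⋙ Endofunctor.Algebra.forget T).mapCocone s) _
              fun j => congrArg (fun q => q.hom.f) (hm j) } }

end Groth.Agent.S18960
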