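import Groth.Statements.S18961
import Mathlib

set_option autoImplicit false
universe u
open BBDec

namespace Groth.Agent.S18961
open MvPolynomial

section
variable {A B : Type*} [CommRing A] [CommRing B] [Algebra A B]

/-- An algebra endomorphism-like map `P → P/J^m` congruent to the identity modulo `J^2` on variables
has kernel in `J^m`. -/
lemma mem_pow_of_unipotent {ι : Type*} {m : ℕ} (J : Ideal (MvPolynomial ι A))
    (hspan : J = Ideal.span (Set.range X))
    (h : MvPolynomial ι A →ₐ[A] (MvPolynomial ι A ⧸ J ^ m))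
    (hX : ∀ i, h (X i) - Ideal.Quotient.mk _ (X i) ∈
      (J ^ 2).map (Ideal.Quotient.mk (J ^ m)))
    (f : MvPolynomial ι A) (hf : h f = 0) : f ∈ J ^ m := by
  let mk := Ideal.Quotient.mk (J ^ m)
  have hJ : ∀ i, mk (X i) ∈ J.map mk := fun i => Ideal.mem_map_of_mem _ (hspan.ge (Ideal.subset_span ⟨i, rfl⟩))
  have h0 : ∀ f, h f - mk f ∈ J.map mk := by
    intro f
    induction f using MvPolynomial.induction_on with
    | C a =>
      rw [← MvPolynomial.algebraMap_eq, AlgHom.commutes]
      simp [mk, Ideal.Quotient.algebraMap_eq, IsScalarTower.algebraMap_apply A (MvPolynomial ι A)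
        (MvPolynomial ι A ⧸ J ^ m)]
    | add p q hp hq =>
      rw [map_add, map_add, add_sub_add_comm]
      exact add_mem hp hq
    | mul_X p i hp =>
      rw [map_mul, map_mul, show h p * h (X i) - mk p * mk (X i) =
        (h p - mk p) * h (X i) + mk p * (h (X i) - mk (X i)) by ring]
      exact add_mem (Ideal.mul_mem_right _ _ hp)
        (Ideal.mul_mem_left _ _ (Ideal.map_mono (Ideal.pow_le_self two_ne_zero) (hX i)))
  have hX' : ∀ x ∈ J, h x - mk x ∈ (J ^ 2).map mk := by
    intro x hx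
    have hx' : x ∈ Ideal.span (Set.range (X : ι → MvPolynomial ι A)) := hspan.le hx
    clear hx
    induction hx' using Submodule.span_induction with
    | mem x hx => obtain ⟨i, rfl⟩ := hx; exact hX i
    | zero => simp
    | add x y _ _ hx hy => rw [map_add, map_add, add_sub_add_comm]; exact add_mem hx hy
    | smul r x hxJ hx =>
      rw [smul_eq_mul, map_mul, map_mul, show h r * h x - mk r * mk x =
        h r * (h x - mk x) + (h r - mk r) * mk x by ring]
      refine add_mem (Ideal.mul_mem_left _ _ hx) ?_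
      rw [Ideal.map_pow, pow_two]
      exact Ideal.mul_mem_mul (h0 r) (Ideal.mem_map_of_mem _ (hspan.ge hxJ))
  have hj : ∀ j, ∀ f ∈ J ^ j, h f - mk f ∈ (J ^ (j + 1)).map mk := by
    intro j
    induction j with
    | zero => intro f _; simpa using h0 f
    | succ j ih =>
      intro f hf
      rw [pow_succ] at hf
      refine Submodule.mul_induction_on hf (fun a ha b hb => ?_) (fun x y hx hy => ?_)
      swap
      · rw [map_add, map_add, add_sub_add_comm]; exact add_mem hx hy
      ·
        rw [map_mul, map_mul, show h a * h b - mk a * mk b =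
          (h a - mk a) * (h b - mk b) + (h a - mk a) * mk b + mk a * (h b - mk b) by ring]
        have e1 : (J ^ (j + 1 + 1)).map mk = (J ^ (j + 1)).map mk * J.map mk := by
          rw [← Ideal.map_mul, ← pow_succ]
        have e2 : (J ^ (j + 1 + 1)).map mk = (J ^ j).map mk * (J ^ 2).map mk := by
          rw [← Ideal.map_mul, ← pow_add]
        refine add_mem (add_mem ?_ ?_) ?_
        · rw [e1]
          exact Ideal.mul_mem_mul (ih a ha)
            (Ideal.map_mono (Ideal.pow_le_self two_ne_zero) (hX' b hb))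
        · rw [e1]; exact Ideal.mul_mem_mul (ih a ha) (Ideal.mem_map_of_mem _ hb)
        · rw [e2]; exact Ideal.mul_mem_mul (Ideal.mem_map_of_mem _ ha) (hX' b hb)
  have : ∀ j ≤ m, f ∈ J ^ j := by
    intro j hjm
    induction j with
    | zero => simp
    | succ j ih =>
      have h1 := hj j f (ih (by omega))
      rw [hf, zero_sub, neg_mem_iff, Ideal.mem_quotient_iff_mem_sup,
        sup_eq_left.2 (Ideal.pow_le_pow_right hjm)] at h1
      exact h1
  exact this m le_rfl

lemma eq_zero_of_forall_mem_pow {ι : Type*} (f : MvPolynomial ι A)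
    (h : ∀ m, f ∈ idealOfVars ι A ^ m) : f = 0 := by
  ext x
  rw [coeff_zero]
  exact (mem_pow_idealOfVars_iff' _ f).1 (h _) x (Nat.lt_succ_self _)

variable (𝒜 : ℕ → Submodule A B) [GradedAlgebra 𝒜]

lemma mem_plus_iff (b : B) : b ∈ (HomogeneousIdeal.irrelevant 𝒜).toIdeal ↔ GradedAlgebra.proj 𝒜 0 b = 0 := Iff.rfl

lemma proj_mem_plus {n : ℕ} (hn : 0 < n) (b : B) : GradedAlgebra.proj 𝒜 n b ∈ (HomogeneousIdeal.irrelevant 𝒜).toIdeal :=
  HomogeneousIdeal.mem_irrelevant_of_mem 𝒜 hn (SetLike.coe_mem _)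

lemma proj_mem_plus' (n : ℕ) {b : B} (hb : b ∈ (HomogeneousIdeal.irrelevant 𝒜).toIdeal) : GradedAlgebra.proj 𝒜 n b ∈ (HomogeneousIdeal.irrelevant 𝒜).toIdeal :=
  (HomogeneousIdeal.irrelevant 𝒜).isHomogeneous n hb

lemma proj_mem_sq (n : ℕ) {b : B} (hb : b ∈ (HomogeneousIdeal.irrelevant 𝒜).toIdeal ^ 2) : GradedAlgebra.proj 𝒜 n b ∈ (HomogeneousIdeal.irrelevant 𝒜).toIdeal ^ 2 :=
  (Ideal.IsHomogeneous.mul (HomogeneousIdeal.irrelevant 𝒜).isHomogeneous
    (HomogeneousIdeal.irrelevant 𝒜).isHomogeneous : ((HomogeneousIdeal.irrelevant 𝒜).toIdeal * (HomogeneousIdeal.irrelevant 𝒜).toIdeal).IsHomogeneous 𝒜) n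
      (by rwa [← pow_two]) |> fun h => by rw [pow_two]; exact h

lemma proj_sq_mem_adjoin (n : ℕ) (S : Subalgebra A B)
    (hS : ∀ i, 0 < i → i < n → ∀ b ∈ 𝒜 i, b ∈ S) {x : B} (hx : x ∈ (HomogeneousIdeal.irrelevant 𝒜).toIdeal ^ 2) :
    GradedAlgebra.proj 𝒜 n x ∈ S := by
  rw [pow_two] at hx
  refine Submodule.mul_induction_on hx (fun u hu v hv => ?_) (fun x y hx hy => ?_)
  swap
  · rw [map_add]; exact add_mem hx hy
  ·
    classical
    conv => enter [2, 2]; rw [← DirectSum.sum_support_decompose 𝒜 u, Finset.sum_mul]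
    rw [map_sum]
    refine sum_mem fun i _ => ?_
    rw [GradedAlgebra.proj_apply, DirectSum.coe_decompose_mul_of_left_mem 𝒜 n (SetLike.coe_mem _)]
    split_ifs with hin
    · rcases Nat.eq_zero_or_pos i with rfl | hi
      · rw [(mem_plus_iff 𝒜 u).1 hu |> fun h => (GradedAlgebra.proj_apply 𝒜 0 u).symm.trans h,
          zero_mul]
        exact zero_mem S
      · rcases eq_or_lt_of_le hin with rfl | hlt
        · rw [Nat.sub_self, (mem_plus_iff 𝒜 v).1 hv |>
            fun h => (GradedAlgebra.proj_apply 𝒜 0 v).symm.trans h, mul_zero]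
          exact zero_mem S
        · exact mul_mem (hS i hi hlt _ (SetLike.coe_mem _))
            (hS (n - i) (by omega) (by omega) _ (SetLike.coe_mem _))
    · exact zero_mem S

/-- The class map `B₊ → B₊/B₊²`, `A`-linear, on all of `B` (killing degree `0`). -/
noncomputable def qB : B →ₗ[A] (HomogeneousIdeal.irrelevant 𝒜).toIdeal.Cotangent :=
  ((HomogeneousIdeal.irrelevant 𝒜).toIdeal.toCotangent.restrictScalars A).comp
    (LinearMap.codRestrict ((HomogeneousIdeal.irrelevant 𝒜).toIdeal.restrictScalars A) (LinearMap.id - GradedAlgebra.proj 𝒜 0)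
      fun b => by
        show b - GradedAlgebra.proj 𝒜 0 b ∈ (HomogeneousIdeal.irrelevant 𝒜).toIdeal
        rw [mem_plus_iff, map_sub, sub_eq_zero]
        exact (DirectSum.decompose_of_mem_same 𝒜 (SetLike.coe_mem _)).symm)

lemma qB_of_mem {b : B} (hb : b ∈ (HomogeneousIdeal.irrelevant 𝒜).toIdeal) : qB 𝒜 b = (HomogeneousIdeal.irrelevant 𝒜).toIdeal.toCotangent ⟨b, hb⟩ := by
  show (HomogeneousIdeal.irrelevant 𝒜).toIdeal.toCotangent _ = _
  congr 1
  ext
  show b - GradedAlgebra.proj 𝒜 0 b = b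
  rw [(mem_plus_iff 𝒜 b).1 hb, sub_zero]

lemma qB_eq_iff {b c : B} (hb : b ∈ (HomogeneousIdeal.irrelevant 𝒜).toIdeal) (hc : c ∈ (HomogeneousIdeal.irrelevant 𝒜).toIdeal) :
    qB 𝒜 b = qB 𝒜 c ↔ b - c ∈ (HomogeneousIdeal.irrelevant 𝒜).toIdeal ^ 2 := by
  rw [qB_of_mem 𝒜 hb, qB_of_mem 𝒜 hc, Ideal.toCotangent_eq]

lemma exists_graded_lift [Module.Free A (HomogeneousIdeal.irrelevant 𝒜).toIdeal.Cotangent] [Module.Finite A (HomogeneousIdeal.irrelevant 𝒜).toIdeal.Cotangent] :
    ∃ s : (HomogeneousIdeal.irrelevant 𝒜).toIdeal.Cotangent →ₗ[A] B, (∀ c, s c ∈ (HomogeneousIdeal.irrelevant 𝒜).toIdeal) ∧ (∀ c, qB 𝒜 (s c) = c) ∧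
      ∀ n, 0 < n → ∀ b ∈ 𝒜 n, s (qB 𝒜 b) ∈ 𝒜 n := by
  classical
  let bC := Module.Free.chooseBasis A (HomogeneousIdeal.irrelevant 𝒜).toIdeal.Cotangent
  choose pre hpre using fun i => (HomogeneousIdeal.irrelevant 𝒜).toIdeal.toCotangent_surjective (bC i)
  let s₀ := bC.constr A (fun i => (pre i : B))
  have hs0mem : ∀ c, s₀ c ∈ (HomogeneousIdeal.irrelevant 𝒜).toIdeal := by
    intro c
    rw [← bC.sum_repr c, map_sum]
    refine sum_mem fun i _ => ?_
    rw [map_smul, Module.Basis.constr_basis, Algebra.smul_def]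
    exact Ideal.mul_mem_left _ _ (pre i).2
  have hs0q : ∀ c, qB 𝒜 (s₀ c) = c := by
    intro c
    refine LinearMap.congr_fun (bC.ext (f₁ := (qB 𝒜).comp s₀) (f₂ := LinearMap.id) fun i => ?_) c
    simp only [s₀, LinearMap.comp_apply, Module.Basis.constr_basis, LinearMap.id_apply,
      qB_of_mem 𝒜 (pre i).2, Subtype.coe_eta, hpre]
  let T : Finset ℕ := Finset.univ.biUnion fun i => (DirectSum.decompose 𝒜 (pre i : B)).support
  have hT : ∀ n ∉ T, ∀ c, GradedAlgebra.proj 𝒜 n (s₀ c) = 0 := by
    intro n hn c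
    rw [← bC.sum_repr c, map_sum, map_sum]
    refine Finset.sum_eq_zero fun i _ => ?_
    rw [map_smul, map_smul, Module.Basis.constr_basis, GradedAlgebra.proj_apply]
    have : (DirectSum.decompose 𝒜 (pre i : B)) n = 0 := by
      by_contra h
      exact hn (Finset.mem_biUnion.2 ⟨i, Finset.mem_univ _, DFinsupp.mem_support_iff.2 h⟩)
    rw [this, ZeroMemClass.coe_zero, smul_zero]
  let π := GradedAlgebra.proj 𝒜
  have hq : ∀ n x, x ∈ (HomogeneousIdeal.irrelevant 𝒜).toIdeal → qB 𝒜 (π n (s₀ (qB 𝒜 x))) = qB 𝒜 (π n x) := by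
    intro n x hx
    have h1 : s₀ (qB 𝒜 x) - x ∈ (HomogeneousIdeal.irrelevant 𝒜).toIdeal ^ 2 := (qB_eq_iff 𝒜 (hs0mem _) hx).1 (hs0q _)
    rw [qB_eq_iff 𝒜 (proj_mem_plus' 𝒜 n (hs0mem _)) (proj_mem_plus' 𝒜 n hx), ← map_sub]
    exact proj_mem_sq 𝒜 n h1
  let s : (HomogeneousIdeal.irrelevant 𝒜).toIdeal.Cotangent →ₗ[A] B :=
    ∑ n ∈ T, (π n).comp (s₀.comp ((qB 𝒜).comp ((π n).comp s₀)))
  have hs : ∀ c, s c = ∑ n ∈ T, π n (s₀ (qB 𝒜 (π n (s₀ c)))) := fun c => by
    simp only [s, LinearMap.coe_sum, Finset.sum_apply, LinearMap.comp_apply]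
  refine ⟨s, fun c => ?_, fun c => ?_, fun n hn b hb => ?_⟩
  · rw [hs]
    exact sum_mem fun n _ => proj_mem_plus' 𝒜 n (hs0mem _)
  · rw [hs, map_sum]
    have : ∀ n ∈ T, qB 𝒜 (π n (s₀ (qB 𝒜 (π n (s₀ c))))) = qB 𝒜 (π n (s₀ c)) := by
      intro n _
      rw [hq n _ (proj_mem_plus' 𝒜 n (hs0mem c))]
      congr 1
      exact DirectSum.decompose_of_mem_same 𝒜 (SetLike.coe_mem _)
    rw [Finset.sum_congr rfl this, ← map_sum]
    have h2 : ∑ n ∈ T, π n (s₀ c) = s₀ c := by
      conv_rhs => rw [← DirectSum.sum_support_decompose 𝒜 (s₀ c)]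
      symm
      refine Finset.sum_subset (fun n hn => ?_) (fun n _ hn => ?_)
      · by_contra h
        exact (DFinsupp.mem_support_iff.1 hn) (Subtype.ext (hT n h c))
      · have h : (DirectSum.decompose 𝒜 (s₀ c)) n = 0 := by simpa using hn
        rw [h, ZeroMemClass.coe_zero]
    rw [h2, hs0q]
  · rw [hs]
    refine sum_mem fun m _ => ?_
    rcases eq_or_ne m n with rfl | hmn
    · exact SetLike.coe_mem _
    · rw [hq m b (HomogeneousIdeal.mem_irrelevant_of_mem 𝒜 hn hb)]
      have : π m b = 0 := DirectSum.decompose_of_mem_ne 𝒜 hb (Ne.symm hmn)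
      rw [this, map_zero, map_zero, map_zero]
      exact zero_mem _

end

theorem main {A B : Type u} [CommRing A] [CommRing B] [Algebra A B] [IsNoetherianRing A]
    [Algebra.FiniteType A B] (𝒜 : ℕ → Submodule A B) [GradedAlgebra 𝒜]
    (h0 : ∀ b : B, b ∈ 𝒜 0 ↔ b ∈ Set.range (algebraMap A B))
    (hinj : Function.Injective (algebraMap A B))
    (hsm : ∀ (P : Ideal B) [P.IsPrime],
      (HomogeneousIdeal.irrelevant 𝒜).toIdeal ≤ P → Algebra.IsSmoothAt A P)
    [Module.Free A (HomogeneousIdeal.irrelevant 𝒜).toIdeal.Cotangent]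
    [Module.Finite A (HomogeneousIdeal.irrelevant 𝒜).toIdeal.Cotangent] :
    Nonempty (B ≃ₐ[A] MvPolynomial
      (Fin (Module.finrank A (HomogeneousIdeal.irrelevant 𝒜).toIdeal.Cotangent)) A) := by
  classical
  rcases subsingleton_or_nontrivial A with hA | hA
  · have : Subsingleton B := Module.subsingleton A B
    exact ⟨AlgEquiv.ofAlgHom
      ⟨⟨⟨⟨fun _ => 0, Subsingleton.elim _ _⟩, fun _ _ => Subsingleton.elim _ _⟩,
        Subsingleton.elim _ _, fun _ _ => Subsingleton.elim _ _⟩, fun _ => Subsingleton.elim _ _⟩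
      ⟨⟨⟨⟨fun _ => 0, Subsingleton.elim _ _⟩, fun _ _ => Subsingleton.elim _ _⟩,
        Subsingleton.elim _ _, fun _ _ => Subsingleton.elim _ _⟩, fun _ => Subsingleton.elim _ _⟩
      (Subsingleton.elim _ _) (Subsingleton.elim _ _)⟩
  set d := Module.finrank A (HomogeneousIdeal.irrelevant 𝒜).toIdeal.Cotangent
  let bC : Module.Basis (Fin d) A (HomogeneousIdeal.irrelevant 𝒜).toIdeal.Cotangent := Module.finBasis A (HomogeneousIdeal.irrelevant 𝒜).toIdeal.Cotangent
  obtain ⟨s, hsI, hsq, hsdeg⟩ := exists_graded_lift 𝒜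
  let P := MvPolynomial (Fin d) A
  let φ : P →ₐ[A] B := MvPolynomial.aeval fun i => s (bC i)
  have hzero : ∀ b ∈ 𝒜 0, b ∈ φ.range := fun b hb => by
    obtain ⟨a, rfl⟩ := (h0 b).1 hb
    exact φ.range.algebraMap_mem a
  have hsurj : ∀ n, ∀ b ∈ 𝒜 n, b ∈ φ.range := by
    intro n
    induction n using Nat.strong_induction_on with
    | _ n ih =>
      intro b hb
      rcases Nat.eq_zero_or_pos n with rfl | hn
      · exact hzero b hb
      have hbI : b ∈ (HomogeneousIdeal.irrelevant 𝒜).toIdeal := HomogeneousIdeal.mem_irrelevant_of_mem 𝒜 hn hb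
      have h1 : s (qB 𝒜 b) ∈ φ.range := by
        rw [← bC.sum_repr (qB 𝒜 b), map_sum]
        refine sum_mem fun i _ => ?_
        rw [map_smul]
        exact Subalgebra.smul_mem _ (φ.mem_range.2 ⟨X i, MvPolynomial.aeval_X _ i⟩) _
      have h2 : b - s (qB 𝒜 b) ∈ (HomogeneousIdeal.irrelevant 𝒜).toIdeal ^ 2 := (qB_eq_iff 𝒜 hbI (hsI _)).1 (hsq _).symm
      have h3 := proj_sq_mem_adjoin 𝒜 n φ.range (fun i _ hi => ih i hi) h2
      rw [GradedAlgebra.proj_apply,
        DirectSum.decompose_of_mem_same 𝒜 (sub_mem hb (hsdeg n hn b hb))] at h3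
      simpa using add_mem h3 h1
  have hφsurj : Function.Surjective φ := fun b => by
    have : b ∈ φ.range := by
      rw [← DirectSum.sum_support_decompose 𝒜 b]
      exact sum_mem fun i _ => hsurj i _ (SetLike.coe_mem _)
    exact this
  suffices hφinj : Function.Injective φ from ⟨(AlgEquiv.ofBijective φ ⟨hφinj, hφsurj⟩).symm⟩
  have hp0 : ∀ a : A, GradedAlgebra.proj 𝒜 0 (algebraMap A B a) = algebraMap A B a := fun a =>
    DirectSum.decompose_of_mem_same 𝒜 ((h0 _).2 ⟨a, rfl⟩)
  choose aug haug using fun b : B => (h0 (GradedAlgebra.proj 𝒜 0 b)).1 (SetLike.coe_mem _)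
  have haug_mul : ∀ b b', aug (b * b') = aug b * aug b' := fun b b' => hinj (by
    rw [map_mul, haug, haug, haug]
    exact map_mul (GradedRing.projZeroRingHom 𝒜) b b')
  have haug_add : ∀ b b', aug (b + b') = aug b + aug b' := fun b b' => hinj (by
    rw [map_add, haug, haug, haug, map_add])
  have haug_alg : ∀ a, aug (algebraMap A B a) = a := fun a => hinj (by rw [haug, hp0])
  have hsub : ∀ b, b - algebraMap A B (aug b) ∈ (HomogeneousIdeal.irrelevant 𝒜).toIdeal := fun b => by
    rw [mem_plus_iff, map_sub, hp0, haug, sub_self]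
  have hqB : ∀ b, qB 𝒜 b = (HomogeneousIdeal.irrelevant 𝒜).toIdeal.toCotangent ⟨b - algebraMap A B (aug b), hsub b⟩ := fun b => by
    show (HomogeneousIdeal.irrelevant 𝒜).toIdeal.toCotangent _ = _
    congr 1
    ext
    show b - GradedAlgebra.proj 𝒜 0 b = b - algebraMap A B (aug b)
    rw [haug]
  let J := idealOfVars (Fin d) A
  let L : (HomogeneousIdeal.irrelevant 𝒜).toIdeal.Cotangent →ₗ[A] P ⧸ J ^ 2 :=
    bC.constr A fun i => Ideal.Quotient.mk (J ^ 2) (X i)
  have hLJ : ∀ c, L c ∈ J.map (Ideal.Quotient.mk (J ^ 2)) := by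
    intro c
    rw [← bC.sum_repr c, map_sum]
    refine sum_mem fun i _ => ?_
    rw [map_smul, Module.Basis.constr_basis, Algebra.smul_def]
    exact Ideal.mul_mem_left _ _ (Ideal.mem_map_of_mem _ (Ideal.subset_span ⟨i, rfl⟩))
  have hJsq : ∀ x y, x ∈ J.map (Ideal.Quotient.mk (J ^ 2)) →
      y ∈ J.map (Ideal.Quotient.mk (J ^ 2)) → x * y = 0 := fun x y hx hy => by
    have := Ideal.mul_mem_mul hx hy
    rwa [← Ideal.map_mul, ← pow_two, Ideal.map_quotient_self, Ideal.mem_bot] at this
  let τ₂ : B →ₐ[A] P ⧸ J ^ 2 :=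
    { toFun := fun b => algebraMap A _ (aug b) + L (qB 𝒜 b)
      map_one' := by
        have : aug (1 : B) = 1 := by rw [← map_one (algebraMap A B), haug_alg]
        have hq1 : qB 𝒜 (1 : B) = 0 := by rw [hqB, Ideal.toCotangent_eq_zero]; simp [this]
        show algebraMap A _ (aug 1) + L (qB 𝒜 (1 : B)) = 1
        rw [hq1, map_zero, this, map_one, add_zero]
      map_mul' := fun b b' => by
        have hq : qB 𝒜 (b * b') = aug b • qB 𝒜 b' + aug b' • qB 𝒜 b := by
          have h0' : (b - algebraMap A B (aug b)) * (b' - algebraMap A B (aug b')) ∈ (HomogeneousIdeal.irrelevant 𝒜).toIdeal ^ 2 := by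
            rw [pow_two]; exact Ideal.mul_mem_mul (hsub b) (hsub b')
          simp only [hqB, ← map_smul, ← map_add, ← LinearMap.map_smul_of_tower]
          rw [Ideal.toCotangent_eq]
          convert h0' using 1
          simp only [haug_mul, map_mul, Submodule.coe_add, Submodule.coe_smul_of_tower,
            Algebra.smul_def]
          ring
        rw [hq, haug_mul, map_mul, map_add, map_smul, map_smul, Algebra.smul_def, Algebra.smul_def]
        linear_combination (-1 : P ⧸ J ^ 2) * hJsq _ _ (hLJ (qB 𝒜 b)) (hLJ (qB 𝒜 b'))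
      map_zero' := by
        have : aug (0 : B) = 0 := by rw [← map_zero (algebraMap A B), haug_alg]
        show algebraMap A _ (aug 0) + L (qB 𝒜 (0 : B)) = 0
        rw [map_zero (qB 𝒜), map_zero L, this, map_zero, add_zero]
      map_add' := fun b b' => by rw [haug_add, map_add, map_add, map_add]; ring
      commutes' := fun a => by
        have : qB 𝒜 (algebraMap A B a) = 0 := by rw [hqB, Ideal.toCotangent_eq_zero]; simp [haug_alg]
        show algebraMap A _ (aug (algebraMap A B a)) + L (qB 𝒜 (algebraMap A B a)) = _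
        rw [this, map_zero, haug_alg, add_zero] }
  have hτX : ∀ i, τ₂ (s (bC i)) = Ideal.Quotient.mk (J ^ 2) (X i) := fun i => by
    have : aug (s (bC i)) = 0 := hinj (by rw [haug, map_zero, (mem_plus_iff 𝒜 _).1 (hsI _)])
    show algebraMap A _ (aug (s (bC i))) + L (qB 𝒜 (s (bC i))) = _
    rw [this, hsq, map_zero, zero_add, Module.Basis.constr_basis]
  have : Algebra.FinitePresentation A B := Algebra.FinitePresentation.of_finiteType.mp inferInstance
  obtain ⟨a, ha⟩ := (PrimeSpectrum.isClosed_iff_zeroLocus_ideal _).1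
    (Algebra.isOpen_smoothLocus (R := A) (A := B)).isClosed_compl
  have hcop : a ⊔ (HomogeneousIdeal.irrelevant 𝒜).toIdeal = ⊤ := by
    by_contra h
    obtain ⟨M, hM, hle⟩ := Ideal.exists_le_maximal _ h
    have hmem : (⟨M, hM.isPrime⟩ : PrimeSpectrum B) ∈ PrimeSpectrum.zeroLocus (a : Set B) :=
      le_trans le_sup_left hle
    rw [← ha] at hmem
    exact hmem (@hsm M hM.isPrime (le_trans le_sup_right hle))
  obtain ⟨g, hg, e, he, hge⟩ := Submodule.mem_sup.1 (hcop.symm ▸ Submodule.mem_top : (1 : B) ∈ a ⊔ (HomogeneousIdeal.irrelevant 𝒜).toIdeal)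
  have : Algebra.FormallySmooth A (Localization.Away g) := by
    rw [← Algebra.basicOpen_subset_smoothLocus_iff]
    intro p hp
    by_contra hps
    have : p ∈ PrimeSpectrum.zeroLocus (a : Set B) := ha ▸ hps
    exact hp (this hg)
  have hgu : ∀ y : Submonoid.powers g, IsUnit (τ₂ y) := by
    rintro ⟨_, k, rfl⟩
    show IsUnit (τ₂ (g ^ k))
    rw [map_pow]
    refine IsUnit.pow _ ?_
    have : aug g = 1 := by
      apply hinj
      rw [haug, map_one, eq_sub_of_add_eq hge, map_sub, (mem_plus_iff 𝒜 e).1 he, sub_zero]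
      exact DirectSum.decompose_of_mem_same 𝒜 SetLike.GradedOne.one_mem
    show IsUnit (algebraMap A _ (aug g) + L (qB 𝒜 g))
    rw [this, map_one]
    exact IsNilpotent.isUnit_one_add ⟨2, (pow_two _).trans (hJsq _ _ (hLJ _) (hLJ _))⟩
  let τg : Localization.Away g →ₐ[A] P ⧸ J ^ 2 :=
    IsLocalization.liftAlgHom (M := Submonoid.powers g) (f := τ₂) hgu
  rw [injective_iff_map_eq_zero]
  intro f hf
  refine eq_zero_of_forall_mem_pow f fun m => ?_
  suffices f ∈ J ^ (m + 2) from Ideal.pow_le_pow_right (by omega) this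
  have hle : J ^ (m + 2) ≤ J ^ 2 := Ideal.pow_le_pow_right (by omega)
  let fac : P ⧸ J ^ (m + 2) →ₐ[A] P ⧸ J ^ 2 := Ideal.Quotient.factorₐ A hle
  have hfac : Function.Surjective fac := Ideal.Quotient.factor_surjective hle
  have hker : RingHom.ker (fac : P ⧸ J ^ (m + 2) →+* P ⧸ J ^ 2) =
      (J ^ 2).map (Ideal.Quotient.mk (J ^ (m + 2))) := Ideal.Quotient.factor_ker hle
  have hnil : IsNilpotent (RingHom.ker (fac : P ⧸ J ^ (m + 2) →+* P ⧸ J ^ 2)) := by
    refine ⟨m + 2, ?_⟩
    rw [hker, ← Ideal.map_pow, ← pow_mul, Submodule.zero_eq_bot, eq_bot_iff,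
      ← Ideal.map_quotient_self (J ^ (m + 2))]
    exact Ideal.map_mono (Ideal.pow_le_pow_right (by omega))
  let τ := (Algebra.FormallySmooth.liftOfSurjective τg fac hfac hnil).comp
    (IsScalarTower.toAlgHom A B (Localization.Away g))
  have hτ : ∀ b, fac (τ b) = τ₂ b := fun b => by
    show fac (Algebra.FormallySmooth.liftOfSurjective τg fac hfac hnil _) = _
    erw [Algebra.FormallySmooth.liftOfSurjective_apply]
    exact IsLocalization.lift_eq hgu b
  refine mem_pow_of_unipotent J rfl (τ.comp φ) (fun i => ?_) f (by simp [hf])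
  rw [← hker, RingHom.mem_ker]
  show fac (τ (φ (X i)) - _) = 0
  rw [map_sub, hτ]
  show τ₂ (φ (X i)) - _ = 0
  rw [show φ (X i) = s (bC i) from MvPolynomial.aeval_X _ i, hτX]
  exact sub_eq_zero.2 rfl

/-- Let k be a field, A a finitely generated k-algebra and B a finitely generated A-algebra graded by
the natural numbers as an A-algebra, with degree-zero part equal to the image of A and A → B
injective; let B₊ be the irrelevant ideal. So Spec B → Spec A is the retraction of an affine scheme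
with an action of the multiplicative monoid of the affine line onto its fixed-point scheme, with
zero section cut out by B₊; this is the affine-local graded form, for that monoid, of the published
statement, which covers any Kempf monoid M with unit group G and a k-scheme X locally of finite
type, and concludes that the retraction X⁺ → X^G is an affine-space bundle near a fixed point at
whose section value it is smooth. Assume that A → B is smooth at every prime ideal containing B₊ and
that B₊/B₊² is a free A-module of finite rank. Then B is isomorphic, as an A-algebra, to the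
polynomial ring over A in (rank of B₊/B₊²) variables. (The published statement also makes the
isomorphism equivariant for a suitable linear action when G is linearly reductive; only the
existence of an A-algebra isomorphism is stated here. Freeness of the conormal module holds after
shrinking the base, which is how the published proof reaches this situation.) -/
theorem result (k : Type u) [Field k]
    (A B : Type u) [CommRing A] [CommRing B] [Algebra k A] [Algebra k B] [Algebra A B] [IsScalarTower k A B]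
    [Algebra.FiniteType k A] [Algebra.FiniteType A B] (𝒜 : ℕ → Submodule A B) [GradedAlgebra 𝒜]
    (h0 : ∀ b : B, b ∈ 𝒜 0 ↔ b ∈ Set.range (algebraMap A B)) (hinj : Function.Injective (algebraMap A B))
    (hsm : ∀ (P : Ideal B) [P.IsPrime], (HomogeneousIdeal.irrelevant 𝒜).toIdeal ≤ P → Algebra.IsSmoothAt A P)
    [Module.Free A (HomogeneousIdeal.irrelevant 𝒜).toIdeal.Cotangent]
    [Module.Finite A (HomogeneousIdeal.irrelevant 𝒜).toIdeal.Cotangent] :
    Nonempty (B ≃ₐ[A]
      MvPolynomial (Fin (Module.finrank A (HomogeneousIdeal.irrelevant 𝒜).toIdeal.Cotangent)) A) := by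
  have : IsNoetherianRing A := Algebra.FiniteType.isNoetherianRing k A
  exact main 𝒜 h0 hinj hsm

end Groth.Agent.S18961
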