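import Groth.Statements.S18964
import Groth.Agent.MonEqvLib.Cover
import Groth.Agent.S18955

set_option autoImplicit false
set_option backward.isDefEq.respectTransparency false
set_option backward.isDefEq.respectTransparency.types false
set_option maxRecDepth 8000
set_option maxHeartbeats 1000000
universe u
open CategoryTheory MonoidalCategory CartesianMonoidalCategory MonObj AlgebraicGeometry Opposite
open Magnet

namespace Groth.Agent.S18964

/-- Let k be a field, M an affine monoid k-scheme, G an affine group k-scheme and i : G → M a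
homomorphism of monoids which is an open immersion with scheme-theoretically dense image; let o :
Spec k → M be a zero of M (m·o = o = o·m), and assume that for every k-scheme T whose underlying
scheme is the spectrum of a field, every open subset of M ×_k T which is stable under G acting by
left multiplication through i on the first factor and contains the zero section is the whole of M
×_k T. Let X be a k-scheme with an action aX of G such that the G-stable affine open subsets U of X
cover the fixed points: for every k-scheme T and every G-fixed T-valued point x of X, the preimages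
under x of the G-stable affine opens cover T (equivalently, the open subfunctors U^G cover X^G; this
holds when X is locally linear, i.e. every point has a G-stable affine open neighbourhood). Then the
functor D_X on k-schemes, whose value at Y is the set of k-morphisms M ×_k Y → X that are
G-equivariant for G acting on M ×_k Y by left multiplication through i on the first factor, is
representable by a k-scheme. (In the source M is a Kempf monoid with G its group of units;
affineness of G, density and openness of G in M and the displayed property of G-stable opens over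
field extensions are the consequences of that hypothesis which the argument uses.) -/
theorem result (k : Type u) [Field k]
    (M G X : Over (Spec (CommRingCat.of k))) [MonObj M] [GrpObj G] [IsAffine M.left] [IsAffine G.left]
    (i : G ⟶ M) [IsMonHom i] [IsOpenImmersion i.left] [IsSchemeTheoreticallyDominant i.left]
    (o : 𝟙_ (Over (Spec (CommRingCat.of k))) ⟶ M)
    (ho : ∀ (T : Over (Spec (CommRingCat.of k))) (m : T ⟶ M), m * (toUnit T ≫ o) = toUnit T ≫ o ∧ (toUnit T ≫ o) * m = toUnit T ≫ o)
    (hM : ∀ (T : Over (Spec (CommRingCat.of k))) (K : Type u) [Field K] (eT : T.left ≅ Spec (CommRingCat.of K))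
      (W : (M ⊗ T).left.Opens),
      (CartesianMonoidalCategory.snd G (M ⊗ T)).left ⁻¹ᵁ W ≤
          ((((Magnet.MonAct.regular M).restrict i).prod (Magnet.MonAct.trivial G T)).act).left ⁻¹ᵁ W →
      (CartesianMonoidalCategory.lift (toUnit T ≫ o) (𝟙 T)).left ⁻¹ᵁ W = ⊤ → W = ⊤)
    (aX : AlgGrp.Action G X)
    (hcov : ∀ (T : Over (Spec (CommRingCat.of k))) (x : (Magnet.MonAct.fixedPsh (Magnet.MonAct.ofAction aX)).obj (op T)),
      ⨆ (U : X.left.Opens) (_ : IsAffineOpen U ∧ (CartesianMonoidalCategory.snd G X).left ⁻¹ᵁ U ≤ aX.act.left ⁻¹ᵁ U),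
        x.1.left ⁻¹ᵁ U = ⊤) :
    ∃ Z : Over (Spec (CommRingCat.of k)),
      Nonempty ((Magnet.MonAct.eqvHom ((Magnet.MonAct.regular M).restrict i) (Magnet.MonAct.ofAction aX)).RepresentableBy Z) := by
  classical
  haveI : QuasiCompact i.left := inferInstance
  let b := Magnet.MonAct.ofAction aX
  let ρ := (Magnet.MonAct.regular M).restrict i
  let Idx := {U : X.left.Opens // IsAffineOpen U ∧
    (CartesianMonoidalCategory.snd G X).left ⁻¹ᵁ U ≤ aX.act.left ⁻¹ᵁ U}
  choose aU haU using fun U : Idx => MonEqvLib.exists_openAction aX U.1 U.2.2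
  let UO : Idx → Over (Spec (CommRingCat.of k)) := fun U => Over.mk (U.1.ι ≫ X.hom)
  let j : ∀ U : Idx, UO U ⟶ X := fun U => Over.homMk U.1.ι rfl
  haveI hjo : ∀ U : Idx, IsOpenImmersion (j U).left := fun U => inferInstanceAs (IsOpenImmersion U.1.ι)
  haveI : ∀ U : Idx, Mono (j U) := fun U => MonEqvLib.whiskerLeft_mono (j U)
  have hrep : ∀ U : Idx, ∃ Z : Over (Spec (CommRingCat.of k)),
      Nonempty ((Magnet.MonAct.eqvHom ρ (Magnet.MonAct.ofAction (aU U))).RepresentableBy Z) := fun U => by
    haveI : IsAffine (UO U).left := U.2.1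
    obtain ⟨Z, -, e, -, -⟩ := Groth.Agent.S18955.result k M G (UO U) i (aU U)
    exact ⟨Z, ⟨e⟩⟩
  choose Z he using hrep
  let e := fun U => Classical.choice (he U)
  let pc : ∀ U : Idx, Magnet.MonAct.eqvHom ρ (Magnet.MonAct.ofAction (aU U)) ⟶ Magnet.MonAct.eqvHom ρ b :=
    fun U => Magnet.MonAct.eqvHom.postcomp ρ (j U) (haU U)
  let ξ : ∀ U : Idx, (Magnet.MonAct.eqvHom ρ b).obj (op (Z U)) := fun U =>
    (pc U).app _ ((e U).homEquiv (𝟙 (Z U)))
  have hξ : ∀ (U : Idx) (T : Over (Spec (CommRingCat.of k))) (v : T ⟶ Z U),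
      (Magnet.MonAct.eqvHom ρ b).map v.op (ξ U) = (pc U).app _ ((e U).homEquiv v) := fun U T v => by
    refine (NatTrans.naturality_apply (pc U) v.op _).symm.trans (congrArg _ ?_)
    exact ((e U).homEquiv_eq v).symm
  let ev : ∀ {T : Over (Spec (CommRingCat.of k))}, (Magnet.MonAct.eqvHom ρ b).obj (op T) → (T ⟶ X) :=
    fun {T} z => lift (toUnit T ≫ o) (𝟙 T) ≫ z.1
  have hev : ∀ {T T' : Over (Spec (CommRingCat.of k))} (g : T' ⟶ T)
      (z : (Magnet.MonAct.eqvHom ρ b).obj (op T)), ev ((Magnet.MonAct.eqvHom ρ b).map g.op z) = g ≫ ev z :=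
    fun g z => by simp [ev, comp_lift_assoc]
  refine RepCoverLib.exists_rep (MonEqvLib.isZarSheaf_eqvHom ρ b) Z ξ ?_
    (fun U T z => (ev z).left ⁻¹ᵁ U.1) ?_ ?_ ?_
  · intro U T v v' h
    rw [hξ, hξ] at h
    exact (e U).homEquiv.injective (Subtype.ext ((cancel_mono (j U)).mp (congrArg Subtype.val h)))
  · intro U T z
    let O : T.left.Opens := (ev z).left ⁻¹ᵁ U.1
    let T' : Over (Spec (CommRingCat.of k)) := Over.mk (O.ι ≫ T.hom)
    let q : T' ⟶ T := RepCoverLib.oo O
    let z' := (Magnet.MonAct.eqvHom ρ b).map q.op z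
    have hr : Set.range (q ≫ ev z).left ⊆ Set.range (j U).left := by
      rintro _ ⟨w, rfl⟩
      change _ ∈ Set.range U.1.ι
      rw [Scheme.Opens.range_ι]
      exact w.2
    let zl : T' ⟶ UO U := Over.homMk (IsOpenImmersion.lift (j U).left (q ≫ ev z).left hr) (by
      rw [← Over.w (j U), IsOpenImmersion.lift_fac_assoc, Over.w (q ≫ ev z)])
    have hzl : zl ≫ j U = q ≫ ev z := Over.OverMorphism.ext (IsOpenImmersion.lift_fac _ _ hr)
    obtain ⟨χ, hχ⟩ := MonEqvLib.exists_lift_open i o aX (aU U) (j U) (haU U) hM z'.1 z'.2 zl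
      ((hev q z).trans hzl.symm)
    have hχe : Magnet.MonAct.IsEquivariant (ρ.prod (Magnet.MonAct.trivial G T'))
        (Magnet.MonAct.ofAction (aU U)) χ := by
      have h : _ = _ := z'.2
      have hj' : _ = _ := haU U
      unfold Magnet.MonAct.IsEquivariant
      refine (cancel_mono (j U)).mp ?_
      rw [Category.assoc, hχ, Category.assoc, hj', ← Category.assoc, ← MonoidalCategory.whiskerLeft_comp, hχ]
      exact h
    refine ⟨(e U).homEquiv.symm ⟨χ, hχe⟩, ?_⟩
    rw [hξ, Equiv.apply_symm_apply]
    exact Subtype.ext hχ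
  · intro U T z T' g v h
    rw [hξ] at h
    have h' : g ≫ ev z = (lift (toUnit T' ≫ o) (𝟙 T') ≫ ((e U).homEquiv v).1) ≫ j U := by
      rw [← hev g z, ← h, Category.assoc]
      rfl
    rintro _ ⟨w, rfl⟩
    change (ev z).left (g.left w) ∈ U.1
    rw [← Scheme.Hom.comp_apply, ← Over.comp_left, h', Over.comp_left, Scheme.Hom.comp_apply]
    exact (Scheme.Opens.range_ι U.1).le ⟨_, rfl⟩
  · intro T z x
    have hfix : ∀ (R : Over (Spec (CommRingCat.of k))) (t : R ⟶ T) (g : R ⟶ G),
        lift g (t ≫ ev z) ≫ b.act = t ≫ ev z := fun R t g => by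
      have h := (Magnet.MonAct.mem_eqvHom_iff z.1).mp z.2 R g (toUnit R ≫ o) t
      rw [Magnet.MonAct.lift_restrict_act, Magnet.MonAct.lift_regular_act, (ho R (g ≫ i)).1] at h
      have e1 : t ≫ ev z = lift (toUnit R ≫ o) t ≫ z.1 := by simp [ev, comp_lift_assoc]
      rw [e1]
      exact h.symm
    have hx : x ∈ (⊤ : T.left.Opens) := trivial
    rw [← hcov T ⟨ev z, hfix⟩] at hx
    simp only [TopologicalSpace.Opens.mem_iSup] at hx
    obtain ⟨U, hU, hxU⟩ := hx
    exact ⟨⟨U, hU⟩, hxU⟩

end Groth.Agent.S18964
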