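import Groth.Statements.S18974
import Mathlib.RingTheory.Derivation.Basic
import Mathlib.Algebra.Polynomial.Derivative
import Mathlib.Algebra.Module.Rat
import Mathlib.Tactic.FieldSimp
import Mathlib.Tactic.LinearCombination

set_option autoImplicit false
universe u
open CAlg

namespace Groth.Agent.S18974

/-- Let A be a commutative algebra over the rationals, D a locally nilpotent derivation of A and a an
element with D a = 1; write A' for the quotient of A by the ideal generated by a. Then there is a
ring isomorphism from A onto the polynomial ring A'[Y] which sends every x to the (finite) sum over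
n of (1/n!) (class of D^n x) Y^n; its inverse sends Y to a and the constant polynomial on the class
of x to the sum over n of ((-1)^n/n!) (D^n x) a^n, and under it D corresponds to the derivative
d/dY. (The source says only that A is a ring, in a setting over a field of characteristic zero; the
rational coefficients 1/n! require an algebra over the rationals, which is the hypothesis taken
here. Both sums are written over any range beyond which the iterates of D vanish at x.) -/
theorem result
    (A : Type u) [CommRing A] [Algebra ℚ A] (D : Derivation ℚ A A)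
    (hnil : ∀ x : A, ∃ n : ℕ, ((D : A →ₗ[ℚ] A) ^ n) x = 0) (a : A) (ha : D a = 1) :
    ∃ χ : A ≃+* Polynomial (A ⧸ Ideal.span ({a} : Set A)),
      (∀ (x : A) (N : ℕ), ((D : A →ₗ[ℚ] A) ^ N) x = 0 →
        χ x = ∑ n ∈ Finset.range N,
          ((n.factorial : ℚ)⁻¹ • Polynomial.C (Ideal.Quotient.mk (Ideal.span ({a} : Set A)) (((D : A →ₗ[ℚ] A) ^ n) x))) *
            Polynomial.X ^ n) ∧
      χ.symm Polynomial.X = a ∧
      (∀ (x : A) (N : ℕ), ((D : A →ₗ[ℚ] A) ^ N) x = 0 →
        χ.symm (Polynomial.C (Ideal.Quotient.mk (Ideal.span ({a} : Set A)) x)) =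
          ∑ n ∈ Finset.range N, (((-1 : ℚ) ^ n * (n.factorial : ℚ)⁻¹) • ((((D : A →ₗ[ℚ] A) ^ n) x) * a ^ n))) ∧
      ∀ p : Polynomial (A ⧸ Ideal.span ({a} : Set A)), χ (D (χ.symm p)) = Polynomial.derivative p := by
  classical
  set J := Ideal.span ({a} : Set A) with hJ
  let Dn : ℕ → A → A := fun n x => ((D : A →ₗ[ℚ] A) ^ n) x
  have hD0 : ∀ x, Dn 0 x = x := fun x => rfl
  have hDs : ∀ n x, Dn (n + 1) x = Dn n (D x) := fun n x => by simp [Dn, pow_succ]
  have hDs' : ∀ n x, Dn (n + 1) x = D (Dn n x) := fun n x => by simp [Dn, pow_succ']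
  have hmono : ∀ x N m, Dn N x = 0 → N ≤ m → Dn m x = 0 := fun x N m h hle => by
    obtain ⟨e, rfl⟩ := Nat.exists_eq_add_of_le hle
    simp only [Dn, add_comm N e, pow_add, Module.End.mul_apply] at h ⊢
    rw [h, map_zero]
  choose N hN using hnil
  let c : ℕ → ℚ := fun n => (n.factorial : ℚ)⁻¹
  have hc : ∀ n, c (n + 1) * (n + 1 : ℕ) = c n := fun n => by
    simp only [c, Nat.factorial_succ, Nat.cast_mul, mul_inv]
    field_simp
  let T : A → ℕ → Polynomial (A ⧸ J) := fun x M =>
    ∑ n ∈ Finset.range M, ((c n) • Polynomial.C (Ideal.Quotient.mk J (Dn n x))) * Polynomial.X ^ n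
  let χ : A → Polynomial (A ⧸ J) := fun x => T x (N x)
  have hcoeff : ∀ x M, Dn M x = 0 → ∀ n, (T x M).coeff n = c n • Ideal.Quotient.mk J (Dn n x) := by
    intro x M hM n
    simp only [T, Polynomial.smul_C, Polynomial.finsetSum_coeff, Polynomial.coeff_C_mul_X_pow,
      Finset.sum_ite_eq, Finset.mem_range]
    split_ifs with h
    · rfl
    · rw [hmono x M n hM (not_lt.1 h), map_zero, smul_zero]
  have hχc : ∀ x n, (χ x).coeff n = c n • Ideal.Quotient.mk J (Dn n x) := fun x => hcoeff x (N x) (hN x)
  have hadd : ∀ x y, χ (x + y) = χ x + χ y := fun x y => Polynomial.ext fun n => by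
    simp only [Polynomial.coeff_add, hχc, Dn, map_add, smul_add]
  have hχ0 : ∀ x, (χ x).coeff 0 = Ideal.Quotient.mk J x := fun x => by simp [hχc, c, hD0]
  have hder : ∀ x, Polynomial.derivative (χ x) = χ (D x) := fun x => Polynomial.ext fun n => by
    rw [Polynomial.coeff_derivative, hχc, hχc, hDs, smul_mul_assoc, ← hc n, mul_smul, Nat.cast_smul_eq_nsmul,
      nsmul_eq_mul, ← Nat.cast_succ, mul_comm]
  haveI : IsAddTorsionFree (A ⧸ J) := IsAddTorsionFree.of_module_rat _
  have heqder : ∀ p q : Polynomial (A ⧸ J), Polynomial.derivative p = Polynomial.derivative q →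
      p.coeff 0 = q.coeff 0 → p = q := fun p q h h0 => Polynomial.ext fun n => by
    rcases n with _ | n
    · exact h0
    have h1 := congrArg (fun r => Polynomial.coeff r n) h
    simp only [Polynomial.coeff_derivative] at h1
    rw [← Nat.cast_succ, mul_comm, ← nsmul_eq_mul, mul_comm, ← nsmul_eq_mul] at h1
    exact (nsmul_right_inj n.succ_ne_zero).1 h1
  have hmul : ∀ x y, χ (x * y) = χ x * χ y := by
    suffices ∀ m x y, ∀ i j, Dn i x = 0 → Dn j y = 0 → i + j ≤ m → χ (x * y) = χ x * χ y from
      fun x y => this _ x y (N x) (N y) (hN x) (hN y) le_rfl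
    intro m
    have hz : χ 0 = 0 := Polynomial.ext fun n => by simp [hχc, Dn]
    induction m with
    | zero =>
      intro x y i j hi _ hij
      obtain rfl : i = 0 := by omega
      rw [hD0] at hi
      rw [hi, zero_mul, hz, zero_mul]
    | succ m ih =>
      intro x y i j hi hj hij
      rcases i with _ | i
      · rw [hD0] at hi
        rw [hi, zero_mul, hz, zero_mul]
      rcases j with _ | j
      · rw [hD0] at hj
        rw [hj, mul_zero, hz, mul_zero]
      refine heqder _ _ ?_ ?_
      · rw [hder, D.leibniz, smul_eq_mul, smul_eq_mul, hadd,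
          ih x (D y) (i + 1) j hi (by rw [← hDs]; exact hj) (by omega),
          ih y (D x) (j + 1) i hj (by rw [← hDs]; exact hi) (by omega),
          Polynomial.derivative_mul, hder, hder]
        ring
      · rw [Polynomial.mul_coeff_zero, hχ0, hχ0, hχ0, map_mul]
  have hD1 : ∀ n, Dn (n + 1) 1 = 0 := fun n => by rw [hDs, D.map_one_eq_zero]; simp [Dn]
  have hone : χ 1 = 1 := heqder _ _ (Polynomial.ext fun n => by simp [hder, hχc, Dn])
    (by rw [hχ0, map_one, Polynomial.coeff_one_zero])
  let φ : A →+* Polynomial (A ⧸ J) :=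
    { toFun := χ, map_one' := hone, map_mul' := hmul,
      map_zero' := Polynomial.ext fun n => by simp [hχc, Dn]
      map_add' := hadd }
  have hφa : φ a = Polynomial.X := heqder _ _ (by
      rw [show φ a = χ a from rfl, hder, ha, hone, Polynomial.derivative_X]) (by
      rw [show φ a = χ a from rfl, hχ0, Polynomial.coeff_X_zero, Ideal.Quotient.eq_zero_iff_mem]
      exact Ideal.mem_span_singleton_self a)
  -- constants in (a) vanish
  have hconst : ∀ z, D z = 0 → z ∈ J → z = 0 := by
    intro z hz hmem
    obtain ⟨y, rfl⟩ := Ideal.mem_span_singleton'.1 hmem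
    rw [D.leibniz, ha, smul_eq_mul, smul_eq_mul, mul_one] at hz
    have key : ∀ n, ((n + 1 : ℕ) : A) * Dn n y + a * Dn (n + 1) y = 0 := by
      intro n
      induction n with
      | zero => rw [hD0, hDs', hD0, Nat.cast_one, one_mul]; exact hz
      | succ n ih =>
        have h1 := congrArg D ih
        rw [map_add, D.leibniz, D.leibniz, D.map_natCast, ha, ← hDs' n, ← hDs' (n + 1), map_zero] at h1
        simp only [smul_eq_mul] at h1
        push_cast at h1 ⊢
        linear_combination h1
    have hdown : ∀ i n, n + i = N y → Dn n y = 0 := by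
      intro i
      induction i with
      | zero => intro n hn; rw [show n = N y by omega]; exact hN y
      | succ i ih =>
        intro n hn
        have h1 := key n
        rw [ih (n + 1) (by omega), mul_zero, add_zero, ← nsmul_eq_mul] at h1
        haveI : IsAddTorsionFree A := IsAddTorsionFree.of_module_rat _
        exact (nsmul_eq_zero_iff.1 h1).resolve_right n.succ_ne_zero
    rw [show y = 0 from hdown (N y) 0 (by omega), zero_mul]
  have hinj : Function.Injective φ := by
    rw [injective_iff_map_eq_zero]
    intro x hx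
    have h0 : ∀ n, Dn n x ∈ J := fun n => by
      have h1 := congrArg (fun r => Polynomial.coeff r n) hx
      simp only [Polynomial.coeff_zero] at h1
      rw [show φ x = χ x from rfl, hχc] at h1
      rw [← Ideal.Quotient.eq_zero_iff_mem]
      exact (smul_eq_zero.1 h1).resolve_left (inv_ne_zero (Nat.cast_ne_zero.2 n.factorial_ne_zero))
    have hdown : ∀ i n, n + i = N x → Dn n x = 0 := by
      intro i
      induction i with
      | zero => intro n hn; rw [show n = N x by omega]; exact hN x
      | succ i ih =>
        intro n hn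
        exact hconst _ (by rw [← hDs']; exact ih (n + 1) (by omega)) (h0 n)
    exact hdown (N x) 0 (by omega)
  let sec : A → ℕ → A := fun x M =>
    ∑ n ∈ Finset.range M, ((-1 : ℚ) ^ n * c n) • (Dn n x * a ^ n)
  have hsecD : ∀ x M, D (sec x (M + 1)) = ((-1 : ℚ) ^ M * c M) • (Dn (M + 1) x * a ^ M) := by
    intro x M
    induction M with
    | zero => simp [sec, c, hD0, hDs]
    | succ M ih =>
      have hsplit : sec x (M + 1 + 1) = sec x (M + 1) +
          ((-1 : ℚ) ^ (M + 1) * c (M + 1)) • (Dn (M + 1) x * a ^ (M + 1)) := Finset.sum_range_succ _ _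
      rw [hsplit, map_add, ih, D.map_smul, D.leibniz, D.leibniz_pow, ha, ← hDs']
      simp only [smul_eq_mul, Nat.add_sub_cancel, mul_one]
      rw [← hc M, nsmul_eq_mul, smul_add]
      simp only [Algebra.smul_def, map_mul, map_pow, map_neg, map_one, map_natCast]
      ring
  have hsecC : ∀ x M, Dn M x = 0 → φ (sec x M) = Polynomial.C (Ideal.Quotient.mk J x) := by
    intro x M hM
    rcases M with _ | M
    · rw [hD0] at hM
      simp [sec, hM]
    refine heqder _ _ ?_ ?_
    · rw [show φ (sec x (M + 1)) = χ (sec x (M + 1)) from rfl, hder, hsecD, hM, zero_mul, smul_zero,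
        Polynomial.derivative_C]
      exact map_zero φ
    · rw [show φ (sec x (M + 1)) = χ (sec x (M + 1)) from rfl, hχ0, Polynomial.coeff_C_zero]
      simp only [sec]
      rw [Finset.sum_range_succ', map_add, map_sum, Finset.sum_eq_zero (fun n _ => ?_)]
      · simp [c, hD0]
      · rw [Ideal.Quotient.eq_zero_iff_mem, Algebra.smul_def]
        exact J.mul_mem_left _ (J.mul_mem_left _ (J.pow_mem_of_mem (Ideal.mem_span_singleton_self a) _ n.succ_pos))
  have hsurj : Function.Surjective φ := by
    intro p
    induction p using Polynomial.induction_on' with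
    | add p q hp hq =>
      obtain ⟨x, rfl⟩ := hp
      obtain ⟨y, rfl⟩ := hq
      exact ⟨x + y, map_add φ x y⟩
    | monomial n r =>
      obtain ⟨x, rfl⟩ := Ideal.Quotient.mk_surjective r
      exact ⟨sec x (N x) * a ^ n, by
        rw [map_mul, map_pow, hφa, hsecC x (N x) (hN x), Polynomial.C_mul_X_pow_eq_monomial]⟩
  let e := RingEquiv.ofBijective φ ⟨hinj, hsurj⟩
  have hsymm : ∀ x, φ x = e x := fun x => rfl
  refine ⟨e, fun x M hM => ?_, ?_, fun x M hM => ?_, fun p => ?_⟩
  · refine Polynomial.ext fun n => (hχc x n).trans (hcoeff x M hM n).symm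
  · rw [RingEquiv.symm_apply_eq]; exact hφa.symm
  · rw [RingEquiv.symm_apply_eq, ← hsymm]
    exact (hsecC x M hM).symm
  · obtain ⟨x, rfl⟩ := e.surjective p
    rw [RingEquiv.symm_apply_apply]
    exact (hder x).symm

end Groth.Agent.S18974
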