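import Groth.Statements.S18979
import Groth.Agent.SemiStabLib.Main
import Groth.Agent.SemiStabLib.Tors

set_option autoImplicit false
set_option backward.isDefEq.respectTransparency false
set_option backward.isDefEq.respectTransparency.types false
set_option maxHeartbeats 1600000
set_option synthInstance.maxHeartbeats 400000
set_option backward.isDefEq.respectTransparency false
set_option backward.isDefEq.respectTransparency.types false
set_option maxHeartbeats 1000000
set_option synthInstance.maxHeartbeats 400000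
universe u
open CategoryTheory MonoidalCategory CartesianMonoidalCategory MonObj AlgebraicGeometry
open GIT

namespace Groth.Agent.S18979
attribute [-instance] CategoryTheory.Hom.commGroup
attribute [local instance] BorelLib.pTop BorelLib.pTopTensor
open scoped MonObj

/-- Over an algebraically closed field k of characteristic zero, let G be a smooth affine group scheme
of finite type over k which is a split extension of a torus T by a closed normal subgroup scheme U:
U is the kernel of a homomorphism p : G → T which has a homomorphic section T → G, and U is smooth,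
connected and contains no non-trivial subtorus (so U is unipotent and G = U ⋊ T). Let G act on a
separated k-scheme X of finite type and let x be a geometric point of X (with values in an
algebraically closed field Ω) whose stabiliser in U is trivial. Then the stabiliser of x in G is
finite if and only if, for every Ω-point u of U, the stabiliser in T of u · x is finite. (Points of
the source are rendered as geometric points; unipotence of U is expressed as having no non-trivial
subtorus, equivalent for smooth connected U.) -/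
theorem result
    (k : Type u) [Field k] [IsAlgClosed k] [CharZero k]
    (G U T X : Over (Spec (CommRingCat.of k))) [GrpObj G] [GrpObj U] [GrpObj T]
    [IsAffine G.left] [LocallyOfFiniteType G.hom] [Smooth G.hom]
    (iU : U ⟶ G) [IsMonHom iU] [IsClosedImmersion iU.left] (hnorm : AlgGrp.IsNormalHom iU)
    [Smooth U.hom] [ConnectedSpace U.left] (hU : Red.HasNoSubtorus k U)
    (hT : Red.IsTorus T) (p : G ⟶ T) [IsMonHom p] (hker : AlgGrp.IsKernel iU p)
    (iT : T ⟶ G) [IsMonHom iT] (hsplit : iT ≫ p = 𝟙 T)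
    [LocallyOfFiniteType X.hom] [QuasiCompact X.hom] [IsSeparated X.hom]
    (a : AlgGrp.Action G X)
    (Ω : Type u) [Field Ω] [IsAlgClosed Ω] (P : Over (Spec (CommRingCat.of k)))
    (e : P.left ≅ Spec (CommRingCat.of Ω)) (x : P ⟶ X)
    (hfree : IsIso (GLinSh.stabTo (a.restrict iU) x)) :
    IsFinite (GLinSh.stabTo a x) ↔
      ∀ u : P ⟶ U, IsFinite (GLinSh.stabTo (a.restrict iT) (lift (u ≫ iU) x ≫ a.act)) := by
  classical
  let t : Spec (CommRingCat.of Ω) ⟶ Spec (CommRingCat.of k) := e.inv ≫ P.hom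
  haveI : IsReduced P.left := isReduced_of_isOpenImmersion e.hom
  haveI : IsAffine U.left := isAffine_of_isAffineHom iU.left
  haveI : IsAffineHom G.hom := isAffineHom_of_isAffine G.hom
  haveI : Smooth (Red.bc t G).hom := inferInstanceAs (Smooth (Limits.pullback.snd G.hom t))
  haveI : IsAffineHom (Red.bc t G).hom := inferInstanceAs (IsAffineHom (Limits.pullback.snd G.hom t))
  haveI : IsAffine (Red.bc t G).left := isAffine_of_isAffineHom (Red.bc t G).hom
  haveI : Smooth (Red.bc t U).hom := inferInstanceAs (Smooth (Limits.pullback.snd U.hom t))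
  haveI : ConnectedSpace (Red.bc t U).left := SepRad.connectedSpace_bc U t
  haveI : IsClosedImmersion ((Over.pullback t).map iU).left := BorelLib.isClosedImmersion_bc t iU
  haveI : IsMonHom ((Over.pullback t).map iU) := DiagRep.isMonHom_bc_map t iU
  haveI : IsMonHom ((Over.pullback t).map iT) := DiagRep.isMonHom_bc_map t iT
  haveI : Mono iT := mono_of_mono_fac (h := 𝟙 T) hsplit
  haveI : Mono ((Over.pullback t).map iT) := BorelLib.mono_bc t iT
  haveI : Mono iU := DiagRep.mono_of_isClosedImmersion iU inferInstance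
  haveI : IsMonHom (p ≫ iT) := inferInstance
  haveI : IsMonHom ((Over.pullback t).map (p ≫ iT)) := DiagRep.isMonHom_bc_map t (p ≫ iT)
  obtain ⟨A, _, _, v, hv, hft, -⟩ := BorelLib.exists_setup (Red.bc t G)
  haveI := hv
  haveI := hft
  let ε : (Over.map t).obj (𝟙_ (Over (Spec (CommRingCat.of Ω)))) ≅ P := Over.isoMk e.symm (by
    show e.inv ≫ P.hom = 𝟙 _ ≫ t
    rw [Category.id_comp])
  let he (Y : Over (Spec (CommRingCat.of k))) : (P ⟶ Y) ≃ (𝟙_ (Over (Spec (CommRingCat.of Ω))) ⟶ Red.bc t Y) :=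
    (ε.symm.homCongr (Iso.refl Y)).trans ((Over.mapPullbackAdj t).homEquiv _ Y)
  have hhe : ∀ (Y : Over (Spec (CommRingCat.of k))) (g : P ⟶ Y),
      he Y g = (Over.mapPullbackAdj t).homEquiv _ Y (ε.hom ≫ g) := fun Y g => by
    simp [he, Iso.homCongr]
  have henat : ∀ {Y Z : Over (Spec (CommRingCat.of k))} (φ : Y ⟶ Z) (g : P ⟶ Y),
      he Z (g ≫ φ) = he Y g ≫ (Over.pullback t).map φ := fun φ g => by
    rw [hhe, hhe, ← Category.assoc, Adjunction.homEquiv_naturality_right]
  let Φ : (P ⟶ G) ≃* BorelLib.Pt Ω A := MulEquiv.mk' ((he G).trans (BorelLib.ptEquiv v).symm.toEquiv) fun g g' => by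
    show (BorelLib.ptEquiv v).symm (he G (g * g')) =
      (BorelLib.ptEquiv v).symm (he G g) * (BorelLib.ptEquiv v).symm (he G g')
    rw [← map_mul, hhe, hhe, hhe, MonObj.comp_mul, AlgGrp.Action.homEquiv_mul]
  have hΦ : ∀ g, BorelLib.ptEquiv v (Φ g) = he G g := fun g => (BorelLib.ptEquiv v).apply_symm_apply _
  let U' : Subgroup (BorelLib.Pt Ω A) := BorelLib.ptsSub v ((Over.pullback t).map iU)
  let T' : Subgroup (BorelLib.Pt Ω A) := BorelLib.ptsSub v ((Over.pullback t).map iT)
  have hmemU : ∀ g, Φ g ∈ U' ↔ ∃ u : P ⟶ U, u ≫ iU = g := fun g => by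
    rw [BorelLib.mem_ptsSub, hΦ]
    exact ⟨fun ⟨b, hb⟩ => ⟨(he U).symm b, (he G).injective (by rw [henat, Equiv.apply_symm_apply, hb])⟩,
      fun ⟨u, hu⟩ => ⟨he U u, by rw [← henat, hu]⟩⟩
  have hmemT : ∀ g, Φ g ∈ T' ↔ ∃ u : P ⟶ T, u ≫ iT = g := fun g => by
    rw [BorelLib.mem_ptsSub, hΦ]
    exact ⟨fun ⟨b, hb⟩ => ⟨(he T).symm b, (he G).injective (by rw [henat, Equiv.apply_symm_apply, hb])⟩,
      fun ⟨u, hu⟩ => ⟨he T u, by rw [← henat, hu]⟩⟩
  let f : BorelLib.Pt Ω A →* BorelLib.Pt Ω A :=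
    ((BorelLib.ptEquiv v).symm.toMonoidHom.comp (BorelLib.ptHom ((Over.pullback t).map (p ≫ iT)))).comp
      (BorelLib.ptEquiv v).toMonoidHom
  have hfΦ : ∀ g, f (Φ g) = Φ (g ≫ p ≫ iT) := fun g => (BorelLib.ptEquiv v).injective (by
    rw [hΦ, henat, ← hΦ g]
    exact (BorelLib.ptEquiv v).apply_symm_apply _)
  have hfmor : BorelLib.IsMor f := by
    obtain ⟨ψ, hψ⟩ := DiagRep.exists_pt (R := Ω) (A := A) (C := A)
      (v.hom ≫ (Over.pullback t).map (p ≫ iT) ≫ v.inv)
    refine ⟨ψ, fun z => (BorelLib.ptEquiv v).injective ?_⟩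
    show BorelLib.ptEquiv v ((BorelLib.ptEquiv v).symm (BorelLib.ptEquiv v z ≫ (Over.pullback t).map (p ≫ iT))) = _
    rw [(BorelLib.ptEquiv v).apply_symm_apply]
    show (_ ≫ CoactBr.pt z.ofConv ≫ v.hom) ≫ (Over.pullback t).map (p ≫ iT) =
      _ ≫ CoactBr.pt (z.ofConv.comp ψ) ≫ v.hom
    rw [CoactBr.pt_comp, ← hψ]
    simp only [Category.assoc, v.inv_hom_id, Category.comp_id]
  let H : Subgroup (BorelLib.Pt Ω A) :=
    { carrier := {z | lift (Φ.symm z) x ≫ a.act = x}
      one_mem' := by
        show lift (Φ.symm 1) x ≫ a.act = x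
        rw [map_one, GITAffLib.lift_one_act]
      mul_mem' := fun {z z'} hz hz' => by
        show lift (Φ.symm (z * z')) x ≫ a.act = x
        rw [map_mul, GITAffLib.lift_mul_act, show lift (Φ.symm z') x ≫ a.act = x from hz',
          show lift (Φ.symm z) x ≫ a.act = x from hz]
      inv_mem' := fun {z} hz => by
        show lift (Φ.symm z⁻¹) x ≫ a.act = x
        conv_lhs => rw [← show lift (Φ.symm z) x ≫ a.act = x from hz]
        rw [← GITAffLib.lift_mul_act, ← map_mul, inv_mul_cancel, map_one, GITAffLib.lift_one_act] }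
  have hH : ∀ g, Φ g ∈ H ↔ lift g x ≫ a.act = x := fun g => by
    show lift (Φ.symm (Φ g)) x ≫ a.act = x ↔ _
    rw [Φ.symm_apply_apply]
  let F : GITAffLib.FixPts a x ≃ H := Φ.toEquiv.subtypeEquiv fun g => (hH g).symm
  haveI : IsSeparated (Red.bc t X).hom := inferInstanceAs (IsSeparated (Limits.pullback.snd X.hom t))
  haveI : LocallyOfFiniteType (Red.bc t X).hom := inferInstanceAs (LocallyOfFiniteType (Limits.pullback.snd X.hom t))
  have hHc : IsClosed (H : Set (BorelLib.Pt Ω A)) := by
    let x' := he X x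
    let o := lift (𝟙 (Red.bc t G)) (toUnit (Red.bc t G) ≫ x') ≫ (a.bc t).act
    have heq : (H : Set (BorelLib.Pt Ω A)) = BorelLib.toP ⁻¹' ((v.hom.left ≫ o.left) ⁻¹' {AVAmpleLib.pt x'}) := by
      ext z
      obtain ⟨g, rfl⟩ : ∃ g, Φ g = z := ⟨Φ.symm z, Φ.apply_symm_apply z⟩
      rw [Set.mem_preimage, Set.mem_preimage, Set.mem_singleton_iff, Scheme.Hom.comp_apply,
        ← BorelLib.pt_ptEquiv v, hΦ]
      change Φ g ∈ H ↔ AVAmpleLib.pt (he G g ≫ o) = AVAmpleLib.pt x'
      have h1 : he G g ≫ o = he X (lift g x ≫ a.act) := by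
        simp only [o, comp_lift_assoc, Category.comp_id]
        rw [show he G g ≫ toUnit (Red.bc t G) ≫ x' = x' from by
          rw [← Category.assoc, toUnit_unique (he G g ≫ toUnit _) (𝟙 _), Category.id_comp]]
        show lift (he G g) (he X x) ≫ (a.bc t).act = _
        rw [hhe G g, hhe X x, AlgGrp.Action.lift_homEquiv_bc_act, hhe, comp_lift_assoc]
      rw [hH, h1]
      refine ⟨fun h => by rw [h], fun h => (he X).injective (Over.OverMorphism.ext ?_)⟩
      exact ext_of_apply_closedPoint_eq (Red.bc t X).hom ((Over.w _).trans rfl) ((Over.w _).trans rfl) h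
    rw [heq]
    refine (IsClosed.preimage (v.hom.left ≫ o.left).continuous ?_).preimage continuous_induced_dom
    haveI : Subsingleton (𝟙_ (Over (Spec (CommRingCat.of Ω)))).left := inferInstanceAs (Subsingleton (PrimeSpectrum Ω))
    haveI : IsClosedImmersion x'.left :=
      isClosedImmersion_of_comp_eq_id _ _ (show x'.left ≫ (Red.bc t X).hom = 𝟙 _ from (Over.w x').trans rfl)
    have hr : Set.range x'.left = {AVAmpleLib.pt x'} :=
      Set.eq_singleton_iff_unique_mem.2 ⟨⟨_, rfl⟩, by rintro _ ⟨y, rfl⟩; exact congrArg x'.left (Subsingleton.elim _ _)⟩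
    rw [← hr]
    exact x'.left.isClosedEmbedding.isClosed_range
  obtain ⟨r, w, -, -, -, -, hl, ha⟩ := BorelLib.torus_facts hT
  haveI := hl
  haveI := ha
  haveI : IsAffineHom T.hom := isAffineHom_of_isAffine T.hom
  rw [GITAffLib.finite_stab_iff a e x]
  constructor
  · intro hfin u
    rw [GITAffLib.finite_stab_iff (a.restrict iT) e]
    refine @Finite.of_injective _ (GITAffLib.FixPts a x) hfin (fun s : GITAffLib.FixPts (a.restrict iT) (lift (u ≫ iU) x ≫ a.act) =>
      (⟨(u ≫ iU)⁻¹ * (s.1 ≫ iT) * (u ≫ iU), ?_⟩ : GITAffLib.FixPts a x)) (fun s s' h => Subtype.ext ?_)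
    · have hs : lift (s.1 ≫ iT) (lift (u ≫ iU) x ≫ a.act) ≫ a.act = lift (u ≫ iU) x ≫ a.act := by
        rw [← lift_whiskerRight_assoc]; exact s.2
      rw [GITAffLib.lift_mul_act, GITAffLib.lift_mul_act, hs, ← GITAffLib.lift_mul_act, inv_mul_cancel,
        GITAffLib.lift_one_act]
    · exact (cancel_mono iT).1 (mul_left_cancel (mul_right_cancel (congrArg Subtype.val h)))
  · intro hall
    have hker' : ∀ g : P ⟶ G, g ≫ p = 1 ↔ ∃ u : P ⟶ U, u ≫ iU = g := fun g => by
      refine ⟨fun h => ⟨hker.lift g (toUnit P) (h.trans Hom.one_def), hker.lift_fst _ _ _⟩, ?_⟩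
      rintro ⟨u, rfl⟩
      rw [Category.assoc, hker.w, ← Category.assoc, comp_toUnit, Hom.one_def]
    have hfinU : Subsingleton (GITAffLib.FixPts (a.restrict iU) x) := by
      refine ⟨fun s s' => ?_⟩
      have key : ∀ s : GITAffLib.FixPts (a.restrict iU) x, ∃ q : P.left ⟶ GLinSh.stab (a.restrict iU) x,
          q ≫ GLinSh.stabTo (a.restrict iU) x = 𝟙 _ ∧ q ≫ Limits.pullback.fst _ _ = (lift s.1 (𝟙 P)).left := fun s =>
        ⟨Limits.pullback.lift (lift s.1 (𝟙 P)).left (𝟙 P.left) (by
          rw [← Over.comp_left, GITAffLib.lift_psi, s.2, Category.id_comp]),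
          Limits.pullback.lift_snd _ _ _, Limits.pullback.lift_fst _ _ _⟩
      obtain ⟨q, hq, hq'⟩ := key s
      obtain ⟨q', hq1, hq1'⟩ := key s'
      haveI := hfree
      have : q = q' := (cancel_mono (GLinSh.stabTo (a.restrict iU) x)).1 (hq.trans hq1.symm)
      rw [this, hq1'] at hq'
      refine Subtype.ext ?_
      have := congrArg (· ≫ fst U P) (Over.OverMorphism.ext hq' : lift s'.1 (𝟙 P) = lift s.1 (𝟙 P))
      simpa using this.symm
    haveI := hfinU
    have hfinal : (H : Set (BorelLib.Pt Ω A)).Finite := by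
      refine SemiStab.finite_of_forall U' T' f (BorelLib.isClosed_ptsSub v) (BorelLib.isPreconnected_ptsSub v) ?_
        (BorelLib.isTor_ptsSub v _ (RedRank.isTorus_bc hT t)) hfmor ?_ ?_ ?_ hHc ?_ ?_
      · rintro z hz ⟨m, hm, hzm⟩
        obtain ⟨g, rfl⟩ : ∃ g, Φ g = z := ⟨Φ.symm z, Φ.apply_symm_apply z⟩
        obtain ⟨u, rfl⟩ := (hmemU g).1 hz
        have hu : u ^ m = 1 := by
          rw [← cancel_mono iU, MonObj.one_comp, MonObj.pow_comp]
          exact Φ.injective (by rw [map_pow, hzm, map_one])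
        rw [SemiStab.torsionFree iU hU P (fun h0 => hm (by rw [h0, Nat.cast_zero])) u hu, MonObj.one_comp, map_one]
      · intro z
        obtain ⟨g, rfl⟩ : ∃ g, Φ g = z := ⟨Φ.symm z, Φ.apply_symm_apply z⟩
        rw [hfΦ, hmemT]
        exact ⟨g ≫ p, Category.assoc _ _ _⟩
      · intro z hz
        obtain ⟨g, rfl⟩ : ∃ g, Φ g = z := ⟨Φ.symm z, Φ.apply_symm_apply z⟩
        obtain ⟨s, rfl⟩ := (hmemT g).1 hz
        rw [hfΦ, Category.assoc, reassoc_of% hsplit]
      · intro z
        obtain ⟨g, rfl⟩ : ∃ g, Φ g = z := ⟨Φ.symm z, Φ.apply_symm_apply z⟩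
        rw [hfΦ, ← map_one Φ, Φ.injective.eq_iff, hmemU, ← hker', ← cancel_mono iT (g := g ≫ p),
          MonObj.one_comp, Category.assoc]
      · intro z hz hzU
        obtain ⟨g, rfl⟩ : ∃ g, Φ g = z := ⟨Φ.symm z, Φ.apply_symm_apply z⟩
        obtain ⟨u, rfl⟩ := (hmemU g).1 hzU
        have h1 : (⟨u, by rw [AlgGrp.Action.restrict_act, lift_whiskerRight_assoc]; exact (hH _).1 hz⟩ :
            GITAffLib.FixPts (a.restrict iU) x) = ⟨1, GITAffLib.lift_one_act _ _⟩ := @Subsingleton.elim _ hfinU _ _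
        rw [show u = 1 from congrArg Subtype.val h1, MonObj.one_comp, map_one]
      · intro w hw
        obtain ⟨g, rfl⟩ : ∃ g, Φ g = w := ⟨Φ.symm w, Φ.apply_symm_apply w⟩
        obtain ⟨u, rfl⟩ := (hmemU g).1 hw
        have := (GITAffLib.finite_stab_iff (a.restrict iT) e _).1 (hall u)
        refine (Set.finite_range fun s : GITAffLib.FixPts (a.restrict iT) (lift (u ≫ iU) x ≫ a.act) =>
          Φ (s.1 ≫ iT)).subset ?_
        rintro z ⟨hz1, hz2⟩
        obtain ⟨g, rfl⟩ : ∃ g, Φ g = z := ⟨Φ.symm z, Φ.apply_symm_apply z⟩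
        obtain ⟨s, rfl⟩ := (hmemT g).1 hz2
        have h2 := BorelLib.mem_conjSub.1 hz1
        rw [← map_inv, ← map_mul, ← map_mul, hH] at h2
        refine ⟨⟨s, ?_⟩, rfl⟩
        rw [AlgGrp.Action.restrict_act, lift_whiskerRight_assoc, ← GITAffLib.lift_mul_act]
        conv_rhs => rw [← h2]
        rw [← GITAffLib.lift_mul_act]
        congr 2
        simp [_root_.mul_assoc]
    haveI := hfinal.to_subtype
    exact Finite.of_equiv _ F.symm

end Groth.Agent.S18979
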