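import Groth.Statements.S5443
import Groth.Agent.S15127
import Groth.Agent.AntiAffLib.AffineQuot
import Groth.Agent.AntiAffLib.Affinize

set_option autoImplicit false
universe u
open TensorProduct CategoryTheory MonoidalCategory CartesianMonoidalCategory MonObj GrpObj AlgebraicGeometry
open SGA3x

namespace Groth.Agent.S5443

set_option maxHeartbeats 1000000
set_option synthInstance.maxHeartbeats 400000
attribute [-instance] CategoryTheory.Hom.commGroup

open HopfRep WithConv CoactBr
open scoped ComodLib

/-- The image of an algebra map with left coideal image is closed. -/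
theorem isClosed_range_comap {k : Type u} [Field k] {H : Type u} [CommRing H] [HopfAlgebra k H]
    {R : Type u} [CommRing R] [Algebra k R] (hU : IsUnipotent k H) (φ : R →ₐ[k] H) (σ : R → H ⊗[k] R)
    (hσ : ∀ r, CoalgebraStruct.comul (R := k) (φ r) = φ.toLinearMap.lTensor H (σ r)) :
    IsClosed (Set.range (PrimeSpectrum.comap φ.toRingHom)) := by
  let S := HopfAlgebra.antipodeAlgHom k H
  have hSS : ∀ a, S (S a) = a := fun a => Groth.Agent.HopfFF.antipode_antipode a
  have hS : Function.Surjective (PrimeSpectrum.comap S.toRingHom) := fun p => by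
    refine ⟨PrimeSpectrum.comap S.toRingHom p, PrimeSpectrum.ext (Ideal.ext fun a => ?_)⟩
    show S (S a) ∈ p.asIdeal ↔ a ∈ p.asIdeal
    rw [hSS]
  let ψ : R →ₐ[k] H := S.comp φ
  have hC : ∀ f : ComodLib.Dual' k H, ∀ c ∈ ψ.range, f • c ∈ ψ.range := by
    rintro f _ ⟨r, rfl⟩
    show ComodLib.slice f.ofConv (CoalgebraStruct.comul (R := k) (S (φ r))) ∈ ψ.range
    rw [Groth.Agent.HopfFF.comul_antipode, hσ]
    generalize σ r = z
    induction z using TensorProduct.induction_on with
    | zero => simp
    | add a b ha hb => simp only [map_add]; exact add_mem ha hb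
    | tmul a b =>
      simp only [LinearMap.lTensor_tmul, AlgHom.toLinearMap_apply, Algebra.TensorProduct.map_tmul,
        TensorProduct.comm_tmul, ComodLib.slice_tmul]
      exact Subalgebra.smul_mem ψ.range ⟨b, rfl⟩ _
  have hsurj := Groth.Agent.S15127.comap_surjective (C := ψ.range) hU hC
  have hrr : Function.Surjective ψ.rangeRestrict.toRingHom := AlgHom.rangeRestrict_surjective ψ
  have e : Set.range (PrimeSpectrum.comap φ.toRingHom) =
      Set.range (PrimeSpectrum.comap ψ.rangeRestrict.toRingHom) := by
    calc Set.range (PrimeSpectrum.comap φ.toRingHom)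
        = Set.range (PrimeSpectrum.comap ψ.toRingHom) := by
          rw [show ψ.toRingHom = S.toRingHom.comp φ.toRingHom from rfl, PrimeSpectrum.comap_comp]
          exact (hS.range_comp _).symm
      _ = _ := by
          rw [show ψ.toRingHom = (algebraMap ψ.range H).comp ψ.rangeRestrict.toRingHom from rfl,
            PrimeSpectrum.comap_comp]
          exact hsurj.range_comp _
  rw [e]
  exact (PrimeSpectrum.isClosedEmbedding_comap_of_surjective _ _ hrr).isClosed_range


/-- Let k be a field, A a finitely generated commutative Hopf algebra over k which is unipotent in the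
fixed-vector sense (a unipotent algebraic group U = Spec A), X a k-scheme of finite type which is
quasi-affine, with an action of U, and x a k-rational point of X. Then the orbit of x — the
set-theoretic image of U under the orbit map g ↦ g · x — is closed in X. (The published statement
does not ask X to be of finite type over k; this row does.) -/
theorem result (k : Type u) [Field k] (A : Type u) [CommRing A] [HopfAlgebra k A] [Algebra.FiniteType k A]
    (hU : HopfRep.IsUnipotent k A) (X : Over (Spec (CommRingCat.of k))) [LocallyOfFiniteType X.hom]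
    (hX : Mor2.IsQuasiAffine X.hom)
    (a : AlgGrp.Action ((Spec (CommRingCat.of A)).asOver (Spec (CommRingCat.of k))) X)
    (x : 𝟙_ (Over (Spec (CommRingCat.of k))) ⟶ X) :
    IsClosed (Set.range (a.orbitMap x).left.base) := by
  haveI : QuasiCompact X.hom := hX.1
  haveI : CompactSpace X.left := QuasiCompact.compactSpace_of_compactSpace X.hom
  haveI hqa : X.left.IsQuasiAffine := by
    haveI : Scheme.IsQuasiAffine ((⊤ : X.left.Opens) : Scheme.{u}) := hX.2 ⊤ (isAffineOpen_top _)
    exact Scheme.IsQuasiAffine.of_isImmersion X.left.topIso.inv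
  haveI : QuasiSeparated X.hom := by
    haveI : IsSeparated (X.hom ≫ Limits.terminal.from _) := by
      rw [Limits.terminal.comp_from]; exact Scheme.IsSeparated.isSeparated_terminal_from
    haveI : IsSeparated X.hom := IsSeparated.of_comp X.hom (Limits.terminal.from _)
    infer_instance
  let U := sp k A
  haveI : IsAffine U.left := inferInstanceAs (IsAffine (Spec (CommRingCat.of A)))
  let a' : AlgGrp.Action U X := a
  let T := AntiAffLib.hull X
  let j : X ⟶ T := AntiAffLib.toHull X
  haveI : AntiAffLib.IsΓIso (𝟙 U ⊗ₘ j) := AntiAffLib.isΓIso_tensor _ _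
  let act : U ⊗ T ⟶ T := AntiAffLib.desc (𝟙 U ⊗ₘ j) (a'.act ≫ j)
  let o : U ⟶ X := a'.orbitMap x
  -- translating an orbit point
  have horb : ∀ (W : Over (Spec (CommRingCat.of k))) (g h : W ⟶ U),
      (g * h) ≫ o ≫ j = lift g (h ≫ o ≫ j) ≫ act := by
    intro W g h
    have ho : ∀ (w : W ⟶ U), w ≫ o = lift w (toUnit W ≫ x) ≫ a'.act := fun w => by
      rw [show o = lift (𝟙 U) (toUnit U ≫ x) ≫ a'.act from rfl, ← Category.assoc, comp_lift,
        Category.comp_id, ← Category.assoc, toUnit_unique (w ≫ toUnit U) (toUnit W)]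
    have h1 : (g * h) ≫ o = lift g (h ≫ o) ≫ a'.act := by
      rw [ho, ho, Hom.mul_def, ← lift_whiskerRight, Category.assoc, a'.mul_act,
        lift_lift_associator_hom_assoc, lift_whiskerLeft_assoc]
    have h2 : lift g (h ≫ o ≫ j) = lift g (h ≫ o) ≫ (𝟙 U ⊗ₘ j) := by
      rw [lift_map, Category.comp_id, Category.assoc]
    rw [← Category.assoc, h1, Category.assoc, h2, Category.assoc, AntiAffLib.fac]
  obtain ⟨R, _, _, ⟨e⟩⟩ := AntiAffLib.exists_sp_iso T
  obtain ⟨φ, hφ⟩ := Groth.Agent.DiagRep.exists_pt (o ≫ j ≫ e.inv)
  obtain ⟨σ, hσ⟩ := Groth.Agent.DiagRep.exists_pt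
    (lift (pt (Algebra.TensorProduct.includeLeft : A →ₐ[k] A ⊗[k] R))
      (pt (Algebra.TensorProduct.includeRight : R →ₐ[k] A ⊗[k] R) ≫ e.hom) ≫ act ≫ e.inv)
  have hkey : (Bialgebra.comulAlgHom k A).comp φ =
      (Algebra.TensorProduct.map (AlgHom.id k A) φ).comp σ := by
    apply pt_injective
    rw [pt_comp, pt_comp, ← hσ, ← hφ]
    have hmul : pt (Bialgebra.comulAlgHom k A) =
        pt (Algebra.TensorProduct.includeLeft : A →ₐ[k] A ⊗[k] A) * pt Algebra.TensorProduct.includeRight := by
      rw [pt_mul_pt]
      congr 1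
      refine AlgHom.ext fun c => ?_
      rw [AlgHom.comp_apply]
      generalize Bialgebra.comulAlgHom k A c = z
      induction z using TensorProduct.induction_on with
      | zero => simp
      | add p q hp hq => rw [map_add, ← hp, ← hq]
      | tmul p q => simp
    have hL : pt (Algebra.TensorProduct.map (AlgHom.id k A) φ) ≫
        pt (Algebra.TensorProduct.includeLeft : A →ₐ[k] A ⊗[k] R) =
        pt (Algebra.TensorProduct.includeLeft : A →ₐ[k] A ⊗[k] A) := by
      rw [← pt_comp]; congr 1
      exact AlgHom.ext fun r => by simp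
    have hR : pt (Algebra.TensorProduct.map (AlgHom.id k A) φ) ≫
        pt (Algebra.TensorProduct.includeRight : R →ₐ[k] A ⊗[k] R) =
        pt (Algebra.TensorProduct.includeRight : A →ₐ[k] A ⊗[k] A) ≫ o ≫ j ≫ e.inv := by
      rw [hφ, ← pt_comp, ← pt_comp]; congr 1
    rw [hmul, ← Category.assoc (pt (Algebra.TensorProduct.map (AlgHom.id k A) φ)), comp_lift, hL,
      ← Category.assoc (pt (Algebra.TensorProduct.map (AlgHom.id k A) φ)), hR]
    simp only [Category.assoc, Iso.inv_hom_id, Category.comp_id]
    rw [← Category.assoc, ← Category.assoc, Category.assoc _ o j, horb]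
    simp only [Category.assoc]
  have hc := isClosed_range_comap hU φ σ fun r => (AlgHom.congr_fun hkey r).trans (by
    show Algebra.TensorProduct.map (AlgHom.id k A) φ (σ r) = φ.toLinearMap.lTensor A (σ r)
    generalize σ r = z
    induction z using TensorProduct.induction_on with
    | zero => simp
    | add p q hp hq => simp only [map_add, hp, hq]
    | tmul p q => rfl)
  haveI : IsIso e.inv.left := inferInstanceAs (IsIso ((Over.forget _).map e.inv))
  haveI : IsOpenImmersion j.left := inferInstanceAs (IsOpenImmersion X.left.toSpecΓ)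
  let m : X.left ⟶ (sp k R).left := j.left ≫ e.inv.left
  have hm : o.left ≫ m = (pt φ).left := by rw [← hφ]; rfl
  show IsClosed (Set.range o.left.base)
  have he : Set.range o.left.base = m.base ⁻¹' Set.range (PrimeSpectrum.comap φ.toRingHom) := by
    have hb : ∀ u, m.base (o.left.base u) = PrimeSpectrum.comap φ.toRingHom u := fun u => by
      rw [← Scheme.Hom.comp_apply, hm]; rfl
    ext y
    constructor
    · rintro ⟨u, rfl⟩; exact ⟨u, (hb u).symm⟩
    · rintro ⟨u, hu⟩
      exact ⟨u, m.isOpenEmbedding.injective ((hb u).trans hu)⟩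
  rw [he]
  exact hc.preimage m.base.hom.continuous

end Groth.Agent.S5443
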