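import Groth.Statements.S18982
import Groth.Agent.NRQuotLib.Basic
import Groth.Agent.MaxTorFieldLib.UnipHopf
import Groth.Agent.DeligneKillLib.Affine
import Groth.Agent.S5443

set_option autoImplicit false
set_option backward.isDefEq.respectTransparency false
set_option backward.isDefEq.respectTransparency.types false
set_option maxHeartbeats 1000000
set_option synthInstance.maxHeartbeats 400000
universe u
open CategoryTheory MonoidalCategory CartesianMonoidalCategory MonObj AlgebraicGeometry Topology
open NRQuot

attribute [-instance] CategoryTheory.Hom.commGroup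
set_option backward.isDefEq.respectTransparency false
set_option backward.isDefEq.respectTransparency.types false
set_option maxHeartbeats 1000000
open CoactBr CategoryTheory.Limits
namespace Groth.Agent.S18982

/-- Fix an algebraically closed field k with characteristic zero. Suppose G is a unipotent group,
meaning an affine, smooth, connected group scheme of finite type over k with no non-trivial
subtorus, and that G acts on a finite-type k-scheme X. Assume φ : X → Y is a good quotient (φ is
affine and invariant; for each open subset of Y, its functions are precisely the invariant functions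
on the preimage; images of invariant closed subsets are closed; and taking images commutes with
intersecting families of invariant closed subsets), where Y is a finite-type k-scheme. Then φ is in
fact a geometric quotient, i.e. its fibres are orbits, which on k-points says: whenever two k-points
of X map to the same point of Y, some k-point of G carries one onto the other. (Unipotence is
encoded as the absence of a non-trivial subtorus; for smooth connected groups over k the two notions
agree.) -/
theorem result
    (k : Type u) [Field k] [IsAlgClosed k] [CharZero k]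
    (G X Y : Over (Spec (CommRingCat.of k))) [GrpObj G] [IsAffine G.left] [LocallyOfFiniteType G.hom]
    [Smooth G.hom] [ConnectedSpace G.left] (hG : Red.HasNoSubtorus k G)
    [LocallyOfFiniteType X.hom] [QuasiCompact X.hom] [LocallyOfFiniteType Y.hom] [QuasiCompact Y.hom]
    (a : AlgGrp.Action G X) (φ : X ⟶ Y) (h : NRQuot.IsGoodQuot a φ)
    (x₁ x₂ : 𝟙_ (Over (Spec (CommRingCat.of k))) ⟶ X) (hφ : x₁ ≫ φ = x₂ ≫ φ) :
    ∃ g : 𝟙_ (Over (Spec (CommRingCat.of k))) ⟶ G, lift g x₁ ≫ a.act = x₂ := by
  haveI := h.affine
  obtain ⟨A, _, _, v, hv, -⟩ := DeligneKillLib.exists_sp G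
  haveI := hv
  haveI : IsIso v.hom.left := (Over.forget _).map_isIso v.hom
  haveI : LocallyOfFiniteType (sp k A).hom := by rw [← Over.w v.hom]; infer_instance
  haveI : Smooth (sp k A).hom := by rw [← Over.w v.hom]; infer_instance
  haveI : Algebra.FiniteType k A := by
    have h1 : LocallyOfFiniteType (Spec.map (CommRingCat.ofHom (algebraMap k A))) := ‹LocallyOfFiniteType (sp k A).hom›
    rw [HasRingHomProperty.Spec_iff (P := @LocallyOfFiniteType), CommRingCat.hom_ofHom] at h1
    exact RingHom.finiteType_algebraMap.1 h1
  haveI : Algebra.FormallySmooth k A := by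
    have h1 : Smooth (Spec.map (CommRingCat.ofHom (algebraMap k A))) := ‹Smooth (sp k A).hom›
    rw [HasRingHomProperty.Spec_iff (P := @Smooth), CommRingCat.hom_ofHom, RingHom.smooth_algebraMap] at h1
    exact h1.1
  haveI : ConnectedSpace ↥(sp k A).left :=
    (Scheme.homeoOfIso (asIso v.hom.left)).connectedSpace_iff.2 inferInstance
  have hU : HopfRep.IsUnipotent k A := by
    refine Groth.Agent.MaxTorField.isUnipotent_of_hasNoSubtorus ?_
    intro T _ j _ _ hT
    exact hG T (j ≫ v.hom) hT
  have hcl : ∀ x : 𝟙_ (Over (Spec (CommRingCat.of k))) ⟶ X, IsClosed (Set.range (a.orbitMap x).left.base) := by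
    intro x
    let y := x ≫ φ
    let F := Limits.pullback φ y
    let j : F ⟶ X := Limits.pullback.fst φ y
    haveI : IsClosedImmersion y.left := by
      obtain ⟨V, hV, hyV, -⟩ := exists_isAffineOpen_mem_and_subset (U := (⊤ : Y.left.Opens)) (x := NRQuotLib.pt y) trivial
      haveI : IsAffine V.toScheme := hV
      have hr : Set.range y.left ⊆ Set.range V.ι := by
        rw [Scheme.Opens.range_ι, NRQuotLib.range_eq_pt]
        exact Set.singleton_subset_iff.2 hyV
      let y' := IsOpenImmersion.lift V.ι y.left hr
      have hy' : y' ≫ V.ι = y.left := IsOpenImmersion.lift_fac _ _ _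
      haveI : IsClosedImmersion y' := by
        haveI : IsClosedImmersion (y' ≫ V.ι ≫ Y.hom) := by
          rw [reassoc_of% hy']
          have e : y.left ≫ Y.hom = 𝟙 _ := Over.w y
          rw [e]; infer_instance
        exact IsClosedImmersion.of_comp y' (V.ι ≫ Y.hom)
      haveI : IsPreimmersion y.left := by rw [← hy']; infer_instance
      refine IsClosedImmersion.of_isPreimmersion _ ?_
      rw [NRQuotLib.range_eq_pt]
      exact NRQuotLib.isClosed_pt y
    have hsq : IsPullback j.left (Limits.pullback.snd φ y).left φ.left y.left :=
      (IsPullback.of_hasPullback φ y).map (Over.forget _)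
    haveI : IsClosedImmersion j.left := MorphismProperty.of_isPullback hsq.flip inferInstance
    haveI : IsAffineHom (Limits.pullback.snd φ y).left := MorphismProperty.of_isPullback hsq h.affine
    haveI : IsAffine F.left := by
      haveI : IsAffine (𝟙_ (Over (Spec (CommRingCat.of k)))).left := inferInstanceAs (IsAffine (Spec (CommRingCat.of k)))
      exact isAffine_of_isAffineHom (Limits.pullback.snd φ y).left
    haveI : LocallyOfFiniteType F.hom := by rw [← Over.w j]; infer_instance
    have hinv : ∀ {W : Over (Spec (CommRingCat.of k))} (g : W ⟶ G) (z : W ⟶ X), lift g z ≫ a.act ≫ φ = z ≫ φ :=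
      fun g z => by rw [h.inv, lift_snd_assoc]
    haveI : Mono j.left := inferInstance
    haveI : Mono j := Over.mono_of_mono_left j
    let act : sp k A ⊗ F ⟶ F := Limits.pullback.lift (lift (fst _ _ ≫ v.hom) (snd _ _ ≫ j) ≫ a.act) (toUnit _) (by
      rw [Category.assoc, hinv, Category.assoc, Limits.pullback.condition, ← Category.assoc]
      congr 1
      exact toUnit_unique _ _)
    have hact : act ≫ j = lift (fst _ _ ≫ v.hom) (snd _ _ ≫ j) ≫ a.act := Limits.pullback.lift_fst _ _ _
    have key : ∀ {W : Over (Spec (CommRingCat.of k))} (g : W ⟶ sp k A) (z : W ⟶ F),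
        lift g z ≫ act ≫ j = lift (g ≫ v.hom) (z ≫ j) ≫ a.act := fun g z => by
      rw [hact, comp_lift_assoc, lift_fst_assoc, lift_snd_assoc]
    have hone : ∀ {W : Over (Spec (CommRingCat.of k))} (z : W ⟶ F), lift (1 : W ⟶ sp k A) z ≫ act = z := fun z => by
      rw [← cancel_mono j, Category.assoc, key, MonObj.one_comp, GrpShear.lift_one_act]
    have hmul : ∀ {W : Over (Spec (CommRingCat.of k))} (g g' : W ⟶ sp k A) (z : W ⟶ F),
        lift (g * g') z ≫ act = lift g (lift g' z ≫ act) ≫ act := fun g g' z => by
      rw [← cancel_mono j, Category.assoc, key, Category.assoc, key, MonObj.mul_comp, GrpShear.lift_mul_act,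
        Category.assoc, key]
    let aF : AlgGrp.Action (sp k A) F :=
      { act := act
        one_act := by
          rw [← cancel_epi (λ_ F).inv, Iso.inv_hom_id]
          have h2 := hone (𝟙 F)
          conv_rhs => rw [← h2]
          rw [← Category.assoc]
          congr 1
          refine CartesianMonoidalCategory.hom_ext _ _ ?_ ?_ <;> simp [MonObj.one_eq_one]
        mul_act := by
          have h2 := hmul (fst (sp k A ⊗ sp k A) _ ≫ fst _ _) (fst (sp k A ⊗ sp k A) _ ≫ snd _ _) (snd (sp k A ⊗ sp k A) F)
          have e1 : μ[sp k A] ▷ F = lift ((fst (sp k A ⊗ sp k A) _ ≫ fst _ _) * (fst (sp k A ⊗ sp k A) _ ≫ snd _ _))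
              (snd (sp k A ⊗ sp k A) _) := by
            refine CartesianMonoidalCategory.hom_ext _ _ ?_ ?_
            · simp [Hom.mul_def, ← comp_lift, lift_fst_snd]
            · simp
          rw [e1, h2, ← Category.assoc (α_ _ _ F).hom]
          congr 1
          refine CartesianMonoidalCategory.hom_ext _ _ ?_ ?_
          · simp
          · rw [lift_snd, Category.assoc, whiskerLeft_snd, ← Category.assoc]
            congr 1
            refine CartesianMonoidalCategory.hom_ext _ _ ?_ ?_ <;> simp }
    let xF : 𝟙_ (Over (Spec (CommRingCat.of k))) ⟶ F :=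
      Limits.pullback.lift x (𝟙 _) (Category.id_comp y).symm
    have hqa : Mor2.IsQuasiAffine F.hom := by
      haveI : QuasiCompact F.hom := inferInstance
      refine ⟨inferInstance, fun V hV => ?_⟩
      haveI : IsAffineHom F.hom := inferInstance
      haveI : IsAffine (F.hom ⁻¹ᵁ V).toScheme := hV.preimage F.hom
      infer_instance
    have hF : IsClosed (Set.range (aF.orbitMap xF).left) := Groth.Agent.S5443.result k A hU F hqa aF xF
    have horb : aF.orbitMap xF ≫ j = v.hom ≫ a.orbitMap x := by
      rw [OrbitLib.comp_orbitMap]
      show (lift (𝟙 _) (toUnit _ ≫ xF) ≫ act) ≫ j = _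
      rw [Category.assoc, key, Category.id_comp, Category.assoc, show xF ≫ j = x from Limits.pullback.lift_fst _ _ _]
    have hr : Set.range (a.orbitMap x).left = j.left '' Set.range (aF.orbitMap xF).left := by
      rw [← Set.range_comp]
      have e : ∀ t, j.left ((aF.orbitMap xF).left t) = (a.orbitMap x).left (v.hom.left t) := fun t => by
        rw [← Scheme.Hom.comp_apply, ← Over.comp_left, horb, Over.comp_left, Scheme.Hom.comp_apply]
      rw [show (⇑j.left ∘ ⇑(aF.orbitMap xF).left) = ⇑(a.orbitMap x).left ∘ ⇑v.hom.left from funext e]
      exact (v.hom.left.homeomorph.surjective.range_comp _).symm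
    rw [hr]
    exact j.left.isClosedEmbedding.isClosedMap _ hF
  exact NRQuotLib.exists_translate_of_eq h x₁ x₂ (hcl x₁) (hcl x₂) hφ

end Groth.Agent.S18982
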