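import Groth.Statements.S18983
import Mathlib.Algebra.DirectSum.Decomposition
import Mathlib.LinearAlgebra.Dimension.Finrank
import Mathlib.LinearAlgebra.FiniteDimensional.Lemmas
import Mathlib.LinearAlgebra.Dimension.OrzechProperty
import Mathlib.RingTheory.Nilpotent.Defs

set_option autoImplicit false
set_option backward.isDefEq.respectTransparency false
set_option backward.isDefEq.respectTransparency.types false
universe u v w
open CAlg

namespace Groth.Agent.S18983

open DirectSum in
section

variable {k : Type u} [Field k] {Λ : Type v} [AddCommGroup Λ] [DecidableEq Λ]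
  {V : Type w} [AddCommGroup V] [Module k V] (𝒱 : Λ → Submodule k V) [Decomposition 𝒱]
  {A : Module.End k V} {χ : Λ}

lemma comp_map (hhom : ∀ (μ : Λ) (v : V), v ∈ 𝒱 μ → A v ∈ 𝒱 (μ + χ)) (x : V) (μ : Λ) :
    (decompose 𝒱 (A x) (μ + χ) : V) = A (decompose 𝒱 x μ : V) := by
  induction x using DirectSum.Decomposition.inductionOn 𝒱 with
  | zero => simp
  | @homogeneous i m =>
    by_cases h : i = μ
    · subst h
      rw [decompose_of_mem_same 𝒱 m.2, decompose_of_mem_same 𝒱 (hhom i m m.2)]
    · rw [decompose_of_mem_ne 𝒱 m.2 h, map_zero,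
        decompose_of_mem_ne 𝒱 (hhom i m m.2) (fun e => h (add_right_cancel e))]
  | add m m' hm hm' => simp [hm, hm']

lemma pow_mem (hhom : ∀ (μ : Λ) (v : V), v ∈ 𝒱 μ → A v ∈ 𝒱 (μ + χ)) {μ : Λ} {v : V}
    (hv : v ∈ 𝒱 μ) (m : ℕ) : ∃ ν, (A ^ m) v ∈ 𝒱 ν := by
  induction m with
  | zero => exact ⟨μ, hv⟩
  | succ m ih =>
    obtain ⟨ν, hν⟩ := ih
    exact ⟨ν + χ, by rw [pow_succ', Module.End.mul_apply]; exact hhom ν _ hν⟩

/-- The vectors of a family of chains. -/
def chain (A : Module.End k V) {ι : Type w} (v : ι → V) (n : ι → ℕ) (p : Σ i : ι, Fin (n i + 1)) : V :=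
  (A ^ (n p.1 - p.2.1)) (v p.1)

theorem exists_chains [FiniteDimensional k V] (hA : IsNilpotent A)
    (hhom : ∀ (μ : Λ) (v : V), v ∈ 𝒱 μ → A v ∈ 𝒱 (μ + χ)) :
    ∀ (d : ℕ) (W : Submodule k V), Module.finrank k W = d →
      (∀ x ∈ W, ∀ μ, (decompose 𝒱 x μ : V) ∈ W) → (∀ x ∈ W, A x ∈ W) →
      ∃ (ι : Type w) (_ : Finite ι) (v : ι → V) (n : ι → ℕ),
        (∀ i, ∃ μ, v i ∈ 𝒱 μ) ∧ (∀ i, (A ^ (n i + 1)) (v i) = 0) ∧
        LinearIndependent k (chain A v n) ∧ Submodule.span k (Set.range (chain A v n)) = W := by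
  classical
  intro d
  induction d using Nat.strong_induction_on with
  | _ d ih =>
    intro W hd hW hWA
    by_cases h0 : W = ⊥
    · subst h0
      exact ⟨PEmpty, inferInstance, PEmpty.elim, PEmpty.elim, fun i => i.elim, fun i => i.elim,
        linearIndependent_empty_type, by simp⟩
    let W' := W.map A
    have hW'le : W' ≤ W := Submodule.map_le_iff_le_comap.2 hWA
    have hlt : Module.finrank k W' < d := by
      rw [← hd]
      refine Submodule.finrank_lt_finrank_of_lt (lt_of_le_of_ne hW'le fun e => h0 ?_)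
      obtain ⟨N, hN⟩ := hA
      have : ∀ m, W ≤ W.map (A ^ m) := by
        intro m
        induction m with
        | zero => intro x hx; exact ⟨x, hx, rfl⟩
        | succ m ihm =>
          calc W = W.map A := e.symm
            _ ≤ (W.map (A ^ m)).map A := Submodule.map_mono ihm
            _ = W.map (A ^ (m + 1)) := by
              rw [pow_succ', Module.End.mul_eq_comp, Submodule.map_comp]
      rw [eq_bot_iff]
      intro x hx
      obtain ⟨y, -, rfl⟩ := this N hx
      simp [hN]
    have hW'hom : ∀ x ∈ W', ∀ μ, (decompose 𝒱 x μ : V) ∈ W' := by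
      rintro _ ⟨x, hx, rfl⟩ μ
      refine ⟨_, hW x hx (μ - χ), ?_⟩
      rw [← comp_map 𝒱 hhom, sub_add_cancel]
    obtain ⟨ι, _, v, n, hv, hzero, hli, hspan⟩ := ih _ hlt W' rfl hW'hom
      (fun x hx => ⟨x, hW'le hx, rfl⟩)
    haveI := Fintype.ofFinite ι
    have hvW' : ∀ i, v i ∈ W' := fun i => hspan ▸ Submodule.subset_span
      ⟨⟨i, ⟨n i, lt_add_one _⟩⟩, by simp [chain]⟩
    have hu : ∀ i, ∃ u ∈ W, (∃ μ, u ∈ 𝒱 μ) ∧ A u = v i := by
      intro i
      obtain ⟨ν, hν⟩ := hv i
      obtain ⟨x, hx, hxe⟩ := hvW' i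
      refine ⟨_, hW x hx (ν - χ), ⟨_, (decompose 𝒱 x (ν - χ)).2⟩, ?_⟩
      rw [← comp_map 𝒱 hhom, sub_add_cancel, hxe, decompose_of_mem_same 𝒱 hν]
    choose u huW huh huA using hu
    let K := W ⊓ LinearMap.ker A
    let bot : ι → V := fun i => (A ^ n i) (v i)
    have hbotli : LinearIndependent k bot := by
      have := hli.comp (fun i => (⟨i, 0⟩ : Σ i : ι, Fin (n i + 1)))
        (fun a b h => congrArg Sigma.fst h)
      exact this
    let t : Set V := {x | x ∈ K ∧ ∃ μ, x ∈ 𝒱 μ}
    have hst : Set.range bot ⊆ t := by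
      rintro _ ⟨i, rfl⟩
      obtain ⟨μ, hμ⟩ := hv i
      refine ⟨⟨hW'le (hspan ▸ Submodule.subset_span ⟨⟨i, 0⟩, rfl⟩), ?_⟩,
        pow_mem 𝒱 hhom hμ _⟩
      rw [SetLike.mem_coe, LinearMap.mem_ker, ← Module.End.mul_apply, ← pow_succ', hzero]
    obtain ⟨b, hbt, hsb, htb, hbli⟩ :=
      exists_linearIndepOn_id_extension hbotli.linearIndepOn_id hst
    let E := b \ Set.range bot
    haveI : Finite b := hbli.linearIndependent.finite
    haveI : Finite E := Finite.Set.subset b Set.diff_subset
    haveI := Fintype.ofFinite E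
    have hKb : Submodule.span k b = K := by
      refine le_antisymm (Submodule.span_le.2 fun x hx => (hbt hx).1) fun x hx => ?_
      have hx' : ∀ μ, (decompose 𝒱 x μ : V) ∈ Submodule.span k b := fun μ => by
        refine htb ⟨⟨hW x hx.1 μ, ?_⟩, _, (decompose 𝒱 x μ).2⟩
        rw [SetLike.mem_coe, LinearMap.mem_ker, ← comp_map 𝒱 hhom, LinearMap.mem_ker.1 hx.2]
        simp
      rw [← sum_support_decompose 𝒱 x]
      exact Submodule.sum_mem _ fun μ _ => hx' μ
    let v' : ι ⊕ E → V := Sum.elim u (fun e => e.1)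
    let n' : ι ⊕ E → ℕ := Sum.elim (fun i => n i + 1) (fun _ => 0)
    have hpow : ∀ i m, (A ^ (m + 1)) (u i) = (A ^ m) (v i) := fun i m => by
      rw [pow_succ, Module.End.mul_apply, huA]
    have hzero' : ∀ i, (A ^ (n' i + 1)) (v' i) = 0 := by
      rintro (i | e)
      · show (A ^ (n i + 1 + 1)) (u i) = 0
        rw [hpow, hzero]
      · show (A ^ (0 + 1)) e.1 = 0
        rw [pow_one]
        exact LinearMap.mem_ker.1 (hbt e.2.1).1.2
    have hrW : ∀ p, chain A v' n' p ∈ W := by
      rintro ⟨(i | e), l⟩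
      · show (A ^ _) (u i) ∈ W
        generalize n' (Sum.inl i) - l.1 = m
        induction m with
        | zero => exact huW i
        | succ m ihm => rw [pow_succ', Module.End.mul_apply]; exact hWA _ ihm
      · show (A ^ _) e.1 ∈ W
        rw [show n' (Sum.inr e) - l.1 = 0 from Nat.zero_sub _, pow_zero]
        exact (hbt e.2.1).1.1
    have hspan' : Submodule.span k (Set.range (chain A v' n')) = W := by
      refine le_antisymm (Submodule.span_le.2 (Set.range_subset_iff.2 hrW)) fun x hx => ?_
      have hbS : b ⊆ ↑(Submodule.span k (Set.range (chain A v' n'))) := by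
        intro z hz
        refine Submodule.subset_span ?_
        by_cases hzr : z ∈ Set.range bot
        · obtain ⟨i, rfl⟩ := hzr
          exact ⟨⟨Sum.inl i, 0⟩, hpow i (n i)⟩
        · exact ⟨⟨Sum.inr ⟨z, hz, hzr⟩, 0⟩, rfl⟩
      have hW'S : W' ≤ (Submodule.span k (Set.range (chain A v' n'))).map A := by
        rw [← hspan, Submodule.span_le]
        rintro _ ⟨⟨i, l⟩, rfl⟩
        refine ⟨_, Submodule.subset_span ⟨⟨Sum.inl i, ⟨l.1 + 1, Nat.succ_lt_succ l.2⟩⟩, rfl⟩, ?_⟩
        show A ((A ^ (n i + 1 - (l.1 + 1))) (u i)) = (A ^ (n i - l.1)) (v i)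
        rw [← Module.End.mul_apply, ← pow_succ', Nat.succ_sub_succ, hpow]
      obtain ⟨y, hy, hye⟩ := hW'S ⟨x, hx, rfl⟩
      have hyW : y ∈ W := Submodule.span_le.2 (Set.range_subset_iff.2 hrW) hy
      have : x - y ∈ K := ⟨sub_mem hx hyW, by
        rw [SetLike.mem_coe, LinearMap.mem_ker, map_sub, hye, sub_self]⟩
      rw [← hKb] at this
      simpa using add_mem (Submodule.span_le.2 hbS this) hy
    refine ⟨ι ⊕ E, inferInstance, v', n', ?_, hzero', ?_, hspan'⟩
    · rintro (i | e)
      · exact huh i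
      · exact (hbt e.2.1).2
    rw [linearIndependent_iff_card_eq_finrank_span, Set.finrank, hspan']
    have hrn := LinearMap.finrank_range_add_finrank_ker (A.domRestrict W)
    rw [LinearMap.range_domRestrict, LinearMap.ker_domRestrict] at hrn
    have hKK : Module.finrank k ↥((LinearMap.ker A).comap W.subtype) = Module.finrank k K := by
      rw [(Submodule.equivMapOfInjective W.subtype W.subtype_injective _).finrank_eq,
        Submodule.map_comap_subtype]
    letI : Fintype b := Fintype.ofFinite _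
    have hb' : LinearIndependent k ((↑) : b → V) := hbli.linearIndependent
    have hKc : Module.finrank k K = Fintype.card ι + Fintype.card E := by
      rw [← hKb, show Submodule.span k b = Submodule.span k (Set.range ((↑) : b → V)) by simp,
        finrank_span_eq_card hb',
        ← Fintype.card_sum]
      refine Fintype.card_congr (Equiv.symm (Equiv.ofBijective
        (Sum.elim (fun i => (⟨bot i, hsb ⟨i, rfl⟩⟩ : b)) (fun e => ⟨e.1, e.2.1⟩)) ⟨?_, ?_⟩))
      · rintro (i | e) (j | e') h
        · exact congrArg _ (hbotli.injective (congrArg Subtype.val h))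
        · exact absurd ⟨i, congrArg Subtype.val h⟩ e'.2.2
        · exact absurd ⟨j, (congrArg Subtype.val h).symm⟩ e.2.2
        · exact congrArg _ (Subtype.ext (congrArg (fun z : b => z.1) h))
      · rintro ⟨z, hz⟩
        by_cases hzr : z ∈ Set.range bot
        · obtain ⟨i, rfl⟩ := hzr
          exact ⟨Sum.inl i, rfl⟩
        · exact ⟨Sum.inr ⟨z, hz, hzr⟩, rfl⟩
    have hW'c : Module.finrank k W' = ∑ i, (n i + 1) := by
      rw [← hspan, finrank_span_eq_card hli, Fintype.card_sigma]
      simp
    rw [← hrn, hKK, hKc, show Module.finrank k ↥(W.map A) = Module.finrank k W' from rfl, hW'c,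
      Fintype.card_sigma, Fintype.sum_sum_type]
    simp [n', Finset.sum_add_distrib]
    omega

end

/-- Let k be a field, Λ an additive commutative group, V a finite-dimensional k-vector space which is
the internal direct sum of subspaces V_μ indexed by Λ (a representation of a torus with character
group Λ), and A a nilpotent endomorphism of V mapping each V_μ into V_{μ+χ} for a fixed χ (the
infinitesimal generator of an action of the additive group on which the torus acts through the
character χ). Then V has a basis consisting of homogeneous vectors e_{i,l}, 0 ≤ l ≤ n_i, with A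
e_{i,0} = 0 and A e_{i,l+1} = e_{i,l}: a weight basis bringing A into Jordan normal form. (The
source states this, over an algebraically closed field of characteristic zero, as a decomposition of
every representation of the semidirect product of the additive group with a torus into twists of
symmetric powers of the standard two-dimensional representation by characters; the first line of its
proof reduces that to the present statement, which is what is proved, and which holds over any
field.) -/
theorem result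
    (k : Type u) [Field k] (Λ : Type v) [AddCommGroup Λ] [DecidableEq Λ]
    (V : Type w) [AddCommGroup V] [Module k V] [FiniteDimensional k V]
    (𝒱 : Λ → Submodule k V) (h𝒱 : DirectSum.IsInternal 𝒱)
    (A : Module.End k V) (hA : IsNilpotent A) (χ : Λ)
    (hhom : ∀ (μ : Λ) (v : V), v ∈ 𝒱 μ → A v ∈ 𝒱 (μ + χ)) :
    ∃ (ι : Type w) (_ : Finite ι) (n : ι → ℕ) (b : Module.Basis (Σ i : ι, Fin (n i + 1)) k V),
      (∀ (i : ι) (l : Fin (n i + 1)), ∃ μ : Λ, b ⟨i, l⟩ ∈ 𝒱 μ) ∧
      (∀ i : ι, A (b ⟨i, 0⟩) = 0) ∧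
      ∀ (i : ι) (l : Fin (n i)), A (b ⟨i, l.succ⟩) = b ⟨i, l.castSucc⟩ := by
  classical
  letI := h𝒱.chooseDecomposition
  obtain ⟨ι, hι, v, n, hv, hzero, hli, hspan⟩ :=
    exists_chains 𝒱 hA hhom _ ⊤ rfl (fun _ _ _ => trivial) (fun _ _ => trivial)
  refine ⟨ι, hι, n, Module.Basis.mk hli hspan.ge, fun i l => ?_, fun i => ?_, fun i l => ?_⟩
  · rw [Module.Basis.mk_apply]
    obtain ⟨μ, hμ⟩ := hv i
    exact pow_mem 𝒱 hhom hμ _
  · rw [Module.Basis.mk_apply]
    show A ((A ^ (n i - 0)) (v i)) = 0
    rw [← Module.End.mul_apply, ← pow_succ', Nat.sub_zero, hzero]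
  · rw [Module.Basis.mk_apply, Module.Basis.mk_apply]
    show A ((A ^ (n i - (l.1 + 1))) (v i)) = (A ^ (n i - l.1)) (v i)
    rw [← Module.End.mul_apply, ← pow_succ']
    congr 3
    have := l.2
    omega

end Groth.Agent.S18983
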