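import Groth.Statements.S18987
import Groth.Agent.MuSubLib.Flow
-- import your own Groth.Agent.* helpers here

set_option autoImplicit false
universe u
open TensorProduct
open HopfRep

open scoped ComodLib TensorProduct

namespace Groth.Agent.S18987

/-- In Hopf-algebra form, over an algebraically closed field k of characteristic zero, let A be a
finitely generated commutative Hopf algebra which is unipotent in the fixed-vector sense (the
coordinate ring of a unipotent group U), coacting multiplicatively on a finitely generated
commutative k-algebra R (an action of U on the affine scheme Spec R). Then an element f of R is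
invariant if and only if, for every ε-derivation ξ : A → k (every element of the Lie algebra of U),
applying ξ to the A-factor of the coaction of f gives zero (the infinitesimal action of ξ kills f). -/
theorem result
    (k : Type u) [Field k] [IsAlgClosed k] [CharZero k]
    (A : Type u) [CommRing A] [HopfAlgebra k A] [Algebra.FiniteType k A] (hU : HopfRep.IsUnipotent k A)
    (R : Type u) [CommRing R] [Algebra k R] [Algebra.FiniteType k R]
    [HopfRep.Comod k A R] [GLin.IsCoactAlg k A R] (f : R) :
    f ∈ GLin.invariants k A R ↔
      ∀ ξ : LieHopf.Lie k A,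
        LinearMap.lTensor R (ξ.toLinearMap.restrictScalars k) (HopfRep.Comod.coact (k := k) (A := A) f) = 0 := by
  classical
  let Ξ : LieHopf.Lie k A → ComodLib.Dual' k A := MuSub.lieFn
  have hrid := fun ξ z => MuSub.slice_lieFn (k := k) (A := A) (R := R) ξ z
  refine ⟨fun hf ξ => ?_, fun h => ?_⟩
  · rw [show HopfRep.Comod.coact (k := k) (A := A) f = f ⊗ₜ[k] (1 : A) from hf, LinearMap.lTensor_tmul,
      show (ξ.toLinearMap.restrictScalars k) (1 : A) = 0 from ξ.map_one_eq_zero, TensorProduct.tmul_zero]
  · show HopfRep.Comod.coact (k := k) (A := A) f = f ⊗ₜ[k] (1 : A)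
    refine ComodLib.ext_sliceL fun l => ?_
    rw [ComodLib.sliceL_tmul]
    have hz : ∀ ξ, Ξ ξ • f = 0 := fun ξ => by
      rw [ComodLib.smul_eq, hrid, h ξ]
      exact LinearEquiv.map_zero _
    have hb1 : ∀ ξ, Ξ ξ • (1 : A) = 0 := fun ξ => by
      rw [ComodLib.smul_eq, show HopfRep.Comod.coact (k := k) (A := A) (1 : A) = CoalgebraStruct.comul (R := k) (1 : A) from rfl,
        Bialgebra.comul_one, Algebra.TensorProduct.one_def, ComodLib.slice_tmul,
        show (Ξ ξ).ofConv 1 = 0 from MuSub.lieFn_one ξ, zero_smul]
    exact MuSub.eq_of_flow hU (fun v : {v : R // ∀ ξ, Ξ ξ • v = 0} => ComodLib.coeff (A := A) l (v : R))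
      (fun v => l (v : R) • (1 : A)) (fun _ _ => ⟨0, fun ξ => smul_zero _⟩)
      (fun ξ v => by rw [← map_smul, show MuSub.lieFn ξ • (v : R) = 0 from v.2 ξ])
      (fun ξ v => by rw [smul_comm, show MuSub.lieFn ξ • (1 : A) = 0 from hb1 ξ, smul_zero, map_zero, zero_smul])
      (fun v => by rw [ComodLib.counit_coeff, map_smul, Bialgebra.counit_one, smul_eq_mul, mul_one])
      ⟨f, hz⟩

end Groth.Agent.S18987
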