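import Groth.Statements.S18988
import Groth.Agent.MuSubLib.Flow
-- import your own Groth.Agent.* helpers here

set_option autoImplicit false
universe u
open TensorProduct
open HopfRep

open scoped ComodLib TensorProduct

namespace Groth.Agent.S18988

/-- In Hopf-algebra form, over an algebraically closed field k of characteristic zero, let A be a
finitely generated commutative Hopf algebra which is unipotent in the fixed-vector sense (the
coordinate ring of a unipotent group U), coacting multiplicatively on a finitely generated
commutative k-algebra R. Then a k-subspace V of R is a subcomodule (is invariant under U) if and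
only if it is stable under the infinitesimal action of every ε-derivation ξ : A → k: for every v in
V, applying ξ to the A-factor of the coaction of v gives an element of the image of V ⊗ k in R ⊗ k. -/
theorem result
    (k : Type u) [Field k] [IsAlgClosed k] [CharZero k]
    (A : Type u) [CommRing A] [HopfAlgebra k A] [Algebra.FiniteType k A] (hU : HopfRep.IsUnipotent k A)
    (R : Type u) [CommRing R] [Algebra k R] [Algebra.FiniteType k R]
    [HopfRep.Comod k A R] [GLin.IsCoactAlg k A R] (V : Submodule k R) :
    HopfRep.IsSubcomod (k := k) (A := A) V ↔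
      ∀ (ξ : LieHopf.Lie k A) (v : R), v ∈ V →
        LinearMap.lTensor R (ξ.toLinearMap.restrictScalars k) (HopfRep.Comod.coact (k := k) (A := A) v) ∈
          LinearMap.range (LinearMap.rTensor (LieHopf.K k A) V.subtype) := by
  classical
  let Ξ : LieHopf.Lie k A → ComodLib.Dual' k A := MuSub.lieFn
  have hrid := fun ξ z => MuSub.slice_lieFn (k := k) (A := A) (R := R) ξ z
  refine ⟨fun hV ξ v hv => ?_, fun h => ?_⟩
  · refine ⟨(⟨Ξ ξ • v, (ComodLib.isSubcomod_iff V).1 hV _ v hv⟩ : V) ⊗ₜ[k] (1 : k), ?_⟩
    rw [LinearMap.rTensor_tmul]
    refine (MuSub.ridK (A := A) R).injective ?_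
    refine Eq.trans ?_ (hrid ξ _)
    rw [MuSub.ridK_tmul]
    exact (one_smul k _)
  · refine (ComodLib.isSubcomod_iff V).2 fun x v hv => ?_
    by_contra hx
    obtain ⟨l, hl, hlV⟩ := Submodule.exists_dual_map_eq_bot_of_notMem hx inferInstance
    have hl0 : ∀ y ∈ V, l y = 0 := fun y hy => by
      have : l y ∈ V.map l := Submodule.mem_map_of_mem hy
      rwa [hlV, Submodule.mem_bot] at this
    have hstab : ∀ ξ, ∀ y ∈ V, Ξ ξ • y ∈ V := fun ξ y hy => by
      obtain ⟨z, hz⟩ := h ξ y hy
      rw [ComodLib.smul_eq, hrid, ← hz]
      clear hz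
      induction z using TensorProduct.induction_on with
      | zero => simp
      | add z z' hz hz' => rw [map_add, map_add]; exact add_mem hz hz'
      | tmul a c =>
        rw [LinearMap.rTensor_tmul, MuSub.ridK_tmul]
        exact V.smul_mem _ a.2
    have h0 := MuSub.eq_of_flow hU (fun y : V => ComodLib.coeff (A := A) l (y : R)) (fun _ => (0 : A))
      (fun ξ y => ⟨Ξ ξ • (y : R), hstab ξ _ y.2⟩) (fun ξ y => (map_smul _ _ _).symm) (fun ξ y => smul_zero _)
      (fun y => by rw [ComodLib.counit_coeff, hl0 _ y.2, map_zero]) ⟨v, hv⟩
    apply hl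
    have e := congrArg (fun a : A => x a) h0
    rw [ComodLib.smul_eq, ComodLib.apply_slice]
    exact e.trans (map_zero x.ofConv)

end Groth.Agent.S18988
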