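import Groth.Statements.S18989
import Groth.Agent.MuSubLib.Flow
-- import your own Groth.Agent.* helpers here

set_option autoImplicit false
universe u
open TensorProduct
open HopfRep

open scoped ComodLib TensorProduct

namespace Groth.Agent.S18989

/-- An action of a unipotent group on an affine scheme is determined by its infinitesimal action. Over
an algebraically closed field k of characteristic zero, let A be a finitely generated commutative
Hopf algebra, unipotent in the fixed-vector sense, coacting multiplicatively on two finitely
generated commutative k-algebras R₁ and R₂, and let e : R₁ → R₂ be an algebra isomorphism which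
intertwines the two infinitesimal actions: for every ε-derivation ξ : A → k and every f in R₁,
applying ξ to the A-factor of the coaction of e(f) equals e ⊗ id applied to the same for f. Then e
intertwines the coactions: the coaction of e(f) is (e ⊗ id) of the coaction of f for all f. (With R₁
= R₂ and e the identity this says that two actions with the same infinitesimal action coincide,
which is the printed assertion.) -/
theorem result
    (k : Type u) [Field k] [IsAlgClosed k] [CharZero k]
    (A : Type u) [CommRing A] [HopfAlgebra k A] [Algebra.FiniteType k A] (hU : HopfRep.IsUnipotent k A)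
    (R₁ R₂ : Type u) [CommRing R₁] [Algebra k R₁] [Algebra.FiniteType k R₁]
    [HopfRep.Comod k A R₁] [GLin.IsCoactAlg k A R₁]
    [CommRing R₂] [Algebra k R₂] [Algebra.FiniteType k R₂]
    [HopfRep.Comod k A R₂] [GLin.IsCoactAlg k A R₂]
    (e : R₁ ≃ₐ[k] R₂)
    (h : ∀ (ξ : LieHopf.Lie k A) (f : R₁),
      LinearMap.lTensor R₂ (ξ.toLinearMap.restrictScalars k) (HopfRep.Comod.coact (k := k) (A := A) (e f)) =
        LinearMap.rTensor (LieHopf.K k A) e.toLinearMap
          (LinearMap.lTensor R₁ (ξ.toLinearMap.restrictScalars k) (HopfRep.Comod.coact (k := k) (A := A) f))) :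
    ∀ f : R₁, HopfRep.Comod.coact (k := k) (A := A) (e f) =
      LinearMap.rTensor A e.toLinearMap (HopfRep.Comod.coact (k := k) (A := A) f) := by
  classical
  intro f
  let Ξ : LieHopf.Lie k A → ComodLib.Dual' k A := MuSub.lieFn
  have hrid₁ := fun ξ z => MuSub.slice_lieFn (k := k) (A := A) (R := R₁) ξ z
  have hrid₂ := fun ξ z => MuSub.slice_lieFn (k := k) (A := A) (R := R₂) ξ z
  have hint : ∀ ξ y, Ξ ξ • e y = e (Ξ ξ • y) := fun ξ y => by
    rw [ComodLib.smul_eq, ComodLib.smul_eq, hrid₁, hrid₂, h ξ y]
    generalize LinearMap.lTensor R₁ (ξ.toLinearMap.restrictScalars k) (HopfRep.Comod.coact (k := k) (A := A) y) = z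
    induction z using TensorProduct.induction_on with
    | zero => simp
    | add z z' hz hz' => simp only [map_add, hz, hz']
    | tmul a c =>
      rw [LinearMap.rTensor_tmul]
      rw [MuSub.ridK_tmul, MuSub.ridK_tmul]
      exact (map_smul e _ _).symm
  refine ComodLib.ext_sliceL fun l => ?_
  rw [ComodLib.sliceL_rTensor]
  exact MuSub.eq_of_flow hU (fun y : R₁ => ComodLib.coeff (A := A) l (e y))
    (fun y => ComodLib.coeff (A := A) (l ∘ₗ e.toLinearMap) y) (fun ξ y => Ξ ξ • y)
    (fun ξ y => by rw [← map_smul]; exact congrArg _ (hint ξ y))
    (fun ξ y => (map_smul _ _ _).symm)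
    (fun y => by rw [ComodLib.counit_coeff, ComodLib.counit_coeff]; rfl) f

end Groth.Agent.S18989
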