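import Groth.Statements.S18991
import Groth.Agent.A1AVLib.Semi
import Groth.Agent.SemiAbLib.BaseChange
import Groth.Agent.AVAmpleLib.HomDiv
import Groth.Agent.AVAmpleLib.BcDeg
import Groth.Agent.AVAmpleLib.ReducedSub
import Groth.Agent.AlgSpLib.ReducedSmooth
-- import your own Groth.Agent.* helpers here

set_option autoImplicit false
universe u
open CategoryTheory MonoidalCategory CartesianMonoidalCategory MonObj GrpObj AlgebraicGeometry CategoryTheory.Limits
open AbVar

namespace Groth.Agent.S18991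

section
attribute [-instance] CategoryTheory.Hom.commGroup

set_option backward.isDefEq.respectTransparency false
set_option linter.style.haveILetI false
set_option maxHeartbeats 1000000

variable {k : Type u} [Field k]

theorem smooth_aff (n : Type u) [Finite n] : Smooth (A1AVLib.aff k n).hom := by
  have h : (A1AVLib.aff k n).hom = (AffineSpace.SpecIso n (CommRingCat.of k)).hom ≫
      Spec.map (CommRingCat.ofHom MvPolynomial.C) :=
    ((Iso.inv_comp_eq _).1 (AffineSpace.SpecIso_inv_over (CommRingCat.of k)))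
  haveI : Smooth (Spec.map (CommRingCat.ofHom (MvPolynomial.C : k →+* MvPolynomial n k))) := by
    rw [HasRingHomProperty.Spec_iff (P := @Smooth)]
    exact RingHom.smooth_algebraMap.mpr ⟨inferInstance, inferInstance⟩
  rw [h]
  infer_instance

theorem main [PerfectField k] (X : Over (Spec (CommRingCat.of k))) [IsReduced X.left] [QuasiCompact X.hom]
    [LocallyOfFiniteType X.hom] (n : Type u) [Finite n]
    (G : Over (Spec (CommRingCat.of k))) [GrpObj G] [LocallyOfFiniteType G.hom]
    (G0 : Over (Spec (CommRingCat.of k))) [GrpObj G0] (e : G0 ⟶ G) [IsMonHom e] [IsOpenImmersion e.left]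
    [ConnectedSpace ↥G0.left] (hG0 : SemiAbLib.IsSemiAb G0)
    (φ : X ⊗ A1AVLib.aff k n ⟶ G) :
    φ = fst X (A1AVLib.aff k n) ≫ lift (𝟙 X) (toUnit X ≫ A1AVLib.mkT fun _ => 0) ≫ φ := by
  let Ω : Type u := AlgebraicClosure k
  haveI : LocallyOfFiniteType G0.hom := by rw [← Over.w e]; infer_instance
  haveI : QuasiCompact G0.hom := A1AVLib.quasiCompact_of_connected G0
  let B := AVAmpleLib.bcF (k := k) Ω
  letI gG : GrpObj (B.obj G) := Functor.grpObjObj
  letI gG0 : GrpObj (B.obj G0) := Functor.grpObjObj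
  haveI : IsMonHom (B.map e) := @Functor.map.instIsMonHom _ _ _ _ _ _ B _ _ _ _ _ e _
  haveI : IsOpenImmersion (B.map e).left :=
    MorphismProperty.of_isPullback (P := @IsOpenImmersion) (AVAmpleLib.isPullback_bc Ω e) ‹_›
  haveI : LocallyOfFiniteType (B.obj G).hom := inferInstanceAs (LocallyOfFiniteType (pullback.snd G.hom _))
  haveI : QuasiCompact (B.obj G0).hom := inferInstanceAs (QuasiCompact (pullback.snd G0.hom _))
  obtain ⟨T, _, i, A, _, q, hi, -, hT, hq, -, -, hker, hAp, hAs, hAc⟩ := SemiAbLib.isSemiAb_bc Ω hG0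
  haveI := hi; haveI := hq; haveI := hAp; haveI := hAs; haveI := hAc
  haveI : IsSeparated G.hom := Groth.Agent.GrpField.isSeparated_grp (G := G)
  haveI : IsSeparated (B.obj G).hom := inferInstanceAs (IsSeparated (pullback.snd G.hom _))
  let P := A1AVLib.aff k n
  haveI := smooth_aff (k := k) n
  haveI : LocallyOfFiniteType (X ⊗ P).hom := by rw [Over.tensorObj_hom]; infer_instance
  haveI : IsReduced (X ⊗ P).left := by
    haveI : Smooth (fst X P).left := inferInstanceAs (Smooth (pullback.fst X.hom P.hom))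
    exact AlgSpLib.isReduced_of_smooth (fst X P).left
  haveI : GeometricallyReduced (X ⊗ P).hom := AVAmpleLib.gr_of_isReduced (X ⊗ P).hom
  let ξ := Spec.map (CommRingCat.ofHom (algebraMap k Ω))
  haveI : IsReduced (B.obj (X ⊗ P)).left :=
    GeometricallyReduced.geometrically_isReduced (f := (X ⊗ P).hom) ξ _ _ (IsPullback.of_hasPullback _ ξ)
  haveI : LocallyOfFiniteType (B.obj (X ⊗ P)).hom := inferInstanceAs (LocallyOfFiniteType (pullback.snd (X ⊗ P).hom ξ))
  refine AVAmpleLib.map_injective Ω (AVAmpleLib.hom_ext_of_points _ _ fun b => ?_)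
  obtain ⟨a, rfl⟩ := (AVAmpleLib.bcPt_bijective Ω).2 b
  rw [← AVAmpleLib.bcPt_comp, ← AVAmpleLib.bcPt_comp]
  refine congrArg (AVAmpleLib.bcPt Ω) ?_
  -- the line through the point
  let x : SGA7.pt (K := k) Ω ⟶ X := a ≫ fst X P
  let v : SGA7.pt (K := k) Ω ⟶ P := a ≫ snd X P
  let P' := A1AVLib.aff Ω n
  let X' : Over (Spec (CommRingCat.of k)) := Over.mk (P'.hom ≫ ξ)
  let π : X' ⟶ SGA7.pt (K := k) Ω := Over.homMk P'.hom rfl
  let w : X' ⟶ P := A1AVLib.mkT (T := X') fun j => AffineSpace.coord _ j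
  let L : X' ⟶ G := lift (π ≫ x) w ≫ φ
  let F : P' ⟶ B.obj G := Over.homMk (pullback.lift L.left P'.hom (Over.w L)) (pullback.lift_snd _ _ _)
  have hpt : ∀ c : 𝟙_ (Over (Spec (CommRingCat.of Ω))) ⟶ P', ∃ c' : SGA7.pt (K := k) Ω ⟶ X',
      c'.left = c.left ∧ c ≫ F = AVAmpleLib.bcPt Ω (c' ≫ L) := fun c => by
    refine ⟨Over.homMk c.left (by show c.left ≫ P'.hom ≫ ξ = ξ; rw [← Category.assoc, Over.w c]; exact Category.id_comp ξ), rfl, ?_⟩
    refine Over.OverMorphism.ext ?_
    rw [AVAmpleLib.bcPt_left]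
    apply pullback.hom_ext
    · simp [F]
    · rw [pullback.lift_snd]
      simpa [F] using Over.w c
  have hw : ∀ (c' : SGA7.pt (K := k) Ω ⟶ X'), c' ≫ π = 𝟙 _ → ∀ u : SGA7.pt (K := k) Ω ⟶ P,
      (∀ j, c'.left.appTop (AffineSpace.coord _ j) = A1AVLib.val u j) → c' ≫ L = lift x u ≫ φ := fun c' hc' u hu => by
    have h1 : c' ≫ w = u := by
      refine A1AVLib.val_inj ?_
      rw [A1AVLib.val_comp, A1AVLib.val_mkT]
      exact funext hu
    show c' ≫ lift (π ≫ x) w ≫ φ = _
    rw [← Category.assoc, comp_lift, h1, ← Category.assoc c' π, hc', Category.id_comp]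
  let cv : 𝟙_ (Over (Spec (CommRingCat.of Ω))) ⟶ P' := A1AVLib.mkT (T := 𝟙_ _) (A1AVLib.val (T := SGA7.pt (K := k) Ω) (n := n) v)
  let c0 : 𝟙_ (Over (Spec (CommRingCat.of Ω))) ⟶ P' := A1AVLib.mkT fun _ => 0
  obtain ⟨cv', hcv, hcvF⟩ := hpt cv
  obtain ⟨c0', hc0, hc0F⟩ := hpt c0
  have hF := A1AVLib.large_const (B.map e) i hT q hker F c0
  have hEq : cv ≫ F = c0 ≫ F := by
    conv_lhs => rw [hF]
    rw [← Category.assoc cv, toUnit_unique (cv ≫ toUnit _) (𝟙 _), Category.id_comp]
  rw [hcvF, hc0F] at hEq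
  have hπ : ∀ (c' : SGA7.pt (K := k) Ω ⟶ X') (c : 𝟙_ (Over (Spec (CommRingCat.of Ω))) ⟶ P'), c'.left = c.left →
      c' ≫ π = 𝟙 _ := fun c' c h => by
    refine Over.OverMorphism.ext ?_
    show c'.left ≫ P'.hom = 𝟙 _
    rw [h]
    exact Over.w c
  have h3 := (AVAmpleLib.bcPt_bijective Ω).1 hEq
  rw [hw cv' (hπ _ _ hcv) v fun j => by
      rw [hcv]; exact congrFun (A1AVLib.val_mkT _) j,
    hw c0' (hπ _ _ hc0) (toUnit _ ≫ A1AVLib.mkT fun _ => 0) fun j => by
      rw [hc0, A1AVLib.val_comp, A1AVLib.val_mkT]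
      exact (AffineSpace.homOfVector_appTop_coord _ _ j).trans (map_zero _).symm] at h3
  have ha : lift x v = a := CartesianMonoidalCategory.hom_ext _ _ (lift_fst _ _) (lift_snd _ _)
  rw [ha] at h3
  rw [h3, ← Category.assoc a, ← Category.assoc (a ≫ fst X P), comp_lift, Category.comp_id,
    ← Category.assoc (a ≫ fst X P), toUnit_unique ((a ≫ fst X P) ≫ toUnit X) (toUnit _)]

/-- The affine space used in the statement. -/
theorem main_fin [PerfectField k] (X : Over (Spec (CommRingCat.of k))) [IsReduced X.left] [QuasiCompact X.hom]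
    [LocallyOfFiniteType X.hom] (n : ℕ)
    (G : Over (Spec (CommRingCat.of k))) [GrpObj G] [LocallyOfFiniteType G.hom]
    (G0 : Over (Spec (CommRingCat.of k))) [GrpObj G0] (e : G0 ⟶ G) [IsMonHom e] [IsOpenImmersion e.left]
    [ConnectedSpace ↥G0.left] (hG0 : SemiAbLib.IsSemiAb G0)
    (φ : X ⊗ Over.mk (Spec.map (CommRingCat.ofHom (algebraMap k (MvPolynomial (Fin n) k)))) ⟶ G) :
    ∃ ψ : X ⟶ G, φ = fst X (Over.mk (Spec.map (CommRingCat.ofHom (algebraMap k (MvPolynomial (Fin n) k))))) ≫ ψ := by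
  let P₀ : Over (Spec (CommRingCat.of k)) := Over.mk (Spec.map (CommRingCat.ofHom (algebraMap k (MvPolynomial (Fin n) k))))
  let r := (MvPolynomial.renameEquiv k (Equiv.ulift.{u, 0} (α := Fin n))).toRingEquiv
  let e₀ : A1AVLib.aff k (ULift.{u} (Fin n)) ⟶ P₀ :=
    Over.homMk ((AffineSpace.SpecIso (ULift.{u} (Fin n)) (CommRingCat.of k)).hom ≫
      Spec.map (CommRingCat.ofHom r.symm.toRingHom)) (by
        show (_ ≫ _) ≫ Spec.map _ = _
        rw [Category.assoc, ← Spec.map_comp, ← CommRingCat.ofHom_comp,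
          show r.symm.toRingHom.comp (algebraMap k (MvPolynomial (Fin n) k)) = MvPolynomial.C from
            RingHom.ext fun c => (MvPolynomial.renameEquiv k Equiv.ulift).symm.commutes c]
        exact ((Iso.inv_comp_eq _).1 (AffineSpace.SpecIso_inv_over (CommRingCat.of k))).symm)
  haveI : IsIso (CommRingCat.ofHom r.symm.toRingHom) := r.symm.toCommRingCatIso.isIso_hom
  haveI : IsIso ((Over.forget _).map e₀) :=
    inferInstanceAs (IsIso ((AffineSpace.SpecIso (ULift.{u} (Fin n)) (CommRingCat.of k)).hom ≫ Spec.map (CommRingCat.ofHom r.symm.toRingHom)))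
  haveI : IsIso e₀ := isIso_of_reflects_iso e₀ (Over.forget _)
  refine ⟨lift (𝟙 X) (toUnit X ≫ A1AVLib.mkT fun _ => 0) ≫ (X ◁ e₀) ≫ φ, ?_⟩
  rw [← cancel_epi (X ◁ e₀)]
  refine (main X _ G G0 e hG0 ((X ◁ e₀) ≫ φ)).trans ?_
  rw [whiskerLeft_fst_assoc]

end

/-- In the form of the factorization it amounts to, let k be a perfect field, X a reduced separated
k-scheme of finite type, n ≥ 0 and G a large group over k, that is a commutative separated k-group
scheme locally of finite type together with a connected open subgroup scheme G⁰ (its neutral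
component) which is semiabelian: G⁰ has a closed subgroup scheme T that is a torus and is the kernel
of a flat surjective homomorphism from G⁰ onto an abelian variety A (a proper smooth connected
k-group scheme). Then every k-morphism X ×_k 𝔸ⁿ_k → G factors through the first projection X ×_k
𝔸ⁿ_k → X. (So a k-morphism X → A_X that is universal for morphisms from X to large groups remains
universal after composing with the projection: the Albanese scheme of X ×_k 𝔸ⁿ_k is that of X via
the projection.) -/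
theorem result (k : Type u) [Field k] [PerfectField k]
    (X : Over (Spec (CommRingCat.of k))) [IsReduced X.left] [IsSeparated X.hom] [QuasiCompact X.hom]
    [LocallyOfFiniteType X.hom] (n : ℕ)
    (G : Over (Spec (CommRingCat.of k))) [GrpObj G] [IsCommMonObj G] [IsSeparated G.hom] [LocallyOfFiniteType G.hom]
    (G0 : Over (Spec (CommRingCat.of k))) [GrpObj G0] (e : G0 ⟶ G) [IsMonHom e] [IsOpenImmersion e.left]
    [ConnectedSpace ↥G0.left]
    (T : Over (Spec (CommRingCat.of k))) [GrpObj T] (i : T ⟶ G0) [IsMonHom i] [IsClosedImmersion i.left]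
    (hT : Red.IsTorus T)
    (A : Over (Spec (CommRingCat.of k))) [GrpObj A] [IsProper A.hom] [Smooth A.hom] [ConnectedSpace ↥A.left]
    (q : G0 ⟶ A) [IsMonHom q] [Surjective q.left] [Flat q.left] (hker : AlgGrp.IsKernel i q)
    (φ : X ⊗ Over.mk (Spec.map (CommRingCat.ofHom (algebraMap k (MvPolynomial (Fin n) k)))) ⟶ G) :
    ∃ ψ : X ⟶ G, φ = fst X (Over.mk (Spec.map (CommRingCat.ofHom (algebraMap k (MvPolynomial (Fin n) k))))) ≫ ψ := by
  exact main_fin X n G G0 e
    ⟨T, inferInstance, i, A, inferInstance, q, inferInstance, inferInstance, hT, inferInstance, inferInstance,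
      inferInstance, hker, inferInstance, inferInstance, inferInstance⟩ φ

end Groth.Agent.S18991
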