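import Groth.Statements.S18994
-- import your own Groth.Agent.* helpers here

set_option autoImplicit false
universe u
open TernForm

namespace Groth.Agent.S18994

open MvPolynomial

variable {R : Type u} [CommRing R] {j : Fin 3} {q : MvPolynomial (Fin 3) R}

theorem coeff_q (hq : q.IsHomogeneous 2) {e : Fin 3 →₀ ℕ} (he : q.coeff e ≠ 0) :
    e.degree = 2 ∧ (2 ≤ e j → e = Finsupp.single j 2) := by
  have hd : e.degree = 2 := by
    rw [Finsupp.degree_eq_weight_one]
    exact hq he
  refine ⟨hd, fun h => ?_⟩
  rw [Finsupp.degree_eq_sum, Fin.sum_univ_three] at hd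
  ext i
  fin_cases j <;> fin_cases i <;> simp_all <;> omega

theorem eq_zero_of_low (hq : q.IsHomogeneous 2) (hqj : IsUnit (q.coeff (Finsupp.single j 2))) (s : MvPolynomial (Fin 3) R)
    (h : ∀ e : Fin 3 →₀ ℕ, 2 ≤ e j → (q * s).coeff e = 0) : s = 0 := by
  by_contra hs
  obtain ⟨m, hm, hmax⟩ := s.support.exists_max_image (fun e => e j) (by simpa [MvPolynomial.support_nonempty] using hs)
  have h1 := h (Finsupp.single j 2 + m) (by simp)
  rw [MvPolynomial.coeff_mul, Finset.sum_eq_single (Finsupp.single j 2, m)] at h1
  · exact (MvPolynomial.mem_support_iff.1 hm) (hqj.mul_right_eq_zero.1 h1)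
  · rintro ⟨e, m'⟩ hem hne
    by_contra hne0
    have he : q.coeff e ≠ 0 := left_ne_zero_of_mul hne0
    have hm' : m' ∈ s.support := MvPolynomial.mem_support_iff.2 (right_ne_zero_of_mul hne0)
    have hsum : e + m' = Finsupp.single j 2 + m := Finset.mem_antidiagonal.1 hem
    have hj := DFunLike.congr_fun hsum j
    simp only [Finsupp.add_apply, Finsupp.single_eq_same] at hj
    have := hmax m' hm'
    have he2 := (coeff_q (j := j) hq he).2 (by omega)
    subst he2
    exact hne (Prod.ext rfl (add_left_cancel hsum))
  · intro h
    exact absurd (Finset.mem_antidiagonal.2 (show Finsupp.single j 2 + m = Finsupp.single j 2 + m from rfl)) h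

/-- Let R be a commutative ring, j ∈ {0, 1, 2}, q a homogeneous polynomial of degree 2 in R[X_0, X_1,
X_2] whose coefficient of X_j^2 is a unit, and n a natural number. Then the family consisting of the
monomials of degree n not divisible by X_j^2 (exponent of X_j at most 1) together with the products
q · m, m running over the monomials of degree n − 2 (indexed by exponents m with |m| + 2 = n), is
linearly independent over R and spans exactly the homogeneous polynomials of degree n; in particular
it is a basis of that module and the two parts are disjoint. (The published lemma is stated over a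
field with the coefficient nonzero, the special case of a field R here; the version over a ring with
the coefficient invertible is what its change-of-basis argument gives — ordering monomials by
decreasing exponent of X_j makes the matrix triangular with diagonal entries 1 and that coefficient
— and is the form used to trivialise the bundle of degree-n forms modulo multiples of q over the
locus where the coefficient is invertible. The published lemma also allows an arbitrary monomial of
degree 2 in place of X_j^2; for the mixed monomial X_1X_2, the form q = X_1^2 + X_1X_2 + X_2^2 and n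
= 3 give the linear relation q·X_1 − q·X_2 = X_1^3 − X_2^3 among members of the family, so the claim
fails there and is stated here for the square of a variable.) -/
theorem result
    (R : Type u) [CommRing R] (j : Fin 3) (q : MvPolynomial (Fin 3) R)
    (hq : q.IsHomogeneous 2) (hqj : IsUnit (q.coeff (Finsupp.single j 2))) (n : ℕ) :
    LinearIndependent R (Sum.elim (fun m : {m : Fin 3 →₀ ℕ // m.degree = n ∧ m j < 2} => MvPolynomial.monomial m.1 (1 : R)) (fun m : {m : Fin 3 →₀ ℕ // m.degree + 2 = n} => q * MvPolynomial.monomial m.1 (1 : R))) ∧
      Submodule.span R (Set.range (Sum.elim (fun m : {m : Fin 3 →₀ ℕ // m.degree = n ∧ m j < 2} => MvPolynomial.monomial m.1 (1 : R)) (fun m : {m : Fin 3 →₀ ℕ // m.degree + 2 = n} => q * MvPolynomial.monomial m.1 (1 : R)))) = MvPolynomial.homogeneousSubmodule (Fin 3) R n := by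
  classical
  let A := fun m : {m : Fin 3 →₀ ℕ // m.degree = n ∧ m j < 2} => MvPolynomial.monomial m.1 (1 : R)
  let B := fun m : {m : Fin 3 →₀ ℕ // m.degree + 2 = n} => q * MvPolynomial.monomial m.1 (1 : R)
  have hmon : ∀ P : (Fin 3 →₀ ℕ) → Prop,
      LinearIndependent R (fun m : {m // P m} => MvPolynomial.monomial m.1 (1 : R)) := fun P => by
    have := (MvPolynomial.basisMonomials (Fin 3) R).linearIndependent.comp (fun m : {m // P m} => m.1) Subtype.val_injective
    simpa [Function.comp_def] using this
  refine ⟨LinearIndependent.sum_type (hmon _) ?_ ?_, le_antisymm ?_ ?_⟩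
  · refine (hmon _).map' (LinearMap.mulLeft R q) (LinearMap.ker_eq_bot'.2 fun s hs => ?_)
    exact eq_zero_of_low (j := j) hq hqj s fun e _ => by
      rw [show q * s = 0 from hs]
      simp
  · rw [Submodule.disjoint_def]
    intro x hx hx'
    have hlow : ∀ e : Fin 3 →₀ ℕ, 2 ≤ e j → x.coeff e = 0 := fun e he => by
      clear hx'
      induction hx using Submodule.span_induction with
      | mem x hx =>
        obtain ⟨m, rfl⟩ := hx
        rw [MvPolynomial.coeff_monomial, if_neg]
        intro hme
        have := m.2.2
        rw [hme] at this
        omega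
      | zero => simp
      | add a b _ _ ha hb => simp [ha, hb]
      | smul c a _ ha => simp [ha]
    obtain ⟨s, rfl⟩ : ∃ s, x = q * s := by
      have hle : Submodule.span R (Set.range B) ≤ LinearMap.range (LinearMap.mulLeft R q) :=
        Submodule.span_le.2 (by rintro _ ⟨m, rfl⟩; exact ⟨_, rfl⟩)
      obtain ⟨s, hs⟩ := hle hx'
      exact ⟨s, hs.symm⟩
    rw [eq_zero_of_low hq hqj s hlow, mul_zero]
  · rw [Submodule.span_le]
    rintro _ ⟨m | m, rfl⟩
    · exact MvPolynomial.isHomogeneous_monomial _ m.2.1
    · have := hq.mul (MvPolynomial.isHomogeneous_monomial (1 : R) (n := m.1.degree) rfl)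
      rw [add_comm, m.2] at this
      exact this
  · intro x hx
    have key : ∀ (b : ℕ) (e : Fin 3 →₀ ℕ), e j ≤ b → e.degree = n →
        MvPolynomial.monomial e (1 : R) ∈ Submodule.span R (Set.range (Sum.elim A B)) := by
      intro b
      induction b with
      | zero => exact fun e he hn => Submodule.subset_span ⟨Sum.inl ⟨e, hn, by omega⟩, rfl⟩
      | succ b ih =>
        intro e he hn
        by_cases h2 : e j < 2
        · exact Submodule.subset_span ⟨Sum.inl ⟨e, hn, h2⟩, rfl⟩
        obtain ⟨m, rfl⟩ : ∃ m, e = Finsupp.single j 2 + m :=
          ⟨e - Finsupp.single j 2, (add_tsub_cancel_of_le (Finsupp.single_le_iff.2 (by omega))).symm⟩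
        have hmn : m.degree + 2 = n := by
          rw [← hn, map_add, Finsupp.degree_single]; ring
        simp only [Finsupp.add_apply, Finsupp.single_eq_same] at he
        set rest := q * MvPolynomial.monomial m (1 : R) -
          q.coeff (Finsupp.single j 2) • MvPolynomial.monomial (Finsupp.single j 2 + m) (1 : R) with hrest
        have hmem : rest ∈ Submodule.span R (Set.range (Sum.elim A B)) := by
          rw [MvPolynomial.as_sum rest]
          refine Submodule.sum_mem _ fun d hd => ?_
          rw [show MvPolynomial.monomial d (rest.coeff d) = rest.coeff d • MvPolynomial.monomial d (1 : R) by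
            rw [MvPolynomial.smul_monomial, smul_eq_mul, mul_one]]
          refine Submodule.smul_mem _ _ ?_
          have hd' := MvPolynomial.mem_support_iff.1 hd
          have hne : d ≠ Finsupp.single j 2 + m := fun h => hd' (by
            rw [h, hrest, MvPolynomial.coeff_sub, MvPolynomial.coeff_mul_monomial, MvPolynomial.coeff_smul,
              MvPolynomial.coeff_monomial, if_pos rfl, mul_one, smul_eq_mul, mul_one, sub_self])
          rw [hrest, MvPolynomial.coeff_sub, MvPolynomial.coeff_smul, MvPolynomial.coeff_monomial, if_neg hne.symm,
            smul_zero, sub_zero, MvPolynomial.coeff_mul_monomial', mul_one] at hd'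
          split_ifs at hd' with hle
          · obtain ⟨hdeg, hj2⟩ := coeff_q (j := j) hq hd'
            have hdd : d = (d - m) + m := (tsub_add_cancel_of_le hle).symm
            refine ih d ?_ ?_
            · by_contra hb
              rw [hdd] at hb
              simp only [Finsupp.add_apply] at hb
              have h2' := hj2 (by omega)
              exact hne (by rw [hdd, h2'])
            · rw [hdd, map_add, hdeg]; omega
          · exact absurd rfl hd'
        obtain ⟨c, hc⟩ := hqj
        have heq : MvPolynomial.monomial (Finsupp.single j 2 + m) (1 : R) =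
            (↑c⁻¹ : R) • (q * MvPolynomial.monomial m (1 : R) - rest) := by
          rw [hrest, sub_sub_cancel, ← hc, smul_smul, Units.inv_mul, one_smul]
        rw [heq]
        exact Submodule.smul_mem _ _ (Submodule.sub_mem _ (Submodule.subset_span ⟨Sum.inr ⟨m, hmn⟩, rfl⟩) hmem)
    rw [MvPolynomial.as_sum x]
    refine Submodule.sum_mem _ fun d hd => ?_
    rw [show MvPolynomial.monomial d (x.coeff d) = x.coeff d • MvPolynomial.monomial d (1 : R) by
      rw [MvPolynomial.smul_monomial, smul_eq_mul, mul_one]]
    refine Submodule.smul_mem _ _ (key _ d le_rfl ?_)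
    rw [Finsupp.degree_eq_weight_one]
    exact ((MvPolynomial.mem_homogeneousSubmodule n x).1 hx) (MvPolynomial.mem_support_iff.1 hd)

end Groth.Agent.S18994
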