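import Groth.Statements.S18995
import Groth.Agent.CycPBLib.WhitGeom
-- import your own Groth.Agent.* helpers here

set_option autoImplicit false
universe u
open CategoryTheory AlgebraicGeometry
open ProjBd

namespace Groth.Agent.S18995

namespace RangeAux

theorem isInvertible_of_rank_one {X : Scheme.{u}} {L : X.Modules} (h : FlatMod.IsFinLocFreeOfRank 1 L) :
    PicF.IsInvertible L := fun x => by
  obtain ⟨U, hU, ⟨e⟩⟩ := h x
  exact ⟨U, hU, ⟨e ≪≫
    { hom := Limits.Sigma.desc fun _ => 𝟙 _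
      inv := Limits.Sigma.ι (fun _ : Fin 1 => Coh.structureModule (U : Scheme.{u})) 0
      hom_inv_id := Limits.Sigma.hom_ext _ _ fun i => by fin_cases i; simp
      inv_hom_id := Limits.Sigma.ι_desc _ _ }⟩⟩

open CycPBLib
open AmpleLib (res GenOn GenAt)
open KFlatLib (pb puSec)
open Opposite TopologicalSpace Limits

theorem mem_range {X P P₂ : Scheme.{u}} {p : P ⟶ X} {p₂ : P₂ ⟶ X} {E E₁ E₂ : X.Modules} {O1 : P.Modules} {O₂ : P₂.Modules}
    {q : pb p E ⟶ O1} {q₂ : pb p₂ E₂ ⟶ O₂} {a : E₁ ⟶ E} {b : E ⟶ E₂}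
    (hP : KRR.IsProjBundle p E O1 q) (hP₂ : KRR.IsProjBundle p₂ E₂ O₂ q₂) (hab : a ≫ b = 0)
    (hex : (ShortComplex.mk a b hab).ShortExact) {j : P₂ ⟶ P} (hj : j ≫ p = p₂) (i₂ : pb j O1 ≅ O₂)
    (hi₂ : compQ q hj i₂.hom = (Scheme.Modules.pullback p₂).map b ≫ q₂) (hinv : PicF.IsInvertible O1)
    {z : P} (hno' : z ∉ genOpen q a hinv) : z ∈ Set.range j := by
  have hno := fun h => hno' (mem_genOpen.2 h)
  haveI := hP.epi
  let T := Spec (P.residueField z)
  let x : T ⟶ P := P.fromSpecResidueField z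
  have hx : ∀ s : T, x s = z := fun s => P.fromSpecResidueField_apply z s
  obtain ⟨V, e, hzV, he⟩ := TwistLib.exists_genOn hinv z
  have hA : (⊤ : T.Opens) ≤ x ⁻¹ᵁ V := fun s _ => show x s ∈ V by rw [hx]; exact hzV
  have hσ : GenOn (pb x O1) (res _ hA (puSec x e)) := TwistLib.genOn_of_genAt fun s hs => by
    rw [AmpleLib.genAt_res hA _ hs]
    exact TwistLib.GenAt.puSec x (he.genAt (hA hs))
  obtain ⟨i, -⟩ := exists_iso_one _ hσ
  let g := x ≫ p
  let c : pb g E ⟶ Coh.structureModule T := compQ q (rfl : x ≫ p = g) i.hom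
  haveI : Epi ((Scheme.Modules.pullback x).map q) := by
    haveI := (Scheme.Modules.pullbackPushforwardAdjunction x).isLeftAdjoint
    exact Functor.map_epi _ _
  haveI : Epi c := by
    show Epi (compQ q rfl i.hom)
    unfold compQ
    infer_instance
  have hc : (Scheme.Modules.pullback g).map a ≫ c = 0 := by
    refine hom_ext_pu _ _ _ fun W m => ?_
    show c.app _ (((Scheme.Modules.pullback g).map a).app _ (puSec g m)) = _
    rw [KFlatLib.puSec_natural g a m]
    refine (comp_apply_puSec q rfl i.hom (a.app W m)).trans ((congr($((Coh.structureModule T).presheaf.map_id _) _)).trans ?_)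
    let σ := q.app (p ⁻¹ᵁ W) (puSec p (a.app W m))
    let y : Γ(T, x ⁻¹ᵁ (p ⁻¹ᵁ W)) := i.hom.app (x ⁻¹ᵁ (p ⁻¹ᵁ W)) (puSec x σ)
    show y = 0
    refine (basicOpen_eq_bot_iff y).1 (le_bot_iff.1 fun s hs => ?_)
    have hs' : s ∈ x ⁻¹ᵁ (p ⁻¹ᵁ W) := T.basicOpen_le y hs
    have h2 : GenAt (Coh.structureModule T) (W := x ⁻¹ᵁ (p ⁻¹ᵁ W)) (y • (1 : Γ(T, x ⁻¹ᵁ (p ⁻¹ᵁ W)))) hs' :=
      (AmpleLib.genAt_smul_iff y (M := Coh.structureModule T) _ hs' ((AmpleLib.one_genOn _).genAt hs')).2 hs
    rw [show y • (1 : Γ(T, x ⁻¹ᵁ (p ⁻¹ᵁ W))) = y from mul_one y] at h2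
    have h3 := (genAt_puSec_iff' x hinv σ (x := s) hs').1 ((TwistLib.genAt_app_iso i _ (x := s) hs').1 h2)
    refine (hno ?_).elim
    rw [← hx s]
    exact ⟨W, m, hs', h3⟩
  obtain ⟨s', hs'⟩ := exists_desc hab hex g c hc
  haveI : Epi ((Scheme.Modules.pullback g).map b ≫ s') := hs' ▸ inferInstance
  haveI : Epi s' := epi_of_epi ((Scheme.Modules.pullback g).map b) s'
  obtain ⟨f, ⟨hf, i', hi'⟩, -⟩ := hP₂.univ T g _ (CohCmpLib.rank_one_structureModule T) s' inferInstance
  have hfj : (f ≫ j) ≫ p = g := by rw [Category.assoc, hj, hf]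
  have h5 : compQ q hfj (((Scheme.Modules.pullbackComp f j).app O1).symm ≪≫
      (Scheme.Modules.pullback f).mapIso i₂ ≪≫ i').hom = c := by
    rw [← hs', ← hi']
    exact (compQ_natural hj i₂.hom hi₂ f hf hfj i'.hom).symm
  obtain ⟨_, -, huniq⟩ := hP.univ T g _ (CohCmpLib.rank_one_structureModule T) c inferInstance
  have h6 : f ≫ j = x := (huniq _ ⟨hfj, _, h5⟩).trans (huniq x ⟨rfl, i, rfl⟩).symm
  exact ⟨f (IsLocalRing.closedPoint _), (congr($(h6).base _)).trans (hx _)⟩


theorem main {X P P₂ : Scheme.{u}} {p : P ⟶ X} {p₂ : P₂ ⟶ X} {E E₁ E₂ : X.Modules} {O1 : P.Modules} {O₂ : P₂.Modules}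
    {q : pb p E ⟶ O1} {q₂ : pb p₂ E₂ ⟶ O₂} {a : E₁ ⟶ E} {b : E ⟶ E₂}
    (hP : KRR.IsProjBundle p E O1 q) (hP₂ : KRR.IsProjBundle p₂ E₂ O₂ q₂) (hab : a ≫ b = 0)
    (hex : (ShortComplex.mk a b hab).ShortExact) {j : P₂ ⟶ P} (hj : j ≫ p = p₂) (i₂ : pb j O1 ≅ O₂)
    (hi₂ : compQ q hj i₂.hom = (Scheme.Modules.pullback p₂).map b ≫ q₂) (hinv : PicF.IsInvertible O1)
    (W : P.Opens) (hW : Disjoint (W : Set P) (Set.range j)) :
    Epi ((Scheme.Modules.pullback W.ι).map ((Scheme.Modules.pullback p).map a ≫ q)) := by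
  refine epi_of_genAt _ fun x => ?_
  obtain ⟨V, m, hz, hgen⟩ := mem_genOpen.1 (of_not_not fun h =>
    Set.disjoint_left.1 hW x.2 (mem_range hP hP₂ hab hex hj i₂ hi₂ hinv h) : W.ι x ∈ genOpen q a hinv)
  refine ⟨W.ι ⁻¹ᵁ (p ⁻¹ᵁ V), hz, puSec W.ι (puSec p m), ?_⟩
  rw [KFlatLib.puSec_natural W.ι _ (puSec p m)]
  refine TwistLib.GenAt.puSec W.ι (x := x) (hx := hz) ?_
  rw [show ((Scheme.Modules.pullback p).map a ≫ q).app (p ⁻¹ᵁ V) (puSec p m) = q.app _ (puSec p (a.app V m)) from
    congrArg (q.app _) (KFlatLib.puSec_natural p a m)]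
  exact hgen

end RangeAux



/-- Let X be a scheme and 0 → A → E → B → 0 a short exact sequence of finite locally free O_X-modules.
Let (π : P → X, O(1), q) be the projective bundle of rank-one quotients of E and (π_B : P_B → X,
O_B(1), q_B) that of B, each given through its universal property, and let c : P_B → P be the
morphism over X together with an isomorphism c^*O(1) ≅ O_B(1) identifying c^*q with π_B^*E → π_B^*B
→ O_B(1); thus c is the closed sub-bundle P(B) ⊂ P(E). Then for every open subset W of P that does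
not meet the image of c, the restriction to W of the composite π^*A → π^*E → O(1) is an epimorphism
of O_W-modules. Consequently W carries an invertible quotient of the pull-back of A and hence a
morphism to P(A) over X, the projection away from the sub-bundle. (In the convention where a
projective bundle parametrises lines rather than rank-one quotients, this is the statement that for
an exact sequence 0 → F → E → G → 0 of locally free sheaves the tautological line sub-bundle of E
restricted to the complement of P(F) in P(E) maps isomorphically onto a line sub-bundle of the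
pull-back of G, giving the canonical morphism from that complement to P(G); A, E, B here are the
duals of G, E, F there. The published statement takes X of finite type over a field; the row is
stated for an arbitrary scheme X, which the argument allows.) -/
theorem result
    (X P PB : Scheme.{u}) (S : ShortComplex X.Modules) (hS : S.ShortExact)
    (hA : FlatMod.IsFinLocFree S.X₁) (hE : FlatMod.IsFinLocFree S.X₂) (hB : FlatMod.IsFinLocFree S.X₃)
    (π : P ⟶ X) (O1 : P.Modules) (q : (Scheme.Modules.pullback π).obj S.X₂ ⟶ O1)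
    (hP : KRR.IsProjBundle π S.X₂ O1 q)
    (πB : PB ⟶ X) (O1B : PB.Modules) (qB : (Scheme.Modules.pullback πB).obj S.X₃ ⟶ O1B)
    (hPB : KRR.IsProjBundle πB S.X₃ O1B qB)
    (c : PB ⟶ P) (hc : c ≫ π = πB) (ec : (Scheme.Modules.pullback c).obj O1 ≅ O1B)
    (hcq : (Scheme.Modules.pullbackCongr hc).inv.app S.X₂ ≫ (Scheme.Modules.pullbackComp c π).inv.app S.X₂ ≫
      (Scheme.Modules.pullback c).map q ≫ ec.hom = (Scheme.Modules.pullback πB).map S.g ≫ qB)
    (W : P.Opens) (hW : Disjoint (W : Set P) (Set.range c.base)) :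
    Epi ((Scheme.Modules.pullback W.ι).map ((Scheme.Modules.pullback π).map S.f ≫ q)) := by
  exact RangeAux.main hP hPB S.zero hS hc ec hcq (RangeAux.isInvertible_of_rank_one hP.invertible) W hW

end Groth.Agent.S18995
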