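import Groth.Statements.S18999
import Groth.Agent.CMRRLib.Main
import Groth.Agent.GorLib.Scheme
import Groth.Agent.RTrivLib.Curve
import Groth.Agent.DualCxLib.QuotDual
import Groth.Agent.SMTLib.CMQuot

set_option linter.style.haveILetI false
set_option backward.isDefEq.respectTransparency false
set_option backward.isDefEq.respectTransparency.types false

set_option autoImplicit false
universe u
open CategoryTheory CategoryTheory.Limits AlgebraicGeometry
open Surf

namespace Groth.Agent.S18999

/-- Let k be a field and X an integral scheme of dimension two admitting a closed immersion into some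
P^n_k over k, such that X → Spec k is a local complete intersection morphism. Let (ω, t) be a
dualizing sheaf for X — ω coherent, t a k-linear form on H^2(X, ω), such that for every coherent F
and every k-linear form ψ on H^2(X, F) there is exactly one φ : F → ω with ψ = t ∘ H^2(φ) — and
assume ω invertible (as it is, X being Gorenstein). Then for every invertible O_X-module L one has
2χ(L) = (L·L) − (L·ω) + 2χ(O_X), where (A·B) = χ(O_X) − χ(A) − χ(B) + χ(A ⊗ B) is the intersection
number (packaged as FGA.intNum) and all dimensions are over k. (The published statement is for a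
proper two-dimensional variety of local complete intersection over k, with Euler characteristics
over the field of global functions; this row assumes X projective over k and counts dimensions over
k, which multiplies both sides by the same degree.) -/
theorem result (k : Type u) [Field k] (X : Scheme.{u}) [X.Over (Spec (CommRingCat.of k))]
    [IsIntegral X] (hdim : topologicalKrullDim X = 2)
    (hproj : ∃ (n : ℕ) (ι : X ⟶ CohB1.ProjSpace n k), IsClosedImmersion ι ∧ ι ≫ CohB1.ProjSpace.toSpec n k = (X ↘ (Spec (CommRingCat.of k))))
    (hlci : Dual3.IsLCIMor (X ↘ (Spec (CommRingCat.of k))))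
    (ω : X.Modules) (hωcoh : Coh.IsCoh ω) (hωinv : PicF.IsInvertible ω) (t : Coh.HH X ω 2 →ₗ[k] k)
    (hdual : ∀ F : X.Modules, Coh.IsCoh F → ∀ ψ : Coh.HH X F 2 →ₗ[k] k,
        ∃! φ : F ⟶ ω, ∀ x : Coh.HH X F 2,
          ψ x = t (Sheaf.H.map ((SheafOfModules.toSheaf X.ringCatSheaf).map φ) 2 x))
    (L : X.Modules) (hL : PicF.IsInvertible L) :
    2 * Curv2.euler k X L = FGA.intNum k X 2 ![L, L] (Coh.structureModule X) - FGA.intNum k X 2 ![L, ω] (Coh.structureModule X) + 2 * Curv2.euler k X (Coh.structureModule X) := by
  obtain ⟨N, ι, hci, hι⟩ := hproj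
  haveI := hci
  haveI := SurfNumLib.isProper_of_embedding ι hι
  have hSpec : Dual3.IsGorenstein (Spec (CommRingCat.of k)) := ⟨inferInstance, fun y => by
    haveI := RTrivLib.regular_stalk (𝟙 (Spec (CommRingCat.of k))) y
    exact DualCxLib.gorenstein_of_regular _⟩
  have hX : Dual3.IsGorenstein X := GorLib.isGorenstein_of_cover fun y => by
    obtain ⟨U, V, e, hy, h⟩ := hlci y
    letI := ((X ↘ Spec (CommRingCat.of k)).appLE V.1 U.1 e).hom.toAlgebra
    exact ⟨U, hy, GorLib.gorensteinRing_of_isLCI (GorLib.gorensteinRing_sections hSpec V) h⟩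
  have hCM : ∀ x : X, LocCoh.IsCohenMacaulayLocalRing (X.presheaf.stalk x) := fun x => by
    haveI := hX.2 x
    exact SMTLib.isCohenMacaulayLocalRing_of_isCM _ GorLib.isCM_of_gorenstein
  have hd : topologicalKrullDim X = ((2 : ℕ) : WithBot ℕ∞) := hdim
  rw [SurfNumLib.intNum_eq_pr_two hdim, SurfNumLib.intNum_eq_pr_two hdim]
  exact CMRR.riemann_roch hd ι hCM hωcoh hωinv t hdual hL

end Groth.Agent.S18999
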