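import Groth.Statements.S19004
import Mathlib
-- import your own Groth.Agent.* helpers here

set_option autoImplicit false
open GIT

namespace Groth.Agent.S19004

/-- For the group PGL(n) acting on the space of n × n matrices the T-quotient is (P^{n−1})^n with Chow
ring ℚ[t_1,…,t_n]/(t_1^n,…,t_n^n), the class c_top(g/t) is the product of all roots t_i − t_j (i ≠
j), and the computation in the proof shows that this product equals n!·t_1^{n−1}⋯t_n^{n−1} in that
ring. Stated here as the equivalent coefficient identity in ℤ[t_1,…,t_n]: the coefficient of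
t_1^{n−1}⋯t_n^{n−1} in the product over ordered pairs i ≠ j of (t_i − t_j) is n!. -/
theorem result (n : ℕ) :
    MvPolynomial.coeff (Finsupp.equivFunOnFinite.symm (fun _ : Fin n => n - 1))
      (∏ i : Fin n, ∏ j ∈ Finset.univ.erase i, (MvPolynomial.X i - MvPolynomial.X j : MvPolynomial (Fin n) ℤ)) = (n.factorial : ℤ) := by
  classical
  let V : Matrix (Fin n) (Fin n) (MvPolynomial (Fin n) ℤ) := Matrix.vandermonde fun i => MvPolynomial.X i
  let W : Matrix (Fin n) (Fin n) (MvPolynomial (Fin n) ℤ) := Matrix.projVandermonde 1 fun i => MvPolynomial.X i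
  have hprod : (∏ i : Fin n, ∏ j ∈ Finset.univ.erase i, (MvPolynomial.X i - MvPolynomial.X j : MvPolynomial (Fin n) ℤ)) =
      V.det * W.det := by
    rw [Matrix.det_vandermonde, Matrix.det_projVandermonde]
    have hsplit : ∀ i : Fin n, Finset.univ.erase i = Finset.Ioi i ∪ Finset.Iio i := fun i => by
      ext j
      simp [lt_or_lt_iff_ne, ne_comm]
    simp only [Pi.one_apply, one_mul, hsplit]
    rw [Finset.prod_congr rfl fun i _ => Finset.prod_union (Finset.disjoint_left.2 fun a h1 h2 => by
      rw [Finset.mem_Ioi] at h1; rw [Finset.mem_Iio] at h2; exact lt_asymm h1 h2), Finset.prod_mul_distrib]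
    rw [Finset.prod_comm' (t' := Finset.univ) (s' := fun j => Finset.Ioi j) (s := Finset.univ)
      (t := fun i => Finset.Iio i) (by simp), mul_comm]
  rw [hprod, Matrix.det_apply', Matrix.det_apply', Finset.sum_mul_sum, MvPolynomial.coeff_sum]
  have hterm : ∀ σ τ : Equiv.Perm (Fin n),
      MvPolynomial.coeff (Finsupp.equivFunOnFinite.symm fun _ : Fin n => n - 1)
        ((Equiv.Perm.sign σ : MvPolynomial (Fin n) ℤ) * (∏ i, V (σ i) i) *
          ((Equiv.Perm.sign τ : MvPolynomial (Fin n) ℤ) * ∏ i, W (τ i) i)) = if σ = τ then 1 else 0 := fun σ τ => by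
    let f : Fin n →₀ ℕ := Finsupp.equivFunOnFinite.symm fun i => (σ.symm i : ℕ) + (n - 1 - (τ.symm i : ℕ))
    have hm : (∏ i, V (σ i) i) * (∏ i, W (τ i) i) = MvPolynomial.monomial f 1 := by
      rw [MvPolynomial.monomial_eq, MvPolynomial.C_1, one_mul, Finsupp.prod_fintype _ _ fun i => pow_zero _,
        ← Equiv.prod_comp σ.symm, ← Equiv.prod_comp τ.symm (fun i => W (τ i) i), ← Finset.prod_mul_distrib]
      refine Finset.prod_congr rfl fun i _ => ?_
      simp only [V, W, f, Matrix.vandermonde_apply, Matrix.projVandermonde_apply, Equiv.apply_symm_apply,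
        Pi.one_apply, one_pow, one_mul, Finsupp.equivFunOnFinite_symm_apply_apply, pow_add]
      congr 2
      simp only [Fin.val_rev]
      omega
    rw [mul_mul_mul_comm, hm, ← map_intCast (MvPolynomial.C : ℤ →+* MvPolynomial (Fin n) ℤ),
      ← map_intCast (MvPolynomial.C : ℤ →+* MvPolynomial (Fin n) ℤ), ← MvPolynomial.C_mul,
      MvPolynomial.coeff_C_mul, MvPolynomial.coeff_monomial]
    by_cases h : σ = τ
    · subst h
      have hf : f = Finsupp.equivFunOnFinite.symm fun _ : Fin n => n - 1 := by
        ext i
        simp only [f, Finsupp.equivFunOnFinite_symm_apply_apply]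
        omega
      rw [if_pos hf, if_pos rfl, mul_one, Int.cast_id, ← Units.val_mul, Int.units_mul_self, Units.val_one]
    · rw [if_neg h, if_neg, mul_zero]
      intro hf
      refine h (Equiv.symm_bijective.injective (Equiv.ext fun i => Fin.ext ?_))
      have := DFunLike.congr_fun hf i
      simp only [f, Finsupp.equivFunOnFinite_symm_apply_apply] at this
      have := (τ.symm i).isLt
      omega
  simp only [MvPolynomial.coeff_sum, hterm, Finset.sum_ite_eq, Finset.mem_univ, if_true, Finset.sum_const,
    Finset.card_univ, Fintype.card_perm, Fintype.card_fin, nsmul_eq_mul, mul_one]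

end Groth.Agent.S19004
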