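import Groth.Statements.S19005
import Mathlib


-- import your own Groth.Agent.* helpers here

set_option autoImplicit false
open scoped TensorProduct
open K2Cent

namespace Groth.Agent.S19005

/-- For abelian groups X and M and ε in M with 2ε = 0 (in the source X is the character group of a split
torus and ε is the class of −1 among the units), the map x ↦ (x ⊗ x, −(x ⊗ ε)) into (X ⊗ X) × (X ⊗
M) is quadratic over ℤ, i.e. it underlies an integer quadratic map with exactly these values. -/
theorem result (X M : Type*) [AddCommGroup X]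
    [AddCommGroup M] (ε : M) (hε : 2 • ε = 0) :
    ∃ R : QuadraticMap ℤ X (TensorProduct ℤ X X × TensorProduct ℤ X M),
      ∀ x : X, R x = (x ⊗ₜ[ℤ] x, -(x ⊗ₜ[ℤ] ε)) := by
  let B : X →ₗ[ℤ] X →ₗ[ℤ] TensorProduct ℤ X X × TensorProduct ℤ X M :=
    LinearMap.mk₂ ℤ (fun x y => (x ⊗ₜ[ℤ] y + y ⊗ₜ[ℤ] x, 0))
      (fun a b c => by simp [TensorProduct.add_tmul, TensorProduct.tmul_add]; abel)
      (fun n a b => by simp [TensorProduct.smul_tmul', TensorProduct.tmul_smul, smul_add])
      (fun a b c => by simp [TensorProduct.add_tmul, TensorProduct.tmul_add]; abel)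
      (fun n a b => by simp [TensorProduct.smul_tmul', TensorProduct.tmul_smul, smul_add])
  refine ⟨⟨fun x => (x ⊗ₜ[ℤ] x, -(x ⊗ₜ[ℤ] ε)), fun a x => ?_, ⟨B, fun x y => ?_⟩⟩, fun x => rfl⟩
  · refine Prod.ext ?_ ?_
    · simp [TensorProduct.tmul_smul, ← TensorProduct.smul_tmul', smul_smul]
    · show -((a • x) ⊗ₜ[ℤ] ε) = (a * a) • -(x ⊗ₜ[ℤ] ε)
      obtain ⟨c, hc⟩ := Int.even_mul_succ_self (a - 1)
      have hev : a * a = a + 2 * c := by ring_nf at hc ⊢; omega
      have h2 : (2 : ℤ) • (x ⊗ₜ[ℤ] ε) = 0 := by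
        rw [← TensorProduct.tmul_smul, two_zsmul, ← two_nsmul, hε, TensorProduct.tmul_zero]
      rw [hev, add_smul, smul_neg, smul_neg, mul_comm, mul_smul, h2, smul_zero, neg_zero, add_zero,
        TensorProduct.smul_tmul']
  · refine Prod.ext ?_ ?_
    · simp [B, TensorProduct.add_tmul, TensorProduct.tmul_add]; abel
    · simp [B, TensorProduct.add_tmul]; abel

end Groth.Agent.S19005
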