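import Groth.Statements.S19006
import Groth.Agent.RootBasic.Aut
-- import your own Groth.Agent.* helpers here

set_option autoImplicit false
universe u v w x
open RootD

namespace Groth.Agent.S19006

open RootPairing

/-- For a root pairing over an integral domain of characteristic zero, a quadratic form Q on the
coweight module N with polar form B, and a root α with coroot α^∨, the form Q is invariant under the
reflection attached to α acting on N if and only if B(y, α^∨) = ⟨α, y⟩ Q(α^∨) for all y in N. (The
source states this for integer-valued forms on the cocharacter lattice of a split reductive group;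
here the form takes values in the base ring of the pairing.) -/
theorem result {ι : Type u} {R : Type v} {M : Type w} {N : Type x} [CommRing R] [IsDomain R] [CharZero R]
    [AddCommGroup M] [Module R M] [AddCommGroup N] [Module R N] (P : RootPairing ι R M N)
    (Q : QuadraticMap R N R) (j : ι) :
    (∀ y : N, Q (P.coreflection j y) = Q y) ↔
      ∀ y : N, QuadraticMap.polar Q y (P.coroot j) = P.root' j y * Q (P.coroot j) := by
  have key : ∀ y, Q (P.coreflection j y) - Q y =
      P.root' j y * (P.root' j y * Q (P.coroot j) - QuadraticMap.polar Q y (P.coroot j)) := fun y => by
    rw [P.coreflection_apply, sub_eq_add_neg y, ← neg_smul, QuadraticMap.map_add Q,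
      QuadraticMap.map_smul, QuadraticMap.polar_smul_right, smul_eq_mul, smul_eq_mul]
    ring
  constructor
  · intro h
    have h0 : ∀ y, P.root' j y *
        (P.root' j y * Q (P.coroot j) - QuadraticMap.polar Q y (P.coroot j)) = 0 := fun y => by
      rw [← key, h, sub_self]
    intro y
    by_cases ha : P.root' j y = 0
    · have h1 := h0 (y + P.coroot j)
      have h2 := h0 (P.coroot j)
      rw [map_add, ha, zero_add, QuadraticMap.polar_add_left] at h1
      rw [ha, zero_mul]
      have hne : P.root' j (P.coroot j) ≠ 0 := by simp
      have e1 := (mul_eq_zero.1 h1).resolve_left hne
      have e2 := (mul_eq_zero.1 h2).resolve_left hne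
      linear_combination e2 - e1
    · have := (mul_eq_zero.1 (h0 y)).resolve_left ha
      linear_combination -this
  · intro h y
    rw [← sub_eq_zero, key, h, sub_self, mul_zero]


end Groth.Agent.S19006
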