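import Groth.Statements.S19007
import Groth.Agent.RootSys.QuadInv
-- import your own Groth.Agent.* helpers here

set_option autoImplicit false
universe u v w x
open RootD

namespace Groth.Agent.S19007

open RootSysLib.QuadInv RootPairing

/-- Let P be a finite reduced crystallographic root pairing over an integral domain of characteristic
zero, b a base of P (a system of simple roots) and Q a quadratic form on the coweight module with
polar form B. Then Q is invariant under all root reflections (equivalently under the Weyl group) on
the span of the coroots if and only if for all pairs of distinct simple roots α_i ≠ α_j one has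
B(α_i^∨, α_j^∨) = ⟨α_j, α_i^∨⟩ Q(α_j^∨). (In the source the form is integer-valued on the lattice
spanned by the coroots and the condition says that the bilinear form lies in the kernel of the last
map of a three-term complex built from the Bruhat cells of codimension at most two; here the form
takes values in the base ring.) -/
theorem result {ι : Type u} {R : Type v} {M : Type w} {N : Type x} [CommRing R] [IsDomain R] [CharZero R]
    [AddCommGroup M] [Module R M] [AddCommGroup N] [Module R N] (P : RootPairing ι R M N)
    [Finite ι] [P.IsCrystallographic] [P.IsReduced] (b : P.Base) (Q : QuadraticMap R N R) :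
    (∀ i : ι, ∀ y ∈ Submodule.span R (Set.range P.coroot), Q (P.coreflection i y) = Q y) ↔
      ∀ i ∈ b.support, ∀ j ∈ b.support, i ≠ j →
        QuadraticMap.polar Q (P.coroot i) (P.coroot j) = P.pairing j i * Q (P.coroot j) := by
  constructor
  · intro h i _ j _ _
    exact polar_eq_of_invariant Q j _ (Submodule.subset_span (Set.mem_range_self j)) (h j)
      (Submodule.subset_span (Set.mem_range_self i))
  · intro h
    refine invariant_of_simple b Q fun j hj y hy => ?_
    rw [← sub_eq_zero, map_coreflection_sub]
    suffices hpol : QuadraticMap.polar Q y (P.coroot j) = P.root' j y * Q (P.coroot j) by
      rw [hpol, sub_self, mul_zero]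
    rw [show Submodule.span R (Set.range P.coroot) = P.corootSpan R from rfl, ← b.span_coroot_support] at hy
    induction hy using Submodule.span_induction with
    | mem x hx =>
      obtain ⟨i, hi, rfl⟩ := hx
      by_cases hij : i = j
      · subst hij
        rw [QuadraticMap.polar_self, P.root'_coroot_eq_pairing, P.pairing_same, nsmul_eq_mul]
        norm_num
      · rw [h i hi j hj hij, P.root'_coroot_eq_pairing]
    | zero => simp
    | add a c _ _ ha hc => rw [QuadraticMap.polar_add_left, ha, hc, map_add]; ring
    | smul r a _ ha => rw [QuadraticMap.polar_smul_left, ha, map_smul, smul_eq_mul, smul_eq_mul]; ring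


end Groth.Agent.S19007
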