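import Groth.Statements.S19008
import Mathlib
-- import your own Groth.Agent.* helpers here

set_option autoImplicit false
universe u v w x
open RootD

namespace Groth.Agent.S19008

section
variable {ι : Type u} {R : Type v} {M : Type w} {N : Type x} [CommRing R] [IsDomain R] [CharZero R]
    [AddCommGroup M] [Module R M] [AddCommGroup N] [Module R N]

/-- No nonempty set of simple roots has all column sums of its Cartan matrix nonpositive. -/
lemma exists_pos_sum (P : RootPairing ι R M N) [Finite ι] [P.IsCrystallographic] (b : P.Base)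
    (S : Finset ι) (hS : S ⊆ b.support) (hne : S.Nonempty) :
    ∃ j ∈ S, 0 < ∑ i ∈ S, P.pairingIn ℤ i j := by
  classical
  haveI := Fintype.ofFinite ι
  by_contra! hcon
  let B := P.posRootForm ℤ
  have h2 : ∀ i j, 2 * B.posForm (P.rootSpanMem ℤ i) (P.rootSpanMem ℤ j) =
      P.pairingIn ℤ i j * B.rootLength j := fun i j => by
    apply FaithfulSMul.algebraMap_injective ℤ R
    rw [map_mul, map_mul, B.algebraMap_posForm, P.algebraMap_pairingIn, B.algebraMap_rootLength, map_ofNat]
    exact B.two_mul_apply_root_root i j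
  let w : P.rootSpan ℤ := ∑ i ∈ S, P.rootSpanMem ℤ i
  have hw : w ≠ 0 := fun h => by
    obtain ⟨j, hj⟩ := hne
    have hsum : ∑ i ∈ S.subtype (· ∈ b.support), (1 : ℤ) • P.rootSpanMem ℤ (i : ι) = 0 := by
      simp only [one_smul]
      rw [Finset.sum_subtype_of_mem (fun i => P.rootSpanMem ℤ i) hS]
      exact h
    exact one_ne_zero (linearIndependent_iff'.1 b.linearIndependentInt _ (fun _ => (1 : ℤ)) hsum ⟨j, hS hj⟩
      (Finset.mem_subtype.2 hj))
  have hpos := P.posRootForm_posForm_pos_of_ne_zero ℤ hw
  have hexp : 2 * B.posForm w w = ∑ j ∈ S, (∑ i ∈ S, P.pairingIn ℤ i j) * B.rootLength j := by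
    simp only [w, map_sum, LinearMap.sum_apply, Finset.mul_sum, h2, Finset.sum_mul]
  have hle : 2 * B.posForm w w ≤ 0 := by
    rw [hexp]
    exact Finset.sum_nonpos fun j hj => mul_nonpos_of_nonpos_of_nonneg (hcon j hj) (B.rootLength_pos j).le
  change 0 < B.posForm w w at hpos
  linarith

/-- Simple roots can be eliminated one by one. -/
lemma solve (P : RootPairing ι R M N) [Finite ι] [P.IsCrystallographic] (b : P.Base)
    (S : Finset ι) (hS : S ⊆ b.support) (e : ι → ι → ℤ) (he : ∀ i j, e i j = - e j i)
    (he0 : ∀ i ∈ b.support, ∀ j ∈ b.support, i ≠ j → P.pairingIn ℤ i j = 0 → e i j = 0) :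
    ∃ x : ι → ℤ, ∀ i ∈ S, ∀ j ∈ S, i ≠ j →
      P.pairingIn ℤ j i * x j - P.pairingIn ℤ i j * x i = e i j := by
  classical
  haveI := Fintype.ofFinite ι
  induction S using Finset.strongInduction with
  | H S ih =>
    rcases S.eq_empty_or_nonempty with rfl | hne
    · exact ⟨0, fun i hi => absurd hi (Finset.notMem_empty i)⟩
    obtain ⟨i, hi, hsum⟩ := exists_pos_sum P.flip b.flip S hS hne
    have hflip : ∀ k l, P.flip.pairingIn ℤ k l = P.pairingIn ℤ l k := fun k l => by
      apply FaithfulSMul.algebraMap_injective ℤ R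
      rw [RootPairing.algebraMap_pairingIn, RootPairing.algebraMap_pairingIn]; rfl
    have hsum' : 0 < ∑ j ∈ S, P.pairingIn ℤ i j := by simpa only [hflip] using hsum
    obtain ⟨x, hx⟩ := ih (S.erase i) (Finset.erase_ssubset hi) ((Finset.erase_subset _ _).trans hS)
    have hnp : ∀ j ∈ S.erase i, P.pairingIn ℤ i j ≤ 0 := fun j hj =>
      b.pairingIn_le_zero_of_ne (Finset.ne_of_mem_erase hj).symm (hS hi) (hS (Finset.mem_of_mem_erase hj))
    rw [← Finset.add_sum_erase _ _ hi, P.pairingIn_same] at hsum'
    have hzero : ∀ k, P.pairingIn ℤ i k = 0 → P.pairingIn ℤ k i = 0 := fun k hk => by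
      have := (P.posRootForm ℤ).pairingIn_mul_eq_pairingIn_mul_swap i k
      rw [hk, zero_mul, mul_eq_zero] at this
      exact this.resolve_right ((P.posRootForm ℤ).rootLength_pos i).ne'
    have key : ∃ c : ℤ, ∀ k ∈ S.erase i,
        P.pairingIn ℤ k i * x k - P.pairingIn ℤ i k * c = e i k := by
      by_cases hall : ∀ k ∈ S.erase i, P.pairingIn ℤ i k = 0
      · refine ⟨0, fun k hk => ?_⟩
        rw [hall k hk, hzero k (hall k hk), he0 i (hS hi) k (hS (Finset.mem_of_mem_erase hk))
          (Finset.ne_of_mem_erase hk).symm (hall k hk)]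
        ring
      push_neg at hall
      obtain ⟨j, hj, hj0⟩ := hall
      rw [← Finset.add_sum_erase _ _ hj] at hsum'
      have hjle := hnp j hj
      have hrest : ∑ k ∈ (S.erase i).erase j, P.pairingIn ℤ i k ≤ 0 :=
        Finset.sum_nonpos fun k hk => hnp k (Finset.mem_of_mem_erase hk)
      have hj1 : P.pairingIn ℤ i j = -1 := by omega
      have hr0 : ∑ k ∈ (S.erase i).erase j, P.pairingIn ℤ i k = 0 := by omega
      have hz := (Finset.sum_eq_zero_iff_of_nonpos fun k hk => hnp k (Finset.mem_of_mem_erase hk)).1 hr0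
      refine ⟨e i j - P.pairingIn ℤ j i * x j, fun k hk => ?_⟩
      by_cases hkj : k = j
      · subst hkj; rw [hj1]; ring
      · have hk0 := hz k (Finset.mem_erase.2 ⟨hkj, hk⟩)
        rw [hk0, hzero k hk0, he0 i (hS hi) k (hS (Finset.mem_of_mem_erase hk))
          (Finset.ne_of_mem_erase hk).symm hk0]
        ring
    obtain ⟨c, hc⟩ := key
    refine ⟨Function.update x i c, fun k hk l hl hkl => ?_⟩
    by_cases hki : k = i
    · subst hki
      rw [Function.update_self, Function.update_of_ne hkl.symm]
      exact hc l (Finset.mem_erase.2 ⟨hkl.symm, hl⟩)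
    by_cases hli : l = i
    · subst hli
      rw [Function.update_self, Function.update_of_ne hki, he k l]
      linarith [hc k (Finset.mem_erase.2 ⟨hki, hk⟩)]
    rw [Function.update_of_ne hki, Function.update_of_ne hli]
    exact hx k (Finset.mem_erase.2 ⟨hki, hk⟩) l (Finset.mem_erase.2 ⟨hli, hl⟩) hkl

end


/-- Let P be a finite reduced crystallographic root pairing over an integral domain of characteristic
zero and b a base (simple roots α_i, i in the support of b), with Cartan integers a_ij = ⟨α_i,
α_j^∨⟩. An integer-valued bilinear form C on the lattice with basis the simple coroots is an integer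
matrix C_ij = C(α_i^∨, α_j^∨), and the component of the last map of the complex at the pair (i, j),
i ≠ j, is C ↦ C(α_i^∨, α_j^∨) + C(α_j^∨, s_j(α_i^∨)) = C_ij + C_ji − a_ji C_jj; the pairs (i, j) and
(j, i) index the same component exactly when α_i and α_j are orthogonal. This map is surjective: for
every family of integers d_ij (i ≠ j in the support) with d_ij = d_ji whenever a_ij = 0 there is an
integer matrix C with C_ij + C_ji − a_ji C_jj = d_ij for all i ≠ j in the support. -/
theorem result {ι : Type u} {R : Type v} {M : Type w} {N : Type x} [CommRing R] [IsDomain R] [CharZero R]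
    [AddCommGroup M] [Module R M] [AddCommGroup N] [Module R N] (P : RootPairing ι R M N)
    [Finite ι] [P.IsCrystallographic] [P.IsReduced] (b : P.Base) (d : ι → ι → ℤ)
    (hd : ∀ i ∈ b.support, ∀ j ∈ b.support, i ≠ j → P.pairingIn ℤ i j = 0 → d i j = d j i) :
    ∃ C : ι → ι → ℤ, ∀ i ∈ b.support, ∀ j ∈ b.support, i ≠ j →
      C i j + C j i - P.pairingIn ℤ j i * C j j = d i j := by
  classical
  obtain ⟨x, hx⟩ := solve P b b.support subset_rfl (fun i j => d j i - d i j)
    (fun i j => (neg_sub _ _).symm)
    (fun i hi j hj hij h => sub_eq_zero.2 (hd i hi j hj hij h).symm)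
  let r := Finite.equivFin ι
  refine ⟨fun i j => if i = j then x i else if r i < r j then d i j + P.pairingIn ℤ j i * x j else 0,
    fun i hi j hj hij => ?_⟩
  have hs := hx i hi j hj hij
  have hne : r i ≠ r j := fun h => hij (r.injective h)
  simp only [if_neg hij, if_neg hij.symm, if_true]
  rcases lt_or_gt_of_ne hne with h | h
  · rw [if_pos h, if_neg h.not_gt]; ring
  · rw [if_neg h.not_gt, if_pos h]; linarith

end Groth.Agent.S19008
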