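import Groth.Statements.S19009
import Groth.Agent.RootSys.QuadInv
-- import your own Groth.Agent.* helpers here

set_option autoImplicit false
universe u v w x
open RootD

namespace Groth.Agent.S19009

open RootSysLib.QuadInv RootPairing

/-- Let P be a root pairing over an integral domain R of characteristic zero (roots α acting on the
coweight module N through reflections y ↦ y − ⟨α, y⟩ α^∨), D ⊆ N a submodule containing every coroot
and such that every element of D has a positive integer multiple in the span of the coroots (the
derived part), and Y₀ a complement of D in N. Let Q_d be a quadratic form on N whose restriction to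
D is invariant under all root reflections. Then there is a quadratic form on N, invariant under all
root reflections and agreeing with Q_d on D, if and only if there is an R-bilinear form Φ on N with
Φ(y₀, α^∨) = ⟨α, y₀⟩ Q_d(α^∨) for all y₀ in Y₀ and all roots α. (In the source R = ℤ, N = Y₀ ⊕ Y_der
is the cocharacter lattice of a split reductive group, and the condition is phrased as integrality
on Y₀ × Y_der of the pairing y₀, y ↦ B(q(y₀), y) deduced from the polar form B of Q_d; that pairing
is characterised by the displayed values on coroots, only the values of Φ on Y₀ × D matter, and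
forms take values in R here.) -/
theorem result {ι : Type u} {R : Type v} {M : Type w} {N : Type x} [CommRing R] [IsDomain R] [CharZero R]
    [AddCommGroup M] [Module R M] [AddCommGroup N] [Module R N] (P : RootPairing ι R M N)
    (D Y₀ : Submodule R N) (hD : ∀ i : ι, P.coroot i ∈ D)
    (hDsat : ∀ y ∈ D, ∃ n : ℕ, 0 < n ∧ n • y ∈ Submodule.span R (Set.range P.coroot))
    (hc : IsCompl Y₀ D)
    (Qd : QuadraticMap R N R) (hQd : ∀ i : ι, ∀ y ∈ D, Qd (P.coreflection i y) = Qd y) :
    (∃ Q : QuadraticMap R N R, (∀ (i : ι) (y : N), Q (P.coreflection i y) = Q y) ∧ ∀ y ∈ D, Q y = Qd y) ↔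
      ∃ Φ : N →ₗ[R] N →ₗ[R] R, ∀ y₀ ∈ Y₀, ∀ i : ι,
        Φ y₀ (P.coroot i) = P.root' i y₀ * Qd (P.coroot i) := by
  constructor
  · rintro ⟨Q, hQ, hQD⟩
    refine ⟨QuadraticMap.polarBilin Q, fun y₀ _ i => ?_⟩
    rw [QuadraticMap.polarBilin_apply_apply,
      polar_eq_of_invariant Q i ⊤ Submodule.mem_top (fun y _ => hQ i y) Submodule.mem_top,
      hQD _ (hD i)]
  · rintro ⟨Φ, hΦ⟩
    let π := Y₀.projection D hc
    let σ := LinearMap.id - π
    have hπD : ∀ d ∈ D, π d = 0 := fun d hd => Submodule.projection_apply_right hc ⟨d, hd⟩
    have hπY : ∀ y, π y ∈ Y₀ := fun y => Submodule.projection_apply_mem hc y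
    have hσ : ∀ y, σ y ∈ D := fun y => by
      show y - π y ∈ D
      rw [← Submodule.projection_apply_eq_zero_iff hc, map_sub, Submodule.projection_apply_left hc ⟨π y, hπY y⟩,
        sub_self]
    refine ⟨Qd.comp σ + LinearMap.BilinMap.toQuadraticMap (Φ.compl₁₂ π σ), fun i y => ?_, fun d hd => ?_⟩
    · have hπc : π (P.coreflection i y) = π y := by
        rw [P.coreflection_apply, map_sub, map_smul, hπD _ (hD i), smul_zero, sub_zero]
      have hσc : σ (P.coreflection i y) = σ y - P.root' i y • P.coroot i := by
        show P.coreflection i y - π (P.coreflection i y) = y - π y - _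
        rw [hπc, P.coreflection_apply]
        abel
      have hroot : P.root' i y = P.root' i (π y) + P.root' i (σ y) := by
        rw [← map_add]
        congr 1
        show y = π y + (y - π y)
        abel
      have hd' : σ y - P.root' i y • P.coroot i = σ y + (-P.root' i y) • P.coroot i := by
        rw [neg_smul, sub_eq_add_neg]
      simp only [QuadraticMap.add_apply, QuadraticMap.comp_apply, LinearMap.BilinMap.toQuadraticMap_apply,
        LinearMap.compl₁₂_apply, hπc]
      rw [hσc, hd', LinearMap.map_add (Φ (π y)), LinearMap.map_smul (Φ (π y)), hΦ _ (hπY y) i, QuadraticMap.map_add Qd, QuadraticMap.map_smul,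
        QuadraticMap.polar_smul_right, polar_eq_of_invariant Qd i D (hD i) (hQd i) (hσ y), hroot]
      simp only [smul_eq_mul]
      ring
    · have hσd : σ d = d := by
        show d - π d = d
        rw [hπD d hd, sub_zero]
      simp [hσd, hπD d hd]


end Groth.Agent.S19009
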