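import Groth.Statements.S19010
import Groth.Agent.RootSys.QuadInv
-- import your own Groth.Agent.* helpers here

set_option autoImplicit false
universe u v w x
open RootD

namespace Groth.Agent.S19010

open RootSysLib.QuadInv RootPairing

/-- Let P be a root pairing over an integral domain R of characteristic zero (roots α acting on the
coweight module N through reflections y ↦ y − ⟨α, y⟩ α^∨), D ⊆ N a submodule containing every coroot
and such that every element of D has a positive integer multiple in the span of the coroots (the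
derived part), and Y₀ a complement of D in N. Let Q' be a quadratic form on N invariant under all
root reflections. Then restriction to Y₀ is a bijection from the set of quadratic forms on N that
are invariant under all root reflections and agree with Q' on D onto the set of all quadratic forms
on Y₀. (In the source R = ℤ and N = Y₀ ⊕ Y_der is the cocharacter lattice of a split reductive
group; forms take values in R here.) -/
theorem result {ι : Type u} {R : Type v} {M : Type w} {N : Type x} [CommRing R] [IsDomain R] [CharZero R]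
    [AddCommGroup M] [Module R M] [AddCommGroup N] [Module R N] (P : RootPairing ι R M N)
    (D Y₀ : Submodule R N) (hD : ∀ i : ι, P.coroot i ∈ D)
    (hDsat : ∀ y ∈ D, ∃ n : ℕ, 0 < n ∧ n • y ∈ Submodule.span R (Set.range P.coroot))
    (hc : IsCompl Y₀ D)
    (Q' : QuadraticMap R N R) (hQ' : ∀ (i : ι) (y : N), Q' (P.coreflection i y) = Q' y) :
    Set.BijOn (fun Q : QuadraticMap R N R => Q.comp Y₀.subtype)
      {Q | (∀ (i : ι) (y : N), Q (P.coreflection i y) = Q y) ∧ ∀ y ∈ D, Q y = Q' y} Set.univ := by
  have hpol : ∀ Q : QuadraticMap R N R, (∀ (i : ι) (y : N), Q (P.coreflection i y) = Q y) →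
      ∀ i y, QuadraticMap.polar Q y (P.coroot i) = P.root' i y * Q (P.coroot i) := fun Q hQ i y =>
    polar_eq_of_invariant Q i ⊤ Submodule.mem_top (fun y _ => hQ i y) Submodule.mem_top
  refine ⟨fun _ _ => trivial, ?_, ?_⟩
  · rintro Q₁ ⟨h1, h1D⟩ Q₂ ⟨h2, h2D⟩ he
    ext y
    obtain ⟨y₀, hy₀, d, hd, rfl⟩ := Submodule.mem_sup.1 (hc.sup_eq_top ▸ Submodule.mem_top : y ∈ Y₀ ⊔ D)
    have h0 : QuadraticMap.polar Q₁ y₀ d = QuadraticMap.polar Q₂ y₀ d := by
      obtain ⟨n, hn, hmem⟩ := hDsat d hd
      have key : ∀ z ∈ Submodule.span R (Set.range P.coroot),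
          QuadraticMap.polar Q₁ y₀ z = QuadraticMap.polar Q₂ y₀ z := by
        intro z hz
        induction hz using Submodule.span_induction with
        | mem z hz =>
          obtain ⟨i, rfl⟩ := hz
          rw [hpol Q₁ h1, hpol Q₂ h2, h1D _ (hD i), h2D _ (hD i)]
        | zero => simp
        | add a c _ _ ha hc => rw [QuadraticMap.polar_add_right, QuadraticMap.polar_add_right, ha, hc]
        | smul r a _ ha => rw [QuadraticMap.polar_smul_right, QuadraticMap.polar_smul_right, ha]
      have := key _ hmem
      rw [← Nat.cast_smul_eq_nsmul R, QuadraticMap.polar_smul_right, QuadraticMap.polar_smul_right,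
        smul_eq_mul, smul_eq_mul] at this
      exact mul_left_cancel₀ (Nat.cast_ne_zero.2 hn.ne') this
    have hy : Q₁ y₀ = Q₂ y₀ := DFunLike.congr_fun he ⟨y₀, hy₀⟩
    rw [QuadraticMap.map_add Q₁, QuadraticMap.map_add Q₂, h0, hy, h1D d hd, h2D d hd]
  · intro q _
    let π := Y₀.projection D hc
    have hπD : ∀ d ∈ D, π d = 0 := fun d hd => Submodule.projection_apply_right hc ⟨d, hd⟩
    let pY : N →ₗ[R] Y₀ := LinearMap.codRestrict Y₀ π fun y => Submodule.projection_apply_mem hc y
    refine ⟨Q' - Q'.comp π + q.comp pY, ⟨fun i y => ?_, fun d hd => ?_⟩, ?_⟩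
    · have hπc : π (P.coreflection i y) = π y := by
        rw [P.coreflection_apply, map_sub, map_smul, hπD _ (hD i), smul_zero, sub_zero]
      have hpc : pY (P.coreflection i y) = pY y := Subtype.ext hπc
      simp only [QuadraticMap.add_apply, QuadraticMap.sub_apply, QuadraticMap.comp_apply, hπc, hpc, hQ' i y]
    · have hpd : pY d = 0 := Subtype.ext (hπD d hd)
      simp [hπD d hd, hpd]
    · ext y₀
      have hπ : π (y₀ : N) = y₀ := Submodule.projection_apply_left hc y₀
      have hp : pY (y₀ : N) = y₀ := Subtype.ext hπ
      simp [hπ, hp]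


end Groth.Agent.S19010
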