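import Groth.Statements.S19011
import Groth.Agent.RootSys.LatticeZ
-- import your own Groth.Agent.* helpers here

set_option autoImplicit false
universe u v w x
open RootD

namespace Groth.Agent.S19011

open RootSysLib RootBasicLib RootPairing

/-- For a finite reduced crystallographic root pairing over an integral domain of characteristic zero,
the additive group generated by the coroots admits the presentation with one generator [β] for each
root β and the relations [s_α(β)] = [β] − ⟨α, β^∨⟩ [α] for all roots α, β, where ⟨α, β^∨⟩ is the
Cartan integer. Concretely: the kernel of the ℤ-linear map from the free abelian group on the index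
type of the roots to the coweight module sending the generator of index β to the coroot β^∨ is the
subgroup generated by the elements [s_α(β)] − [β] + ⟨α, β^∨⟩ [α]. (The source states this for the
cocharacter lattice of a split semi-simple simply connected group, which is the group generated by
the coroots.) -/
theorem result {ι : Type u} {R : Type v} {M : Type w} {N : Type x} [CommRing R] [IsDomain R] [CharZero R]
    [AddCommGroup M] [Module R M] [AddCommGroup N] [Module R N] (P : RootPairing ι R M N)
    [Finite ι] [P.IsCrystallographic] [P.IsReduced] :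
    LinearMap.ker (Finsupp.linearCombination ℤ (fun i : ι => (P.coroot i : N))) =
      Submodule.span ℤ (Set.range fun p : ι × ι =>
        Finsupp.single (P.reflectionPerm p.1 p.2) (1 : ℤ) - Finsupp.single p.2 1 +
          P.pairingIn ℤ p.1 p.2 • Finsupp.single p.1 1) := by
  classical
  obtain ⟨Z, hroot, hperm, hpair⟩ := LatticeZ.exists_lattice_pairing P
  set F := Finsupp.linearCombination ℤ (fun i : ι => (P.coroot i : N)) with hF
  set Rel := Submodule.span ℤ (Set.range fun p : ι × ι =>
      Finsupp.single (P.reflectionPerm p.1 p.2) (1 : ℤ) - Finsupp.single p.2 1 +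
        P.pairingIn ℤ p.1 p.2 • Finsupp.single p.1 1) with hRel
  have hgen : ∀ i k, (Finsupp.single (P.reflectionPerm i k) (1 : ℤ) - Finsupp.single k 1 +
        P.pairingIn ℤ i k • Finsupp.single i 1 : ι →₀ ℤ) ∈ Rel := fun i k =>
    Submodule.subset_span ⟨(i, k), rfl⟩
  have hindiv : ∀ k, RootD.IsIndiv Z k := by
    intro k j hj
    have hj' : (2 : ℤ) • P.coroot j = P.coroot k := by
      have := congrArg Subtype.val hj
      rwa [Submodule.coe_smul, hroot, hroot] at this
    have e1 := congrArg (P.root' j) hj'
    have e2 := congrArg (P.root' k) hj'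
    rw [map_zsmul, P.root'_coroot_eq_pairing, P.root'_coroot_eq_pairing, P.pairing_same, zsmul_eq_mul] at e1 e2
    push_cast at e1 e2
    haveI : Module.IsReflexive R M := .of_isPerfPair P.toLinearMap
    have h4 : P.coxeterWeight k j = 4 := by
      rw [RootPairing.coxeterWeight, ← e1]
      linear_combination 2 * e2
    rcases RootPairing.IsReduced.eq_or_eq_neg (P := P) k j
      ((P.coxeterWeight_eq_four_iff_not_linearIndependent (i := k) (j := j)).1 h4) with e | e
    · rw [P.root.injective e, P.pairing_same] at e2
      norm_num at e2
    · have h5 : P.pairing k j = -2 := by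
        rw [← P.root_coroot'_eq_pairing, e, map_neg, P.root_coroot'_eq_pairing, P.pairing_same]
      rw [h5] at e2
      norm_num at e2
  obtain ⟨Δ, hΔ⟩ := exists_isSimpleSys Z
  have hpos : ∀ k ∈ RootD.posOf Z Δ, ∃ c : ι →₀ ℤ, ↑c.support ⊆ Δ ∧ Finsupp.single k (1 : ℤ) - c ∈ Rel := by
    intro k hk
    induction hn : (height hΔ k).toNat using Nat.strong_induction_on generalizing k with
    | _ n ih =>
      by_cases hkΔ : k ∈ Δ
      · exact ⟨Finsupp.single k 1, by simpa [Finsupp.support_single] using hkΔ, by rw [sub_self]; exact zero_mem _⟩
      obtain ⟨a, ha, -, hp⟩ := exists_pairing_pos hΔ hk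
      rcases reflect_mem_posOf_or hΔ ha hk with hm | ⟨t, ht, he⟩
      · have := height_reflect hΔ ha k
        have := height_pos hΔ hm
        obtain ⟨c, hc, hrel⟩ := ih (height hΔ (Z.reflectionPerm a k)).toNat (by omega) _ hm rfl
        refine ⟨c + P.pairingIn ℤ a k • Finsupp.single a 1, ?_, ?_⟩
        · intro x hx
          rcases Finset.mem_union.1 (Finsupp.support_add hx) with h | h
          · exact hc h
          · rw [Finset.mem_singleton.1 (Finsupp.support_single_subset (Finsupp.support_smul h))]
            exact ha
        · rw [hperm] at hrel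
          have := sub_mem hrel (hgen a k)
          convert this using 1
          abel
      · exact absurd (eq_of_isIndiv (hindiv k) ht he ▸ ha) hkΔ
  have hall : ∀ k, ∃ c : ι →₀ ℤ, ↑c.support ⊆ Δ ∧ Finsupp.single k (1 : ℤ) - c ∈ Rel := by
    intro k
    rcases (isPosSys_posOf hΔ).cover k with h | h
    · exact hpos k h
    · obtain ⟨c, hc, hrel⟩ := hpos _ h
      rw [hperm] at hrel
      refine ⟨-c, by rwa [Finsupp.support_neg], ?_⟩
      have := sub_mem (hgen k k) hrel
      rw [P.pairingIn_same] at this
      convert this using 1
      module
  have hFrel : Rel ≤ LinearMap.ker F := by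
    rw [hRel, Submodule.span_le]
    rintro _ ⟨⟨i, k⟩, rfl⟩
    simp only [SetLike.mem_coe, LinearMap.mem_ker, hF, map_add, map_sub, map_zsmul,
      Finsupp.linearCombination_single, one_smul]
    rw [P.coroot_reflectionPerm, P.coreflection_apply_coroot, ← P.algebraMap_pairingIn ℤ i k, algebraMap_smul]
    abel
  refine le_antisymm (fun x hx => ?_) hFrel
  choose c hc hrel using hall
  let G := Finsupp.linearCombination ℤ c
  have hdiff : ∀ y, y - G y ∈ Rel := by
    intro y
    induction y using Finsupp.induction_linear with
    | zero => simp
    | add a b ha hb => rw [map_add, add_sub_add_comm]; exact add_mem ha hb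
    | single k n =>
      rw [show Finsupp.single k n = n • Finsupp.single k (1 : ℤ) by simp, map_zsmul, ← smul_sub]
      refine Submodule.smul_mem _ _ ?_
      simpa [G] using hrel k
  have hsupp : G x ∈ Finsupp.supported ℤ ℤ Δ := by
    show Finsupp.linearCombination ℤ c x ∈ _
    rw [Finsupp.linearCombination_apply]
    exact sum_mem fun k _ => Submodule.smul_mem _ _ ((Finsupp.mem_supported ℤ _).2 (hc k))
  have hzero : Finsupp.linearCombination ℤ Z.root (G x) = 0 := by
    apply Subtype.ext
    have h1 : F (G x) = 0 := by
      have := hFrel (hdiff x)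
      rw [LinearMap.mem_ker, map_sub, LinearMap.mem_ker.1 hx, zero_sub, neg_eq_zero] at this
      exact this
    refine Eq.trans ?_ h1
    rw [hF, Finsupp.linearCombination_apply, Finsupp.linearCombination_apply, Finsupp.sum, Finsupp.sum,
      AddSubmonoidClass.coe_finsetSum]
    exact Finset.sum_congr rfl fun k _ => by rw [Submodule.coe_smul, hroot]; rfl
  have hG : G x = 0 := coeff_eq_of_linInd hΔ.linInd ((Finsupp.mem_supported ℤ _).1 hsupp) (by simp)
    (by rw [hzero, map_zero])
  simpa [hG] using hdiff x


end Groth.Agent.S19011
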