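import Groth.Statements.S19012
import Groth.Agent.RootSys.QuadInv
-- import your own Groth.Agent.* helpers here

set_option autoImplicit false
universe u v w x
open RootD

namespace Groth.Agent.S19012

open RootSysLib.QuadInv RootPairing

/-- Let P be a finite reduced crystallographic root pairing over a field of characteristic zero which is
irreducible, and b a base. A quadratic form on the coweight module that is invariant under all root
reflections and vanishes on some simple coroot is zero; in other words an invariant form is
determined by its value on a single simple coroot. (The source proves, component by component of the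
Dynkin diagram, that an invariant integer-valued form on the coroot lattice with prescribed value on
the first simple coroot of each component is unique; here the system is irreducible, the coroots
span the coweight module, and forms take values in the base field.) -/
theorem result {ι : Type u} {K : Type v} {M : Type w} {N : Type x} [Field K] [CharZero K]
    [AddCommGroup M] [Module K M] [AddCommGroup N] [Module K N] (P : RootPairing ι K M N)
    [Finite ι] [P.IsCrystallographic] [P.IsReduced] [P.IsIrreducible] (b : P.Base)
    (Q : QuadraticMap K N K) (hQ : ∀ (i : ι) (y : N), Q (P.coreflection i y) = Q y)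
    (i₀ : ι) (hi₀ : i₀ ∈ b.support) (h0 : Q (P.coroot i₀) = 0) : Q = 0 := by
  classical
  haveI : Nonempty ι := ⟨i₀⟩
  have hpol : ∀ i y, QuadraticMap.polar Q y (P.coroot i) = P.root' i y * Q (P.coroot i) := fun i y =>
    polar_eq_of_invariant Q i ⊤ Submodule.mem_top (fun y _ => hQ i y) Submodule.mem_top
  let q : Submodule K M := Submodule.span K (P.root '' {i | Q (P.coroot i) = 0})
  have hprop : ∀ i j, Q (P.coroot i) = 0 → P.pairing i j ≠ 0 → Q (P.coroot j) = 0 := by
    intro i j hi hij
    have h1 := hpol i (P.coroot j)
    have h2 := hpol j (P.coroot i)
    rw [hi, mul_zero, QuadraticMap.polar_comm] at h1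
    rw [h1, P.root'_coroot_eq_pairing] at h2
    have hji : P.pairing j i ≠ 0 := fun h => hij ((P.pairing_eq_zero_iff' (i := j) (j := i)).1 h)
    exact (mul_eq_zero.1 h2.symm).resolve_left hji
  have hinv : ∀ j, q ∈ Module.End.invtSubmodule (P.reflection j).toLinearMap := by
    intro j
    rw [Module.End.mem_invtSubmodule, Submodule.span_le]
    rintro _ ⟨i, hi, rfl⟩
    show P.reflection j (P.root i) ∈ q
    rw [P.reflection_apply_root]
    refine sub_mem (Submodule.subset_span ⟨i, hi, rfl⟩) ?_
    by_cases hij : P.pairing i j = 0
    · rw [hij, zero_smul]; exact zero_mem _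
    · exact Submodule.smul_mem _ _ (Submodule.subset_span ⟨j, hprop i j hi hij, rfl⟩)
  have htop : q = ⊤ := RootPairing.IsIrreducible.eq_top_of_invtSubmodule_reflection (P := P) q hinv
    fun h => P.ne_zero i₀ ((Submodule.eq_bot_iff q).1 h _ (Submodule.subset_span ⟨i₀, h0, rfl⟩))
  have hall : ∀ k, Q (P.coroot k) = 0 := by
    intro k
    by_contra hk
    have hle : q ≤ LinearMap.ker (P.coroot' k) := Submodule.span_le.2 (by
      rintro _ ⟨i, hi, rfl⟩
      show P.coroot' k (P.root i) = 0
      rw [P.root_coroot'_eq_pairing]
      by_contra hne
      exact hk (hprop i k hi hne))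
    have := hle (htop ▸ Submodule.mem_top : P.root k ∈ q)
    simp at this
  ext y
  have hy : y ∈ Submodule.span K (Set.range P.coroot) := by
    rw [RootPairing.IsRootSystem.span_coroot_eq_top]
    exact Submodule.mem_top
  simp only [QuadraticMap.zero_apply]
  suffices ∀ z, QuadraticMap.polar Q z y = 0 by
    have h2 := this y
    rw [QuadraticMap.polar_self, nsmul_eq_mul] at h2
    exact (mul_eq_zero.1 h2).resolve_left (by norm_num)
  intro z
  induction hy using Submodule.span_induction with
  | mem x hx =>
    obtain ⟨i, rfl⟩ := hx
    rw [hpol, hall, mul_zero]
  | zero => simp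
  | add a c _ _ ha hc => rw [QuadraticMap.polar_add_right, ha, hc, add_zero]
  | smul r a _ ha => rw [QuadraticMap.polar_smul_right, ha, smul_zero]


end Groth.Agent.S19012
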