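import Groth.Statements.S19013
import Groth.Agent.MilKLib.Tame

set_option autoImplicit false
universe u v
open MilnorK

namespace Groth.Agent.S19013

/-- Let A ⊆ B be discrete valuation rings, the inclusion being a local homomorphism, with fraction
fields E ⊆ F compatibly, with the induced homomorphism of residue fields κ(A) → κ(B), and with
ramification index e, the natural number such that the maximal ideal of A generates the e-th power
of the maximal ideal of B. Let ∂_A : K_{n+1}(E) → K_n(κ(A)) and ∂_B : K_{n+1}(F) → K_n(κ(B)) be the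
residue maps (tame symbols) on Milnor K-groups. Then for every x in K_{n+1}(E) one has ∂_B(x_F) = e
· (∂_A x)_{κ(B)}, where the subscripts denote the change-of-fields maps along E → F and κ(A) → κ(B).
(The published statement concerns discrete valuations of geometric type on fields finitely generated
over a base field; it is stated here for an arbitrary pair of discrete valuation rings, which is all
the printed computation uses.) -/
theorem result
    (A B : Type u) [CommRing A] [IsDomain A] [IsDiscreteValuationRing A]
    [CommRing B] [IsDomain B] [IsDiscreteValuationRing B] [Algebra A B] [IsLocalHom (algebraMap A B)]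
    (E F : Type v) [Field E] [Field F] [Algebra A E] [IsFractionRing A E] [Algebra B F] [IsFractionRing B F]
    [Algebra E F] [Algebra A F] [IsScalarTower A E F] [IsScalarTower A B F]
    (e : ℕ) (he : Ideal.map (algebraMap A B) (IsLocalRing.maximalIdeal A) = IsLocalRing.maximalIdeal B ^ e)
    (n : ℕ) (dA : MilK.K E (n + 1) →+ MilK.K (IsLocalRing.ResidueField A) n) (hdA : MilK.IsTameSymbol A E n dA)
    (dB : MilK.K F (n + 1) →+ MilK.K (IsLocalRing.ResidueField B) n) (hdB : MilK.IsTameSymbol B F n dB)
    (x : MilK.K E (n + 1)) :
    dB (MilK.map (algebraMap E F) (n + 1) x) =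
      e • MilK.map (IsLocalRing.ResidueField.map (algebraMap A B)) n (dA x) := by
  obtain ⟨ϖA, hA⟩ := IsDiscreteValuationRing.exists_irreducible A
  obtain ⟨ϖB, hB⟩ := IsDiscreteValuationRing.exists_irreducible B
  rw [MilKLib.tame_eq_D hA hdA, MilKLib.tame_eq_D hB hdB]
  have hunit : ∀ u : Aˣ, Units.map (algebraMap E F : E →* F) (MilK.unitToFrac A E u) =
      MilK.unitToFrac B F (Units.map (algebraMap A B : A →* B) u) := fun u => Units.ext (by
    show algebraMap E F (algebraMap A E (u : A)) = algebraMap B F (algebraMap A B (u : A))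
    rw [← IsScalarTower.algebraMap_apply, ← IsScalarTower.algebraMap_apply])
  rw [hA.maximalIdeal_eq, hB.maximalIdeal_eq, Ideal.map_span, Set.image_singleton, Ideal.span_singleton_pow,
    Ideal.span_singleton_eq_span_singleton] at he
  obtain ⟨v, hv⟩ := he.symm
  have hpi : Units.map (algebraMap E F : E →* F) (MilKLib.pU E hA) =
      MilKLib.pU F hB ^ (e : ℤ) * MilK.unitToFrac B F v := Units.ext (by
    rw [MilKLib.val_mk]
    show algebraMap E F (algebraMap A E ϖA) = _
    rw [← IsScalarTower.algebraMap_apply, IsScalarTower.algebraMap_apply A B F, ← hv, map_mul, map_pow, zpow_natCast])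
  refine AddMonoidHom.eqOn_closure (f := (MilKLib.D F hB n).comp (MilK.map (algebraMap E F) (n + 1)))
    (g := e • ((MilK.map (IsLocalRing.ResidueField.map (algebraMap A B)) n).comp (MilKLib.D E hA n))) ?_
    (MilKLib.mem_gens hA n x)
  rintro _ (⟨_, ⟨w, rfl⟩, rfl⟩ | ⟨w, rfl⟩)
  · rw [AddMonoidHom.comp_apply, MilKLib.map_cons, MilK.map_symbol, hpi]
    simp only [hunit]
    show _ = e • MilK.map (IsLocalRing.ResidueField.map (algebraMap A B)) n (MilKLib.D E hA n _)
    rw [MilKLib.cons_symbol (MilKLib.pU E hA), MilKLib.isTame_D hA n ϖA hA w, MilKLib.cons_mul, map_add,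
      MilKLib.cons_zpow, map_zsmul, MilKLib.cons_symbol (MilKLib.pU F hB), MilKLib.isTame_D hB n ϖB hB _,
      MilKLib.cons_symbol (MilK.unitToFrac B F v),
      show (Fin.cons (MilK.unitToFrac B F v) (fun i => MilK.unitToFrac B F (Units.map (algebraMap A B : A →* B) (w i))) :
          Fin (n + 1) → Fˣ) = fun i => MilK.unitToFrac B F
            ((Fin.cons v (fun i => Units.map (algebraMap A B : A →* B) (w i)) : Fin (n + 1) → Bˣ) i) from
        funext fun i => by cases i using Fin.cases <;> simp,
      MilKLib.D_units, add_zero, natCast_zsmul, MilK.map_symbol]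
    rfl
  · rw [AddMonoidHom.comp_apply, MilK.map_symbol]
    simp only [hunit]
    show MilKLib.D F hB n _ = e • MilK.map (IsLocalRing.ResidueField.map (algebraMap A B)) n (MilKLib.D E hA n _)
    rw [MilKLib.D_units, MilKLib.D_units, map_zero, smul_zero]

end Groth.Agent.S19013
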