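import Groth.Statements.S19018
import Mathlib

-- import your own Groth.Agent.* helpers here

set_option autoImplicit false
universe u
open TensorProduct
open SymTen

namespace Groth.Agent.S19018

/-- Suppose k is a field in which 2 ≠ 0 and R is a commutative k-algebra. Write I for the ideal of the
diagonal, i.e. the kernel of multiplication R ⊗_k R → R, and write S for the subalgebra of R ⊗_k R
consisting of elements invariant under interchanging the two tensor factors. Then, viewed as ideals
of S, the swap-invariant elements of I^4 form precisely the square of the ideal of swap-invariant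
elements of I^2. (The source is stated over the complex numbers; the proof needs only that 2 is
invertible.) -/
theorem result
    (k R : Type u) [Field k] [NeZero (2 : k)] [CommRing R] [Algebra k R] :
    Ideal.comap
        (AlgHom.equalizer ((Algebra.TensorProduct.comm k R R : R ⊗[k] R ≃ₐ[k] R ⊗[k] R) : R ⊗[k] R →ₐ[k] R ⊗[k] R)
          (AlgHom.id k (R ⊗[k] R))).val
        (KaehlerDifferential.ideal k R ^ 4) =
      (Ideal.comap
        (AlgHom.equalizer ((Algebra.TensorProduct.comm k R R : R ⊗[k] R ≃ₐ[k] R ⊗[k] R) : R ⊗[k] R →ₐ[k] R ⊗[k] R)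
          (AlgHom.id k (R ⊗[k] R))).val
        (KaehlerDifferential.ideal k R ^ 2)) ^ 2 := by
  open scoped Pointwise in
  focus
    classical
    set σ : R ⊗[k] R →ₐ[k] R ⊗[k] R := ((Algebra.TensorProduct.comm k R R : R ⊗[k] R ≃ₐ[k] R ⊗[k] R) : R ⊗[k] R →ₐ[k] R ⊗[k] R) with hσ
    set S := AlgHom.equalizer σ (AlgHom.id k (R ⊗[k] R)) with hS
    set I := KaehlerDifferential.ideal k R with hI
    have hσσ : ∀ z, σ (σ z) = z := fun z => by
      induction z with
      | zero => simp
      | tmul a b => simp [hσ]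
      | add a b ha hb => simp only [map_add, ha, hb]
    let G : Set (R ⊗[k] R) := Set.range fun s : R => (1 : R) ⊗ₜ[k] s - s ⊗ₜ[k] (1 : R)
    have hG : ∀ d ∈ G, σ d = -d ∧ d ∈ I := by
      rintro _ ⟨s, rfl⟩
      exact ⟨by simp [hσ], by rw [hI, ← KaehlerDifferential.span_range_eq_ideal]; exact Ideal.subset_span ⟨s, rfl⟩⟩
    refine le_antisymm (fun a ha => ?_) ?_
    · have key : ∀ z ∈ I ^ 4, ∀ r : R ⊗[k] R, ∃ h : r * z + σ (r * z) ∈ S, (⟨_, h⟩ : S) ∈ (Ideal.comap S.val (I ^ 2)) ^ 2 := by
        intro z hz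
        have e4 : I ^ 4 = Ideal.span ((G * G) * (G * G)) := by
          rw [show I ^ 4 = (I * I) * (I * I) by ring, hI, ← KaehlerDifferential.span_range_eq_ideal, Ideal.span_mul_span', Ideal.span_mul_span']
        rw [e4] at hz
        induction hz using Submodule.span_induction with
        | mem z hz =>
          obtain ⟨_, ⟨d1, h1, d2, h2, rfl⟩, _, ⟨d3, h3, d4, h4, rfl⟩, rfl⟩ := hz
          intro r
          have hs : ∀ d d', d ∈ G → d' ∈ G → d * d' ∈ S := fun d d' hd hd' => by
            change σ (d * d') = d * d'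
            rw [map_mul, (hG d hd).1, (hG d' hd').1, neg_mul_neg]
          have hr : r + σ r ∈ S := by
            change σ (r + σ r) = r + σ r
            rw [map_add, hσσ, add_comm]
          have e : r * ((d1 * d2) * (d3 * d4)) + σ (r * ((d1 * d2) * (d3 * d4))) = (r + σ r) * ((d1 * d2) * (d3 * d4)) := by
            rw [map_mul σ r, map_mul σ (d1 * d2), show σ (d1 * d2) = d1 * d2 from hs d1 d2 h1 h2, show σ (d3 * d4) = d3 * d4 from hs d3 d4 h3 h4, add_mul]
          dsimp only
          refine ⟨e ▸ mul_mem hr (mul_mem (hs d1 d2 h1 h2) (hs d3 d4 h3 h4)), ?_⟩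
          have m2 : ∀ d d' (hd : d ∈ G) (hd' : d' ∈ G), (⟨d * d', hs d d' hd hd'⟩ : S) ∈ Ideal.comap S.val (I ^ 2) := fun d d' hd hd' => by
            rw [Ideal.mem_comap, pow_two]
            exact Ideal.mul_mem_mul (hG d hd).2 (hG d' hd').2
          convert Ideal.mul_mem_left _ (⟨r + σ r, hr⟩ : S) (pow_two (Ideal.comap S.val (I ^ 2)) ▸ Ideal.mul_mem_mul (m2 d1 d2 h1 h2) (m2 d3 d4 h3 h4)) using 1
          exact Subtype.ext e
        | zero => intro r; exact ⟨by simp, by convert zero_mem ((Ideal.comap S.val (I ^ 2)) ^ 2) using 1; exact Subtype.ext (show r * 0 + σ (r * 0) = 0 by rw [mul_zero, map_zero, add_zero])⟩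
        | add x y _ _ hx hy =>
          intro r
          obtain ⟨h, h'⟩ := hx r
          obtain ⟨g, g'⟩ := hy r
          have e : r * (x + y) + σ (r * (x + y)) = (r * x + σ (r * x)) + (r * y + σ (r * y)) := by rw [mul_add, map_add]; abel
          exact ⟨e ▸ add_mem h g, by convert add_mem h' g' using 1; exact Subtype.ext e⟩
        | smul c x _ hx =>
          intro r
          obtain ⟨h, h'⟩ := hx (r * c)
          rw [mul_assoc] at h
          refine ⟨h, ?_⟩
          convert h' using 1
          exact Subtype.ext (by simp only [smul_eq_mul, mul_assoc])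
      obtain ⟨h, h'⟩ := key (a : R ⊗[k] R) ha 1
      have h2 : IsUnit (2 : k) := isUnit_iff_ne_zero.2 (NeZero.ne 2)
      have e : (⟨_, h⟩ : S) = (2 : k) • a := Subtype.ext (by
        change 1 * (a : R ⊗[k] R) + σ (1 * (a : R ⊗[k] R)) = (2 : k) • (a : R ⊗[k] R)
        rw [one_mul, show σ (a : R ⊗[k] R) = a from a.2, two_smul])
      rw [e] at h'
      have := Submodule.smul_of_tower_mem _ (2 : k)⁻¹ h'
      rwa [inv_smul_smul₀ (NeZero.ne 2)] at this
    · rw [show (4 : ℕ) = 2 * 2 from rfl, pow_mul]
      exact Ideal.le_comap_pow _ 2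

end Groth.Agent.S19018
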