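import Groth.Statements.S19020
import Mathlib.Data.Nat.Choose.Vandermonde
import Mathlib.LinearAlgebra.Matrix.PosDef
import Mathlib.LinearAlgebra.Matrix.Block
import Mathlib.Algebra.Order.Star.Real

set_option autoImplicit false
open Toeplitz

namespace Groth.Agent.S19020

open Matrix Finset

private def B (n m : ℕ) : Matrix (Fin (m + n)) (Fin m) ℝ :=
  Matrix.of fun k i => if (i : ℕ) ≤ k then (-1) ^ (k : ℕ) * (n.choose (k - i) : ℝ) else 0

private lemma gram (n d : ℕ) : ∑ a ∈ range (n + 1), n.choose a * n.choose (a + d) = (2 * n).choose (n + d) := by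
  rw [two_mul, Nat.add_choose_eq, Finset.Nat.sum_antidiagonal_eq_sum_range_succ_mk]
  have h1 : ∑ a ∈ range (n + 1), n.choose a * n.choose (a + d) =
      ∑ a ∈ range (n + 1), n.choose a * n.choose (n - a + d) * 1 := by
    rw [← Finset.sum_range_reflect]
    refine Finset.sum_congr rfl fun a ha => ?_
    have ha' : a ≤ n := Nat.lt_succ_iff.1 (mem_range.1 ha)
    rw [show n + 1 - 1 - a = n - a by omega, Nat.choose_symm ha', mul_one]
  rw [h1]
  simp only [mul_one]
  refine (Finset.sum_subset (Finset.range_mono (by omega : n + 1 ≤ n + d + 1)) fun a _ ha => ?_).trans ?_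
  · rw [Nat.choose_eq_zero_of_lt (by simp at ha; omega), zero_mul]
  · refine Finset.sum_congr rfl fun a ha => ?_
    by_cases ha' : a ≤ n
    · rw [show n - a + d = n + d - a by omega]
    · rw [Nat.choose_eq_zero_of_lt (by omega : n < a), zero_mul, zero_mul]

private lemma BtB (n m : ℕ) (i j : Fin m) (hij : (i : ℕ) ≤ j) :
    ((B n m).transpose * B n m) i j = ((2 * n).choose (n + ((j : ℕ) - i)) : ℝ) := by
  simp only [Matrix.mul_apply, Matrix.transpose_apply, B, Matrix.of_apply]
  rw [← gram, Fin.sum_univ_eq_sum_range (fun k => (if (i : ℕ) ≤ k then (-1 : ℝ) ^ k * (n.choose (k - i) : ℝ) else 0) *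
    (if (j : ℕ) ≤ k then (-1 : ℝ) ^ k * (n.choose (k - j) : ℝ) else 0))]
  push_cast
  rw [← Finset.sum_subset (s₁ := Finset.Ico (j : ℕ) (j + (n + 1))) (s₂ := range (m + n))]
  · rw [Finset.sum_Ico_eq_sum_range, Nat.add_sub_cancel_left]
    refine Finset.sum_congr rfl fun a _ => ?_
    rw [if_pos (by omega), if_pos (by omega), Nat.add_sub_cancel_left,
      show (j : ℕ) + a - i = a + ((j : ℕ) - i) by omega, mul_mul_mul_comm, ← mul_pow]
    simp [mul_comm]
  · intro k hk
    simp only [Finset.mem_Ico, mem_range] at hk ⊢
    omega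
  · intro k _ hk
    simp only [Finset.mem_Ico, not_and, not_lt] at hk
    by_cases h : (j : ℕ) ≤ k
    · rw [if_pos h, Nat.choose_eq_zero_of_lt (by have := hk h; omega : n < k - j)]; simp
    · rw [if_neg h, mul_zero]

private lemma B_inj (n m : ℕ) : Function.Injective (B n m).mulVec := by
  intro x y h
  have key : ∀ z : Fin m → ℝ, (B n m).mulVec z = 0 → z = 0 := by
    intro z hz
    funext i
    induction hi : (i : ℕ) using Nat.strong_induction_on generalizing i with
    | _ v ih =>
      subst hi
      have := congr_fun hz (Fin.castAdd n i)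
      simp only [Matrix.mulVec, dotProduct, B, Matrix.of_apply, Fin.val_castAdd, Pi.zero_apply] at this
      rw [Finset.sum_eq_single i] at this
      · simpa using this
      · intro j _ hj
        rcases lt_or_gt_of_ne (fun h => hj (Fin.ext h) : (j : ℕ) ≠ i) with h | h
        · rw [ih _ h j rfl]; simp
        · rw [if_neg (by omega)]; simp
      · simp
  exact sub_eq_zero.1 (key (x - y) (by rw [Matrix.mulVec_sub, h, sub_self]))

/-- For natural numbers n and m, the m × m real Toeplitz matrix with (i, j) entry (-1)^(i+j) · C(2n, n +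
|i - j|), i.e. with t_k = (-1)^k C(2n, n + k) on the k-th diagonal for |k| ≤ n and zero beyond, is
positive definite; in particular it is nondegenerate, which is the printed assertion (positive
definiteness is what the printed proof establishes; m = 0 is the empty matrix). -/
theorem result (n m : ℕ) :
    (Matrix.of fun i j : Fin m =>
        (-1 : ℝ) ^ ((i : ℕ) + (j : ℕ)) * (Nat.choose (2 * n) (n + Nat.dist i j) : ℝ)).PosDef := by
  let D : Matrix (Fin m) (Fin m) ℝ := Matrix.diagonal fun i => (-1 : ℝ) ^ (i : ℕ)
  have hinj : Function.Injective (B n m * D).mulVec := by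
    intro x y h
    simp only [← Matrix.mulVec_mulVec] at h
    have := B_inj n m h
    funext i
    have h2 := congr_fun this i
    simp only [D, Matrix.mulVec_diagonal] at h2
    exact mul_left_cancel₀ (by positivity) h2
  have := Matrix.PosDef.conjTranspose_mul_self (B n m * D) hinj
  convert this using 1
  ext i j
  simp only [Matrix.conjTranspose_eq_transpose_of_trivial, Matrix.transpose_mul, D, Matrix.diagonal_transpose]
  rw [Matrix.mul_assoc, ← Matrix.mul_assoc _ (B n m), Matrix.diagonal_mul, Matrix.mul_diagonal, Matrix.of_apply, pow_add]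
  rcases le_total (i : ℕ) j with h | h
  · rw [BtB n m i j h, Nat.dist_eq_sub_of_le h]; ring
  · have hs : ((B n m).transpose * B n m) i j = ((B n m).transpose * B n m) j i := by
      simp [Matrix.mul_apply, mul_comm]
    rw [hs, BtB n m j i h, Nat.dist_comm, Nat.dist_eq_sub_of_le h]; ring

end Groth.Agent.S19020
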