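import Groth.Statements.S19022
import Groth.Agent.SemiLocFreeLib.Basic
import Groth.Agent.CurvLib.StalkSum
import Groth.Agent.PerfHomLib.Retract
-- import your own Groth.Agent.* helpers here

set_option autoImplicit false
universe u
open CategoryTheory CategoryTheory.Limits AlgebraicGeometry
open PicF

namespace Groth.Agent.S19022

/-- Let X be a scheme, L an invertible O_X-module and T a finite set of closed points of X that lies in
some affine open of X. Then T lies in an affine open U of X on which L is trivial (L restricted to U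
is isomorphic to the structure sheaf). (The source states this for a smooth quasi-projective complex
surface, where every finite set of points lies in an affine open, and phrases it as: X^n and the
symmetric product S^n X are covered by the opens U^n and S^n U with U affine and L trivial on U; the
printed argument uses only that the finitely many points lie in one affine open, which is taken as
the hypothesis here.) -/
theorem result
    (X : Scheme.{u}) (L : X.Modules) (hL : PicF.IsInvertible L)
    (T : Finset X) (hT : ∀ x ∈ T, IsClosed ({x} : Set X))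
    (hU : ∃ U : X.Opens, IsAffineOpen U ∧ ∀ x ∈ T, x ∈ U) :
    ∃ U : X.Opens, IsAffineOpen U ∧ (∀ x ∈ T, x ∈ U) ∧
      Nonempty (L.restrict U.ι ≅ Coh.structureModule (↑U : Scheme.{u})) := by
  classical
  obtain ⟨V, hV, hTV⟩ := hU
  have h1 : FlatMod.IsFinLocFreeOfRank 1 L := fun y => by
    obtain ⟨U, hy, ⟨e⟩⟩ := hL y
    exact ⟨U, hy, ⟨e ≪≫ (coproductUniqueIso fun _ : Fin 1 => Coh.structureModule (U : Scheme.{u})).symm⟩⟩
  have hfl : FlatMod.IsFinLocFree L := fun y => by
    obtain ⟨U, hy, h⟩ := h1 y
    exact ⟨U, 1, hy, h⟩
  haveI : Coh.IsQCoh L := FinLFAnn.isQCoh_of_isFinLocFree hfl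
  obtain ⟨f, hf, e, he⟩ := SemiLocFreeLib.exists_frame_basicOpen hfl hV (T.subtype (· ∈ V))
    fun y => CurvLib.nonempty_stalk_pi_of_locFree h1 y
  obtain ⟨φ⟩ := CohCmpLib.exists_iso_freeMod_of_frame
    (CohCmpLib.isFrame_puSecLE (X.basicOpen f).ι he (V := (⊤ : (X.basicOpen f : Scheme.{u}).Opens))
      (fun z _ => z.2))
  exact ⟨X.basicOpen f, hV.basicOpen f, fun z hz => hf ⟨z, hTV z hz⟩ (Finset.mem_subtype.mpr hz),
    ⟨(Scheme.Modules.restrictFunctorIsoPullback (X.basicOpen f).ι).app L ≪≫ φ ≪≫
      coproductUniqueIso fun _ : Fin 1 => Coh.structureModule (X.basicOpen f : Scheme.{u})⟩⟩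

end Groth.Agent.S19022
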