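import Groth.Statements.S19025
import Mathlib

-- import your own Groth.Agent.* helpers here

set_option autoImplicit false
universe u
open HigherRestr

namespace Groth.Agent.S19025

/-- In abstract form, the estimate its proof establishes. Let S be a commutative ring, I an ideal of S,
g₀ and g₁ elements with g₁ - g₀ ∈ I, N a natural number and y a sequence in S such that, for 1 ≤ i ≤
N, the (N-i)-fold unit-step forward difference of y taken at i lies in I^(N-i). Then g₀^N times the
N-fold forward difference of y at 0, minus the N-fold forward difference at 0 of the twisted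
sequence j ↦ g₀^(N-j) g₁^j y_j, lies in I^N. (In the source S is the ring of functions on an affine
chart of X^n, I the ideal of a pairwise diagonal, g₀ and g₁ the two pullbacks of a transition unit
of L, and y_j the components x_λ along the compositions a₀^(N-j) a₁^j μ; the estimate is what makes
the higher order restrictions D^l_L well defined on ker D^(l-1)_L independently of the
trivialisation.) -/
theorem result
    (S : Type u) [CommRing S] (I : Ideal S) (g₀ g₁ : S) (hg : g₁ - g₀ ∈ I)
    (N : ℕ) (y : ℕ → S)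
    (hy : ∀ i : ℕ, 1 ≤ i → i ≤ N → (fwdDiff (1 : ℕ))^[N - i] y i ∈ I ^ (N - i)) :
    g₀ ^ N * (fwdDiff (1 : ℕ))^[N] y 0 -
        (fwdDiff (1 : ℕ))^[N] (fun j : ℕ => g₀ ^ (N - j) * g₁ ^ j * y j) 0 ∈ I ^ N := by
  classical
  obtain ⟨d, hdI, rfl⟩ : ∃ d ∈ I, g₁ = d + g₀ := ⟨g₁ - g₀, hg, (sub_add_cancel _ _).symm⟩
  have hexp : ∀ j ≤ N, g₀ ^ (N - j) * (d + g₀) ^ j = ∑ i ∈ Finset.range (N + 1), (j.choose i : S) * d ^ i * g₀ ^ (N - i) := by
    intro j hj
    rw [← Finset.sum_subset (Finset.range_mono (show j + 1 ≤ N + 1 by omega)) (fun i _ hi => by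
      rw [Finset.mem_range, not_lt] at hi
      rw [Nat.choose_eq_zero_of_lt (by omega), Nat.cast_zero, zero_mul, zero_mul])]
    rw [add_pow, Finset.mul_sum]
    refine Finset.sum_congr rfl fun i hi => ?_
    rw [Finset.mem_range] at hi
    rw [show N - i = (N - j) + (j - i) by omega, pow_add]
    ring
  have hinner : ∀ i ≤ N, ∑ j ∈ Finset.range (N + 1), (((-1 : ℤ) ^ (N - j) * N.choose j : ℤ) : S) * (j.choose i : S) * y j = (N.choose i : S) * (fwdDiff (1 : ℕ))^[N - i] y i := by
    intro i hi
    rw [fwdDiff_iter_eq_sum_shift, Finset.mul_sum, show N + 1 = i + (N - i + 1) by omega, Finset.sum_range_add, Finset.sum_eq_zero (s := Finset.range i) (fun j hj => by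
      rw [Nat.choose_eq_zero_of_lt (Finset.mem_range.1 hj), Nat.cast_zero, mul_zero, zero_mul]), zero_add]
    refine Finset.sum_congr rfl fun k hk => ?_
    rw [Finset.mem_range] at hk
    have hN : i + (N - i) = N := by omega
    have e := Nat.choose_mul (n := N) (k := i + k) (s := i) (by omega)
    rw [show i + k - i = k by omega] at e
    simp only [smul_eq_mul, mul_one, zsmul_eq_mul, Int.cast_mul, Int.cast_pow, Int.cast_neg, Int.cast_one, Int.cast_natCast]
    rw [show N - (i + k) = N - i - k by omega]
    have e' := congrArg (fun t : ℕ => (t : S)) e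
    push_cast at e'
    linear_combination (-1 : S) ^ (N - i - k) * y (i + k) * e'
  have key : (fwdDiff (1 : ℕ))^[N] (fun j : ℕ => g₀ ^ (N - j) * (d + g₀) ^ j * y j) 0 = ∑ i ∈ Finset.range (N + 1), d ^ i * g₀ ^ (N - i) * ((N.choose i : S) * (fwdDiff (1 : ℕ))^[N - i] y i) := by
    rw [fwdDiff_iter_eq_sum_shift]
    rw [← Finset.sum_congr rfl (fun i hi => congrArg (d ^ i * g₀ ^ (N - i) * ·) (hinner i (by rw [Finset.mem_range] at hi; omega)))]
    simp only [zero_add, smul_eq_mul, mul_one, zsmul_eq_mul, Finset.mul_sum]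
    rw [Finset.sum_comm]
    refine Finset.sum_congr rfl fun j hj => ?_
    rw [Finset.mem_range] at hj
    rw [hexp j (by omega), Finset.sum_mul, Finset.mul_sum]
    exact Finset.sum_congr rfl fun i _ => by push_cast; ring
  rw [key, Finset.sum_range_succ']
  simp only [pow_zero, one_mul, Nat.sub_zero, Nat.choose_zero_right, Nat.cast_one, sub_add_cancel_right]
  refine neg_mem (Ideal.sum_mem _ fun i hi => ?_)
  rw [Finset.mem_range] at hi
  rw [show ∀ a b c e : S, a * b * (c * e) = (b * c) * (a * e) from fun a b c e => by ring]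
  refine Ideal.mul_mem_left _ _ ?_
  rw [show I ^ N = I ^ (i + 1) * I ^ (N - (i + 1)) by rw [← pow_add]; congr 1; omega]
  exact Ideal.mul_mem_mul (Ideal.pow_mem_pow hdI _) (hy (i + 1) (by omega) (by omega))

end Groth.Agent.S19025
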