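import Groth.Statements.S19026
import Groth.Agent.NefH1Lib.Adjunction.GorCurve
import Groth.Agent.NefH1Lib.Adjunction.Numerics

set_option autoImplicit false
set_option backward.isDefEq.respectTransparency false
set_option backward.isDefEq.respectTransparency.types false
set_option maxHeartbeats 1000000
set_option linter.style.haveILetI false
universe u
open CategoryTheory CategoryTheory.Limits AlgebraicGeometry
attribute [local instance] HasDerivedCategory.standard
open Curves

namespace Groth.Agent.S19026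

/-- Let k be an algebraically closed field and X a connected reduced Gorenstein curve over k of genus g
≥ 2: X is proper over k, reduced, connected, of dimension one, and its dualizing module ω_X (the
degree −1 cohomology sheaf of f^! O for the structure morphism f, for any choice of the data Rf_* on
D_QCoh with its right adjoint) is invertible; g = dim_k H^1(X, O_X). A connected subcurve Z of X is
a reduced connected closed subscheme of dimension one, deg_Z of a module means the degree of its
pullback to Z, g_Z = dim_k H^1(Z, O_Z), and k_Z is the length (k-dimension of global sections of the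
structure sheaf) of the scheme-theoretic intersection of Z with the reduced closed subscheme
supported on the closure of X ∖ Z. Let L be an invertible module of degree d which is balanced: for
every connected subcurve Z, |deg_Z L − (d/(2g−2)) deg_Z ω_X| ≤ k_Z/2 (written cleared of
denominators). Assume d > g − 1. Then L is nef (deg_Z L ≥ 0 for every connected subcurve Z) if and
only if X is G-semistable (deg_Z ω_X ≥ 0 for every connected subcurve Z) and every exceptional
subcurve Z (connected, with deg_Z ω_X = 0) has deg_Z L = 0 or 1. -/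
theorem result (k : Type u) [Field k] [IsAlgClosed k] (X : Scheme.{u}) [X.Over (Spec (CommRingCat.of k))]
    [IsProper (X ↘ (Spec (CommRingCat.of k)))] [AlgebraicGeometry.IsReduced X] [ConnectedSpace X] (hdim : topologicalKrullDim X = 1)
    [DCoh.HasRpush (X ↘ (Spec (CommRingCat.of k)))] (h : DCoh.RpushPreservesQCoh (X ↘ (Spec (CommRingCat.of k)))) [DCoh.HasShriek (X ↘ (Spec (CommRingCat.of k))) h]
    (OY : DCoh.DQCoh (Spec (CommRingCat.of k)))
    (hOY : Nonempty (OY.obj ≅ DCoh.inD (Spec (CommRingCat.of k)) (Coh.structureModule (Spec (CommRingCat.of k)))))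
    (hGor : PicF.IsInvertible (DCoh.dualizingMod (X ↘ (Spec (CommRingCat.of k))) h OY 1)) (hg : 2 ≤ Curv2.genus k X)
    (L : X.Modules) (hL : PicF.IsInvertible L)
    (hbal : ∀ J : X.IdealSheafData, AlgebraicGeometry.IsReduced J.subscheme → ConnectedSpace J.subscheme →
      topologicalKrullDim J.subscheme = 1 →
      |2 * (2 * (Curv2.genus k X : ℤ) - 2) * @Curv2.deg k _ J.subscheme ⟨J.subschemeι ≫ (X ↘ (Spec (CommRingCat.of k)))⟩ ((Scheme.Modules.pullback J.subschemeι).obj L) 1
          - 2 * Curv2.deg k X L 1 * @Curv2.deg k _ J.subscheme ⟨J.subschemeι ≫ (X ↘ (Spec (CommRingCat.of k)))⟩ ((Scheme.Modules.pullback J.subschemeι).obj (DCoh.dualizingMod (X ↘ (Spec (CommRingCat.of k))) h OY 1)) 1|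
        ≤ (2 * (Curv2.genus k X : ℤ) - 2) * (Module.finrank k (Coh.HH X (ClSub.quotMod (J ⊔ (Scheme.IdealSheafData.vanishingIdeal ⟨closure ((J.support : Set X)ᶜ), isClosed_closure⟩))) 0) : ℤ))
    (hd : (Curv2.genus k X : ℤ) - 1 < Curv2.deg k X L 1) :
    (∀ J : X.IdealSheafData, AlgebraicGeometry.IsReduced J.subscheme → ConnectedSpace J.subscheme →
      topologicalKrullDim J.subscheme = 1 →
      0 ≤ @Curv2.deg k _ J.subscheme ⟨J.subschemeι ≫ (X ↘ (Spec (CommRingCat.of k)))⟩ ((Scheme.Modules.pullback J.subschemeι).obj L) 1) ↔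
      ((∀ J : X.IdealSheafData, AlgebraicGeometry.IsReduced J.subscheme → ConnectedSpace J.subscheme →
      topologicalKrullDim J.subscheme = 1 →
        0 ≤ @Curv2.deg k _ J.subscheme ⟨J.subschemeι ≫ (X ↘ (Spec (CommRingCat.of k)))⟩ ((Scheme.Modules.pullback J.subschemeι).obj (DCoh.dualizingMod (X ↘ (Spec (CommRingCat.of k))) h OY 1)) 1) ∧
      (∀ J : X.IdealSheafData, AlgebraicGeometry.IsReduced J.subscheme → ConnectedSpace J.subscheme →
      topologicalKrullDim J.subscheme = 1 →
        @Curv2.deg k _ J.subscheme ⟨J.subschemeι ≫ (X ↘ (Spec (CommRingCat.of k)))⟩ ((Scheme.Modules.pullback J.subschemeι).obj (DCoh.dualizingMod (X ↘ (Spec (CommRingCat.of k))) h OY 1)) 1 = 0 →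
        (@Curv2.deg k _ J.subscheme ⟨J.subschemeι ≫ (X ↘ (Spec (CommRingCat.of k)))⟩ ((Scheme.Modules.pullback J.subschemeι).obj L) 1 = 0 ∨ @Curv2.deg k _ J.subscheme ⟨J.subschemeι ≫ (X ↘ (Spec (CommRingCat.of k)))⟩ ((Scheme.Modules.pullback J.subschemeι).obj L) 1 = 1))) := by
  obtain ⟨hdual, hχ⟩ := NefH1Lib.Adj.setup k hdim h OY hOY
  have hω := hGor
  have hw := NefH1Lib.Adj.deg_dualizing_sub k hdim hω hdual hχ
  have hwX := NefH1Lib.Adj.deg_dualizing k hdim hω hdual hχ
  have hcase := NefH1Lib.Adj.whole_or_meets k (X := X) hdim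
  have hg' : (2 : ℤ) ≤ (Curv2.genus k X : ℤ) := by exact_mod_cast hg
  constructor
  · intro hnef
    have hss : ∀ J : X.IdealSheafData, AlgebraicGeometry.IsReduced J.subscheme → ConnectedSpace J.subscheme →
        topologicalKrullDim J.subscheme = 1 →
        0 ≤ NefH1Lib.Adj.dJ k (DCoh.dualizingMod (X ↘ (Spec (CommRingCat.of k))) h OY 1) J := by
      intro J hr hc hJd
      have e := hw J hr hc hJd
      rcases hcase J hr hc hJd with ⟨e1, e2, -⟩ | hk
      · rw [e1, e2] at e
        omega
      · by_contra hneg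
        have h1 := (NefH1Lib.Adj.bal_neg hg' (l := NefH1Lib.Adj.dJ k L J)
          (w := NefH1Lib.Adj.dJ k (DCoh.dualizingMod (X ↘ (Spec (CommRingCat.of k))) h OY 1) J) (κ := NefH1Lib.Adj.kJ k J) (hbal J hr hc hJd) (by omega) (show NefH1Lib.Adj.dJ k (DCoh.dualizingMod (X ↘ (Spec (CommRingCat.of k))) h OY 1) J = -1 by omega)
          (by omega)).2 hd
        exact absurd (show 0 ≤ NefH1Lib.Adj.dJ k L J from hnef J hr hc hJd) (not_le.mpr h1)
    refine ⟨hss, fun J hr hc hJd hw0 => ?_⟩
    have e := hw J hr hc hJd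
    have hn : 0 ≤ NefH1Lib.Adj.dJ k L J := hnef J hr hc hJd
    change NefH1Lib.Adj.dJ k (DCoh.dualizingMod (X ↘ (Spec (CommRingCat.of k))) h OY 1) J = 0 at hw0
    change NefH1Lib.Adj.dJ k L J = 0 ∨ NefH1Lib.Adj.dJ k L J = 1
    rcases hcase J hr hc hJd with ⟨e1, e2, -⟩ | hk
    · rw [e1, e2] at e
      omega
    · have h1 := NefH1Lib.Adj.bal_zero hg' (l := NefH1Lib.Adj.dJ k L J)
          (w := NefH1Lib.Adj.dJ k (DCoh.dualizingMod (X ↘ (Spec (CommRingCat.of k))) h OY 1) J) (κ := NefH1Lib.Adj.kJ k J) (hbal J hr hc hJd) hw0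
      omega
  · rintro ⟨hss, hexc⟩ J hr hc hJd
    change 0 ≤ NefH1Lib.Adj.dJ k L J
    have e := hw J hr hc hJd
    have hw0 : 0 ≤ NefH1Lib.Adj.dJ k (DCoh.dualizingMod (X ↘ (Spec (CommRingCat.of k))) h OY 1) J := hss J hr hc hJd
    rcases hcase J hr hc hJd with ⟨e1, -, e3⟩ | hk
    · rw [e3 L hL]
      omega
    · by_cases hz : NefH1Lib.Adj.dJ k (DCoh.dualizingMod (X ↘ (Spec (CommRingCat.of k))) h OY 1) J = 0
      · rcases hexc J hr hc hJd hz with h0 | h0
        · exact h0.ge
        · exact le_trans zero_le_one h0.ge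
      · have h1 := NefH1Lib.Adj.bal_low_strict (c := 1) hg' (l := NefH1Lib.Adj.dJ k L J)
          (w := NefH1Lib.Adj.dJ k (DCoh.dualizingMod (X ↘ (Spec (CommRingCat.of k))) h OY 1) J) (κ := NefH1Lib.Adj.kJ k J) (hbal J hr hc hJd) (by omega)
          (show 1 ≤ NefH1Lib.Adj.dJ k (DCoh.dualizingMod (X ↘ (Spec (CommRingCat.of k))) h OY 1) J by omega)
        omega

end Groth.Agent.S19026
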