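import Groth.Statements.S19033
import Mathlib
import Groth.Agent.BasicIneqLib.Exceptional
-- import your own Groth.Agent.* helpers here

set_option autoImplicit false
universe u
open LabGraph

namespace Groth.Agent.S19033

open LabGraph in
/-- Let X be a quasi-wp-stable curve of genus g ≥ 2 over an algebraically closed field, encoded by a
weighted multigraph: vertices are the irreducible components C_v, with the weight w v and the loops
at v chosen so that w v plus the number of loops at v is the arithmetic genus of C_v; two distinct
components are joined by one edge for each node and by two edges for each tacnode at which they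
meet. For a set Y of vertices (a subcurve) canDeg Y is then deg_Y ω_X = 2 g_Y − 2 + k_Y and cut Y is
k_Y, the length of the intersection of Y with its complementary subcurve; a vertex is exceptional
(weight zero, loopless, exactly two edges to other vertices) exactly when C_v is an exceptional
component; the twist of the indicator function of Y is the multidegree Σ_{C ⊆ Y} C of the degree
class group construction; and the graph is a connected quasistable graph. Let d, d' be properly
balanced multidegrees of the same total degree D (each satisfies the Basic Inequality 2·|K·d_Y −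
D·canDeg Y| ≤ cut Y·K for every Y, where K = 2g − 2 = canDeg of the whole graph, and takes the value
1 on every exceptional vertex), with d strictly balanced: for every nonempty proper Y with d_Y equal
to the upper extreme, i.e. 2(K·d_Y − D·canDeg Y) = K·cut Y, every edge with exactly one endpoint in
Y has an exceptional endpoint. Suppose d' = d + Σ_i twist(1_{Z_i}) for nested vertex sets Z_1 ⊆ ⋯ ⊆
Z_m, each with d at its upper extreme, such that for j < i no edge joins a vertex of Z_j to a vertex
outside Z_i. Then d = d'. (The source assumes only that d − d' lies in the lattice generated by the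
multidegrees of the components and takes the existence of such a nested family from an earlier paper
it cites without proof; this row carries that description as its hypothesis.) -/
theorem result {V E : Type u} [Fintype V] [Fintype E]
    [DecidableEq V] [DecidableEq E] (ends : E → V × V) (w : V → ℕ) (hX : IsQuasistableGraph ends w)
    (hg : 2 ≤ genus ends w) (d d' : V → ℤ) (hD : ∑ v, d v = ∑ v, d' v)
    (hBI : SatisfiesBI ends w d) (hBI' : SatisfiesBI ends w d')
    (hone : ∀ v : V, IsExceptional ends w v → d v = 1) (hone' : ∀ v : V, IsExceptional ends w v → d' v = 1)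
    (hstrict : ∀ Y : Finset V, Y.Nonempty → Y ≠ Finset.univ →
      2 * (canDeg ends w Finset.univ * (∑ v ∈ Y, d v) - (∑ v, d v) * canDeg ends w Y)
          = (cut ends Y : ℤ) * canDeg ends w Finset.univ →
      ∀ e : E, (((ends e).1 ∈ Y ∧ (ends e).2 ∉ Y) ∨ ((ends e).1 ∉ Y ∧ (ends e).2 ∈ Y)) →
        (IsExceptional ends w (ends e).1 ∨ IsExceptional ends w (ends e).2))
    (m : ℕ) (Z : Fin m → Finset V) (hmono : ∀ i j : Fin m, i ≤ j → Z i ⊆ Z j)
    (hext : ∀ i : Fin m, 2 * (canDeg ends w Finset.univ * (∑ v ∈ Z i, d v) - (∑ v, d v) * canDeg ends w (Z i))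
          = (cut ends (Z i) : ℤ) * canDeg ends w Finset.univ)
    (hsep : ∀ i j : Fin m, j < i → ∀ e : E,
      ¬ (((ends e).1 ∈ Z j ∧ (ends e).2 ∉ Z i) ∨ ((ends e).2 ∈ Z j ∧ (ends e).1 ∉ Z i)))
    (hsum : ∀ v : V, d' v = d v + ∑ i : Fin m, twist ends (fun u => if u ∈ Z i then (1 : ℤ) else 0) v) :
    d = d' := by
  classical
  have hK : 0 < canDeg ends w Finset.univ := by rw [BasicIneqLib.canDeg_univ]; omega
  let ind : Fin m → V → ℤ := fun i u => if u ∈ Z i then 1 else 0
  have hkey : ∀ i v, IsExceptional ends w v → v ∉ Z i → twist ends (ind i) v = 0 := by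
    intro i v hv hvZ
    obtain ⟨hnn, -⟩ := BasicIneqLib.twist_indicator_nonneg ends (Z i) hvZ
    have hcut := BasicIneqLib.cut_insert ends (Z i) hvZ hv.2.1
    have hb := ((BasicIneqLib.satisfiesBI_iff ends w d).1 hBI (insert v (Z i))).1
    rw [BasicIneqLib.defect_eq_sum, Finset.sum_insert hvZ, ← BasicIneqLib.defect_eq_sum, hone v hv,
      BasicIneqLib.canDeg_exceptional ends w hv, hcut, hv.2.2] at hb
    have he : 2 * BasicIneqLib.defect ends w d (Z i) = (cut ends (Z i) : ℤ) * canDeg ends w Finset.univ := hext i
    push_cast at hb
    show twist ends (fun u => if u ∈ Z i then 1 else 0) v = 0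
    by_contra hne
    have h2 : 1 ≤ twist ends (fun u => if u ∈ Z i then 1 else 0) v := by omega
    nlinarith
  have hnonpos : ∀ i v, IsExceptional ends w v → twist ends (ind i) v ≤ 0 := fun i v hv => by
    by_cases hvZ : v ∈ Z i
    · exact (BasicIneqLib.twist_indicator_nonpos ends (Z i) hvZ).1
    · exact (hkey i v hv hvZ).le
  have hzero : ∀ i v, IsExceptional ends w v → twist ends (ind i) v = 0 := fun i v hv => by
    have h := hsum v
    rw [hone v hv, hone' v hv, left_eq_add] at h
    exact (Finset.sum_eq_zero_iff_of_nonpos fun j _ => hnonpos j v hv).1 h i (Finset.mem_univ i)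
  have hside : ∀ i v, IsExceptional ends w v → ∀ e : E,
      ((ends e).1 = v → ((ends e).2 ∈ Z i ↔ v ∈ Z i)) ∧ ((ends e).2 = v → ((ends e).1 ∈ Z i ↔ v ∈ Z i)) := by
    intro i v hv e
    by_cases hvZ : v ∈ Z i
    · obtain ⟨h1, h2⟩ := (BasicIneqLib.twist_indicator_nonpos ends (Z i) hvZ).2 (hzero i v hv) e
      exact ⟨fun a => iff_of_true (h1 a) hvZ, fun a => iff_of_true (h2 a) hvZ⟩
    · obtain ⟨h1, h2⟩ := (BasicIneqLib.twist_indicator_nonneg ends (Z i) hvZ).2 (hzero i v hv) e
      exact ⟨fun a => iff_of_false (h1 a) hvZ, fun a => iff_of_false (h2 a) hvZ⟩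
  have hcons : ∀ i e, (ends e).1 ∈ Z i ↔ (ends e).2 ∈ Z i := by
    intro i e
    by_contra hne
    have hne' : (Z i).Nonempty ∧ Z i ≠ Finset.univ := by
      constructor
      · by_contra h; rw [Finset.not_nonempty_iff_eq_empty] at h; simp [h] at hne
      · intro h; simp [h] at hne
    rcases hstrict (Z i) hne'.1 hne'.2 (hext i) e (by tauto) with hv | hv
    · exact hne ((hside i _ hv e).1 rfl).symm
    · exact hne ((hside i _ hv e).2 rfl)
  funext v
  rw [hsum v, left_eq_add]
  refine Finset.sum_eq_zero fun i _ => Finset.sum_eq_zero fun e _ => ?_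
  have := hcons i e
  simp [this]

end Groth.Agent.S19033
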