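import Groth.Statements.S19034
import Mathlib
import Groth.Agent.BasicIneqLib.Exceptional
-- import your own Groth.Agent.* helpers here

set_option autoImplicit false
universe u
open LabGraph

namespace Groth.Agent.S19034

open LabGraph in
/-- Let σ : Z → X be the contraction of some exceptional components of a quasi-wp-stable curve Z of
genus g ≥ 2 onto a quasi-wp-stable curve X, and d a properly balanced multidegree on X; then the
pull-back d̃ of d to Z (d̃_W = d_{σ(W)} when σ(W) is a curve, d̃ = 0 on contracted components) is
balanced. Encode Z by its weighted multigraph (vertices = irreducible components, weight plus number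
of loops = arithmetic genus of the component, one edge per node and two per tacnode joining distinct
components; canDeg Y = deg_Y ω_Z, cut Y = k_Y, K = canDeg of all vertices = 2g − 2; exceptional
vertex = exceptional component), and let S be the set of contracted components, each an exceptional
vertex. The components of X are the vertices outside S; for a set W of them, the subcurve σ(W) of X
has deg ω_X equal to canDeg Ŵ and k equal to cut Ŵ, where Ŵ is W together with the vertices of S all
of whose edges end in W, and the exceptional components of X are the exceptional vertices outside S.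
So the hypotheses below say that d̃ vanishes on S and that d = d̃|_{V∖S} is properly balanced on X
(Basic Inequality 2·|K·d_W − D·canDeg Ŵ| ≤ cut Ŵ·K for every W disjoint from S, D the total degree,
and value 1 on exceptional vertices outside S); the conclusion is the Basic Inequality for d̃ on Z,
for every set of vertices. -/
theorem result {V E : Type u} [Fintype V] [Fintype E]
    [DecidableEq V] [DecidableEq E] (ends : E → V × V) (w : V → ℕ) (hZ : IsQuasistableGraph ends w)
    (hg : 2 ≤ genus ends w) (S : Finset V) (hS : ∀ v ∈ S, IsExceptional ends w v)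
    (dt : V → ℤ) (hzero : ∀ v ∈ S, dt v = 0)
    (hBI : ∀ W : Finset V, Disjoint W S →
      2 * |canDeg ends w Finset.univ * (∑ v ∈ W, dt v) - (∑ v, dt v) * canDeg ends w (Finset.univ.filter (fun v : V => v ∈ W ∨ (v ∈ S ∧ ∀ e : E, ((ends e).1 = v → (ends e).2 ∈ W) ∧ ((ends e).2 = v → (ends e).1 ∈ W))))|
        ≤ (cut ends (Finset.univ.filter (fun v : V => v ∈ W ∨ (v ∈ S ∧ ∀ e : E, ((ends e).1 = v → (ends e).2 ∈ W) ∧ ((ends e).2 = v → (ends e).1 ∈ W)))) : ℤ) * canDeg ends w Finset.univ)
    (hone : ∀ v : V, v ∉ S → IsExceptional ends w v → dt v = 1) :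
    SatisfiesBI ends w dt := by
  classical
  have hK : 0 ≤ canDeg ends w Finset.univ := by rw [BasicIneqLib.canDeg_univ]; omega
  rw [BasicIneqLib.satisfiesBI_iff]
  intro Y
  let W := Y \ S
  set What := Finset.univ.filter (fun v : V => v ∈ W ∨ (v ∈ S ∧ ∀ e : E, ((ends e).1 = v → (ends e).2 ∈ W) ∧ ((ends e).2 = v → (ends e).1 ∈ W))) with hWh
  have hW : ∀ v, v ∉ S → (v ∈ What ↔ v ∈ Y) := fun v hv => by simp [What, W, hv]
  have hb : 2 * |BasicIneqLib.defect ends w dt What| ≤ (cut ends What : ℤ) * canDeg ends w Finset.univ := by
    have h := hBI W Finset.sdiff_disjoint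
    rw [BasicIneqLib.defect, show ∑ v ∈ What, dt v = ∑ v ∈ W, dt v from
      (Finset.sum_subset (fun v hv => Finset.mem_filter.2 ⟨Finset.mem_univ v, Or.inl hv⟩)
        fun v hv hvW => hzero v ((Finset.mem_filter.1 hv).2.resolve_left hvW).1).symm]
    exact h
  have hdef : BasicIneqLib.defect ends w dt Y = BasicIneqLib.defect ends w dt What := by
    rw [BasicIneqLib.defect_eq_sum, BasicIneqLib.defect_eq_sum, ← Finset.sum_filter_add_sum_filter_not Y (· ∈ S),
      ← Finset.sum_filter_add_sum_filter_not What (· ∈ S)]
    congr 1
    · rw [Finset.sum_eq_zero, Finset.sum_eq_zero] <;>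
        (intro v hv; rw [Finset.mem_filter] at hv
         rw [hzero v hv.2, BasicIneqLib.canDeg_exceptional ends w (hS v hv.2)]; ring)
    · refine Finset.sum_congr (Finset.ext fun v => ?_) fun _ _ => rfl
      simp only [Finset.mem_filter]
      exact ⟨fun h => ⟨(hW v h.2).2 h.1, h.2⟩, fun h => ⟨(hW v h.2).1 h.1, h.2⟩⟩
  have hcut : ∀ A ⊆ S, cut ends ((Y \ A) ∪ (What ∩ A)) ≤ cut ends Y := by
    intro A hA
    induction A using Finset.induction_on with
    | empty => simp
    | @insert v A hvA ih =>
      have hvS : v ∈ S := hA (Finset.mem_insert_self v A)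
      refine le_trans ?_ (ih ((Finset.subset_insert v A).trans hA))
      set P := (Y \ A) ∪ (What ∩ A) with hP
      have hnb : ∀ a, a ∉ S → (a ∈ P ↔ a ∈ W) := fun a ha => by
        have haA : a ∉ A := fun h => ha (hA (Finset.mem_insert_of_mem h))
        simp [P, W, ha, haA]
      have hnbS : ∀ e : E, ((ends e).1 = v → (ends e).2 ∉ S) ∧ ((ends e).2 = v → (ends e).1 ∉ S) := fun e => by
        constructor <;> intro h hh
        · have hne : (ends e).1 ≠ (ends e).2 := fun h' => (hS v hvS).2.1 e (Prod.ext h (h' ▸ h))
          exact hZ.2 e hne ⟨h ▸ hS v hvS, hS _ hh⟩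
        · have hne : (ends e).1 ≠ (ends e).2 := fun h' => (hS v hvS).2.1 e (Prod.ext (h'.trans h) h)
          exact hZ.2 e hne ⟨hS _ hh, h ▸ hS v hvS⟩
      have hvP : v ∈ P ↔ v ∈ Y := by simp [P, hvA]
      have hstep : (Y \ insert v A) ∪ (What ∩ insert v A) = if v ∈ What then insert v P else P.erase v := by
        split_ifs with h <;> ext x <;> by_cases hx : x = v <;> simp [P, hx, h, hvA]
      rw [hstep]
      have htw : twist ends (fun u => if u ∈ P.erase v then 1 else 0) v =
          ∑ e : E, ((if (ends e).1 = v ∧ (ends e).2 ∈ W then (1 : ℤ) else 0) +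
            if (ends e).2 = v ∧ (ends e).1 ∈ W then 1 else 0) := by
        refine Finset.sum_congr rfl fun e _ => ?_
        have h1 := hnbS e
        have hloop := (hS v hvS).2.1 e
        rw [ne_eq, Prod.ext_iff, not_and] at hloop
        by_cases a : (ends e).1 = v <;> by_cases b : (ends e).2 = v <;>
          simp_all [Finset.mem_erase]
      have h2 : (cut ends ({v} : Finset V) : ℤ) = 2 := by rw [(hS v hvS).2.2]; rfl
      have hsum2 : (cut ends ({v} : Finset V) : ℤ) = ∑ e : E, ((if (ends e).1 = v then (1 : ℤ) else 0) +
          if (ends e).2 = v then 1 else 0) := by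
        rw [BasicIneqLib.cut_eq]
        refine Finset.sum_congr rfl fun e _ => ?_
        have hloop := (hS v hvS).2.1 e
        rw [ne_eq, Prod.ext_iff, not_and] at hloop
        by_cases a : (ends e).1 = v <;> by_cases b : (ends e).2 = v <;> simp_all
      have hci := BasicIneqLib.cut_insert ends (P.erase v) (Finset.notMem_erase v P) (hS v hvS).2.1
      rw [h2] at hci
      by_cases hin : v ∈ What
      · rw [if_pos hin]
        by_cases hPv : v ∈ P
        · rw [Finset.insert_eq_of_mem hPv]
        have hall := ((Finset.mem_filter.1 hin).2.resolve_left fun h => (Finset.mem_sdiff.1 h).2 hvS).2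
        have ht : twist ends (fun u => if u ∈ P.erase v then 1 else 0) v = 2 := by
          rw [htw, ← h2, hsum2]
          refine Finset.sum_congr rfl fun e _ => ?_
          congr 1
          · exact if_congr ⟨And.left, fun a => ⟨a, (hall e).1 a⟩⟩ rfl rfl
          · exact if_congr ⟨And.left, fun a => ⟨a, (hall e).2 a⟩⟩ rfl rfl
        rw [ht] at hci
        rw [Finset.erase_eq_of_notMem hPv] at hci
        omega
      · rw [if_neg hin]
        by_cases hPv : v ∈ P
        swap
        · rw [Finset.erase_eq_of_notMem hPv]
        rw [Finset.insert_erase hPv] at hci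
        have hlt : twist ends (fun u => if u ∈ P.erase v then 1 else 0) v < 2 := by
          rw [htw, ← h2, hsum2]
          have hex : ∃ e : E, ¬ (((ends e).1 = v → (ends e).2 ∈ W) ∧ ((ends e).2 = v → (ends e).1 ∈ W)) := by
            by_contra hc
            push Not at hc
            exact hin (Finset.mem_filter.2 ⟨Finset.mem_univ v, Or.inr ⟨hvS, hc⟩⟩)
          obtain ⟨e, he⟩ := hex
          refine Finset.sum_lt_sum (fun x _ => ?_) ⟨e, Finset.mem_univ e, ?_⟩
          · by_cases a : (ends x).1 = v <;> by_cases b : (ends x).2 = v <;> simp [a, b] <;> split_ifs <;> omega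
          · by_cases a : (ends e).1 = v <;> by_cases b : (ends e).2 = v <;> simp_all
        omega
  have h := hcut S subset_rfl
  have hWS : (Y \ S) ∪ (What ∩ S) = What := by
    ext x; by_cases hx : x ∈ S <;> simp [hx, hW]
  rw [hWS] at h
  have h' : (cut ends What : ℤ) * canDeg ends w Finset.univ ≤ (cut ends Y : ℤ) * canDeg ends w Finset.univ :=
    mul_le_mul_of_nonneg_right (by exact_mod_cast h) hK
  rw [hdef]
  have := le_abs_self (BasicIneqLib.defect ends w dt What)
  have := neg_le_abs (BasicIneqLib.defect ends w dt What)
  constructor <;> linarith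

end Groth.Agent.S19034
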