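import Groth.Statements.S19037
import Mathlib

set_option autoImplicit false
universe u v
open scoped Polynomial LaurentPolynomial
open Instab

namespace Groth.Agent.S19037

/-- Affine form over a ring R. Let A be a commutative ℤ-graded R-algebra and t an element of degree −1
(so A is a graded algebra over R[t] with t in degree −1), and let ψ : A[1/t] → R[T, T⁻¹] be an
R-algebra map sending t to T which is graded, in the sense that each homogeneous element of degree n
of A goes to an element of R times T^(−n). Then ψ is obtained by inverting t from an R-algebra map χ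
: A → R[T] (compared through the inclusion of R[T] in R[T, T⁻¹]) if and only if ψ kills t·a for
every homogeneous a of degree 1; such a χ is unique. (The source states this for quasi-coherent
graded algebras over an arbitrary base scheme; the statement is local on the base and is given here
over an affine base.) -/
theorem result
    {R : Type u} {A : Type v} [CommRing R] [CommRing A] [Algebra R A]
    (𝒜 : ℤ → Submodule R A) [GradedAlgebra 𝒜] (t : A) (ht : t ∈ 𝒜 (-1))
    (ψ : Localization.Away t →ₐ[R] R[T;T⁻¹])
    (hψt : ψ (algebraMap A (Localization.Away t) t) = LaurentPolynomial.T 1)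
    (hψ : ∀ (n : ℤ) (a : A), a ∈ 𝒜 n →
      ∃ r : R, ψ (algebraMap A (Localization.Away t) a) = LaurentPolynomial.C r * LaurentPolynomial.T (-n)) :
    (∃! χ : A →ₐ[R] R[X], ∀ a : A,
        ψ (algebraMap A (Localization.Away t) a) = Polynomial.toLaurentAlg (χ a)) ↔
      ∀ a ∈ 𝒜 1, ψ (algebraMap A (Localization.Away t) (t * a)) = 0 := by
  classical
  let ι : A →ₐ[R] Localization.Away t := IsScalarTower.toAlgHom R A (Localization.Away t)
  have hι : ∀ a, ι a = algebraMap A (Localization.Away t) a := fun a => rfl
  constructor
  · rintro ⟨χ, hχ, -⟩ a ha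
    obtain ⟨r, hr⟩ := hψ 1 a ha
    have h0 : (Polynomial.toLaurentAlg (χ a)).coeff (-1) = 0 := by
      generalize χ a = f
      induction f using Polynomial.induction_on' with
      | add f g hf hg => rw [map_add, AddMonoidAlgebra.coeff_add, Finsupp.add_apply, hf, hg, add_zero]
      | monomial k c =>
        rw [Polynomial.toLaurentAlg_apply, ← Polynomial.C_mul_X_pow_eq_monomial, Polynomial.toLaurent_C_mul_X_pow,
          ← LaurentPolynomial.single_eq_C_mul_T, AddMonoidAlgebra.coeff_single, Finsupp.single_apply, if_neg (by omega)]
    rw [← hχ, hr, ← LaurentPolynomial.single_eq_C_mul_T, AddMonoidAlgebra.coeff_single, Finsupp.single_eq_same] at h0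
    rw [map_mul, map_mul, hr, h0, map_zero, zero_mul, mul_zero]
  · intro h
    have hmem : ∀ a, ψ (ι a) ∈ (Polynomial.toLaurentAlg (R := R)).range := fun a => by
      induction a using DirectSum.Decomposition.inductionOn 𝒜 with
      | zero => rw [map_zero, map_zero]; exact zero_mem _
      | add a b ha hb => rw [map_add, map_add]; exact add_mem ha hb
      | @homogeneous i a =>
        obtain ⟨r, hr⟩ := hψ i a a.2
        rw [hι, hr]
        obtain ⟨k, hk⟩ : ∃ k : ℕ, (i = -(k : ℤ)) ∨ i = (k : ℤ) + 1 := by
          by_cases hi : i ≤ 0
          · exact ⟨i.natAbs, Or.inl (by omega)⟩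
          · exact ⟨(i - 1).natAbs, Or.inr (by omega)⟩
        rcases hk with rfl | rfl
        · refine ⟨Polynomial.C r * Polynomial.X ^ k, ?_⟩
          show Polynomial.toLaurentAlg (Polynomial.C r * Polynomial.X ^ k) = _
          rw [Polynomial.toLaurentAlg_apply, Polynomial.toLaurent_C_mul_X_pow, neg_neg]
        · have htk : t ^ k * (a : A) ∈ 𝒜 1 := by
            have h1 := SetLike.mul_mem_graded (SetLike.pow_mem_graded k ht) a.2
            convert h1 using 2
            simp
          have h0 := h _ htk
          rw [← mul_assoc, ← pow_succ', map_mul, map_mul, map_pow, map_pow, hψt, hr] at h0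
          have hr0 : LaurentPolynomial.C r * LaurentPolynomial.T (-((k : ℤ) + 1)) = (0 : R[T;T⁻¹]) :=
            ((LaurentPolynomial.isUnit_T 1).pow (k + 1)).mul_right_eq_zero.1 h0
          rw [hr0]
          exact zero_mem _
    let e := AlgEquiv.ofInjective (Polynomial.toLaurentAlg (R := R)) Polynomial.toLaurent_injective
    let χ : A →ₐ[R] R[X] := e.symm.toAlgHom.comp ((ψ.comp ι).codRestrict _ hmem)
    have hχ : ∀ a, ψ (algebraMap A (Localization.Away t) a) = Polynomial.toLaurentAlg (χ a) := fun a =>
      (congrArg Subtype.val (e.apply_symm_apply ((ψ.comp ι).codRestrict _ hmem a))).symm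
    exact ⟨χ, hχ, fun χ' hχ' => AlgHom.ext fun a =>
      Polynomial.toLaurent_injective ((hχ' a).symm.trans (hχ a))⟩

end Groth.Agent.S19037
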