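import Groth.Statements.S19039
import Groth.Agent.ThetaBGLib.LinePts
import Groth.Agent.ModPairLib.Basic
import Mathlib.Algebra.MonoidAlgebra.Module
-- import your own Groth.Agent.* helpers here

set_option autoImplicit false
set_option maxHeartbeats 2000000
set_option backward.isDefEq.respectTransparency false
universe u
open Instab

namespace Groth.Agent.S19039

open CategoryTheory CategoryTheory.Limits MonoidalCategory CartesianMonoidalCategory MonObj AlgebraicGeometry
open scoped TensorProduct Polynomial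

attribute [-instance] CategoryTheory.Hom.commGroup

variable {R : Type u} [CommRing R]

theorem ext_of_injective {X : Over (Spec (CommRingCat.of R))} [IsSeparated X.hom] {A A' : Type u} [CommRing A]
    [CommRing A'] [Algebra R A] [Algebra R A'] (φ : A →ₐ[R] A') (hφ : Function.Injective φ)
    {h h' : CoactBr.sp R A ⟶ X} (e : CoactBr.pt φ ≫ h = CoactBr.pt φ ≫ h') : h = h' := by
  let m := Spec.map (CommRingCat.ofHom φ.toRingHom)
  haveI : IsSchemeTheoreticallyDominant m := ⟨by
    refine Scheme.IdealSheafData.ext_of_isAffine ?_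
    rw [Scheme.Hom.ker_apply, Scheme.IdealSheafData.ideal_bot, Pi.bot_apply, ← RingHom.injective_iff_ker_eq_bot]
    intro a b hab
    apply (Scheme.ΓSpecIso (CommRingCat.of A)).commRingCatIsoToRingEquiv.injective
    apply hφ
    have h1 := congr($(Scheme.ΓSpecIso_naturality (CommRingCat.ofHom φ.toRingHom)).hom a)
    have h2 := congr($(Scheme.ΓSpecIso_naturality (CommRingCat.ofHom φ.toRingHom)).hom b)
    exact h1.symm.trans ((congrArg _ hab).trans h2)⟩
  apply Over.OverMorphism.ext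
  refine ModPairLib.ext_of_dominant X.hom m ?_ ?_
  · rw [Over.w, Over.w]
  · exact congrArg CommaMorphism.left e

theorem affine_case {X : Over (Spec (CommRingCat.of R))} [IsSeparated X.hom] {B K C : Type u} [CommRing B]
    [CommRing K] [CommRing C] [Algebra R B] [Algebra R K] [Algebra R C] (φ : B →ₐ[R] K) (ρ : K →ₗ[R] B)
    (hρ : ∀ b, ρ (φ b) = b) {h h' : CoactBr.sp R B ⊗ CoactBr.sp R C ⟶ X}
    (e : (CoactBr.pt φ ▷ CoactBr.sp R C) ≫ h = (CoactBr.pt φ ▷ CoactBr.sp R C) ≫ h') : h = h' := by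
  let pB : CoactBr.sp R (B ⊗[R] C) ⟶ CoactBr.sp R B ⊗ CoactBr.sp R C :=
    lift (CoactBr.pt Algebra.TensorProduct.includeLeft) (CoactBr.pt Algebra.TensorProduct.includeRight)
  let pK : CoactBr.sp R (K ⊗[R] C) ⟶ CoactBr.sp R K ⊗ CoactBr.sp R C :=
    lift (CoactBr.pt Algebra.TensorProduct.includeLeft) (CoactBr.pt Algebra.TensorProduct.includeRight)
  let φC : B ⊗[R] C →ₐ[R] K ⊗[R] C := Algebra.TensorProduct.map φ (AlgHom.id R C)
  have hinj : Function.Injective φC := by
    refine Function.LeftInverse.injective (g := TensorProduct.map ρ (LinearMap.id (R := R) (M := C))) fun z => ?_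
    induction z with
    | zero => simp
    | add x y hx hy => simp only [map_add, hx, hy]
    | tmul b c => simp [φC, hρ]
  have hsq : CoactBr.pt φC ≫ pB = pK ≫ (CoactBr.pt φ ▷ CoactBr.sp R C) := by
    apply CartesianMonoidalCategory.hom_ext
    · simp only [pB, pK, Category.assoc, lift_fst, whiskerRight_fst, lift_fst_assoc, ← CoactBr.pt_comp]
      congr 1
    · simp only [pB, pK, Category.assoc, lift_snd, whiskerRight_snd, ← CoactBr.pt_comp]
      congr 1
      ext c
      simp [φC]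
  haveI : IsIso pB.left := by
    have : pB.left = (pullbackSpecIso R B C).inv := by
      apply pullback.hom_ext
      · exact (congrArg CommaMorphism.left (lift_fst _ _ : pB ≫ fst _ _ = _)).trans
          (pullbackSpecIso_inv_fst R B C).symm
      · exact (congrArg CommaMorphism.left (lift_snd _ _ : pB ≫ snd _ _ = _)).trans
          (pullbackSpecIso_inv_snd R B C).symm
    rw [this]
    exact Iso.isIso_inv _
  have key : pB ≫ h = pB ≫ h' := ext_of_injective φC hinj (by rw [reassoc_of% hsq, reassoc_of% hsq, e])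
  apply Over.OverMorphism.ext
  rw [← cancel_epi pB.left]
  exact congrArg CommaMorphism.left key

theorem ext_whisker {X : Over (Spec (CommRingCat.of R))} [IsSeparated X.hom] {B K : Type u} [CommRing B]
    [CommRing K] [Algebra R B] [Algebra R K] (φ : B →ₐ[R] K) (ρ : K →ₗ[R] B) (hρ : ∀ b, ρ (φ b) = b)
    {W : Over (Spec (CommRingCat.of R))} {h h' : CoactBr.sp R B ⊗ W ⟶ X}
    (e : (CoactBr.pt φ ▷ W) ≫ h = (CoactBr.pt φ ▷ W) ≫ h') : h = h' := by
  apply Over.OverMorphism.ext
  refine (Scheme.Pullback.openCoverOfRight W.left.affineCover (CoactBr.sp R B).hom W.hom).hom_ext _ _ fun i => ?_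
  have main : ∀ (C : CommRingCat.{u}) (jj : Spec C ⟶ W.left),
      pullback.map (CoactBr.sp R B).hom (jj ≫ W.hom) (CoactBr.sp R B).hom W.hom (𝟙 _) jj (𝟙 _) (by simp) (by simp) ≫
          h.left =
        pullback.map (CoactBr.sp R B).hom (jj ≫ W.hom) (CoactBr.sp R B).hom W.hom (𝟙 _) jj (𝟙 _) (by simp) (by simp) ≫
          h'.left := by
    intro C jj
    obtain ⟨ψ, hψ⟩ : ∃ ψ : CommRingCat.of R ⟶ C, Spec.map ψ = jj ≫ W.hom :=
      ⟨Spec.preimage _, Spec.map_preimage _⟩
    algebraize [ψ.hom]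
    have hC : (CoactBr.sp R C).hom = jj ≫ W.hom := hψ
    let g : CoactBr.sp R C ⟶ W := Over.homMk jj hC.symm
    have h1 : (CoactBr.sp R B ◁ g) ≫ h = (CoactBr.sp R B ◁ g) ≫ h' :=
      affine_case φ ρ hρ (by rw [← whisker_exchange_assoc, ← whisker_exchange_assoc, e])
    have h2 : pullback.map (CoactBr.sp R B).hom (jj ≫ W.hom) (CoactBr.sp R B).hom W.hom (𝟙 _) jj (𝟙 _) (by simp)
        (by simp) = (pullback.congrHom rfl hC).inv ≫ (CoactBr.sp R B ◁ g).left := by
      apply pullback.hom_ext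
      · rw [pullback.lift_fst, Category.assoc, Over.whiskerLeft_left_fst]
        simp [pullback.congrHom]
      · rw [pullback.lift_snd, Category.assoc, Over.whiskerLeft_left_snd]
        simp [pullback.congrHom, g]
    rw [h2, Category.assoc, Category.assoc]
    exact congrArg ((pullback.congrHom rfl hC).inv ≫ ·) (congrArg CommaMorphism.left h1)
  exact main _ (W.left.affineCover.f i)

open Polynomial in
theorem exists_retraction : ∃ ρ : ThetaS.Lau R →ₗ[R] R[X],
    ∀ b, ρ ((ThetaS.linePt (ThetaS.zPow R 1) : R[X] →ₐ[R] ThetaS.Lau R) b) = b := by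
  refine ⟨(MonoidAlgebra.basis (Multiplicative ℤ) R).constr R (fun m => (X : R[X]) ^ (Multiplicative.toAdd m).toNat),
    fun b => ?_⟩
  induction b using Polynomial.induction_on' with
  | add p q hp hq => simp only [map_add, hp, hq]
  | monomial n a =>
    have h1 : (ThetaS.zPow R 1) ^ n = MonoidAlgebra.basis (Multiplicative ℤ) R (Multiplicative.ofAdd (n : ℤ)) := by
      rw [MonoidAlgebra.single_pow, one_pow, MonoidAlgebra.basis_apply, ← ofAdd_nsmul, nsmul_one]
    rw [Polynomial.aeval_monomial, ← Algebra.smul_def, map_smul, h1, Module.Basis.constr_basis]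
    simp [Polynomial.smul_eq_C_mul, Polynomial.C_mul_X_pow_eq_monomial]

theorem lift_one_act {T : Over (Spec (CommRingCat.of R))} (g : T ⟶ ThetaS.Gm R) :
    lift g ((1 : T ⟶ ThetaS.Gm R) ≫ (CoactBr.pt (ThetaS.linePt (ThetaS.zPow R 1)) : ThetaS.Gm R ⟶ ThetaS.Line R)) ≫
        (ThetaS.lineAction R).act =
      g ≫ (CoactBr.pt (ThetaS.linePt (ThetaS.zPow R 1)) : ThetaS.Gm R ⟶ ThetaS.Line R) := by
  rw [ThetaBG.line_act_eq_iff, ThetaBG.crd_comp_pt, ThetaBG.crd_comp_pt, Polynomial.aeval_X]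
  exact (congrArg (ThetaBG.zu g 1 * ·) (ThetaBG.zu_one (T := T) 1)).trans (mul_one _)

theorem lift_act {T : Over (Spec (CommRingCat.of R))} (g k : T ⟶ ThetaS.Gm R) :
    lift g (k ≫ (CoactBr.pt (ThetaS.linePt (ThetaS.zPow R 1)) : ThetaS.Gm R ⟶ ThetaS.Line R)) ≫
        (ThetaS.lineAction R).act =
      (g * k) ≫ (CoactBr.pt (ThetaS.linePt (ThetaS.zPow R 1)) : ThetaS.Gm R ⟶ ThetaS.Line R) := by
  rw [ThetaBG.line_act_eq_iff, ThetaBG.crd_comp_pt, ThetaBG.crd_comp_pt, Polynomial.aeval_X]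
  exact (ThetaBG.zu_mul g k 1).symm

/-- associativity of an action on points -/
theorem lift_lift_act {S : Scheme.{u}} {G X T : Over S} [GrpObj G] (a : AlgGrp.Action G X) (g k : T ⟶ G)
    (x : T ⟶ X) : lift g (lift k x ≫ a.act) ≫ a.act = lift (g * k) x ≫ a.act := by
  rw [Hom.mul_def, ← lift_whiskerRight_assoc (lift g k) x μ[G] a.act, a.mul_act, lift_lift_associator_hom_assoc,
    lift_whiskerLeft_assoc]


open CategoryTheory MonoidalCategory CartesianMonoidalCategory MonObj GrpObj AlgebraicGeometry in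
/-- The case n = 1 for a scheme X separated over an affine base Spec R, stated as the two facts that
identify equivariant families with maps whose orbit map extends. Let G_m act on X (a left action a :
G_m × X → X over Spec R) and on A¹ × T through the scaling action on A¹, for an R-scheme T; write j
: G_m → A¹ for the inclusion t ↦ t. (a) If u, v : A¹ × T → X are G_m-equivariant R-morphisms with
the same restriction to the section {1} × T, then u = v. (b) If x : T → X is an R-morphism and u :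
A¹ × T → X is an R-morphism whose restriction along j × T is the orbit family (g, t) ↦ g · x(t),
then u is G_m-equivariant. (The source works with an algebraic space X quasi-separated and locally
of finite presentation over a base B with an action of G_mⁿ and deduces that X⁺ → X is a locally
finitely presented unramified monomorphism; only the elementary identification for n = 1 is stated
here, which uses separatedness alone.) -/
theorem result
    (R : Type u) [CommRing R] (X : Over (Spec (CommRingCat.of R))) [IsSeparated X.hom]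
    (a : AlgGrp.Action (ThetaS.Gm R) X) (T : Over (Spec (CommRingCat.of R))) :
    (∀ u v : ThetaS.Line R ⊗ T ⟶ X,
        (α_ (ThetaS.Gm R) (ThetaS.Line R) T).inv ≫ ((ThetaS.lineAction R).act ▷ T) ≫ u = (ThetaS.Gm R ◁ u) ≫ a.act →
        (α_ (ThetaS.Gm R) (ThetaS.Line R) T).inv ≫ ((ThetaS.lineAction R).act ▷ T) ≫ v = (ThetaS.Gm R ◁ v) ≫ a.act →
        lift ((1 : T ⟶ ThetaS.Gm R) ≫ (CoactBr.pt (ThetaS.linePt (ThetaS.zPow R 1)) : ThetaS.Gm R ⟶ ThetaS.Line R)) (𝟙 T) ≫ u =
          lift ((1 : T ⟶ ThetaS.Gm R) ≫ (CoactBr.pt (ThetaS.linePt (ThetaS.zPow R 1)) : ThetaS.Gm R ⟶ ThetaS.Line R)) (𝟙 T) ≫ v →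
        u = v) ∧
    (∀ (x : T ⟶ X) (u : ThetaS.Line R ⊗ T ⟶ X),
        ((CoactBr.pt (ThetaS.linePt (ThetaS.zPow R 1)) : ThetaS.Gm R ⟶ ThetaS.Line R) ▷ T) ≫ u = (ThetaS.Gm R ◁ x) ≫ a.act →
        (α_ (ThetaS.Gm R) (ThetaS.Line R) T).inv ≫ ((ThetaS.lineAction R).act ▷ T) ≫ u =
          (ThetaS.Gm R ◁ u) ≫ a.act) := by
  let j : ThetaS.Gm R ⟶ ThetaS.Line R := CoactBr.pt (ThetaS.linePt (ThetaS.zPow R 1))
  obtain ⟨ρ, hρ⟩ := exists_retraction (R := R)
  constructor
  · intro u v hu hv huv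
    have key : ∀ u : ThetaS.Line R ⊗ T ⟶ X,
        (α_ (ThetaS.Gm R) (ThetaS.Line R) T).inv ≫ ((ThetaS.lineAction R).act ▷ T) ≫ u = (ThetaS.Gm R ◁ u) ≫ a.act →
        (j ▷ T) ≫ u = lift (fst _ _) (snd (ThetaS.Gm R) T ≫ lift ((1 : T ⟶ ThetaS.Gm R) ≫ j) (𝟙 T) ≫ u) ≫ a.act := by
      intro u hu
      have h1 := congrArg (fun q => lift (fst (ThetaS.Gm R) T)
        (lift ((1 : ThetaS.Gm R ⊗ T ⟶ ThetaS.Gm R) ≫ j) (snd (ThetaS.Gm R) T)) ≫ q) hu
      simp only [lift_lift_associator_inv_assoc, lift_whiskerRight_assoc, lift_whiskerLeft_assoc] at h1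
      rw [lift_one_act] at h1
      have h2 : lift (fst (ThetaS.Gm R) T ≫ j) (snd _ _) = j ▷ T := by
        apply CartesianMonoidalCategory.hom_ext <;> simp
      rw [h2] at h1
      rw [h1, comp_lift_assoc, Category.comp_id, ← Category.assoc, comp_one]
    refine ext_whisker (ThetaS.linePt (ThetaS.zPow R 1)) ρ hρ ?_
    exact (key u hu).trans ((congrArg (fun q => lift (fst _ _) (snd (ThetaS.Gm R) T ≫ q) ≫ a.act) huv).trans
      (key v hv).symm)
  · intro x u hxu
    let L := ThetaS.Line R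
    let G := ThetaS.Gm R
    let σ : L ⊗ (G ⊗ T) ⟶ G ⊗ (L ⊗ T) := lift (snd _ _ ≫ fst _ _) (lift (fst _ _) (snd _ _ ≫ snd _ _))
    haveI : IsIso σ := ⟨lift (snd _ _ ≫ fst _ _) (lift (fst _ _) (snd _ _ ≫ snd _ _)), by
      constructor <;> apply CartesianMonoidalCategory.hom_ext <;>
        first | simp [σ] | (apply CartesianMonoidalCategory.hom_ext <;> simp [σ])⟩
    rw [← cancel_epi σ]
    refine ext_whisker (ThetaS.linePt (ThetaS.zPow R 1)) ρ hρ ?_
    let g : G ⊗ (G ⊗ T) ⟶ G := snd _ _ ≫ fst _ _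
    let k : G ⊗ (G ⊗ T) ⟶ G := fst _ _
    let t : G ⊗ (G ⊗ T) ⟶ T := snd _ _ ≫ snd _ _
    have hs : (j ▷ (G ⊗ T)) ≫ σ = lift g (lift (k ≫ j) t) := by
      have e1 : (j ▷ (G ⊗ T)) ≫ fst L (G ⊗ T) = fst G (G ⊗ T) ≫ j := whiskerRight_fst j _
      have e2 : (j ▷ (G ⊗ T)) ≫ snd L (G ⊗ T) = snd G (G ⊗ T) := whiskerRight_snd j _
      simp only [σ, g, k, t, comp_lift, e1, reassoc_of% e2]
    have hp : ∀ p : G ⊗ (G ⊗ T) ⟶ G, lift (p ≫ j) t ≫ u = lift p (t ≫ x) ≫ a.act := fun p => by
      rw [← lift_whiskerRight_assoc p t j u, hxu, lift_whiskerLeft_assoc]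
    change (j ▷ _) ≫ σ ≫ _ = (j ▷ _) ≫ σ ≫ _
    rw [reassoc_of% hs, reassoc_of% hs, lift_lift_associator_inv_assoc, lift_whiskerRight_assoc,
      lift_whiskerLeft_assoc, lift_act, hp, hp, lift_lift_act]

end Groth.Agent.S19039
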