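import Groth.Statements.S1904
import Mathlib
import Groth.Agent.CycP1Lib.Point
-- import your own Groth.Agent.* helpers here

set_option autoImplicit false
universe u
open CategoryTheory AlgebraicGeometry
open CategoryTheory.Limits
open Cyc

namespace Groth.Agent.S1904

/-- Let X be integral with δ(η) = n, U ⊆ X a nonempty open and f an invertible function on U, viewed as
a rational function on X. Let Y ⊆ P^1_X be the scheme-theoretic closure of the graph of f and Y_0,
Y_∞ → X its pullbacks along the sections at 0 and ∞. Then div_X(f) = [Y_0]_{n−1} − [Y_∞]_{n−1}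
coefficientwise. A pair (X, δ) with Cyc.IsSetup plays the role of a scheme locally of finite type
over a fixed base with a dimension function (X locally Noetherian with universally catenary local
rings, δ a dimension function), and Cyc.DeltaCompat records that the dimension function upstairs is
the induced one. The published statement has further parts, which are not stated here. -/
theorem result (X : Scheme.{u}) [IsIntegral X] (δ : X → ℤ) (hX : Cyc.IsSetup X δ) (n : ℤ) (hn : δ (genericPoint X) = n) (U : X.Opens) (hη : genericPoint X ∈ U) (f : Γ(X, U)) (hf : IsUnit f) : Cyc.divFun δ (genericPoint X) (X.evaluation U (genericPoint X) hη f) = fun x => Cyc.subschemeFun δ (n - 1) (pullback.snd (P1.graphClosureι X U f) (P1.sect X 0)) x - Cyc.subschemeFun δ (n - 1) (pullback.snd (P1.graphClosureι X U f) (P1.sect X 1)) x := by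
  obtain ⟨δP, hP⟩ := CycP1Lib.exists_deltaCompat δ
  haveI := hX.1
  haveI : Nonempty (U : Scheme.{u}) := ⟨⟨_, hη⟩⟩
  haveI : IsIntegral (U : Scheme.{u}) := isIntegral_of_isOpenImmersion U.ι
  have hgb : P1.graph X U f ≫ CohB1.ProjSpaceOver.toBase 1 X = U.ι := pullback.lift_snd _ _ _
  haveI : QuasiCompact (P1.graph X U f) := by
    haveI : QuasiCompact (P1.graph X U f ≫ CohB1.ProjSpaceOver.toBase 1 X) := by rw [hgb]; infer_instance
    exact QuasiCompact.of_comp (P1.graph X U f) (CohB1.ProjSpaceOver.toBase 1 X)
  haveI : IsClosedImmersion (P1.graphClosureι X U f) := inferInstanceAs (IsClosedImmersion (P1.graph X U f).ker.subschemeι)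
  haveI : IsIntegral (P1.graph X U f).ker.subscheme := CycP1Lib.isIntegral_image (P1.graph X U f)
  have hgen : U.ι (genericPoint (U : Scheme.{u})) = genericPoint X := genericPoint_eq_of_isOpenImmersion U.ι
  let ψ := U.topIso.inv.hom.comp (P1.chartMap 0 Γ(X, U) f)
  have hg : P1.graph X U f ≫ ChowLib.toPZ 1 X = ChowLib.toSpecOf ψ ≫ ChowLib.chart 0 :=
    (pullback.lift_fst _ _ _).trans (by
      rw [ChowLib.toSpecOf, CommRingCat.ofHom_comp, CommRingCat.ofHom_hom, Spec.map_comp]
      simp only [Scheme.Opens.toSpecΓ, Category.assoc]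
      rfl)
  have he : X.evaluation U (genericPoint X) hη f ≠ 0 :=
    (((hf.map (X.presheaf.germ U _ hη).hom).map (X.residue _).hom)).ne_zero
  have hψ : (U : Scheme.{u}).evaluation ⊤ (genericPoint (U : Scheme.{u})) trivial
      (ψ (ChowLib.coordRing 0 1)) = CycDivLib.gpull U.ι hgen (X.evaluation U (genericPoint X) hη f) := by
    have e : U.ι.appLE U ⊤ (by simp) = U.topIso.inv := by
      simp [Scheme.Hom.appLE, Scheme.Opens.topIso_inv]
      erw [← Functor.map_comp]
      rfl
    have key : ∀ (y : X) (h : U.ι (genericPoint (U : Scheme.{u})) = y) (hy : y ∈ U),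
        CycDivLib.gpull U.ι h (X.evaluation U y hy f) =
          (U : Scheme.{u}).evaluation ⊤ (genericPoint (U : Scheme.{u})) trivial (U.ι.appLE U ⊤ (by simp) f) := by
      rintro y rfl hy
      rw [CycPushLib.gpull_rfl]
      exact CycP1Lib.residueFieldMap_evaluation U.ι U ⊤ (by simp) _ trivial f
    rw [key _ hgen hη, e, RingHom.comp_apply, CycP1Lib.chartMap_coordRing]
  obtain ⟨-, hdiff⟩ := CycP1Lib.fibre_sub_fibre_eq_divFun hX hP (P1.graph X U f) U.ι hgb ψ hg
    (genericPoint (U : Scheme.{u})) hgen (k := n - 1) (by rw [hn]; ring) _ he hψ (P1.graphClosureι X U f)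
    (CycP1Lib.imageι_genericPoint (P1.graph X U f))
  funext x
  exact (hdiff x).symm

end Groth.Agent.S1904
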