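import Groth.Statements.S19044
import Groth.Agent.S12587
-- import your own Groth.Agent.* helpers here

set_option autoImplicit false
universe u v w
open FunFld

namespace Groth.Agent.S19044

open Groth.Agent.FFLib WithZero

variable {k : Type*} [Field k]

lemma ord_prod {K : Type*} [Field K] [Algebra k K] (P : FunFld.Place k K) {ι : Type*} (S : Finset ι) (g : ι → K)
    (hg : ∀ i ∈ S, g i ≠ 0) : P.ord (∏ i ∈ S, g i) = ∑ i ∈ S, P.ord (g i) := by
  classical
  induction S using Finset.induction_on with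
  | empty => simp
  | insert a S ha ih =>
    rw [Finset.prod_insert ha, Finset.sum_insert ha, ord_mul P (hg a (Finset.mem_insert_self a S))
      (Finset.prod_ne_zero_iff.2 fun i hi => hg i (Finset.mem_insert_of_mem hi)),
      ih fun i hi => hg i (Finset.mem_insert_of_mem hi)]

lemma X_sub_C_eq (α : k) : (RatFunc.X : RatFunc k) - RatFunc.C α =
    algebraMap (Polynomial k) (RatFunc k) (Polynomial.X - Polynomial.C α) := by
  rw [map_sub, RatFunc.algebraMap_X, RatFunc.algebraMap_C]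

/-- Values of `X - β` at the place `X = α`. -/
lemma v_at {P : FunFld.Place k (RatFunc k)} {α : k} (hP : P.1 ((RatFunc.X : RatFunc k) - RatFunc.C α) < 1) (β : k) :
    (β = α → P.1 ((RatFunc.X : RatFunc k) - RatFunc.C β) = exp (-1 : ℤ)) ∧
    (β ≠ α → P.1 ((RatFunc.X : RatFunc k) - RatFunc.C β) = 1) := by
  constructor
  · rintro rfl
    rw [X_sub_C_eq] at hP ⊢
    rw [v_eq P (iota_ne (Polynomial.X_sub_C_ne_zero β)), ord_irreducible (Polynomial.irreducible_X_sub_C β) hP]
  · intro hne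
    rw [show (RatFunc.X : RatFunc k) - RatFunc.C β =
      algebraMap k (RatFunc k) (α - β) + ((RatFunc.X : RatFunc k) - RatFunc.C α) by
        rw [map_sub, RatFunc.algebraMap_eq_C]; ring,
      Valuation.map_add_eq_of_lt_left, v_const P (sub_ne_zero.2 (Ne.symm hne))]
    rw [v_const P (sub_ne_zero.2 (Ne.symm hne))]
    exact hP

lemma exists_place_at (α : k) : ∃ P : FunFld.Place k (RatFunc k), P.1 ((RatFunc.X : RatFunc k) - RatFunc.C α) < 1 := by
  obtain ⟨R, hR⟩ := exists_zero_of_tr fg1_ratFunc (x := (RatFunc.X : RatFunc k) - RatFunc.C α) (fun halg => by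
    obtain ⟨c, hc⟩ := (isFunctionField_ratFunc (k := k)).2 _ halg
    rw [X_sub_C_eq, IsScalarTower.algebraMap_apply k (Polynomial k) (RatFunc k)] at hc
    exact one_ne_zero ((Polynomial.natDegree_X_sub_C α).symm.trans
      ((RatFunc.algebraMap_injective k hc) ▸ Polynomial.natDegree_C c)))
  exact ⟨R, (v_lt_one_iff R (by rw [X_sub_C_eq]; exact iota_ne (Polynomial.X_sub_C_ne_zero α))).2 hR⟩

lemma v_inf {P : FunFld.Place k (RatFunc k)} (hP : P.ord (RatFunc.X : RatFunc k) < 0) (β : k) :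
    P.1 ((RatFunc.X : RatFunc k) - RatFunc.C β) = exp (1 : ℤ) := by
  rw [X_sub_C_eq, v_eq P (iota_ne (Polynomial.X_sub_C_ne_zero β)), ord_poly_inf' P hP (Polynomial.X_sub_C_ne_zero β),
    Polynomial.natDegree_X_sub_C]
  norm_num


/-- Let `k` be algebraically closed of characteristic `2` and `K = k(x, y)` with `y² + y = f(x)`, `K`
separable of degree `2` over `k(x)`; let `B ⊆ k` be a finite set containing `0` such that `f` has a
pole of odd order `d_α` at `x = α` for every `α ∈ B` and is integral at all other places of `k(x)`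
(so also at infinity), and put `c_α = (d_α - 1)/2`. Then the differentials `z dx` with `z = (x -
α)^{-(j+1)}` (`α ∈ B`, `1 ≤ j ≤ c_α`) and `z = α/(x(x-α))` (`α ∈ B`, `α ≠ 0`) are regular, this
family of `z` is linearly independent over `k`, and every `z` with `z dx` regular is a `k`-linear
combination of them; regularity is read through Laurent expansions over `k` at every place of `K`.
(Up to sign these are the forms `x_α^{j-1} dx_α` and `x_α^{-1} dx_α - x_0^{-1} dx_0` with `x_α = (x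
- α)^{-1}`.) -/
theorem result (k : Type u) (K : Type v)
    [Field k] [IsAlgClosed k] [CharP k 2] [Field K] [Algebra k K] [Algebra (RatFunc k) K] [IsScalarTower k (RatFunc k) K]
    (hK : FunFld.IsFunctionField k K) (hdeg : Module.finrank (RatFunc k) K = 2) [Algebra.IsSeparable (RatFunc k) K]
    (y : K) (hy : y ∉ Set.range (algebraMap (RatFunc k) K)) (f : RatFunc k)
    (heq : y ^ 2 + y = algebraMap (RatFunc k) K f)
    (B : Finset k) (h0 : (0 : k) ∈ B) (d : k → ℕ) (hd : ∀ α ∈ B, Odd (d α))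
    (hpole : ∀ (p : FunFld.Place k (RatFunc k)) (α : k), α ∈ B →
      p.1 ((RatFunc.X : RatFunc k) - RatFunc.C α) < 1 → p.ord f = -(d α : ℤ))
    (hint : ∀ p : FunFld.Place k (RatFunc k), (∀ α ∈ B, 1 ≤ p.1 ((RatFunc.X : RatFunc k) - RatFunc.C α)) → p.1 f ≤ 1)
    (F : FunFld.Place k K → Type w) [∀ P, Field (F P)] [∀ P, Algebra k (F P)] [∀ P, FiniteDimensional k (F P)]
    (φ : ∀ P, K →ₐ[k] LaurentSeries (F P)) (hφ : ∀ P, LocRes.IsExpansionAt P.1 (φ P)) :
    (∀ i P, LocRes.vDiff (φ P) ((Sum.elim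
        (fun a : {a : ↥B × ℕ // 1 ≤ a.2 ∧ 2 * a.2 + 1 ≤ d (a.1 : k)} => algebraMap (RatFunc k) K (((RatFunc.X : RatFunc k) - RatFunc.C (a.1.1 : k))⁻¹ ^ (a.1.2 + 1)))
        (fun b : {b : ↥B // (b : k) ≠ 0} => algebraMap (RatFunc k) K (RatFunc.C (b.1 : k) / ((RatFunc.X : RatFunc k) * ((RatFunc.X : RatFunc k) - RatFunc.C (b.1 : k)))))) i) (algebraMap (RatFunc k) K RatFunc.X) ≤ 1) ∧
    LinearIndependent k (Sum.elim
        (fun a : {a : ↥B × ℕ // 1 ≤ a.2 ∧ 2 * a.2 + 1 ≤ d (a.1 : k)} => algebraMap (RatFunc k) K (((RatFunc.X : RatFunc k) - RatFunc.C (a.1.1 : k))⁻¹ ^ (a.1.2 + 1)))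
        (fun b : {b : ↥B // (b : k) ≠ 0} => algebraMap (RatFunc k) K (RatFunc.C (b.1 : k) / ((RatFunc.X : RatFunc k) * ((RatFunc.X : RatFunc k) - RatFunc.C (b.1 : k)))))) ∧
    ∀ z : K, (∀ P, LocRes.vDiff (φ P) z (algebraMap (RatFunc k) K RatFunc.X) ≤ 1) →
      z ∈ Submodule.span k (Set.range (Sum.elim
        (fun a : {a : ↥B × ℕ // 1 ≤ a.2 ∧ 2 * a.2 + 1 ≤ d (a.1 : k)} => algebraMap (RatFunc k) K (((RatFunc.X : RatFunc k) - RatFunc.C (a.1.1 : k))⁻¹ ^ (a.1.2 + 1)))
        (fun b : {b : ↥B // (b : k) ≠ 0} => algebraMap (RatFunc k) K (RatFunc.C (b.1 : k) / ((RatFunc.X : RatFunc k) * ((RatFunc.X : RatFunc k) - RatFunc.C (b.1 : k))))))) := by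
  classical
  have h2 : ringChar k = 2 := ringChar.eq k 2
  obtain ⟨Pi, hPi⟩ := exists_infPlace (k := k)
  have hR := fg1_ratFunc (k := k)
  choose Pt hPt using exists_place_at (k := k)
  set c : k → ℕ := fun α => (d α - 1) / 2 with hc
  have hneg : ∀ P : FunFld.Place k (RatFunc k), P.ord f < 0 → ∃ α ∈ B, P.1 ((RatFunc.X : RatFunc k) - RatFunc.C α) < 1 := by
    intro P hP
    by_contra hall
    simp only [not_exists, not_and, not_lt] at hall
    have := (v_le_one_iff P f).1 (hint P hall)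
    omega
  have hodd : ∀ P : FunFld.Place k (RatFunc k), P.ord f < 0 → Odd (P.ord f) := fun P hP => by
    obtain ⟨α, hα, hlt⟩ := hneg P hP
    rw [hpole P α hα hlt]
    exact Odd.neg (by exact_mod_cast hd α hα)
  set q : Polynomial k := ∏ α ∈ B, (Polynomial.X - Polynomial.C α) ^ (c α + 1) with hq
  have hq0 : q ≠ 0 := Finset.prod_ne_zero_iff.2 fun α _ => pow_ne_zero _ (Polynomial.X_sub_C_ne_zero α)
  have hqdeg : q.natDegree = ∑ α ∈ B, (c α + 1) := by
    rw [hq, Polynomial.natDegree_prod _ _ fun α _ => pow_ne_zero _ (Polynomial.X_sub_C_ne_zero α)]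
    exact Finset.sum_congr rfl fun α _ => by rw [Polynomial.natDegree_pow, Polynomial.natDegree_X_sub_C, mul_one]
  have hX0 : ∀ β : k, (RatFunc.X : RatFunc k) - RatFunc.C β ≠ 0 := fun β => by
    rw [X_sub_C_eq]; exact iota_ne (Polynomial.X_sub_C_ne_zero β)
  have hordq : ∀ P : FunFld.Place k (RatFunc k),
      P.ord (algebraMap (Polynomial k) (RatFunc k) q) = ∑ α ∈ B, ((c α + 1 : ℕ) : ℤ) * P.ord ((RatFunc.X : RatFunc k) - RatFunc.C α) :=
    fun P => by
      rw [hq, map_prod, ord_prod P _ _ fun α _ => by rw [map_pow]; exact pow_ne_zero _ (iota_ne (Polynomial.X_sub_C_ne_zero α))]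
      exact Finset.sum_congr rfl fun α _ => by rw [map_pow, ord_pow, X_sub_C_eq]
  have hshift : ∀ P : FunFld.Place k (RatFunc k), 0 ≤ P.ord (RatFunc.X : RatFunc k) →
      P.ord (algebraMap (Polynomial k) (RatFunc k) q) = asShift f P := by
    intro P hP
    rw [hordq]
    by_cases hex : ∃ α ∈ B, P.1 ((RatFunc.X : RatFunc k) - RatFunc.C α) < 1
    · obtain ⟨α, hα, hlt⟩ := hex
      have hfα := hpole P α hα hlt
      rw [Finset.sum_eq_single_of_mem α hα fun β _ hne => by
        rw [(v_eq_one_iff P (hX0 β)).1 ((v_at hlt β).2 hne), mul_zero]]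
      have h1 := (v_eq_exp_iff P (hX0 α) _).1 ((v_at hlt α).1 rfl)
      obtain ⟨r, hr⟩ := hd α hα
      rw [asShift, hfα, if_pos (by omega)]
      rw [show P.ord ((RatFunc.X : RatFunc k) - RatFunc.C α) = 1 by omega, mul_one]
      show (((d α - 1) / 2 + 1 : ℕ) : ℤ) = _
      omega
    · rw [asShift, if_neg fun h => hex (hneg P h)]
      refine Finset.sum_eq_zero fun β hβ => ?_
      rw [(v_eq_one_iff P (hX0 β)).1 (le_antisymm ?_ (not_lt.1 fun h => hex ⟨β, hβ, h⟩)), mul_zero]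
      rw [X_sub_C_eq]
      exact v_poly_le P hP _
  have hshiftinf : ∀ P : FunFld.Place k (RatFunc k), P.ord (RatFunc.X : RatFunc k) < 0 → asShift f P = 0 := fun P hP => by
    rw [asShift, if_neg]
    intro h
    obtain ⟨α, -, hlt⟩ := hneg P h
    rw [v_inf hP α, ← exp_zero, exp_lt_exp] at hlt
    omega
  -- the genus
  set D : FunFld.Divisor k (RatFunc k) :=
    FunFld.div k (algebraMap (Polynomial k) (RatFunc k) q) + Finsupp.single Pi (q.natDegree : ℤ) with hD
  have hgen := genus_of_split hdeg hK hy (v := (1 : RatFunc k)) (g := f) (by rw [map_one, one_mul, heq]) D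
    fun P m a b => by
      have hDP : D P = asShift f P := by
        rw [hD, Finsupp.add_apply, div_apply hR]
        rcases lt_or_ge (P.ord (RatFunc.X : RatFunc k)) 0 with hP | hP
        · rw [hshiftinf P hP, place_eq_inf hPi hP, Finsupp.single_eq_same, ord_poly_inf' Pi hPi hq0]
          ring
        · rw [Finsupp.single_eq_of_ne (fun e : P = Pi => by rw [e] at hP; omega), hshift P hP, add_zero]
      rw [hDP, asShift]
      exact split_as hdeg h2 hy heq P (hodd P) m a b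
  rw [hD, deg_add, deg_div hR, deg_single, (inf_ord_deg Pi hPi).2, hqdeg] at hgen
  push_cast at hgen
  set fam : {a : ↥B × ℕ // 1 ≤ a.2 ∧ 2 * a.2 + 1 ≤ d (a.1 : k)} ⊕ {b : ↥B // (b : k) ≠ 0} → RatFunc k := Sum.elim
    (fun a => ((RatFunc.X : RatFunc k) - RatFunc.C (a.1.1 : k))⁻¹ ^ (a.1.2 + 1))
    (fun b => RatFunc.C (b.1 : k) / ((RatFunc.X : RatFunc k) * ((RatFunc.X : RatFunc k) - RatFunc.C (b.1 : k)))) with hfam
  have hfamK : ∀ i, (Sum.elim
      (fun a : {a : ↥B × ℕ // 1 ≤ a.2 ∧ 2 * a.2 + 1 ≤ d (a.1 : k)} => algebraMap (RatFunc k) K (((RatFunc.X : RatFunc k) - RatFunc.C (a.1.1 : k))⁻¹ ^ (a.1.2 + 1)))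
      (fun b : {b : ↥B // (b : k) ≠ 0} => algebraMap (RatFunc k) K (RatFunc.C (b.1 : k) / ((RatFunc.X : RatFunc k) * ((RatFunc.X : RatFunc k) - RatFunc.C (b.1 : k)))))) i =
      algebraMap (RatFunc k) K (fam i) := fun i => by rcases i with a | b <;> rfl
  have hXC : ∀ P : FunFld.Place k (RatFunc k), P.1 (RatFunc.X : RatFunc k) = P.1 ((RatFunc.X : RatFunc k) - RatFunc.C 0) :=
    fun P => by simp
  have hXi : ∀ P : FunFld.Place k (RatFunc k), P.1 (RatFunc.X : RatFunc k)⁻¹ = P.1 ((RatFunc.X : RatFunc k) - RatFunc.C 0)⁻¹ :=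
    fun P => by simp
  have hC : ∀ (P : FunFld.Place k (RatFunc k)) (β : k), β ≠ 0 → P.1 (RatFunc.C β) = 1 := fun P β hβ => by
    rw [← RatFunc.algebraMap_eq_C]; exact v_const P hβ
  have hreg : ∀ i P, P.1 (fam i) ≤ exp (asBound f P) := by
    intro i P
    rcases lt_or_ge (P.ord (RatFunc.X : RatFunc k)) 0 with hP | hP
    · rw [asBound, if_pos hP, hshiftinf P hP]
      rcases i with ⟨⟨β, j⟩, hj⟩ | ⟨β, hβ⟩
      · simp only [hfam, Sum.elim_inl]
        rw [map_pow, map_inv₀, v_inf hP, ← exp_neg, ← exp_nsmul, nsmul_eq_mul, exp_le_exp]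
        push_cast
        have : (1 : ℕ) ≤ j := hj.1
        omega
      · simp only [hfam, Sum.elim_inr]
        rw [map_div₀, hC P _ hβ, map_mul, v_inf hP, hXC, v_inf hP, ← exp_add, one_div, ← exp_neg, exp_le_exp]
        norm_num
    · rw [asBound, if_neg (not_lt.2 hP), sub_zero, ← hshift P hP, hordq]
      have hle : ∀ β : k, P.1 ((RatFunc.X : RatFunc k) - RatFunc.C β) ≤ 1 := fun β => by
        rw [X_sub_C_eq]; exact v_poly_le P hP _
      have hinv : ∀ β : k, P.1 ((RatFunc.X : RatFunc k) - RatFunc.C β)⁻¹ = exp (P.ord ((RatFunc.X : RatFunc k) - RatFunc.C β)) :=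
        fun β => by rw [map_inv₀, v_eq P (hX0 β), ← exp_neg, neg_neg]
      have hnn : ∀ β : k, 0 ≤ P.ord ((RatFunc.X : RatFunc k) - RatFunc.C β) := fun β => (v_le_one_iff P _).1 (hle β)
      rcases i with ⟨⟨β, j⟩, hj⟩ | ⟨β, hβ⟩
      · simp only [hfam, Sum.elim_inl]
        rw [map_pow, hinv, ← exp_nsmul, nsmul_eq_mul, exp_le_exp]
        refine le_trans ?_ (Finset.single_le_sum (fun γ _ => mul_nonneg (Nat.cast_nonneg _) (hnn γ)) β.2)
        refine mul_le_mul_of_nonneg_right ?_ (hnn _)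
        have h' : 2 * j + 1 ≤ d (β : k) := hj.2
        show ((j + 1 : ℕ) : ℤ) ≤ (((d (β : k) - 1) / 2 + 1 : ℕ) : ℤ)
        omega
      · simp only [hfam, Sum.elim_inr]
        rw [div_eq_mul_inv, map_mul, hC P _ hβ, one_mul, mul_inv, map_mul, hinv, hXi, hinv, ← exp_add, exp_le_exp,
          ← Finset.add_sum_erase B _ h0, ← Finset.add_sum_erase (B.erase 0) _ (Finset.mem_erase.2 ⟨hβ, β.2⟩)]
        have h1 := hnn 0
        have h2' := hnn (β : k)
        have h3 : 0 ≤ ∑ γ ∈ (B.erase 0).erase (β : k), ((c γ + 1 : ℕ) : ℤ) * P.ord ((RatFunc.X : RatFunc k) - RatFunc.C γ) :=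
          Finset.sum_nonneg fun γ _ => mul_nonneg (Nat.cast_nonneg _) (hnn γ)
        push_cast at h3 ⊢
        nlinarith [mul_nonneg (Nat.cast_nonneg (α := ℤ) (c 0)) h1, mul_nonneg (Nat.cast_nonneg (α := ℤ) (c (β : k))) h2']
  -- independence
  have hli : LinearIndependent k fam := by
    refine linearIndependent_iff'.2 fun S g hsum i hi => ?_
    have hA : ∀ i ∈ S, ∀ a, i = Sum.inl a → g i = 0 := by
      intro i hi a hia
      by_contra hgi
      set β : ↥B := a.1.1
      set T := S.filter fun l => ∃ a' : {a : ↥B × ℕ // 1 ≤ a.2 ∧ 2 * a.2 + 1 ≤ d (a.1 : k)},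
        l = Sum.inl a' ∧ a'.1.1 = β ∧ g l ≠ 0
      let lvl : {a : ↥B × ℕ // 1 ≤ a.2 ∧ 2 * a.2 + 1 ≤ d (a.1 : k)} ⊕ {b : ↥B // (b : k) ≠ 0} → ℕ :=
        Sum.elim (fun a' => a'.1.2) (fun _ => 0)
      obtain ⟨l₀, hl₀, hmax⟩ := Finset.exists_max_image T lvl ⟨i, Finset.mem_filter.2 ⟨hi, a, hia, rfl, hgi⟩⟩
      obtain ⟨hl₀S, a₀, rfl, ha₀, hg₀⟩ := Finset.mem_filter.1 hl₀
      have hv : ∀ γ : k, (Pt (β : k)).1 ((RatFunc.X : RatFunc k) - RatFunc.C γ)⁻¹ = if γ = β then exp (1 : ℤ) else 1 := fun γ => by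
        rw [map_inv₀]
        split_ifs with hγ
        · rw [(v_at (hPt _) γ).1 hγ, ← exp_neg, neg_neg]
        · rw [(v_at (hPt _) γ).2 hγ, inv_one]
      have hsmall : ∀ l ∈ S, l ≠ Sum.inl a₀ → (Pt (β : k)).1 (g l • fam l) < exp ((a₀.1.2 + 1 : ℕ) : ℤ) := by
        intro l hl hne
        rcases eq_or_ne (g l) 0 with hg0 | hg0
        · rw [hg0, zero_smul, map_zero]; exact exp_pos
        rw [v_smul _ hg0]
        have hone : (1 : WithZero (Multiplicative ℤ)) < exp ((a₀.1.2 + 1 : ℕ) : ℤ) := by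
          rw [← exp_zero, exp_lt_exp]; omega
        rcases l with a' | b'
        · simp only [hfam, Sum.elim_inl]
          rw [map_pow, hv]
          split_ifs with hγ
          · have hmem : Sum.inl a' ∈ T := Finset.mem_filter.2 ⟨hl, a', rfl, Subtype.ext hγ, hg0⟩
            have h1 : a'.1.2 ≤ a₀.1.2 := hmax _ hmem
            have hlt : a'.1.2 ≠ a₀.1.2 := fun e => hne (congrArg Sum.inl (Subtype.ext (Prod.ext
              ((Subtype.ext hγ).trans ha₀.symm) e)))
            rw [← exp_nsmul, exp_lt_exp, nsmul_eq_mul]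
            push_cast
            omega
          · rw [one_pow]; exact hone
        · simp only [hfam, Sum.elim_inr]
          rw [div_eq_mul_inv, map_mul, hC _ _ b'.2, one_mul, mul_inv, map_mul, hv, hXi, hv]
          have h1 : (1 : ℕ) ≤ a₀.1.2 := a₀.2.1
          split_ifs with e1 e2 e2
          · exact absurd (e2.trans e1.symm) b'.2
          · rw [mul_one, exp_lt_exp]; omega
          · rw [one_mul, exp_lt_exp]; omega
          · rw [one_mul]; exact hone
      have hbig : (Pt (β : k)).1 (g (Sum.inl a₀) • fam (Sum.inl a₀)) = exp ((a₀.1.2 + 1 : ℕ) : ℤ) := by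
        rw [v_smul _ hg₀]
        simp only [hfam, Sum.elim_inl]
        rw [map_pow, hv, if_pos (congrArg Subtype.val ha₀), ← exp_nsmul, nsmul_eq_mul, mul_one]
      have h := v_sum_eq (Pt (β : k)).1 hl₀S fun l hl hne => hbig ▸ hsmall l hl hne
      rw [hsum, map_zero, hbig] at h
      exact exp_ne_zero h.symm
    rcases i with a | b
    · exact hA _ hi a rfl
    by_contra hgi
    set β : ↥B := b.1
    have hsmall : ∀ l ∈ S, l ≠ Sum.inr b → (Pt (β : k)).1 (g l • fam l) ≤ 1 := by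
      intro l hl hne
      rcases eq_or_ne (g l) 0 with hg0 | hg0
      · rw [hg0, zero_smul, map_zero]; exact zero_le
      rcases l with a' | b'
      · exact absurd (hA _ hl a' rfl) hg0
      rw [v_smul _ hg0]
      simp only [hfam, Sum.elim_inr]
      rw [div_eq_mul_inv, map_mul, hC _ _ b'.2, one_mul, mul_inv, map_mul, map_inv₀, map_inv₀, hXC,
        (v_at (hPt _) 0).2 (Ne.symm b.2), (v_at (hPt _) _).2 (fun e => hne (congrArg Sum.inr (Subtype.ext (Subtype.ext e)))),
        inv_one, one_mul]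
    have hbig : (Pt (β : k)).1 (g (Sum.inr b) • fam (Sum.inr b)) = exp (1 : ℤ) := by
      rw [v_smul _ hgi]
      simp only [hfam, Sum.elim_inr]
      rw [div_eq_mul_inv, map_mul, hC _ _ b.2, one_mul, mul_inv, map_mul, map_inv₀, map_inv₀, hXC,
        (v_at (hPt _) 0).2 (Ne.symm b.2), (v_at (hPt _) _).1 rfl, inv_one, one_mul, ← exp_neg, neg_neg]
    have h := v_sum_eq (Pt (β : k)).1 hi fun l hl hne =>
      (hsmall l hl hne).trans_lt (hbig.symm ▸ (by rw [← exp_zero, exp_lt_exp]; norm_num))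
    rw [hsum, map_zero, hbig] at h
    exact exp_ne_zero h.symm
  -- counting
  let e₁ : {a : ↥B × ℕ // 1 ≤ a.2 ∧ 2 * a.2 + 1 ≤ d (a.1 : k)} ≃ Σ α : ↥B, ↥(Finset.Icc 1 (c α)) :=
    { toFun := fun a => ⟨a.1.1, ⟨a.1.2, Finset.mem_Icc.2 ⟨a.2.1, show a.1.2 ≤ (d (a.1.1 : k) - 1) / 2 by
        have := a.2.2; omega⟩⟩⟩
      invFun := fun p => ⟨(p.1, p.2.1), (Finset.mem_Icc.1 p.2.2).1, by
        have h1 : p.2.1 ≤ (d (p.1 : k) - 1) / 2 := (Finset.mem_Icc.1 p.2.2).2
        obtain ⟨r, hr⟩ := hd _ p.1.2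
        show 2 * p.2.1 + 1 ≤ d (p.1 : k)
        omega⟩
      left_inv := fun a => rfl
      right_inv := fun p => rfl }
  let e₂ : {b : ↥B // (b : k) ≠ 0} ≃ ↥(B.erase 0) :=
    { toFun := fun b => ⟨b.1, Finset.mem_erase.2 ⟨b.2, b.1.2⟩⟩
      invFun := fun x => ⟨⟨x.1, Finset.mem_of_mem_erase x.2⟩, (Finset.mem_erase.1 x.2).1⟩
      left_inv := fun b => rfl
      right_inv := fun x => rfl }
  let _f1 : Fintype {a : ↥B × ℕ // 1 ≤ a.2 ∧ 2 * a.2 + 1 ≤ d (a.1 : k)} := Fintype.ofEquiv _ e₁.symm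
  have hcard : (Fintype.card ({a : ↥B × ℕ // 1 ≤ a.2 ∧ 2 * a.2 + 1 ≤ d (a.1 : k)} ⊕ {b : ↥B // (b : k) ≠ 0}) : ℤ) =
      FunFld.genus k K := by
    rw [Fintype.card_sum, Fintype.card_congr e₁, Fintype.card_congr e₂, Fintype.card_sigma, Fintype.card_coe,
      Finset.card_erase_of_mem h0, hgen]
    simp only [Fintype.card_coe, Nat.card_Icc, Nat.add_sub_cancel]
    rw [Finset.sum_coe_sort B c, Finset.sum_add_distrib, Finset.sum_const, nsmul_one]
    have : 1 ≤ B.card := Finset.card_pos.2 ⟨0, h0⟩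
    push_cast [Nat.cast_sub this]
    ring
  set ιK : RatFunc k →ₗ[k] K := (IsScalarTower.toAlgHom k (RatFunc k) K).toLinearMap with hιK
  refine ⟨fun i P => ?_, ?_, fun z hz => ?_⟩
  · rw [hfamK]
    exact (as_regular_iff hdeg h2 hy heq hodd hR F φ hφ _).2 ⟨_, rfl, hreg i⟩ P
  · rw [show Sum.elim _ _ = ιK ∘ fam from funext hfamK]
    exact hli.map' _ (LinearMap.ker_eq_bot.2 (algebraMap (RatFunc k) K).injective)
  · obtain ⟨h12, h12'⟩ := S12587.result k K hK hdeg h2 y hy f heq (fun p hp => hodd p ((one_lt_v_iff p f).1 hp)) q hq0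
      (fun p hp => by
        rw [hshift p ((v_le_one_iff p _).1 hp), asShift]
        by_cases h : p.ord f < 0
        · rw [if_pos h, if_pos ((one_lt_v_iff p f).2 h)]
        · rw [if_neg h, if_neg (mt (one_lt_v_iff p f).1 h)]) F φ hφ
    set ρ : Polynomial k →ₗ[k] K := ιK ∘ₗ (LinearMap.mulRight k (algebraMap (Polynomial k) (RatFunc k) q)⁻¹) ∘ₗ
      (IsScalarTower.toAlgHom k (Polynomial k) (RatFunc k)).toLinearMap with hρ
    have hρa : ∀ a, ρ a = algebraMap (RatFunc k) K (algebraMap (Polynomial k) (RatFunc k) a /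
        algebraMap (Polynomial k) (RatFunc k) q) := fun a => by rw [div_eq_mul_inv]; rfl
    set W := (Polynomial.degreeLT k (FunFld.genus k K)).map ρ
    have hfd := Module.Finite.equiv (Polynomial.degreeLTEquiv k (FunFld.genus k K)).symm
    have hWle : Module.finrank k W ≤ FunFld.genus k K :=
      (Submodule.finrank_map_le ρ _).trans (by rw [(Polynomial.degreeLTEquiv k _).finrank_eq, Module.finrank_fin_fun])
    have hmemW : ∀ w : K, (∀ P, LocRes.vDiff (φ P) w (algebraMap (RatFunc k) K RatFunc.X) ≤ 1) → w ∈ W := fun w hw => by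
      obtain ⟨a, ha, rfl⟩ := h12' w hw
      exact ⟨a, Polynomial.mem_degreeLT.2 ha, hρa a⟩
    have hW : Submodule.span k (Set.range fun i => algebraMap (RatFunc k) K (fam i)) = W := by
      refine Submodule.eq_of_le_of_finrank_le (Submodule.span_le.2 ?_) ?_
      · rintro _ ⟨i, rfl⟩
        exact hmemW _ fun P => (as_regular_iff hdeg h2 hy heq hodd hR F φ hφ _).2 ⟨_, rfl, hreg i⟩ P
      · refine hWle.trans (le_of_eq ?_)
        show _ = Module.finrank k (Submodule.span k (Set.range (⇑ιK ∘ fam)))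
        rw [finrank_span_eq_card (hli.map' ιK (LinearMap.ker_eq_bot.2 (algebraMap (RatFunc k) K).injective))]
        exact_mod_cast hcard.symm
    rw [show Sum.elim _ _ = fun i => algebraMap (RatFunc k) K (fam i) from funext hfamK, hW]
    exact hmemW z hz

end Groth.Agent.S19044
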