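import Groth.Statements.S19045
import Groth.Agent.FFLib.QuadGenus


-- import your own Groth.Agent.* helpers here

set_option autoImplicit false
universe u v
open FunFld

namespace Groth.Agent.S19045

/-- Let `k` be algebraically closed of characteristic `2` and `K = k(x, y)` with `y² + y = f(x)`, `K`
separable of degree `2` over `k(x)`; let `B ⊆ k` be a finite set containing `0` such that `f` has a
pole of odd order `d_β` at `x = β` for every `β ∈ B` and is integral at all other places of `k(x)`.
Then `y` is integral at the places of `K` above `x = ∞` and has order `0` at one of them, and for `α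
∈ B` and `j ∈ ℤ` the divisor of poles of `y (x - α)^j` consists of: order `max(d_α - 2j, 0)` at the
place above `α`, order exactly `d_β` above every other `β ∈ B`, order `max(j - ord_P y, 0)` at each
place `P` above `∞`, and nothing elsewhere. -/
theorem result (k : Type u) (K : Type v)
    [Field k] [IsAlgClosed k] [CharP k 2] [Field K] [Algebra k K] [Algebra (RatFunc k) K] [IsScalarTower k (RatFunc k) K]
    (hK : FunFld.IsFunctionField k K) (hdeg : Module.finrank (RatFunc k) K = 2) [Algebra.IsSeparable (RatFunc k) K]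
    (y : K) (hy : y ∉ Set.range (algebraMap (RatFunc k) K)) (f : RatFunc k)
    (heq : y ^ 2 + y = algebraMap (RatFunc k) K f)
    (B : Finset k) (h0 : (0 : k) ∈ B) (d : k → ℕ) (hd : ∀ β ∈ B, Odd (d β))
    (hpole : ∀ (p : FunFld.Place k (RatFunc k)) (β : k), β ∈ B →
      p.1 ((RatFunc.X : RatFunc k) - RatFunc.C β) < 1 → p.ord f = -(d β : ℤ))
    (hint : ∀ p : FunFld.Place k (RatFunc k), (∀ β ∈ B, 1 ≤ p.1 ((RatFunc.X : RatFunc k) - RatFunc.C β)) → p.1 f ≤ 1) :
    (∀ P : FunFld.Place k K, 1 < P.1 (algebraMap (RatFunc k) K RatFunc.X) → 0 ≤ P.ord y) ∧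
    (∃ P : FunFld.Place k K, 1 < P.1 (algebraMap (RatFunc k) K RatFunc.X) ∧ P.ord y = 0) ∧
    ∀ (α : k), α ∈ B → ∀ (j : ℤ) (P : FunFld.Place k K),
      (P.1 ((algebraMap (RatFunc k) K RatFunc.X) - (algebraMap k K α)) < 1 →
        max (-(P.ord (y * ((algebraMap (RatFunc k) K RatFunc.X) - (algebraMap k K α)) ^ j))) 0 = max ((d α : ℤ) - 2 * j) 0) ∧
      (∀ β : k, β ∈ B → β ≠ α → P.1 ((algebraMap (RatFunc k) K RatFunc.X) - (algebraMap k K β)) < 1 →
        P.ord (y * ((algebraMap (RatFunc k) K RatFunc.X) - (algebraMap k K α)) ^ j) = -(d β : ℤ)) ∧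
      (1 < P.1 (algebraMap (RatFunc k) K RatFunc.X) → max (-(P.ord (y * ((algebraMap (RatFunc k) K RatFunc.X) - (algebraMap k K α)) ^ j))) 0 = max (j - P.ord y) 0) ∧
      (P.1 (algebraMap (RatFunc k) K RatFunc.X) ≤ 1 → (∀ β : k, β ∈ B → 1 ≤ P.1 ((algebraMap (RatFunc k) K RatFunc.X) - (algebraMap k K β))) → 0 ≤ P.ord (y * ((algebraMap (RatFunc k) K RatFunc.X) - (algebraMap k K α)) ^ j)) := by
  open Groth.Agent.FFLib in
  classical
  have hfd : FiniteDimensional (RatFunc k) K := Module.finite_of_finrank_eq_succ hdeg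
  have hK1 := fg1_ratFunc (k := k)
  have hK2 : (2 : K) = 0 := by
    rw [← map_ofNat (algebraMap k K) 2, show (2 : k) = 0 by exact_mod_cast CharP.cast_eq_zero k 2, map_zero]
  have hy0 : y ≠ 0 := fun e => hy ⟨0, by rw [e, map_zero]⟩
  have hup : ∀ c : k, algebraMap (RatFunc k) K RatFunc.X - algebraMap k K c =
      algebraMap (RatFunc k) K (RatFunc.X - RatFunc.C c) := fun c => by
    rw [map_sub, IsScalarTower.algebraMap_apply k (RatFunc k) K, RatFunc.algebraMap_eq_C]
  have hirr : ∀ c : k, (RatFunc.X - RatFunc.C c : RatFunc k) = algebraMap (Polynomial k) (RatFunc k) (Polynomial.X - Polynomial.C c) := fun c => by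
    rw [map_sub, RatFunc.algebraMap_X, RatFunc.algebraMap_C]
  have hne : ∀ c : k, (RatFunc.X - RatFunc.C c : RatFunc k) ≠ 0 := fun c => by
    rw [hirr]; exact iota_ne (Polynomial.X_sub_C_ne_zero c)
  -- the place below
  have hdown : ∀ P : FunFld.Place k K, ∃ (p : FunFld.Place k (RatFunc k)) (e : ℕ), FunFld.IsOverWith P p e ∧ 0 < e :=
    fun P => ⟨_, _, isOverWith_under hK1 P, underIdx_pos hK1 P⟩
  have hinf : ∀ P : FunFld.Place k K, 1 < P.1 (algebraMap (RatFunc k) K RatFunc.X) →
      ∃ (p : FunFld.Place k (RatFunc k)), FunFld.IsOverWith P p 1 ∧ p.ord (RatFunc.X : RatFunc k) < 0 ∧ P.1 y ≤ 1 := by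
    intro P hP
    obtain ⟨p, e, he, hepos⟩ := hdown P
    have hX : p.ord (RatFunc.X : RatFunc k) < 0 := by
      rw [← one_lt_v_iff, ← not_le, ← isOverWith_le_one_iff he, not_le]; exact hP
    have hfint : p.1 f ≤ 1 := by
      refine hint p fun β _ => ?_
      rw [hirr, ← not_lt]
      intro hlt
      have := fin_of_irreducible (Polynomial.irreducible_X_sub_C β) hlt
      omega
    have hy1 : P.1 y ≤ 1 := not_lt.1 fun h => by
      have hf1 : P.1 (algebraMap (RatFunc k) K f) ≤ 1 := (isOverWith_le_one_iff he f).2 hfint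
      rw [← heq, Valuation.map_add_eq_of_lt_left _ (by rw [map_pow, sq]; exact lt_mul_of_one_lt_left (zero_lt_one.trans h) h), map_pow] at hf1
      exact absurd hf1 (not_le.2 (one_lt_pow₀ h two_ne_zero))
    obtain rfl := idx_one_of_unit (a := (1 : RatFunc k)) (g := f) hK1 hdeg hy (by rw [map_one, one_mul, heq]) he hy1
      (by rw [hK2, zero_mul, zero_add, map_one, map_one])
    exact ⟨p, he, hX, hy1⟩
  refine ⟨fun P hP => (v_le_one_iff P y).1 (hinf P hP).choose_spec.2.2, ?_, ?_⟩
  · obtain ⟨p, hp⟩ := exists_infPlace (k := k)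
    obtain ⟨P, hP⟩ := exists_overs (K' := K) hK1 p
    have hgt : ∀ R : FunFld.Place k K, FunFld.IsOverWith R p (underIdx hK1 P) → 1 < R.1 (algebraMap (RatFunc k) K RatFunc.X) := fun R hR => by
      rw [← not_le, isOverWith_le_one_iff hR, not_le, one_lt_v_iff]; exact hp
    obtain ⟨-, -, -, hy1⟩ := hinf P (hgt P hP)
    by_cases h0 : P.ord y = 0
    · exact ⟨P, hgt P hP, h0⟩
    · obtain ⟨σ, hσ⟩ := exists_conj hdeg hy (a := (1 : RatFunc k)) (g := f) (by rw [map_one, one_mul, heq])
      have hσP := isOverWith_placeMap hP σ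
      refine ⟨placeMap σ P, hgt _ hσP, ?_⟩
      rw [placeMap_ord, hσ, map_one, show (-1 : K) - y = -(1 + y) by ring]
      have hlt : P.1 y < 1 := by
        rw [v_lt_one_iff P hy0]
        have := (v_le_one_iff P y).1 hy1
        omega
      have h1 : P.1 (-(1 + y)) = 1 := by rw [Valuation.map_neg, v_one_add_of_lt hlt]
      rw [← v_eq_one_iff P (fun e => by rw [e, map_zero] at h1; exact zero_ne_one h1)]
      exact h1
  · intro α hα j P
    obtain ⟨p, e, he, hepos⟩ := hdown P
    have hxα0 : algebraMap (RatFunc k) K RatFunc.X - algebraMap k K α ≠ 0 := by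
      rw [hup]; exact (_root_.map_ne_zero _).2 (hne α)
    have hordX : ∀ c : k, P.ord (algebraMap (RatFunc k) K RatFunc.X - algebraMap k K c) = e * p.ord (RatFunc.X - RatFunc.C c) := fun c => by
      rw [hup]; exact (isOverWith_iff_ord.1 he).2 _ (hne c)
    have htot : P.ord (y * (algebraMap (RatFunc k) K RatFunc.X - algebraMap k K α) ^ j) =
        P.ord y + j * P.ord (algebraMap (RatFunc k) K RatFunc.X - algebraMap k K α) := by
      rw [ord_mul P hy0 (zpow_ne_zero _ hxα0), ord_zpow]
    have hpol : ∀ β ∈ B, P.1 (algebraMap (RatFunc k) K RatFunc.X - algebraMap k K β) < 1 →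
        p.1 (RatFunc.X - RatFunc.C β) < 1 ∧ e = 2 ∧ P.ord y = -(d β : ℤ) ∧ p.ord (RatFunc.X - RatFunc.C β) = 1 := by
      intro β hβ hlt
      have hlt' : p.1 (RatFunc.X - RatFunc.C β) < 1 := by rwa [← isOverWith_lt_one_iff he, ← hup]
      have hpf := hpole p β hβ hlt'
      have hd0 : 0 < d β := (hd β hβ).pos
      have hodd : Odd (p.ord f) := by rw [hpf, odd_neg, Int.odd_coe_nat]; exact hd β hβ
      have hf0 : f ≠ 0 := fun e0 => by rw [e0, ord_zero] at hpf; omega
      have hgt : 1 < P.1 y := by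
        by_contra hle
        have h2' : 1 < P.1 (algebraMap (RatFunc k) K f) := not_le.1 fun hh => by
          have := (v_le_one_iff p f).1 ((isOverWith_le_one_iff he f).1 hh)
          omega
        rw [← heq] at h2'
        refine absurd h2' (not_lt.2 ((P.1.map_add _ _).trans (max_le ?_ (not_lt.1 hle))))
        rw [map_pow]; exact pow_le_one₀ zero_le (not_lt.1 hle)
      have hv : P.1 (algebraMap (RatFunc k) K f) = P.1 (y ^ 2) := by
        rw [← heq]
        exact Valuation.map_add_eq_of_lt_left _ (by rw [map_pow, sq]; exact lt_mul_of_one_lt_left (zero_lt_one.trans hgt) hgt)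
      have h2y : P.ord (algebraMap (RatFunc k) K f) = 2 * P.ord y := by
        rw [FunFld.Place.ord, hv, ← FunFld.Place.ord, ord_pow]; norm_num
      rw [(isOverWith_iff_ord.1 he).2 f hf0] at h2y
      have hev : Even e := by
        rw [← Int.even_coe_nat]
        have : Even ((e : ℤ) * p.ord f) := ⟨P.ord y, by omega⟩
        exact (Int.even_mul.1 this).resolve_right (Int.not_even_iff_odd.2 hodd)
      obtain rfl := idx_two_of_even hK1 hdeg he hev
      refine ⟨hlt', rfl, by push_cast at h2y; omega, ?_⟩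
      rw [hirr] at hlt' ⊢
      exact ord_irreducible (Polynomial.irreducible_X_sub_C β) hlt'
    refine ⟨fun hlt => ?_, fun β hβ hne' hlt => ?_, fun hgt => ?_, fun hle hall => ?_⟩
    · obtain ⟨-, he2, hoy, hox⟩ := hpol α hα hlt
      rw [htot, hordX, hox, he2, hoy]
      push_cast
      congr 1
      ring
    · obtain ⟨hlt', -, hoy, -⟩ := hpol β hβ hlt
      have hox : p.ord (RatFunc.X - RatFunc.C α) = 0 := by
        rw [hirr] at hlt' ⊢
        refine ord_eq_zero_of_not_dvd (Polynomial.irreducible_X_sub_C β) hlt' ?_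
        rw [Polynomial.dvd_iff_isRoot]
        simpa [sub_eq_zero] using hne'
      rw [htot, hordX, hox, hoy]; ring
    · obtain ⟨p', he', hX, -⟩ := hinf P hgt
      obtain ⟨rfl, rfl⟩ := isOverWith_unique he he'
      have hox : p.ord (RatFunc.X - RatFunc.C α) = -1 := by
        rw [hirr, ord_poly_inf' p hX (Polynomial.X_sub_C_ne_zero α), Polynomial.natDegree_X_sub_C]; norm_num
      rw [htot, hordX, hox]
      congr 1
      push_cast; ring
    · have hX : 0 ≤ p.ord (RatFunc.X : RatFunc k) := by
        rw [← v_le_one_iff, ← isOverWith_le_one_iff he]; exact hle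
      have hox : P.ord (algebraMap (RatFunc k) K RatFunc.X - algebraMap k K α) = 0 := by
        rw [← v_eq_one_iff P hxα0]
        exact le_antisymm ((P.1.map_sub _ _).trans (max_le hle (P.2.1 α))) (hall α hα)
      have hfint : p.1 f ≤ 1 := by
        refine hint p fun β hβ => ?_
        rw [← not_lt, ← isOverWith_lt_one_iff he, ← hup, not_lt]
        exact hall β hβ
      rw [htot, hox, mul_zero, add_zero, ← v_le_one_iff]
      refine not_lt.1 fun h => ?_
      have hf1 : P.1 (algebraMap (RatFunc k) K f) ≤ 1 := (isOverWith_le_one_iff he f).2 hfint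
      rw [← heq, Valuation.map_add_eq_of_lt_left _ (by rw [map_pow, sq]; exact lt_mul_of_one_lt_left (zero_lt_one.trans h) h), map_pow] at hf1
      exact absurd hf1 (not_le.2 (one_lt_pow₀ h two_ne_zero))

end Groth.Agent.S19045
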