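import Groth.Statements.S19046
import Groth.Agent.FFLib.ASAdele
-- import your own Groth.Agent.* helpers here

set_option autoImplicit false
universe u v
open Classical
open FunFld

namespace Groth.Agent.S19046

/-- Let `k` be algebraically closed of characteristic `2`, `K = k(x, y)` with `y² + y = f(x)` separable
of degree `2` over `k(x)`, `B ⊆ k` a finite set containing `0` with `f` having a pole of odd order
`d_β` at `x = β` for `β ∈ B` and integral elsewhere, `c_β = (d_β - 1)/2`, and `P_β` a place of `K`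
above `x = β`. Identify `H¹(X, O)` of the smooth projective model with the repartitions (adeles with
components in `K`) modulo `W = A(0) + K` (everywhere-integral repartitions plus constants), a Čech
class with defining component `h` at `β` corresponding to the repartition with component `h` at
`P_β` and `0` elsewhere. Then the repartitions supported at `P_α` with value `y (x - α)^j` (`α ∈ B`,
`1 ≤ j ≤ c_α`) and with value `y` (`α ∈ B`, `α ≠ 0`) are adeles whose classes modulo `W` are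
linearly independent over `k` and, together with `W`, span the adeles: they give a basis of `H¹(X,
O)`. -/
theorem result (k : Type u) (K : Type v)
    [Field k] [IsAlgClosed k] [CharP k 2] [Field K] [Algebra k K] [Algebra (RatFunc k) K] [IsScalarTower k (RatFunc k) K]
    (hK : FunFld.IsFunctionField k K) (hdeg : Module.finrank (RatFunc k) K = 2) [Algebra.IsSeparable (RatFunc k) K]
    (y : K) (hy : y ∉ Set.range (algebraMap (RatFunc k) K)) (f : RatFunc k)
    (heq : y ^ 2 + y = algebraMap (RatFunc k) K f)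
    (B : Finset k) (h0 : (0 : k) ∈ B) (d : k → ℕ) (hd : ∀ β ∈ B, Odd (d β))
    (hpole : ∀ (p : FunFld.Place k (RatFunc k)) (β : k), β ∈ B →
      p.1 ((RatFunc.X : RatFunc k) - RatFunc.C β) < 1 → p.ord f = -(d β : ℤ))
    (hint : ∀ p : FunFld.Place k (RatFunc k), (∀ β ∈ B, 1 ≤ p.1 ((RatFunc.X : RatFunc k) - RatFunc.C β)) → p.1 f ≤ 1)
    (Pl : k → FunFld.Place k K) (hPl : ∀ β ∈ B, (Pl β).1 ((algebraMap (RatFunc k) K RatFunc.X) - (algebraMap k K β)) < 1) :
    (∀ i, (Sum.elim
        (fun a : {a : ↥B × ℕ // 1 ≤ a.2 ∧ 2 * a.2 + 1 ≤ d (a.1 : k)} =>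
          (Pi.single (Pl (a.1.1 : k)) (y * ((algebraMap (RatFunc k) K RatFunc.X) - (algebraMap k K (a.1.1 : k))) ^ a.1.2) : FunFld.Place k K → K))
        (fun b : {b : ↥B // (b : k) ≠ 0} => (Pi.single (Pl (b.1 : k)) y : FunFld.Place k K → K))) i ∈ FunFld.adele k K) ∧
    LinearIndependent k (fun i => Submodule.mkQ (FunFld.AD (0 : FunFld.Divisor k K) ⊔ LinearMap.range (FunFld.diag k K)) ((Sum.elim
        (fun a : {a : ↥B × ℕ // 1 ≤ a.2 ∧ 2 * a.2 + 1 ≤ d (a.1 : k)} =>
          (Pi.single (Pl (a.1.1 : k)) (y * ((algebraMap (RatFunc k) K RatFunc.X) - (algebraMap k K (a.1.1 : k))) ^ a.1.2) : FunFld.Place k K → K))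
        (fun b : {b : ↥B // (b : k) ≠ 0} => (Pi.single (Pl (b.1 : k)) y : FunFld.Place k K → K))) i)) ∧
    ∀ a : FunFld.Place k K → K, a ∈ FunFld.adele k K →
      a ∈ (FunFld.AD (0 : FunFld.Divisor k K) ⊔ LinearMap.range (FunFld.diag k K)) ⊔ Submodule.span k (Set.range (Sum.elim
        (fun a : {a : ↥B × ℕ // 1 ≤ a.2 ∧ 2 * a.2 + 1 ≤ d (a.1 : k)} =>
          (Pi.single (Pl (a.1.1 : k)) (y * ((algebraMap (RatFunc k) K RatFunc.X) - (algebraMap k K (a.1.1 : k))) ^ a.1.2) : FunFld.Place k K → K))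
        (fun b : {b : ↥B // (b : k) ≠ 0} => (Pi.single (Pl (b.1 : k)) y : FunFld.Place k K → K)))) := by
  open Groth.Agent.FFLib WithZero Polynomial in
  have h2 : ringChar k = 2 := ringChar.eq k 2
  have : FiniteDimensional (RatFunc k) K := Module.finite_of_finrank_eq_succ hdeg
  have hR := fg1_ratFunc (k := k)
  choose Pt hPt using exists_place_ratX (k := k)
  obtain ⟨Pinf, hPi⟩ := exists_infPlace (k := k)
  set c : k → ℕ := fun α => (d α - 1) / 2 with hc
  set ι := algebraMap (Polynomial k) (RatFunc k) with hι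
  have hxβ : ∀ β : k, algebraMap (RatFunc k) K RatFunc.X - algebraMap k K β =
      algebraMap (RatFunc k) K ((RatFunc.X : RatFunc k) - RatFunc.C β) := fun β => by
    rw [map_sub, ← RatFunc.algebraMap_eq_C, ← IsScalarTower.algebraMap_apply]
  -- the places of `K` over `B`
  have hunder : ∀ β ∈ B, IsOverWith (Pl β) (Pt β) 2 := fun β hβ => by
    have h := isOverWith_under hR (Pl β)
    have hlt : (underPlace hR (Pl β)).1 ((RatFunc.X : RatFunc k) - RatFunc.C β) < 1 := by
      rw [← isOverWith_lt_one_iff h, ← hxβ]; exact hPl β hβ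
    have hPeq : underPlace hR (Pl β) = Pt β :=
      place_eq_fin (irreducible_X_sub_C β) (ratX_sub_C β ▸ hPt β) (ratX_sub_C β ▸ hlt)
    have hidx := as_idx hdeg h2 hy heq h fun hn => odd_of_neg hd hpole hint hn
    rw [if_pos (by rw [hpole _ β hβ hlt]; obtain ⟨r, hr⟩ := hd β hβ; omega)] at hidx
    rw [← hPeq, ← hidx]
    exact h
  have honly : ∀ β ∈ B, ∀ (Q : FunFld.Place k K) (e : ℕ), IsOverWith Q (Pt β) e → Q = Pl β ∧ e = 2 := fun β hβ Q e hQ => by
    have hQe : Q = Pl β := (ramified_unique hR hdeg (hunder β hβ)).2 Q ⟨e, hQ⟩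
    subst hQe
    exact ⟨rfl, (isOverWith_unique hQ (hunder β hβ)).2⟩
  have hPlinj : ∀ β ∈ B, ∀ γ ∈ B, Pl β = Pl γ → β = γ := fun β hβ γ hγ h => by
    have h' := (isOverWith_unique (h ▸ hunder β hβ) (hunder γ hγ)).1
    exact (eq_of_v_lt (hPt β) (h' ▸ hPt γ)).symm
  -- the family
  set e : {a : ↥B × ℕ // 1 ≤ a.2 ∧ 2 * a.2 + 1 ≤ d (a.1 : k)} ⊕ {b : ↥B // (b : k) ≠ 0} → (FunFld.Place k K → K) :=
    Sum.elim
      (fun a => Pi.single (Pl (a.1.1 : k)) (y * (algebraMap (RatFunc k) K RatFunc.X - algebraMap k K (a.1.1 : k)) ^ a.1.2))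
      (fun b => Pi.single (Pl (b.1 : k)) y) with he
  set idx : {a : ↥B × ℕ // 1 ≤ a.2 ∧ 2 * a.2 + 1 ≤ d (a.1 : k)} ⊕ {b : ↥B // (b : k) ≠ 0} → ↥B :=
    Sum.elim (fun a => a.1.1) (fun b => b.1) with hidxdef
  set lvl : {a : ↥B × ℕ // 1 ≤ a.2 ∧ 2 * a.2 + 1 ≤ d (a.1 : k)} ⊕ {b : ↥B // (b : k) ≠ 0} → ℕ :=
    Sum.elim (fun a => a.1.2) (fun _ => 0) with hlvl
  have hinj : ∀ i l, idx i = idx l → lvl i = lvl l → i = l := by
    rintro (a | b) (a' | b') h h'
    · exact congrArg Sum.inl (Subtype.ext (Prod.ext h h'))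
    · exact absurd h' (show a.1.2 ≠ 0 from Nat.one_le_iff_ne_zero.1 a.2.1)
    · exact absurd h'.symm (show a'.1.2 ≠ 0 from Nat.one_le_iff_ne_zero.1 a'.2.1)
    · exact congrArg Sum.inr (Subtype.ext h)
  have hlvlle : ∀ i, lvl i ≤ c (idx i : k) := by
    rintro (a | b)
    · show a.1.2 ≤ (d (a.1.1 : k) - 1) / 2
      have := a.2.2
      omega
    · exact Nat.zero_le _
  have heval : ∀ i, e i = Pi.single (Pl (idx i : k))
      (y * algebraMap (RatFunc k) K (((RatFunc.X : RatFunc k) - RatFunc.C (idx i : k)) ^ lvl i)) := by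
    rintro (a | b)
    · simp only [he, hidxdef, hlvl, Sum.elim_inl, map_pow, hxβ]
    · simp only [he, hidxdef, hlvl, Sum.elim_inr, pow_zero, map_one, mul_one]
  have hadele : ∀ i, e i ∈ FunFld.adele k K := fun i => by
    rw [mem_adele, Filter.eventually_cofinite]
    refine (Set.finite_singleton (Pl (idx i : k))).subset fun Q hQ => ?_
    by_contra hne
    refine hQ ?_
    rw [heval, Pi.single_eq_of_ne hne, map_zero]
    exact zero_le
  set W : Submodule k (FunFld.Place k K → K) := FunFld.AD (0 : FunFld.Divisor k K) ⊔ LinearMap.range (FunFld.diag k K)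
    with hW
  -- independence
  have hli : LinearIndependent k fun i => W.mkQ (e i) := by
    refine linearIndependent_iff'.2 fun S g hsum i hi => ?_
    have hmem : ∑ l ∈ S, g l • e l ∈ W := by
      rw [← Submodule.Quotient.mk_eq_zero W, ← Submodule.mkQ_apply, map_sum, ← hsum]
      exact Finset.sum_congr rfl fun l _ => map_smul _ _ _
    obtain ⟨w, hw, _, ⟨h, rfl⟩, hwh⟩ := Submodule.mem_sup.1 hmem
    obtain ⟨a, b, hab⟩ := (minpoly_quad hdeg hy
      (show y ^ 2 + algebraMap (RatFunc k) K 1 * y = algebraMap (RatFunc k) K f by rw [map_one, one_mul, heq])).2.1 h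
    set pp : k → Polynomial k := fun β => ∑ l ∈ S with (idx l : k) = β, Polynomial.C (g l) * Polynomial.X ^ lvl l with hpp
    set T : k → RatFunc k := fun β => algebraMap (Polynomial k) (RatFunc k) ((pp β).comp (Polynomial.X - Polynomial.C β))
    have hat : ∀ β ∈ B, (∑ l ∈ S, g l • e l) (Pl β) = algebraMap (RatFunc k) K (T β) * y := fun β hβ => by
      rw [Finset.sum_apply, show T β = ∑ l ∈ S with (idx l : k) = β, RatFunc.C (g l) *
          ((RatFunc.X : RatFunc k) - RatFunc.C β) ^ lvl l by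
        simp only [T, hpp, Polynomial.sum_comp, Polynomial.mul_comp, Polynomial.C_comp, Polynomial.pow_comp,
          Polynomial.X_comp, map_sum, map_mul, map_pow, map_sub, RatFunc.algebraMap_C, RatFunc.algebraMap_X],
        map_sum, Finset.sum_mul, Finset.sum_filter]
      refine Finset.sum_congr rfl fun l _ => ?_
      rw [Pi.smul_apply, heval]
      by_cases hl : (idx l : k) = β
      · rw [if_pos hl, hl, Pi.single_eq_same, Algebra.smul_def, map_mul, ← RatFunc.algebraMap_eq_C,
          ← IsScalarTower.algebraMap_apply]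
        ring
      · rw [if_neg hl, Pi.single_eq_of_ne fun e => hl (hPlinj β hβ _ (idx l).2 e).symm, smul_zero]
    have hoff : ∀ Q : FunFld.Place k K, (∀ β ∈ B, Q ≠ Pl β) → (∑ l ∈ S, g l • e l) Q = 0 := fun Q hQ => by
      rw [Finset.sum_apply]
      exact Finset.sum_eq_zero fun l _ => by rw [Pi.smul_apply, heval, Pi.single_eq_of_ne (hQ _ (idx l).2), smul_zero]
    have hclose : ∀ Q : FunFld.Place k K, Q.1 (h - (∑ l ∈ S, g l • e l) Q) ≤ 1 := fun Q => by
      rw [← hwh, Pi.add_apply, show FunFld.diag k K h Q = h from rfl, sub_add_cancel_right, Valuation.map_neg]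
      simpa using hw Q
    -- `b` is integral away from `B` and is `T β` near `β`
    have hkey : ∀ P : FunFld.Place k (RatFunc k), (∀ β ∈ B, P ≠ Pt β) → P.1 b ≤ 1 := fun P hP => by
      have hoffP : ∀ Q e', IsOverWith Q P e' → Q.1 (h - 0) ≤ 1 := fun Q e' hQ => by
        have := hclose Q
        rwa [hoff Q fun β hβ hQβ => hP β hβ (isOverWith_unique hQ (hQβ ▸ hunder β hβ)).1] at this
      have := ((split_as hdeg h2 hy heq P (fun hn => odd_of_neg hd hpole hint hn) 0 a b).1 fun Q e' hQ => by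
        rw [← hab, mul_zero, exp_zero, ← sub_zero h]; exact hoffP Q e' hQ).2
      have hns : ¬ P.ord f < 0 := fun hn => by
        obtain ⟨α, hα, hlt⟩ := exists_of_neg hint hn
        exact hP α hα (place_eq_fin (irreducible_X_sub_C α) (ratX_sub_C α ▸ hPt α) (ratX_sub_C α ▸ hlt))
      rwa [if_neg hns, sub_zero, exp_zero] at this
    have hkeyB : ∀ β ∈ B, (Pt β).1 (b - T β) ≤ exp (-((c β + 1 : ℕ) : ℤ)) := fun β hβ => by
      have := ((split_as hdeg h2 hy heq (Pt β) (fun hn => odd_of_neg hd hpole hint hn) 0 a (b - T β)).1 fun Q e' hQ => by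
        obtain ⟨rfl, rfl⟩ := honly β hβ Q e' hQ
        rw [mul_zero, exp_zero, map_sub, sub_mul, ← add_sub_assoc, ← hab, ← hat β hβ]
        exact hclose _).2
      rw [show (if (Pt β).ord f < 0 then (1 - (Pt β).ord f) / 2 else (0 : ℤ)) = asShift f (Pt β) from rfl,
        asShift_at hd hpole hβ (hPt β), zero_sub] at this
      exact this
    obtain ⟨b₀, hb₀⟩ : ∃ b₀ : k, b = RatFunc.C b₀ := by
      obtain ⟨q, hq⟩ := mem_poly_of_fin (r := b) fun P hP => by
        by_cases hex : ∃ β ∈ B, P = Pt β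
        · obtain ⟨β, hβ, rfl⟩ := hex
          rw [show b = (b - T β) + T β by ring]
          exact ((Pt β).1.map_add _ _).trans (max_le ((hkeyB β hβ).trans (by rw [← exp_zero, exp_le_exp]; omega))
            (v_poly_le _ hP _))
        · exact hkey P fun β hβ e => hex ⟨β, hβ, e⟩
      have hq0 : q.natDegree = 0 := by
        rcases eq_or_ne q 0 with rfl | hne
        · simp
        have hPiB : ∀ β ∈ B, Pinf ≠ Pt β := fun β _ e => by
          have := fin_of_irreducible (irreducible_X_sub_C β) (ratX_sub_C β ▸ hPt β)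
          rw [← e] at this; omega
        have := (v_le_one_iff Pinf b).1 (hkey Pinf hPiB)
        rw [← hq, ord_poly_inf' Pinf hPi hne] at this
        omega
      exact ⟨q.coeff 0, by rw [← hq, ← RatFunc.algebraMap_C, ← eq_C_of_natDegree_eq_zero hq0]⟩
    have hppC : ∀ β ∈ B, pp β = Polynomial.C b₀ := fun β hβ => by
      rw [eq_comm, ← sub_eq_zero]
      by_contra hne
      have h1 := hkeyB β hβ
      set r := Polynomial.C b₀ - pp β
      have hr : b - T β = algebraMap (Polynomial k) (RatFunc k) (r.comp (Polynomial.X - Polynomial.C β)) := by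
        rw [Polynomial.sub_comp, map_sub, Polynomial.C_comp, RatFunc.algebraMap_C, hb₀]
      have hdegr : r.natDegree ≤ c β := by
        refine (natDegree_sub_le _ _).trans (max_le (by simp) (natDegree_sum_le_of_forall_le _ _ fun l hl => ?_))
        refine (natDegree_C_mul_X_pow_le _ _).trans ?_
        rw [← (Finset.mem_filter.1 hl).2]
        exact hlvlle l
      have hrc : r.comp (Polynomial.X - Polynomial.C β) ≠ 0 := fun h0 => hne (by
        rcases comp_eq_zero_iff.1 h0 with h' | ⟨-, h'⟩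
        · exact h'
        · exact absurd (congrArg natDegree h') (by simp))
      obtain ⟨n, r', hr', hfac⟩ := WfDvdMonoid.max_power_factor hrc (irreducible_X_sub_C β)
      have hP' : (Pt β).1 (algebraMap (Polynomial k) (RatFunc k) (Polynomial.X - Polynomial.C β)) < 1 := ratX_sub_C β ▸ hPt β
      rw [hr, v_le_exp_iff _ (iota_ne hrc), hfac, map_mul, map_pow,
        ord_mul _ (pow_ne_zero _ (iota_ne (X_sub_C_ne_zero β))) (iota_ne (fun e : r' = 0 => hr' (e ▸ dvd_zero _))), ord_pow,
        ord_irreducible (irreducible_X_sub_C β) hP', ord_eq_zero_of_not_dvd (irreducible_X_sub_C β) hP' hr'] at h1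
      have h3 := congrArg natDegree hfac
      rw [natDegree_comp, natDegree_X_sub_C, mul_one, natDegree_mul (pow_ne_zero _ (X_sub_C_ne_zero β))
        (fun e : r' = 0 => hr' (e ▸ dvd_zero _)), natDegree_pow, natDegree_X_sub_C, mul_one] at h3
      omega
    have hcoeff : ∀ β (j : ℕ), (pp β).coeff j = ∑ l ∈ S with (idx l : k) = β ∧ lvl l = j, g l := fun β j => by
      rw [hpp, finsetSum_coeff, ← Finset.filter_filter, Finset.sum_filter (fun l => lvl l = j)]
      refine Finset.sum_congr rfl fun l _ => ?_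
      rw [coeff_C_mul_X_pow]
      exact if_congr eq_comm rfl rfl
    have hb00 : b₀ = 0 := by
      have := congrArg (Polynomial.coeff · 0) (hppC 0 h0)
      simp only [hcoeff, coeff_C_zero] at this
      rw [← this]
      refine Finset.sum_eq_zero fun l hl => ?_
      obtain ⟨-, h1, h2'⟩ := Finset.mem_filter.1 hl
      rcases l with a' | b'
      · exact absurd h2' (show a'.1.2 ≠ 0 from Nat.one_le_iff_ne_zero.1 a'.2.1)
      · exact absurd h1 b'.2
    have hi' := congrArg (Polynomial.coeff · (lvl i)) (hppC _ (idx i).2)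
    simp only [hcoeff] at hi'
    rw [Finset.sum_eq_single i (fun l hl hne => absurd (hinj l i (Subtype.ext (Finset.mem_filter.1 hl).2.1)
      (Finset.mem_filter.1 hl).2.2) hne) (fun h => absurd (Finset.mem_filter.2 ⟨hi, rfl, rfl⟩) h)] at hi'
    rw [hi', hb00, map_zero, coeff_zero]
  refine ⟨hadele, hli, fun a ha => ?_⟩
  -- counting
  let e₁ : {a : ↥B × ℕ // 1 ≤ a.2 ∧ 2 * a.2 + 1 ≤ d (a.1 : k)} ≃ Σ α : ↥B, ↥(Finset.Icc 1 (c α)) :=
    { toFun := fun a => ⟨a.1.1, ⟨a.1.2, Finset.mem_Icc.2 ⟨a.2.1, show a.1.2 ≤ (d (a.1.1 : k) - 1) / 2 by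
        have := a.2.2; omega⟩⟩⟩
      invFun := fun p => ⟨(p.1, p.2.1), (Finset.mem_Icc.1 p.2.2).1, by
        have h1 : p.2.1 ≤ (d (p.1 : k) - 1) / 2 := (Finset.mem_Icc.1 p.2.2).2
        obtain ⟨r, hr⟩ := hd _ p.1.2
        show 2 * p.2.1 + 1 ≤ d (p.1 : k)
        omega⟩
      left_inv := fun a => rfl
      right_inv := fun p => rfl }
  let e₂ : {b : ↥B // (b : k) ≠ 0} ≃ ↥(B.erase 0) :=
    { toFun := fun b => ⟨b.1, Finset.mem_erase.2 ⟨b.2, b.1.2⟩⟩
      invFun := fun x => ⟨⟨x.1, Finset.mem_of_mem_erase x.2⟩, (Finset.mem_erase.1 x.2).1⟩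
      left_inv := fun b => rfl
      right_inv := fun x => rfl }
  let _f1 : Fintype {a : ↥B × ℕ // 1 ≤ a.2 ∧ 2 * a.2 + 1 ≤ d (a.1 : k)} := Fintype.ofEquiv _ e₁.symm
  let _f2 : Fintype {b : ↥B // (b : k) ≠ 0} := Fintype.ofEquiv _ e₂.symm
  have hcard : (Fintype.card ({a : ↥B × ℕ // 1 ≤ a.2 ∧ 2 * a.2 + 1 ≤ d (a.1 : k)} ⊕ {b : ↥B // (b : k) ≠ 0}) : ℤ) =
      FunFld.genus k K := by
    rw [Fintype.card_sum, Fintype.card_congr e₁, Fintype.card_congr e₂, Fintype.card_sigma, Fintype.card_coe,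
      Finset.card_erase_of_mem h0, genus_as_finite hd hpole hint h2 hK hdeg hy heq]
    simp only [Fintype.card_coe, Nat.card_Icc, Nat.add_sub_cancel]
    rw [Finset.sum_coe_sort B c]
    push_cast
    rw [Finset.sum_add_distrib, Finset.sum_const, nsmul_one]
    have : 1 ≤ B.card := Finset.card_pos.2 ⟨0, h0⟩
    simp only [hc]
    push_cast [Nat.cast_sub this]
    ring
  obtain ⟨hfd, hfr⟩ := finite_adele_quotient hK (0 : FunFld.Divisor k K)
  rw [delta_zero hK, sub_zero] at hfr
  let j : (↥(FunFld.adele k K) ⧸ FunFld.ADK (0 : FunFld.Divisor k K)) →ₗ[k] (FunFld.Place k K → K) ⧸ W :=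
    Submodule.mapQ _ _ (FunFld.adele k K).subtype le_rfl
  have hle : Submodule.span k (Set.range fun i => W.mkQ (e i)) ≤ LinearMap.range j := Submodule.span_le.2 (by
    rintro _ ⟨i, rfl⟩
    exact ⟨Submodule.Quotient.mk ⟨e i, hadele i⟩, rfl⟩)
  have heq' := Submodule.eq_of_le_of_finrank_le hle (by
    rw [finrank_span_eq_card hli]
    refine (LinearMap.finrank_range_le j).trans ?_
    omega)
  have hmem : W.mkQ a ∈ Submodule.span k (Set.range fun i => W.mkQ (e i)) :=
    heq' ▸ ⟨Submodule.Quotient.mk ⟨a, ha⟩, rfl⟩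
  rw [show (fun i => W.mkQ (e i)) = W.mkQ ∘ e from rfl, Set.range_comp, ← Submodule.map_span] at hmem
  have := Submodule.mem_comap.2 hmem
  rwa [Submodule.comap_map_mkQ] at this

end Groth.Agent.S19046
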