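import Groth.Statements.S19047
import Groth.Agent.FFLib.ASAdele
-- import your own Groth.Agent.* helpers here

set_option autoImplicit false
universe u v
open Classical
open FunFld

namespace Groth.Agent.S19047

/-- Let `k` be algebraically closed of characteristic `2`, `K = k(x, y)` with `y² + y = f(x)` separable
of degree `2` over `k(x)`, `B ⊆ k` a finite set containing `0` with `f` having a pole of odd order
`d_β` at `x = β` for `β ∈ B` and integral elsewhere, `c_β = (d_β - 1)/2`, and `P_β` a place of `K`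
above `x = β`. With `H¹(X, O)` of the smooth projective model written as repartitions modulo `W =
A(0) + K` (everywhere-integral repartitions plus constants) and its Frobenius induced by
componentwise squaring, for `α ∈ B` and `j ≥ 0`: the Frobenius of the class of the repartition
supported at `P_α` with value `y (x - α)^j` is the class of the one with value `y (x - α)^{2j}` when
`2j ≤ c_α`, and is `0` when `2j > c_α`. -/
theorem result (k : Type u) (K : Type v)
    [Field k] [IsAlgClosed k] [CharP k 2] [Field K] [Algebra k K] [Algebra (RatFunc k) K] [IsScalarTower k (RatFunc k) K]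
    (hK : FunFld.IsFunctionField k K) (hdeg : Module.finrank (RatFunc k) K = 2) [Algebra.IsSeparable (RatFunc k) K]
    (y : K) (hy : y ∉ Set.range (algebraMap (RatFunc k) K)) (f : RatFunc k)
    (heq : y ^ 2 + y = algebraMap (RatFunc k) K f)
    (B : Finset k) (h0 : (0 : k) ∈ B) (d : k → ℕ) (hd : ∀ β ∈ B, Odd (d β))
    (hpole : ∀ (p : FunFld.Place k (RatFunc k)) (β : k), β ∈ B →
      p.1 ((RatFunc.X : RatFunc k) - RatFunc.C β) < 1 → p.ord f = -(d β : ℤ))
    (hint : ∀ p : FunFld.Place k (RatFunc k), (∀ β ∈ B, 1 ≤ p.1 ((RatFunc.X : RatFunc k) - RatFunc.C β)) → p.1 f ≤ 1)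
    (Pl : k → FunFld.Place k K) (hPl : ∀ β ∈ B, (Pl β).1 ((algebraMap (RatFunc k) K RatFunc.X) - (algebraMap k K β)) < 1)
    (α : k) (hα : α ∈ B) (j : ℕ) :
    (4 * j + 1 ≤ d α → (Pi.single (Pl α) ((y * ((algebraMap (RatFunc k) K RatFunc.X) - (algebraMap k K α)) ^ j) ^ 2) : FunFld.Place k K → K) - (Pi.single (Pl α) (y * ((algebraMap (RatFunc k) K RatFunc.X) - (algebraMap k K α)) ^ (2 * j)) : FunFld.Place k K → K) ∈ (FunFld.AD (0 : FunFld.Divisor k K) ⊔ LinearMap.range (FunFld.diag k K))) ∧
    (d α < 4 * j + 1 → (Pi.single (Pl α) ((y * ((algebraMap (RatFunc k) K RatFunc.X) - (algebraMap k K α)) ^ j) ^ 2) : FunFld.Place k K → K) ∈ (FunFld.AD (0 : FunFld.Divisor k K) ⊔ LinearMap.range (FunFld.diag k K))) := by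
  open Groth.Agent.FFLib WithZero in
  have h2 : ringChar k = 2 := ringChar.eq k 2
  have : FiniteDimensional (RatFunc k) K := Module.finite_of_finrank_eq_succ hdeg
  have hR := fg1_ratFunc (k := k)
  choose Pt hPt using exists_place_ratX (k := k)
  set W : Submodule k (FunFld.Place k K → K) := FunFld.AD (0 : FunFld.Divisor k K) ⊔ LinearMap.range (FunFld.diag k K)
    with hW
  have hxα : algebraMap (RatFunc k) K RatFunc.X - algebraMap k K α =
      algebraMap (RatFunc k) K ((RatFunc.X : RatFunc k) - RatFunc.C α) := by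
    rw [map_sub, ← RatFunc.algebraMap_eq_C, ← IsScalarTower.algebraMap_apply]
  have hu := isOverWith_under hR (Pl α)
  have hlt : (underPlace hR (Pl α)).1 ((RatFunc.X : RatFunc k) - RatFunc.C α) < 1 := by
    rw [← isOverWith_lt_one_iff hu, ← hxα]; exact hPl α hα
  have hPeq : underPlace hR (Pl α) = Pt α :=
    place_eq_fin (Polynomial.irreducible_X_sub_C α) (ratX_sub_C α ▸ hPt α) (ratX_sub_C α ▸ hlt)
  have hidx := as_idx hdeg h2 hy heq hu fun hn => odd_of_neg hd hpole hint hn
  rw [if_pos (by rw [hpole _ α hα hlt]; obtain ⟨r, hr⟩ := hd α hα; omega)] at hidx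
  have hov : IsOverWith (Pl α) (Pt α) 2 := by rw [← hPeq, ← hidx]; exact hu
  set T := (RatFunc.X : RatFunc k) - RatFunc.C α with hT
  -- components from the line are classes of zero
  have hline : ∀ g : RatFunc k, (Pi.single (Pl α) (algebraMap (RatFunc k) K g) : FunFld.Place k K → K) ∈ W := by
    intro g
    obtain ⟨hfd, hfr⟩ := finite_adele_quotient (isFunctionField_ratFunc (k := k)) (0 : FunFld.Divisor k (RatFunc k))
    rw [delta_zero isFunctionField_ratFunc, genus_ratFunc, sub_zero] at hfr
    have hsub : Subsingleton (↥(FunFld.adele k (RatFunc k)) ⧸ FunFld.ADK (0 : FunFld.Divisor k (RatFunc k))) :=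
      Module.finrank_zero_iff.1 (by exact_mod_cast hfr)
    have hga : (Pi.single (Pt α) g : FunFld.Place k (RatFunc k) → RatFunc k) ∈ FunFld.adele k (RatFunc k) := by
      rw [mem_adele, Filter.eventually_cofinite]
      refine (Set.finite_singleton (Pt α)).subset fun P hP => ?_
      by_contra hne
      refine hP ?_
      rw [Pi.single_eq_of_ne hne, map_zero]
      exact zero_le
    have hmem := mem_ADK.1 ((Submodule.Quotient.mk_eq_zero _).1
      (Subsingleton.elim (Submodule.Quotient.mk ⟨_, hga⟩ :
        ↥(FunFld.adele k (RatFunc k)) ⧸ FunFld.ADK (0 : FunFld.Divisor k (RatFunc k))) 0))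
    obtain ⟨w, hw, _, ⟨r, rfl⟩, hwr⟩ := Submodule.mem_sup.1 hmem
    have hnear : ∀ P : FunFld.Place k (RatFunc k), P.1 ((Pi.single (Pt α) g : FunFld.Place k (RatFunc k) → RatFunc k) P - r) ≤ 1 := fun P => by
      have h := congrFun hwr P
      rw [Pi.add_apply, show FunFld.diag k (RatFunc k) r P = r from rfl] at h
      rw [show (Pi.single (Pt α) g : FunFld.Place k (RatFunc k) → RatFunc k) P - r = w P from sub_eq_of_eq_add h.symm]
      simpa using hw P
    refine Submodule.mem_sup.2 ⟨Pi.single (Pl α) (algebraMap (RatFunc k) K g) - FunFld.diag k K (algebraMap (RatFunc k) K r),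
      fun Q => ?_, _, ⟨_, rfl⟩, sub_add_cancel _ _⟩
    rw [Finsupp.zero_apply, exp_zero, Pi.sub_apply,
      show FunFld.diag k K (algebraMap (RatFunc k) K r) Q = algebraMap (RatFunc k) K r from rfl]
    have hQ := isOverWith_under hR Q
    by_cases h : Q = Pl α
    · subst h
      rw [Pi.single_eq_same, ← map_sub]
      have := hnear (Pt α)
      rw [Pi.single_eq_same] at this
      exact (isOverWith_le_one_iff hov _).2 this
    · rw [Pi.single_eq_of_ne h, zero_sub, Valuation.map_neg]
      have hne : underPlace hR Q ≠ Pt α := fun e => h ((ramified_unique hR hdeg hov).2 Q ⟨_, e ▸ hQ⟩)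
      have := hnear (underPlace hR Q)
      rw [Pi.single_eq_of_ne hne, zero_sub, Valuation.map_neg] at this
      exact (isOverWith_le_one_iff hQ _).2 this
  have hK2 : (2 : K) = 0 := by
    rw [← map_ofNat (algebraMap k K) 2, show (2 : k) = 0 by exact_mod_cast CharP.cast_eq_zero k 2, map_zero]
  have hsq : (y * (algebraMap (RatFunc k) K RatFunc.X - algebraMap k K α) ^ j) ^ 2 =
      algebraMap (RatFunc k) K (f * T ^ (2 * j)) + y * (algebraMap (RatFunc k) K RatFunc.X - algebraMap k K α) ^ (2 * j) := by
    rw [hxα, mul_pow, ← pow_mul, mul_comm j 2, map_mul, map_pow]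
    linear_combination (algebraMap (RatFunc k) K T ^ (2 * j)) * heq
      - (y * algebraMap (RatFunc k) K T ^ (2 * j)) * hK2
  refine ⟨fun _ => ?_, fun hlarge => ?_⟩
  · rw [← Pi.single_sub, hsq, add_sub_cancel_right]
    exact hline _
  · rw [hsq, Pi.single_add]
    refine W.add_mem (hline _) (Submodule.mem_sup_left fun Q => ?_)
    rw [Finsupp.zero_apply, exp_zero]
    by_cases h : Q = Pl α
    swap
    · rw [Pi.single_eq_of_ne h, map_zero]; exact zero_le
    subst h
    rw [Pi.single_eq_same, hxα]
    have hy0 : y ≠ 0 := fun e => hy ⟨0, by rw [e, map_zero]⟩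
    have hT0 : T ≠ 0 := ratX_sub_C_ne α
    have hfneg : (Pt α).ord f = -(d α : ℤ) := hpole _ α hα (hPt α)
    have hf0 : f ≠ 0 := fun e => by
      rw [e, ord_zero] at hfneg
      obtain ⟨r, hr⟩ := hd α hα
      omega
    have hgt : 1 < (Pl α).1 y := by
      by_contra hle
      have h2' : (Pl α).1 (algebraMap (RatFunc k) K f) ≤ 1 := by
        rw [← heq]
        refine (Valuation.map_add _ _ _).trans (max_le ?_ (not_lt.1 hle))
        rw [map_pow]; exact pow_le_one₀ zero_le (not_lt.1 hle)
      have := (v_le_one_iff (Pt α) f).1 ((isOverWith_le_one_iff hov f).1 h2')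
      obtain ⟨r, hr⟩ := hd α hα
      omega
    have hord : (Pl α).ord y = -(d α : ℤ) := by
      have hv : (Pl α).1 (algebraMap (RatFunc k) K f) = (Pl α).1 (y ^ 2) := by
        rw [← heq]
        exact Valuation.map_add_eq_of_lt_left _ (by rw [map_pow, sq]; exact lt_mul_of_one_lt_left (zero_lt_one.trans hgt) hgt)
      have h2y : (Pl α).ord (algebraMap (RatFunc k) K f) = 2 * (Pl α).ord y := by
        rw [Place.ord, hv, ← Place.ord, ord_pow]; norm_num
      rw [(isOverWith_iff_ord.1 hov).2 f hf0, hfneg] at h2y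
      omega
    rw [v_le_one_iff, ord_mul _ hy0 (pow_ne_zero _ ((_root_.map_ne_zero _).2 hT0)), ord_pow,
      (isOverWith_iff_ord.1 hov).2 T hT0, ord_at_ratX (hPt α), hord]
    obtain ⟨r, hr⟩ := hd α hα
    push_cast
    omega

end Groth.Agent.S19047
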