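import Groth.Statements.S19049
import Groth.Agent.HilbPtsLib.Closed
import Mathlib.AlgebraicGeometry.Sites.Fpqc
import Mathlib.AlgebraicGeometry.Morphisms.FlatRank

set_option autoImplicit false
set_option backward.isDefEq.respectTransparency false
set_option backward.isDefEq.respectTransparency.types false
open CategoryTheory CategoryTheory.Limits AlgebraicGeometry
universe u
open HilbD

namespace Groth.Agent.S19049
open HilbPts

section
variable {C B S : Scheme.{u}} (π : C ⟶ B) (b : B ⟶ S)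

/-- The comparison `C ×_B T ⟶ C ×_S T`. -/
noncomputable def φ {T : Scheme.{u}} (t : T ⟶ B) : pullback π t ⟶ pullback (π ≫ b) (t ≫ b) :=
  pullback.mapDesc π t b

instance [IsSeparated b] {T : Scheme.{u}} (t : T ⟶ B) : IsClosedImmersion (φ π b t) := by
  unfold φ; infer_instance

@[reassoc]
theorem φ_fst {T : Scheme.{u}} (t : T ⟶ B) : φ π b t ≫ pullback.fst _ _ = pullback.fst π t := by simp [φ, pullback.mapDesc]

@[reassoc]
theorem φ_snd {T : Scheme.{u}} (t : T ⟶ B) : φ π b t ≫ pullback.snd _ _ = pullback.snd π t := by simp [φ, pullback.mapDesc]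

theorem φ_m {T T' : Scheme.{u}} {t : T ⟶ B} {t' : T' ⟶ B} (h : T' ⟶ T) (w : h ≫ t = t')
    (w' : h ≫ t ≫ b = t' ≫ b) : m π h w ≫ φ π b t = φ π b t' ≫ m (π ≫ b) h w' :=
  pullback.hom_ext (by simp [φ, pullback.mapDesc]) (by simp [φ, pullback.mapDesc])

theorem map_comap_φ [IsSeparated b] {T T' : Scheme.{u}} {t : T ⟶ B} {t' : T' ⟶ B} (h : T' ⟶ T) (w : h ≫ t = t')
    (w' : h ≫ t ≫ b = t' ≫ b) (A : (pullback π t).IdealSheafData) :
    (A.map (φ π b t)).comap (m (π ≫ b) h w') = (A.comap (m π h w)).map (φ π b t') := by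
  have sq : IsPullback (φ π b t') (m π h w) (m (π ≫ b) h w') (φ π b t) := by
    refine (IsPullback.of_bot (h₂₁ := m (π ≫ b) h w') ?_ (φ_m π b h w w') (isPullback_m (π ≫ b) h w')).flip
    rw [φ_snd, φ_snd]
    exact isPullback_m π h w
  have hk : (φ π b t').ker = (φ π b t).ker.comap (m (π ≫ b) h w') := by
    rw [← Scheme.IdealSheafData.ker_fst_of_isClosedImmersion, ← sq.isoPullback_inv_fst,
      Scheme.Hom.ker_comp_of_isIso]
  have hle : (φ π b t').ker ≤ (A.map (φ π b t)).comap (m (π ≫ b) h w') :=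
    hk.le.trans (Scheme.IdealSheafData.comap_mono _ ((Scheme.IdealSheafData.map_bot _).symm.le.trans
      (Scheme.IdealSheafData.map_mono _ bot_le)))
  rw [← eq_map_comap_of_le (φ π b t') _ hle, ← Scheme.IdealSheafData.comap_comp, ← φ_m π b h w w',
    Scheme.IdealSheafData.comap_comp, ModPairLib.comap_map_eq]

theorem prop_map_φ [IsSeparated b] {T : Scheme.{u}} (t : T ⟶ B) (A : (pullback π t).IdealSheafData) (d : ℕ) :
    Mor2.IsFinLocFreeOfDeg d ((A.map (φ π b t)).subschemeι ≫ pullback.snd _ _) ↔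
      Mor2.IsFinLocFreeOfDeg d (A.subschemeι ≫ pullback.snd π t) := by
  have e : (A.subschemeι ≫ φ π b t) ≫ pullback.snd _ _ = A.subschemeι ≫ pullback.snd π t := by
    rw [Category.assoc, φ_snd]
  rw [← e]
  exact prop_ker (A.subschemeι ≫ φ π b t) _

theorem pull_comp {f : C ⟶ S} {P Q R : Over S} (p : P ⟶ Q) (q : Q ⟶ R) (I : (PicF.XT f R).IdealSheafData) :
    HilbD.pull f (p ≫ q) I = HilbD.pull f p (HilbD.pull f q I) := by
  rw [pull_eq, pull_eq, pull_eq, ← Scheme.IdealSheafData.comap_comp, m_comp]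
  rfl

/-- For a finite locally free family lying in `C ×_B T`, the composite to `B` comes from the base. -/
theorem comp_eq_of_le [IsSeparated b] {T : Scheme.{u}} (t : T ⟶ B) (A : (pullback (π ≫ b) (t ≫ b)).IdealSheafData)
    (hA : (φ π b t).ker ≤ A) :
    A.subschemeι ≫ pullback.fst _ _ ≫ π = (A.subschemeι ≫ pullback.snd _ _) ≫ t := by
  have hl := IsClosedImmersion.lift_fac (φ π b t) A.subschemeι (hA.trans A.ker_subschemeι.ge)
  rw [← hl]
  simp only [Category.assoc, φ_fst_assoc, φ_snd_assoc, pullback.condition]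

/-- Hilbert schemes of points relative to `B` are closed in those relative to `S`. -/
theorem isClosedImmersion_of_universal [IsSeparated b] {f₀ : C ⟶ S} (hf : π ≫ b = f₀) {ℓ : ℕ} (hℓ : 0 < ℓ)
    (H₀ : Over S) (Z₀ : HilbD.Obj f₀ ℓ H₀) (hZ₀ : HilbD.IsUniversal f₀ ℓ H₀ Z₀)
    (H' : Over B) (Z' : HilbD.Obj π ℓ H') (hZ' : HilbD.IsUniversal π ℓ H' Z')
    (a : Over.mk (H'.hom ≫ b) ⟶ H₀)
    (ha : HilbD.pull f₀ a Z₀.1 = Z'.1.map (φ π b H'.hom ≫ (pullback.congrHom hf rfl).hom)) :
    IsClosedImmersion a.left := by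
  subst hf
  rw [pullback.congrHom_hom, pullback.map_id, Category.comp_id] at ha
  -- the pairs of points of a fibre of the universal family
  let pW := Z₀.1.subschemeι ≫ pullback.snd (π ≫ b) H₀.hom
  let β := Z₀.1.subschemeι ≫ pullback.fst (π ≫ b) H₀.hom ≫ π
  have hβ : β ≫ b = pW ≫ H₀.hom := by simp only [β, pW, Category.assoc, pullback.condition]
  let e₁ := pullback.fst pW pW ≫ β
  let e₂ := pullback.snd pW pW ≫ β
  have he : e₁ ≫ b = e₂ ≫ b := by
    simp only [e₁, e₂, Category.assoc, hβ, pullback.condition_assoc]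
  let J := (pullback.diagonal b).ker.comap (pullback.lift e₁ e₂ he)
  have hE : Mor2.IsFinLocFree (pullback.fst pW pW ≫ pW) := by
    obtain ⟨h1, h2, h3⟩ := Z₀.2.1
    haveI : IsFinite pW := h1
    haveI : Flat pW := h2
    haveI : LocallyOfFinitePresentation pW := h3
    exact ⟨inferInstance, inferInstance, inferInstance⟩
  obtain ⟨K, hK⟩ := exists_locus hE J
  have hcrit : ∀ {T : Scheme.{u}} (h : T ⟶ H₀.left), K.comap h = ⊥ ↔
      pullback.fst (pullback.fst pW pW ≫ pW) h ≫ e₁ = pullback.fst (pullback.fst pW pW ≫ pW) h ≫ e₂ := by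
    intro T h
    rw [← hK h, Full, ← Scheme.IdealSheafData.comap_comp, comap_eq_bot_iff]
    constructor
    · intro hle
      have hl := IsClosedImmersion.lift_fac (pullback.diagonal b)
        (pullback.fst (pullback.fst pW pW ≫ pW) h ≫ pullback.lift e₁ e₂ he) hle
      have h1 := congrArg (· ≫ pullback.fst b b) hl
      have h2 := congrArg (· ≫ pullback.snd b b) hl
      simp only [Category.assoc, pullback.diagonal_fst, pullback.diagonal_snd, pullback.lift_fst, pullback.lift_snd] at h1 h2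
      rw [← h1, ← h2]
    · intro heq
      have : pullback.fst (pullback.fst pW pW ≫ pW) h ≫ pullback.lift e₁ e₂ he =
          (pullback.fst (pullback.fst pW pW ≫ pW) h ≫ e₁) ≫ pullback.diagonal b :=
        pullback.hom_ext (by simp) (by simp [heq])
      rw [this]
      exact Scheme.Hom.le_ker_comp _ _
  -- the classifying map factors through the locus
  have hT : (φ π b H'.hom).ker ≤ Z'.1.map (φ π b H'.hom) :=
    (Scheme.IdealSheafData.map_bot _).symm.le.trans (Scheme.IdealSheafData.map_mono _ bot_le)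
  rw [pull_eq] at ha
  let A' := Z₀.1.comap (m (π ≫ b) a.left (Over.w a))
  have hA' : A' = Z'.1.map (φ π b H'.hom) := ha
  have hAβ : A'.subschemeι ≫ pullback.fst _ _ ≫ π = (A'.subschemeι ≫ pullback.snd _ _) ≫ H'.hom :=
    comp_eq_of_le π b H'.hom A' (hA' ▸ hT)
  let sqA := isPullback_comap_m (π ≫ b) a.left (Over.w a) Z₀.1
  let top := (Z₀.1.comapIso (m (π ≫ b) a.left (Over.w a))).hom ≫ pullback.snd (m (π ≫ b) a.left (Over.w a)) Z₀.1.subschemeι
  have htop : top ≫ β = (A'.subschemeι ≫ pullback.snd _ _) ≫ H'.hom := by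
    refine Eq.trans ?_ hAβ
    simp only [top, β, ← Category.assoc]
    rw [show ((Z₀.1.comapIso (m (π ≫ b) a.left (Over.w a))).hom ≫
        pullback.snd (m (π ≫ b) a.left (Over.w a)) Z₀.1.subschemeι) ≫ Z₀.1.subschemeι =
      A'.subschemeι ≫ m (π ≫ b) a.left (Over.w a) from (isPullback_comap Z₀.1 _).w]
    simp
  have hKa : K.comap a.left = ⊥ := by
    rw [hcrit]
    let P := pullback (pullback.fst pW pW ≫ pW) a.left
    have key : ∀ w : P ⟶ Z₀.1.subscheme, w ≫ pW = pullback.snd _ _ ≫ a.left →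
        w ≫ β = pullback.snd _ _ ≫ H'.hom := by
      intro w hw
      let z := sqA.lift w (pullback.snd _ _) hw
      rw [← sqA.lift_fst w (pullback.snd _ _) hw, Category.assoc, htop, ← Category.assoc, sqA.lift_snd]
    simp only [e₁, e₂, ← Category.assoc]
    rw [key, key]
    · rw [Category.assoc, ← pullback.condition, pullback.condition]
    · rw [Category.assoc, pullback.condition]
  let k₀ := K.subschemeι
  have hk₀ : K.comap k₀ = ⊥ := (comap_eq_bot_iff _ _).2 K.ker_subschemeι.ge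
  let a' := IsClosedImmersion.lift k₀ a.left (K.ker_subschemeι.le.trans ((comap_eq_bot_iff _ _).1 hKa))
  have ha' : a' ≫ k₀ = a.left := IsClosedImmersion.lift_fac _ _ _
  -- descend the map to `B` along the family over the locus
  let mK := m (π ≫ b) k₀ (rfl : k₀ ≫ H₀.hom = _)
  let AK := Z₀.1.comap mK
  let pV := AK.subschemeι ≫ pullback.snd (π ≫ b) (k₀ ≫ H₀.hom)
  let topK := (Z₀.1.comapIso mK).hom ≫ pullback.snd mK Z₀.1.subschemeι
  have sqK : IsPullback topK pV pW k₀ := isPullback_comap_m (π ≫ b) k₀ rfl Z₀.1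
  have hpV : Mor2.IsFinLocFreeOfDeg ℓ pV := isFinLocFreeOfDeg_of_isPullback sqK Z₀.2
  haveI : IsFinite pV := hpV.1.1
  haveI : Flat pV := hpV.1.2.1
  haveI : LocallyOfFinitePresentation pV := hpV.1.2.2
  haveI : Surjective pV :=
    (Scheme.Hom.one_le_finrank_iff_surjective pV).1 fun y => by
      rw [Pi.one_apply, hpV.2 y]; exact hℓ
  haveI : EffectiveEpi pV := inferInstance
  obtain ⟨bK, hbK⟩ : ∃ bK, pV ≫ bK = topK ≫ β := by
    refine ⟨EffectiveEpi.desc pV (topK ≫ β) fun {W} g₁ g₂ hg => ?_, EffectiveEpi.fac _ _ _⟩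
    have hw : (g₁ ≫ topK) ≫ pW = (g₂ ≫ topK) ≫ pW := by
      rw [Category.assoc g₁, Category.assoc g₂, sqK.w, ← Category.assoc g₁, ← Category.assoc g₂, hg]
    let w : W ⟶ pullback (pullback.fst pW pW ≫ pW) k₀ :=
      pullback.lift (pullback.lift (g₁ ≫ topK) (g₂ ≫ topK) hw) (g₁ ≫ pV) (by simp [sqK.w])
    have := congrArg (w ≫ ·) ((hcrit k₀).1 hk₀)
    simpa [w, e₁, e₂] using this
  haveI : Epi pV := inferInstance
  have hbKb : bK ≫ b = k₀ ≫ H₀.hom := by
    rw [← cancel_epi pV, ← Category.assoc, hbK, Category.assoc, hβ, ← Category.assoc, sqK.w, Category.assoc]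
  -- the family over the locus lies in `C ×_B K`
  let ι' : pullback (π ≫ b) (k₀ ≫ H₀.hom) ⟶ pullback (π ≫ b) (bK ≫ b) := (pullback.congrHom rfl hbKb.symm).hom
  have hι' : ι' = m (π ≫ b) (𝟙 K.subscheme) (by rw [Category.id_comp, hbKb]) := pullback.hom_ext (by simp [ι']) (by simp [ι'])
  let mK' := m (π ≫ b) k₀ (hbKb.symm : k₀ ≫ H₀.hom = bK ≫ b)
  let AK' := Z₀.1.comap mK'
  have sqK' := isPullback_comap_m (π ≫ b) k₀ hbKb.symm Z₀.1
  have hmul : AK'.subschemeι ≫ pullback.fst _ _ ≫ π = (AK'.subschemeι ≫ pullback.snd _ _) ≫ bK := by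
    let topK' := (Z₀.1.comapIso mK').hom ≫ pullback.snd mK' Z₀.1.subschemeι
    let u := sqK.lift topK' (AK'.subschemeι ≫ pullback.snd _ _) sqK'.w
    have h1 : u ≫ topK = topK' := sqK.lift_fst _ _ _
    have h2 : u ≫ pV = AK'.subschemeι ≫ pullback.snd _ _ := sqK.lift_snd _ _ _
    rw [← h2, Category.assoc u, hbK, ← Category.assoc u, h1]
    simp only [β, topK', ← Category.assoc]
    rw [show ((Z₀.1.comapIso mK').hom ≫ pullback.snd mK' Z₀.1.subschemeι) ≫ Z₀.1.subschemeι =
      AK'.subschemeι ≫ mK' from (isPullback_comap Z₀.1 mK').w]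
    simp [mK']
  have hAK : (φ π b bK).ker ≤ AK' := by
    let l : AK'.subscheme ⟶ pullback π bK :=
      pullback.lift (AK'.subschemeι ≫ pullback.fst _ _) (AK'.subschemeι ≫ pullback.snd _ _)
        (by rw [Category.assoc]; exact hmul)
    have hl : l ≫ φ π b bK = AK'.subschemeι := pullback.hom_ext
      (by rw [Category.assoc, φ_fst, pullback.lift_fst]) (by rw [Category.assoc, φ_snd, pullback.lift_snd])
    rw [← AK'.ker_subschemeι, ← hl]
    exact Scheme.Hom.le_ker_comp _ _
  let H'' : Over B := Over.mk bK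
  let A'' : (pullback π bK).IdealSheafData := AK'.comap (φ π b bK)
  have hA'' : A''.map (φ π b bK) = AK' := eq_map_comap_of_le _ _ hAK
  have hprop : Mor2.IsFinLocFreeOfDeg ℓ (A''.subschemeι ≫ pullback.snd π bK) := by
    rw [← prop_map_φ π b, hA'']
    exact isFinLocFreeOfDeg_of_isPullback sqK' Z₀.2
  obtain ⟨c, hc, -⟩ := hZ' H'' ⟨A'', hprop⟩
  -- the inverse
  let p' := A'.subschemeι ≫ pullback.snd (π ≫ b) (H'.hom ≫ b)
  have hp' : Mor2.IsFinLocFreeOfDeg ℓ p' := isFinLocFreeOfDeg_of_isPullback sqA Z₀.2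
  haveI : IsFinite p' := hp'.1.1
  haveI : Flat p' := hp'.1.2.1
  haveI : LocallyOfFinitePresentation p' := hp'.1.2.2
  haveI : Surjective p' :=
    (Scheme.Hom.one_le_finrank_iff_surjective p').1 fun y => by
      rw [Pi.one_apply, hp'.2 y]; exact hℓ
  haveI : EffectiveEpi p' := inferInstance
  have hab : a' ≫ bK = H'.hom := by
    let u : A'.subscheme ⟶ AK.subscheme := sqK.lift top (p' ≫ a') (by rw [Category.assoc p', ha']; exact sqA.w)
    rw [← cancel_epi p', ← Category.assoc, ← sqK.lift_snd top (p' ≫ a') (by rw [Category.assoc p', ha']; exact sqA.w),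
      Category.assoc, hbK, ← Category.assoc, sqK.lift_fst, htop]
    rfl
  let a'' : H' ⟶ H'' := Over.homMk a' hab
  have hca : c.left ≫ a.left = k₀ := by
    let T : Over S := Over.mk (bK ≫ b)
    let c' : T ⟶ Over.mk (H'.hom ≫ b) := Over.homMk c.left (by
      show c.left ≫ H'.hom ≫ b = bK ≫ b
      rw [← Category.assoc]; exact congrArg (· ≫ b) (Over.w c))
    let k' : T ⟶ H₀ := Over.homMk k₀ hbKb.symm
    have e1 : HilbD.pull (π ≫ b) (c' ≫ a) Z₀.1 = AK' := by
      have hc' : Z'.1.comap (m π c.left (Over.w c)) = A'' := by rw [← pull_eq]; exact hc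
      rw [pull_comp, pull_eq (g := a), show Z₀.1.comap (m (π ≫ b) a.left (Over.w a)) = Z'.1.map (φ π b H'.hom) from hA',
        pull_eq]
      refine (map_comap_φ π b c.left (Over.w c) (Over.w c') Z'.1).trans ?_
      rw [hc']
      exact hA''
    have e2 : HilbD.pull (π ≫ b) k' Z₀.1 = AK' := pull_eq _ _ _
    exact congrArg CommaMorphism.left ((hZ₀ T ⟨_, prop_pull (π ≫ b) k' Z₀⟩).unique (e1.trans e2.symm) rfl)
  have h1 : a'' ≫ c = 𝟙 H' := by
    refine (hZ' H' Z').unique ?_ ((pull_eq _ _ _).trans ((congrArg (Z'.1.comap ·) (m_id π _)).trans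
      (Scheme.IdealSheafData.comap_id _)))
    rw [pull_comp, hc, pull_eq]
    have hw : a' ≫ bK ≫ b = H'.hom ≫ b := by rw [← Category.assoc, hab]
    have := map_comap_φ π b a' hab hw A''
    rw [hA''] at this
    rw [← ModPairLib.comap_map_eq (A''.comap (m π a''.left (Over.w a''))) (φ π b H'.hom),
      ← ModPairLib.comap_map_eq Z'.1 (φ π b H'.hom)]
    refine congrArg (·.comap (φ π b H'.hom)) (Eq.trans this.symm ?_)
    rw [← hA', ← Scheme.IdealSheafData.comap_comp, m_comp]
    congr 2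
  have h2 : c.left ≫ a' = 𝟙 _ := by
    rw [← cancel_mono k₀, Category.assoc, ha', hca, Category.id_comp]
  haveI : IsIso a' := ⟨c.left, congrArg CommaMorphism.left h1, h2⟩
  rw [← ha']
  infer_instance

end

/-- Let k be a field, X a projective k-scheme (proper, with a closed immersion into some projective
space P^n_k over k), B a separated k-scheme locally of finite type, π : C → B a flat proper morphism
and j : C → X a closed immersion compatible with the structure morphisms to Spec k. Let ℓ ≥ 1, let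
(H, Z) represent the degree-ℓ Hilbert functor of points of X over k and let (H', Z') represent the
degree-ℓ Hilbert functor of points of C over B. Then any k-morphism m : H' → H classifying the image
of Z' ⊆ C ×_B H' inside X ×_k H' (that is, the morphism sending a T-point (T → B, W ⊆ C ×_B T) to W
⊆ X ×_k T) is a closed immersion. (The published statement takes π a flat family of curves; fibre
dimension one is not used. Representability of the two Hilbert functors is assumed through the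
representing pairs.) -/
theorem result
    (k : Type u) [Field k] {X B C : Scheme.{u}} (g : X ⟶ Spec (CommRingCat.of k))
    (b : B ⟶ Spec (CommRingCat.of k)) (π : C ⟶ B) (j : C ⟶ X) [IsClosedImmersion j]
    (h : j ≫ g = π ≫ b) [IsProper g]
    (hproj : ∃ (n : ℕ) (ι : X ⟶ CohB1.ProjSpace n k), IsClosedImmersion ι ∧ ι ≫ CohB1.ProjSpace.toSpec n k = g)
    [IsSeparated b] [LocallyOfFiniteType b] [Flat π] [IsProper π]
    (ℓ : ℕ) (hℓ : 0 < ℓ)
    (H : Over (Spec (CommRingCat.of k))) (Z : HilbD.Obj g ℓ H) (hZ : HilbD.IsUniversal g ℓ H Z)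
    (H' : Over B) (Z' : HilbD.Obj π ℓ H') (hZ' : HilbD.IsUniversal π ℓ H' Z')
    (m : Over.mk (H'.hom ≫ b) ⟶ H)
    (hm : HilbD.pull g m Z.1 =
      (Z'.1.subschemeι ≫ pullback.map π H'.hom g (H'.hom ≫ b) j (𝟙 H'.left) b h.symm
        (Category.id_comp _).symm).ker) :
    IsClosedImmersion m.left := by
  obtain ⟨H₀, Z₀, m₀, hm₀, hZm, hZ₀⟩ := exists_closed_universal j g H Z hZ
  let T : Over (Spec (CommRingCat.of k)) := Over.mk (H'.hom ≫ b)
  let ψ : pullback π H'.hom ⟶ pullback (j ≫ g) (H'.hom ≫ b) :=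
    φ π b H'.hom ≫ (pullback.congrHom h.symm rfl).hom
  have hψ : ψ ≫ pullback.snd _ _ = pullback.snd π H'.hom := by simp [ψ, φ, pullback.mapDesc]
  haveI : IsClosedImmersion ψ := inferInstanceAs (IsClosedImmersion (φ π b H'.hom ≫ (pullback.congrHom h.symm rfl).hom))
  have hprop : Mor2.IsFinLocFreeOfDeg ℓ ((Z'.1.map ψ).subschemeι ≫ PicF.XTproj (j ≫ g) T) := by
    refine (prop_ker (Z'.1.subschemeι ≫ ψ) (pullback.snd (j ≫ g) (H'.hom ≫ b))).2 ?_
    rw [Category.assoc, hψ]
    exact Z'.2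
  obtain ⟨a, ha, -⟩ := hZ₀ T ⟨Z'.1.map ψ, hprop⟩
  have hma : m = a ≫ m₀ := (hZ T ⟨_, prop_pull g m Z⟩).unique rfl (by
    show HilbD.pull g (a ≫ m₀) Z.1 = HilbD.pull g m Z.1
    rw [pull_comp, hZm, pull_push, hm]
    show HilbD.push j g T (HilbD.pull (j ≫ g) a Z₀.1) = _
    rw [ha]
    show ((Z'.1.subschemeι ≫ ψ).ker).map (iT j g T.hom) = _
    rw [Scheme.IdealSheafData.map_ker, Category.assoc]
    congr 2
    exact pullback.hom_ext (by simp [ψ, φ, iT, T, pullback.mapDesc, pullback.map]) (by simp [ψ, φ, iT, T, pullback.mapDesc, pullback.map]))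
  haveI := isClosedImmersion_of_universal π b h.symm hℓ H₀ Z₀ hZ₀ H' Z' hZ' a ha
  rw [hma, Over.comp_left]
  infer_instance

end Groth.Agent.S19049
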