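import Groth.Statements.S1907
import Mathlib
import Groth.Agent.CycDivLib.Pull
-- import your own Groth.Agent.* helpers here

set_option autoImplicit false
universe u
open CategoryTheory AlgebraicGeometry
open Cyc

namespace Groth.Agent.S1907

/-- Let Y be integral with δY(η_Y) = k, f : X → Y flat, locally of finite type, of relative dimension r,
and g a nonzero rational function on Y. Then f^*(div_Y g) = Σ_j n_j · div_{X_j}(g|_{X_j}) as (k + r
− 1)-cycles on X, the sum over the irreducible components X_j of X (generic points ξ_j, which map to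
η_Y) with n_j the length of O_{X,ξ_j}, and g|_{X_j} the image of g in κ(ξ_j). A pair (X, δ) with
Cyc.IsSetup plays the role of a scheme locally of finite type over a fixed base with a dimension
function (X locally Noetherian with universally catenary local rings, δ a dimension function), and
Cyc.DeltaCompat records that the dimension function upstairs is the induced one. -/
theorem result (X Y : Scheme.{u}) [IsIntegral Y] (δX : X → ℤ) (δY : Y → ℤ) (hX : Cyc.IsSetup X δX) (hY : Cyc.IsSetup Y δY) (f : X ⟶ Y) [Flat f] [LocallyOfFiniteType f] (r : ℕ) (hr : Cyc.HasRelDim f r) (hδ : Cyc.DeltaCompat f δX δY) (k : ℤ) (hk : δY (genericPoint Y) = k) (g : Y.residueField (genericPoint Y)) (hg : g ≠ 0) (x : X) : Cyc.pullFun f δX δY r (Cyc.divFun δY (genericPoint Y) g) x = ∑ᶠ ξ : {ξ : X // (∀ x' : X, x' ⤳ ξ → x' = ξ) ∧ f ξ = genericPoint Y}, ((Module.length (X.presheaf.stalk ξ.1) (X.presheaf.stalk ξ.1)).toNat : ℤ) * Cyc.divFun δX ξ.1 (f.residueFieldMap ξ.1 ((Y.residueFieldCongr ξ.2.2.symm).hom g)) x := by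
  haveI := hX.1
  rw [CycDivLib.pullFun_divFun f hX hY hr hδ (genericPoint Y) hg x]
  let e : {ζ : X // CycLimLib.IsGen f ζ ∧ f ζ = genericPoint Y} ≃
      {ξ : X // (∀ x' : X, x' ⤳ ξ → x' = ξ) ∧ f ξ = genericPoint Y} :=
    Equiv.subtypeEquivRight fun ζ => and_congr_left fun h => ⟨fun hg z hz => hg z
      (((hz.map f.continuous).trans (specializes_of_eq h)).antisymm (genericPoint_specializes _) |>.eq.trans h.symm) hz,
      fun hm z _ hz => hm z hz⟩
  rw [← finsum_comp_equiv e]
  refine finsum_congr fun ζ => ?_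
  have hbot : CycLimLib.fibIdeal f ζ.1 = ⊥ := by
    have h0 : IsLocalRing.maximalIdeal (Y.presheaf.stalk (f ζ.1)) = ⊥ := by
      refine IsLocalRing.isField_iff_maximalIdeal_eq.1 ?_
      rw [ζ.2.2]
      exact Field.toIsField Y.functionField
    rw [CycLimLib.fibIdeal, h0, Ideal.map_bot]
  rw [hbot, (Submodule.quotEquivOfEqBot (⊥ : Submodule _ (X.presheaf.stalk ζ.1)) rfl).length_eq]
  rfl

end Groth.Agent.S1907
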