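import Groth.Statements.S1905
import Mathlib
import Groth.Agent.S1907
-- import your own Groth.Agent.* helpers here

set_option autoImplicit false
universe u
open CategoryTheory AlgebraicGeometry
open Cyc

namespace Groth.Agent.S1905

/-- Let f : X → Y be a flat morphism, locally of finite type, of relative dimension r between integral
schemes, and g a nonzero rational function on Y, taken in the residue field at f(η_X) (the generic
point of Y). Then f^*(div_Y g) = div_X(g ∘ f) coefficientwise, where g ∘ f is the image of g in
κ(η_X). A pair (X, δ) with Cyc.IsSetup plays the role of a scheme locally of finite type over a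
fixed base with a dimension function (X locally Noetherian with universally catenary local rings, δ
a dimension function), and Cyc.DeltaCompat records that the dimension function upstairs is the
induced one. -/
theorem result (X Y : Scheme.{u}) [IsIntegral X] [IsIntegral Y] (δX : X → ℤ) (δY : Y → ℤ) (hX : Cyc.IsSetup X δX) (hY : Cyc.IsSetup Y δY) (f : X ⟶ Y) [Flat f] [LocallyOfFiniteType f] (r : ℕ) (hr : Cyc.HasRelDim f r) (hδ : Cyc.DeltaCompat f δX δY) (g : Y.residueField (f (genericPoint X))) (hg : g ≠ 0) : Cyc.pullFun f δX δY r (Cyc.divFun δY (f (genericPoint X)) g) = Cyc.divFun δX (genericPoint X) (f.residueFieldMap (genericPoint X) g) := by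
  haveI := hX.1
  have hη : f (genericPoint X) = genericPoint Y := by
    obtain ⟨z, hz, hfz⟩ := (Flat.generalizingMap f) (genericPoint_specializes (f (genericPoint X)))
    rw [(hz.antisymm (genericPoint_specializes z)).eq] at hfz
    exact hfz
  funext x
  let g' : Y.residueField (genericPoint Y) := (Y.residueFieldCongr hη).hom g
  have hback : ∀ {y : Y} (h : f (genericPoint X) = y) (v : Y.residueField (f (genericPoint X))),
      Cyc.divFun δY y ((Y.residueFieldCongr h).hom v) = Cyc.divFun δY (f (genericPoint X)) v ∧
        f.residueFieldMap (genericPoint X) ((Y.residueFieldCongr h.symm).hom ((Y.residueFieldCongr h).hom v)) =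
          f.residueFieldMap (genericPoint X) v := by
    intro y h v
    subst h
    exact ⟨rfl, rfl⟩
  have hg' : g' ≠ 0 := (_root_.map_ne_zero (Y.residueFieldCongr hη).hom.hom).2 hg
  rw [← (hback hη g).1, Groth.Agent.S1907.result X Y δX δY hX hY f r hr hδ _ rfl g' hg' x]
  let ξ₀ : {ξ : X // (∀ x' : X, x' ⤳ ξ → x' = ξ) ∧ f ξ = genericPoint Y} :=
    ⟨genericPoint X, fun z hz => (hz.antisymm (genericPoint_specializes z)).eq, hη⟩
  rw [finsum_eq_single _ ξ₀ fun ζ hζ => absurd (Subtype.ext (ζ.2.1 _ (genericPoint_specializes _)).symm) hζ]
  have h1 : Module.length (X.presheaf.stalk (genericPoint X)) (X.presheaf.stalk (genericPoint X)) = 1 := by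
    rw [Module.length_eq_one_iff, isSimpleModule_self_iff_isUnit]
    exact ⟨inferInstance, fun a ha => isUnit_iff_ne_zero.2 ha⟩
  rw [h1]
  simp only [ENat.toNat_one, Nat.cast_one, one_mul, ξ₀]
  exact congrArg (fun v => Cyc.divFun δX (genericPoint X) v x) (hback hη g).2

end Groth.Agent.S1905
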