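import Groth.Statements.S19053
import Groth.Agent.PicZHilbLib.Main

set_option autoImplicit false
set_option maxHeartbeats 1000000
open CategoryTheory CategoryTheory.Limits AlgebraicGeometry
universe u
open NonPure

namespace Groth.Agent.S19053

/-- Let K be an algebraically closed field and Y an integral K-scheme which is smooth, proper and
projective over K (a closed subscheme of some P^n_K), polarised by an invertible ample O_Y-module L,
and whose Picard group is isomorphic to ℤ. Let ℓ ≥ 1 and let G be a coherent torsion-free O_Y-module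
of generic rank one whose Hilbert polynomial with respect to L is P_{O_Y} − ℓ. Then G is isomorphic
to the ideal sheaf of a closed subscheme Z ⊆ Y which is finite locally free of degree ℓ over K (a
length-ℓ subscheme). (This is the assertion proved in the first two steps of the printed proof, for
the members Y of α, which are assumed smooth with Pic(Y) ≅ ℤ there; the surjectivity statement of
the proposition itself rests on the existence of the good moduli space and is not restated.) -/
theorem result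
    (K : Type u) [Field K] [IsAlgClosed K] (Y : Scheme.{u}) [Y.Over (Spec (CommRingCat.of K))]
    [IsIntegral Y] [Smooth (Y ↘ Spec (CommRingCat.of K))] [IsProper (Y ↘ Spec (CommRingCat.of K))]
    (hproj : ∃ (n : ℕ) (ι : Y ⟶ CohB1.ProjSpace n K), IsClosedImmersion ι ∧
      ι ≫ CohB1.ProjSpace.toSpec n K = Y ↘ Spec (CommRingCat.of K))
    (L : Y.Modules) (hLi : PicF.IsInvertible L) (hLa : CohB1.IsAmple L)
    [PicGrp.Law Y] (hPic : Nonempty (PicLoc.PicSet Y ≃* Multiplicative ℤ))
    (ℓ : ℕ) (hℓ : 0 < ℓ)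
    (G : Y.Modules) (hGc : Coh.IsCoh G) (hGt : TorSh.IsTorsionFree G)
    (hGr : Module.finrank (Y.presheaf.stalk (genericPoint Y)) (G.presheaf.stalk (genericPoint Y)) = 1)
    (hGP : ∃ P : Polynomial ℚ, ShStab.IsHilbPoly K Y L (Coh.structureModule Y) P ∧
      ShStab.IsHilbPoly K Y L G (P - Polynomial.C (ℓ : ℚ))) :
    ∃ Z : Y.IdealSheafData, Mor2.IsFinLocFreeOfDeg ℓ (Z.subschemeι ≫ (Y ↘ Spec (CommRingCat.of K))) ∧
      Nonempty (G ≅ ClSub.idealMod Z) := by
  obtain ⟨n, ι, hι, -⟩ := hproj
  haveI := hι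
  haveI := CurvLib.isNoetherian K (X := Y)
  obtain ⟨ε⟩ := hPic
  obtain ⟨P, hP, hPF⟩ := hGP
  obtain ⟨φ, hφ⟩ := PicZHilbLib.exists_mono hLi hLa ε hGc hGt hGr hP hPF
  haveI : Coh.IsQCoh G := hGc.1
  obtain ⟨Z, θ, -⟩ := SerreExtLib.exists_ideal_of_mono φ
  have hI := HilbPolyLib.isHilbPoly_congr θ hPF
  have hQc := CurvLib.isCoh_quotMod Z
  obtain ⟨R, hR⟩ := HilbPolyLib.exists_isHilbPoly' (k := K) hLi hQc
  have hsum := HilbPolyLib.isHilbPoly_add hLi (CurvLib.idealSeq_shortExact Z) (SurfExtLib.isCoh_idealMod Z)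
    (DevissLib.isCoh_structureModule Y) hQc hI hR
  have hRc : R = Polynomial.C (ℓ : ℚ) := by
    have := HilbPolyLib.isHilbPoly_unique hsum hP
    linear_combination this
  rw [hRc] at hR
  have hdim : topologicalKrullDim (Z.support : Set Y) ≤ 0 := by
    rw [← AVAmpleLib.support_quotMod]
    exact IdealPtLib.dim_le_zero_of_const hLa hQc hR
  refine ⟨Z, ?_, ⟨θ⟩⟩
  letI : Z.subscheme.Over (Spec (CommRingCat.of K)) := ⟨Z.subschemeι ≫ (Y ↘ Spec (CommRingCat.of K))⟩
  haveI : IsProper (Z.subscheme ↘ Spec (CommRingCat.of K)) :=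
    inferInstanceAs (IsProper (Z.subschemeι ≫ (Y ↘ Spec (CommRingCat.of K))))
  refine IdealPtLib.isFinLocFreeOfDeg_of_dim_zero ((((Z.subschemeι.isEmbedding.toHomeomorph.trans
    (Homeomorph.setCongr Z.range_subschemeι)).isHomeomorph.topologicalKrullDim_eq)).le.trans hdim) ?_
  haveI := CurvLib.isNoetherian K (X := Z.subscheme)
  haveI : Coh.IsQCoh (Coh.structureModule Z.subscheme) := (DevissLib.isCoh_structureModule _).1
  rw [(PushLinLib.euler_push K Z.subschemeι rfl (Coh.structureModule Z.subscheme)).2]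
  have h0 := hR 0
  rw [HilbPolyLib.euler_twist, Polynomial.eval_C] at h0
  have h1 : Curv2.euler K Y (CohB1.tensorMod (CohB1.tensorPow L 0) (ClSub.quotMod Z)) =
      Curv2.euler K Y ((Coh.push Z.subschemeι).obj (Coh.structureModule Z.subscheme)) :=
    CurvLib.euler_congr (HilbPolyLib.unitLeft _)
  rw [h1] at h0
  exact_mod_cast h0

end Groth.Agent.S19053
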