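import Groth.Statements.S19055
import Mathlib
import Groth.Agent.CurveVBLib.Basic
import Groth.Agent.PicOneLib.Numer
import Groth.Agent.BlowRegLib.Surface
import Groth.Agent.SurfAmpleLib.Adj
import Groth.Agent.CurvLib.Finite0
import Groth.Agent.AmpleDevLib.Pull
import Groth.Agent.SurfNumLib.Config
-- import your own Groth.Agent.* helpers here

set_option autoImplicit false
open CategoryTheory CategoryTheory.Limits AlgebraicGeometry
universe u
open NonPure

namespace Groth.Agent.S19055

/-- Let K be an algebraically closed field and X a smooth projective surface over K — an integral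
K-scheme, smooth, proper and projective over K, of dimension 2 — polarised by an invertible ample
O_X-module L. Let C₁, C₂ ⊆ X be closed subschemes which are integral of dimension one, with
intersection number I = C₁ · C₂ (computed as χ(O_X) − χ(I_{C₁}) − χ(I_{C₂}) + χ(I_{C₁} ⊗ I_{C₂})),
and let ℓ be a natural number with I < ℓ. If G is a coherent torsion-free O_{C₂}-module of generic
rank one whose Hilbert polynomial with respect to L|_{C₂} is P_{O_{C₂}} − ℓ, then every morphism of
O_X-modules I_{C₁} → i_*G is zero, i : C₂ → X being the inclusion. (This is the verification, at the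
start of the printed proof, that a family of integral curves with constant intersection number I(α)
< ℓ satisfies part (2) of condition (†); the contraction statement of the result itself rests on the
existence of the good moduli space and is not restated.) -/
theorem result
    (K : Type u) [Field K] [IsAlgClosed K] (X : Scheme.{u}) [X.Over (Spec (CommRingCat.of K))]
    [IsIntegral X] [Smooth (X ↘ Spec (CommRingCat.of K))] [IsProper (X ↘ Spec (CommRingCat.of K))]
    (hproj : ∃ (n : ℕ) (ι : X ⟶ CohB1.ProjSpace n K), IsClosedImmersion ι ∧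
      ι ≫ CohB1.ProjSpace.toSpec n K = X ↘ Spec (CommRingCat.of K))
    (hdim : topologicalKrullDim X = 2)
    (L : X.Modules) (hLi : PicF.IsInvertible L) (hLa : CohB1.IsAmple L)
    (C₁ C₂ : X.IdealSheafData) [IsIntegral C₁.subscheme] [IsIntegral C₂.subscheme]
    (hC₁ : topologicalKrullDim ↥C₁.subscheme = 1) (hC₂ : topologicalKrullDim ↥C₂.subscheme = 1)
    (ℓ : ℕ)
    (hℓ : FGA.intNum K X 2 (fun i : Fin 2 => if i = 0 then ClSub.idealMod C₁ else ClSub.idealMod C₂)
      (Coh.structureModule X) < (ℓ : ℤ))
    (G : C₂.subscheme.Modules) (hGc : Coh.IsCoh G) (hGt : TorSh.IsTorsionFree G)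
    (hGr : Module.finrank (C₂.subscheme.presheaf.stalk (genericPoint C₂.subscheme))
        (G.presheaf.stalk (genericPoint C₂.subscheme)) = 1)
    (hGP : letI : C₂.subscheme.Over (Spec (CommRingCat.of K)) := ⟨C₂.subschemeι ≫ (X ↘ Spec (CommRingCat.of K))⟩
       ∃ P : Polynomial ℚ,
        ShStab.IsHilbPoly K C₂.subscheme ((Scheme.Modules.pullback C₂.subschemeι).obj L)
          (Coh.structureModule C₂.subscheme) P ∧
        ShStab.IsHilbPoly K C₂.subscheme ((Scheme.Modules.pullback C₂.subschemeι).obj L) G
          (P - Polynomial.C (ℓ : ℚ)))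
    (φ : ClSub.idealMod C₁ ⟶ (Coh.push C₂.subschemeι).obj G) : φ = 0 := by
  by_contra hφ
  have hX : topologicalKrullDim X = ((2 : ℕ) : WithBot ℕ∞) := by rw [hdim]; rfl
  letI : C₂.subscheme.Over (Spec (CommRingCat.of K)) := ⟨C₂.subschemeι ≫ (X ↘ Spec (CommRingCat.of K))⟩
  haveI : IsProper (C₂.subscheme ↘ Spec (CommRingCat.of K)) :=
    inferInstanceAs (IsProper (C₂.subschemeι ≫ (X ↘ Spec (CommRingCat.of K))))
  haveI := CurvLib.isNoetherian K (X := X)
  haveI := CurvLib.isNoetherian K (X := C₂.subscheme)
  obtain ⟨P, hPO, hPG⟩ := hGP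
  have hs : ∀ C : X.IdealSheafData, topologicalKrullDim ↥C.subscheme = 1 → topologicalKrullDim (C.support : Set X) = 1 :=
    fun C h => ((C.subschemeι.isEmbedding.toHomeomorph.trans
      (Homeomorph.setCongr C.range_subschemeι)).isHomeomorph.topologicalKrullDim_eq).symm.trans h
  have hI1 := IntMultLib.isInvertible_idealMod C₁ (SurfAmpleLib.isEffCartier_curve' K hX C₁ (hs C₁ hC₁))
  have hI2 := IntMultLib.isInvertible_idealMod C₂ (SurfAmpleLib.isEffCartier_curve' K hX C₂ (hs C₂ hC₂))
  have hM := AmpleDevLib.isInvertible_pb C₂.subschemeι hI1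
  let ψ : (Scheme.Modules.pullback C₂.subschemeι).obj (ClSub.idealMod C₁) ⟶ G :=
    ((Scheme.Modules.pullbackPushforwardAdjunction C₂.subschemeι).homEquiv _ _).symm φ
  have hψ : ψ ≠ 0 := fun h => hφ (by
    have h' := congrArg ((Scheme.Modules.pullbackPushforwardAdjunction C₂.subschemeι).homEquiv _ _) h
    simp only [ψ, Equiv.apply_symm_apply] at h'
    rw [h', Adjunction.homEquiv_unit, Functor.map_zero, comp_zero])
  have hMc := CurvLib.isCoh_of_isInvertible hM
  have hMr : CurvLib.genRank ((Scheme.Modules.pullback C₂.subschemeι).obj (ClSub.idealMod C₁)) = 1 :=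
    by
      obtain ⟨U, hU, ⟨e⟩⟩ := hM (genericPoint C₂.subscheme)
      haveI : Nonempty (Fin 1) := ⟨0⟩
      obtain ⟨t⟩ := CurveVBLib.nonempty_stalk_pi_on
        (e ≪≫ (coproductUniqueIso fun _ : Fin 1 => Coh.structureModule (U : Scheme.{u})).symm) hU
      exact t.finrank_eq.trans (Module.finrank_fin_fun _)
  haveI := hGc.1
  haveI : Mono ψ := by
    obtain ⟨v, hv⟩ : ∃ v, FLI.sMap ψ (genericPoint C₂.subscheme) v ≠ 0 := by
      by_contra! hc
      exact hψ (PicOneLib.eq_zero_of_generic hGt ψ hc)
    letI : Field (C₂.subscheme.presheaf.stalk (genericPoint C₂.subscheme)) :=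
      (inferInstance : Field C₂.subscheme.functionField)
    refine PicOneLib.mono_of_generic hMc (PicOneLib.torsionFree_of_isFinLocFree
      (AmpleDevLib.isFinLocFree_of_isInvertible hM)) hGc ψ ((injective_iff_map_eq_zero _).2 fun w hw => ?_)
    obtain ⟨c, hc⟩ := (finrank_eq_one_iff_of_nonzero' v (fun h => hv (by rw [h, map_zero]))).1 hMr w
    rw [← hc, map_smul, smul_eq_zero] at hw
    rw [← hc, hw.resolve_right hv]
    exact zero_smul _ v
  let T : ShortComplex C₂.subscheme.Modules := ShortComplex.mk ψ (cokernel.π ψ) (cokernel.condition ψ)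
  have hT : T.ShortExact :=
    { exact := ShortComplex.exact_of_g_is_cokernel _ (cokernelIsCokernel ψ)
      mono_f := inferInstanceAs (Mono ψ)
      epi_g := inferInstanceAs (Epi (cokernel.π ψ)) }
  have hQ := QCohLib.isCoh_cokernel ψ hMc.1 hGc
  have hr := CurvLib.genRank_add (S := T) hT hMc hGc hQ
  have hη : genericPoint C₂.subscheme ∉ CohB1.support (cokernel ψ) := not_not_intro <| by
    refine PicOneLib.subsingleton_of_genRank hQ ?_
    change CurvLib.genRank G = CurvLib.genRank _ + CurvLib.genRank (cokernel ψ) at hr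
    rw [show CurvLib.genRank G = 1 from hGr, hMr] at hr
    omega
  have hd : topologicalKrullDim (CohB1.support (cokernel ψ)) ≤ 0 := by
    refine (IntFunLib.dim_le_iff (d := 0)).1 (HilbPolyLib.dim_lt_of_notMem (d := 1) (Y := Set.univ)
      (QCohLib.isClosed_support _ hQ.2) ?_ hη (Set.subset_univ _) ?_)
    · rw [(genericPoint_spec C₂.subscheme).def]; intro _ _; trivial
    · refine ((topologicalKrullDim_subspace_le _ _).trans hC₂.le).trans_lt ?_
      exact_mod_cast (show (1 : ℕ) < 1 + 1 by omega)
  have he := CurvLib.euler_add_of_isCoh (k := K) (S := T) hT hMc hGc hQ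
  have hpos := CurvLib.euler_eq_h0 (k := K) hQ hd
  change Curv2.euler K C₂.subscheme G = Curv2.euler K C₂.subscheme _ + Curv2.euler K C₂.subscheme (cokernel ψ) at he
  have hev : ∀ {F : C₂.subscheme.Modules} {Q : Polynomial ℚ},
      ShStab.IsHilbPoly K C₂.subscheme ((Scheme.Modules.pullback C₂.subschemeι).obj L) F Q →
      (Curv2.euler K C₂.subscheme F : ℚ) = Q.eval 0 := fun {F Q} h => by
    have := h 0
    rw [Nat.cast_zero] at this
    rw [← this]
    exact_mod_cast CurvLib.euler_congr (k := K) ((HilbPolyLib.swapIso F (Coh.structureModule C₂.subscheme) ≪≫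
      HilbPolyLib.unitLeft F).symm)
  have hGe : Curv2.euler K C₂.subscheme G = Curv2.euler K C₂.subscheme (Coh.structureModule C₂.subscheme) - ℓ := by
    have h1 := hev hPG
    rw [Polynomial.eval_sub, Polynomial.eval_C, ← hev hPO] at h1
    exact_mod_cast h1
  have hpr := BlowRegLib.pr_divisor (k := K) C₂ hI2 hI1 rfl
  rw [show (fun i : Fin 2 => if i = 0 then ClSub.idealMod C₁ else ClSub.idealMod C₂) =
      ![ClSub.idealMod C₁, ClSub.idealMod C₂] from funext fun i => by fin_cases i <;> rfl,
    SurfNumLib.intNum_eq_pr_two hdim] at hℓ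
  change HodgeIdxLib.pr K (ClSub.idealMod C₁) (ClSub.idealMod C₂) = _ - Curv2.euler K C₂.subscheme
    ((Scheme.Modules.pullback C₂.subschemeι).obj (ClSub.idealMod C₁)) at hpr
  linarith [Int.natCast_nonneg (Module.finrank K (Coh.HH C₂.subscheme (cokernel ψ) 0))]

end Groth.Agent.S19055
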