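import Groth.Statements.S19057
import Groth.Agent.IdealPtLib.Exist

set_option autoImplicit false
set_option backward.isDefEq.respectTransparency false
set_option backward.isDefEq.respectTransparency.types false
set_option maxRecDepth 8000
set_option maxHeartbeats 1000000
open CategoryTheory CategoryTheory.Limits AlgebraicGeometry
universe u
open NonPure

namespace Groth.Agent.S19057

/-- Let K be a field and X an integral K-scheme which is smooth, proper, projective and geometrically
irreducible over K, of dimension at least 2, polarised by an invertible ample O_X-module L; let ℓ ≥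
1. Let F be a coherent torsion-free O_X-module whose double dual Hom(Hom(F, O_X), O_X) is isomorphic
to O_X (the sheaf Hom functors Hom(M, −) are taken as right adjoints of M ⊗ −; their existence is
the stated instance hypothesis and holds) and whose Hilbert polynomial with respect to L is P_{O_X}
− ℓ. Then there is a closed subscheme Z ⊆ X, finite locally free of degree ℓ over K, with F ≅ I_Z,
and Z is unique: two such subschemes of degree ℓ with isomorphic ideal sheaves coincide. (The
published statement is the isomorphism of stacks ψ : Hilb^ℓ(X) × B𝔾_m → Coh^tf(X)_{O_X,P_ℓ}; this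
row is its shadow on K-valued points — every torsion-free sheaf with trivial determinant and Hilbert
polynomial P_ℓ is the ideal sheaf of a unique length-ℓ subscheme — with triviality of the
determinant expressed, for a torsion-free sheaf of rank one on a smooth variety, as triviality of
the reflexive hull.) -/
theorem result
    (K : Type u) [Field K] (X : Scheme.{u}) [X.Over (Spec (CommRingCat.of K))]
    [IsIntegral X] [Smooth (X ↘ Spec (CommRingCat.of K))] [IsProper (X ↘ Spec (CommRingCat.of K))]
    [GeometricallyIrreducible (X ↘ Spec (CommRingCat.of K))]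
    (hproj : ∃ (n : ℕ) (ι : X ⟶ CohB1.ProjSpace n K), IsClosedImmersion ι ∧
      ι ≫ CohB1.ProjSpace.toSpec n K = X ↘ Spec (CommRingCat.of K))
    (hdim : 2 ≤ topologicalKrullDim X)
    (L : X.Modules) (hLi : PicF.IsInvertible L) (hLa : CohB1.IsAmple L)
    (ℓ : ℕ) (hℓ : 0 < ℓ)
    (F : X.Modules) (hFc : Coh.IsCoh F) (hFt : TorSh.IsTorsionFree F)
    [DCoh.HasSheafHom F] [DCoh.HasSheafHom ((DCoh.sheafHom F).obj (Coh.structureModule X))]
    (hdet : Nonempty ((DCoh.sheafHom ((DCoh.sheafHom F).obj (Coh.structureModule X))).obj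
      (Coh.structureModule X) ≅ Coh.structureModule X))
    (hFP : ∃ P : Polynomial ℚ, ShStab.IsHilbPoly K X L (Coh.structureModule X) P ∧
      ShStab.IsHilbPoly K X L F (P - Polynomial.C (ℓ : ℚ))) :
    (∃ Z : X.IdealSheafData, Mor2.IsFinLocFreeOfDeg ℓ (Z.subschemeι ≫ (X ↘ Spec (CommRingCat.of K))) ∧
      Nonempty (F ≅ ClSub.idealMod Z)) ∧
    (∀ Z Z' : X.IdealSheafData, Mor2.IsFinLocFreeOfDeg ℓ (Z.subschemeι ≫ (X ↘ Spec (CommRingCat.of K))) →
      Mor2.IsFinLocFreeOfDeg ℓ (Z'.subschemeι ≫ (X ↘ Spec (CommRingCat.of K))) →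
      Nonempty (ClSub.idealMod Z ≅ ClSub.idealMod Z') → Z = Z') := by
  haveI := CurvLib.isNoetherian K (X := X)
  obtain ⟨n, i, hi, -⟩ := hproj
  haveI := hi
  obtain ⟨Z, -, hZ, hFZ⟩ := IdealPtLib.exists_iso_idealMod (K := K) i hLi hLa hFc hFt hdet hFP
  refine ⟨⟨Z, hZ, hFZ⟩, fun Z₁ Z₂ h₁ h₂ ⟨a⟩ => ?_⟩
  have hd : ∀ W : X.IdealSheafData, Mor2.IsFinLocFreeOfDeg ℓ (W.subschemeι ≫ (X ↘ Spec (CommRingCat.of K))) →
      topologicalKrullDim (W.support : Set X) ≤ 0 ∧ W ≠ ⊥ := by
    intro W hW
    letI : W.subscheme.Over (Spec (CommRingCat.of K)) := ⟨W.subschemeι ≫ (X ↘ Spec (CommRingCat.of K))⟩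
    haveI : IsFinite (W.subscheme ↘ Spec (CommRingCat.of K)) := hW.1.1
    have h0 : topologicalKrullDim (W.support : Set X) ≤ 0 :=
      ((W.subschemeι.isEmbedding.toHomeomorph.trans (Homeomorph.setCongr
        W.range_subschemeι)).isHomeomorph.topologicalKrullDim_eq).symm.le.trans
        (IntMultLib.dim_le_zero_of_isFinite K)
    refine ⟨h0, fun h => ?_⟩
    rw [h, Scheme.IdealSheafData.support_bot] at h0
    have hu : topologicalKrullDim ((⊤ : TopologicalSpace.Closeds X) : Set X) = topologicalKrullDim X :=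
      (Homeomorph.Set.univ X).isHomeomorph.topologicalKrullDim_eq
    rw [hu] at h0
    exact absurd (hdim.trans h0) (by decide)
  exact le_antisymm (IdealPtLib.ideal_le_of_iso K hdim (hd Z₂ h₂).1 (hd Z₂ h₂).2 a.symm)
    (IdealPtLib.ideal_le_of_iso K hdim (hd Z₁ h₁).1 (hd Z₁ h₁).2 a)

end Groth.Agent.S19057
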