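import Groth.Statements.S19060
import Groth.Agent.CohBCLib.Rows
import Groth.Agent.CohBCLib.Global
import Groth.Agent.CohBCLib.Cons
import Groth.Agent.FibVanLib.Affine

set_option autoImplicit false
universe u
open CategoryTheory CategoryTheory.Limits AlgebraicGeometry Opposite
open Curves

namespace Groth.Agent.S19060

open CohBCLib FlatCxLib

/-- Homology vanishing below and projective in degree `-1` gives a projective module in degree zero. -/
theorem projective_homology_zero {A : Type u} [CommRing A] [IsNoetherianRing A]
    (P : ChainComplex (ModuleCat.{u} A) ℤ) (hP : ∀ i, Module.Finite A (P.X i) ∧ Module.Free A (P.X i))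
    (N : ℕ) (hN : ∀ i : ℤ, i < -(N : ℤ) → IsZero (P.X i))
    (h0 : Module.Flat A (FlatCxLib.W P 0))
    (hlow : ∀ i : ℤ, i ≤ -2 → Subsingleton (P.homology i))
    (h1 : Module.Projective A (P.homology (-1))) : Module.Projective A (P.homology 0) := by
  have hfin : ∀ i, Module.Finite A (P.X i) := fun i => (hP i).1
  have step : ∀ i : ℤ, Module.Flat A (FlatCxLib.W P (i - 1)) → Module.Flat A (LinearMap.range (dW P i)) := by
    intro i hflat
    have hI : LinearMap.range (dW P i) = LinearMap.range (P.d (i - 1 + 1) (i - 1)).hom := by
      rw [dW, Submodule.range_liftQ, show i - 1 + 1 = i by omega]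
    have hexI : Function.Exact (LinearMap.range (dW P i)).subtype
        (LinearMap.range (P.d (i - 1 + 1) (i - 1)).hom).mkQ := by
      rw [LinearMap.exact_iff, Submodule.ker_mkQ, Submodule.range_subtype]
      exact hI.symm
    haveI := (hP (i - 1)).2
    exact KFlatLib.flat_kernel _ _ (LinearMap.range (dW P i)).subtype_injective hexI (Submodule.mkQ_surjective _)
  have low : ∀ (n : ℕ) (i : ℤ), i < -(N : ℤ) + n → i ≤ -2 → Module.Flat A (FlatCxLib.W P i) := by
    intro n
    induction n with
    | zero =>
      intro i hi _
      haveI : Subsingleton (P.X i) := ModuleCat.subsingleton_of_isZero (hN i (by simpa using hi))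
      haveI : Subsingleton (FlatCxLib.W P i) := (Submodule.mkQ_surjective _).subsingleton
      infer_instance
    | succ n ih =>
      intro i hi hi2
      haveI := step i (ih (i - 1) (by omega) (by omega))
      haveI := hlow i hi2
      haveI : Subsingleton (LinearMap.ker (dW P i)) := (hKer P i).symm.toEquiv.subsingleton
      refine Module.Flat.of_linearEquiv (LinearEquiv.ofInjective (dW P i) ?_)
      rw [← LinearMap.ker_eq_bot]
      exact Submodule.eq_bot_of_subsingleton
  haveI hI1 := step (-1) (by
    have := low ((N : ℕ) + 1) (-1 - 1) (by omega) (by omega)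
    exact this)
  haveI := FlatCxLib.finite_W P (hfin (-1))
  haveI : IsNoetherian A (FlatCxLib.W P (-1)) := isNoetherian_of_isNoetherianRing_of_finite A _
  haveI : Module.Finite A (LinearMap.range (dW P (-1))) := Module.Finite.range _
  haveI := Module.finitePresentation_of_finite A (LinearMap.range (dW P (-1)))
  haveI : Module.Projective A (LinearMap.range (dW P (-1))) := Module.Flat.projective_of_finitePresentation
  haveI : Module.Projective A (LinearMap.ker (dW P (-1))) := Module.Projective.of_equiv (hKer P (-1))
  have hex : Function.Exact (LinearMap.ker (dW P (-1))).subtype (dW P (-1)).rangeRestrict := by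
    rw [LinearMap.exact_iff, Submodule.range_subtype, LinearMap.ker_rangeRestrict]
  obtain ⟨sec, hsec⟩ := Module.projective_lifting_property (dW P (-1)).rangeRestrict LinearMap.id
    (LinearMap.surjective_rangeRestrict _)
  obtain ⟨e, -, -⟩ := (hex.split_tfae'.out 0 2 rfl rfl).1 ⟨Subtype.val_injective, sec, hsec⟩
  haveI : Module.Flat A (FlatCxLib.W P (-1)) := Module.Flat.of_linearEquiv e
  exact (homology_projective_of_flat_W P hP 0 (-1) (by omega) h0 inferInstance).2.1

/-- Let R be a Noetherian ring and X a relative curve over Spec R (proper and smooth, with geometrically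
connected fibres of dimension one, and projective: X carries an ample invertible module). Let F be a
coherent O_X-module which is flat over Spec R (every stalk is a flat module over the local ring of
the base). If H^1(X, F) is a projective R-module, then H^0(X, F) is a projective R-module. (The
source says only that F is an O_X-module flat over the base; F is taken coherent here, as the
finiteness of its cohomology over R used there requires.) -/
theorem result (R : Type u) [CommRing R] [IsNoetherianRing R]
    (X : Scheme.{u}) [X.Over (Spec (CommRingCat.of R))] [IsProper (X ↘ Spec (CommRingCat.of R))]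
    [Smooth (X ↘ Spec (CommRingCat.of R))] [GeometricallyConnected (X ↘ Spec (CommRingCat.of R))]
    (hdim : ∀ s : Spec (CommRingCat.of R), topologicalKrullDim ↥((X ↘ Spec (CommRingCat.of R)).fiber s) = 1)
    (hproj : ∃ M : X.Modules, CohB1.IsAmple M)
    (F : X.Modules) (hF : Coh.IsCoh F) (hfl : FlatMod.IsFlatOver (X ↘ Spec (CommRingCat.of R)) F)
    (h1 : Module.Projective R (Coh.HH X F 1)) :
    Module.Projective R (Coh.HH X F 0) := by
  let f := X ↘ Spec (CommRingCat.of R)
  haveI : Coh.IsQCoh F := hF.1
  obtain ⟨U⟩ := CohBCLib.exists_univ f F hF hfl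
  let i : ∀ p : ℕ, U.P.homology (-(p : ℤ)) ≅ (CohBCLib.HA f p).obj F := fun p =>
    (HomologicalComplex.homologyFunctor _ _ _).mapIso (CohBCLib.tensorUnitIso U.P).symm ≪≫
      (U.iso p).app (ModuleCat.of R R) ≪≫ (CohBCLib.HA f p).mapIso (CohBCLib.tAUnitIso f F)
  have h1' : Module.Projective R (U.P.homology (-1)) := by
    haveI : Module.Projective R ((CohBCLib.HA f 1).obj F) := h1
    exact Module.Projective.of_equiv (i 1).toLinearEquiv.symm
  have hlow : ∀ j : ℤ, j ≤ -2 → Subsingleton (U.P.homology j) := by
    intro j hj
    obtain ⟨p, rfl⟩ : ∃ p : ℕ, j = -(p : ℤ) := ⟨(-j).toNat, by omega⟩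
    haveI : Subsingleton ((CohBCLib.HA f p).obj F : Type u) :=
      FibVanLib.subsingleton_HH_affine f 1 (fun y => (hdim y).le) F p (by omega)
    exact (i p).toLinearEquiv.toEquiv.subsingleton
  haveI : Module.Projective R (U.P.homology (-((0 : ℕ) : ℤ))) :=
    projective_homology_zero U.P U.fin U.N U.below (CohBCLib.Univ.flat_W_zero U) hlow h1'
  exact Module.Projective.of_equiv (i 0).toLinearEquiv

end Groth.Agent.S19060
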