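import Groth.Statements.S19061
import Groth.Agent.FibVALib.Core
import Groth.Agent.FibVALib.Curve
import Groth.Agent.S12481
import Groth.Agent.S9707
-- import your own Groth.Agent.* helpers here

set_option autoImplicit false
universe u
open CategoryTheory CategoryTheory.Limits AlgebraicGeometry Opposite
open Curves

namespace Groth.Agent.S19061

/-- Let R be a Noetherian ring and f : X ⟶ Spec R a relative curve of genus g (proper and smooth, with
geometrically connected fibres of dimension one and genus g, and projective: X carries an ample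
invertible module). Let L be an invertible O_X-module such that for every point s of Spec R the
restriction L_s of L to the fibre X_s has degree at least 2g + 1. Then L is very ample relative to
f: there is an immersion i : X ⟶ P^N over Spec R with L ≅ i^*O(1). -/
theorem result (R : Type u) [CommRing R] [IsNoetherianRing R]
    {X : Scheme.{u}} (f : X ⟶ Spec (CommRingCat.of R)) [IsProper f] [Smooth f] [GeometricallyConnected f]
    (hdim : ∀ s : Spec (CommRingCat.of R), topologicalKrullDim ↥(f.fiber s) = 1)
    (hproj : ∃ M : X.Modules, CohB1.IsAmple M)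
    (g : ℕ) (hgen : ∀ s : Spec (CommRingCat.of R), letI : (f.fiber s).Over (Spec ((Spec (CommRingCat.of R)).residueField s)) := ⟨f.fiberToSpecResidueField s⟩
      Curv2.genus ((Spec (CommRingCat.of R)).residueField s) (f.fiber s) = g)
    (L : X.Modules) (hL : PicF.IsInvertible L)
    (hdeg : ∀ s : Spec (CommRingCat.of R), letI : (f.fiber s).Over (Spec ((Spec (CommRingCat.of R)).residueField s)) := ⟨f.fiberToSpecResidueField s⟩
      2 * (g : ℤ) + 1 ≤ Curv2.deg ((Spec (CommRingCat.of R)).residueField s) (f.fiber s) (CohIII.fiberMod f L s) 1) :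
    RelAmple.IsRelVeryAmplePn f L := by
  haveI : LocallyOfFinitePresentation f := LocallyOfFinitePresentation.iff_locallyOfFiniteType.2 inferInstance
  haveI : IsLocallyNoetherian (Spec (CommRingCat.of R)) := inferInstance
  have key : ∀ s : Spec (CommRingCat.of R), ∃ U : (Spec (CommRingCat.of R)).Opens,
      s ∈ U ∧ RelAmple.IsRelVeryAmplePn (f ∣_ U) (L.restrict (f ⁻¹ᵁ U).ι) := fun s => by
    letI : (f.fiber s).Over (Spec ((Spec (CommRingCat.of R)).residueField s)) := ⟨f.fiberToSpecResidueField s⟩
    let K := (Spec (CommRingCat.of R)).residueField s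
    letI : (f.fiber s).Over (Spec (CommRingCat.of K)) := ⟨f.fiberToSpecResidueField s⟩
    haveI : IsProper ((f.fiber s) ↘ Spec (CommRingCat.of K)) := MorphismProperty.pullback_snd f _ ‹IsProper f›
    haveI : Smooth ((f.fiber s) ↘ Spec (CommRingCat.of K)) := MorphismProperty.pullback_snd f _ ‹Smooth f›
    haveI : GeometricallyConnected ((f.fiber s) ↘ Spec (CommRingCat.of K)) :=
      MorphismProperty.pullback_snd f _ ‹GeometricallyConnected f›
    haveI := FibVALib.geometricallyIntegral_of_geometricallyConnected ((f.fiber s) ↘ Spec (CommRingCat.of K))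
    have hLs : PicF.IsInvertible (CohIII.fiberMod f L s) := AmpleDevLib.isInvertible_pb _ hL
    have hd := hdeg s
    have hg := hgen s
    refine FibVALib.exists_open_isRelVeryAmplePn f hL s
      (FibVALib.isRelVeryAmplePn_of_deg K (f.fiber s) (hdim s) hLs ?_)
      (FibVALib.h1_vanish K (f.fiber s) (hdim s) hLs ?_)
    · rw [hg]; exact hd
    · rw [hg]; exact le_trans (by omega) hd
  choose U hsU hU using key
  exact Groth.Agent.S9707.result f L hL (Groth.Agent.S12481.result f L hL U
    (eq_top_iff.mpr fun s _ => TopologicalSpace.Opens.mem_iSup.mpr ⟨s, hsU s⟩) hU)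

end Groth.Agent.S19061
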