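import Groth.Statements.S19079
import Groth.Agent.JacAlbLib.ThetaCoh

set_option autoImplicit false
set_option backward.isDefEq.respectTransparency false
set_option backward.isDefEq.respectTransparency.types false
set_option maxRecDepth 8000
set_option maxHeartbeats 1000000
universe u
open CategoryTheory CategoryTheory.Limits AlgebraicGeometry MonoidalCategory CartesianMonoidalCategory MonObj
open JacVar

namespace Groth.Agent.S19079

/-- Let k be an algebraically closed field, C a smooth proper connected curve of genus g ≥ 1 over k, and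
(J, ψ) its Jacobian: a commutative group scheme over k, proper and smooth, which is a coarse moduli
scheme on all k-schemes for line bundles of degree 0 on C modulo twisting from the base, with group
law induced by the tensor product. Let N be an invertible O_C-module of degree g − 1 and Θ the theta
line bundle on J attached to N (an invertible module inverse to the ideal of the reduced closure of
the locus of classes ξ with H^0(ξ ⊗ N) ≠ 0 — a translate of the image W^{g−1} of the (g−1)-st
symmetric power of C, the source's theta divisor). Then for every m ≥ 1 the module Θ^m has a nonzero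
global section and no higher cohomology: H^0(J, Θ^m) ≠ 0 and H^i(J, Θ^m) = 0 for all i ≥ 1. -/
theorem result (k : Type u) [Field k] [IsAlgClosed k]
    (C : Scheme.{u}) [C.Over (Spec (CommRingCat.of k))]
    [IsProper (C ↘ Spec (CommRingCat.of k))] [Smooth (C ↘ Spec (CommRingCat.of k))] [GeometricallyConnected (C ↘ Spec (CommRingCat.of k))]
    (hdim : topologicalKrullDim ↥C = 1)
    (g : ℕ) (hg : Curv2.genus k C = g) (hg1 : 1 ≤ g)
    (J : Over (Spec (CommRingCat.of k))) [GrpObj J] [IsCommMonObj J] [IsProper J.hom] [Smooth J.hom]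
    (ψ : (ModFun.PicDeg (C ↘ Spec (CommRingCat.of k)) 0).Hom ⊤ J) (hJ : Jac.IsJacobian (C ↘ Spec (CommRingCat.of k)) ⊤ J ψ)
    (N : C.Modules) (hN : PicF.IsInvertible N) (hNdeg : Curv2.deg k C N 1 = (g : ℤ) - 1)
    (ΘJ : J.left.Modules) (hΘJ : Jac.IsThetaLB (C ↘ Spec (CommRingCat.of k)) 0 ψ N ΘJ)
    (m : ℕ) (hm : 1 ≤ m) :
    Nontrivial (Coh.HH J.left (CohB1.tensorPow ΘJ m) 0) ∧ ∀ i : ℕ, 1 ≤ i → Subsingleton (Coh.HH J.left (CohB1.tensorPow ΘJ m) i) := by
  obtain ⟨σ, hσ⟩ := JacAlbLib.exists_sigma (k := k) hdim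
  obtain ⟨hf, c, hc, hψ, hp, hs, hi⟩ := JacAlbLib.exists_setup_field' (σ := σ) (hσ := hσ) hdim ψ hJ
  haveI := hi
  obtain ⟨n, rfl⟩ : ∃ n, g = n + 1 := ⟨g - 1, by omega⟩
  have hd : Curv2.deg k C N 1 = (n : ℤ) := by rw [hNdeg]; push_cast; ring
  have hP := JacAlbLib.principal_theta hdim hf hc hψ hg.symm hN hd hΘJ
  have hA := JacAlbLib.isAmple_theta hdim hf hc hψ hg.symm hN hd hΘJ
  obtain ⟨h1, h2⟩ := JacAlbLib.vanish_pow hΘJ.1 hP hA hm
  exact ⟨h2, fun i hi => h1 i hi⟩

end Groth.Agent.S19079
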