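import Groth.Statements.S19082
import Groth.Agent.HypSqLib.Main
-- import your own Groth.Agent.* helpers here

set_option autoImplicit false
universe u
open CategoryTheory CategoryTheory.Limits AlgebraicGeometry Opposite
open HypSq

namespace Groth.Agent.S19082

/-- Let k be an algebraically closed field of characteristic ≠ 2 and C a hyperelliptic curve of genus g
≥ 2 over k: C ⟶ Spec k proper and smooth, C connected of dimension one with dim_k H^1(C, O_C) = g,
with a double cover κ : C ⟶ P^1_k over k (finite, flat, of rank 2 everywhere) and hyperelliptic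
involution σ (σ ≫ κ = κ, σ ≠ id). On X = C ×_k C let N be an invertible O_X-module inverse to the
ideal sheaf of the graph Γ_σ = (id, σ) : C ⟶ X, N_Δ an invertible module inverse to the ideal sheaf
of the diagonal, x : Spec k ⟶ C a k-point with A = O_C(x) an invertible O_C-module inverse to the
ideal sheaf of x, and V = p_1^*A, H = p_2^*A the classes of the fibres {x} × C and C × {x}. Then
(V·V) = 0, (V·H) = 1, (V·N_Δ) = 1 and (V·N) = 1, with (L·M) = χ(O_X) − χ(L) − χ(M) + χ(L ⊗ M) the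
intersection number. (The source takes x to be a Weierstrass point; the entries hold for any
k-point.) -/
theorem result (k : Type u) [Field k] [IsAlgClosed k] (h2 : (2 : k) ≠ 0)
    (C : Scheme.{u}) [C.Over (Spec (CommRingCat.of k))] [IsProper (C ↘ Spec (CommRingCat.of k))] [Smooth (C ↘ Spec (CommRingCat.of k))] [ConnectedSpace ↥C]
    (hdim : topologicalKrullDim ↥C = 1) (g : ℕ) (hg : 2 ≤ g) (hgen : Curv2.genus k C = g)
    (κ : C ⟶ CohB1.ProjSpace 1 k) (hκ : κ ≫ CohB1.ProjSpace.toSpec 1 k = (C ↘ Spec (CommRingCat.of k)))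
    [IsFinite κ] [Flat κ] (hκ2 : ∀ y : ↥(CohB1.ProjSpace 1 k), κ.finrank y = 2)
    (σ : C ⟶ C) (hσ : σ ≫ κ = κ) (hσ1 : σ ≠ 𝟙 C) (hσp : σ ≫ (C ↘ Spec (CommRingCat.of k)) = (C ↘ Spec (CommRingCat.of k)))
    (N : (pullback (C ↘ Spec (CommRingCat.of k)) (C ↘ Spec (CommRingCat.of k))).Modules) (hN : PicF.IsInvertible N)
    (hNinv : ClSub.IsInverseOf N (ClSub.idealMod (pullback.lift (𝟙 C) σ ((Category.id_comp (C ↘ Spec (CommRingCat.of k))).trans hσp.symm)).ker))
    (ND : (pullback (C ↘ Spec (CommRingCat.of k)) (C ↘ Spec (CommRingCat.of k))).Modules) (hND : PicF.IsInvertible ND)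
    (hNDinv : ClSub.IsInverseOf ND (ClSub.idealMod (pullback.diagonal (C ↘ Spec (CommRingCat.of k))).ker))
    (x : Spec (CommRingCat.of k) ⟶ C) (hx : x ≫ (C ↘ Spec (CommRingCat.of k)) = 𝟙 (Spec (CommRingCat.of k)))
    (A : C.Modules) (hA : PicF.IsInvertible A) (hAinv : ClSub.IsInverseOf A (ClSub.idealMod x.ker)) :
    letI : (pullback (C ↘ Spec (CommRingCat.of k)) (C ↘ Spec (CommRingCat.of k))).Over (Spec (CommRingCat.of k)) := ⟨pullback.fst (C ↘ Spec (CommRingCat.of k)) (C ↘ Spec (CommRingCat.of k)) ≫ (C ↘ Spec (CommRingCat.of k))⟩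
    FGA.intNum k (pullback (C ↘ Spec (CommRingCat.of k)) (C ↘ Spec (CommRingCat.of k))) 2 ![((Scheme.Modules.pullback (pullback.fst (C ↘ Spec (CommRingCat.of k)) (C ↘ Spec (CommRingCat.of k)))).obj A), ((Scheme.Modules.pullback (pullback.fst (C ↘ Spec (CommRingCat.of k)) (C ↘ Spec (CommRingCat.of k)))).obj A)] (Coh.structureModule (pullback (C ↘ Spec (CommRingCat.of k)) (C ↘ Spec (CommRingCat.of k)))) = 0 ∧
      FGA.intNum k (pullback (C ↘ Spec (CommRingCat.of k)) (C ↘ Spec (CommRingCat.of k))) 2 ![((Scheme.Modules.pullback (pullback.fst (C ↘ Spec (CommRingCat.of k)) (C ↘ Spec (CommRingCat.of k)))).obj A), ((Scheme.Modules.pullback (pullback.snd (C ↘ Spec (CommRingCat.of k)) (C ↘ Spec (CommRingCat.of k)))).obj A)] (Coh.structureModule (pullback (C ↘ Spec (CommRingCat.of k)) (C ↘ Spec (CommRingCat.of k)))) = 1 ∧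
      FGA.intNum k (pullback (C ↘ Spec (CommRingCat.of k)) (C ↘ Spec (CommRingCat.of k))) 2 ![((Scheme.Modules.pullback (pullback.fst (C ↘ Spec (CommRingCat.of k)) (C ↘ Spec (CommRingCat.of k)))).obj A), ND] (Coh.structureModule (pullback (C ↘ Spec (CommRingCat.of k)) (C ↘ Spec (CommRingCat.of k)))) = 1 ∧
      FGA.intNum k (pullback (C ↘ Spec (CommRingCat.of k)) (C ↘ Spec (CommRingCat.of k))) 2 ![((Scheme.Modules.pullback (pullback.fst (C ↘ Spec (CommRingCat.of k)) (C ↘ Spec (CommRingCat.of k)))).obj A), N] (Coh.structureModule (pullback (C ↘ Spec (CommRingCat.of k)) (C ↘ Spec (CommRingCat.of k)))) = 1 := by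
  letI := HypSqLib.overSq k C
  haveI := HypSqLib.proper_sq (k := k) (C := C)
  haveI := HypSqLib.integral k C
  haveI := CurvLib.isNoetherian k (X := C)
  have hO := CurvLib.isInvertible_structureModule (X := C)
  have hOc := CurvLib.isCoh_of_isInvertible hO
  have hAc := CurvLib.isCoh_of_isInvertible hA
  have hA2 := CurvLib.isCoh_of_isInvertible (HilbPolyLib.isInvertible_tensor hA hA)
  have dA := HypSqLib.deg_A (k := k) hdim x hx hAinv
  have eA : Curv2.euler k C A = 2 - (g : ℤ) := by rw [HypSqLib.euler_eq_deg hdim, dA, hgen]; ring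
  have eO : Curv2.euler k C (Coh.structureModule C) = 1 - (g : ℤ) := by rw [HypSqLib.euler_structure hdim, hgen]
  have eAA : Curv2.euler k C (CohB1.tensorMod A A) = 3 - (g : ℤ) := by
    rw [HypSqLib.euler_eq_deg hdim, HypSqLib.deg_add hdim hA hA, dA, hgen]; ring
  let p₁ := pullback.fst (C ↘ Spec (CommRingCat.of k)) (C ↘ Spec (CommRingCat.of k))
  let p₂ := pullback.snd (C ↘ Spec (CommRingCat.of k)) (C ↘ Spec (CommRingCat.of k))
  let u₁ : ∀ M : C.Modules, HypSqLib.box (k := k) M (Coh.structureModule C) ≅ KFlatLib.pb p₁ M := fun M =>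
    HilbPolyLib.congrRight _ (KFlatLib.pullUnitIso p₂) ≪≫ HilbPolyLib.swapIso _ _ ≪≫ HilbPolyLib.unitLeft _
  let u₂ : ∀ M : C.Modules, HypSqLib.box (k := k) (Coh.structureModule C) M ≅ KFlatLib.pb p₂ M := fun M =>
    HilbPolyLib.congrLeft (KFlatLib.pullUnitIso p₁) _ ≪≫ HilbPolyLib.unitLeft _
  let u₀ : HypSqLib.box (k := k) (Coh.structureModule C) (Coh.structureModule C) ≅ Coh.structureModule _ :=
    u₁ _ ≪≫ KFlatLib.pullUnitIso p₁
  have χ0 := (CurvLib.euler_congr (k := k) u₀).symm.trans (HypSqLib.euler_box hdim hOc hOc)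
  have χV := (CurvLib.euler_congr (k := k) (u₁ A)).symm.trans (HypSqLib.euler_box hdim hAc hOc)
  have χH := (CurvLib.euler_congr (k := k) (u₂ A)).symm.trans (HypSqLib.euler_box hdim hOc hAc)
  have χVV := (CurvLib.euler_congr (k := k) (u₁ _ ≪≫ PicPnLib.pullTens p₁ A A)).symm.trans
    (HypSqLib.euler_box hdim hA2 hOc)
  have χHV := (CurvLib.euler_congr (k := k) (HilbPolyLib.swapIso _ _ :
    HypSqLib.box (k := k) A A ≅ CohB1.tensorMod (KFlatLib.pb p₂ A) (KFlatLib.pb p₁ A))).symm.trans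
    (HypSqLib.euler_box hdim hAc hAc)
  rw [eO] at χ0 χV χH χVV
  rw [eA] at χV χH χHV
  rw [eAA] at χVV
  have hV := AmpleDevLib.isInvertible_pb p₁ hA
  have hd := (HypSqLib.integral_sq (k := k) hdim).2.le
  have dV : ∀ (τ : C ⟶ C) (hτ : τ ≫ (C ↘ Spec (CommRingCat.of k)) = C ↘ Spec (CommRingCat.of k)),
      Curv2.deg k C (KFlatLib.pb (HypSqLib.gr τ hτ) (KFlatLib.pb p₁ A)) 1 = 1 := fun τ hτ => by
    exact (CurvLib.deg_congr (k := k) ((Scheme.Modules.pullbackComp (HypSqLib.gr τ hτ) p₁).app _ ≪≫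
      (Scheme.Modules.pullbackCongr (HypSqLib.gr_fst τ hτ)).app _ ≪≫ (Scheme.Modules.pullbackId C).app _) 1).trans dA
  have hid : (𝟙 C) ≫ (C ↘ Spec (CommRingCat.of k)) = C ↘ Spec (CommRingCat.of k) := Category.id_comp _
  have hNDinv' : ClSub.IsInverseOf ND (ClSub.idealMod (HypSqLib.gr (k := k) (𝟙 C) hid).ker) := hNDinv
  refine ⟨?_, ?_, ?_, ?_⟩ <;> rw [SurfNumLib.intNum_eq_pr hd]
  · rw [HypSqLib.pr_expand, χVV, χV, χ0]; ring
  · rw [HypSqLib.pr_expand, χHV, χV, χH, χ0]; ring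
  · rw [HodgeIdxLib.pr_comm, HypSqLib.pr_N (𝟙 C) hid hdim ND hND hNDinv' hV, dV]
  · rw [HodgeIdxLib.pr_comm, HypSqLib.pr_N σ hσp hdim N hN hNinv hV, dV]

end Groth.Agent.S19082
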