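import Groth.Statements.S19088
import Groth.Agent.SymSqLib.Apps
import Groth.Agent.HypSqLib.DiagIso


set_option autoImplicit false
universe u
open CategoryTheory CategoryTheory.Limits AlgebraicGeometry Opposite
open SymSq

namespace Groth.Agent.S19088

/-- Let k be an algebraically closed field of characteristic ≠ 2 and C a hyperelliptic curve of genus g
≥ 2 over k: C ⟶ Spec k proper and smooth, C connected of dimension one with dim_k H^1(C, O_C) = g,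
with a double cover κ : C ⟶ P^1_k over k (finite, flat, of rank 2 everywhere) and hyperelliptic
involution σ (σ ≫ κ = κ, σ ≠ id). On X = C ×_k C let L = κ^*O(1), F_m = p_1^*L^m ⊗ p_2^*L^m and N an
invertible O_X-module inverse to the ideal sheaf of the graph Γ_σ = (id, σ) : C ⟶ X. Let S = Sym²(C)
be the symmetric square: π : X ⟶ S is a quotient (affine, invariant, sections of S = invariant
sections) for the action of the symmetric group on two letters in which the transposition acts by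
the swap of the two factors, and q : S ⟶ Spec k its structure morphism with π over Spec k; let N_Δ
be an invertible module on X inverse to the ideal sheaf of the diagonal, x : Spec k ⟶ C a k-point
with A = O_C(x), and MΘ, MΔ, M∇ invertible O_S-modules with π^*MΘ ≅ p_1^*A ⊗ p_2^*A, π^*MΔ ≅ N_Δ ⊗
N_Δ and π^*M∇ ≅ N (the classes Θ_S = π({x} × C), Δ_S = π(Δ) with π^*Δ_S = 2Δ, and ∇_S = π(Γ_σ)).
Then (Θ_S·Θ_S) = 1, (Θ_S·Δ_S) = 2, (Θ_S·∇_S) = 1, (Δ_S·Δ_S) = 4 − 4g, (∇_S·∇_S) = 1 − g and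
(Δ_S·∇_S) = 2g + 2, intersection numbers being (M·M') = χ(O_S) − χ(M) − χ(M') + χ(M ⊗ M'). -/
theorem result (k : Type u) [Field k] [IsAlgClosed k] (h2 : (2 : k) ≠ 0)
    (C : Scheme.{u}) [C.Over (Spec (CommRingCat.of k))] [IsProper (C ↘ Spec (CommRingCat.of k))] [Smooth (C ↘ Spec (CommRingCat.of k))] [ConnectedSpace ↥C]
    (hdim : topologicalKrullDim ↥C = 1) (g : ℕ) (hg : 2 ≤ g) (hgen : Curv2.genus k C = g)
    (κ : C ⟶ CohB1.ProjSpace 1 k) (hκ : κ ≫ CohB1.ProjSpace.toSpec 1 k = (C ↘ Spec (CommRingCat.of k)))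
    [IsFinite κ] [Flat κ] (hκ2 : ∀ y : ↥(CohB1.ProjSpace 1 k), κ.finrank y = 2)
    (σ : C ⟶ C) (hσ : σ ≫ κ = κ) (hσ1 : σ ≠ 𝟙 C) (hσp : σ ≫ (C ↘ Spec (CommRingCat.of k)) = (C ↘ Spec (CommRingCat.of k)))
    (N : (pullback (C ↘ Spec (CommRingCat.of k)) (C ↘ Spec (CommRingCat.of k))).Modules) (hN : PicF.IsInvertible N)
    (hNinv : ClSub.IsInverseOf N (ClSub.idealMod (pullback.lift (𝟙 C) σ ((Category.id_comp (C ↘ Spec (CommRingCat.of k))).trans hσp.symm)).ker))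
    (ND : (pullback (C ↘ Spec (CommRingCat.of k)) (C ↘ Spec (CommRingCat.of k))).Modules) (hND : PicF.IsInvertible ND)
    (hNDinv : ClSub.IsInverseOf ND (ClSub.idealMod (pullback.diagonal (C ↘ Spec (CommRingCat.of k))).ker))
    (x : Spec (CommRingCat.of k) ⟶ C) (hx : x ≫ (C ↘ Spec (CommRingCat.of k)) = 𝟙 (Spec (CommRingCat.of k)))
    (A : C.Modules) (hA : PicF.IsInvertible A) (hAinv : ClSub.IsInverseOf A (ClSub.idealMod x.ker))
    (ρ : ULift.{u} (Equiv.Perm (Fin 2)) →* Aut (pullback (C ↘ Spec (CommRingCat.of k)) (C ↘ Spec (CommRingCat.of k)))) (hρ : (ρ (ULift.up (Equiv.swap 0 1))).hom = (pullbackSymmetry (C ↘ Spec (CommRingCat.of k)) (C ↘ Spec (CommRingCat.of k))).hom)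
    (Sq : Scheme.{u}) (π : (pullback (C ↘ Spec (CommRingCat.of k)) (C ↘ Spec (CommRingCat.of k))) ⟶ Sq) (hπ : SGA1.IsQuot ρ π) (q : Sq ⟶ Spec (CommRingCat.of k)) (hq : π ≫ q = pullback.fst (C ↘ Spec (CommRingCat.of k)) (C ↘ Spec (CommRingCat.of k)) ≫ (C ↘ Spec (CommRingCat.of k)))
    (MΘ MΔ MV : Sq.Modules) (hMΘ : PicF.IsInvertible MΘ) (hMΔ : PicF.IsInvertible MΔ) (hMV : PicF.IsInvertible MV)
    (hΘ : Nonempty ((Scheme.Modules.pullback π).obj MΘ ≅ CohB1.tensorMod ((Scheme.Modules.pullback (pullback.fst (C ↘ Spec (CommRingCat.of k)) (C ↘ Spec (CommRingCat.of k)))).obj A) ((Scheme.Modules.pullback (pullback.snd (C ↘ Spec (CommRingCat.of k)) (C ↘ Spec (CommRingCat.of k)))).obj A)))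
    (hΔ : Nonempty ((Scheme.Modules.pullback π).obj MΔ ≅ CohB1.tensorMod ND ND))
    (hV : Nonempty ((Scheme.Modules.pullback π).obj MV ≅ N)) :
    letI : Sq.Over (Spec (CommRingCat.of k)) := ⟨q⟩
    FGA.intNum k Sq 2 ![MΘ, MΘ] (Coh.structureModule Sq) = 1 ∧ FGA.intNum k Sq 2 ![MΘ, MΔ] (Coh.structureModule Sq) = 2 ∧ FGA.intNum k Sq 2 ![MΘ, MV] (Coh.structureModule Sq) = 1 ∧
      FGA.intNum k Sq 2 ![MΔ, MΔ] (Coh.structureModule Sq) = 4 - 4 * (g : ℤ) ∧ FGA.intNum k Sq 2 ![MV, MV] (Coh.structureModule Sq) = 1 - (g : ℤ) ∧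
      FGA.intNum k Sq 2 ![MΔ, MV] (Coh.structureModule Sq) = 2 * (g : ℤ) + 2 := by
  letI : Sq.Over (Spec (CommRingCat.of k)) := ⟨q⟩
  letI := HypSqLib.overSq k C
  haveI := HypSqLib.proper_sq (k := k) (C := C)
  haveI := HypSqLib.integral k C
  haveI := CurvLib.isNoetherian k (X := C)
  have hS : SymSqLib.IsSym π (Sq ↘ Spec (CommRingCat.of k)) := SymSqLib.isSym_of hρ hπ hq
  haveI : IsProper (Sq ↘ Spec (CommRingCat.of k)) := hS.proper
  obtain ⟨eΘ⟩ := hΘ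
  obtain ⟨eΔ⟩ := hΔ
  obtain ⟨eV⟩ := hV
  have hd := (HypSqLib.integral_sq (k := k) hdim).2.le
  have hid := HypSqLib.id_over (k := k) (C := C)
  have hND' : ClSub.IsInverseOf ND (ClSub.idealMod (HypSqLib.gr (k := k) (𝟙 C) hid).ker) := hNDinv
  haveI : IsIso σ := ⟨σ, HypSqLib.invol_sq hdim hg hgen κ hκ hκ2 h2 hσ hσ1, HypSqLib.invol_sq hdim hg hgen κ hκ hκ2 h2 hσ hσ1⟩
  have dA := HypSqLib.deg_A hdim x hx hAinv
  have hT := HypSqLib.box_inv (k := k) hA hA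
  have dT : ∀ (τ : C ⟶ C) [IsIso τ] (hτ : τ ≫ (C ↘ Spec (CommRingCat.of k)) = C ↘ Spec (CommRingCat.of k)),
      Curv2.deg k C (KFlatLib.pb (HypSqLib.gr τ hτ) (HypSqLib.box (k := k) A A)) 1 = 2 := by
    intro τ _ hτ
    rw [CurvLib.deg_congr (k := k) (HypSqLib.pbBox τ hτ _ _),
      HypSqLib.deg_add hdim hA (AmpleDevLib.isInvertible_pb _ hA), HypSqLib.deg_pb_iso hdim τ hτ hA, dA]
    norm_num
  have hA2 := HilbPolyLib.isInvertible_tensor hA hA
  have hAc := CurvLib.isCoh_of_isInvertible hA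
  have hA2c := CurvLib.isCoh_of_isInvertible hA2
  -- the values on the square
  have pTT : HodgeIdxLib.pr k (HypSqLib.box (k := k) A A) (HypSqLib.box (k := k) A A) = 2 := by
    rw [HypSqLib.pr_expand, CurvLib.euler_congr (k := k) (HypSqLib.middle _ _ _ _ ≪≫
        HilbPolyLib.congrLeft (PicPnLib.pullTens _ A A).symm _ ≪≫ HilbPolyLib.congrRight _ (PicPnLib.pullTens _ A A).symm),
      show CohB1.tensorMod _ _ = HypSqLib.box (k := k) (CohB1.tensorMod A A) (CohB1.tensorMod A A) from rfl,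
      HypSqLib.euler_box hdim hA2c hA2c, HypSqLib.euler_box hdim hAc hAc, SymSqLib.euler_unit_sq hdim hgen,
      HypSqLib.euler_eq_deg hdim, HypSqLib.euler_eq_deg hdim, HypSqLib.deg_add hdim hA hA, dA, hgen]
    ring
  have pDT : HodgeIdxLib.pr k ND (HypSqLib.box (k := k) A A) = 2 := by
    rw [HypSqLib.pr_N (𝟙 C) hid hdim ND hND hND' hT, dT]
  have pNT : HodgeIdxLib.pr k N (HypSqLib.box (k := k) A A) = 2 := by
    rw [HypSqLib.pr_N σ hσp hdim N hN hNinv hT, dT]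
  have pDD : HodgeIdxLib.pr k ND ND = 2 - 2 * (g : ℤ) := by
    rw [HypSqLib.pr_N (𝟙 C) hid hdim ND hND hND' hND,
      HypSqLib.deg_pb_N (𝟙 C) hid hdim hg hgen κ hκ hκ2 ND hND hND' (Category.id_comp κ)]
  have pNN : HodgeIdxLib.pr k N N = 2 - 2 * (g : ℤ) := by
    rw [HypSqLib.pr_N σ hσp hdim N hN hNinv hN, HypSqLib.deg_pb_N σ hσp hdim hg hgen κ hκ hκ2 N hN hNinv hσ]
  have pDN : HodgeIdxLib.pr k ND N = 2 * (g : ℤ) + 2 := by
    rw [HypSqLib.pr_N (𝟙 C) hid hdim ND hND hND' hN,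
      SymSqLib.deg_diag_N h2 hdim hg hgen κ hκ hκ2 σ hσp hσ hσ1 N hN hNinv]
  -- descending
  have key : ∀ {P Q : Sq.Modules} {P' Q' : (HypSqLib.sq k C).Modules}, PicF.IsInvertible P → PicF.IsInvertible Q →
      (KFlatLib.pb π P ≅ P') → (KFlatLib.pb π Q ≅ Q') →
      2 * FGA.intNum k Sq 2 ![P, Q] (Coh.structureModule Sq) = HodgeIdxLib.pr k P' Q' := by
    intro P Q P' Q' hP hQ a b
    rw [SurfNumLib.intNum_eq_pr (SymSqLib.proper_dim hS hdim).1, ← SymSqLib.pr_pb hS h2 hdim hP hQ,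
      HodgeIdxLib.pr, HodgeIdxLib.N_congr_head a, ← HodgeIdxLib.pr, HodgeIdxLib.pr_comm, HodgeIdxLib.pr,
      HodgeIdxLib.N_congr_head b, ← HodgeIdxLib.pr, HodgeIdxLib.pr_comm]
  have t2 : ∀ {T : (HypSqLib.sq k C).Modules}, PicF.IsInvertible T →
      HodgeIdxLib.pr k (CohB1.tensorMod ND ND) T = 2 * HodgeIdxLib.pr k ND T := fun {T} hT => by
    rw [HodgeIdxLib.pr_tensor hd hND hND hT]; ring
  have hDD := HilbPolyLib.isInvertible_tensor hND hND
  have k1 := key hMΘ hMΘ eΘ eΘ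
  have k2 := key hMΘ hMΔ eΘ eΔ
  have k3 := key hMΘ hMV eΘ eV
  have k4 := key hMΔ hMΔ eΔ eΔ
  have k5 := key hMV hMV eV eV
  have k6 := key hMΔ hMV eΔ eV
  rw [pTT] at k1
  rw [HodgeIdxLib.pr_comm, t2 hT, pDT] at k2
  rw [HodgeIdxLib.pr_comm, pNT] at k3
  rw [t2 hDD, HodgeIdxLib.pr_comm, t2 hND, pDD] at k4
  rw [pNN] at k5
  rw [t2 hN, pDN] at k6
  exact ⟨by linarith, by linarith, by linarith, by linarith, by linarith, by linarith⟩

end Groth.Agent.S19088
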