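import Groth.Statements.S19090
import Groth.Agent.SymSqLib.Canonical

set_option autoImplicit false
universe u
open CategoryTheory CategoryTheory.Limits AlgebraicGeometry Opposite
open SymSq

namespace Groth.Agent.S19090

/-- Let k be an algebraically closed field of characteristic ≠ 2 and C a hyperelliptic curve of genus g
≥ 2 over k: C ⟶ Spec k proper and smooth, C connected of dimension one with dim_k H^1(C, O_C) = g,
with a double cover κ : C ⟶ P^1_k over k (finite, flat, of rank 2 everywhere) and hyperelliptic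
involution σ (σ ≫ κ = κ, σ ≠ id). On X = C ×_k C let L = κ^*O(1), F_m = p_1^*L^m ⊗ p_2^*L^m and N an
invertible O_X-module inverse to the ideal sheaf of the graph Γ_σ = (id, σ) : C ⟶ X. Let S = Sym²(C)
be the symmetric square: π : X ⟶ S is a quotient (affine, invariant, sections of S = invariant
sections) for the action of the symmetric group on two letters in which the transposition acts by
the swap of the two factors, and q : S ⟶ Spec k its structure morphism with π over Spec k; let W be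
a canonical module of S (a second exterior power of Ω_{S/k}). Then K_S^2 = (W·W) = (g − 1)(4g − 9),
with (M·M') = χ(O_S) − χ(M) − χ(M') + χ(M ⊗ M'). -/
theorem result (k : Type u) [Field k] [IsAlgClosed k] (h2 : (2 : k) ≠ 0)
    (C : Scheme.{u}) [C.Over (Spec (CommRingCat.of k))] [IsProper (C ↘ Spec (CommRingCat.of k))] [Smooth (C ↘ Spec (CommRingCat.of k))] [ConnectedSpace ↥C]
    (hdim : topologicalKrullDim ↥C = 1) (g : ℕ) (hg : 2 ≤ g) (hgen : Curv2.genus k C = g)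
    (κ : C ⟶ CohB1.ProjSpace 1 k) (hκ : κ ≫ CohB1.ProjSpace.toSpec 1 k = (C ↘ Spec (CommRingCat.of k)))
    [IsFinite κ] [Flat κ] (hκ2 : ∀ y : ↥(CohB1.ProjSpace 1 k), κ.finrank y = 2)
    (σ : C ⟶ C) (hσ : σ ≫ κ = κ) (hσ1 : σ ≠ 𝟙 C) (hσp : σ ≫ (C ↘ Spec (CommRingCat.of k)) = (C ↘ Spec (CommRingCat.of k)))
    (N : (pullback (C ↘ Spec (CommRingCat.of k)) (C ↘ Spec (CommRingCat.of k))).Modules) (hN : PicF.IsInvertible N)
    (hNinv : ClSub.IsInverseOf N (ClSub.idealMod (pullback.lift (𝟙 C) σ ((Category.id_comp (C ↘ Spec (CommRingCat.of k))).trans hσp.symm)).ker))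
    (ρ : ULift.{u} (Equiv.Perm (Fin 2)) →* Aut (pullback (C ↘ Spec (CommRingCat.of k)) (C ↘ Spec (CommRingCat.of k)))) (hρ : (ρ (ULift.up (Equiv.swap 0 1))).hom = (pullbackSymmetry (C ↘ Spec (CommRingCat.of k)) (C ↘ Spec (CommRingCat.of k))).hom)
    (Sq : Scheme.{u}) (π : (pullback (C ↘ Spec (CommRingCat.of k)) (C ↘ Spec (CommRingCat.of k))) ⟶ Sq) (hπ : SGA1.IsQuot ρ π) (q : Sq ⟶ Spec (CommRingCat.of k)) (hq : π ≫ q = pullback.fst (C ↘ Spec (CommRingCat.of k)) (C ↘ Spec (CommRingCat.of k)) ≫ (C ↘ Spec (CommRingCat.of k)))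
    (W : Sq.Modules) (hW : ExtPow.IsExtPow 2 (Omega.sheaf q) W) :
    letI : Sq.Over (Spec (CommRingCat.of k)) := ⟨q⟩
    FGA.intNum k Sq 2 ![W, W] (Coh.structureModule Sq) = ((g : ℤ) - 1) * (4 * (g : ℤ) - 9) := by
  letI : Sq.Over (Spec (CommRingCat.of k)) := ⟨q⟩
  letI := HypSqLib.overSq k C
  haveI := HypSqLib.integral k C
  have hS : SymSqLib.IsSym π (Sq ↘ Spec (CommRingCat.of k)) := SymSqLib.isSym_of hρ hπ hq
  haveI : IsProper (Sq ↘ Spec (CommRingCat.of k)) := hS.proper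
  haveI := CurvLib.isNoetherian k (X := Sq)
  obtain ⟨hWi, ⟨e⟩⟩ := SymSqLib.canonical hS h2 hdim hg hgen κ hκ hκ2 σ hσp hσ hσ1 N hN hNinv hW
  obtain ⟨e1⟩ := SymSqLib.nonempty_Fm_add (k := k) (C := C) κ (g - 2) (g - 2)
  obtain ⟨e2⟩ := IntMultLib.nonempty_tensorPow_add N 1 1
  have c1 := SymSqLib.euler_Fm_tw hS h2 hdim hWi hg hgen κ hκ hκ2 σ hσp hσ hσ1 N hN hNinv e
  have c2 := SymSqLib.euler_Fm_tw hS h2 hdim (HilbPolyLib.isInvertible_tensor hWi hWi) hg hgen κ hκ hκ2 σ hσp hσ hσ1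
    N hN hNinv (m := g - 2 + (g - 2)) (r := 1 + 1) (PicPnLib.pullTens π W W ≪≫ HilbPolyLib.congrLeft e _ ≪≫
      HilbPolyLib.congrRight _ e ≪≫ HypSqLib.middle _ _ _ _ ≪≫ HilbPolyLib.congrLeft e1.symm _ ≪≫
      HilbPolyLib.congrRight _ e2.symm)
  have hO := SymSqLib.euler_O hS h2 hdim hg hgen κ hκ hκ2 σ hσp hσ hσ1
  rw [SurfNumLib.intNum_eq_pr (SymSqLib.proper_dim hS hdim).1, HypSqLib.pr_expand]
  have g2 : ((g - 2 : ℕ) : ℤ) = (g : ℤ) - 2 := by omega
  push_cast [g2] at c1 c2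
  ring_nf at hO c1 c2 ⊢
  linarith

end Groth.Agent.S19090
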