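import Groth.Statements.S19092
import Mathlib


-- import your own Groth.Agent.* helpers here

set_option autoImplicit false
universe u
open FrobAlg

namespace Groth.Agent.S19092

/-- Let p be a prime and A a commutative ring of characteristic p whose absolute Frobenius a ↦ a^p is a
finite ring homomorphism. Then the same holds for every quotient and every localization of A: for
every ideal I of A such that A ⧸ I has characteristic p (every proper ideal) the absolute Frobenius
of A ⧸ I is finite, and for every submonoid S of A and every localization B of A at S of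
characteristic p (every nonzero localization) the absolute Frobenius of B is finite. -/
theorem result (p : ℕ) [Fact p.Prime]
    (A : Type u) [CommRing A] [CharP A p] (hF : (frobenius A p).Finite) :
    (∀ (I : Ideal A) [CharP (A ⧸ I) p], (frobenius (A ⧸ I) p).Finite) ∧
      ∀ (S : Submonoid A) (B : Type u) [CommRing B] [Algebra A B] [IsLocalization S B] [CharP B p],
        (frobenius B p).Finite := by
  refine ⟨fun I _ => ?_, fun S B _ _ _ _ => ?_⟩
  · refine RingHom.Finite.of_comp_finite (f := Ideal.Quotient.mk I) ?_
    have e : (frobenius (A ⧸ I) p).comp (Ideal.Quotient.mk I) = (Ideal.Quotient.mk I).comp (frobenius A p) := by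
      ext a; simp [frobenius_def]
    rw [e]
    exact RingHom.Finite.comp (RingHom.Finite.of_surjective _ Ideal.Quotient.mk_surjective) hF
  · classical
    obtain ⟨G, hG⟩ := @Module.Finite.fg_top A A _ _ (frobenius A p).toAlgebra.toModule hF
    have hA : ∀ x : A, ∃ c : A → A, x = ∑ g ∈ G, (c g) ^ p * g := by
      intro x
      letI := (frobenius A p).toAlgebra
      have hx : x ∈ @Submodule.span A A _ _ (frobenius A p).toAlgebra.toModule (G : Set A) := by
        rw [hG]; trivial
      obtain ⟨c, -, hc⟩ := (@Submodule.mem_span_finset _ _ _ _ (frobenius A p).toAlgebra.toModule _ _).1 hx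
      exact ⟨c, hc.symm⟩
    refine (@Module.finite_def B B _ _ (frobenius B p).toAlgebra.toModule).2 ⟨G.image (algebraMap A B), ?_⟩
    refine eq_top_iff.2 fun b _ => ?_
    obtain ⟨a, s, rfl⟩ := IsLocalization.exists_mk'_eq S b
    obtain ⟨c, hc⟩ := hA (a * (s : A) ^ (p - 1))
    have hp : p - 1 + 1 = p := Nat.sub_add_cancel (Fact.out : p.Prime).one_le
    have h1 : IsLocalization.mk' B a s = ∑ g ∈ G, frobenius B p (IsLocalization.mk' B (1 : A) s * algebraMap A B (c g)) * algebraMap A B g := by
      have hu : IsLocalization.mk' B (1 : A) s * algebraMap A B s = 1 := by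
        rw [IsLocalization.mk'_spec, map_one]
      calc IsLocalization.mk' B a s = IsLocalization.mk' B (1 : A) s * algebraMap A B a * (IsLocalization.mk' B (1 : A) s * algebraMap A B s) ^ (p - 1) := by
            rw [hu, one_pow, mul_one, IsLocalization.mk'_eq_iff_eq_mul]
            rw [mul_right_comm, hu, one_mul]
        _ = IsLocalization.mk' B (1 : A) s ^ p * algebraMap A B (a * (s : A) ^ (p - 1)) := by
            conv_rhs => rw [← hp, pow_succ, hp]
            rw [map_mul, map_pow, mul_pow]; ring
        _ = _ := by
            rw [hc, map_sum, Finset.mul_sum]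
            refine Finset.sum_congr rfl fun g _ => ?_
            rw [frobenius_def, map_mul, map_pow, mul_pow]; ring
    rw [h1]
    letI := (frobenius B p).toAlgebra
    refine Submodule.sum_mem _ fun g hg => ?_
    exact @Submodule.smul_mem B B _ _ (frobenius B p).toAlgebra.toModule _ _ _
      (@Submodule.subset_span B B _ _ (frobenius B p).toAlgebra.toModule _ _ (by
        rw [Finset.coe_image]; exact ⟨g, hg, rfl⟩))

end Groth.Agent.S19092
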