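import Groth.Statements.S19093
import Mathlib

set_option autoImplicit false
universe u
open FrobAlg

namespace Groth.Agent.S19093

open PowerSeries in
/-- Finiteness of the Frobenius of a power series ring over a perfect field. -/
theorem finite_powerSeries (p : ℕ) [Fact p.Prime] (k : Type u) [Field k] [CharP k p] [PerfectRing k p]
    [CharP (PowerSeries k) p] : (frobenius (PowerSeries k) p).Finite := by
  have hp : 0 < p := (Fact.out : p.Prime).pos
  let g : Polynomial (PowerSeries k) →+* PowerSeries k :=
    Polynomial.eval₂RingHom (frobenius (PowerSeries k) p) X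
  suffices hg : Function.Surjective g by
    refine RingHom.IsIntegral.to_finite (fun x => ⟨Polynomial.X ^ p - Polynomial.C x,
      Polynomial.monic_X_pow_sub_C x (Fact.out : p.Prime).ne_zero, by simp [frobenius_def]⟩) ?_
    rw [show frobenius (PowerSeries k) p = g.comp Polynomial.C from
      RingHom.ext fun x => (Polynomial.eval₂_C _ _).symm]
    exact (RingHom.FiniteType.of_surjective g hg).comp
      (RingHom.finiteType_algebraMap.2 inferInstance : (Polynomial.C (R := PowerSeries k)).FiniteType)
  intro f
  let h : ℕ → PowerSeries k := fun i =>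
    PowerSeries.mk fun n => (frobeniusEquiv k p).symm (coeff (p * n + i) f)
  have hh : ∀ i, (h i) ^ p = PowerSeries.expand p hp.ne' (PowerSeries.mk fun n => coeff (p * n + i) f) := by
    intro i
    have hm : PowerSeries.map (frobenius k p) (PowerSeries.expand p hp.ne' (h i)) = h i ^ p :=
      MvPowerSeries.map_frobenius_expand p hp.ne'
    ext n
    rw [← hm, PowerSeries.coeff_map, PowerSeries.coeff_expand, PowerSeries.coeff_expand]
    simp only [h, PowerSeries.coeff_mk]
    split
    · simp
    · simp
  refine ⟨∑ i ∈ Finset.range p, Polynomial.C (h i) * Polynomial.X ^ i, ?_⟩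
  have hf : f = ∑ i ∈ Finset.range p, (h i) ^ p * (X : PowerSeries k) ^ i := by
    ext n
    rw [map_sum, Finset.sum_eq_single (n % p)]
    · rw [hh, PowerSeries.coeff_mul_X_pow', if_pos (Nat.mod_le n p), PowerSeries.coeff_expand,
        if_pos (Nat.dvd_sub_mod n), PowerSeries.coeff_mk]
      congr 1
      rw [Nat.mul_div_cancel' (Nat.dvd_sub_mod n), Nat.sub_add_cancel (Nat.mod_le n p)]
    · intro i hi hne
      rw [hh, PowerSeries.coeff_mul_X_pow']
      split
      · rename_i hle
        rw [PowerSeries.coeff_expand, if_neg]
        intro hd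
        refine hne ?_
        obtain ⟨c, hc⟩ := hd
        rw [show n = i + p * c by omega, Nat.add_mul_mod_self_left,
          Nat.mod_eq_of_lt (Finset.mem_range.1 hi)]
      · rfl
    · intro hn
      exact absurd (Finset.mem_range.2 (Nat.mod_lt n hp)) hn
  conv_rhs => rw [hf]
  rw [map_sum]
  exact Finset.sum_congr rfl fun i _ => by simp [g, frobenius_def]

/-- Let p be a prime, k a finite field of characteristic p, A a commutative k[[t]]-algebra of finite
type over the power series ring k[[t]], and P a prime ideal of A. Then the absolute Frobenius a ↦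
a^p of the local ring A_P is a finite ring homomorphism. In particular every local ring of a scheme
of finite type over k[[t]] has finite absolute Frobenius. (The instance hypothesis that A_P has
characteristic p always holds, A_P being a nonzero algebra over k.) The published statement is for
the local rings of a projective strictly semistable scheme over k[[t]] and adds that such a scheme
is regular with F-finite local rings; its proof uses only that the scheme is of finite type over
k[[t]], which is the form stated here. -/
theorem result (p : ℕ) [Fact p.Prime]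
    (k : Type u) [Field k] [Finite k] [CharP k p]
    (A : Type u) [CommRing A] [Algebra (PowerSeries k) A] [Algebra.FiniteType (PowerSeries k) A]
    (P : Ideal A) [P.IsPrime] [CharP (Localization.AtPrime P) p] :
    (frobenius (Localization.AtPrime P) p).Finite := by
  haveI : Nontrivial A := (algebraMap A (Localization.AtPrime P)).domain_nontrivial
  haveI : CharP A p := charP_of_injective_ringHom
    ((algebraMap (PowerSeries k) A).comp (PowerSeries.C : k →+* PowerSeries k)).injective p
  haveI : CharP (PowerSeries k) p := charP_of_injective_ringHom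
    (PowerSeries.C : k →+* PowerSeries k).injective p
  have hB := finite_powerSeries p k
  have hA : (frobenius A p).Finite := by
    refine RingHom.IsIntegral.to_finite (fun x => ⟨Polynomial.X ^ p - Polynomial.C x,
      Polynomial.monic_X_pow_sub_C x (Fact.out : p.Prime).ne_zero, by
        simp [frobenius_def]⟩) ?_
    refine RingHom.FiniteType.of_comp_finiteType (f := algebraMap (PowerSeries k) A) ?_
    rw [show (frobenius A p).comp (algebraMap (PowerSeries k) A) =
      (algebraMap (PowerSeries k) A).comp (frobenius (PowerSeries k) p) from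
        RingHom.ext fun x => (map_pow (algebraMap (PowerSeries k) A) x p).symm]
    exact RingHom.FiniteType.comp (RingHom.finiteType_algebraMap.2 inferInstance) hB.to_finiteType
  let L := Localization.AtPrime P
  obtain ⟨n, φ, hφ, hφC⟩ : ∃ (n : ℕ) (φ : MvPolynomial (Fin n) A →+* A),
      Function.Surjective φ ∧ ∀ a, φ (MvPolynomial.C a) = a ^ p := by
    letI := (frobenius A p).toAlgebra
    obtain ⟨G, hG⟩ := (hA.to_finiteType : Algebra.FiniteType A A).out
    let φ : MvPolynomial (Fin G.card) A →+* A :=
      MvPolynomial.eval₂Hom (frobenius A p) fun i => (G.equivFin.symm i).1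
    refine ⟨G.card, φ, fun a => ?_, fun a => MvPolynomial.eval₂Hom_C _ _ _⟩
    have ha : a ∈ Algebra.adjoin A (G : Set A) := hG ▸ Algebra.mem_top
    induction ha using Algebra.adjoin_induction with
    | mem x hx => exact ⟨MvPolynomial.X (G.equivFin ⟨x, hx⟩), by simp [φ]⟩
    | algebraMap r => exact ⟨MvPolynomial.C r, MvPolynomial.eval₂Hom_C _ _ _⟩
    | add x y _ _ hx hy =>
      obtain ⟨v, rfl⟩ := hx
      obtain ⟨w, rfl⟩ := hy
      exact ⟨v + w, map_add φ v w⟩
    | mul x y _ _ hx hy =>
      obtain ⟨v, rfl⟩ := hx
      obtain ⟨w, rfl⟩ := hy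
      exact ⟨v * w, map_mul φ v w⟩
  let ψ : MvPolynomial (Fin n) L →+* L :=
    MvPolynomial.eval₂Hom (frobenius L p) fun i => algebraMap A L (φ (MvPolynomial.X i))
  have hcomp : ψ.comp (MvPolynomial.map (algebraMap A L)) = (algebraMap A L).comp φ :=
    MvPolynomial.ringHom_ext (fun a => by simp [ψ, hφC, frobenius_def]) fun i => by simp [ψ]
  have hψ : Function.Surjective ψ := by
    intro x
    obtain ⟨⟨a, s⟩, rfl⟩ := IsLocalization.mk'_surjective P.primeCompl x
    simp only [Function.uncurry_apply_pair]
    obtain ⟨w, hw⟩ := hφ (a * (s : A) ^ (p - 1))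
    let u : L := IsLocalization.mk' L 1 s
    refine ⟨MvPolynomial.C u * MvPolynomial.map (algebraMap A L) w, ?_⟩
    rw [map_mul, show ψ (MvPolynomial.map (algebraMap A L) w) = algebraMap A L (φ w) from RingHom.congr_fun hcomp w, hw]
    simp only [ψ, MvPolynomial.eval₂Hom_C, frobenius_def]
    symm
    rw [IsLocalization.mk'_eq_iff_eq_mul, map_mul, map_pow]
    have hu : u * algebraMap A L (s : A) = 1 := by rw [IsLocalization.mk'_spec, map_one]
    have hp : algebraMap A L (s : A) ^ p = algebraMap A L (s : A) ^ (p - 1) * algebraMap A L (s : A) := by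
      rw [← pow_succ, Nat.sub_add_cancel (Fact.out : p.Prime).one_le]
    calc algebraMap A L a = (u * algebraMap A L (s : A)) ^ p * algebraMap A L a := by
          rw [hu, one_pow, one_mul]
      _ = _ := by rw [mul_pow, hp]; ring
  refine RingHom.IsIntegral.to_finite (fun x => ⟨Polynomial.X ^ p - Polynomial.C x,
    Polynomial.monic_X_pow_sub_C x (Fact.out : p.Prime).ne_zero, by simp [frobenius_def]⟩) ?_
  rw [show frobenius (Localization.AtPrime P) p = ψ.comp MvPolynomial.C from
    RingHom.ext fun x => (MvPolynomial.eval₂Hom_C _ _ _).symm]
  exact (RingHom.FiniteType.of_surjective ψ hψ).comp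
    (RingHom.finiteType_algebraMap.2 inferInstance :
      (MvPolynomial.C (R := L) (σ := Fin n)).FiniteType)

end Groth.Agent.S19093
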