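import Groth.Statements.S19094
import Groth.Agent.PDegLib.Main


-- import your own Groth.Agent.* helpers here

set_option autoImplicit false
universe u
open FrobAlg

namespace Groth.Agent.S19094

/-- Let p be a prime, k a finite field of characteristic p and K a finitely generated field extension of
the Laurent series field k((t)) of finite transcendence degree d. Then [K : K^p] = p^(d+1), where
K^p ⊆ K is the subfield of p-th powers (the image of the Frobenius). The case of interest is the
residue field of a generic point of a projective strictly semistable scheme of relative dimension d
over k[[t]], which is such an extension. -/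
theorem result (p : ℕ) [Fact p.Prime]
    (k : Type u) [Field k] [Finite k] [CharP k p]
    (K : Type u) [Field K] [Algebra (LaurentSeries k) K] [CharP K p]
    (hfg : (⊤ : IntermediateField (LaurentSeries k) K).FG)
    (d : ℕ) (hd : Algebra.trdeg (LaurentSeries k) K = d) :
    Module.finrank (↥(frobenius K p).fieldRange) K = p ^ (d + 1) := by
  haveI : CharP (LaurentSeries k) p := charP_of_injective_algebraMap (algebraMap k (LaurentSeries k)).injective p
  rw [Groth.Agent.PDegLib.d_eq_finrank]
  rw [Groth.Agent.PDegLib.d_fg p (LaurentSeries k) K (by rw [Groth.Agent.PDegLib.d_laurent]; exact (Fact.out : p.Prime).ne_zero) hfg d hd,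
    Groth.Agent.PDegLib.d_laurent, pow_succ]

end Groth.Agent.S19094
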