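import Groth.Statements.S19098
import Groth.Agent.ChGrpFixLib.Cover

set_option autoImplicit false
universe u
open CategoryTheory MonoidalCategory CartesianMonoidalCategory MonObj AlgebraicGeometry
open ChGrp

namespace Groth.Agent.S19098

open CategoryTheory.Limits

/-- Let S be a scheme, G an S-group scheme acting on an S-scheme X through a, and h an S-point of G. Let
i : Z → G be a homomorphism and ψ : Ψ → G a monomorphism with a G-action on Ψ under which ψ
intertwines with conjugation, and o an S-point of Ψ over h, such that (Ψ, o) is the homogeneous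
space G/Z for the fppf topology through the orbit map g ↦ g h g⁻¹ (so Z is the centralizer of h and
Ψ its conjugacy class). Let incl : X^h → X be a monomorphism whose points are the points of X fixed
by h, with the Z-action restricted from a; let σ : S_Ψ → G ×_S X be a monomorphism whose points are
the pairs (g, x) with g a point of Ψ and g x = x (the part of the global stabilizer over Ψ), with
the G-action by conjugation on the first entry and by a on the second; and let Φ : G ×_S X^h → S_Ψ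
be the morphism (g, x) ↦ (g h g⁻¹, g x). Then Φ makes S_Ψ, with its G-action, the balanced product G
×^Z X^h for the fppf topology: Φ is G-equivariant, it is a Z-torsor for the action z (g, x) = (g
z⁻¹, z x), and it has sections fppf-locally on S_Ψ. (The source works with algebraic spaces of
finite type over the complex numbers and a semisimple conjugacy class Ψ, where the identification of
Ψ with G/Z comes from the theory of algebraic groups; here that identification is the hypothesis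
hhom, the base is arbitrary and X is a scheme.) -/
theorem result
    {S : Scheme.{u}} {G X Z Ψ Xh SΨ : Over S} [GrpObj G] [GrpObj Z]
    (a : AlgGrp.Action G X) (h : 𝟙_ (Over S) ⟶ G)
    (i : Z ⟶ G) [IsMonHom i]
    (ψ : Ψ ⟶ G) [Mono ψ] (aΨ : AlgGrp.Action G Ψ)
    (hψ : aΨ.act ≫ ψ = fst G Ψ * (snd G Ψ ≫ ψ) * (fst G Ψ)⁻¹)
    (o : 𝟙_ (Over S) ⟶ Ψ) (ho : o ≫ ψ = h)
    (hhom : ChGrp.IsHomog Scheme.fppfPrecoverage i aΨ o)
    (incl : Xh ⟶ X) [Mono incl]
    (hXh : ∀ (T : Over S) (x : T ⟶ X), (∃ y : T ⟶ Xh, y ≫ incl = x) ↔ lift (toUnit T ≫ h) x ≫ a.act = x)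
    (aXh : AlgGrp.Action Z Xh) (hincl : AlgGrp.Action.IsEquivariant aXh (a.restrict i) incl)
    (σ : SΨ ⟶ G ⊗ X) [Mono σ]
    (hSΨ : ∀ (T : Over S) (g : T ⟶ G) (x : T ⟶ X),
      (∃ q : T ⟶ SΨ, q ≫ σ = lift g x) ↔ ((∃ y : T ⟶ Ψ, y ≫ ψ = g) ∧ lift g x ≫ a.act = x))
    (aS : AlgGrp.Action G SΨ)
    (hσ : aS.act ≫ σ = lift (fst G SΨ * (snd G SΨ ≫ σ ≫ fst G X) * (fst G SΨ)⁻¹)
      (lift (fst G SΨ) (snd G SΨ ≫ σ ≫ snd G X) ≫ a.act))
    (Φ : G ⊗ Xh ⟶ SΨ)
    (hΦ : Φ ≫ σ = lift (fst G Xh * (toUnit (G ⊗ Xh) ≫ h) * (fst G Xh)⁻¹)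
      (lift (fst G Xh) (snd G Xh ≫ incl) ≫ a.act)) :
    ChGrp.IsBalProd Scheme.fppfPrecoverage i aXh aS Φ := by
  obtain ⟨-, hcart, hloc⟩ := hhom
  have hπψ : ∀ {T : Over S} (g : T ⟶ G), (g ≫ aΨ.orbitMap o) ≫ ψ = g * (toUnit T ≫ h) * g⁻¹ := fun {T} g => by
    rw [AlgGrp.Action.comp_orbitMap, Category.assoc, hψ, comp_mul, comp_mul, GrpObj.comp_inv, lift_fst,
      lift_snd_assoc, Category.assoc, ho]
  have hΦp : ∀ {T : Over S} (g : T ⟶ G) (y : T ⟶ Xh),
      lift g y ≫ Φ ≫ σ = lift (g * (toUnit T ≫ h) * g⁻¹) (lift g (y ≫ incl) ≫ a.act) := fun {T} g y => by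
    simp only [hΦ, comp_lift, comp_mul, GrpObj.comp_inv, lift_fst, lift_snd_assoc, comp_lift_assoc, comp_toUnit_assoc]
  have hincl' : ∀ {T : Over S} (z : T ⟶ Z) (y : T ⟶ Xh),
      (lift z y ≫ aXh.act) ≫ incl = lift (z ≫ i) (y ≫ incl) ≫ a.act := fun {T} z y => by
    rw [Category.assoc, show aXh.act ≫ incl = (Z ◁ incl) ≫ (a.restrict i).act from hincl,
      lift_whiskerLeft_assoc, AlgGrp.Action.lift_restrict_act]
  have hzh : ∀ {T : Over S} (g : T ⟶ G) (z : T ⟶ Z),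
      (g * (z ≫ i)) * (toUnit T ≫ h) * (g * (z ≫ i))⁻¹ = g * (toUnit T ≫ h) * g⁻¹ := fun {T} g z => by
    have e := congrArg (fun φ => (lift g z ≫ φ) ≫ ψ) hcart.w
    simp only [lift_fst_assoc, lift_whiskerLeft_assoc, Category.assoc] at e
    rw [← hπψ, ← hπψ]
    simpa only [Category.assoc, Hom.mul_def] using e.symm
  have hσext : ∀ {T : Over S} {u v : T ⟶ SΨ}, u ≫ σ = v ≫ σ → u = v := fun e => (cancel_mono σ).1 e
  have htw : ∀ {T : Over S} (z : T ⟶ Z) (g : T ⟶ G) (y : T ⟶ Xh),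
      lift z (lift g y) ≫ (ChGrp.twist i aXh).act ≫ Φ = lift g y ≫ Φ := fun {T} z g y => by
    apply hσext
    rw [ChGrp.lift_twist_act_assoc, Category.assoc, Category.assoc, hΦp, hΦp, hincl']
    have h1 := hzh (g * (z ≫ i)⁻¹) z
    rw [inv_mul_cancel_right] at h1
    rw [← h1, ← AlgGrp.Action.lift_mul_act, inv_mul_cancel_right]
  have hsplit : ∀ {T : Over S} (p : T ⟶ G ⊗ Xh), lift (p ≫ fst G Xh) (p ≫ snd G Xh) = p := fun p => by
    rw [← comp_lift, lift_fst_snd, Category.comp_id]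
  have hw : (ChGrp.twist i aXh).act ≫ Φ = snd Z (G ⊗ Xh) ≫ Φ := by
    apply AlgGrp.Action.hom_ext_lift₂
    intro T z p
    rw [lift_snd_assoc, ← hsplit p, htw]
  -- two points with the same image differ by a unique point of `Z`
  have hkey : ∀ {T : Over S} (p₁ p₂ : T ⟶ G ⊗ Xh), p₁ ≫ Φ = p₂ ≫ Φ →
      ∃! z : T ⟶ Z, lift z p₂ ≫ (ChGrp.twist i aXh).act = p₁ := fun {T} p₁ p₂ e => by
    rw [← hsplit p₁, ← hsplit p₂] at e ⊢
    generalize p₁ ≫ fst G Xh = g₁, p₁ ≫ snd G Xh = y₁, p₂ ≫ fst G Xh = g₂, p₂ ≫ snd G Xh = y₂ at e ⊢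
    have e' := congrArg (fun q => q ≫ σ) e
    simp only [Category.assoc, hΦp] at e'
    have e1 : g₁ * (toUnit T ≫ h) * g₁⁻¹ = g₂ * (toUnit T ≫ h) * g₂⁻¹ := by
      simpa only [lift_fst] using congrArg (fun q => q ≫ fst G X) e'
    have e2 : lift g₁ (y₁ ≫ incl) ≫ a.act = lift g₂ (y₂ ≫ incl) ≫ a.act := by
      simpa only [lift_snd] using congrArg (fun q => q ≫ snd G X) e'
    have eπ : g₂ ≫ aΨ.orbitMap o = g₁ ≫ aΨ.orbitMap o := by
      rw [← cancel_mono ψ, hπψ, hπψ, e1]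
    obtain ⟨w, hw1, hw2, hwuniq⟩ : ∃ w : T ⟶ G ⊗ Z, w ≫ fst G Z = g₂ ∧ w ≫ (G ◁ i) ≫ μ[G] = g₁ ∧
        ∀ w' : T ⟶ G ⊗ Z, w' ≫ fst G Z = g₂ → w' ≫ (G ◁ i) ≫ μ[G] = g₁ → w' = w :=
      ⟨hcart.lift g₂ g₁ eπ, hcart.lift_fst _ _ _, hcart.lift_snd _ _ _,
        fun w' a b => hcart.hom_ext (a.trans (hcart.lift_fst _ _ _).symm) (b.trans (hcart.lift_snd _ _ _).symm)⟩
    have hmul : ∀ z : T ⟶ Z, lift g₂ z ≫ (G ◁ i) ≫ μ[G] = g₂ * (z ≫ i) := fun z => by
      rw [lift_whiskerLeft_assoc, Hom.mul_def]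
    have hwz : g₂ * ((w ≫ snd G Z) ≫ i) = g₁ := by
      rw [← hmul]
      conv_rhs => rw [← hw2]
      rw [← hw1, ← comp_lift, lift_fst_snd, Category.comp_id]
    refine ⟨(w ≫ snd G Z)⁻¹, ?_, fun z hz => ?_⟩
    · beta_reduce
      rw [ChGrp.lift_twist_act, GrpObj.inv_comp, inv_inv, hwz]
      congr 1
      rw [← cancel_mono incl, hincl', GrpObj.inv_comp]
      have hb := congrArg (fun x => lift g₁⁻¹ x ≫ a.act) e2
      simp only [← AlgGrp.Action.lift_mul_act, inv_mul_cancel, AlgGrp.Action.lift_one_act] at hb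
      rw [hb]
      congr 2
      rw [← hwz, _root_.mul_inv_rev, _root_.mul_assoc, inv_mul_cancel, _root_.mul_one]
    · beta_reduce at hz
      rw [ChGrp.lift_twist_act] at hz
      have hz1 : g₂ * (z ≫ i)⁻¹ = g₁ := by
        simpa only [lift_fst] using congrArg (fun q => q ≫ fst G Xh) hz
      have := hwuniq (lift g₂ z⁻¹) (lift_fst _ _) (by rw [hmul, GrpObj.inv_comp, hz1])
      rw [← this, lift_snd, inv_inv]
  refine ⟨?_, ?_, ?_⟩
  · show _ ≫ Φ = (G ◁ Φ) ≫ aS.act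
    apply AlgGrp.Action.hom_ext_lift₂
    intro T γ p
    rw [← hsplit p]
    generalize p ≫ fst G Xh = g, p ≫ snd G Xh = y
    apply hσext
    rw [AlgGrp.Action.lift_prod_act_assoc, AlgGrp.Action.lift_trivial_act, lift_whiskerLeft_assoc]
    simp only [Category.assoc, hσ, comp_lift, comp_mul, GrpObj.comp_inv, lift_fst, lift_snd_assoc, comp_lift_assoc]
    have hb : (lift g y ≫ Φ ≫ σ ≫ fst G X) = g * (toUnit T ≫ h) * g⁻¹ := by
      rw [reassoc_of% (hΦp g y), lift_fst]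
    have hc : (lift g y ≫ Φ ≫ σ ≫ snd G X) = lift g (y ≫ incl) ≫ a.act := by
      rw [reassoc_of% (hΦp g y), lift_snd]
    rw [hb, hc, show lift γ g ≫ (NonAbH1.trivialAction G).act = γ * g from (Hom.mul_def γ g).symm, hΦp,
      ← AlgGrp.Action.lift_mul_act, _root_.mul_inv_rev]
    simp only [_root_.mul_assoc]
  · refine ⟨⟨hw⟩, ⟨PullbackCone.IsLimit.mk _ (fun c => lift (hkey c.fst c.snd c.condition).exists.choose c.snd)
      (fun c => (hkey c.fst c.snd c.condition).exists.choose_spec) (fun c => lift_snd _ _) (fun c m hm1 hm2 => ?_)⟩⟩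
    have hm : lift (m ≫ fst Z (G ⊗ Xh)) c.snd = m := by
      conv_rhs => rw [← Category.comp_id m, ← lift_fst_snd, comp_lift, hm2]
    have hz : lift (m ≫ fst Z (G ⊗ Xh)) c.snd ≫ (ChGrp.twist i aXh).act = c.fst := by rw [hm, hm1]
    rw [← (hkey c.fst c.snd c.condition).unique hz (hkey c.fst c.snd c.condition).exists.choose_spec]
    exact hm.symm
  · have hσsplit : lift (σ ≫ fst G X) (σ ≫ snd G X) = σ := by
      rw [← comp_lift, lift_fst_snd, Category.comp_id]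
    obtain ⟨⟨p, hp⟩, hfix⟩ := (hSΨ SΨ (σ ≫ fst G X) (σ ≫ snd G X)).1 ⟨𝟙 _, by rw [Category.id_comp, hσsplit]⟩
    obtain ⟨T', c, g, hc, hg⟩ := ChGrpFixLib.exists_lift (aΨ.orbitMap o) hloc p
    have hg' : g * (toUnit T' ≫ h) * g⁻¹ = c ≫ σ ≫ fst G X := by rw [← hπψ, hg, Category.assoc, hp]
    have hfix' : lift (c ≫ σ ≫ fst G X) (c ≫ σ ≫ snd G X) ≫ a.act = c ≫ σ ≫ snd G X := by
      rw [← comp_lift, Category.assoc]; exact congrArg (c ≫ ·) hfix
    generalize hx : c ≫ σ ≫ snd G X = x at hfix'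
    rw [← hg'] at hfix'
    obtain ⟨y, hy⟩ := (hXh T' (lift g⁻¹ x ≫ a.act)).2 (by
      conv_rhs => rw [← hfix', ← AlgGrp.Action.lift_mul_act]
      rw [← AlgGrp.Action.lift_mul_act]
      simp only [← _root_.mul_assoc, inv_mul_cancel, _root_.one_mul])
    have hq : lift g y ≫ Φ = c := by
      apply hσext
      rw [Category.assoc, hΦp, hy, hg', ← AlgGrp.Action.lift_mul_act, mul_inv_cancel,
        AlgGrp.Action.lift_one_act, ← hx, ← comp_lift, hσsplit]
    refine ⟨Presieve.singleton c.left, ?_, ?_⟩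
    · change Presieve.singleton c.left ∈ (Scheme.precoverage (@Flat ⊓ @LocallyOfFinitePresentation)).coverings _
      rw [Scheme.singleton_mem_precoverage_iff]
      exact ⟨hc.surj.surj, hc.flat, hc.lfp⟩
    · rintro _ _ ⟨⟩
      exact ⟨(lift g y).left, congrArg (·.left) hq⟩

end Groth.Agent.S19098
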