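import Groth.Statements.S19099
import Groth.Agent.ChGrpFixLib.Cover

set_option autoImplicit false
universe u
open CategoryTheory MonoidalCategory CartesianMonoidalCategory MonObj AlgebraicGeometry
open ChGrp

namespace Groth.Agent.S19099


open CategoryTheory.Limits

theorem bal_pts {S : Scheme.{u}} {Q G X Y : Over S} [GrpObj Q] [GrpObj G] (i : G ⟶ Q) [IsMonHom i]
    (a : AlgGrp.Action G X) (aY : AlgGrp.Action Q Y) (j : Q ⊗ X ⟶ Y)
    (hY : ChGrp.IsBalProd Scheme.fppfPrecoverage i a aY j) {T : Over S} :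
    (∀ (q q' : T ⟶ Q) (x : T ⟶ X), lift q (lift q' x ≫ j) ≫ aY.act = lift (q * q') x ≫ j) ∧
    (∀ (g : T ⟶ G) (q : T ⟶ Q) (x : T ⟶ X),
      lift (q * (g ≫ i)⁻¹) (lift g x ≫ a.act) ≫ j = lift q x ≫ j) ∧
    (∀ (q₁ q₂ : T ⟶ Q) (x₁ x₂ : T ⟶ X), lift q₁ x₁ ≫ j = lift q₂ x₂ ≫ j →
      ∃ g : T ⟶ G, q₂ * (g ≫ i)⁻¹ = q₁ ∧ lift g x₂ ≫ a.act = x₁) := by
  obtain ⟨heq, hcart, -⟩ := hY
  refine ⟨fun q q' x => ?_, fun g q x => ?_, fun q₁ q₂ x₁ x₂ e => ?_⟩
  · have e : lift q (lift q' x) ≫ ((NonAbH1.trivialAction Q).prod (AlgGrp.Action.trivial Q X)).act ≫ j =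
        lift q (lift q' x) ≫ (Q ◁ j) ≫ aY.act := congrArg (lift q (lift q' x) ≫ ·) heq
    rw [AlgGrp.Action.lift_prod_act_assoc, AlgGrp.Action.lift_trivial_act, lift_whiskerLeft_assoc,
      show lift q q' ≫ (NonAbH1.trivialAction Q).act = q * q' from (Hom.mul_def q q').symm] at e
    exact e.symm
  · rw [← ChGrp.lift_twist_act_assoc, hcart.w, lift_snd_assoc]
  · have hl := hcart.lift_fst (lift q₁ x₁) (lift q₂ x₂) e
    have hr := hcart.lift_snd (lift q₁ x₁) (lift q₂ x₂) e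
    generalize hcart.lift (lift q₁ x₁) (lift q₂ x₂) e = w at hl hr
    have hw : lift (w ≫ fst G (Q ⊗ X)) (lift q₂ x₂) = w := by
      rw [← hr, ← comp_lift, lift_fst_snd, Category.comp_id]
    rw [← hw, ChGrp.lift_twist_act] at hl
    exact ⟨w ≫ fst G (Q ⊗ X), by simpa only [lift_fst] using congrArg (· ≫ fst Q X) hl,
      by simpa only [lift_snd] using congrArg (· ≫ snd Q X) hl⟩

/-- Let S be a scheme, i : G → Q a monomorphic homomorphism of S-group schemes (a closed subgroup), h an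
S-point of G whose image in Q is central, and X an S-scheme with a G-action a. Let incl : X^h → X be
a monomorphism whose points are the points of X fixed by h, with a G-action making incl equivariant
(X^h is G-stable since h is central in G). Let Y with its Q-action and j : Q ×_S X → Y be the
balanced product Q ×^G X for the fppf topology, Y' with j' : Q ×_S X^h → Y' the balanced product Q
×^G X^h, and m : Y' → Y the morphism under which j' followed by m is Q × incl followed by j. Then m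
is a monomorphism, a point of Y factors through m exactly when it is fixed by h acting on Y through
the Q-action, and m is a closed immersion if incl is one: Q ×^G X^h is the fixed locus of h in Q ×^G
X. (The source states this for a smooth algebraic space X of finite type over the complex numbers,
as an equality of closed subspaces, and argues on closed points; the form here is the one its
computation gives for the fppf quotients over any base, with X a scheme.) -/
theorem result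
    {S : Scheme.{u}} {Q G X Xh Y Y' : Over S} [GrpObj Q] [GrpObj G]
    (i : G ⟶ Q) [IsMonHom i] [Mono i]
    (h : 𝟙_ (Over S) ⟶ G)
    (hcent : ∀ (T : Over S) (q : T ⟶ Q), q * (toUnit T ≫ h ≫ i) = (toUnit T ≫ h ≫ i) * q)
    (a : AlgGrp.Action G X)
    (incl : Xh ⟶ X) [Mono incl]
    (hXh : ∀ (T : Over S) (x : T ⟶ X), (∃ y : T ⟶ Xh, y ≫ incl = x) ↔ lift (toUnit T ≫ h) x ≫ a.act = x)
    (aXh : AlgGrp.Action G Xh) (hincl : AlgGrp.Action.IsEquivariant aXh a incl)
    (aY : AlgGrp.Action Q Y) (j : Q ⊗ X ⟶ Y) (hY : ChGrp.IsBalProd Scheme.fppfPrecoverage i a aY j)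
    (aY' : AlgGrp.Action Q Y') (j' : Q ⊗ Xh ⟶ Y') (hY' : ChGrp.IsBalProd Scheme.fppfPrecoverage i aXh aY' j')
    (m : Y' ⟶ Y) (hm : j' ≫ m = (Q ◁ incl) ≫ j) :
    Mono m ∧
      (∀ (T : Over S) (y : T ⟶ Y), (∃ y' : T ⟶ Y', y' ≫ m = y) ↔ lift (toUnit T ≫ h ≫ i) y ≫ aY.act = y) ∧
      (IsClosedImmersion incl.left → IsClosedImmersion m.left) := by
  have hsplit : ∀ {T : Over S} {A B : Over S} (p : T ⟶ A ⊗ B), lift (p ≫ fst A B) (p ≫ snd A B) = p :=
    fun p => by rw [← comp_lift, lift_fst_snd, Category.comp_id]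
  have hincl' : ∀ {T : Over S} (g : T ⟶ G) (x : T ⟶ Xh),
      (lift g x ≫ aXh.act) ≫ incl = lift g (x ≫ incl) ≫ a.act := fun g x => by
    rw [Category.assoc, show aXh.act ≫ incl = (G ◁ incl) ≫ a.act from hincl, lift_whiskerLeft_assoc]
  have hm' : ∀ {T : Over S} (q : T ⟶ Q) (x : T ⟶ Xh), (lift q x ≫ j') ≫ m = lift q (x ≫ incl) ≫ j :=
    fun q x => by rw [Category.assoc, hm, lift_whiskerLeft_assoc]
  -- fixed points in terms of representatives
  have hfix : ∀ {T : Over S} (q : T ⟶ Q) (x : T ⟶ X),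
      lift (toUnit T ≫ h ≫ i) (lift q x ≫ j) ≫ aY.act = lift q x ≫ j ↔
        lift (toUnit T ≫ h) x ≫ a.act = x := fun {T} q x => by
    obtain ⟨hpts, htw, hex⟩ := bal_pts i a aY j hY (T := T)
    rw [hpts, ← hcent T q]
    constructor
    · intro e
      obtain ⟨g, hg1, hg2⟩ := hex _ _ _ _ e
      have hg : g⁻¹ = toUnit T ≫ h := by
        rw [← cancel_mono i, GrpObj.inv_comp, Category.assoc]
        exact mul_left_cancel hg1
      conv_rhs => rw [← AlgGrp.Action.lift_one_act a x, ← inv_mul_cancel g, AlgGrp.Action.lift_mul_act, hg2]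
      rw [hg]
    · intro e
      conv_rhs => rw [← htw (toUnit T ≫ h)⁻¹ q x]
      have e' : lift (toUnit T ≫ h)⁻¹ x ≫ a.act = x := by
        conv_lhs => rw [← e, ← AlgGrp.Action.lift_mul_act, inv_mul_cancel, AlgGrp.Action.lift_one_act]
      rw [e', GrpObj.inv_comp, inv_inv, Category.assoc]
  haveI hmono : Mono m := ⟨fun {T} y₁ y₂ e => by
    obtain ⟨T₁, c₁, p₁, hc₁, hp₁⟩ := ChGrpFixLib.exists_lift j' hY'.2.2 y₁
    obtain ⟨T₂, c₂, p₂, hc₂, hp₂⟩ := ChGrpFixLib.exists_lift j' hY'.2.2 (c₁ ≫ y₂)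
    haveI := hc₁.epi
    haveI := hc₂.epi
    rw [← cancel_epi c₁, ← cancel_epi c₂, ← hp₁, ← hp₂, ← Category.assoc, ← hsplit (c₂ ≫ p₁), ← hsplit p₂]
    have e' : (lift ((c₂ ≫ p₁) ≫ fst Q Xh) ((c₂ ≫ p₁) ≫ snd Q Xh) ≫ j') ≫ m =
        (lift (p₂ ≫ fst Q Xh) (p₂ ≫ snd Q Xh) ≫ j') ≫ m := by
      rw [hsplit, hsplit, Category.assoc c₂, hp₁, hp₂]
      simp only [Category.assoc, e]
    rw [hm', hm'] at e'
    obtain ⟨g, hg1, hg2⟩ := (bal_pts i a aY j hY).2.2 _ _ _ _ e'
    have hg3 : lift g (p₂ ≫ snd Q Xh) ≫ aXh.act = (c₂ ≫ p₁) ≫ snd Q Xh := by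
      rw [← cancel_mono incl, hincl', hg2]
    rw [← hg1, ← hg3]
    exact (bal_pts i aXh aY' j' hY').2.1 _ _ _⟩
  have hpts2 : ∀ (T : Over S) (y : T ⟶ Y),
      (∃ y' : T ⟶ Y', y' ≫ m = y) ↔ lift (toUnit T ≫ h ≫ i) y ≫ aY.act = y := fun T y => by
    constructor
    · rintro ⟨y', rfl⟩
      obtain ⟨T₁, c, p, hc, hp⟩ := ChGrpFixLib.exists_lift j' hY'.2.2 y'
      haveI := hc.epi
      rw [← cancel_epi c, comp_lift_assoc, comp_toUnit_assoc, ← Category.assoc c y', ← hp, ← hsplit p, hm']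
      exact (hfix _ _).2 ((hXh _ _).1 ⟨_, rfl⟩)
    · intro e
      obtain ⟨T₁, c, p, hc, hp⟩ := ChGrpFixLib.exists_lift j hY.2.2 y
      have e1 := congrArg (c ≫ ·) e
      simp only [comp_lift_assoc, comp_toUnit_assoc] at e1
      rw [← hp, ← hsplit p, hfix] at e1
      obtain ⟨x', hx'⟩ := (hXh _ _).2 e1
      exact ChGrpFixLib.exists_factor_of_cov m hc y (lift (p ≫ fst Q X) x' ≫ j')
        (by rw [hm', hx', hsplit, hp])
  refine ⟨hmono, hpts2, fun hi => ?_⟩
  -- the square formed by `j'` and `j` is cartesian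
  have hkey : ∀ (T : Over S) (w : T ⟶ Q ⊗ X) (y' : T ⟶ Y'), w ≫ j = y' ≫ m →
      ∃ u : T ⟶ Q ⊗ Xh, u ≫ (Q ◁ incl) = w ∧ u ≫ j' = y' := fun T w y' e => by
    have e1 := (hpts2 T _).1 ⟨y', rfl⟩
    rw [← e, ← hsplit w, hfix] at e1
    obtain ⟨x', hx'⟩ := (hXh _ _).2 e1
    refine ⟨lift (w ≫ fst Q X) x', by rw [lift_whiskerLeft, hx', hsplit], ?_⟩
    rw [← cancel_mono m, hm', hx', hsplit, e]
  haveI : Mono (Q ◁ incl) := ⟨fun u v e => by
    refine CartesianMonoidalCategory.hom_ext u v ?_ ?_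
    · simpa using congrArg (· ≫ fst Q X) e
    · rw [← cancel_mono incl]; simpa using congrArg (· ≫ snd Q X) e⟩
  have hsq : IsPullback (Q ◁ incl) j' j m := ⟨⟨hm.symm⟩, ⟨PullbackCone.IsLimit.mk _
    (fun s => (hkey _ s.fst s.snd s.condition).choose)
    (fun s => (hkey _ s.fst s.snd s.condition).choose_spec.1)
    (fun s => (hkey _ s.fst s.snd s.condition).choose_spec.2)
    (fun s u hu₁ _ => (cancel_mono (Q ◁ incl)).1 (hu₁.trans (hkey _ s.fst s.snd s.condition).choose_spec.1.symm))⟩⟩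
  have h1 : IsClosedImmersion (Q ◁ incl).left := by
    refine MorphismProperty.of_isPullback (P := @IsClosedImmersion)
      (IsPullback.map (Over.forget S) (f := snd Q Xh) (g := Q ◁ incl) (h := incl) (i := snd Q X) ?_) hi
    refine ⟨⟨by simp⟩, ⟨PullbackCone.IsLimit.mk _ (fun s => lift (s.snd ≫ fst Q X) s.fst)
      (fun s => lift_snd _ _) (fun s => by rw [lift_whiskerLeft, s.condition, hsplit])
      (fun s u hu₁ hu₂ => ?_)⟩⟩
    refine CartesianMonoidalCategory.hom_ext _ _ ?_ (by rw [hu₁, lift_snd])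
    rw [lift_fst, ← hu₂]; simp
  obtain ⟨T₀, c, t, hc, ht⟩ := ChGrpFixLib.exists_lift j hY.2.2 (𝟙 Y)
  rw [Category.comp_id] at ht
  have hp' := IsPullback.of_hasPullback t.left (Q ◁ incl).left
  have h2 := MorphismProperty.of_isPullback (P := @IsClosedImmersion) hp'.flip h1
  have htl : t.left ≫ j.left = c.left := congrArg (·.left) ht
  have hbig : IsPullback (pullback.fst t.left (Q ◁ incl).left) (pullback.snd t.left (Q ◁ incl).left ≫ j'.left)
      c.left m.left := by
    rw [← htl]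
    exact (IsPullback.of_hasPullback t.left (Q ◁ incl).left).paste_vert (hsq.map (Over.forget S))
  haveI : MorphismProperty.DescendsAlong (@IsClosedImmersion : MorphismProperty Scheme.{u})
      (@Surjective ⊓ @Flat ⊓ @QuasiCompact) := AlgSpLib.descendsAlong_isClosedImmersion
  haveI : MorphismProperty.DescendsAlong (@IsClosedImmersion : MorphismProperty Scheme.{u})
      (@Surjective ⊓ @Flat ⊓ @LocallyOfFinitePresentation) := by
    set_option backward.isDefEq.respectTransparency.types false in infer_instance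
  exact MorphismProperty.of_isPullback_of_descendsAlong (P := @IsClosedImmersion)
    (Q := @Surjective ⊓ @Flat ⊓ @LocallyOfFinitePresentation) hbig ⟨⟨hc.surj, hc.flat⟩, hc.lfp⟩ h2

end Groth.Agent.S19099
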