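import Groth.Statements.S1910
import Mathlib
import Groth.Agent.CycSpLib.Subscheme
-- import your own Groth.Agent.* helpers here

set_option autoImplicit false
universe u
open CategoryTheory AlgebraicGeometry
open CategoryTheory.Limits
open Cyc
open scoped Pointwise

namespace Groth.Agent.S1910

/-- Let W → X be a closed immersion with W flat over R and dim W_η ≤ r. Then dim W_s ≤ r and sp([W_η]_r)
= [W_s]_r. Here R is a discrete valuation ring, a : X → Spec R is locally of finite type, X_η and
X_s are the fibres over the generic and closed points (Mathlib's Scheme.Hom.fiber) with their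
dimension functions δη, δs (transcendence degree of residue fields), r-cycles on X_η are cycles
supported at points with δη = r, and sp is the specialization map Z_r(X_η) → Z_r(X_s) on coefficient
functions (Cyc.spFun). -/
theorem result (R : Type u) [CommRing R] [IsDomain R] [IsDiscreteValuationRing R] (X : Scheme.{u}) (a : X ⟶ Spec (CommRingCat.of R)) [LocallyOfFiniteType a] (δη : ↥(a.fiber (genericPoint ↥(Spec (CommRingCat.of R)))) → ℤ) (δs : ↥(a.fiber (IsLocalRing.closedPoint R)) → ℤ) (hδη : Cyc.DeltaCompat (a.fiberToSpecResidueField (genericPoint ↥(Spec (CommRingCat.of R)))) δη (fun _ => 0)) (hδs : Cyc.DeltaCompat (a.fiberToSpecResidueField (IsLocalRing.closedPoint R)) δs (fun _ => 0)) (r : ℤ) (W : Scheme.{u}) (ι : W ⟶ X) [IsClosedImmersion ι] [Flat (ι ≫ a)] (hdim : ∀ ζ : ↥(a.fiber (genericPoint ↥(Spec (CommRingCat.of R)))), a.fiberι (genericPoint ↥(Spec (CommRingCat.of R))) ζ ∈ Set.range ⇑ι → δη ζ ≤ r) : (∀ x : ↥(a.fiber (IsLocalRing.closedPoint R)), a.fiberι (IsLocalRing.closedPoint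 R) x ∈ Set.range ⇑ι → δs x ≤ r) ∧ Cyc.spFun a (genericPoint ↥(Spec (CommRingCat.of R))) (IsLocalRing.closedPoint R) δη δs r (Cyc.subschemeFun δη r (pullback.snd ι (a.fiberι (genericPoint ↥(Spec (CommRingCat.of R)))))) = Cyc.subschemeFun δs r (pullback.snd ι (a.fiberι (IsLocalRing.closedPoint R))) := by
  classical
  haveI : IsLocallyNoetherian X := LocallyOfFiniteType.isLocallyNoetherian a
  obtain ⟨δX, hX, -, hfib⟩ := CycSpLib.exists_delta a
  have hη : ∀ ζ, δX (a.fiberι (CycSpLib.eta R) ζ) = δη ζ + 1 := fun ζ => by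
    rw [hfib _ δη hδη ζ, CycSpLib.baseδ_eta]
  have hs : ∀ x, δX (a.fiberι (CycSpLib.spl R) x) = δs x := fun x => by
    rw [hfib _ δs hδs x, CycSpLib.baseδ_spl, add_zero]
  haveI : IsLocallyNoetherian W := LocallyOfFiniteType.isLocallyNoetherian ι
  let F := (Coh.push ι).obj (Coh.structureModule W)
  have hF : Coh.IsCoh F := QCohLib.isCoh_push_finite ι _ (DevissLib.isCoh_structureModule W)
  have hrange : ∀ x : X, x ∈ Set.range ι ↔ Nontrivial (F.presheaf.stalk x) := fun x => by
    refine ⟨?_, fun h => by_contra fun hn => not_subsingleton_iff_nontrivial.2 h (CycP1Lib.subsingleton_stalk_push ι hn)⟩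
    rintro ⟨w, rfl⟩
    obtain ⟨e, hbij, -, -⟩ := CycSpLib.exists_push_structure_stalk ι w
    exact hbij.2.nontrivial
  obtain ⟨h1, h2⟩ := CycSpLib.sp_sheaf a hX hη hs r F hF (fun x _ => CycSpLib.injective_push_structure a ι x)
    (fun ζ h => hdim ζ ((hrange _).2 h))
  refine ⟨fun x hx => h1 x ((hrange _).1 hx), funext fun x => ?_⟩
  rw [h2 _ (fun ζ => ?_) x]
  · simp only [Cyc.subschemeFun]
    rw [CycSpLib.sum_length_fibre ι a x, CycSpLib.fibIdeal_spl a _ (CycSpLib.fib_apply a x),
      Submodule.ideal_span_singleton_smul]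
  simp only [Cyc.subschemeFun, Cyc.sheafFun]
  rw [CycSpLib.sum_length_fibre ι a ζ, CycSpLib.fibIdeal_eta a _ (CycSpLib.fib_apply a ζ), Submodule.bot_smul,
    (Submodule.quotEquivOfEqBot ⊥ rfl).length_eq]
  exact if_congr (by rw [hη]; omega) rfl rfl

end Groth.Agent.S1910
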