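import Groth.Statements.S19101
import Groth.Agent.S9371
import Groth.Agent.S9372

set_option autoImplicit false
open CategoryTheory MonoidalCategory CartesianMonoidalCategory MonObj AlgebraicGeometry Limits
open Omega

namespace Groth.Agent.S19101
universe u

/-- The unit of the base change lies over the unit. -/
theorem unit_fst {B : Scheme.{u}} (G Y : Over B) [GrpObj G] :
    (η[Red.bc Y.hom G]).left ≫ pullback.fst G.hom Y.hom = Y.hom ≫ (η[G]).left := by
  have h0 : η[Red.bc Y.hom G] = Functor.LaxMonoidal.ε (Over.pullback Y.hom) ≫ (Over.pullback Y.hom).map η[G] :=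
    Functor.obj.η_def G
  have h1 := Over.w (Functor.LaxMonoidal.ε (Over.pullback Y.hom))
  have h2 : (Functor.LaxMonoidal.ε (Over.pullback Y.hom)).left ≫ pullback.fst (𝟙_ (Over B)).hom Y.hom = Y.hom := by
    have := congrArg (fun m => (Functor.LaxMonoidal.ε (Over.pullback Y.hom)).left ≫ m)
      (pullback.condition (f := (𝟙_ (Over B)).hom) (g := Y.hom))
    refine (congrArg (fun m => _ ≫ m) (Category.comp_id _).symm).trans (this.trans ?_)
    exact (Category.assoc _ _ _).symm.trans ((congrArg (· ≫ Y.hom) h1).trans (Category.id_comp _))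
  rw [h0, Over.comp_left, Category.assoc]
  simp only [Over.pullback_map_left, pullback.lift_fst]
  exact (Category.assoc _ _ _).symm.trans (congrArg (· ≫ (η[G]).left) h2)

/-- The square of the unit section and the diagonal of a pseudo-torsor is cartesian and its base is flat. -/
theorem square {B : Scheme.{u}} {G Y : Over B} [GrpObj G] {X : Over Y.left} (a : AlgGrp.Action (Red.bc Y.hom G) X)
    [IsIso (lift a.act (snd (Red.bc Y.hom G) X))] [Flat (X.hom ≫ Y.hom)]
    (g : pullback X.hom X.hom ⟶ G.left)
    (hg : (lift a.act (snd (Red.bc Y.hom G) X)).left ≫ g =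
      (fst (Red.bc Y.hom G) X).left ≫ pullback.fst G.hom Y.hom) :
    IsPullback (pullback.diagonal X.hom) (toUnit (Over.mk (X.hom ≫ Y.hom) : Over B)).left g (η[G]).left ∧ Flat g := by
  let GY := Red.bc Y.hom G
  let Ψ := lift a.act (snd GY X)
  let p : (GY ⊗ X).left ⟶ G.left := (fst GY X).left ≫ pullback.fst G.hom Y.hom
  let π : (GY ⊗ X).left ⟶ X.left := (snd GY X).left
  have hT : IsPullback p π G.hom (X.hom ≫ Y.hom) :=
    (IsPullback.of_hasPullback GY.hom X.hom).flip.paste_vert (IsPullback.of_hasPullback G.hom Y.hom).flip |>.flip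
  let e : X.left ⟶ (GY ⊗ X).left := (lift (toUnit X ≫ η[GY]) (𝟙 X)).left
  have he : e ≫ π = 𝟙 _ := by
    rw [← Over.comp_left, lift_snd]; rfl
  have hp : Flat p := MorphismProperty.of_isPullback hT.flip ‹Flat (X.hom ≫ Y.hom)›
  have hη : (η[G]).left ≫ G.hom = 𝟙 B := Over.w η[G]
  have hfe : e ≫ (fst GY X).left ≫ pullback.fst G.hom Y.hom = (X.hom ≫ Y.hom) ≫ (η[G]).left := by
    rw [← Category.assoc, ← Over.comp_left, lift_fst, Over.comp_left, Category.assoc, Category.assoc,
      Over.toUnit_left]
    congr 1
    exact unit_fst G Y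
  have s : IsPullback e (toUnit (Over.mk (X.hom ≫ Y.hom) : Over B)).left p (η[G]).left := by
    refine IsPullback.flip (IsPullback.of_bot (h₃₁ := X.hom ≫ Y.hom) ?_ ?_ hT.flip.flip.flip.flip)
    · rw [he, hη, Over.toUnit_left]
      exact (IsPullback.id_horiz (X.hom ≫ Y.hom)).flip
    · rw [Over.toUnit_left]; exact hfe.symm
  have hΨ : IsIso Ψ.left := inferInstanceAs (IsIso ((Over.forget _).map Ψ))
  let E : (GY ⊗ X).left ≅ pullback X.hom X.hom := @asIso _ _ _ _ Ψ.left hΨ
  have hd : e ≫ E.hom = pullback.diagonal X.hom := by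
    apply pullback.hom_ext
    · rw [Category.assoc, pullback.diagonal_fst]
      show e ≫ Ψ.left ≫ (fst X X).left = _
      rw [← Over.comp_left, ← Over.comp_left, lift_fst]
      have h1 : lift (toUnit X ≫ η[GY]) (𝟙 X) ≫ a.act = 𝟙 X := by
        have : lift (toUnit X ≫ η[GY]) (𝟙 X) = (λ_ X).inv ≫ η[GY] ▷ X := by ext1 <;> simp
        rw [this, Category.assoc, a.one_act, Iso.inv_hom_id]
      rw [h1]; rfl
    · rw [Category.assoc, pullback.diagonal_snd]
      show e ≫ Ψ.left ≫ (snd X X).left = _
      rw [← Over.comp_left, ← Over.comp_left, lift_snd, lift_snd]; rfl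
  refine ⟨s.of_iso (Iso.refl _) E (Iso.refl _) (Iso.refl _) ?_ ?_ ?_ ?_, ?_⟩
  · simpa using hd.symm ▸ rfl
  · simp
  · simp only [Iso.refl_hom, Category.comp_id]
    exact hg.symm
  · simp
  · have : g = E.inv ≫ p := (Iso.eq_inv_comp _).2 hg
    rw [this]; haveI := hp; infer_instance


/-- Over S = Spec ℂ let G be an affine group scheme of finite type, Y a scheme over ℂ, and X a scheme
over Y carrying an action, over Y, of the base change G_Y of G to Y which makes X an fppf torsor
under G over Y. Let g : X ×_Y X → G be the morphism determined by g(h x, x) = h, i.e. the composite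
of the inverse of the isomorphism G_Y ×_Y X → X ×_Y X, (h, x) ↦ (h x, x), with the projection to G;
the diagonal X → X ×_Y X and the unit section Spec ℂ → G then form a commutative (indeed cartesian)
square with g and X → Spec ℂ. Then there is a map of conormal sheaves for this square, from the
pullback to X of the conormal sheaf m_e/m_e² of the unit section (the trivial bundle with fibre the
dual of the Lie algebra 𝔤) to the conormal sheaf of the diagonal, which is the sheaf of relative
differentials Ω_{X/Y}, characterised by sending the class of a local equation of the unit section to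
the class of its pullback under g, and this map is an isomorphism: Ω_{X/Y} ≅ O_X ⊗ 𝔤^∨ canonically.
(The source states the dual form T_f = X × 𝔤 for algebraic spaces and moreover as G-equivariant
bundles for the adjoint action; the equivariance is not expressed here, and X, Y are schemes.) -/
theorem result
    {G Y : Over (Spec (CommRingCat.of ℂ))} [GrpObj G] [IsAffine G.left] [LocallyOfFiniteType G.hom]
    {X : Over Y.left} (a : AlgGrp.Action (Red.bc Y.hom G) X)
    (hX : NonAbH1.IsTorsorFor Scheme.fppfPrecoverage a)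
    (g : pullback X.hom X.hom ⟶ G.left)
    (hg : (lift a.act (snd (Red.bc Y.hom G) X)).left ≫ g =
      (fst (Red.bc Y.hom G) X).left ≫ pullback.fst G.hom Y.hom) :
    ∃ φ : (Scheme.Modules.pullback (toUnit (Over.mk (X.hom ≫ Y.hom) : Over (Spec (CommRingCat.of ℂ)))).left).obj
        (Omega.conormal (η[G]).left) ⟶ Omega.conormal (pullback.diagonal X.hom),
      OmegaSh.IsConormalMap (pullback.diagonal X.hom) (η[G]).left g
        (toUnit (Over.mk (X.hom ≫ Y.hom) : Over (Spec (CommRingCat.of ℂ)))).left φ ∧ IsIso φ := by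
  haveI : IsIso (lift a.act (snd (Red.bc Y.hom G) X)) := hX.1
  obtain ⟨hsq, hg'⟩ := square a g hg
  haveI : IsSeparated G.hom := inferInstance
  haveI : IsClosedImmersion ((η[G]).left) := by
    haveI : IsClosedImmersion ((η[G]).left ≫ G.hom) := by rw [Over.w η[G]]; exact inferInstanceAs (IsClosedImmersion (𝟙 _))
    exact IsClosedImmersion.of_comp _ G.hom
  haveI : IsClosedImmersion (pullback.diagonal X.hom) := MorphismProperty.of_isPullback hsq.flip inferInstance
  obtain ⟨φ, hφ, -⟩ := Groth.Agent.S9371.result (pullback.diagonal X.hom) (η[G]).left g _ hsq.w.symm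
  exact ⟨φ, hφ, (Groth.Agent.S9372.result _ _ g _ hsq φ hφ).2 hg'⟩

end Groth.Agent.S19101
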