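import Groth.Statements.S19106
import Mathlib

set_option autoImplicit false
open HilbD

namespace Groth.Agent.S19106

/-- Let μ be a non-empty Young diagram, V the number of its cells, E the number of unordered pairs of
cells sharing a side (a cell together with the cell immediately below it, or immediately to its
right, both in μ) and Q the number of 2 × 2 blocks of cells of μ (cells c such that the cell
diagonally below-right of c is in μ, the other two corners being in μ automatically). Then V − E + Q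
− 1 = 0, stated as V + Q = E + 1 in the naturals. (The empty diagram, for which the count reads 0 −
0 + 0 − 1, is excluded.) -/
theorem result (μ : YoungDiagram) (hμ : μ ≠ ⊥) :
    μ.cells.card + (μ.cells.filter (fun c => (c.1 + 1, c.2 + 1) ∈ μ)).card =
      (μ.cells.filter (fun c => (c.1 + 1, c.2) ∈ μ)).card + (μ.cells.filter (fun c => (c.1, c.2 + 1) ∈ μ)).card + 1 := by
  classical
  have h00 : ((0 : ℕ), 0) ∈ μ := by
    obtain ⟨⟨a, b⟩, hab⟩ : μ.cells.Nonempty := by
      rw [Finset.nonempty_iff_ne_empty]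
      intro h; exact hμ (YoungDiagram.ext (h.trans YoungDiagram.cells_bot.symm))
    exact μ.up_left_mem (Nat.zero_le _) (Nat.zero_le _) ((YoungDiagram.mem_cells _).1 hab)
  have e1 : (μ.cells.filter (fun c => (c.1 + 1, c.2) ∈ μ)).card = (μ.cells.filter (fun c => c.1 ≠ 0)).card := by
    refine Finset.card_bij' (fun c _ => (c.1 + 1, c.2)) (fun c _ => (c.1 - 1, c.2)) ?_ ?_ ?_ ?_
    · intro c hc; simp only [Finset.mem_filter] at hc ⊢; exact ⟨(YoungDiagram.mem_cells _).2 hc.2, Nat.succ_ne_zero _⟩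
    · intro c hc; simp only [Finset.mem_filter] at hc ⊢
      refine ⟨(YoungDiagram.mem_cells _).2 (μ.up_left_mem (Nat.sub_le _ _) le_rfl ((YoungDiagram.mem_cells _).1 hc.1)), ?_⟩
      rw [Nat.sub_add_cancel (Nat.one_le_iff_ne_zero.2 hc.2)]; exact (YoungDiagram.mem_cells _).1 hc.1
    · intro c _; simp
    · intro c hc; simp only [Finset.mem_filter] at hc; ext <;> simp <;> omega
  have e2 : (μ.cells.filter (fun c => (c.1, c.2 + 1) ∈ μ)).card = (μ.cells.filter (fun c => c.2 ≠ 0)).card := by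
    refine Finset.card_bij' (fun c _ => (c.1, c.2 + 1)) (fun c _ => (c.1, c.2 - 1)) ?_ ?_ ?_ ?_
    · intro c hc; simp only [Finset.mem_filter] at hc ⊢; exact ⟨(YoungDiagram.mem_cells _).2 hc.2, Nat.succ_ne_zero _⟩
    · intro c hc; simp only [Finset.mem_filter] at hc ⊢
      refine ⟨(YoungDiagram.mem_cells _).2 (μ.up_left_mem le_rfl (Nat.sub_le _ _) ((YoungDiagram.mem_cells _).1 hc.1)), ?_⟩
      rw [Nat.sub_add_cancel (Nat.one_le_iff_ne_zero.2 hc.2)]; exact (YoungDiagram.mem_cells _).1 hc.1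
    · intro c _; simp
    · intro c hc; simp only [Finset.mem_filter] at hc; ext <;> simp <;> omega
  have e3 : (μ.cells.filter (fun c => (c.1 + 1, c.2 + 1) ∈ μ)).card = (μ.cells.filter (fun c => c.1 ≠ 0 ∧ c.2 ≠ 0)).card := by
    refine Finset.card_bij' (fun c _ => (c.1 + 1, c.2 + 1)) (fun c _ => (c.1 - 1, c.2 - 1)) ?_ ?_ ?_ ?_
    · intro c hc; simp only [Finset.mem_filter] at hc ⊢
      exact ⟨(YoungDiagram.mem_cells _).2 hc.2, Nat.succ_ne_zero _, Nat.succ_ne_zero _⟩
    · intro c hc; simp only [Finset.mem_filter] at hc ⊢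
      refine ⟨(YoungDiagram.mem_cells _).2 (μ.up_left_mem (Nat.sub_le _ _) (Nat.sub_le _ _) ((YoungDiagram.mem_cells _).1 hc.1)), ?_⟩
      rw [Nat.sub_add_cancel (Nat.one_le_iff_ne_zero.2 hc.2.1), Nat.sub_add_cancel (Nat.one_le_iff_ne_zero.2 hc.2.2)]
      exact (YoungDiagram.mem_cells _).1 hc.1
    · intro c _; simp
    · intro c hc; simp only [Finset.mem_filter] at hc; ext <;> simp <;> omega
  have e4 : (μ.cells.filter (fun c => c.1 ≠ 0 ∨ c.2 ≠ 0)) = μ.cells.erase (0, 0) := by
    ext ⟨a, b⟩; simp only [Finset.mem_filter, Finset.mem_erase, ne_eq, Prod.mk.injEq]; tauto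
  have e5 := Finset.card_union_add_card_inter (μ.cells.filter (fun c => c.1 ≠ 0)) (μ.cells.filter (fun c => c.2 ≠ 0))
  rw [← Finset.filter_or, ← Finset.filter_and, e4, Finset.card_erase_of_mem ((YoungDiagram.mem_cells _).2 h00)] at e5
  have e6 : 0 < μ.cells.card := Finset.card_pos.2 ⟨_, (YoungDiagram.mem_cells _).2 h00⟩
  rw [e1, e2, e3]
  omega

end Groth.Agent.S19106
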