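import Groth.Statements.S19107
import Groth.Agent.CohAffMorLib.UnitBC.UnivClosed
import Groth.Agent.CohAffMorLib.UnitBC.Surj
import Groth.Agent.ConstQuotLib.UnivHomeo

set_option autoImplicit false
set_option linter.style.haveILetI false
set_option backward.isDefEq.respectTransparency false
set_option backward.isDefEq.respectTransparency.types false

set_option autoImplicit false
universe u
open CategoryTheory AlgebraicGeometry
open StMod

namespace Groth.Agent.S19107

/-- Let `S` be a quasi-separated scheme, `𝒳` an algebraic stack over `(Sch/S)` for the fppf topology,
`M` an algebraic space over `S` that is quasi-separated over `S`, and `π : 𝒳 ⟶ M` a quasi-compact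
quasi-separated good moduli space which is a tame moduli space: for every algebraically closed field
`Ω` and every `Spec Ω ⟶ S`, `π` induces a bijection between isomorphism classes of objects of `𝒳`
over `Spec Ω` and sections of `M` over `Spec Ω`. Then `π` is a universal homeomorphism (every base
change of `π` to an algebraic stack is a homeomorphism on points). Here a good moduli space is a
quasi-compact quasi-separated morphism to an algebraic space along which pushforward takes
surjections of quasi-coherent modules to maps surjective on sections over every affine scheme etale
over the target (cohomological affineness), and for which the canonical map from the functions on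
any scheme etale over the target to the sections of the pushforward of the structure sheaf is
bijective. (Standing conventions of the source: all schemes and algebraic spaces are quasi-separated
and all stacks have quasi-compact separated diagonal; this row carries instead the
quasi-separatedness of `M` over a quasi-separated base scheme and of `π`, which is what the
arguments use.) -/
theorem result
    (S : Scheme.{u}) [QuasiSeparatedSpace S]
    (𝒳 : AlgSt.Cat S) (h𝒳 : AlgSt.IsAlgStack Scheme.fppfPrecoverage 𝒳)
    (M : AlgSp.Space S) (hM : AlgSp.IsQuasiSeparatedSp M.obj) (π : 𝒳 ⥤ᵇ AlgSt.ofSp M.obj)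
    (hqc : AlgSt.IsQuasiCompactMor Scheme.fppfPrecoverage π) (hqs : AlgSt.IsQuasiSeparatedMor π)
    (h : StMod.IsGoodModuli π)
    (ht : AlgSt.GeomPtBij π) :
    AlgSt.IsUnivHomeo Scheme.fppfPrecoverage π := by
  haveI := AlgStLib.isFibGrpd_of_isAlgStack h𝒳
  haveI : FibCat.IsFibGrpd (AlgSt.ofSp M.obj).p := Stk.isFibGrpd_ofPsh _
  have hQ := StPushLib.qcProd_space M.property hM
  intro 𝒵 h𝒵 g
  haveI := AlgStLib.isFibGrpd_of_isAlgStack h𝒵
  have hcl := CohAffMorLib.UnitBC.isUnivClosed h𝒳 M.property hQ hqc hqs h 𝒵 h𝒵 g
  have hsurj := AlgStLib.surjective_fpFst (g := g)
    (CohAffMorLib.UnitBC.surjective_points h𝒳 M.property hQ hqc hqs h)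
  exact isHomeomorph_iff_continuous_isClosedMap_bijective.2
    ⟨AlgStLib.continuous_map h𝒵.atlas (FibCat.fpFst g π), hcl, ConstQuotLib.injective_fpFst ht g, hsurj⟩

end Groth.Agent.S19107
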