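import Groth.Statements.S1911
import Mathlib
import Groth.Agent.CycSpLib.Subscheme
-- import your own Groth.Agent.* helpers here

set_option autoImplicit false
universe u
open CategoryTheory AlgebraicGeometry
open CategoryTheory.Limits
open Cyc
open scoped Pointwise

namespace Groth.Agent.S1911

/-- Let F be a coherent O_X-module flat over R with dim Supp(F_η) ≤ r. Then dim Supp(F_s) ≤ r and
sp([F_η]_r) = [F_s]_r, where F_η, F_s are the pullbacks of F to the two fibres. Here R is a discrete
valuation ring, a : X → Spec R is locally of finite type, X_η and X_s are the fibres over the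
generic and closed points (Mathlib's Scheme.Hom.fiber) with their dimension functions δη, δs
(transcendence degree of residue fields), r-cycles on X_η are cycles supported at points with δη =
r, and sp is the specialization map Z_r(X_η) → Z_r(X_s) on coefficient functions (Cyc.spFun). -/
theorem result (R : Type u) [CommRing R] [IsDomain R] [IsDiscreteValuationRing R] (X : Scheme.{u}) (a : X ⟶ Spec (CommRingCat.of R)) [LocallyOfFiniteType a] (δη : ↥(a.fiber (genericPoint ↥(Spec (CommRingCat.of R)))) → ℤ) (δs : ↥(a.fiber (IsLocalRing.closedPoint R)) → ℤ) (hδη : Cyc.DeltaCompat (a.fiberToSpecResidueField (genericPoint ↥(Spec (CommRingCat.of R)))) δη (fun _ => 0)) (hδs : Cyc.DeltaCompat (a.fiberToSpecResidueField (IsLocalRing.closedPoint R)) δs (fun _ => 0)) [IsLocallyNoetherian X] (r : ℤ) (F : X.Modules) (hF : Coh.IsCoh F) (hflat : FlatMod.IsFlatOver a F) (hdim : ∀ ζ : ↥(a.fiber (genericPoint ↥(Spec (CommRingCat.of R)))), Nontrivial (((Scheme.Modules.pullback (a.fiberι (genericPoint ↥(Spec (CommRingCat.of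 R))))).obj F).presheaf.stalk ζ) → δη ζ ≤ r) : (∀ x : ↥(a.fiber (IsLocalRing.closedPoint R)), Nontrivial (((Scheme.Modules.pullback (a.fiberι (IsLocalRing.closedPoint R))).obj F).presheaf.stalk x) → δs x ≤ r) ∧ Cyc.spFun a (genericPoint ↥(Spec (CommRingCat.of R))) (IsLocalRing.closedPoint R) δη δs r (Cyc.sheafFun δη r ((Scheme.Modules.pullback (a.fiberι (genericPoint ↥(Spec (CommRingCat.of R))))).obj F)) = Cyc.sheafFun δs r ((Scheme.Modules.pullback (a.fiberι (IsLocalRing.closedPoint R))).obj F) := by
  classical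
  obtain ⟨δX, hX, -, hfib⟩ := CycSpLib.exists_delta a
  have hη : ∀ ζ, δX (a.fiberι (CycSpLib.eta R) ζ) = δη ζ + 1 := fun ζ => by
    rw [hfib _ δη hδη ζ, CycSpLib.baseδ_eta]
  have hs : ∀ x, δX (a.fiberι (CycSpLib.spl R) x) = δs x := fun x => by
    rw [hfib _ δs hδs x, CycSpLib.baseδ_spl, add_zero]
  have lenη : ∀ ζ, Module.length ((a.fiber (CycSpLib.eta R)).presheaf.stalk ζ)
      (((Scheme.Modules.pullback (a.fiberι (CycSpLib.eta R))).obj F).presheaf.stalk ζ) =
      Module.length (X.presheaf.stalk (a.fiberι (CycSpLib.eta R) ζ)) (F.presheaf.stalk (a.fiberι (CycSpLib.eta R) ζ)) := fun ζ => by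
    rw [CycSpLib.length_stalk_pullback_preimmersion, CycSpLib.ker_fiberι,
      CycSpLib.fibIdeal_eta a _ (CycSpLib.fib_apply a ζ), Submodule.bot_smul]
    exact (Submodule.quotEquivOfEqBot ⊥ rfl).length_eq
  have lens : ∀ x, Module.length ((a.fiber (CycSpLib.spl R)).presheaf.stalk x)
      (((Scheme.Modules.pullback (a.fiberι (CycSpLib.spl R))).obj F).presheaf.stalk x) =
      Module.length (X.presheaf.stalk (a.fiberι (CycSpLib.spl R) x)) (F.presheaf.stalk (a.fiberι (CycSpLib.spl R) x) ⧸
        CycSpLib.piGerm a (a.fiberι (CycSpLib.spl R) x) • (⊤ : Submodule (X.presheaf.stalk (a.fiberι (CycSpLib.spl R) x))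
          (F.presheaf.stalk (a.fiberι (CycSpLib.spl R) x)))) := fun x => by
    rw [CycSpLib.length_stalk_pullback_preimmersion, CycSpLib.ker_fiberι,
      CycSpLib.fibIdeal_spl a _ (CycSpLib.fib_apply a x), Submodule.ideal_span_singleton_smul]
  obtain ⟨h1, h2⟩ := CycSpLib.sp_sheaf a hX hη hs r F hF (fun x _ => CycSpLib.injective_of_isFlatOver a hflat x)
    (fun ζ h => hdim ζ (CycSpLib.nontrivial_of_length_ne_zero (A := (a.fiber (CycSpLib.eta R)).presheaf.stalk ζ)
      (by rw [lenη]; exact Module.length_pos.ne')))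
  refine ⟨fun x hnt => h1 x ?_, funext fun x => ?_⟩
  · refine (subsingleton_or_nontrivial _).resolve_left fun hsub => ?_
    have hne : Module.length ((a.fiber (CycSpLib.spl R)).presheaf.stalk x)
        (((Scheme.Modules.pullback (a.fiberι (CycSpLib.spl R))).obj F).presheaf.stalk x) ≠ 0 :=
      haveI := hnt; Module.length_pos.ne'
    rw [lens, Module.length_eq_zero] at hne
    exact hne rfl
  rw [h2 _ (fun ζ => ?_) x]
  · simp only [Cyc.sheafFun]
    rw [lens]
  simp only [Cyc.sheafFun]
  rw [lenη]
  exact if_congr (by rw [hη]; omega) rfl rfl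

end Groth.Agent.S1911
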