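import Groth.Statements.S19112
import Groth.Agent.CohAffMorLib.Cancel

set_option linter.style.haveILetI false
set_option backward.isDefEq.respectTransparency false
set_option backward.isDefEq.respectTransparency.types false

set_option autoImplicit false
universe u
open CategoryTheory AlgebraicGeometry
open StMod

namespace Groth.Agent.S19112

/-- In the case where the targets are algebraic spaces, let `S` be a quasi-separated scheme, `𝒳` an
algebraic stack over `(Sch/S)` for the fppf topology, `M` and `N` algebraic spaces over `S` that are
quasi-separated over `S`, with the diagonal of `N` over `S` quasi-affine, `f : 𝒳 ⟶ M` a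
quasi-separated morphism and `g : M ⟶ N` a morphism of algebraic spaces with affine diagonal. If the
composite `𝒳 ⟶ N` is quasi-compact, quasi-separated and cohomologically affine, then `f` is
cohomologically affine and quasi-compact. Here a quasi-compact quasi-separated morphism to an
algebraic space is cohomologically affine when pushforward along it takes surjections of
quasi-coherent modules to maps surjective on sections over every affine scheme etale over the
target. (The printed statement allows arbitrary algebraic stacks as targets, with either `g`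
quasi-affine or the final target with quasi-affine diagonal; here both targets are algebraic spaces
and the second alternative is assumed. Standing conventions of the source: all algebraic spaces and
morphisms are quasi-separated.) -/
theorem result
    (S : Scheme.{u}) [QuasiSeparatedSpace S]
    (𝒳 : AlgSt.Cat S) (h𝒳 : AlgSt.IsAlgStack Scheme.fppfPrecoverage 𝒳)
    (M N : AlgSp.Space S) (hM : AlgSp.IsQuasiSeparatedSp M.obj) (hN : AlgSp.IsQuasiSeparatedSp N.obj)
    (hNd : AlgSp.IsQuasiAffineMor (Limits.diag N.obj))
    (f : 𝒳 ⥤ᵇ AlgSt.ofSp M.obj) (hfqs : AlgSt.IsQuasiSeparatedMor f)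
    (g : M.obj ⟶ N.obj) (hg : AlgSp.IsAffineMor (Limits.pullback.diagonal g))
    (hqc : AlgSt.IsQuasiCompactMor Scheme.fppfPrecoverage (BasedFunctor.comp f (AlgSt.ofSpMap g)))
    (hqs : AlgSt.IsQuasiSeparatedMor (BasedFunctor.comp f (AlgSt.ofSpMap g)))
    (h : StMod.IsCohAffine (BasedFunctor.comp f (AlgSt.ofSpMap g))) :
    StMod.IsCohAffine f ∧ AlgSt.IsQuasiCompactMor Scheme.fppfPrecoverage f := by
  refine ⟨CohAffMorLib.isCohAffine_of_comp h𝒳 M.property N.property (StPushLib.qcProd_space N.property hN) f g hg hqc hqs h, ?_⟩
  refine AlgStLib.isQcM_of_comp h𝒳 (AlgStLib.isAlgStack_ofSp M.property) (AlgStLib.isAlgStack_ofSp N.property) hqc ?_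
  refine CohAffMorLib.repByAlgSpWith_diag_ofSpMap (fun _ _ _ _ hF hG hW hU a b c d sq h =>
    ⟨AlgStLib.good_qc.bc hF hG hW hU a b c d sq h.1, AlgStLib.good_qs.bc hF hG hW hU a b c d sq h.2⟩)
    M.property N.property g ⟨?_, AlgSpLib.repWith_of_isIso _⟩
  exact AlgSpLib.isQuasiCompactMor_of_repWith M.property (AlgSpLib.isAlgSpace_pullback M.property M.property N.property g g)
    (AlgSpLib.repWith_mono (fun _ _ a (_ : IsAffineHom a) => (inferInstance : QuasiCompact a)) (AlgSpLib.isAffineMor_iff.1 hg))

end Groth.Agent.S19112
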