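import Groth.Statements.S19117
import Groth.Agent.CohAffMorLib.GerbeClosed

set_option autoImplicit false
set_option linter.style.haveILetI false
set_option backward.isDefEq.respectTransparency false
set_option backward.isDefEq.respectTransparency.types false

set_option autoImplicit false
universe u
open CategoryTheory AlgebraicGeometry
open StMod

namespace Groth.Agent.S19117

/-- Let `S` be an affine scheme, `𝒳` a locally Noetherian algebraic stack over `(Sch/S)` for the fppf
topology, `M` an algebraic space over `S` that is quasi-separated over `S`, `π : 𝒳 ⟶ M` a
quasi-compact quasi-separated good moduli space, `ξ` a closed point of `|𝒳|` and `𝒢 ⊆ 𝒳` the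
residual gerbe at `ξ` (the strictly full substack cut out by `Q`: algebraic, reduced, locally
Noetherian, with a single point, mapping to `ξ`). Then `ξ` has linearly reductive stabilizer,
rendered as: `𝒢` is cohomologically affine over the affine base, i.e. every functor `σ : 𝒢 ⟶
(Sch/S)` over `(Sch/S)` (the structure functor) is cohomologically affine and quasi-compact. Here a
morphism to an algebraic space is cohomologically affine when pushforward along it takes surjections
of quasi-coherent modules to maps surjective on sections over every affine scheme etale over the
target; over an affine base this is cohomological affineness of the stack itself, and for the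
residual gerbe it is the source's definition of a linearly reductive stabilizer. Here a good moduli
space is a quasi-compact quasi-separated morphism to an algebraic space along which pushforward
takes surjections of quasi-coherent modules to maps surjective on sections over every affine scheme
etale over the target (cohomological affineness), and for which the canonical map from the functions
on any scheme etale over the target to the sections of the pushforward of the structure sheaf is
bijective. (The base is taken affine so that cohomological affineness of `𝒢` can be expressed over
it; standing conventions of the source: quasi-separated schemes and spaces, stacks with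
quasi-compact separated diagonal.) -/
theorem result
    (S : Scheme.{u}) [IsAffine S]
    (𝒳 : AlgSt.Cat S) (h𝒳 : AlgSt.IsAlgStack Scheme.fppfPrecoverage 𝒳)
    (M : AlgSp.Space S) (hM : AlgSp.IsQuasiSeparatedSp M.obj) (π : 𝒳 ⥤ᵇ AlgSt.ofSp M.obj)
    (hqc : AlgSt.IsQuasiCompactMor Scheme.fppfPrecoverage π) (hqs : AlgSt.IsQuasiSeparatedMor π)
    (h : StMod.IsGoodModuli π)
    (hN : AlgSt.SmoothLocally (fun T => IsLocallyNoetherian T) 𝒳)
    (ξ : AlgSt.Points 𝒳) (hξ : IsClosed ({ξ} : Set (AlgSt.Points 𝒳)))
    (Q : 𝒳.obj → Prop) (hQ : Gerb.IsResGerbe Scheme.fppfPrecoverage 𝒳 ξ Q)
    (σ : AlgSt.fullSub 𝒳 Q ⥤ᵇ AlgSt.ofSch (Over.mk (𝟙 S))) :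
    StMod.IsCohAffine σ ∧ AlgSt.IsQuasiCompactMor Scheme.fppfPrecoverage σ := by
  exact CohAffMorLib.isCohAffine_resGerbe_closed h𝒳 M.property hM hqc hqs h.1 hN hξ hQ σ

end Groth.Agent.S19117
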