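import Groth.Statements.S19127
import Groth.Agent.InjHullLib.Local
import Groth.Agent.AdicRingLib.Completion
import Mathlib

set_option autoImplicit false
universe u v
open FrobAlg

namespace Groth.Agent.S19127
open IsLocalRing in
/-- A semilinear locally nilpotent map of an Artinian module over a complete ring is nilpotent. -/
theorem nilpotent_of_complete {B : Type u} [CommRing B] [IsNoetherianRing B] [IsLocalRing B]
    [IsAdicComplete (maximalIdeal B) B] {M : Type u} [AddCommGroup M] [Module B M] [IsArtinian B M]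
    (p : ℕ) (hp : 2 ≤ p) (φ : M →+ M) (hφ : ∀ (b : B) (x : M), φ (b • x) = b ^ p • φ x)
    (hloc : ∀ x : M, ∃ n : ℕ, (⇑φ)^[n] x = 0) : ∃ n : ℕ, ∀ x : M, (⇑φ)^[n] x = 0 := by
  have hit : ∀ (n : ℕ) (b : B) (x : M), (⇑φ)^[n] (b • x) = b ^ (p ^ n) • (⇑φ)^[n] x := by
    intro n
    induction n with
    | zero => intro b x; simp
    | succ n ih =>
      intro b x
      rw [Function.iterate_succ_apply', Function.iterate_succ_apply', ih, hφ, ← pow_mul, ← pow_succ]
  let K : ℕ → Submodule B M := fun n =>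
    { carrier := {x | (⇑φ)^[n] x = 0}
      zero_mem' := iterate_map_zero φ n
      add_mem' := fun {a b} (ha : (⇑φ)^[n] a = 0) (hb : (⇑φ)^[n] b = 0) => by
        show (⇑φ)^[n] (a + b) = 0
        rw [iterate_map_add, ha, hb, add_zero]
      smul_mem' := fun c x (hx : (⇑φ)^[n] x = 0) => by
        show (⇑φ)^[n] (c • x) = 0
        rw [hit, hx, smul_zero] }
  have hsucc : ∀ n (x : M), x ∈ K (n + 1) ↔ φ x ∈ K n := fun n x => by
    show (⇑φ)^[n + 1] x = 0 ↔ (⇑φ)^[n] (φ x) = 0
    rw [Function.iterate_succ_apply]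
  have hmono : Monotone K := monotone_nat_of_le_succ fun n x (hx : (⇑φ)^[n] x = 0) => by
    show (⇑φ)^[n + 1] x = 0
    rw [Function.iterate_succ_apply', hx, map_zero]
  let I : ℕ → Ideal B := fun n =>
    { carrier := {b | ∀ x ∈ K (n + 1), b • x ∈ K n}
      zero_mem' := fun x _ => by rw [zero_smul]; exact zero_mem _
      add_mem' := fun {a b} ha hb x hx => by rw [add_smul]; exact add_mem (ha x hx) (hb x hx)
      smul_mem' := fun c b hb x hx => by rw [smul_eq_mul, mul_smul]; exact (K n).smul_mem c (hb x hx) }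
  have hroot : ∀ n (b : B), b ^ p ∈ I n → b ∈ I (n + 1) := fun n b hb x hx => by
    rw [hsucc, hφ]
    exact hb _ ((hsucc (n + 1) x).1 hx)
  have hImono : Monotone I := monotone_nat_of_le_succ fun n b hb =>
    hroot n b (Ideal.pow_mem_of_mem _ hb p (by omega))
  obtain ⟨n₀, hn₀⟩ := WellFoundedGT.monotone_chain_condition ⟨I, hImono⟩
  set a := I n₀ with ha
  have hIeq : ∀ k, I (n₀ + k) = a := fun k => (hn₀ (n₀ + k) (Nat.le_add_right _ _)).symm
  have hap : ∀ b : B, b ^ p ∈ a → b ∈ a := fun b hb => by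
    have h := hroot n₀ b hb
    rwa [hIeq 1] at h
  have hunion : ∀ x : M, ∃ k, x ∈ K (n₀ + k) := fun x => by
    obtain ⟨n, hn⟩ := hloc x
    exact ⟨n, hmono (Nat.le_add_left n n₀) hn⟩
  by_cases htop : a = ⊤
  · have hall : ∀ k x, x ∈ K (n₀ + k) → x ∈ K n₀ := by
      intro k
      induction k with
      | zero => exact fun x hx => hx
      | succ k ih =>
        intro x hx
        have h1 : (1 : B) ∈ I (n₀ + k) := by rw [hIeq k, htop]; trivial
        have h2 := h1 x hx
        rw [one_smul] at h2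
        exact ih x h2
    exact ⟨n₀, fun x => (hunion x).elim fun k hk => hall k x hk⟩
  exfalso
  let J : Ideal B := a * a
  have hJ : ∀ k x, x ∈ K (n₀ + k) → ∀ c ∈ J, c • x ∈ K n₀ := by
    intro k
    induction k with
    | zero => exact fun x hx c _ => (K n₀).smul_mem c hx
    | succ k ih =>
      intro x hx c hc
      refine Submodule.mul_induction_on (C := fun c => c • x ∈ K n₀) hc (fun c hc b hb => ?_) (fun u v hu hv => ?_)
      · have hbp : b ^ p ∈ J := Ideal.pow_le_pow_right hp (Ideal.pow_mem_pow hb p) |> (fun h => by rwa [pow_two] at h)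
        have h1 : φ (b • x) ∈ K n₀ := by
          rw [hφ]
          exact ih _ ((hsucc (n₀ + k) x).1 hx) _ hbp
        rw [mul_smul]
        exact hc _ ((hsucc n₀ _).2 h1)
      · rw [add_smul]; exact add_mem hu hv
  obtain ⟨E, _, _, f, hf⟩ := InjHullLib.exists_injectiveHull (R := B) (ResidueField B)
  haveI : Module.Finite B (M →ₗ[B] E) := (InjHullLib.finite_dual_and_applyₗ_bijective hf M).1
  haveI : IsNoetherian B (M →ₗ[B] E) := isNoetherian_of_isNoetherianRing_of_finite B _
  let A' : ℕ → Submodule B (M →ₗ[B] E) := fun k =>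
    { carrier := {g | ∀ x ∈ K (n₀ + k), g x = 0}
      zero_mem' := fun _ _ => rfl
      add_mem' := fun {g h} hg hh x hx => by rw [LinearMap.add_apply, hg x hx, hh x hx, add_zero]
      smul_mem' := fun c g hg x hx => by rw [LinearMap.smul_apply, hg x hx, smul_zero] }
  let N := A' 0
  have hanti : ∀ k, A' k ≤ N := fun k g hg x hx => hg x (hmono (Nat.le_add_right _ _) hx)
  have hkill : ∀ c ∈ J, ∀ g : N, c • g = 0 := fun c hc g => by
    refine Subtype.ext (LinearMap.ext fun x => ?_)
    obtain ⟨k, hk⟩ := hunion x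
    show c • g.1 x = 0
    rw [← map_smul]
    exact g.2 _ (hJ k x hk c hc)
  obtain ⟨⟨P, hPmin⟩⟩ := (Ideal.nonempty_minimalPrimes (I := J) (fun h => htop (top_le_iff.1 (h.ge.trans Ideal.mul_le_left))))
  haveI : P.IsPrime := hPmin.isPrime
  have haP : a ≤ P := fun b hb => (or_self_iff.1 (hPmin.isPrime.mem_or_mem (hPmin.1.2 (Ideal.mul_mem_mul hb hb))))
  let R' := Localization.AtPrime P
  let L := LocalizedModule P.primeCompl N
  obtain ⟨j, hj⟩ : ∃ j, maximalIdeal R' ^ j ≤ J.map (algebraMap B R') := by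
    refine Ideal.exists_pow_le_of_le_radical_of_fg ?_ (IsNoetherian.noetherian _)
    rw [IsLocalization.AtPrime.radical_map_of_mem_minimalPrimes (A := R') P J hPmin, IsLocalization.AtPrime.map_eq_maximalIdeal P R']
  have hkillL : ∀ r ∈ maximalIdeal R' ^ j, ∀ z : L, r • z = 0 := by
    have h1 : J.map (algebraMap B R') ≤ Module.annihilator R' L := Ideal.map_le_iff_le_comap.2 fun c hc => by
      rw [Ideal.mem_comap, Module.mem_annihilator]
      intro z
      obtain ⟨⟨g, s⟩, rfl⟩ := IsLocalizedModule.mk'_surjective P.primeCompl (LocalizedModule.mkLinearMap P.primeCompl N) z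
      rw [Function.uncurry_apply_pair, algebraMap_smul, ← IsLocalizedModule.mk'_smul, hkill c hc g, IsLocalizedModule.mk'_zero]
    exact fun r hr z => Module.mem_annihilator.1 (h1 (hj hr)) z
  haveI : IsNoetherianRing R' := IsLocalization.isNoetherianRing P.primeCompl R' inferInstance
  haveI hLfin : Module.Finite R' L := inferInstance
  haveI : IsArtinian R' L := by
    obtain ⟨n, π, hπ⟩ := Module.Finite.exists_fin' R' L
    haveI : IsArtinian R' (R' ⧸ maximalIdeal R' ^ j) :=
      (isFiniteLength_iff_isNoetherian_isArtinian.1 (InjHullLib.isFiniteLength_quotient_pow j)).2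
    let g : Fin n → (R' ⧸ maximalIdeal R' ^ j) →ₗ[R'] L := fun i =>
      Submodule.liftQ (R₂ := R') (M₂ := L) (τ₁₂ := RingHom.id R') (maximalIdeal R' ^ j) (LinearMap.toSpanSingleton R' L (π (Pi.single i 1))) (fun r hr => by
        rw [LinearMap.mem_ker, LinearMap.toSpanSingleton_apply]; exact hkillL r hr _)
    refine isArtinian_of_surjective (Fin n → R' ⧸ maximalIdeal R' ^ j) (LinearMap.lsum R' (fun _ => R' ⧸ maximalIdeal R' ^ j) R' g) fun z => ?_
    obtain ⟨r, rfl⟩ := hπ z
    refine ⟨fun i => Ideal.Quotient.mk _ (r i), ?_⟩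
    rw [LinearMap.lsum_apply, LinearMap.sum_apply]
    conv_rhs => rw [pi_eq_sum_univ' r, map_sum]
    refine Finset.sum_congr rfl fun i _ => ?_
    rw [map_smul]
    rfl
  let D : ℕ → Submodule R' L := fun k =>
    Submodule.localized' R' P.primeCompl (LocalizedModule.mkLinearMap P.primeCompl N) ((A' k).comap N.subtype)
  have hDanti : Antitone D := antitone_nat_of_succ_le fun k z ⟨g, hg, s, hz⟩ =>
    ⟨g, fun x hx => hg x (hmono (Nat.le_succ _) hx), s, hz⟩
  obtain ⟨k, hk⟩ := IsArtinian.monotone_stabilizes ⟨fun k => OrderDual.toDual (D k), fun i i' h => hDanti h⟩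
  have hDk : D k = D (k + 1) := hk (k + 1) (Nat.le_succ k)
  have hone : ∀ g ∈ A' k, ∃ s ∉ P, s • g ∈ A' (k + 1) := fun g hg => by
    have h1 : LocalizedModule.mkLinearMap P.primeCompl N ⟨g, hanti k hg⟩ ∈ D k :=
      ⟨⟨g, hanti k hg⟩, hg, 1, IsLocalizedModule.mk'_one _ _ _⟩
    rw [hDk] at h1
    obtain ⟨h, hh, s, hs⟩ := h1
    rw [← IsLocalizedModule.mk'_one P.primeCompl] at hs
    obtain ⟨t, ht⟩ := (IsLocalizedModule.mk'_eq_mk'_iff (LocalizedModule.mkLinearMap P.primeCompl N) _ _ _ _).1 hs
    refine ⟨(t : B) * (s : B), P.primeCompl.mul_mem t.2 s.2, ?_⟩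
    have h2 := congrArg Subtype.val ht
    simp only [Submonoid.smul_def, Submonoid.coe_one, one_smul, SetLike.val_smul] at h2
    rw [mul_smul, h2]
    exact (A' (k + 1)).smul_mem _ hh
  obtain ⟨G, hG⟩ := IsNoetherian.noetherian (A' k)
  choose s hsP hs using fun g : G => hone g (hG ▸ Submodule.subset_span g.2)
  have hprod : ∏ g : G, s g ∉ P := fun h => by
    obtain ⟨g, -, hg⟩ := hPmin.isPrime.prod_mem_iff.1 h
    exact hsP g hg
  refine hprod (haP ?_)
  rw [← hIeq k]
  intro x hx
  by_contra hne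
  obtain ⟨g, hg⟩ : ∃ g : (M ⧸ K (n₀ + k)) →ₗ[B] E, g ((K (n₀ + k)).mkQ ((∏ g : G, s g) • x)) ≠ 0 :=
    InjHullLib.exists_ne_zero_local hf.toIsEssentialInj.injective hf.isInjective (by rwa [ne_eq, Submodule.mkQ_apply, Submodule.Quotient.mk_eq_zero])
  have hgk : g ∘ₗ (K (n₀ + k)).mkQ ∈ A' k := fun y hy => by
    rw [LinearMap.comp_apply, Submodule.mkQ_apply, (Submodule.Quotient.mk_eq_zero _).2 hy, map_zero]
  have hle : A' k ≤ (A' (k + 1)).comap (LinearMap.lsmul B (M →ₗ[B] E) (∏ g : G, s g)) := by
    rw [← hG, Submodule.span_le]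
    intro h hh
    show (∏ g : G, s g) • h ∈ A' (k + 1)
    obtain ⟨c, hc⟩ := Finset.dvd_prod_of_mem s (Finset.mem_univ (⟨h, hh⟩ : G))
    rw [hc, mul_comm, mul_smul]
    exact (A' (k + 1)).smul_mem c (hs ⟨h, hh⟩)
  have h3 : ((∏ g : G, s g) • (g ∘ₗ (K (n₀ + k)).mkQ)) x = 0 := hle hgk x hx
  rw [LinearMap.smul_apply, LinearMap.comp_apply, ← map_smul, ← map_smul] at h3
  exact hg h3

open IsLocalRing in
/-- Power torsion modules with finite socle are small and Artinian. -/
theorem small_of_socle {A : Type u} [CommRing A] [IsNoetherianRing A] [IsLocalRing A] {M : Type v}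
    [AddCommGroup M] [Module A M] (htors : LocCoh.IsPowerTorsion (maximalIdeal A) M)
    (hsoc : Module.Finite A ↥(LocCoh.torsionBy (maximalIdeal A) M)) : Small.{u} M := by
  obtain ⟨G, hG⟩ := IsNoetherian.noetherian (maximalIdeal A)
  let T : ℕ → Submodule A M := fun n => LocCoh.torsionBy (maximalIdeal A ^ n) M
  have hmem : ∀ n (x : M), x ∈ T n ↔ ∀ c ∈ maximalIdeal A ^ n, c • x = 0 := fun n x => InjHullLib.mem_torsionBy_iff
  have hfin : ∀ n, IsNoetherian A (T n) := by
    intro n
    induction n with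
    | zero =>
      have h : T 0 = ⊥ := eq_bot_iff.2 fun x hx => by
        have h1 := (hmem 0 x).1 hx 1 (by rw [pow_zero, Ideal.one_eq_top]; trivial)
        rw [one_smul] at h1
        rw [Submodule.mem_bot, h1]
      rw [h]
      infer_instance
    | succ n ih =>
      haveI := ih
      let f : T (n + 1) →ₗ[A] G → T n := LinearMap.pi fun g => LinearMap.codRestrict (T n) ((g : A) • (T (n + 1)).subtype) fun x =>
        (hmem n _).2 fun c hc => by
          rw [LinearMap.smul_apply, Submodule.subtype_apply, smul_smul]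
          exact (hmem _ _).1 x.2 _ (by rw [pow_succ]; exact Ideal.mul_mem_mul hc (hG ▸ Ideal.subset_span g.2))
      have hker : ∀ x : LinearMap.ker f, (x : T (n + 1)).1 ∈ LocCoh.torsionBy (maximalIdeal A) M := fun x =>
        InjHullLib.mem_torsionBy_iff.2 fun c hc => by
          rw [← hG] at hc
          refine Submodule.span_induction (fun g hg => ?_) (zero_smul A _) (fun a b _ _ ha hb => by rw [add_smul, ha, hb, add_zero])
            (fun a b _ hb => by rw [smul_eq_mul, mul_smul, hb, smul_zero]) hc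
          exact congrArg Subtype.val (congrFun (LinearMap.mem_ker.1 x.2) ⟨g, hg⟩)
      haveI : IsNoetherian A (LinearMap.ker f) := by
        haveI : IsNoetherian A (LocCoh.torsionBy (maximalIdeal A) M) := isNoetherian_of_isNoetherianRing_of_finite A _
        exact isNoetherian_of_injective (LinearMap.codRestrict (LocCoh.torsionBy (maximalIdeal A) M) ((T (n + 1)).subtype ∘ₗ (LinearMap.ker f).subtype) hker)
          fun x y h => Subtype.ext (Subtype.ext (congrArg Subtype.val h :))
      exact isNoetherian_of_range_eq_ker (LinearMap.ker f).subtype f (by rw [Submodule.range_subtype])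
  haveI : ∀ n, Small.{u} (T n) := fun n => by
    haveI := hfin n
    exact Module.Finite.small.{u} A (T n)
  exact small_of_surjective (f := fun x : Σ n : ℕ, T n => (x.2 : M)) fun x => by
    obtain ⟨n, hn⟩ := htors x
    exact ⟨⟨n, x, (hmem n x).2 hn⟩, rfl⟩

/-- Let p be a prime, A a Noetherian local ring of characteristic p with maximal ideal m, and M an
A-module which is cofinite, meaning that every element of M is annihilated by some power of m and
that the socle of M (the elements annihilated by m) is a finitely generated A-module. Let φ : M → M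
be an additive map that is semilinear for the Frobenius of A, φ(a x) = a^p φ(x). If φ is locally
nilpotent, i.e. every element of M is annihilated by some iterate of φ, then φ is nilpotent: one
iterate of φ is zero on all of M. -/
theorem result
    (p : ℕ) [Fact p.Prime] (A : Type u) [CommRing A] [IsNoetherianRing A] [IsLocalRing A] [CharP A p]
    (M : Type v) [AddCommGroup M] [Module A M]
    (htors : LocCoh.IsPowerTorsion (IsLocalRing.maximalIdeal A) M)
    (hsoc : Module.Finite A ↥(LocCoh.torsionBy (IsLocalRing.maximalIdeal A) M))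
    (φ : M →ₛₗ[frobenius A p] M)
    (hloc : ∀ x : M, ∃ n : ℕ, (⇑φ)^[n] x = 0) :
    ∃ n : ℕ, ∀ x : M, (⇑φ)^[n] x = 0 := by
  have := small_of_socle htors hsoc
  let M' := Shrink.{u} M
  let e : M' ≃ₗ[A] M := Shrink.linearEquiv A M
  have hM : LocCoh.IsPowerTorsion (IsLocalRing.maximalIdeal A) M' := fun x => by
    obtain ⟨n, hn⟩ := htors (e x)
    exact ⟨n, fun a ha => e.injective (by rw [map_smul, hn a ha, map_zero])⟩
  haveI : IsArtinian A M' := by
    refine (InjHullLib.isArtinian_iff M').2 ⟨hM, ?_⟩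
    haveI : Module.Finite A (LocCoh.torsionBy (IsLocalRing.maximalIdeal A) M') := by
      refine Module.Finite.equiv (LinearEquiv.ofSubmodules e.symm (LocCoh.torsionBy (IsLocalRing.maximalIdeal A) M) _ ?_)
      ext x
      rw [Submodule.map_equiv_eq_comap_symm, Submodule.mem_comap, InjHullLib.mem_torsionBy_iff, InjHullLib.mem_torsionBy_iff]
      refine forall₂_congr fun c hc => ?_
      rw [LinearEquiv.symm_symm, LinearEquiv.coe_coe, ← map_smul, e.map_eq_zero_iff]
    exact Module.Finite.of_restrictScalars_finite A _ _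
  let B := AdicCompletion (IsLocalRing.maximalIdeal A) A
  let Φ : B →ₐ[A] Module.End A M' := InjHullLib.completionHom hM
  letI : Module B M' := Module.compHom M' Φ.toRingHom
  haveI : IsScalarTower A B M' := ⟨fun a b x => by
    show Φ (a • b) x = a • Φ b x
    rw [map_smul, LinearMap.smul_apply]⟩
  haveI : IsArtinian B M' := isArtinian_of_tower A inferInstance
  haveI : IsNoetherianRing B := AdicRingLib.isNoetherianRing_adicCompletion _
  haveI : IsAdicComplete (IsLocalRing.maximalIdeal B) B := by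
    rw [AdicCompletion.maximalIdeal_eq_map]
    exact AdicRingLib.isAdicComplete_map (IsNoetherian.noetherian _)
  let ψ : M' →+ M' := (e.symm.toAddMonoidHom.comp φ.toAddMonoidHom).comp e.toAddMonoidHom
  have hψ : ∀ y, e (ψ y) = φ (e y) := fun y => e.apply_symm_apply _
  have hψit : ∀ (n : ℕ) (y : M'), e ((⇑ψ)^[n] y) = (⇑φ)^[n] (e y) := by
    intro n
    induction n with
    | zero => exact fun y => rfl
    | succ n ih =>
      intro y
      rw [Function.iterate_succ_apply', Function.iterate_succ_apply', hψ, ih]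
  have hψlin : ∀ (b : B) (x : M'), ψ (b • x) = b ^ p • ψ x := fun b x => by
    obtain ⟨n₁, h1⟩ := hM x
    obtain ⟨n₂, h2⟩ := hM (ψ x)
    have h1' : ∀ c ∈ IsLocalRing.maximalIdeal A ^ (n₁ + n₂), c • x = 0 := fun c hc => h1 c (Ideal.pow_le_pow_right (Nat.le_add_right _ _) hc)
    have h2' : ∀ c ∈ IsLocalRing.maximalIdeal A ^ (n₁ + n₂), c • ψ x = 0 := fun c hc => h2 c (Ideal.pow_le_pow_right (Nat.le_add_left _ _) hc)
    show ψ (InjHullLib.completionAct hM b x) = InjHullLib.completionAct hM (b ^ p) (ψ x)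
    rw [InjHullLib.completionAct_eq' hM b x h1',
      InjHullLib.completionAct_eq hM (b ^ p) (ψ x) h2' (r := InjHullLib.actScalar b (n₁ + n₂) ^ p) (by rw [map_pow, map_pow, InjHullLib.mk_actScalar])]
    refine e.injective ?_
    rw [hψ, map_smul, map_smulₛₗ, map_smul, hψ]
    rfl
  obtain ⟨n, hn⟩ := nilpotent_of_complete p (Fact.out : p.Prime).two_le ψ hψlin (fun y => by
    obtain ⟨n, hn⟩ := hloc (e y)
    exact ⟨n, e.injective (by rw [hψit, hn, map_zero])⟩)
  refine ⟨n, fun x => ?_⟩
  rw [← e.apply_symm_apply x, ← hψit, hn, map_zero]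

end Groth.Agent.S19127
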