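import Groth.Statements.S19128
import Groth.Agent.CdOneLib.CharP
import Groth.Agent.EtLocCohLib.Depth
import Groth.Agent.EtLocCohLib.ExcisionIso
import Groth.Agent.EtZarLib.Ga
import Groth.Agent.EtShLib.JContAll
import Groth.Agent.LocSuppLib.DepthStalk
import Groth.Agent.LocSuppLib.DepthTwo
import Groth.Agent.LocSuppLib.HZVanish
import Groth.Agent.LocSuppLib.LocFree
import Groth.Agent.QCohLib.OpenRestr
import Groth.Agent.DevissLib.ClosedImm
import Groth.Agent.DepthLib.SkStalk
import Groth.Agent.CohTopLib.Leray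
import Groth.Agent.MiscFlat6.QALocus
import Groth.Agent.Formal2VBLib.Dual

set_option maxHeartbeats 1000000
set_option linter.style.haveILetI false
set_option backward.isDefEq.respectTransparency false
set_option backward.isDefEq.respectTransparency.types false

set_option autoImplicit false
universe u
open CategoryTheory CategoryTheory.Limits AlgebraicGeometry Opposite
open EtDual

namespace Groth.Agent.S19128


open CategoryTheory.Abelian Groth.Agent.EtShLib EtSliceLib TopologicalSpace

/-- Local cohomology vanishes in a degree where the relative free sheaf has no Ext. -/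
theorem isZero_HY_of_ext {X U : Scheme.{u}} (j : U ⟶ X) [IsOpenImmersion j] [EtCoh.BCCont j] (F : EtCoh.Ab X) (n : ℕ)
    (h : Subsingleton (Ext.{u + 1} (EtLocCohLib.qU j (EtCoh.top X)) F n)) :
    IsZero ((EtDual.HY j n).obj F) := by
  let I := injectiveResolution F
  let K := ((EtDual.gammaSupp j).mapHomologicalComplex (ComplexShape.up ℕ)).obj I.cocomplex
  have key : ∀ (G : EtCoh.Ab X) (a : ToType ((EtDual.gammaSupp j).obj G)), ∃ f : EtLocCohLib.qU j (EtCoh.top X) ⟶ G,
      (cokernel.π (freeMap (EtLocCohLib.iU j (EtCoh.top X))) ≫ f).hom.app (op (EtCoh.top X)) (gen _) =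
        EtLocCohLib.suppι j G a := by
    intro G a
    refine ⟨cokernel.desc _ (desc _ (EtLocCohLib.suppι j G a)) (free_hom_ext _ ?_), ?_⟩
    · rw [freeMap_app, desc_gen, EtLocCohLib.suppι_zero]
      rfl
    · rw [cokernel.π_desc, desc_gen]
  have back : ∀ (G : EtCoh.Ab X) (f : EtLocCohLib.qU j (EtCoh.top X) ⟶ G), ∃ a : ToType ((EtDual.gammaSupp j).obj G),
      EtLocCohLib.suppι j G a =
        (cokernel.π (freeMap (EtLocCohLib.iU j (EtCoh.top X))) ≫ f).hom.app (op (EtCoh.top X)) (gen _) := fun G f =>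
    EtLocCohLib.exists_suppι_eq j G _ (by
      rw [← freeMap_app, ← Category.assoc, cokernel.condition, zero_comp]
      rfl)
  have hinj : ∀ G : EtCoh.Ab X, Function.Injective (EtLocCohLib.suppι j G) := fun G =>
    (AddCommGrpCat.mono_iff_injective _).1 inferInstance
  have hd : ∀ {G G' : EtCoh.Ab X} (φ : G ⟶ G') (f : EtLocCohLib.qU j (EtCoh.top X) ⟶ G)
      (a : ToType ((EtDual.gammaSupp j).obj G)),
      EtLocCohLib.suppι j G a =
        (cokernel.π (freeMap (EtLocCohLib.iU j (EtCoh.top X))) ≫ f).hom.app (op (EtCoh.top X)) (gen _) →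
      EtLocCohLib.suppι j G' ((EtDual.gammaSupp j).map φ a) =
        (cokernel.π (freeMap (EtLocCohLib.iU j (EtCoh.top X))) ≫ f ≫ φ).hom.app (op (EtCoh.top X)) (gen _) := by
    intro G G' φ f a ha
    have h1 := congrArg (fun t => t a) (EtLocCohLib.suppι_natural j G φ)
    simp only [ConcreteCategory.comp_apply] at h1
    rw [h1, ha]
    rfl
  have hzero : ∀ a : ToType (K.X n), K.d n (n + 1) a = 0 →
      ∃ f : EtLocCohLib.qU j (EtCoh.top X) ⟶ I.cocomplex.X n, f ≫ I.cocomplex.d n (n + 1) = 0 ∧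
        EtLocCohLib.suppι j _ a =
          (cokernel.π (freeMap (EtLocCohLib.iU j (EtCoh.top X))) ≫ f).hom.app (op (EtCoh.top X)) (gen _) := by
    intro a ha
    obtain ⟨f, hf⟩ := key _ a
    refine ⟨f, ?_, hf.symm⟩
    refine (cancel_epi (cokernel.π (freeMap (EtLocCohLib.iU j (EtCoh.top X))))).1 (free_hom_ext _ ?_)
    refine ((hd (I.cocomplex.d n (n + 1)) f a hf.symm).symm.trans ?_).trans (by rw [comp_zero]; first | done | rfl)
    exact (congrArg (EtLocCohLib.suppι j _) ha).trans (map_zero (EtLocCohLib.suppι j _).hom)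
  refine IsZero.of_iso ?_ (I.isoRightDerivedObj (EtDual.gammaSupp j) n)
  show IsZero (K.homology n)
  rw [← HomologicalComplex.exactAt_iff_isZero_homology]
  obtain rfl | ⟨m, rfl⟩ : n = 0 ∨ ∃ m, n = m + 1 := by
    rcases n with _ | m
    · exact Or.inl rfl
    · exact Or.inr ⟨m, rfl⟩
  · rw [HomologicalComplex.exactAt_iff' K 0 0 1 (by simp) (by simp), ShortComplex.ab_exact_iff]
    intro a ha
    obtain ⟨f, hf0, hf⟩ := hzero a ha
    obtain ⟨g, hg⟩ := KernelFork.IsLimit.lift' I.isLimitKernelFork f hf0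
    refine ⟨0, (hinj _) ?_⟩
    have hg0 : (g : EtLocCohLib.qU j (EtCoh.top X) ⟶ F) = 0 := (Ext.mk₀_bijective _ _).1 (h.elim _ _)
    rw [show f = 0 from hg.symm.trans (by rw [hg0]; exact zero_comp), comp_zero] at hf
    refine Eq.trans ?_ hf.symm
    rw [map_zero]
    exact (map_zero (EtLocCohLib.suppι j _).hom).trans rfl
  · rw [HomologicalComplex.exactAt_iff' K m (m + 1) (m + 1 + 1) (by simp) (by simp), ShortComplex.ab_exact_iff]
    intro a ha
    obtain ⟨f, hf0, hf⟩ := hzero a ha
    have h0 : I.extMk f (m + 1 + 1) rfl hf0 = 0 := Subsingleton.elim _ _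
    rw [I.extMk_eq_zero_iff _ _ _ _ m rfl] at h0
    obtain ⟨g, hg⟩ := h0
    obtain ⟨b, hb⟩ := back _ g
    refine ⟨b, (hinj _) ?_⟩
    rw [hf, ← hg]
    exact hd (I.cocomplex.d m (m + 1)) g b hb

theorem nonempty_pull_Ga_iso {X Y : Scheme.{u}} (g : Y ⟶ X) [AlgebraicGeometry.Etale g] :
    Nonempty ((EtCoh.pull g).obj (EtCoh.Ga X) ≅ EtCoh.Ga Y) := by
  haveI := jCont g
  haveI : IsIso (restrTheta g) := isIso_restrTheta g
  exact ⟨(asIso (restrTheta g)).app _ ≪≫ (fullyFaithfulSheafToPresheaf _ _).preimageIso (Iso.refl _)⟩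

theorem subsingleton_ext_free_Ga {X : Scheme.{u}} (W : X.Etale) (q : ℕ)
    (h : Subsingleton (Coh.HH W.left (Coh.structureModule W.left) q)) :
    Subsingleton (Ext.{u + 1} (free W) (EtCoh.Ga X) q) := by
  haveI : AlgebraicGeometry.Etale W.hom := W.prop
  obtain ⟨e⟩ := nonempty_pull_Ga_iso W.hom
  haveI : EtZar.ZarCont W.left := EtZarLib.zarCont W.left
  obtain ⟨e'⟩ := EtZarLib.nonempty_Ga_equiv W.left q
  haveI : Subsingleton (Sheaf.H (EtCoh.Ga ((𝟭 Scheme).obj W.left)) q) := e'.toEquiv.subsingleton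
  haveI : Subsingleton (EtCoh.H W.left ((EtCoh.pull W.hom).obj (EtCoh.Ga X)) q) := by
    refine Function.Injective.subsingleton (f := Sheaf.H.map e.hom q) fun x y hxy => ?_
    have := congrArg (Sheaf.H.map e.inv q) hxy
    rwa [← Sheaf.H.map_comp_apply, ← Sheaf.H.map_comp_apply, e.hom_inv_id, Sheaf.H.map_id_apply,
      Sheaf.H.map_id_apply] at this
  exact (psi_bijective W q _).1.subsingleton

section Punct

variable (R : Type u) [CommRing R] [IsLocalRing R] [IsNoetherianRing R] (d : ℕ)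
  (hd : (d : ℕ∞) ≤ LocCoh.depth R R)

include hd in
theorem subsingleton_HZ_punct (i : ℕ) (hi : i < d) :
    Subsingleton (LocCohZ.HZ (X := (Spec (CommRingCat.of R)).carrier)
      (Coh.toAb (Coh.structureModule (Spec (CommRingCat.of R)))) i
      (inf_le_right : FEt.puncturedSpec R ⊓ ⊤ ≤ ⊤)) := by
  let S := Spec (CommRingCat.of R)
  refine (LocSuppLib.subsingleton_HZ_iff_depth (X := S) (FEt.puncturedSpec R)
    (DevissLib.isCoh_structureModule S) (isAffineOpen_top S) d).2 (fun x _ hx => ?_) i hi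
  obtain rfl : x = IsLocalRing.closedPoint R := by
    by_contra hne
    exact hx hne
  refine LocSuppLib.le_depth_stalk (Formal2VBLib.isFinLocFree_structureModule S) _ ?_
  let s := (Spec (CommRingCat.of R)).presheaf.stalk (IsLocalRing.closedPoint R)
  letI : Algebra R s := StructureSheaf.stalkAlgebra R (IsLocalRing.closedPoint R)
  haveI : IsLocalization.AtPrime s (IsLocalRing.maximalIdeal R) :=
    StructureSheaf.IsLocalization.to_stalk R (IsLocalRing.closedPoint R)
  let e : R ≃ₐ[R] s := IsLocalization.atUnits R (IsLocalRing.maximalIdeal R).primeCompl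
    (fun a ha => IsLocalRing.notMem_maximalIdeal.1 ha)
  haveI : IsNoetherianRing s := isNoetherianRing_of_ringEquiv R e.toRingEquiv
  exact hd.trans (DepthLib.depth_congr_ringEquiv e.toRingEquiv).le

include hd in
theorem bijective_res_punct (hd2 : 2 ≤ d) :
    Function.Bijective ((Spec (CommRingCat.of R)).presheaf.map
      (homOfLE (inf_le_right : FEt.puncturedSpec R ⊓ ⊤ ≤ ⊤)).op) := by
  exact LocSuppLib.bijective_res_of_subsingleton (X := (Spec (CommRingCat.of R)).carrier) _ _
    (subsingleton_HZ_punct R d hd 0 (by omega)) (subsingleton_HZ_punct R d hd 1 (by omega))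

include hd in
theorem injective_res_punct (hd1 : 1 ≤ d) :
    Function.Injective ((Spec (CommRingCat.of R)).presheaf.map
      (homOfLE (inf_le_right : FEt.puncturedSpec R ⊓ ⊤ ≤ ⊤)).op) := by
  haveI := subsingleton_HZ_punct R d hd 0 (by omega)
  let F := Coh.toAb (Coh.structureModule (Spec (CommRingCat.of R)))
  refine (injective_iff_map_eq_zero ((F.obj.map
    (homOfLE (inf_le_right : FEt.puncturedSpec R ⊓ ⊤ ≤ ⊤)).op).hom)).2 fun a ha => ?_
  have h := (LocCohZ.sect0Equiv (X := (Spec (CommRingCat.of R)).carrier) F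
    (inf_le_right : FEt.puncturedSpec R ⊓ ⊤ ≤ ⊤)).symm.toEquiv.subsingleton
  exact congrArg Subtype.val (h.elim (⟨a, ha⟩ : LocCohZ.sectZ F _) 0)

include hd in
theorem subsingleton_HH_open {D : Scheme.{u}} (e : D ⟶ Spec (CommRingCat.of R)) [IsOpenImmersion e]
    (he : e.opensRange = FEt.puncturedSpec R ⊓ ⊤) (q : ℕ) (hq : 1 ≤ q) (hqd : q + 1 < d) :
    Subsingleton (Coh.HH D (Coh.structureModule D) q) := by
  let S := Spec (CommRingCat.of R)
  obtain ⟨q, rfl⟩ : ∃ m, q = m + 1 := ⟨q - 1, by omega⟩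
  have hb := ((LocSuppLib.subsingleton_HZ_iff_res (X := S.carrier)
    (F := Coh.toAb (Coh.structureModule S)) (inf_le_right : FEt.puncturedSpec R ⊓ ⊤ ≤ ⊤) (d - 1)).1
    fun i hi => subsingleton_HZ_punct R d hd i (by omega)).1 (q + 1) (by omega)
  haveI : Coh.IsQCoh (Coh.structureModule S) := QCohLib.isQCoh_unit
  haveI : Subsingleton (CohTop.HU (Coh.toAb (Coh.structureModule S)) (q + 1) ⊤) :=
    QCohLib.subsingleton_HU_affine (Coh.structureModule S) q (isAffineOpen_top S)
  haveI : Subsingleton (CohTop.HU (Coh.toAb (Coh.structureModule S)) (q + 1) (FEt.puncturedSpec R ⊓ ⊤)) :=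
    Function.Surjective.subsingleton hb.2
  obtain ⟨w⟩ := MiscFlat6.nonempty_restrict_structureModule e
  obtain ⟨a⟩ := QCohLib.nonempty_HU_restrict e (Coh.structureModule S) (q + 1) ⊤
  haveI : Subsingleton (QCohLib.HU ((QCohLib.toAbF S).obj (Coh.structureModule S)) (q + 1) (e ''ᵁ ⊤)) := by
    rw [Scheme.Hom.image_top_eq_opensRange, he]
    assumption
  have ha := a.toEquiv.subsingleton
  rw [QCohLib.subsingleton_H_iff]
  exact @Equiv.subsingleton _ _ (CohTopLib.extCongrRight ((QCohLib.toAbF D).mapIso w).symm (q + 1)).toEquiv ha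

include hd in
theorem ext_qU_Ga (i : ℕ) (hi : i < d) :
    Subsingleton (Ext.{u + 1} (EtLocCohLib.qU (FEt.puncturedSpec R).ι (EtCoh.top (Spec (CommRingCat.of R))))
      (EtCoh.Ga (Spec (CommRingCat.of R))) i) := by
  let S := Spec (CommRingCat.of R)
  let j := (FEt.puncturedSpec R).ι
  let T := EtCoh.top S
  let W := (EtShriek.compEtale j).obj ((EtCoh.bc j).obj T)
  let m := EtLocCohLib.iU j T
  haveI : IsOpenImmersion m.left := MorphismProperty.pullback_fst _ _ (inferInstanceAs (IsOpenImmersion j))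
  have hrange : m.left.opensRange = FEt.puncturedSpec R ⊓ ⊤ := by
    rw [inf_top_eq]
    refine Opens.ext ?_
    exact (EtLocCohLib.range_aObj j).trans (FEt.puncturedSpec R).range_ι
  let sc : ∀ V : S.Etale, Ext.{u + 1} (free V) (EtCoh.Ga S) 0 → ToType ((EtCoh.Ga S).obj.obj (op V)) :=
    fun V y => (Ext.addEquiv₀ y : free V ⟶ EtCoh.Ga S).hom.app (op V) (gen V)
  have hsec : ∀ (V : S.Etale), Function.Bijective (sc V) := fun V =>
    ⟨fun y y' h => Ext.addEquiv₀.injective (free_hom_ext V h),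
      fun s => ⟨Ext.addEquiv₀.symm (desc V s), by
        show (Ext.addEquiv₀ (Ext.addEquiv₀.symm (desc V s))).hom.app (op V) (gen V) = s
        rw [AddEquiv.apply_symm_apply, desc_gen]⟩⟩
  have hcomp : ∀ y : Ext.{u + 1} (free T) (EtCoh.Ga S) 0,
      sc W ((Ext.mk₀ (freeMap m)).comp y (zero_add 0)) = (EtCoh.Ga S).obj.map m.op (sc T y) := by
    intro y
    obtain ⟨g, rfl⟩ := (Ext.mk₀_bijective _ _).2 y
    have hA : ∀ {A B : EtCoh.Ab S} (u : A ⟶ B), Ext.addEquiv₀ (Ext.mk₀ u) = u := fun u =>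
      (Ext.mk₀_bijective _ _).1 (Ext.mk₀_homEquiv₀_apply _)
    dsimp only [sc]
    rw [Ext.mk₀_comp_mk₀, hA, hA, freeMap_app]
  have happ : m.left.appTop = S.presheaf.map (homOfLE (inf_le_right : FEt.puncturedSpec R ⊓ ⊤ ≤ ⊤)).op ≫
      m.left.app (FEt.puncturedSpec R ⊓ ⊤) ≫
        W.left.presheaf.map (eqToHom (by rw [← hrange]; simp)).op := by
    rw [Scheme.Hom.naturality_assoc, ← Functor.map_comp]
    exact (Category.comp_id _).symm.trans (congrArg (fun t => m.left.app ⊤ ≫ t)
      (((W.left.presheaf.map_id _).symm.trans (congrArg W.left.presheaf.map (Subsingleton.elim _ _)))))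
  haveI : IsIso (m.left.app (FEt.puncturedSpec R ⊓ ⊤)) := m.left.isIso_app _ hrange.ge
  have hGa : Function.Bijective (W.left.presheaf.map (eqToHom (by rw [← hrange]; simp) :
        (⊤ : W.left.Opens) ⟶ m.left ⁻¹ᵁ (FEt.puncturedSpec R ⊓ ⊤)).op ∘
      m.left.app (FEt.puncturedSpec R ⊓ ⊤)) :=
    (ConcreteCategory.bijective_of_isIso (W.left.presheaf.map _)).comp (ConcreteCategory.bijective_of_isIso _)
  have hinj0 : Function.Injective fun y : Ext.{u + 1} (free T) (EtCoh.Ga S) 0 =>
      (Ext.mk₀ (freeMap m)).comp y (zero_add 0) := by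
    intro y y' h
    refine (hsec T).1 ?_
    have h' := congrArg (sc W) h
    simp only [hcomp] at h'
    refine ULift.ext _ _ (injective_res_punct R d hd (by omega) (hGa.1 ?_))
    have h'' : m.left.appTop _ = m.left.appTop _ := congrArg ULift.down h'
    rw [happ] at h''
    exact h''
  refine (EtLocCohLib.ext_iff_restr j (EtCoh.Ga S) d T).2 ⟨fun p hp => ?_, fun p hp => ?_⟩ i hi
  · rcases p with _ | p
    · refine ⟨hinj0, fun z => ?_⟩
      obtain ⟨s, hs⟩ := (hGa.comp (bijective_res_punct R d hd (by omega))).2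
        (sc W z).down
      obtain ⟨y, hy⟩ := (hsec T).2 (ULift.up s)
      refine ⟨y, (hsec W).1 ?_⟩
      show sc W ((Ext.mk₀ (freeMap m)).comp y (zero_add 0)) = _
      rw [hcomp]
      refine ULift.ext _ _ ?_
      show m.left.appTop (ULift.down (sc T y)) = _
      rw [hy, happ]
      exact hs
    · haveI := subsingleton_ext_free_Ga T (p + 1) (by
        haveI : Coh.IsQCoh (Coh.structureModule S) := QCohLib.isQCoh_unit
        exact (QCohLib.subsingleton_H_iff (X := S.toTopCat) _ _).2
          (QCohLib.subsingleton_HU_affine (Coh.structureModule S) p (isAffineOpen_top S)))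
      haveI := subsingleton_ext_free_Ga W (p + 1) (subsingleton_HH_open R d hd m.left hrange (p + 1) (by omega) hp)
      exact ⟨fun _ _ _ => Subsingleton.elim _ _, fun z => ⟨0, Subsingleton.elim _ _⟩⟩
  · rcases p with _ | p
    · exact hinj0
    · haveI := subsingleton_ext_free_Ga T (p + 1) (by
        haveI : Coh.IsQCoh (Coh.structureModule S) := QCohLib.isQCoh_unit
        exact (QCohLib.subsingleton_H_iff (X := S.toTopCat) _ _).2
          (QCohLib.subsingleton_HU_affine (Coh.structureModule S) p (isAffineOpen_top S)))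
      exact fun _ _ _ => Subsingleton.elim _ _

end Punct


/-- Let p be a prime and R a Noetherian local ring of characteristic p which is strictly henselian
(henselian with separably closed residue field) and Cohen–Macaulay, of Krull dimension d; let Y =
Spec R with closed point y and punctured spectrum U = Y - {y}. Then the local cohomology groups
H^i_y(Y_et, Z/p) of the constant étale sheaf Z/p with support in the closed point (right derived
functors of sections vanishing on U) are zero for every i < d. -/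
theorem result
    (p : ℕ) [Fact p.Prime] (R : Type u) [CommRing R] [LocCoh.IsCohenMacaulayLocalRing R]
    [HenselianLocalRing R] [IsSepClosed (IsLocalRing.ResidueField R)] [CharP R p]
    (i : ℕ) (hi : (i : WithBot ℕ∞) < ringKrullDim R) :
    IsZero ((EtDual.HY (FEt.puncturedSpec R).ι i).obj (EtCoh.const (Spec (CommRingCat.of R)) (ZMod p))) := by
  let S := Spec (CommRingCat.of R)
  have h0 : (p : Γ(S, ⊤)) = 0 := by
    rw [← map_natCast (Scheme.ΓSpecIso (CommRingCat.of R)).inv.hom, CharP.cast_eq_zero R p, map_zero]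
  obtain ⟨T, hT, e1, e2, e3⟩ := CdOneLib.kernel_artinSchreier (X := S) p h0
  have hdep : (i : ℕ∞) < LocCoh.depth R R := by
    rw [← Module.supportDim_self_eq_ringKrullDim, LocCoh.IsCohenMacaulayLocalRing.supportDim_eq_depth] at hi
    exact WithBot.coe_lt_coe.1 hi
  have hd : ((i + 1 : ℕ) : ℕ∞) ≤ LocCoh.depth R R := by
    push_cast
    exact Order.add_one_le_of_lt hdep
  refine isZero_HY_of_ext _ _ i ?_
  rw [← e1]
  have h2 : ∀ q < i + 1, Subsingleton (Ext.{u + 1}
      (EtLocCohLib.qU (FEt.puncturedSpec R).ι (EtCoh.top S)) T.X₂ q) := fun q hq =>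
    e2 ▸ ext_qU_Ga R (i + 1) hd q hq
  have h3 : ∀ q < i + 1, Subsingleton (Ext.{u + 1}
      (EtLocCohLib.qU (FEt.puncturedSpec R).ι (EtCoh.top S)) T.X₃ q) := fun q hq =>
    e3 ▸ ext_qU_Ga R (i + 1) hd q hq
  refine subsingleton_of_forall_eq 0 fun w => ?_
  rcases i with _ | i
  · obtain ⟨a, rfl⟩ := (Ext.mk₀_bijective _ _).2 w
    have ha : a ≫ T.f = 0 := (Ext.mk₀_bijective _ _).1 ((h2 0 (by omega)).elim _ _)
    haveI := hT.mono_f
    rw [(cancel_mono T.f).1 (ha.trans zero_comp.symm), Ext.mk₀_zero]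
  · obtain ⟨y, hy⟩ := Ext.covariant_sequence_exact₁ _ hT w ((h2 (i + 1) (by omega)).elim _ 0) (n₀ := i) rfl
    rw [← hy, (h3 i (by omega)).elim y 0, Ext.zero_comp]

end Groth.Agent.S19128
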