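import Groth.Statements.S19130
import Groth.Agent.AicVanishLib.Coh
import Groth.Agent.SepPointLib.Basic
import Groth.Agent.S0626
import Groth.Agent.S0627
import Groth.Agent.S14451

set_option maxHeartbeats 1000000
set_option backward.isDefEq.respectTransparency false
set_option backward.isDefEq.respectTransparency.types false

set_option autoImplicit false
universe u
open CategoryTheory CategoryTheory.Limits AlgebraicGeometry Opposite
open EtCoh

namespace Groth.Agent.S19130

open CategoryTheory.Abelian Groth.Agent.EtShLib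

/-- Etale cohomology of a separably closed point vanishes in positive degrees. -/
theorem subsingleton_ext_point (K : Type u) [Field K] [IsSepClosed K] :
    ∀ (p : ℕ) (G : EtCoh.Ab (Spec (CommRingCat.of K))),
      Subsingleton (Ext.{u + 1} (constZ (Spec (CommRingCat.of K))) G (p + 1))
  | 0, G => by
    haveI : Injective (CohLib.injSC G).X₂ := inferInstanceAs (Injective (Injective.under G))
    haveI := CohLib.subsingleton_ext_injective.{u + 1} (constZ (Spec (CommRingCat.of K))) (CohLib.injSC G).X₂ 0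
    refine CohLib.subsingleton_ext_one_of_lift (CohLib.injSC_shortExact G) fun s => ?_
    obtain ⟨hT⟩ := isTerminal_top (Spec (CommRingCat.of K))
    haveI := (CohLib.injSC_shortExact G).epi_g
    let s₀ := Sheaf.H.equiv₀ (CohLib.injSC G).X₃ hT (Ext.mk₀ s)
    obtain ⟨t, ht⟩ := SepPointLib.surjective_sections K (CohLib.injSC G).g (EtCoh.top _) s₀
    refine ⟨Ext.addEquiv₀ ((Sheaf.H.equiv₀ (CohLib.injSC G).X₂ hT).symm t), ?_⟩
    rw [← Sheaf.H.addEquiv₀_map, Sheaf.H.equiv₀_symm_naturality, ht, AddEquiv.symm_apply_apply]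
    exact Ext.addEquiv₀.symm.injective (by simp)
  | p + 1, G => by
    haveI : Injective (CohLib.injSC G).X₂ := inferInstanceAs (Injective (Injective.under G))
    haveI := CohLib.subsingleton_ext_injective.{u + 1} (constZ (Spec (CommRingCat.of K))) (CohLib.injSC G).X₂ (p + 1)
    haveI := subsingleton_ext_point K p (CohLib.injSC G).X₃
    exact CohLib.subsingleton_ext_of_shift (CohLib.injSC_shortExact G)

theorem isZero_Rpush_point (K : Type u) [Field K] [IsSepClosed K] {X : Scheme.{u}}
    (g : Spec (CommRingCat.of K) ⟶ X) (F : EtCoh.Ab (Spec (CommRingCat.of K))) (q : ℕ) (hq : 0 < q) :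
    IsZero ((EtCoh.Rpush g q).obj F) := by
  haveI := SepPointLib.preservesHomology_push K g
  obtain ⟨m, rfl⟩ : ∃ m, q = m + 1 := ⟨q - 1, by omega⟩
  refine IsZero.of_iso ?_ ((injectiveResolution F).isoRightDerivedObj (EtCoh.push g) (m + 1))
  exact (HomologicalComplex.exactAt_iff_isZero_homology _ _).1
    (((injectiveResolution F).cocomplex_exactAt_succ m).map (EtCoh.push g))

theorem natCard_H_zero {Y : Scheme.{u}} [IrreducibleSpace Y] (M : Type) [AddCommGroup M] :
    Nat.card (EtCoh.H Y (EtCoh.const Y M) 0) = Nat.card M := by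
  obtain ⟨hT⟩ := isTerminal_top Y
  let F := EtCoh.const Y M
  let j : AicVanishLib.zobj (⊤ : Y.Opens) ⟶ EtCoh.top Y := AicVanishLib.toTop _
  obtain ⟨k⟩ := AicVanishLib.exists_zobj_hom (T := EtCoh.top Y) (U := (⊤ : Y.Opens)) (fun x _ => trivial)
  let e : EtCoh.top Y ≅ AicVanishLib.zobj (⊤ : Y.Opens) :=
    ⟨k, j, AicVanishLib.toTop_ext _ _, AicVanishLib.zobj_hom_ext _ _⟩
  have h1 : Nat.card (EtCoh.H Y F 0) = Nat.card (EtCoh.sect F (AicVanishLib.zobj (⊤ : Y.Opens))) :=
    Nat.card_congr ((Sheaf.H.equiv₀ F hT).toEquiv.trans ((F.obj.mapIso e.symm.op).addCommGroupIsoToAddEquiv.toEquiv))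
  rw [h1]
  refine (Nat.card_congr (Equiv.ofBijective (fun m => AicVanishLib.cst M ⊤ m) ⟨fun m m' h => ?_, fun s => ?_⟩)).symm
  · exact AicVanishLib.cst_injective M (U := ⊤) (x := genericPoint Y) trivial h
  · obtain ⟨φ, hφ⟩ := AicVanishLib.exists_fun M s
    refine ⟨φ (genericPoint Y), AicVanishLib.sect_ext F _ _ fun x hx => ?_⟩
    obtain ⟨W, hW, hxW, hres, hconst⟩ := hφ x hx
    refine ⟨W, hW, hxW, ?_⟩
    rw [hres, AicVanishLib.res_cst, hconst (genericPoint Y) ((genericPoint_specializes x).mem_open W.isOpen hxW)]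

/-- Let p be a prime and Y an integral scheme which is normal (every local ring is integrally closed in
its fraction field) and whose function field is algebraically closed. Then the étale cohomology of
the constant sheaf Z/p on Y is Z/p in degree 0 and vanishes in positive degrees: H^0(Y_et, Z/p) has
exactly p elements and H^i(Y_et, Z/p) = 0 for i > 0. Moreover, for every nonempty open subscheme j :
U → Y, the unit morphism from the constant sheaf Z/p on Y_et to j_* of its restriction to U is an
isomorphism. -/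
theorem result
    (p : ℕ) [Fact p.Prime] (Y : Scheme.{u}) [IsIntegral Y]
    (hnorm : ∀ y : Y, IsIntegrallyClosed (Y.presheaf.stalk y)) [IsAlgClosed Y.functionField] :
    Nat.card (EtCoh.H Y (EtCoh.const Y (ZMod p)) 0) = p ∧
      (∀ i : ℕ, 0 < i → Subsingleton (EtCoh.H Y (EtCoh.const Y (ZMod p)) i)) ∧
      ∀ U : Y.Opens, (U : Set Y).Nonempty →
        IsIso ((EtCoh.pullPushAdj U.ι).unit.app (EtCoh.const Y (ZMod p))) := by
  haveI := S0626.result Y hnorm (ZMod p)
  refine ⟨(natCard_H_zero (ZMod p)).trans (by simp), fun i hi => ?_, fun U hU => S0627.result Y hnorm U hU _⟩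
  let g := Y.fromSpecStalk (genericPoint Y)
  let F := (EtCoh.pull g).obj (EtCoh.const Y (ZMod p))
  haveI : PreservesFiniteLimits (EtCoh.pull g) := preservesFiniteLimits_pullA (A := AddCommGrpCat.{u + 1}) g
  have hb := S14451.result g F (fun q hq => isZero_Rpush_point Y.functionField g F q hq) i
  obtain ⟨m, rfl⟩ : ∃ m, i = m + 1 := ⟨i - 1, by omega⟩
  have h0 : Subsingleton ((EtCoh.HF (Spec (CommRingCat.of Y.functionField)) (m + 1)).obj F) :=
    subsingleton_ext_point Y.functionField m F
  have h1 : Subsingleton ((EtCoh.HF Y (m + 1)).obj ((EtCoh.push g).obj F)) :=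
    ⟨fun a b => hb.1 (@Subsingleton.elim _ h0 _ _)⟩
  let ι' : (EtCoh.HF Y (m + 1)).obj (EtCoh.const Y (ZMod p)) ≅ (EtCoh.HF Y (m + 1)).obj ((EtCoh.push g).obj F) :=
    (EtCoh.HF Y (m + 1)).mapIso (@asIso _ _ _ _ ((EtCoh.pullPushAdj g).unit.app (EtCoh.const Y (ZMod p))) ‹_›)
  exact ι'.addCommGroupIsoToAddEquiv.toEquiv.subsingleton_congr.2 h1

end Groth.Agent.S19130
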