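import Groth.Statements.S19131
import Groth.Agent.TStructQuotLib.Quot

set_option autoImplicit false
universe v u v' u'
open CategoryTheory CategoryTheory.Limits CategoryTheory.Pretriangulated CategoryTheory.Triangulated
open PervT

namespace Groth.Agent.S19131

/-- Let C be a triangulated category (octahedron axiom included) carrying a bounded t-structure t (every
object is ≥ a and ≤ b for some integers a, b), and let D be a strictly full triangulated subcategory
of C (a property of objects containing zero, stable under shifts, extensions and isomorphisms) such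
that (1) for X in D and every integer n the n-th cohomology object of X for t, realised as τ^{≥ n}
τ^{≤ n} X, lies in D, and (2) the objects of D in the heart of t are closed under subobjects and
quotients in the heart: for every distinguished triangle X → Y → Z → X[1] whose three vertices lie
in the heart, if Y is in D then so are X and Z. Let q : C ⥤ E be a triangulated functor to a
pretriangulated category E which exhibits E as the localization of C at the class of morphisms whose
cone lies in D (the Verdier quotient of C by D). Then E carries exactly one t-structure for which q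
is t-exact (q sends objects ≤ n to objects ≤ n and objects ≥ n to objects ≥ n), and for this
t-structure an object of E is ≤ n, respectively ≥ n, if and only if it is isomorphic to q X for some
X ≤ n, respectively X ≥ n, in C. (The source also identifies the heart of this t-structure with the
quotient of the heart of t by its intersection with D; that identification is not asserted here.) -/
theorem result
    {C : Type u} [Category.{v} C] [Preadditive C] [HasZeroObject C] [HasShift C ℤ]
    [∀ n : ℤ, (shiftFunctor C n).Additive] [Pretriangulated C] [IsTriangulated C]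
    (t : TStructure C) (hb : ∀ X : C, t.bounded X)
    (D : ObjectProperty C) [D.IsTriangulated] [D.IsClosedUnderIsomorphisms]
    (h1 : ∀ X : C, D X → ∀ n : ℤ, D ((t.truncGELE n n).obj X))
    (h2 : ∀ (X Y Z : C) (f : X ⟶ Y) (g : Y ⟶ Z) (h : Z ⟶ X⟦(1 : ℤ)⟧),
      Triangle.mk f g h ∈ distTriang C → t.heart X → t.heart Y → t.heart Z → D Y → D X ∧ D Z)
    {E : Type u'} [Category.{v'} E] [Preadditive E] [HasZeroObject E] [HasShift E ℤ]
    [∀ n : ℤ, (shiftFunctor E n).Additive] [Pretriangulated E]
    (q : C ⥤ E) [q.CommShift ℤ] [q.IsTriangulated] [q.IsLocalization D.trW] :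
    ∃ t' : TStructure E,
      (∀ (X : C) (n : ℤ), t.IsLE X n → t'.IsLE (q.obj X) n) ∧
      (∀ (X : C) (n : ℤ), t.IsGE X n → t'.IsGE (q.obj X) n) ∧
      (∀ (Y : E) (n : ℤ), t'.IsLE Y n ↔ ∃ X : C, t.IsLE X n ∧ Nonempty (q.obj X ≅ Y)) ∧
      (∀ (Y : E) (n : ℤ), t'.IsGE Y n ↔ ∃ X : C, t.IsGE X n ∧ Nonempty (q.obj X ≅ Y)) ∧
      ∀ t'' : TStructure E,
        (∀ (X : C) (n : ℤ), t.IsLE X n → t''.IsLE (q.obj X) n) →
        (∀ (X : C) (n : ℤ), t.IsGE X n → t''.IsGE (q.obj X) n) → t'' = t' := by
  let t' := Groth.Agent.TStructQuotLib.tQuot t D q hb h1 h2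
  refine ⟨t', fun X n hX => ⟨⟨X, hX, ⟨Iso.refl _⟩⟩⟩, fun X n hX => ⟨⟨X, hX, ⟨Iso.refl _⟩⟩⟩,
    fun Y n => ⟨fun h => h.le, fun h => ⟨h⟩⟩, fun Y n => ⟨fun h => h.ge, fun h => ⟨h⟩⟩, ?_⟩
  intro t'' hle hge
  have e₁ : t''.le = t'.le := by
    ext n Y
    refine ⟨fun h => Groth.Agent.TStructQuotLib.isLE_of_exact t D q hb h1 h2 t'' hle hge h, ?_⟩
    rintro ⟨X, hX, ⟨i⟩⟩
    exact (t''.le n).prop_of_iso i (hle X n hX).le
  have e₂ : t''.ge = t'.ge := by
    ext n Y
    refine ⟨fun h => Groth.Agent.TStructQuotLib.isGE_of_exact t D q hb h1 h2 t'' hle hge h, ?_⟩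
    rintro ⟨X, hX, ⟨i⟩⟩
    exact (t''.ge n).prop_of_iso i (hge X n hX).ge
  have key : ∀ a b : TStructure E, a.le = b.le → a.ge = b.ge → a = b := by
    rintro ⟨_, _, _, _, _, _, _, _, _, _⟩ ⟨_, _, _, _, _, _, _, _, _, _⟩ h h'
    cases h
    cases h'
    rfl
  exact key _ _ e₁ e₂

end Groth.Agent.S19131
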