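import Groth.Statements.S19138
import Mathlib

set_option autoImplicit false
open Instab

namespace Groth.Agent.S19138

theorem lin_zero (D C δ : ℝ) (hδ : 0 < δ) (h : ∀ t, |t| < δ → t * D ≤ t ^ 2 * C) : D = 0 := by
  by_contra hD
  have hpos : 0 < |D| := abs_pos.2 hD
  set e := min (δ / 2) (|D| / (|C| + 1) / 2) with he
  have he0 : 0 < e := lt_min (by linarith) (by positivity)
  have hle : e * (|C| + 1) ≤ |D| / 2 := by
    have h1 : e ≤ |D| / (|C| + 1) / 2 := min_le_right _ _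
    rw [div_div, mul_comm, ← div_div, le_div_iff₀ (by positivity)] at h1
    · linarith
  have hCle : e * C ≤ e * |C| := mul_le_mul_of_nonneg_left (le_abs_self C) he0.le
  rcases lt_or_gt_of_ne hD with hneg | hp
  · have h1 := h (-e) (by rw [abs_neg, abs_of_pos he0]; linarith [min_le_left (δ / 2) (|D| / (|C| + 1) / 2)])
    rw [abs_of_neg hneg] at hle
    have h2 : -D ≤ e * C := le_of_mul_le_mul_left (by nlinarith [h1]) he0
    nlinarith
  · have h1 := h e (by rw [abs_of_pos he0]; linarith [min_le_left (δ / 2) (|D| / (|C| + 1) / 2)])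
    rw [abs_of_pos hp] at hle
    have h2 : D ≤ e * C := le_of_mul_le_mul_left (by nlinarith [h1]) he0
    nlinarith

/-- Rational approximations preserving all rational affine relations. -/
theorem exists_rat_near {ι : Type} [Fintype ι] (y : ι → ℝ) (ε : ℝ) (hε : 0 < ε) :
    ∃ x : ι → ℚ, (∀ i, |(x i : ℝ) - y i| < ε) ∧
      ∀ (a : ι → ℚ) (b : ℚ), ∑ i, (a i : ℝ) * y i = b → ∑ i, a i * x i = b := by
  classical
  let W : Submodule ℚ ℝ := Submodule.span ℚ (Set.range fun o : Option ι => o.elim 1 y)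
  have : Module.Finite ℚ W := Module.Finite.span_of_finite ℚ (Set.finite_range _)
  let bW := Module.finBasis ℚ W
  have hy : ∀ o : Option ι, o.elim 1 y ∈ W := fun o => Submodule.subset_span ⟨o, rfl⟩
  let c : Option ι → Fin (Module.finrank ℚ W) → ℚ := fun o k => bW.repr ⟨_, hy o⟩ k
  let φ : (Fin (Module.finrank ℚ W) → ℝ) → Option ι → ℝ := fun γ o => ∑ k, (c o k : ℝ) * γ k
  let β : Fin (Module.finrank ℚ W) → ℝ := fun k => (bW k : ℝ)
  have hβ : ∀ o, φ β o = o.elim 1 y := fun o => by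
    have h1 := congrArg Subtype.val (bW.sum_repr ⟨_, hy o⟩)
    simp only [Submodule.coe_sum, Submodule.coe_smul, Rat.smul_def] at h1
    exact h1
  have hone : φ β none = 1 := hβ none
  let g : ι → (Fin (Module.finrank ℚ W) → ℝ) → ℝ := fun i γ => φ γ (some i) / φ γ none
  have hφc : ∀ o, Continuous fun γ => φ γ o := fun o =>
    continuous_finsetSum _ fun k _ => continuous_const.mul (continuous_apply k)
  have hev : ∀ᶠ γ in nhds β, φ γ none ≠ 0 ∧ ∀ i, |g i γ - y i| < ε := by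
    refine Filter.Eventually.and ((hφc none).continuousAt.eventually_ne (by rw [hone]; exact one_ne_zero))
      (Filter.eventually_all.2 fun i => ?_)
    have h1 : Filter.Tendsto (g i) (nhds β) (nhds (y i)) := by
      have h2 := ((hφc (some i)).tendsto β).div ((hφc none).tendsto β) (by rw [hone]; exact one_ne_zero)
      rw [hone, hβ (some i), div_one] at h2
      exact h2
    have h3 := h1.eventually (Metric.ball_mem_nhds (y i) hε)
    simpa [Real.dist_eq] using h3
  obtain ⟨O, hO, hOo, hβO⟩ := mem_nhds_iff.1 hev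
  obtain ⟨q, hq⟩ := (DenseRange.piMap fun _ : Fin (Module.finrank ℚ W) => Rat.denseRange_cast (𝕜 := ℝ)).exists_mem_open hOo ⟨β, hβO⟩
  obtain ⟨hq0, hqε⟩ := hO hq
  have hφq : ∀ o, φ (Pi.map (fun _ => ((↑) : ℚ → ℝ)) q) o = ((∑ k, c o k * q k : ℚ) : ℝ) := fun o => by
    push_cast
    rfl
  refine ⟨fun i => (∑ k, c (some i) k * q k) / ∑ k, c none k * q k, fun i => ?_, fun a b hab => ?_⟩
  · have := hqε i
    simp only [g, hφq] at this
    rw [Rat.cast_div]
    exact this
  · rw [hφq] at hq0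
    have hq0' : (∑ k, c none k * q k) ≠ 0 := fun h => hq0 (by rw [h, Rat.cast_zero])
    have hrel : ∀ k, ∑ i, a i * c (some i) k = b * c none k := fun k => by
      have h1 : ∑ i, a i • (⟨_, hy (some i)⟩ : W) = b • ⟨_, hy none⟩ := by
        apply Subtype.ext
        simp only [Submodule.coe_sum, Submodule.coe_smul, Rat.smul_def, Option.elim_some, Option.elim_none, mul_one]
        exact hab
      have h2 := congrArg (fun w => bW.repr w k) h1
      simp only [map_sum, map_smul, Finsupp.finsetSum_apply, Finsupp.smul_apply, smul_eq_mul] at h2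
      exact h2
    simp only [mul_div_assoc', ← Finset.sum_div]
    rw [div_eq_iff hq0', Finset.mul_sum]
    simp only [Finset.mul_sum]
    rw [Finset.sum_comm]
    refine Finset.sum_congr rfl fun k _ => ?_
    rw [← mul_assoc, ← hrel k, Finset.sum_mul]
    exact Finset.sum_congr rfl fun i _ => by ring


open Matrix in
/-- Let ℓ ∈ ℚⁿ and let B be a rational n × n matrix whose real quadratic form q(y) = y · (B y) is
non-negative on ℝⁿ and positive at every non-zero point of the non-negative orthant. If ℓ · y > 0 at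
some point of the orthant, then the function ℓ · y / √q(y) on the non-zero points of the orthant
attains its maximum at a point with rational coordinates. (The published lemma says that the
numerical invariant attached to a rational degree-two class and such a norm on graded points attains
its maximum on each rational simplex at a rational point whenever it is positive somewhere on that
simplex; on one rational simplex that invariant is this function, so this is what is asked there.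
The case of a piecewise rational linear norm is not stated here.) -/
theorem result (n : ℕ) (ℓ : Fin n → ℚ)
    (B : Matrix (Fin n) (Fin n) ℚ)
    (hnn : ∀ y : Fin n → ℝ, 0 ≤ y ⬝ᵥ (B.map (fun r : ℚ => (r : ℝ))) *ᵥ y)
    (hpos : ∀ y : Fin n → ℝ, (∀ i, 0 ≤ y i) → y ≠ 0 → 0 < y ⬝ᵥ (B.map (fun r : ℚ => (r : ℝ))) *ᵥ y)
    (hℓ : ∃ y : Fin n → ℝ, (∀ i, 0 ≤ y i) ∧ 0 < (fun i => (ℓ i : ℝ)) ⬝ᵥ y) :
    ∃ x : Fin n → ℚ, (∀ i, 0 ≤ x i) ∧ x ≠ 0 ∧
      ∀ y : Fin n → ℝ, (∀ i, 0 ≤ y i) → y ≠ 0 →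
        (fun i => (ℓ i : ℝ)) ⬝ᵥ y / Real.sqrt (y ⬝ᵥ (B.map (fun r : ℚ => (r : ℝ))) *ᵥ y) ≤
          (fun i => (ℓ i : ℝ)) ⬝ᵥ (fun i => (x i : ℝ)) /
            Real.sqrt ((fun i => (x i : ℝ)) ⬝ᵥ (B.map (fun r : ℚ => (r : ℝ))) *ᵥ (fun i => (x i : ℝ))) := by
  classical
  set L : Fin n → ℝ := fun i => (ℓ i : ℝ) with hL
  set Bm : Matrix (Fin n) (Fin n) ℝ := B.map (fun r : ℚ => (r : ℝ)) with hBm
  let q : (Fin n → ℝ) → ℝ := fun y => y ⬝ᵥ Bm *ᵥ y
  have hq : ∀ y, q y = ∑ i, ∑ j, y i * Bm i j * y j := fun y => by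
    simp [q, dotProduct, Matrix.mulVec, Finset.mul_sum, mul_assoc]
  have hqc : Continuous q := by
    rw [funext hq]
    exact continuous_finsetSum _ fun i _ => continuous_finsetSum _ fun j _ =>
      ((continuous_apply i).mul continuous_const).mul (continuous_apply j)
  have hlc : Continuous fun y : Fin n → ℝ => L ⬝ᵥ y :=
    continuous_finsetSum _ fun j _ => continuous_const.mul (continuous_apply j)
  have hqs : ∀ (a : ℝ) y, q (a • y) = a ^ 2 * q y := fun a y => by
    simp [q, Matrix.mulVec_smul, smul_dotProduct, dotProduct_smul]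
    ring
  let f : (Fin n → ℝ) → ℝ := fun y => L ⬝ᵥ y / Real.sqrt (q y)
  have hfs : ∀ a : ℝ, 0 < a → ∀ y, f (a • y) = f y := fun a ha y => by
    simp only [f, hqs, dotProduct_smul, Real.sqrt_mul (sq_nonneg a), Real.sqrt_sq ha.le, smul_eq_mul]
    rw [mul_div_mul_left _ _ ha.ne']
  have hne : ∀ y ∈ stdSimplex ℝ (Fin n), y ≠ 0 := fun y hy h => by
    have := hy.2; rw [h] at this; simp at this
  have hnorm : ∀ y : Fin n → ℝ, (∀ i, 0 ≤ y i) → y ≠ 0 → ∃ a : ℝ, 0 < a ∧ a • y ∈ stdSimplex ℝ (Fin n) := by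
    intro y hy h0
    obtain ⟨i, hi⟩ := Function.ne_iff.1 h0
    have hs : 0 < ∑ j, y j := Finset.sum_pos' (fun j _ => hy j)
      ⟨i, Finset.mem_univ i, lt_of_le_of_ne (hy i) (Ne.symm hi)⟩
    refine ⟨(∑ j, y j)⁻¹, inv_pos.2 hs, fun j => mul_nonneg (inv_nonneg.2 hs.le) (hy j), ?_⟩
    simp only [Pi.smul_apply, smul_eq_mul, ← Finset.mul_sum]
    exact inv_mul_cancel₀ hs.ne'
  obtain ⟨y₁, hy₁, hy₁pos⟩ := hℓ
  have hy₁0 : y₁ ≠ 0 := fun h => by rw [h, dotProduct_zero] at hy₁pos; exact lt_irrefl _ hy₁pos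
  obtain ⟨a₁, ha₁, hmem₁⟩ := hnorm y₁ hy₁ hy₁0
  obtain ⟨y₀, hy₀, hmax⟩ := (isCompact_stdSimplex ℝ (Fin n)).exists_isMaxOn ⟨_, hmem₁⟩
    (f := f) (hlc.continuousOn.div (Real.continuous_sqrt.comp hqc).continuousOn
      fun y hy => (Real.sqrt_pos.2 (hpos y hy.1 (hne y hy))).ne')
  have hglob : ∀ y, (∀ i, 0 ≤ y i) → y ≠ 0 → f y ≤ f y₀ := fun y hy h0 => by
    obtain ⟨a, ha, hm⟩ := hnorm y hy h0
    rw [← hfs a ha y]; exact hmax hm
  have hm0 : 0 < f y₀ :=
    lt_of_lt_of_le (div_pos hy₁pos (Real.sqrt_pos.2 (hpos y₁ hy₁ hy₁0))) (hglob y₁ hy₁ hy₁0)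
  have hq₀ : 0 < q y₀ := hpos y₀ hy₀.1 (hne y₀ hy₀)
  have hl₀ : 0 < L ⬝ᵥ y₀ := (div_pos_iff_of_pos_right (Real.sqrt_pos.2 hq₀)).1 hm0
  -- normalise so that the linear form and the quadratic form agree
  set a₀ := L ⬝ᵥ y₀ / q y₀ with ha₀
  have ha₀pos : 0 < a₀ := div_pos hl₀ hq₀
  set y := a₀ • y₀ with hy
  set s := L ⬝ᵥ y with hs
  have hqy : q y = s := by
    rw [hs, hy, hqs, dotProduct_smul, smul_eq_mul, ha₀]
    field_simp
  have hspos : 0 < s := by rw [hs, hy, dotProduct_smul, smul_eq_mul]; exact mul_pos ha₀pos hl₀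
  have hynn : ∀ i, 0 ≤ y i := fun i => mul_nonneg ha₀pos.le (hy₀.1 i)
  have hfy : f y₀ = Real.sqrt s := by
    rw [← hfs a₀ ha₀pos y₀]
    show L ⬝ᵥ y / Real.sqrt (q y) = _
    rw [hqy, ← hs, Real.div_sqrt]
  have hsq : ∀ z, (∀ i, 0 ≤ z i) → z ≠ 0 → 0 ≤ L ⬝ᵥ z → (L ⬝ᵥ z) ^ 2 ≤ s * q z := fun z hz hz0 hzl => by
    have hqz := hpos z hz hz0
    have h1 := (div_le_iff₀ (Real.sqrt_pos.2 hqz)).1 (hfy ▸ hglob z hz hz0)
    calc (L ⬝ᵥ z) ^ 2 ≤ (Real.sqrt s * Real.sqrt (q z)) ^ 2 := pow_le_pow_left₀ hzl h1 2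
      _ = s * q z := by rw [mul_pow, Real.sq_sqrt hspos.le, Real.sq_sqrt hqz.le]
  -- first order condition on the support
  have hKKT : ∀ i, 0 < y i → ∑ j, ((B i j + B j i : ℚ) : ℝ) * y j = ((2 * ℓ i : ℚ) : ℝ) := by
    intro i hi
    have hLe : ∀ t : ℝ, L ⬝ᵥ (y + t • Pi.single i 1) = s + t * L i := fun t => by
      rw [dotProduct_add, ← hs, dotProduct_smul t, dotProduct_single, smul_eq_mul, mul_one]
    have hqe : ∀ t : ℝ, q (y + t • Pi.single i 1) =
        s + t * (∑ j, ((B i j + B j i : ℚ) : ℝ) * y j) + t ^ 2 * Bm i i := fun t => by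
      have hadd : (∑ j, ((B i j + B j i : ℚ) : ℝ) * y j) = (Bm *ᵥ y) i + ∑ j, y j * Bm j i := by
        rw [Matrix.mulVec, dotProduct, ← Finset.sum_add_distrib]
        exact Finset.sum_congr rfl fun j _ => by simp [hBm]; ring
      rw [hadd, ← hqy]
      simp only [q, Matrix.mulVec_add, Matrix.mulVec_smul, dotProduct_add, add_dotProduct, smul_dotProduct,
        dotProduct_smul, smul_eq_mul, single_dotProduct, one_mul, Matrix.mulVec_single_one]
      rw [show y ⬝ᵥ Bm.col i = ∑ j, y j * Bm j i from rfl]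
      simp [Matrix.col]
      ring
    set δ := min (y i) (s / (|L i| + 1)) with hδ
    have hD := lin_zero (s * (2 * L i - ∑ j, ((B i j + B j i : ℚ) : ℝ) * y j)) (s * Bm i i - L i ^ 2) δ
      (lt_min hi (by positivity)) fun t ht => by
      have hti : |t| < y i := ht.trans_le (min_le_left _ _)
      have hts : |t| * (|L i| + 1) < s := (lt_div_iff₀ (by positivity)).1 (ht.trans_le (min_le_right _ _))
      have hz : ∀ j, 0 ≤ ((y + t • Pi.single i 1 : Fin n → ℝ)) j := fun j => by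
        rcases eq_or_ne j i with rfl | hj
        · simp; linarith [neg_abs_le t]
        · simp [hj, hynn]
      have hz0 : y + t • Pi.single i 1 ≠ 0 := fun h => by
        have := congrFun h i; simp at this; linarith [neg_abs_le t]
      have hzl : 0 ≤ L ⬝ᵥ (y + t • Pi.single i 1) := by
        rw [hLe]
        nlinarith [neg_abs_le (t * L i), abs_mul t (L i), abs_nonneg t]
      have h1 := hsq _ hz hz0 hzl
      rw [hLe, hqe] at h1
      nlinarith [h1]
    rw [Rat.cast_mul, Rat.cast_ofNat]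
    have := (mul_eq_zero.1 hD).resolve_left hspos.ne'
    linarith
  -- rational point
  obtain ⟨ε, hε, hεy⟩ : ∃ ε > 0, ∀ i, 0 < y i → ε ≤ y i := by
    rcases (Finset.univ.filter fun i => 0 < y i).eq_empty_or_nonempty with he | hne'
    · exact ⟨1, one_pos, fun i hi => absurd (Finset.mem_filter.2 ⟨Finset.mem_univ i, hi⟩) (by rw [he]; simp)⟩
    · obtain ⟨i₀, hi₀, hmin⟩ := Finset.exists_min_image _ y hne'
      exact ⟨y i₀, (Finset.mem_filter.1 hi₀).2, fun i hi => hmin i (Finset.mem_filter.2 ⟨Finset.mem_univ i, hi⟩)⟩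
  obtain ⟨x, hxnear, hxrel⟩ := exists_rat_near y ε hε
  have hxzero : ∀ i, y i = 0 → x i = 0 := fun i hi => by
    simpa [Pi.single_apply] using hxrel (Pi.single i 1) 0 (by simp [Pi.single_apply, apply_ite ((↑) : ℚ → ℝ), hi])
  have hxnn : ∀ i, 0 ≤ x i := fun i => by
    rcases (hynn i).eq_or_lt with h | h
    · rw [hxzero i h.symm]
    · have h1 := abs_lt.1 (hxnear i)
      have h2 : (0 : ℝ) < x i := by linarith [hεy i h]
      exact_mod_cast h2.le
  set X : Fin n → ℝ := fun i => (x i : ℝ) with hX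
  have hxK : ∀ i, 0 < y i → ∑ j, ((B i j + B j i : ℚ) : ℝ) * X j = ((2 * ℓ i : ℚ) : ℝ) := fun i hi => by
    rw [← hxrel (fun j => B i j + B j i) (2 * ℓ i) (hKKT i hi)]
    push_cast
    rfl
  let T : (Fin n → ℝ) → (Fin n → ℝ) → ℝ := fun a b => ∑ i, a i * ∑ j, ((B i j + B j i : ℚ) : ℝ) * b j
  have hT : ∀ a b, (∀ i, y i = 0 → a i = 0) → (∀ i, 0 < y i → ∑ j, ((B i j + B j i : ℚ) : ℝ) * b j = ((2 * ℓ i : ℚ) : ℝ)) →
      T a b = 2 * (L ⬝ᵥ a) := fun a b ha hb => by
    rw [dotProduct, Finset.mul_sum]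
    refine Finset.sum_congr rfl fun i _ => ?_
    rcases (hynn i).eq_or_lt with h | h
    · simp [ha i h.symm]
    · rw [hb i h]; simp [hL]; ring
  have hTsymm : ∀ a b, T a b = T b a := fun a b => by
    simp only [T, Finset.mul_sum]
    rw [Finset.sum_comm]
    exact Finset.sum_congr rfl fun i _ => Finset.sum_congr rfl fun j _ => by push_cast; ring
  have hTq : ∀ a, T a a = 2 * q a := fun a => by
    rw [hq]
    have h1 : ∀ i, a i * ∑ j, ((B i j + B j i : ℚ) : ℝ) * a j =
        ∑ j, a i * Bm i j * a j + ∑ j, a j * Bm j i * a i := fun i => by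
      rw [Finset.mul_sum, ← Finset.sum_add_distrib]
      exact Finset.sum_congr rfl fun j _ => by simp [hBm]; ring
    show ∑ i, a i * _ = _
    simp only [h1, Finset.sum_add_distrib]
    rw [Finset.sum_comm (f := fun i j => a j * Bm j i * a i)]
    ring
  have hxz : ∀ i, y i = 0 → X i = 0 := fun i hi => by simp [hX, hxzero i hi]
  have h1 : L ⬝ᵥ X = s := by
    have e1 := hT X y hxz hKKT
    have e2 := hT y X (fun i hi => hi) hxK
    rw [hTsymm] at e1
    linarith
  have h2 : q X = s := by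
    have e1 := hT X X hxz hxK
    rw [hTq] at e1
    linarith
  refine ⟨x, hxnn, fun h => ?_, fun z hz hz0 => ?_⟩
  · rw [hX, h] at h1
    simp [dotProduct] at h1
    linarith
  · refine (hglob z hz hz0).trans_eq ?_
    rw [hfy]
    show _ = L ⬝ᵥ X / Real.sqrt (q X)
    rw [h1, h2, Real.div_sqrt]

end Groth.Agent.S19138
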