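import Groth.Statements.S1914
import Groth.Agent.KoszTorLib.Basic

set_option autoImplicit false
set_option backward.isDefEq.respectTransparency false
set_option backward.isDefEq.respectTransparency.types false
universe u
open CategoryTheory
attribute [local instance] HasDerivedCategory.standard
open IntMult

namespace Groth.Agent.S1914

/-- Let A be a Noetherian local ring, I = (g₁, …, g_c) an ideal generated by a regular sequence and M a
finite A-module with Supp(M/IM) of dimension ≤ 0. Then c! · length_A(M/I^t M)/t^c tends, as t → ∞,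
to Σ_i (−1)^i length_A Tor_i^A(A/I, M); that is, e_I(M, c) equals this alternating sum. -/
theorem result (A : Type u) [CommRing A] [IsNoetherianRing A] [IsLocalRing A] (c : ℕ) (g : Fin c → A) (hreg : RingTheory.Sequence.IsRegular A (List.ofFn g)) (M : Type u) [AddCommGroup M] [Module A M] [Module.Finite A M] (h0 : Module.supportDim A (M ⧸ (Ideal.span (Set.range g) • (⊤ : Submodule A M))) ≤ 0) : Filter.Tendsto (fun t : ℕ => (c.factorial : ℝ) * ((Module.length A (M ⧸ (Ideal.span (Set.range g) ^ t • (⊤ : Submodule A M)))).toNat : ℝ) / (t : ℝ) ^ c) Filter.atTop (nhds (IntMult.chi A (A ⧸ Ideal.span (Set.range g)) M : ℝ)) := by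
  have hfl : Module.length A (M ⧸ Ideal.span (Set.range g) • (⊤ : Submodule A M)) ≠ ⊤ :=
    CommAlgDim.length_ne_top_of_support fun p hp => by
      by_contra hmax
      have hlt : p.asIdeal < IsLocalRing.maximalIdeal A :=
        lt_of_le_of_ne (IsLocalRing.le_maximalIdeal p.2.ne_top) fun h => hmax (h ▸ inferInstance)
      let q : PrimeSpectrum A := ⟨IsLocalRing.maximalIdeal A, inferInstance⟩
      have hpq : p < q := hlt
      let s : LTSeries (Module.support A (M ⧸ Ideal.span (Set.range g) • (⊤ : Submodule A M))) :=
        (RelSeries.singleton _ ⟨p, hp⟩).snoc ⟨q, Module.mem_support_mono hpq.le hp⟩ (by exact hpq)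
      have h1 := (Order.LTSeries.length_le_krullDim s).trans h0
      have h2 : s.length ≤ 0 := by exact_mod_cast h1
      simp [s] at h2
  obtain ⟨e, he1, he2⟩ := LechLib.exists_limit g hfl
  have h := tendsto_nhds_unique he2 (LechLib.tendsto_chi c g M (Module.length_ne_top_iff.1 hfl))
  have hI := (KoszChiLib.Idl_ofFn g).symm
  rw [hI, KoszTorLib.chi_eq _ (KoszTorLib.koszulRegular_of_regular _ hreg), ← hI]
  have h2 := he1.const_mul (c.factorial : ℝ)
  rw [mul_div_cancel₀ _ (by exact_mod_cast c.factorial_ne_zero), h] at h2
  simp only [mul_div_assoc]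
  exact h2

end Groth.Agent.S1914
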