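import Groth.Statements.S19142
import Groth.Agent.TransporterLib.Smooth
import Groth.Agent.SubDescLib.Main

set_option autoImplicit false
open CategoryTheory MonoidalCategory CartesianMonoidalCategory MonObj GrpObj AlgebraicGeometry
universe u
open SGA3x

namespace Groth.Agent.S19142

/-- Let H be an S-group of multiplicative type (of arbitrary type: no finite-type hypothesis), G an
S-group smooth and affine over S and u : H ⟶ G a homomorphism. Then the centralizer of u in G is
representable by a closed subgroup scheme of G which is smooth over S. -/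
theorem result {S : Scheme.{u}} (H G : Over S) [GrpObj H] [GrpObj G]
    (hH : TwC.Locally S TwC.Topology.fpqc (fun S' g => ∃ (M : Type) (_ : AddCommGroup M), Nonempty (Grp.mk (Red.bc g H) ≅ Grp.mk (Red.DS S' M))))
    (hG : Smooth G.hom) (hGa : IsAffineHom G.hom) (u : H ⟶ G) [IsMonHom u] :
    ∃ (Z : Over S) (_ : GrpObj Z) (j : Z ⟶ G), Red.IsCentralizerOf u j ∧ IsClosedImmersion j.left ∧ Smooth Z.hom := by
  haveI := hG
  haveI := hGa
  have hH' := hH
  obtain ⟨T, j, hj, hfp, hT⟩ := Transporter.exists_transporter hH' u u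
  haveI := hj
  haveI := hfp
  haveI : LocallyOfFinitePresentation T.hom := by
    rw [← Over.w j]
    infer_instance
  haveI : Mono j := Over.mono_of_mono_left j
  have hT' : ∀ (X : Over S) (g : X ⟶ G), (∃ t : X ⟶ T, t ≫ j = g) ↔
      ∀ (X' : Over S) (x : X' ⟶ X) (h : X' ⟶ H), (x ≫ g) * (h ≫ u) = (h ≫ u) * (x ≫ g) := by
    intro X g
    rw [hT X g]
    exact forall₃_congr fun X' x h => mul_inv_eq_iff_eq_mul
  obtain ⟨hgrp, hmon⟩ := SubDesc.exists_grpObj_of_mono j
    (by
      refine (hT' _ _).2 fun X' x h => ?_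
      rw [comp_mul, ← Category.assoc, ← Category.assoc]
      exact Commute.mul_left ((hT' T j).1 ⟨𝟙 _, Category.id_comp _⟩ X' (x ≫ fst T T) h)
        ((hT' T j).1 ⟨𝟙 _, Category.id_comp _⟩ X' (x ≫ snd T T) h))
    (by
      refine (hT' _ _).2 fun X' x h => ?_
      rw [comp_one, _root_.one_mul, _root_.mul_one])
    (by
      refine (hT' _ _).2 fun X' x h => ?_
      rw [GrpObj.comp_inv]
      exact Commute.inv_left ((hT' T j).1 ⟨𝟙 _, Category.id_comp _⟩ X' x h))
  exact ⟨T, hgrp, j, ⟨hmon, inferInstance, hT'⟩, hj, Transporter.smooth_transporter hH' hG u u j hT⟩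

end Groth.Agent.S19142
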