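import Groth.Statements.S19144
import Mathlib
import Groth.Agent.TwStructLib.Generic
import Groth.Agent.S9812
-- import your own Groth.Agent.* helpers here

set_option autoImplicit false
open CategoryTheory MonoidalCategory CartesianMonoidalCategory MonObj GrpObj AlgebraicGeometry
universe u
set_option linter.style.haveILetI false
set_option backward.isDefEq.respectTransparency false
open TwC

namespace Groth.Agent.S19144

open CategoryTheory.Limits

/-- A quasi-isotrivial twisted constant S-scheme X (etale-locally on S isomorphic to a constant scheme)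
is separated and etale over S, and its structure morphism satisfies the valuative criterion of
properness (every valuative square has exactly one lift; X ⟶ S need not be quasi-compact). -/
theorem result {S : Scheme.{u}} (X : Over S)
    (hX : TwC.IsTwConst TwC.Topology.etale X) :
    IsSeparated X.hom ∧ Etale X.hom ∧ ValuativeCriterion X.hom := by
  haveI := Groth.Agent.TwStruct.isSeparated_hom hX
  refine ⟨inferInstance, Groth.Agent.TwStruct.etale_hom hX, ?_⟩
  rw [ValuativeCriterion.iff]
  refine ⟨fun sq => ?_, fun sq => ?_⟩
  swap
  · exact IsSeparated.valuativeCriterion X.hom sq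
  let O := sq.R
  let K := sq.K
  have hu : ∀ p : Spec (CommRingCat.of O), CAlg2.IsGeomUnibranch ((Spec (CommRingCat.of O)).presheaf.stalk p) := by
    intro p
    let e := ((Spec.stalkIso (CommRingCat.of O) p).commRingCatIsoToRingEquiv).symm
    haveI : IsDomain ((Spec (CommRingCat.of O)).presheaf.stalk p) := e.toMulEquiv.symm.isDomain _
    haveI : IsIntegrallyClosed ((Spec (CommRingCat.of O)).presheaf.stalk p) := by
      haveI := isIntegrallyClosed_of_isLocalization (Localization.AtPrime p.asIdeal) p.asIdeal.primeCompl
        p.asIdeal.primeCompl_le_nonZeroDivisors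
      exact IsIntegrallyClosed.of_equiv e
    exact Groth.Agent.S9812.result _
  let i : Spec (CommRingCat.of K) ⟶ Spec (CommRingCat.of O) := Spec.map (CommRingCat.ofHom (algebraMap O K))
  haveI : IsPreimmersion i := IsPreimmersion.of_isLocalization (nonZeroDivisors O)
  have hi : ∀ t, i t = genericPoint (Spec (CommRingCat.of O)) := by
    intro t
    refine ((genericPoint_specializes (i t)).antisymm ?_).eq.symm
    refine (PrimeSpectrum.le_iff_specializes (R := O) _ _).1 ?_
    intro r hr
    have hr0 : algebraMap O K r = 0 := by
      change algebraMap O K r ∈ t.asIdeal at hr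
      rwa [Ideal.eq_bot_of_prime t.asIdeal, Ideal.mem_bot] at hr
    rw [IsFractionRing.injective O K (hr0.trans (map_zero _).symm)]
    exact Ideal.zero_mem _
  obtain ⟨σ, hσ, hiσ⟩ := Groth.Agent.TwStruct.exists_extend hu (Groth.Agent.TwStruct.isTwConst_bc hX sq.i₂) i hi
    (pullback.lift sq.i₁ i sq.commSq.w) (pullback.lift_snd _ _ _)
  refine ⟨⟨{ l := σ ≫ pullback.fst X.hom sq.i₂, fac_left := ?_, fac_right := ?_ }⟩⟩
  · rw [← Category.assoc, hiσ]
    exact pullback.lift_fst _ _ _
  · rw [Category.assoc, pullback.condition, ← Category.assoc]
    exact (congrArg (· ≫ sq.i₂) hσ).trans (Category.id_comp _)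

end Groth.Agent.S19144
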