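import Groth.Statements.S19147
import Groth.Agent.DSImgLib.Local
import Groth.Agent.DSImgLib.Image

set_option autoImplicit false
set_option linter.style.haveILetI false
set_option backward.isDefEq.respectTransparency false
set_option backward.isDefEq.respectTransparency.types false
set_option synthInstance.maxHeartbeats 200000
set_option maxHeartbeats 800000
open CategoryTheory MonoidalCategory CartesianMonoidalCategory MonObj GrpObj AlgebraicGeometry
universe u
open SGA3x

attribute [-instance] CategoryTheory.Hom.commGroup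

namespace Groth.Agent.S19147

/-- Let Γ be a torsion-free commutative group, G an S-group separated and of finite presentation over S,
and f : D_S(Γ) ⟶ G a homomorphism. Then the image of f (the closed subgroup of G through which f
factors by a faithfully flat homomorphism) is a locally trivial subtorus of G: f = f' ≫ j with f'
flat and surjective, j the inclusion of a closed subgroup scheme Q, and Q Zariski-locally on S
isomorphic as a group to D(ℤ^r) for some r (depending on the open). -/
theorem result {S : Scheme.{u}} (Γ : Type) [AddCommGroup Γ] [IsAddTorsionFree Γ]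
    (G : Over S) [GrpObj G] [IsSeparated G.hom] [QuasiCompact G.hom] [LocallyOfFinitePresentation G.hom]
    (f : Red.DS S Γ ⟶ G) [IsMonHom f] :
    ∃ (Q : Over S) (_ : GrpObj Q) (j : Q ⟶ G) (_ : IsMonHom j) (f' : Red.DS S Γ ⟶ Q) (_ : IsMonHom f'),
      IsClosedImmersion j.left ∧ Flat f'.left ∧ Surjective f'.left ∧ f' ≫ j = f ∧
      TwC.Locally S TwC.Topology.zariski (fun S' g => ∃ r : ℕ, Red.IsSplitTorusWith (Fin r → ℤ) (Red.bc g Q)) := by
  choose U hU Λ h hfg hhm hcl hfac using DSImg.exists_local_image f
  choose r e using fun s => DSImg.exists_free_iso (Λ s) (hfg s)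
  let d := fun s => (e s).some
  let φ : ∀ s, (Fin (r s) → ℤ) →+ Γ := fun s => (Λ s).subtype.comp (d s).symm.toAddMonoidHom
  have hφ : ∀ s, Function.Injective (φ s) := fun s => Subtype.val_injective.comp (d s).symm.injective
  have hiso : ∀ s, IsIso (Red.DSmap (U s : Scheme.{u}) (d s).toAddMonoidHom) := fun s =>
    ⟨Red.DSmap (U s : Scheme.{u}) (d s).symm.toAddMonoidHom, by
      rw [DSImg.DSmap_comp]
      refine MultSubLib.chars_injective ?_
      rw [← Category.id_comp (Red.DSmap _ _), DSImg.chars_comp_DSmap]
      refine MonoidHom.ext fun m => ?_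
      exact congrArg (fun x => MultSubLib.chars (𝟙 (Red.DS (U s : Scheme.{u}) (Fin (r s) → ℤ))) (Multiplicative.ofAdd x))
        ((d s).apply_symm_apply m.toAdd), by
      rw [DSImg.DSmap_comp]
      refine MultSubLib.chars_injective ?_
      rw [← Category.id_comp (Red.DSmap _ _), DSImg.chars_comp_DSmap]
      refine MonoidHom.ext fun m => ?_
      exact congrArg (fun x => MultSubLib.chars (𝟙 (Red.DS (U s : Scheme.{u}) (Λ s))) (Multiplicative.ofAdd x))
        ((d s).symm_apply_apply m.toAdd)⟩
  haveI := DSImg.quasiCompact_left f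
  obtain ⟨Q, hQ, j, hj, f', hf', h1, h2, h3, h4, h5⟩ := DSImg.exists_image f (I := S)
    (fun s => (U s).ι) (fun s => inferInstance) (fun s => ⟨s, ⟨s, hU s⟩, rfl⟩)
    (fun s => Grp.mk (Red.DS (U s : Scheme.{u}) (Fin (r s) → ℤ)))
    (fun s => (DSImg.bcDS (U s).ι Γ).hom ≫ Red.DSmap (U s : Scheme.{u}) (φ s))
    (fun s => Red.DSmap (U s : Scheme.{u}) (d s).toAddMonoidHom ≫ h s)
    (fun s => by haveI := hhm s; exact inferInstanceAs (IsMonHom (Red.DSmap (U s : Scheme.{u}) _ ≫ h s)))
    (fun s => by
      haveI := hcl s; haveI := hiso s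
      haveI : IsIso (Red.DSmap (U s : Scheme.{u}) (d s).toAddMonoidHom).left :=
        inferInstanceAs (IsIso ((Over.forget _).map (Red.DSmap (U s : Scheme.{u}) (d s).toAddMonoidHom)))
      rw [Over.comp_left]; infer_instance)
    (fun s => by
      haveI := (DSImg.flat_surjective_DSmap (S := (U s : Scheme.{u})) (hφ s)).1
      haveI : IsIso (DSImg.bcDS (U s).ι Γ).hom.left :=
        inferInstanceAs (IsIso ((Over.forget _).map (DSImg.bcDS (U s).ι Γ).hom))
      rw [Over.comp_left]; infer_instance)
    (fun s => by
      haveI := (DSImg.flat_surjective_DSmap (S := (U s : Scheme.{u})) (hφ s)).2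
      haveI : IsIso (DSImg.bcDS (U s).ι Γ).hom.left :=
        inferInstanceAs (IsIso ((Over.forget _).map (DSImg.bcDS (U s).ι Γ).hom))
      rw [Over.comp_left]; infer_instance)
    (fun s => by
      have e1 : (φ s).comp (d s).toAddMonoidHom = (Λ s).subtype :=
        AddMonoidHom.ext fun m => congrArg Subtype.val ((d s).symm_apply_apply m)
      rw [Category.assoc, ← Category.assoc (Red.DSmap _ (φ s)), DSImg.DSmap_comp, e1, hfac s, DSImg.fT,
        Iso.hom_inv_id_assoc])
  exact ⟨Q, hQ, j, hj, f', hf', h1, h2, h3, h4, fun s => ⟨U s, hU s, r s, h5 s⟩⟩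

end Groth.Agent.S19147
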