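import Mathlib
import Groth.Statements.S19148
-- import your own Groth.Agent.* helpers here

set_option autoImplicit false
open scoped TensorProduct
universe u v
open FiltMod

namespace Groth.Agent.S19148

open PiTensorProduct in
theorem trace_cancel {R : Type u} [CommRing R] {M : Type v} [AddCommGroup M] [Module R M]
    (A : Submodule R M) (a : R)
    (hsq : ∀ (φ : M →ₗ[R] R) (y : A), φ y ∈ Ideal.span (Set.range fun p : ((M →ₗ[R] R) × A) × ((M →ₗ[R] R) × A) => p.1.1 p.1.2 * p.2.1 p.2.2)) :
    ∀ n : ℕ, (∀ (φ : Fin (n+1) → (M →ₗ[R] R)) (y : Fin (n+1) → A), a * ∏ j, φ j (y j) = 0) →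
      ∀ (φ : M →ₗ[R] R) (y : A), a * φ y = 0 := by
  intro n
  induction n with
  | zero => intro h φ y; simpa using h (fun _ => φ) (fun _ => y)
  | succ n ih =>
    intro h
    apply ih
    intro φ y
    rw [Fin.prod_univ_succ]
    have := hsq (φ 0) (y 0)
    generalize (φ 0) ((y 0 : A) : M) = c at this
    induction this using Submodule.span_induction with
    | mem x hx =>
      obtain ⟨⟨⟨f1, y1⟩, f2, y2⟩, rfl⟩ := hx
      have h2 := h (Fin.cons f1 (Fin.cons f2 (fun j => φ j.succ))) (Fin.cons y1 (Fin.cons y2 (fun j => y j.succ)))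
      simp only [Fin.prod_univ_succ, Fin.cons_zero, Fin.cons_succ] at h2
      linear_combination h2
    | zero => simp
    | add x z _ _ hx hz => linear_combination hx + hz
    | smul r x _ hx => rw [smul_eq_mul]; linear_combination r * hx

theorem le_of_range_le {R : Type u} [CommRing R] {M : Type v} [AddCommGroup M] [Module R M]
    [Module.Finite R M] [Module.Projective R M] (A B : Submodule R M)
    (hA : ∃ C : Submodule R M, IsCompl A C) (hB : ∃ C : Submodule R M, IsCompl B C) (k : ℕ) (hk : 1 ≤ k)
    (hle : LinearMap.range (PiTensorProduct.map (R := R) (fun _ : Fin k => A.subtype)) ≤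
      LinearMap.range (PiTensorProduct.map (R := R) (fun _ : Fin k => B.subtype))) : A ≤ B := by
  obtain ⟨CA, hA⟩ := hA
  obtain ⟨CB, hB⟩ := hB
  let p : M →ₗ[R] A := Submodule.projectionOnto A CA hA
  have hp : ∀ x : A, p x = x := fun x => Submodule.projectionOnto_apply_left hA x
  have : Module.Finite R A := Module.Finite.of_surjective p (fun x => ⟨x, hp x⟩)
  have : Module.Projective R A := Module.Projective.of_split A.subtype p (LinearMap.ext hp)
  obtain ⟨n, f, g, -, -, hfg⟩ := Module.Finite.exists_comp_eq_id_of_projective R A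
  have hexp : ∀ (φ : M →ₗ[R] R) (y : A), φ y = ∑ i, (g (p y) i) * φ (f (Pi.single i 1)) := by
    intro φ y
    conv_lhs => rw [show y = f (g y) from (LinearMap.congr_fun hfg y).symm, pi_eq_sum_univ' (g y)]
    simp [map_sum, map_smul, hp]
  let q : M →ₗ[R] CB := Submodule.projectionOnto CB B hB.symm
  have hkill : ∀ (ψ : CB →ₗ[R] R) (z : A) (φ : M →ₗ[R] R) (y : A), 2 ≤ k → ψ (q z) * φ y = 0 := by
    intro ψ z φ y hk2
    obtain ⟨m, rfl⟩ : ∃ m, k = m + 2 := ⟨k - 2, by omega⟩
    refine trace_cancel A (ψ (q z)) (fun φ y => ?_) m (fun φ y => ?_) φ y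
    · rw [hexp φ y]
      refine Submodule.sum_mem _ fun i _ => Submodule.subset_span
        ⟨((LinearMap.proj i ∘ₗ g ∘ₗ p, y), (φ, f (Pi.single i 1))), rfl⟩
    · let G : Fin (m+2) → (M →ₗ[R] R) := Fin.cons (ψ ∘ₗ q) φ
      let L := PiTensorProduct.lift ((MultilinearMap.mkPiAlgebra R (Fin (m+2)) R).compLinearMap G)
      let w : Fin (m+2) → A := Fin.cons z y
      obtain ⟨t, ht⟩ := hle ⟨PiTensorProduct.tprod R w, rfl⟩
      have h0 : L ∘ₗ PiTensorProduct.map (fun _ : Fin (m+2) => B.subtype) = 0 := by
        refine PiTensorProduct.ext (MultilinearMap.ext fun v => ?_)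
        simp only [L, LinearMap.compMultilinearMap_apply, LinearMap.coe_comp, Function.comp_apply, PiTensorProduct.map_tprod, PiTensorProduct.lift.tprod, MultilinearMap.compLinearMap_apply, MultilinearMap.mkPiAlgebra_apply]
        refine Finset.prod_eq_zero (Finset.mem_univ 0) ?_
        simp [G, q]
      have h1 := congrArg L ht
      rw [← LinearMap.comp_apply, h0] at h1
      simp only [L, LinearMap.zero_apply, PiTensorProduct.map_tprod, PiTensorProduct.lift.tprod, MultilinearMap.compLinearMap_apply, MultilinearMap.mkPiAlgebra_apply] at h1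
      rw [Fin.prod_univ_succ] at h1
      simpa [G, w] using h1.symm
  have hq : ∀ z : A, q z = 0 := by
    intro z
    have : Module.Finite R CB := Module.Finite.of_surjective q (fun x => ⟨x, Submodule.projectionOnto_apply_left hB.symm x⟩)
    have : Module.Projective R CB := Module.Projective.of_split CB.subtype q (LinearMap.ext fun x => Submodule.projectionOnto_apply_left hB.symm x)
    refine (Module.forall_dual_apply_eq_zero_iff R (q z)).mp fun ψ => ?_
    obtain rfl | hk2 := eq_or_lt_of_le hk
    · obtain ⟨t, ht⟩ := hle ⟨PiTensorProduct.tprod R (fun _ : Fin 1 => z), rfl⟩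
      let L := PiTensorProduct.lift ((MultilinearMap.mkPiAlgebra R (Fin 1) R).compLinearMap (fun _ => ψ ∘ₗ q))
      have h0 : L ∘ₗ PiTensorProduct.map (fun _ : Fin 1 => B.subtype) = 0 := by
        refine PiTensorProduct.ext (MultilinearMap.ext fun v => ?_)
        simp [L, q]
      have h1 := congrArg L ht
      rw [← LinearMap.comp_apply, h0] at h1
      simpa [L] using h1.symm
    · have h2 := hexp (ψ ∘ₗ q) z
      simp only [LinearMap.comp_apply] at h2
      rw [h2]
      refine Finset.sum_eq_zero fun i _ => ?_
      rw [mul_comm]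
      exact hkill ψ (f (Pi.single i 1)) (LinearMap.proj i ∘ₗ g ∘ₗ p) z hk2
  intro x hx
  exact (Submodule.projectionOnto_apply_eq_zero_iff hB.symm).mp (hq ⟨x, hx⟩)

/-- In affine form, let R be a commutative ring, M a finitely generated projective R-module (a finite
locally free sheaf on Spec R), F₁ and F₂ direct summands of M and k ≥ 1. Then the images of F₁^{⊗k}
and F₂^{⊗k} in the k-th tensor power M^{⊗k} are equal if and only if F₁ = F₂. (The source states
this for local direct factors of a finite locally free sheaf on a scheme; equality of subsheaves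
being local, this is the affine case with global direct summands, to which it reduces.) -/
theorem result {R : Type u} [CommRing R] {M : Type v} [AddCommGroup M] [Module R M]
    [Module.Finite R M] [Module.Projective R M] (F₁ F₂ : Submodule R M)
    (h₁ : ∃ C : Submodule R M, IsCompl F₁ C) (h₂ : ∃ C : Submodule R M, IsCompl F₂ C) (k : ℕ) (hk : 1 ≤ k) :
    LinearMap.range (PiTensorProduct.map (R := R) (fun _ : Fin k => F₁.subtype)) =
      LinearMap.range (PiTensorProduct.map (R := R) (fun _ : Fin k => F₂.subtype)) ↔ F₁ = F₂ := by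
  exact ⟨fun h => le_antisymm (le_of_range_le F₁ F₂ h₁ h₂ k hk h.le) (le_of_range_le F₂ F₁ h₂ h₁ k hk h.ge),
    fun h => by subst h; rfl⟩

end Groth.Agent.S19148
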