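import Groth.Statements.S19149
import Mathlib
import Groth.Agent.UnitSmoothLib.Basic
-- import your own Groth.Agent.* helpers here

set_option autoImplicit false
universe u
open GrpSch

namespace Groth.Agent.S19149

/-- In affine form, let R be a commutative ring, A a smooth R-algebra with an augmentation ε : A → R
(the unit section of G = Spec A over S = Spec R), I = ker ε its augmentation ideal, and J ⊆ I an
ideal (defining a closed subscheme H of G through the unit section) such that (1) J is finitely
generated, (2) J ∩ I² = I·J in A, and (3) I/(J + I²) is a finitely generated projective R-module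
(finite locally free on S). Then H = Spec (A/J) is smooth over S at every point of the unit section:
for every prime P of A/J containing the image of I, the localization (A/J)_P is formally smooth over
R. (The source states this for G an affine smooth group scheme over a scheme S and H a closed
subgroup, concluding that the neutral component H° is a smooth open subgroup scheme; that conclusion
is smoothness of H along the unit section, which is the statement here in affine form; the group
structure is not used.) -/
theorem result (R A : Type u) [CommRing R] [CommRing A] [Algebra R A]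
    [Algebra.Smooth R A] (ε : A →ₐ[R] R) (J : Ideal A) (hJI : J ≤ RingHom.ker ε)
    (h1 : J.FG)
    (h2 : J ⊓ RingHom.ker ε ^ 2 = RingHom.ker ε * J)
    (h3 : Module.Finite R (↥(RingHom.ker ε) ⧸ Submodule.comap (RingHom.ker ε).subtype (J ⊔ RingHom.ker ε ^ 2)) ∧
      Module.Projective R (↥(RingHom.ker ε) ⧸ Submodule.comap (RingHom.ker ε).subtype (J ⊔ RingHom.ker ε ^ 2)))
    (P : Ideal (A ⧸ J)) [P.IsPrime] (hP : (RingHom.ker ε).map (Ideal.Quotient.mk J) ≤ P) :
    Algebra.IsSmoothAt R P := by
  haveI := h3.2
  let P₀ : Ideal A := P.comap (Ideal.Quotient.mk J)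
  haveI : P₀.IsPrime := Ideal.IsPrime.comap _
  let L := Localization.AtPrime P₀
  let S := Localization.AtPrime P
  let ψ : L →+* S := Localization.localRingHom P₀ P (Ideal.Quotient.mk J) rfl
  letI : Algebra L S := ψ.toAlgebra
  have hψ : ∀ a : A, ψ (algebraMap A L a) = algebraMap (A ⧸ J) S (Ideal.Quotient.mk J a) :=
    fun a => Localization.localRingHom_to_map P₀ P _ rfl a
  haveI : IsScalarTower A L S := IsScalarTower.of_algebraMap_eq fun a => (hψ a).symm
  haveI : IsScalarTower R L S := IsScalarTower.of_algebraMap_eq fun r => by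
    rw [IsScalarTower.algebraMap_apply R A L, IsScalarTower.algebraMap_apply R A S,
      IsScalarTower.algebraMap_apply A L S]
  have hsurj : Function.Surjective (algebraMap L S) := by
    intro y
    obtain ⟨b, ⟨c, hc⟩, rfl⟩ := IsLocalization.exists_mk'_eq P.primeCompl y
    obtain ⟨b, rfl⟩ := Ideal.Quotient.mk_surjective b
    obtain ⟨c, rfl⟩ := Ideal.Quotient.mk_surjective c
    exact ⟨IsLocalization.mk' L b (⟨c, hc⟩ : P₀.primeCompl), Localization.localRingHom_mk' P₀ P _ rfl _ _⟩
  have hker : RingHom.ker (algebraMap L S) = J.map (algebraMap A L) := by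
    refine le_antisymm (fun z hz => ?_) (Ideal.map_le_iff_le_comap.mpr fun a ha => ?_)
    · obtain ⟨a, ⟨c, hc⟩, rfl⟩ := IsLocalization.exists_mk'_eq P₀.primeCompl z
      have hz' : IsLocalization.mk' S (Ideal.Quotient.mk J a) (⟨Ideal.Quotient.mk J c, hc⟩ : P.primeCompl) = 0 :=
        (Localization.localRingHom_mk' P₀ P (Ideal.Quotient.mk J) rfl a ⟨c, hc⟩).symm.trans hz
      obtain ⟨⟨m, hm⟩, hmb⟩ := (IsLocalization.mk'_eq_zero_iff _ _).mp hz'
      obtain ⟨m, rfl⟩ := Ideal.Quotient.mk_surjective m
      rw [IsLocalization.mk'_eq_mul_mk'_one]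
      refine Ideal.mul_mem_right _ _ ?_
      have hu : IsUnit (algebraMap A L m) := IsLocalization.map_units L (⟨m, hm⟩ : P₀.primeCompl)
      rw [← Ideal.unit_mul_mem_iff_mem _ hu, ← map_mul]
      exact Ideal.mem_map_of_mem _ (Ideal.Quotient.eq_zero_iff_mem.mp (by rw [map_mul]; exact hmb))
    · rw [Ideal.mem_comap, RingHom.mem_ker]
      change ψ (algebraMap A L a) = 0
      rw [hψ, Ideal.Quotient.eq_zero_iff_mem.mpr ha, map_zero]
  exact UnitSmoothLib.formallySmooth_local ε J hJI h1 h2 P₀ L S hsurj hker (fun a ha =>
    (IsLocalization.AtPrime.to_map_mem_maximal_iff S P (Ideal.Quotient.mk J a)).mpr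
      (hP (Ideal.mem_map_of_mem _ ha)))

end Groth.Agent.S19149
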