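import Groth.Statements.S19158
import Mathlib

set_option autoImplicit false
universe u v w
open FiltMod

namespace Groth.Agent.S19158

section
variable {Γ : Type w} [LinearOrder Γ] {R : Type u} [CommRing R] {A : Type v}

theorem mem_pi_iff {M : A → Type v} [∀ a, AddCommGroup (M a)] [∀ a, Module R (M a)]
    {S : ∀ a, Submodule R (M a)} {x : ∀ a, M a} : x ∈ Submodule.pi Set.univ S ↔ ∀ a, x a ∈ S a := by
  simp [Submodule.mem_pi]

theorem single_mem_pi [DecidableEq A] {M : A → Type v} [∀ a, AddCommGroup (M a)] [∀ a, Module R (M a)]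
    {S : ∀ a, Submodule R (M a)} (a : A) {v : M a} (hv : v ∈ S a) : Pi.single a v ∈ Submodule.pi Set.univ S := by
  refine mem_pi_iff.2 fun b => ?_
  rcases eq_or_ne b a with rfl | hb
  · rwa [Pi.single_eq_same]
  · rw [Pi.single_eq_of_ne hb]; exact zero_mem _

theorem pi_iSup [Fintype A] [DecidableEq A] {M : A → Type v} [∀ a, AddCommGroup (M a)] [∀ a, Module R (M a)]
    {ι : Type*} (S : ι → ∀ a, Submodule R (M a)) :
    Submodule.pi Set.univ (fun a => ⨆ i, S i a) = ⨆ i, Submodule.pi Set.univ (S i) := by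
  refine le_antisymm (fun x hx => ?_) (iSup_le fun i x hx => mem_pi_iff.2 fun a =>
    Submodule.mem_iSup_of_mem i (mem_pi_iff.1 hx a))
  rw [← Finset.univ_sum_single x]
  refine sum_mem fun a _ => ?_
  have : Submodule.map (LinearMap.single R M a) (⨆ i, S i a) ≤ ⨆ i, Submodule.pi Set.univ (S i) := by
    rw [Submodule.map_iSup]
    exact iSup_mono fun i => by rintro _ ⟨v, hv, rfl⟩; exact single_mem_pi a hv
  exact this ⟨x a, mem_pi_iff.1 hx a, rfl⟩

variable {M : Type v} [AddCommGroup M] [Module R M] [Module.Finite R M]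

theorem exists_support (G : Γ → Submodule R M) (hi : iSupIndep G) (ht : iSup G = ⊤) :
    ∃ J : Finset Γ, ∀ η, η ∉ J → G η = ⊥ := by
  classical
  obtain ⟨J, hJ⟩ := CompleteLattice.IsCompactElement.exists_finset_of_le_iSup (Submodule R M)
    ((Submodule.fg_iff_compact _).1 Module.Finite.fg_top) G ht.ge
  refine ⟨J, fun η hη => eq_bot_iff.2 fun x hx => ?_⟩
  have h2 : (⨆ i ∈ J, G i) ≤ ⨆ i ≠ η, G i :=
    iSup₂_le fun i hiJ => le_iSup₂_of_le i (fun e => hη (e ▸ hiJ)) le_rfl
  exact (hi η).le_bot ⟨hx, h2 (hJ trivial)⟩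

end

theorem split_factor {Γ : Type w} [LinearOrder Γ] {R : Type u} [CommRing R] {A : Type v} [Fintype A] [DecidableEq A]
    (M : A → Type v) [∀ a, AddCommGroup (M a)] [∀ a, Module R (M a)] [∀ a, Module.Finite R (M a)]
    (F : ∀ a, Γ → Submodule R (M a)) (G : Γ → Submodule R (∀ a, M a)) (hi : iSupIndep G) (ht : iSup G = ⊤)
    (hG : ∀ γ, Submodule.pi Set.univ (fun a => F a γ) = ⨆ η ∈ Set.Ici γ, G η) (a : A) :
    ∃ H : Γ → Submodule R (M a), iSupIndep H ∧ iSup H = ⊤ ∧ ∀ γ, F a γ = ⨆ η ∈ Set.Ici γ, H η := by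
  obtain ⟨J, hJ⟩ := exists_support G hi ht
  let P : Γ → Submodule R (∀ a, M a) := fun γ => Submodule.pi Set.univ (fun a => F a γ)
  let Fgt : Γ → Submodule R (∀ a, M a) := fun η => ⨆ θ ∈ Set.Ioi η, G θ
  have hGP : ∀ {η θ}, θ ≤ η → G η ≤ P θ := fun {η θ} h => (le_iSup₂_of_le η h le_rfl).trans (hG θ).ge
  have hFgt : ∀ η, Fgt η = ⊥ ∨ ∃ θ, η < θ ∧ Fgt η = P θ := fun η => by
    by_cases hne : (J.filter (η < ·)).Nonempty
    · have hθ := (Finset.mem_filter.1 (Finset.min'_mem _ hne)).2
      refine Or.inr ⟨_, hθ, le_antisymm (iSup₂_le fun θ hθ' => ?_) ((hG _).trans_le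
        (biSup_mono fun θ h => lt_of_lt_of_le hθ h))⟩
      by_cases hJθ : θ ∈ J
      · exact hGP (Finset.min'_le _ _ (Finset.mem_filter.2 ⟨hJθ, hθ'⟩))
      · exact (hJ θ hJθ).le.trans bot_le
    · refine Or.inl (eq_bot_iff.2 (iSup₂_le fun θ hθ' => (hJ θ fun h => hne ⟨θ, Finset.mem_filter.2 ⟨h, hθ'⟩⟩).le))
  let H : Γ → Submodule R (M a) := fun η =>
    Submodule.map (LinearMap.proj a) (G η ⊓ (Submodule.map (LinearMap.single R M a) (F a η) ⊔ Fgt η))
  have hHF : ∀ {η γ}, γ ≤ η → H η ≤ F a γ := fun {η γ} h => by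
    rintro _ ⟨g, hg, rfl⟩
    exact mem_pi_iff.1 (hGP h hg.1) a
  have hspan : ∀ (n : ℕ) (γ : Γ), (J.filter (γ ≤ ·)).card ≤ n → F a γ ≤ ⨆ η ∈ Set.Ici γ, H η := by
    intro n
    induction n with
    | zero =>
      intro γ hn v hv
      have h0 : P γ ≤ ⊥ := (hG γ).trans_le (iSup₂_le fun η hη => (hJ η fun h => by
        have hmem : η ∈ J.filter (γ ≤ ·) := Finset.mem_filter.2 ⟨h, hη⟩
        simp [Finset.card_eq_zero.1 (Nat.le_zero.1 hn)] at hmem).le)
      have : Pi.single a v = (0 : ∀ a, M a) := h0 (single_mem_pi a hv)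
      rw [show v = 0 by simpa using congrFun this a]
      exact zero_mem _
    | succ n ih =>
      intro γ hn v hv
      by_cases hne : (J.filter (γ ≤ ·)).Nonempty
      · set η₀ := (J.filter (γ ≤ ·)).min' hne with hη₀
        have hγη : γ ≤ η₀ := (Finset.mem_filter.1 (Finset.min'_mem _ hne)).2
        have hsub : P γ ≤ G η₀ ⊔ Fgt η₀ := by
          refine (hG γ).trans_le (iSup₂_le fun η hη => ?_)
          by_cases hJη : η ∈ J
          · rcases (Finset.min'_le _ _ (Finset.mem_filter.2 ⟨hJη, hη⟩) : η₀ ≤ η).eq_or_lt with h | h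
            · exact h ▸ le_sup_left
            · exact le_sup_of_le_right (le_iSup₂_of_le η h le_rfl)
          · exact (hJ η hJη).le.trans bot_le
        have hPeq : P γ ≤ P η₀ := by
          refine (hG γ).trans_le (iSup₂_le fun η hη => ?_)
          by_cases hJη : η ∈ J
          · exact hGP (Finset.min'_le _ _ (Finset.mem_filter.2 ⟨hJη, hη⟩))
          · exact (hJ η hJη).le.trans bot_le
        obtain ⟨g, hg, r, hr, hgr⟩ := Submodule.mem_sup.1 (hsub (single_mem_pi a hv))
        have hv0 : v ∈ F a η₀ := by simpa using mem_pi_iff.1 (hPeq (single_mem_pi a hv)) a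
        have hgH : g a ∈ H η₀ := ⟨g, ⟨hg, by
          rw [eq_sub_of_add_eq hgr]
          exact sub_mem (Submodule.mem_sup_left ⟨v, hv0, rfl⟩) (Submodule.mem_sup_right hr)⟩, rfl⟩
        have hsum : v = g a + r a := by
          have := congrFun hgr a
          simpa using this.symm
        rw [hsum]
        refine add_mem (le_iSup₂ (f := fun η _ => H η) η₀ hγη hgH) ?_
        rcases hFgt η₀ with h | ⟨θ, hθ, h⟩
        · rw [h, Submodule.mem_bot] at hr
          rw [hr]; exact zero_mem _
        · have hra : r a ∈ F a θ := mem_pi_iff.1 (h ▸ hr) a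
          refine SetLike.le_def.1 (biSup_mono (f := H) fun η hη => hγη.trans (hθ.le.trans hη)) (ih θ ?_ hra)
          have hlt : (J.filter (θ ≤ ·)).card < (J.filter (γ ≤ ·)).card := by
            refine Finset.card_lt_card ⟨fun x hx => ?_, fun hss => ?_⟩
            · rw [Finset.mem_filter] at hx ⊢
              exact ⟨hx.1, hγη.trans (hθ.le.trans hx.2)⟩
            · exact (not_le.2 hθ) (Finset.mem_filter.1 (hss (Finset.min'_mem _ hne))).2
          omega
      · refine ih γ ?_ hv
        rw [Finset.not_nonempty_iff_eq_empty.1 hne]; simp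
  refine ⟨H, ?_, ?_, fun γ => le_antisymm (hspan _ γ le_rfl) (iSup₂_le fun η hη => hHF hη)⟩
  · rw [iSupIndep_iff_finsetSum_eq_zero_imp_eq_zero]
    intro s
    induction s using Finset.induction_on_min with
    | empty => simp
    | insert η₀ s hlt ih =>
      intro y hy hsum
      have hnot : η₀ ∉ s := fun h => lt_irrefl _ (hlt _ h)
      rw [Finset.sum_insert hnot] at hsum
      obtain ⟨g, ⟨hg, hg'⟩, hgy⟩ := hy η₀ (Finset.mem_insert_self _ _)
      obtain ⟨_, ⟨w, hw, rfl⟩, r, hr, hgr⟩ := Submodule.mem_sup.1 hg'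
      have hothers : ∀ η ∈ s, y η ∈ Submodule.map (LinearMap.proj a) (Fgt η₀) := fun η hη => by
        obtain ⟨g', ⟨hg1, -⟩, e⟩ := hy η (Finset.mem_insert_of_mem hη)
        exact ⟨g', le_iSup₂ (f := fun θ _ => G θ) η (hlt η hη) hg1, e⟩
      have hy0 : y η₀ ∈ Submodule.map (LinearMap.proj a) (Fgt η₀) := by
        rw [eq_neg_of_add_eq_zero_left hsum]
        exact neg_mem (sum_mem hothers)
      have hwmem : w ∈ Submodule.map (LinearMap.proj a) (Fgt η₀) := by
        have : w = y η₀ - r a := by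
          rw [← hgy, ← hgr]
          simp
        rw [this]
        exact sub_mem hy0 ⟨r, hr, rfl⟩
      have hgF : g ∈ Fgt η₀ := by
        rw [← hgr]
        refine add_mem ?_ hr
        obtain ⟨z, hz, rfl⟩ := hwmem
        rcases hFgt η₀ with h | ⟨θ, -, h⟩
        · rw [h, SetLike.mem_coe, Submodule.mem_bot] at hz
          simp [hz]
        · rw [h, SetLike.mem_coe] at hz
          rw [h]
          exact single_mem_pi a (mem_pi_iff.1 hz a)
      have hg0 : g = 0 := by
        have hle : Fgt η₀ ≤ ⨆ θ ≠ η₀, G θ := biSup_mono fun θ (hθ : η₀ < θ) => hθ.ne'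
        exact (Submodule.mem_bot R).1 ((hi η₀).le_bot ⟨hg, hle hgF⟩)
      have hy00 : y η₀ = 0 := by rw [← hgy, hg0, map_zero]
      intro η hη
      rcases Finset.mem_insert.1 hη with rfl | hη
      · exact hy00
      · exact ih y (fun i hi => hy i (Finset.mem_insert_of_mem hi)) (by rwa [hy00, zero_add] at hsum) η hη
  · refine eq_top_iff.2 fun v _ => ?_
    by_cases hne : J.Nonempty
    · have h1 : (⊤ : Submodule R (∀ a, M a)) ≤ P (J.min' hne) := by
        rw [← ht]
        refine iSup_le fun η => ?_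
        by_cases hJη : η ∈ J
        · exact hGP (Finset.min'_le _ _ hJη)
        · exact (hJ η hJη).le.trans bot_le
      have hv : v ∈ F a (J.min' hne) := by
        simpa using mem_pi_iff.1 (h1 (Submodule.mem_top : Pi.single a v ∈ ⊤)) a
      exact (iSup₂_le fun η _ => le_iSup H η : (⨆ η ∈ Set.Ici (J.min' hne), H η) ≤ _) (hspan _ _ le_rfl hv)
    · have h0 : (⊤ : Submodule R (∀ a, M a)) ≤ ⊥ :=
        ht.ge.trans (iSup_le fun η => (hJ η fun h => hne ⟨η, h⟩).le)
      have : Pi.single a v = (0 : ∀ a, M a) := h0 Submodule.mem_top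
      rw [show v = 0 by simpa using congrFun this a]
      exact zero_mem _


/-- In affine form, let Γ be a non-trivial totally ordered commutative group, R a commutative ring and
(M_a) a finite family of finitely generated projective R-modules, each carrying a non-increasing
Γ-indexed family of submodules F_a; give M = Π_a M_a the family F^γ = Π_a F_a^γ. Then F is split by
a Γ-grading of M (an internal direct sum decomposition M = ⊕_γ G_γ with F^γ = Σ_{η ≥ γ} G_η for all
γ) if and only if each F_a is split by a Γ-grading of M_a. (The published statement is for finite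
locally free sheaves on a scheme, where a filtration counts as split when it is split by a grading
locally on the scheme; this row is the affine case, in which that is the same as being split by one
global grading.) -/
theorem result
    {Γ : Type w} [AddCommGroup Γ] [LinearOrder Γ] [IsOrderedAddMonoid Γ] [Nontrivial Γ]
    {R : Type u} [CommRing R] {A : Type v} [Fintype A] (M : A → Type v) [∀ a, AddCommGroup (M a)] [∀ a, Module R (M a)]
    [∀ a, Module.Finite R (M a)] [∀ a, Module.Projective R (M a)]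
    (F : ∀ a, Γ → Submodule R (M a)) (hF : ∀ a, Antitone (F a)) :
    (∃ G : Γ → Submodule R (∀ a, M a), DirectSum.IsInternal G ∧
        ∀ γ, Submodule.pi Set.univ (fun a => F a γ) = ⨆ η ∈ Set.Ici γ, G η) ↔
    ∀ a, ∃ G : Γ → Submodule R (M a), DirectSum.IsInternal G ∧ ∀ γ, F a γ = ⨆ η ∈ Set.Ici γ, G η := by
  classical
  simp only [DirectSum.isInternal_submodule_iff_iSupIndep_and_iSup_eq_top]
  constructor
  · rintro ⟨G, ⟨hi, ht⟩, hG⟩ a
    obtain ⟨H, h1, h2, h3⟩ := split_factor M F G hi ht hG a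
    exact ⟨H, ⟨h1, h2⟩, h3⟩
  · intro h
    choose G hG hFG using h
    refine ⟨fun η => Submodule.pi Set.univ (fun a => G a η), ⟨?_, ?_⟩, fun γ => ?_⟩
    · intro η
      rw [Submodule.disjoint_def]
      intro x hx hx'
      refine funext fun a => ?_
      have : (⨆ θ, ⨆ _ : θ ≠ η, Submodule.pi Set.univ (fun b => G b θ)) ≤
          Submodule.comap (LinearMap.proj a) (⨆ θ, ⨆ _ : θ ≠ η, G a θ) :=
        iSup₂_le fun θ hθ y hy => le_iSup₂ (f := fun θ _ => G a θ) θ hθ (mem_pi_iff.1 hy a)
      exact (Submodule.mem_bot R).1 (((hG a).1 η).le_bot ⟨mem_pi_iff.1 hx a, this hx'⟩)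
    · rw [← pi_iSup (fun η a => G a η)]
      refine eq_top_iff.2 fun x _ => mem_pi_iff.2 fun a => ?_
      rw [(hG a).2]; trivial
    · rw [iSup_subtype', ← pi_iSup (fun (η : {η // η ∈ Set.Ici γ}) a => G a η.1)]
      simp_rw [hFG, iSup_subtype']
end Groth.Agent.S19158
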