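import Groth.Statements.S19159
import Groth.Agent.DSImgLib.Main

set_option autoImplicit false
set_option linter.style.haveILetI false
set_option backward.isDefEq.respectTransparency false
set_option maxHeartbeats 800000
open CategoryTheory MonoidalCategory CartesianMonoidalCategory MonObj GrpObj AlgebraicGeometry
universe u
open SGA3x

attribute [-instance] CategoryTheory.Hom.commGroup

namespace Groth.Agent.S19159

/-- Let Γ be a commutative group, G an S-group separated and of finite presentation over S, and f :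
D_S(Γ) ⟶ G a homomorphism. Then S is covered by open and closed subsets U on each of which there is
a finitely generated subgroup Λ ⊆ Γ (Λ is then the group of those γ ∈ Γ which, as characters of
D(Γ), are trivial on the kernel of the fibre homomorphism f_{s'}, one and the same group for every
point s' of U) such that f|_U factors as the canonical map D_U(Γ) ⟶ D_U(Λ) (restriction of
characters, faithfully flat with kernel D_U(Γ/Λ)) followed by a homomorphism D_U(Λ) ⟶ G_U which is a
closed immersion: over U, ker f = D(Γ/Λ) and im f ≅ D(Λ). -/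
theorem result {S : Scheme.{u}} (Γ : Type) [AddCommGroup Γ]
    (G : Over S) [GrpObj G] [IsSeparated G.hom] [QuasiCompact G.hom] [LocallyOfFinitePresentation G.hom]
    (f : Red.DS S Γ ⟶ G) [IsMonHom f] (s : S) :
    ∃ U : S.Opens, s ∈ U ∧ IsClosed (U : Set S) ∧ ∃ Λ : AddSubgroup Γ, Λ.FG ∧
      ∃ j : Red.bc U.ι (Red.DS S Λ) ⟶ Red.bc U.ι G, IsMonHom j ∧ IsClosedImmersion j.left ∧
        (Over.pullback U.ι).map f = (Over.pullback U.ι).map (Red.DSmap S Λ.subtype) ≫ j := by
  obtain ⟨U, hs, hU, Λ, hΛ, hker⟩ := DSImg.exists_clopen_kerSub f s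
  haveI : IsSeparated (Red.bc U.ι G).hom := inferInstanceAs (IsSeparated (Limits.pullback.snd G.hom U.ι))
  haveI : QuasiCompact (Red.bc U.ι G).hom := inferInstanceAs (QuasiCompact (Limits.pullback.snd G.hom U.ι))
  haveI : LocallyOfFinitePresentation (Red.bc U.ι G).hom :=
    inferInstanceAs (LocallyOfFinitePresentation (Limits.pullback.snd G.hom U.ι))
  have hker' : DSImg.KerSub ((Over.map U.ι).obj (Over.mk (𝟙 (U : Scheme.{u})))) f Λ :=
    hker.of_hom (Over.homMk (𝟙 _) (by simp))
  obtain ⟨h, hh, hmono, hfac⟩ := DSImg.exists_factor (DSImg.fT U.ι f) (DSImg.KerSub.bc U.ι hker')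
  haveI : AddGroup.FG Λ := (AddGroup.fg_iff_addSubgroup_fg Λ).2 hΛ
  haveI : LocallyOfFiniteType (Red.bc U.ι G).hom := inferInstance
  haveI := hh
  haveI := hmono
  haveI := MonoCI.isClosedImmersion_of_mono_DS h
  refine ⟨U, hs, hU, Λ, hΛ, (DSImg.bcDS U.ι Λ).hom ≫ h, inferInstance, ?_, ?_⟩
  · rw [Over.comp_left]
    infer_instance
  · rw [← Category.assoc, DSImg.bcDS_natural, Category.assoc, hfac, DSImg.fT, Iso.hom_inv_id_assoc]

end Groth.Agent.S19159
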