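import Groth.Statements.S19169
import Mathlib.Topology.Separation.Profinite
import Mathlib.Topology.Algebra.OpenSubgroup
import Mathlib.Topology.Algebra.Group.Quotient
import Mathlib.GroupTheory.FiniteAbelian.Basic
import Mathlib.RingTheory.Noetherian.Basic
import Mathlib.GroupTheory.Index
-- import your own Groth.Agent.* helpers here

set_option autoImplicit false
universe u
open ProCompl

namespace Groth.Agent.S19169

/-- Let B be a Hausdorff, locally compact, totally disconnected topological abelian group which is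
compactly generated, i.e. generated as a group by a compact subset. Then the open subgroups of
finite index of B have trivial intersection: every nonzero b lies outside some open subgroup of
finite index. Equivalently, the natural map from B to its completion with respect to open subgroups
of finite index is injective. -/
theorem result
    {B : Type u} [AddCommGroup B] [TopologicalSpace B] [IsTopologicalAddGroup B]
    [T2Space B] [LocallyCompactSpace B] [TotallyDisconnectedSpace B]
    (hcg : ∃ K : Set B, IsCompact K ∧ AddSubgroup.closure K = ⊤) (b : B) (hb : b ≠ 0) :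
    ∃ B' : AddSubgroup B, IsOpen (B' : Set B) ∧ B'.FiniteIndex ∧ b ∉ B' := by
  classical
  obtain ⟨W, hW, hW0, hWb⟩ : ∃ W : Set B, (IsCompact W ∧ IsOpen W) ∧ (0 : B) ∈ W ∧ b ∉ W := by
    obtain ⟨s, hs, h0s, -⟩ := exists_compact_subset (U := (Set.univ : Set B)) isOpen_univ (Set.mem_univ (0 : B))
    obtain ⟨W, hW, hW0, hWU⟩ := (loc_compact_Haus_tot_disc_of_zero_dim (H := B)).exists_subset_of_mem_open
      (a := (0 : B)) (u := interior s ∩ {b}ᶜ) ⟨h0s, fun h => hb h.symm⟩ (isOpen_interior.inter isOpen_compl_singleton)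
    exact ⟨W, ⟨hs.of_isClosed_subset hW.1 (fun x hx => interior_subset (hWU hx).1), hW.2⟩, hW0, fun h => (hWU h).2 rfl⟩
  obtain ⟨V, hV, hVW⟩ := compact_open_separated_add_right hW.1 hW.2 subset_rfl
  let H : AddSubgroup B := AddSubgroup.closure (V ∩ -V)
  have hHW : ∀ x ∈ H, ∀ w ∈ W, w + x ∈ W ∧ w + -x ∈ W := fun x hx => by
    induction hx using AddSubgroup.closure_induction with
    | mem x hx => exact fun w hw => ⟨hVW (Set.add_mem_add hw hx.1), hVW (Set.add_mem_add hw hx.2)⟩
    | zero => exact fun w hw => by simp [hw]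
    | add x y _ _ ihx ihy => exact fun w hw => ⟨by rw [← add_assoc]; exact (ihy _ (ihx w hw).1).1,
        by rw [neg_add, ← add_assoc]; exact (ihy _ (ihx w hw).2).2⟩
    | neg x _ ih => exact fun w hw => ⟨(ih w hw).2, by rw [neg_neg]; exact (ih w hw).1⟩
  have hHopen : IsOpen (H : Set B) := H.isOpen_of_mem_nhds (g := 0)
    (Filter.mem_of_superset (Filter.inter_mem hV (neg_mem_nhds_zero B hV)) AddSubgroup.subset_closure)
  have hbH : b ∉ H := fun h => hWb (by simpa using (hHW b h 0 hW0).1)
  let q := QuotientAddGroup.mk' H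
  haveI : DiscreteTopology (B ⧸ H) := QuotientAddGroup.discreteTopology hHopen
  obtain ⟨K, hK, hKgen⟩ := hcg
  haveI : AddGroup.FG (B ⧸ H) := AddGroup.fg_iff.mpr ⟨q '' K, by
    rw [← AddMonoidHom.map_closure, hKgen, ← AddMonoidHom.range_eq_map]
    exact QuotientAddGroup.range_mk' H, (hK.image QuotientAddGroup.continuous_mk).finite_of_discrete⟩
  haveI : Module.Finite ℤ (B ⧸ H) := Module.Finite.iff_addGroup_fg.mpr inferInstance
  obtain ⟨N, hN, hmax⟩ := set_has_maximal_iff_noetherian.mpr (inferInstanceAs (IsNoetherian ℤ (B ⧸ H)))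
    {N : Submodule ℤ (B ⧸ H) | q b ∉ N} ⟨⊥, by simpa [q] using hbH⟩
  have hle : ∀ x, x ∉ N → q b ∈ N ⊔ Submodule.span ℤ {x} := fun x hx => by
    by_contra h
    exact hmax _ h (lt_of_le_of_ne le_sup_left fun e => hx (e ▸ Submodule.mem_sup_right (Submodule.mem_span_singleton_self x)))
  obtain ⟨t, ht0, ht⟩ : ∃ t : ℤ, t ≠ 0 ∧ t • q b ∈ N := by
    by_cases h2 : (2 : ℤ) • q b ∈ N
    · exact ⟨2, two_ne_zero, h2⟩
    obtain ⟨n, hn, z, hz, hnz⟩ := Submodule.mem_sup.mp (hle _ h2)
    obtain ⟨m, rfl⟩ := Submodule.mem_span_singleton.mp hz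
    refine ⟨1 - m * 2, by omega, ?_⟩
    rw [sub_smul, one_smul, ← smul_smul]
    exact (eq_sub_of_add_eq hnz) ▸ hn
  haveI : Finite ((B ⧸ H) ⧸ N) := by
    haveI : Module.Finite ℤ ((B ⧸ H) ⧸ N) := Module.Finite.of_surjective N.mkQ N.mkQ_surjective
    refine Module.finite_of_fg_torsion _ fun y => ?_
    obtain ⟨x, rfl⟩ := N.mkQ_surjective y
    by_cases hx : x ∈ N
    · exact ⟨⟨1, one_mem _⟩, by simpa [Submodule.Quotient.mk_eq_zero] using hx⟩
    obtain ⟨n, hn, z, hz, hnz⟩ := Submodule.mem_sup.mp (hle x hx)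
    obtain ⟨m, rfl⟩ := Submodule.mem_span_singleton.mp hz
    have hm : t * m ≠ 0 := mul_ne_zero ht0 fun h => hN (by rw [h, zero_smul, add_zero] at hnz; exact hnz ▸ hn)
    refine ⟨⟨t * m, mem_nonZeroDivisors_of_ne_zero hm⟩, ?_⟩
    show (t * m) • N.mkQ x = 0
    rw [← map_smul, Submodule.mkQ_apply, Submodule.Quotient.mk_eq_zero]
    have := N.sub_mem ht (N.smul_mem t hn)
    rw [← smul_sub, sub_eq_of_eq_add' hnz.symm, smul_smul] at this
    exact this
  refine ⟨N.toAddSubgroup.comap q, ?_, ⟨?_⟩, hN⟩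
  · exact (isOpen_discrete (N : Set (B ⧸ H))).preimage QuotientAddGroup.continuous_mk
  · rw [AddSubgroup.index_comap_of_surjective _ (QuotientAddGroup.mk'_surjective H)]
    haveI : Finite ((B ⧸ H) ⧸ N.toAddSubgroup) := inferInstanceAs (Finite ((B ⧸ H) ⧸ N))
    exact N.toAddSubgroup.finiteIndex_of_finite_quotient.index_ne_zero

end Groth.Agent.S19169
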