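import Groth.Statements.S19171
import Mathlib
import Groth.Agent.FIComplLib.Basic
-- import your own Groth.Agent.* helpers here

set_option autoImplicit false
universe u v
open ProCompl

namespace Groth.Agent.S19171
open Groth.Agent.FIComplLib W4c61motalbduality

open Topology in
/-- Let B be a Hausdorff, locally compact, totally disconnected topological abelian group generated as a
group by a compact subset, and let i : A → B be an injective continuous homomorphism inducing the
topology of A from that of B (a strict injection) whose image is closed. Then every character χ : A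
→ ℚ/ℤ with open kernel extends along i to a character ψ : B → ℚ/ℤ with open kernel; with ℚ/ℤ
discrete this says that restriction B^D → A^D of continuous characters is surjective, i.e. the dual
of a topological exact sequence 0 → A → B → C → 0 with such B, strict closed i and open p is a short
exact sequence 0 → C^D → B^D → A^D → 0. -/
theorem result
    {A : Type u} {B : Type v} [AddCommGroup A] [TopologicalSpace A] [IsTopologicalAddGroup A]
    [AddCommGroup B] [TopologicalSpace B] [IsTopologicalAddGroup B]
    [T2Space B] [LocallyCompactSpace B] [TotallyDisconnectedSpace B]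
    (hcg : ∃ K : Set B, IsCompact K ∧ AddSubgroup.closure K = ⊤)
    (i : A →+ B) (hi : Continuous i) (hinj : Function.Injective i) (hind : IsInducing i)
    (hcl : IsClosed (Set.range i))
    (χ : A →+ ℚ ⧸ AddSubgroup.zmultiples (1 : ℚ)) (hχ : IsOpen (χ.ker : Set A)) :
    ∃ ψ : B →+ ℚ ⧸ AddSubgroup.zmultiples (1 : ℚ), IsOpen (ψ.ker : Set B) ∧ ψ.comp i = χ := by
  obtain ⟨V, hV⟩ := exists_comap_le i hind χ.ker hχ
  let j : A ⧸ (V : AddSubgroup B).comap i →+ B ⧸ (V : AddSubgroup B) :=
    QuotientAddGroup.map _ _ i le_rfl
  have hj : Function.Injective j := by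
    rw [injective_iff_map_eq_zero]
    intro q
    obtain ⟨a, rfl⟩ := QuotientAddGroup.mk_surjective q
    intro ha
    exact (QuotientAddGroup.eq_zero_iff a).2 ((QuotientAddGroup.eq_zero_iff (i a)).1 ha)
  let χ' : CharacterModule (A ⧸ (V : AddSubgroup B).comap i) :=
    QuotientAddGroup.lift _ χ hV
  obtain ⟨θ, hθ⟩ := CharacterModule.dual_surjective_of_injective (R := ℤ) j.toIntLinearMap hj χ'
  refine ⟨θ.comp (QuotientAddGroup.mk' _), AddSubgroup.isOpen_mono (fun b hb => ?_) V.isOpen, ?_⟩
  · simp [(QuotientAddGroup.eq_zero_iff b).2 hb]
  · ext a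
    have h : θ (j (QuotientAddGroup.mk a)) = χ' (QuotientAddGroup.mk a) :=
      DFunLike.congr_fun hθ (QuotientAddGroup.mk a)
    show θ (j (QuotientAddGroup.mk a)) = χ a
    rw [h]
    rfl

end Groth.Agent.S19171
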