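import Groth.Statements.S19172
import Mathlib
import Groth.Agent.FIComplLib.Basic
-- import your own Groth.Agent.* helpers here

set_option autoImplicit false
universe u v w
open ProCompl

namespace Groth.Agent.S19172
open Groth.Agent.FIComplLib W4c61motalbduality

open W4c61motalbduality in
/-- Let i : A → B and p : B → C be continuous homomorphisms of topological abelian groups with p
surjective and open and with the kernel of p equal to the image of i. Then the induced sequence of
completions with respect to open subgroups of finite index, A^∧ → B^∧ → C^∧ → 0, is exact: the map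
B^∧ → C^∧ is surjective and its kernel is the image of A^∧. The completion is the group of
compatible families of residues modulo all open subgroups of finite index. (The published statement
takes i injective, as the first map of an exact sequence 0 → A → B → C → 0 of topological abelian
groups; here it is only assumed that the image of i is the kernel of p, which is all the proof
uses.) -/
theorem result
    {A : Type u} {B : Type v} {C : Type w}
    [AddCommGroup A] [TopologicalSpace A] [IsTopologicalAddGroup A]
    [AddCommGroup B] [TopologicalSpace B] [IsTopologicalAddGroup B]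
    [AddCommGroup C] [TopologicalSpace C] [IsTopologicalAddGroup C]
    (i : A →+ B) (hi : Continuous i) (p : B →+ C) (hp : Continuous p)
    (hpo : IsOpenMap p) (hps : Function.Surjective p) (hex : p.ker = i.range) :
    Function.Surjective (FICompl.map p hp) ∧ (FICompl.map p hp).ker = (FICompl.map i hi).range := by
  have hpW : ∀ V : W4c61motalbduality.OpenFI B, IsOpen (V.toAddSubgroup.map p : Set C) ∧
      (V.toAddSubgroup.map p).FiniteIndex := fun V => by
    haveI := V.finiteIndex'
    exact ⟨hpo _ V.isOpen', ⟨fun h => AddSubgroup.FiniteIndex.index_ne_zero (H := V.toAddSubgroup)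
      (Nat.eq_zero_of_zero_dvd (h ▸ AddSubgroup.index_map_dvd V.toAddSubgroup hps))⟩⟩
  refine ⟨fun z => mem_range_map p hp z fun W => ?_, le_antisymm (fun x hx => ?_) ?_⟩
  · obtain ⟨c, hc⟩ := QuotientAddGroup.mk_surjective (z.1 W)
    obtain ⟨b, rfl⟩ := hps c
    exact ⟨b, hc⟩
  · refine mem_range_map i hi x fun V => ?_
    let W : W4c61motalbduality.OpenFI C := ⟨_, (hpW V).1, (hpW V).2⟩
    obtain ⟨b, hb⟩ := QuotientAddGroup.mk_surjective (x.1 V)
    have h1 : x.1 (W.comap p hp) = QuotientAddGroup.mk b := by
      rw [← x.2 V (W.comap p hp) (fun v hv => AddSubgroup.mem_map_of_mem p hv), ← hb]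
      rfl
    have h2 : (QuotientAddGroup.mk (p b) : C ⧸ W.toAddSubgroup) = 0 := by
      have h3 := congrFun (congrArg Subtype.val (AddMonoidHom.mem_ker.1 hx)) W
      change QuotientAddGroup.map _ _ p (W.comap_le p) (x.1 (W.comap p hp)) = 0 at h3
      rw [h1] at h3
      exact h3
    obtain ⟨v, hv, hvb⟩ := (QuotientAddGroup.eq_zero_iff _).1 h2
    have h4 : b - v ∈ p.ker := by simp [AddMonoidHom.mem_ker, hvb]
    rw [hex] at h4
    obtain ⟨a, ha⟩ := h4
    refine ⟨a, ?_⟩
    rw [← hb, ha, QuotientAddGroup.eq]
    simpa using hv
  · rintro _ ⟨y, rfl⟩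
    rw [AddMonoidHom.mem_ker]
    refine Subtype.ext (funext fun W => ?_)
    show QuotientAddGroup.map _ _ p (W.comap_le p) ((FICompl.map i hi y).1 (W.comap p hp)) = 0
    obtain ⟨a, ha⟩ := QuotientAddGroup.mk_surjective (y.1 ((W.comap p hp).comap i hi))
    show QuotientAddGroup.map _ _ p (W.comap_le p)
      (QuotientAddGroup.map _ _ i ((W.comap p hp).comap_le i) (y.1 ((W.comap p hp).comap i hi))) = 0
    rw [← ha]
    show (QuotientAddGroup.mk (p (i a)) : C ⧸ W.toAddSubgroup) = 0
    have : i a ∈ p.ker := hex ▸ ⟨a, rfl⟩
    rw [AddMonoidHom.mem_ker.1 this, QuotientAddGroup.mk_zero]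

end Groth.Agent.S19172
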