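import Groth.Statements.S19173
import Mathlib
import Groth.Agent.FIComplLib.Basic
-- import your own Groth.Agent.* helpers here

set_option autoImplicit false
universe u v
open ProCompl

namespace Groth.Agent.S19173
open Groth.Agent.FIComplLib W4c61motalbduality

open W4c61motalbduality Topology in
/-- Let B be a Hausdorff, locally compact, totally disconnected topological abelian group generated as a
group by a compact subset, and let i : A → B be an injective continuous homomorphism inducing the
topology of A from that of B (a strict injection) with closed image. Then the map induced by i on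
completions with respect to open subgroups of finite index is injective; together with right
exactness for open surjections this makes 0 → A^∧ → B^∧ → C^∧ → 0 exact for a topological exact
sequence 0 → A → B → C → 0 with such B, strict closed i and open p. -/
theorem result
    {A : Type u} {B : Type v} [AddCommGroup A] [TopologicalSpace A] [IsTopologicalAddGroup A]
    [AddCommGroup B] [TopologicalSpace B] [IsTopologicalAddGroup B]
    [T2Space B] [LocallyCompactSpace B] [TotallyDisconnectedSpace B]
    (hcg : ∃ K : Set B, IsCompact K ∧ AddSubgroup.closure K = ⊤)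
    (i : A →+ B) (hi : Continuous i) (hinj : Function.Injective i) (hind : IsInducing i)
    (hcl : IsClosed (Set.range i)) :
    Function.Injective (FICompl.map i hi) := by
  rw [injective_iff_map_eq_zero]
  intro x hx
  refine Subtype.ext (funext fun U => ?_)
  haveI := U.finiteIndex'
  obtain ⟨V, hV⟩ := exists_comap_le i hind U.toAddSubgroup U.isOpen'
  obtain ⟨K, hK, hKtop⟩ := hcg
  -- `M = B / i (U) + V` is finitely generated
  let S : AddSubgroup B := U.toAddSubgroup.map i ⊔ (V : AddSubgroup B)
  haveI : DiscreteTopology (B ⧸ S) := QuotientAddGroup.discreteTopology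
    (AddSubgroup.isOpen_mono le_sup_right V.isOpen)
  let π : B →+ B ⧸ S := QuotientAddGroup.mk' S
  have hπK : (π '' K).Finite :=
    (hK.image (QuotientAddGroup.continuous_mk)).finite_of_discrete
  haveI : AddGroup.FG (B ⧸ S) := ⟨⟨hπK.toFinset, by
    rw [Set.Finite.coe_toFinset, ← AddMonoidHom.map_closure, hKtop,
      AddSubgroup.map_top_of_surjective π (QuotientAddGroup.mk'_surjective S)]⟩⟩
  haveI : Module.Finite ℤ (B ⧸ S) := Module.Finite.iff_addGroup_fg.2 inferInstance
  obtain ⟨m, hm, hmT⟩ := exists_torsion_bound (B ⧸ S)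
  -- the preimage of `m M`
  let W : AddSubgroup B := (nsmulAddMonoidHom (α := B ⧸ S) m).range.comap π
  have hWo : IsOpen (W : Set B) := AddSubgroup.isOpen_mono (fun b hb => by
    have : π b = 0 := (QuotientAddGroup.eq_zero_iff b).2 (AddSubgroup.mem_sup_right hb)
    show π b ∈ (nsmulAddMonoidHom (α := B ⧸ S) m).range
    rw [this]
    exact zero_mem _) V.isOpen
  haveI := finiteIndex_range_nsmul (B ⧸ S) hm
  let W' : W4c61motalbduality.OpenFI B := ⟨W, hWo, ⟨by
    rw [AddSubgroup.index_comap_of_surjective _ (QuotientAddGroup.mk'_surjective S)]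
    exact AddSubgroup.FiniteIndex.index_ne_zero⟩⟩
  have hle : (W'.comap i hi).toAddSubgroup ≤ U.toAddSubgroup := by
    intro a ha
    obtain ⟨y, hy⟩ := (ha : π (i a) ∈ (nsmulAddMonoidHom (α := B ⧸ S) m).range)
    have hfin : IsOfFinAddOrder (π (i a)) := by
      refine isOfFinAddOrder_iff_nsmul_eq_zero.2
        ⟨U.toAddSubgroup.index, Nat.pos_of_ne_zero AddSubgroup.FiniteIndex.index_ne_zero, ?_⟩
      rw [← map_nsmul, ← map_nsmul]
      exact (QuotientAddGroup.eq_zero_iff _).2 (AddSubgroup.mem_sup_left
        (AddSubgroup.mem_map_of_mem i (AddSubgroup.nsmul_index_mem _ a)))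
    have hy0 : IsOfFinAddOrder y := by
      obtain ⟨k, hk, hk0⟩ := isOfFinAddOrder_iff_nsmul_eq_zero.1 hfin
      refine isOfFinAddOrder_iff_nsmul_eq_zero.2 ⟨k * m, Nat.mul_pos hk (Nat.pos_of_ne_zero hm), ?_⟩
      rw [mul_smul]
      rw [← hy] at hk0
      exact hk0
    have hz : π (i a) = 0 := by rw [← hy]; exact hmT y hy0
    obtain ⟨_, ⟨a', ha', rfl⟩, v, hv, hav⟩ := AddSubgroup.mem_sup.1 ((QuotientAddGroup.eq_zero_iff _).1 hz)
    have : a - a' ∈ (V : AddSubgroup B).comap i := by
      show i (a - a') ∈ (V : AddSubgroup B)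
      rw [map_sub, ← hav, add_sub_cancel_left]
      exact hv
    simpa using U.toAddSubgroup.add_mem (hV this) ha'
  rw [← x.2 (W'.comap i hi) U hle]
  have h0 := congrFun (congrArg Subtype.val hx) W'
  obtain ⟨a, ha⟩ := QuotientAddGroup.mk_surjective (x.1 (W'.comap i hi))
  change QuotientAddGroup.map _ _ i (W'.comap_le i) (x.1 (W'.comap i hi)) = 0 at h0
  rw [← ha] at h0 ⊢
  have : i a ∈ W'.toAddSubgroup := (QuotientAddGroup.eq_zero_iff (i a)).1 h0
  exact (QuotientAddGroup.eq_zero_iff a).2 (hle this)

end Groth.Agent.S19173
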