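import Groth.Statements.S19174
import Groth.Agent.EllSecLib.Contracted
import Groth.Agent.BlowRegLib.LinearGG
import Groth.Agent.PnHNLib.Main
-- import your own Groth.Agent.* helpers here

set_option autoImplicit false
set_option backward.isDefEq.respectTransparency false
set_option backward.isDefEq.respectTransparency.types false
set_option maxHeartbeats 1000000
universe u
open CategoryTheory CategoryTheory.Limits AlgebraicGeometry
open Curves

open TopologicalSpace HilbPolyLib DevissLib HodgeIdxLib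
open KFlatLib (pb)

namespace Groth.Agent.S19174

theorem convex {k : Type u} [Field k] {C : Scheme.{u}} [C.Over (Spec (CommRingCat.of k))]
    [IsProper (C ↘ (Spec (CommRingCat.of k)))] (π : C ⟶ CohB1.ProjSpace 1 k) (d : ℤ) :
    2 * hh k (pb π (Twist.twistProjSpace 1 k d)) 1 ≤
      hh k (pb π (Twist.twistProjSpace 1 k (d - 1))) 1 + hh k (pb π (Twist.twistProjSpace 1 k (d + 1))) 1 := by
  haveI := CurvLib.isNoetherian k (X := C)
  have hO : ∀ d : ℤ, PicF.IsInvertible (Twist.twistProjSpace 1 k d) := fun d => PicPnLib.twist_inv 1 k d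
  have hQ : ∀ d : ℤ, PicF.IsInvertible (pb π (Twist.twistProjSpace 1 k d)) := fun d => AmpleDevLib.isInvertible_pb π (hO d)
  have hj : ∀ a b : ℤ, a + (d + 1) = b → Nonempty (CohB1.tensorMod (pb π (Twist.twistProjSpace 1 k a)) (pb π (Twist.twistProjSpace 1 k (d + 1))) ≅ pb π (Twist.twistProjSpace 1 k b)) := by
    intro a b hab
    subst hab
    obtain ⟨e⟩ := VBP1Lib.twist_add k a (d + 1)
    exact ⟨(PicPnLib.pullTens π _ _).symm ≪≫ (Scheme.Modules.pullback π).mapIso e⟩
  obtain ⟨eΩ⟩ := EulerPnLib.omega_line_iso (k := k)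
  let A := pb π (Twist.twistProjSpace 1 k (d + 1))
  let S := ((EulerPnLib.eulerSeq 1 k).map (Scheme.Modules.pullback π)).map (DCoh.tensorRightMod A)
  have hF : FlatMod.IsFinLocFree (Twist.twistProjSpace 1 k 0) := CurveVBLib.isFinLocFree_of_rank (CurvLib.locFree_of_isInvertible (hO 0))
  have hS : S.ShortExact := ProjKLib.shortExact_tensor_right
    (VBResLib.shortExact_pullback_of_vb π (EulerPnLib.euler_shortExact 1 k) hF) (KFlatLib.isFinLocFree_pull π hF) A
  obtain ⟨j2⟩ := hj (-2) (d - 1) (by ring)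
  obtain ⟨j1⟩ := hj (-1) d (by ring)
  obtain ⟨j0⟩ := hj 0 (d + 1) (by ring)
  let e1 : S.X₁ ≅ pb π (Twist.twistProjSpace 1 k (d - 1)) := HilbPolyLib.congrLeft ((Scheme.Modules.pullback π).mapIso eΩ) A ≪≫ j2
  have h2 := EllSecLib.two_mul_le_of_seq k (pb π (Twist.twistProjSpace 1 k (-1))) (DCoh.tensorRightMod A) (S := S)
    hS ((DCoh.tensorRightMod A).mapIso ((Scheme.Modules.pullback π).mapBiproduct _)) (CurvLib.finite_HH (k := k) (QCohLib.isCoh_of_iso e1.symm (CurvLib.isCoh_of_isInvertible (hQ _))) 1)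
    (CurvLib.finite_HH (k := k) (QCohLib.isCoh_of_iso (show pb π (Twist.twistProjSpace 1 k (d + 1)) ≅ S.X₃ from j0.symm) (CurvLib.isCoh_of_isInvertible (hQ _))) 1)
  rw [← hh_congr (k := k) e1 1, ← hh_congr (k := k) (show S.X₃ ≅ _ from j0) 1, ← hh_congr (k := k) (show (DCoh.tensorRightMod A).obj (pb π (Twist.twistProjSpace 1 k (-1))) ≅ _ from j1) 1]
  exact h2

/-- Let k be an algebraically closed field of characteristic zero and C a proper reduced connected
one-dimensional scheme over k with at-worst-nodal singularities and dim_k H^1(C, O_C) = 1 (a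
connected nodal curve of arithmetic genus one). Let π : C → P^1_k be a morphism over k contracting
no connected subcurve of arithmetic genus one: for every reduced connected one-dimensional closed
subscheme Y of C on which π is constant, dim_k H^1(Y, O_Y) = 0. Then H^1(C, π^*O(1)) = 0 and H^1(C,
π^*O(2)) = 0, where O(d) is the d-th twisting sheaf of P^1_k. -/
theorem result (k : Type u) [Field k] [IsAlgClosed k] [CharZero k]
    (C : Scheme.{u}) [C.Over (Spec (CommRingCat.of k))] [IsProper (C ↘ (Spec (CommRingCat.of k)))]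
    [AlgebraicGeometry.IsReduced C] [ConnectedSpace C] (hdim : topologicalKrullDim C = 1)
    (hC : Curv2.AtWorstNodal k C) (hg : Curv2.genus k C = 1)
    (π : C ⟶ CohB1.ProjSpace 1 k) (hπ : π ≫ CohB1.ProjSpace.toSpec 1 k = C ↘ (Spec (CommRingCat.of k)))
    (hcontr : ∀ J : C.IdealSheafData, AlgebraicGeometry.IsReduced J.subscheme → ConnectedSpace J.subscheme →
      topologicalKrullDim J.subscheme = 1 →
      (∀ x y : J.subscheme, (J.subschemeι ≫ π).base x = (J.subschemeι ≫ π).base y) →
      @Curv2.genus k _ J.subscheme ⟨J.subschemeι ≫ (C ↘ (Spec (CommRingCat.of k)))⟩ = 0) :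
    Subsingleton (Coh.HH C ((Scheme.Modules.pullback π).obj (Twist.twistProjSpace 1 k 1)) 1) ∧
      Subsingleton (Coh.HH C ((Scheme.Modules.pullback π).obj (Twist.twistProjSpace 1 k 2)) 1) := by
  haveI := CurvLib.isNoetherian k (X := C)
  have hπk : π ≫ ((CohB1.ProjSpace 1 k) ↘ Spec (CommRingCat.of k)) = C ↘ Spec (CommRingCat.of k) := hπ
  obtain ⟨n₀, hn₀⟩ := EllSecLib.exists_vanishing_contracted (k := k) hdim.le π hπk (PicPnLib.twist_inv 1 k 1)
    (PnHNLib.isAmple_twist_one 1 k) hcontr
  let h : ℕ → ℕ := fun n => hh k (pb π (Twist.twistProjSpace 1 k (n : ℤ))) 1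
  have hh0 : h 0 = 1 := by
    obtain ⟨e0⟩ := VBP1Lib.twist_zero k
    exact (hh_congr (k := k) ((Scheme.Modules.pullback π).mapIso e0 ≪≫ KFlatLib.pullUnitIso π) 1).trans hg
  have hconv : ∀ m, h m ≤ h (m + 1) → h (m + 1) ≤ h (m + 2) := fun m hm => by
    have := convex (k := k) π ((m : ℤ) + 1)
    rw [show (m : ℤ) + 1 - 1 = (m : ℤ) by ring, show (m : ℤ) + 1 + 1 = ((m + 2 : ℕ) : ℤ) by push_cast; ring] at this
    change 2 * h (m + 1) ≤ h m + h (m + 2) at this
    omega
  have hmono : ∀ m, h m ≤ h (m + 1) → ∀ j, h (m + 1) ≤ h (m + 1 + j) := fun m hm j => by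
    have hs : ∀ i, h (m + i) ≤ h (m + i + 1) := fun i => by
      induction i with
      | zero => exact hm
      | succ i ih => exact hconv (m + i) ih
    induction j with
    | zero => exact le_rfl
    | succ j ih =>
      refine ih.trans ?_
      have := hs (j + 1)
      rwa [show m + (j + 1) = m + 1 + j by ring, show m + 1 + j + 1 = m + 1 + (j + 1) by ring] at this
  have hbig : ∀ n, n₀ ≤ n → h n = 0 := fun n hn => by
    haveI := hn₀ n hn
    obtain ⟨e⟩ := PnCohLib.tensorPow_twist (n := 1) (R := k) n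
    exact (hh_congr (k := k) ((Scheme.Modules.pullback π).mapIso e) 1).symm.trans Module.finrank_zero_of_subsingleton
  have z1 : h 1 = 0 := by
    by_contra hne
    have := hmono 0 (by show h 0 ≤ h 1; omega) n₀
    rw [hbig (0 + 1 + n₀) (by omega)] at this
    exact hne (Nat.eq_zero_of_le_zero this)
  have z2 : h 2 = 0 := by
    have := hmono 1 (by show h 1 ≤ h 2; omega) n₀
    rw [hbig (1 + 1 + n₀) (by omega)] at this
    exact Nat.eq_zero_of_le_zero this
  have hs : ∀ m, h m = 0 → Subsingleton (Coh.HH C (pb π (Twist.twistProjSpace 1 k (m : ℤ))) 1) := fun m hm => by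
    haveI := CurvLib.finite_HH (k := k) (CurvLib.isCoh_of_isInvertible (AmpleDevLib.isInvertible_pb π (PicPnLib.twist_inv 1 k (m : ℤ)))) 1
    exact (Module.finrank_zero_iff (R := k)).1 hm
  exact ⟨hs 1 z1, hs 2 z2⟩

end Groth.Agent.S19174
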