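import Groth.Statements.S19175
import Groth.Agent.EllSecLib.Main
import Groth.Agent.SurfAmpleLib.Projective
import Groth.Agent.SurfNumLib.Basic
-- import your own Groth.Agent.* helpers here

set_option autoImplicit false
set_option backward.isDefEq.respectTransparency false
set_option backward.isDefEq.respectTransparency.types false
set_option maxHeartbeats 1000000
universe u
open CategoryTheory CategoryTheory.Limits AlgebraicGeometry
open Surf

open TopologicalSpace HilbPolyLib DevissLib IntMultLib IntFunLib HodgeIdxLib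
open KFlatLib (pb)

namespace Groth.Agent.S19175

/-- Let k be an algebraically closed field of characteristic zero, X a smooth proper integral surface
over k and B a smooth proper integral curve over k, and f : X → B a k-morphism each of whose fibres
over a closed point is an integral one-dimensional scheme with at-worst-nodal singularities and
arithmetic genus one (an elliptic fibration all of whose fibres are smooth elliptic or irreducible
nodal). Let s be a section of f and L_S an invertible O_X-module inverse to the ideal of the closed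
immersion s (the class of the curve S = s(B)); let L_F be the pullback along f of an invertible
O_B-module inverse to the ideal of a closed point (the class of a fibre); and let L_C be an
invertible O_X-module whose restriction to the fibre over every closed point of some nonempty open
subset of B is isomorphic to the restriction of L_S (a class agreeing with S on the general fibre).
Then there is an integer m with 2m = (L_S·L_S) − (L_C·L_C) and (L_S·N) = (L_C·N) + m·(L_F·N) for
every invertible O_X-module N: numerically S ≡ C + ((S² − C²)/2)·F. Here (L·N) = χ(O_X) − χ(L) −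
χ(N) + χ(L ⊗ N) is the intersection number of invertible modules on the proper surface X. -/
theorem result (k : Type u) [Field k] [IsAlgClosed k] [CharZero k]
    (X B : Scheme.{u}) [X.Over (Spec (CommRingCat.of k))] [B.Over (Spec (CommRingCat.of k))]
    [IsProper (X ↘ (Spec (CommRingCat.of k)))] [Smooth (X ↘ (Spec (CommRingCat.of k)))] [AlgebraicGeometry.IsIntegral X] (hX2 : topologicalKrullDim X = 2)
    [IsProper (B ↘ (Spec (CommRingCat.of k)))] [Smooth (B ↘ (Spec (CommRingCat.of k)))] [AlgebraicGeometry.IsIntegral B] (hB1 : topologicalKrullDim B = 1)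
    (f : X ⟶ B) (hf : f ≫ (B ↘ (Spec (CommRingCat.of k))) = X ↘ (Spec (CommRingCat.of k)))
    (hfib : ∀ b : B, IsClosed ({b} : Set B) →
      AlgebraicGeometry.IsIntegral (f.fiber b) ∧ topologicalKrullDim (f.fiber b) = 1 ∧
        @Curv2.AtWorstNodal (B.residueField b) _ (f.fiber b) ⟨f.fiberToSpecResidueField b⟩ ∧
        @Curv2.genus (B.residueField b) _ (f.fiber b) ⟨f.fiberToSpecResidueField b⟩ = 1)
    (s : B ⟶ X) (hs : s ≫ f = 𝟙 B)
    (LS : X.Modules) (hLS : PicF.IsInvertible LS) (hLSinv : ClSub.IsInverseOf LS (ClSub.idealMod s.ker))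
    (b₀ : B) (hb₀ : IsClosed ({b₀} : Set B)) (M : B.Modules) (hM : PicF.IsInvertible M)
    (hMinv : ClSub.IsInverseOf M (ClSub.idealMod (Scheme.IdealSheafData.vanishingIdeal ⟨{b₀}, hb₀⟩)))
    (LC : X.Modules) (hLC : PicF.IsInvertible LC)
    (hgen : ∃ U : B.Opens, (U : Set B).Nonempty ∧ ∀ b ∈ U, IsClosed ({b} : Set B) →
      Nonempty ((Scheme.Modules.pullback (f.fiberι b)).obj LC ≅ (Scheme.Modules.pullback (f.fiberι b)).obj LS)) :
    ∃ m : ℤ, 2 * m = FGA.intNum k X 2 ![LS, LS] (Coh.structureModule X) - FGA.intNum k X 2 ![LC, LC] (Coh.structureModule X) ∧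
      ∀ N : X.Modules, PicF.IsInvertible N →
        FGA.intNum k X 2 ![LS, N] (Coh.structureModule X) =
          FGA.intNum k X 2 ![LC, N] (Coh.structureModule X) +
            m * FGA.intNum k X 2 ![(Scheme.Modules.pullback f).obj M, N] (Coh.structureModule X) := by
  haveI := CurvLib.isNoetherian k (X := X)
  haveI := CurvLib.isNoetherian k (X := B)
  have hX : topologicalKrullDim X = ((2 : ℕ) : WithBot ℕ∞) := hX2
  have hXle : topologicalKrullDim X ≤ ((2 : ℕ) : WithBot ℕ∞) := hX.le
  haveI : IsProper (f ≫ (B ↘ Spec (CommRingCat.of k))) := by rw [hf]; infer_instance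
  haveI : IsProper f := IsProper.of_comp f (B ↘ Spec (CommRingCat.of k))
  haveI : f.IsOver (Spec (CommRingCat.of k)) := ⟨hf⟩
  haveI : Surjective f := ⟨fun b => ⟨s.base b, by
    change (s ≫ f).base b = b
    rw [hs]; rfl⟩⟩
  obtain ⟨A, hA⟩ := SurfAmpleLib.exists_ample_of_smooth k hX
  -- the difference
  obtain ⟨eC⟩ := MiscFlat6.nonempty_dualIso hLC
  have hLCd := MiscFlat6.dual_isInvertible hLC
  set L := CohB1.tensorMod LS (MiscFlat6.dual LC) with hLdef
  have hL : PicF.IsInvertible L := HilbPolyLib.isInvertible_tensor hLS hLCd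
  obtain ⟨U, hU, hUiso⟩ := hgen
  have hinf : {b : B | IsClosed ({b} : Set B) ∧
      Nonempty (pb (f.fiberι b) L ≅ Coh.structureModule (f.fiber b))}.Infinite := by
    intro hfin
    by_cases hUt : ((U : Set B)ᶜ) = Set.univ
    · obtain ⟨u, hu⟩ := hU
      exact (hUt.ge (Set.mem_univ u)) hu
    obtain ⟨hcfin, -⟩ := SerreVanLib.proper_closed_finite k hB1 U.2.isClosed_compl hUt
    refine CurveFFLib.infinite_closed (k := k) (X := B) hB1 ((hfin.union hcfin).subset fun b hb => ?_)
    by_cases hbU : b ∈ U
    · obtain ⟨e⟩ := hUiso b hbU hb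
      refine Or.inl ⟨hb, ⟨PicPnLib.pullTens (f.fiberι b) LS (MiscFlat6.dual LC) ≪≫ congrLeft e.symm _ ≪≫
        (PicPnLib.pullTens (f.fiberι b) LC (MiscFlat6.dual LC)).symm ≪≫
        (Scheme.Modules.pullback (f.fiberι b)).mapIso eC ≪≫ KFlatLib.pullUnitIso _⟩⟩
    · exact Or.inr hbU
  obtain ⟨hLL, hLP⟩ := EllSecLib.pr_trivial_on_fibres (k := k) hB1 f hX
    (fun b hb => ⟨(hfib b hb).1, (hfib b hb).2.1⟩) hL hinf
  -- the class of a fibre
  set F := (Scheme.Modules.pullback f).obj M with hFdef
  have hF : PicF.IsInvertible F := AmpleDevLib.isInvertible_pb f hM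
  obtain ⟨eM⟩ := hMinv
  have hC := SurfAmpleLib.isEffCartier_fibre k hB1 f hb₀
  obtain ⟨eFI⟩ := SurfAmpleLib.nonempty_fibreIdeal_iso k hB1 f hb₀
  have hIC := IntMultLib.isInvertible_idealMod _ hC
  have hFF : pr k F F = 0 := by
    have hv : ∀ c : X, topologicalKrullDim (closure ({c} : Set X)) = ((1 : ℕ) : WithBot ℕ∞) →
        c ∈ (f.fiberι b₀).ker.support → ∀ x ∈ closure ({c} : Set X), f.base x = f.base c := fun c _ hc x hx => by
      rw [← SetLike.mem_coe, EllSecLib.support_fibre (k := k) f hb₀] at hc
      exact closure_minimal (t := f.base ⁻¹' {f.base c}) (Set.singleton_subset_iff.2 rfl)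
        ((show IsClosed ({f.base c} : Set B) by rw [show f.base c = b₀ from hc]; exact hb₀).preimage f.continuous) hx
    have h0 := EllSecLib.pr_vertical (k := k) f hX hC hv hM
    rw [pr, N_congr_head eFI, ← pr] at h0
    rw [pr_inverse (k := k) (P := pb f (ClSub.idealMod (GenusZeroLib.ptIdeal hb₀))) hXle
      (HilbPolyLib.isInvertible_of_iso eFI hIC) hF hF
      (swapIso _ _ ≪≫ (PicPnLib.pullTens f M _).symm ≪≫ (Scheme.Modules.pullback f).mapIso eM ≪≫
        KFlatLib.pullUnitIso f)]
    exact neg_eq_zero.2 h0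
  -- the section meets a fibre once
  obtain ⟨eS⟩ := hLSinv
  haveI : IsClosedImmersion s := by
    haveI : IsClosedImmersion (s ≫ f) := by rw [hs]; infer_instance
    exact IsClosedImmersion.of_comp s f
  have hsk : s ≫ (X ↘ Spec (CommRingCat.of k)) = B ↘ Spec (CommRingCat.of k) := by
    rw [← hf, ← Category.assoc, hs, Category.id_comp]
  have hIS : PicF.IsInvertible (ClSub.idealMod s.ker) :=
    Groth.Agent.S2122.result (ClSub.idealMod s.ker) LS (swapIso _ _ ≪≫ eS)
  have hFS : pr k LS F = 1 := by
    have h1 : pr k LS F = N k [F] (ClSub.quotMod s.ker) := by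
      rw [pr_inverse (k := k) hXle hIS hLS hF (swapIso _ _ ≪≫ eS),
        SurfNumLib.pr_ideal _ (CurvLib.isCoh_of_isInvertible hIS) hF, neg_neg]
    have hB' : topologicalKrullDim (CohB1.support (Coh.structureModule B)) ≤ ((1 : ℕ) : WithBot ℕ∞) :=
      (topologicalKrullDim_subspace_le _ _).trans (by rw [hB1]; simp)
    have h2 := N_push (k := k) (g := s) hsk (l := [F]) (by simpa using hF)
      (DevissLib.isCoh_structureModule B) hB'
    change N k [pb s F] (Coh.structureModule B) = _ at h2
    rw [← N_congr [F] (SurfNumLib.quotMod_ker_iso s).some] at h2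
    let eSF : pb s F ≅ M := (Scheme.Modules.pullbackComp s f).app M ≪≫
      (Scheme.Modules.pullbackCongr hs).app M ≪≫ (Scheme.Modules.pullbackId B).app M
    rw [h1, ← h2, N_congr_head eSF]
    haveI := HurwitzLib.dvr_stalk_closed (k := k) hB1 hb₀
    obtain ⟨I, ⟨eI⟩, hI, hId⟩ := GenusZeroLib.exists_idealMod_iso (k := k) hb₀ hB1
    have hres : (letI : Algebra k (B.residueField b₀) := Curv2.resAlgebra k B b₀
        Module.finrank k (B.residueField b₀)) = 1 := by
      letI : Algebra k (B.residueField b₀) := Curv2.resAlgebra k B b₀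
      haveI := HurwitzLib.finite_residueField (k := k) hb₀
      exact ((AlgEquiv.ofBijective (Algebra.ofId k (B.residueField b₀))
        (IsAlgClosed.algebraMap_bijective_of_isIntegral (k := k))).toLinearEquiv.finrank_eq).symm.trans
          (Module.finrank_self k)
    rw [hres, Curv2.deg] at hId
    have h3 := euler_sub_eq_N (k := k) I
    have h4 := N_inv_head (k := k) (l := []) hM hI (congrRight M eI ≪≫ eM) (by simp)
      (DevissLib.isCoh_structureModule B) hB'
    change N k [I] (Coh.structureModule B) = - N k [M] (Coh.structureModule B) at h4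
    push_cast at hId
    omega
  -- the index theorem
  set m := pr k L LS with hmdef
  obtain ⟨H, hH, hHe⟩ := exists_comb (k := k) hXle hLS hF 1 (|pr k LS LS| + 1)
  obtain ⟨L₁, hL₁, hL₁e⟩ := exists_comb (k := k) hXle hL hF 1 (-m)
  have hLF : pr k L F = 0 := hLP M hM
  have hz : ∀ N : X.Modules, PicF.IsInvertible N → pr k L₁ N = 0 := fun N hN => by
    refine index (k := k) hX hA hH hL₁ ?_ ?_ ?_ hN
    · rw [hHe H hH, pr_comm LS H, pr_comm F H, hHe LS hLS, hHe F hF, pr_comm F LS, hFS, hFF]
      nlinarith [abs_nonneg (pr k LS LS), neg_abs_le (pr k LS LS)]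
    · rw [hL₁e H hH, pr_comm L H, pr_comm F H, hHe L hL, hHe F hF, pr_comm LS L, pr_comm F L, hLF, hFS, hFF,
        ← hmdef]
      ring
    · rw [hL₁e L₁ hL₁, pr_comm L L₁, pr_comm F L₁, hL₁e L hL, hL₁e F hF, pr_comm F L, hLF, hLL, hFF]
      ring_nf
      exact le_rfl
  have hd : ∀ N : X.Modules, PicF.IsInvertible N → pr k LS N - pr k LC N = pr k L N := fun N hN => by
    rw [hLdef, pr_tensor (k := k) hXle hLS hLCd hN, pr_inverse (k := k) hXle hLC hLCd hN eC]
    ring
  refine ⟨m, ?_, fun N hN => ?_⟩
  · rw [SurfNumLib.intNum_eq_pr_two hX2, SurfNumLib.intNum_eq_pr_two hX2]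
    have a := hd LS hLS
    have b := hd LC hLC
    have c := hd L hL
    rw [hLL, pr_comm LS L, pr_comm LC L] at c
    rw [pr_comm LC LS] at a
    rw [← hmdef] at a c
    omega
  · rw [SurfNumLib.intNum_eq_pr_two hX2, SurfNumLib.intNum_eq_pr_two hX2, SurfNumLib.intNum_eq_pr_two hX2]
    have h := hz N hN
    rw [hL₁e N hN] at h
    have a := hd N hN
    linarith

end Groth.Agent.S19175
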