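import Groth.Statements.S19176
import Mathlib
import Groth.Agent.PurePowReg.Quot
-- import your own Groth.Agent.* helpers here

set_option autoImplicit false
universe u
open PlaneCurve

namespace Groth.Agent.S19176

open MvPolynomial in
/-- Let k be a field of characteristic p (p = 0 allowed) and F = y² − x³ in k[x, y] (x the variable of
index 0, y of index 1). The singular subscheme of the plane curve F = 0, cut out by F and its two
partial derivatives, is finite over k of degree 4 when p = 2, of degree 3 when p = 3, and of degree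
2 otherwise: the k-dimension of k[x, y]/(F, ∂F/∂x, ∂F/∂y) is that number. (The source phrases this
through the complete local ring of a cusp; the row is the computation for the standard cusp y² =
x³.) -/
theorem result (k : Type u) [Field k] (p : ℕ) [CharP k p] :
    Module.finrank k (MvPolynomial (Fin 2) k ⧸ Ideal.span
      ({X 1 ^ 2 - X 0 ^ 3, pderiv 0 (X 1 ^ 2 - X 0 ^ 3), pderiv 1 (X 1 ^ 2 - X 0 ^ 3)} :
        Set (MvPolynomial (Fin 2) k))) = (if p = 2 then 4 else if p = 3 then 3 else 2) := by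
  have hrank : ∀ a b : ℕ, Module.finrank k (MvPolynomial (Fin 2) k ⧸ Ideal.span
      (Set.range ![(X 0 : MvPolynomial (Fin 2) k) ^ a, X 1 ^ b])) = a * b := fun a b => by
    have hf : Groth.Agent.PurePowReg.HasTop (fun _ : Fin 2 => 1) ![(X 0 : MvPolynomial (Fin 2) k) ^ a, X 1 ^ b]
        id ![a, b] (fun _ => 1) := fun i m hm => by
      exfalso
      fin_cases i <;> simp [X_pow_eq_monomial] at hm
    obtain ⟨B⟩ := Groth.Agent.PurePowReg.exists_basis_quot Function.bijective_id hf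
    rw [Module.finrank_eq_card_basis B]
    simp [Fin.prod_univ_two]
  have hx : pderiv (0 : Fin 2) (X 1 ^ 2 - X 0 ^ 3 : MvPolynomial (Fin 2) k) = -(C (3 : k) * X 0 ^ 2) := by
    simp [pderiv_X_of_ne, map_ofNat]
  have hy : pderiv (1 : Fin 2) (X 1 ^ 2 - X 0 ^ 3 : MvPolynomial (Fin 2) k) = C (2 : k) * X 1 := by
    simp [pderiv_X_of_ne, map_ofNat]
  rw [hx, hy]
  set F : MvPolynomial (Fin 2) k := X 1 ^ 2 - X 0 ^ 3 with hF
  have key : ∀ a b : ℕ, (F ∈ Ideal.span (Set.range ![(X 0 : MvPolynomial (Fin 2) k) ^ a, X 1 ^ b])) →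
      (C (3 : k) * X 0 ^ 2 ∈ Ideal.span (Set.range ![(X 0 : MvPolynomial (Fin 2) k) ^ a, X 1 ^ b])) →
      (C (2 : k) * X 1 ∈ Ideal.span (Set.range ![(X 0 : MvPolynomial (Fin 2) k) ^ a, X 1 ^ b])) →
      (X 0 ^ a ∈ Ideal.span ({F, -(C (3 : k) * X 0 ^ 2), C (2 : k) * X 1} : Set (MvPolynomial (Fin 2) k))) →
      (X 1 ^ b ∈ Ideal.span ({F, -(C (3 : k) * X 0 ^ 2), C (2 : k) * X 1} : Set (MvPolynomial (Fin 2) k))) →
      Module.finrank k (MvPolynomial (Fin 2) k ⧸ Ideal.span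
        ({F, -(C (3 : k) * X 0 ^ 2), C (2 : k) * X 1} : Set (MvPolynomial (Fin 2) k))) = a * b := by
    intro a b h1 h2 h3 h4 h5
    rw [← hrank a b]
    refine LinearEquiv.finrank_eq (Ideal.quotientEquivAlgOfEq k (le_antisymm (Ideal.span_le.2 ?_) (Ideal.span_le.2 ?_))).toLinearEquiv
    · rintro _ (rfl | rfl | rfl)
      exacts [h1, neg_mem h2, h3]
    · rintro _ ⟨i, rfl⟩
      fin_cases i
      exacts [h4, h5]
  have hF' : F ∈ Ideal.span ({F, -(C (3 : k) * X 0 ^ 2), C (2 : k) * X 1} : Set (MvPolynomial (Fin 2) k)) :=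
    Ideal.subset_span (by simp)
  have hX : C (3 : k) * X 0 ^ 2 ∈ Ideal.span ({F, -(C (3 : k) * X 0 ^ 2), C (2 : k) * X 1} : Set (MvPolynomial (Fin 2) k)) :=
    neg_mem_iff.1 (Ideal.subset_span (by simp))
  have hY : C (2 : k) * X 1 ∈ Ideal.span ({F, -(C (3 : k) * X 0 ^ 2), C (2 : k) * X 1} : Set (MvPolynomial (Fin 2) k)) :=
    Ideal.subset_span (by simp)
  have m0 : ∀ a b : ℕ, (X 0 : MvPolynomial (Fin 2) k) ^ a ∈ Ideal.span (Set.range ![(X 0 : MvPolynomial (Fin 2) k) ^ a, X 1 ^ b]) :=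
    fun a b => Ideal.subset_span ⟨0, rfl⟩
  have m1 : ∀ a b : ℕ, (X 1 : MvPolynomial (Fin 2) k) ^ b ∈ Ideal.span (Set.range ![(X 0 : MvPolynomial (Fin 2) k) ^ a, X 1 ^ b]) :=
    fun a b => Ideal.subset_span ⟨1, rfl⟩
  have unit_mem : ∀ {c : k} (_ : c ≠ 0) {f : MvPolynomial (Fin 2) k} {I : Ideal (MvPolynomial (Fin 2) k)},
      C c * f ∈ I → f ∈ I := fun {c} hc {f I} h => (Ideal.unit_mul_mem_iff_mem I ((Ne.isUnit hc).map C)).1 h
  by_cases h2 : p = 2
  · subst h2
    have e2 : (2 : k) = 0 := CharTwo.two_eq_zero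
    have e3 : (3 : k) = 1 := by linear_combination e2
    rw [if_pos rfl]
    refine key 2 2 ?_ ?_ ?_ (unit_mem one_ne_zero (e3 ▸ hX)) ?_
    · exact sub_mem (m1 2 2) (Ideal.pow_mem_of_pow_mem _ (m0 2 2) (by omega))
    · exact Ideal.mul_mem_left _ _ (m0 2 2)
    · rw [e2, map_zero, zero_mul]; exact zero_mem _
    · have : (X 1 : MvPolynomial (Fin 2) k) ^ 2 = F + X 0 * (C (3 : k) * X 0 ^ 2) := by rw [hF, e3, map_one]; ring
      rw [this]; exact add_mem hF' (Ideal.mul_mem_left _ _ hX)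
  rw [if_neg h2]
  have e2 : (2 : k) ≠ 0 := by
    intro h
    have := (CharP.cast_eq_zero_iff k p 2).1 (by exact_mod_cast h)
    rcases (Nat.dvd_prime Nat.prime_two).1 this with h1 | h1
    · exact CharP.char_ne_one k p h1
    · exact h2 h1
  have hY' : (X 1 : MvPolynomial (Fin 2) k) ^ 1 ∈ Ideal.span ({F, -(C (3 : k) * X 0 ^ 2), C (2 : k) * X 1} : Set (MvPolynomial (Fin 2) k)) := by
    rw [pow_one]; exact unit_mem e2 hY
  by_cases h3 : p = 3
  · subst h3
    have e3 : (3 : k) = 0 := by exact_mod_cast (CharP.cast_eq_zero k 3)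
    rw [if_pos rfl]
    refine key 3 1 ?_ ?_ ?_ ?_ hY'
    · exact sub_mem (Ideal.pow_mem_of_pow_mem _ (m1 3 1) (by omega)) (m0 3 1)
    · rw [e3, map_zero, zero_mul]; exact zero_mem _
    · exact Ideal.mul_mem_left _ _ (by simpa using m1 3 1)
    · have : (X 0 : MvPolynomial (Fin 2) k) ^ 3 = X 1 * X 1 ^ 1 - F := by rw [hF]; ring
      rw [this]; exact sub_mem (Ideal.mul_mem_left _ _ hY') hF'
  rw [if_neg h3]
  have e3 : (3 : k) ≠ 0 := by
    intro h
    have := (CharP.cast_eq_zero_iff k p 3).1 (by exact_mod_cast h)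
    rcases (Nat.dvd_prime Nat.prime_three).1 this with h1 | h1
    · exact CharP.char_ne_one k p h1
    · exact h3 h1
  refine key 2 1 ?_ ?_ ?_ (unit_mem e3 hX) hY'
  · exact sub_mem (Ideal.pow_mem_of_pow_mem _ (m1 2 1) (by omega)) (Ideal.pow_mem_of_pow_mem _ (m0 2 1) (by omega))
  · exact Ideal.mul_mem_left _ _ (m0 2 1)
  · exact Ideal.mul_mem_left _ _ (by simpa using m1 2 1)

end Groth.Agent.S19176
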