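import Groth.Statements.S19177
import Mathlib.RingTheory.Spectrum.Prime.FreeLocus
import Mathlib.RingTheory.Nakayama
import Mathlib.Algebra.Module.Projective
import Mathlib.LinearAlgebra.DFinsupp
import Mathlib.RingTheory.Flat.Rank

set_option autoImplicit false
universe u
open CAlg

namespace Groth.Agent.S19177

/-- Let S → R be a homomorphism of commutative rings making R a finitely generated projective S-module
of rank 2 at every prime of S (the affine form of a finite locally free morphism of degree 2). Then
the cokernel of the (injective) structure map S → R, the S-module R/S, is a projective S-module of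
rank 1 at every prime of S (locally free of rank 1). -/
theorem result
    (S R : Type u) [CommRing S] [CommRing R] [Algebra S R] [Module.Finite S R] [Module.Projective S R]
    (h2 : ∀ p : PrimeSpectrum S, Module.rankAtStalk (R := S) R p = 2) :
    Module.Projective S (R ⧸ LinearMap.range (Algebra.linearMap S R)) ∧
      ∀ p : PrimeSpectrum S,
        Module.rankAtStalk (R := S) (R ⧸ LinearMap.range (Algebra.linearMap S R)) p = 1 := by
  classical
  cases subsingleton_or_nontrivial S
  · haveI := Module.subsingleton S (R ⧸ LinearMap.range (Algebra.linearMap S R))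
    haveI := Module.Free.of_subsingleton S (R ⧸ LinearMap.range (Algebra.linearMap S R))
    exact ⟨Module.Projective.of_free, fun p => (p.isPrime.ne_top (Subsingleton.elim _ _)).elim⟩
  -- a retraction
  obtain ⟨φ, hφ⟩ : ∃ φ : R →ₗ[S] S, φ 1 = 1 := by
    by_contra hne
    have hI : LinearMap.range (LinearMap.applyₗ (R := S) (M₂ := S) (1 : R)) ≠ ⊤ := fun h => by
      obtain ⟨φ, hφ⟩ : (1 : S) ∈ LinearMap.range (LinearMap.applyₗ (R := S) (M₂ := S) (1 : R)) := h ▸ trivial
      exact hne ⟨φ, hφ⟩
    obtain ⟨m, hm, hle⟩ := Ideal.exists_le_maximal _ hI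
    obtain ⟨s, hs⟩ := Module.projective_def'.1 ‹Module.Projective S R›
    have h1 : (1 : R) ∈ m • (⊤ : Submodule S R) := by
      rw [show (1 : R) = Finsupp.linearCombination S id (s 1) from (LinearMap.congr_fun hs 1).symm,
        Finsupp.linearCombination_apply]
      refine Submodule.sum_mem _ fun r _ => Submodule.smul_mem_smul (hle ?_) trivial
      exact ⟨Finsupp.lapply r ∘ₗ s, rfl⟩
    obtain ⟨⟨Q, _⟩, hQ⟩ := (PrimeSpectrum.rankAtStalk_pos_iff_mem_range_comap (S := R) ⟨m, hm.isPrime⟩).1
      (by rw [h2]; norm_num)
    refine (inferInstance : Q.IsPrime).ne_top ((Ideal.eq_top_iff_one _).2 ?_)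
    rw [← Submodule.restrictScalars_mem S]
    refine Submodule.smul_le.2 (fun a ha r _ => ?_) h1
    rw [Submodule.restrictScalars_mem, Algebra.smul_def]
    refine Ideal.mul_mem_right _ _ ?_
    have := congrArg PrimeSpectrum.asIdeal hQ
    rw [PrimeSpectrum.comap_asIdeal] at this
    exact (this.symm ▸ ha : a ∈ Q.comap (algebraMap S R))
  set L := LinearMap.range (Algebra.linearMap S R) with hL
  let toK : R →ₗ[S] R := LinearMap.id - Algebra.linearMap S R ∘ₗ φ
  have hker : L ≤ LinearMap.ker toK := by
    rintro _ ⟨x, rfl⟩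
    simp [toK, Algebra.algebraMap_eq_smul_one, hφ]
  let sec : (R ⧸ L) →ₗ[S] R := L.liftQ toK hker
  have hsec : L.mkQ ∘ₗ sec = LinearMap.id := by
    refine Submodule.linearMap_qext _ (LinearMap.ext fun x => ?_)
    simp only [LinearMap.comp_apply, LinearMap.id_apply, sec, Submodule.liftQ_mkQ, Submodule.mkQ_apply,
      Submodule.liftQ_apply]
    rw [Submodule.Quotient.eq]
    refine ⟨- φ x, ?_⟩
    simp [toK]
  have hproj : Module.Projective S (R ⧸ L) := Module.Projective.of_split sec L.mkQ hsec
  refine ⟨hproj, fun p => ?_⟩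
  let e : R ≃ₗ[S] S × (R ⧸ L) := LinearEquiv.ofLinear (φ.prod L.mkQ)
    (LinearMap.coprod (Algebra.linearMap S R) sec)
    (LinearMap.prod_ext (by
        refine LinearMap.ext_ring (Prod.ext ?_ ?_)
        · simp [hφ]
        · simp [Submodule.Quotient.mk_eq_zero, hL]
          exact ⟨1, map_one _⟩)
      (LinearMap.ext fun y => Prod.ext (by
        obtain ⟨x, rfl⟩ := L.mkQ_surjective y
        simp [sec, toK, Algebra.algebraMap_eq_smul_one, hφ]) (by
        simpa using LinearMap.congr_fun hsec y)))
    (LinearMap.ext fun x => by simp [sec, toK])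
  have h := h2 p
  rw [Module.rankAtStalk_eq_of_equiv e, Module.rankAtStalk_prod, Pi.add_apply, Module.rankAtStalk_self,
    Pi.one_apply] at h
  omega

end Groth.Agent.S19177
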