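import Groth.Statements.S19178
import Mathlib.Algebra.Polynomial.SpecificDegree
import Mathlib.RingTheory.MvPolynomial.Basic
import Mathlib.Tactic.LinearCombination
import Mathlib.Algebra.MvPolynomial.Equiv
-- import your own Groth.Agent.* helpers here

set_option autoImplicit false
universe u
open Curves

namespace Groth.Agent.S19178

/-- For every field k and every choice of coefficients a₁, a₂, a₃, a₄, a₆ in k, the homogeneous
Weierstrass cubic Y²Z + a₁XYZ + a₃YZ² − (X³ + a₂X²Z + a₄XZ² + a₆Z³) is an irreducible polynomial in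
k[X, Y, Z]. Applied to all fields, this says every fibre of the Weierstrass family over the affine
space of coefficients is geometrically integral. -/
theorem result (k : Type u) [Field k]
    (W : WeierstrassCurve k) :
    Irreducible (WeierstrassCurve.Projective.polynomial W) := by
  classical
  let y : MvPolynomial (Fin 2) k := MvPolynomial.X 0
  let z : MvPolynomial (Fin 2) k := MvPolynomial.X 1
  let a (c : k) : MvPolynomial (Fin 2) k := MvPolynomial.C c
  let p : Polynomial (MvPolynomial (Fin 2) k) := Polynomial.X ^ 3 + (Polynomial.C (a W.a₂ * z) * Polynomial.X ^ 2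
    + Polynomial.C (a W.a₄ * z ^ 2 - a W.a₁ * y * z) * Polynomial.X
    + Polynomial.C (a W.a₆ * z ^ 3 - y ^ 2 * z - a W.a₃ * y * z ^ 2))
  have hp : MvPolynomial.finSuccEquiv k 2 (-WeierstrassCurve.Projective.polynomial W) = p := by
    have hC : ∀ c : k, MvPolynomial.finSuccEquiv k 2 (MvPolynomial.C c) = Polynomial.C (a c) := fun c => by
      simp [MvPolynomial.finSuccEquiv_apply, a]
    have h0 : MvPolynomial.finSuccEquiv k 2 (MvPolynomial.X 0) = Polynomial.X := MvPolynomial.finSuccEquiv_X_zero
    have h1 : MvPolynomial.finSuccEquiv k 2 (MvPolynomial.X 1) = Polynomial.C y :=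
      MvPolynomial.finSuccEquiv_X_succ (j := 0)
    have h2 : MvPolynomial.finSuccEquiv k 2 (MvPolynomial.X 2) = Polynomial.C z :=
      MvPolynomial.finSuccEquiv_X_succ (j := 1)
    rw [WeierstrassCurve.Projective.polynomial]
    simp only [map_neg, map_sub, map_add, map_mul, map_pow, hC, h0, h1, h2, p]
    ring
  have hdeg : (Polynomial.C (a W.a₂ * z) * Polynomial.X ^ 2
    + Polynomial.C (a W.a₄ * z ^ 2 - a W.a₁ * y * z) * Polynomial.X
    + Polynomial.C (a W.a₆ * z ^ 3 - y ^ 2 * z - a W.a₃ * y * z ^ 2)).degree < ((3 : ℕ) : WithBot ℕ) := by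
    exact lt_of_le_of_lt Polynomial.degree_quadratic_le (by norm_num)
  have hm : p.Monic := Polynomial.monic_X_pow_add hdeg
  have hn : p.natDegree = 3 := by
    apply Polynomial.natDegree_eq_of_degree_eq_some
    show (Polynomial.X ^ 3 + _).degree = _
    rw [Polynomial.degree_add_eq_left_of_degree_lt (by rwa [Polynomial.degree_X_pow]), Polynomial.degree_X_pow]
  have hirr : Irreducible p := by
    rw [hm.irreducible_iff_roots_eq_zero_of_degree_le_three (by omega) (by omega)]
    refine Multiset.eq_zero_of_forall_notMem fun r hr => ?_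
    have hr0 := (Polynomial.mem_roots'.mp hr).2
    simp only [Polynomial.IsRoot, p, Polynomial.eval_add, Polynomial.eval_mul, Polynomial.eval_pow, Polynomial.eval_C, Polynomial.eval_X] at hr0
    let σ : MvPolynomial (Fin 2) k →ₐ[k] Polynomial k := MvPolynomial.aeval ![1, Polynomial.X]
    have h := congrArg σ hr0
    simp only [σ, a, y, z, map_add, map_sub, map_mul, map_pow, map_zero, MvPolynomial.aeval_X, MvPolynomial.aeval_C,
      Matrix.cons_val_zero, Matrix.cons_val_one, Matrix.head_cons, Polynomial.algebraMap_apply, Algebra.algebraMap_self,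
      RingHom.id_apply] at h
    set R := MvPolynomial.aeval ![(1 : Polynomial k), Polynomial.X] r with hR
    have hR0 : R.eval 0 = 0 := by
      have h' := congrArg (Polynomial.eval (0 : k)) h
      simpa using h'
    obtain ⟨q, hq⟩ : Polynomial.X ∣ R := Polynomial.X_dvd_iff.mpr (by rw [Polynomial.coeff_zero_eq_eval_zero, hR0])
    rw [hq] at h
    have hf : (Polynomial.X * q ^ 3 + Polynomial.C W.a₂ * q ^ 2 * Polynomial.X + (Polynomial.C W.a₄ * Polynomial.X - Polynomial.C W.a₁) * q
        + Polynomial.C W.a₆ * Polynomial.X - Polynomial.C W.a₃) * Polynomial.X = 1 := by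
      apply mul_left_cancel₀ (Polynomial.X_ne_zero (R := k))
      linear_combination h
    have := congrArg (Polynomial.eval (0 : k)) hf
    simp at this
  have := (MulEquiv.irreducible_iff (MvPolynomial.finSuccEquiv k 2).toMulEquiv (x := -WeierstrassCurve.Projective.polynomial W)).mp (by
    show Irreducible (MvPolynomial.finSuccEquiv k 2 (-WeierstrassCurve.Projective.polynomial W))
    rw [hp]; exact hirr)
  exact (Associated.irreducible_iff (Associated.neg_left (Associated.refl _))).mp this

end Groth.Agent.S19178
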