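import Groth.Statements.S1918
import Mathlib
import Groth.Agent.CycSeqLib.MayerVietoris
-- import your own Groth.Agent.* helpers here

set_option autoImplicit false
universe u
open CategoryTheory AlgebraicGeometry
open CategoryTheory.Limits
open Cyc

namespace Groth.Agent.S1918

/-- Mayer–Vietoris for Chow groups, exactness in the middle: let i₁ : X₁ → X, i₂ : X₂ → X be closed
immersions covering X set-theoretically and X₁₂ = X₁ ×_X X₂ their scheme-theoretic intersection. If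
k-cycles α₁ on X₁ and α₂ on X₂ have rationally equivalent pushforwards on X, then there is a k-cycle
β on X₁₂ with α₁ ∼_rat (pr₁)_*β on X₁ and α₂ ∼_rat (pr₂)_*β on X₂. (The published statement also
asserts that CH_k(X₁) ⊕ CH_k(X₂) → CH_k(X) is surjective; that is not asserted here.) Here a pair
(X, δ) with Cyc.IsSetup plays the role of a scheme locally of finite type over a fixed base with a
dimension function (X locally Noetherian with universally catenary local rings, δ a dimension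
function). -/
theorem result (X : Scheme.{u}) (δ : X → ℤ) (hX : Cyc.IsSetup X δ) (X₁ X₂ : Scheme.{u}) (i₁ : X₁ ⟶ X) (i₂ : X₂ ⟶ X) [IsClosedImmersion i₁] [IsClosedImmersion i₂] (hcov : Set.range ⇑i₁ ∪ Set.range ⇑i₂ = Set.univ) (k : ℤ) (α₁ : AlgebraicCycle X₁ ℤ) (α₂ : AlgebraicCycle X₂ ℤ) (h₁ : α₁ ∈ Cyc.Zk X₁ (fun x => δ (i₁ x)) k) (h₂ : α₂ ∈ Cyc.Zk X₂ (fun x => δ (i₂ x)) k) (h : Cyc.RatEquiv δ k (AlgebraicCycle.map i₁ (fun x => δ (i₁ x)) δ α₁) (AlgebraicCycle.map i₂ (fun x => δ (i₂ x)) δ α₂)) : ∃ β : AlgebraicCycle (pullback i₁ i₂) ℤ, β ∈ Cyc.Zk (pullback i₁ i₂) (fun z => δ (i₁ (pullback.fst i₁ i₂ z))) k ∧ Cyc.RatEquiv (fun x => δ (i₁ x)) k α₁ (AlgebraicCycle.map (pullback.fst i₁ i₂) (fun z => δ (i₁ (pullback.fst i₁ i₂ z))) (fun x => δ (i₁ x)) β) ∧ Cyc.RatEquiv (fun x => δ (i₂ x)) k α₂ (AlgebraicCycle.map (pullback.snd i₁ i₂) (fun z => δ (i₁ (pullback.fst i₁ i₂ z))) (fun x => δ (i₂ x)) β) := by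
  have hr : Set.range i₁ ∩ Set.range i₂ ⊆ Set.range (pullback.fst i₁ i₂ ≫ i₁) := by
    rintro x ⟨⟨a, rfl⟩, b, hb⟩
    obtain ⟨z, hz, -⟩ := Scheme.Pullback.exists_preimage_pullback a b hb.symm
    exact ⟨z, by rw [Scheme.Hom.comp_apply, hz]⟩
  obtain ⟨γ, hγ, e₁, e₂⟩ := CycSeqLib.exists_inter hX i₁ i₂ hcov (pullback.fst i₁ i₂) (pullback.snd i₁ i₂)
    pullback.condition hr α₁ (-α₂) h₁
    (fun x hx => by show -α₂ x = 0; rw [h₂ x hx, neg_zero])
    (by rw [Bivar.cycMap_neg, ← sub_eq_add_neg]; exact h)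
  refine ⟨γ, hγ, e₁, ?_⟩
  refine CycCommLib.ratEquivZero_neg (CycPushLib.setup_of_closedImmersion i₂ hX).1 e₂ fun x => ?_
  show α₂ x - _ = -(-α₂ x - -_)
  ring

end Groth.Agent.S1918
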