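import Groth.Statements.S19180
import Mathlib
import Groth.Agent.PnCohLib.Twist
import Groth.Agent.AmpleDevLib.Devissage
import Groth.Agent.QCohLib.Gen
-- import your own Groth.Agent.* helpers here

set_option autoImplicit false
universe u
open Coherent

namespace Groth.Agent.S19180

open CategoryTheory AlgebraicGeometry in
/-- Let R be a local ring and m ≥ 1, and consider the projective line P¹_R with its structure sheaf O
and twisting sheaf O(m). For every O-module F and every short exact sequence 0 → O(m) → F → O → 0 of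
O-modules, the surjection F → O admits a section; consequently F is isomorphic to O(m) ⊕ O. -/
theorem result (R : Type u) [CommRing R] [IsLocalRing R]
    (m : ℕ) (hm : 1 ≤ m) (F : (CohB1.ProjSpace 1 R).Modules)
    (i : Twist.twistProjSpace 1 R (m : ℤ) ⟶ F) (p : F ⟶ Coh.structureModule (CohB1.ProjSpace 1 R))
    (w : i ≫ p = 0) (hex : (ShortComplex.mk i p w).ShortExact) :
    ∃ s : Coh.structureModule (CohB1.ProjSpace 1 R) ⟶ F, s ≫ p = 𝟙 _ := by
  have hA : ((ShortComplex.mk i p w).map (QCohLib.toAbF _)).ShortExact := QCohLib.toAbF_shortExact hex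
  haveI : Subsingleton (QCohLib.HU ((ShortComplex.mk i p w).map (QCohLib.toAbF _)).X₁ 1 ⊤) :=
    AmpleDevLib.hu_of_hh (PnCohLib.subsingleton_HH_twist (m : ℤ) 1 (fun h => by omega) (fun h => by omega))
  obtain ⟨t, ht⟩ := (QCohLib.delta0_eq_zero_iff hA ⊤ (1 : Γ(CohB1.ProjSpace 1 R, ⊤))).1 (Subsingleton.elim _ _)
  refine ⟨QCohLib.unitHom F t, Scheme.Modules.hom_ext _ _ fun V => AddCommGrpCat.hom_ext (AddMonoidHom.ext fun r => ?_)⟩
  have h1 : p.app V (F.presheaf.map (homOfLE (le_top : V ≤ ⊤)).op t) =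
      (CohB1.ProjSpace 1 R).presheaf.map (homOfLE (le_top : V ≤ ⊤)).op (1 : Γ(CohB1.ProjSpace 1 R, ⊤)) :=
    (QCohLib.app_map p (homOfLE (le_top : V ≤ ⊤)) t).trans
      (congrArg (fun z => (Coh.structureModule (CohB1.ProjSpace 1 R)).presheaf.map (homOfLE (le_top : V ≤ ⊤)).op z) ht)
  refine ((congrArg (fun z => p.app V z) (QCohLib.unitHom_app F t V r)).trans (QCohLib.app_smul p V r _)).trans ?_
  erw [h1, map_one]
  exact mul_one (show Γ(CohB1.ProjSpace 1 R, V) from r)

end Groth.Agent.S19180
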