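import Groth.Statements.S19182
import Mathlib


-- import your own Groth.Agent.* helpers here

set_option autoImplicit false
universe u
open CAlg

namespace Groth.Agent.S19182

open MvPolynomial in
/-- Let R be a commutative ring and a₁, a₂ ∈ R. The two affine charts of the blow-up of the plane curve
y² + a₁xy = x³ + a₂x² at the section x = y = 0, with coordinate rings R[y, α]/(1 + a₁α − yα³ − a₂α²)
and R[x, β]/(β² + a₁β − x − a₂) (variables indexed 0 and 1 in this order), are smooth R-algebras
(formally smooth of finite presentation). This is the local computation behind the statement that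
the blow-up of a Weierstrass curve along a section through its singular locus is a smooth proper
curve of genus 0. -/
theorem result (R : Type u) [CommRing R] (a₁ a₂ : R) :
    Algebra.Smooth R (MvPolynomial (Fin 2) R ⧸
      Ideal.span ({1 + C a₁ * X 1 - X 0 * X 1 ^ 3 - C a₂ * X 1 ^ 2} : Set (MvPolynomial (Fin 2) R))) ∧
    Algebra.Smooth R (MvPolynomial (Fin 2) R ⧸
      Ideal.span ({X 1 ^ 2 + C a₁ * X 1 - X 0 - C a₂} : Set (MvPolynomial (Fin 2) R))) := by
  haveI : Algebra.Smooth R (Polynomial R) :=
    haveI : Algebra.Smooth R (MvPolynomial (Fin 1) R) := ⟨inferInstance, inferInstance⟩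
    Algebra.Smooth.of_equiv (MvPolynomial.uniqueAlgEquiv R (Fin 1))
  constructor
  · let f : MvPolynomial (Fin 2) R := 1 + C a₁ * X 1 - X 0 * X 1 ^ 3 - C a₂ * X 1 ^ 2
    let P := MvPolynomial (Fin 2) R ⧸ Ideal.span ({f} : Set (MvPolynomial (Fin 2) R))
    let L := Localization.Away (Polynomial.X : Polynomial R)
    let t : L := algebraMap (Polynomial R) L Polynomial.X
    have ht : IsUnit t := IsLocalization.Away.algebraMap_isUnit _
    let ti : L := ↑ht.unit⁻¹
    have hti : t * ti = 1 := ht.mul_val_inv
    let y : L := (1 + algebraMap R L a₁ * t - algebraMap R L a₂ * t ^ 2) * ti ^ 3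
    let φ : P →ₐ[R] L := Ideal.Quotient.liftₐ _ (aeval ![y, t]) (by
      intro z hz
      obtain ⟨c, rfl⟩ := Ideal.mem_span_singleton'.mp hz
      have : aeval ![y, t] f = 0 := by
        simp only [f, map_sub, map_add, map_mul, map_one, map_pow, aeval_X, aeval_C, Matrix.cons_val_zero, Matrix.cons_val_one]
        linear_combination (-(1 + algebraMap R L a₁ * t - algebraMap R L a₂ * t ^ 2) * (1 + t * ti + t ^ 2 * ti ^ 2)) * hti
      rw [map_mul, this, mul_zero])
    let α : P := Ideal.Quotient.mk _ (X 1)
    let Y : P := Ideal.Quotient.mk _ (X 0)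
    have hrel : 1 + algebraMap R P a₁ * α - Y * α ^ 3 - algebraMap R P a₂ * α ^ 2 = 0 := by
      have h : Ideal.Quotient.mk (Ideal.span ({f} : Set (MvPolynomial (Fin 2) R))) f = 0 :=
        Ideal.Quotient.eq_zero_iff_mem.mpr (Ideal.subset_span rfl)
      simp only [f, map_sub, map_add, map_mul, map_one, map_pow] at h
      exact h
    have hα : IsUnit α := IsUnit.of_mul_eq_one (a := α) (Y * α ^ 2 + algebraMap R P a₂ * α - algebraMap R P a₁) (by linear_combination -hrel)
    have hα' : IsUnit (Polynomial.aeval α (Polynomial.X : Polynomial R)) := by rwa [Polynomial.aeval_X]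
    let ψ : L →ₐ[R] P := IsLocalization.liftAlgHom (M := Submonoid.powers (Polynomial.X : Polynomial R))
      (f := Polynomial.aeval α) (fun z => by obtain ⟨k, hk⟩ := z.2; rw [← hk, map_pow]; exact hα'.pow k)
    have hψt : ψ t = α := by
      show IsLocalization.lift _ (algebraMap _ L Polynomial.X) = α
      rw [IsLocalization.lift_eq]
      exact Polynomial.aeval_X α
    have hφα : φ α = t := by
      show aeval ![y, t] (X 1) = t
      simp
    have h1 : φ.comp ψ = AlgHom.id R L := by
      refine IsLocalization.algHom_ext (Submonoid.powers (Polynomial.X : Polynomial R)) (Polynomial.algHom_ext ?_)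
      show φ (ψ t) = t
      rw [hψt, hφα]
    have h2 : ψ.comp φ = AlgHom.id R P := by
      refine Ideal.Quotient.algHom_ext _ (MvPolynomial.algHom_ext fun i => ?_)
      fin_cases i
      · show ψ (φ Y) = Y
        have hφY : φ Y = y := by show aeval ![y, t] (X 0) = y; simp
        have hinv : α * ψ ti = 1 := by rw [← hψt, ← map_mul, hti, map_one]
        rw [hφY]
        simp only [y, map_mul, map_sub, map_add, map_one, map_pow, AlgHom.commutes, hψt]
        linear_combination (ψ ti) ^ 3 * hrel + Y * (α ^ 2 * ψ ti ^ 2 + α * ψ ti + 1) * hinv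
      · show ψ (φ α) = α
        rw [hφα, hψt]
    haveI : Algebra.Smooth (Polynomial R) L := inferInstance
    haveI : Algebra.Smooth R L := Algebra.Smooth.comp R (Polynomial R) L
    exact Algebra.Smooth.of_equiv (AlgEquiv.ofAlgHom ψ φ h2 h1)
  · let g : MvPolynomial (Fin 2) R := X 1 ^ 2 + C a₁ * X 1 - X 0 - C a₂
    let P := MvPolynomial (Fin 2) R ⧸ Ideal.span ({g} : Set (MvPolynomial (Fin 2) R))
    let x : Polynomial R := Polynomial.X ^ 2 + Polynomial.C a₁ * Polynomial.X - Polynomial.C a₂
    let φ : P →ₐ[R] Polynomial R := Ideal.Quotient.liftₐ _ (aeval ![x, Polynomial.X]) (by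
      intro z hz
      obtain ⟨c, rfl⟩ := Ideal.mem_span_singleton'.mp hz
      have : aeval ![x, Polynomial.X] g = 0 := by
        simp only [g, x, map_sub, map_add, map_mul, map_pow, aeval_X, aeval_C, Matrix.cons_val_zero, Matrix.cons_val_one, Polynomial.algebraMap_eq]
        ring
      rw [map_mul, this, mul_zero])
    let ψ : Polynomial R →ₐ[R] P := Polynomial.aeval (Ideal.Quotient.mk _ (X 1) : P)
    have h1 : φ.comp ψ = AlgHom.id R _ := Polynomial.algHom_ext (by
      show φ (ψ Polynomial.X) = _
      simp only [ψ, Polynomial.aeval_X]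
      show aeval ![x, Polynomial.X] (X 1) = _
      simp)
    have h2 : ψ.comp φ = AlgHom.id R P := by
      refine Ideal.Quotient.algHom_ext _ (MvPolynomial.algHom_ext fun i => ?_)
      fin_cases i
      · show ψ (aeval ![x, Polynomial.X] (X 0)) = Ideal.Quotient.mk _ (X 0)
        rw [aeval_X, Matrix.cons_val_zero]
        simp only [x, ψ, map_sub, map_add, map_mul, map_pow, Polynomial.aeval_X, Polynomial.aeval_C]
        show Ideal.Quotient.mk (Ideal.span {g}) (X 1) ^ 2 + Ideal.Quotient.mk _ (C a₁) * Ideal.Quotient.mk _ (X 1) - Ideal.Quotient.mk _ (C a₂) = _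
        rw [← map_pow, ← map_mul, ← map_add, ← map_sub, Ideal.Quotient.eq]
        exact Ideal.mem_span_singleton'.mpr ⟨1, by simp only [g]; ring⟩
      · show ψ (aeval ![x, Polynomial.X] (X 1)) = Ideal.Quotient.mk _ (X 1)
        simp [ψ]
    exact Algebra.Smooth.of_equiv (AlgEquiv.ofAlgHom ψ φ h2 h1)

end Groth.Agent.S19182
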