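import Groth.Statements.S19183
import Mathlib.LinearAlgebra.Dimension.Constructions
import Mathlib.LinearAlgebra.Dimension.StrongRankCondition
import Mathlib.RingTheory.Ideal.Span
import Mathlib.LinearAlgebra.FreeModule.Basic
import Mathlib.LinearAlgebra.FreeModule.StrongRankCondition

set_option autoImplicit false
universe u
open CAlg

namespace Groth.Agent.S19183

/-- Let A be a non-zero commutative ring and f ∈ A a non-zero-divisor. The fibre product A ×_{A/(f)} A
of two copies of A over A/(f) — the A-submodule of A × A of pairs (x, y) with x − y ∈ (f), which is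
the coordinate ring of two copies of Spec A glued along the Cartier divisor f = 0 — is a free
A-module of rank 2. (This is what makes the gluing of two copies of a curve along an effective
Cartier divisor finite locally free of degree 2 over the curve.) -/
theorem result (A : Type u) [CommRing A] [Nontrivial A]
    (f : A) (hf : f ∈ nonZeroDivisors A) :
    Module.Free A (Submodule.comap (LinearMap.fst A A A - LinearMap.snd A A A) (Ideal.span ({f} : Set A))) ∧
      Module.finrank A (Submodule.comap (LinearMap.fst A A A - LinearMap.snd A A A) (Ideal.span ({f} : Set A))) = 2 := by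
  let W := Submodule.comap (LinearMap.fst A A A - LinearMap.snd A A A) (Ideal.span ({f} : Set A))
  let L : A × A →ₗ[A] W := LinearMap.codRestrict W
    (LinearMap.prod (LinearMap.fst A A A + f • LinearMap.snd A A A) (LinearMap.fst A A A)) fun x => by
      show _ - _ ∈ Ideal.span {f}
      exact Ideal.mem_span_singleton'.2 ⟨x.2, by simp [mul_comm]⟩
  have hL : Function.Bijective L := by
    refine ⟨fun x y hxy => ?_, fun z => ?_⟩
    · have h1 := congrArg (fun z : W => (z : A × A)) hxy
      simp [L] at h1
      obtain ⟨h1, h2⟩ := h1
      refine Prod.ext h2 (mem_nonZeroDivisors_iff.1 hf |>.1 _ ?_ |> sub_eq_zero.1)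
      rw [h2] at h1
      rw [mul_sub, sub_eq_zero]
      exact add_left_cancel h1
    · obtain ⟨⟨u, v⟩, hz⟩ := z
      obtain ⟨c, hc⟩ := Ideal.mem_span_singleton'.1 (show u - v ∈ Ideal.span {f} from hz)
      exact ⟨(v, c), Subtype.ext (Prod.ext (by simp [L]; rw [mul_comm, hc]; ring) rfl)⟩
  let e := LinearEquiv.ofBijective L hL
  exact ⟨Module.Free.of_equiv e, by rw [← e.finrank_eq, Module.finrank_prod, Module.finrank_self]⟩

end Groth.Agent.S19183
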