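import Groth.Statements.S19184
import Mathlib.Algebra.Polynomial.Div
import Mathlib.RingTheory.Finiteness.Basic
import Mathlib.RingTheory.AdjoinRoot
import Mathlib.LinearAlgebra.FreeModule.Basic
import Mathlib.Algebra.Polynomial.Basis

set_option autoImplicit false
universe u
open CAlg

namespace Groth.Agent.S19184

open Polynomial in
/-- Let S be a commutative ring, a, b ∈ S, f = x² + ax + b ∈ S[x] and R = S[x]/(f), a free S-algebra of
rank 2. Let A ⊂ S[x] be the S-subalgebra of polynomials whose class in R lies in the image of S → R;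
it is the fibre product S[x] ×_R S, the coordinate ring of the affine line over S with the degree-2
subscheme Spec R collapsed onto Spec S. Then A is a free S-module and S[x] is a finitely generated
A-module. -/
theorem result (S : Type u) [CommRing S] (a b : S) :
    Module.Free S ((⊥ : Subalgebra S (S[X] ⧸ Ideal.span ({X ^ 2 + C a * X + C b} : Set S[X]))).comap
        (Ideal.Quotient.mkₐ S (Ideal.span ({X ^ 2 + C a * X + C b} : Set S[X])))) ∧
      Module.Finite ((⊥ : Subalgebra S (S[X] ⧸ Ideal.span ({X ^ 2 + C a * X + C b} : Set S[X]))).comap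
        (Ideal.Quotient.mkₐ S (Ideal.span ({X ^ 2 + C a * X + C b} : Set S[X])))) S[X] := by
  set f : S[X] := X ^ 2 + C a * X + C b with hfdef
  set A : Subalgebra S S[X] := (⊥ : Subalgebra S (S[X] ⧸ Ideal.span ({f} : Set S[X]))).comap
    (Ideal.Quotient.mkₐ S (Ideal.span ({f} : Set S[X]))) with hA
  have hmem : ∀ g : S[X], g ∈ A ↔ ∃ c h, g = C c + f * h := fun g => by
    constructor
    · intro hg
      obtain ⟨c, hc⟩ := hg
      change Ideal.Quotient.mk _ (C c) = Ideal.Quotient.mk _ g at hc
      rw [Ideal.Quotient.eq, Ideal.mem_span_singleton'] at hc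
      obtain ⟨h, hh⟩ := hc
      exact ⟨c, -h, by linear_combination hh⟩
    · rintro ⟨c, h, rfl⟩
      refine ⟨c, ?_⟩
      show Ideal.Quotient.mk _ (C c) = Ideal.Quotient.mk _ _
      rw [Ideal.Quotient.eq, Ideal.mem_span_singleton']
      exact ⟨-h, by ring⟩
  constructor
  · cases subsingleton_or_nontrivial S
    · haveI := Module.subsingleton S A
      exact Module.Free.of_subsingleton S A
    have hmon : f.Monic := by
      rw [hfdef]
      monicity!
    have hdeg : f.degree = 2 := by
      rw [hfdef]
      compute_degree!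
    let L : S × S[X] →ₗ[S] Subalgebra.toSubmodule A := LinearMap.codRestrict (Subalgebra.toSubmodule A)
      (LinearMap.coprod (Algebra.linearMap S S[X]) (LinearMap.mulLeft S f))
      (fun x => (hmem _).2 ⟨x.1, x.2, rfl⟩)
    have hL : Function.Bijective L := by
      refine ⟨fun x y hxy => ?_, fun z => ?_⟩
      · have h1 : C x.1 + f * x.2 = C y.1 + f * y.2 := congrArg (fun z : Subalgebra.toSubmodule A => (z : S[X])) hxy
        have hlt : ∀ c : S, (C c).degree < f.degree := fun c =>
          lt_of_le_of_lt degree_C_le (by rw [hdeg]; decide)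
        obtain ⟨h2, h3⟩ := div_modByMonic_unique x.2 (C x.1) hmon ⟨rfl, hlt _⟩
        obtain ⟨h4, h5⟩ := div_modByMonic_unique y.2 (C y.1) hmon ⟨h1.symm, hlt _⟩
        exact Prod.ext (C_injective (h3.symm.trans h5)) (h2.symm.trans h4)
      · obtain ⟨c, h, hch⟩ := (hmem _).1 z.2
        exact ⟨(c, h), Subtype.ext hch.symm⟩
    exact Module.Free.of_equiv (LinearEquiv.ofBijective L hL)
  · refine ⟨Submodule.fg_def.2 ⟨{1, X}, Set.toFinite _, eq_top_iff.2 fun g _ => ?_⟩⟩
    set N := Submodule.span A ({1, X} : Set S[X])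
    have h1 : (1 : S[X]) ∈ N := Submodule.subset_span (Set.mem_insert _ _)
    have hX : (X : S[X]) ∈ N := Submodule.subset_span (Set.mem_insert_of_mem _ rfl)
    have hC : ∀ (c : S) (y : S[X]), y ∈ N → C c * y ∈ N := fun c y hy =>
      N.smul_mem (⟨C c, (hmem _).2 ⟨c, 0, by simp⟩⟩ : A) hy
    have hpow : ∀ m, (X : S[X]) ^ m ∈ N ∧ (X : S[X]) ^ (m + 1) ∈ N := by
      intro m
      induction m with
      | zero => exact ⟨by rwa [pow_zero], by rwa [zero_add, pow_one]⟩
      | succ m ih =>
        refine ⟨ih.2, ?_⟩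
        have h2 : f * X ^ m ∈ N := N.smul_mem (⟨f, (hmem _).2 ⟨0, 1, by simp⟩⟩ : A) ih.1
        rw [show (X : S[X]) ^ (m + 1 + 1) = f * X ^ m - C a * X ^ (m + 1) - C b * X ^ m by rw [hfdef]; ring]
        exact sub_mem (sub_mem h2 (hC a _ ih.2)) (hC b _ ih.1)
    induction g using Polynomial.induction_on' with
    | add p q hp hq => exact add_mem (hp trivial) (hq trivial)
    | monomial m c => rw [← C_mul_X_pow_eq_monomial]; exact hC c _ (hpow m).1

end Groth.Agent.S19184
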