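import Groth.Statements.S19185
import Groth.Agent.CIGenLib.HypSmooth

set_option autoImplicit false
universe u
open Curves

namespace Groth.Agent.S19185
open Polynomial

section

variable {k : Type u} [Field k]

/-- Polynomials in the first variable. -/
noncomputable def emb : k[X] →ₐ[k] MvPolynomial (Fin 2) k := Polynomial.aeval (MvPolynomial.X 0)

/-- The chart equation `f(x) + g(x) y`. -/
noncomputable def F (f g : k[X]) : MvPolynomial (Fin 2) k := emb f + emb g * MvPolynomial.X 1

theorem pderiv_one_emb (f : k[X]) : MvPolynomial.pderiv 1 (emb f) = 0 := by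
  induction f using Polynomial.induction_on' with
  | add p q hp hq => simp_all [emb]
  | monomial n a => simp [emb, MvPolynomial.algebraMap_eq, MvPolynomial.pderiv_mul, MvPolynomial.pderiv_X_of_ne]

theorem pderiv_zero_emb (f : k[X]) : MvPolynomial.pderiv 0 (emb f) = emb (derivative f) := by
  induction f using Polynomial.induction_on' with
  | add p q hp hq => simp_all [emb]
  | monomial n a =>
    simp [emb, MvPolynomial.algebraMap_eq, MvPolynomial.pderiv_mul, Polynomial.derivative_monomial]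
    ring

theorem pderiv_one_F (f g : k[X]) : MvPolynomial.pderiv 1 (F f g) = emb g := by
  rw [F, map_add, MvPolynomial.pderiv_mul, pderiv_one_emb, pderiv_one_emb, MvPolynomial.pderiv_X_self]
  ring

theorem pderiv_zero_F (f g : k[X]) :
    MvPolynomial.pderiv 0 (F f g) = emb (derivative f) + emb (derivative g) * MvPolynomial.X 1 := by
  rw [F, map_add, MvPolynomial.pderiv_mul, pderiv_zero_emb, pderiv_zero_emb,
    MvPolynomial.pderiv_X_of_ne (by decide : (1 : Fin 2) ≠ 0)]
  ring

theorem smooth_F {f g : k[X]} (h : IsCoprime f g) :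
    Algebra.Smooth k (MvPolynomial (Fin 2) k ⧸ Ideal.span {F f g}) := by
  refine CIGen.smooth_of_jacIdeal_eq_top _ ((Ideal.eq_top_iff_one _).2 ?_)
  obtain ⟨a, b, hab⟩ := h
  have h1 : emb g ∈ CIGen.jacIdeal (F f g) :=
    Ideal.mem_sup_right (Ideal.subset_span ⟨1, pderiv_one_F f g⟩)
  have h0 : F f g ∈ CIGen.jacIdeal (F f g) := Ideal.mem_sup_left (Ideal.subset_span rfl)
  have e : (1 : MvPolynomial (Fin 2) k) = emb a * F f g + (emb b - emb a * MvPolynomial.X 1) * emb g := by
    rw [← map_one (emb (k := k)), ← hab, map_add, map_mul, map_mul, F]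
    ring
  rw [e]
  exact Ideal.add_mem _ (Ideal.mul_mem_left _ _ h0) (Ideal.mul_mem_left _ _ h1)

theorem F_ne_zero {f g : k[X]} (h : f ≠ 0 ∨ g ≠ 0) : F f g ≠ 0 := by
  intro h0
  have hinj : ∀ p : k[X], emb p = 0 → p = 0 := fun p hp => by
    have : (MvPolynomial.aeval ![(X : k[X]), 0]).comp emb = AlgHom.id k k[X] := Polynomial.algHom_ext (by simp [emb])
    have := AlgHom.congr_fun this p
    simpa [hp] using this.symm
  have hg : g = 0 := hinj g (by rw [← pderiv_one_F f g, h0, map_zero])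
  have hf : f = 0 := hinj f (by simpa [F, hg] using h0)
  exact h.elim (· hf) (· hg)

theorem not_smooth_of_root {f g : k[X]} (hne : f ≠ 0 ∨ g ≠ 0) {L : Type u} [Field L] [Algebra k L] (α : L)
    (hf : aeval α f = 0) (hg : aeval α g = 0) :
    ¬ (Algebra.Smooth k (MvPolynomial (Fin 2) k ⧸ Ideal.span {F f g}) ∧
      Algebra.Smooth k (MvPolynomial (Fin 2) k ⧸ Ideal.span {F g f})) := by
  rintro ⟨h1, h2⟩
  have key : ∀ (p q : k[X]) (y : L), (p ≠ 0 ∨ q ≠ 0) → aeval α p = 0 → aeval α q = 0 →
      aeval α (derivative p) + aeval α (derivative q) * y = 0 →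
      ¬ Algebra.Smooth k (MvPolynomial (Fin 2) k ⧸ Ideal.span {F p q}) := by
    intro p q y hpq hp hq hd hs
    have htop := CIGen.jacIdeal_eq_top_of_smooth (F p q) (F_ne_zero hpq)
    let ev : MvPolynomial (Fin 2) k →ₐ[k] L := MvPolynomial.aeval ![α, y]
    have hev : ∀ r : k[X], ev (emb r) = aeval α r := fun r => by
      rw [emb, ← Polynomial.aeval_algHom_apply]
      simp [ev]
    have hle : CIGen.jacIdeal (F p q) ≤ RingHom.ker ev := by
      refine sup_le ((Ideal.span_singleton_le_iff_mem _).2 ?_) (Ideal.span_le.2 ?_)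
      · show ev (F p q) = 0
        simp [F, hev, hp, hq]
      · rintro _ ⟨l, rfl⟩
        show ev (MvPolynomial.pderiv l (F p q)) = 0
        fin_cases l
        · show ev (MvPolynomial.pderiv 0 (F p q)) = 0
          rw [pderiv_zero_F, map_add, map_mul, hev, hev]
          simpa [ev] using hd
        · show ev (MvPolynomial.pderiv 1 (F p q)) = 0
          rw [pderiv_one_F, hev, hq]
    have h1' : ev 1 = 0 := hle (htop ▸ Submodule.mem_top)
    simp at h1'
  by_cases hg' : aeval α (derivative g) = 0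
  · by_cases hf' : aeval α (derivative f) = 0
    · exact key f g 0 hne hf hg (by simp [hf']) h1
    · exact key g f 0 hne.symm hg hf (by simp [hg']) h2
  · exact key f g (-aeval α (derivative f) / aeval α (derivative g)) hne hf hg
      (by rw [mul_div_cancel₀ _ hg', add_neg_cancel]) h1

/-- The polynomial with given coefficients. -/
noncomputable def pol {m : ℕ} (c : Fin (m + 1) → k) : k[X] := ∑ i, C (c i) * X ^ (i : ℕ)

/-- The reversed polynomial. -/
noncomputable def rpol {m : ℕ} (c : Fin (m + 1) → k) : k[X] := ∑ i, C (c i) * X ^ (m - (i : ℕ))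

theorem natDegree_pol {m : ℕ} (c : Fin (m + 1) → k) : (pol c).natDegree ≤ m :=
  Polynomial.natDegree_sum_le_of_forall_le _ _ fun i _ =>
    (Polynomial.natDegree_C_mul_X_pow_le _ _).trans (Nat.le_of_lt_succ i.2)

theorem coeff_pol {m : ℕ} (c : Fin (m + 1) → k) (i : Fin (m + 1)) : (pol c).coeff i = c i := by
  simp [pol, Polynomial.finsetSum_coeff, Polynomial.coeff_X_pow, Fin.val_inj]

theorem pol_ne_zero {m : ℕ} {c : Fin (m + 1) → k} (h : c ≠ 0) : pol c ≠ 0 := fun h0 =>
  h (funext fun i => by rw [← coeff_pol c i, h0]; simp)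

theorem aeval_rpol {m : ℕ} (c : Fin (m + 1) → k) {L : Type u} [Field L] [Algebra k L] (α : L) (hα : α ≠ 0) :
    aeval α (rpol c) = α ^ m * aeval α⁻¹ (pol c) := by
  simp only [rpol, pol, map_sum, map_mul, map_pow, aeval_C, aeval_X, Finset.mul_sum]
  refine Finset.sum_congr rfl fun i _ => ?_
  rw [inv_pow, pow_sub₀ α hα (Nat.le_of_lt_succ i.2)]
  ring

theorem aeval_rpol_zero {m : ℕ} (c : Fin (m + 1) → k) {L : Type u} [Field L] [Algebra k L] :
    aeval (0 : L) (rpol c) = algebraMap k L (c (Fin.last m)) := by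
  simp only [rpol, map_sum, map_mul, map_pow, aeval_C, aeval_X]
  rw [Finset.sum_eq_single (Fin.last m)]
  · simp
  · intro i _ hi
    have : (i : ℕ) < m := lt_of_le_of_ne (Nat.le_of_lt_succ i.2) fun e => hi (Fin.ext e)
    rw [zero_pow (by omega), mul_zero]
  · simp

theorem resultant_iff {a b : ℕ} (ha : 0 < a) (hb : 0 < b) (f g : k[X]) (hfa : f.natDegree ≤ a)
    (hgb : g.natDegree ≤ b) :
    resultant f g a b ≠ 0 ↔ IsCoprime f g ∧ ¬ (f.coeff a = 0 ∧ g.coeff b = 0) := by
  have main : ∀ (p q : k[X]) (c d : ℕ), p.natDegree ≤ c → q.natDegree ≤ d → p.coeff c ≠ 0 →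
      (resultant p q c d ≠ 0 ↔ IsCoprime p q) := by
    intro p q c d hp hq hc
    have hc' : c = p.natDegree := le_antisymm (Polynomial.le_natDegree_of_ne_zero hc) hp
    obtain ⟨e, rfl⟩ := Nat.exists_eq_add_of_le hq
    subst hc'
    rw [resultant_add_right_deg _ _ _ _ _ le_rfl, mul_ne_zero_iff, ne_eq (a := resultant p q _ _),
      resultant_eq_zero_iff]
    have hp0 : p ≠ 0 := fun h => hc (by simp [h])
    simp [pow_ne_zero _ hc, hp0]
  by_cases hf : f.coeff a = 0
  · by_cases hg : g.coeff b = 0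
    · simp only [hf, hg, and_self, not_true, and_false, iff_false, not_not]
      refine resultant_eq_zero_of_lt_lt _ _ _ _ ?_ ?_
      · exact lt_of_le_of_ne hfa fun e => by
          have h0 : f = 0 := Polynomial.leadingCoeff_eq_zero.1 (by rw [Polynomial.leadingCoeff, e, hf])
          rw [h0, Polynomial.natDegree_zero] at e; omega
      · exact lt_of_le_of_ne hgb fun e => by
          have h0 : g = 0 := Polynomial.leadingCoeff_eq_zero.1 (by rw [Polynomial.leadingCoeff, e, hg])
          rw [h0, Polynomial.natDegree_zero] at e; omega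
    · rw [resultant_comm, mul_ne_zero_iff, main g f b a hgb hfa hg, isCoprime_comm]
      simp [hg]
  · rw [main f g a b hfa hgb hf]
    simp [hf]

theorem isCoprime_rpol {a b : ℕ} (c : Fin (a + 1) → k) (d : Fin (b + 1) → k) (h : IsCoprime (pol c) (pol d))
    (h' : ¬ (c (Fin.last a) = 0 ∧ d (Fin.last b) = 0)) : IsCoprime (rpol c) (rpol d) := by
  rw [Polynomial.isCoprime_iff_aeval_ne_zero_of_isAlgClosed k (AlgebraicClosure k)] at h ⊢
  intro α
  by_cases hα : α = 0
  · subst hα
    rw [aeval_rpol_zero, aeval_rpol_zero]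
    exact (not_and_or.1 h').imp (_root_.map_ne_zero _).2 (_root_.map_ne_zero _).2
  · rw [aeval_rpol c α hα, aeval_rpol d α hα]
    refine (h α⁻¹).imp (fun h1 => ?_) (fun h1 => ?_) <;> exact mul_ne_zero (pow_ne_zero _ hα) h1

end


/-- Let k be a field, n ≥ 3, q a binary quadratic form and ξ a binary form of degree n over k, given by
coefficient vectors (q_i the coefficient of x^i y^(2−i), ξ_j that of x^j y^(n−j)), not both zero.
The pair (q, ξ) is a global section of O(2) ⊕ O(n) on P¹_k, i.e. of the line bundle of class e + nf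
on the Hirzebruch surface F_{n−2} = P(O ⊕ O(n−2)) → P¹_k, and cuts out the curve W : q·u + ξ·v = 0
there ([u : v] the fibre coordinates). Over the two standard opens of P¹ (t = x/y, s = y/x) and the
two opens u ≠ 0, v ≠ 0 of the fibres, W is covered by four affine charts with coordinate rings k[t,
w]/(q(t,1) + ξ(t,1)·w), k[t, w]/(q(t,1)·w + ξ(t,1)), k[s, w]/(q(1,s) + ξ(1,s)·w) and k[s,
w]/(q(1,s)·w + ξ(1,s)) (variables indexed 0 for t or s and 1 for w). Then W is smooth over k — all
four chart algebras are smooth k-algebras — if and only if the resultant of q and ξ (the Sylvester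
determinant of the two coefficient vectors with size parameters 2 and n) is nonzero. (The published
statement is over a general base scheme B, for a section (q, ξ) vanishing on no fibre, with 'the
resultant is a unit on B' in place of 'nonzero'; its proof reduces at once to the statement over a
field given here, which is the case B = Spec k.) -/
theorem result (k : Type u) [Field k] (n : ℕ) (hn : 3 ≤ n)
    (q : Fin 3 → k) (ξ : Fin (n + 1) → k) (hqξ : q ≠ 0 ∨ ξ ≠ 0) :
    (Algebra.Smooth k (MvPolynomial (Fin 2) k ⧸ Ideal.span ({(∑ i : Fin 3, MvPolynomial.C (q i) * MvPolynomial.X 0 ^ (i : ℕ)) + (∑ j : Fin (n + 1), MvPolynomial.C (ξ j) * MvPolynomial.X 0 ^ (j : ℕ)) * MvPolynomial.X 1} : Set (MvPolynomial (Fin 2) k))) ∧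
      Algebra.Smooth k (MvPolynomial (Fin 2) k ⧸ Ideal.span ({(∑ i : Fin 3, MvPolynomial.C (q i) * MvPolynomial.X 0 ^ (i : ℕ)) * MvPolynomial.X 1 + (∑ j : Fin (n + 1), MvPolynomial.C (ξ j) * MvPolynomial.X 0 ^ (j : ℕ))} : Set (MvPolynomial (Fin 2) k))) ∧
      Algebra.Smooth k (MvPolynomial (Fin 2) k ⧸ Ideal.span ({(∑ i : Fin 3, MvPolynomial.C (q i) * MvPolynomial.X 0 ^ (2 - (i : ℕ))) + (∑ j : Fin (n + 1), MvPolynomial.C (ξ j) * MvPolynomial.X 0 ^ (n - (j : ℕ))) * MvPolynomial.X 1} : Set (MvPolynomial (Fin 2) k))) ∧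
      Algebra.Smooth k (MvPolynomial (Fin 2) k ⧸ Ideal.span ({(∑ i : Fin 3, MvPolynomial.C (q i) * MvPolynomial.X 0 ^ (2 - (i : ℕ))) * MvPolynomial.X 1 + (∑ j : Fin (n + 1), MvPolynomial.C (ξ j) * MvPolynomial.X 0 ^ (n - (j : ℕ)))} : Set (MvPolynomial (Fin 2) k)))) ↔
    Polynomial.resultant (∑ i : Fin 3, Polynomial.C (q i) * Polynomial.X ^ (i : ℕ))
      (∑ j : Fin (n + 1), Polynomial.C (ξ j) * Polynomial.X ^ (j : ℕ)) 2 n ≠ 0 := by
  have e1 : ∀ {m : ℕ} (c : Fin (m + 1) → k),
      ∑ i : Fin (m + 1), MvPolynomial.C (c i) * (MvPolynomial.X 0 : MvPolynomial (Fin 2) k) ^ (i : ℕ) = emb (pol c) :=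
    fun c => by simp [emb, pol, MvPolynomial.algebraMap_eq]
  have e2 : ∀ {m : ℕ} (c : Fin (m + 1) → k),
      ∑ i : Fin (m + 1), MvPolynomial.C (c i) * (MvPolynomial.X 0 : MvPolynomial (Fin 2) k) ^ (m - (i : ℕ)) =
        emb (rpol c) :=
    fun c => by simp [emb, rpol, MvPolynomial.algebraMap_eq]
  rw [e1 q, e1 ξ, e2 ξ, show (∑ i : Fin 3, MvPolynomial.C (q i) *
      (MvPolynomial.X 0 : MvPolynomial (Fin 2) k) ^ (2 - (i : ℕ))) = emb (rpol q) from e2 q,
    add_comm (emb (pol q) * MvPolynomial.X 1), add_comm (emb (rpol q) * MvPolynomial.X 1)]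
  change (Algebra.Smooth k (_ ⧸ Ideal.span {F (pol q) (pol ξ)}) ∧ Algebra.Smooth k (_ ⧸ Ideal.span {F (pol ξ) (pol q)}) ∧
    Algebra.Smooth k (_ ⧸ Ideal.span {F (rpol q) (rpol ξ)}) ∧ Algebra.Smooth k (_ ⧸ Ideal.span {F (rpol ξ) (rpol q)})) ↔
    resultant (pol q) (pol ξ) 2 n ≠ 0
  rw [resultant_iff (by omega) (by omega) _ _ (natDegree_pol q) (natDegree_pol ξ),
    show (pol q).coeff 2 = q (Fin.last 2) from coeff_pol q (Fin.last 2),
    show (pol ξ).coeff n = ξ (Fin.last n) from coeff_pol ξ (Fin.last n)]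
  constructor
  · rintro ⟨h1, h2, h3, h4⟩
    refine ⟨?_, fun h => ?_⟩
    · rw [Polynomial.isCoprime_iff_aeval_ne_zero_of_isAlgClosed k (AlgebraicClosure k)]
      intro α
      by_contra hne
      simp only [not_or, not_not] at hne
      exact not_smooth_of_root (hqξ.imp pol_ne_zero pol_ne_zero) α hne.1 hne.2 ⟨h1, h2⟩
    · have hr : ∀ {m : ℕ} (c : Fin (m + 1) → k), c ≠ 0 → rpol c ≠ 0 := fun {m} c hc h0 => by
        apply hc
        funext i
        have := congrArg (fun p => p.coeff (m - (i : ℕ))) h0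
        rw [Polynomial.coeff_zero] at this
        refine Eq.trans ?_ this
        rw [rpol, Polynomial.finsetSum_coeff, Finset.sum_eq_single i]
        · simp
        · intro j _ hj
          have : (j : ℕ) ≠ i := fun e => hj (Fin.ext e)
          rw [Polynomial.coeff_C_mul, Polynomial.coeff_X_pow, if_neg (by omega), mul_zero]
        · simp
      refine not_smooth_of_root (hqξ.imp (hr q) (hr ξ)) (0 : AlgebraicClosure k) ?_ ?_ ⟨h3, h4⟩
      · rw [aeval_rpol_zero, h.1, map_zero]
      · rw [aeval_rpol_zero, h.2, map_zero]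
  · rintro ⟨hc, h'⟩
    have hr := isCoprime_rpol q ξ hc h'
    exact ⟨smooth_F hc, smooth_F hc.symm, smooth_F hr, smooth_F hr.symm⟩
end Groth.Agent.S19185
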