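import Groth.Statements.S19186
import Mathlib


-- import your own Groth.Agent.* helpers here

set_option autoImplicit false
universe u
open OneMot

namespace Groth.Agent.S19186

/-- Let p and ℓ be distinct prime numbers, r and n natural numbers, and f : A → B a homomorphism of
abelian groups whose kernel and cokernel are annihilated by p^r (f a = 0 implies p^r • a = 0, and
every p^r • b lies in the image of f). Then f induces a bijection between the ℓ^n-torsion subgroups
of A and B and a bijection A/ℓ^n A → B/ℓ^n B. Spelled out without quotients: every ℓ^n-torsion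
element of B has exactly one ℓ^n-torsion preimage; an element of A whose image is an ℓ^n-multiple is
itself an ℓ^n-multiple; and every element of B is the sum of an image and an ℓ^n-multiple. -/
theorem result {A B : Type u} [AddCommGroup A] [AddCommGroup B] (f : A →+ B) (p ℓ r n : ℕ) (hp : p.Prime) (hl : ℓ.Prime) (hne : ℓ ≠ p) (hker : ∀ a : A, f a = 0 → p ^ r • a = 0) (hcoker : ∀ b : B, ∃ a : A, f a = p ^ r • b) : (∀ b : B, ℓ ^ n • b = 0 → ∃! a : A, ℓ ^ n • a = 0 ∧ f a = b) ∧ (∀ a : A, (∃ b' : B, f a = ℓ ^ n • b') → ∃ a' : A, a = ℓ ^ n • a') ∧ (∀ b : B, ∃ (a : A) (b' : B), b = f a + ℓ ^ n • b') := by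
  have hcop : Nat.Coprime (p ^ (2 * r)) (ℓ ^ n) := Nat.Coprime.pow _ _ ((Nat.coprime_primes hp hl).mpr hne.symm)
  have hcop1 : Nat.Coprime (p ^ r) (ℓ ^ n) := Nat.Coprime.pow _ _ ((Nat.coprime_primes hp hl).mpr hne.symm)
  obtain ⟨u, v, huv⟩ := Nat.isCoprime_iff_coprime.mpr hcop1
  obtain ⟨u2, v2, huv2⟩ := Nat.isCoprime_iff_coprime.mpr hcop
  let P : ℤ := ((p ^ r : ℕ) : ℤ)
  let L : ℤ := ((ℓ ^ n : ℕ) : ℤ)
  have huv : u * P + v * L = 1 := huv
  have huv2 : u2 * (P * P) + v2 * L = 1 := by rw [← huv2]; simp only [P, L]; push_cast; ring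
  have hker' : ∀ a : A, f a = 0 → P • a = 0 := fun a ha => by simp only [P, natCast_zsmul]; exact hker a ha
  have hcoker' : ∀ b : B, ∃ a : A, f a = P • b := fun b => by simp only [P, natCast_zsmul]; exact hcoker b
  refine ⟨fun b hb => ?_, fun a ⟨b', hb'⟩ => ?_, fun b => ?_⟩
  · have hbL : L • b = 0 := by simp only [L, natCast_zsmul]; exact hb
    have hb2 : (u * P) • b = b := by
      have h := congrArg (· • b) huv
      simp only [add_smul, one_smul, mul_smul v, hbL, smul_zero, add_zero] at h
      exact h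
    obtain ⟨a0, ha0⟩ := hcoker' b
    have hk : P • L • u • a0 = 0 := hker' _ (by
      rw [map_zsmul, map_zsmul, ha0, smul_smul u, hb2, hbL])
    refine ⟨(u * P * u) • a0, ⟨?_, ?_⟩, fun a' ⟨ha1, ha2⟩ => ?_⟩
    · rw [← natCast_zsmul]
      show L • (u * P * u) • a0 = 0
      rw [smul_smul, show L * (u * P * u) = u * (P * (L * u)) by ring, mul_smul, mul_smul, mul_smul, hk, smul_zero]
    · rw [map_zsmul, ha0, smul_smul, show u * P * u * P = (u * P) * (u * P) by ring, mul_smul, hb2, hb2]
    · have ha1' : L • a' = 0 := by simp only [L, natCast_zsmul]; exact ha1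
      have h1 : L • (a' - (u * P * u) • a0) = 0 := by
        rw [smul_sub, ha1', smul_smul, show L * (u * P * u) = u * (P * (L * u)) by ring, mul_smul, mul_smul, mul_smul, hk, smul_zero, sub_zero]
      have h2 : P • (a' - (u * P * u) • a0) = 0 := hker' _ (by
        rw [map_sub, ha2, map_zsmul, ha0, smul_smul, show u * P * u * P = (u * P) * (u * P) by ring, mul_smul, hb2, hb2, sub_self])
      have h := congrArg (· • (a' - (u * P * u) • a0)) huv
      simp only [add_smul, one_smul, mul_smul v, mul_smul u P (a' - _), h1, h2, smul_zero, add_zero] at h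
      exact sub_eq_zero.mp h.symm
  · have hb'' : f a = L • b' := by simp only [L, natCast_zsmul]; exact hb'
    obtain ⟨a0, ha0⟩ := hcoker' b'
    have h2 := hker' (P • a - L • a0) (by rw [map_sub, map_zsmul, map_zsmul, hb'', ha0, smul_comm, sub_self])
    rw [smul_sub, sub_eq_zero, smul_smul] at h2
    refine ⟨u2 • (P • a0) + v2 • a, ?_⟩
    rw [← natCast_zsmul]
    show a = L • (u2 • (P • a0) + v2 • a)
    have h := congrArg (· • a) huv2
    simp only [add_smul, one_smul] at h
    rw [mul_smul u2, h2] at h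
    refine h.symm.trans ?_
    module
  · obtain ⟨a0, ha0⟩ := hcoker' b
    refine ⟨u • a0, v • b, ?_⟩
    rw [← natCast_zsmul]
    show b = f (u • a0) + L • v • b
    have h := congrArg (· • b) huv
    simp only [add_smul, one_smul] at h
    rw [map_zsmul, ha0, smul_smul, smul_smul, mul_comm L v, h]

end Groth.Agent.S19186
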