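import Groth.Statements.S19187
import Mathlib
-- helpers

set_option autoImplicit false
universe u
open Cpct

namespace Groth.Agent.S19187

open CategoryTheory AlgebraicGeometry in
/-- Let k be a field, X̄ and Ȳ schemes proper over Spec k, j : X → X̄ an open immersion with dense image
and v : Y → Ȳ an open immersion (compactifications of X and Y), f : X → Y a proper morphism and f̄ :
X̄ → Ȳ a morphism over Spec k with f̄ ∘ j = v ∘ f. Then the preimage under f̄ of the open v(Y) is
the open j(X); equivalently, the complement of X in X̄ is the preimage of the complement of Y in Ȳ.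
(The base field k is arbitrary: no perfectness assumption is needed.) -/
theorem result {k : Type u} [Field k] {X Y Xb Yb : Scheme.{u}} (a : Xb ⟶ Spec (CommRingCat.of k)) (b : Yb ⟶ Spec (CommRingCat.of k)) [IsProper a] [IsProper b] (j : X ⟶ Xb) [IsOpenImmersion j] (hj : Dense (Set.range j.base)) (v : Y ⟶ Yb) [IsOpenImmersion v] (f : X ⟶ Y) [IsProper f] (fb : Xb ⟶ Yb) (hfb : fb ≫ b = a) (hsq : j ≫ fb = f ≫ v) : fb ⁻¹ᵁ v.opensRange = j.opensRange := by
  set V := v.opensRange
  have r : Set.range j.base ⊆ Set.range (fb ⁻¹ᵁ V).ι.base := by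
    rintro _ ⟨x, rfl⟩
    rw [Scheme.Opens.range_ι]
    show fb.base (j.base x) ∈ V
    rw [← Scheme.Hom.comp_apply, hsq]
    exact ⟨f.base x, rfl⟩
  let l := IsOpenImmersion.lift (fb ⁻¹ᵁ V).ι j r
  haveI : IsProper (l ≫ (fb ∣_ V)) := by
    have : l ≫ (fb ∣_ V) = f ≫ v.isoOpensRange.hom := by
      rw [← cancel_mono V.ι, Category.assoc, morphismRestrict_ι, IsOpenImmersion.lift_fac_assoc, hsq,
        Category.assoc, Scheme.Hom.isoOpensRange_hom_ι]
    rw [this]; infer_instance
  haveI : IsSeparated fb := by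
    haveI : IsSeparated (fb ≫ b) := hfb ▸ inferInstance
    exact IsSeparated.of_comp fb b
  haveI : IsSeparated (fb ∣_ V) := IsZariskiLocalAtTarget.restrict ‹_› V
  haveI : IsProper l := IsProper.of_comp l (fb ∣_ V)
  apply le_antisymm
  · intro x hx
    have hd : DenseRange l.base := by
      intro z
      rw [(fb ⁻¹ᵁ V).ι.isOpenEmbedding.isInducing.closure_eq_preimage_closure_image, ← Set.range_comp]
      have : ((fb ⁻¹ᵁ V).ι.base ∘ l.base) = j.base := funext fun y =>
        congrArg (fun m : X ⟶ Xb => m.base y) (IsOpenImmersion.lift_fac (fb ⁻¹ᵁ V).ι j r)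
      rw [this, Set.mem_preimage, hj.closure_eq]
      trivial
    obtain ⟨y, hy⟩ : (⟨x, hx⟩ : (fb ⁻¹ᵁ V).toScheme) ∈ Set.range l.base := by
      rw [← l.isClosedMap.isClosed_range.closure_eq, hd.closure_range]; trivial
    refine ⟨y, ?_⟩
    rw [← IsOpenImmersion.lift_fac (fb ⁻¹ᵁ V).ι j r, Scheme.Hom.comp_apply, hy]
    rfl
  · rintro _ ⟨x, rfl⟩
    have := r ⟨x, rfl⟩
    rwa [Scheme.Opens.range_ι] at this

end Groth.Agent.S19187
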