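import Groth.Statements.S19188
import Groth.Agent.PushGmTorLib.Split
import Groth.Agent.SteinLib.EtaleFactor
import Groth.Agent.MiscFlat6.ProperSections
import Groth.Agent.SplitSubLib.Loc
import Groth.Agent.AbSchLib.Flat

set_option autoImplicit false
set_option backward.isDefEq.respectTransparency false
set_option backward.isDefEq.respectTransparency.types false
set_option maxHeartbeats 1000000
set_option synthInstance.maxHeartbeats 400000
universe u
open CGrpSh3

set_option backward.isDefEq.respectTransparency false
set_option backward.isDefEq.respectTransparency.types false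
namespace Groth.Agent.S19188

open CategoryTheory AlgebraicGeometry MonObj in
/-- Let k be a field and f : X → Spec k a proper smooth morphism of schemes. Then the direct image f_*
𝔾_{m,X} on the big fppf site of Spec k, the abelian sheaf whose sections over a k-scheme T are the
invertible functions on X ×_k T, is representable by a torus: there is a commutative k-group scheme
which is a torus and whose sheaf of points is isomorphic to f_* 𝔾_{m,X} (representability is an
existence statement; no particular isomorphism is singled out). -/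
theorem result (k : Type u) [Field k] (X : Scheme.{u}) (f : X ⟶ Spec (CommRingCat.of k)) [IsProper f] [Smooth f] : ∃ (T : Over (Spec (CommRingCat.of k))) (_ : GrpObj T) (_ : IsCommMonObj T), Red.IsTorus T ∧ Nonempty (CGrpSh.pts Scheme.fppfPrecoverage T ≅ CGrpSh3.pushGm Scheme.fppfPrecoverage f) := by
  haveI : CompactSpace X := QuasiCompact.compactSpace_of_compactSpace f
  haveI : IsNoetherianRing k := inferInstance
  haveI : GeometricallyReduced f := AbSchLib.geometricallyReduced_of_smooth f
  haveI : LocallyOfFinitePresentation f := inferInstance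
  have hfin : ((Scheme.ΓSpecIso (CommRingCat.of k)).inv ≫ f.appTop).hom.Finite :=
    RingHom.Finite.comp (MiscFlat6.app_finite f (W := ⊤) (isAffineOpen_top _))
      (RingHom.Finite.of_surjective _ (Scheme.ΓSpecIso (CommRingCat.of k)).symm.commRingCatIsoToRingEquiv.surjective)
  have het := SteinLib.etale_appTop_of_noetherian f hfin
  haveI : Module.Finite k (Groth.Agent.HomAff.Gam (Over.mk f)) := hfin
  haveI : Algebra.Etale k (Groth.Agent.HomAff.Gam (Over.mk f)) := RingHom.etale_algebraMap.1 het
  obtain ⟨D⟩ := Groth.Agent.PushGmTor.nonempty_model f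
  haveI := D.isCommMonObj
  refine ⟨D.M, D.grpObj, D.isCommMonObj, ?_, ⟨WeilRes.ptsIso f Scheme.fppfPrecoverage D.isWeilRes⟩⟩
  haveI := D.isCommMonObj
  let K := AlgebraicClosure k
  obtain ⟨n, ⟨e⟩⟩ := Groth.Agent.PushGmTor.exists_split k (Groth.Agent.HomAff.Gam (Over.mk f)) K
  obtain ⟨φ, hφ⟩ := Groth.Agent.PushGmTor.exists_iso_DS e D
  haveI := hφ
  let c : Spec (CommRingCat.of K) ⟶ Spec (CommRingCat.of k) := Spec.map (CommRingCat.ofHom (algebraMap k K))
  haveI : Subsingleton ↥(Spec (CommRingCat.of k)) := inferInstanceAs (Subsingleton (PrimeSpectrum k))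
  haveI : Nonempty ↥(Spec (CommRingCat.of K)) := inferInstanceAs (Nonempty (PrimeSpectrum K))
  haveI : Subsingleton ↥(Spec (CommRingCat.of K)) := inferInstanceAs (Subsingleton (PrimeSpectrum K))
  haveI hsurj : Surjective c := ⟨fun x => ⟨Classical.arbitrary _, Subsingleton.elim _ _⟩⟩
  refine ⟨Spec (CommRingCat.of K), c, inferInstance, hsurj, fun V hV => ⟨c ⁻¹ᵁ V, ?_, ?_⟩, fun s => ?_⟩
  · exact (Set.toFinite _).isCompact
  · exact Set.image_preimage_eq _ hsurj.surj
  · exact ⟨⊤, trivial, n, Groth.Agent.SplitSub.isSplit_trans (Groth.Agent.SplitSub.isSplit_of_iso φ)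
      (Scheme.Opens.ι _) rfl⟩

end Groth.Agent.S19188
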