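import Groth.Statements.S19189
import Mathlib.CategoryTheory.Triangulated.TStructure.TruncLTGE
import Mathlib.CategoryTheory.Triangulated.TStructure.TruncLEGT
import Mathlib.Tactic.NoncommRing
import Mathlib.Tactic.Ring

-- import your own Groth.Agent.* helpers here

set_option autoImplicit false
universe v u
open CategoryTheory CategoryTheory.Limits CategoryTheory.Pretriangulated CategoryTheory.Triangulated
open CohDer

namespace Groth.Agent.S19189

open CategoryTheory CategoryTheory.Limits CategoryTheory.Pretriangulated CategoryTheory.Triangulated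

variable {C : Type u} [Category.{v} C] [Preadditive C]

def Split {X : C} (p : X ⟶ X) : Prop := ∃ (A : C) (r : X ⟶ A) (s : A ⟶ X), r ≫ s = p ∧ s ≫ r = 𝟙 A

theorem split_of_ring {R : Type v} [Ring R] (p q : R) (hp : p * p = p) (hq : q * q = q)
    (hn : (p - q) * (p - q) = 0) :
    ∃ U V : R, U * V = 1 ∧ V * U = 1 ∧ p * U = U * q := by
  refine ⟨p * q + (1 - p) * (1 - q), q * p + (1 - q) * (1 - p), ?_, ?_, ?_⟩
  · calc (p * q + (1 - p) * (1 - q)) * (q * p + (1 - q) * (1 - p))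
        = p * (q * q) * p + p * (q * (1 - q)) * (1 - p) + (1 - p) * ((1 - q) * q) * p +
            (1 - p) * ((1 - q) * (1 - q)) * (1 - p) := by noncomm_ring
      _ = p * q * p + (1 - p) * (1 - q) * (1 - p) := by
          simp [hq, mul_sub, sub_mul]
      _ = 1 - (p - q) * (p - q) := by
          simp only [mul_sub, sub_mul, mul_one, one_mul, hp, hq]; abel
      _ = 1 := by rw [hn, sub_zero]
  · calc (q * p + (1 - q) * (1 - p)) * (p * q + (1 - p) * (1 - q))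
        = q * (p * p) * q + q * (p * (1 - p)) * (1 - q) + (1 - q) * ((1 - p) * p) * q +
            (1 - q) * ((1 - p) * (1 - p)) * (1 - q) := by noncomm_ring
      _ = q * p * q + (1 - q) * (1 - p) * (1 - q) := by
          simp [hp, mul_sub, sub_mul]
      _ = 1 - (p - q) * (p - q) := by
          simp only [mul_sub, sub_mul, mul_one, one_mul, hp, hq]; abel
      _ = 1 := by rw [hn, sub_zero]
  · simp only [mul_sub, sub_mul, mul_one, one_mul, mul_add, add_mul, ← mul_assoc, hp]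
    simp only [mul_assoc, hq]
    abel

theorem split_of_nil {X : C} (p q : X ⟶ X) (hp : p ≫ p = p) (hq : q ≫ q = q)
    (hn : (p - q) ≫ (p - q) = 0) (h : Split q) : Split p := by
  obtain ⟨A, r, s, hrs, hsr⟩ := h
  obtain ⟨U, V, hUV, hVU, hc⟩ := split_of_ring (R := End X) p q hp hq hn
  -- multiplication in `End X` is composition in the opposite order
  refine ⟨A, (V : X ⟶ X) ≫ r, s ≫ (U : X ⟶ X), ?_, ?_⟩
  · have h1 : (V : X ⟶ X) ≫ (q ≫ (U : X ⟶ X)) = p := by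
      change (U * (show End X from q)) * V = (show End X from p)
      rw [← hc, mul_assoc, hUV, mul_one]
    rw [← h1, ← hrs]
    simp only [Category.assoc]
  · rw [Category.assoc, show (U : X ⟶ X) ≫ (V : X ⟶ X) ≫ r = ((U : X ⟶ X) ≫ (V : X ⟶ X)) ≫ r from
      (Category.assoc _ _ _).symm, show (U : X ⟶ X) ≫ (V : X ⟶ X) = 𝟙 X from hVU, Category.id_comp, hsr]

variable [HasZeroObject C] [HasShift C ℤ] [∀ n : ℤ, (shiftFunctor C n).Additive] [Pretriangulated C]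
  [IsTriangulated C] (t : TStructure C)

theorem split_pure {X : C} (a : ℤ) [t.IsGE X a] [t.IsLE X a] (p : X ⟶ X) (hp : p ≫ p = p) : Split p := by
  obtain ⟨Y, g, δ, hT⟩ := distinguished_cocone_triangle (𝟙 X - p)
  haveI := t.isLE_shift X a 1 (a - 1)
  have hpf : p⟦(1 : ℤ)⟧' ≫ (𝟙 X - p)⟦(1 : ℤ)⟧' = 0 := by
    rw [← Functor.map_comp, Preadditive.comp_sub, Category.comp_id, hp, sub_self, Functor.map_zero]
  obtain ⟨z, hz⟩ : ∃ z : X⟦(1 : ℤ)⟧ ⟶ Y, p⟦(1 : ℤ)⟧' = z ≫ δ := Triangle.coyoneda_exact₁ _ hT (p⟦(1 : ℤ)⟧') hpf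
  obtain ⟨e', he'⟩ : ∃ e' : X⟦(1 : ℤ)⟧ ⟶ (t.truncLT a).obj Y, z = e' ≫ (t.truncLTι a).app Y :=
    Triangle.coyoneda_exact₂ _ (t.triangleLTGE_distinguished a Y) z
    (t.zero _ (a - 1) a)
  let k : (t.truncLT a).obj Y ⟶ X⟦(1 : ℤ)⟧ := (t.truncLTι a).app Y ≫ δ
  have hek : e' ≫ k = p⟦(1 : ℤ)⟧' := by
    rw [hz, he']
    exact (Category.assoc _ _ _).symm
  have hδ : δ ≫ p⟦(1 : ℤ)⟧' = δ := by
    have h := comp_distTriang_mor_zero₃₁ _ hT
    change δ ≫ (𝟙 X - p)⟦(1 : ℤ)⟧' = 0 at h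
    rw [Functor.map_sub, Preadditive.comp_sub, CategoryTheory.Functor.map_id, Category.comp_id, sub_eq_zero] at h
    exact h.symm
  have hke : k ≫ e' = 𝟙 _ := by
    have h0 : (k ≫ e' - 𝟙 _) ≫ k = 0 := by
      rw [Preadditive.sub_comp, Category.assoc, hek, Category.id_comp, sub_eq_zero]
      simp only [k, Category.assoc, hδ]
    have h1 : (k ≫ e' - 𝟙 _) ≫ (t.truncLTι a).app Y = 0 := by
      obtain ⟨w, hw⟩ : ∃ w : (t.truncLT a).obj Y ⟶ X, (k ≫ e' - 𝟙 _) ≫ (t.truncLTι a).app Y = w ≫ g :=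
        Triangle.coyoneda_exact₃ _ hT ((k ≫ e' - 𝟙 _) ≫ (t.truncLTι a).app Y)
        (by rw [Category.assoc]; exact h0)
      rw [hw, t.zero w (a - 1) a]
      exact zero_comp
    rw [← sub_eq_zero]
    exact t.to_truncLT_obj_ext (h1.trans zero_comp.symm)
  let e := shiftShiftNeg X (1 : ℤ)
  refine ⟨((t.truncLT a).obj Y)⟦(-1 : ℤ)⟧, e.inv ≫ e'⟦(-1 : ℤ)⟧', k⟦(-1 : ℤ)⟧' ≫ e.hom, ?_, ?_⟩
  · rw [Category.assoc, ← Category.assoc (e'⟦(-1 : ℤ)⟧'), ← Functor.map_comp, hek]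
    simp [e, shift_shift_neg']
    exact (shiftFunctorCompIsoId C (1 : ℤ) (-1) (by omega)).inv_hom_id_app_assoc X p
  · rw [Category.assoc, e.hom_inv_id_assoc, ← Functor.map_comp, hke, CategoryTheory.Functor.map_id]

theorem split_of_amplitude (n : ℕ) : ∀ (X : C) (a : ℤ), t.IsGE X a → t.IsLE X (a + n) →
    ∀ p : X ⟶ X, p ≫ p = p → Split p := by
  induction n with
  | zero =>
    intro X a h1 h2 p hp
    rw [Nat.cast_zero, add_zero] at h2
    exact split_pure t a p hp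
  | succ n ih =>
    intro X a h1 h2 p hp
    let i := (t.truncLTι (a + 1)).app X
    let π := (t.truncGEπ (a + 1)).app X
    let δ := (t.truncGEδLT (a + 1)).app X
    have hX := t.triangleLTGE_distinguished (a + 1) X
    haveI : t.IsGE ((t.truncLT (a + 1)).obj X) a := by
      haveI := t.isGE_of_ge ((t.truncGE (a + 1)).obj X) a (a + 1)
      haveI := t.isGE_shift ((t.truncGE (a + 1)).obj X) (a + 1) (-1) (a + 2)
      haveI := t.isGE_of_ge (((t.truncGE (a + 1)).obj X)⟦(-1 : ℤ)⟧) a (a + 2)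
      exact t.isGE₂ _ (inv_rot_of_distTriang _ hX) a ‹_› h1
    obtain ⟨A₁, r₁, s₁, hrs₁, hsr₁⟩ := split_pure t a ((t.truncLT (a + 1)).map p)
      (by rw [← Functor.map_comp, hp])
    obtain ⟨A₂, r₂, s₂, hrs₂, hsr₂⟩ := ih ((t.truncGE (a + 1)).obj X) (a + 1) inferInstance
      (by
        haveI : t.IsLE X (a + 1 + n) := by
          rw [show a + 1 + (n : ℤ) = a + ((n + 1 : ℕ) : ℤ) by push_cast; ring]
          exact h2
        infer_instance)
      ((t.truncGE (a + 1)).map p) (by rw [← Functor.map_comp, hp])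
    have hi : (t.truncLT (a + 1)).map p ≫ i = i ≫ p := (t.truncLTι (a + 1)).naturality p
    have hπ : π ≫ (t.truncGE (a + 1)).map p = p ≫ π := ((t.truncGEπ (a + 1)).naturality p).symm
    have hδ : (t.truncGE (a + 1)).map p ≫ δ = δ ≫ ((t.truncLT (a + 1)).map p)⟦(1 : ℤ)⟧' :=
      (t.truncGEδLT (a + 1)).naturality p
    obtain ⟨A, iA, πA, hA⟩ := distinguished_cocone_triangle₂ (s₂ ≫ δ ≫ r₁⟦(1 : ℤ)⟧')
    have hs₂ : s₂ ≫ (t.truncGE (a + 1)).map p = s₂ := by rw [← hrs₂, ← Category.assoc, hsr₂, Category.id_comp]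
    have hr₁ : (t.truncLT (a + 1)).map p ≫ r₁ = r₁ := by rw [← hrs₁, Category.assoc, hsr₁, Category.comp_id]
    obtain ⟨u, hu₁, hu₂⟩ : ∃ u : A ⟶ X, iA ≫ u = s₁ ≫ i ∧ πA ≫ s₂ = u ≫ π :=
      complete_distinguished_triangle_morphism₂ _ _ hA hX s₁ s₂ (by
      change (s₂ ≫ δ ≫ r₁⟦(1 : ℤ)⟧') ≫ s₁⟦(1 : ℤ)⟧' = s₂ ≫ δ
      rw [Category.assoc, Category.assoc, ← Functor.map_comp, hrs₁, ← hδ, ← Category.assoc, hs₂])
    obtain ⟨v, hv₁, hv₂⟩ : ∃ v : X ⟶ A, i ≫ v = r₁ ≫ iA ∧ π ≫ r₂ = v ≫ πA :=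
      complete_distinguished_triangle_morphism₂ _ _ hX hA r₁ r₂ (by
      change δ ≫ r₁⟦(1 : ℤ)⟧' = r₂ ≫ s₂ ≫ δ ≫ r₁⟦(1 : ℤ)⟧'
      rw [← Category.assoc r₂, hrs₂, ← Category.assoc, hδ, Category.assoc, ← Functor.map_comp, hr₁])
    have hw₁ : iA ≫ u ≫ v = iA := by rw [reassoc_of% hu₁, hv₁, ← Category.assoc, hsr₁, Category.id_comp]
    have hw₂ : (u ≫ v) ≫ πA = πA := by rw [Category.assoc, ← hv₂, ← Category.assoc, ← hu₂, Category.assoc, hsr₂, Category.comp_id]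
    let φ : Triangle.mk iA πA (s₂ ≫ δ ≫ r₁⟦(1 : ℤ)⟧') ⟶ Triangle.mk iA πA (s₂ ≫ δ ≫ r₁⟦(1 : ℤ)⟧') :=
      Triangle.homMk _ _ (𝟙 A₁) (u ≫ v) (𝟙 A₂) (hw₁.trans (Category.id_comp _).symm) ((Category.comp_id _).trans hw₂.symm)
        ((congrArg _ (CategoryTheory.Functor.map_id _ _)).trans ((Category.comp_id _).trans (Category.id_comp _).symm))
    haveI : IsIso φ.hom₁ := inferInstanceAs (IsIso (𝟙 A₁))
    haveI : IsIso φ.hom₃ := inferInstanceAs (IsIso (𝟙 A₂))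
    haveI : IsIso (u ≫ v) := isIso₂_of_isIso₁₃ φ hA hA inferInstance inferInstance
    have hwi : iA ≫ inv (u ≫ v) = iA := by rw [IsIso.comp_inv_eq, hw₁]
    have hwπ : inv (u ≫ v) ≫ πA = πA := by rw [IsIso.inv_comp_eq, hw₂]
    let v' := v ≫ inv (u ≫ v)
    have huv : u ≫ v' = 𝟙 A := by simp [v', ← Category.assoc]
    refine split_of_nil p (v' ≫ u) hp (by rw [Category.assoc, reassoc_of% huv]) ?_ ⟨A, v', u, rfl, huv⟩
    have hqi : i ≫ (p - v' ≫ u) = 0 := by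
      rw [Preadditive.comp_sub, sub_eq_zero, ← hi, ← hrs₁]
      simp only [v', Category.assoc]
      rw [reassoc_of% hv₁, reassoc_of% hwi, hu₁]
    have hqπ : (p - v' ≫ u) ≫ π = 0 := by
      rw [Preadditive.sub_comp, sub_eq_zero, ← hπ, ← hrs₂]
      simp only [v', Category.assoc]
      rw [← hu₂, reassoc_of% hwπ, ← Category.assoc, hv₂, Category.assoc]
    obtain ⟨w, hw⟩ : ∃ w : X ⟶ (t.truncLT (a + 1)).obj X, p - v' ≫ u = w ≫ i :=
      Triangle.coyoneda_exact₂ _ hX (p - v' ≫ u) hqπ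
    have h : (p - v' ≫ u) ≫ (p - v' ≫ u) = (w ≫ i) ≫ (p - v' ≫ u) := congrArg (· ≫ (p - v' ≫ u)) hw
    rw [h, Category.assoc, hqi, comp_zero]


/-- Let `C` be a triangulated category (octahedron axiom included) and `t` a t-structure on `C` which is
bounded, i.e. every object of `C` is both `≥ a` and `≤ b` for some integers `a`, `b`. Then `C` is
idempotent complete (Karoubian): every idempotent endomorphism `p = p ≫ p` of an object splits as `p
= e ≫ i` with `i ≫ e = 𝟙`. -/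
theorem result {C : Type u} [Category.{v} C] [Preadditive C]
    [HasZeroObject C] [HasShift C ℤ] [∀ n : ℤ, (shiftFunctor C n).Additive] [Pretriangulated C]
    [IsTriangulated C] (t : TStructure C) (hb : ∀ X : C, t.bounded X) :
    IsIdempotentComplete C := by
  refine ⟨fun X p hp => ?_⟩
  obtain ⟨⟨a, ha⟩, ⟨b, hb'⟩⟩ := hb X
  obtain ⟨A, r, s, hrs, hsr⟩ := split_of_amplitude t (b - a).toNat X a ha (by
    haveI := hb'
    exact t.isLE_of_le X b _ (by omega)) p hp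
  exact ⟨A, s, r, hsr, hrs⟩


end Groth.Agent.S19189
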