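import Groth.Statements.S1919
import Groth.Agent.LenInsepLib.PerfectBC

set_option autoImplicit false
universe u
open CategoryTheory AlgebraicGeometry
open CategoryTheory.Limits
open RelCyc

namespace Groth.Agent.S1919

theorem key (k : Type u) [Field k] (p : ℕ) [ExpChar k p] {K : Type u} [Field K] [Algebra k K]
    [IsPurelyInseparable k K] {X : Scheme.{u}} (f : X ⟶ Spec (CommRingCat.of k))
    [LocallyOfFiniteType f] [QuasiCompact f] (δ : X → ℤ) (hδ : Cyc.DeltaCompat f δ (fun _ => 0))
    (δ' : ↥(pullback f (Spec.map (CommRingCat.ofHom (algebraMap k K)))) → ℤ)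
    (hδ' : Cyc.DeltaCompat (pullback.snd f (Spec.map (CommRingCat.ofHom (algebraMap k K)))) δ' (fun _ => 0))
    (r : ℤ) (β : AlgebraicCycle (pullback f (Spec.map (CommRingCat.ofHom (algebraMap k K)))) ℤ)
    (hβ : β ∈ Cyc.Zk _ δ' r) :
    ∃ (n : ℕ) (α : AlgebraicCycle X ℤ), α ∈ Cyc.Zk X δ r ∧
      (p : ℤ) ^ n • ⇑β = Cyc.pullFun (pullback.fst f (Spec.map (CommRingCat.ofHom (algebraMap k K)))) δ' δ 0 ⇑α := by
  classical
  let π := LenInsepLib.proj K f
  obtain ⟨e, he⟩ : ∃ e : ↥(pullback f (Spec.map (CommRingCat.ofHom (algebraMap k K)))) ≃ X, ∀ a, e a = π a :=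
    ⟨Equiv.ofBijective _ (LenInsepLib.proj_bijective K f), fun _ => rfl⟩
  have hdelta : ∀ a, δ' a = δ (π a) := by
    intro a
    obtain ⟨m, hm, hm'⟩ := hδ (π a)
    obtain ⟨m', hn, hn'⟩ := hδ' a
    have hmn : (m' : Cardinal.{u}) = m := hn.symm.trans ((LenInsepLib.rtr_snd_eq K f a).trans hm)
    rw [hm', hn', Nat.cast_inj.1 hmn]
  choose ν hν using fun a => LenInsepLib.exists_length_eq_pow K f p a
  haveI : CompactSpace X := QuasiCompact.compactSpace_of_compactSpace f
  haveI : IsAffineHom π := MorphismProperty.pullback_fst _ _ inferInstance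
  haveI : CompactSpace ↥(pullback f (Spec.map (CommRingCat.ofHom (algebraMap k K)))) :=
    QuasiCompact.compactSpace_of_compactSpace π
  have hfin : (Function.support ⇑β).Finite := by
    simpa using LocallyFiniteSupport.finite_inter_support_of_isCompact
      (Function.locallyFinsupp.locallyFiniteSupport β) isCompact_univ
  let N : ℕ := hfin.toFinset.sup ν
  let a : X → ℤ := fun x => (p : ℤ) ^ (N - ν (e.symm x)) * β (e.symm x)
  have hsupp : Function.support a ⊆ e '' Function.support ⇑β := fun x hx =>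
    ⟨e.symm x, fun h0 => hx (by simp [a, h0]), e.apply_symm_apply x⟩
  refine ⟨N, ⟨a, Set.subset_univ _, fun z _ => ⟨Set.univ, Filter.univ_mem, by
      simpa using (hfin.image e).subset hsupp⟩⟩, fun x hx => ?_, ?_⟩
  · show a x = 0
    have : β (e.symm x) = 0 := hβ _ (by rw [hdelta, ← he, e.apply_symm_apply]; exact hx)
    simp [a, this]
  · funext x'
    show (p : ℤ) ^ N * β x' = if δ' x' = δ (π x') + 0 then a (π x') * _ else 0
    rw [if_pos (by rw [hdelta, add_zero]), hν x', ENat.toNat_coe]
    simp only [a, ← he, e.symm_apply_apply, ENat.toNat_coe, Nat.cast_pow]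
    by_cases h0 : β x' = 0
    · simp [h0]
    · have : ν x' ≤ N := Finset.le_sup (hfin.mem_toFinset.2 h0)
      rw [mul_right_comm, ← pow_add, Nat.sub_add_cancel this]


/-- For a scheme X of finite type over a field k of characteristic p > 0, with base change X' = X ×_k k'
to the perfect closure k', the base change map Z_r(X) → Z_r(X') (flat pullback along the projection)
has p-power torsion cokernel: for every r-cycle β on X' some p^n β is the base change of an r-cycle
on X. Dimension functions are transcendence degrees of residue fields over the ground fields. -/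
theorem result (k : Type u) [Field k] (p : ℕ) [Fact p.Prime] [CharP k p] (X : Scheme.{u}) (f : X ⟶ Spec (CommRingCat.of k)) [LocallyOfFiniteType f] [QuasiCompact f] (δ : X → ℤ) (hδ : Cyc.DeltaCompat f δ (fun _ => 0)) (δ' : ↥(pullback f (Spec.map (CommRingCat.ofHom (PerfectClosure.of k p)))) → ℤ) (hδ' : Cyc.DeltaCompat (pullback.snd f (Spec.map (CommRingCat.ofHom (PerfectClosure.of k p)))) δ' (fun _ => 0)) (r : ℤ) (β : AlgebraicCycle (pullback f (Spec.map (CommRingCat.ofHom (PerfectClosure.of k p)))) ℤ) (hβ : β ∈ Cyc.Zk _ δ' r) : ∃ (n : ℕ) (α : AlgebraicCycle X ℤ), α ∈ Cyc.Zk X δ r ∧ (p : ℤ) ^ n • ⇑β = Cyc.pullFun (pullback.fst f (Spec.map (CommRingCat.ofHom (PerfectClosure.of k p)))) δ' δ 0 ⇑α := by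
  letI : Algebra k (PerfectClosure k p) := (PerfectClosure.of k p).toAlgebra
  haveI : IsPRadical (algebraMap k (PerfectClosure k p)) p := PerfectClosure.isPRadical k p
  haveI : IsPurelyInseparable k (PerfectClosure k p) := IsPRadical.isPurelyInseparable k (PerfectClosure k p) p
  exact key k p f δ hδ δ' hδ' r β hβ

end Groth.Agent.S1919
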