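import Groth.Statements.S19190
import Mathlib

set_option autoImplicit false
universe w v u v' u'
open CategoryTheory CategoryTheory.Limits CategoryTheory.Pretriangulated CategoryTheory.Triangulated
open CohDer

namespace Groth.Agent.S19190
open Pretriangulated

section killed

variable {A : Type w} [CommRing A] (S : Submonoid A) {T : Type u} [Category.{v} T] [Preadditive T] [Linear A T]
  [HasZeroObject T] [HasShift T ℤ] [∀ n : ℤ, (shiftFunctor T n).Additive]
  [∀ n : ℤ, (shiftFunctor T n).Linear A] [Pretriangulated T]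

/-- The objects killed by an element of `S`. -/
def killed : ObjectProperty T := fun X => ∃ s ∈ S, (s : A) • 𝟙 X = 0

omit [HasZeroObject T] [HasShift T ℤ] [∀ n : ℤ, (shiftFunctor T n).Additive]
  [∀ n : ℤ, (shiftFunctor T n).Linear A] [Pretriangulated T] in
theorem killed_retract {X Y : T} (r : Retract X Y) (h : killed S Y) : killed S X := by
  obtain ⟨s, hs, e⟩ := h
  refine ⟨s, hs, ?_⟩
  have := r.i ≫= e =≫ r.r
  simpa [Linear.smul_comp, Linear.comp_smul] using this

instance : (killed S (T := T)).IsStableUnderRetracts where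
  of_retract r h := killed_retract S r h

instance : (killed S (T := T)).IsClosedUnderIsomorphisms where
  of_iso e h := killed_retract S ⟨e.inv, e.hom, e.inv_hom_id⟩ h

instance : (killed S (T := T)).IsTriangulated where
  exists_zero := by
    obtain ⟨Z, hZ⟩ := HasZeroObject.zero (C := T)
    exact ⟨Z, hZ, 1, S.one_mem, hZ.eq_of_src _ _⟩
  isStableUnderShiftBy n := ⟨fun X ⟨s, hs, e⟩ => ⟨s, hs, by
    have := congrArg (fun f => (shiftFunctor T n).map f) e
    simpa using this⟩⟩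
  toIsTriangulatedClosed₂ := .mk' fun t ht h₁ h₃ => by
    obtain ⟨s₁, hs₁, e₁⟩ := h₁
    obtain ⟨s₃, hs₃, e₃⟩ := h₃
    obtain ⟨a, ha⟩ := Triangle.coyoneda_exact₂ t ht (s₃ • 𝟙 t.obj₂) (by
      have := t.mor₂ ≫= e₃
      simpa [Linear.smul_comp, Linear.comp_smul] using this)
    refine ⟨s₁ * s₃, S.mul_mem hs₁ hs₃, ?_⟩
    have h2 : s₁ • t.mor₁ = 0 := by
      have := e₁ =≫ t.mor₁
      simpa [Linear.smul_comp] using this
    rw [mul_smul, ha, ← Linear.comp_smul, h2, comp_zero]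

theorem killed_cone {X Z : T} (f : A) (hf : f ∈ S) (g : X ⟶ Z) (h : Z ⟶ X⟦(1 : ℤ)⟧)
    (hT : Triangle.mk (f • 𝟙 X) g h ∈ distTriang T) : killed S Z := by
  have h1 : f • h = 0 := by
    have := comp_distTriang_mor_zero₃₁ _ hT
    change h ≫ (f • 𝟙 X)⟦(1 : ℤ)⟧' = 0 at this
    rwa [Functor.map_smul, CategoryTheory.Functor.map_id, Linear.comp_smul, Category.comp_id] at this
  have h2 : f • g = 0 := by
    have := comp_distTriang_mor_zero₁₂ _ hT
    change (f • 𝟙 X) ≫ g = 0 at this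
    rwa [Linear.smul_comp, Category.id_comp] at this
  obtain ⟨b, hb⟩ : ∃ b : Z ⟶ X, f • 𝟙 Z = b ≫ g := Triangle.coyoneda_exact₃ _ hT (f • 𝟙 Z) (by
    show (f • 𝟙 Z) ≫ h = 0
    rw [Linear.smul_comp, Category.id_comp, h1])
  refine ⟨f * f, S.mul_mem hf hf, ?_⟩
  rw [mul_smul, hb, ← Linear.comp_smul, h2, comp_zero]

/-- A morphism with killed cone divides an element of `S`. -/
theorem exists_back {Y Y' : T} (w : Y ⟶ Y') (h : (killed S).trW w) :
    ∃ s ∈ S, ∃ v : Y' ⟶ Y, v ≫ w = (s : A) • 𝟙 Y' := by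
  obtain ⟨Z, g, k, hT, s, hs, e⟩ := h
  obtain ⟨v, hv⟩ := Triangle.coyoneda_exact₂ _ hT (s • 𝟙 Y') (by
    show (s • 𝟙 Y') ≫ g = 0
    have := g ≫= e
    simpa [Linear.smul_comp, Linear.comp_smul] using this)
  exact ⟨s, hs, v, hv.symm⟩

theorem exists_smul_eq_zero {X Y Y' : T} (t : Y ⟶ Y') (h : (killed S).trW t) (f : X ⟶ Y) (hf : f ≫ t = 0) :
    ∃ s ∈ S, (s : A) • f = 0 := by
  obtain ⟨Z, g, k, hT, hZ⟩ := h
  obtain ⟨s, hs, e⟩ := (killed S).le_shift (-1 : ℤ) _ hZ
  obtain ⟨a, m, ha⟩ : ∃ (a : X ⟶ Z⟦(-1 : ℤ)⟧) (m : Z⟦(-1 : ℤ)⟧ ⟶ Y), f = a ≫ m :=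
    let ⟨a, ha⟩ := Triangle.coyoneda_exact₂ _ (inv_rot_of_distTriang _ hT) f hf
    ⟨a, _, ha⟩
  refine ⟨s, hs, ?_⟩
  rw [ha, ← Category.id_comp m, ← Linear.comp_smul, ← Linear.smul_comp, e, zero_comp, comp_zero]

end killed


/-- Let `A` be a commutative ring, `S` a multiplicative subset of `A` and `T` an `A`-linear triangulated
category (octahedron axiom included; the shift functors are `A`-linear). Call an object of `T`
`S`-torsion when it lies in the smallest thick subcategory `U` of `T` (a property of objects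
containing zero, stable under shifts, extensions, isomorphisms and direct factors) containing every
cone of an endomorphism `f • 𝟙 X` with `f ∈ S`. Let `Q : T ⥤ E` exhibit `E` as the localization of
`T` at the morphisms whose cone lies in `U` (the Verdier quotient `T/U`), where `E` is preadditive
and `A`-linear and `Q` is `A`-linear. Then for all objects `X`, `Y` of `T` the `A`-linear map
`Hom_T(X, Y) → Hom_E(Q X, Q Y)` given by `Q` exhibits its target as the localization of `Hom_T(X,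
Y)` at `S`. Since `Q` is essentially surjective, this says that the comparison functor from `T/U` to
the category having the objects of `T` and morphism modules `Hom_T(X, Y) ⊗_A S⁻¹A` is an
equivalence. -/
theorem result
    {A : Type w} [CommRing A] (S : Submonoid A)
    {T : Type u} [Category.{v} T] [Preadditive T] [Linear A T] [HasZeroObject T] [HasShift T ℤ]
    [∀ n : ℤ, (shiftFunctor T n).Additive] [∀ n : ℤ, (shiftFunctor T n).Linear A]
    [Pretriangulated T] [IsTriangulated T]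
    (U : ObjectProperty T) [U.IsTriangulated] [U.IsClosedUnderIsomorphisms] [U.IsStableUnderRetracts]
    (hU : ∀ (X : T) (f : A), f ∈ S → ∀ (Z : T) (g : X ⟶ Z) (h : Z ⟶ X⟦(1 : ℤ)⟧),
      Triangle.mk (f • 𝟙 X) g h ∈ distTriang T → U Z)
    (hmin : ∀ (U' : ObjectProperty T) [U'.IsTriangulated] [U'.IsClosedUnderIsomorphisms]
      [U'.IsStableUnderRetracts],
      (∀ (X : T) (f : A), f ∈ S → ∀ (Z : T) (g : X ⟶ Z) (h : Z ⟶ X⟦(1 : ℤ)⟧),
        Triangle.mk (f • 𝟙 X) g h ∈ distTriang T → U' Z) → U ≤ U')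
    {E : Type u'} [Category.{v'} E] [Preadditive E] [Linear A E]
    (Q : T ⥤ E) [Q.Additive] [Q.Linear A] [Q.IsLocalization U.trW] (X Y : T) :
    IsLocalizedModule S (Q.mapLinearMap A : (X ⟶ Y) →ₗ[A] (Q.obj X ⟶ Q.obj Y)) := by
  have hle : U ≤ killed S := hmin (killed S) fun X f hf Z g h hT => killed_cone S f hf g h hT
  have hW : ∀ {P P' : T} (w : P ⟶ P'), U.trW w → (killed S).trW w := fun w ⟨Z, g, h, hT, hZ⟩ =>
    ⟨Z, g, h, hT, hle _ hZ⟩
  refine ⟨fun x => ?_, fun φ => ?_, fun {f₁ f₂} h => ?_⟩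
  · obtain ⟨Z, g, h, hT⟩ := distinguished_cocone_triangle ((x : A) • 𝟙 Y)
    haveI : IsIso (Q.map ((x : A) • 𝟙 Y)) :=
      Localization.inverts Q U.trW _ ⟨Z, g, h, hT, hU Y x x.2 Z g h hT⟩
    rw [Module.End.isUnit_iff]
    have e : ∀ φ : Q.obj X ⟶ Q.obj Y,
        algebraMap A (Module.End A (Q.obj X ⟶ Q.obj Y)) x φ = φ ≫ Q.map ((x : A) • 𝟙 Y) := fun φ => by
      simp [Linear.comp_smul]
    refine ⟨fun a b hab => ?_, fun b => ⟨b ≫ inv (Q.map ((x : A) • 𝟙 Y)), ?_⟩⟩
    · rw [e, e] at hab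
      exact (cancel_mono _).1 hab
    · rw [e, Category.assoc, IsIso.inv_hom_id, Category.comp_id]
  · obtain ⟨ψ, hψ⟩ := Localization.exists_leftFraction Q U.trW φ
    obtain ⟨s, hs, v, hv⟩ := exists_back S ψ.s (hW _ ψ.hs)
    refine ⟨(ψ.f ≫ v, ⟨s, hs⟩), ?_⟩
    haveI := Localization.inverts Q U.trW _ ψ.hs
    rw [← cancel_mono (Q.map ψ.s)]
    show (s • φ) ≫ Q.map ψ.s = Q.map (ψ.f ≫ v) ≫ Q.map ψ.s
    rw [Linear.smul_comp, hψ, MorphismProperty.LeftFraction.map_comp_map_s, ← Q.map_comp, Category.assoc, hv,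
      Linear.comp_smul, Category.comp_id, Q.map_smul]
  · obtain ⟨Y', t, ht, e⟩ := (MorphismProperty.map_eq_iff_postcomp Q U.trW f₁ f₂).1 h
    obtain ⟨s, hs, hse⟩ := exists_smul_eq_zero S t (hW t ht) (f₁ - f₂) (by rw [Preadditive.sub_comp, e, sub_self])
    exact ⟨⟨s, hs⟩, sub_eq_zero.1 (by rw [← smul_sub]; exact hse)⟩
end Groth.Agent.S19190
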