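import Groth.Statements.S19196
import Mathlib


-- import your own Groth.Agent.* helpers here

set_option autoImplicit false
universe u
open RelS1

namespace Groth.Agent.S19196

/-- Let R be a Noetherian commutative ring and N a finitely generated R-module which fails Serre's
condition (S_1), in the sense that some associated prime of N is not a minimal prime of the
annihilator of N. Then there exist an element a of R lying in no minimal prime of the annihilator of
N and a nonzero element b of N with a • b = 0; thus the basic open set D(a) meets the support of N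
densely while restriction to it is not injective on N. -/
theorem result (R N : Type u) [CommRing R] [IsNoetherianRing R]
    [AddCommGroup N] [Module R N] [Module.Finite R N]
    (h : ¬ associatedPrimes R N ⊆ (Module.annihilator R N).minimalPrimes) :
    ∃ (a : R) (b : N), (∀ P ∈ (Module.annihilator R N).minimalPrimes, a ∉ P) ∧ b ≠ 0 ∧ a • b = 0 := by
  obtain ⟨P, hP, hPm⟩ := Set.not_subset.mp h
  haveI : P.IsPrime := hP.isPrime
  have hfin : (Module.annihilator R N).minimalPrimes.Finite := Ideal.finite_minimalPrimes_of_isNoetherianRing R _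
  obtain ⟨b, hb⟩ := ((isAssociatedPrime_iff_exists_injective_linearMap P N).mp hP).2
  have hann : Module.annihilator R N ≤ P := by
    intro r hr
    have h1 : b (Ideal.Quotient.mk P r) = 0 := by
      rw [show Ideal.Quotient.mk P r = r • (1 : R ⧸ P) by rw [Algebra.smul_def, mul_one]; rfl, map_smul,
        Module.mem_annihilator.mp hr]
    exact Ideal.Quotient.eq_zero_iff_mem.mp (hb (h1.trans (map_zero b).symm))
  have hsub : ¬ ((P : Set R) ⊆ ⋃ Q ∈ (hfin.toFinset : Set (Ideal R)), (Q : Set R)) := by
    rw [Ideal.subset_union_prime (f := fun Q : Ideal R => Q) P P (fun Q hQ _ _ => (hfin.mem_toFinset.mp hQ).1.1)]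
    rintro ⟨Q, hQ, hPQ⟩
    have hQ' := hfin.mem_toFinset.mp hQ
    exact hPm (le_antisymm hPQ (hQ'.2 ⟨‹P.IsPrime›, hann⟩ hPQ) ▸ hQ')
  obtain ⟨a, haP, ha⟩ := Set.not_subset.mp hsub
  refine ⟨a, b 1, fun Q hQ hQa => ha (Set.mem_biUnion (hfin.mem_toFinset.mpr hQ) hQa), fun h0 => ?_, ?_⟩
  · exact ‹P.IsPrime›.ne_top ((Ideal.eq_top_iff_one P).mpr (Ideal.Quotient.eq_zero_iff_mem.mp (hb (h0.trans (map_zero b).symm))))
  · rw [← map_smul, Algebra.smul_def, mul_one, Ideal.Quotient.algebraMap_eq, Ideal.Quotient.eq_zero_iff_mem.mpr haP, map_zero]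

end Groth.Agent.S19196
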