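import Groth.Statements.S19198
import Groth.Agent.PurBirLib.Codim1
import Groth.Agent.NormalExtLib.Scheme
-- import your own Groth.Agent.* helpers here

set_option autoImplicit false
set_option backward.isDefEq.respectTransparency false
set_option linter.all false
universe u
open CategoryTheory AlgebraicGeometry
open Models

namespace Groth.Agent.S19198

open AlgebraicGeometry CategoryTheory Limits TopologicalSpace

theorem isIso_restrict_of_le {X Y : Scheme.{u}} (h : X ⟶ Y) {U V : Y.Opens} (hle : U ≤ V)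
    (hV : IsIso (h ∣_ V)) : IsIso (h ∣_ U) := by
  have h1 : MorphismProperty.isomorphisms Scheme.{u} ((h ∣_ V) ∣_ (V.ι ⁻¹ᵁ U)) :=
    IsZariskiLocalAtTarget.restrict (P := MorphismProperty.isomorphisms Scheme.{u}) hV _
  have h2 := (MorphismProperty.arrow_mk_iso_iff (MorphismProperty.isomorphisms Scheme.{u})
    (morphismRestrictRestrict h V (V.ι ⁻¹ᵁ U))).mp h1
  rwa [show V.ι ''ᵁ (V.ι ⁻¹ᵁ U) = U by
    rw [Scheme.Hom.image_preimage_eq_opensRange_inf, Scheme.Opens.opensRange_ι]
    exact inf_eq_right.mpr hle] at h2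


/-- Form over the valuation ring: let R be a discrete valuation ring with a uniformizer ϖ, let C → Spec
R be flat and locally of finite type, f : X → C proper, and Z → X a closed immersion with Z flat
over R such that the composite Z → C restricts to an isomorphism over the generic fibre, the
preimage of the open set D(ϖ) of Spec R. Then for every point c of C whose local ring is an
integrally closed domain of Krull dimension one (a codimension-one point at which C is normal, for
instance a generic point of the closed fibre lying in the smooth locus), there is an open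
neighbourhood V of c over which Z → C is an isomorphism. (The published statement, that the closed
fibre of such a Z maps isomorphically onto the closed fibre of C over every generic point of its
smooth locus, also after a finite extension of R, follows by restriction to the closed fibre and
flat descent.) -/
theorem result (R : Type u) [CommRing R] [IsDomain R]
    [IsDiscreteValuationRing R] {C X Z : Scheme.{u}} (πC : C ⟶ Spec (CommRingCat.of R)) [Flat πC]
    [LocallyOfFiniteType πC] (f : X ⟶ C) [IsProper f] (i : Z ⟶ X) [IsClosedImmersion i]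
    [Flat ((i ≫ f) ≫ πC)] (ϖ : R) (hϖ : Irreducible ϖ)
    (hgen : IsIso ((i ≫ f) ∣_ (πC ⁻¹ᵁ (PrimeSpectrum.basicOpen ϖ))))
    (c : C) (hdom : IsDomain (C.presheaf.stalk c)) (hnorm : IsIntegrallyClosed (C.presheaf.stalk c))
    (hdim : ringKrullDim (C.presheaf.stalk c) = 1) :
    ∃ V : C.Opens, c ∈ V ∧ IsIso ((i ≫ f) ∣_ V) := by
  haveI : IsLocallyNoetherian C := LocallyOfFiniteType.isLocallyNoetherian πC
  haveI := hdom
  haveI := hnorm
  obtain ⟨V₀, hcV, hV₀⟩ := NormalExtLib.exists_isIntegral_nhd c
  haveI := hV₀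
  let h := i ≫ f
  let g := h ∣_ V₀
  let k := V₀.ι ≫ πC
  let D : (Spec (CommRingCat.of R)).Opens := PrimeSpectrum.basicOpen ϖ
  let G' : V₀.toScheme.Opens := k ⁻¹ᵁ D
  let W : (h ⁻¹ᵁ V₀).toScheme.Opens := (g ≫ k) ⁻¹ᵁ D
  have hgiso : IsIso (g ∣_ G') := by
    refine (MorphismProperty.arrow_mk_iso_iff (MorphismProperty.isomorphisms Scheme.{u})
      (morphismRestrictRestrict h V₀ G')).mpr ?_
    refine isIso_restrict_of_le h ?_ hgen
    rintro _ ⟨a, ha, rfl⟩
    exact ha
  have hbot : (⊥ : PrimeSpectrum R) ∈ D := by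
    show ϖ ∉ (⊥ : Ideal R)
    simpa using hϖ.ne_zero
  haveI : Nonempty G' := by
    obtain ⟨a, -, ha⟩ := Flat.generalizingMap (f := k)
      (show (⊥ : PrimeSpectrum R) ⤳ k ⟨c, hcV⟩ from
        (PrimeSpectrum.le_iff_specializes _ _).mp bot_le)
    exact ⟨⟨a, show k a ∈ D from ha ▸ hbot⟩⟩
  haveI : IsIntegral G'.toScheme := isIntegral_of_isOpenImmersion G'.ι
  haveI : IsIso (g ∣_ G') := hgiso
  haveI : Nonempty W := ⟨(inv (g ∣_ G')) (Classical.arbitrary _)⟩
  haveI : IsIntegral (g ⁻¹ᵁ G').toScheme :=
    @isIntegral_of_isOpenImmersion _ _ (g ∣_ G') _ _ ‹Nonempty W›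
  haveI : Flat (g ≫ k) := by
    have : g ≫ k = (h ⁻¹ᵁ V₀).ι ≫ h ≫ πC := morphismRestrict_ι_assoc h V₀ πC
    rw [this]
    infer_instance
  haveI : IsDominant D.ι := by
    rw [isDominant_iff, DenseRange, Scheme.Opens.range_ι]
    exact D.2.dense ⟨_, hbot⟩
  haveI : IsSchemeTheoreticallyDominant D.ι := .of_isDominant _
  haveI : QuasiCompact D.ι := inferInstance
  haveI : IsSchemeTheoreticallyDominant W.ι :=
    .of_isPullback (isPullback_morphismRestrict (g ≫ k) D)
  haveI : QuasiCompact W.ι :=
    MorphismProperty.of_isPullback (isPullback_morphismRestrict (g ≫ k) D) ‹QuasiCompact D.ι›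
  haveI : IsReduced (h ⁻¹ᵁ V₀).toScheme :=
    @IsSchemeTheoreticallyDominant.isReduced _ _ W.ι _ _
      (inferInstanceAs (IsReduced (g ⁻¹ᵁ G').toScheme))
  have hdense : Dense (W : Set (h ⁻¹ᵁ V₀).toScheme) := by
    have := W.ι.denseRange
    rwa [DenseRange, Scheme.Opens.range_ι] at this
  haveI : IrreducibleSpace ↥(h ⁻¹ᵁ V₀).toScheme := by
    have hi : IsIrreducible (Set.range W.ι) := by
      haveI : IrreducibleSpace ↥W.toScheme := inferInstanceAs (IrreducibleSpace ↥(g ⁻¹ᵁ G').toScheme)
      rw [← Set.image_univ]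
      exact (IrreducibleSpace.isIrreducible_univ _).image _ W.ι.continuous.continuousOn
    rw [Scheme.Opens.range_ι] at hi
    have := hi.closure
    rw [hdense.closure_eq] at this
    exact { isPreirreducible_univ := this.2, toNonempty := ⟨this.1.choose⟩ }
  haveI : IsIntegral (h ⁻¹ᵁ V₀).toScheme := isIntegral_of_irreducibleSpace_of_isReduced _
  have hbir : PurBirLib.Bir g := by
    refine PurBirLib.bir_of_open g ⟨g ⁻¹ᵁ G', ?_, ?_⟩
    · obtain ⟨w⟩ := ‹Nonempty W›
      exact ⟨w.1, w.2⟩
    · rw [← morphismRestrict_ι g G']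
      infer_instance
  let c' : V₀.toScheme := ⟨c, hcV⟩
  let e := (V₀.stalkIso c').commRingCatIsoToRingEquiv
  haveI : IsIntegrallyClosed (V₀.toScheme.presheaf.stalk c') :=
    IsIntegrallyClosed.of_equiv e.symm
  have hd : ringKrullDim (V₀.toScheme.presheaf.stalk c') ≤ 1 := by
    rw [ringKrullDim_eq_of_ringEquiv e]
    exact hdim.le
  haveI : IsProper g := IsZariskiLocalAtTarget.restrict (P := @IsProper) inferInstance V₀
  obtain ⟨U, hcU, hU⟩ := PurBirLib.exists_isIso_nhd_of_dim_le_one g hbir c' hd
  refine ⟨V₀.ι ''ᵁ U, ⟨c', hcU, rfl⟩, ?_⟩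
  exact (MorphismProperty.arrow_mk_iso_iff (MorphismProperty.isomorphisms Scheme.{u})
    (morphismRestrictRestrict h V₀ U)).mp hU

end Groth.Agent.S19198
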