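import Groth.Statements.S19202
import Mathlib.AlgebraicGeometry.Morphisms.ClosedImmersion
import Mathlib.RingTheory.Flat.TorsionFree
-- import your own Groth.Agent.* helpers here

set_option autoImplicit false
universe u
open CategoryTheory AlgebraicGeometry
open FlatMor

namespace Groth.Agent.S19202


open CategoryTheory AlgebraicGeometry TopologicalSpace Opposite

variable {R : Type u} [CommRing R] [IsDomain R]

/-- structure map into sections -/
noncomputable def str {Y : Scheme.{u}} (q : Y ⟶ Spec (CommRingCat.of R)) (V : Y.Opens) :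
    R →+* Γ(Y, V) :=
  ((Scheme.ΓSpecIso (CommRingCat.of R)).inv ≫ q.appTop ≫
    Y.presheaf.map (homOfLE le_top).op).hom

lemma res_str {Y : Scheme.{u}} (q : Y ⟶ Spec (CommRingCat.of R)) {V W : Y.Opens} (h : W ≤ V)
    (r : R) : (Y.presheaf.map (homOfLE h).op).hom (str q V r) = str q W r := by
  simp only [str, CommRingCat.hom_comp, RingHom.comp_apply]
  rw [← CommRingCat.comp_apply (Y.presheaf.map _) (Y.presheaf.map _), ← Functor.map_comp]
  rfl

lemma app_str {X Y : Scheme.{u}} {p : X ⟶ Spec (CommRingCat.of R)}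
    {q : Y ⟶ Spec (CommRingCat.of R)} (f : X ⟶ Y) (w : f ≫ q = p) (V : Y.Opens) (r : R) :
    (f.app V).hom (str q V r) = str p (f ⁻¹ᵁ V) r := by
  subst w
  simp only [str, CommRingCat.hom_comp, RingHom.comp_apply, Scheme.Hom.comp_appTop]
  rw [← CommRingCat.comp_apply (Y.presheaf.map _) (f.app V), f.naturality]
  rfl

lemma injective_mul_str {X : Scheme.{u}} (p : X ⟶ Spec (CommRingCat.of R)) [Flat p]
    (W : X.Opens) {r : R} (hr : r ≠ 0) (t : Γ(X, W)) (ht : str p W r * t = 0) : t = 0 := by
  refine X.IsSheaf.section_ext fun x hx => ?_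
  obtain ⟨V, hV, hxV, hVW⟩ := (Opens.isBasis_iff_nbhd.mp X.isBasis_affineOpens) hx
  refine ⟨V, hVW, hxV, ?_⟩
  have hfl : (str p V).Flat := by
    have h1 := p.flat_appLE (U := ⊤) (isAffineOpen_top _) (V := V) hV (by simp)
    have : str p V = (p.appLE ⊤ V (by simp)).hom.comp
        (Scheme.ΓSpecIso (CommRingCat.of R)).inv.hom := rfl
    rw [this]
    exact RingHom.Flat.comp (RingHom.Flat.of_bijective (ConcreteCategory.bijective_of_isIso _)) h1
  algebraize [str p V]
  have key : str p V r * (X.presheaf.map (homOfLE hVW).op).hom t = 0 := by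
    rw [← res_str p hVW r, ← map_mul, ht, map_zero]
  have : IsSMulRegular Γ(X, V) r :=
    Module.IsTorsionFree.isSMulRegular (isRegular_iff_ne_zero.mpr hr)
  have h0 : r • (X.presheaf.map (homOfLE hVW).op).hom t = r • (0 : Γ(X, V)) := by
    rw [smul_zero, Algebra.smul_def]; exact key
  rw [map_zero]
  exact this h0

variable {X Y : Scheme.{u}} (q : Y ⟶ Spec (CommRingCat.of R)) (f : X ⟶ Y)

/-- the saturation of the kernel with respect to nonzero scalars -/
noncomputable def satIdeal (U : Y.affineOpens) : Ideal Γ(Y, U) where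
  carrier := {s | ∃ r : R, r ≠ 0 ∧ str q U r * s ∈ f.ker.ideal U}
  add_mem' := by
    rintro a b ⟨r, hr, ha⟩ ⟨r', hr', hb⟩
    refine ⟨r * r', mul_ne_zero hr hr', ?_⟩
    rw [map_mul, mul_add]
    refine add_mem ?_ ?_
    · rw [show str q U r * str q U r' * a = str q U r' * (str q U r * a) by ring]
      exact Ideal.mul_mem_left _ _ ha
    · rw [mul_assoc]
      exact Ideal.mul_mem_left _ _ hb
  zero_mem' := ⟨1, one_ne_zero, by simp⟩
  smul_mem' := by
    rintro c a ⟨r, hr, ha⟩
    refine ⟨r, hr, ?_⟩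
    rw [smul_eq_mul, mul_left_comm]
    exact Ideal.mul_mem_left _ _ ha

/-- the saturation as an ideal sheaf -/
noncomputable def sat : Scheme.IdealSheafData Y where
  ideal := satIdeal q f
  map_ideal_basicOpen U g := by
    apply le_antisymm
    · rw [Ideal.map_le_iff_le_comap]
      rintro s ⟨r, hr, hs⟩
      refine ⟨r, hr, ?_⟩
      rw [← f.ker.map_ideal_basicOpen U g]
      have h2 := Ideal.mem_map_of_mem (Y.presheaf.map (homOfLE <| Y.basicOpen_le g).op).hom hs
      rw [map_mul, res_str q (Y.basicOpen_le g) r] at h2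
      exact h2
    · rintro x ⟨r, hr, hx⟩
      have := U.2.isLocalization_basicOpen g
      rw [← f.ker.map_ideal_basicOpen U g] at hx
      obtain ⟨a, ⟨_, n, rfl⟩, rfl⟩ := IsLocalization.exists_mk'_eq (.powers g) x
      refine (IsLocalization.mk'_mem_map_algebraMap_iff (M := .powers g) _ _ _ _).mpr ?_
      have h3 : algebraMap Γ(Y, U) Γ(Y, Y.basicOpen g) (str q U r * a) ∈
          (f.ker.ideal U).map (algebraMap Γ(Y, U) Γ(Y, Y.basicOpen g)) := by
        have h4 := Ideal.mul_mem_left _ (algebraMap Γ(Y, U) Γ(Y, Y.basicOpen g) (g ^ n)) hx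
        rw [map_mul]
        convert h4 using 1
        · rfl
        have hh : str q (Y.affineBasicOpen g : Y.Opens) r =
            algebraMap Γ(Y, U) Γ(Y, Y.basicOpen g) (str q U r) :=
          (res_str q (Y.basicOpen_le g) r).symm
        rw [← IsLocalization.mk'_spec' (M := .powers g) Γ(Y, Y.basicOpen g) a ⟨g ^ n, n, rfl⟩, hh]
        exact mul_left_comm _ _ _
      obtain ⟨m, hm, h5⟩ :=
        (IsLocalization.algebraMap_mem_map_algebraMap_iff (.powers g) _ _ _).mp h3
      refine ⟨m, hm, r, hr, ?_⟩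
      rw [mul_left_comm]
      exact h5

lemma sat_le {p : X ⟶ Spec (CommRingCat.of R)} (w : f ≫ q = p) [Flat p] : sat q f ≤ f.ker := by
  refine Scheme.IdealSheafData.le_ofIdeals_iff.mpr fun U s hs => ?_
  obtain ⟨r, hr, hs⟩ := hs
  have h1 := f.ideal_ker_le U hs
  rw [RingHom.mem_ker, map_mul, app_str f w U r] at h1
  exact injective_mul_str p _ hr _ h1


/-- Let R be a Dedekind domain, X and Y schemes over Spec R with X flat over Spec R, and f : X → Y a
morphism over Spec R. Then the scheme-theoretic image of f, i.e. the closed subscheme of Y cut out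
by the kernel ideal sheaf of f, is flat over Spec R. (The published statement takes the base to be a
non-singular curve and f proper; this row takes the spectrum of any Dedekind domain and any morphism
f over it.) -/
theorem result (R : Type u) [CommRing R] [IsDedekindDomain R]
    {X Y : Scheme.{u}} (p : X ⟶ Spec (CommRingCat.of R)) (q : Y ⟶ Spec (CommRingCat.of R))
    (f : X ⟶ Y) (w : f ≫ q = p) [Flat p] : Flat (f.imageι ≫ q) := by
  subst w
  rw [IsZariskiLocalAtSource.iff_of_iSup_eq_top (P := @Flat)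
    (U := fun U : Y.affineOpens => f.imageι ⁻¹ᵁ U.1)]
  swap
  · rw [← Scheme.Hom.preimage_iSup, iSup_affineOpens_eq_top]; simp
  intro U
  haveI : IsAffine (f.imageι ⁻¹ᵁ U.1).toScheme := U.2.preimage (f := f.ker.subschemeι)
  rw [HasRingHomProperty.iff_of_isAffine (P := @Flat)]
  have e1 : ((f.imageι ⁻¹ᵁ U.1).ι ≫ f.imageι ≫ q).appTop.hom =
      ((f.imageι ⁻¹ᵁ U.1).topIso.inv.hom.comp ((f.imageι.app U.1).hom.comp (str q U.1))).comp
        (Scheme.ΓSpecIso (CommRingCat.of R)).hom.hom := by
    ext x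
    simp [str]
    exact ((CommRingCat.comp_apply _ _ _).symm.trans (by
      erw [← Functor.map_comp]; rfl)).symm
  rw [e1]
  refine RingHom.Flat.comp (RingHom.Flat.of_bijective (ConcreteCategory.bijective_of_isIso _))
    (RingHom.Flat.comp ?_ (RingHom.Flat.of_bijective (ConcreteCategory.bijective_of_isIso _)))
  let ψ := (f.imageι.app U.1).hom.comp (str q U.1)
  letI : Algebra R Γ(f.image, f.imageι ⁻¹ᵁ U.1) := ψ.toAlgebra
  haveI : Module.IsTorsionFree R Γ(f.image, f.imageι ⁻¹ᵁ U.1) := by
    refine .of_smul_eq_zero fun r m h => or_iff_not_imp_left.mpr fun hr => ?_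
    obtain ⟨s, rfl⟩ := f.ker.subschemeι_app_surjective U m
    rw [Algebra.smul_def, RingHom.algebraMap_toAlgebra, RingHom.comp_apply, ← map_mul,
      ← RingHom.mem_ker, f.ker.ker_subschemeι_app] at h
    rw [← RingHom.mem_ker, f.ker.ker_subschemeι_app]
    exact sat_le q f rfl U ⟨r, hr, h⟩
  change RingHom.Flat ψ
  exact RingHom.flat_algebraMap_iff.mpr inferInstance

end Groth.Agent.S19202
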