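import Groth.Statements.S19203
import Mathlib
import Groth.Agent.GrowthLib.GlobGen
-- import your own Groth.Agent.* helpers here

set_option autoImplicit false
universe u
open CategoryTheory AlgebraicGeometry
open Coh

namespace Groth.Agent.S19203

/-- Let X be a scheme proper over a field k with dim X = r, and L an invertible O_X-module generated by
its global sections. Then for each i ≥ 1 the dimensions dim_k H^i(X, L^{⊗n}) are O(n^{r-1}): there
is a real constant C with dim_k H^i(X, L^{⊗n}) ≤ C·n^{r-1} for every n ≥ 1. (For r = 0 the exponent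
r − 1 is read as 0; k is any field.) -/
theorem result (k : Type u) [Field k] (X : Scheme.{u})
    [X.Over (Spec (CommRingCat.of k))] [IsProper (X ↘ (Spec (CommRingCat.of k)))]
    (r : ℕ) (hdim : topologicalKrullDim X = r)
    (L : X.Modules) (hL : PicF.IsInvertible L) (hgen : Curv2.IsGloballyGenerated L)
    (i : ℕ) (hi : 1 ≤ i) :
    ∃ C : ℝ, ∀ n : ℕ, 1 ≤ n →
      (Module.finrank k (Coh.HH X (CohB1.tensorPow L n) i) : ℝ) ≤ C * (n : ℝ) ^ (r - 1) := by
  obtain ⟨C, hC⟩ := GrowthLib.exists_bound_gg (k := k) hL hgen hdim.le (show 0 < i by omega)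
  refine ⟨(C : ℝ) * 2 ^ (r - 1), fun n hn => ?_⟩
  have h : (Module.finrank k (Coh.HH X (CohB1.tensorPow L n) i) : ℝ) ≤ C * ((n : ℝ) + 1) ^ (r - 1) := by
    exact_mod_cast hC n
  refine h.trans ?_
  rw [mul_assoc, ← mul_pow]
  refine mul_le_mul_of_nonneg_left (pow_le_pow_left₀ (by positivity) ?_ _) (Nat.cast_nonneg C)
  have : (1 : ℝ) ≤ n := by exact_mod_cast hn
  linarith

end Groth.Agent.S19203
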