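import Groth.Statements.S19208
import Mathlib
import Groth.Agent.NormFlatDimLib.Main
-- import your own Groth.Agent.* helpers here

set_option autoImplicit false
universe u
open Filter
open LocAlg

namespace Groth.Agent.S19208

/-- Let O be a Noetherian local ring of Krull dimension r containing a field, with maximal ideal m. The
zeroth flat multiplicity e_0(O), the supremum over m-primary ideals I of e(I)/(r!·length(O/I)) with
e(I) the Samuel multiplicity, is at least 1: for every ε > 0 there is an m-primary ideal I (I ⊆ m,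
m^N ⊆ I for some N) whose multiplicity e(I), the limit of r!·length(O/I^n)/n^r, satisfies e(I) ≥ (1
− ε)·r!·length(O/I). (The same statement for the power-series rings O[[t_1, …, t_k]] is the bound
e_k(O) ≥ 1 for the k-th flat multiplicity.) -/
theorem result (O : Type u) [CommRing O] [IsNoetherianRing O]
    [IsLocalRing O] (K : Type u) [Field K] [Algebra K O] (r : ℕ) (hr : ringKrullDim O = r)
    (ε : ℝ) (hε : 0 < ε) :
    ∃ (I : Ideal O) (e : ℝ), I ≤ IsLocalRing.maximalIdeal O ∧
      (∃ N : ℕ, IsLocalRing.maximalIdeal O ^ N ≤ I) ∧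
      Tendsto (fun n : ℕ => (r.factorial : ℝ) * ((Module.length O (O ⧸ I ^ n)).toNat : ℝ) / (n : ℝ) ^ r)
        atTop (nhds e) ∧
      (1 - ε) * ((r.factorial : ℝ) * ((Module.length O (O ⧸ I)).toNat : ℝ)) ≤ e := by
  classical
  let m := IsLocalRing.maximalIdeal O
  have hsup : ∀ P ∈ Module.support O O, m ≤ P.asIdeal → P.asIdeal.IsMaximal := fun P _ hP =>
    (IsLocalRing.maximalIdeal.isMaximal O).eq_of_le P.2.ne_top hP ▸ IsLocalRing.maximalIdeal.isMaximal O
  have hmne : m ≠ ⊤ := (IsLocalRing.maximalIdeal.isMaximal O).ne_top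
  obtain ⟨hfin, P, hP, hdeg⟩ := NormFlatDim.exists_hsPoly m hmne O hsup
  rw [Module.supportDim_self_eq_ringKrullDim, hr] at hdeg
  have hPd : P.natDegree = r := by exact_mod_cast hdeg
  let L : ℕ → ℕ := fun n => (Module.length O (O ⧸ m ^ n)).toNat
  have hchi : ∀ n, CommAlgDim.chi m O n = L n := by
    intro n
    simp only [L]
    rw [CommAlgDim.chi, CommAlgDim.len,
      (Submodule.quotEquivOfEq _ _ (by simp : m ^ n • (⊤ : Submodule O O) = m ^ n)).length_eq]
  have hPe : ∀ᶠ n : ℕ in atTop, ((L n : ℕ) : ℚ) = P.eval (n : ℚ) := by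
    filter_upwards [hP] with n hn
    rwa [← hchi]
  have hLpos : ∀ n, 1 ≤ n → 0 < L n := by
    intro n hn
    have h1 : Module.length O (O ⧸ m ^ n) ≠ ⊤ := by
      rw [← (Submodule.quotEquivOfEq _ _ (by simp : m ^ n • (⊤ : Submodule O O) = m ^ n)).length_eq]
      exact CommAlgDim.length_quotient_ne_top hfin n
    haveI : Nontrivial (O ⧸ m ^ n) := Ideal.Quotient.nontrivial_iff.2
      (fun h => hmne (top_le_iff.1 (h ▸ Ideal.pow_le_self (by omega))))
    have h2 : Module.length O (O ⧸ m ^ n) ≠ 0 := (Module.length_pos (R := O) (M := O ⧸ m ^ n)).ne'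
    simp only [L]
    exact Nat.pos_of_ne_zero fun h => (ENat.toNat_eq_zero.1 h).elim h2 h1
  let PR : Polynomial ℝ := P.map (Rat.castHom ℝ)
  have hPRd : PR.natDegree = r := by
    rw [Polynomial.natDegree_map_eq_of_injective (RingHom.injective _), hPd]
  have hPne : PR ≠ 0 := by
    rw [Polynomial.map_ne_zero_iff (RingHom.injective _)]
    intro h
    obtain ⟨n, hn, hn1⟩ := (hPe.and (eventually_ge_atTop 1)).exists
    rw [h, Polynomial.eval_zero] at hn
    exact (hLpos n hn1).ne' (by exact_mod_cast hn)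
  have hlim : Tendsto (fun n : ℕ => (r.factorial : ℝ) * (L n : ℝ) / (n : ℝ) ^ r) atTop
      (nhds ((r.factorial : ℝ) * PR.leadingCoeff)) := by
    have h1 : Tendsto (fun x : ℝ => PR.eval x / ((Polynomial.X : Polynomial ℝ) ^ r).eval x) atTop
        (nhds (PR.leadingCoeff / ((Polynomial.X : Polynomial ℝ) ^ r).leadingCoeff)) :=
      Polynomial.div_tendsto_leadingCoeff_div_of_degree_eq _ _ (by
        rw [Polynomial.degree_X_pow, Polynomial.degree_eq_natDegree hPne, hPRd])
    rw [Polynomial.leadingCoeff_X_pow, div_one] at h1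
    have h2 := (h1.comp (tendsto_natCast_atTop_atTop (R := ℝ))).const_mul (r.factorial : ℝ)
    refine h2.congr' ?_
    filter_upwards [hPe] with n hn
    rw [Function.comp_apply, Polynomial.eval_pow, Polynomial.eval_X, mul_div_assoc]
    congr 2
    rw [show (n : ℝ) = Rat.castHom ℝ (n : ℚ) by simp, Polynomial.eval_map, Polynomial.eval₂_at_apply, ← hn]
    simp
  set e0 : ℝ := (r.factorial : ℝ) * PR.leadingCoeff with he0
  have he0pos : 0 < e0 := by
    refine lt_of_le_of_ne (ge_of_tendsto' hlim fun n => by positivity) ?_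
    exact (mul_ne_zero (by exact_mod_cast r.factorial_ne_zero) (Polynomial.leadingCoeff_ne_zero.2 hPne)).symm
  have hlt : ∀ᶠ n : ℕ in atTop, (1 - ε) * ((r.factorial : ℝ) * (L n : ℝ) / (n : ℝ) ^ r) < e0 :=
    (hlim.const_mul (1 - ε)).eventually (eventually_lt_nhds (by nlinarith))
  obtain ⟨n, hn, hn1⟩ := (hlt.and (eventually_ge_atTop 1)).exists
  have hnR : (0 : ℝ) < (n : ℝ) ^ r := by positivity
  refine ⟨m ^ n, (n : ℝ) ^ r * e0, Ideal.pow_le_self (by omega), ⟨n, le_rfl⟩, ?_, ?_⟩
  · have h3 : Tendsto (fun j : ℕ => n * j) atTop atTop :=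
      tendsto_id.nsmul_atTop (show 0 < n by omega)
    refine ((hlim.comp h3).const_mul ((n : ℝ) ^ r)).congr' ?_
    filter_upwards [eventually_ge_atTop 1] with j hj
    simp only [Function.comp_apply, L, m, Nat.cast_mul, mul_pow]
    rw [← pow_mul (IsLocalRing.maximalIdeal O) n j]
    field_simp
  · rw [← mul_div_assoc, div_lt_iff₀ hnR] at hn
    show (1 - ε) * ((r.factorial : ℝ) * (L n : ℝ)) ≤ _
    linarith

end Groth.Agent.S19208
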