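import Groth.Statements.S19209
import Mathlib
import Mathlib
-- import your own Groth.Agent.* helpers here

set_option autoImplicit false
universe u
open Curves

namespace Groth.Agent.S19209

/-- Let n ≥ 1 and let p_0 ≥ p_1 ≥ … ≥ p_n = 0 be real numbers. Then some chain 0 = s_0 < s_1 < … < s_l =
n satisfies Σ_{k<l} (p_{s_k} − p_{s_{k+1}})·(s_k + s_{k+1}) ≤ (2n/(n+1))·(p_0 + p_1 + … + p_n).
Equivalently the minimum of these sums over all chains, which is twice the area under the Newton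
polygon (lower convex hull) of the points (k, p_k), is at most 2n/(n+1) times the sum of the
weights. -/
theorem result (n : ℕ) (hn : 1 ≤ n) (p : ℕ → ℝ)
    (hp : ∀ i j : ℕ, i ≤ j → j ≤ n → p j ≤ p i) (hpn : p n = 0) :
    ∃ (l : ℕ) (s : ℕ → ℕ), s 0 = 0 ∧ s l = n ∧ (∀ k : ℕ, k < l → s k < s (k + 1)) ∧
      (∑ k ∈ Finset.range l, (p (s k) - p (s (k + 1))) * ((s k : ℝ) + (s (k + 1) : ℝ))) ≤
        2 * (n : ℝ) / ((n : ℝ) + 1) * ∑ i ∈ Finset.range (n + 1), p i := by
  classical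
  have key : ∀ m s₀ : ℕ, s₀ + m = n → ∃ (l : ℕ) (s : ℕ → ℕ), s 0 = s₀ ∧ s l = n ∧ (∀ k : ℕ, k < l → s k < s (k + 1)) ∧
      (∑ k ∈ Finset.range l, ((s (k + 1) : ℝ) - s k) * (p (s k) + p (s (k + 1)))) ≤ 2 * ∑ i ∈ Finset.Ioc s₀ n, p i + p s₀ ∧
      (∑ k ∈ Finset.range l, ((s (k + 1) : ℝ) - s k) * (p (s k) + p (s (k + 1)))) ≤ (m : ℝ) * p s₀ := by
    intro m
    induction m using Nat.strong_induction_on with
    | _ m ih =>
      intro s₀ hs
      rcases Nat.eq_zero_or_pos m with rfl | hm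
      · obtain rfl : s₀ = n := by omega
        exact ⟨0, fun _ => s₀, rfl, rfl, fun k hk => absurd hk (Nat.not_lt_zero k), by simp [hpn], by simp⟩
      obtain ⟨t, ht, hmin⟩ := Finset.exists_min_image (Finset.Ioc s₀ n) (fun t => (p t - p s₀) / ((t : ℝ) - s₀))
        ⟨n, Finset.mem_Ioc.2 ⟨by omega, le_rfl⟩⟩
      rw [Finset.mem_Ioc] at ht
      obtain ⟨l, s, h0, hl, hlt, hb1, hb2⟩ := ih (n - t) (by omega) t (by omega)
      refine ⟨l + 1, fun k => if k = 0 then s₀ else s (k - 1), rfl, by simp [hl], fun k hk => ?_, ?_, ?_⟩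
      · rcases Nat.eq_zero_or_pos k with rfl | hk0
        · simp [h0]; omega
        · simp only [if_neg hk0.ne', if_neg (Nat.succ_ne_zero k)]
          have := hlt (k - 1) (by omega)
          rw [show k - 1 + 1 = k by omega] at this
          simpa using this
      all_goals rw [Finset.sum_range_succ']
      all_goals simp only [Nat.succ_ne_zero, if_false, if_true, Nat.add_sub_cancel, h0]
      all_goals have hL : (0 : ℝ) < (t : ℝ) - s₀ := by exact_mod_cast sub_pos.2 (show (s₀ : ℝ) < t by exact_mod_cast ht.1)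
      · set Δ := (p t - p s₀) / ((t : ℝ) - s₀) with hΔ
        have hΔ' : Δ * ((t : ℝ) - s₀) = p t - p s₀ := div_mul_cancel₀ _ hL.ne'
        have hbelow : ∀ i ∈ Finset.Ioc s₀ t, p s₀ + Δ * ((i : ℝ) - s₀) ≤ p i := fun i hi => by
          rw [Finset.mem_Ioc] at hi
          have h := hmin i (Finset.mem_Ioc.2 ⟨hi.1, hi.2.trans ht.2⟩)
          have hi' : (0 : ℝ) < (i : ℝ) - s₀ := sub_pos.2 (by exact_mod_cast hi.1)
          rw [le_div_iff₀ hi'] at h
          linarith
        have hsum : ∀ j, s₀ ≤ j → ∑ i ∈ Finset.Ioc s₀ j, ((i : ℝ) - s₀) = ((j : ℝ) - s₀) * ((j : ℝ) - s₀ + 1) / 2 := by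
          intro j hj
          induction hj with
          | refl => simp
          | @step j hj ih => rw [Finset.sum_Ioc_succ_top (show s₀ ≤ j from hj), ih]; push_cast; ring
        have h1 := Finset.sum_le_sum hbelow
        rw [Finset.sum_add_distrib, ← Finset.mul_sum, hsum t ht.1.le, Finset.sum_const, Nat.card_Ioc, nsmul_eq_mul, Nat.cast_sub ht.1.le] at h1
        have hsplit : ∑ i ∈ Finset.Ioc s₀ n, p i = ∑ i ∈ Finset.Ioc s₀ t, p i + ∑ i ∈ Finset.Ioc t n, p i :=
          (Finset.sum_Ioc_consecutive p ht.1.le ht.2).symm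
        rw [hsplit]
        have e1 : Δ * (((t : ℝ) - s₀) * ((t : ℝ) - s₀ + 1) / 2) = (p t - p s₀) * ((t : ℝ) - s₀ + 1) / 2 := by rw [← hΔ']; ring
        nlinarith [h1, hb1, e1]
      · have h := hmin n (Finset.mem_Ioc.2 ⟨by omega, le_rfl⟩)
        have hn' : (0 : ℝ) < (n : ℝ) - s₀ := sub_pos.2 (by exact_mod_cast (show s₀ < n by omega))
        rw [div_le_div_iff₀ hL hn', hpn] at h
        have hm' : (m : ℝ) = (n : ℝ) - s₀ := by rw [← hs]; push_cast; ring
        rw [Nat.cast_sub ht.2] at hb2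
        rw [hm']
        nlinarith [h, hb2]
  obtain ⟨l, s, h0, hl, hlt, hb1, hb2⟩ := key n 0 (by omega)
  refine ⟨l, s, h0, hl, hlt, ?_⟩
  have heq : ∑ k ∈ Finset.range l, (p (s k) - p (s (k + 1))) * ((s k : ℝ) + (s (k + 1) : ℝ)) =
      ∑ k ∈ Finset.range l, ((s (k + 1) : ℝ) - s k) * (p (s k) + p (s (k + 1))) := by
    rw [← sub_eq_zero, ← Finset.sum_sub_distrib]
    have := Finset.sum_range_sub' (fun k => 2 * (s k : ℝ) * p (s k)) l
    rw [h0, hl, hpn] at this
    simp only [Nat.cast_zero, mul_zero, zero_mul, sub_self] at this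
    rw [← this]
    exact Finset.sum_congr rfl fun k _ => by ring
  rw [heq]
  set T := ∑ k ∈ Finset.range l, ((s (k + 1) : ℝ) - s k) * (p (s k) + p (s (k + 1)))
  have hS : ∑ i ∈ Finset.range (n + 1), p i = p 0 + ∑ i ∈ Finset.Ioc 0 n, p i := by
    rw [Finset.range_eq_Ico, Finset.sum_eq_sum_Ico_succ_bot (Nat.succ_pos n)]
    congr 1
  rw [hS, div_mul_eq_mul_div, le_div_iff₀ (by positivity)]
  nlinarith [hb1, hb2]

end Groth.Agent.S19209
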