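import Groth.Statements.S19210
import Mathlib
-- import your own Groth.Agent.* helpers here

set_option autoImplicit false
universe u
open LocAlg

namespace Groth.Agent.S19210

/-- For natural numbers j ≤ r, the sums Σ_{i=0}^{n−1} (n − i)^{r−j} i^j equal n^{r+1}·(r − j)!·j!/(r +
1)! up to O(n^r): there is a real constant C with |Σ_{i<n} (n − i)^{r−j} i^j − ((r − j)!·j!/(r +
1)!)·n^{r+1}| ≤ C·n^r for all n ≥ 1. -/
theorem result (r j : ℕ) (hj : j ≤ r) :
    ∃ C : ℝ, ∀ n : ℕ, 1 ≤ n →
      |(∑ i ∈ Finset.range n, ((n : ℝ) - (i : ℝ)) ^ (r - j) * (i : ℝ) ^ j) -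
          ((r - j).factorial : ℝ) * (j.factorial : ℝ) / ((r + 1).factorial : ℝ) * (n : ℝ) ^ (r + 1)| ≤
        C * (n : ℝ) ^ r := by
  let S : ℕ → ℕ → ℕ → ℝ := fun a b n => ∑ i ∈ Finset.range n, ((n : ℝ) - (i : ℝ)) ^ a * (i : ℝ) ^ b
  have key : ∀ a b : ℕ, ∃ C : ℝ, ∀ n : ℕ, 1 ≤ n →
      |S a b n - (a.factorial : ℝ) * (b.factorial : ℝ) / ((a + b + 1).factorial : ℝ) * (n : ℝ) ^ (a + b + 1)| ≤
        C * (n : ℝ) ^ (a + b) := by
    intro a
    induction a with
    | zero =>
      intro b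
      refine ⟨1, fun n hn => ?_⟩
      have hdiff : ∀ m : ℕ, ∀ i : ℝ, 0 ≤ i → ((m : ℝ) + 1) * i ^ m ≤ (i + 1) ^ (m + 1) - i ^ (m + 1) ∧
          (i + 1) ^ (m + 1) - i ^ (m + 1) ≤ ((m : ℝ) + 1) * (i + 1) ^ m := by
        intro m i hi
        induction m with
        | zero => simp
        | succ m ih =>
          have h1 : i ^ (m + 1) ≤ (i + 1) ^ (m + 1) := pow_le_pow_left₀ hi (by linarith) _
          have e : (i + 1) ^ (m + 1 + 1) - i ^ (m + 1 + 1) =
              (i + 1) * ((i + 1) ^ (m + 1) - i ^ (m + 1)) + i ^ (m + 1) := by ring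
          rw [e]
          push_cast
          constructor
          · have h2 := mul_le_mul_of_nonneg_left ih.1 (by linarith : (0:ℝ) ≤ i + 1)
            have h3 : 0 ≤ ((m : ℝ) + 1) * i ^ m := by positivity
            nlinarith [pow_succ i m]
          · have h2 := mul_le_mul_of_nonneg_left ih.2 (by linarith : (0:ℝ) ≤ i + 1)
            nlinarith [pow_succ (i + 1) m]
      have htel : ∑ i ∈ Finset.range n, (((i : ℝ) + 1) ^ (b + 1) - (i : ℝ) ^ (b + 1)) = (n : ℝ) ^ (b + 1) := by
        have := Finset.sum_range_sub (fun i : ℕ => (i : ℝ) ^ (b + 1)) n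
        simpa using this
      have hlow : ((b : ℝ) + 1) * ∑ i ∈ Finset.range n, (i : ℝ) ^ b ≤ (n : ℝ) ^ (b + 1) := by
        rw [← htel, Finset.mul_sum]
        exact Finset.sum_le_sum fun i _ => (hdiff b _ (Nat.cast_nonneg i)).1
      have hup : (n : ℝ) ^ (b + 1) ≤ ((b : ℝ) + 1) * (∑ i ∈ Finset.range n, (i : ℝ) ^ b + (n : ℝ) ^ b) := by
        rw [← htel]
        refine (Finset.sum_le_sum fun i _ => (hdiff b _ (Nat.cast_nonneg i)).2).trans ?_
        rw [← Finset.mul_sum]
        refine mul_le_mul_of_nonneg_left ?_ (by positivity)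
        have h := Finset.sum_range_succ' (fun i : ℕ => (i : ℝ) ^ b) n
        rw [Finset.sum_range_succ] at h
        push_cast at h
        have : (0 : ℝ) ≤ (0 : ℝ) ^ b := by positivity
        linarith
      have hfac : ((0 : ℕ).factorial : ℝ) * (b.factorial : ℝ) / ((0 + b + 1).factorial : ℝ) = 1 / ((b : ℝ) + 1) := by
        rw [zero_add, Nat.factorial_succ, Nat.factorial_zero]
        push_cast
        field_simp
      have hS : S 0 b n = ∑ i ∈ Finset.range n, (i : ℝ) ^ b := by simp [S]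
      rw [hS, hfac, zero_add, one_mul, abs_le]
      have hb : (0 : ℝ) < (b : ℝ) + 1 := by positivity
      have e : 1 / ((b : ℝ) + 1) * (n : ℝ) ^ (b + 1) = (n : ℝ) ^ (b + 1) / ((b : ℝ) + 1) := by ring
      rw [e]
      constructor
      · rw [neg_le_sub_iff_le_add, div_le_iff₀ hb]; linarith
      · have : (∑ i ∈ Finset.range n, (i : ℝ) ^ b) ≤ (n : ℝ) ^ (b + 1) / ((b : ℝ) + 1) := by
          rw [le_div_iff₀ hb]; linarith
        have : (0 : ℝ) ≤ (n : ℝ) ^ b := by positivity
        linarith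
    | succ a ih =>
      intro b
      obtain ⟨C₁, h₁⟩ := ih b
      obtain ⟨C₂, h₂⟩ := ih (b + 1)
      refine ⟨C₁ + C₂, fun n hn => ?_⟩
      have hrec : S (a + 1) b n = (n : ℝ) * S a b n - S a (b + 1) n := by
        simp only [S, Finset.mul_sum, ← Finset.sum_sub_distrib]
        exact Finset.sum_congr rfl fun i _ => by ring
      have hA := h₁ n hn
      have hB := h₂ n hn
      rw [show a + (b + 1) + 1 = a + b + 2 by omega, show a + (b + 1) = a + b + 1 by omega] at hB
      rw [show a + 1 + b + 1 = a + b + 2 by omega, show a + 1 + b = a + b + 1 by omega, hrec]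
      have hfac : (((a + 1).factorial : ℕ) : ℝ) * (b.factorial : ℝ) / ((a + b + 2).factorial : ℝ) =
          (a.factorial : ℝ) * (b.factorial : ℝ) / ((a + b + 1).factorial : ℝ) -
          (a.factorial : ℝ) * ((b + 1).factorial : ℝ) / ((a + b + 2).factorial : ℝ) := by
        rw [show (a + b + 2).factorial = (a + b + 2) * (a + b + 1).factorial from Nat.factorial_succ _,
          Nat.factorial_succ a, Nat.factorial_succ b]
        have : ((a + b + 1).factorial : ℝ) ≠ 0 := by positivity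
        have : ((a : ℝ) + b + 2) ≠ 0 := by positivity
        push_cast
        field_simp
        ring
      rw [hfac]
      set P := (a.factorial : ℝ) * (b.factorial : ℝ) / ((a + b + 1).factorial : ℝ)
      set Q := (a.factorial : ℝ) * ((b + 1).factorial : ℝ) / ((a + b + 2).factorial : ℝ)
      have e : (n : ℝ) * S a b n - S a (b + 1) n - (P - Q) * (n : ℝ) ^ (a + b + 2) =
          (n : ℝ) * (S a b n - P * (n : ℝ) ^ (a + b + 1)) - (S a (b + 1) n - Q * (n : ℝ) ^ (a + b + 2)) := by
        ring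
      rw [e]
      refine (abs_sub _ _).trans ?_
      rw [abs_mul, abs_of_nonneg (by positivity : (0 : ℝ) ≤ n)]
      have := mul_le_mul_of_nonneg_left hA (by positivity : (0 : ℝ) ≤ n)
      rw [show (C₁ + C₂) * (n : ℝ) ^ (a + b + 1) = (n : ℝ) * (C₁ * (n : ℝ) ^ (a + b)) + C₂ * (n : ℝ) ^ (a + b + 1) by ring]
      linarith
  obtain ⟨C, hC⟩ := key (r - j) j
  rw [Nat.sub_add_cancel hj] at hC
  exact ⟨C, hC⟩

end Groth.Agent.S19210
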