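import Groth.Statements.S19212
-- import your own Groth.Agent.* helpers here

set_option autoImplicit false
universe u v
open TensorProduct
open DiagIdeal

namespace Groth.Agent.S19212

/-- swap -/
private noncomputable def sw (k A : Type*) [CommRing k] [CommRing A] [Algebra k A] : A ⊗[k] A →ₗ[k] A ⊗[k] A :=
  (TensorProduct.comm k A A).toLinearMap

private lemma sw_tmul {k A : Type*} [CommRing k] [CommRing A] [Algebra k A] (a b : A) :
    sw k A (a ⊗ₜ[k] b) = b ⊗ₜ[k] a := rfl

private lemma sw_sw {k A : Type*} [CommRing k] [CommRing A] [Algebra k A] (z : A ⊗[k] A) :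
    sw k A (sw k A z) = z := (TensorProduct.comm k A A).left_inv z


/-- Let k be an algebraically closed field of characteristic zero and A a smooth k-algebra which is a
domain. Let the symmetric group on three letters permute the factors of A ⊗ A ⊗ A (it is generated
by the swap of the first two factors and the swap of the last two), let r : A ⊗ (A ⊗ A) → A ⊗ A be
the k-linear map a ⊗ b ⊗ c ↦ ab ⊗ c, and let D : A ⊗ A → Ω_{A/k} be the k-linear map a ⊗ b ↦ 2a·db −
b·da. Then an element y of A ⊗ A satisfies D y = 0 if and only if y = r x for some x fixed by both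
swaps, and D is surjective. (This is exactness at the last two places of the four-term right
resolution of the invariants of the ideal of the big diagonal on the symmetric cube of X = Spec A,
namely invariant functions on X³, then functions on X × X through restriction to a diagonal, then
one-forms on X; exactness at the first two places is immediate. The published statement is the sheaf
version on the symmetric cube of a smooth complex variety of any dimension; an algebraically closed
field of characteristic zero is used here.) -/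
theorem result (k : Type u) [Field k] [IsAlgClosed k] [CharZero k]
    (A : Type v) [CommRing A] [Algebra k A] [Algebra.Smooth k A] [IsDomain A]
    (r : A ⊗[k] (A ⊗[k] A) →ₗ[k] A ⊗[k] A)
    (hr : ∀ a b c : A, r (a ⊗ₜ[k] (b ⊗ₜ[k] c)) = (a * b) ⊗ₜ[k] c)
    (D : A ⊗[k] A →ₗ[k] Ω[A⁄k])
    (hD : ∀ a b : A, D (a ⊗ₜ[k] b) = (2 : A) • (a • KaehlerDifferential.D k A b) - b • KaehlerDifferential.D k A a) :
    (∀ y : A ⊗[k] A, D y = 0 ↔ ∃ x : A ⊗[k] (A ⊗[k] A),
        TensorProduct.leftComm k A A A x = x ∧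
        LinearMap.lTensor A (TensorProduct.comm k A A).toLinearMap x = x ∧ r x = y) ∧
    Function.Surjective D := by
  -- cyclic permutation and the symmetrised restriction
  let τ : A ⊗[k] (A ⊗[k] A) →ₗ[k] A ⊗[k] (A ⊗[k] A) :=
    (TensorProduct.assoc k A A A).toLinearMap ∘ₗ (TensorProduct.comm k A (A ⊗[k] A)).toLinearMap
  let C : A ⊗[k] (A ⊗[k] A) →ₗ[k] A ⊗[k] (A ⊗[k] A) := LinearMap.id + τ + τ ∘ₗ τ
  let T : A ⊗[k] (A ⊗[k] A) →ₗ[k] A ⊗[k] A := r ∘ₗ C
  have hC : ∀ a b c : A, C (a ⊗ₜ[k] (b ⊗ₜ[k] c)) =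
      a ⊗ₜ[k] (b ⊗ₜ[k] c) + b ⊗ₜ[k] (c ⊗ₜ[k] a) + c ⊗ₜ[k] (a ⊗ₜ[k] b) := fun a b c => rfl
  have hT : ∀ a b c : A, T (a ⊗ₜ[k] (b ⊗ₜ[k] c)) =
      (a * b) ⊗ₜ[k] c + (b * c) ⊗ₜ[k] a + (c * a) ⊗ₜ[k] b := fun a b c => by
    simp only [T, LinearMap.comp_apply, hC, map_add, hr]
  let Φ : A ⊗[k] A →ₗ[k] Ω[A⁄k] := (KaehlerDifferential.D k A).tensorProductTo.restrictScalars k
  have hΦ : ∀ a b : A, Φ (a ⊗ₜ[k] b) = a • KaehlerDifferential.D k A b := fun a b => rfl
  have hDΦ : ∀ z, D z = 2 • Φ z - Φ (sw k A z) := by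
    intro z
    induction z using TensorProduct.induction_on with
    | zero => simp
    | tmul a b => rw [hD, sw_tmul, hΦ, hΦ, two_smul, two_smul]
    | add z w hz hw => simp only [map_add, hz, hw, smul_add]; abel
  -- the symmetrised elements are killed by `D`
  have hDT : ∀ w, D (T w) = 0 := by
    suffices D ∘ₗ T = 0 from fun w => LinearMap.congr_fun this w
    apply TensorProduct.ext'
    intro a bc
    induction bc using TensorProduct.induction_on with
    | zero => simp
    | add z w hz hw => simp only [tmul_add, map_add, hz, hw]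
    | tmul b c =>
      simp only [LinearMap.comp_apply, LinearMap.zero_apply, hT, map_add, hD, Derivation.leibniz]
      module
  -- the candidate inverse kills the square of the diagonal ideal
  let L : A ⊗[k] A →ₗ[k] (A ⊗[k] A) ⧸ LinearMap.range T :=
    (LinearMap.range T).mkQ ∘ₗ (2 • LinearMap.id + sw k A)
  have hL1 : ∀ a : A, L (a ⊗ₜ[k] 1) = 0 := by
    intro a
    refine (Submodule.Quotient.mk_eq_zero _).2 ⟨a ⊗ₜ[k] (1 ⊗ₜ[k] 1), ?_⟩
    rw [hT]
    simp only [mul_one, one_mul, LinearMap.add_apply, LinearMap.smul_apply, LinearMap.id_apply, sw_tmul]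
    rw [two_smul]; abel
  have hLb : ∀ a b c : A, L ((a ⊗ₜ[k] (1 : A)) *
      (((1 : A) ⊗ₜ[k] b - b ⊗ₜ[k] 1) * ((1 : A) ⊗ₜ[k] c - c ⊗ₜ[k] 1))) = 0 := by
    intro a b c
    refine (Submodule.Quotient.mk_eq_zero _).2 ⟨(2 : ℕ) • (a ⊗ₜ[k] ((b * c) ⊗ₜ[k] (1 : A)))
      - b ⊗ₜ[k] ((a * c) ⊗ₜ[k] (1 : A)) - c ⊗ₜ[k] ((a * b) ⊗ₜ[k] (1 : A))
      + (1 : A) ⊗ₜ[k] ((1 : A) ⊗ₜ[k] (a * b * c)) - a ⊗ₜ[k] (b ⊗ₜ[k] c), ?_⟩
    simp only [map_add, map_sub, map_nsmul, hT, LinearMap.add_apply, LinearMap.smul_apply,
      LinearMap.id_apply, sw_tmul, sub_mul, mul_sub, Algebra.TensorProduct.tmul_mul_tmul, mul_one, one_mul,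
      mul_comm, mul_left_comm]
    module
  have hsmul : ∀ (d : A) (x : A ⊗[k] A), d • x = (d ⊗ₜ[k] (1 : A)) * x := fun d x => by
    rw [Algebra.smul_def, Algebra.TensorProduct.algebraMap_apply, Algebra.algebraMap_self, RingHom.id_apply]
  have hLI : ∀ x ∈ (KaehlerDifferential.ideal k A) ^ 2, L x = 0 := by
    intro x hx
    rw [pow_two] at hx
    refine Submodule.mul_induction_on hx ?_ (fun u v hu hv => by rw [map_add, hu, hv, add_zero])
    intro p hp q hq
    rw [← Submodule.restrictScalars_mem A, ← KaehlerDifferential.submodule_span_range_eq_ideal] at hp hq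
    suffices ∀ a : A, L ((a ⊗ₜ[k] (1 : A)) * (p * q)) = 0 by
      simpa [← Algebra.TensorProduct.one_def] using this 1
    induction hp using Submodule.span_induction with
    | zero => intro a; simp
    | add u v _ _ hu hv => intro a; rw [add_mul, mul_add, map_add, hu, hv, add_zero]
    | smul d u _ hu =>
      intro a
      rw [hsmul, mul_assoc (d ⊗ₜ[k] (1 : A)), ← mul_assoc, Algebra.TensorProduct.tmul_mul_tmul, one_mul]
      exact hu _
    | mem u hu =>
      obtain ⟨b, rfl⟩ := hu
      induction hq using Submodule.span_induction with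
      | zero => intro a; simp
      | add u v _ _ hu hv => intro a; rw [mul_add, mul_add, map_add, hu, hv, add_zero]
      | smul d u _ hu =>
        intro a
        rw [hsmul, mul_left_comm _ (d ⊗ₜ[k] (1 : A)), ← mul_assoc, Algebra.TensorProduct.tmul_mul_tmul, one_mul]
        exact hu _
      | mem u hu =>
        obtain ⟨c, rfl⟩ := hu
        intro a
        exact hLb a b c
  have hker : ∀ z, Φ z = 0 → L z = 0 := by
    intro z hz
    let m := Algebra.TensorProduct.lmul' (S := A) k z
    have hi : z - m ⊗ₜ[k] (1 : A) ∈ KaehlerDifferential.ideal k A := by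
      simp [RingHom.mem_ker, m]
    have hΦi : Φ (z - m ⊗ₜ[k] (1 : A)) = 0 := by
      rw [map_sub, hz, hΦ, Derivation.map_one_eq_zero, smul_zero, sub_zero]
    have hd := KaehlerDifferential.D_tensorProductTo (R := k) (S := A) ⟨_, hi⟩
    have h0 := (KaehlerDifferential.ideal k A).toCotangent_eq_zero ⟨_, hi⟩ |>.1 (hd ▸ hΦi)
    have h1 := hLI _ h0
    rwa [map_sub, hL1, sub_zero] at h1
  refine ⟨fun y => ⟨fun hy => ?_, ?_⟩, fun ω => ?_⟩
  · have hz : Φ (2 • y - sw k A y) = 0 := by rw [map_sub, map_nsmul, ← hDΦ, hy]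
    have h1 := (Submodule.Quotient.mk_eq_zero _).1 (hker _ hz)
    have h3 : (2 • LinearMap.id + sw k A : A ⊗[k] A →ₗ[k] A ⊗[k] A) (2 • y - sw k A y) = (3 : k) • y := by
      simp only [LinearMap.add_apply, LinearMap.smul_apply, LinearMap.id_apply, map_sub, map_nsmul, sw_sw]
      module
    rw [h3] at h1
    obtain ⟨w, hw⟩ := h1
    let σ : A ⊗[k] (A ⊗[k] A) →ₗ[k] A ⊗[k] (A ⊗[k] A) := (TensorProduct.leftComm k A A A).toLinearMap
    refine ⟨(6 : k)⁻¹ • (C w + σ (C w)), ?_, ?_, ?_⟩
    · simp only [map_smul, map_add]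
      congr 1
      rw [add_comm]
      congr 1
      suffices σ ∘ₗ σ = LinearMap.id from LinearMap.congr_fun this (C w)
      ext a b c; rfl
    · simp only [map_smul, map_add]
      congr 1
      suffices (LinearMap.lTensor A (TensorProduct.comm k A A).toLinearMap) ∘ₗ (C + σ ∘ₗ C) = C + σ ∘ₗ C by
        simpa [map_add] using LinearMap.congr_fun this w
      apply TensorProduct.ext'
      intro a bc
      induction bc using TensorProduct.induction_on with
      | zero => simp
      | add z w hz hw => simp only [tmul_add, map_add, hz, hw]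
      | tmul b c =>
        simp only [LinearMap.comp_apply, LinearMap.add_apply, hC, map_add, σ, LinearEquiv.coe_coe,
          TensorProduct.leftComm_tmul, LinearMap.lTensor_tmul, TensorProduct.comm_tmul]
        abel
    · have hσ : r ∘ₗ σ = r := by
        ext a b c
        simp [σ, hr, mul_comm]
      rw [map_smul, map_add, show r (σ (C w)) = r (C w) from LinearMap.congr_fun hσ _, ← two_smul k,
        show r (C w) = T w from rfl, hw, smul_smul, smul_smul]
      norm_num
  · rintro ⟨x, hx1, hx2, rfl⟩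
    have hτ : τ x = x := by
      suffices τ = (LinearMap.lTensor A (TensorProduct.comm k A A).toLinearMap) ∘ₗ
          (TensorProduct.leftComm k A A A).toLinearMap by
        rw [this]; simp [hx1, hx2]
      ext a b c; rfl
    have : T x = (3 : k) • r x := by
      simp only [T, C, LinearMap.comp_apply, LinearMap.add_apply, LinearMap.id_apply, hτ, map_add]
      module
    have h := hDT x
    rw [this, map_smul] at h
    exact (smul_eq_zero.mp h).resolve_left (by norm_num)
  · obtain ⟨z, rfl⟩ := KaehlerDifferential.tensorProductTo_surjective k A ω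
    refine ⟨(3 : k)⁻¹ • (2 • z + sw k A z), ?_⟩
    rw [map_smul, hDΦ, inv_smul_eq_iff₀ (by norm_num)]
    simp only [map_add, map_nsmul, sw_sw]
    show _ = (3 : k) • Φ z
    module

end Groth.Agent.S19212
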