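import Groth.Statements.S19213
-- import your own Groth.Agent.* helpers here

set_option autoImplicit false
universe u v
open TensorProduct
open DiagIdeal

namespace Groth.Agent.S19213

/-- Let k be an algebraically closed field of characteristic zero and A a smooth k-algebra which is a
domain. Let r₁₂, r₂₃ : A ⊗ (A ⊗ A) → A ⊗ A be the k-linear maps a ⊗ u ⊗ v ↦ au ⊗ v and a ⊗ u ⊗ v ↦
uv ⊗ a (restriction to the diagonal of factors 1, 2, resp. 2, 3, the repeated coordinate written
first), let m : A ⊗ A → A be multiplication, and let ψ : (A ⊗ A) × (A ⊗ A) → Ω_{A/k} be the k-linear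
map with ψ(a ⊗ u, b ⊗ v) = 2a·du − v·db. Then for p, q in A ⊗ A with m p = m q one has ψ(p, q) = 0
if and only if (p, q) = (r₁₂ x, r₂₃ x) for some x fixed by the swap of the last two tensor factors;
and every element of Ω_{A/k} is ψ(p, q) for some pair with m p = m q. (This is exactness at the last
two places of the right resolution, on the symmetric cube of X = Spec A, of the invariants of the
ideal of the big diagonal under the transposition of the last two factors; exactness at the first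
two places is immediate. The published statement is the sheaf version for a smooth complex variety
of any dimension; an algebraically closed field of characteristic zero is used here.) -/
theorem result (k : Type u) [Field k] [IsAlgClosed k] [CharZero k]
    (A : Type v) [CommRing A] [Algebra k A] [Algebra.Smooth k A] [IsDomain A]
    (r₁₂ r₂₃ : A ⊗[k] (A ⊗[k] A) →ₗ[k] A ⊗[k] A)
    (h₁₂ : ∀ a u v : A, r₁₂ (a ⊗ₜ[k] (u ⊗ₜ[k] v)) = (a * u) ⊗ₜ[k] v)
    (h₂₃ : ∀ a u v : A, r₂₃ (a ⊗ₜ[k] (u ⊗ₜ[k] v)) = (u * v) ⊗ₜ[k] a)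
    (ψ : (A ⊗[k] A) × (A ⊗[k] A) →ₗ[k] Ω[A⁄k])
    (hψ : ∀ a u b v : A, ψ (a ⊗ₜ[k] u, b ⊗ₜ[k] v) =
      (2 : A) • (a • KaehlerDifferential.D k A u) - v • KaehlerDifferential.D k A b) :
    (∀ p q : A ⊗[k] A, LinearMap.mul' k A p = LinearMap.mul' k A q →
      (ψ (p, q) = 0 ↔ ∃ x : A ⊗[k] (A ⊗[k] A),
        LinearMap.lTensor A (TensorProduct.comm k A A).toLinearMap x = x ∧ r₁₂ x = p ∧ r₂₃ x = q)) ∧
    (∀ ω : Ω[A⁄k], ∃ p q : A ⊗[k] A, LinearMap.mul' k A p = LinearMap.mul' k A q ∧ ψ (p, q) = ω) := by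
  let Φ : A ⊗[k] A →ₗ[k] Ω[A⁄k] := (KaehlerDifferential.D k A).tensorProductTo.restrictScalars k
  have hΦ : ∀ a b : A, Φ (a ⊗ₜ[k] b) = a • KaehlerDifferential.D k A b := fun a b => rfl
  let sw : A ⊗[k] A →ₗ[k] A ⊗[k] A := (TensorProduct.comm k A A).toLinearMap
  have hsw : ∀ a b : A, sw (a ⊗ₜ[k] b) = b ⊗ₜ[k] a := fun a b => rfl
  have hψΦ : ∀ p q, ψ (p, q) = (2 : k) • Φ p - Φ (sw q) := by
    have h : ∀ p, ψ (p, 0) = (2 : k) • Φ p := fun p => by
      induction p using TensorProduct.induction_on with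
      | zero => simp [Prod.mk_zero_zero]
      | tmul a u =>
        have := hψ a u 0 0
        rw [zero_tmul, zero_smul, sub_zero] at this
        rw [this, hΦ, two_smul, two_smul]
      | add z w hz hw => rw [show ((z + w, 0) : (A ⊗[k] A) × (A ⊗[k] A)) = (z, 0) + (w, 0) by simp, map_add, hz, hw, map_add, smul_add]
    have h' : ∀ q, ψ (0, q) = - Φ (sw q) := fun q => by
      induction q using TensorProduct.induction_on with
      | zero => simp [Prod.mk_zero_zero]
      | tmul b v =>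
        have := hψ 0 0 b v
        rw [zero_tmul, zero_smul, smul_zero, zero_sub] at this
        rw [this, hsw, hΦ]
      | add z w hz hw => rw [show ((0, z + w) : (A ⊗[k] A) × (A ⊗[k] A)) = (0, z) + (0, w) by simp, map_add, hz, hw, map_add, map_add, neg_add]
    intro p q
    rw [show ((p, q) : (A ⊗[k] A) × (A ⊗[k] A)) = (p, 0) + (0, q) by simp, map_add, h, h', sub_eq_add_neg]
  let π : A ⊗[k] (A ⊗[k] A) →ₗ[k] A ⊗[k] (A ⊗[k] A) :=
    LinearMap.lTensor A (TensorProduct.comm k A A).toLinearMap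
  have hπ : ∀ a u v : A, π (a ⊗ₜ[k] (u ⊗ₜ[k] v)) = a ⊗ₜ[k] (v ⊗ₜ[k] u) := fun a u v => rfl
  have hππ : ∀ x, π (π x) = x := by
    suffices π ∘ₗ π = LinearMap.id from fun x => LinearMap.congr_fun this x
    ext a u v; rfl
  let S : A ⊗[k] (A ⊗[k] A) →ₗ[k] A ⊗[k] (A ⊗[k] A) := LinearMap.id + π
  have hS : ∀ x, π (S x) = S x := fun x => by
    simp only [S, LinearMap.add_apply, LinearMap.id_apply, map_add, hππ, add_comm]
  let G : A ⊗[k] (A ⊗[k] A) →ₗ[k] (A ⊗[k] A) × (A ⊗[k] A) := (r₁₂.prod r₂₃) ∘ₗ S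
  have hG : ∀ a u v : A, G (a ⊗ₜ[k] (u ⊗ₜ[k] v)) =
      ((a * u) ⊗ₜ[k] v + (a * v) ⊗ₜ[k] u, (u * v) ⊗ₜ[k] a + (v * u) ⊗ₜ[k] a) := fun a u v => by
    simp [G, S, hπ, h₁₂, h₂₃]
  have hψG : ∀ x, ψ (G x) = 0 := by
    suffices ψ ∘ₗ G = 0 from fun x => LinearMap.congr_fun this x
    apply TensorProduct.ext'
    intro a uv
    induction uv using TensorProduct.induction_on with
    | zero => simp
    | add z w hz hw => simp only [tmul_add, map_add, hz, hw]
    | tmul u v =>
      simp only [LinearMap.comp_apply, LinearMap.zero_apply, hG, hψΦ, map_add, hsw, hΦ,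
        Derivation.leibniz, two_smul, mul_comm v u]
      module
  -- `(z, 0)` lies in the range of `G` for `z` in the square of the diagonal ideal
  have hsmul : ∀ (d : A) (x : A ⊗[k] A), d • x = (d ⊗ₜ[k] (1 : A)) * x := fun d x => by
    rw [Algebra.smul_def, Algebra.TensorProduct.algebraMap_apply, Algebra.algebraMap_self, RingHom.id_apply]
  let L : A ⊗[k] A →ₗ[k] (((A ⊗[k] A) × (A ⊗[k] A)) ⧸ LinearMap.range G) :=
    (LinearMap.range G).mkQ ∘ₗ LinearMap.inl k (A ⊗[k] A) (A ⊗[k] A)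
  have hLb : ∀ a b c : A, L ((a ⊗ₜ[k] (1 : A)) *
      (((1 : A) ⊗ₜ[k] b - b ⊗ₜ[k] 1) * ((1 : A) ⊗ₜ[k] c - c ⊗ₜ[k] 1))) = 0 := by
    intro a b c
    refine (Submodule.Quotient.mk_eq_zero _).2
      ⟨a ⊗ₜ[k] ((b * c) ⊗ₜ[k] (1 : A)) - a ⊗ₜ[k] (b ⊗ₜ[k] c), ?_⟩
    rw [map_sub, hG, hG]
    simp only [LinearMap.coe_inl, Prod.mk_sub_mk, sub_mul, mul_sub,
      Algebra.TensorProduct.tmul_mul_tmul, mul_one, one_mul, Prod.mk.injEq]
    simp only [mul_comm, mul_left_comm]
    exact ⟨by abel, by abel⟩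
  have hLI : ∀ x ∈ (KaehlerDifferential.ideal k A) ^ 2, L x = 0 := by
    intro x hx
    rw [pow_two] at hx
    refine Submodule.mul_induction_on hx ?_ (fun u v hu hv => by rw [map_add, hu, hv, add_zero])
    intro p hp q hq
    rw [← Submodule.restrictScalars_mem A, ← KaehlerDifferential.submodule_span_range_eq_ideal] at hp hq
    suffices ∀ a : A, L ((a ⊗ₜ[k] (1 : A)) * (p * q)) = 0 by
      simpa [← Algebra.TensorProduct.one_def] using this 1
    induction hp using Submodule.span_induction with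
    | zero => intro a; simp
    | add u v _ _ hu hv => intro a; rw [add_mul, mul_add, map_add, hu, hv, add_zero]
    | smul d u _ hu =>
      intro a
      rw [hsmul, mul_assoc (d ⊗ₜ[k] (1 : A)), ← mul_assoc, Algebra.TensorProduct.tmul_mul_tmul, one_mul]
      exact hu _
    | mem u hu =>
      obtain ⟨b, rfl⟩ := hu
      induction hq using Submodule.span_induction with
      | zero => intro a; simp
      | add u v _ _ hu hv => intro a; rw [mul_add, mul_add, map_add, hu, hv, add_zero]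
      | smul d u _ hu =>
        intro a
        rw [hsmul, mul_left_comm _ (d ⊗ₜ[k] (1 : A)), ← mul_assoc, Algebra.TensorProduct.tmul_mul_tmul, one_mul]
        exact hu _
      | mem u hu =>
        obtain ⟨c, rfl⟩ := hu
        intro a
        exact hLb a b c
  refine ⟨fun p q hm => ⟨fun h0 => ?_, ?_⟩, fun ω => ?_⟩
  · -- remove the second component
    let N : A ⊗[k] A →ₗ[k] A ⊗[k] (A ⊗[k] A) :=
      LinearMap.lTensor A ((TensorProduct.mk k A A).flip 1) ∘ₗ sw
    have hGN : ∀ z, G (N z) = ((LinearMap.mul' k A z) ⊗ₜ[k] (1 : A) + sw z, (2 : k) • z) := by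
      intro z
      induction z using TensorProduct.induction_on with
      | zero => simp [Prod.mk_zero_zero]
      | tmul u a =>
        simp [N, hsw, hG, mul_comm a u, two_smul]
      | add z w hz hw =>
        simp only [map_add, hz, hw, Prod.mk_add_mk, add_tmul, smul_add, Prod.mk.injEq, and_true]
        abel
    set p' := p - (2 : k)⁻¹ • ((LinearMap.mul' k A q) ⊗ₜ[k] (1 : A) + sw q) with hp'
    have hsw' : ∀ z, LinearMap.mul' k A (sw z) = LinearMap.mul' k A z := by
      suffices LinearMap.mul' k A ∘ₗ sw = LinearMap.mul' k A from fun z => LinearMap.congr_fun this z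
      ext a b; simp [hsw, mul_comm]
    have hmp : LinearMap.mul' k A p' = 0 := by
      rw [hp', map_sub, map_smul, map_add, hsw', LinearMap.mul'_apply, mul_one, hm, ← two_smul k, smul_smul,
        inv_mul_cancel₀ (two_ne_zero' k), one_smul, sub_self]
    have hi : p' ∈ KaehlerDifferential.ideal k A := by
      rw [RingHom.mem_ker]; exact hmp
    have hΦp : Φ p' = 0 := by
      rw [hψΦ, sub_eq_zero] at h0
      rw [hp', map_sub, map_smul, map_add, hΦ, Derivation.map_one_eq_zero, smul_zero, zero_add, ← h0, smul_smul,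
        inv_mul_cancel₀ (two_ne_zero' k), one_smul, sub_self]
    have hd := KaehlerDifferential.D_tensorProductTo (R := k) (S := A) ⟨_, hi⟩
    have hsq := (KaehlerDifferential.ideal k A).toCotangent_eq_zero ⟨_, hi⟩ |>.1 (hd ▸ hΦp)
    obtain ⟨w, hw⟩ := (Submodule.Quotient.mk_eq_zero _).1 (hLI _ hsq)
    refine ⟨S (w + (2 : k)⁻¹ • N q), hS _, ?_⟩
    have hw' : G (w + (2 : k)⁻¹ • N q) = (p, q) := by
      rw [map_add, map_smul, hw, hGN]
      simp [hp', smul_smul]
    exact ⟨congrArg Prod.fst hw', congrArg Prod.snd hw'⟩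
  · rintro ⟨x, hx, rfl, rfl⟩
    have hGx : G x = ((2 : k) • r₁₂ x, (2 : k) • r₂₃ x) := by
      have hSx : S x = (2 : k) • x := by
        simp only [S, π, LinearMap.add_apply, LinearMap.id_apply, hx, two_smul]
      simp [G, hSx]
    have := hψG x
    rw [hGx, ← Prod.smul_mk, map_smul] at this
    exact (smul_eq_zero.mp this).resolve_left (two_ne_zero' k)
  · obtain ⟨z, rfl⟩ := KaehlerDifferential.tensorProductTo_surjective k A ω
    refine ⟨(2 : k)⁻¹ • (z - (LinearMap.mul' k A z) ⊗ₜ[k] (1 : A)), 0, ?_, ?_⟩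
    · simp
    · rw [hψΦ, map_zero, map_zero, sub_zero, map_smul, smul_smul, mul_inv_cancel₀ (two_ne_zero' k), one_smul,
        map_sub, hΦ, Derivation.map_one_eq_zero, smul_zero, sub_zero]
      rfl

end Groth.Agent.S19213
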