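import Groth.Statements.S19214
import Groth.Agent.DiagParityLib.Basic
import Groth.Agent.DiagParityLib.RegDiag

set_option autoImplicit false
universe u v
open TensorProduct
open DiagIdeal

namespace Groth.Agent.S19214

open Groth.Agent.DiagParityLib

section
variable (k : Type u) [Field k] (A : Type v) [CommRing A] [Algebra k A]

/-- factor inclusion -/
noncomputable abbrev sg (i : Fin 3) : A →ₐ[k] (⨂[k] _ : Fin 3, A) :=
  PiTensorProduct.singleAlgHom (R := k) (A := fun _ : Fin 3 => A) i

/-- the diagonal ideal of two factors -/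
noncomputable abbrev dI (i j : Fin 3) : Ideal (⨂[k] _ : Fin 3, A) :=
  Ideal.span (Set.range fun a : A => sg k A i a - sg k A j a)

/-- two-factor inclusion -/
noncomputable abbrev io (i j : Fin 3) : A ⊗[k] A →ₐ[k] (⨂[k] _ : Fin 3, A) :=
  Algebra.TensorProduct.lift (sg k A i) (sg k A j) fun _ _ => Commute.all _ _

/-- the product of the three diagonal ideals -/
noncomputable abbrev dP : Ideal (⨂[k] _ : Fin 3, A) := dI k A 0 1 * dI k A 0 2 * dI k A 1 2

variable {k A}

/-- algebra map out of the triple tensor power -/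
noncomputable def out {S : Type*} [CommRing S] [Algebra k S] (f g h : A →ₐ[k] S) :
    (⨂[k] _ : Fin 3, A) →ₐ[k] S :=
  PiTensorProduct.liftAlgHom
    ((MultilinearMap.mkPiAlgebra k (Fin 3) S).compLinearMap (fun i => (![f, g, h] i).toLinearMap))
    (by simp [Fin.prod_univ_three])
    (fun x y => by simp [Fin.prod_univ_three]; ring)

theorem out_tprod {S : Type*} [CommRing S] [Algebra k S] (f g h : A →ₐ[k] S) (z : Fin 3 → A) :
    out f g h (PiTensorProduct.tprod k z) = f (z 0) * g (z 1) * h (z 2) := by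
  simp [out, PiTensorProduct.liftAlgHom, Fin.prod_univ_three]

theorem out_sg {S : Type*} [CommRing S] [Algebra k S] (f g h : A →ₐ[k] S) (i : Fin 3) (a : A) :
    out f g h (sg k A i a) = (![f, g, h] i) a := by
  show out f g h (PiTensorProduct.tprod k (MonoidHom.mulSingle (fun _ : Fin 3 => A) i a)) = _
  rw [out_tprod]
  fin_cases i <;> simp [Pi.mulSingle_apply]

theorem tprod_eq (z : Fin 3 → A) :
    PiTensorProduct.tprod k z = sg k A 0 (z 0) * sg k A 1 (z 1) * sg k A 2 (z 2) := by
  show _ = PiTensorProduct.tprod k _ * PiTensorProduct.tprod k _ * PiTensorProduct.tprod k _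
  rw [PiTensorProduct.tprod_mul_tprod, PiTensorProduct.tprod_mul_tprod]
  congr 1
  funext i
  fin_cases i <;> simp [Pi.mulSingle_apply]

theorem out_eq_zero {S : Type*} [CommRing S] [Algebra k S] (f g h : A →ₐ[k] S) (i j : Fin 3)
    (he : ![f, g, h] i = ![f, g, h] j) {x : ⨂[k] _ : Fin 3, A} (hx : x ∈ dI k A i j) : out f g h x = 0 := by
  have : dI k A i j ≤ RingHom.ker (out f g h) := Ideal.span_le.2 (by
    rintro _ ⟨a, rfl⟩
    simp only [SetLike.mem_coe, RingHom.mem_ker, map_sub, out_sg, he, sub_self])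
  exact this hx

theorem mk_io_eq (i j : Fin 3) (u : A ⊗[k] A) :
    io k A i j u - sg k A i (Algebra.TensorProduct.lmul' k u) ∈ dI k A i j := by
  induction u with
  | zero => rw [map_zero, map_zero, map_zero, sub_zero]; exact zero_mem _
  | tmul a b =>
    rw [Algebra.TensorProduct.lift_tmul, Algebra.TensorProduct.lmul'_apply_tmul, map_mul, ← mul_sub,
      ← neg_sub]
    exact Ideal.mul_mem_left _ _ (neg_mem (Ideal.subset_span ⟨b, rfl⟩))
  | add p q hp hq => rw [map_add, map_add, map_add, add_sub_add_comm]; exact add_mem hp hq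

theorem io_sub_io (u : A ⊗[k] A) : io k A 0 1 u - io k A 0 2 u ∈ dI k A 1 2 := by
  induction u with
  | zero => simp
  | tmul a b =>
    rw [Algebra.TensorProduct.lift_tmul, Algebra.TensorProduct.lift_tmul, ← mul_sub]
    exact Ideal.mul_mem_left _ _ (Ideal.subset_span ⟨b, rfl⟩)
  | add p q hp hq => rw [map_add, map_add, add_sub_add_comm]; exact add_mem hp hq

/-- the diagonal ideal -/
noncomputable abbrev DI (k : Type u) (A : Type v) [Field k] [CommRing A] [Algebra k A] : Ideal (A ⊗[k] A) :=
  RingHom.ker (Algebra.TensorProduct.lmul' k (S := A))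

theorem io_mem (i j : Fin 3) (u : DI k A) : io k A i j (u : A ⊗[k] A) ∈ dI k A i j := by
  have := mk_io_eq i j (u : A ⊗[k] A)
  rwa [RingHom.mem_ker.1 u.2, map_zero, sub_zero] at this

/-- `u ⊗ v ↦ ι₀₁ u · ι₀₂ v` modulo the product ideal. -/
noncomputable def Psi : (DI k A) ⊗[A ⊗[k] A] (DI k A) →+ (⨂[k] _ : Fin 3, A) ⧸ dP k A :=
  TensorProduct.liftAddHom
    { toFun := fun u =>
        { toFun := fun v => Ideal.Quotient.mk _ (io k A 0 1 (u : A ⊗[k] A) * io k A 0 2 (v : A ⊗[k] A))
          map_zero' := by simp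
          map_add' := fun v w => by rw [← map_add, ← mul_add, ← map_add]; rfl }
      map_zero' := by ext v; simp
      map_add' := fun v w => by
        ext z
        simp only [AddMonoidHom.coe_mk, ZeroHom.coe_mk, AddMonoidHom.add_apply]
        rw [← map_add, ← add_mul, ← map_add]; rfl }
    (fun r u v => by
      simp only [AddMonoidHom.coe_mk, ZeroHom.coe_mk, SetLike.val_smul, smul_eq_mul]
      rw [Ideal.Quotient.eq, map_mul, map_mul,
        show io k A 0 1 r * io k A 0 1 (u : A ⊗[k] A) * io k A 0 2 (v : A ⊗[k] A) -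
            io k A 0 1 (u : A ⊗[k] A) * (io k A 0 2 r * io k A 0 2 (v : A ⊗[k] A)) =
          (io k A 0 1 (u : A ⊗[k] A) * io k A 0 2 (v : A ⊗[k] A)) * (io k A 0 1 r - io k A 0 2 r) by ring]
      exact Ideal.mul_mem_mul (Ideal.mul_mem_mul (io_mem 0 1 u) (io_mem 0 2 v)) (io_sub_io r))

theorem Psi_tmul (u v : DI k A) :
    Psi (u ⊗ₜ[A ⊗[k] A] v) = Ideal.Quotient.mk _ (io k A 0 1 (u : A ⊗[k] A) * io k A 0 2 (v : A ⊗[k] A)) := rfl

theorem perm_io (u : A ⊗[k] A) :
    perm (k := k) (Equiv.swap (1 : Fin 3) 2) (io k A 0 1 u) = io k A 0 2 u ∧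
      perm (k := k) (Equiv.swap (1 : Fin 3) 2) (io k A 0 2 u) = io k A 0 1 u := by
  induction u with
  | zero => simp
  | tmul a b =>
    simp only [Algebra.TensorProduct.lift_tmul, map_mul, perm_single, Equiv.swap_apply_left,
      Equiv.swap_apply_right, Equiv.swap_apply_of_ne_of_ne (show (0 : Fin 3) ≠ 1 by decide) (show (0 : Fin 3) ≠ 2 by decide)]
    exact ⟨trivial, trivial⟩
  | add p q hp hq => simp only [map_add, hp.1, hp.2, hq.1, hq.2]; exact ⟨trivial, trivial⟩

/-- representing a symmetric tensor -/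
def Rep (y : ⨂[k] _ : Fin 3, A) : Prop :=
  ∃ t : (DI k A) ⊗[A ⊗[k] A] (DI k A), Psi t = Ideal.Quotient.mk _ y ∧
    Psi (TensorProduct.comm _ _ _ t) = Ideal.Quotient.mk _ (perm (k := k) (Equiv.swap (1 : Fin 3) 2) y) ∧
    ((mulI (DI k A) t : DI k A) : A ⊗[k] A) =
      out Algebra.TensorProduct.includeLeft Algebra.TensorProduct.includeRight Algebra.TensorProduct.includeRight y

theorem rep_of_mem (x : ⨂[k] _ : Fin 3, A) (h1 : x ∈ dI k A 0 1) (h2 : x ∈ dI k A 0 2) : Rep x := by
  let p1 := out (sg k A 0) (sg k A 0) (sg k A 2)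
  let p2 := out (sg k A 0) (sg k A 1) (sg k A 0)
  have e : x = (x - p2 x) - p1 (x - p2 x) := by
    rw [show p2 x = 0 from out_eq_zero _ _ _ 0 2 rfl h2, sub_zero,
      show p1 x = 0 from out_eq_zero _ _ _ 0 1 rfl h1, sub_zero]
  rw [e]
  suffices h : ∀ y, Rep ((y - p2 y) - p1 (y - p2 y)) from h x
  intro y
  induction y using PiTensorProduct.induction_on with
  | smul_tprod r z =>
    let u : DI k A := ⟨((r • z 0) ⊗ₜ[k] 1) * (1 ⊗ₜ[k] z 1 - z 1 ⊗ₜ[k] 1),
      Ideal.mul_mem_left _ _ (by simp [RingHom.mem_ker])⟩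
    let v : DI k A := ⟨1 ⊗ₜ[k] z 2 - z 2 ⊗ₜ[k] 1, by simp [RingHom.mem_ker]⟩
    have hu : io k A 0 1 (u : A ⊗[k] A) = (r • sg k A 0 (z 0)) * (sg k A 1 (z 1) - sg k A 0 (z 1)) := by
      simp [u, map_mul, map_sub, map_one]
    have hv : io k A 0 2 (v : A ⊗[k] A) = sg k A 2 (z 2) - sg k A 0 (z 2) := by
      simp [v, map_sub, map_one]
    have hy : (r • PiTensorProduct.tprod k z - p2 (r • PiTensorProduct.tprod k z)) -
        p1 (r • PiTensorProduct.tprod k z - p2 (r • PiTensorProduct.tprod k z)) =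
        io k A 0 1 (u : A ⊗[k] A) * io k A 0 2 (v : A ⊗[k] A) := by
      simp only [hu, hv, map_sub, map_smul, p1, p2, out_tprod, map_mul, out_sg, tprod_eq]
      simp only [Matrix.cons_val, out_sg, Algebra.smul_def]
      ring
    refine ⟨u ⊗ₜ v, ?_, ?_, ?_⟩
    · rw [hy]; rfl
    · rw [hy, TensorProduct.comm_tmul, Psi_tmul, map_mul (perm (k := k) (Equiv.swap (1 : Fin 3) 2)), (perm_io _).1, (perm_io _).2, mul_comm]
    · rw [hy, map_mul]
      have hq1 : ∀ w : A ⊗[k] A, ∀ j : Fin 3, j ≠ 0 → out Algebra.TensorProduct.includeLeft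
          Algebra.TensorProduct.includeRight Algebra.TensorProduct.includeRight (io k A 0 j w) = w := by
        intro w j hj
        induction w with
        | zero => simp
        | tmul a b =>
          rw [Algebra.TensorProduct.lift_tmul, map_mul, out_sg, out_sg]
          fin_cases j
          · exact absurd rfl hj
          all_goals simp
        | add p q hp hq => rw [map_add, map_add, hp, hq]
      rw [hq1 _ 1 (by decide), hq1 _ 2 (by decide)]
      rfl
  | add a b ha hb =>
    obtain ⟨s, hs1, hs2, hs3⟩ := ha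
    obtain ⟨t, ht1, ht2, ht3⟩ := hb
    have e : (a + b - p2 (a + b)) - p1 (a + b - p2 (a + b)) =
        ((a - p2 a) - p1 (a - p2 a)) + ((b - p2 b) - p1 (b - p2 b)) := by
      simp only [map_add, map_sub]; ring
    rw [e]
    exact ⟨s + t, by rw [map_add, hs1, ht1, map_add], by rw [map_add, map_add, hs2, ht2, map_add, map_add],
      by rw [map_add, Submodule.coe_add, hs3, ht3, map_add]⟩

end


/-- n = 3, affine form: let k be an algebraically closed field of characteristic zero and A a smooth
k-algebra which is a domain. In the triple tensor power of A over k, indexed by Fin 3, let I_{ij} be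
the ideal generated by the elements a_i − a_j (a ∈ A put in factor i, resp. j, and 1 elsewhere), the
ideal of the diagonal of factors i and j. Then every element fixed by all permutations of the three
factors and lying in I₁₂ ∩ I₁₃ ∩ I₂₃ lies in the product I₁₂ I₁₃ I₂₃: on the symmetric cube of Spec
A the invariants of the product of the three diagonal ideals and of their intersection coincide.
(The published statement is the sheaf version for a smooth complex variety; an algebraically closed
field of characteristic zero is used here.) -/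
theorem result (k : Type u) [Field k] [IsAlgClosed k] [CharZero k]
    (A : Type v) [CommRing A] [Algebra k A] [Algebra.Smooth k A] [IsDomain A]
    (x : ⨂[k] _ : Fin 3, A)
    (hx : ∀ σ : Equiv.Perm (Fin 3), PiTensorProduct.reindex k (fun _ : Fin 3 => A) σ x = x)
    (hmem : ∀ p : Fin 3 × Fin 3, p.1 < p.2 → x ∈ Ideal.span (Set.range fun a : A =>
        PiTensorProduct.singleAlgHom (R := k) (A := fun _ : Fin 3 => A) p.1 a -
        PiTensorProduct.singleAlgHom (R := k) (A := fun _ : Fin 3 => A) p.2 a)) :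
    x ∈ ∏ p ∈ Finset.univ.filter (fun p : Fin 3 × Fin 3 => p.1 < p.2), Ideal.span (Set.range fun a : A =>
        PiTensorProduct.singleAlgHom (R := k) (A := fun _ : Fin 3 => A) p.1 a -
        PiTensorProduct.singleAlgHom (R := k) (A := fun _ : Fin 3 => A) p.2 a) := by
  have h2k : IsUnit (2 : k) := IsUnit.mk0 _ two_ne_zero
  have h2B : IsUnit (2 : A ⊗[k] A) := by
    have := h2k.map (algebraMap k (A ⊗[k] A)); rwa [map_ofNat] at this
  have h2R : IsUnit (2 : ⨂[k] _ : Fin 3, A) := by
    have := h2k.map (algebraMap k (⨂[k] _ : Fin 3, A)); rwa [map_ofNat] at this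
  have h01 : x ∈ dI k A 0 1 := hmem (0, 1) (show (0 : Fin 3) < 1 by decide)
  have h02 : x ∈ dI k A 0 2 := hmem (0, 2) (show (0 : Fin 3) < 2 by decide)
  have h12 : x ∈ dI k A 1 2 := hmem (1, 2) (show (1 : Fin 3) < 2 by decide)
  obtain ⟨t, ht1, ht2, ht3⟩ := rep_of_mem x h01 h02
  rw [out_eq_zero _ _ _ 1 2 rfl h12] at ht3
  rw [show DiagParityLib.perm (k := k) (Equiv.swap (1 : Fin 3) 2) x = x from hx (Equiv.swap 1 2)] at ht2
  have ht : DiagParityLib.mulI (DI k A) t = 0 := Subtype.ext ht3
  have h0 : t + TensorProduct.comm (A ⊗[k] A) _ _ t = 0 :=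
    DiagParityLib.eq_zero_of_symm (DI k A) (DiagParityLib.fg_ker_lmul k A) h2B
      (fun M _ hM => DiagParityLib.diag_koszulExact k A M hM) _
      (by rw [map_add, DiagParityLib.mulI_comm, ht, add_zero])
      (by rw [map_add, add_comm]; congr 1; exact (TensorProduct.comm _ _ _).left_inv t)
  have h3 : Ideal.Quotient.mk (dP k A) (2 * x) = 0 := by
    rw [two_mul, map_add]
    nth_rw 1 [← ht1]
    rw [← ht2, ← map_add, h0, map_zero]
  have h4 : x ∈ dP k A := (Ideal.unit_mul_mem_iff_mem _ h2R).1 (Ideal.Quotient.eq_zero_iff_mem.1 h3)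
  rw [show Finset.univ.filter (fun p : Fin 3 × Fin 3 => p.1 < p.2) = {(0, 1), (0, 2), (1, 2)} from by decide,
    Finset.prod_insert (by decide), Finset.prod_insert (by decide), Finset.prod_singleton, ← mul_assoc]
  exact h4

end Groth.Agent.S19214
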