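import Groth.Statements.S19216
import Mathlib.Algebra.CharP.Defs
import Mathlib.Tactic.Ring
import Mathlib.Tactic.LinearCombination
-- import your own Groth.Agent.* helpers here

set_option autoImplicit false
universe u
open SymRep

namespace Groth.Agent.S19216

/-- Let k be a field of characteristic zero and r, s ≥ 1. Realise the standard representation of the
symmetric group on a finite set T as the hyperplane of functions T → k with sum zero, the group
acting by precomposition with the inverse. Then the standard representation of the symmetric group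
of Fin r ⊕ Fin s, restricted to the subgroup S_r × S_s, is isomorphic to the direct sum of the
standard representations of S_r and of S_s and of a one-dimensional trivial representation: there is
a k-linear map E from functions on Fin r ⊕ Fin s to triples (function on Fin r, function on Fin s,
scalar), compatible with the actions of S_r × S_s (trivial on the scalar), which maps the sum-zero
hyperplane bijectively onto the product of the two sum-zero hyperplanes and k. (The published
statement is over the complex numbers; a field of characteristic zero is used here. The published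
statement also gives the analogous decomposition for any number of blocks, which follows by
induction; only the two-block case is stated here.) -/
theorem result (k : Type u) [Field k] [CharZero k]
    (r s : ℕ) (hr : 1 ≤ r) (hs : 1 ≤ s) :
    ∃ E : (Fin r ⊕ Fin s → k) →ₗ[k] (Fin r → k) × (Fin s → k) × k,
      (∀ (σ : Equiv.Perm (Fin r)) (τ : Equiv.Perm (Fin s)) (f : Fin r ⊕ Fin s → k),
        E (f ∘ ⇑(Equiv.sumCongr σ τ).symm) = ((E f).1 ∘ ⇑σ.symm, (E f).2.1 ∘ ⇑τ.symm, (E f).2.2)) ∧
      Set.BijOn E {f | ∑ i, f i = 0}
        ({g : Fin r → k | ∑ i, g i = 0} ×ˢ ({h : Fin s → k | ∑ i, h i = 0} ×ˢ Set.univ)) := by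
  have hr0 : (r : k) ≠ 0 := Nat.cast_ne_zero.2 (by omega)
  have hs0 : (s : k) ≠ 0 := Nat.cast_ne_zero.2 (by omega)
  let E : (Fin r ⊕ Fin s → k) →ₗ[k] (Fin r → k) × (Fin s → k) × k :=
    { toFun := fun f => (fun i => f (Sum.inl i) - (∑ l, f (Sum.inl l)) / r,
        fun j => f (Sum.inr j) - (∑ l, f (Sum.inr l)) / s, ∑ l, f (Sum.inl l))
      map_add' := fun f g => by
        refine Prod.ext (funext fun i => ?_) (Prod.ext (funext fun i => ?_) ?_) <;>
          simp [Finset.sum_add_distrib, add_div] <;> ring
      map_smul' := fun c f => by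
        refine Prod.ext (funext fun i => ?_) (Prod.ext (funext fun i => ?_) ?_) <;>
          simp [← Finset.mul_sum] <;> ring }
  refine ⟨E, fun σ τ f => ?_, ?_, ?_, ?_⟩
  · have h1 : ∀ i, (f ∘ ⇑(Equiv.sumCongr σ τ).symm) (Sum.inl i) = f (Sum.inl (σ.symm i)) := fun i => rfl
    have h2 : ∀ i, (f ∘ ⇑(Equiv.sumCongr σ τ).symm) (Sum.inr i) = f (Sum.inr (τ.symm i)) := fun i => rfl
    refine Prod.ext (funext fun i => ?_) (Prod.ext (funext fun i => ?_) ?_)
    · show _ - _ = f (Sum.inl (σ.symm i)) - _
      rw [h1, Finset.sum_congr rfl (fun l _ => h1 l), Equiv.sum_comp σ.symm (fun l => f (Sum.inl l))]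
    · show _ - _ = f (Sum.inr (τ.symm i)) - _
      rw [h2, Finset.sum_congr rfl (fun l _ => h2 l), Equiv.sum_comp τ.symm (fun l => f (Sum.inr l))]
    · show _ = ∑ l, f (Sum.inl l)
      exact (Finset.sum_congr rfl (fun l _ => h1 l)).trans (Equiv.sum_comp σ.symm (fun l => f (Sum.inl l)))
  · intro f hf
    refine ⟨?_, ?_, trivial⟩
    · show ∑ i, (f (Sum.inl i) - (∑ l, f (Sum.inl l)) / r) = 0
      rw [Finset.sum_sub_distrib, Finset.sum_const, Finset.card_univ, Fintype.card_fin, nsmul_eq_mul, mul_div_cancel₀ _ hr0, sub_self]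
    · show ∑ i, (f (Sum.inr i) - (∑ l, f (Sum.inr l)) / s) = 0
      rw [Finset.sum_sub_distrib, Finset.sum_const, Finset.card_univ, Fintype.card_fin, nsmul_eq_mul, mul_div_cancel₀ _ hs0, sub_self]
  · intro f hf g hg h
    have hf' : ∑ i, f i = 0 := hf
    have hg' : ∑ i, g i = 0 := hg
    rw [Fintype.sum_sum_type] at hf' hg'
    have h3 : ∑ l, f (Sum.inl l) = ∑ l, g (Sum.inl l) := congrArg (fun p => p.2.2) h
    funext i
    rcases i with i | i
    · have := congrFun (congrArg (fun p => p.1) h) i
      simp only [E, LinearMap.coe_mk, AddHom.coe_mk, h3] at this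
      exact sub_left_inj.1 this
    · have := congrFun (congrArg (fun p => p.2.1) h) i
      simp only [E, LinearMap.coe_mk, AddHom.coe_mk, show ∑ l, f (Sum.inr l) = ∑ l, g (Sum.inr l) by linear_combination hf' - hg' - h3] at this
      exact sub_left_inj.1 this
  · rintro ⟨g, h, c⟩ ⟨hg, hh, -⟩
    have hg' : ∑ i, g i = 0 := hg
    have hh' : ∑ i, h i = 0 := hh
    refine ⟨Sum.elim (fun i => g i + c / r) (fun j => h j - c / s), ?_, ?_⟩
    · show ∑ i, _ = 0
      simp [Finset.sum_add_distrib, hg', hh', mul_div_cancel₀, hr0, hs0]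
    · refine Prod.ext (funext fun i => ?_) (Prod.ext (funext fun i => ?_) ?_)
      · simp [E, Finset.sum_add_distrib, hg', mul_div_cancel₀, hr0]
      · simp [E, Finset.sum_sub_distrib, hh', mul_div_cancel₀, hs0]
        ring
      · simp [E, Finset.sum_add_distrib, hg', mul_div_cancel₀, hr0]

end Groth.Agent.S19216
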