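import Groth.Statements.S19217
import Groth.Agent.DiagPowLib.Loc
import Groth.Agent.TensorBranchLib.Basic
import Groth.Agent.LocCohLib.Facts
-- import your own Groth.Agent.* helpers here

set_option autoImplicit false
set_option maxHeartbeats 2000000
set_option backward.isDefEq.respectTransparency false
universe u
open TensorProduct CategoryTheory CategoryTheory.Limits
open DiagIdeal

namespace Groth.Agent.S19217

open PiTensorProduct in
/-- universal property -/
noncomputable def out {k : Type u} [Field k] {A : Type u} [CommRing A] [Algebra k A] {n : ℕ} {S : Type u}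
    [CommRing S] [Algebra k S] (f : Fin n → A →ₐ[k] S) : (⨂[k] _ : Fin n, A) →ₐ[k] S :=
  PiTensorProduct.liftAlgHom
    ((MultilinearMap.mkPiAlgebra k (Fin n) S).compLinearMap (fun i => (f i).toLinearMap))
    (by simp)
    (fun x y => by simp [Finset.prod_mul_distrib])

section
variable {k : Type u} [Field k] {A : Type u} [CommRing A] [Algebra k A] {n : ℕ}

/-- factor inclusion -/
noncomputable abbrev sg (i : Fin n) : A →ₐ[k] (⨂[k] _ : Fin n, A) :=
  PiTensorProduct.singleAlgHom (R := k) (A := fun _ : Fin n => A) i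

theorem out_tprod {S : Type u} [CommRing S] [Algebra k S] (f : Fin n → A →ₐ[k] S) (z : Fin n → A) :
    out f (PiTensorProduct.tprod k z) = ∏ i, f i (z i) := by
  simp [out, PiTensorProduct.liftAlgHom]

theorem out_sg {S : Type u} [CommRing S] [Algebra k S] (f : Fin n → A →ₐ[k] S) (i : Fin n) (a : A) :
    out f (sg i a) = f i a := by
  show out f (PiTensorProduct.tprod k (MonoidHom.mulSingle (fun _ : Fin n => A) i a)) = _
  rw [out_tprod, Finset.prod_eq_single i (fun j _ hj => by simp [Pi.mulSingle_eq_of_ne hj])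
    (fun h => absurd (Finset.mem_univ i) h)]
  simp

theorem tprod_eq (z : Fin n → A) :
    PiTensorProduct.tprod k z = ∏ i, sg (k := k) i (z i) := by
  have key : ∀ (s : Finset (Fin n)), (∏ i ∈ s, sg (k := k) i (z i)) =
      PiTensorProduct.tprod k (fun j => if j ∈ s then z j else 1) := by
    intro s
    induction s using Finset.induction_on with
    | empty => simp only [Finset.prod_empty, Finset.notMem_empty, if_false]; rfl
    | insert a s ha ih =>
      rw [Finset.prod_insert ha, ih]
      show PiTensorProduct.tprod k (Pi.mulSingle (M := fun _ : Fin n => A) a (z a)) * _ = _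
      rw [PiTensorProduct.tprod_mul_tprod]
      congr 1
      funext j
      by_cases hj : j = a
      · subst hj; simp [ha]
      · simp [hj]
  rw [key Finset.univ]
  simp

theorem hom_ext' {S : Type u} [CommRing S] [Algebra k S] {f g : (⨂[k] _ : Fin n, A) →ₐ[k] S}
    (h : ∀ i a, f (sg i a) = g (sg i a)) : f = g := by
  apply AlgHom.toLinearMap_injective
  refine PiTensorProduct.ext (MultilinearMap.ext fun z => ?_)
  show f (PiTensorProduct.tprod k z) = g (PiTensorProduct.tprod k z)
  rw [tprod_eq, map_prod, map_prod]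
  exact Finset.prod_congr rfl fun i _ => h i _

theorem finiteType_pi [Algebra.FiniteType k A] : Algebra.FiniteType k (⨂[k] _ : Fin n, A) := by
  obtain ⟨s, hs⟩ := ‹Algebra.FiniteType k A›.out
  classical
  refine ⟨⟨Finset.univ.biUnion fun i => s.image (sg (k := k) (n := n) i), eq_top_iff.2 fun x _ => ?_⟩⟩
  induction x using PiTensorProduct.induction_on with
  | smul_tprod c z =>
    refine Subalgebra.smul_mem _ ?_ c
    rw [tprod_eq]
    refine Subalgebra.prod_mem _ fun i _ => ?_
    have h : sg i (z i) ∈ (Algebra.adjoin k (s : Set A)).map (sg (k := k) (n := n) i) :=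
      ⟨z i, by rw [hs]; exact Algebra.mem_top, rfl⟩
    rw [AlgHom.map_adjoin] at h
    refine Algebra.adjoin_mono ?_ h
    intro y hy
    obtain ⟨a, ha, rfl⟩ := hy
    simp only [Finset.coe_biUnion, Finset.coe_image, Set.mem_iUnion]
    exact ⟨i, Finset.mem_coe.2 (Finset.mem_univ i), a, ha, rfl⟩
  | add x y hx hy => exact add_mem (hx trivial) (hy trivial)

theorem formallySmooth_pi [Algebra.FormallySmooth k A] : Algebra.FormallySmooth k (⨂[k] _ : Fin n, A) :=
  Algebra.FormallySmooth.of_comp_surjective fun B _ _ J hJ g => by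
    refine ⟨out fun i => Algebra.FormallySmooth.lift J ⟨2, hJ⟩ (g.comp (sg i)), hom_ext' fun i a => ?_⟩
    rw [AlgHom.comp_apply, out_sg, Ideal.Quotient.mkₐ_eq_mk, Algebra.FormallySmooth.mk_lift]
    rfl

theorem isDomain_pi [IsAlgClosed k] [IsDomain A] : ∀ n : ℕ, IsDomain (⨂[k] _ : Fin n, A)
  | 0 => by
    have e : (⨂[k] _ : Fin 0, A) ≃ₐ[k] k :=
      AlgEquiv.ofAlgHom (out Fin.elim0) (Algebra.ofId _ _) (by ext) (hom_ext' fun i => i.elim0)
    exact e.injective.isDomain e.toRingEquiv.toRingHom
  | n + 1 => by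
    haveI := isDomain_pi n
    haveI := TensorBranchLib.isDomain_tensor (k := k) A (⨂[k] _ : Fin n, A)
    let F : (⨂[k] _ : Fin (n + 1), A) →ₐ[k] A ⊗[k] (⨂[k] _ : Fin n, A) :=
      out (Fin.cons Algebra.TensorProduct.includeLeft fun i => Algebra.TensorProduct.includeRight.comp (sg i))
    let G : A ⊗[k] (⨂[k] _ : Fin n, A) →ₐ[k] (⨂[k] _ : Fin (n + 1), A) :=
      Algebra.TensorProduct.lift (sg 0) (out fun i => sg i.succ) fun _ _ => Commute.all _ _
    have hGF : G.comp F = AlgHom.id k _ := hom_ext' fun i a => by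
      induction i using Fin.cases with
      | zero => simp only [F, G, AlgHom.comp_apply, out_sg, Fin.cons_zero, Algebra.TensorProduct.includeLeft_apply,
          Algebra.TensorProduct.lift_tmul, map_one, mul_one, AlgHom.id_apply]
      | succ i => simp only [F, G, AlgHom.comp_apply, out_sg, Fin.cons_succ, Algebra.TensorProduct.includeRight_apply,
          Algebra.TensorProduct.lift_tmul, map_one, one_mul, AlgHom.id_apply]
    have hinj : Function.Injective F := Function.LeftInverse.injective (g := G) fun x => AlgHom.congr_fun hGF x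
    exact hinj.isDomain F.toRingHom

/-- merging factor `j` into `i` -/
noncomputable abbrev merge (i j : Fin n) : (⨂[k] _ : Fin n, A) →ₐ[k] (⨂[k] _ : Fin n, A) :=
  out fun l => sg (if l = j then i else l)

/-- the diagonal ideal -/
noncomputable abbrev dI (k : Type u) [Field k] (A : Type u) [CommRing A] [Algebra k A] {n : ℕ} (i j : Fin n) :
    Ideal (⨂[k] _ : Fin n, A) :=
  Ideal.span (Set.range fun a : A => sg i a - sg j a)

theorem merge_sub (i j : Fin n) (x : ⨂[k] _ : Fin n, A) : merge i j x - x ∈ dI k A i j := by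
  have h : (Ideal.Quotient.mkₐ k (dI k A i j)).comp (merge i j) = Ideal.Quotient.mkₐ k _ := hom_ext' fun l a => by
    simp only [AlgHom.comp_apply, out_sg, Ideal.Quotient.mkₐ_eq_mk]
    split_ifs with hl
    · subst hl
      exact Ideal.Quotient.eq.2 (Ideal.subset_span ⟨a, rfl⟩)
    · rfl
  exact Ideal.Quotient.eq.1 (AlgHom.congr_fun h x)

theorem ker_merge {i j : Fin n} (hij : i ≠ j) : RingHom.ker (merge (k := k) (A := A) i j) = dI k A i j := by
  refine le_antisymm (fun x hx => ?_) (Ideal.span_le.2 ?_)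
  · have h := merge_sub i j x
    rw [RingHom.mem_ker.1 hx, zero_sub] at h
    simpa using neg_mem h
  · rintro _ ⟨a, rfl⟩
    rw [SetLike.mem_coe, RingHom.mem_ker, map_sub, out_sg, out_sg, if_neg hij, if_pos rfl, sub_self]

theorem formallySmooth_quot [Algebra.FormallySmooth k A] {i j : Fin n} (hij : i ≠ j) :
    Algebra.FormallySmooth k ((⨂[k] _ : Fin n, A) ⧸ dI k A i j) := by
  haveI := formallySmooth_pi (k := k) (A := A) (n := n)
  refine Algebra.FormallySmooth.of_comp_surjective fun B _ _ J hJ g => ?_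
  let h := Algebra.FormallySmooth.lift J ⟨2, hJ⟩ (g.comp (Ideal.Quotient.mkₐ k (dI k A i j)))
  refine ⟨Ideal.Quotient.liftₐ _ (h.comp (merge i j)) fun x hx => ?_, Ideal.Quotient.algHom_ext k (AlgHom.ext fun x => ?_)⟩
  · rw [← ker_merge hij] at hx
    rw [AlgHom.comp_apply, RingHom.mem_ker.1 hx, map_zero]
  · show Ideal.Quotient.mk J (h (merge i j x)) = g (Ideal.Quotient.mk _ x)
    rw [Algebra.FormallySmooth.mk_lift, AlgHom.comp_apply, Ideal.Quotient.mkₐ_eq_mk]
    exact congrArg g (Ideal.Quotient.eq.2 (merge_sub i j x))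

theorem exists_func {a₀ : A} (ha₀ : LinearIndependent k ![(1 : A), a₀]) (c : k) :
    ∃ ψ : A →ₗ[k] k, ψ 1 = 1 ∧ ψ a₀ = c := by
  obtain ⟨ψ, hψ⟩ := LinearMap.exists_extend ((Module.Basis.span ha₀).constr k ![(1 : k), c])
  refine ⟨ψ, ?_, ?_⟩
  · have := LinearMap.congr_fun hψ (Module.Basis.span ha₀ 0)
    rw [LinearMap.comp_apply, Module.Basis.constr_basis, Submodule.subtype_apply, Module.Basis.span_apply] at this
    simpa using this
  · have := LinearMap.congr_fun hψ (Module.Basis.span ha₀ 1)
    rw [LinearMap.comp_apply, Module.Basis.constr_basis, Submodule.subtype_apply, Module.Basis.span_apply] at this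
    simpa using this

theorem sg_ne {a₀ : A} (ha₀ : LinearIndependent k ![(1 : A), a₀]) {i j : Fin n} (hne : i ≠ j) :
    sg (k := k) i a₀ ≠ sg j a₀ := by
  intro hmem
  obtain ⟨ψ, hψ1, hψa⟩ := exists_func ha₀ 0
  obtain ⟨ψ', hψ'1, hψ'a⟩ := exists_func ha₀ 1
  let Λ := PiTensorProduct.lift ((MultilinearMap.mkPiAlgebra k (Fin n) k).compLinearMap
    (fun l => if l = i then ψ else ψ'))
  have key : ∀ l : Fin n, Λ (sg l a₀) = if l = i then 0 else 1 := fun l => by
    show Λ (PiTensorProduct.tprod k (Pi.mulSingle l a₀)) = _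
    simp only [Λ, PiTensorProduct.lift.tprod, MultilinearMap.compLinearMap_apply, MultilinearMap.mkPiAlgebra_apply]
    rw [Finset.prod_eq_single l (fun m _ hm => by
      rw [Pi.mulSingle_eq_of_ne hm]; split_ifs <;> assumption) (fun h => absurd (Finset.mem_univ l) h)]
    rw [Pi.mulSingle_eq_same]
    split_ifs <;> assumption
  have := congrArg Λ hmem
  rw [key, key, if_pos rfl, if_neg (Ne.symm hne)] at this
  exact zero_ne_one this

theorem not_le_dI {a₀ : A} (ha₀ : LinearIndependent k ![(1 : A), a₀]) {p q : Fin n × Fin n}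
    (hp : p.1 < p.2) (hq : q.1 < q.2) (hpq : p ≠ q) : ¬ dI k A q.1 q.2 ≤ dI k A p.1 p.2 := by
  intro hle
  have hmem : sg q.1 a₀ - sg q.2 a₀ ∈ RingHom.ker (merge (k := k) (A := A) p.1 p.2) := by
    rw [ker_merge hp.ne]; exact hle (Ideal.subset_span ⟨a₀, rfl⟩)
  rw [RingHom.mem_ker, map_sub, out_sg, out_sg, sub_eq_zero] at hmem
  set i := if q.1 = p.2 then p.1 else q.1 with hi
  set j := if q.2 = p.2 then p.1 else q.2 with hj
  have hne : i ≠ j := by
    intro h
    apply hpq
    rw [hi, hj] at h
    have := hp; have := hq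
    split_ifs at h with h1 h2 h2 <;> first | (exact absurd h (by omega)) | (apply Prod.ext <;> omega)
  exact sg_ne ha₀ hne hmem

end


/-- Let k be an algebraically closed field of characteristic zero and A a smooth k-algebra which is a
domain of Krull dimension 2 (an affine piece of a smooth surface). In the n-fold tensor power R of A
over k, indexed by Fin n, let I_p (p = (i, j), i < j) be the ideal generated by the a_i − a_j, a ∈
A, the ideal of the diagonal of factors i and j; let M be the intersection of the powers I_p ^ ℓ(p)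
over all p with i < j, for arbitrary exponents ℓ; and let 𝔞 be the intersection, over all pairs of
distinct index pairs p ≠ q, of I_p + I_q (an ideal cutting out the locus W where two distinct
pairwise diagonals meet, of codimension 4). Then the local cohomology modules of M with support in 𝔞
vanish in degrees 0 and 1; equivalently M, as a sheaf on Spec R, coincides with the direct image of
its restriction to the complement of W. (The source states this for the product of copies of a
smooth quasi-projective complex surface, as the equality of the direct image from the complement of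
W of the restricted product of the powers of the diagonal ideals with the intersection of those
powers; the two sheaves agree away from W, where the diagonals are pairwise disjoint.) -/
theorem result (k : Type u) [Field k] [IsAlgClosed k] [CharZero k]
    (A : Type u) [CommRing A] [Algebra k A] [Algebra.Smooth k A] [IsDomain A]
    (hdim : ringKrullDim A = 2) (n : ℕ) (ℓ : Fin n × Fin n → ℕ)
    (I : Fin n × Fin n → Ideal (⨂[k] _ : Fin n, A))
    (hI : ∀ p, I p = Ideal.span (Set.range fun a : A =>
        PiTensorProduct.singleAlgHom (R := k) (A := fun _ : Fin n => A) p.1 a -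
        PiTensorProduct.singleAlgHom (R := k) (A := fun _ : Fin n => A) p.2 a))
    (𝔞 : Ideal (⨂[k] _ : Fin n, A))
    (h𝔞 : 𝔞 = ⨅ pq ∈ Finset.univ.filter (fun pq : (Fin n × Fin n) × (Fin n × Fin n) =>
        pq.1.1 < pq.1.2 ∧ pq.2.1 < pq.2.2 ∧ pq.1 ≠ pq.2), I pq.1 ⊔ I pq.2)
    (M : Submodule (⨂[k] _ : Fin n, A) (⨂[k] _ : Fin n, A))
    (hM : M = ⨅ p ∈ Finset.univ.filter (fun p : Fin n × Fin n => p.1 < p.2), (I p) ^ (ℓ p)) :
    IsZero ((localCohomology 𝔞 0).obj (ModuleCat.of (⨂[k] _ : Fin n, A) M)) ∧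
    IsZero ((localCohomology 𝔞 1).obj (ModuleCat.of (⨂[k] _ : Fin n, A) M)) := by
  classical
  haveI := finiteType_pi (k := k) (A := A) (n := n)
  haveI : IsNoetherianRing (⨂[k] _ : Fin n, A) := Algebra.FiniteType.isNoetherianRing k _
  haveI := formallySmooth_pi (k := k) (A := A) (n := n)
  haveI : IsRegularRing (⨂[k] _ : Fin n, A) := CohenLib.isRegularRing_of_formallySmooth (k := k)
  haveI := isDomain_pi (k := k) (A := A) n
  have hreg : ∀ p : Fin n × Fin n, p.1 < p.2 → (I p).IsPrime ∧ IsRegularRing ((⨂[k] _ : Fin n, A) ⧸ I p) := by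
    intro p hp
    rw [hI p]
    refine ⟨?_, ?_⟩
    · have := RingHom.ker_isPrime (merge (k := k) (A := A) p.1 p.2)
      rwa [ker_merge hp.ne] at this
    haveI := formallySmooth_quot (k := k) (A := A) hp.ne
    exact CohenLib.isRegularRing_of_formallySmooth (k := k)
  obtain ⟨a₀, ha₀⟩ : ∃ a₀ : A, LinearIndependent k ![(1 : A), a₀] := by
    by_contra h
    push Not at h
    have hsurj : Function.Surjective (algebraMap k A) := fun a => by
      have := h a
      rw [LinearIndependent.pair_iff] at this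
      push Not at this
      obtain ⟨s, t, hst, hne⟩ := this
      have ht : t ≠ 0 := fun ht => hne (by
        rw [ht, zero_smul, add_zero] at hst
        exact (smul_eq_zero.1 hst).resolve_right one_ne_zero) ht
      refine ⟨-(t⁻¹ * s), ?_⟩
      have := congrArg (t⁻¹ • ·) hst
      simp only [smul_add, smul_smul, inv_mul_cancel₀ ht, one_smul, smul_zero] at this
      rw [map_neg, Algebra.algebraMap_eq_smul_one]
      exact neg_eq_of_add_eq_zero_right this
    have := ringKrullDim_le_of_surjective (algebraMap k A) hsurj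
    rw [hdim, ringKrullDim_eq_zero_of_field] at this
    exact absurd this (by decide)
  have hnle : ∀ p q : Fin n × Fin n, p.1 < p.2 → q.1 < q.2 → p ≠ q → ¬ I q ≤ I p := fun p q hp hq hpq => by
    rw [hI p, hI q]; exact not_le_dI ha₀ hp hq hpq
  have h𝔞P : ∀ P : Ideal (⨂[k] _ : Fin n, A), P.IsPrime → 𝔞 ≤ P →
      ∃ p q : Fin n × Fin n, p.1 < p.2 ∧ q.1 < q.2 ∧ p ≠ q ∧ I p ≤ P ∧ I q ≤ P := fun P hP hle => by
    rw [h𝔞, ← Finset.inf_eq_iInf, hP.inf_le'] at hle
    obtain ⟨⟨p, q⟩, hpq, h⟩ := hle
    rw [Finset.mem_filter] at hpq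
    exact ⟨p, q, hpq.2.1, hpq.2.2.1, hpq.2.2.2, le_sup_left.trans h, le_sup_right.trans h⟩
  have hne0 : ∀ p : Fin n × Fin n, p.1 < p.2 → I p ≠ ⊥ := fun p hp h => by
    have hmem : sg p.1 a₀ - sg p.2 a₀ ∈ I p := by rw [hI p]; exact Ideal.subset_span ⟨a₀, rfl⟩
    rw [h, Ideal.mem_bot] at hmem
    exact sg_ne ha₀ hp.ne (sub_eq_zero.1 hmem)
  haveI : Nontrivial (⨂[k] _ : Fin n, A) := IsDomain.toNontrivial
  obtain ⟨a, ha𝔞, ha⟩ : ∃ a ∈ 𝔞, a ≠ 0 := by
    refine Submodule.exists_mem_ne_zero_of_ne_bot fun h => ?_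
    obtain ⟨p, q, hp, -, -, hle, -⟩ := h𝔞P ⊥ Ideal.isPrime_bot h.le
    exact hne0 p hp (le_bot_iff.1 hle)
  let P := Finset.univ.filter (fun p : Fin n × Fin n => p.1 < p.2)
  obtain ⟨b, hb𝔞, hbP, hbA⟩ : ∃ b ∈ 𝔞, (∀ p ∈ P, b ∉ I p) ∧
      ∀ Q ∈ associatedPrimes (⨂[k] _ : Fin n, A) ((⨂[k] _ : Fin n, A) ⧸ Ideal.span {a}), b ∉ Q := by
    have hfin := associatedPrimes.finite (⨂[k] _ : Fin n, A) ((⨂[k] _ : Fin n, A) ⧸ Ideal.span {a})
    let S := P.image I ∪ hfin.toFinset
    have hS : ¬ (𝔞 : Set (⨂[k] _ : Fin n, A)) ⊆ ⋃ Q ∈ (S : Set (Ideal (⨂[k] _ : Fin n, A))), (Q : Set (⨂[k] _ : Fin n, A)) := by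
      rw [Ideal.subset_union_prime ⊤ ⊤ (fun Q hQ _ _ => ?_)]
      · rintro ⟨Q, hQ, hle⟩
        rcases Finset.mem_union.1 hQ with hQ | hQ
        · obtain ⟨r, hr, rfl⟩ := Finset.mem_image.1 hQ
          have hr' : r.1 < r.2 := (Finset.mem_filter.1 hr).2
          obtain ⟨p, q, hp, hq, hpq, hpr, hqr⟩ := h𝔞P _ (hreg r hr').1 hle
          by_cases hrp : r = p
          · subst hrp; exact hnle r q hr' hq hpq hqr
          · exact hnle r p hr' hp hrp hpr
        · rw [Set.Finite.mem_toFinset] at hQ
          haveI := hQ.isPrime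
          obtain ⟨x, hx⟩ := Groth.Agent.DiagPowLib.principal_of_associated ha Q hQ
          obtain ⟨p, q, hp, hq, hpq, hpr, hqr⟩ := h𝔞P _ inferInstance hle
          haveI := (hreg p hp).1
          haveI := (hreg q hq).1
          have h1 := Groth.Agent.DiagPowLib.eq_of_principal Q (I p) hpr (hne0 p hp) x hx
          exact hnle p q hp hq hpq (hqr.trans h1.ge)
      · rcases Finset.mem_union.1 hQ with hQ | hQ
        · obtain ⟨r, hr, rfl⟩ := Finset.mem_image.1 hQ
          exact (hreg r (Finset.mem_filter.1 hr).2).1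
        · exact ((Set.Finite.mem_toFinset hfin).1 hQ).isPrime
    obtain ⟨b, hb, hbS⟩ := Set.not_subset.1 hS
    simp only [Set.mem_iUnion, SetLike.mem_coe, not_exists] at hbS
    exact ⟨b, hb, fun p hp => hbS _ (Finset.mem_union_left _ (Finset.mem_image_of_mem _ hp)),
      fun Q hQ => hbS Q (Finset.mem_union_right _ ((Set.Finite.mem_toFinset hfin).2 hQ))⟩
  have hbreg : ∀ y : ⨂[k] _ : Fin n, A, b * y ∈ Ideal.span {a} → y ∈ Ideal.span {a} := fun y hy => by
    rw [← Ideal.Quotient.eq_zero_iff_mem] at hy ⊢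
    by_contra hy0
    obtain ⟨Q, hQ, hle⟩ := exists_le_isAssociatedPrime_of_isNoetherianRing (⨂[k] _ : Fin n, A)
      (Ideal.Quotient.mk (Ideal.span {a}) y) hy0
    refine hbA Q hQ (hle ?_)
    rw [Submodule.mem_colon_singleton, Submodule.mem_bot]
    exact hy
  have hdepth : ((2 : ℕ) : ℕ∞) ≤ LocCoh.idealDepth 𝔞 M := by
    rw [LocCoh.idealDepth]
    split_ifs
    · exact le_top
    refine le_iSup₂_of_le [a, b] ⟨?_, by simp [ha𝔞, hb𝔞]⟩ le_rfl
    rw [RingTheory.Sequence.isWeaklyRegular_cons_iff, RingTheory.Sequence.isWeaklyRegular_cons_iff]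
    refine ⟨fun x y h => Subtype.ext (mul_left_cancel₀ ha (congrArg Subtype.val h)), ?_,
      RingTheory.Sequence.IsWeaklyRegular.nil _ _⟩
    refine isSMulRegular_iff_right_eq_zero_of_smul.2 fun z hz => ?_
    obtain ⟨x, rfl⟩ := Submodule.Quotient.mk_surjective _ z
    rw [← Submodule.Quotient.mk_smul, Submodule.Quotient.mk_eq_zero, Submodule.mem_smul_pointwise_iff_exists] at hz
    rw [Submodule.Quotient.mk_eq_zero, Submodule.mem_smul_pointwise_iff_exists]
    obtain ⟨m, -, hm⟩ := hz
    have hm' : a * (m : ⨂[k] _ : Fin n, A) = b * x := congrArg Subtype.val hm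
    obtain ⟨y, hy⟩ := Ideal.mem_span_singleton'.1 (hbreg x (Ideal.mem_span_singleton'.2 ⟨m, by rw [mul_comm, hm']⟩))
    have hby : (m : ⨂[k] _ : Fin n, A) = b * y := mul_left_cancel₀ ha (by rw [hm', ← hy]; ring)
    have hyM : y ∈ M := by
      rw [hM, Submodule.mem_iInf]
      intro p
      rw [Submodule.mem_iInf]
      intro hp
      haveI := (hreg p (Finset.mem_filter.1 hp).2).1
      haveI := (hreg p (Finset.mem_filter.1 hp).2).2
      refine Groth.Agent.DiagPowLib.mem_pow_of_mul_mem (I p) (hbP p hp) _ y ?_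
      rw [← hby]
      have := m.2
      simp only [hM, Submodule.mem_iInf] at this
      exact this p hp
    exact ⟨⟨y, hyM⟩, trivial, Subtype.ext (by show a * y = x; rw [mul_comm, hy])⟩
  have h := (LocCohLib.le_idealDepth_iff_subsingleton_H (I := 𝔞) M 2).1 hdepth
  exact ⟨(ModuleCat.isZero_iff_subsingleton).2 (h 0 (by norm_num)),
    (ModuleCat.isZero_iff_subsingleton).2 (h 1 (by norm_num))⟩

end Groth.Agent.S19217
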