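import Groth.Statements.S19221
import Mathlib

set_option autoImplicit false
universe u
open SymRep

namespace Groth.Agent.S19221

/-- Let k be a field of characteristic zero and F the k-space of functions Fin 2 → Fin 4 → Fin 4 → k,
with the symmetric group of Fin 4 acting through P σ f c a b = f c (σ⁻¹ a) (σ⁻¹ b). The signed edge
vectors of the complete graph on four vertices live in F as the functions antisymmetric in the two
vertex arguments, and for a colour c and an oriented 3-cycle i → j → l → i the cycle vector z c i j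
l is the function equal, in colour c, to +1 at (i,j), (j,l), (l,i), to −1 at (j,i), (l,j), (i,l) and
to 0 elsewhere (and 0 in the other colour); these cycle vectors span k² ⊗ (cycle space), the
representation written C² ⊗ q in the published text. Let Γ be the graph with edges 01, 02, 03, 12,
23 (a 4-cycle with one chord), whose cycle space is spanned by the cycles (0,1,2) and (0,2,3), and
let ω be the product in the exterior algebra of F of the four vectors z 0 0 1 2, z 1 0 1 2, z 0 0 2
3, z 1 0 2 3 (a generator of the top exterior power of k² ⊗ q_Γ). Then ω is fixed by the stabiliser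
of Γ in the symmetric group (generated by the transpositions (0 2) and (1 3)), and the sum over all
24 permutations σ of the images of ω under the maps induced by P σ is nonzero: the projection of ω
to the invariants of the fourth exterior power of k² ⊗ q_{K₄} does not vanish. (The published
statement is over the complex numbers; a field of characteristic zero is used here. The published
statement also asserts that this map is an isomorphism onto the one-dimensional space of
S₄-invariants of the fourth exterior power of k² ⊗ q_{K₄}; only its non-vanishing is stated here.) -/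
theorem result (k : Type u) [Field k] [CharZero k]
    (P : Equiv.Perm (Fin 4) → ((Fin 2 → Fin 4 → Fin 4 → k) →ₗ[k] (Fin 2 → Fin 4 → Fin 4 → k)))
    (hP : ∀ (σ : Equiv.Perm (Fin 4)) (f : Fin 2 → Fin 4 → Fin 4 → k) (c : Fin 2) (a b : Fin 4),
      P σ f c a b = f c (σ.symm a) (σ.symm b))
    (z : Fin 2 → Fin 4 → Fin 4 → Fin 4 → (Fin 2 → Fin 4 → Fin 4 → k))
    (hz : ∀ (c : Fin 2) (i j l : Fin 4) (c' : Fin 2) (a b : Fin 4), z c i j l c' a b =
      if c' = c then
        ((if a = i ∧ b = j then 1 else 0) + (if a = j ∧ b = l then 1 else 0) + (if a = l ∧ b = i then 1 else 0)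
          - (if a = j ∧ b = i then 1 else 0) - (if a = l ∧ b = j then 1 else 0) - (if a = i ∧ b = l then 1 else 0))
      else 0)
    (ω : ExteriorAlgebra k (Fin 2 → Fin 4 → Fin 4 → k))
    (hω : ω = ExteriorAlgebra.ι k (z 0 0 1 2) * ExteriorAlgebra.ι k (z 1 0 1 2) *
      ExteriorAlgebra.ι k (z 0 0 2 3) * ExteriorAlgebra.ι k (z 1 0 2 3)) :
    ExteriorAlgebra.map (P (Equiv.swap 0 2)) ω = ω ∧
    ExteriorAlgebra.map (P (Equiv.swap 1 3)) ω = ω ∧
    (∑ σ : Equiv.Perm (Fin 4), ExteriorAlgebra.map (P σ) ω) ≠ 0 := by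
  classical
  let F := Fin 2 → Fin 4 → Fin 4 → k
  have hPz : ∀ (σ : Equiv.Perm (Fin 4)) c i j l, P σ (z c i j l) = z c (σ i) (σ j) (σ l) := by
    intro σ c i j l
    funext c' a b
    rw [hP, hz, hz]
    simp only [Equiv.symm_apply_eq]
  have hanti : ∀ c i j l, z c l j i = -z c i j l := by
    intro c i j l
    funext c' a b
    simp only [Pi.neg_apply, hz]
    split_ifs <;> ring
  have hcyc : ∀ c i j l, z c j l i = z c i j l := by
    intro c i j l
    funext c' a b
    simp only [hz]
    split_ifs <;> ring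
  let v : Equiv.Perm (Fin 4) → Fin 4 → F := fun σ =>
    ![z 0 (σ 0) (σ 1) (σ 2), z 1 (σ 0) (σ 1) (σ 2), z 0 (σ 0) (σ 2) (σ 3), z 1 (σ 0) (σ 2) (σ 3)]
  have hmap : ∀ σ, ExteriorAlgebra.map (P σ) ω = ExteriorAlgebra.ιMulti k 4 (v σ) := by
    intro σ
    rw [hω]
    simp only [map_mul, ExteriorAlgebra.map_apply_ι, hPz, ExteriorAlgebra.ιMulti_apply]
    simp [v, List.ofFn_succ, mul_assoc]
  refine ⟨?_, ?_, ?_⟩
  · rw [hω]
    simp only [map_mul, ExteriorAlgebra.map_apply_ι, hPz]
    rw [show (Equiv.swap (0 : Fin 4) 2) 0 = 2 by decide, show (Equiv.swap (0 : Fin 4) 2) 1 = 1 by decide,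
      show (Equiv.swap (0 : Fin 4) 2) 2 = 0 by decide, show (Equiv.swap (0 : Fin 4) 2) 3 = 3 by decide]
    have h1 : ∀ c, z c 2 1 0 = -z c 0 1 2 := fun c => hanti c 0 1 2
    have h2 : ∀ c, z c 2 0 3 = -z c 0 2 3 := fun c => by
      rw [← hanti c 0 2 3, ← hcyc c 2 0 3, ← hcyc c 0 3 2]
    simp only [h1, h2, map_neg, neg_mul, mul_neg, neg_neg]
  · rw [hω]
    simp only [map_mul, ExteriorAlgebra.map_apply_ι, hPz]
    rw [show (Equiv.swap (1 : Fin 4) 3) 0 = 0 by decide, show (Equiv.swap (1 : Fin 4) 3) 1 = 3 by decide,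
      show (Equiv.swap (1 : Fin 4) 3) 2 = 2 by decide, show (Equiv.swap (1 : Fin 4) 3) 3 = 1 by decide]
    have h1 : ∀ c, z c 0 3 2 = -z c 0 2 3 := fun c => by rw [← hcyc c 0 3 2, hanti]
    have h2 : ∀ c, z c 0 2 1 = -z c 0 1 2 := fun c => by rw [← hcyc c 0 2 1, hanti]
    have hsw : ∀ x y : F, ExteriorAlgebra.ι k x * ExteriorAlgebra.ι k y = -(ExteriorAlgebra.ι k y * ExteriorAlgebra.ι k x) :=
      fun x y => eq_neg_of_add_eq_zero_left (ExteriorAlgebra.ι_add_mul_swap x y)
    have hcomm : ∀ x y a : F, ExteriorAlgebra.ι k a * (ExteriorAlgebra.ι k x * ExteriorAlgebra.ι k y) =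
        ExteriorAlgebra.ι k x * ExteriorAlgebra.ι k y * ExteriorAlgebra.ι k a := fun x y a => by
      rw [← mul_assoc, hsw a x, neg_mul, mul_assoc, hsw a y, mul_neg, neg_neg, mul_assoc]
    simp only [h1, h2, map_neg, neg_mul, mul_neg, neg_neg]
    rw [← hcomm, mul_assoc (ExteriorAlgebra.ι k (z 0 0 1 2)), ← hcomm, ← mul_assoc, ← mul_assoc]
  · intro h
    let L : F →ₗ[k] (Fin 4 → k) :=
      { toFun := fun f => ![f 0 0 1, f 1 0 1, f 0 2 3, f 1 2 3]
        map_add' := fun f g => by ext i; fin_cases i <;> rfl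
        map_smul' := fun r f => by ext i; fin_cases i <;> rfl }
    let φ : F [⋀^Fin 4]→ₗ[k] k := (Matrix.detRowAlternating (n := Fin 4) (R := k)).compLinearMap L
    let fam : ∀ i, F [⋀^Fin i]→ₗ[k] k := fun i => if hi : i = 4 then hi ▸ φ else 0
    have h0 := congrArg (ExteriorAlgebra.liftAlternating (R := k) (M := F) (N := k) fam) h
    rw [map_sum, map_zero] at h0
    let e : Fin 4 → Fin 4 → Fin 4 → Fin 4 → Fin 4 → ℤ := fun i j l a b =>
      (if a = i ∧ b = j then 1 else 0) + (if a = j ∧ b = l then 1 else 0) + (if a = l ∧ b = i then 1 else 0)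
          - (if a = j ∧ b = i then 1 else 0) - (if a = l ∧ b = j then 1 else 0) - (if a = i ∧ b = l then 1 else 0)
    have he : ∀ c i j l c' a b, z c i j l c' a b = if c' = c then ((e i j l a b : ℤ) : k) else 0 := by
      intro c i j l c' a b
      rw [hz]
      simp only [e]
      push_cast
      rfl
    have hdet : ∀ a b c d : k, Matrix.det !![a, 0, b, 0; 0, a, 0, b; c, 0, d, 0; 0, c, 0, d] = (a * d - b * c) ^ 2 := by
      intro a b c d
      simp [Matrix.det_succ_row_zero, Fin.sum_univ_succ, Fin.succAbove]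
      ring
    let val : Equiv.Perm (Fin 4) → ℤ := fun σ =>
      (e (σ 0) (σ 1) (σ 2) 0 1 * e (σ 0) (σ 2) (σ 3) 2 3 - e (σ 0) (σ 1) (σ 2) 2 3 * e (σ 0) (σ 2) (σ 3) 0 1) ^ 2
    have hv : ∀ σ, ExteriorAlgebra.liftAlternating (R := k) (M := F) (N := k) fam (ExteriorAlgebra.map (P σ) ω) =
        ((val σ : ℤ) : k) := by
      intro σ
      rw [hmap, ExteriorAlgebra.liftAlternating_apply_ιMulti]
      show Matrix.det (fun i => L (v σ i)) = _
      rw [show Matrix.det (fun i => L (v σ i)) = Matrix.det !![((e (σ 0) (σ 1) (σ 2) 0 1 : ℤ) : k), 0,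
          ((e (σ 0) (σ 1) (σ 2) 2 3 : ℤ) : k), 0; 0, ((e (σ 0) (σ 1) (σ 2) 0 1 : ℤ) : k), 0,
          ((e (σ 0) (σ 1) (σ 2) 2 3 : ℤ) : k); ((e (σ 0) (σ 2) (σ 3) 0 1 : ℤ) : k), 0,
          ((e (σ 0) (σ 2) (σ 3) 2 3 : ℤ) : k), 0; 0, ((e (σ 0) (σ 2) (σ 3) 0 1 : ℤ) : k), 0,
          ((e (σ 0) (σ 2) (σ 3) 2 3 : ℤ) : k)] from congrArg Matrix.det (by
            ext i j; fin_cases i <;> fin_cases j <;> simp [L, v, he]), hdet]
      simp only [val]
      push_cast
      ring
    simp only [hv] at h0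
    rw [← Int.cast_sum, Int.cast_eq_zero] at h0
    exact absurd h0 (by decide +kernel)

end Groth.Agent.S19221
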