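import Groth.Statements.S19223
import Groth.Agent.GrpCohLib.Card

set_option autoImplicit false
attribute [local instance] Units.mulDistribMulActionRight
open GalCoh

namespace Groth.Agent.S19223

open CategoryTheory in
theorem exists_lift {k H : Type} [CommRing k] [Group H] (S : ShortComplex (Rep.{0} k H)) (hex : S.Exact)
    (a : S.X₂) (ha : S.g.hom a = 0) : ∃ c : S.X₁, S.f.hom c = a :=
  (ShortComplex.moduleCat_exact_iff _).1 (hex.map (forget₂ (Rep.{0} k H) (ModuleCat.{0} k))) a ha

theorem exists_root {R : Type} [CommRing R] [HenselianLocalRing R] (N : ℕ)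
    (hN : IsUnit (N : R)) (u : Rˣ) (hu : Units.map (IsLocalRing.residue R).toMonoidHom u = 1) :
    ∃ v : Rˣ, Units.map (IsLocalRing.residue R).toMonoidHom v = 1 ∧ v ^ N = u := by
  have hN0 : N ≠ 0 := by rintro rfl; simp at hN
  have hu1 : (u : R) - 1 ∈ IsLocalRing.maximalIdeal R := by
    rw [← Ideal.Quotient.eq_zero_iff_mem]
    have h := congrArg Units.val hu
    simp only [Units.coe_map, Units.val_one] at h
    show IsLocalRing.residue R ((u : R) - 1) = 0
    rw [map_sub, map_one]; exact sub_eq_zero.2 h
  obtain ⟨r, hr, hr1⟩ := HenselianLocalRing.is_henselian (Polynomial.X ^ N - Polynomial.C (u : R))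
    (Polynomial.monic_X_pow_sub_C _ hN0) 1 (by
      have : ((1 : R) - u) ∈ IsLocalRing.maximalIdeal R := by
        rw [← neg_sub]; exact neg_mem hu1
      simpa using this)
    (by simpa [Polynomial.derivative_X_pow] using hN)
  have hr0 : r ^ N = u := by simpa [Polynomial.IsRoot, sub_eq_zero] using hr
  have hru : IsUnit r := isUnit_pow_iff hN0 |>.1 (hr0 ▸ u.isUnit)
  refine ⟨hru.unit, Units.ext ?_, Units.ext hr0⟩
  show IsLocalRing.residue R r = 1
  rw [← sub_eq_zero, ← map_one (IsLocalRing.residue R), ← map_sub]
  exact Ideal.Quotient.eq_zero_iff_mem.2 hr1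

theorem root_unique {R : Type} [CommRing R] [IsLocalRing R] (N : ℕ)
    (hN : IsUnit (N : R)) (u : Rˣ) (hu : Units.map (IsLocalRing.residue R).toMonoidHom u = 1) (h : u ^ N = 1) :
    u = 1 := by
  have hu1 : IsLocalRing.residue R (u : R) = 1 := congrArg Units.val hu
  have hs : IsUnit (∑ i ∈ Finset.range N, (u : R) ^ i) := by
    rw [← IsLocalRing.notMem_maximalIdeal, ← Ideal.Quotient.eq_zero_iff_mem]
    show ¬ IsLocalRing.residue R _ = 0
    rw [map_sum]
    simp only [map_pow, hu1, one_pow, Finset.sum_const, Finset.card_range, nsmul_one]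
    rw [← map_natCast (IsLocalRing.residue R)]
    exact fun h0 => (IsLocalRing.notMem_maximalIdeal.2 hN) (Ideal.Quotient.eq_zero_iff_mem.1 h0)
  have h2 : ((u : R) - 1) * (∑ i ∈ Finset.range N, (u : R) ^ i) = 0 := by
    rw [mul_geom_sum, ← Units.val_pow_eq_pow_val, h, Units.val_one, sub_self]
  exact Units.ext (sub_eq_zero.1 (hs.mul_left_eq_zero.1 h2))


/-- For a strictly henselian local ring R whose residue field k has characteristic p ≥ 0, and a finite
group G of order prime to p acting on R by ring automorphisms (hence on the unit groups R^× and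
k^×), consider the homomorphism H^n(G, R^×) → H^n(G, k^×) induced by the reduction map. It is
bijective for every n ≥ 2; it is also bijective for n = 1 provided that p = 0 or the only p-power
root of unity in R is 1. (The reduction map on cohomology is pinned by its values on units; groups,
rings and modules are taken in the lowest universe, as integral coefficients in the group-cohomology
library require.) -/
theorem result (R : Type) [CommRing R]
    [HenselianLocalRing R] [IsSepClosed (IsLocalRing.ResidueField R)] (p : ℕ) [CharP (IsLocalRing.ResidueField R) p]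
    (G : Type) [Group G] [Finite G] [MulSemiringAction G R] (hp : ¬ p ∣ Nat.card G)
    (φ : Rep.ofMulDistribMulAction G Rˣ ⟶ Rep.ofMulDistribMulAction G (IsLocalRing.ResidueField R)ˣ)
    (hφ : ∀ x : Rˣ, Additive.toMul (φ.hom (Additive.ofMul x)) = Units.map (IsLocalRing.residue R).toMonoidHom x)
    (n : ℕ) (hn : 1 ≤ n) (h1 : n = 1 → p ≠ 0 → ∀ (ζ : Rˣ) (m : ℕ), ζ ^ p ^ m = 1 → ζ = 1) :
    Function.Bijective ((groupCohomology.functor ℤ G n).map φ).hom := by
  classical
  have hN : IsUnit (Nat.card G : R) := by
    rw [← IsLocalRing.notMem_maximalIdeal, ← Ideal.Quotient.eq_zero_iff_mem]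
    show ¬ IsLocalRing.residue R _ = 0
    rw [map_natCast, CharP.cast_eq_zero_iff (IsLocalRing.ResidueField R) p]
    exact hp
  haveI : CategoryTheory.Epi φ := by
    rw [Rep.epi_iff_surjective]
    intro b
    obtain ⟨r, hr⟩ := IsLocalRing.residue_surjective (Additive.toMul b : (IsLocalRing.ResidueField R)ˣ).1
    have hru : IsUnit r := isUnit_of_map_unit (IsLocalRing.residue R) _ (hr ▸ Units.isUnit _)
    exact ⟨Additive.ofMul hru.unit, Additive.toMul.injective ((hφ hru.unit).trans (Units.ext hr))⟩
  let S := CategoryTheory.ShortComplex.mk (CategoryTheory.Limits.kernel.ι φ) φ (CategoryTheory.Limits.kernel.condition φ)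
  have hex : S.Exact := CategoryTheory.ShortComplex.exact_of_f_is_kernel S (CategoryTheory.Limits.kernelIsKernel φ)
  have hS : S.ShortExact := { exact := hex }
  have hker : ∀ a : S.X₂, φ.hom a = 0 ↔ ∃ c : S.X₁, S.f.hom c = a := by
    intro a
    constructor
    · exact exists_lift S hex a
    · rintro ⟨c, rfl⟩
      exact congrArg (fun t => t.hom c) S.zero
  have hinj : Function.Injective S.f.hom := (Rep.mono_iff_injective _).1 inferInstance
  have hK : ∀ i : ℕ, 0 < i → CategoryTheory.Limits.IsZero (groupCohomology S.X₁ i) := by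
    intro i hi
    refine @ModuleCat.isZero_of_subsingleton _ _ _ (GrpCohLib.subsingleton_of_card_bijective S.X₁ ?_ i hi)
    refine ⟨fun a b hab => ?_, fun a => ?_⟩
    · refine hinj (sub_eq_zero.1 ?_)
      rw [← map_sub]
      have h0 : φ.hom (S.f.hom (a - b)) = 0 := (hker _).2 ⟨_, rfl⟩
      have h1 : Nat.card G • S.f.hom (a - b) = 0 := by
        rw [← map_nsmul, smul_sub, show Nat.card G • a = Nat.card G • b from hab, sub_self, map_zero]
      exact Additive.toMul.injective (root_unique (Nat.card G) hN (Additive.toMul (S.f.hom (a - b)))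
        ((hφ _).symm.trans (congrArg Additive.toMul h0)) (congrArg Additive.toMul h1))
    · obtain ⟨v, hv, hv'⟩ := exists_root (Nat.card G) hN (Additive.toMul (S.f.hom a))
        ((hφ _).symm.trans (congrArg Additive.toMul ((hker _).2 ⟨a, rfl⟩)))
      obtain ⟨c, hc⟩ := (hker (Additive.ofMul v)).1 (Additive.toMul.injective ((hφ v).trans hv))
      refine ⟨c, hinj ?_⟩
      show S.f.hom (Nat.card G • c) = S.f.hom a
      rw [map_nsmul, hc]
      exact congrArg Additive.ofMul hv'
  haveI : CategoryTheory.Mono ((groupCohomology.functor ℤ G n).map φ) :=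
    (groupCohomology.mapShortComplex₂_exact hS n).mono_g ((hK n hn).eq_of_src _ _)
  haveI : CategoryTheory.Epi ((groupCohomology.functor ℤ G n).map φ) :=
    (groupCohomology.mapShortComplex₃_exact hS (rfl : n + 1 = n + 1)).epi_f ((hK (n + 1) n.succ_pos).eq_of_tgt _ _)
  exact ⟨(ModuleCat.mono_iff_injective _).1 inferInstance, (ModuleCat.epi_iff_surjective _).1 inferInstance⟩

end Groth.Agent.S19223
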