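import Groth.Statements.S19224
import Mathlib


-- import your own Groth.Agent.* helpers here

set_option autoImplicit false
open GalCoh

namespace Groth.Agent.S19224

/-- Let Q be a finite group such that H^3(Q, ℤ) = 0 for the trivial action, and let k be a separably
closed field of characteristic p ≥ 0 with p not dividing the order of Q. Then H^2(Q, k^×) = 0, where
Q acts trivially on the units of k. (Groups and fields are taken in the lowest universe, as integral
coefficients in the group-cohomology library require.) -/
theorem result (Q : Type) [Group Q] [Finite Q]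
    (hQ : Subsingleton (groupCohomology (Rep.trivial ℤ Q ℤ) 3)) (k : Type) [Field k] [IsSepClosed k]
    (p : ℕ) [CharP k p] (hp : ¬ p ∣ Nat.card Q) :
    Subsingleton (groupCohomology (Rep.trivial ℤ Q (Additive kˣ)) 2) := by
  classical
  have : Fintype Q := Fintype.ofFinite Q
  let n := Fintype.card Q
  have hn0 : n ≠ 0 := Fintype.card_ne_zero
  have hnk : (n : k) ≠ 0 := by
    rw [ne_eq, CharP.cast_eq_zero_iff k p]
    rwa [Nat.card_eq_fintype_card] at hp
  haveI : NeZero (n : k) := ⟨hnk⟩
  let Z := Rep.trivial ℤ Q ℤ
  -- every integral three-cocycle is a coboundary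
  have h3 : ∀ w : (Fin 3 → Q) → ℤ, inhomogeneousCochains.d Z 3 w = 0 →
      ∃ u : (Fin 2 → Q) → ℤ, inhomogeneousCochains.d Z 2 u = w := by
    intro w hw
    have hz : CategoryTheory.Limits.IsZero ((groupCohomology.inhomogeneousCochains Z).homology 3) :=
      @ModuleCat.isZero_of_subsingleton _ _ _ hQ
    have hex := ((groupCohomology.inhomogeneousCochains Z).exactAt_iff_isZero_homology 3).mpr hz
    rw [(groupCohomology.inhomogeneousCochains Z).exactAt_iff' 2 3 4 (by simp) (by simp),
      CategoryTheory.ShortComplex.moduleCat_exact_iff] at hex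
    obtain ⟨u, hu⟩ := hex w (by
      show (groupCohomology.inhomogeneousCochains Z).d 3 4 w = 0
      rw [groupCohomology.inhomogeneousCochains.d_def]; exact hw)
    refine ⟨u, ?_⟩
    have hu' : (groupCohomology.inhomogeneousCochains Z).d 2 3 u = w := hu
    rwa [groupCohomology.inhomogeneousCochains.d_def] at hu'
  -- the cardinality of `Q` annihilates two-cocycles
  have hkill : ∀ (M : Type) [AddCommGroup M] (f : Q → Q → M),
      (∀ g h j : Q, f h j - f (g * h) j + f g (h * j) - f g h = 0) →
      ∀ g h : Q, n • f g h = (∑ x, f h x) - (∑ x, f (g * h) x) + ∑ x, f g x := by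
    intro M _ f hf g h
    have h0 : ∑ x, (f h x - f (g * h) x + f g (h * x) - f g h) = 0 :=
      Finset.sum_eq_zero fun x _ => hf g h x
    rw [Finset.sum_sub_distrib, Finset.sum_add_distrib, Finset.sum_sub_distrib,
      Finset.sum_const, Finset.card_univ, sub_eq_zero] at h0
    rw [← h0, Fintype.sum_equiv (Equiv.mulLeft h) (fun x => f g (h * x)) (fun x => f g x) fun x => rfl]
  have hroot : ∀ x : kˣ, ∃ y : kˣ, y ^ n = x := by
    intro x
    obtain ⟨y, hy⟩ := IsSepClosed.exists_pow_nat_eq (x : k) n
    have hy0 : y ≠ 0 := by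
      rintro rfl
      rw [zero_pow hn0] at hy
      exact x.ne_zero hy.symm
    exact ⟨Units.mk0 y hy0, Units.ext (by simpa using hy)⟩
  choose rt hrt using hroot
  obtain ⟨ζ, hζ⟩ : ∃ ζ : k, IsPrimitiveRoot ζ n := by
    have : IsCyclotomicExtension {n} k k := IsSepClosed.isCyclotomicExtension {n} k fun a ha _ => by
      obtain rfl := Set.mem_singleton_iff.mp ha
      infer_instance
    exact ⟨IsCyclotomicExtension.zeta n k k, IsCyclotomicExtension.zeta_spec n k k⟩
  have hζu : IsUnit ζ := hζ.isUnit hn0
  let ζu : kˣ := hζu.unit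
  have hζu' : IsPrimitiveRoot ζu n := IsPrimitiveRoot.coe_units_iff.mp hζ
  let η := rt ζu
  let A := Rep.trivial ℤ Q (Additive kˣ)
  constructor
  suffices ∀ x : groupCohomology A 2, x = 0 from fun x y => (this x).trans (this y).symm
  intro x
  induction x using groupCohomology.H2_induction_on with
  | h c =>
    rw [groupCohomology.H2π_eq_zero_iff]
    let cc : Q → Q → Additive kˣ := fun g h => c (g, h)
    have hc : ∀ g h j : Q, cc h j - cc (g * h) j + cc g (h * j) - cc g h = 0 := fun g h j => by
      have := (groupCohomology.mem_cocycles₂_def _).mp c.2 g h j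
      simpa [cc, A] using this
    let β : Q → Additive kˣ := fun g => ∑ y, cc g y
    let γ : Q → Additive kˣ := fun g => Additive.ofMul (rt (Additive.toMul (β g)))
    have hγ : ∀ g, n • γ g = β g := fun g => by
      show Additive.ofMul (rt (Additive.toMul (β g)) ^ n) = β g
      rw [hrt]; rfl
    let μ : Q → Q → Additive kˣ := fun g h => cc g h - (γ h - γ (g * h) + γ g)
    have hμn : ∀ g h, n • μ g h = 0 := fun g h => by
      show n • (cc g h - (γ h - γ (g * h) + γ g)) = 0
      rw [nsmul_sub, nsmul_add, nsmul_sub, hγ, hγ, hγ, hkill _ cc hc g h]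
      exact sub_self _
    have hμz : ∀ g h, ∃ i : ℤ, i • Additive.ofMul ζu = μ g h := fun g h => by
      haveI : NeZero n := ⟨hn0⟩
      have h1 : (Additive.toMul (μ g h)) ^ n = 1 := congrArg Additive.toMul (hμn g h)
      obtain ⟨i, -, hi⟩ := hζ.eq_pow_of_pow_eq_one (ξ := ((Additive.toMul (μ g h) : kˣ) : k))
        (by rw [← Units.val_pow_eq_pow_val, h1, Units.val_one])
      refine ⟨i, ?_⟩
      rw [natCast_zsmul]
      exact congrArg Additive.ofMul (show ζu ^ i = Additive.toMul (μ g h) from Units.ext (by simpa [ζu] using hi))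
    choose z hz using hμz
    have hdiv : ∀ g h j, ∃ w : ℤ, n * w = z h j - z (g * h) j + z g (h * j) - z g h := by
      intro g h j
      have h1 : (z h j - z (g * h) j + z g (h * j) - z g h) • Additive.ofMul ζu = 0 := by
        rw [sub_smul, add_smul, sub_smul, hz, hz, hz, hz]
        simp only [μ, mul_assoc]
        linear_combination (norm := abel) hc g h j
      have h2 : ζu ^ (z h j - z (g * h) j + z g (h * j) - z g h) = 1 := congrArg Additive.toMul h1
      obtain ⟨w, hw⟩ := (hζu'.zpow_eq_one_iff_dvd _).mp h2
      exact ⟨w, hw.symm⟩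
    choose w hw using hdiv
    have hwc : inhomogeneousCochains.d Z 3 (fun v => w (v 0) (v 1) (v 2)) = 0 := by
      ext v
      have key : ∀ a b c e : Q, w b c e - w (a * b) c e + w a (b * c) e - w a b (c * e) + w a b c = 0 := by
        intro a b c e
        refine mul_left_cancel₀ (Int.natCast_ne_zero.mpr hn0) ?_
        simp only [mul_add, mul_sub, hw, mul_zero, mul_assoc]
        ring
      have := key (v 0) (v 1) (v 2) (v 3)
      rw [inhomogeneousCochains.d_hom_apply]
      simp [Z, Fin.sum_univ_four, Fin.contractNth]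
      rw [show (0 : (Fin (3 + 1) → Q) → ℤ) v = 0 from rfl]
      linarith
    obtain ⟨u, hu⟩ := h3 _ hwc
    have hu' : ∀ a b c, u ![b, c] - u ![a * b, c] + u ![a, b * c] - u ![a, b] = w a b c := by
      intro a b c
      have := congrFun hu ![a, b, c]
      rw [inhomogeneousCochains.d_hom_apply] at this
      have e1 : (fun i : Fin 2 => ![a, b, c] i.succ) = ![b, c] := by ext i; fin_cases i <;> rfl
      have e2 : Fin.contractNth 0 (· * ·) ![a, b, c] = ![a * b, c] := by ext i; fin_cases i <;> rfl
      have e3 : Fin.contractNth 1 (· * ·) ![a, b, c] = ![a, b * c] := by ext i; fin_cases i <;> rfl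
      have e4 : Fin.contractNth 2 (· * ·) ![a, b, c] = ![a, b] := by ext i; fin_cases i <;> rfl
      simp [Z, Fin.sum_univ_three, e1, e2, e3, e4] at this
      linarith
    let f : Q → Q → ℤ := fun g h => z g h - n * u ![g, h]
    have hf : ∀ g h j : Q, f h j - f (g * h) j + f g (h * j) - f g h = 0 := fun g h j => by
      simp only [f]
      linear_combination (n : ℤ) * (hu' g h j).symm - hw g h j
    let b : Q → ℤ := fun g => ∑ y, f g y
    let Δ : Q → Additive kˣ := fun g => γ g + b g • Additive.ofMul η
    have hfin : ∀ g h, Δ h - Δ (g * h) + Δ g = cc g h := by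
      intro g h
      have hηn : (n : ℤ) • Additive.ofMul η = Additive.ofMul ζu := by
        rw [natCast_zsmul]; exact congrArg Additive.ofMul (hrt ζu)
      have hnz : (n : ℤ) • Additive.ofMul ζu = 0 := by
        rw [natCast_zsmul]; exact congrArg Additive.ofMul hζu'.pow_eq_one
      have h1 : μ g h = ((b h - b (g * h) + b g) : ℤ) • Additive.ofMul η := by
        rw [← hz g h, show z g h = f g h + u ![g, h] * n by simp [f, mul_comm], add_zsmul, mul_zsmul, hnz,
          zsmul_zero, add_zero, ← hηn, ← mul_zsmul]
        congr 1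
        have := hkill ℤ f hf g h
        rw [nsmul_eq_mul] at this
        simp only [b]
        linarith
      simp only [μ, add_zsmul, sub_zsmul] at h1
      simp only [Δ]
      linear_combination (norm := abel) -h1
    refine ⟨Δ, funext fun ⟨g, h⟩ => ?_⟩
    simpa [A, cc] using hfin g h

end Groth.Agent.S19224
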