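import Groth.Statements.S19225
import Groth.Agent.EtPBCProperLib.Henselian
import Groth.Agent.FibDimLib.Smooth
import Groth.Agent.FibDimLib.TopLocalDim
import Groth.Agent.SmoothDimLib.Chart

set_option linter.unusedSectionVars false
set_option linter.style.haveILetI false
set_option backward.isDefEq.respectTransparency false
set_option backward.isDefEq.respectTransparency.types false
set_option maxHeartbeats 1000000
set_option synthInstance.maxHeartbeats 400000
-- import your own Groth.Agent.* helpers here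

set_option autoImplicit false
universe u
open CategoryTheory AlgebraicGeometry
open Dix

namespace Groth.Agent.S19225

open CategoryTheory.Limits CategoryTheory.Abelian Opposite
open EtPBCProperLib (rootHom rootHom_kummer cp)

attribute [local instance] EtSliceLib.pullExact

theorem eq_zero_of_connecting {C : Type*} [Category C] [Abelian C] [HasExt C] {S : ShortComplex C}
    (hS : S.ShortExact) {A : C} (n₀ n₁ : ℕ) (hn : n₀ + 1 = n₁)
    (hsurj : ∀ y : Ext A S.X₁ n₁, ∃ b : Ext A S.X₃ n₀, b.comp hS.extClass hn = y)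
    (x : Ext A S.X₂ n₁) (hx : x.comp (Ext.mk₀ S.g) (add_zero n₁) = 0) : x = 0 := by
  obtain ⟨y, rfl⟩ := Ext.covariant_sequence_exact₂ _ hS x hx
  obtain ⟨b, rfl⟩ := hsurj y
  rw [Ext.comp_assoc_of_third_deg_zero, hS.extClass_comp, Ext.comp_zero]

/-- Every class in `H²(X, μ_n)` is a Kummer class when this holds on a subscheme with the same `H²` of
`μ_n` onto which the Picard group surjects. -/
theorem exists_connecting_eq {X X₀ : Scheme.{u}} (i : X₀ ⟶ X) [PreservesFiniteLimits (EtCoh.pull i)]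
    (n : ℕ) [NeZero n] (hu : IsUnit (n : Γ(X, ⊤))) (ζ : Γ(X, ⊤))
    (hζ : Polynomial.aeval ζ (Polynomial.cyclotomic n ℤ) = 0)
    (hBr : ∀ ξ : EtCoh.H X₀ (EtCoh.Gm X₀) 2, n • ξ = 0 → ξ = 0)
    (hPic : Function.Surjective (EtLim.HGmPull i 1))
    (hinj : Function.Injective (EtCore.Hpull i (EtCoh.const X (ZMod n)) 2))
    (y : EtCoh.H X (EtCoh.const X (ZMod n)) 2) (hw : rootHom X n ζ hζ ≫ EtCoh.powMap X n = 0)
    (hS : (ShortComplex.mk _ _ hw).ShortExact) :
    ∃ b : EtCoh.H X (EtCoh.Gm X) 1, Ext.comp b hS.extClass (show 1 + 1 = 2 from rfl) = y := by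
  haveI := EtCore.pull_preservesFiniteColimits i
  haveI : (EtCoh.pull i).Additive := (EtCoh.pullPushAdj i).left_adjoint_additive
  obtain ⟨hw₀, hS₀⟩ := rootHom_kummer X₀ n (map_natCast i.appTop.hom n ▸ hu.map i.appTop.hom)
    (i.appTop.hom ζ) (MuConstLib.aeval_map _ hζ)
  let c := (EtCore.pullConst i (ZMod n)).hom
  let S := ShortComplex.mk _ _ hw
  let S₀ := ShortComplex.mk _ _ hw₀
  let φ : S.map (EtCoh.pull i) ⟶ S₀ :=
    { τ₁ := c
      τ₂ := DivSeqLib.thetaGm i
      τ₃ := DivSeqLib.thetaGm i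
      comm₁₂ := (EtPBCProperLib.rootHom_pull X i n ζ hζ).symm
      comm₂₃ := by
        show DivSeqLib.thetaGm i ≫ (n • 𝟙 (EtCoh.Gm X₀)) = (EtCoh.pull i).map (n • 𝟙 (EtCoh.Gm X)) ≫ DivSeqLib.thetaGm i
        rw [Functor.map_nsmul, CategoryTheory.Functor.map_id, Preadditive.comp_nsmul, Preadditive.nsmul_comp,
          Category.comp_id, Category.id_comp] }
  let y₀ : EtCoh.H X₀ S₀.X₁ 2 := Ext.comp (EtCore.Hpull i S.X₁ 2 y : Ext.{u + 1} _ _ 2) (Ext.mk₀ c) (add_zero 2)
  have h0 : Ext.comp y₀ (Ext.mk₀ S₀.f) (add_zero 2) = 0 := by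
    refine hBr _ ?_
    rw [← EtTransferLib.comp_mk₀_nsmul]
    rw [Ext.comp_assoc_of_second_deg_zero, Ext.mk₀_comp_mk₀]
    exact (congrArg (fun t => Ext.comp y₀ (Ext.mk₀ t) (add_zero 2)) S₀.zero).trans (by rw [Ext.mk₀_zero, Ext.comp_zero])
  obtain ⟨a, ha⟩ := Ext.covariant_sequence_exact₁ _ hS₀ y₀ h0 (n₀ := 1) rfl
  obtain ⟨b, hb⟩ := hPic a
  rw [DivSeqLib.HGmPull_eq] at hb
  refine ⟨b, hinj ((EtAcycLib.bijective_mk₀_iso_postcomp (EtCore.pullConst i (ZMod n)) 2).1 ?_)⟩
  show Ext.comp (EtCore.Hpull i S.X₁ 2 (b.comp hS.extClass rfl)) (Ext.mk₀ c) (add_zero 2) = y₀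
  rw [← ha, ← hb]
  refine (congrArg (fun t => Ext.comp t (Ext.mk₀ c) (add_zero 2)) (EtAcycLib.Hpull_delta i hS b)).trans ?_
  have hn := ShortComplex.ShortExact.extClass_naturality (hS.map_of_exact (EtCoh.pull i)) hS₀ φ
  rw [Ext.comp_assoc_of_third_deg_zero, Ext.comp_assoc_of_second_deg_zero]
  exact congrArg (fun t => Ext.comp (EtCore.Hpull i S.X₃ 1 b) t rfl) hn

theorem powMap_eq {X : Scheme.{u}} (n : ℕ) : EtCoh.powMap X n = n • 𝟙 (EtCoh.Gm X) := rfl

theorem comp_nsmul_id_eq_zero {X : Scheme.{u}} {F : EtCoh.Ab X} (n d : ℕ) (x : EtCoh.H X F d) (hx : n • x = 0) :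
    Ext.comp (x : Ext.{u+1} (EtCoh.const X ℤ) F d) (Ext.mk₀ (n • 𝟙 F)) (add_zero d) = 0 :=
  (EtTransferLib.comp_mk₀_nsmul _ n).trans hx

theorem comp_powMap_eq_zero {X : Scheme.{u}} (n : ℕ) (x : EtCoh.H X (EtCoh.Gm X) 2) (hx : n • x = 0) :
    Ext.comp (x : Ext.{u+1} (EtCoh.const X ℤ) (EtCoh.Gm X) 2) (Ext.mk₀ (EtCoh.powMap X n)) (add_zero 2) = 0 := by
  rw [powMap_eq]
  exact comp_nsmul_id_eq_zero n 2 x hx

/-- The same in the language of `Ext`. -/
theorem eq_zero_ext {X : Scheme.{u}} (n : ℕ) [NeZero n] (ζ : Γ(X, ⊤))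
    (hζ : Polynomial.aeval ζ (Polynomial.cyclotomic n ℤ) = 0)
    (hw : rootHom X n ζ hζ ≫ EtCoh.powMap X n = 0) (hS : (ShortComplex.mk _ _ hw).ShortExact) {P : EtCoh.Ab X}
    (hsurj : ∀ y : Ext.{u+1} P (EtCoh.const X (ZMod n)) 2, ∃ b : Ext.{u+1} P (EtCoh.Gm X) 1,
      b.comp hS.extClass (show 1 + 1 = 2 from rfl) = y)
    (x : Ext.{u+1} P (EtCoh.Gm X) 2) (hx : Ext.comp x (Ext.mk₀ (EtCoh.powMap X n)) (add_zero 2) = 0) : x = 0 :=
  eq_zero_of_connecting hS 1 2 rfl hsurj x hx

/-- A class killed by `n` in `H²(X, G_m)` vanishes under the same hypotheses. -/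
theorem eq_zero_of_pull {X X₀ : Scheme.{u}} (i : X₀ ⟶ X) [PreservesFiniteLimits (EtCoh.pull i)]
    (n : ℕ) [NeZero n] (hu : IsUnit (n : Γ(X, ⊤))) (ζ : Γ(X, ⊤))
    (hζ : Polynomial.aeval ζ (Polynomial.cyclotomic n ℤ) = 0)
    (hBr : ∀ ξ : EtCoh.H X₀ (EtCoh.Gm X₀) 2, n • ξ = 0 → ξ = 0)
    (hPic : Function.Surjective (EtLim.HGmPull i 1))
    (hinj : Function.Injective (EtCore.Hpull i (EtCoh.const X (ZMod n)) 2))
    (x : EtCoh.H X (EtCoh.Gm X) 2) (hx : n • x = 0) : x = 0 := by
  obtain ⟨hw, hS⟩ := rootHom_kummer X n hu ζ hζ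
  exact eq_zero_ext n ζ hζ hw hS (P := EtCoh.const X ℤ)
    (fun y => exists_connecting_eq i n hu ζ hζ hBr hPic hinj y hw hS) x (comp_powMap_eq_zero n x hx)

theorem krullDim_le_one {k : Type u} [Field k] {X : Scheme.{u}} (f : X ⟶ Spec (CommRingCat.of k))
    [SmoothOfRelativeDimension 1 f] : topologicalKrullDim X ≤ (1 : WithBot ℕ∞) := by
  haveI : Smooth f := SmoothOfRelativeDimension.smooth 1 f
  rw [FibDimLib.topologicalKrullDim_eq_iSup_localDim]
  exact iSup_le fun x => ((SmoothDimLib.fibreDimAt_eq_localDim f x).symm.trans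
    (FibDimLib.fibreDimAt_smoothOfRelativeDimension 1 f x)).le.trans_eq Nat.cast_one

/-- Let R be a noetherian strictly henselian local ring with residue field k, and let X → Spec R be a
proper smooth morphism of relative dimension 1 with geometrically connected fibres (a smooth proper
curve over R). Then H²(X_et, G_m) has no non-zero torsion of order invertible in R: if n is a
natural number whose image in k is non-zero and x ∈ H²(X_et, G_m) satisfies n·x = 0, then x = 0.
(The published statement asserts that H²(X_et, G_m) is torsion-free, i.e. that the cohomological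
Brauer group of X is zero. Its argument compares, by proper base change, the cohomology of the
two-term complex G_m → G_m given by the n-th power map on X with that on the closed fibre X_k; this
comparison is valid when n is invertible in R, but not in general when the residue characteristic
divides n: for an elliptic curve over the ring of Witt vectors of an algebraic closure of the field
with three elements and n = 3, the degree-2 cohomology of that complex is infinite on X and finite
on X_k. So this row states the part of the assertion that the argument establishes, the vanishing of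
the torsion of order prime to the residue characteristic. The source works with a projective curve;
the argument uses properness, the fibre dimension and the surjectivity of Pic X → Pic X_k, so proper
is assumed here.) -/
theorem result (R : Type u) [CommRing R] [IsNoetherianRing R]
    [HenselianLocalRing R] [IsSepClosed (IsLocalRing.ResidueField R)] (X : Scheme.{u})
    (f : X ⟶ Spec (CommRingCat.of R)) [IsProper f] [SmoothOfRelativeDimension 1 f] [GeometricallyConnected f]
    (n : ℕ) (hn : (n : IsLocalRing.ResidueField R) ≠ 0) (x : Dix.BrCoh X) (hx : n • x = 0) : x = 0 := by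
  haveI : IsClosedImmersion (cp R) := IsClosedImmersion.spec_of_surjective _ Ideal.Quotient.mk_surjective
  have hn0 : n ≠ 0 := fun e => hn (by rw [e, Nat.cast_zero])
  haveI : NeZero n := ⟨hn0⟩
  have hu : IsUnit (n : R) := by
    rw [← IsLocalRing.residue_ne_zero_iff_isUnit, map_natCast]
    exact hn
  obtain ⟨ζ, hζ⟩ := EtPBCProperLib.exists_root_cyclotomic R n hu
  letI : Field (R ⧸ IsLocalRing.maximalIdeal R) := Ideal.Quotient.field _
  haveI := EtPBCProperLib.isSepClosed_quotient R
  haveI : SmoothOfRelativeDimension 1 (pullback.snd f (cp R)) :=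
    haveI := smoothOfRelativeDimension_isStableUnderBaseChange.{u} 1
    MorphismProperty.pullback_snd (P := @SmoothOfRelativeDimension 1) _ _ ‹_›
  have hdim : topologicalKrullDim ↥(pullback f (cp R)) ≤ 1 := krullDim_le_one (pullback.snd f (cp R))
  refine eq_zero_of_pull (pullback.fst f (cp R)) n
    (by rw [← map_natCast (EtPBCProperLib.toΓ f)]; exact hu.map _) (EtPBCProperLib.toΓ f ζ)
    (MuConstLib.aeval_map _ hζ) (fun ξ hξ => ?_)
    (EtPBCProperLib.surjective_HGmPull fun {L₀} hL =>
      PicAmpleLiftLib.exists_lift_closedFibre f (EtPBCProperLib.dim_fiber_le f hdim) _ (EtPBCProperLib.range_fst_cp f) hL)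
    (EtPBCProperLib.bijective_pair (IsLocalRing.maximalIdeal R) f _
      (EtPBCProperLib.isTorsion_of_nsmul (NeZero.pos n) (EtPBCProperLib.nsmul_const X n)) 2).1 x hx
  refine EtPBCProperLib.eq_zero_brCoh (pullback.snd f (cp R)) hdim n ?_ ξ hξ
  rw [← map_natCast (Ideal.Quotient.mk (IsLocalRing.maximalIdeal R))]
  exact (hu.map _).ne_zero

end Groth.Agent.S19225
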