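import Groth.Statements.S19227
import Groth.Agent.NormLfpLib.Main
import Groth.Agent.S3054
import Groth.Agent.AicVanishLib.Affine

set_option maxHeartbeats 1000000
set_option linter.style.haveILetI false
set_option backward.isDefEq.respectTransparency false
set_option backward.isDefEq.respectTransparency.types false
-- import your own Groth.Agent.* helpers here

set_option autoImplicit false
universe u
open CategoryTheory AlgebraicGeometry
open Dix

namespace Groth.Agent.S19227

open CategoryTheory.Limits Opposite CategoryTheory.Abelian CovDevLib NormLfpLib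

theorem appTop_square {A B B' C : Scheme.{u}} {a : A ⟶ B} {b : B ⟶ C} {a' : A ⟶ B'} {b' : B' ⟶ C}
    (h : a ≫ b = a' ≫ b') (x : Γ(C, ⊤)) : a.appTop (b.appTop x) = a'.appTop (b'.appTop x) := by
  rw [← CommRingCat.comp_apply, ← CommRingCat.comp_apply, ← Scheme.Hom.comp_appTop, ← Scheme.Hom.comp_appTop, h]

variable {X Y : Scheme.{u}} (f : X ⟶ Y)

/-- Pullback of units. -/
noncomputable def toPush : EtCoh.Gm Y ⟶ (EtCoh.push f).obj (EtCoh.Gm X) :=
  ⟨{ app := fun W => AddCommGrpCat.ofHom
      { toFun := fun s => ((ULift.up (Additive.ofMul (Units.map (pullback.fst W.unop.hom f).appTop.hom.toMonoidHom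
          ((show ULift.{u + 1} (Additive (Γ(W.unop.left, ⊤))ˣ) from s).down.toMul))) :
            ULift.{u + 1} (Additive (Γ(pullback W.unop.hom f, ⊤))ˣ)) : _)
        map_zero' := ULift.ext _ _ (congrArg Additive.ofMul (map_one (Units.map _)))
        map_add' := fun a b => ULift.ext _ _ (congrArg Additive.ofMul (map_mul (Units.map _) _ _)) }
     naturality := fun W W' g => AddCommGrpCat.ext fun s => ULift.ext _ _ (congrArg Additive.ofMul (Units.ext (by
      show (pullback.fst W'.unop.hom f).appTop (g.unop.left.appTop _) =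
        ((EtCoh.bc f).map g.unop).left.appTop ((pullback.fst W.unop.hom f).appTop _)
      exact appTop_square (pullback.lift_fst _ _ _).symm _))) }⟩

variable [IsFinite f] [Flat f] [LocallyOfFinitePresentation f]

/-- The norm on the small etale site. -/
noncomputable def norm : (EtCoh.push f).obj (EtCoh.Gm X) ⟶ EtCoh.Gm Y :=
  ⟨{ app := fun W => AddCommGrpCat.ofHom
      { toFun := fun s => ((ULift.up (Additive.ofMul (nrmUnit f (Over.mk W.unop.hom)
          ((show ULift.{u + 1} (Additive (Γ(pullback W.unop.hom f, ⊤))ˣ) from s).down.toMul))) :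
            ULift.{u + 1} (Additive (Γ(W.unop.left, ⊤))ˣ)) : _)
        map_zero' := ULift.ext _ _ (congrArg Additive.ofMul (map_one (nrmUnit f _)))
        map_add' := fun a b => ULift.ext _ _ (congrArg Additive.ofMul (map_mul (nrmUnit f _) _ _)) }
     naturality := fun W W' g => AddCommGrpCat.ext fun s => ULift.ext _ _ (congrArg Additive.ofMul (Units.ext (by
      let g' : Over.mk W'.unop.hom ⟶ Over.mk W.unop.hom := Over.homMk g.unop.left (MorphismProperty.Over.w g.unop)
      show nrm f (Over.mk W'.unop.hom) (((EtCoh.bc f).map g.unop).left.appTop _) = g'.left.appTop (nrm f (Over.mk W.unop.hom) _)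
      rw [nrm_natural f g']
      rfl))) }⟩

theorem finrank_good {d : ℕ} (hd : ∀ y, f.finrank y = d) {T : Over Y} (h : Good f T)
    [Nontrivial Γ(T.left, ⊤)] :
    (letI := prAlg f T; Module.finrank Γ(T.left, ⊤) Γ(pr f T, ⊤)) = d := by
  letI := prAlg f T
  obtain ⟨hT, hfin, hfree⟩ := h
  haveI := hT; haveI := hfin; haveI := hfree
  haveI : IsAffine (pr f T) := isAffine_of_isAffineHom (pullback.fst T.hom f)
  obtain ⟨q⟩ := (inferInstance : Nonempty (PrimeSpectrum Γ(T.left, ⊤)))
  let p := pullback.fst T.hom f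
  have hsq : IsPullback (pr f T).isoSpec.inv (Spec.map p.appTop) p T.left.isoSpec.inv :=
    IsPullback.of_horiz_isIso ⟨Scheme.isoSpec_inv_naturality p |>.symm⟩
  have h1 := Scheme.Hom.finrank_of_isPullback _ _ _ _ hsq q
  rw [show p.finrank (T.left.isoSpec.inv q) = d from (Scheme.Hom.finrank_pullback_fst f T.hom _).trans (hd _)] at h1
  have h2 := Scheme.Hom.finrank_SpecMap_algebraMap Γ(T.left, ⊤) Γ(pr f T, ⊤) q
  rw [Module.rankAtStalk_eq_finrank_of_free] at h2
  exact h2.symm.trans h1

theorem nrm_pullback {d : ℕ} (hd : ∀ y, f.finrank y = d) (T : Over Y) (a : Γ(T.left, ⊤)) :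
    nrm f T ((pullback.fst T.hom f).appTop a) = a ^ d := by
  refine isNm_unique f (isNm_nrm f T _) fun T' g hT' => ?_
  letI := prAlg f T'
  have h1 : (prMap f g).appTop ((pullback.fst T.hom f).appTop a) = algebraMap Γ(T'.left, ⊤) Γ(pr f T', ⊤) (g.left.appTop a) := by
    show _ = (pullback.fst T'.hom f).appTop (g.left.appTop a)
    exact appTop_square (isPullback_prMap f g).w.symm a
  rw [h1, map_pow]
  rcases subsingleton_or_nontrivial Γ(T'.left, ⊤) with h | h
  · exact Subsingleton.elim _ _
  · haveI := hT'.2.1; haveI := hT'.2.2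
    show _ = Algebra.norm Γ(T'.left, ⊤) _
    rw [Algebra.norm_algebraMap_of_basis (Module.Free.chooseBasis Γ(T'.left, ⊤) Γ(pr f T', ⊤)),
      ← Module.finrank_eq_card_chooseBasisIndex, finrank_good f hd hT']

theorem toPush_norm {d : ℕ} (hd : ∀ y, f.finrank y = d) : toPush f ≫ norm f = d • 𝟙 (EtCoh.Gm Y) := by
  refine Sheaf.hom_ext (NatTrans.ext (funext fun W => AddCommGrpCat.ext fun s => ?_))
  refine Eq.trans ?_ (AicVanishLib.app_nsmul (𝟙 (EtCoh.Gm Y)) d W.unop s).symm
  show ((norm f).hom.app W ((toPush f).hom.app W s)) = d • s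
  refine ULift.ext _ _ (congrArg Additive.ofMul (Units.ext ?_) |>.trans rfl)
  exact nrm_pullback f hd (Over.mk W.unop.hom) _

/-- Let f : X → Y be a finite locally free morphism of schemes of constant degree d ≥ 1, so that f is
finite, flat, of finite presentation and surjective. If H²(X_et, G_m) is a torsion group, then
H²(Y_et, G_m) is a torsion group. (The source states this for a finite, flat, finitely presented
surjection of algebraic stacks and argues with multiplication by the degree of f; the case of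
schemes with f of constant degree is what is stated here.) -/
theorem result (X Y : Scheme.{u}) (f : X ⟶ Y) (d : ℕ) (hd : 1 ≤ d)
    (hf : Mor2.IsFinLocFreeOfDeg d f) (hX : IsAddTorsion (Dix.BrCoh X)) :
    IsAddTorsion (Dix.BrCoh Y) := by
  obtain ⟨⟨hfin, hflat, hlfp⟩, hdeg⟩ := hf
  haveI := hfin; haveI := hflat; haveI := hlfp
  intro α
  let γ : EtCoh.H Y ((EtCoh.push f).obj (EtCoh.Gm X)) 2 := Sheaf.H.map (toPush f) 2 α
  obtain ⟨m, hm, hm0⟩ := isOfFinAddOrder_iff_nsmul_eq_zero.1 (hX (mu (p := f) (EtCoh.Gm X) 2 γ))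
  refine isOfFinAddOrder_iff_nsmul_eq_zero.2 ⟨d * m, Nat.mul_pos hd hm, ?_⟩
  have hγ : m • γ = 0 := (AicVanishLib.bijective_mu_integral (p := f) (EtCoh.Gm X) 2).1 (by
    haveI : PreservesFiniteLimits (EtCoh.pull f) := Groth.Agent.EtShLib.preservesFiniteLimits_pullA (A := AddCommGrpCat.{u + 1}) f
    let M : EtCoh.H Y ((EtCoh.push f).obj (EtCoh.Gm X)) 2 →+ EtCoh.H X (EtCoh.Gm X) 2 :=
      AddMonoidHom.mk' (mu (p := f) (EtCoh.Gm X) 2) fun a b => by simp only [mu, map_add, Ext.add_comp]
    show M (m • γ) = M 0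
    rw [map_nsmul, map_zero]
    exact hm0)
  have hN : Sheaf.H.map (norm f) 2 γ = d • α := by
    show Ext.comp (Ext.comp α (Ext.mk₀ (toPush f)) (add_zero 2)) (Ext.mk₀ (norm f)) (add_zero 2) = _
    rw [Ext.comp_assoc_of_second_deg_zero, Ext.mk₀_comp_mk₀, toPush_norm f hdeg]
    exact EtTransferLib.comp_mk₀_nsmul α d
  show (d * m) • α = 0
  rw [mul_comm, mul_nsmul', ← hN, ← map_nsmul, hγ, map_zero]

end Groth.Agent.S19227
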