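import Groth.Statements.S19229
import Mathlib


-- import your own Groth.Agent.* helpers here

set_option autoImplicit false
universe u v
open SigmaLin

namespace Groth.Agent.S19229

/-- Let k be a field with a ring endomorphism σ, V a finite-dimensional k-vector space and T : V → V an
additive map with T (c • v) = σ c • T v. If some iterate of T sends v to 0 and v lies in the
k-linear span of the image of every iterate of T, then v = 0. In other words the union of the
kernels of the iterates of T and the intersection of the spans of their images meet only in 0. -/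
theorem result
    (k : Type u) [Field k] (σ : k →+* k)
    (V : Type v) [AddCommGroup V] [Module k V] [FiniteDimensional k V] (T : V →ₛₗ[σ] V) (v : V)
    (hnil : ∃ n : ℕ, (⇑T)^[n] v = 0)
    (hss : ∀ n : ℕ, v ∈ Submodule.span k (Set.range ((⇑T)^[n]))) : v = 0 := by
  classical
  set S : ℕ → Submodule k V := fun n => Submodule.span k (Set.range ((⇑T)^[n])) with hS
  have hanti : Antitone S := antitone_nat_of_succ_le fun n => by
    refine Submodule.span_mono ?_
    rintro _ ⟨x, rfl⟩
    exact ⟨T x, (Function.iterate_succ_apply _ _ _).symm⟩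
  obtain ⟨N, hN⟩ := IsArtinian.monotone_stabilizes
    (⟨fun n => OrderDual.toDual (S n), fun a b hab => hanti hab⟩ : ℕ →o (Submodule k V)ᵒᵈ)
  have heq : S (N + 1) = S N := (OrderDual.toDual.injective (hN (N + 1) (Nat.le_succ N))).symm
  have himg : ∀ x ∈ S N, T x ∈ S (N + 1) := fun x hx => by
    refine Submodule.span_induction (p := fun x _ => T x ∈ S (N + 1)) ?_ ?_ ?_ ?_ hx
    · rintro _ ⟨y, rfl⟩
      exact Submodule.subset_span ⟨y, Function.iterate_succ_apply' _ _ _⟩
    · rw [map_zero]; exact zero_mem _
    · intro a b _ _ ha hb; rw [map_add]; exact add_mem ha hb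
    · intro c a _ ha; rw [map_smulₛₗ]; exact Submodule.smul_mem _ _ ha
  let b := Module.finBasis k (S N)
  have hTmem : ∀ i, T (b i : V) ∈ S N := fun i => heq.le (himg _ (b i).2)
  let w : Fin (Module.finrank k (S N)) → S N := fun i => ⟨T (b i : V), hTmem i⟩
  have hcomb : ∀ x : S N, T (x : V) = ∑ i, σ (b.repr x i) • (w i : V) := fun x => by
    conv_lhs => rw [← b.sum_repr x]
    simp only [Submodule.coe_sum, Submodule.coe_smul, map_sum, map_smulₛₗ, w]
  have hspan : ⊤ ≤ Submodule.span k (Set.range w) := by
    rintro x -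
    have hx : (x : V) ∈ (Submodule.span k (Set.range w)).map (S N).subtype := by
      refine (?_ : S N ≤ _) x.2
      conv_lhs => rw [← heq]
      refine Submodule.span_le.2 ?_
      rintro _ ⟨y, rfl⟩
      rw [Function.iterate_succ_apply']
      have hy : (⇑T)^[N] y ∈ S N := Submodule.subset_span ⟨y, rfl⟩
      rw [hcomb ⟨_, hy⟩]
      exact Submodule.sum_mem _ fun i _ => Submodule.smul_mem _ _
        ⟨w i, Submodule.subset_span ⟨i, rfl⟩, rfl⟩
    obtain ⟨z, hz, hzx⟩ := hx
    rwa [← Subtype.ext (a1 := z) (a2 := x) hzx]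
  have hind : LinearIndependent k w :=
    linearIndependent_of_top_le_span_of_card_eq_finrank hspan (Fintype.card_fin _)
  have hinj : ∀ x ∈ S N, T x = 0 → x = 0 := by
    intro x hx h0
    have h1 := hcomb ⟨x, hx⟩
    rw [show T ((⟨x, hx⟩ : S N) : V) = 0 from h0] at h1
    have h2 : ∑ i, σ (b.repr ⟨x, hx⟩ i) • w i = 0 := by
      apply Subtype.ext
      simpa using h1.symm
    have h3 := Fintype.linearIndependent_iff.1 hind _ h2
    have h4 : b.repr ⟨x, hx⟩ = 0 := Finsupp.ext fun i => σ.injective (by rw [h3 i]; simp)
    simpa using congrArg Subtype.val (b.repr.map_eq_zero_iff.1 h4)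
  obtain ⟨m, hm⟩ := hnil
  have hz : ∀ m, ∀ x ∈ S N, (⇑T)^[m] x = 0 → x = 0 := by
    intro m
    induction m with
    | zero => intro x _ hx; simpa using hx
    | succ m ih =>
      intro x hx h
      rw [Function.iterate_succ_apply] at h
      exact hinj x hx (ih _ (heq.le (himg x hx)) h)
  exact hz m v (hss N) hm

end Groth.Agent.S19229
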