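import Groth.Statements.S1923
import Mathlib
import Groth.Agent.CycC1Lib.Cap
import Groth.Agent.CycPushLib.Local
-- import your own Groth.Agent.* helpers here

set_option autoImplicit false
universe u
open CategoryTheory AlgebraicGeometry
open Cyc

namespace Groth.Agent.S1923

/-- Let X be integral with δ(η) = n, L an invertible O_X-module and s a global section of L whose germ
at η is nonzero. Then div_L(s) = [Z(s)]_{n−1} as (n − 1)-cycles, where s is viewed as a rational
section through its image in L(η). Here L(ξ) = L_ξ/𝔪_ξ L_ξ is the space of rational sections of L on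
the closure of ξ, div_{L|W}(s) and c_1(L) ∩ α are computed as coefficient functions from chosen
nonzero rational sections (Cyc.secDivFun, Cyc.c1CapFun), and results are compared up to rational
equivalence for any cycles with those coefficients. A pair (X, δ) with Cyc.IsSetup plays the role of
a scheme locally of finite type over a fixed base with a dimension function (X locally Noetherian
with universally catenary local rings, δ a dimension function), and Cyc.DeltaCompat records that the
dimension function upstairs is the induced one. -/
theorem result (X : Scheme.{u}) [IsIntegral X] (δ : X → ℤ) (hX : Cyc.IsSetup X δ) (n : ℤ) (hn : δ (genericPoint X) = n) (L : X.Modules) (hL : PicF.IsInvertible L) (s : L.presheaf.obj (Opposite.op ⊤)) (hs : (L.presheaf.germ ⊤ (genericPoint X) trivial) s ≠ 0) : Cyc.secDivFun δ L (genericPoint X) (Submodule.Quotient.mk ((L.presheaf.germ ⊤ (genericPoint X) trivial) s)) = Cyc.zeroSectionFun δ (n - 1) L s := by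
    classical
    haveI := hX.1
    funext x
    rw [Cyc.zeroSectionFun]
    by_cases hx : δ x = n - 1
    swap
    · rw [if_neg hx, CycC1Lib.secDivFun_eq_zero_of_not]
      rintro ⟨-, h⟩
      omega
    rw [if_pos hx]
    have hsp : genericPoint X ⤳ x := genericPoint_specializes x
    obtain ⟨U, e, hxU, he⟩ := TwistLib.exists_genOn hL x
    have hηU : genericPoint X ∈ U := hsp.mem_open U.isOpen hxU
    have hgx := he.genAt hxU
    have htop : ∃ t : L.presheaf.stalk x, Submodule.span (X.presheaf.stalk x) {t} = ⊤ :=
      ⟨L.presheaf.germ U x hxU e, eq_top_iff.2 fun v _ => by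
        obtain ⟨c, rfl⟩ := hgx.2 v
        exact Submodule.smul_mem _ c (Submodule.mem_span_singleton_self _)⟩
    rw [dif_pos htop]
    obtain ⟨f₀, hf₀⟩ := Submodule.mem_span_singleton.1
      ((Classical.choose_spec htop).ge (Submodule.mem_top (x := L.presheaf.germ ⊤ x trivial s)))
    have hfx : ∃ f : X.presheaf.stalk x,
        L.presheaf.germ ⊤ x trivial s = f • Classical.choose htop := ⟨f₀, hf₀.symm⟩
    rw [dif_pos hfx]
    obtain ⟨b, hb⟩ := hgx.2 (Classical.choose htop)
    obtain ⟨a, ha⟩ := Submodule.mem_span_singleton.1
      ((Classical.choose_spec htop).ge (Submodule.mem_top (x := L.presheaf.germ U x hxU e)))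
    have hbu : IsUnit b := IsUnit.of_mul_eq_one a (hgx.1 (by
      show (b * a) • L.presheaf.germ U x hxU e = (1 : X.presheaf.stalk x) • L.presheaf.germ U x hxU e
      rw [mul_comm b a, mul_smul, one_smul]
      exact (congrArg (a • ·) hb).trans ha))
    have hsη : L.presheaf.germ ⊤ (genericPoint X) trivial s =
        X.presheaf.stalkSpecializes hsp (Classical.choose hfx * b) • L.presheaf.germ U (genericPoint X) hηU e := by
      have h := congrArg (L.presheaf.stalkSpecializes hsp) (Classical.choose_spec hfx)
      rw [TopCat.Presheaf.germ_stalkSpecializes_apply] at h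
      refine h.trans ?_
      refine (congrArg (fun v => L.presheaf.stalkSpecializes hsp (Classical.choose hfx • v)) hb.symm).trans ?_
      rw [smul_smul, CycC1Lib.stalkSpecializes_smul, TopCat.Presheaf.germ_stalkSpecializes_apply]
    have hne : Cyc.specMap x (genericPoint X) hsp (Classical.choose hfx * b) ≠ 0 := fun h0 => hs (by
      have h1 : X.presheaf.stalkSpecializes hsp (Classical.choose hfx * b) = 0 :=
        CycPushLib.residue_injective rfl (h0.trans (map_zero _).symm)
      rw [hsη, h1, zero_smul])
    rw [CycC1Lib.secDivFun_eq_divFun hX he hxU hηU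
      ((congrArg Submodule.Quotient.mk hsη).trans (Submodule.Quotient.mk_smul _ _ _))]
    rw [Cyc.divFun, dif_pos ⟨hsp, by omega⟩]
    have hd := CycPushLib.dimBetween_le_one_of_drop hX hsp (show δ x + 1 = δ (genericPoint X) by omega)
    show Cyc.ordAt x (genericPoint X) hsp (Cyc.specMap x (genericPoint X) hsp (Classical.choose hfx * b)) = _
    rw [CycDivLib.ordAt_specMap hsp hd hne, ← CycDivLib.ker_specMap, CycPushLib.ker_specMap_generic rfl hsp, bot_sup_eq,
      Ideal.span_singleton_mul_right_unit hbu]

end Groth.Agent.S1923
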