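import Groth.Statements.S19230
import Mathlib
import Mathlib
-- import your own Groth.Agent.* helpers here

set_option autoImplicit false
universe u v
open SigmaLin

namespace Groth.Agent.S19230

/-- Let k be a field, σ a surjective ring endomorphism of k, V a finite-dimensional k-vector space and T
: V → V additive with T (c • v) = σ c • T v. Then the set of vectors killed by some iterate of T is
a k-subspace on which a single iterate of T vanishes, it is a complement of the intersection over n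
of the k-spans of the images of the n-th iterates, and T restricts to a bijection of that
intersection onto itself. -/
theorem result
    (k : Type u) [Field k] (σ : k →+* k) (hσ : Function.Surjective σ)
    (V : Type v) [AddCommGroup V] [Module k V] [FiniteDimensional k V] (T : V →ₛₗ[σ] V) :
    (∃ W : Submodule k V, (W : Set V) = {v : V | ∃ n : ℕ, (⇑T)^[n] v = 0} ∧
      (∃ N : ℕ, ∀ v ∈ W, (⇑T)^[N] v = 0) ∧
      IsCompl W (⨅ n : ℕ, Submodule.span k (Set.range ((⇑T)^[n])))) ∧
    Set.BijOn (⇑T) (⋂ n : ℕ, (Submodule.span k (Set.range ((⇑T)^[n])) : Set V))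
      (⋂ n : ℕ, (Submodule.span k (Set.range ((⇑T)^[n])) : Set V)) := by
  classical
  have hiter : ∀ (n : ℕ) (c : k) (v : V), (⇑T)^[n] (c • v) = (⇑σ)^[n] c • (⇑T)^[n] v := by
    intro n
    induction n with
    | zero => intro c v; simp
    | succ n ih => intro c v; rw [Function.iterate_succ_apply', ih, map_smulₛₗ, Function.iterate_succ_apply', Function.iterate_succ_apply']
  have hadd : ∀ (n : ℕ) (a b : V), (⇑T)^[n] (a + b) = (⇑T)^[n] a + (⇑T)^[n] b := fun n => iterate_map_add T n
  have hzero : ∀ (n : ℕ), (⇑T)^[n] (0 : V) = 0 := fun n => iterate_map_zero T n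
  let R : ℕ → Submodule k V := fun n =>
    { carrier := Set.range (⇑T)^[n]
      zero_mem' := ⟨0, hzero n⟩
      add_mem' := by rintro _ _ ⟨a, rfl⟩ ⟨b, rfl⟩; exact ⟨a + b, hadd n a b⟩
      smul_mem' := by
        rintro c _ ⟨a, rfl⟩
        obtain ⟨z, hz⟩ := hσ.iterate n c
        exact ⟨z • a, by rw [hiter, hz]⟩ }
  have hR : ∀ n, Submodule.span k (Set.range ((⇑T)^[n])) = R n := fun n => Submodule.span_eq (R n)
  let K : ℕ → Submodule k V := fun n =>
    { carrier := {v | (⇑T)^[n] v = 0}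
      zero_mem' := hzero n
      add_mem' := fun {a b} ha hb => by
        show (⇑T)^[n] (a + b) = 0
        rw [hadd, show (⇑T)^[n] a = 0 from ha, show (⇑T)^[n] b = 0 from hb, add_zero]
      smul_mem' := fun c a ha => by
        show (⇑T)^[n] (c • a) = 0
        rw [hiter, show (⇑T)^[n] a = 0 from ha, smul_zero] }
  have hRanti : Antitone R := antitone_nat_of_succ_le fun n => by rintro _ ⟨a, rfl⟩; exact ⟨T a, rfl⟩
  have hKmono : Monotone K := monotone_nat_of_le_succ fun n v hv => by
    show (⇑T)^[n + 1] v = 0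
    rw [Function.iterate_succ_apply', show (⇑T)^[n] v = 0 from hv, map_zero]
  obtain ⟨N₀, hN₀⟩ := IsArtinian.monotone_stabilizes (R := k) (M := V) ⟨fun n => OrderDual.toDual (R n), fun _ _ h => hRanti h⟩
  obtain ⟨N₁, hN₁⟩ := monotone_stabilizes_iff_noetherian.2 (inferInstance : IsNoetherian k V) ⟨K, hKmono⟩
  set N := max N₀ N₁ with hN
  have hRs : ∀ m, N ≤ m → R m = R N := fun m hm => (hN₀ m ((le_max_left _ _).trans hm)).symm.trans (hN₀ N (le_max_left _ _))
  have hKs : ∀ m, N ≤ m → K m = K N := fun m hm => (hN₁ m ((le_max_right _ _).trans hm)).symm.trans (hN₁ N (le_max_right _ _))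
  have hinf : (⨅ n : ℕ, R n) = R N := le_antisymm (iInf_le _ N) (le_iInf fun n => by
    rcases le_total N n with h | h
    · exact (hRs n h).ge
    · exact hRanti h)
  have hdisj : ∀ v, v ∈ R N → (⇑T)^[N] v = 0 → v = 0 := by
    rintro _ ⟨x, rfl⟩ h
    have : x ∈ K (N + N) := by show (⇑T)^[N + N] x = 0; rw [Function.iterate_add_apply]; exact h
    rw [hKs (N + N) (Nat.le_add_right _ _)] at this
    exact this
  simp only [hR]
  refine ⟨⟨K N, ?_, ⟨N, fun v hv => hv⟩, ?_⟩, ?_⟩
  · ext v
    refine ⟨fun h => ⟨N, h⟩, fun ⟨n, hn⟩ => ?_⟩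
    rcases le_total N n with h | h
    · exact (hKs n h).le (show v ∈ K n from hn)
    · exact hKmono h (show v ∈ K n from hn)
  · rw [hinf]
    refine ⟨Submodule.disjoint_def.2 fun v h1 h2 => hdisj v h2 h1, codisjoint_iff.2 (eq_top_iff.2 fun v _ => ?_)⟩
    obtain ⟨x, hx⟩ : (⇑T)^[N] v ∈ R (N + N) := (hRs (N + N) (Nat.le_add_right _ _)).ge ⟨v, rfl⟩
    refine Submodule.mem_sup.2 ⟨v - (⇑T)^[N] x, ?_, (⇑T)^[N] x, ⟨x, rfl⟩, sub_add_cancel _ _⟩
    show (⇑T)^[N] (v - (⇑T)^[N] x) = 0
    rw [Function.iterate_add_apply] at hx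
    have h := hadd N (v - (⇑T)^[N] x) ((⇑T)^[N] x)
    rw [sub_add_cancel, hx] at h
    exact left_eq_add.1 (h.trans (add_comm _ _))
  · have hset : (⋂ n : ℕ, (R n : Set V)) = (R N : Set V) := by
      rw [← Submodule.coe_iInf, hinf]
    rw [hset]
    refine ⟨fun v hv => ?_, fun a ha b hb hab => ?_, fun v hv => ?_⟩
    · obtain ⟨x, rfl⟩ := hv
      exact ⟨T x, by rw [← Function.iterate_succ_apply, Function.iterate_succ_apply']⟩
    · refine sub_eq_zero.1 (hdisj _ ((R N).sub_mem ha hb) ?_)
      rcases Nat.eq_zero_or_pos N with h0 | h0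
      · have h1 : a - b ∈ K 1 := by show T (a - b) = 0; rw [map_sub, hab, sub_self]
        rw [hKs 1 (by omega)] at h1
        exact h1
      · obtain ⟨M, hM⟩ := Nat.exists_eq_succ_of_ne_zero h0.ne'
        rw [hM, Function.iterate_succ_apply, map_sub, hab, sub_self]
        exact hzero M
    · obtain ⟨x, hx⟩ := ((hRs (N + 1) (Nat.le_succ N)).ge hv : v ∈ R (N + 1))
      exact ⟨(⇑T)^[N] x, ⟨x, rfl⟩, (Function.iterate_succ_apply' _ _ _).symm.trans hx⟩

end Groth.Agent.S19230
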