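import Groth.Statements.S19232
import Mathlib
import Mathlib
-- import your own Groth.Agent.* helpers here

set_option autoImplicit false
universe u v
open SigmaLin

namespace Groth.Agent.S19232

/-- Let k be a field with a ring endomorphism σ, and assume that for every n and every tuple (b_0, …,
b_n) of elements of k, not all zero, the equation x = Σ_{i=0}^{n} σ^{i+1}(x) σ^{i}(b_{n-i}) has a
nonzero solution x in k. Let V be a finite-dimensional k-vector space, T : V → V additive with T (c
• v) = σ c • T v, and e ∈ V a vector no iterate of T sends to 0. Then the k-span of the orbit e, T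
e, T² e, … contains a nonzero vector v with T v = v. -/
theorem result
    (k : Type u) [Field k] (σ : k →+* k)
    (V : Type v) [AddCommGroup V] [Module k V] [FiniteDimensional k V] (T : V →ₛₗ[σ] V)
    (h2 : ∀ (n : ℕ) (b : Fin (n + 1) → k), b ≠ 0 →
      ∃ x : k, x ≠ 0 ∧ x = ∑ i : Fin (n + 1), (⇑σ)^[i.val + 1] x * (⇑σ)^[i.val] (b (Fin.rev i)))
    (e : V) (he : ∀ m : ℕ, (⇑T)^[m] e ≠ 0) :
    ∃ v ∈ Submodule.span k (Set.range (fun m : ℕ => (⇑T)^[m] e)), v ≠ 0 ∧ T v = v := by
  classical
  have hex : ∃ m, ¬ LinearIndependent k (fun i : Fin (m + 1) => (⇑T)^[(i : ℕ)] e) := by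
    refine ⟨Module.finrank k V, fun h => ?_⟩
    have := h.fintype_card_le_finrank
    simp at this
  set m := Nat.find hex with hm
  have hdep := Nat.find_spec hex
  have hm0 : m ≠ 0 := by
    intro h
    rw [← hm, h] at hdep
    refine hdep (Fintype.linearIndependent_iff.2 fun g hg i => ?_)
    rw [Fin.sum_univ_one] at hg
    obtain rfl : i = 0 := Subsingleton.elim (α := Fin 1) _ _
    exact (smul_eq_zero.1 hg).resolve_right (he _)
  obtain ⟨n, hn⟩ := Nat.exists_eq_succ_of_ne_zero hm0
  have hind : LinearIndependent k (fun i : Fin (n + 1) => (⇑T)^[(i : ℕ)] e) := not_not.1 (Nat.find_min hex (by omega : n < m))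
  rw [← hm, hn, linearIndependent_fin_succ'] at hdep
  have hlast : (⇑T)^[n + 1] e ∈ Submodule.span k (Set.range (fun i : Fin (n + 1) => (⇑T)^[(i : ℕ)] e)) := by
    by_contra h
    exact hdep ⟨hind, h⟩
  obtain ⟨a, ha⟩ := Submodule.mem_span_range_iff_exists_fun _ |>.1 hlast
  have ha0 : a ≠ 0 := by
    intro h0
    rw [h0] at ha
    exact he (n + 1) (by rw [← ha]; simp)
  obtain ⟨t, ht0, ht⟩ := h2 n a ha0
  let c : ℕ → k := fun i => Nat.rec (a 0 * σ t) (fun i ci => (if h : i + 1 < n + 1 then a ⟨i + 1, h⟩ else 0) * σ t + σ ci) i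
  have hc : ∀ i (hi : i < n + 1), c i = ∑ j : Fin (i + 1), (⇑σ)^[j.val + 1] t * (⇑σ)^[j.val] (a ⟨i - j.val, by omega⟩) := by
    intro i
    induction i with
    | zero => intro hi; rw [Fin.sum_univ_one]; simp [c, mul_comm]
    | succ i ih =>
      intro hi
      show (if h : i + 1 < n + 1 then a ⟨i + 1, h⟩ else 0) * σ t + σ (c i) = _
      rw [ih (by omega), dif_pos hi, Fin.sum_univ_succ (fun j : Fin (i + 1 + 1) => (⇑σ)^[j.val + 1] t * (⇑σ)^[j.val] (a ⟨i + 1 - j.val, by omega⟩)), map_sum]
      congr 1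
      · simp only [Fin.val_zero, zero_add, Function.iterate_one, Function.iterate_zero, id_eq, Nat.sub_zero]
        exact mul_comm _ _
      · refine Finset.sum_congr rfl fun j _ => ?_
        rw [map_mul, ← Function.iterate_succ_apply' σ, ← Function.iterate_succ_apply' σ]
        congr 3
        exact Fin.ext (by simp)
  have hct : c n = t := by
    rw [hc n (Nat.lt_succ_self n)]
    conv_rhs => rw [ht]
    refine Finset.sum_congr rfl fun j _ => ?_
    congr 3
    exact Fin.ext (by simp [Fin.val_rev])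
  refine ⟨∑ i : Fin (n + 1), c i • (⇑T)^[(i : ℕ)] e, Submodule.sum_mem _ fun i _ => Submodule.smul_mem _ _ (Submodule.subset_span ⟨_, rfl⟩), fun h => ?_, ?_⟩
  · have := Fintype.linearIndependent_iff.1 hind _ h (Fin.last n)
    rw [Fin.val_last, hct] at this
    exact ht0 this
  · rw [map_sum]
    simp only [map_smulₛₗ, ← Function.iterate_succ_apply' ⇑T]
    rw [Fin.sum_univ_castSucc]
    simp only [Fin.val_last, Fin.val_castSucc, Nat.succ_eq_add_one]
    rw [hct, ← ha, Finset.smul_sum, Fin.sum_univ_succ (fun i : Fin (n + 1) => σ t • a i • (⇑T)^[(i : ℕ)] e),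
      Fin.sum_univ_succ (fun i : Fin (n + 1) => c i • (⇑T)^[(i : ℕ)] e)]
    have hsucc : ∀ i : Fin n, c (i.succ : Fin (n + 1)) = a i.succ * σ t + σ (c i) := fun i => by
      show (if h : (i : ℕ) + 1 < n + 1 then a ⟨(i : ℕ) + 1, h⟩ else 0) * σ t + σ (c i) = _
      rw [dif_pos (by omega)]; rfl
    simp only [hsucc]
    simp only [Fin.val_succ, Fin.val_zero, add_smul, mul_smul, Finset.sum_add_distrib]
    simp only [show c 0 = a 0 * σ t from rfl, smul_smul]
    simp only [mul_comm (σ t)]
    abel

end Groth.Agent.S19232
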