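import Mathlib

namespace Groth.Agent.SigmaFixedLib

universe u v

variable {k : Type u} [Field k] {σ : k →+* k} {V : Type v} [AddCommGroup V] [Module k V] [FiniteDimensional k V]

theorem indep (T : V →ₛₗ[σ] V) (h1 : Submodule.span k (Set.range ⇑T) = ⊤) {ι : Type*} [Fintype ι] (v : ι → V)
    (hv : LinearIndependent k v) : LinearIndependent k (⇑T ∘ v) := by
  classical
  let B := Module.Basis.extend hv.linearIndepOn_id
  haveI : Fintype ↥(hv.linearIndepOn_id.extend (Set.subset_univ (Set.range v))) := FiniteDimensional.fintypeBasisIndex B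
  have hspan : Submodule.span k (Set.range (⇑T ∘ B)) = ⊤ := by
    rw [eq_top_iff, ← h1, Submodule.span_le]
    rintro _ ⟨x, rfl⟩
    rw [← B.sum_repr x, map_sum]
    refine Submodule.sum_mem _ fun i _ => ?_
    rw [map_smulₛₗ]
    exact Submodule.smul_mem _ _ (Submodule.subset_span ⟨i, rfl⟩)
  have hB : LinearIndependent k (⇑T ∘ B) :=
    linearIndependent_of_top_le_span_of_card_eq_finrank hspan.ge (Module.finrank_eq_card_basis B).symm
  let e : ι → ↥(hv.linearIndepOn_id.extend (Set.subset_univ (Set.range v))) :=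
    fun i => ⟨v i, hv.linearIndepOn_id.subset_extend _ ⟨i, rfl⟩⟩
  have : ⇑T ∘ v = (⇑T ∘ B) ∘ e := funext fun i => by
    show T (v i) = T (B (e i))
    rw [show B (e i) = v i from Module.Basis.extend_apply_self _ _]
  rw [this]
  exact hB.comp e fun i j h => hv.injective (congrArg Subtype.val h)

theorem ne_zero (T : V →ₛₗ[σ] V) (h1 : Submodule.span k (Set.range ⇑T) = ⊤) (x : V) (hx : x ≠ 0) : T x ≠ 0 := by
  have := (indep T h1 (fun _ : Unit => x) (linearIndependent_unique_iff.2 hx)).ne_zero ()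
  exact this

theorem exists_fixed (T : V →ₛₗ[σ] V)
    (h2 : ∀ (n : ℕ) (b : Fin (n + 1) → k), b ≠ 0 →
      ∃ x : k, x ≠ 0 ∧ x = ∑ i : Fin (n + 1), (⇑σ)^[i.val + 1] x * (⇑σ)^[i.val] (b (Fin.rev i)))
    (e : V) (he : ∀ m : ℕ, (⇑T)^[m] e ≠ 0) :
    ∃ v ∈ Submodule.span k (Set.range (fun m : ℕ => (⇑T)^[m] e)), v ≠ 0 ∧ T v = v := by
  classical
  have hex : ∃ m, ¬ LinearIndependent k (fun i : Fin (m + 1) => (⇑T)^[(i : ℕ)] e) := by
    refine ⟨Module.finrank k V, fun h => ?_⟩
    have := h.fintype_card_le_finrank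
    simp at this
  set m := Nat.find hex with hm
  have hdep := Nat.find_spec hex
  have hm0 : m ≠ 0 := by
    intro h
    rw [← hm, h] at hdep
    refine hdep (Fintype.linearIndependent_iff.2 fun g hg i => ?_)
    rw [Fin.sum_univ_one] at hg
    obtain rfl : i = 0 := Subsingleton.elim (α := Fin 1) _ _
    exact (smul_eq_zero.1 hg).resolve_right (he _)
  obtain ⟨n, hn⟩ := Nat.exists_eq_succ_of_ne_zero hm0
  have hind : LinearIndependent k (fun i : Fin (n + 1) => (⇑T)^[(i : ℕ)] e) := not_not.1 (Nat.find_min hex (by omega : n < m))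
  rw [← hm, hn, linearIndependent_fin_succ'] at hdep
  have hlast : (⇑T)^[n + 1] e ∈ Submodule.span k (Set.range (fun i : Fin (n + 1) => (⇑T)^[(i : ℕ)] e)) := by
    by_contra h
    exact hdep ⟨hind, h⟩
  obtain ⟨a, ha⟩ := Submodule.mem_span_range_iff_exists_fun _ |>.1 hlast
  have ha0 : a ≠ 0 := by
    intro h0
    rw [h0] at ha
    exact he (n + 1) (by rw [← ha]; simp)
  obtain ⟨t, ht0, ht⟩ := h2 n a ha0
  let c : ℕ → k := fun i => Nat.rec (a 0 * σ t) (fun i ci => (if h : i + 1 < n + 1 then a ⟨i + 1, h⟩ else 0) * σ t + σ ci) i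
  have hc : ∀ i (hi : i < n + 1), c i = ∑ j : Fin (i + 1), (⇑σ)^[j.val + 1] t * (⇑σ)^[j.val] (a ⟨i - j.val, by omega⟩) := by
    intro i
    induction i with
    | zero => intro hi; rw [Fin.sum_univ_one]; simp [c, mul_comm]
    | succ i ih =>
      intro hi
      show (if h : i + 1 < n + 1 then a ⟨i + 1, h⟩ else 0) * σ t + σ (c i) = _
      rw [ih (by omega), dif_pos hi, Fin.sum_univ_succ (fun j : Fin (i + 1 + 1) => (⇑σ)^[j.val + 1] t * (⇑σ)^[j.val] (a ⟨i + 1 - j.val, by omega⟩)), map_sum]
      congr 1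
      · simp only [Fin.val_zero, zero_add, Function.iterate_one, Function.iterate_zero, id_eq, Nat.sub_zero]
        exact mul_comm _ _
      · refine Finset.sum_congr rfl fun j _ => ?_
        rw [map_mul, ← Function.iterate_succ_apply' σ, ← Function.iterate_succ_apply' σ]
        congr 3
        exact Fin.ext (by simp)
  have hct : c n = t := by
    rw [hc n (Nat.lt_succ_self n)]
    conv_rhs => rw [ht]
    refine Finset.sum_congr rfl fun j _ => ?_
    congr 3
    exact Fin.ext (by simp [Fin.val_rev])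
  refine ⟨∑ i : Fin (n + 1), c i • (⇑T)^[(i : ℕ)] e, Submodule.sum_mem _ fun i _ => Submodule.smul_mem _ _ (Submodule.subset_span ⟨_, rfl⟩), fun h => ?_, ?_⟩
  · have := Fintype.linearIndependent_iff.1 hind _ h (Fin.last n)
    rw [Fin.val_last, hct] at this
    exact ht0 this
  · rw [map_sum]
    simp only [map_smulₛₗ, ← Function.iterate_succ_apply' ⇑T]
    rw [Fin.sum_univ_castSucc]
    simp only [Fin.val_last, Fin.val_castSucc, Nat.succ_eq_add_one]
    rw [hct, ← ha, Finset.smul_sum, Fin.sum_univ_succ (fun i : Fin (n + 1) => σ t • a i • (⇑T)^[(i : ℕ)] e),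
      Fin.sum_univ_succ (fun i : Fin (n + 1) => c i • (⇑T)^[(i : ℕ)] e)]
    have hsucc : ∀ i : Fin n, c (i.succ : Fin (n + 1)) = a i.succ * σ t + σ (c i) := fun i => by
      show (if h : (i : ℕ) + 1 < n + 1 then a ⟨(i : ℕ) + 1, h⟩ else 0) * σ t + σ (c i) = _
      rw [dif_pos (by omega)]; rfl
    simp only [hsucc]
    simp only [Fin.val_succ, Fin.val_zero, add_smul, mul_smul, Finset.sum_add_distrib]
    simp only [show c 0 = a 0 * σ t from rfl, smul_smul]
    simp only [mul_comm (σ t)]
    abel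

theorem span_fixed (T : V →ₛₗ[σ] V) (h1 : Submodule.span k (Set.range ⇑T) = ⊤)
    (h2 : ∀ (n : ℕ) (b : Fin (n + 1) → k), b ≠ 0 →
      ∃ x : k, x ≠ 0 ∧ x = ∑ i : Fin (n + 1), (⇑σ)^[i.val + 1] x * (⇑σ)^[i.val] (b (Fin.rev i)))
    (h3 : ∀ c : k, ∃ y : k, σ y - y + c = 0) :
    Submodule.span k {x : V | T x = x} = ⊤ := by
  classical
  set W := Submodule.span k {x : V | T x = x} with hW
  have hmem1 : ∀ w ∈ W, T w ∈ W := fun w hw => by
    induction hw using Submodule.span_induction with
    | mem x hx => rw [show T x = x from hx]; exact Submodule.subset_span hx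
    | zero => simp
    | add x y _ _ hx hy => rw [map_add]; exact W.add_mem hx hy
    | smul c x _ hx => rw [map_smulₛₗ]; exact W.smul_mem _ hx
  have hmem2 : ∀ w ∈ W, ∀ c : k, ∃ y ∈ W, T y - y = -(c • w) := fun w hw => by
    induction hw using Submodule.span_induction with
    | mem x hx =>
      intro c
      obtain ⟨d, hd⟩ := h3 c
      refine ⟨d • x, W.smul_mem _ (Submodule.subset_span hx), ?_⟩
      rw [map_smulₛₗ, show T x = x from hx, ← sub_smul, show σ d - d = -c by linear_combination hd, neg_smul]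
    | zero => exact fun c => ⟨0, W.zero_mem, by simp⟩
    | add x y _ _ hx hy =>
      intro c
      obtain ⟨a, ha, ha'⟩ := hx c
      obtain ⟨b, hb, hb'⟩ := hy c
      exact ⟨a + b, W.add_mem ha hb, by rw [map_add, smul_add]; linear_combination (norm := abel) ha' + hb'⟩
    | smul e x _ hx => intro c; simpa [smul_smul] using hx (c * e)
  by_contra hne
  let T' : (V ⧸ W) →ₛₗ[σ] (V ⧸ W) := W.mapQ W T fun x hx => hmem1 x hx
  have hss' : Submodule.span k (Set.range T') = ⊤ := by
    rw [eq_top_iff]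
    rintro x -
    induction x using Submodule.Quotient.induction_on with
    | _ x =>
      have hx : x ∈ Submodule.span k (Set.range T) := h1 ▸ Submodule.mem_top
      induction hx using Submodule.span_induction with
      | mem y hy => obtain ⟨z, rfl⟩ := hy; exact Submodule.subset_span ⟨Submodule.Quotient.mk z, rfl⟩
      | zero => exact Submodule.zero_mem _
      | add x y _ _ hx hy => exact Submodule.add_mem _ hx hy
      | smul c x _ hx => exact Submodule.smul_mem _ c hx
  haveI : Nontrivial (V ⧸ W) := Submodule.Quotient.nontrivial_iff.2 hne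
  obtain ⟨v₀, hv₀⟩ := exists_ne (0 : V ⧸ W)
  obtain ⟨x, -, hx0, hx⟩ := exists_fixed T' h2 v₀ (fun m => by
    induction m with
    | zero => exact hv₀
    | succ m ih => rw [Function.iterate_succ_apply']; exact ne_zero T' hss' _ ih)
  induction x using Submodule.Quotient.induction_on with
  | _ y =>
    have hy : T y - y ∈ W := (Submodule.Quotient.eq W).1 hx
    obtain ⟨z, hz, hz'⟩ := hmem2 _ hy 1
    rw [one_smul] at hz'
    apply hx0
    rw [Submodule.Quotient.mk_eq_zero]
    have : y + z ∈ W := Submodule.subset_span (show T (y + z) = y + z by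
      rw [map_add]; linear_combination (norm := abel) hz')
    simpa using W.sub_mem this hz

theorem exists_basis (T : V →ₛₗ[σ] V) (h1 : Submodule.span k (Set.range ⇑T) = ⊤)
    (h2 : ∀ (n : ℕ) (b : Fin (n + 1) → k), b ≠ 0 →
      ∃ x : k, x ≠ 0 ∧ x = ∑ i : Fin (n + 1), (⇑σ)^[i.val + 1] x * (⇑σ)^[i.val] (b (Fin.rev i)))
    (h3 : ∀ c : k, ∃ y : k, σ y - y + c = 0) :
    ∃ b : Module.Basis (Fin (Module.finrank k V)) k V, ∀ i, T (b i) = b i := by
  classical
  obtain ⟨t, hts, hspan, hli⟩ := exists_linearIndependent k {x : V | T x = x}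
  have hsp : ⊤ ≤ Submodule.span k (Set.range (Subtype.val : t → V)) := by
    rw [Subtype.range_coe, hspan, span_fixed T h1 h2 h3]
  let b := Module.Basis.mk hli hsp
  haveI : Fintype t := FiniteDimensional.fintypeBasisIndex b
  refine ⟨b.reindex (Fintype.equivFinOfCardEq (Module.finrank_eq_card_basis b).symm), fun i => ?_⟩
  rw [Module.Basis.reindex_apply, Module.Basis.mk_apply]
  exact hts (Subtype.mem _)

end Groth.Agent.SigmaFixedLib
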