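import Groth.Statements.S19234
import Mathlib
import Mathlib
import Groth.Agent.S19230
import Groth.Agent.SigmaFixedLib
-- import your own Groth.Agent.* helpers here

set_option autoImplicit false
universe u v
open SigmaLin

namespace Groth.Agent.S19234

/-- Let k be a field with a surjective ring endomorphism σ such that (i) for every n and every tuple
(b_0, …, b_n) in k, not all zero, the equation x = Σ_{i=0}^{n} σ^{i+1}(x) σ^{i}(b_{n-i}) has a
nonzero solution x in k, and (ii) for every c in k there is y with σ(y) − y + c = 0. Let V be a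
finite-dimensional k-vector space and T : V → V additive with T (c • v) = σ c • T v (no further
condition on T). Then v ↦ v − T v is surjective on V, and the intersection over n of the k-spans of
the images of the iterates of T (the part of V on which T is bijective) admits a k-basis of vectors
fixed by T; in particular the fixed vectors of T span that intersection over k. -/
theorem result
    (k : Type u) [Field k] (σ : k →+* k) (hσ : Function.Surjective σ)
    (V : Type v) [AddCommGroup V] [Module k V] [FiniteDimensional k V] (T : V →ₛₗ[σ] V)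
    (h2 : ∀ (n : ℕ) (b : Fin (n + 1) → k), b ≠ 0 →
      ∃ x : k, x ≠ 0 ∧ x = ∑ i : Fin (n + 1), (⇑σ)^[i.val + 1] x * (⇑σ)^[i.val] (b (Fin.rev i)))
    (h3 : ∀ c : k, ∃ y : k, σ y - y + c = 0) :
    Function.Surjective (fun v : V => v - T v) ∧
    ∃ b : Module.Basis (Fin (Module.finrank k ↥(⨅ n : ℕ, Submodule.span k (Set.range ((⇑T)^[n]))))) k ↥(⨅ n : ℕ, Submodule.span k (Set.range ((⇑T)^[n]))),
      ∀ i, T (b i : V) = (b i : V) := by
  classical
  obtain ⟨⟨W, hWset, ⟨N, hN⟩, hcompl⟩, hbij⟩ := Groth.Agent.S19230.result k σ hσ V T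
  set U := ⨅ n : ℕ, Submodule.span k (Set.range ((⇑T)^[n]))
  have hUset : (⋂ n : ℕ, (Submodule.span k (Set.range ((⇑T)^[n])) : Set V)) = (U : Set V) := (Submodule.coe_iInf _).symm
  rw [hUset] at hbij
  let TU : U →ₛₗ[σ] U :=
    { toFun := fun x => ⟨T x.1, hbij.mapsTo x.2⟩
      map_add' := fun a b => Subtype.ext (map_add T _ _)
      map_smul' := fun c a => Subtype.ext (map_smulₛₗ T c _) }
  have hsurj : Function.Surjective TU := fun x => by
    obtain ⟨y, hy, hyx⟩ := hbij.surjOn x.2
    exact ⟨⟨y, hy⟩, Subtype.ext hyx⟩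
  obtain ⟨b, hb⟩ := Groth.Agent.SigmaFixedLib.exists_basis TU (by rw [hsurj.range_eq, Submodule.span_univ]) h2 h3
  refine ⟨fun v => ?_, b, fun i => congrArg Subtype.val (hb i)⟩
  obtain ⟨w, hw, u, hu, rfl⟩ := Submodule.mem_sup.1 (hcompl.sup_eq_top.symm ▸ Submodule.mem_top : v ∈ W ⊔ U)
  choose d hd using fun i => h3 (b.repr ⟨u, hu⟩ i)
  refine ⟨(∑ j ∈ Finset.range N, (⇑T)^[j] w) + ((∑ i, d i • b i : U) : V), ?_⟩
  have h1 : (∑ i, d i • b i : U) - TU (∑ i, d i • b i) = ⟨u, hu⟩ := by
    conv_rhs => rw [← b.sum_repr ⟨u, hu⟩]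
    rw [map_sum, ← Finset.sum_sub_distrib]
    refine Finset.sum_congr rfl fun i _ => ?_
    rw [map_smulₛₗ, hb, ← sub_smul]
    congr 1
    linear_combination (-1 : k) * hd i
  have h2' : (∑ j ∈ Finset.range N, (⇑T)^[j] w) - T (∑ j ∈ Finset.range N, (⇑T)^[j] w) = w := by
    rw [map_sum, ← Finset.sum_sub_distrib]
    simp only [← Function.iterate_succ_apply' ⇑T]
    rw [Finset.sum_range_sub' (fun j => (⇑T)^[j] w), hN w hw, sub_zero]
    rfl
  show _ - T _ = _
  have h3' : ((∑ i, d i • b i : U) : V) - T ((∑ i, d i • b i : U) : V) = u := congrArg Subtype.val h1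
  rw [map_add]
  linear_combination (norm := abel) h2' + h3'

end Groth.Agent.S19234
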