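import Groth.Statements.S19238
import Groth.Agent.LangQLib.Mod

set_option autoImplicit false
universe u v
open SigmaLin

namespace Groth.Agent.S19238

/-- Let k be an algebraically closed field of characteristic p > 0 and n a natural number; let M be a
finitely generated module over the ring W_n(k) of truncated Witt vectors and T : M → M an additive
map with T (c • m) = σ(c) • T m, where σ is either the Frobenius endomorphism of W_n(k) or its
inverse. Then the set of T-fixed elements of M is finite. (The printed statement says that the
T-fixed elements form a finitely generated module over the σ-fixed subring of W_n(k), which is the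
finite ring of integers modulo p^n.) -/
theorem result
    (p : ℕ) [Fact p.Prime] (k : Type u) [Field k] [CharP k p] [IsAlgClosed k] (n : ℕ)
    (σ : TruncatedWittVector p n k →+* TruncatedWittVector p n k)
    (hσ : σ = WittGrp.truncMap p n (frobenius k p) ∨
      σ = WittGrp.truncMap p n (frobeniusEquiv k p).symm.toRingHom)
    (M : Type v) [AddCommGroup M] [Module (TruncatedWittVector p n k) M] [Module.Finite (TruncatedWittVector p n k) M]
    (T : M →ₛₗ[σ] M) :
    {m : M | T m = m}.Finite := by
  rcases n with _ | m
  · have hsub : Subsingleton (TruncatedWittVector p 0 k) := ⟨fun a b => TruncatedWittVector.ext fun i => i.elim0⟩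
    have : Subsingleton M := Module.subsingleton (TruncatedWittVector p 0 k) M
    exact Set.toFinite _
  let π : TruncatedWittVector p (m + 1) k →+* k :=
    { toFun := fun x => x.coeff 0
      map_one' := by
        rw [← map_one (WittVector.truncate (p := p) (R := k) (m + 1)), WittVector.coeff_truncate]
        exact map_one (WittVector.constantCoeff (p := p) (R := k))
      map_mul' := fun a b => by
        obtain ⟨A, rfl⟩ := WittVector.truncate_surjective p (m + 1) k a
        obtain ⟨B, rfl⟩ := WittVector.truncate_surjective p (m + 1) k b
        simp only [← map_mul, WittVector.coeff_truncate]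
        exact map_mul (WittVector.constantCoeff (p := p) (R := k)) A B
      map_zero' := by
        rw [← map_zero (WittVector.truncate (p := p) (R := k) (m + 1)), WittVector.coeff_truncate]
        exact map_zero (WittVector.constantCoeff (p := p) (R := k))
      map_add' := fun a b => by
        obtain ⟨A, rfl⟩ := WittVector.truncate_surjective p (m + 1) k a
        obtain ⟨B, rfl⟩ := WittVector.truncate_surjective p (m + 1) k b
        simp only [← map_add, WittVector.coeff_truncate]
        exact map_add (WittVector.constantCoeff (p := p) (R := k)) A B }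
  have hπ : Function.Surjective π := fun a =>
    ⟨TruncatedWittVector.mk p fun _ => a, TruncatedWittVector.coeff_mk (p := p) (fun _ : Fin (m + 1) => a) 0⟩
  have hπp : π (p : TruncatedWittVector p (m + 1) k) = 0 := by rw [map_natCast, CharP.cast_eq_zero]
  have hker : RingHom.ker π = Ideal.span {(p : TruncatedWittVector p (m + 1) k)} := by
    refine le_antisymm (fun x hx => ?_) ((Ideal.span_singleton_le_iff_mem _).2 (RingHom.mem_ker.2 hπp))
    obtain ⟨X, rfl⟩ := WittVector.truncate_surjective p (m + 1) k x
    rw [RingHom.mem_ker] at hx
    have hx' : X ∈ RingHom.ker (WittVector.constantCoeff (p := p) (R := k)) := by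
      rw [RingHom.mem_ker]
      have : (WittVector.truncate (m + 1) X).coeff 0 = 0 := hx
      rwa [WittVector.coeff_truncate] at this
    rw [WittVector.ker_constantCoeff, Ideal.mem_span_singleton] at hx'
    rw [Ideal.mem_span_singleton, ← map_natCast (WittVector.truncate (p := p) (R := k) (m + 1))]
    exact map_dvd _ hx'
  have hpn : (p : TruncatedWittVector p (m + 1) k) ^ (m + 1) = 0 := by
    rw [← map_natCast (WittVector.truncate (p := p) (R := k) (m + 1)), ← map_pow, ← RingHom.mem_ker,
      WittVector.mem_ker_truncate]
    intro i hi
    exact WittVector.coeff_p_pow_eq_zero p k (Nat.ne_of_lt hi)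
  obtain ⟨f, hf, hf'⟩ : ∃ f : k → k, (∀ a, π (σ a) = f (π a)) ∧ ((∀ a, f a = a ^ p ^ 1) ∨ ∀ a, f a ^ p ^ 1 = a) := by
    rcases hσ with rfl | rfl
    · exact ⟨frobenius k p, fun a => WittGrp.coeff_truncMap p (m + 1) (frobenius k p) a 0, Or.inl fun a => by rw [pow_one]; rfl⟩
    · exact ⟨(frobeniusEquiv k p).symm.toRingHom, fun a => WittGrp.coeff_truncMap p (m + 1) (frobeniusEquiv k p).symm.toRingHom a 0,
        Or.inr fun a => by rw [pow_one]; exact frobeniusEquiv_symm_pow_p k p a⟩
  have hmain := LangQLib.mod_main.{_, v} π hπ (p : TruncatedWittVector p (m + 1) k) hker σ (map_natCast σ p) f hf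
    (fun V _ _ _ T hT => ⟨(LangQLib.main p le_rfl hf' T hT).1, (LangQLib.main p le_rfl hf' T hT).2.1⟩)
    (m + 1) M T.toAddMonoidHom (fun a x => T.map_smulₛₗ a x) (fun x => by rw [hpn, zero_smul])
  exact hmain.2

end Groth.Agent.S19238
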