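import Groth.Statements.S19239
import Groth.Agent.LangQLib.Field

set_option autoImplicit false
universe u v
open SigmaLin

namespace Groth.Agent.S19239

/-- Let k be an algebraically closed field of characteristic p > 0, V a finite-dimensional k-vector
space and T : V → V an additive map with T (c • v) = σ(c) • T v for σ the inverse of the p-th power
map of k. Then v ↦ v − T v is surjective on V, and the intersection over n of the k-spans of the
images of the iterates of T admits a k-basis consisting of vectors fixed by T. (A special case of
the statement for a surjective field endomorphism satisfying two solvability conditions.) -/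
theorem result
    (p : ℕ) [Fact p.Prime] (k : Type u) [Field k] [CharP k p] [IsAlgClosed k]
    (V : Type v) [AddCommGroup V] [Module k V] [FiniteDimensional k V]
    (T : V →ₛₗ[(frobeniusEquiv k p).symm.toRingHom] V) :
    Function.Surjective (fun v : V => v - T v) ∧
    ∃ b : Module.Basis (Fin (Module.finrank k ↥(⨅ n : ℕ, Submodule.span k (Set.range ((⇑T)^[n]))))) k ↥(⨅ n : ℕ, Submodule.span k (Set.range ((⇑T)^[n]))),
      ∀ i, T (b i : V) = (b i : V) := by
  have hσ : ∀ a : k, (frobeniusEquiv k p).symm a ^ p ^ 1 = a := fun a => by
    rw [pow_one]; exact frobeniusEquiv_symm_pow_p k p a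
  obtain ⟨h1, -, h3⟩ := LangQLib.main (σ := fun a => (frobeniusEquiv k p).symm a) p le_rfl (Or.inr hσ)
    T.toAddMonoidHom (fun a v => T.map_smulₛₗ a v)
  refine ⟨fun y => ?_, ?_⟩
  · obtain ⟨m, hm⟩ := h1 (-y)
    refine ⟨m, ?_⟩
    show m - T m = y
    rw [← neg_inj, neg_sub]
    exact hm
  · set S := ⨅ n : ℕ, Submodule.span k (Set.range ((⇑T)^[n]))
    set F := Submodule.span k {m : V | T m = m}
    have hFS : S = F := by
      refine le_antisymm ?_ (le_iInf fun n => Submodule.span_le.2 fun m hm =>
        Submodule.subset_span ⟨m, Function.iterate_fixed hm n⟩)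
      obtain ⟨W, N, hWN, hWsub, -⟩ := LangQLib.exists_stable (σ := fun a => (frobeniusEquiv k p).symm a)
        (frobeniusEquiv k p).symm.surjective (fun a ha => by simpa using ha) T.toAddMonoidHom
        (fun a v => T.map_smulₛₗ a v)
      have hWF : (W : Set V) ⊆ F := fun x hx => by
        show x ∈ (F : Set V)
        have h3' : (F : Set V) = ⋂ n : ℕ, Set.range ((T.toAddMonoidHom : V → V)^[n]) := h3
        rw [h3']
        exact Set.mem_iInter.2 fun n => hWsub n hx
      refine (iInf_le _ N).trans (Submodule.span_le.2 fun x hx => hWF ?_)
      rw [hWN N le_rfl]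
      exact hx
    obtain ⟨b, hb, hspan, hli⟩ := exists_linearIndependent k {m : V | T m = m}
    have hbF : ∀ i : b, (i : V) ∈ S := fun i => hFS ▸ Submodule.subset_span (hb i.2)
    have hli' : LinearIndependent k (fun i : b => (⟨i, hbF i⟩ : S)) := LinearIndependent.of_comp S.subtype hli
    let B : Module.Basis b k S := Module.Basis.mk hli' (fun x _ => by
      have hx : (x : V) ∈ Submodule.span k b := by rw [hspan]; exact hFS.le x.2
      rw [← Submodule.apply_mem_span_image_iff_mem_span (f := S.subtype) S.injective_subtype, ← Set.range_comp,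
        show (S.subtype ∘ fun i : b => (⟨i, hbF i⟩ : S)) = fun i : b => (i : V) from rfl, Subtype.range_coe]
      exact hx)
    let e := B.indexEquiv (Module.finBasis k S)
    refine ⟨B.reindex e, fun i => ?_⟩
    rw [Module.Basis.reindex_apply, Module.Basis.mk_apply]
    exact hb (e.symm i).2

end Groth.Agent.S19239
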