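import Groth.Statements.S1924
import Mathlib
import Groth.Agent.CycC1Lib.Zero
import Groth.Agent.CycC1Lib.Push
import Groth.Agent.CycPushLib.Vanish
import Groth.Agent.AmpleDevLib.Pull
-- import your own Groth.Agent.* helpers here

set_option autoImplicit false
universe u
open CategoryTheory AlgebraicGeometry
open Cyc

namespace Groth.Agent.S1924

/-- Let L be invertible on X, ι : Y → X a closed immersion with δ ≤ k + 1 on Y, and s a global section
of L|_Y = ι^*L such that the points of its zero locus have δ ≤ k and, at every such point ξ with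
δ(ξ) = k, multiplication by the germ of s is injective on O_{Y,ξ}. Then c_1(L) ∩ [Y]_{k+1} ∼_rat
ι_*[Z(s)]_k as k-cycles on X (for any nonzero rational sections used to compute the left side and
any cycle on Y with the coefficients of [Z(s)]_k). Here L(ξ) = L_ξ/𝔪_ξ L_ξ is the space of rational
sections of L on the closure of ξ, div_{L|W}(s) and c_1(L) ∩ α are computed as coefficient functions
from chosen nonzero rational sections (Cyc.secDivFun, Cyc.c1CapFun), and results are compared up to
rational equivalence for any cycles with those coefficients. A pair (X, δ) with Cyc.IsSetup plays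
the role of a scheme locally of finite type over a fixed base with a dimension function (X locally
Noetherian with universally catenary local rings, δ a dimension function), and Cyc.DeltaCompat
records that the dimension function upstairs is the induced one. -/
theorem result (X Y : Scheme.{u}) (δ : X → ℤ) (hX : Cyc.IsSetup X δ) (L : X.Modules) (hL : PicF.IsInvertible L) (ι : Y ⟶ X) [IsClosedImmersion ι] (k : ℤ) (hY : ∀ y : Y, δ (ι y) ≤ k + 1) (s : ((Scheme.Modules.pullback ι).obj L).presheaf.obj (Opposite.op ⊤)) (hZ : ∀ y : Y, (((Scheme.Modules.pullback ι).obj L).presheaf.germ ⊤ y trivial) s ∈ IsLocalRing.maximalIdeal (Y.presheaf.stalk y) • (⊤ : Submodule (Y.presheaf.stalk y) (((Scheme.Modules.pullback ι).obj L).presheaf.stalk y)) → δ (ι y) ≤ k) (hreg : ∀ y : Y, δ (ι y) = k → Function.Injective (fun a : Y.presheaf.stalk y => a • (((Scheme.Modules.pullback ι).obj L).presheaf.germ ⊤ y trivial) s)) (v : (ξ : X) → Cyc.secFibre L ξ) (hv : ∀ ξ, v ξ ≠ 0) (γ : AlgebraicCycle X ℤ) (hγ : ⇑γ = Cyc.c1CapFun δ L (Cyc.subschemeFun δ (k + 1) ι) v) (ζ : AlgebraicCycle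 Y ℤ) (hζ : ⇑ζ = Cyc.zeroSectionFun (fun y => δ (ι y)) k ((Scheme.Modules.pullback ι).obj L) s) : Cyc.RatEquiv δ k γ (AlgebraicCycle.map ι (fun y => δ (ι y)) δ ζ) := by
      classical
      haveI := hX.1
      obtain ⟨hsY, hcompat⟩ := CycPushLib.setup_of_closedImmersion ι hX
      haveI := hsY.1
      let δY : Y → ℤ := fun y => δ (ι y)
      let M := (Scheme.Modules.pullback ι).obj L
      have hM : PicF.IsInvertible M := AmpleDevLib.isInvertible_pb ι hL
      have hid : ∀ y, Cyc.subschemeFun δY (k + 1) (𝟙 Y) y =
          if δY y = k + 1 then ((Module.length (Y.presheaf.stalk y) (Y.presheaf.stalk y)).toNat : ℤ) else 0 := by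
        intro y
        simp only [Cyc.subschemeFun]
        refine if_congr Iff.rfl ?_ rfl
        exact finsum_cond_eq_left (f := fun z : Y => ((Module.length (Y.presheaf.stalk z) (Y.presheaf.stalk z)).toNat : ℤ))
      -- the fundamental cycle of Y
      let α : AlgebraicCycle Y ℤ :=
        { toFun := Cyc.subschemeFun δY (k + 1) (𝟙 Y)
          supportWithinDomain' := by simp
          supportLocallyFiniteWithinDomain' := fun y _ => by
            obtain ⟨V, hV, hyV, -⟩ := exists_isAffineOpen_mem_and_subset (X := Y) (x := y) (U := ⊤) trivial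
            haveI : IsNoetherianRing Γ(Y, V) := IsLocallyNoetherian.component_noetherian ⟨V, hV⟩
            refine ⟨V, V.isOpen.mem_nhds hyV, ((minimalPrimes.finite_of_isNoetherianRing Γ(Y, V)).preimage
              (f := PrimeSpectrum.asIdeal) (fun a _ b _ h => PrimeSpectrum.ext h) |>.image hV.fromSpec).subset ?_⟩
            rintro z ⟨hzV, hz⟩
            rw [Function.mem_support, hid] at hz
            split_ifs at hz with hd
            swap
            · exact absurd rfl hz
            refine ⟨hV.primeIdealOf ⟨z, hzV⟩, ⟨⟨(hV.primeIdealOf ⟨z, hzV⟩).2, bot_le⟩, fun Q hQ hle => ?_⟩,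
              hV.fromSpec_primeIdealOf ⟨z, hzV⟩⟩
            let q : PrimeSpectrum Γ(Y, V) := ⟨Q, hQ.1⟩
            have hs : hV.fromSpec q ⤳ z := by
              have h := ((PrimeSpectrum.le_iff_specializes q (hV.primeIdealOf ⟨z, hzV⟩)).mp hle).map hV.fromSpec.continuous
              rwa [hV.fromSpec_primeIdealOf ⟨z, hzV⟩] at h
            have heq : hV.fromSpec q = z := by
              by_contra hne
              have h1 := (hsY.2.2 _ z hs hne).1
              have h2 := hY (hV.fromSpec q)
              change δ (ι z) = k + 1 at hd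
              change δ (ι z) < δ (ι (hV.fromSpec q)) at h1
              omega
            have hqe : q = hV.primeIdealOf ⟨z, hzV⟩ := hV.fromSpec.isOpenEmbedding.injective
              (heq.trans (hV.fromSpec_primeIdealOf ⟨z, hzV⟩).symm)
            exact (congrArg PrimeSpectrum.asIdeal hqe).ge }
      have hα : α ∈ Cyc.Zk Y δY (k + 1) := fun y hy => (hid y).trans (if_neg hy)
      have hsec : ∀ y, δY y = k + 1 → CycC1Lib.fib M (M.presheaf.germ ⊤ y trivial s) ≠ 0 := by
        intro y hy h
        have h1 := hZ y ((Submodule.Quotient.mk_eq_zero _).1 h)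
        change δ (ι y) = k + 1 at hy
        omega
      have hex : ∀ y, ∃ w : Cyc.secFibre M y, w ≠ 0 := by
        intro y
        obtain ⟨U, e, hyU, he⟩ := TwistLib.exists_genOn hM y
        refine ⟨CycC1Lib.fib M (M.presheaf.germ U y hyU e), fun h => ?_⟩
        have h1 := (CycC1Lib.fib_smul_eq_zero_iff (he.genAt hyU) 1).1 (by rw [one_smul]; exact h)
        rw [map_one] at h1
        exact one_ne_zero h1
      choose w hw using hex
      let u := Cyc.gysinChoice M s w
      have hu : ∀ y, u y ≠ 0 := fun y => by
        show Cyc.gysinChoice M s w y ≠ 0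
        unfold Cyc.gysinChoice
        split_ifs with h
        · exact h
        · exact hw y
      have hζ' : ⇑ζ = Cyc.c1CapFun δY M ⇑α u := by
        rw [hζ, CycC1Lib.zeroSectionFun_eq_c1Cap hsY hM k hY s hZ hreg]
        funext y
        refine finsum_congr fun z => ?_
        by_cases hz : δY z = k + 1
        · refine congrArg (fun t => α z * Cyc.secDivFun δY M z t y) ?_
          show _ = Cyc.gysinChoice M s w z
          unfold Cyc.gysinChoice
          rw [if_pos (hsec z hz)]
        · rw [show Cyc.subschemeFun δY (k + 1) (𝟙 Y) z = 0 from hα z hz, show (⇑α : Y → ℤ) z = 0 from hα z hz,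
            zero_mul, zero_mul]
      have hmap : ⇑(AlgebraicCycle.map ι δY δ α) = Cyc.subschemeFun δ (k + 1) ι := by
        funext x
        show ∑ᶠ y ∈ ι ⁻¹' {x}, α y * ((AlgebraicCycle.mapCoeff ι δY δ y : ℕ) : ℤ) = _
        simp only [Cyc.subschemeFun]
        split_ifs with hx
        · refine finsum_mem_congr rfl fun y hy => ?_
          rw [AlgebraicCycle.mapCoeff, if_pos rfl, CycPushLib.residueDegree_eq_one_of_preimmersion, Nat.cast_one,
            mul_one]
          refine (hid y).trans (if_pos ?_)
          show δ (ι y) = k + 1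
          rw [show ι y = x from hy, hx]
        · refine finsum_mem_eq_zero_of_forall_eq_zero fun y hy => ?_
          rw [show (⇑α : Y → ℤ) y = 0 from hα y (by show δ (ι y) ≠ k + 1; rw [show ι y = x from hy]; exact hx), zero_mul]
      have hp := CycC1Lib.ratEquiv_push_c1Cap hsY hX ι hcompat hL hM α hα hu hv ζ hζ' γ (by rw [hγ, hmap])
      have : Cyc.RatEquiv δ k γ (AlgebraicCycle.map ι δY δ ζ) := by
        obtain ⟨I, ξ, g, h1, h2, h3, h4⟩ := hp
        refine ⟨I, ξ, fun i => (g i)⁻¹, h1, fun i => inv_ne_zero (h2 i), h3, fun x => ?_⟩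
        have h5 := h4 x
        simp only [CycC1Lib.divFun_inv hX (h2 _), finsum_neg_distrib, ← h5]
        show γ x - _ = -(_ - γ x)
        ring
      exact this

end Groth.Agent.S1924
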