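import Groth.Statements.S19244
import Mathlib

set_option autoImplicit false
universe v v' u u'
open HomAlg3

namespace Groth.Agent.S19244

open CategoryTheory in
/-- Let A be an abelian category and let P be the class of bounded-torsion objects of A, those X with n
• 𝟙_X = 0 for some nonzero integer n; assume P is a Serre class. Let L : A ⥤ D be an additive
functor to a preadditive category exhibiting D as the localization of A at the morphisms whose
kernel and cokernel are in P (so D is the quotient category A_ℚ = A ⧸ A_{b-tor}; the source assumes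
A well-powered, which guarantees that this quotient exists). Then for all objects X, Y of A: (1) for
every nonzero integer n, multiplication by n is bijective on Hom_D(L X, L Y), so that this group is
naturally a ℚ-vector space; (2) a morphism f : X ⟶ Y satisfies L f = 0 if and only if n • f = 0 for
some nonzero integer n; (3) for every g : L X ⟶ L Y there are a nonzero integer n and f : X ⟶ Y with
n • g = L f. Equivalently, the natural map Hom_A(X, Y) ⊗_ℤ ℚ → Hom_D(L X, L Y) is an isomorphism. -/
theorem result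
    {A : Type u} [Category.{v} A] [Abelian A] {D : Type u'} [Category.{v'} D] [Preadditive D]
    (P : ObjectProperty A) (hP : ∀ X : A, P X ↔ ∃ n : ℤ, n ≠ 0 ∧ n • (𝟙 X) = 0) [P.IsSerreClass]
    (L : A ⥤ D) [L.Additive] [L.IsLocalization P.isoModSerre] (X Y : A) :
    (∀ n : ℤ, n ≠ 0 → Function.Bijective (fun g : L.obj X ⟶ L.obj Y => n • g)) ∧
    (∀ f : X ⟶ Y, L.map f = 0 ↔ ∃ n : ℤ, n ≠ 0 ∧ n • f = 0) ∧
    (∀ g : L.obj X ⟶ L.obj Y, ∃ (n : ℤ) (f : X ⟶ Y), n ≠ 0 ∧ n • g = L.map f) := by
  have hzero : ∀ {X Y : A} (f : X ⟶ Y), L.map f = 0 ↔ ∃ n : ℤ, n ≠ 0 ∧ n • f = 0 := by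
    intro X Y f
    rw [ObjectProperty.SerreClassLocalization.map_eq_zero_iff L P, hP]
    refine exists_congr fun n => and_congr_right fun _ => ?_
    constructor
    · intro h
      rw [← Abelian.image.fac f, ← Category.id_comp (Abelian.image.ι f), ← Category.assoc,
        ← Linear.smul_comp, ← Linear.comp_smul, h, Limits.comp_zero, Limits.zero_comp]
    · intro h
      rw [← cancel_epi (Abelian.factorThruImage f), ← cancel_mono (Abelian.image.ι f),
        Linear.comp_smul, Category.comp_id, Linear.smul_comp, Abelian.image.fac, h, Limits.comp_zero, Limits.zero_comp]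
  have hiso : ∀ (X : A) (n : ℤ), n ≠ 0 → IsIso (n • 𝟙 (L.obj X)) := by
    intro X n hn
    have hs : P.isoModSerre (n • 𝟙 X) := by
      refine ⟨(hP _).2 ⟨n, hn, ?_⟩, (hP _).2 ⟨n, hn, ?_⟩⟩
      · rw [← cancel_mono (Limits.kernel.ι (n • 𝟙 X)), Linear.smul_comp, Category.id_comp, Limits.zero_comp]
        have := Limits.kernel.condition (n • 𝟙 X)
        rwa [Linear.comp_smul, Category.comp_id] at this
      · rw [← cancel_epi (Limits.cokernel.π (n • 𝟙 X)), Linear.comp_smul, Category.comp_id, Limits.comp_zero]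
        have := Limits.cokernel.condition (n • 𝟙 X)
        rwa [Linear.smul_comp, Category.id_comp] at this
    have := Localization.inverts L P.isoModSerre _ hs
    rwa [L.map_zsmul, L.map_id] at this
  refine ⟨fun n hn => ?_, fun f => hzero f, fun g => ?_⟩
  · haveI := hiso Y n hn
    have : (fun g : L.obj X ⟶ L.obj Y => n • g) = fun g => g ≫ (n • 𝟙 (L.obj Y)) := by
      funext g; rw [Preadditive.comp_zsmul, Category.comp_id]
    rw [this]
    exact (Iso.homToEquiv (asIso (n • 𝟙 (L.obj Y))) (Z := L.obj X)).bijective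
  · obtain ⟨φ, hφ⟩ := Localization.exists_rightFraction L P.isoModSerre g
    obtain ⟨hk, hc⟩ := φ.hs
    obtain ⟨a, ha, hak⟩ := (hP _).1 hk
    obtain ⟨b, hb, hbc⟩ := (hP _).1 hc
    let π := Abelian.factorThruImage φ.s
    let ι := Abelian.image.ι φ.s
    have e : π ≫ ι = φ.s := Abelian.image.fac φ.s
    obtain ⟨v, hv⟩ : ∃ v, π ≫ v = a • 𝟙 φ.X' := by
      have hkπ : Limits.kernel.ι π ≫ φ.s = 0 := by
        calc Limits.kernel.ι π ≫ φ.s = Limits.kernel.ι π ≫ π ≫ ι := by rw [e]
          _ = 0 := by rw [← Category.assoc, Limits.kernel.condition, Limits.zero_comp]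
      refine ⟨Abelian.epiDesc π (a • 𝟙 φ.X') ?_, Abelian.comp_epiDesc _ _ _⟩
      rw [Linear.comp_smul, Category.comp_id, ← Limits.kernel.lift_ι φ.s (Limits.kernel.ι π) hkπ,
        ← Category.id_comp (Limits.kernel.ι φ.s), ← Linear.comp_smul, ← Linear.smul_comp, hak, Limits.zero_comp, Limits.comp_zero]
    obtain ⟨u, hu⟩ : ∃ u, u ≫ ι = b • 𝟙 X := by
      refine ⟨Limits.kernel.lift (Limits.cokernel.π φ.s) (b • 𝟙 X) ?_, Limits.kernel.lift_ι _ _ _⟩
      rw [Linear.smul_comp, Category.id_comp, ← Category.comp_id (Limits.cokernel.π φ.s), ← Linear.comp_smul, hbc, Limits.comp_zero]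
    have hvπ : v ≫ π = a • 𝟙 _ := by
      rw [← cancel_epi π, ← Category.assoc, hv, Linear.smul_comp, Category.id_comp, Linear.comp_smul, Category.comp_id]
    refine ⟨a * b, (u ≫ v) ≫ φ.f, mul_ne_zero ha hb, ?_⟩
    have hr : (u ≫ v) ≫ φ.s = (a * b) • 𝟙 X := by
      calc (u ≫ v) ≫ φ.s = (u ≫ v) ≫ π ≫ ι := by rw [e]
        _ = _ := ?_
      rw [Category.assoc, ← Category.assoc v, hvπ, Linear.smul_comp, Category.id_comp, Linear.comp_smul, hu, smul_smul]
    have hgs : L.map φ.s ≫ g = L.map φ.f := by
      rw [hφ, MorphismProperty.RightFraction.map_s_comp_map]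
    rw [L.map_comp (u ≫ v), ← hgs, ← Category.assoc, ← L.map_comp, hr, L.map_zsmul, L.map_id,
      Preadditive.zsmul_comp, Category.id_comp]

end Groth.Agent.S19244
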