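import Groth.Statements.S19258
import Mathlib


-- import your own Groth.Agent.* helpers here

set_option autoImplicit false
universe u
open PontDual

namespace Groth.Agent.S19258

/-- Let G and G' be abelian groups such that every element of G' has finite order, and let β : G' →
Hom(G, ℚ/ℤ) be an injective homomorphism (equivalently a pairing G' × G → ℚ/ℤ with no left kernel).
Endow G with the weak topology defined by G': the coarsest topology for which every character β(f),
f ∈ G', is continuous when ℚ/ℤ carries the discrete topology. Then every homomorphism χ : G → ℚ/ℤ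
that is continuous for this topology on G and the discrete topology on ℚ/ℤ equals β(f) for some f ∈
G', so that β is a bijection from G' onto the group of continuous characters of G. -/
theorem result
    (G : Type u) (G' : Type u) [AddCommGroup G] [AddCommGroup G'] (hG' : IsAddTorsion G')
    (β : G' →+ (G →+ AddCircle (1 : ℚ))) (hβ : Function.Injective β)
    (χ : G →+ AddCircle (1 : ℚ))
    (hχ : @Continuous G (AddCircle (1 : ℚ)) (⨅ f' : G', TopologicalSpace.induced (fun x : G => β f' x) ⊥) ⊥ χ) :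
    ∃ f' : G', β f' = χ := by
  classical
  have hT : ∀ (n : ℕ), 0 < n → ∀ y : AddCircle (1 : ℚ), n • y = 0 → y ∈ AddSubgroup.zmultiples (((1 / n : ℚ)) : AddCircle (1 : ℚ)) := by
    intro n hn y hy
    induction y using QuotientAddGroup.induction_on with
    | H q =>
      rw [← AddCircle.coe_nsmul, AddCircle.coe_eq_zero_iff] at hy
      obtain ⟨m, hm⟩ := hy
      refine ⟨m, ?_⟩
      simp only [zsmul_eq_mul, nsmul_eq_mul, mul_one] at hm
      change m • _ = _
      rw [← AddCircle.coe_zsmul, zsmul_eq_mul, hm]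
      congr 1
      field_simp
  have hcore : ∀ (s : Finset G') (K : AddSubgroup G) (χ : G →+ AddCircle (1 : ℚ)),
      (∀ x ∈ K, (∀ f ∈ s, β f x = 0) → χ x = 0) → ∃ g : G', ∀ x ∈ K, χ x = β g x := by
    intro s
    induction s using Finset.induction_on with
    | empty => exact fun K χ h => ⟨0, fun x hx => by rw [map_zero, AddMonoidHom.zero_apply]; exact h x hx (by simp)⟩
    | insert f s hf ih =>
      intro K χ h
      obtain ⟨g, hg⟩ := ih (K ⊓ (β f).ker) χ fun x hx hs => h x hx.1 (by
        intro f' hf'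
        rcases Finset.mem_insert.1 hf' with rfl | h'
        · exact hx.2
        · exact hs f' h')
      set χ' := χ - β g
      have hχ' : ∀ x ∈ K, β f x = 0 → χ' x = 0 := fun x hx h0 => sub_eq_zero.2 (hg x ⟨hx, h0⟩)
      set n := addOrderOf f
      have hn : 0 < n := (hG' f).addOrderOf_pos
      have hker : ∀ x, β f x ∈ AddSubgroup.zmultiples (((1 / n : ℚ)) : AddCircle (1 : ℚ)) := fun x => hT n hn _ (by
        rw [← AddMonoidHom.nsmul_apply, ← map_nsmul, addOrderOf_nsmul_eq_zero, map_zero, AddMonoidHom.zero_apply])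
      let H : AddSubgroup (AddSubgroup.zmultiples (((1 / n : ℚ)) : AddCircle (1 : ℚ))) :=
        ((β f).comp K.subtype |>.codRestrict _ fun x => hker x.1).range
      obtain ⟨⟨a, ha⟩, hgen⟩ := (AddSubgroup.isAddCyclic H).exists_zsmul_surjective
      obtain ⟨x₀, hx₀⟩ := ha
      set av : AddCircle (1 : ℚ) := β f x₀.1 with hav
      have hcov : ∀ x ∈ K, ∃ m : ℤ, β f x = m • av := by
        intro x hx
        obtain ⟨m, hm⟩ := hgen ⟨_, ⟨⟨x, hx⟩, rfl⟩⟩
        refine ⟨m, ?_⟩
        have := congrArg (fun z => ((z.1 : AddSubgroup.zmultiples (((1 / n : ℚ)) : AddCircle (1 : ℚ))) : AddCircle (1 : ℚ))) hm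
        simp only [← hx₀] at this
        exact this.symm
      have hfin : IsOfFinAddOrder av := isOfFinAddOrder_iff_nsmul_eq_zero.2 ⟨n, hn, by
        rw [hav, ← AddMonoidHom.nsmul_apply, ← map_nsmul, addOrderOf_nsmul_eq_zero, map_zero, AddMonoidHom.zero_apply]⟩
      set n0 := addOrderOf av
      have hn0 : 0 < n0 := hfin.addOrderOf_pos
      have hb : n0 • χ' x₀.1 = 0 := by
        rw [← map_nsmul]
        exact hχ' _ (K.nsmul_mem x₀.2 _) (by rw [map_nsmul]; exact addOrderOf_nsmul_eq_zero av)
      have heq : AddSubgroup.zmultiples av = AddSubgroup.zmultiples (((1 / n0 : ℚ)) : AddCircle (1 : ℚ)) := by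
        have h1 : addOrderOf (((1 / n0 : ℚ)) : AddCircle (1 : ℚ)) = n0 := AddCircle.addOrderOf_period_div hn0
        have : Finite (AddSubgroup.zmultiples (((1 / n0 : ℚ)) : AddCircle (1 : ℚ))) :=
          Nat.finite_of_card_ne_zero (by rw [Nat.card_zmultiples, h1]; omega)
        refine AddSubgroup.eq_of_le_of_card_ge (AddSubgroup.zmultiples_le.2 (hT n0 hn0 av (addOrderOf_nsmul_eq_zero av))) ?_
        rw [Nat.card_zmultiples, Nat.card_zmultiples, h1]
      obtain ⟨c, hc⟩ : χ' x₀.1 ∈ AddSubgroup.zmultiples av := heq ▸ hT n0 hn0 _ hb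
      refine ⟨g + c • f, fun x hx => ?_⟩
      obtain ⟨m, hm⟩ := hcov x hx
      have h0 : χ' (x - m • x₀.1) = 0 := hχ' _ (K.sub_mem hx (K.zsmul_mem x₀.2 _)) (by rw [map_sub, map_zsmul, hm, hav, sub_self])
      rw [map_sub, map_zsmul, sub_eq_zero] at h0
      have hc' : χ' x₀.1 = c • av := hc.symm
      rw [map_add, map_zsmul, AddMonoidHom.add_apply, AddMonoidHom.zsmul_apply, hm, smul_comm, ← hc', ← h0]
      simp [χ']
  letI : TopologicalSpace (AddCircle (1 : ℚ)) := ⊥
  letI : TopologicalSpace G := ⨅ f' : G', TopologicalSpace.induced (fun x : G => β f' x) ⊥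
  haveI : DiscreteTopology (AddCircle (1 : ℚ)) := ⟨rfl⟩
  have hopen : @IsOpen G (⨅ f' : G', TopologicalSpace.induced (fun x : G => β f' x) ⊥) (χ ⁻¹' {0}) :=
    hχ.isOpen_preimage _ (isOpen_discrete _)
  have hmem : χ ⁻¹' {0} ∈ @nhds G (⨅ f' : G', TopologicalSpace.induced (fun x : G => β f' x) ⊥) 0 :=
    @IsOpen.mem_nhds G (⨅ f' : G', TopologicalSpace.induced (fun x : G => β f' x) ⊥) _ _ hopen (by simp)
  rw [nhds_iInf, Filter.mem_iInf] at hmem
  obtain ⟨I, hI, V, hV, hVeq⟩ := hmem
  obtain ⟨g, hg⟩ := hcore hI.toFinset ⊤ χ (by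
    intro x _ hx
    have : x ∈ χ ⁻¹' {0} := by
      rw [hVeq, Set.mem_iInter]
      intro i
      have hi := hV i
      rw [nhds_induced, Filter.mem_comap] at hi
      obtain ⟨W, hW, hsub⟩ := hi
      refine hsub ?_
      rw [Set.mem_preimage, hx i (hI.mem_toFinset.2 i.2), ← map_zero (β i.1)]
      exact mem_of_mem_nhds hW
    exact this)
  exact ⟨g, AddMonoidHom.ext fun x => (hg x trivial).symm⟩

end Groth.Agent.S19258
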