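import Groth.Statements.S19264
import Groth.Agent.WittFilLib.Gr
import Mathlib.RingTheory.Polynomial.RationalRoot
import Mathlib.RingTheory.PowerSeries.NoZeroDivisors
-- import your own Groth.Agent.* helpers here

set_option autoImplicit false
universe u
open WittFil

namespace Groth.Agent.S19264

/-- Let A be a unique factorisation domain of characteristic p, x_1, …, x_r pairwise non-associate prime
elements of A, B = A[1/(x_1⋯x_r)] with u_i the unit of B defined by x_i, n ∈ ℤ^r and m ≥ 0. The
restriction map from truncated p-typical Witt vectors of length m+1 to those of length m over B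
(forgetting the last coordinate) maps the filtered piece cut out by ∏ u_i ^ n_i onto the filtered
piece cut out by ∏ u_i ^ ⌊n_i / p⌋; that is, the image is exactly that piece. (The other parts of
the exact sequence, injectivity of the (m-fold) Verschiebung from the fractional ideal generated by
(∏ u_i ^ n_i)⁻¹ and exactness in the middle, are immediate from the definition and are not restated.
The published setting is a regular local ring; only unique factorisation is used.) -/
theorem result (p : ℕ) [Fact p.Prime] {A B : Type u} [CommRing A] [IsDomain A]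
    [UniqueFactorizationMonoid A] [CharP A p] [CommRing B] [Algebra A B] {r : ℕ} (x : Fin r → A)
    (hx : ∀ i, Prime (x i)) (hxa : ∀ i j, Associated (x i) (x j) → i = j)
    [IsLocalization.Away (∏ i, x i) B] (u : Fin r → Bˣ)
    (hu : ∀ i, (u i : B) = algebraMap A B (x i)) (n : Fin r → ℤ) (m : ℕ) :
    (TruncatedWittVector.truncate (Nat.le_succ m)) '' WittFil.fil p (m + 1) (A := A) (WittFil.zmon u n) =
      WittFil.fil p m (A := A) (WittFil.zmon u (fun i => n i / (p : ℤ))) := by
  have hπ : (∏ i, x i) ≠ 0 := Finset.prod_ne_zero_iff.2 fun i _ => (hx i).ne_zero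
  have hinj := WittFilLib.algebraMap_injective_away (B := B) _ hπ
  obtain ⟨φ, hφ⟩ := WittFilLib.exists_embedding (B := B) _ hπ
  have hcl := WittFilLib.closed_of_isIntegrallyClosed φ hφ
  have hp : 0 < p := (Fact.out : p.Prime).pos
  ext y
  constructor
  · rintro ⟨z, hz, rfl⟩ j
    rw [TruncatedWittVector.coeff_truncate]
    refine WittFilLib.mul_zmon_div_mem hinj hcl x hx hxa u hu hp ?_
    have := hz (Fin.castLE (Nat.le_succ m) j)
    rw [← pow_mul, ← pow_succ]
    have e : m - 1 - (j : ℕ) + 1 = m + 1 - 1 - ((Fin.castLE (Nat.le_succ m) j : Fin (m + 1)) : ℕ) := by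
      have := j.2
      simp only [Fin.val_castLE]
      omega
    rw [e]
    exact this
  · intro hy
    refine ⟨TruncatedWittVector.mk p (fun i => if h : (i : ℕ) < m then y.coeff ⟨i, h⟩ else 0), fun j => ?_, ?_⟩
    · rw [TruncatedWittVector.coeff_mk]
      split_ifs with h
      · obtain ⟨a, ha⟩ := hy ⟨j, h⟩
        obtain ⟨e, he⟩ : ∃ e : A, WittFil.zmon u (fun i => n i - n i / (p : ℤ) * (p : ℤ)) = algebraMap A B e :=
          ⟨_, WittFilLib.zmon_nonneg u x hu _ (fun i => by
            have := Int.ediv_mul_le (n i) (b := (p : ℤ)) (by omega); omega)⟩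
        refine ⟨a ^ p * e, ?_⟩
        rw [map_mul, map_pow, ha, ← he, mul_pow, ← pow_mul, ← pow_succ, WittFilLib.zmon_pow, mul_assoc,
          ← WittFilLib.zmon_add, show (m - 1 - (j : ℕ) + 1) = m + 1 - 1 - (j : ℕ) by omega]
        congr 2
        funext i
        simp
      · rw [zero_pow (pow_ne_zero _ hp.ne'), zero_mul]
        exact zero_mem _
    · ext j
      rw [TruncatedWittVector.coeff_truncate, TruncatedWittVector.coeff_mk, dif_pos (by simp)]
      rfl

end Groth.Agent.S19264
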