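import Groth.Statements.S19266
import Groth.Agent.WittFilLib.Gr
import Mathlib.RingTheory.Polynomial.RationalRoot
import Mathlib.RingTheory.PowerSeries.NoZeroDivisors
-- import your own Groth.Agent.* helpers here

set_option autoImplicit false
universe u
open WittFil

namespace Groth.Agent.S19266

/-- Let A be a unique factorisation domain of characteristic p, x_1, …, x_r pairwise non-associate prime
elements of A, B = A[1/(x_1⋯x_r)] with u_i the unit of B defined by x_i, n ∈ ℤ^r, m ≥ 0 and c = ∏
u_i ^ n_i. A truncated p-typical Witt vector a of length m over B lies in the filtered piece cut out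
by c ^ (p ^ (m-1)) if and only if all coordinates of the product a · [c] lie in A, where [c] denotes
the (truncated) Teichmüller representative of c; in other words that filtered piece is the
invertible module [c]⁻¹ · W_m(A). (Published for a regular local ring; only unique factorisation is
used.) -/
theorem result (p : ℕ) [Fact p.Prime] {A B : Type u} [CommRing A] [IsDomain A]
    [UniqueFactorizationMonoid A] [CharP A p] [CommRing B] [Algebra A B] {r : ℕ} (x : Fin r → A)
    (hx : ∀ i, Prime (x i)) (hxa : ∀ i j, Associated (x i) (x j) → i = j)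
    [IsLocalization.Away (∏ i, x i) B] (u : Fin r → Bˣ)
    (hu : ∀ i, (u i : B) = algebraMap A B (x i)) (n : Fin r → ℤ) (m : ℕ)
    (a : TruncatedWittVector p m B) :
    a ∈ WittFil.fil p m (A := A) ((WittFil.zmon u n) ^ (p ^ (m - 1))) ↔
      ∀ j : Fin m, TruncatedWittVector.coeff j
          (a * WittVector.truncate m (WittVector.teichmuller p (WittFil.zmon u n))) ∈
        (algebraMap A B).range := by
  have hπ : (∏ i, x i) ≠ 0 := Finset.prod_ne_zero_iff.2 fun i _ => (hx i).ne_zero
  have hinj := WittFilLib.algebraMap_injective_away (B := B) _ hπ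
  obtain ⟨φ, hφ⟩ := WittFilLib.exists_embedding (B := B) _ hπ
  have hcl := WittFilLib.closed_of_isIntegrallyClosed φ hφ
  have hp : 0 < p := (Fact.out : p.Prime).pos
  have e : ∀ j : Fin m, TruncatedWittVector.coeff j
      (a * WittVector.truncate m (WittVector.teichmuller p (WittFil.zmon u n))) =
      WittFil.zmon u n ^ p ^ (j : ℕ) * a.coeff j := by
    intro j
    conv_lhs => rw [show a = WittVector.truncate m a.out from (TruncatedWittVector.truncateFun_out a).symm]
    rw [mul_comm, ← map_mul, WittVector.coeff_truncate, WittFilLib.teichmuller_mul_coeff,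
      TruncatedWittVector.coeff_out]
  have key : ∀ j : Fin m, (WittFil.zmon u n ^ p ^ (j : ℕ) * a.coeff j) ^ p ^ (m - 1 - (j : ℕ)) =
      a.coeff j ^ p ^ (m - 1 - (j : ℕ)) * WittFil.zmon u n ^ p ^ (m - 1) := by
    intro j
    rw [mul_pow, ← pow_mul, ← pow_add, show (j : ℕ) + (m - 1 - (j : ℕ)) = m - 1 by omega, mul_comm]
  constructor
  · intro h j
    rw [e]
    refine WittFilLib.mem_of_pow_mem hcl (pow_pos hp (m - 1 - (j : ℕ))) ?_
    rw [key]
    exact h j
  · intro h j
    rw [← key, ← e]
    exact Subsemiring.pow_mem _ (h j) _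

end Groth.Agent.S19266
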