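import Groth.Statements.S19267
import Groth.Agent.WittFilLib.Gr
import Mathlib.RingTheory.Polynomial.RationalRoot
import Mathlib.RingTheory.PowerSeries.NoZeroDivisors
-- import your own Groth.Agent.* helpers here

set_option autoImplicit false
universe u
open WittFil

namespace Groth.Agent.S19267

/-- Let A → B be a homomorphism of commutative rings, u a unit of B, m ≥ 0 and n, l integers. For an
element c of B call the filtered piece cut out by c the set of truncated p-typical Witt vectors of
length m over B whose j-th coordinate y_j satisfies: y_j ^ (p ^ (m-1-j)) · c lies in the image of A,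
for every j < m. Then the piece cut out by u ^ (n − p^(m−1)·l) is exactly the image of the piece cut
out by u ^ n under multiplication by the truncated Teichmüller representative [u ^ l]. (The
published case is B = S[[π]][1/π] over A = S[[π]] with u = π; the computation is the same in
general.) -/
theorem result (p : ℕ) [Fact p.Prime] {A B : Type u}
    [CommRing A] [CommRing B] [Algebra A B] (m : ℕ) (u : Bˣ) (n l : ℤ) :
    WittFil.fil p m (A := A) ((u ^ (n - (p : ℤ) ^ (m - 1) * l) : Bˣ) : B) =
      (fun a => WittVector.truncate m (WittVector.teichmuller p ((u ^ l : Bˣ) : B)) * a) ''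
        WittFil.fil p m (A := A) ((u ^ n : Bˣ) : B) := by
  have hv : ∀ (k : ℤ) (z : TruncatedWittVector p m B) (j : Fin m), TruncatedWittVector.coeff j
      (WittVector.truncate m (WittVector.teichmuller p ((u ^ k : Bˣ) : B)) * z) ^ p ^ (m - 1 - (j : ℕ)) =
        ((u ^ (k * (p : ℤ) ^ (m - 1)) : Bˣ) : B) * z.coeff j ^ p ^ (m - 1 - (j : ℕ)) := by
    intro k z j
    conv_lhs => rw [show z = WittVector.truncate m z.out from (TruncatedWittVector.truncateFun_out z).symm]
    rw [← map_mul, WittVector.coeff_truncate, WittFilLib.teichmuller_mul_coeff, TruncatedWittVector.coeff_out,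
      mul_pow, ← pow_mul, ← pow_add, show (j : ℕ) + (m - 1 - (j : ℕ)) = m - 1 by omega,
      ← Units.val_pow_eq_pow_val, ← zpow_natCast, ← zpow_mul, Nat.cast_pow]
  ext y
  constructor
  · intro hy
    refine ⟨WittVector.truncate m (WittVector.teichmuller p ((u ^ (-l) : Bˣ) : B)) * y, fun j => ?_, ?_⟩
    · rw [hv, mul_comm (((u ^ (-l * (p : ℤ) ^ (m - 1)) : Bˣ) : B)), mul_assoc, ← Units.val_mul, ← zpow_add,
        show -l * (p : ℤ) ^ (m - 1) + n = n - (p : ℤ) ^ (m - 1) * l by ring]
      exact hy j
    · simp only
      rw [← mul_assoc, ← map_mul, ← map_mul, ← Units.val_mul, ← zpow_add, add_neg_cancel, zpow_zero,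
        Units.val_one, map_one, map_one, one_mul]
  · rintro ⟨z, hz, rfl⟩ j
    rw [hv, mul_comm (((u ^ (l * (p : ℤ) ^ (m - 1)) : Bˣ) : B)), mul_assoc, ← Units.val_mul, ← zpow_add,
      show l * (p : ℤ) ^ (m - 1) + (n - (p : ℤ) ^ (m - 1) * l) = n by ring]
    exact hz j

end Groth.Agent.S19267
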