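import Groth.Statements.S19268
import Groth.Agent.WittFilLib.Gr
import Mathlib.RingTheory.Polynomial.RationalRoot
import Mathlib.RingTheory.PowerSeries.NoZeroDivisors
-- import your own Groth.Agent.* helpers here

set_option autoImplicit false
universe u
open WittFil

namespace Groth.Agent.S19268

/-- Let S be an integral domain of characteristic p, A = S[[π]] the power series ring, B = A[1/π] with u
the unit of B given by π, and let m > s ≥ 0 and i be an integer with s = 0 or p ∤ i; put n = p ^
(m−1−s) · i. For e in B write fil(e) for the set of truncated p-typical Witt vectors of length m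
over B whose j-th coordinate y_j satisfies y_j ^ (p ^ (m−1−j)) · e ∈ A for all j, and for a Witt
vector c over S let Φ(c) ∈ W_m(B) be the length-m truncation of V^s(c · [u ^ i]) (V the
Verschiebung, [ ] the Teichmüller map, c mapped to B). Then Φ induces a bijection from the
length-(m−s) truncated Witt vectors of S onto the graded piece fil(u^(−n)) / fil(u^(−n−1)): (1) Φ(c)
lies in fil(u^(−n)) for every c; (2) Φ(c) lies in fil(u^(−n−1)) exactly when the length-(m−s)
truncation of c is zero; (3) every element of fil(u^(−n)) is congruent to some Φ(c) modulo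
fil(u^(−n−1)). (Published for S a regular local Noetherian F-finite F_p-algebra; the argument uses
only that S is a domain.) -/
theorem result (p : ℕ) [Fact p.Prime] {S B : Type u} [CommRing S]
    [IsDomain S] [CharP S p] [CommRing B] [Algebra (PowerSeries S) B] [Algebra S B]
    [IsScalarTower S (PowerSeries S) B] [IsLocalization.Away (PowerSeries.X : PowerSeries S) B]
    (u : Bˣ) (hu : (u : B) = algebraMap (PowerSeries S) B PowerSeries.X) (m s : ℕ) (hs : s < m)
    (i : ℤ) (hsi : s = 0 ∨ ¬ ((p : ℤ) ∣ i)) :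
    (∀ c : WittVector p S,
        WittFil.vShiftTeich p m s ((u ^ i : Bˣ) : B) c ∈
          WittFil.fil p m (A := PowerSeries S) ((u ^ (-((p : ℤ) ^ (m - 1 - s) * i)) : Bˣ) : B)) ∧
      (∀ c : WittVector p S,
        WittFil.vShiftTeich p m s ((u ^ i : Bˣ) : B) c ∈
            WittFil.fil p m (A := PowerSeries S) ((u ^ (-((p : ℤ) ^ (m - 1 - s) * i) - 1) : Bˣ) : B) ↔
          WittVector.truncate (m - s) c = 0) ∧
      (∀ y ∈ WittFil.fil p m (A := PowerSeries S) ((u ^ (-((p : ℤ) ^ (m - 1 - s) * i)) : Bˣ) : B),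
        ∃ c : WittVector p S,
          y - WittFil.vShiftTeich p m s ((u ^ i : Bˣ) : B) c ∈
            WittFil.fil p m (A := PowerSeries S)
              ((u ^ (-((p : ℤ) ^ (m - 1 - s) * i) - 1) : Bˣ) : B)) := by
  classical
  have hπ : Prime (PowerSeries.X : PowerSeries S) := PowerSeries.X_prime
  have hcp : CharP (PowerSeries S) p :=
    charP_of_injective_ringHom (f := (PowerSeries.C : S →+* PowerSeries S)) PowerSeries.C_injective p
  have hinj := WittFilLib.algebraMap_injective_away (B := B) (PowerSeries.X : PowerSeries S) hπ.ne_zero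
  have hcl := WittFilLib.closed_away (B := B) (PowerSeries.X : PowerSeries S) hπ
  obtain ⟨φ, hφ⟩ := WittFilLib.exists_embedding (B := B) (PowerSeries.X : PowerSeries S) hπ.ne_zero
  have hp : p.Prime := Fact.out
  set n : ℤ := (p : ℤ) ^ (m - 1 - s) * i with hn
  have hC : ∀ c : S, algebraMap S B c = algebraMap (PowerSeries S) B (PowerSeries.C c) := fun c => by
    rw [IsScalarTower.algebraMap_apply S (PowerSeries S) B]
    congr 1
  -- coordinates of `Φ c`
  have hco : ∀ (c : WittVector p S) (j : Fin m),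
      (WittFil.vShiftTeich p m s ((u ^ i : Bˣ) : B) c).coeff j =
        if (j : ℕ) < s then 0 else
          algebraMap S B (c.coeff ((j : ℕ) - s)) * ((u ^ i : Bˣ) : B) ^ p ^ ((j : ℕ) - s) := by
    intro c j
    rw [WittFil.vShiftTeich, WittVector.coeff_truncate]
    split_ifs with h
    · exact WittVector.iterate_verschiebung_coeff_eq_zero _ h
    · obtain ⟨d, hd⟩ := Nat.exists_eq_add_of_le (not_lt.1 h)
      rw [hd, Nat.add_sub_cancel_left, add_comm s d, WittVector.iterate_verschiebung_coeff, mul_comm,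
        WittFilLib.teichmuller_mul_coeff, WittVector.map_coeff, mul_comm]
  have hval : ∀ (c : WittVector p S) (j : Fin m),
      (WittFil.vShiftTeich p m s ((u ^ i : Bˣ) : B) c).coeff j ^ p ^ (m - 1 - (j : ℕ)) * ((u ^ (-n) : Bˣ) : B) =
        if (j : ℕ) < s then 0 else
          algebraMap (PowerSeries S) B (PowerSeries.C (c.coeff ((j : ℕ) - s) ^ p ^ (m - 1 - (j : ℕ)))) := by
    intro c j
    rw [hco]
    split_ifs with h
    · rw [zero_pow (pow_ne_zero _ hp.ne_zero), zero_mul]
    · rw [mul_pow, ← pow_mul, ← pow_add, map_pow, map_pow, hC, mul_assoc, ← Units.val_pow_eq_pow_val,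
        ← Units.val_mul, ← zpow_natCast (u ^ i), ← zpow_mul, ← zpow_add, Nat.cast_pow,
        show (j : ℕ) - s + (m - 1 - (j : ℕ)) = m - 1 - s by have := j.2; omega, hn,
        show i * (p : ℤ) ^ (m - 1 - s) + -((p : ℤ) ^ (m - 1 - s) * i) = 0 by ring, zpow_zero, Units.val_one, mul_one]
  have hsub : ((u ^ (-n - 1) : Bˣ) : B) = ((u ^ (-n) : Bˣ) : B) * ((u⁻¹ : Bˣ) : B) := by
    rw [← Units.val_mul, sub_eq_add_neg, zpow_add, zpow_neg_one]
  have hmem : ∀ c : WittVector p S,
      WittFil.vShiftTeich p m s ((u ^ i : Bˣ) : B) c ∈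
        WittFil.fil p m (A := PowerSeries S) ((u ^ (-n) : Bˣ) : B) := by
    intro c j
    rw [hval]
    split_ifs
    · exact zero_mem _
    · exact ⟨_, rfl⟩
  refine ⟨hmem, fun c => ⟨fun h => ?_, fun h j => ?_⟩, fun y hy => ?_⟩
  · ext k
    rw [WittVector.coeff_truncate, TruncatedWittVector.coeff_zero]
    have hk : s + (k : ℕ) < m := by have := k.2; omega
    obtain ⟨w, hw⟩ := h ⟨s + k, hk⟩
    rw [hsub, ← mul_assoc, hval, if_neg (by simp)] at hw
    simp only [Nat.add_sub_cancel_left] at hw
    have h2 : algebraMap (PowerSeries S) B (w * PowerSeries.X) =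
        algebraMap (PowerSeries S) B (PowerSeries.C (c.coeff (k : ℕ) ^ p ^ (m - 1 - (s + (k : ℕ))))) := by
      rw [map_mul, ← hu, hw, mul_assoc, Units.inv_mul, mul_one]
    have h3 := congrArg PowerSeries.constantCoeff (hinj h2)
    simp only [map_mul, PowerSeries.constantCoeff_X, mul_zero, PowerSeries.constantCoeff_C] at h3
    exact (pow_eq_zero_iff (pow_ne_zero _ hp.ne_zero)).1 h3.symm
  · rw [hsub, ← mul_assoc, hval]
    split_ifs with hj
    · rw [zero_mul]; exact zero_mem _
    · have := congrArg (TruncatedWittVector.coeff ⟨(j : ℕ) - s, by have := j.2; omega⟩) h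
      rw [WittVector.coeff_truncate, TruncatedWittVector.coeff_zero] at this
      simp only [this, zero_pow (pow_ne_zero _ hp.ne_zero), map_zero, zero_mul]
      exact zero_mem _
  · have hz : ∀ k : ℤ, WittFil.zmon (fun _ : Fin 1 => u) (fun _ => k) = ((u ^ k : Bˣ) : B) := fun k => by
      simp [WittFil.zmon]
    have hg : ∀ j : Fin m, s ≤ (j : ℕ) → ∃ g : PowerSeries S,
        y.coeff j * ((u ^ (-(i * (p : ℤ) ^ ((j : ℕ) - s))) : Bˣ) : B) = algebraMap (PowerSeries S) B g := by
      intro j hj
      obtain ⟨g, hg⟩ := WittFilLib.mul_zmon_div_mem hinj hcl (fun _ : Fin 1 => (PowerSeries.X : PowerSeries S))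
        (fun _ => hπ) (fun a b _ => Subsingleton.elim a b) (fun _ => u) (fun _ => hu)
        (q := p ^ (m - 1 - (j : ℕ))) (pow_pos hp.pos _) (z := y.coeff j) (n := fun _ => -n) (by rw [hz]; exact hy j)
      refine ⟨g, ?_⟩
      rw [hg, hz]
      congr 3
      rw [Nat.cast_pow, hn, show m - 1 - s = ((j : ℕ) - s) + (m - 1 - (j : ℕ)) by have := j.2; omega, pow_add,
        show -((p : ℤ) ^ ((j : ℕ) - s) * (p : ℤ) ^ (m - 1 - (j : ℕ)) * i) =
          (-(i * (p : ℤ) ^ ((j : ℕ) - s))) * (p : ℤ) ^ (m - 1 - (j : ℕ)) by ring,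
        Int.mul_ediv_cancel _ (pow_ne_zero _ (by exact_mod_cast hp.ne_zero))]
    choose! g hg using hg
    let c : WittVector p S := WittVector.mk p fun k =>
      if h : s + k < m then PowerSeries.constantCoeff (g ⟨s + k, h⟩) else 0
    refine ⟨c, ?_⟩
    rw [hsub]
    refine WittFilLib.sub_mem_of_congr p m φ hφ hcl hπ u hu _ hy (hmem c) fun j => ?_
    rw [hval]
    split_ifs with hj
    · rw [sub_zero]
      have hq : ¬ ((p ^ (m - 1 - (j : ℕ)) : ℕ) : ℤ) ∣ -n := by
        rw [Nat.cast_pow, dvd_neg, hn, show m - 1 - (j : ℕ) = (m - 1 - s) + (s - (j : ℕ)) by omega, pow_add,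
          mul_dvd_mul_iff_left (pow_ne_zero _ (by exact_mod_cast hp.ne_zero))]
        intro hd
        rcases hsi with h0 | h0
        · omega
        · exact h0 ((dvd_pow_self _ (by omega)).trans hd)
      obtain ⟨w, hw⟩ := WittFilLib.pow_mul_mem_mul_prod hinj hcl (fun _ : Fin 1 => (PowerSeries.X : PowerSeries S))
        (fun _ => hπ) (fun a b _ => Subsingleton.elim a b) (fun _ => u) (fun _ => hu) (pow_pos hp.pos _)
        (z := y.coeff j) (n := fun _ => -n) (by rw [hz]; exact hy j) (fun _ => hq)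
      rw [hz, Fin.prod_univ_one] at hw
      exact ⟨w, hw⟩
    · have hj' : s ≤ (j : ℕ) := not_lt.1 hj
      have e : y.coeff j ^ p ^ (m - 1 - (j : ℕ)) * ((u ^ (-n) : Bˣ) : B) =
          algebraMap (PowerSeries S) B (g j ^ p ^ (m - 1 - (j : ℕ))) := by
        rw [map_pow, ← hg j hj', mul_pow, ← Units.val_pow_eq_pow_val, ← zpow_natCast (u ^ _), ← zpow_mul, Nat.cast_pow]
        congr 3
        rw [hn, show m - 1 - s = ((j : ℕ) - s) + (m - 1 - (j : ℕ)) by have := j.2; omega, pow_add]
        ring_nf
      have hc : c.coeff ((j : ℕ) - s) = PowerSeries.constantCoeff (g j) := by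
        simp only [c, WittVector.coeff_mk]
        rw [dif_pos (by have := j.2; omega)]
        congr
        omega
      obtain ⟨w, hw⟩ := PowerSeries.X_dvd_iff.2 (show PowerSeries.constantCoeff
          (g j ^ p ^ (m - 1 - (j : ℕ)) - PowerSeries.C (c.coeff ((j : ℕ) - s) ^ p ^ (m - 1 - (j : ℕ)))) = 0 by
        rw [map_sub, map_pow, PowerSeries.constantCoeff_C, hc, sub_self])
      exact ⟨w, by rw [e, ← map_sub, hw]⟩

end Groth.Agent.S19268
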