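import Groth.Statements.S19272
import Groth.Agent.WittFilLib.Gr
import Mathlib.RingTheory.Polynomial.RationalRoot
import Mathlib.RingTheory.PowerSeries.NoZeroDivisors
-- import your own Groth.Agent.* helpers here

set_option autoImplicit false
universe u
open WittFil

namespace Groth.Agent.S19272

/-- Let A be a unique factorisation domain of characteristic p, x_1, …, x_r pairwise non-associate prime
elements of A, B = A[1/(x_1⋯x_r)] with u_i the unit of B defined by x_i, m ≥ 0, and n ∈ ℤ^r with n_i
< 0 for every i. Then every truncated p-typical Witt vector of length m over B lying in the filtered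
piece cut out by ∏ u_i ^ n_i (every coordinate y_j has y_j ^ (p ^ (m−1−j)) · ∏ u_i ^ n_i in the
image of A) has all its coordinates in the image of the ideal (x_1⋯x_r)·A. (The published item,
stated for the filtered de Rham–Witt pieces in all degrees over a regular local ring, says only that
such vectors have all coordinates in A; this row states the divisibility of every coordinate by
x_1⋯x_r that its proof establishes, in degree zero, for a unique factorisation domain in place of a
regular local ring.) -/
theorem result (p : ℕ) [Fact p.Prime] {A B : Type u} [CommRing A] [IsDomain A]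
    [UniqueFactorizationMonoid A] [CharP A p] [CommRing B] [Algebra A B] {r : ℕ} (x : Fin r → A)
    (hx : ∀ i, Prime (x i)) (hxa : ∀ i j, Associated (x i) (x j) → i = j)
    [IsLocalization.Away (∏ i, x i) B] (u : Fin r → Bˣ)
    (hu : ∀ i, (u i : B) = algebraMap A B (x i)) (m : ℕ) (n : Fin r → ℤ) (hn : ∀ i, n i < 0)
    (a : TruncatedWittVector p m B) (ha : a ∈ WittFil.fil p m (A := A) (WittFil.zmon u n))
    (j : Fin m) :
    ∃ b : A, TruncatedWittVector.coeff j a = algebraMap A B ((∏ i, x i) * b) := by
  have hπ : (∏ i, x i) ≠ 0 := Finset.prod_ne_zero_iff.2 fun i _ => (hx i).ne_zero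
  have hinj := WittFilLib.algebraMap_injective_away (B := B) _ hπ
  obtain ⟨φ, hφ⟩ := WittFilLib.exists_embedding (B := B) _ hπ
  have hcl := WittFilLib.closed_of_isIntegrallyClosed φ hφ
  have hp : 0 < p := (Fact.out : p.Prime).pos
  obtain ⟨a₀, ha₀⟩ := ha j
  obtain ⟨e, he⟩ := WittFilLib.zmon_pos u x hu (-n) (fun i => by have := hn i; simp; omega)
  refine WittFilLib.exists_mul_of_pow hinj hcl x hx hxa (b := a₀ * e) (pow_pos hp (m - 1 - (j : ℕ))) ?_
  have h1 : WittFil.zmon u n * WittFil.zmon u (-n) = 1 := by
    rw [← WittFilLib.zmon_add, add_neg_cancel]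
    simp [WittFil.zmon]
  rw [mul_left_comm, map_mul, ha₀, ← he, mul_assoc, h1, mul_one]

end Groth.Agent.S19272
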