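import Groth.Statements.S19274
import Groth.Agent.WittFilLib.Gr
import Mathlib.RingTheory.Polynomial.RationalRoot
import Mathlib.RingTheory.PowerSeries.NoZeroDivisors
-- import your own Groth.Agent.* helpers here

set_option autoImplicit false
universe u
open WittFil

namespace Groth.Agent.S19274

/-- Let A be a unique factorisation domain of characteristic p, x a prime element of A, B = A[1/x] with
u the unit of B defined by x, m ≥ 1, and n an integer NOT divisible by p^m. For e in B and k ≥ 0
write fil_k(e) for the set of truncated p-typical Witt vectors of length k over B whose j-th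
coordinate y_j satisfies y_j ^ (p ^ (k−1−j)) · e ∈ A for all j < k (the filtered piece; fil_k(u^n)
is the piece of index n). Then fil_{m+1}(u^n) is contained in fil_{m+1}(u^(n−1)) + V(fil_m(u^n))
(the reverse inclusion is immediate): every a in fil_{m+1}(u^n) can be written a = b + V(y) with b
in fil_{m+1}(u^(n−1)) and y a Witt vector over B whose length-m truncation lies in fil_m(u^n), V(y)
being truncated to length m+1. (In the source A is a henselian discrete valuation ring, n = p^r·l >
1 with p not dividing l, and the condition reads m ≥ r + 1.) -/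
theorem result (p : ℕ) [Fact p.Prime]
    {A B : Type u} [CommRing A] [IsDomain A] [UniqueFactorizationMonoid A] [CharP A p]
    [CommRing B] [Algebra A B] (x : A) (hx : Prime x) [IsLocalization.Away x B] (u : Bˣ)
    (hu : (u : B) = algebraMap A B x) (m : ℕ) (hm : 0 < m) (n : ℤ) (hn : ¬ ((p : ℤ) ^ m ∣ n)) :
    ∀ a ∈ WittFil.fil p (m + 1) (A := A) ((u ^ n : Bˣ) : B),
      ∃ b ∈ WittFil.fil p (m + 1) (A := A) ((u ^ (n - 1) : Bˣ) : B),
        ∃ y : WittVector p B,
          WittVector.truncate m y ∈ WittFil.fil p m (A := A) ((u ^ n : Bˣ) : B) ∧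
            a = b + WittVector.truncate (m + 1) (WittVector.verschiebung y) := by
  intro a ha
  have hinj := WittFilLib.algebraMap_injective_away (B := B) x hx.ne_zero
  have hcl := WittFilLib.closed_away (B := B) x hx
  have hp : 0 < p := (Fact.out : p.Prime).pos
  have hz : ∀ k : ℤ, WittFil.zmon (fun _ : Fin 1 => u) (fun _ => k) = ((u ^ k : Bˣ) : B) := fun k => by
    simp [WittFil.zmon]
  have h0 := ha 0
  simp only [Fin.val_zero, Nat.sub_zero, Nat.add_sub_cancel] at h0
  obtain ⟨w, hw⟩ := WittFilLib.pow_mul_mem_mul_prod hinj hcl (fun _ : Fin 1 => x) (fun _ => hx)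
    (fun i j _ => Subsingleton.elim i j) (fun _ => u) (fun _ => hu) (pow_pos hp m)
    (z := a.coeff 0) (n := fun _ => n) (by rw [hz]; exact h0) (fun _ => by push_cast; exact hn)
  rw [hz, Fin.prod_univ_one, map_mul, ← hu] at hw
  let y : WittVector p B := WittVector.mk p fun i => a.out.coeff (i + 1)
  refine ⟨WittVector.truncate (m + 1) (WittVector.teichmuller p (a.coeff 0)), fun j => ?_, y, fun j => ?_, ?_⟩
  · rw [WittVector.coeff_truncate]
    rcases hj : (j : ℕ) with _ | i
    · rw [WittVector.teichmuller_coeff_zero, Nat.sub_zero, Nat.add_sub_cancel]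
      refine ⟨w, ?_⟩
      apply (Units.mul_right_inj u).1
      rw [← hw, mul_left_comm]
      congr 1
      rw [← Units.val_mul, mul_comm, ← zpow_add_one, sub_add_cancel]
    · rw [WittVector.teichmuller_coeff_pos p _ _ (Nat.succ_pos i), zero_pow (pow_ne_zero _ hp.ne'), zero_mul]
      exact zero_mem _
  · rw [WittVector.coeff_truncate, WittVector.coeff_mk]
    have := ha j.succ
    rw [show a.out.coeff ((j : ℕ) + 1) = a.coeff j.succ from TruncatedWittVector.coeff_out a j.succ]
    rw [Fin.val_succ, show m + 1 - 1 - ((j : ℕ) + 1) = m - 1 - (j : ℕ) by omega] at this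
    exact this
  · rw [← map_add]
    refine (TruncatedWittVector.truncateFun_out a).symm.trans ?_
    show WittVector.truncate (m + 1) a.out = _
    congr 1
    ext k
    rw [WittVector.coeff_add_of_disjoint]
    · rcases k with _ | k
      · rw [WittVector.teichmuller_coeff_zero, WittVector.verschiebung_coeff_zero, add_zero]
        exact TruncatedWittVector.coeff_out a 0
      · rw [WittVector.teichmuller_coeff_pos p _ _ (Nat.succ_pos k), WittVector.verschiebung_coeff_succ, zero_add,
          WittVector.coeff_mk]
    · intro k
      rcases k with _ | k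
      · exact Or.inr (WittVector.verschiebung_coeff_zero _)
      · exact Or.inl (WittVector.teichmuller_coeff_pos p _ _ (Nat.succ_pos k))

end Groth.Agent.S19274
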