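import Groth.Statements.S19275
import Mathlib
-- import your own Groth.Agent.* helpers here

set_option autoImplicit false
set_option maxHeartbeats 2000000
set_option backward.isDefEq.respectTransparency false
universe u v w
open Hoch

namespace Groth.Agent.S19275

open TensorProduct

section

variable {K : Type u} [Field K] {A : Type v} [CommRing A] [HopfAlgebra K A]
  {V : Type v} [AddCommGroup V] [Module K V] [HopfRep.Comod K A V] {R : Type w} [CommRing R] [Algebra K R]

attribute [local instance] CoactBr.Comod.baseChange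

/-- One step of the comparison of cochains. -/
noncomputable def step {M : Type v} [AddCommGroup M] [Module K M] {M' : Type (max w v)} [AddCommGroup M']
    [Module R M'] (ψ : R ⊗[K] M →ₗ[R] M') : R ⊗[K] (M ⊗[K] A) →ₗ[R] M' ⊗[R] (R ⊗[K] A) :=
  (TensorProduct.map ψ LinearMap.id) ∘ₗ
    (TensorProduct.AlgebraTensorModule.distribBaseChange K R M A).toLinearMap

theorem step_tmul {M : Type v} [AddCommGroup M] [Module K M] {M' : Type (max w v)} [AddCommGroup M']
    [Module R M'] (ψ : R ⊗[K] M →ₗ[R] M') (r : R) (m : M) (a : A) :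
    step ψ (r ⊗ₜ (m ⊗ₜ a)) = ψ (r ⊗ₜ m) ⊗ₜ ((1 : R) ⊗ₜ a) := rfl

/-- `x ⊗ y ↦ (1 ⊗ x) ⊗ (1 ⊗ y)`. -/
noncomputable def two : A ⊗[K] A →ₗ[K] (R ⊗[K] A) ⊗[R] (R ⊗[K] A) :=
  ((TensorProduct.AlgebraTensorModule.distribBaseChange K R A A).toLinearMap.restrictScalars K) ∘ₗ
    TensorProduct.mk K R (A ⊗[K] A) 1

theorem two_tmul (x y : A) : two (R := R) (x ⊗ₜ[K] y) = ((1 : R) ⊗ₜ x) ⊗ₜ[R] ((1 : R) ⊗ₜ y) := rfl

theorem comul_one_tmul (a : A) :
    Coalgebra.comul (R := R) ((1 : R) ⊗ₜ[K] a) = two (Coalgebra.comul (R := K) a) := by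
  rw [TensorProduct.comul_tmul]
  generalize Coalgebra.comul (R := K) a = t
  induction t with
  | zero => simp [TensorProduct.tmul_zero]
  | add x y hx hy => simp only [TensorProduct.tmul_add, map_add, hx, hy]
  | tmul x y => rw [two_tmul]; simp

theorem step_tail {M : Type v} [AddCommGroup M] [Module K M] {M' : Type (max w v)} [AddCommGroup M']
    [Module R M'] (ψ : R ⊗[K] M →ₗ[R] M') (x : R ⊗[K] (M ⊗[K] A)) :
    step (step ψ) ((Hoch.tail K A M).baseChange R x) = Hoch.tail R (R ⊗[K] A) M' (step ψ x) := by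
  induction x with
  | zero => simp
  | add x y hx hy => simp only [map_add, hx, hy]
  | tmul r z =>
    induction z with
    | zero => simp [TensorProduct.tmul_zero]
    | add x y hx hy => simp only [TensorProduct.tmul_add, map_add, hx, hy]
    | tmul m a =>
      rw [LinearMap.baseChange_tmul, Hoch.tail_tmul, step_tmul, Hoch.tail_tmul, comul_one_tmul]
      have h : ∀ t, two (R := R) t -
          ((1 : R) ⊗ₜ a) ⊗ₜ[R] (1 : R ⊗[K] A) - (1 : R ⊗[K] A) ⊗ₜ[R] ((1 : R) ⊗ₜ a) =
            two (t - a ⊗ₜ[K] 1 - 1 ⊗ₜ[K] a) := by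
        intro t
        simp only [map_sub, two_tmul, Algebra.TensorProduct.one_def]
      rw [h]
      generalize Coalgebra.comul (R := K) a - a ⊗ₜ[K] 1 - 1 ⊗ₜ[K] a = t
      induction t with
      | zero => simp [TensorProduct.tmul_zero]
      | add x y hx hy => simp only [TensorProduct.tmul_add, map_add, hx, hy]
      | tmul x y => rw [two_tmul]; rfl

end


open TensorProduct in
/-- In the case of an affine group scheme over a field (a K-groupoid acting on Spec K itself),
cohomology commutes with arbitrary base change. Precisely: let K be a field, A a commutative Hopf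
algebra over K (the coordinate ring of an affine K-group scheme G), V a right A-comodule (a linear
representation of G) and R any commutative K-algebra. Give R ⊗ V the base-changed comodule structure
over the R-bialgebra R ⊗ A, whose coaction sends r ⊗ v to the image of r ⊗ ρ(v) under the canonical
identification of R ⊗ (V ⊗ A) with (R ⊗ V) ⊗_R (R ⊗ A), and let φ_n : R ⊗ C^n(A, V) → C^n(R ⊗ A, R ⊗
V) be the canonical R-linear maps between the Hochschild cochain modules, determined by φ_0 = id and
φ_{n+1}(r ⊗ (c ⊗ a)) = φ_n(r ⊗ c) ⊗ (1 ⊗ a). Then every φ_n is bijective, the φ_n commute with the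
Hochschild differentials, and for every n there is an R-linear isomorphism R ⊗ H^n(A, V) ≅ H^n(R ⊗
A, R ⊗ V) sending r ⊗ [z] to [φ_n(r ⊗ z)] for every n-cocycle z. (The published statement is for an
affine K-groupoid acting on the spectrum of a finite extension L of K and its coherent
representations, with K of characteristic 0; this is its case L = K, in which the cochain complex of
a representation is the Hochschild complex of the comodule; V is not assumed finite-dimensional and
K may be any field.) -/
theorem result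
    (K : Type u) [Field K] (A : Type v) [CommRing A] [HopfAlgebra K A]
    (V : Type v) [AddCommGroup V] [Module K V] [HopfRep.Comod K A V]
    (R : Type w) [CommRing R] [Algebra K R]
    (φ : ∀ n : ℕ, R ⊗[K] (Hoch.cochain K A V n) →ₗ[R] (Hoch.cochain R (R ⊗[K] A) (R ⊗[K] V) n))
    (hφ0 : ∀ x : R ⊗[K] V, φ 0 x = x)
    (hφs : ∀ (n : ℕ) (r : R) (c : Hoch.cochain K A V n) (a : A),
      φ (n + 1) (r ⊗ₜ[K] (c ⊗ₜ[K] a)) = (φ n (r ⊗ₜ[K] c)) ⊗ₜ[R] ((1 : R) ⊗ₜ[K] a)) :
    letI := CoactBr.Comod.baseChange K R A V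
    (∀ n : ℕ, Function.Bijective (φ n)) ∧
    (∀ (n : ℕ) (x : R ⊗[K] (Hoch.cochain K A V n)),
        φ (n + 1) ((Hoch.d K A V n).baseChange R x) = Hoch.d R (R ⊗[K] A) (R ⊗[K] V) n (φ n x)) ∧
      ∀ n : ℕ, ∃ e : R ⊗[K] Hoch.H K A V n ≃ₗ[R] Hoch.H R (R ⊗[K] A) (R ⊗[K] V) n,
        ∀ (r : R) (z : Hoch.cocycles K A V n)
          (hz : φ n (r ⊗ₜ[K] (z : Hoch.cochain K A V n)) ∈ Hoch.cocycles R (R ⊗[K] A) (R ⊗[K] V) n),
          e (r ⊗ₜ[K] Hoch.H.mk K A V n z) = Hoch.H.mk R (R ⊗[K] A) (R ⊗[K] V) n ⟨φ n (r ⊗ₜ[K] (z : Hoch.cochain K A V n)), hz⟩ := by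
  letI := CoactBr.Comod.baseChange K R A V
  have hstep : ∀ n, φ (n + 1) = step (φ n) := fun n => by
    refine LinearMap.ext fun x => ?_
    induction x with
    | zero => simp
    | add x y hx hy => simp only [map_add, hx, hy]
    | tmul r z =>
      induction z using TensorProduct.induction_on with
      | zero => simp [TensorProduct.tmul_zero]
      | add x y hx hy => simp only [TensorProduct.tmul_add, map_add, hx, hy]
      | tmul c a => exact hφs n r c a
  have hbij : ∀ n, Function.Bijective (φ n) := by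
    intro n
    induction n with
    | zero => exact ⟨fun x y h => by rwa [hφ0, hφ0] at h, fun y => ⟨y, hφ0 y⟩⟩
    | succ n ih =>
      rw [hstep]
      let e := (TensorProduct.AlgebraTensorModule.distribBaseChange K R (Hoch.cochain K A V n) A).trans
        (TensorProduct.congr (LinearEquiv.ofBijective _ ih) (LinearEquiv.refl R (R ⊗[K] A)))
      exact e.bijective
  have hd : ∀ (n : ℕ) (x : R ⊗[K] (Hoch.cochain K A V n)),
      φ (n + 1) ((Hoch.d K A V n).baseChange R x) =
        Hoch.d R (R ⊗[K] A) (R ⊗[K] V) n (φ n x) := by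
    intro n
    induction n with
    | zero =>
      intro x
      rw [hφ0 x, hstep]
      induction x with
      | zero => simp
      | add x y hx hy => simp only [map_add, hx, hy]
      | tmul r v =>
        rw [LinearMap.baseChange_tmul, Hoch.d_zero_apply, Hoch.d_zero_apply, TensorProduct.tmul_sub, map_sub]
        congr 1
        · rw [CoactBr.baseChange_coact_tmul]
          generalize HopfRep.Comod.coact (k := K) (A := A) v = t
          induction t with
          | zero => simp [TensorProduct.tmul_zero]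
          | add x y hx hy => simp only [TensorProduct.tmul_add, map_add, hx, hy]
          | tmul x y =>
            rw [step_tmul, hφ0]
            simp only [TensorProduct.AlgebraTensorModule.tensorTensorTensorComm_tmul]
            rw [show r = r • (1 : R) by simp, ← TensorProduct.smul_tmul', TensorProduct.smul_tmul]
            simp [TensorProduct.smul_tmul']
        · rw [step_tmul, hφ0]; rfl
    | succ n ih =>
      intro x
      rw [Hoch.d_succ, LinearMap.baseChange_add, LinearMap.add_apply, map_add,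
        LinearMap.baseChange_smul, LinearMap.smul_apply]
      rw [Hoch.d_succ R, LinearMap.add_apply, LinearMap.smul_apply]
      congr 1
      · rw [hstep (n + 1), hstep n]
        induction x with
        | zero => simp
        | add x y hx hy => simp only [map_add, hx, hy]
        | tmul r z =>
          induction z using TensorProduct.induction_on with
          | zero => simp [TensorProduct.tmul_zero]
          | add x y hx hy => simp only [TensorProduct.tmul_add, map_add, hx, hy]
          | tmul c a =>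
            rw [step_tmul, LinearMap.rTensor_tmul, ← ih, LinearMap.baseChange_tmul,
              LinearMap.baseChange_tmul, LinearMap.rTensor_tmul, step_tmul, hstep n]
      · rw [show ((-1 : K) ^ (n + 1)) • (Hoch.tail K A (Hoch.cochain K A V n)).baseChange R x =
            ((-1 : R) ^ (n + 1)) • (Hoch.tail K A (Hoch.cochain K A V n)).baseChange R x by
            rw [← algebraMap_smul R, map_pow, map_neg, map_one],
          map_smul, hstep (n + 1), hstep n, step_tail]
  refine ⟨hbij, hd, fun n => ?_⟩
  let Z := Hoch.cocycles K A V n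
  let B := Hoch.coboundaries K A V n
  let Z' := Hoch.cocycles R (R ⊗[K] A) (R ⊗[K] V) n
  let B' := Hoch.coboundaries R (R ⊗[K] A) (R ⊗[K] V) n
  have hmem : ∀ s, φ n (Z.subtype.baseChange R s) ∈ Z' := fun s => by
    show Hoch.d R (R ⊗[K] A) (R ⊗[K] V) n _ = 0
    rw [← hd, ← LinearMap.comp_apply ((Hoch.d K A V n).baseChange R), ← LinearMap.baseChange_comp]
    have : Hoch.d K A V n ∘ₗ Z.subtype = 0 := LinearMap.ext fun z => z.2
    rw [this, LinearMap.baseChange_zero, LinearMap.zero_apply, map_zero]
  let g : R ⊗[K] Z →ₗ[R] Z' :=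
    LinearMap.codRestrict Z' (φ n ∘ₗ Z.subtype.baseChange R) hmem
  have hgsurj : Function.Surjective g := fun z' => by
    obtain ⟨t, ht⟩ := (hbij n).2 z'.1
    have h0 : (Hoch.d K A V n).baseChange R t = 0 := by
      refine (hbij (n + 1)).1 ?_
      rw [hd, ht, map_zero]
      exact z'.2
    obtain ⟨s, rfl⟩ := (Module.Flat.lTensor_exact R
      (LinearMap.exact_subtype_ker_map (Hoch.d K A V n)) t).1 h0
    exact ⟨s, Subtype.ext ht⟩
  have hB' : ∀ m, ∀ y ∈ Hoch.coboundaries R (R ⊗[K] A) (R ⊗[K] V) m,
      ∃ w, φ m w = y ∧ (Hoch.coboundaries K A V m).mkQ.baseChange R w = 0 := by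
    intro m
    cases m with
    | zero => exact fun y hy => ⟨0, by rw [map_zero]; exact ((Submodule.mem_bot R).1 hy).symm, map_zero _⟩
    | succ m =>
      rintro - ⟨x, rfl⟩
      obtain ⟨t, rfl⟩ := (hbij m).2 x
      refine ⟨(Hoch.d K A V m).baseChange R t, hd m t, ?_⟩
      rw [← LinearMap.comp_apply, ← LinearMap.baseChange_comp]
      have : (Hoch.coboundaries K A V (m + 1)).mkQ ∘ₗ Hoch.d K A V m = 0 := LinearMap.ext fun z =>
        (Submodule.Quotient.mk_eq_zero _).2 ⟨z, rfl⟩
      rw [this, LinearMap.baseChange_zero, LinearMap.zero_apply]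
  have hB : ∀ m, ∀ z ∈ Hoch.coboundaries K A V m,
      φ m (1 ⊗ₜ z) ∈ Hoch.coboundaries R (R ⊗[K] A) (R ⊗[K] V) m := by
    intro m
    cases m with
    | zero => exact fun z hz => by rw [(Submodule.mem_bot K).1 hz, TensorProduct.tmul_zero, map_zero]; exact zero_mem _
    | succ m =>
      rintro z ⟨x, hx⟩
      exact ⟨φ m (1 ⊗ₜ x), by rw [← hd, LinearMap.baseChange_tmul, hx]⟩
  letI : Module K (Hoch.H R (R ⊗[K] A) (R ⊗[K] V) n) := Module.compHom _ (algebraMap K R)
  haveI : IsScalarTower K R (Hoch.H R (R ⊗[K] A) (R ⊗[K] V) n) := IsScalarTower.of_compHom _ _ _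
  let h0 : Z →ₗ[K] Hoch.H R (R ⊗[K] A) (R ⊗[K] V) n :=
    { toFun := fun z => Hoch.H.mk R (R ⊗[K] A) (R ⊗[K] V) n (g (1 ⊗ₜ z))
      map_add' := fun x y => by rw [TensorProduct.tmul_add, map_add, map_add]
      map_smul' := fun c z => by
        rw [TensorProduct.tmul_smul, ← algebraMap_smul R c ((1 : R) ⊗ₜ[K] z), map_smul, map_smul]
        rfl }
  let h : Hoch.H K A V n →ₗ[K] Hoch.H R (R ⊗[K] A) (R ⊗[K] V) n :=
    (B.comap Z.subtype).liftQ h0 fun z hz => (Submodule.Quotient.mk_eq_zero _).2 (hB n _ hz)
  have key : ∀ s, h.liftBaseChange R ((B.comap Z.subtype).mkQ.baseChange R s) =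
      Hoch.H.mk R (R ⊗[K] A) (R ⊗[K] V) n (g s) := fun s => by
    induction s with
    | zero => simp
    | add x y hx hy => simp only [map_add, hx, hy]
    | tmul r z =>
      rw [LinearMap.baseChange_tmul, LinearMap.liftBaseChange_tmul,
        show (r ⊗ₜ[K] z : R ⊗[K] Z) = r • ((1 : R) ⊗ₜ[K] z) by rw [TensorProduct.smul_tmul', smul_eq_mul, mul_one],
        map_smul, map_smul]
      rfl
  have hqs : Function.Surjective ((B.comap Z.subtype).mkQ.baseChange R) :=
    LinearMap.lTensor_surjective R (Submodule.mkQ_surjective _)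
  have hbijh : Function.Bijective (h.liftBaseChange R) := by
    refine ⟨(injective_iff_map_eq_zero _).2 fun t ht => ?_, fun y => ?_⟩
    · obtain ⟨s, rfl⟩ := hqs t
      rw [key] at ht
      obtain ⟨w, hw, hw0⟩ := hB' n (g s).1 ((Submodule.Quotient.mk_eq_zero (B'.comap Z'.subtype) (x := g s)).1 ht)
      let j : Hoch.H K A V n →ₗ[K] _ ⧸ B := (B.comap Z.subtype).mapQ B Z.subtype le_rfl
      have hj : Function.Injective j := by
        rw [← LinearMap.ker_eq_bot]
        exact Submodule.ker_liftQ_eq_bot _ _ _ fun z hz =>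
          (Submodule.Quotient.mk_eq_zero B).1 (LinearMap.mem_ker.1 hz)
      refine Module.Flat.lTensor_preserves_injective_linearMap (M := R) j hj ?_
      show j.baseChange R _ = j.lTensor R 0
      rw [map_zero, ← LinearMap.comp_apply, ← LinearMap.baseChange_comp,
        show j ∘ₗ (B.comap Z.subtype).mkQ = B.mkQ ∘ₗ Z.subtype from Submodule.mapQ_mkQ _ _ _,
        LinearMap.baseChange_comp, LinearMap.comp_apply,
        show Z.subtype.baseChange R s = w from (hbij n).1 hw.symm, hw0]
    · obtain ⟨z', rfl⟩ := Submodule.mkQ_surjective _ y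
      obtain ⟨s, rfl⟩ := hgsurj z'
      exact ⟨_, key s⟩
  refine ⟨LinearEquiv.ofBijective _ hbijh, fun r z hz => ?_⟩
  exact (key (r ⊗ₜ z))

end Groth.Agent.S19275
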