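import Groth.Statements.S19276
import Groth.Agent.CycQuotLib.Main


-- import your own Groth.Agent.* helpers here

set_option autoImplicit false
universe u v
open GrpAlg

namespace Groth.Agent.S19276

/-- Let `A` be a finite commutative group and `Λ` a commutative ring in which the order of `A` is
invertible. Then the ring homomorphism from the group ring `Λ[A]` to the product, over the subgroups
`B` of `A` with cyclic quotient, of the cyclotomic quotients `Λ[A ⧸ B]/(Φ_{|A/B|})`, each component
induced by `A → A/B`, is bijective. (In terms of group schemes: `Λ[A]` is the representation ring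
with coefficients in `Λ` of the finite diagonalizable group with character group `A`, the factors
are indexed by its dual cyclic subgroups, i.e. those isomorphic to some `μ_n`, and the components
are restriction followed by the cyclotomic quotient. The published statement takes `Λ = ℤ[1/|A|]`;
here `Λ` is any commutative ring in which `|A|` is invertible.) -/
theorem result (Λ : Type u) [CommRing Λ] (A : Type v)
    [AddCommGroup A] [Finite A] (hA : IsUnit ((Nat.card A : ℕ) : Λ)) :
    Function.Bijective (RingHom.pi fun B : {B : AddSubgroup A // IsAddCyclic (A ⧸ B)} =>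
      W4c6equivkfinstab.cycQuotMap Λ A B.1) := by
  classical
  have hu : IsUnit (((⊥ : AddSubgroup A).index : ℕ) : Λ) := by rwa [AddSubgroup.index_bot]
  obtain ⟨e, he1, he0⟩ := CycQuotLib.exists_idempotents (Λ := Λ) (⊥ : AddSubgroup A) hu
  have := CycQuotLib.finite_index (M := A) (⊥ : AddSubgroup A)
  have := Fintype.ofFinite {B : AddSubgroup A // ⊥ ≤ B ∧ IsAddCyclic (A ⧸ B)}
  constructor
  · rw [injective_iff_map_eq_zero]
    intro x hx
    have h := CycQuotLib.quot_eq_zero_of_forall (⊥ : AddSubgroup A) hu x
      fun B _ h2 => congrFun hx ⟨B, h2⟩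
    have hinj : Function.Injective (W4c6equivkfinstab.quotMap Λ A (⊥ : AddSubgroup A)) :=
      AddMonoidAlgebra.mapDomain_injective
        (fun a b h => by simpa [QuotientAddGroup.eq_iff_sub_mem, sub_eq_zero] using h)
    exact hinj (h.trans (map_zero _).symm)
  · intro y
    choose z hz using fun B : {B : AddSubgroup A // ⊥ ≤ B ∧ IsAddCyclic (A ⧸ B)} =>
      (Ideal.Quotient.mk_surjective.comp (CycQuotLib.quotMap_surjective (Λ := Λ) B.1)) (y ⟨B.1, B.2.2⟩)
    refine ⟨∑ B, e B * z B, funext fun B => ?_⟩
    show W4c6equivkfinstab.cycQuotMap Λ A B.1 _ = _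
    rw [map_sum, Finset.sum_eq_single (⟨B.1, bot_le, B.2⟩ : {B : AddSubgroup A // ⊥ ≤ B ∧ IsAddCyclic (A ⧸ B)})
      (fun B' _ h => by rw [map_mul, he0 B' ⟨B.1, bot_le, B.2⟩ (Ne.symm h), zero_mul])
      (fun h => absurd (Finset.mem_univ _) h), map_mul, he1 ⟨B.1, bot_le, B.2⟩, one_mul]
    exact hz ⟨B.1, bot_le, B.2⟩

end Groth.Agent.S19276
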