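import Groth.Statements.S19277
import Groth.Agent.CycQuotLib.Main


-- import your own Groth.Agent.* helpers here

set_option autoImplicit false
universe u v
open GrpAlg

namespace Groth.Agent.S19277

/-- Let `M` be a commutative group, `B ≠ B'` subgroups of finite index with `M ⧸ B` and `M ⧸ B'` cyclic,
and `Λ` a commutative ring in which both indices are invertible. Then the localization of the
`Λ[M]`-module `Λ[M ⧸ B]/(Φ_{|M/B|})` at the multiplicative subset of `Λ[M]` of elements with image
`1` in `Λ[M ⧸ B']/(Φ_{|M/B'|})` is zero. (In terms of group schemes: for two distinct dual cyclic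
subgroups σ, σ' of the diagonalizable group with character group `M`, the ring R̃(σ) with
coefficients in `Λ` vanishes after localization at σ'. The published statement has a split torus,
i.e. `M` free of finite rank, and `Λ = ℤ[1/N]` for `N` the order of the subgroup generated by σ and
σ'; here `M` is any commutative group and `Λ` any commutative ring in which the orders of σ and σ'
are invertible.) -/
theorem result (Λ : Type u) [CommRing Λ] (M : Type v)
    [AddCommGroup M] (B B' : AddSubgroup M) [B.FiniteIndex] [B'.FiniteIndex]
    [IsAddCyclic (M ⧸ B)] [IsAddCyclic (M ⧸ B')] (hne : B ≠ B')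
    (hu : IsUnit ((B.index * B'.index : ℕ) : Λ)) :
    Subsingleton (LocalizedModule (W4c6equivkfinstab.locSubmonoid Λ M B')
      (W4c6equivkfinstab.CycQuot Λ (M ⧸ B))) := by
  rw [Nat.cast_mul] at hu
  have hu1 := isUnit_of_mul_isUnit_left hu
  have hu2 := isUnit_of_mul_isUnit_right hu
  obtain ⟨s, hs, hs1⟩ := CycQuotLib.exists_mem_ker_eq_one (CycQuotLib.sup_ker_cyc_eq_top B B' hu1 hu2 hne)
  rw [LocalizedModule.subsingleton_iff]
  exact fun m => ⟨s, hs1, show W4c6equivkfinstab.cycQuotMap Λ M B s * m = 0 by rw [RingHom.mem_ker.1 hs, zero_mul]⟩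

end Groth.Agent.S19277
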