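import Groth.Statements.S19279
import Groth.Agent.CycQuotLib.Main


-- import your own Groth.Agent.* helpers here

set_option autoImplicit false
universe u v
open GrpAlg

namespace Groth.Agent.S19279

/-- Let `M` be a commutative group, `B₀` a subgroup of finite index and `Λ` a commutative ring in which
the index of `B₀` is invertible. Then the `Λ[M]`-linear map from `Λ[M ⧸ B₀]` to the product, over
the subgroups `B ⊇ B₀` with `M ⧸ B` cyclic, of the localizations of `Λ[M ⧸ B₀]` at the
multiplicative subsets of `Λ[M]` of elements with image `1` in `Λ[M ⧸ B]/(Φ_{|M/B|})`, with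
components the localization maps, is bijective. (In terms of group schemes: for a finite closed
subgroup T' = D(M/B₀) of the diagonalizable group with character group `M`, the representation ring
of T' with coefficients in `Λ` is the product of its localizations at the dual cyclic subgroups of
T'. The published statement has a split torus and `Λ = ℤ[1/|T'|]`; here `M` is any commutative group
and `Λ` any commutative ring in which the order of T' is invertible.) -/
theorem result (Λ : Type u) [CommRing Λ]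
    (M : Type v) [AddCommGroup M] (B₀ : AddSubgroup M) [B₀.FiniteIndex]
    (hu : IsUnit ((B₀.index : ℕ) : Λ)) :
    Function.Bijective (LinearMap.pi (R := AddMonoidAlgebra Λ M)
      fun B : {B : AddSubgroup M // B₀ ≤ B ∧ IsAddCyclic (M ⧸ B)} =>
        LocalizedModule.mkLinearMap (W4c6equivkfinstab.locSubmonoid Λ M B.1)
          (AddMonoidAlgebra Λ (M ⧸ B₀))) := by
  classical
  obtain ⟨e, he1, he0⟩ := CycQuotLib.exists_idempotents B₀ hu
  have := CycQuotLib.finite_index B₀
  have := Fintype.ofFinite {B : AddSubgroup M // B₀ ≤ B ∧ IsAddCyclic (M ⧸ B)}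
  have kill : ∀ (B : {B : AddSubgroup M // B₀ ≤ B ∧ IsAddCyclic (M ⧸ B)}) (x : AddMonoidAlgebra Λ M),
      W4c6equivkfinstab.cycQuotMap Λ M B.1 x = 0 → W4c6equivkfinstab.quotMap Λ M B₀ (e B * x) = 0 := by
    intro B x hx
    refine CycQuotLib.quot_eq_zero_of_forall B₀ hu _ fun B' h1 h2 => ?_
    rw [map_mul]
    by_cases h : (⟨B', h1, h2⟩ : {B : AddSubgroup M // B₀ ≤ B ∧ IsAddCyclic (M ⧸ B)}) = B
    · subst h; rw [hx, mul_zero]
    · rw [he0 B ⟨B', h1, h2⟩ h, zero_mul]
  constructor
  · rw [← LinearMap.ker_eq_bot, eq_bot_iff]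
    intro m hm
    obtain ⟨x, rfl⟩ := CycQuotLib.quotMap_surjective B₀ m
    refine CycQuotLib.quot_eq_zero_of_forall B₀ hu x fun B h1 h2 => ?_
    have h : LocalizedModule.mkLinearMap (W4c6equivkfinstab.locSubmonoid Λ M B) _ (W4c6equivkfinstab.quotMap Λ M B₀ x) = 0 :=
      congrFun (LinearMap.mem_ker.1 hm) ⟨B, h1, h2⟩
    obtain ⟨s, hs, hsx⟩ := LocalizedModule.mem_ker_mkLinearMap_iff.1 (LinearMap.mem_ker.2 h)
    have h0 : W4c6equivkfinstab.quotMap Λ M B₀ (s * x) = 0 := by rw [map_mul]; exact hsx
    have h3 : W4c6equivkfinstab.cycQuotMap Λ M B (s * x) = 0 := by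
      let q : M ⧸ B₀ →+ M ⧸ B := QuotientAddGroup.map B₀ B (AddMonoidHom.id M) h1
      have hfac : ∀ y, W4c6equivkfinstab.quotMap Λ M B y =
          AddMonoidAlgebra.mapDomain q (W4c6equivkfinstab.quotMap Λ M B₀ y) := by
        intro y
        induction y using AddMonoidAlgebra.induction_linear with
        | zero => simp
        | add f g hf hg => rw [map_add, map_add, AddMonoidAlgebra.mapDomain_add, hf, hg]
        | single m r => rw [CycQuotLib.quotMap_single, CycQuotLib.quotMap_single, AddMonoidAlgebra.mapDomain_single]; rfl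
      show Ideal.Quotient.mk _ (W4c6equivkfinstab.quotMap Λ M B (s * x)) = 0
      rw [hfac, h0, AddMonoidAlgebra.mapDomain_zero, map_zero]
    rwa [map_mul, show W4c6equivkfinstab.cycQuotMap Λ M B s = 1 from hs, one_mul] at h3
  · intro y
    have hmk : ∀ (B : AddSubgroup M) (z : LocalizedModule (W4c6equivkfinstab.locSubmonoid Λ M B)
        (AddMonoidAlgebra Λ (M ⧸ B₀))),
        ∃ (m : AddMonoidAlgebra Λ M) (s : W4c6equivkfinstab.locSubmonoid Λ M B),
          LocalizedModule.mk (W4c6equivkfinstab.quotMap Λ M B₀ m) s = z := fun B z => by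
      obtain ⟨⟨n, s⟩, hs⟩ := IsLocalizedModule.surj (W4c6equivkfinstab.locSubmonoid Λ M B)
        (LocalizedModule.mkLinearMap (W4c6equivkfinstab.locSubmonoid Λ M B) (AddMonoidAlgebra Λ (M ⧸ B₀))) z
      obtain ⟨m, rfl⟩ := CycQuotLib.quotMap_surjective B₀ n
      refine ⟨m, s, ?_⟩
      rw [IsLocalizedModule.mk_eq_mk']
      exact IsLocalizedModule.mk'_eq_iff.2 hs.symm
    have hy := fun B : {B : AddSubgroup M // B₀ ≤ B ∧ IsAddCyclic (M ⧸ B)} => hmk B.1 (y B)
    choose m s hms using hy
    refine ⟨W4c6equivkfinstab.quotMap Λ M B₀ (∑ B, e B * m B), funext fun B => ?_⟩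
    rw [LinearMap.pi_apply, LocalizedModule.mkLinearMap_apply, ← hms, LocalizedModule.mk_eq]
    have hsmul : ∀ a x : AddMonoidAlgebra Λ M,
        a • W4c6equivkfinstab.quotMap Λ M B₀ x = W4c6equivkfinstab.quotMap Λ M B₀ (a * x) := fun a x => by
      rw [Algebra.smul_def, map_mul]; rfl
    refine ⟨⟨e B, he1 B⟩, ?_⟩
    simp only [Submonoid.smul_def, hsmul]
    rw [← sub_eq_zero, ← map_sub, ← mul_sub]
    refine kill B _ ?_
    rw [map_sub, map_mul, map_mul, show W4c6equivkfinstab.cycQuotMap Λ M B.1 (s B).1 = 1 from (s B).2, Submonoid.coe_one, map_one,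
      map_sum, Finset.sum_eq_single B (fun B' _ h => by rw [map_mul, he0 B' B (Ne.symm h), zero_mul])
        (fun h => absurd (Finset.mem_univ B) h), map_mul, he1, one_mul, one_mul, sub_self]

end Groth.Agent.S19279
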