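import Groth.Statements.S19284
import Groth.Agent.NFFibLib.FrobSplit
import Groth.Agent.NFFibLib.AffGroup

set_option autoImplicit false
universe u
open NumberField

namespace Groth.Agent.S19284

/-- Let L/K be a finite extension of number fields and Ω an algebraic closure of K. Suppose that L/K is
almost abelian in the non-abelian way: for some prime number p there is a bijection between the set
of K-embeddings L → Ω and Z/p under which every K-automorphism of Ω acts by an affine transformation
x ↦ a x + b with a ≠ 0, and L/K is not an abelian extension (it is not Galois with commutative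
automorphism group). Then there is an intermediate extension K ⊂ E ⊂ Ω contained in the normal
closure of L, Galois over K with nontrivial cyclic group, such that for every finite place w of K
which is unramified in L (every prime of the integers of L above w has ramification index 1), either
E admits a K-algebra embedding into the completion K_w (since E/K is Galois: w splits completely in
E) or L admits a K-algebra embedding into K_w (L has a place of degree 1 over w). (Only finite
places are treated here.) -/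
theorem result (K L Ω : Type u) [Field K] [NumberField K]
    [Field L] [NumberField L] [Algebra K L] [Field Ω] [Algebra K Ω] [IsAlgClosure K Ω]
    (p : ℕ) (hp : p.Prime) (e : (L →ₐ[K] Ω) ≃ ZMod p)
    (haff : ∀ σ : Ω ≃ₐ[K] Ω, ∃ a b : ZMod p, a ≠ 0 ∧
      ∀ φ : L →ₐ[K] Ω, e (σ.toAlgHom.comp φ) = a * e φ + b)
    (hnab : IsGalois K L → ∃ σ τ : L ≃ₐ[K] L, σ * τ ≠ τ * σ) :
    ∃ E : IntermediateField K Ω, E ≤ IntermediateField.normalClosure K L Ω ∧
      FiniteDimensional K E ∧ IsGalois K E ∧ IsCyclic (E ≃ₐ[K] E) ∧ 1 < Module.finrank K E ∧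
      ∀ w : IsDedekindDomain.HeightOneSpectrum (NumberField.RingOfIntegers K),
        (∀ P : Ideal (NumberField.RingOfIntegers L), P.IsPrime → P.LiesOver w.asIdeal →
          P.ramificationIdx (NumberField.RingOfIntegers K) = 1) →
        Nonempty (E →ₐ[K] w.adicCompletion K) ∨ Nonempty (L →ₐ[K] w.adicCompletion K) := by
  classical
  haveI := Fact.mk hp
  haveI : IsAlgClosed Ω := IsAlgClosure.isAlgClosed K
  haveI : Algebra.IsAlgebraic K Ω := IsAlgClosure.isAlgebraic
  haveI : FiniteDimensional K L := Module.Finite.of_restrictScalars_finite ℚ K L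
  haveI : Normal K Ω := IsAlgClosure.normal K Ω
  let N := IntermediateField.normalClosure K L Ω
  haveI : FiniteDimensional K N := inferInstance
  haveI : Normal K N := inferInstance
  haveI : IsGalois K N := ⟨⟩
  haveI : NumberField N := NumberField.of_module_finite K N
  have hle : ∀ f : L →ₐ[K] Ω, f.fieldRange ≤ N := AlgHom.fieldRange_le_normalClosure
  let lift : (L →ₐ[K] Ω) ≃ (L →ₐ[K] N) :=
    { toFun := fun f => f.codRestrict N.toSubalgebra fun x => hle f ⟨x, rfl⟩
      invFun := fun g => N.val.comp g
      left_inv := fun f => AlgHom.ext fun _ => rfl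
      right_inv := fun g => AlgHom.ext fun _ => Subtype.ext rfl }
  have haff' : ∀ σ : N ≃ₐ[K] N, ∃ a b : ZMod p, a ≠ 0 ∧
      ∀ φ : L →ₐ[K] N, (lift.symm.trans e) (σ.toAlgHom.comp φ) = a * (lift.symm.trans e) φ + b := by
    intro σ
    obtain ⟨a, b, ha, hab⟩ := haff (σ.liftNormal Ω)
    refine ⟨a, b, ha, fun φ => ?_⟩
    have h : (σ.liftNormal Ω).toAlgHom.comp (lift.symm φ) = lift.symm (σ.toAlgHom.comp φ) :=
      AlgHom.ext fun x => σ.liftNormal_commutes Ω (φ x)
    simp only [Equiv.trans_apply]
    rw [← h, hab]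
  have hgen : ∀ τ : N ≃ₐ[K] N, (∀ φ : L →ₐ[K] N, τ.toAlgHom.comp φ = φ) → τ = 1 := by
    intro τ hτ
    have hS : N ≤ (IntermediateField.fixedField (Subgroup.zpowers τ)).map N.val := by
      refine iSup_le fun f => ?_
      rintro _ ⟨x, rfl⟩
      refine ⟨lift f x, ?_, rfl⟩
      rintro ⟨g, hg⟩
      obtain ⟨n, rfl⟩ := Subgroup.mem_zpowers_iff.mp hg
      have hm : τ ∈ MulAction.stabilizer (N ≃ₐ[K] N) (lift f x) := DFunLike.congr_fun (hτ (lift f)) x
      exact zpow_mem hm n
    refine AlgEquiv.ext fun y => ?_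
    obtain ⟨z, hz, hzy⟩ := hS y.2
    rw [← show z = y from Subtype.ext hzy]
    exact hz ⟨τ, Subgroup.mem_zpowers τ⟩
  obtain ⟨E, hE, hcyc, hrank, hσ⟩ := NFFibLib.affine_cases p (lift.symm.trans e) haff' hgen hnab
  let f : E ≃ₐ[K] E.map N.val := IntermediateField.equivMap E N.val
  haveI : NumberField E := NumberField.of_module_finite K E
  refine ⟨E.map N.val, ?_, Module.Finite.equiv f.toLinearEquiv, IsGalois.of_algEquiv f,
    isCyclic_of_injective (AlgEquiv.autCongr f).symm.toMonoidHom (AlgEquiv.autCongr f).symm.injective,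
    f.toLinearEquiv.finrank_eq ▸ hrank, fun w hw => ?_⟩
  · rintro _ ⟨y, -, rfl⟩
    exact y.2
  · obtain ⟨Q, hQ⟩ := NFFibLib.exists_over (K := N) w
    haveI := hQ
    haveI := Q.isMaximal
    have he : Q.asIdeal.ramificationIdx (NumberField.RingOfIntegers K) = 1 :=
      NFFibLib.ramificationIdx_eq_one_of_conjugates hgen w hw Q.asIdeal
    haveI : Finite (NumberField.RingOfIntegers N ⧸ Q.asIdeal) := Ideal.finiteQuotientOfFreeOfNeBot _ Q.ne_bot
    obtain ⟨σ, hfrob⟩ := IsArithFrobAt.exists_of_isInvariant (R := NumberField.RingOfIntegers K)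
      (G := N ≃ₐ[K] N) (Q := Q.asIdeal)
    rcases hσ σ with h | ⟨φ, h⟩
    · obtain ⟨j⟩ := NFFibLib.nonempty_algHom_of_frob E.val w Q.asIdeal he σ hfrob fun x => h x x.2
      exact Or.inl ⟨j.comp f.symm.toAlgHom⟩
    · exact Or.inr (NFFibLib.nonempty_algHom_of_frob φ w Q.asIdeal he σ hfrob h)

end Groth.Agent.S19284
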