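import Groth.Statements.S19285
import Groth.Agent.NFFibLib.Deg2Pair

set_option autoImplicit false
universe u
open scoped TensorProduct
open NumberField

namespace Groth.Agent.S19285

/-- A conjectured statement on locally split values of the polynomials t − a_i holds unconditionally
when the degrees [k_i : k] sum to at most 2. Precisely: let k be a number field, n ≥ 1, and for each
i let k_i = k(a_i) be a finite extension generated by a_i, the minimal polynomials of the a_i over k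
being pairwise distinct and the degrees [k_i : k] summing to at most 2; let L_i/k_i be finite
extensions and b_i ∈ k_i nonzero. Let S_f, S_∞ be finite sets of finite and infinite places of k
such that S_∞ contains every real place and S_f contains every finite place of k below a finite
place of some k_i at which b_i is not a unit or below a prime of some L_i ramified over k_i. For v ∈
S_f ∪ S_∞ let t_v ∈ k_v, with an open neighbourhood U_v, be such that for every i the element b_i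
(t_v − a_i) of k_v ⊗_k k_i is the norm of a unit of the (k_v ⊗_k k_i)-algebra k_v ⊗_k L_i. Then
there is t_0 ∈ k whose image lies in U_v for all v ∈ S_f ∪ S_∞ and such that for every i and every
finite place w of k_i at which t_0 − a_i has positive valuation, either w lies above a place of S_f
or L_i admits a k_i-algebra embedding into the completion (k_i)_w (a place of L_i of degree 1 over
w). -/
theorem result (k : Type u) [Field k] [NumberField k]
    (n : ℕ) (hn : 1 ≤ n)
    (kf : Fin n → Type u) [∀ i, Field (kf i)] [∀ i, NumberField (kf i)] [∀ i, Algebra k (kf i)]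
    (Lf : Fin n → Type u) [∀ i, Field (Lf i)] [∀ i, NumberField (Lf i)] [∀ i, Algebra (kf i) (Lf i)]
    [∀ i, Algebra k (Lf i)] [∀ i, IsScalarTower k (kf i) (Lf i)]
    (a : (i : Fin n) → kf i) (ha : ∀ i, IntermediateField.adjoin k {a i} = ⊤)
    (hdist : ∀ i j, i ≠ j → minpoly k (a i) ≠ minpoly k (a j))
    (hdeg : ∑ i, Module.finrank k (kf i) ≤ 2)
    (b : (i : Fin n) → kf i) (hb : ∀ i, b i ≠ 0)
    (Sf : Finset (IsDedekindDomain.HeightOneSpectrum (NumberField.RingOfIntegers k)))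
    (Si : Finset (NumberField.InfinitePlace k))
    (hSreal : ∀ w : NumberField.InfinitePlace k, w.IsReal → w ∈ Si)
    (hSb : ∀ i, ∀ W : IsDedekindDomain.HeightOneSpectrum (NumberField.RingOfIntegers (kf i)),
      W.valuation (kf i) (b i) ≠ 1 → ∃ v ∈ Sf, W.asIdeal.LiesOver v.asIdeal)
    (hSram : ∀ i, ∀ Q : Ideal (NumberField.RingOfIntegers (Lf i)), Q.IsPrime → Q ≠ ⊥ →
      Q.ramificationIdx (NumberField.RingOfIntegers (kf i)) ≠ 1 → ∃ v ∈ Sf, Q.LiesOver v.asIdeal)
    (tf : (v : IsDedekindDomain.HeightOneSpectrum (NumberField.RingOfIntegers k)) → v.adicCompletion k)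
    (ti : (w : NumberField.InfinitePlace k) → w.Completion)
    (htf : ∀ i, ∀ v ∈ Sf,
      letI := (Algebra.TensorProduct.map (AlgHom.id k (v.adicCompletion k))
        (IsScalarTower.toAlgHom k (kf i) (Lf i))).toRingHom.toAlgebra
      ∃ x : (v.adicCompletion k) ⊗[k] Lf i, IsUnit x ∧
        Algebra.norm ((v.adicCompletion k) ⊗[k] kf i) x =
          (1 : v.adicCompletion k) ⊗ₜ[k] b i * (tf v ⊗ₜ[k] (1 : kf i) - (1 : v.adicCompletion k) ⊗ₜ[k] a i))
    (hti : ∀ i, ∀ w ∈ Si,
      letI := (Algebra.TensorProduct.map (AlgHom.id k w.Completion)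
        (IsScalarTower.toAlgHom k (kf i) (Lf i))).toRingHom.toAlgebra
      ∃ x : w.Completion ⊗[k] Lf i, IsUnit x ∧
        Algebra.norm (w.Completion ⊗[k] kf i) x =
          (1 : w.Completion) ⊗ₜ[k] b i * (ti w ⊗ₜ[k] (1 : kf i) - (1 : w.Completion) ⊗ₜ[k] a i))
    (Uf : (v : IsDedekindDomain.HeightOneSpectrum (NumberField.RingOfIntegers k)) → Set (v.adicCompletion k))
    (hUf : ∀ v ∈ Sf, IsOpen (Uf v) ∧ tf v ∈ Uf v)
    (Ui : (w : NumberField.InfinitePlace k) → Set w.Completion)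
    (hUi : ∀ w ∈ Si, IsOpen (Ui w) ∧ ti w ∈ Ui w) :
    ∃ t₀ : k, (∀ v ∈ Sf, algebraMap k (v.adicCompletion k) t₀ ∈ Uf v) ∧
      (∀ w ∈ Si, algebraMap k w.Completion t₀ ∈ Ui w) ∧
      ∀ i, ∀ W : IsDedekindDomain.HeightOneSpectrum (NumberField.RingOfIntegers (kf i)),
        W.valuation (kf i) (algebraMap k (kf i) t₀ - a i) < 1 →
          (∃ v ∈ Sf, W.asIdeal.LiesOver v.asIdeal) ∨ Nonempty (Lf i →ₐ[kf i] W.adicCompletion (kf i)) := by
  classical
  haveI : ∀ i, FiniteDimensional k (kf i) := fun i => Module.Finite.of_restrictScalars_finite ℚ k (kf i)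
  have hpos : ∀ i, 1 ≤ Module.finrank k (kf i) := fun i => Module.finrank_pos
  have hn2 : n ≤ 2 := by
    have h : ∑ _i : Fin n, (1 : ℕ) ≤ ∑ i, Module.finrank k (kf i) := Finset.sum_le_sum fun i _ => hpos i
    rw [Finset.sum_const, Finset.card_univ, Fintype.card_fin, smul_eq_mul, mul_one] at h
    omega
  have halg : ∀ i, Module.finrank k (kf i) = 1 → ∃ α : k, algebraMap k (kf i) α = a i :=
    fun i h => (NFFibLib.algebraMap_bijective_of_finrank_one h).2 (a i)
  obtain rfl | rfl : n = 1 ∨ n = 2 := by omega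
  · obtain hd | hd : Module.finrank k (kf 0) = 1 ∨ Module.finrank k (kf 0) = 2 := by
      have h := hpos 0
      rw [Fin.sum_univ_one] at hdeg
      omega
    · obtain ⟨α, hα⟩ := halg 0 hd
      obtain ⟨v₀, hv₀, hsp⟩ := NFFibLib.exists_place_split (k := k) kf Lf Sf
      obtain ⟨t, h1, h2, h3⟩ := NFFibLib.exists_value_one (L := Lf 0) hd (hb 0) (α := α) Sf Si (hSb 0) v₀ hv₀
        (hsp 0) tf ti (fun v hv => by obtain ⟨x, -, hx⟩ := htf 0 v hv; exact ⟨x, by rw [hα]; exact hx⟩)
        (fun w hw => by obtain ⟨x, -, hx⟩ := hti 0 w hw; exact ⟨x, by rw [hα]; exact hx⟩) Uf hUf Ui hUi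
      exact ⟨t, h1, h2, Fin.forall_fin_one.mpr (by rw [← hα]; exact h3)⟩
    · obtain ⟨t, h1, h2, h3⟩ := NFFibLib.exists_value_two (L := Lf 0) hd (hb 0) (ha 0) Sf Si (hSb 0) (hSram 0)
        (fun B => by
          obtain ⟨v, hv, hsp⟩ := NFFibLib.exists_place_split (k := k) kf Lf B
          exact ⟨v, hv, hsp 0⟩)
        tf ti (fun v hv => by obtain ⟨x, -, hx⟩ := htf 0 v hv; exact ⟨x, hx⟩)
        (fun w hw => by obtain ⟨x, -, hx⟩ := hti 0 w hw; exact ⟨x, hx⟩) Uf hUf Ui hUi
      exact ⟨t, h1, h2, Fin.forall_fin_one.mpr h3⟩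
  · have hd0 : Module.finrank k (kf 0) = 1 ∧ Module.finrank k (kf 1) = 1 := by
      have h0 := hpos 0
      have h1 := hpos 1
      rw [Fin.sum_univ_two] at hdeg
      omega
    obtain ⟨α₀, hα₀⟩ := halg 0 hd0.1
    obtain ⟨α₁, hα₁⟩ := halg 1 hd0.2
    have hne : α₀ ≠ α₁ := fun e => hdist 0 1 (by decide) (by
      rw [← hα₀, ← hα₁, e, minpoly.eq_X_sub_C, minpoly.eq_X_sub_C])
    obtain ⟨t, h1, h2, h3, h4⟩ := NFFibLib.exists_value_pair (L₀ := Lf 0) (L₁ := Lf 1) hd0.1 hd0.2 (hb 0) (hb 1) hne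
      Sf Si (hSb 0) (hSb 1) (hSram 0) (hSram 1)
      (fun B => by
        obtain ⟨v, hv, hsp⟩ := NFFibLib.exists_place_split (k := k) kf Lf B
        exact ⟨v, hv, hsp 0, hsp 1⟩)
      tf ti (fun v hv => by obtain ⟨x, -, hx⟩ := htf 0 v hv; exact ⟨x, by rw [hα₀]; exact hx⟩)
      (fun w hw => by obtain ⟨x, -, hx⟩ := hti 0 w hw; exact ⟨x, by rw [hα₀]; exact hx⟩)
      (fun v hv => by obtain ⟨x, -, hx⟩ := htf 1 v hv; exact ⟨x, by rw [hα₁]; exact hx⟩)
      (fun w hw => by obtain ⟨x, -, hx⟩ := hti 1 w hw; exact ⟨x, by rw [hα₁]; exact hx⟩) Uf hUf Ui hUi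
    exact ⟨t, h1, h2, Fin.forall_fin_two.mpr ⟨by rw [← hα₀]; exact h3, by rw [← hα₁]; exact h4⟩⟩

end Groth.Agent.S19285
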