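import Groth.Statements.S19288
import Mathlib
import Groth.Agent.WeilResLib.UnitDiag
-- import your own Groth.Agent.* helpers here

set_option autoImplicit false
set_option backward.isDefEq.respectTransparency false
universe u
open CategoryTheory CategoryTheory.Limits MonoidalCategory CartesianMonoidalCategory MonObj AlgebraicGeometry
open AbSch

namespace Groth.Agent.S19288

/-- Let S be a scheme, X a commutative S-group scheme which is etale and separated over S (hence locally
of finite presentation), and P a commutative S-group scheme of finite presentation over S all of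
whose fibres are connected. Then every homomorphism of S-group schemes from P to X is trivial (it
factors through the unit section). -/
theorem result {S : Scheme.{u}} (P X : Over S)
    [GrpObj P] [IsCommMonObj P] [GrpObj X] [IsCommMonObj X]
    [Etale X.hom] [IsSeparated X.hom]
    [QuasiCompact P.hom] [QuasiSeparated P.hom] [LocallyOfFinitePresentation P.hom]
    (hP : ∀ s : S, ConnectedSpace ↥(P.hom.fiber s))
    (f : P ⟶ X) [IsMonHom f] : f = 1 := by
  haveI : IsOpenImmersion (η[X] : 𝟙_ (Over S) ⟶ X).left :=
    (Groth.Agent.WeilRes.formallyUnramified_iff_unit X).1 inferInstance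
  haveI : IsClosedImmersion (η[X] : 𝟙_ (Over S) ⟶ X).left := by
    haveI : IsClosedImmersion ((η[X] : 𝟙_ (Over S) ⟶ X).left ≫ X.hom) := by
      rw [Over.w]; exact inferInstanceAs (IsClosedImmersion (𝟙 S))
    exact IsClosedImmersion.of_comp _ X.hom
  let e := (η[X] : 𝟙_ (Over S) ⟶ X).left
  have hcl : IsClopen (f.left ⁻¹' Set.range e) :=
    IsClopen.preimage ⟨e.isClosedEmbedding.isClosed_range, e.isOpenEmbedding.isOpen_range⟩ f.left.continuous
  have hsub : Set.range f.left ⊆ Set.range e := by
    rintro _ ⟨y, rfl⟩
    let s := P.hom y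
    haveI := hP s
    have hr : Set.range (P.hom.fiberι s) = P.hom ⁻¹' {s} := Scheme.Hom.range_fiberι _ _
    obtain ⟨a, ha⟩ : y ∈ Set.range (P.hom.fiberι s) := by rw [hr]; rfl
    obtain ⟨b, hb⟩ : (η[P] : 𝟙_ (Over S) ⟶ P).left s ∈ Set.range (P.hom.fiberι s) := by
      rw [hr]
      exact congr($(Over.w (η[P] : 𝟙_ (Over S) ⟶ P)) s)
    have h := hcl.preimage (P.hom.fiberι s).continuous
    have hb' : b ∈ P.hom.fiberι s ⁻¹' (f.left ⁻¹' Set.range e) := by
      show f.left (P.hom.fiberι s b) ∈ Set.range e
      rw [hb]
      exact ⟨s, congr($(congrArg CommaMorphism.left (IsMonHom.one_hom f).symm) s)⟩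
    have := (h.eq_univ ⟨b, hb'⟩).ge (Set.mem_univ a)
    rw [← ha]
    exact this
  let l : P.left ⟶ S := IsOpenImmersion.lift e f.left hsub
  have hl : l ≫ e = f.left := IsOpenImmersion.lift_fac _ _ _
  have hlP : l = P.hom := by
    rw [← Over.w f, ← hl, Category.assoc, Over.w]
    exact (Category.comp_id _).symm
  refine Over.OverMorphism.ext ?_
  rw [← hl, hlP, Hom.one_def, Over.comp_left]
  rfl

end Groth.Agent.S19288
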