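import Groth.Statements.S19289
import Groth.Agent.S5286
import Groth.Agent.AlbLib.AffineHom
import Groth.Agent.AlbLib.Torus
import Groth.Agent.RedRankLib.CommRel
import Groth.Agent.MultEqLib.Props
-- import your own Groth.Agent.* helpers here

set_option autoImplicit false
set_option backward.isDefEq.respectTransparency false
set_option linter.style.haveILetI false
universe u
open CategoryTheory CategoryTheory.Limits MonoidalCategory CartesianMonoidalCategory MonObj AlgebraicGeometry
open AbSch

namespace Groth.Agent.S19289

/-- Let S be a scheme, T an S-torus and A an abelian S-scheme (a smooth proper S-group scheme with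
connected fibres). Then the group of homomorphisms from T to A is trivial: every homomorphism of
S-group schemes T → A factors through the unit section. -/
theorem result {S : Scheme.{u}} (T A : Over S)
    [GrpObj T] [IsCommMonObj T] (hT : Red.IsTorus T)
    [GrpObj A] [IsCommMonObj A] [Smooth A.hom] [IsProper A.hom]
    (hA : ∀ s : S, ConnectedSpace ↥(A.hom.fiber s))
    (f : T ⟶ A) [IsMonHom f] : f = 1 := by
  haveI : IsSeparated A.hom := inferInstance
  haveI : LocallyOfFinitePresentation A.hom := inferInstance
  obtain ⟨U, -, hU, hU1⟩ := Groth.Agent.S5286.result T A (RedRank.isMultTypeFT_of_isTorus hT)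
    (Or.inr ⟨inferInstance, inferInstance, inferInstance⟩) f
  have htop : U = ⊤ := by
    refine eq_top_iff.2 fun s _ => (hU s).2 ?_
    let K := S.residueField s
    let π := S.fromSpecResidueField s
    letI gT : GrpObj (Red.bc π T) := inferInstance
    have hTs : Red.IsTorus (Red.bc π T) := RedRank.isTorus_bc hT π
    haveI : LocallyOfFinitePresentation T.hom := MultEq.lfp_of_isMultTypeFT (RedRank.isMultTypeFT_of_isTorus hT)
    haveI : LocallyOfFiniteType (Red.bc π T).hom := inferInstanceAs (LocallyOfFiniteType (pullback.snd T.hom π))
    haveI : IsAffine (Red.bc π T).left := AlbLib.isAffine_of_isTorus hTs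
    obtain ⟨h1, h2⟩ := AlbLib.smooth_connected_of_isTorus hTs
    haveI := h1; haveI := h2
    haveI : IsProper ((Over.pullback π).obj A).hom := inferInstanceAs (IsProper (pullback.snd A.hom π))
    letI : GrpObj ((Over.pullback π).obj A) := Functor.grpObjObj
    haveI : IsMonHom ((Over.pullback π).map f) := @Functor.map.instIsMonHom _ _ _ _ _ _ (Over.pullback π) _ _ _ _ _ f _
    exact AlbLib.eq_one_of_affine (N := Red.bc π T) ((Over.pullback π).map f)
  subst htop
  haveI : IsIso (⊤ : S.Opens).ι := (Scheme.topIso S).isIso_hom
  haveI : (Over.pullback (⊤ : S.Opens).ι).Faithful := inferInstance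
  refine (Over.pullback (⊤ : S.Opens).ι).map_injective ?_
  rw [hU1]
  exact (map_one (Functor.homMonoidHom (Over.pullback (⊤ : S.Opens).ι) : (T ⟶ A) →* _)).symm

end Groth.Agent.S19289
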