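import Groth.Statements.S19290
import Groth.Agent.TorusHomZeroLib.Counit
import Groth.Agent.RedRankLib.CommRel

set_option autoImplicit false
set_option linter.style.haveILetI false
set_option backward.isDefEq.respectTransparency false
set_option maxHeartbeats 400000
universe u
open CategoryTheory CategoryTheory.Limits MonoidalCategory CartesianMonoidalCategory MonObj AlgebraicGeometry
open AbSch

open Groth.Agent
attribute [-instance] CategoryTheory.Hom.commGroup

namespace Groth.Agent.S19290

/-- Let S be a scheme, T an S-torus and A an abelian S-scheme (smooth, proper, with connected fibres).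
Then the S-sheaf of homomorphisms from T to A is trivial: the internal Hom sheaf, on the big fppf
site of S, from the abelian sheaf of points of T to that of A is the zero sheaf. -/
theorem result {S : Scheme.{u}} (T A : Over S)
    [GrpObj T] [IsCommMonObj T] (hT : Red.IsTorus T)
    [GrpObj A] [IsCommMonObj A] [Smooth A.hom] [IsProper A.hom]
    (hA : ∀ s : S, ConnectedSpace ↥(A.hom.fiber s)) :
    IsZero (HomSh.homSh (QuotSh.J Scheme.fppfPrecoverage S) (CGrpSh.pts Scheme.fppfPrecoverage T) (CGrpSh.pts Scheme.fppfPrecoverage A)) := by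
  refine (IsZero.iff_id_eq_zero _).2 (Sheaf.hom_ext (NatTrans.ext (funext fun X => AddCommGrpCat.ext fun φ => ?_)))
  change φ = (0 : (CGrpSh.pts Scheme.fppfPrecoverage T).over X.unop ⟶ (CGrpSh.pts Scheme.fppfPrecoverage A).over X.unop)
  obtain ⟨X⟩ := X
  revert φ
  show ∀ φ : (CGrpSh.pts Scheme.fppfPrecoverage T).over X ⟶ (CGrpSh.pts Scheme.fppfPrecoverage A).over X, φ = 0
  intro φ
  let ev : ∀ {W : Over S} (_ : W ⟶ X), (W ⟶ T) → (W ⟶ A) := fun {W} w b =>
    (φ.hom.app (Opposite.op (Over.mk w)) (ULift.up (Additive.ofMul b))).down.toMul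
  have ev_nat : ∀ {W W' : Over S} (w : W ⟶ X) (m : W' ⟶ W) (b : W ⟶ T),
      ev (m ≫ w) (m ≫ b) = m ≫ ev w b := by
    intro W W' w m b
    let v : Over.mk (m ≫ w) ⟶ Over.mk w := Over.homMk m rfl
    have h := ConcreteCategory.congr_hom (φ.hom.naturality v.op)
      (ULift.up (Additive.ofMul b) : (CGrpSh.pts Scheme.fppfPrecoverage T).obj.obj (Opposite.op W))
    exact congrArg (fun t => Additive.toMul (ULift.down t)) h
  have ev_mul : ∀ {W : Over S} (w : W ⟶ X) (b b' : W ⟶ T), ev w (b * b') = ev w b * ev w b' := by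
    intro W w b b'
    exact congrArg (fun t => Additive.toMul (ULift.down t))
      (map_add (φ.hom.app (Opposite.op (Over.mk w))).hom (ULift.up (Additive.ofMul b)) (ULift.up (Additive.ofMul b')))
  let π := X.hom
  let TP := Red.bc π T
  haveI : IsCommMonObj TP := Functor.isCommMonObj_obj (F := Over.pullback π)
  let w : (Over.map π).obj TP ⟶ X := Over.homMk TP.hom
  let e : (Over.map π).obj TP ⟶ T := TorusHomZeroLib.proj π T
  have hΨ : ev w e = 1 := by
    refine TorusHomZeroLib.eq_one_of_mul π hA (RedRank.isTorus_bc hT π) (ev w e) fun {Z} a b => ?_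
    have hw : ∀ c : Z ⟶ TP, (Over.map π).map c ≫ w = Over.homMk Z.hom := fun c => Over.OverMorphism.ext (Over.w c)
    rw [← ev_nat, ← ev_nat, ← ev_nat, hw, hw, hw, ← ev_mul, TorusHomZeroLib.counit_mul]
  have key : ∀ {W : Over S} (x : W ⟶ X) (b : W ⟶ T), ev x b = 1 := by
    intro W x b
    let m : W ⟶ (Over.map π).obj TP := Over.homMk (pullback.lift b.left x.left ((Over.w b).trans (Over.w x).symm)) (by
      show pullback.lift b.left x.left _ ≫ pullback.snd T.hom π ≫ π = W.hom
      rw [pullback.lift_snd_assoc]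
      exact Over.w x)
    have h1 : m ≫ w = x := Over.OverMorphism.ext (pullback.lift_snd _ _ _)
    have h2 : m ≫ e = b := Over.OverMorphism.ext (by simp [m, e])
    rw [← h1, ← h2, ev_nat, hΨ, MonObj.comp_one]
  refine Sheaf.hom_ext (NatTrans.ext (funext fun W => AddCommGrpCat.ext fun b => ?_))
  apply ULift.ext
  exact congrArg Additive.ofMul (key W.unop.hom b.down.toMul)

end Groth.Agent.S19290
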