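import Groth.Statements.S1930
import Mathlib
import Groth.Agent.CycCommLib.Gysin
-- import your own Groth.Agent.* helpers here

set_option autoImplicit false
universe u
open CategoryTheory AlgebraicGeometry
open Cyc

namespace Groth.Agent.S1930

/-- Let X be integral with generic point η and δ(η) = n, i : D → X an effective Cartier divisor given as
the zero scheme of a global section s of an invertible module L which is a nonzerodivisor at every
point, N an invertible O_X-module and t ∈ N(η) a nonzero rational section. Then i^*(div_N t) ∼_rat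
c_1(N|_D) ∩ [D]_{n−1} as (n − 2)-cycles on D, the right side computed with any nonzero rational
sections of i^*N on D. Here i : D → X is the zero scheme of a global section s of the invertible
module L (Cyc.IsZeroSchemeOf), the Gysin map i^* : Z_{k+1}(X) → CH_k(D) is computed on coefficient
functions as c_1(L) ∩ − with the rational sections taken to be s where it is nonzero
(Cyc.gysinChoice) and restricted to the points of D, and classes on D are compared up to rational
equivalence on D for the restricted dimension function. Here a pair (X, δ) satisfying Cyc.IsSetup (X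
locally Noetherian with universally catenary local rings, δ a dimension function) plays the role of
a scheme locally of finite type over a fixed base equipped with a dimension function. -/
theorem result (X D : Scheme.{u}) [IsIntegral X] (δ : X → ℤ) (hX : Cyc.IsSetup X δ) (n : ℤ) (hn : δ (genericPoint X) = n) (L : X.Modules) (hL : PicF.IsInvertible L) (s : L.presheaf.obj (Opposite.op ⊤)) (hreg : ∀ x : X, Function.Injective (fun a : X.presheaf.stalk x => a • (L.presheaf.germ ⊤ x trivial) s)) (i : D ⟶ X) [IsClosedImmersion i] (hD : Cyc.IsZeroSchemeOf i L s) (N : X.Modules) (hN : PicF.IsInvertible N) (t : Cyc.secFibre N (genericPoint X)) (ht : t ≠ 0) (w : (ξ : X) → Cyc.secFibre L ξ) (hw : ∀ ξ, w ξ ≠ 0) (u : (d : D) → Cyc.secFibre ((Scheme.Modules.pullback i).obj N) d) (hu : ∀ d, u d ≠ 0) (γ₁ γ₂ : AlgebraicCycle D ℤ) (h₁ : ∀ d : D, γ₁ d = Cyc.c1CapFun δ L (Cyc.secDivFun δ N (genericPoint X) t) (Cyc.gysinChoice L s w) (i d)) (h₂ : ⇑γ₂ = Cyc.c1CapFun (fun d => δ (i d)) ((Scheme.Modules.pullback i).obj N) (Cyc.subschemeFun (fun d => δ (i d)) (n - 1) (𝟙 D))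 u) : Cyc.RatEquiv (fun d => δ (i d)) (n - 2) γ₁ γ₂ := by
    classical
    haveI := hX.1
    let η := genericPoint X
    let α : AlgebraicCycle X ℤ :=
      { toFun := fun x => if x = η then 1 else 0
        supportWithinDomain' := by simp
        supportLocallyFiniteWithinDomain' := fun x _ => ⟨Set.univ, Filter.univ_mem,
          (Set.finite_singleton η).subset fun y hy => by
            by_contra hne
            exact hy.2 (if_neg hne)⟩ }
    have hα1 : α η = 1 := if_pos rfl
    have hα0 : ∀ ξ, ξ ≠ η → α ξ = 0 := fun ξ h => if_neg h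
    have hα : α ∈ Cyc.Zk X δ n := fun x hx => hα0 x fun h => hx (by rw [h]; exact hn)
    obtain ⟨ΦN⟩ := CycCommLib.exists_frames hN
    let v : (ξ : X) → Cyc.secFibre N ξ := Function.update ΦN.sec η t
    have hv : ∀ ξ, v ξ ≠ 0 := by
      intro ξ
      by_cases h : ξ = η
      · subst h
        show Function.update ΦN.sec η t η ≠ 0
        rw [Function.update_self]
        exact ht
      · show Function.update ΦN.sec η t ξ ≠ 0
        rw [Function.update_of_ne h]
        exact ΦN.sec_ne_zero ξ
    have hsingle : ∀ {M : X.Modules} (σ : (ξ : X) → Cyc.secFibre M ξ) (x : X),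
        Cyc.c1CapFun δ M ⇑α σ x = Cyc.secDivFun δ M η (σ η) x := by
      intro M σ x
      show ∑ᶠ ξ : X, α ξ * Cyc.secDivFun δ M ξ (σ ξ) x = _
      rw [finsum_eq_single _ η fun ξ h => by rw [hα0 ξ h, zero_mul], hα1, one_mul]
    let β := CycCommLib.secDivCyc hX hN ht
    have hβ : ⇑β = Cyc.c1CapFun δ N ⇑α v := funext fun x => by
      rw [hsingle v x]
      show Cyc.secDivFun δ N η t x = _
      rw [show v η = t from Function.update_self η t ΦN.sec]
    have hγ : Cyc.subschemeFun (fun d => δ (i d)) (n - 1) (𝟙 D) =
        fun d => Cyc.c1CapFun δ L ⇑α (Cyc.gysinChoice L s w) (i d) := by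
      funext d
      rw [hsingle]
      obtain ⟨U, e, hU, he⟩ := TwistLib.exists_genOn hL (i d)
      obtain ⟨φ, hφ⟩ := (he.genAt hU).2 (L.presheaf.germ ⊤ (i d) trivial s)
      have hker := CycGysLib.exists_zero_coef he hD hU hφ
      have hsp : η ⤳ i d := genericPoint_specializes _
      have hφ0 : φ ≠ 0 := fun h0 => zero_ne_one (hreg (i d) (by
        show (0 : X.presheaf.stalk (i d)) • _ = (1 : X.presheaf.stalk (i d)) • _
        rw [← hφ]
        show (0 : X.presheaf.stalk (i d)) • φ • L.presheaf.germ U (i d) hU e = (1 : X.presheaf.stalk (i d)) • φ • L.presheaf.germ U (i d) hU e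
        rw [h0]
        simp))
      have hne0 : CycC1Lib.fib L (L.presheaf.germ ⊤ η trivial s) ≠ 0 := by
        intro h0
        have hs : L.presheaf.germ ⊤ η trivial s = X.presheaf.stalkSpecializes hsp φ •
            L.presheaf.germ U η (hsp.mem_open U.isOpen hU) e := by
          have := congrArg (L.presheaf.stalkSpecializes hsp) hφ
          rw [CycC1Lib.stalkSpecializes_smul, TopCat.Presheaf.germ_stalkSpecializes_apply,
            TopCat.Presheaf.germ_stalkSpecializes_apply] at this
          exact this.symm
        rw [hs, CycC1Lib.fib, Submodule.Quotient.mk_smul, CycC1Lib.fib_smul_eq_zero_iff (he.genAt _)] at h0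
        exact hφ0 (CycCommLib.ratMap_injective (i d) (h0.trans (map_zero _).symm))
      have hη : η ∉ Set.range i := fun h => hne0 (hD.1.le h)
      obtain ⟨hne, hs⟩ := CycGysLib.specMap_ne_zero_of_coord he hsp hU hφ hne0
      rw [CycGysLib.gysinChoice_of_not_mem hD w hη, CycC1Lib.secDivFun_eq_divFun hX he hU _ hs]
      simp only [Cyc.subschemeFun, Cyc.divFun]
      by_cases hd : δ (i d) = n - 1
      · have hdrop : δ (i d) + 1 = δ η := by rw [hd, hn]; ring
        rw [if_pos hd, dif_pos ⟨hsp, hdrop⟩]
        refine Eq.trans ?_ (CycDivLib.ordAt_specMap hsp (CycPushLib.dimBetween_le_one_of_drop hX hsp hdrop) hne).symm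
        rw [← CycDivLib.ker_specMap, CycPushLib.ker_specMap_generic rfl, bot_sup_eq]
        refine (finsum_cond_eq_left (f := fun z : D => ((Module.length (D.presheaf.stalk z) (D.presheaf.stalk z)).toNat : ℤ))).trans ?_
        refine congrArg (fun m : ℕ∞ => (m.toNat : ℤ)) ?_
        rw [← CycPushLib.length_quot_map_surjective _ (i.stalkMap_surjective d) _ hker.le,
          show Ideal.map (i.stalkMap d).hom (Ideal.span {φ}) = ⊥ from (Ideal.map_eq_bot_iff_le_ker _).2 hker.ge]
        exact (Submodule.quotEquivOfEqBot (⊥ : Ideal (D.presheaf.stalk d)) rfl).length_eq.symm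
      · rw [if_neg hd, dif_neg]
        rintro ⟨-, h⟩
        have hn2 : δ η = n := hn
        exact hd (by omega)
    exact CycCommLib.gysin_cap hX hL hD hN α hα hw hv hu β hβ _ hγ γ₁ γ₂ h₁ h₂

end Groth.Agent.S1930
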