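import Groth.Statements.S19305
import Groth.Agent.TorusExtLib.Basic
import Groth.Agent.SemiAbLib.Lines
import Groth.Agent.SemiAbLib.GaSpec
import Groth.Agent.SemiAbLib.TorusOrGa
import Groth.Agent.AlbLib.AffineHom
import Groth.Agent.AlgSpRegLib.ImageReduced
import Groth.Agent.BigCellLib.Commute
import Groth.Agent.MultEqLib.Props
import Groth.Agent.RedRankLib.CommRel
import Groth.Agent.GrpHomLib.FlatImage

set_option autoImplicit false
set_option linter.style.haveILetI false
set_option backward.isDefEq.respectTransparency false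
set_option maxHeartbeats 400000
universe u
open CategoryTheory CategoryTheory.Limits MonoidalCategory CartesianMonoidalCategory MonObj AlgebraicGeometry
open AbSch

open scoped MonObj
open Groth.Agent
attribute [-instance] CategoryTheory.Hom.commGroup

namespace Groth.Agent.S19305

/-- A homomorphism which becomes an isomorphism over a faithfully flat base is an isomorphism. -/
theorem isIso_of_isIso_map {S S' : Scheme.{u}} (g : S' ⟶ S) [Surjective g] [Flat g] [QuasiCompact g]
    {X Y : Over S} (f : X ⟶ Y) [IsIso ((Over.pullback g).map f)] : IsIso f := by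
  let F := (Over.pullback g).map f
  have hF : F.left ≫ pullback.fst Y.hom g = pullback.fst X.hom g ≫ f.left := pullback.lift_fst _ _ _
  have hF' : F.left ≫ pullback.snd Y.hom g = pullback.snd X.hom g := Over.w F
  have big : IsPullback (pullback.fst X.hom g) (F.left ≫ pullback.snd Y.hom g) (f.left ≫ Y.hom) g := by
    rw [hF', Over.w f]
    exact IsPullback.of_hasPullback X.hom g
  have sq : IsPullback (pullback.fst X.hom g) F.left f.left (pullback.fst Y.hom g) :=
    IsPullback.of_bot big hF.symm (IsPullback.of_hasPullback Y.hom g)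
  have hQ : (@Surjective ⊓ @Flat ⊓ @QuasiCompact : MorphismProperty Scheme.{u}) (pullback.fst Y.hom g) :=
    ⟨⟨inferInstance, inferInstance⟩, inferInstance⟩
  haveI : IsIso F.left := (Over.forget _).map_isIso F
  haveI : IsIso f.left := MorphismProperty.of_isPullback_of_descendsAlong
    (P := MorphismProperty.isomorphisms Scheme.{u}) sq.flip hQ (show IsIso F.left from inferInstance)
  haveI : IsIso ((Over.forget S).map f) := ‹IsIso f.left›
  exact isIso_of_reflects_iso f (Over.forget S)

/-- Let k be an algebraically closed field, T a k-torus, A an abelian variety over k (smooth proper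
k-group scheme with connected fibres over Spec k) and E a commutative k-group scheme which is an
extension of T by A: homomorphisms A → E → T composing to the trivial map whose sequence of sheaves
of points on the big fppf site of Spec k is short exact. Then E is a connected smooth k-group
scheme, and every maximal torus T₀ of E maps onto T by an isogeny: the composite T₀ → E → T is
finite, flat and surjective (so T₀ and T have the same dimension). (The source lets E be a sheaf
extension and first shows it is a scheme; here E is taken to be a scheme.) -/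
theorem result (k : Type u) [Field k] [IsAlgClosed k] (T A E : Over (Spec (CommRingCat.of k)))
    [GrpObj T] [IsCommMonObj T] (hT : Red.IsTorus T)
    [GrpObj A] [IsCommMonObj A] [Smooth A.hom] [IsProper A.hom]
    (hA : ∀ s : Spec (CommRingCat.of k), ConnectedSpace ↥(A.hom.fiber s))
    [GrpObj E] [IsCommMonObj E]
    (u : A ⟶ E) (v : E ⟶ T) [IsMonHom u] [IsMonHom v] (w : u ≫ v = 1)
    (hex : (CGrpSh.seq Scheme.fppfPrecoverage u v w).ShortExact) :
    Smooth E.hom ∧ ConnectedSpace ↥E.left ∧
      ∀ (T₀ : Over (Spec (CommRingCat.of k))) [GrpObj T₀] (i : T₀ ⟶ E), Red.IsMaximalTorus i →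
        IsFinite (i ≫ v).left ∧ Flat (i ≫ v).left ∧ Surjective (i ≫ v).left := by
  haveI : IsAffine T.left := AlbLib.isAffine_of_isTorus hT
  haveI : LocallyOfFinitePresentation T.hom := MultEq.lfp_of_isMultTypeFT (RedRank.isMultTypeFT_of_isTorus hT)
  haveI := (AlbLib.smooth_connected_of_isTorus hT).1
  haveI := (AlbLib.smooth_connected_of_isTorus hT).2
  haveI : QuasiCompact T.hom := quasiCompact_of_compactSpace _
  obtain ⟨hsm, hqc, hconn⟩ := TorusExtLib.middle_props u v w hex hA
  obtain ⟨-, hvs, -, -⟩ := TorusExtLib.projection_props u v w hex hA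
  haveI := hsm; haveI := hqc; haveI := hconn; haveI := hvs
  refine ⟨hsm, hconn, ?_⟩
  have hk := TorusExtLib.isPullback_kernel u v w hex
  haveI : Mono u := ⟨fun a b e => hk.hom_ext e (toUnit_unique _ _)⟩
  haveI : ConnectedSpace A.left := by
    haveI : GeometricallyConnected A.hom := Groth.Agent.WeilRes.geometricallyConnected_of_grp A hA
    exact GeometricallyConnected.connectedSpace_of_subsingleton A.hom
  -- the linear part and the abelian quotient
  obtain ⟨N, _, iN, hiN, hmaxN⟩ := ChevThmLib.exists_gAff E
  obtain ⟨Q, _, q, hqm, hqf, hqs, hker, hQp, hQs, hQc⟩ := ChevThmLib.exists_chevalley iN hiN hmaxN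
  haveI := hiN.hom; haveI := hiN.closed; haveI := hiN.smooth; haveI := hiN.conn; haveI := hiN.affine
  haveI := hqm; haveI := hqf; haveI := hqs; haveI := hQp; haveI := hQs; haveI := hQc
  haveI : Mono iN := Over.mono_of_mono_left iN
  haveI : IsCommMonObj N := AntiAffLib.CommCat.isComm_of_mono iN
  haveI : QuasiCompact N.hom := quasiCompact_of_compactSpace _
  haveI : IsReduced T.left := AlgSpLib.isReduced_of_smooth T.hom
  let φ : N ⟶ T := iN ≫ v
  -- the linear part maps onto the torus
  haveI hφs : Surjective φ.left := by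
    haveI : Flat N.hom := inferInstance
    haveI : QuasiCompact φ.left := by
      haveI : QuasiCompact (φ.left ≫ T.hom) := by rw [Over.w φ]; infer_instance
      exact QuasiCompact.of_comp φ.left T.hom
    obtain ⟨C, _, p, i, hp, hi, hpi, -, hps, -, hic⟩ :=
      Groth.Agent.GrpHom.exists_fppf_image φ (Groth.Agent.GrpField.flat_field _)
    haveI := hi; haveI := hic; haveI := hps
    have hn : AlgGrp.IsNormalHom i := fun Z g n => ⟨n, by
      letI : CommGroup (Z ⟶ T) := Hom.commGroup
      exact mul_inv_cancel_comm g (n ≫ i)⟩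
    obtain ⟨P, _, π, hPa, hπm, hπ⟩ := AntiAffLib.exists_affine_kernel i hn
    haveI := hPa; haveI := hπm
    haveI := AntiAffLib.lfp_of_lft q
    obtain ⟨y, hy, hym⟩ := AntiAffLib.CommCat.exists_descend q (v ≫ π) fun Z a ha => by
      obtain ⟨l, hl⟩ := AntiAffLib.exists_lift_kernel hker a ha
      rw [← hl, ← Category.assoc, Category.assoc l]
      exact (hπ _ _).2 ⟨l ≫ p, by rw [Category.assoc, hpi]⟩
    haveI := hym
    haveI : IsReduced Q.left := AlgSpLib.isReduced_of_smooth Q.hom
    haveI := AntiAffLib.antiAff_of_universallyClosed Q η[Q]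
    have hy1 : y = 1 := AntiAffLib.comp_eq_one y (IsMonHom.one_hom y)
    obtain ⟨l, hl⟩ := (hπ E v).1 (by rw [← hy, hy1, MonObj.comp_one])
    haveI : Surjective (l.left ≫ i.left) := by rw [← Over.comp_left, hl]; infer_instance
    haveI : Surjective i.left := Surjective.of_comp l.left i.left
    rw [← hpi, Over.comp_left]
    infer_instance
  haveI hφf : Flat φ.left := AntiAffLib.flat_of_surjective φ
  -- with finite kernel
  haveI hφfin : IsFinite φ.left := by
    let K := pullback iN u
    let κ : K ⟶ N := pullback.fst _ _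
    have hkK : IsPullback κ (toUnit K) φ η[T] :=
      (toUnit_unique (pullback.snd iN u ≫ toUnit A) (toUnit K)) ▸
        (IsPullback.of_hasPullback iN u).paste_vert hk
    have sq := (TorusExtLib.isPullback_trans κ φ hkK φ (𝟙 N) (Category.id_comp φ)).map (Over.forget _)
    have sK : IsPullback (pullback.snd iN u).left κ.left u.left iN.left :=
      ((IsPullback.of_hasPullback iN u).map (Over.forget _)).flip
    haveI : IsClosedImmersion (pullback.snd iN u).left := MorphismProperty.of_isPullback sK.flip hiN.closed
    haveI : UniversallyClosed K.hom := by rw [← Over.w (pullback.snd iN u)]; infer_instance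
    haveI : UniversallyClosed (snd K N).left := inferInstanceAs (UniversallyClosed (pullback.snd K.hom N.hom))
    haveI := AntiAffLib.lfp_of_lft φ
    have hQ : (@Surjective ⊓ @Flat ⊓ @LocallyOfFinitePresentation : MorphismProperty Scheme.{u}) φ.left :=
      ⟨⟨hφs, hφf⟩, inferInstance⟩
    haveI : UniversallyClosed φ.left := MorphismProperty.of_isPullback_of_descendsAlong
      (P := @UniversallyClosed) sq.flip hQ (show UniversallyClosed (snd K N).left from inferInstance)
    haveI : IsAffineHom φ.left := inferInstance
    haveI : IsIntegralHom φ.left := IsIntegralHom.iff_universallyClosed_and_isAffineHom.2 ⟨inferInstance, inferInstance⟩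
    exact (IsFinite.iff_isIntegralHom_and_locallyOfFiniteType φ.left).2 ⟨inferInstance, inferInstance⟩
  -- the linear part is a torus
  have hN : Red.IsTorus N := by
    rcases SemiAbLib.isTorus_or_exists_ga N with h | ⟨j, hj, hjc⟩
    · exact h
    exfalso
    haveI := hj; haveI := hjc
    haveI : Mono j := Over.mono_of_mono_left j
    haveI : Smooth (Red.Ga (Spec (CommRingCat.of k))).hom := BigCell.smooth_Ga _
    haveI : ConnectedSpace (Red.Ga (Spec (CommRingCat.of k))).left := BigCell.connectedSpace_Ga k
    haveI : IsAffine (Red.Ga (Spec (CommRingCat.of k))).left := by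
      haveI : IsIso (SemiAbLib.toGa k).left := (Over.forget _).map_isIso (SemiAbLib.toGa k)
      haveI : IsAffine (CoactBr.sp k (SymmetricAlgebra k k)).left :=
        inferInstanceAs (IsAffine (Spec (CommRingCat.of (SymmetricAlgebra k k))))
      exact IsAffine.of_isIso (inv (SemiAbLib.toGa k).left)
    haveI : IsProper (𝟙_ (Over (Spec (CommRingCat.of k)))).hom :=
      inferInstanceAs (IsProper (𝟙 (Spec (CommRingCat.of k))))
    haveI : Smooth (𝟙_ (Over (Spec (CommRingCat.of k)))).hom :=
      inferInstanceAs (Smooth (𝟙 (Spec (CommRingCat.of k))))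
    haveI : ConnectedSpace ↥(𝟙_ (Over (Spec (CommRingCat.of k)))).left :=
      inferInstanceAs (ConnectedSpace (PrimeSpectrum k))
    haveI : Surjective (toUnit T).left := AntiAffLib.toUnit_left T ▸ ⟨fun z => ⟨Classical.arbitrary _,
      Subsingleton.elim (α := PrimeSpectrum k) _ _⟩⟩
    haveI : Flat (toUnit T).left := AntiAffLib.toUnit_left T ▸ inferInstance
    haveI : IsIso η[𝟙_ (Over (Spec (CommRingCat.of k)))] := ⟨𝟙 _, toUnit_unique _ _, toUnit_unique _ _⟩
    have hTs : SemiAbLib.IsSemiAb T :=
      ⟨T, inferInstance, 𝟙 T, 𝟙_ _, inferInstance, toUnit T, inferInstance, inferInstanceAs (IsClosedImmersion (𝟙 T.left)),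
        hT, inferInstance, inferInstance, inferInstance,
        IsPullback.of_horiz_isIso ⟨toUnit_unique _ _⟩, inferInstance, inferInstance, inferInstance⟩
    have h1 : (j ≫ iN) ≫ v = 1 := by rw [Category.assoc]; exact hTs.eq_one_of_ga (j ≫ φ)
    obtain ⟨a, ha⟩ : ∃ a, a ≫ u = j ≫ iN :=
      ⟨hk.lift (j ≫ iN) (toUnit _) (h1.trans Hom.one_def), hk.lift_fst _ _ _⟩
    haveI : IsMonHom (a ≫ u) := by rw [ha]; infer_instance
    haveI : IsMonHom a :=
      { one_hom := by rw [← cancel_mono u, Category.assoc, IsMonHom.one_hom (a ≫ u), IsMonHom.one_hom u]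
        mul_hom := by
          rw [← cancel_mono u, Category.assoc, IsMonHom.mul_hom (a ≫ u), Category.assoc, IsMonHom.mul_hom u,
            MonoidalCategory.tensorHom_comp_tensorHom_assoc] }
    have hj1 : j = 1 := by
      rw [← cancel_mono iN, ← ha, AlbLib.eq_one_of_affine a, MonObj.one_comp, MonObj.one_comp]
    have hx : GaPts.ptOf (S := Spec (CommRingCat.of k)) (T := 𝟙_ _) 1 = 1 := by
      rw [← cancel_mono j, hj1, MonObj.comp_one, MonObj.comp_one]
    have h01 := congrArg Red.gaFn hx
    rw [GaPts.gaFn_ptOf, GaPts.gaFn_one] at h01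
    haveI : Nontrivial Γ((𝟙_ (Over (Spec (CommRingCat.of k)))).left, ⊤) :=
      (Scheme.ΓSpecIso (CommRingCat.of k)).commRingCatIsoToRingEquiv.toEquiv.nontrivial
    exact one_ne_zero h01
  intro T₀ _ i₀ hi₀
  obtain ⟨hi₀m, hi₀mono, hT₀, hmax⟩ := hi₀
  haveI := hi₀m; haveI := hi₀mono
  haveI : LocallyOfFinitePresentation T₀.hom := MultEq.lfp_of_isMultTypeFT (RedRank.isMultTypeFT_of_isTorus hT₀)
  haveI := (AlbLib.smooth_connected_of_isTorus hT₀).1
  haveI := (AlbLib.smooth_connected_of_isTorus hT₀).2
  haveI : IsAffine T₀.left := AlbLib.isAffine_of_isTorus hT₀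
  obtain ⟨f, hf⟩ := AntiAffLib.exists_lift_kernel hker i₀ (AlbLib.eq_one_of_affine (i₀ ≫ q))
  haveI : IsIso f := by
    let s : ↥(Spec (CommRingCat.of k)) := IsLocalRing.closedPoint k
    let π := Red.geomPt s
    haveI : Surjective π := ⟨fun z => ⟨Classical.arbitrary _, Subsingleton.elim (α := PrimeSpectrum k) _ _⟩⟩
    haveI : Flat π := Groth.Agent.GrpField.flat_field _
    haveI : QuasiCompact π := quasiCompact_of_compactSpace _
    haveI : Mono ((Over.pullback π).map iN) := inferInstance
    haveI : IsIso ((Over.pullback π).map f) := hmax s (Red.bc π N) ((Over.pullback π).map iN) ((Over.pullback π).map f)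
      (RedRank.isTorus_bc hN π) (by rw [← Functor.map_comp, hf])
    exact isIso_of_isIso_map π f
  haveI : IsIso f.left := (Over.forget _).map_isIso f
  have e : (i₀ ≫ v).left = f.left ≫ φ.left := by rw [← hf, Category.assoc]; rfl
  rw [e]
  exact ⟨inferInstance, inferInstance, inferInstance⟩

end Groth.Agent.S19305
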