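import Groth.Statements.S19306
import Mathlib

-- import your own Groth.Agent.* helpers here

set_option autoImplicit false
universe u
open PowerSeries
open CAlg

namespace Groth.Agent.S19306

open scoped TensorProduct

theorem mem_span_of_coeff {R : Type u} [CommRing R] {t : ℕ} (g : Fin t → R) (I : Ideal R)
    (hI : I = Ideal.span (Set.range g)) (w : R⟦X⟧) (hw : ∀ i, coeff i w ∈ I) :
    ∃ u : Fin t → R⟦X⟧, w = ∑ j, g j • u j := by
  have h : ∀ i, ∃ c : Fin t → R, ∑ j, c j • g j = coeff i w := fun i =>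
    (Submodule.mem_span_range_iff_exists_fun R).1 (by have := hw i; rwa [hI] at this)
  choose c hc using h
  refine ⟨fun j => PowerSeries.mk fun i => c i j, ?_⟩
  ext i
  rw [map_sum, ← hc i]
  refine Finset.sum_congr rfl fun j _ => ?_
  simp [mul_comm]

theorem coeff_mem {R : Type u} [CommRing R] (M : ℕ) (I : Ideal R) (w : R⟦X⟧)
    (hw : ∀ i, coeff i ((X : R⟦X⟧) ^ M * w) ∈ I) (i : ℕ) : coeff i w ∈ I := by
  have := hw (i + M); rwa [coeff_X_pow_mul] at this

/-- projective ⇒ I-purity for lattices -/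
theorem inter_mem {R : Type u} [CommRing R] (n M : ℕ) (Λ : Submodule R⟦X⟧ (Fin n → R⟦X⟧))
    (hΛ : ∀ v : Fin n → R⟦X⟧, ((PowerSeries.X : R⟦X⟧) ^ M) • v ∈ Λ)
    [Module.Finite R⟦X⟧ Λ] [Module.Projective R⟦X⟧ Λ]
    (I : Ideal R) (hfg : I.FG) (w : Fin n → R⟦X⟧) (hw : w ∈ Λ) (hwI : ∀ j i, coeff i (w j) ∈ I) :
    w ∈ I • Λ.restrictScalars R := by
  classical
  obtain ⟨t, g, hg⟩ := Submodule.fg_iff_exists_fin_generating_family.1 hfg
  have hI : I = Ideal.span (Set.range g) := hg.symm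
  choose u hu using fun j => mem_span_of_coeff g I hI (w j) (hwI j)
  obtain ⟨m, s, e, -, -, hse⟩ := Module.Finite.exists_comp_eq_id_of_projective R⟦X⟧ Λ
  let wΛ : Λ := ⟨w, hw⟩
  let U : Fin t → Λ := fun l => ⟨_, hΛ (fun j => u j l)⟩
  have hX : ((X : R⟦X⟧) ^ M) • wΛ = ∑ l, (C (g l)) • U l := by
    apply Subtype.ext
    funext j
    simp only [SetLike.val_smul, Pi.smul_apply, smul_eq_mul, wΛ, U, Submodule.coe_sum, Finset.sum_apply]
    rw [hu j, Finset.mul_sum]
    refine Finset.sum_congr rfl fun l _ => ?_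
    rw [smul_eq_C_mul]; ring
  have hcoef : ∀ k i, coeff i (e wΛ k) ∈ I := by
    intro k
    apply coeff_mem M I
    intro i
    have : (X : R⟦X⟧) ^ M * e wΛ k = ∑ l, C (g l) * e (U l) k := by
      have h2 := congrArg (fun z => e z k) hX
      simpa [map_sum, Finset.sum_apply] using h2
    rw [this, map_sum]
    refine Submodule.sum_mem _ fun l _ => ?_
    rw [coeff_C_mul, hI]
    exact Ideal.mul_mem_right _ _ (Ideal.subset_span ⟨l, rfl⟩)
  choose z hz using fun k => mem_span_of_coeff g I hI (e wΛ k) (hcoef k)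
  have h3 : wΛ = ∑ l, (C (g l)) • s (fun k => z k l) := by
    have h4 : e wΛ = ∑ l, (C (g l)) • (fun k => z k l) := by
      funext k
      rw [hz k, Finset.sum_apply]
      refine Finset.sum_congr rfl fun l _ => ?_
      simp [smul_eq_C_mul]
    rw [← LinearMap.id_apply (R := R⟦X⟧) wΛ, ← hse, LinearMap.comp_apply, h4, map_sum]
    simp
  have h5 : w = ∑ l, (g l) • (s (fun k => z k l) : Fin n → R⟦X⟧) := by
    have h6 := congrArg Subtype.val h3
    simp only [wΛ, Submodule.coe_sum, SetLike.val_smul] at h6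
    refine h6.trans (Finset.sum_congr rfl fun l _ => ?_)
    funext j; simp [smul_eq_C_mul]
  rw [h5]
  refine Submodule.sum_mem _ fun l _ => Submodule.smul_mem_smul ?_ (s (fun k => z k l)).2
  rw [hI]; exact Ideal.subset_span ⟨l, rfl⟩

noncomputable def sig (R : Type u) [CommRing R] (n M : ℕ) :
    (Fin n → Fin M → R) →ₗ[R] (Fin n → R⟦X⟧) where
  toFun c := fun j => PowerSeries.mk fun i => if h : i < M then c j ⟨i, h⟩ else 0
  map_add' a b := by funext j; ext i; simp; split <;> simp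
  map_smul' r a := by funext j; ext i; simp

noncomputable def tau (R : Type u) [CommRing R] (n M : ℕ) :
    (Fin n → R⟦X⟧) →ₗ[R] (Fin n → Fin M → R) where
  toFun v := fun j i => coeff (i : ℕ) (v j)
  map_add' a b := by funext j i; simp
  map_smul' r a := by funext j i; simp

theorem tau_sig {R : Type u} [CommRing R] (n M : ℕ) (c : Fin n → Fin M → R) :
    tau R n M (sig R n M c) = c := by
  funext j i; simp [tau, sig]

theorem tau_Xpow {R : Type u} [CommRing R] (n M : ℕ) (v : Fin n → R⟦X⟧) :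
    tau R n M (((X : R⟦X⟧) ^ M) • v) = 0 := by
  funext j i
  show coeff (i : ℕ) ((X : R⟦X⟧) ^ M * v j) = 0
  rw [coeff_X_pow_mul']; simp [i.2]

theorem sub_sig_tau {R : Type u} [CommRing R] (n M : ℕ) (v : Fin n → R⟦X⟧) :
    ∃ f : Fin n → R⟦X⟧, v - sig R n M (tau R n M v) = ((X : R⟦X⟧) ^ M) • f := by
  refine ⟨fun j => PowerSeries.mk fun i => coeff (i + M) (v j), ?_⟩
  funext j; ext i
  simp only [Pi.sub_apply, Pi.smul_apply, smul_eq_mul, map_sub, sig, tau, LinearMap.coe_mk,
    AddHom.coe_mk, coeff_mk, coeff_X_pow_mul']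
  by_cases h : i < M
  · simp [h, not_le.2 h]
  · push_neg at h
    simp [not_lt.2 h, h, Nat.sub_add_cancel h]

theorem proj_quot {R : Type u} [CommRing R] (n M : ℕ) (Λ : Submodule R⟦X⟧ (Fin n → R⟦X⟧))
    (hΛ : ∀ v : Fin n → R⟦X⟧, ((PowerSeries.X : R⟦X⟧) ^ M) • v ∈ Λ)
    [Module.Finite R⟦X⟧ Λ] [Module.Projective R⟦X⟧ Λ] :
    Module.Projective R ((Fin n → R⟦X⟧) ⧸ Λ) := by
  classical
  let p : (Fin n → Fin M → R) →ₗ[R] ((Fin n → R⟦X⟧) ⧸ Λ) := (Λ.mkQ.restrictScalars R) ∘ₗ sig R n M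
  have hp : Function.Surjective p := by
    intro q; obtain ⟨v, rfl⟩ := Submodule.mkQ_surjective _ q
    refine ⟨tau R n M v, ((Submodule.Quotient.eq Λ).2 ?_).symm⟩
    obtain ⟨f, hf⟩ := sub_sig_tau n M v
    rw [hf]; exact hΛ f
  have hker : LinearMap.ker p = (Λ.restrictScalars R).map (tau R n M) := by
    ext c
    constructor
    · intro hc
      exact ⟨sig R n M c, (Submodule.Quotient.mk_eq_zero Λ).1 hc, tau_sig n M c⟩
    · rintro ⟨v, hv, rfl⟩
      apply (Submodule.Quotient.mk_eq_zero Λ).2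
      obtain ⟨f, hf⟩ := sub_sig_tau n M v
      have h := Λ.sub_mem hv (hΛ f)
      rwa [← hf, sub_sub_cancel] at h
  have hfgker : (LinearMap.ker p).FG := by
    rw [hker]
    obtain ⟨m, gen, hgen⟩ := Module.Finite.exists_fin (R := R⟦X⟧) (M := Λ)
    refine Submodule.fg_def.2 ⟨Set.range (fun q : Fin m × Fin M => tau R n M (((X : R⟦X⟧) ^ (q.2 : ℕ)) • (gen q.1 : Fin n → R⟦X⟧))), Set.finite_range _, le_antisymm ?_ ?_⟩
    · rw [Submodule.span_le]
      rintro _ ⟨q, rfl⟩
      exact Submodule.mem_map_of_mem (f := tau R n M) (Λ.smul_mem _ (gen q.1).2)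
    · rintro _ ⟨v, hv, rfl⟩
      have hv' : (⟨v, hv⟩ : Λ) ∈ Submodule.span R⟦X⟧ (Set.range gen) := by rw [hgen]; trivial
      obtain ⟨a, ha⟩ := (Submodule.mem_span_range_iff_exists_fun _).1 hv'
      have hva : v = ∑ l, a l • (gen l : Fin n → R⟦X⟧) := by
        have := congrArg Subtype.val ha
        simpa using this.symm
      rw [hva, map_sum]
      refine Submodule.sum_mem _ fun l _ => ?_
      have hal : tau R n M (a l • (gen l : Fin n → R⟦X⟧)) = ∑ i : Fin M, coeff (i : ℕ) (a l) • tau R n M (((X : R⟦X⟧) ^ (i : ℕ)) • (gen l : Fin n → R⟦X⟧)) := by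
        funext j k
        simp only [Finset.sum_apply, Pi.smul_apply, smul_eq_mul, tau, LinearMap.coe_mk, AddHom.coe_mk, coeff_X_pow_mul']
        rw [coeff_mul, Finset.Nat.sum_antidiagonal_eq_sum_range_succ
          (fun x y => coeff x (a l) * coeff y ((gen l : Fin n → R⟦X⟧) j))]
        rw [Fin.sum_univ_eq_sum_range (fun x => coeff x (a l) * if x ≤ (k : ℕ) then coeff ((k : ℕ) - x) ((gen l : Fin n → R⟦X⟧) j) else 0) M]
        refine Finset.sum_subset_zero_on_sdiff ?_ ?_ ?_
        · intro x hx; simp at hx ⊢; omega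
        · intro x hx; simp at hx; rw [if_neg (by omega), mul_zero]
        · intro x hx; simp at hx; rw [if_pos (by omega)]
      rw [hal]
      exact Submodule.sum_mem _ fun i _ => Submodule.smul_mem _ _ (Submodule.subset_span ⟨(l, i), rfl⟩)
  have : Module.FinitePresentation R ((Fin n → R⟦X⟧) ⧸ Λ) :=
    Module.finitePresentation_of_surjective p hp hfgker
  have : Module.Flat R ((Fin n → R⟦X⟧) ⧸ Λ) := by
    rw [Module.Flat.iff_lift_lsmul_comp_subtype_injective]
    intro I hI
    rw [injective_iff_map_eq_zero]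
    intro x hx
    obtain ⟨y, rfl⟩ := LinearMap.lTensor_surjective I hp x
    let μ : I ⊗[R] (Fin n → Fin M → R) →ₗ[R] (Fin n → Fin M → R) :=
      TensorProduct.lift ((LinearMap.lsmul R _).comp I.subtype)
    have hμp : ∀ y, p (μ y) = TensorProduct.lift ((LinearMap.lsmul R _).comp I.subtype) (LinearMap.lTensor I p y) := by
      intro y
      induction y using TensorProduct.induction_on with
      | zero => simp
      | tmul a b => simp [μ]
      | add a b ha hb => simp [ha, hb]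
    have hμinj : Function.Injective μ := (Module.Flat.iff_lift_lsmul_comp_subtype_injective).1 inferInstance hI
    have hc : μ y ∈ LinearMap.ker p := by rw [LinearMap.mem_ker, hμp]; exact hx
    have hμI : ∀ y, μ y ∈ I • (⊤ : Submodule R (Fin n → Fin M → R)) := by
      intro y
      induction y using TensorProduct.induction_on with
      | zero => simp
      | tmul a b => simpa [μ] using Submodule.smul_mem_smul a.2 (Submodule.mem_top (x := b))
      | add a b ha hb => rw [map_add]; exact Submodule.add_mem _ ha hb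
    have hcoef : ∀ j i, μ y j i ∈ I := by
      intro j i
      refine Submodule.smul_induction_on (hμI y) ?_ ?_
      · intro r hr v _; exact I.mul_mem_right _ hr
      · intro a b ha hb; exact I.add_mem ha hb
    have hsigΛ : sig R n M (μ y) ∈ Λ := (Submodule.Quotient.mk_eq_zero Λ).1 hc
    have hin := inter_mem n M Λ hΛ I hI _ hsigΛ (fun j i => by
      show coeff i (PowerSeries.mk fun i => if h : i < M then μ y j ⟨i, h⟩ else 0) ∈ I
      rw [coeff_mk]; split
      · exact hcoef _ _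
      · exact I.zero_mem)
    have hcker : μ y ∈ I • LinearMap.ker p := by
      rw [hker, ← Submodule.map_smul'']
      exact ⟨_, hin, tau_sig n M (μ y)⟩
    have hz : ∃ z : I ⊗[R] LinearMap.ker p, μ (LinearMap.lTensor I (LinearMap.ker p).subtype z) = μ y := by
      refine Submodule.smul_induction_on (p := fun v => ∃ z : I ⊗[R] LinearMap.ker p, μ (LinearMap.lTensor I (LinearMap.ker p).subtype z) = v) hcker ?_ ?_
      · intro r hr v hv; exact ⟨⟨r, hr⟩ ⊗ₜ ⟨v, hv⟩, by simp [μ]⟩
      · rintro a b ⟨za, ha⟩ ⟨zb, hb⟩; exact ⟨za + zb, by simp [ha, hb]⟩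
    obtain ⟨z, hz⟩ := hz
    rw [← hμinj hz, ← LinearMap.comp_apply, ← LinearMap.lTensor_comp, LinearMap.comp_ker_subtype]
    simp
  exact Module.Flat.projective_of_finitePresentation

theorem proj_sub {R : Type u} [CommRing R] (n M : ℕ) (Λ : Submodule R⟦X⟧ (Fin n → R⟦X⟧))
    (hΛ : ∀ v : Fin n → R⟦X⟧, ((PowerSeries.X : R⟦X⟧) ^ M) • v ∈ Λ)
    [Module.Projective R ((Fin n → R⟦X⟧) ⧸ Λ)] :
    Module.Finite R⟦X⟧ Λ ∧ Module.Projective R⟦X⟧ Λ := by
  classical
  have : Module.Finite R ((Fin n → R⟦X⟧) ⧸ Λ) := by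
    refine Module.Finite.of_surjective ((Λ.mkQ.restrictScalars R) ∘ₗ sig R n M) fun q => ?_
    obtain ⟨v, rfl⟩ := Submodule.mkQ_surjective _ q
    refine ⟨tau R n M v, ((Submodule.Quotient.eq Λ).2 ?_).symm⟩
    obtain ⟨f, hf⟩ := sub_sig_tau n M v
    rw [hf]; exact hΛ f
  let Q := (Fin n → R⟦X⟧) ⧸ Λ
  let P := R⟦X⟧ ⊗[R] Q
  have hP : Module.Projective R⟦X⟧ P := inferInstance
  have hPfin : Module.Finite R⟦X⟧ P := inferInstance
  let φ : Q →ₗ[R] Q := ((LinearMap.lsmul R⟦X⟧ Q) (X : R⟦X⟧)).restrictScalars R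
  let ψ : P →ₗ[R⟦X⟧] P := (X : R⟦X⟧) • LinearMap.id - φ.baseChange R⟦X⟧
  let π' : P →ₗ[R⟦X⟧] Q := LinearMap.liftBaseChange R⟦X⟧ (LinearMap.id : Q →ₗ[R] Q)
  have hπ' : ∀ a q, π' (a ⊗ₜ[R] q) = a • q := fun a q => by
    show LinearMap.liftBaseChange R⟦X⟧ (LinearMap.id : Q →ₗ[R] Q) (a ⊗ₜ[R] q) = _
    rw [LinearMap.liftBaseChange_tmul]; rfl
  have hkill : ∀ q : Q, ((X : R⟦X⟧) ^ M) • q = 0 := by
    intro q; obtain ⟨v, rfl⟩ := Submodule.mkQ_surjective _ q
    exact (Submodule.Quotient.mk_eq_zero Λ).2 (hΛ v)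
  have hφ : ∀ (i : ℕ) (q : Q), (φ ^ i) q = ((X : R⟦X⟧) ^ i) • q := by
    intro i; induction i with
    | zero => intro q; simp
    | succ i ih => intro q; rw [pow_succ', Module.End.mul_apply, ih]; simp [φ, smul_smul, pow_succ, mul_comm]
  have hψ : ∀ a q, ψ (a ⊗ₜ[R] q) = ((X : R⟦X⟧) * a) ⊗ₜ[R] q - a ⊗ₜ[R] φ q := fun a q => by
    show (X : R⟦X⟧) • (a ⊗ₜ[R] q) - φ.baseChange R⟦X⟧ (a ⊗ₜ[R] q) = _
    rw [TensorProduct.smul_tmul', smul_eq_mul, LinearMap.baseChange_tmul]
  have hψinj : Function.Injective ψ := by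
    rw [injective_iff_map_eq_zero]
    intro z hz
    have hz1 : (X : R⟦X⟧) • z = φ.baseChange R⟦X⟧ z := by
      simpa [ψ, sub_eq_zero] using hz
    have hz2 : ∀ i, ((X : R⟦X⟧) ^ i) • z = ((φ ^ i).baseChange R⟦X⟧) z := by
      intro i; induction i with
      | zero => simp [Module.End.one_eq_id]
      | succ i ih =>
        rw [pow_succ, mul_smul, hz1, ← LinearMap.map_smul, ih, pow_succ',
          Module.End.mul_eq_comp, LinearMap.baseChange_comp, LinearMap.comp_apply]
    have hz3 : ((X : R⟦X⟧) ^ M) • z = 0 := by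
      rw [hz2 M, show φ ^ M = 0 from LinearMap.ext fun q => by rw [hφ, hkill]; rfl]
      simp
    obtain ⟨m, s, e, -, he, -⟩ := Module.Finite.exists_comp_eq_id_of_projective R⟦X⟧ P
    apply he
    rw [map_zero]
    funext k
    have h4 := congrArg (fun w => e w k) hz3
    simp only [map_smul, Pi.smul_apply, smul_eq_mul, map_zero, Pi.zero_apply] at h4
    ext i
    have h5 := congrArg (coeff (i + M)) h4
    simpa [coeff_X_pow_mul] using h5
  have hker : ∀ z, π' z = 0 → z ∈ LinearMap.range ψ := by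
    have h1 : ∀ z, z - (1 : R⟦X⟧) ⊗ₜ[R] (π' z) ∈ LinearMap.range ψ := by
      have hi : ∀ (i : ℕ) (q : Q), ((X : R⟦X⟧) ^ i) ⊗ₜ[R] q - (1 : R⟦X⟧) ⊗ₜ[R] (((X : R⟦X⟧) ^ i) • q) ∈ LinearMap.range ψ := by
        intro i; induction i with
        | zero => intro q; simp
        | succ i ih =>
          intro q
          have h := Submodule.add_mem _ (LinearMap.mem_range_self ψ (((X : R⟦X⟧) ^ i) ⊗ₜ[R] q)) (ih (φ q))
          rw [hψ, sub_add_sub_cancel] at h
          have e1 : ((X : R⟦X⟧) ^ i) • φ q = ((X : R⟦X⟧) ^ (i + 1)) • q := by simp [φ, smul_smul, pow_succ]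
          rw [← pow_succ', e1] at h
          exact h
      have hM : ∀ (a : R⟦X⟧) (q : Q), ((X : R⟦X⟧) ^ M * a) ⊗ₜ[R] q ∈ LinearMap.range ψ := by
        intro a q
        have h := Submodule.smul_mem _ a (hi M q)
        rw [hkill, TensorProduct.tmul_zero, sub_zero, TensorProduct.smul_tmul', smul_eq_mul, mul_comm] at h
        exact h
      intro z
      induction z using TensorProduct.induction_on with
      | zero => simp
      | tmul a q =>
        have ha : ∃ b, a = (∑ i ∈ Finset.range M, C (coeff i a) * X ^ i) + X ^ M * b := by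
          refine ⟨PowerSeries.mk fun i => coeff (i + M) a, ?_⟩
          ext i
          simp only [map_add, map_sum, coeff_C_mul, coeff_X_pow, mul_ite, mul_one, mul_zero,
            Finset.sum_ite_eq, Finset.mem_range, coeff_X_pow_mul', coeff_mk]
          by_cases h : i < M
          · simp [h, not_le.2 h]
          · push_neg at h
            simp [not_lt.2 h, h, Nat.sub_add_cancel h]
        obtain ⟨b, hb⟩ := ha
        have key : a • q = ∑ i ∈ Finset.range M, coeff i a • (((X : R⟦X⟧) ^ i) • q) := by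
          conv_lhs => rw [hb]
          rw [add_smul, mul_comm _ b, mul_smul, hkill, smul_zero, add_zero, Finset.sum_smul]
          refine Finset.sum_congr rfl fun i _ => ?_
          rw [← smul_eq_C_mul, smul_assoc]
        rw [hπ', key]
        conv => arg 2; arg 1; rw [hb]
        rw [TensorProduct.add_tmul, TensorProduct.sum_tmul, TensorProduct.tmul_sum, add_sub_right_comm,
          ← Finset.sum_sub_distrib]
        refine Submodule.add_mem _ (Submodule.sum_mem _ fun i _ => ?_) (hM b q)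
        rw [← smul_eq_C_mul, TensorProduct.tmul_smul, ← TensorProduct.smul_tmul']
        have h9 := Submodule.smul_of_tower_mem (LinearMap.range ψ) (coeff i a) (hi i q)
        rw [smul_sub] at h9
        exact h9
      | add a b ha hb => rw [map_add, TensorProduct.tmul_add, add_sub_add_comm]; exact Submodule.add_mem _ ha hb
    intro z hz
    have := h1 z; rwa [hz, TensorProduct.tmul_zero, sub_zero] at this
  let b := Pi.basisFun R⟦X⟧ (Fin n)
  let h : (Fin n → R⟦X⟧) →ₗ[R⟦X⟧] P := b.constr R⟦X⟧ fun j => (1 : R⟦X⟧) ⊗ₜ[R] Λ.mkQ (b j)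
  have hh : π' ∘ₗ h = Λ.mkQ := b.ext fun j => by
    show π' (h (b j)) = _
    rw [show h (b j) = (1 : R⟦X⟧) ⊗ₜ[R] Λ.mkQ (b j) from b.constr_basis _ _ j, hπ', one_smul]
  obtain ⟨s, hs⟩ := Module.projective_lifting_property ((Λ.mkQ).restrictScalars R) (LinearMap.id : Q →ₗ[R] Q) (Submodule.mkQ_surjective Λ)
  let Φ : P →ₗ[R⟦X⟧] (Fin n → R⟦X⟧) := LinearMap.liftBaseChange R⟦X⟧ s
  have hΦ : Λ.mkQ ∘ₗ Φ = π' := by
    ext q
    have := LinearMap.congr_fun hs q
    simpa [Φ, π'] using this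
  have hπψ : ∀ z, π' (ψ z) = 0 := by
    intro z
    induction z using TensorProduct.induction_on with
    | zero => simp
    | tmul a q =>
      rw [hψ, map_sub, hπ', hπ', sub_eq_zero]
      simp [φ, smul_smul, mul_comm]
    | add a b ha hb => simp [ha, hb]
  let e := LinearEquiv.ofInjective ψ hψinj
  have hmem : ∀ v : Λ, h v ∈ LinearMap.range ψ := fun v => hker _ (by
    rw [← LinearMap.comp_apply, hh]; exact (Submodule.Quotient.mk_eq_zero Λ).2 v.2)
  let u : Λ →ₗ[R⟦X⟧] P := e.symm.toLinearMap ∘ₗ LinearMap.codRestrict _ (h ∘ₗ Λ.subtype) hmem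
  have hu : ∀ v : Λ, ψ (u v) = h v := fun v => by
    have := congrArg Subtype.val (e.apply_symm_apply ⟨h v, hmem v⟩)
    exact this
  let r : (Fin n → R⟦X⟧) × P →ₗ[R⟦X⟧] Λ := LinearMap.codRestrict Λ
    ((LinearMap.id - Φ ∘ₗ h) ∘ₗ LinearMap.fst _ _ _ + (Φ ∘ₗ ψ) ∘ₗ LinearMap.snd _ _ _) (fun w => by
      apply (Submodule.Quotient.mk_eq_zero Λ).1
      show Λ.mkQ ((w.1 - Φ (h w.1)) + Φ (ψ w.2)) = 0
      rw [map_add, map_sub, ← LinearMap.comp_apply Λ.mkQ Φ, ← LinearMap.comp_apply Λ.mkQ Φ, hΦ,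
        ← LinearMap.comp_apply π' h, hh, hπψ]
      rw [sub_self, zero_add])
  have hri : r ∘ₗ (LinearMap.prod Λ.subtype u) = LinearMap.id := by
    apply LinearMap.ext
    intro v; apply Subtype.ext
    simp [r, hu]
  exact ⟨Module.Finite.of_surjective r fun v => ⟨_, LinearMap.congr_fun hri v⟩, Module.Projective.of_split _ r hri⟩

/-- Let k be a field, R a commutative k-algebra, n, M natural numbers and Λ an R⟦X⟧-submodule of the
free module R⟦X⟧^n with X^M · R⟦X⟧^n ⊆ Λ. Then Λ is a finitely generated projective R⟦X⟧-module if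
and only if the quotient R⟦X⟧^n / Λ is projective as an R-module. (The published statement
identifies, functorially in R, the families of lattices between t^N Λ₀ and t^{-N} Λ₀ in R((t))^n, Λ₀
the standard lattice, with the R⟦t⟧-submodules in that range whose quotient t^{-N} Λ₀ / Λ is
R-projective; after multiplying by t^N this is the pointwise statement here, with 2N replaced by any
exponent M; a submodule containing X^M · R⟦X⟧^n automatically spans R((X))^n.) -/
theorem result
    (k : Type u) [Field k] (R : Type u) [CommRing R] [Algebra k R] (n M : ℕ)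
    (Λ : Submodule R⟦X⟧ (Fin n → R⟦X⟧))
    (hΛ : ∀ v : Fin n → R⟦X⟧, ((PowerSeries.X : R⟦X⟧) ^ M) • v ∈ Λ) :
    (Module.Finite R⟦X⟧ Λ ∧ Module.Projective R⟦X⟧ Λ) ↔
      Module.Projective R ((Fin n → R⟦X⟧) ⧸ Λ) := by
  constructor
  · rintro ⟨h1, h2⟩
    exact proj_quot n M Λ hΛ
  · intro h
    exact proj_sub n M Λ hΛ

end Groth.Agent.S19306
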