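import Groth.Statements.S19309
import Mathlib

set_option autoImplicit false
universe u
open PowerSeries LaurentSeries
open CAlg

namespace Groth.Agent.S19309

/-- Let k be a field, R a commutative k-algebra, B a finitely presented R⟦X⟧-algebra (an affine scheme V
= Spec B of finite presentation over the disc D_R = Spec R⟦X⟧) and s : B → R((X)) an R⟦X⟧-algebra
map (a section of V over the punctured disc). Then there is an ideal I of R such that for every ring
map φ : R → R', writing θ : R((X)) → R'((X)) for the ring map compatible with R⟦X⟧ → R'⟦X⟧, the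
section s extends to a section over D_{R'} — an R⟦X⟧-algebra map s' : B → R'⟦X⟧ whose composite with
R'⟦X⟧ → R'((X)) is θ ∘ s — if and only if φ kills I. In other words the sub-presheaf of Spec R where
s extends over the disc is the closed subscheme defined by I. -/
theorem result
    (k : Type u) [Field k] (R : Type u) [CommRing R] [Algebra k R]
    (B : Type u) [CommRing B] [Algebra R⟦X⟧ B] [Algebra.FinitePresentation R⟦X⟧ B]
    (s : B →ₐ[R⟦X⟧] R⸨X⸩) :
    ∃ I : Ideal R, ∀ (R' : Type u) [CommRing R'] (φ : R →+* R') (θ : R⸨X⸩ →+* R'⸨X⸩),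
      θ.comp (algebraMap R⟦X⟧ R⸨X⸩) = (algebraMap R'⟦X⟧ R'⸨X⸩).comp (PowerSeries.map φ) →
      ((∃ s' : B →+* R'⟦X⟧, s'.comp (algebraMap R⟦X⟧ B) = PowerSeries.map φ ∧
          (algebraMap R'⟦X⟧ R'⸨X⸩).comp s' = θ.comp s.toRingHom) ↔ I ≤ RingHom.ker φ) := by
  classical
  obtain ⟨S, hS⟩ := (inferInstance : Algebra.FiniteType R⟦X⟧ B).out
  have hloc : ∀ b : B, ∃ (n : ℕ) (p : R⟦X⟧), s b * algebraMap R⟦X⟧ R⸨X⸩ (PowerSeries.X ^ n) = algebraMap R⟦X⟧ R⸨X⸩ p := by
    intro b
    obtain ⟨⟨p, ⟨_, n, rfl⟩⟩, e⟩ := IsLocalization.surj (Submonoid.powers (PowerSeries.X : R⟦X⟧)) (s b)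
    exact ⟨n, p, e⟩
  choose n p hp using hloc
  refine ⟨Ideal.span {r | ∃ b ∈ S, ∃ m, m < n b ∧ r = PowerSeries.coeff m (p b)}, fun R' _ φ θ hθ => ?_⟩
  have hθ' : ∀ q : R⟦X⟧, θ (algebraMap R⟦X⟧ R⸨X⸩ q) = algebraMap R'⟦X⟧ R'⸨X⸩ (PowerSeries.map φ q) :=
    fun q => RingHom.congr_fun hθ q
  have hunit : ∀ m : ℕ, IsUnit (algebraMap R'⟦X⟧ R'⸨X⸩ (PowerSeries.X ^ m)) := fun m =>
    IsLocalization.map_units R'⸨X⸩ (⟨PowerSeries.X ^ m, m, rfl⟩ : Submonoid.powers (PowerSeries.X : R'⟦X⟧))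
  have hinj : Function.Injective (algebraMap R'⟦X⟧ R'⸨X⸩) := HahnSeries.ofPowerSeries_injective
  have hmul : ∀ b : B, θ (s b) * algebraMap R'⟦X⟧ R'⸨X⸩ (PowerSeries.X ^ n b) =
      algebraMap R'⟦X⟧ R'⸨X⸩ (PowerSeries.map φ (p b)) := by
    intro b
    have := congrArg θ (hp b)
    rwa [map_mul, hθ', hθ', map_pow, PowerSeries.map_X] at this
  constructor
  · rintro ⟨s', -, hs'⟩
    rw [Ideal.span_le]
    rintro _ ⟨b, -, m, hm, rfl⟩
    show φ _ = 0
    have e : s' b * PowerSeries.X ^ n b = PowerSeries.map φ (p b) := by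
      apply hinj
      rw [map_mul, ← hmul b]
      exact congrArg (· * _) (RingHom.congr_fun hs' b)
    rw [← PowerSeries.coeff_map, ← e, PowerSeries.coeff_mul_X_pow', if_neg (by omega)]
  · intro hI
    have hgen : ∀ b ∈ S, θ (s b) ∈ (algebraMap R'⟦X⟧ R'⸨X⸩).range := by
      intro b hb
      have : (PowerSeries.X : R'⟦X⟧) ^ n b ∣ PowerSeries.map φ (p b) := by
        rw [PowerSeries.X_pow_dvd_iff]
        intro m hm
        rw [PowerSeries.coeff_map]
        exact hI (Ideal.subset_span ⟨b, hb, m, hm, rfl⟩)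
      obtain ⟨q, hq⟩ := this
      refine ⟨q, (hunit (n b)).mul_right_cancel ?_⟩
      rw [hmul, hq, map_mul, mul_comm]
    have hall : ∀ b : B, ∃ q, algebraMap R'⟦X⟧ R'⸨X⸩ q = θ (s b) := by
      intro b
      have hb : b ∈ Algebra.adjoin R⟦X⟧ (S : Set B) := hS ▸ Algebra.mem_top
      show θ (s b) ∈ (algebraMap R'⟦X⟧ R'⸨X⸩).range
      induction hb using Algebra.adjoin_induction with
      | mem x hx => exact hgen x hx
      | algebraMap r => rw [AlgHom.commutes, hθ']; exact ⟨_, rfl⟩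
      | add x y _ _ hx hy => rw [map_add, map_add]; exact add_mem hx hy
      | mul x y _ _ hx hy => rw [map_mul, map_mul]; exact mul_mem hx hy
    choose f hf using hall
    refine ⟨{ toFun := f, map_one' := hinj ?_, map_mul' := fun x y => hinj ?_, map_zero' := hinj ?_, map_add' := fun x y => hinj ?_ }, ?_, ?_⟩
    · rw [hf, map_one, map_one, map_one]
    · rw [map_mul, hf, hf, hf, map_mul, map_mul]
    · rw [hf, map_zero, map_zero, map_zero]
    · rw [map_add, hf, hf, hf, map_add, map_add]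
    · refine RingHom.ext fun r => hinj ?_
      show algebraMap R'⟦X⟧ R'⸨X⸩ (f (algebraMap R⟦X⟧ B r)) = _
      rw [hf, AlgHom.commutes, hθ']
    · exact RingHom.ext fun b => hf b

end Groth.Agent.S19309
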