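import Groth.Statements.S19311
import Mathlib
import Groth.Agent.DecShLib.Basic
-- import your own Groth.Agent.* helpers here

set_option autoImplicit false
universe u
open CategoryTheory CategoryTheory.Limits AlgebraicGeometry
open DecSh

namespace Groth.Agent.S19311

/-- Let k be an algebraically closed field of characteristic zero, X a reduced proper k-scheme of
dimension one without isolated points (no point is open), L an ample invertible O_X-module and E a
coherent O_X-module whose stalks are torsion free. Write α(M) = χ(M ⊗ L) − χ(M) for the multiplicity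
of a module M. Let T be a tensor field on E of type (a, b) with values in a module D (b maps E^{⊗a}
→ D, not all zero) and let (F•, m) be a weighted filtration of E by coherent subsheaves F_1 ⊂ ⋯ ⊂
F_t with positive rational weights m_i. Then the number μ(F•, m, φ) of the filtration with respect
to T satisfies |μ| ≤ (Σ_i m_i) · a · (α(E) − 1). (The published lemma is for a nodal curve and a
coherent module of uniform multirank, not necessarily torsion free, with a locally free target D;
this row assumes E torsion free and allows any target. The same bound serves on a smooth possibly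
disconnected curve, where the source uses the opposite sign convention for μ.) -/
theorem result
    (k : Type u) [Field k] [IsAlgClosed k] [CharZero k]
    (X : Scheme.{u}) [X.Over (Spec (CommRingCat.of k))] [IsProper (X ↘ Spec (CommRingCat.of k))]
    [AlgebraicGeometry.IsReduced X] (hdim : topologicalKrullDim X = 1)
    (hpure : ∀ x : X, ¬ IsOpen ({x} : Set X))
    (L : X.Modules) (hL : CohB1.IsAmple L)
    (E : X.Modules) (hE : Coh.IsCoh E) (htf : TorSh.IsTorsionFree E)
    {D : X.Modules} {a b : ℕ} (T : DecSh.TF E a b D)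
    (𝓕 : DecSh.WFilt E) (hcoh : ∀ i, Coh.IsCoh ((𝓕.piece i : Subobject E) : X.Modules)) :
    |T.mu k L 𝓕| ≤ (∑ i, 𝓕.wt i) * (a : ℚ) * ((DecSh.mult k X L E : ℚ) - 1) := by
  have hd : topologicalKrullDim X ≤ ((1 : ℕ) : WithBot ℕ∞) := by rw [hdim]; simp
  have h1E : 1 ≤ DecSh.mult k X L E :=
    (DecShLib.mult_pos (k := k) hd hL hpure htf (𝓕.piece ⟨0, 𝓕.t_pos⟩).arrow (hcoh _) (𝓕.piece_nonzero _)).trans
      (DecShLib.mult_le (k := k) hd hL (𝓕.piece ⟨0, 𝓕.t_pos⟩).arrow (hcoh _) hE)
  refine abs_le.2 ⟨?_, DecShLib.mu_le 𝓕 _ _ h1E (fun i => DecShLib.mult_le (k := k) hd hL (𝓕.piece i).arrow (hcoh i) hE) T.nv⟩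
  refine le_trans ?_ (DecShLib.mu_ge 𝓕 _ _ (by omega) T.nv)
  rw [mul_assoc, Finset.sum_mul, ← Finset.sum_neg_distrib]
  refine Finset.sum_le_sum fun i _ => ?_
  have h1 : (1 : ℚ) ≤ (DecSh.mult k X L ((𝓕.piece i : Subobject E) : X.Modules) : ℚ) := by
    exact_mod_cast DecShLib.mult_pos (k := k) hd hL hpure htf (𝓕.piece i).arrow (hcoh i) (𝓕.piece_nonzero i)
  have h2 : (0 : ℚ) ≤ (a : ℚ) := Nat.cast_nonneg _
  nlinarith [mul_nonneg (mul_nonneg (𝓕.wt_pos i).le h2) (sub_nonneg.2 h1)]

end Groth.Agent.S19311
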