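import Groth.Statements.S19312
import Mathlib
import Groth.Agent.DecShLib.Basic
-- import your own Groth.Agent.* helpers here

set_option autoImplicit false
universe u
open CategoryTheory CategoryTheory.Limits AlgebraicGeometry
open DecSh

namespace Groth.Agent.S19312

/-- Let k be an algebraically closed field of characteristic zero, X a reduced proper k-scheme of
dimension one without isolated points, L an ample invertible O_X-module, E a coherent O_X-module
with torsion free stalks, α(M) = χ(M ⊗ L) − χ(M) the multiplicity, and T a tensor field on E of type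
(a, b) with values in a module D. Let (F•, m) be a weighted filtration of E by coherent subsheaves
and let (F•¹, m¹) be a sub-filtration of it: its pieces are F¹_j = F_{e(j)} and its weights m¹_j =
m_{e(j)} for a map e of index sets (necessarily a strictly increasing injection). Then μ(F•, m, φ) ≤
μ(F•¹, m¹, φ) + (Σ_i m_i − Σ_j m¹_j) · a · (α(E) − 1): dropping steps of total weight w raises μ by
at most w · a · (α(E) − 1). (The published lemma is for a nodal curve and a coherent module of
uniform multirank, not necessarily torsion free, with a locally free target D; this row assumes E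
torsion free and allows any target. The same inequality serves on a smooth possibly disconnected
curve, where the source uses the opposite sign convention for μ.) -/
theorem result
    (k : Type u) [Field k] [IsAlgClosed k] [CharZero k]
    (X : Scheme.{u}) [X.Over (Spec (CommRingCat.of k))] [IsProper (X ↘ Spec (CommRingCat.of k))]
    [AlgebraicGeometry.IsReduced X] (hdim : topologicalKrullDim X = 1)
    (hpure : ∀ x : X, ¬ IsOpen ({x} : Set X))
    (L : X.Modules) (hL : CohB1.IsAmple L)
    (E : X.Modules) (hE : Coh.IsCoh E) (htf : TorSh.IsTorsionFree E)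
    {D : X.Modules} {a b : ℕ} (T : DecSh.TF E a b D)
    (𝓕 𝓕₁ : DecSh.WFilt E) (e : Fin 𝓕₁.t → Fin 𝓕.t)
    (hpiece : ∀ j, 𝓕₁.piece j = 𝓕.piece (e j)) (hwt : ∀ j, 𝓕₁.wt j = 𝓕.wt (e j))
    (hcoh : ∀ i, Coh.IsCoh ((𝓕.piece i : Subobject E) : X.Modules)) :
    T.mu k L 𝓕 ≤ T.mu k L 𝓕₁ + ((∑ i, 𝓕.wt i) - ∑ j, 𝓕₁.wt j) * (a : ℚ) * ((DecSh.mult k X L E : ℚ) - 1) := by
  have hd : topologicalKrullDim X ≤ ((1 : ℕ) : WithBot ℕ∞) := by rw [hdim]; simp
  classical
  let α : Subobject E → ℤ := fun P => DecSh.mult k X L (P : X.Modules)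
  let αE : ℤ := DecSh.mult k X L E
  have h1E : 1 ≤ αE :=
    (DecShLib.mult_pos (k := k) hd hL hpure htf (𝓕.piece ⟨0, 𝓕.t_pos⟩).arrow (hcoh _) (𝓕.piece_nonzero _)).trans
      (DecShLib.mult_le (k := k) hd hL (𝓕.piece ⟨0, 𝓕.t_pos⟩).arrow (hcoh _) hE)
  have hle : ∀ i, α (𝓕.piece i) ≤ αE := fun i => DecShLib.mult_le (k := k) hd hL (𝓕.piece i).arrow (hcoh i) hE
  have hinj : Function.Injective e := fun j j' h => 𝓕₁.piece_strictMono.injective (by rw [hpiece, hpiece, h])
  obtain ⟨I₁, hI₁, hmu⟩ := 𝓕₁.exists_gam_eq_mu αE α T.nv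
  let g : Fin (𝓕₁.t + 1) → Fin (𝓕.t + 1) := Fin.lastCases (Fin.last 𝓕.t) fun j => (e j).castSucc
  have hX : ∀ j, 𝓕.pieceX (g j) = 𝓕₁.pieceX j := fun j => by
    induction j using Fin.lastCases with
    | last => simp [g]
    | cast m => simp [g, hpiece]
  have hM : ∀ j, 𝓕.mulX αE α (g j) = 𝓕₁.mulX αE α j := fun j => by
    induction j using Fin.lastCases with
    | last => simp [g]
    | cast m => simp [g, hpiece]
  have hadm : 𝓕.Adm T.nv (g ∘ I₁) := by
    unfold DecSh.WFilt.Adm
    rw [show (fun j => 𝓕.pieceX ((g ∘ I₁) j)) = fun j => 𝓕₁.pieceX (I₁ j) from funext fun j => hX (I₁ j)]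
    exact hI₁
  refine (𝓕.mu_le_gam αE α T.nv hadm).trans ?_
  change 𝓕.gam αE α (g ∘ I₁) ≤ 𝓕₁.mu αE α T.nv + _
  rw [← hmu, DecSh.WFilt.gam, DecSh.WFilt.gam]
  let S : Finset (Fin 𝓕.t) := Finset.univ.image e
  have hsum : ∀ f : Fin 𝓕.t → ℚ, ∑ i, f i = (∑ j, f (e j)) + ∑ i ∈ Finset.univ \ S, f i := fun f => by
    rw [← Finset.sum_sdiff (Finset.subset_univ S), add_comm, Finset.sum_image fun a _ b _ h => hinj h]
  have hnu : ∀ j, 𝓕.nu αE α (g ∘ I₁) (e j) = 𝓕₁.nu αE α I₁ j := fun j => by
    simp only [DecSh.WFilt.nu, Function.comp, hM, hpiece]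
  rw [hsum, hsum 𝓕.wt]
  simp only [hnu, ← hpiece, ← hwt, add_sub_cancel_left]
  refine add_le_add le_rfl ?_
  rw [mul_assoc, Finset.sum_mul]
  exact Finset.sum_le_sum fun i _ =>
    mul_le_mul_of_nonneg_left (DecShLib.term_le 𝓕 αE α h1E hle (g ∘ I₁) i) (𝓕.wt_pos i).le

end Groth.Agent.S19312
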