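import Groth.Statements.S19314
import Mathlib
import Groth.Agent.DecShLib.Bounded
-- import your own Groth.Agent.* helpers here

set_option autoImplicit false
universe u
open CategoryTheory CategoryTheory.Limits AlgebraicGeometry
open DecSh

namespace Groth.Agent.S19314

/-- Let k be an algebraically closed field of characteristic zero, X a reduced proper k-scheme of
dimension one without isolated points, L an ample invertible O_X-module, χ the Euler characteristic
over k and α(M) = χ(M ⊗ L) − χ(M) the multiplicity. Fix δ > 0, integers α and e, natural numbers a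
and b and an O_X-module D. Then the family of coherent O_X-modules F with torsion free stalks, α(F)
= α and χ(F) = e (fixed Hilbert polynomial) for which there is a δ-semistable tensor field of type
(a, b) on F with values in D is bounded: there are a k-scheme T of finite type and a coherent module
on X ×_k T among whose fibres at k-points every member occurs up to isomorphism. (The published
corollary is for a reduced projective curve with D locally free, in a section whose polarisation is
very ample. The bound on the maximal slope that drives the proof uses none of these, and boundedness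
for an ample L follows from the very ample case by passing to a power of L, which rescales all
multiplicities.) -/
theorem result
    (k : Type u) [Field k] [IsAlgClosed k] [CharZero k]
    (X : Scheme.{u}) [X.Over (Spec (CommRingCat.of k))] [IsProper (X ↘ Spec (CommRingCat.of k))]
    [AlgebraicGeometry.IsReduced X] (hdim : topologicalKrullDim X = 1)
    (hpure : ∀ x : X, ¬ IsOpen ({x} : Set X))
    (L : X.Modules) (hL : CohB1.IsAmple L)
    (δ : ℚ) (hδ : 0 < δ) (α e : ℤ) (a b : ℕ) (D : X.Modules) :
    Pic13.IsBounded k X (fun F => Coh.IsCoh F ∧ TorSh.IsTorsionFree F ∧ DecSh.mult k X L F = α ∧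
      Curv2.euler k X F = e ∧ ∃ T : DecSh.TF F a b D, T.IsSemistable k L δ) := by
  have hd : topologicalKrullDim X ≤ ((1 : ℕ) : WithBot ℕ∞) := by rw [hdim]; simp
  haveI := CurvLib.isNoetherian k (X := X)
  let M : ℚ := δ * (a : ℚ) * ((max α 0 : ℤ) : ℚ)
  have hM : 0 ≤ M := by
    have : (0 : ℚ) ≤ ((max α 0 : ℤ) : ℚ) := by exact_mod_cast le_max_right α 0
    positivity
  refine DecShLib.isBounded_of_good k hd hL α e ⌊((e : ℚ) - M) / (α : ℚ)⌋ fun F hF => ?_
  obtain ⟨hFc, htf, hα, he, T, hT⟩ := hF
  refine ⟨?_, hα, he⟩
  have h0 : 0 ≤ α := hα ▸ DecShLib.mult_nonneg (k := k) hd hL hFc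
  refine DecShLib.good_of_bound hd hL hpure hFc htf hM (fun G ι hι hG hG0 hni => ?_) ?_
  · have hP : Coh.IsCoh ((Subobject.mk ι : Subobject F) : X.Modules) := QCohLib.isCoh_of_iso (Subobject.underlyingIso ι).symm hG
    have h := DecShLib.single_bound hδ.le (DecShLib.mult_nonneg (k := k) hd hL hFc) hT ι hP hG0 hni
    rw [DecShLib.mult_congr (k := k) hd hL hP (Subobject.underlyingIso ι), CurvLib.euler_congr (k := k) (Subobject.underlyingIso ι)] at h
    refine h.trans ?_
    have hG' : (0 : ℚ) ≤ (DecSh.mult k X L G : ℚ) := by exact_mod_cast DecShLib.mult_nonneg (k := k) hd hL hG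
    have : (DecSh.mult k X L F : ℚ) ≤ ((max α 0 : ℤ) : ℚ) := by rw [hα]; exact_mod_cast le_max_left α 0
    have hδa : 0 ≤ δ * (a : ℚ) := mul_nonneg hδ.le (Nat.cast_nonneg a)
    exact mul_le_mul_of_nonneg_left (by linarith) hδa
  · rw [hα, he]
    rcases eq_or_lt_of_le h0 with h | h
    · subst h
      have hz : IsZero F := by
        by_contra hne
        have := DecShLib.mult_pos (k := k) hd hL hpure htf (𝟙 F) hFc hne
        omega
      have : (Curv2.euler k X F : ℚ) = 0 := by
        rw [← DecShLib.coeff_zero_eq (k := k) hd hL hFc, StabLib.hPoly_zero hL hz, Polynomial.coeff_zero]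
      rw [he] at this
      simp [M, this]
    · exact (le_div_iff₀ (by exact_mod_cast h)).1 (Int.floor_le _)

end Groth.Agent.S19314
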