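import Groth.Statements.S19316
import Mathlib
import Groth.Agent.DecShLib.Par
-- import your own Groth.Agent.* helpers here

set_option autoImplicit false
universe u
open CategoryTheory CategoryTheory.Limits AlgebraicGeometry
open DecSh

namespace Groth.Agent.S19316

/-- Let k be an algebraically closed field of characteristic zero, Y a smooth proper k-scheme of
dimension one without isolated points (possibly disconnected) and L an ample invertible O_Y-module.
Fix finitely many effective Cartier ideal sheaves I_1, …, I_ν on Y (the divisors D_i), rational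
weights κ_i with 0 < κ_i < 1, δ > 0, natural numbers r, a, b and an integer d. Consider the locally
free O_Y-modules E of rank r and degree d (χ(E) − r·χ(O_Y) = d) for which there exist k-subspaces
K_i ⊂ H⁰(E ⊗ O_{D_i}) with quotients of dimension r and a tensor field of type (a, b) on E with
values in some O_Y-module, (κ, δ)-semistable with respect to L. This family is bounded: there is n₀
such that for every such E and every n ≥ n₀, H¹(Y, E ⊗ L^{⊗n}) = 0 and E ⊗ L^{⊗n} is globally
generated. (The published statement fixes the target det(E)^{⊗c} ⊗ L' of the tensor field and takes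
the D_i to be the pairs of points over the nodes; allowing any target and any effective divisors
gives a larger family, bounded by the same argument.) -/
theorem result
    (k : Type u) [Field k] [IsAlgClosed k] [CharZero k]
    (Y : Scheme.{u}) [Y.Over (Spec (CommRingCat.of k))] [IsProper (Y ↘ Spec (CommRingCat.of k))]
    [Smooth (Y ↘ Spec (CommRingCat.of k))] (hdim : topologicalKrullDim Y = 1)
    (hpure : ∀ y : Y, ¬ IsOpen ({y} : Set Y))
    (L : Y.Modules) (hL : CohB1.IsAmple L)
    {ν : ℕ} (I : Fin ν → Y.IdealSheafData) (hI : ∀ i, FGA.IsEffCartier (I i))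
    (κ : Fin ν → ℚ) (hκ : ∀ i, 0 < κ i ∧ κ i < 1) (δ : ℚ) (hδ : 0 < δ)
    (r a b : ℕ) (d : ℤ) :
    ∃ n₀ : ℕ, ∀ n : ℕ, n₀ ≤ n → ∀ E : Y.Modules,
      (FlatMod.IsFinLocFreeOfRank r E ∧ Curv2.deg k Y E r = d ∧
        ∃ (K : ∀ i, Submodule k (ParSh.fibD Y (I i) E)),
          (∀ i, Module.finrank k (ParSh.fibD Y (I i) E ⧸ K i) = r) ∧
          ∃ (D : Y.Modules) (T : DecSh.TF E a b D), T.IsParSemistable k I K κ L δ) →
      Subsingleton (Coh.HH Y (CohB1.tensorMod E (CohB1.tensorPow L n)) 1) ∧
        Curv2.IsGloballyGenerated (CohB1.tensorMod E (CohB1.tensorPow L n)) := by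
  have hd : topologicalKrullDim Y ≤ ((1 : ℕ) : WithBot ℕ∞) := by rw [hdim]; simp
  haveI : AlgebraicGeometry.IsReduced Y := AlgSpLib.isReduced_of_smooth (Y ↘ Spec (CommRingCat.of k))
  obtain ⟨α, e, c, hgood⟩ := DecShLib.exists_par_good k hd hL hpure I κ hκ δ hδ r a b d
  obtain ⟨l₀, hl₀⟩ := CurveBddLib.exists_vanishing (k := k) hd hL c α.toNat
  obtain ⟨n₁, hn₁⟩ := DecShLib.exists_gg_of_vanishing k hd hL
    (Polynomial.C (α : ℚ) * Polynomial.X + Polynomial.C (e : ℚ)) l₀
  refine ⟨l₀ + n₁, fun n hn E hE => ?_⟩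
  obtain ⟨hEr, hdeg, K, hK, D, T, hT⟩ := hE
  obtain ⟨hg, hα, he⟩ := hgood E hEr hdeg K hK D T hT
  have hm : CurveBddLib.mult k L E = (α : ℚ) := by rw [← DecShLib.mult_eq hd hL hg.1, hα]
  have hvan : ∀ l, l₀ ≤ l → Subsingleton (Coh.HH Y ((CurveBddLib.tw L l).obj E) 1) := fun l hl =>
    hl₀ E hg (by rw [hm]; exact_mod_cast Int.self_le_toNat α) l hl
  refine ⟨SerreVanLib.subsingleton_HH_of_iso (HilbPolyLib.swapIso _ _) 1 (hvan n (by omega)),
    hn₁ E hg.1 (Polynomial.funext fun t => ?_) hvan n (by omega)⟩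
  rw [CurveBddLib.eval_eq (k := k) hd hL hg.1, DecShLib.coeff_zero_eq hd hL hg.1, he, hm]
  simp [add_comm]

end Groth.Agent.S19316
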