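import Groth.Statements.S1932
import Mathlib
import Groth.Agent.CycGysLib.Square
import Groth.Agent.AmpleDevLib.Pull
-- import your own Groth.Agent.* helpers here

set_option autoImplicit false
universe u
open CategoryTheory AlgebraicGeometry
open CategoryTheory.Limits
open Cyc

namespace Groth.Agent.S1932

/-- Gysin maps commute with proper push-forward: let f : X' → X be a proper morphism, L an invertible
O_X-module with a global section s whose zero scheme is the closed immersion i : D → X
(Cyc.IsZeroSchemeOf), and D' = X' ×_X D with projections i' : D' → X' and g : D' → D, where i' is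
the zero scheme of some global section s' of f^*L. For a (k + 1)-cycle α' on X', i^*(f_*α') ∼_rat
g_*((i')^*α') as k-cycles on D. Here the Gysin map i^* : Z_{k+1}(X) → CH_k(D) is computed on
coefficient functions as c_1(L) ∩ − with the rational sections taken to be s where it is nonzero
(Cyc.gysinChoice, completed by arbitrary nonzero choices elsewhere) and restricted to the points of
D, likewise for (i')^* with f^*L and s', and classes on D are compared up to rational equivalence on
D for the restricted dimension function. A pair (X, δ) with Cyc.IsSetup (X locally Noetherian with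
universally catenary local rings, δ a dimension function) plays the role of a scheme locally of
finite type over a base equipped with a dimension function, and Cyc.DeltaCompat records that the
dimension function δ' on X' is the one induced from δ along f. -/
theorem result (X X' D : Scheme.{u}) (δ : X → ℤ) (δ' : X' → ℤ) (hX : Cyc.IsSetup X δ) (hX' : Cyc.IsSetup X' δ') (f : X' ⟶ X) [IsProper f] (hδ : Cyc.DeltaCompat f δ' δ) (L : X.Modules) (hL : PicF.IsInvertible L) (s : L.presheaf.obj (Opposite.op ⊤)) (i : D ⟶ X) [IsClosedImmersion i] (hD : Cyc.IsZeroSchemeOf i L s) (s' : ((Scheme.Modules.pullback f).obj L).presheaf.obj (Opposite.op ⊤)) (hD' : Cyc.IsZeroSchemeOf (pullback.fst f i) ((Scheme.Modules.pullback f).obj L) s') (k : ℤ) (α' : AlgebraicCycle X' ℤ) (hα' : α' ∈ Cyc.Zk X' δ' (k + 1)) (w : (ξ : X) → Cyc.secFibre L ξ) (hw : ∀ ξ, w ξ ≠ 0) (w' : (ξ : X') → Cyc.secFibre ((Scheme.Modules.pullback f).obj L) ξ) (hw' : ∀ ξ, w' ξ ≠ 0) (γ : AlgebraicCycle D ℤ) (hγ : ∀ d, γ d = Cyc.c1CapFun δ L ⇑(AlgebraicCycle.map f δ' δ α') (Cyc.gysinChoice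 L s w) (i d)) (γ' : AlgebraicCycle (pullback f i) ℤ) (hγ' : ∀ z, γ' z = Cyc.c1CapFun δ' ((Scheme.Modules.pullback f).obj L) ⇑α' (Cyc.gysinChoice ((Scheme.Modules.pullback f).obj L) s' w') (pullback.fst f i z)) : Cyc.RatEquiv (fun d => δ (i d)) k γ (AlgebraicCycle.map (pullback.snd f i) (fun z => δ' (pullback.fst f i z)) (fun d => δ (i d)) γ') := by
    classical
    haveI := hX.1
    haveI := hX'.1
    have hu := CycGysLib.gysinChoice_ne_zero s hw
    have hL' : PicF.IsInvertible (KFlatLib.pb f L) := AmpleDevLib.isInvertible_pb f hL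
    have hu₀ : ∀ ξ, CycC1Lib.pbFib f L ξ (Cyc.gysinChoice L s w (f ξ)) ≠ 0 :=
      fun ξ => CycC1Lib.pbFib_ne_zero f hL (hu (f ξ))
    let γ₀ := CycC1Lib.capCyc hX' hL' α' hu₀
    let γr := CycGysLib.restrictCyc (pullback.fst f i) γ₀
    have h1 : Cyc.RatEquiv (fun z => δ' (pullback.fst f i z)) k γr γ' :=
      CycGysLib.ratEquiv_restrict_c1Cap hX' hL' (pullback.fst f i) α' hα' hu₀
        (CycGysLib.gysinChoice_ne_zero s' hw')
        (fun ξ hξ d => CycGysLib.secDivFun_gysinChoice_pullback hX' f hL hL' hD hD' w w' hξ _)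
        γr γ' (fun _ => rfl) hγ'
    have heq : AlgebraicCycle.map (pullback.snd f i) (fun z => δ' (pullback.fst f i z)) (fun d => δ (i d)) γr = γ :=
      Function.locallyFinsuppWithin.ext fun d => by
        rw [CycGysLib.map_restrict f i γ₀ d, CycC1Lib.map_c1Cap hX' hX f hδ hL α' hu γ₀ rfl (i d), ← hγ d]
    rw [← heq]
    exact CycPushLib.ratEquiv_map (CycPushLib.setup_of_closedImmersion (pullback.fst f i) hX').1
      (CycPushLib.setup_of_closedImmersion i hX).1 (pullback.snd f i) (CycGysLib.deltaCompat_snd f i hδ) h1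

end Groth.Agent.S1932
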