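import Groth.Statements.S19326
import Mathlib
import Groth.Agent.ComodLib.LinRed
import Groth.Agent.ComodLib.Reynolds
-- import your own Groth.Agent.* helpers here

set_option autoImplicit false
universe u
open TensorProduct
open GLin

namespace Groth.Agent.S19326

/-- Let k be a field, M a finite abelian group and D = Spec k[M] the finite diagonalizable group scheme
it defines, acting on an affine k-scheme U = Spec R through a multiplicative coaction R → R ⊗ k[M];
write R_a for the weight space of a ∈ M (elements with coaction f ⊗ a). For an ideal J of R the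
induced action of D on the closed subscheme V(J) is trivial, meaning that the coaction followed by
reduction modulo J equals f ↦ (f mod J) ⊗ 1, exactly when J contains the ideal generated by the
weight spaces R_a for a ≠ 0; in other words that ideal defines the largest closed subscheme of U on
which D acts trivially. (The printed setting has U smooth, which plays no role here and is not
assumed; the further assertion that the construction commutes with flat base change on U/D is not
part of this statement.) -/
theorem result
    {k : Type u} [Field k] {M : Type u} [AddCommGroup M] [Finite M]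
    {R : Type u} [CommRing R] [Algebra k R] [HopfRep.Comod k (AddMonoidAlgebra k M) R]
    [GLin.IsCoactAlg k (AddMonoidAlgebra k M) R] (J : Ideal R) :
    (∀ f : R, LinearMap.rTensor (AddMonoidAlgebra k M) (Ideal.Quotient.mkₐ k J).toLinearMap
        (HopfRep.Comod.coact (k := k) (A := AddMonoidAlgebra k M) f) =
        (Ideal.Quotient.mk J f) ⊗ₜ[k] (1 : AddMonoidAlgebra k M)) ↔
      Ideal.span (⋃ (a : M) (_ : a ≠ 0),
        (HopfRep.eigenspace k (AddMonoidAlgebra k M) R (AddMonoidAlgebra.single a 1) : Set R)) ≤ J := by
  classical
  haveI : Fintype M := Fintype.ofFinite M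
  let H := AddMonoidAlgebra k M
  let b := AddMonoidAlgebra.basis M k
  have hb : ∀ a, b a = AddMonoidAlgebra.single a 1 := fun a => by simp [b]
  have hcomul : ∀ c, CoalgebraStruct.comul (R := k) (b c) = b c ⊗ₜ[k] b c := fun c => by
    rw [hb]
    exact (AddMonoidAlgebra.comul_single c (1 : k)).trans (by rw [CommSemiring.comul_apply]; simp [AddMonoidAlgebra.lsingle_apply])
  let comp : M → R → R := fun a f => ComodLib.slice (b.coord a) (HopfRep.Comod.coact (k := k) (A := H) f)
  have hexp : ∀ z : R ⊗[k] H, z = ∑ a, ComodLib.slice (b.coord a) z ⊗ₜ[k] b a := fun z => by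
    induction z with
    | zero => simp
    | add z z' hz hz' =>
      conv_lhs => rw [hz, hz']
      rw [← Finset.sum_add_distrib]
      exact Finset.sum_congr rfl fun a _ => by rw [map_add, TensorProduct.add_tmul]
    | tmul r c =>
      conv_lhs => rw [← b.sum_repr c, TensorProduct.tmul_sum]
      exact Finset.sum_congr rfl fun a _ => by
        rw [ComodLib.slice_tmul, TensorProduct.smul_tmul, Module.Basis.coord_apply]
  have hsum : ∀ f : R, f = ∑ a, comp a f := fun f => by
    conv_lhs => rw [← ComodLib.slice_counit (k := k) (A := H) (V := R) f,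
      hexp (HopfRep.Comod.coact (k := k) (A := H) f), map_sum]
    refine Finset.sum_congr rfl fun a _ => ?_
    rw [ComodLib.slice_tmul, hb, AddMonoidAlgebra.counit_single]
    simp [comp]
  have heig : ∀ f a, comp a f ∈ HopfRep.eigenspace k H R (AddMonoidAlgebra.single a 1) := fun f a => by
    let L : R ⊗[k] (H ⊗[k] H) →ₗ[k] R ⊗[k] H :=
      (TensorProduct.rid k H).toLinearMap.lTensor R ∘ₗ ((b.coord a).lTensor H).lTensor R
    have e1 : ∀ z : R ⊗[k] H, L (TensorProduct.assoc k R H H
        ((HopfRep.Comod.coact (k := k) (A := H) (V := R)).rTensor H z)) =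
        HopfRep.Comod.coact (k := k) (A := H) (ComodLib.slice (b.coord a) z) := fun z => by
      induction z with
      | zero => simp
      | add z z' hz hz' => simp only [map_add, hz, hz']
      | tmul r c =>
        rw [LinearMap.rTensor_tmul, ComodLib.slice_tmul, map_smul]
        generalize HopfRep.Comod.coact (k := k) (A := H) r = w
        induction w with
        | zero => simp
        | add w w' hw hw' => simp only [TensorProduct.add_tmul, map_add, smul_add, hw, hw']
        | tmul p q => simp [L, TensorProduct.smul_tmul']
    show HopfRep.Comod.coact (k := k) (A := H) (comp a f) = comp a f ⊗ₜ[k] AddMonoidAlgebra.single a 1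
    rw [← e1, ComodLib.coassoc_apply (k := k) (A := H) (V := R) f,
      hexp (HopfRep.Comod.coact (k := k) (A := H) f), map_sum, map_sum, Finset.sum_eq_single a]
    · simp only [LinearMap.lTensor_tmul, hcomul]
      simp [L, ← hb, comp]
    · intro a' _ hne
      simp only [LinearMap.lTensor_tmul, hcomul]
      simp [L, hne]
    · intro h; exact absurd (Finset.mem_univ a) h
  constructor
  · intro h
    refine Ideal.span_le.2 fun f hf => ?_
    obtain ⟨a, ha, hfa⟩ : ∃ a, a ≠ 0 ∧ f ∈ HopfRep.eigenspace k H R (AddMonoidAlgebra.single a 1) := by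
      simpa using hf
    have h1 := h f
    rw [show HopfRep.Comod.coact (k := k) (A := H) f = f ⊗ₜ[k] AddMonoidAlgebra.single a 1 from hfa,
      LinearMap.rTensor_tmul] at h1
    have h2 := congrArg (ComodLib.slice (b.coord a)) h1
    rw [ComodLib.slice_tmul, ComodLib.slice_tmul, ← hb, show (1 : H) = b 0 by rw [hb]; rfl] at h2
    simp [ha] at h2
    exact Ideal.Quotient.eq_zero_iff_mem.1 (by simpa using h2)
  · intro h f
    have hz : ∀ a, a ≠ 0 → Ideal.Quotient.mk J (comp a f) = 0 := fun a ha =>
      Ideal.Quotient.eq_zero_iff_mem.2 (h (Ideal.subset_span (Set.mem_iUnion₂.2 ⟨a, ha, heig f a⟩)))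
    have h1 : Ideal.Quotient.mk J f = Ideal.Quotient.mk J (comp 0 f) := by
      conv_lhs => rw [hsum f, map_sum, Finset.sum_eq_single 0 (fun a _ ha => hz a ha) (by simp)]
    rw [hexp (HopfRep.Comod.coact (k := k) (A := H) f), map_sum, h1,
      Finset.sum_eq_single 0 (fun a _ ha => by rw [LinearMap.rTensor_tmul]; show Ideal.Quotient.mk J (comp a f) ⊗ₜ[k] b a = 0; rw [hz a ha, TensorProduct.zero_tmul]) (by simp),
      LinearMap.rTensor_tmul, hb]
    rfl

end Groth.Agent.S19326
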