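import Groth.Statements.S19328
import Mathlib

-- import your own Groth.Agent.* helpers here

set_option autoImplicit false
universe u
open CategoryTheory CategoryTheory.Limits AlgebraicGeometry
open ModPair

namespace Groth.Agent.S19328

/-- Let A be a commutative ring such that Spec A is local for fppf coverings, in the sense that for
every scheme X, every jointly surjective family of morphisms to X each of which is flat and of
finite presentation (locally of finite presentation, quasi-compact and quasi-separated), and every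
morphism Spec A ⟶ X, the morphism factors through a member of the family. Then the residue field of
A at every prime ideal is algebraically closed. -/
theorem result (A : Type u) [CommRing A]
    (hloc : ∀ (X : Scheme.{u}) (R : Presieve X),
      R ∈ Scheme.precoverage (@Flat ⊓ @LocallyOfFinitePresentation ⊓ @QuasiCompact ⊓ @QuasiSeparated) X →
      ∀ g : Spec (CommRingCat.of A) ⟶ X,
        ∃ (Y : Scheme.{u}) (v : Y ⟶ X) (h : Spec (CommRingCat.of A) ⟶ Y), R v ∧ h ≫ v = g)
    (p : Ideal A) [p.IsPrime] : IsAlgClosed p.ResidueField := by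
  classical
  refine IsAlgClosed.of_exists_root _ fun q hq hirr => ?_
  obtain ⟨d, q', hq'm, hq'⟩ : ∃ (d : nonZeroDivisors (A ⧸ p)) (q' : Polynomial (A ⧸ p)), q'.Monic ∧
      q'.map (algebraMap (A ⧸ p) p.ResidueField) = q.scaleRoots (algebraMap (A ⧸ p) p.ResidueField d) := by
    refine ⟨IsLocalization.commonDenom (nonZeroDivisors (A ⧸ p)) q.support q.coeff, ?_⟩
    obtain ⟨q', h1, -, h3⟩ := Polynomial.lifts_and_natDegree_eq_and_monic
      (IsLocalization.scaleRoots_commonDenom_mem_lifts (nonZeroDivisors (A ⧸ p)) q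
        (by rw [hq.leadingCoeff]; exact one_mem _)) (Polynomial.monic_scaleRoots_iff _ |>.mpr hq)
    exact ⟨q', h3, h1⟩
  obtain ⟨g, hg, hgd, hgm⟩ := Polynomial.lifts_and_natDegree_eq_and_monic
    (show q' ∈ Polynomial.lifts (Ideal.Quotient.mk p) from
      Polynomial.map_surjective _ Ideal.Quotient.mk_surjective q') hq'm
  have hd0 : g.natDegree ≠ 0 := by
    rw [hgd, ← hq'm.natDegree_map (algebraMap (A ⧸ p) p.ResidueField), hq', Polynomial.natDegree_scaleRoots]
    exact hirr.natDegree_pos.ne'
  let v : Spec (CommRingCat.of (AdjoinRoot g)) ⟶ Spec (CommRingCat.of A) :=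
    Spec.map (CommRingCat.ofHom (algebraMap A (AdjoinRoot g)))
  haveI : Module.Free A (AdjoinRoot g) := Module.Free.of_basis (AdjoinRoot.powerBasis' hgm).basis
  haveI : Nontrivial A := ⟨⟨0, 1, fun h => ‹p.IsPrime›.ne_top ((Ideal.eq_top_iff_one _).mpr (h ▸ p.zero_mem))⟩⟩
  haveI : Nontrivial (AdjoinRoot g) := by
    haveI : Nonempty (Fin (AdjoinRoot.powerBasis' hgm).dim) := ⟨⟨0, by
      rw [AdjoinRoot.powerBasis'_dim]; omega⟩⟩
    exact (AdjoinRoot.powerBasis' hgm).basis.repr.toEquiv.nontrivial
  have hv1 : Function.Surjective v.base := by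
    haveI : Module.FaithfullyFlat A (AdjoinRoot g) := inferInstance
    exact PrimeSpectrum.comap_surjective_of_faithfullyFlat
  haveI hflat : Flat v := by
    rw [HasRingHomProperty.Spec_iff (P := @Flat)]
    exact RingHom.flat_algebraMap_iff.mpr inferInstance
  haveI hfp : LocallyOfFinitePresentation v := by
    rw [HasRingHomProperty.Spec_iff (P := @LocallyOfFinitePresentation)]
    exact RingHom.finitePresentation_algebraMap.mpr inferInstance
  have hmem : Presieve.singleton v ∈
      Scheme.precoverage (@Flat ⊓ @LocallyOfFinitePresentation ⊓ @QuasiCompact ⊓ @QuasiSeparated)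
        (Spec (CommRingCat.of A)) := by
    rw [Scheme.singleton_mem_precoverage_iff]
    exact ⟨hv1, ⟨⟨hflat, hfp⟩, inferInstanceAs (QuasiCompact v)⟩, inferInstanceAs (QuasiSeparated v)⟩
  obtain ⟨Y, w, h, hw, hh⟩ := hloc _ _ hmem (𝟙 _)
  cases hw
  obtain ⟨s, rfl⟩ := Spec.map_surjective h
  have hs : CommRingCat.ofHom (algebraMap A (AdjoinRoot g)) ≫ s = 𝟙 _ := by
    apply Spec.map_injective
    rw [Spec.map_comp, Spec.map_id]
    exact hh
  have hs' : s.hom.comp (algebraMap A (AdjoinRoot g)) = RingHom.id A := congrArg CommRingCat.Hom.hom hs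
  let r : A := s.hom (AdjoinRoot.root g)
  have hr : g.eval r = 0 := by
    have := congrArg s.hom (AdjoinRoot.eval₂_root g)
    rw [map_zero, Polynomial.hom_eval₂, ← AdjoinRoot.algebraMap_eq, hs'] at this
    exact this
  let φ : A →+* p.ResidueField := (algebraMap (A ⧸ p) p.ResidueField).comp (Ideal.Quotient.mk p)
  have h0 : (q.scaleRoots (algebraMap (A ⧸ p) p.ResidueField d)).eval (φ r) = 0 := by
    rw [← hq', ← hg, Polynomial.map_map, Polynomial.eval_map_apply, hr, map_zero]
  have hd : algebraMap (A ⧸ p) p.ResidueField d ≠ 0 := fun hz =>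
    nonZeroDivisors.coe_ne_zero d ((map_eq_zero_iff _ (IsFractionRing.injective (A ⧸ p) p.ResidueField)).mp hz)
  refine ⟨φ r / algebraMap (A ⧸ p) p.ResidueField d, ?_⟩
  have h1 := Polynomial.scaleRoots_eval_mul q (φ r / algebraMap (A ⧸ p) p.ResidueField d)
    (algebraMap (A ⧸ p) p.ResidueField d)
  rw [mul_div_cancel₀ _ hd, h0] at h1
  exact (mul_eq_zero.mp h1.symm).resolve_left (pow_ne_zero _ hd)

end Groth.Agent.S19328
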