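import Groth.Statements.S1933
import Mathlib
import Groth.Agent.CycGysLib.Flat
import Groth.Agent.AmpleDevLib.Pull
-- import your own Groth.Agent.* helpers here

set_option autoImplicit false
universe u
open CategoryTheory AlgebraicGeometry
open CategoryTheory.Limits
open Cyc

namespace Groth.Agent.S1933

/-- Gysin maps commute with flat pullback. Let f : X' → X be flat, locally of finite type, of relative
dimension r, (L, s, i : D → X) as in the Gysin construction and D' = X' ×_X D with i' : D' → X' (the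
zero scheme of a section of f^*L) and g : D' → D. For a (k + 1)-cycle α on X, (i')^*(f^*α) ∼_rat
g^*(i^*α) as (k + r)-cycles on D', flat pullbacks being taken coefficientwise. Here i : D → X is the
zero scheme of a global section s of the invertible module L (Cyc.IsZeroSchemeOf), the Gysin map i^*
: Z_{k+1}(X) → CH_k(D) is computed on coefficient functions as c_1(L) ∩ − with the rational sections
taken to be s where it is nonzero (Cyc.gysinChoice) and restricted to the points of D, and classes
on D are compared up to rational equivalence on D for the restricted dimension function. A pair (X,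
δ) with Cyc.IsSetup plays the role of a scheme locally of finite type over a base (S, δ) (X locally
Noetherian with universally catenary local rings, δ a dimension function), and Cyc.DeltaCompat
records that the dimension function upstairs is the induced one. -/
theorem result (X X' D : Scheme.{u}) (δ : X → ℤ) (δ' : X' → ℤ) (hX : Cyc.IsSetup X δ) (hX' : Cyc.IsSetup X' δ') (f : X' ⟶ X) [Flat f] [LocallyOfFiniteType f] (r : ℕ) (hr : Cyc.HasRelDim f r) (hδ : Cyc.DeltaCompat f δ' δ) (L : X.Modules) (hL : PicF.IsInvertible L) (s : L.presheaf.obj (Opposite.op ⊤)) (i : D ⟶ X) [IsClosedImmersion i] (hD : Cyc.IsZeroSchemeOf i L s) (s' : ((Scheme.Modules.pullback f).obj L).presheaf.obj (Opposite.op ⊤)) (hD' : Cyc.IsZeroSchemeOf (pullback.fst f i) ((Scheme.Modules.pullback f).obj L) s') (k : ℤ) (α : AlgebraicCycle X ℤ) (hα : α ∈ Cyc.Zk X δ (k + 1)) (w : (ξ : X) → Cyc.secFibre L ξ) (hw : ∀ ξ, w ξ ≠ 0) (w' : (ξ : X') → Cyc.secFibre ((Scheme.Modules.pullback f).obj L) ξ) (hw' : ∀ ξ, w' ξ ≠ 0) (ζ₁ ζ₂ : AlgebraicCycle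 (pullback f i) ℤ) (h₁ : ∀ z, ζ₁ z = Cyc.c1CapFun δ' ((Scheme.Modules.pullback f).obj L) (Cyc.pullFun f δ' δ r ⇑α) (Cyc.gysinChoice ((Scheme.Modules.pullback f).obj L) s' w') (pullback.fst f i z)) (h₂ : ⇑ζ₂ = Cyc.pullFun (pullback.snd f i) (fun z => δ' (pullback.fst f i z)) (fun d => δ (i d)) r (fun d => Cyc.c1CapFun δ L ⇑α (Cyc.gysinChoice L s w) (i d))) : Cyc.RatEquiv (fun z => δ' (pullback.fst f i z)) (k + r) ζ₁ ζ₂ := by
    classical
    haveI := hX.1
    haveI := hX'.1
    have hu := CycGysLib.gysinChoice_ne_zero s hw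
    have hL' : PicF.IsInvertible (KFlatLib.pb f L) := AmpleDevLib.isInvertible_pb f hL
    have hgen : ∀ x, CycLimLib.IsGen f x → δ' x = δ (f x) + (r : ℤ) :=
      fun x hx => CycLimLib.delta_eq_of_gen f hδ hr hx
    have hu₀ : ∀ ξ, CycC1Lib.pbFib f L ξ (Cyc.gysinChoice L s w (f ξ)) ≠ 0 :=
      fun ξ => CycC1Lib.pbFib_ne_zero f hL (hu (f ξ))
    let P := CycC1Lib.pullCyc f hX' hgen α
    have hP : P ∈ Cyc.Zk X' δ' (k + r + 1) := by
      rw [add_right_comm]
      exact CycC1Lib.pullCyc_mem_Zk f hX' hgen hα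
    refine CycGysLib.ratEquiv_restrict_c1Cap hX' hL' (pullback.fst f i) P hP
      (CycGysLib.gysinChoice_ne_zero s' hw') hu₀
      (fun ξ hξ d => (CycGysLib.secDivFun_gysinChoice_pullback hX' f hL hL' hD hD' w w' hξ _).symm)
      ζ₁ ζ₂ h₁ fun z => ?_
    rw [h₂, CycGysLib.pullFun_snd f i hL s hD r (Cyc.c1CapFun δ L ⇑α (Cyc.gysinChoice L s w)) z]
    exact congrFun (CycC1Lib.pullFun_c1Cap f hX' hX hgen hL α hu) (pullback.fst f i z)

end Groth.Agent.S1933
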