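import Groth.Statements.S19331
import Groth.Agent.FinSurjLib.Extend
import Groth.Agent.ModPairLib.Basic

set_option autoImplicit false
universe u
open CategoryTheory CategoryTheory.Limits AlgebraicGeometry TopologicalSpace
open ModPair

namespace Groth.Agent.S19331

/-- Let (S, I) be a modulus pair, i.e. a scheme with the quasi-coherent ideal sheaf of an effective
Cartier divisor, with S quasi-compact and quasi-separated and with interior U, and let t₀ : T₀ ⟶ U
be a finite surjective morphism. Then there are a finite surjective morphism t : T ⟶ S such that the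
pulled-back modulus I.comap t is again the ideal sheaf of an effective Cartier divisor, making T ⟶ S
a minimal morphism of modulus pairs, and an open immersion j : T₀ ⟶ T with image t⁻¹(U) and j ≫ t =
t₀ ≫ (U ⟶ S), so that t₀ is the interior of t. -/
theorem result {S : Scheme.{u}}
    [CompactSpace S] [QuasiSeparatedSpace S] (I : S.IdealSheafData)
    (hI : BlowUp.IsEffCartierIdeal I) {T₀ : Scheme.{u}}
    (t₀ : T₀ ⟶ (ModPair.interior I : Scheme.{u})) [IsFinite t₀] [Surjective t₀] :
    ∃ (T : Scheme.{u}) (t : T ⟶ S) (j : T₀ ⟶ T), IsFinite t ∧ Surjective t ∧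
      BlowUp.IsEffCartierIdeal (I.comap t) ∧ IsOpenImmersion j ∧
      Set.range j.base = t.base ⁻¹' (ModPair.interior I : Set S) ∧
      j ≫ t = t₀ ≫ (ModPair.interior I).ι := by
  let U := ModPair.interior I
  haveI := ModPairLib.isAffineHom_interior hI
  have hUc : IsCompact (U : Set S) := by
    haveI : CompactSpace (U : Scheme.{u}) := QuasiCompact.compactSpace_of_compactSpace U.ι
    exact isCompact_iff_compactSpace.mpr ‹CompactSpace (U : Scheme.{u})›
  obtain ⟨V', π, i, -, hπ, hpb⟩ := FinSurjLib.exists_finite_extension U hUc t₀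
  haveI : IsOpenImmersion i := MorphismProperty.of_isPullback hpb.flip inferInstance
  haveI : QuasiCompact i := MorphismProperty.of_isPullback hpb.flip inferInstance
  haveI : IsFinite i.imageι := ((IsClosedImmersion.iff_isFinite_and_mono _).mp inferInstance).1
  let t : i.image ⟶ S := i.imageι ≫ π
  have hjt : i.toImage ≫ t = t₀ ≫ U.ι := by
    rw [Scheme.Hom.toImage_imageι_assoc]; exact hpb.w
  haveI := ModPairLib.isDominant_toImage (f := i)
  have hrange : Set.range i.toImage.base = t.base ⁻¹' (U : Set S) := by
    refine subset_antisymm ?_ fun z hz => ?_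
    · rintro _ ⟨x, rfl⟩
      show (i.toImage ≫ t) x ∈ U
      rw [hjt]
      exact (t₀ x).2
    · have hz' : π (i.imageι z) ∈ U := hz
      obtain ⟨x, hx, -⟩ := Scheme.exists_preimage_of_isPullback hpb (i.imageι z) ⟨_, hz'⟩ rfl
      refine ⟨x, i.imageι.isEmbedding.injective ?_⟩
      show i.imageι (i.toImage x) = i.imageι z
      rw [← Scheme.Hom.comp_apply, Scheme.Hom.toImage_imageι]
      exact hx
  refine ⟨i.image, t, i.toImage, inferInstance, ?_, ?_, inferInstance, hrange, hjt⟩
  · refine ⟨fun s => ?_⟩
    haveI := ModPairLib.isDominant_interior hI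
    have hd : Dense (U : Set S) := by
      have h := U.ι.denseRange
      rwa [DenseRange, Scheme.Opens.range_ι] at h
    have hcl : IsClosed (Set.range t) := t.isClosedMap.isClosed_range
    have hsub : (U : Set S) ⊆ Set.range t := fun s hs => by
      obtain ⟨x, hx⟩ := t₀.surjective ⟨s, hs⟩
      refine ⟨i.toImage x, ?_⟩
      rw [← Scheme.Hom.comp_apply, hjt, Scheme.Hom.comp_apply, hx]
      rfl
    exact (hcl.closure_subset_iff.mpr hsub) (hd s)
  · exact ModPairLib.isEffCartier_comap_of_dominant hI t i.toImage fun z => by
      show (i.toImage ≫ t) z ∈ U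
      rw [hjt]
      exact (t₀ z).2

end Groth.Agent.S19331
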