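import Groth.Statements.S19332
import Groth.Agent.RGFlatLib.Setup

set_option autoImplicit false
universe u
open CategoryTheory CategoryTheory.Limits AlgebraicGeometry TopologicalSpace
open ModPair

namespace Groth.Agent.S19332

/-- Let (S, I_S) and (X, I_X) be modulus pairs, i.e. schemes with quasi-coherent ideal sheaves of
effective Cartier divisors, with S and X quasi-compact and quasi-separated, and let f : X ⟶ S be a
minimal morphism (I_X = I_S.comap f) which is locally of finite type and whose restriction to the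
interiors f⁻¹(S°) ⟶ S° is flat and locally of finite presentation. Then there are abstract
admissible blow-ups t : T ⟶ S of (S, I_S) and y : Y ⟶ X of (X, I_X) (minimal, proper, and
isomorphisms over the interiors) and a morphism g : Y ⟶ T with y ≫ f = g ≫ t which is flat, locally
of finite presentation, quasi-compact and quasi-separated; g is then minimal for the pulled-back
moduli. The published statement assumes f only of finite type; this row also assumes X
quasi-separated. -/
theorem result {X S : Scheme.{u}}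
    [CompactSpace S] [QuasiSeparatedSpace S] [CompactSpace X] [QuasiSeparatedSpace X]
    (IS : S.IdealSheafData) (IX : X.IdealSheafData) (hS : BlowUp.IsEffCartierIdeal IS)
    (hX : BlowUp.IsEffCartierIdeal IX) (f : X ⟶ S) (hf : ModPair.IsMinimal IX IS f)
    [LocallyOfFiniteType f] [Flat (f ∣_ ModPair.interior IS)]
    [LocallyOfFinitePresentation (f ∣_ ModPair.interior IS)] :
    ∃ (T : Scheme.{u}) (t : T ⟶ S) (Y : Scheme.{u}) (y : Y ⟶ X) (g : Y ⟶ T),
      BlowUp.IsEffCartierIdeal (IS.comap t) ∧ ModPair.IsAdmBlowup (IS.comap t) IS t ∧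
        BlowUp.IsEffCartierIdeal (IX.comap y) ∧ ModPair.IsAdmBlowup (IX.comap y) IX y ∧
        y ≫ f = g ≫ t ∧ Flat g ∧ LocallyOfFinitePresentation g ∧ QuasiCompact g ∧
        QuasiSeparated g := by
  haveI : QuasiCompact f := (quasiCompact_iff_compactSpace f).mpr inferInstance
  have hUq : IsCompact ((ModPair.interior IS : S.Opens) : Set S) := by
    haveI := ModPairLib.isAffineHom_interior hS
    exact isCompact_iff_compactSpace.mpr (QuasiCompact.compactSpace_of_compactSpace (ModPair.interior IS).ι)
  obtain ⟨𝓚, T, t, hb, hadm, hprop, hiso, hint, hflat⟩ :=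
    RGFlatLib.exists_flattening_blowUp f (ModPair.interior IS) hUq
  have hpb := IsPullback.of_hasPullback f t
  obtain ⟨𝒥, h𝒥⟩ := RGFlatLib.exists_strictIdeal hb.1 (pullback.snd f t)
  rw [← RGFlatLib.exceptional_eq hpb] at h𝒥
  obtain ⟨hF, hP, hQ, hι, -⟩ := hflat _ _ _ hpb 𝒥 h𝒥
  haveI := hprop
  haveI : QuasiCompact t := inferInstance
  haveI : QuasiSeparatedSpace T := quasiSeparatedSpace_of_quasiSeparated t
  haveI : QuasiSeparated f := QuasiSeparated.of_comp f (terminal.from S)
  haveI : QuasiSeparated (pullback.snd f t) := inferInstance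
  have hT : BlowUp.IsEffCartierIdeal (IS.comap t) := BlowUpLib.isEffCartier_comap hb hS
  have hw : (𝒥.subschemeι ≫ pullback.fst f t) ≫ f = (𝒥.subschemeι ≫ pullback.snd f t) ≫ t := by
    rw [Category.assoc, pullback.condition, Category.assoc]
  refine ⟨T, t, 𝒥.subscheme, 𝒥.subschemeι ≫ pullback.fst f t, 𝒥.subschemeι ≫ pullback.snd f t, hT,
    ⟨rfl, hprop, hiso⟩, ?_, ⟨rfl, inferInstance, ?_⟩, hw, hF, hP, hQ, inferInstance⟩
  · rw [hf, ← Scheme.IdealSheafData.comap_comp, hw, Scheme.IdealSheafData.comap_comp]
    haveI := hF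
    exact BlowUpLib.isEffCartier_comap_of_flat _ hT
  · have hI : ModPair.interior IX = f ⁻¹ᵁ ModPair.interior IS := by
      rw [show IX = IS.comap f from hf, ModPairLib.interior_comap]
    rw [hI, morphismRestrict_comp]
    have e : pullback.fst f t ⁻¹ᵁ f ⁻¹ᵁ ModPair.interior IS = pullback.snd f t ⁻¹ᵁ t ⁻¹ᵁ ModPair.interior IS := by
      rw [← Scheme.Hom.comp_preimage, ← Scheme.Hom.comp_preimage, pullback.condition]
    have h1 : IsIso (𝒥.subschemeι ∣_ (pullback.fst f t ⁻¹ᵁ f ⁻¹ᵁ ModPair.interior IS)) := by rw [e]; exact hι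
    have h2 : IsIso (pullback.fst f t ∣_ (f ⁻¹ᵁ ModPair.interior IS)) :=
      RGFlatLib.isIso_restrict_of_isPullback hpb hiso
    exact IsIso.comp_isIso' h1 h2

end Groth.Agent.S19332
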