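import Groth.Statements.S19333
import Mathlib
-- helpers

set_option autoImplicit false
universe u
open ModPair

namespace Groth.Agent.S19333

/-- Let A → B be any homomorphism of commutative rings. An element x of B is integral over A if and only
if for every field K, every valuation subring R of K and every ring homomorphism φ : B → K which
sends the image of A into R, the element φ(x) lies in R. In other words the integral closure of A in
B is the intersection of the subrings R ×_K B taken over all commutative squares A → R ⊆ K ← B with
R a valuation ring of the field K. -/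
theorem result {A B : Type u} [CommRing A]
    [CommRing B] [Algebra A B] (x : B) :
    x ∈ integralClosure A B ↔
      ∀ (K : Type u) [Field K] (R : ValuationSubring K) (φ : B →+* K),
        (∀ a : A, φ (algebraMap A B a) ∈ R) → φ x ∈ R := by
  constructor
  · intro hx K _ R φ hφ
    obtain ⟨P, hP, hx⟩ := hx
    let ψ : A →+* R := (φ.comp (algebraMap A B)).codRestrict R.toSubring hφ
    have h1 : IsIntegral R (φ x) := by
      refine ⟨P.map ψ, hP.map ψ, ?_⟩
      rw [Polynomial.eval₂_map]
      have h0 : Polynomial.eval₂ (φ.comp (algebraMap A B)) (φ x) P = 0 := by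
        rw [← Polynomial.hom_eval₂, hx, map_zero]
      exact h0
    obtain ⟨y, hy⟩ := IsIntegrallyClosed.isIntegral_iff.mp h1
    exact hy ▸ y.2
  · intro h
    by_contra hx
    let M : Submonoid B :=
      { carrier := {y | ∃ P : Polynomial A, P.Monic ∧ Polynomial.aeval x P = y}
        one_mem' := ⟨1, Polynomial.monic_one, by simp⟩
        mul_mem' := fun ⟨P, hP, e⟩ ⟨Q, hQ, e'⟩ => ⟨P * Q, hP.mul hQ, by simp [e, e']⟩ }
    have hM : Disjoint ((⊥ : Ideal B) : Set B) (M : Set B) := by
      rw [Set.disjoint_left]
      rintro y hy ⟨P, hP, e⟩
      exact hx ⟨P, hP, e.trans hy⟩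
    obtain ⟨q, hq, -, hqM⟩ := Ideal.exists_le_prime_disjoint _ M hM
    let K := FractionRing (B ⧸ q)
    let φ : B →+* K := (algebraMap (B ⧸ q) K).comp (Ideal.Quotient.mk q)
    letI : Algebra A K := (φ.comp (algebraMap A B)).toAlgebra
    let R0 : Subring K := (integralClosure A K).toSubring
    haveI : IsIntegrallyClosedIn R0 K := inferInstanceAs (IsIntegrallyClosedIn (integralClosure A K) K)
    have hxR : φ x ∉ R0 := by
      rintro ⟨P, hP, e⟩
      have e' : φ (Polynomial.aeval x P) = 0 := by rw [Polynomial.aeval_def, Polynomial.hom_eval₂]; exact e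
      have hq' : Polynomial.aeval x P ∈ q := by
        rw [← Ideal.Quotient.eq_zero_iff_mem]
        exact IsFractionRing.injective (B ⧸ q) K (e'.trans (map_zero _).symm)
      exact Set.disjoint_left.mp hqM hq' ⟨P, hP, rfl⟩
    obtain ⟨V, hV, hxV⟩ := Subring.exists_le_valuationSubring_of_isIntegrallyClosedIn hxR
    exact hxV (h K V φ fun a => hV (isIntegral_algebraMap (R := A) (x := a)))

end Groth.Agent.S19333
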