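import Groth.Statements.S19336
import Groth.Agent.NagataCompLib.Nagata

set_option autoImplicit false
universe u
open CategoryTheory CategoryTheory.Limits AlgebraicGeometry TopologicalSpace
open ModPair

namespace Groth.Agent.S19336

/-- Let (S, I) be a modulus pair, i.e. a scheme S with the quasi-coherent ideal sheaf I of an effective
Cartier divisor, with S quasi-compact and quasi-separated and with interior U, and let (V_i) be a
covering of U by quasi-compact open subsets. Then there are a quasi-coherent ideal sheaf F of finite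
type on S whose support is disjoint from U, a blow-up b : Y ⟶ S of S in F (an admissible blow-up)
such that I.comap b is again the ideal sheaf of an effective Cartier divisor, and a covering of Y by
quasi-compact open subsets W_j such that each W_j ∩ b⁻¹(U) is contained in b⁻¹(V_i) for some i: the
Zariski covering of the interior extends, after an admissible blow-up, to a Zariski covering of the
total space. -/
theorem result {S : Scheme.{u}}
    [CompactSpace S] [QuasiSeparatedSpace S] (I : S.IdealSheafData)
    (hI : BlowUp.IsEffCartierIdeal I) {ι : Type u} (V : ι → S.Opens)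
    (hVU : ∀ i, V i ≤ ModPair.interior I) (hVqc : ∀ i, IsCompact (V i : Set S))
    (hcov : ModPair.interior I ≤ ⨆ i, V i) :
    ∃ (F : S.IdealSheafData) (Y : Scheme.{u}) (b : Y ⟶ S) (κ : Type u) (W : κ → Y.Opens),
      BlowUp.IsAdmissibleFor (ModPair.interior I) F ∧ BlowUp.IsBlowUp b F ∧
        BlowUp.IsEffCartierIdeal (I.comap b) ∧ (∀ k, IsCompact (W k : Set Y)) ∧
        (⨆ k, W k) = ⊤ ∧ ∀ k, ∃ i, W k ⊓ b ⁻¹ᵁ ModPair.interior I ≤ b ⁻¹ᵁ V i := by
  classical
  have hIft : BlowUp.IsFiniteTypeIdeal I := ModPairLib.fg_of_isEffCartier hI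
  let U := ModPair.interior I
  have hUc : IsCompact (U : Set S) :=
    MiscFlat6.isCompact_of_finiteType_idealSheaf U I hIft (compl_compl _).symm
  obtain ⟨t, ht⟩ := hUc.elim_finite_subcover (fun i => (V i : Set S)) (fun i => (V i).isOpen)
    (fun x hx => Set.mem_iUnion.mpr (TopologicalSpace.Opens.mem_iSup.mp (hcov hx)))
  choose J hJ hJs using fun i => MiscFlat6.exists_finiteType_idealSheaf (V i) (hVqc i)
  let G := t.sup J
  have hG : BlowUp.IsFiniteTypeIdeal G := by
    show BlowUp.IsFiniteTypeIdeal (t.sup J)
    clear ht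
    induction t using Finset.induction_on with
    | empty => intro W; rw [Finset.sup_empty, Scheme.IdealSheafData.ideal_bot, Pi.bot_apply]; exact Submodule.fg_bot
    | insert a s _ ih => rw [Finset.sup_insert]; exact ModPairLib.fg_sup (hJ a) ih
  have ha : BlowUp.IsAdmissibleFor U (G * I) := by
    refine ⟨fun W => ?_, ?_⟩
    · rw [Scheme.IdealSheafData.ideal_mul, Pi.mul_apply]; exact Submodule.FG.mul (hG W) (hIft W)
    · rw [Scheme.IdealSheafData.support_mul]
      refine Disjoint.union_left (Set.disjoint_left.2 fun x hx hxU => ?_) (Set.disjoint_left.2 fun x hx hxU => hxU hx)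
      obtain ⟨i, hi, hxi⟩ := Set.mem_iUnion₂.mp (ht hxU)
      exact (hJs i).le (Scheme.IdealSheafData.support_antitone (Finset.le_sup (f := J) hi) hx) hxi
  obtain ⟨Y, b, hb⟩ := BlowUpLib.exists_isBlowUp S (G * I)
  have hmul := hb.1
  rw [BlowUpLib.comap_mul] at hmul
  have hGc : BlowUp.IsEffCartierIdeal (G.comap b) := BlowUpLib.isEffCartier_of_mul (mul_comm (G.comap b) _ ▸ hmul)
  have hIc : BlowUp.IsEffCartierIdeal (I.comap b) := BlowUpLib.isEffCartier_of_mul hmul
  choose M hM using fun i : t => ModPairLib.exists_mul_eq hGc (J := (J i.1).comap b)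
    (Scheme.IdealSheafData.comap_mono b (Finset.le_sup i.2))
  have htop : (⨆ i, M i) = ⊤ := by
    refine le_antisymm le_top ?_
    refine ModPairLib.le_of_mul_le hGc ?_
    rw [Scheme.IdealSheafData.top_mul]
    show (t.sup J).comap b ≤ _
    rw [← Scheme.IdealSheafData.le_map_iff_comap_le]
    refine Finset.sup_le fun i hi => ?_
    rw [Scheme.IdealSheafData.le_map_iff_comap_le, ← hM ⟨i, hi⟩]
    intro W
    simp only [Scheme.IdealSheafData.ideal_mul, Pi.mul_apply]
    exact Ideal.mul_mono_left ((le_iSup M ⟨i, hi⟩ :) W)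
  have hcovM : ∀ y : Y, ∃ i : t, y ∉ ((M i).support : Set Y) := by
    intro y
    by_contra h
    push Not at h
    have : y ∈ ((⨆ i, M i).support : Set Y) := by
      rw [Scheme.IdealSheafData.support_iSup]
      simpa using h
    rw [htop, Scheme.IdealSheafData.support_top] at this
    exact this
  choose i hi using hcovM
  choose A hA hyA hAM using fun y => exists_isAffineOpen_mem_and_subset (x := y)
    (U := ⟨((M (i y)).support : Set Y)ᶜ, (M (i y)).support.isClosed.isOpen_compl⟩) (hi y)
  refine ⟨G * I, Y, b, Y, A, ha, hb, hIc, fun k => (hA k).isCompact,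
    eq_top_iff.mpr fun y _ => TopologicalSpace.Opens.mem_iSup.mpr ⟨y, hyA y⟩, fun k => ⟨(i k).1, fun x hx => ?_⟩⟩
  show b x ∈ V (i k).1
  by_contra hxV
  have h1 : x ∈ (((J (i k).1).comap b).support : Set Y) := by
    rw [Scheme.IdealSheafData.support_comap]
    exact (hJs _).ge hxV
  rw [← hM (i k), Scheme.IdealSheafData.support_mul] at h1
  refine h1.elim (fun h2 => hAM k hx.1 h2) fun h2 => ?_
  rw [Scheme.IdealSheafData.support_comap] at h2
  refine Set.disjoint_left.mp ha.2 ?_ hx.2
  rw [Scheme.IdealSheafData.support_mul]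
  exact Or.inl h2

end Groth.Agent.S19336
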