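import Groth.Statements.S19338
import Mathlib

-- import your own Groth.Agent.* helpers here

set_option autoImplicit false
universe w v u
open CategoryTheory
open ModPair

namespace Groth.Agent.S19338

/-- Let C be a category and S a class of morphisms which contains the identities, is closed under
composition, admits a right calculus of fractions, and consists of monomorphisms. Then the sieves
containing a morphism of S are the covering sieves of a Grothendieck topology on C, and for every
such topology J a presheaf of types F on C is a J-sheaf if and only if it is S-local, i.e. F sends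
every morphism of S to a bijection. -/
theorem result {C : Type u} [Category.{v} C]
    (S : MorphismProperty C) [S.HasRightCalculusOfFractions]
    (hmono : ∀ ⦃X Y : C⦄ (s : X ⟶ Y), S s → Mono s) :
    (∃ J : GrothendieckTopology C, ∀ (X : C) (T : Sieve X),
        T ∈ J X ↔ ∃ (Y : C) (s : Y ⟶ X), S s ∧ T s) ∧
      ∀ J : GrothendieckTopology C, (∀ (X : C) (T : Sieve X),
          T ∈ J X ↔ ∃ (Y : C) (s : Y ⟶ X), S s ∧ T s) →
        ∀ F : Cᵒᵖ ⥤ Type w,
          Presheaf.IsSheaf J F ↔ ∀ ⦃X Y : C⦄ (s : X ⟶ Y), S s → IsIso (F.map s.op) := by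
  have hid : ∀ X : C, S (𝟙 X) := fun X => S.id_mem X
  refine ⟨⟨{
    sieves := fun X => {T | ∃ (Y : C) (s : Y ⟶ X), S s ∧ T s}
    top_mem' := fun X => ⟨X, 𝟙 X, hid X, trivial⟩
    pullback_stable' := ?_
    transitive' := ?_ }, fun X T => Iff.rfl⟩, fun J hJ F => ?_⟩
  · rintro X Z T f ⟨Y, s, hs, hT⟩
    obtain ⟨ψ, hψ⟩ := (MorphismProperty.LeftFraction.mk f s hs).exists_rightFraction
    refine ⟨_, ψ.s, ψ.hs, ?_⟩
    show T (ψ.s ≫ f)
    rw [show ψ.s ≫ f = ψ.f ≫ s from hψ]
    exact T.downward_closed hT _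
  · rintro X T ⟨Y, s, hs, hT⟩ R hR
    obtain ⟨Y', t, ht, hR'⟩ := hR hT
    exact ⟨Y', t ≫ s, S.comp_mem t s ht hs, hR'⟩
  rw [CategoryTheory.isSheaf_iff_isSheaf_of_type]
  constructor
  · intro hF X Y s hs
    haveI := hmono s hs
    rw [isIso_iff_bijective]
    have hsep := hF (Sieve.generate (Presieve.singleton s))
      ((hJ Y _).mpr ⟨X, s, hs, ⟨X, 𝟙 X, s, Presieve.singleton.mk, Category.id_comp s⟩⟩)
    rw [← Presieve.isSheafFor_iff_generate] at hsep
    rw [Presieve.isSheafFor_singleton] at hsep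
    constructor
    · intro a b hab
      obtain ⟨y, -, huniq⟩ := hsep (F.map s.op a) (fun {Z} p₁ p₂ h => by rw [(cancel_mono s).mp h])
      exact (huniq a rfl).trans (huniq b hab.symm).symm
    · intro x
      obtain ⟨y, hy, -⟩ := hsep x (fun {Z} p₁ p₂ h => by rw [(cancel_mono s).mp h])
      exact ⟨y, hy⟩
  · intro hF X T hT
    obtain ⟨Y, s, hs, hTs⟩ := (hJ X T).mp hT
    have hb := (isIso_iff_bijective (F.map s.op)).mp (hF s hs)
    intro fam hfam
    obtain ⟨a, ha⟩ := hb.2 (fam s hTs)
    refine ⟨a, fun Z g hg => ?_, fun b hbm => hb.1 ((hbm s hTs).trans ha.symm)⟩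
    obtain ⟨ψ, hψ⟩ := (MorphismProperty.LeftFraction.mk g s hs).exists_rightFraction
    have hb' := (isIso_iff_bijective (F.map ψ.s.op)).mp (hF ψ.s ψ.hs)
    apply hb'.1
    have e := hfam ψ.s ψ.f hg hTs hψ
    rw [e]
    have e2 : ∀ z, F.map ψ.s.op (F.map g.op z) = F.map ψ.f.op (F.map s.op z) := fun z => by
      rw [← FunctorToTypes.map_comp_apply, ← FunctorToTypes.map_comp_apply, ← op_comp, ← op_comp]
      exact congrArg (fun q => F.map q.op z) hψ
    rw [e2, ha]

end Groth.Agent.S19338
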