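import Groth.Statements.S19340
import Mathlib
-- helpers

set_option autoImplicit false
universe v v' u u'
open CategoryTheory
open ModPair

namespace Groth.Agent.S19340

/-- Let C be a category, S a class of morphisms of C containing the identities, closed under composition
and admitting a right calculus of fractions, and L : C ⥤ D a localization functor for S. Then for
every object X of C the comma category of L under X, whose objects are pairs (Y, L(X) ⟶ L(Y)) and
whose morphisms are morphisms Y ⟶ Y' of C compatible with the structure maps, is cofiltered. The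
published statement calls this category filtered; its proof verifies, and this row states,
cofilteredness. -/
theorem result {C : Type u}
    [Category.{v} C] {D : Type u'} [Category.{v'} D] (S : MorphismProperty C)
    [S.HasRightCalculusOfFractions] (L : C ⥤ D) [L.IsLocalization S] (X : C) :
    IsCofiltered (StructuredArrow (L.obj X) L) := by
  have hinv := Localization.inverts L S
  haveI : IsCofilteredOrEmpty (StructuredArrow (L.obj X) L) := by
    constructor
    · intro A B
      obtain ⟨φ, hφ⟩ := Localization.exists_rightFraction L S A.hom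
      obtain ⟨ψ, hψ⟩ := Localization.exists_rightFraction L S B.hom
      obtain ⟨χ, hχ⟩ := (MorphismProperty.LeftFraction.mk φ.s ψ.s ψ.hs).exists_rightFraction
      simp only at hχ
      haveI := hinv _ φ.hs
      haveI := hinv _ ψ.hs
      haveI := hinv _ χ.hs
      haveI : IsIso (L.map (χ.s ≫ φ.s)) := by rw [L.map_comp]; infer_instance
      refine ⟨StructuredArrow.mk (inv (L.map (χ.s ≫ φ.s)) : L.obj X ⟶ L.obj χ.X'),
        StructuredArrow.homMk (χ.s ≫ φ.f) ?_, StructuredArrow.homMk (χ.f ≫ ψ.f) ?_, trivial⟩
      · show inv (L.map (χ.s ≫ φ.s)) ≫ L.map (χ.s ≫ φ.f) = A.hom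
        rw [IsIso.inv_comp_eq, hφ, L.map_comp, L.map_comp, Category.assoc,
          MorphismProperty.RightFraction.map_s_comp_map]
      · show inv (L.map (χ.s ≫ φ.s)) ≫ L.map (χ.f ≫ ψ.f) = B.hom
        rw [IsIso.inv_comp_eq, hψ, hχ, L.map_comp, L.map_comp, Category.assoc,
          MorphismProperty.RightFraction.map_s_comp_map]
    · intro A B u v
      obtain ⟨φ, hφ⟩ := Localization.exists_rightFraction L S A.hom
      haveI := hinv _ φ.hs
      have he : L.map (φ.f ≫ u.right) = L.map (φ.f ≫ v.right) := by
        rw [L.map_comp, L.map_comp, ← MorphismProperty.RightFraction.map_s_comp_map φ L hinv,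
          Category.assoc, Category.assoc, ← hφ]
        exact congrArg (L.map φ.s ≫ ·) ((StructuredArrow.w u).trans (StructuredArrow.w v).symm)
      obtain ⟨Z, t, ht, heq⟩ := (MorphismProperty.map_eq_iff_precomp L S _ _).mp he
      haveI := hinv _ ht
      haveI : IsIso (L.map (t ≫ φ.s)) := by rw [L.map_comp]; infer_instance
      refine ⟨StructuredArrow.mk (inv (L.map (t ≫ φ.s)) : L.obj X ⟶ L.obj Z),
        StructuredArrow.homMk (t ≫ φ.f) ?_, ?_⟩
      · show inv (L.map (t ≫ φ.s)) ≫ L.map (t ≫ φ.f) = A.hom
        rw [IsIso.inv_comp_eq, hφ, L.map_comp, L.map_comp, Category.assoc,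
          MorphismProperty.RightFraction.map_s_comp_map]
      · ext
        simpa using heq
  haveI : Nonempty (StructuredArrow (L.obj X) L) := ⟨StructuredArrow.mk (𝟙 (L.obj X))⟩
  exact ⟨⟩

end Groth.Agent.S19340
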