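import Groth.Statements.S19348
import Mathlib

set_option autoImplicit false
universe u
open RigCh

namespace Groth.Agent.S19348

/-- Let p be a prime and m a natural number, P a commutative ring complete and separated for the p-adic
topology, and I an ideal of P with a divided power structure of level m, that is a sub-ideal J of I
endowed with divided powers such that x ^ (p ^ m) and p * x lie in J for all x in I. Then an element
of P whose class in P / I is invertible is invertible in P. (The source states this for a lift of a
unit to the p-adically completed level-m divided power envelope of a closed immersion; the statement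
here keeps exactly what its argument uses: completeness for p and the level-m divided powers on the
kernel.) -/
theorem result (p : ℕ) [Fact p.Prime] (m : ℕ)
    (P : Type u) [CommRing P] [IsAdicComplete (Ideal.span {(p : P)}) P]
    (I J : Ideal P) (hJ : DividedPowers J) (hJI : J ≤ I)
    (hpow : ∀ x ∈ I, x ^ (p ^ m) ∈ J) (hmul : ∀ x ∈ I, (p : P) * x ∈ J)
    (u : P) (hu : IsUnit (Ideal.Quotient.mk I u)) : IsUnit u := by
  obtain ⟨v, hv⟩ := hu
  obtain ⟨w, hw⟩ := Ideal.Quotient.mk_surjective (↑v⁻¹ : P ⧸ I)
  have hmem : u * w - 1 ∈ I := by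
    rw [← Ideal.Quotient.eq, map_mul, hw, ← hv, map_one]
    exact v.mul_inv
  have hp : ((u * w - 1) ^ (p ^ m)) ^ p ∈ Ideal.span {(p : P)} := by
    rw [← hJ.factorial_mul_dpow_eq_pow (hpow _ hmem), Ideal.mem_span_singleton]
    obtain ⟨q, hq⟩ := Nat.dvd_factorial (Fact.out : p.Prime).pos le_rfl
    exact Dvd.dvd.mul_right ⟨(q : P), by rw [← Nat.cast_mul, ← hq]⟩ _
  have hjac : u * w - 1 ∈ Ideal.jacobson (⊥ : Ideal P) := by
    rw [Ideal.jacobson, Ideal.mem_sInf]
    rintro M ⟨-, hM⟩
    have h1 := (IsAdicComplete.le_jacobson_bot (Ideal.span {(p : P)})) hp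
    rw [Ideal.jacobson, Ideal.mem_sInf] at h1
    exact hM.isPrime.mem_of_pow_mem _ (hM.isPrime.mem_of_pow_mem _ (h1 ⟨bot_le, hM⟩))
  have := Ideal.mem_jacobson_bot.1 hjac 1
  rw [mul_one, sub_add_cancel] at this
  exact isUnit_of_mul_isUnit_left this

end Groth.Agent.S19348
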