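import Groth.Statements.S19350
import Groth.Agent.StrictModLib.Basic
import Groth.Agent.GrModLib6.Rel
import Groth.Agent.KFlatLib.PerfectPull
import Groth.Agent.PerfLib.Restrict

set_option autoImplicit false
universe u
open RigCh

namespace Groth.Agent.S19350

open AlgebraicGeometry CategoryTheory in
/-- Let X be a separated scheme of finite type over a field k, I a quasi-coherent ideal sheaf on X, b :
X' → X a blowing up of X in I and F a finite locally free O_X-module. Then for any strict transform
G of F along b (an epimorphism π from the pullback of F onto G whose kernel consists,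
affine-locally, of the sections annihilated by a power of the exceptional ideal), π is an
isomorphism and G is finite locally free. (The published statement asserts only that the strict
transform is locally free. The source assumes k of positive characteristic, which plays no role
here.) -/
theorem result (k : Type u) [Field k]
    (X : Scheme.{u}) (f : X ⟶ Spec (CommRingCat.of k)) [IsSeparated f] [QuasiCompact f] [LocallyOfFiniteType f]
    (I : X.IdealSheafData) {X' : Scheme.{u}} (b : X' ⟶ X) (hb : BlowUp.IsBlowUp b I)
    (F : X.Modules) (hF : FlatMod.IsFinLocFree F) (G : X'.Modules) (π : (Scheme.Modules.pullback b).obj F ⟶ G)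
    (hG : BlowUp.IsStrictTransform b I F G π) : IsIso π ∧ FlatMod.IsFinLocFree G := by
  have hpF := KFlatLib.isFinLocFree_pull b hF
  haveI := hG.1
  haveI : Mono π := by
    refine GrModLib6.mono_of_app_injective π fun V => (injective_iff_map_eq_zero _).mpr fun m hm => ?_
    refine GrModLib6.eq_zero_of_locally m fun x hx => ?_
    obtain ⟨W, hW, hxW, hWV⟩ := TopologicalSpace.Opens.isBasis_iff_nbhd.mp X'.isBasis_affineOpens hx
    refine ⟨W, hWV, hxW, StrictModLib.eq_zero_of_killed hb.1 _ (fun y _ => KFlatLib.isFlat_of_isFinLocFree hpF y)
      ⟨W, hW⟩ _ ((hG.2 ⟨W, hW⟩ _).mp ?_)⟩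
    refine (QCohLib.app_map π (CategoryTheory.homOfLE hWV) m).trans ?_
    rw [hm, map_zero]
  haveI : IsIso π := isIso_of_mono_of_epi π
  exact ⟨inferInstance, PerfLib.isFinLocFree_of_iso (asIso π) hpF⟩

end Groth.Agent.S19350
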