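import Groth.Statements.S19351
import Groth.Agent.NagataCompLib.Boundary

set_option autoImplicit false
universe u
open RigCh

namespace Groth.Agent.S19351
open CategoryTheory CategoryTheory.Limits AlgebraicGeometry

open AlgebraicGeometry CategoryTheory in
/-- Let φ : X' → X be a morphism of separated schemes of finite type over a field k. Then there are open
immersions j : X → X̄ and j' : X' → X̄' over k into schemes proper over k, whose complements are
supports of effective Cartier divisors (ideal sheaves locally generated on an affine open by one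
nonzerodivisor), together with a proper k-morphism X̄' → X̄ restricting to φ. (Compactifications in
the source are taken with divisor boundary by a standing convention; the second assertion, about
extending a pseudo-divisor, is not included. The source assumes k of positive characteristic; this
plays no role here.) -/
theorem result (k : Type u) [Field k]
    {X X' : Scheme.{u}} (f : X ⟶ Spec (CommRingCat.of k)) [IsSeparated f] [QuasiCompact f] [LocallyOfFiniteType f]
    (f' : X' ⟶ Spec (CommRingCat.of k)) [IsSeparated f'] [QuasiCompact f'] [LocallyOfFiniteType f']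
    (φ : X' ⟶ X) (hφ : φ ≫ f = f') :
    ∃ (Xb Xb' : Scheme.{u}) (j : X ⟶ Xb) (j' : X' ⟶ Xb') (g : Xb ⟶ Spec (CommRingCat.of k))
      (g' : Xb' ⟶ Spec (CommRingCat.of k)) (ψ : Xb' ⟶ Xb) (E : Xb.IdealSheafData) (E' : Xb'.IdealSheafData),
      IsOpenImmersion j ∧ IsOpenImmersion j' ∧ IsProper g ∧ IsProper g' ∧ j ≫ g = f ∧ j' ≫ g' = f' ∧
      IsProper ψ ∧ ψ ≫ g = g' ∧ j' ≫ ψ = φ ≫ j ∧
      BlowUp.IsEffCartierIdeal E ∧ (E.support : Set Xb) = (Set.range j.base)ᶜ ∧
      BlowUp.IsEffCartierIdeal E' ∧ (E'.support : Set Xb') = (Set.range j'.base)ᶜ := by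
  haveI : CompactSpace X := QuasiCompact.compactSpace_of_compactSpace f
  obtain ⟨Y, j₀, p, hj₀, -, hp, e₀⟩ := NagataCompLib.exists_compactification f
  haveI := hp
  haveI := hj₀
  haveI : CompactSpace Y := QuasiCompact.compactSpace_of_compactSpace p
  haveI : QuasiSeparatedSpace Y := quasiSeparatedSpace_of_quasiSeparated p
  obtain ⟨Xb, b, j, E, hb, hj, hjb, hE, hEs⟩ := NagataCompLib.exists_cartier_boundary j₀
  haveI := hb
  haveI : CompactSpace Xb := QuasiCompact.compactSpace_of_compactSpace b
  haveI : QuasiSeparatedSpace Xb := quasiSeparatedSpace_of_quasiSeparated b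
  let h : X' ⟶ Xb := φ ≫ j
  have hh : h ≫ b ≫ p = f' := by rw [Category.assoc, reassoc_of% hjb, e₀, hφ]
  haveI : IsSeparated (h ≫ b ≫ p) := by rw [hh]; infer_instance
  haveI : LocallyOfFiniteType (h ≫ b ≫ p) := by rw [hh]; infer_instance
  haveI : QuasiCompact (h ≫ b ≫ p) := by rw [hh]; infer_instance
  haveI : IsSeparated h := IsSeparated.of_comp h (b ≫ p)
  haveI : LocallyOfFiniteType h := locallyOfFiniteType_of_comp h (b ≫ p)
  haveI : QuasiCompact h := QuasiCompact.of_comp h (b ≫ p)
  obtain ⟨Y', j₀', p', hj₀', -, hp', e'⟩ := NagataCompLib.exists_compactification h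
  haveI := hp'
  haveI := hj₀'
  haveI : CompactSpace X' := QuasiCompact.compactSpace_of_compactSpace f'
  haveI : CompactSpace Y' := QuasiCompact.compactSpace_of_compactSpace p'
  haveI : QuasiSeparatedSpace Y' := quasiSeparatedSpace_of_quasiSeparated p'
  obtain ⟨Xb', b', j', E', hb', hj', hjb', hE', hEs'⟩ := NagataCompLib.exists_cartier_boundary j₀'
  haveI := hb'
  refine ⟨Xb, Xb', j, j', b ≫ p, (b' ≫ p') ≫ b ≫ p, b' ≫ p', E, E', hj, hj', inferInstance, inferInstance, ?_, ?_,
    inferInstance, rfl, ?_, hE, hEs, hE', hEs'⟩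
  · rw [reassoc_of% hjb, e₀]
  · simp only [Category.assoc]
    rw [reassoc_of% hjb', reassoc_of% e', hh]
  · rw [reassoc_of% hjb', e']

end Groth.Agent.S19351
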