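import Groth.Statements.S19352
import Mathlib
import Groth.Agent.SurfNumLib.Eff
import Groth.Agent.RRVanLib.GG
-- import your own Groth.Agent.* helpers here

set_option autoImplicit false
universe u
open CategoryTheory CategoryTheory.Limits AlgebraicGeometry
open Surf

namespace Groth.Agent.S19352

/-- Let k be an algebraically closed field and X a nonsingular projective surface over k, namely an
integral scheme, smooth over k, of dimension two, given with a closed immersion ι into a projective
space P^n_k over k, and let H = ι^* O(1) be the invertible module of a hyperplane section. If L is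
an invertible O_X-module (the module of a divisor D) with dim_k H^0(X, L) > 1, then (L·H) > 0. Here
(A·B) denotes the intersection number of two invertible modules, the alternating sum χ(O_X) − χ(A) −
χ(B) + χ(A ⊗ B) of Euler characteristics (cohomology in degrees at most two); for two invertible
modules this agrees with the same sum formed from their inverses. -/
theorem result (k : Type u) [Field k] [IsAlgClosed k]
    (X : Scheme.{u}) [X.Over (Spec (CommRingCat.of k))] [AlgebraicGeometry.IsIntegral X]
    [Smooth (X ↘ Spec (CommRingCat.of k))] (hdim : topologicalKrullDim X = 2)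
    (n : ℕ) (ι : X ⟶ CohB1.ProjSpace n k) [IsClosedImmersion ι]
    (hι : ι ≫ CohB1.ProjSpace.toSpec n k = X ↘ Spec (CommRingCat.of k))
    (L : X.Modules) (hL : PicF.IsInvertible L)
    (hsec : 1 < Module.finrank k (Coh.HH X L 0)) :
    0 < FGA.intNum k X 2 ![L, (Scheme.Modules.pullback ι).obj (Twist.twistProjSpace n k 1)] (Coh.structureModule X) := by
  haveI := SurfNumLib.isProper_of_embedding ι hι
  haveI := CurvLib.isNoetherian k (X := X)
  rw [SurfNumLib.intNum_eq_pr_two hdim]
  obtain ⟨φ, hφ⟩ := HodgeIdxLib.hh_pos_of_hom (k := k) (CurvLib.isCoh_of_isInvertible hL)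
    (show HodgeIdxLib.hh k L 0 ≠ 0 from fun h => by change Module.finrank k (Coh.HH X L 0) = 0 at h; omega)
  refine SurfNumLib.pos_of_section (k := k) hdim hL (SurfNumLib.isAmple_embedding ι) hφ ?_
  by_contra hne
  haveI : Mono φ := CurvLib.mono_of_ne_zero CurvLib.isInvertible_structureModule hL hφ
  haveI : Epi φ := Abelian.epi_of_cokernel_π_eq_zero φ
    ((DevissLib.isZero_of_support_empty (Set.not_nonempty_iff_eq_empty.mp hne)).eq_of_tgt _ _)
  haveI : IsIso φ := isIso_of_mono_of_epi φ
  have h1 := (CurvLib.hIso (k := k) (asIso φ) 0).finrank_eq
  have h2 := RRVanLib.finrank_h0_structure (k := k) (X := X)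
  omega

end Groth.Agent.S19352
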