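import Groth.Statements.S19355
import Mathlib
import Groth.Agent.SurfNumLib.CastSev
-- import your own Groth.Agent.* helpers here

set_option autoImplicit false
universe u
open CategoryTheory AlgebraicGeometry Limits
open Zeta

namespace Groth.Agent.S19355

/-- Let C₁ and C₂ be smooth proper integral curves over an algebraically closed field k and S = C₁ × C₂,
with the curves C₁ × pt and pt × C₂ realised as sections i₁ : C₁ → S and i₂ : C₂ → S through
k-rational points, pinned by their composites with the two projections. For divisors D, D' on S,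
given as invertible modules L, L' with inverses M, M', write d₁, d₂ for the degrees of L along i₁,
i₂ (and d₁', d₂' for L'), (D·D') for the intersection number of M, M' with O_S (alternating sum of
Euler characteristics, cohomology up to degree two) and def(D) = 2 d₁ d₂ − (D·D) for the equivalence
defect. Then ((D·D') − d₁ d₂' − d₂ d₁')² ≤ def(D)·def(D'), i.e. the absolute value of (D·D') − d₁
d₂' − d₂ d₁' is at most the square root of def(D) def(D') (both defects being non-negative by the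
Castelnuovo–Severi inequality). -/
theorem result (k : Type u) [Field k]
    [IsAlgClosed k] (C₁ C₂ : Scheme.{u}) [C₁.Over (Spec (CommRingCat.of k))]
    [C₂.Over (Spec (CommRingCat.of k))]
    (h₁ : Curve.IsSmoothProperCurve k C₁ (C₁ ↘ Spec (CommRingCat.of k)))
    (h₂ : Curve.IsSmoothProperCurve k C₂ (C₂ ↘ Spec (CommRingCat.of k)))
    (x : Spec (CommRingCat.of k) ⟶ C₁) (hx : x ≫ (C₁ ↘ Spec (CommRingCat.of k)) = 𝟙 _)
    (y : Spec (CommRingCat.of k) ⟶ C₂) (hy : y ≫ (C₂ ↘ Spec (CommRingCat.of k)) = 𝟙 _)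
    (i₁ : C₁ ⟶ pullback (C₁ ↘ Spec (CommRingCat.of k)) (C₂ ↘ Spec (CommRingCat.of k)))
    (hi₁ : i₁ ≫ pullback.fst _ _ = 𝟙 C₁ ∧ i₁ ≫ pullback.snd _ _ = (C₁ ↘ Spec (CommRingCat.of k)) ≫ y)
    (i₂ : C₂ ⟶ pullback (C₁ ↘ Spec (CommRingCat.of k)) (C₂ ↘ Spec (CommRingCat.of k)))
    (hi₂ : i₂ ≫ pullback.snd _ _ = 𝟙 C₂ ∧ i₂ ≫ pullback.fst _ _ = (C₂ ↘ Spec (CommRingCat.of k)) ≫ x)
    (L M L' M' : (pullback (C₁ ↘ Spec (CommRingCat.of k)) (C₂ ↘ Spec (CommRingCat.of k))).Modules)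
    (hL : PicF.IsInvertible L) (hM : Nonempty (CohB1.tensorMod L M ≅ Coh.structureModule _))
    (hL' : PicF.IsInvertible L') (hM' : Nonempty (CohB1.tensorMod L' M' ≅ Coh.structureModule _)) :
    letI : (pullback (C₁ ↘ Spec (CommRingCat.of k)) (C₂ ↘ Spec (CommRingCat.of k))).Over
        (Spec (CommRingCat.of k)) := ⟨pullback.fst _ _ ≫ (C₁ ↘ Spec (CommRingCat.of k))⟩
    (FGA.intNum k (pullback (C₁ ↘ Spec (CommRingCat.of k)) (C₂ ↘ Spec (CommRingCat.of k))) 2 ![M, M'] (Coh.structureModule _)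
        - Curv2.deg k C₁ ((Scheme.Modules.pullback i₁).obj L) 1
            * Curv2.deg k C₂ ((Scheme.Modules.pullback i₂).obj L') 1
        - Curv2.deg k C₂ ((Scheme.Modules.pullback i₂).obj L) 1
            * Curv2.deg k C₁ ((Scheme.Modules.pullback i₁).obj L') 1) ^ 2 ≤
      (2 * Curv2.deg k C₁ ((Scheme.Modules.pullback i₁).obj L) 1
            * Curv2.deg k C₂ ((Scheme.Modules.pullback i₂).obj L) 1
          - FGA.intNum k (pullback (C₁ ↘ Spec (CommRingCat.of k)) (C₂ ↘ Spec (CommRingCat.of k))) 2 ![M, M] (Coh.structureModule _))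
        * (2 * Curv2.deg k C₁ ((Scheme.Modules.pullback i₁).obj L') 1
            * Curv2.deg k C₂ ((Scheme.Modules.pullback i₂).obj L') 1
          - FGA.intNum k (pullback (C₁ ↘ Spec (CommRingCat.of k)) (C₂ ↘ Spec (CommRingCat.of k))) 2 ![M', M'] (Coh.structureModule _)) := by
  letI : (pullback (C₁ ↘ Spec (CommRingCat.of k)) (C₂ ↘ Spec (CommRingCat.of k))).Over
      (Spec (CommRingCat.of k)) := ⟨pullback.fst _ _ ≫ (C₁ ↘ Spec (CommRingCat.of k))⟩
  obtain ⟨_, _, _, hd₁⟩ := h₁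
  obtain ⟨_, _, _, hd₂⟩ := h₂
  haveI := CurveBCLib.geometricallyIntegral_of_sepClosed (k := k) (X := C₁)
  haveI := CurveBCLib.geometricallyIntegral_of_sepClosed (k := k) (X := C₂)
  haveI : GeometricallyConnected (C₁ ↘ Spec (CommRingCat.of k)) := ⟨fun K _ y Z f g h => by
    haveI : IsIntegral Z := GeometricallyIntegral.geometrically_isIntegral _ _ _ h
    infer_instance⟩
  haveI : GeometricallyConnected (C₂ ↘ Spec (CommRingCat.of k)) := ⟨fun K _ y Z f g h => by
    haveI : IsIntegral Z := GeometricallyIntegral.geometrically_isIntegral _ _ _ h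
    infer_instance⟩
  haveI : IsProper (pullback (C₁ ↘ Spec (CommRingCat.of k)) (C₂ ↘ Spec (CommRingCat.of k)) ↘ Spec (CommRingCat.of k)) :=
    inferInstanceAs (IsProper (pullback.fst _ _ ≫ (C₁ ↘ Spec (CommRingCat.of k))))
  obtain ⟨hint, hdS⟩ := SurfNumLib.integral_prod (k := k) (C := C₁) (C' := C₂) hd₁ hd₂
  obtain ⟨F₁, hF₁, e₁, e₁₁, e₁₂⟩ := SurfNumLib.exists_fibre (k := k) hd₁ hd₂
    (IsPullback.of_hasPullback _ _) rfl y hy i₁ hi₁.1 hi₁.2
  obtain ⟨F₂, hF₂, e₂, e₂₂, e₂₁⟩ := SurfNumLib.exists_fibre (k := k) hd₂ hd₁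
    (IsPullback.of_hasPullback _ _).flip (pullback.condition (f := C₁ ↘ Spec (CommRingCat.of k))).symm x hx i₂ hi₂.1 hi₂.2
  have hD := fun {A A' : (pullback (C₁ ↘ Spec (CommRingCat.of k)) (C₂ ↘ Spec (CommRingCat.of k))).Modules}
      (hA : PicF.IsInvertible A) (hA' : PicF.IsInvertible A') => SurfNumLib.defect hdS hF₁ hF₂ hA hA'
    (by rw [e₁ _ hF₁, e₁₁]; rfl) (by rw [e₁ _ hF₂, e₂₁ i₁ hi₁.1]; rfl) (by rw [e₂ _ hF₂, e₂₂]; rfl)
    (e₁ _ hA) (e₂ _ hA) (e₁ _ hA') (e₂ _ hA')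
  rw [SurfNumLib.intNum_eq_pr hdS.le, SurfNumLib.pr_inv_inv hdS.le hL hL' hM.some hM'.some,
    SurfNumLib.intNum_eq_pr hdS.le, SurfNumLib.pr_inv_inv hdS.le hL hL hM.some hM.some,
    SurfNumLib.intNum_eq_pr hdS.le, SurfNumLib.pr_inv_inv hdS.le hL' hL' hM'.some hM'.some]
  exact (hD hL hL').2

end Groth.Agent.S19355
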