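import Groth.Statements.S19358
import Groth.Agent.FanOreLib

set_option autoImplicit false
universe u
open CategoryTheory Opposite Instab
open Instab Instab.Fan

namespace Groth.Agent.S19358

/-- Let f : F ⟶ G be a map of formal fans. If f is injective on n-cones for every n, then the induced
continuous map of projective realizations P F → P G is injective; if f is surjective on n-cones for
every n, then P F → P G is surjective. -/
theorem result {F G : Fan.{u}} (f : F ⟶ G) :
    ((∀ n : ICone, Function.Injective (f.app (op n))) → Function.Injective (Fan.P.map f)) ∧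
    ((∀ n : ICone, Function.Surjective (f.app (op n))) → Function.Surjective (Fan.P.map f)) := by
  refine ⟨fun hf => ?_, fun hf => ?_⟩
  · intro x y
    induction x using Quot.ind with
    | mk x =>
    induction y using Quot.ind with
    | mk y =>
    intro h
    obtain ⟨m, φ, ψ, w, c, c', hc, hc', e, e1, e2⟩ :=
      Groth.Agent.FanOre.common_of_eqvGen (Quot.eqvGen_exact h)
    refine Groth.Agent.FanOre.eqvGen_of_common ⟨m, φ, ψ, w, c, c', hc, hc', ?_, e1, e2⟩
    apply hf m
    exact ((NatTrans.naturality_apply f φ.op x.1.2).trans e).trans
      (NatTrans.naturality_apply f ψ.op y.1.2).symm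
  · intro y
    induction y using Quot.ind with
    | mk y =>
    obtain ⟨⟨n, η⟩, v⟩ := y
    obtain ⟨ξ, rfl⟩ := hf n η
    exact ⟨Quot.mk _ ⟨⟨n, ξ⟩, v⟩, rfl⟩

end Groth.Agent.S19358
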