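import Groth.Statements.S19376
import Groth.Agent.AdicRingLib.Completion
import Groth.Agent.CompleteLib.Basic
import Mathlib

set_option autoImplicit false
universe u
open EGA4

namespace Groth.Agent.S19376

/-- The hard core: lifting to completions along images of an ideal of a Noetherian base. -/
theorem core {V A C : Type u} [CommRing V] [IsNoetherianRing V] (I : Ideal V)
    [CommRing A] [Algebra V A] [Algebra.FormallySmooth V A] [CommRing C] [Algebra V C]
    (IA : Ideal A) (IC : Ideal C) (hIA : IA = I.map (algebraMap V A))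
    (hIC : IC = I.map (algebraMap V C))
    (φ₀ : (A ⧸ IA) →ₐ[V] (C ⧸ IC)) (hφ₀ : φ₀.toRingHom.Finite) :
    ∃ φ : AdicCompletion IA A →ₐ[V] AdicCompletion IC C,
      φ.toRingHom.Finite ∧
      (AdicCompletion.evalOneₐ IC).toRingHom.comp φ.toRingHom =
        φ₀.toRingHom.comp (AdicCompletion.evalOneₐ IA).toRingHom := by
  have hI : I.FG := IsNoetherian.noetherian I
  have hAFG : IA.FG := hIA ▸ hI.map _
  have hCFG : IC.FG := hIC ▸ hI.map _
  obtain ⟨g, hg⟩ := Algebra.FormallySmooth.exists_adicCompletionEvalOneₐ_comp_eq
    (φ₀.comp (Ideal.Quotient.mkₐ V IA))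
  let hn : ∀ n, A →ₐ[V] C ⧸ IC ^ n := fun n =>
    ((AdicCompletion.evalₐ IC n).restrictScalars V).comp g
  have hker : ∀ n, ∀ a ∈ IA ^ n, hn n a = 0 := by
    intro n
    have : IA ^ n ≤ RingHom.ker (hn n).toRingHom := by
      rw [hIA, ← Ideal.map_pow, Ideal.map_le_iff_le_comap]
      intro x hx
      show hn n (algebraMap V A x) = 0
      rw [AlgHom.commutes, IsScalarTower.algebraMap_apply V C (C ⧸ IC ^ n),
        Ideal.Quotient.algebraMap_eq, Ideal.Quotient.eq_zero_iff_mem, hIC, ← Ideal.map_pow]
      exact Ideal.mem_map_of_mem _ hx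
    exact fun a ha => this ha
  let φn : ∀ n, AdicCompletion IA A →ₐ[V] C ⧸ IC ^ n := fun n =>
    (Ideal.Quotient.liftₐ (IA ^ n) (hn n) (hker n)).comp
      ((AdicCompletion.evalₐ IA n).restrictScalars V)
  have hcompat : ∀ {m n : ℕ} (hle : m ≤ n),
      (Ideal.Quotient.factorₐ V (Ideal.pow_le_pow_right hle)).comp (φn n) = φn m := by
    intro m n hle
    refine AlgHom.ext fun x => ?_
    induction x using AdicCompletion.induction_on with
    | _ f =>
      simp only [φn, AlgHom.comp_apply, AlgHom.restrictScalars_apply, AdicCompletion.evalₐ_mk]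
      show Ideal.Quotient.factor (Ideal.pow_le_pow_right hle) (hn n (f.1 n)) = hn m (f.1 m)
      have h1 : Ideal.Quotient.factor (Ideal.pow_le_pow_right hle) (hn n (f.1 n)) = hn m (f.1 n) := by
        show Ideal.Quotient.factor (Ideal.pow_le_pow_right hle) (AdicCompletion.evalₐ IC n (g (f.1 n))) =
          AdicCompletion.evalₐ IC m (g (f.1 n))
        generalize g (f.1 n) = y
        induction y using AdicCompletion.induction_on with
        | _ e =>
          rw [AdicCompletion.evalₐ_mk, AdicCompletion.evalₐ_mk, Ideal.Quotient.factor_mk,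
            Ideal.Quotient.eq, ← neg_sub]
          have := SModEq.sub_mem.1 (e.2 hle)
          rw [smul_eq_mul, Ideal.mul_top] at this
          exact neg_mem this
      rw [h1, ← sub_eq_zero, ← map_sub]
      refine hker m _ ?_
      have := SModEq.sub_mem.1 (f.2 hle)
      rw [smul_eq_mul, Ideal.mul_top] at this
      rw [← neg_sub]
      exact neg_mem this
  let φ := AdicCompletion.liftAlgHom IC φn hcompat
  have hone : (AdicCompletion.evalOneₐ IC).toRingHom.comp φ.toRingHom =
      φ₀.toRingHom.comp (AdicCompletion.evalOneₐ IA).toRingHom := by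
    refine RingHom.ext fun x => ?_
    show AdicCompletion.evalOneₐ IC (φ x) = φ₀ (AdicCompletion.evalOneₐ IA x)
    induction x using AdicCompletion.induction_on with
    | _ f =>
      have h1 : AdicCompletion.evalOneₐ IA (AdicCompletion.mk IA A f) =
          Ideal.Quotient.mk IA (f.1 1) := by
        simp [AdicCompletion.evalOneₐ]
      rw [h1, show φ₀ (Ideal.Quotient.mk IA (f.1 1)) = AdicCompletion.evalOneₐ IC (g (f.1 1)) from
        (AlgHom.congr_fun hg (f.1 1)).symm]
      simp only [φ, AdicCompletion.evalOneₐ_liftAlgHom, φn, AlgHom.comp_apply,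
        AlgHom.restrictScalars_apply, AdicCompletion.evalₐ_mk]
      rfl
  refine ⟨φ, ?_, hone⟩
  letI := φ.toRingHom.toAlgebra
  show Module.Finite (AdicCompletion IA A) (AdicCompletion IC C)
  set J : Ideal (AdicCompletion IA A) := IA.map (algebraMap A (AdicCompletion IA A)) with hJ
  set K : Ideal (AdicCompletion IC C) := IC.map (algebraMap C (AdicCompletion IC C)) with hK
  have : IsAdicComplete J (AdicCompletion IA A) := AdicRingLib.isAdicComplete_map hAFG
  have : IsAdicComplete K (AdicCompletion IC C) := AdicRingLib.isAdicComplete_map hCFG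
  have hJK : J.map (algebraMap (AdicCompletion IA A) (AdicCompletion IC C)) = K := by
    have eA := congrArg (Ideal.map (algebraMap A (AdicCompletion IA A))) hIA
    have eC := congrArg (Ideal.map (algebraMap C (AdicCompletion IC C))) hIC
    rw [hJ, hK, eA, eC, Ideal.map_map, Ideal.map_map, Ideal.map_map,
      RingHom.comp_assoc, ← IsScalarTower.algebraMap_eq V A (AdicCompletion IA A),
      ← IsScalarTower.algebraMap_eq V C (AdicCompletion IC C)]
    congr 1
    exact φ.comp_algebraMap
  have hmem : ∀ (n : ℕ) (x : AdicCompletion IC C),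
      x ∈ (J ^ n • ⊤ : Submodule (AdicCompletion IA A) (AdicCompletion IC C)) ↔ x ∈ K ^ n := by
    intro n x
    rw [Ideal.smul_top_eq_map, Submodule.restrictScalars_mem, Ideal.map_pow, hJK]
  have : IsHausdorff J (AdicCompletion IC C) := ⟨fun x hx => by
    refine IsHausdorff.haus (inferInstance : IsHausdorff K (AdicCompletion IC C)) x fun n => ?_
    have := hx n
    rw [SModEq.zero] at this ⊢
    rw [smul_eq_mul, Ideal.mul_top]
    exact (hmem n x).1 this⟩
  refine CompleteLib.finite_of_quotient_finite (I := J) ?_
  -- generators of `C ⧸ IC` over `A ⧸ IA`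
  letI := φ₀.toRingHom.toAlgebra
  have hfin : Module.Finite (A ⧸ IA) (C ⧸ IC) := hφ₀
  obtain ⟨s, hs⟩ := hfin.fg_top
  classical
  choose lift hlift using Ideal.Quotient.mk_surjective (I := IC)
  let q := (J • ⊤ : Submodule (AdicCompletion IA A) (AdicCompletion IC C)).mkQ
  refine ⟨⟨s.image (fun b => q (algebraMap C _ (lift b))), eq_top_iff.2 fun z _ => ?_⟩⟩
  obtain ⟨y, rfl⟩ := Submodule.mkQ_surjective _ z
  obtain ⟨c, hc⟩ := AdicRingLib.exists_sub_mem_map_pow hCFG 1 y
  rw [pow_one, ← hK] at hc
  have hqK : ∀ w ∈ K, q w = 0 := fun w hw => by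
    simp only [q, Submodule.mkQ_apply, Submodule.Quotient.mk_eq_zero]
    rw [← pow_one J]
    exact (hmem 1 w).2 (by rwa [pow_one])
  rw [show q y = q (y - algebraMap C _ c) + q (algebraMap C _ c) by rw [← map_add, sub_add_cancel],
    hqK _ hc, zero_add]
  have hspan : ∀ b : C ⧸ IC, q (algebraMap C _ (lift b)) ∈ Submodule.span (AdicCompletion IA A)
      ((s.image (fun b => q (algebraMap C _ (lift b))) : Finset _) : Set _) := by
    have hindep : ∀ c' c'' : C, Ideal.Quotient.mk IC c' = Ideal.Quotient.mk IC c'' →
        q (algebraMap C _ c') = q (algebraMap C _ c'') := fun c' c'' h => by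
      rw [← sub_eq_zero, ← map_sub, ← map_sub]
      exact hqK _ (Ideal.mem_map_of_mem _ (Ideal.Quotient.eq.1 h))
    intro b
    have hb : b ∈ Submodule.span (A ⧸ IA) (s : Set (C ⧸ IC)) := hs ▸ Submodule.mem_top
    induction hb using Submodule.span_induction with
    | mem x hx => exact Submodule.subset_span (by simpa using ⟨x, hx, rfl⟩)
    | zero =>
      rw [hindep _ 0 (by rw [hlift, map_zero]), map_zero, map_zero]
      exact zero_mem _
    | add x x' _ _ hx hx' =>
      rw [hindep _ (lift x + lift x') (by rw [map_add, hlift, hlift, hlift]), map_add, map_add]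
      exact add_mem hx hx'
    | smul r x _ hx =>
      obtain ⟨a, rfl⟩ := Ideal.Quotient.mk_surjective r
      obtain ⟨c₁, hc₁⟩ := AdicRingLib.exists_sub_mem_map_pow hCFG 1 (φ (algebraMap A _ a))
      rw [pow_one, ← hK] at hc₁
      have hc₁' : Ideal.Quotient.mk IC c₁ = φ₀ (Ideal.Quotient.mk IA a) := by
        have h1 : AdicCompletion.evalOneₐ IC (φ (algebraMap A (AdicCompletion IA A) a)) =
            φ₀ (AdicCompletion.evalOneₐ IA (algebraMap A (AdicCompletion IA A) a)) :=
          RingHom.congr_fun hone (algebraMap A (AdicCompletion IA A) a)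
        have h2 : ∀ w ∈ K, AdicCompletion.evalOneₐ IC w = 0 := by
          have : K ≤ RingHom.ker (AdicCompletion.evalOneₐ IC).toRingHom := by
            rw [hK, Ideal.map_le_iff_le_comap]
            intro w hw
            show AdicCompletion.evalOneₐ IC (algebraMap C _ w) = 0
            rw [AlgHom.commutes, Ideal.Quotient.algebraMap_eq, Ideal.Quotient.eq_zero_iff_mem]
            exact hw
          exact fun w hw => this hw
        have h3 := h2 _ hc₁
        rw [map_sub, sub_eq_zero, h1, AlgHom.commutes, AlgHom.commutes] at h3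
        exact h3.symm
      have hsm : q (algebraMap C _ (lift ((Ideal.Quotient.mk IA a) • x))) =
          algebraMap A (AdicCompletion IA A) a • q (algebraMap C _ (lift x)) := by
        refine Eq.trans ?_ (q.map_smul _ _)
        rw [Algebra.smul_def (A := AdicCompletion IC C)]
        rw [hindep _ (c₁ * lift x) (by
          rw [hlift, map_mul, hc₁', hlift, Algebra.smul_def]; rfl)]
        have h4 : algebraMap (AdicCompletion IA A) (AdicCompletion IC C)
            (algebraMap A _ a) * algebraMap C _ (lift x) =
            algebraMap C _ (c₁ * lift x) + (φ (algebraMap A _ a) - algebraMap C _ c₁) *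
              algebraMap C _ (lift x) := by
          rw [map_mul]
          show φ (algebraMap A _ a) * _ = _
          ring
        rw [h4, map_add, hqK _ (Ideal.mul_mem_right _ _ hc₁), add_zero]
      rw [hsm]
      exact Submodule.smul_mem _ _ hx
  rw [show q (algebraMap C _ c) = q (algebraMap C _ (lift (Ideal.Quotient.mk IC c))) by
    rw [← sub_eq_zero, ← map_sub, ← map_sub]
    exact hqK _ (Ideal.mem_map_of_mem _ (Ideal.Quotient.eq.1 (hlift _).symm))]
  exact hspan _

/-- Let V be an excellent normal ring with no additive torsion, I an ideal of V such that (V, I) is a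
henselian pair, A and C smooth V-algebras, and φ₀ a V-algebra homomorphism from A/IA to C/IC which
is finite. Then φ₀ lifts to a finite V-algebra homomorphism φ from the IA-adic completion of A to
the IC-adic completion of C: composing φ with the projection onto C/IC equals the projection onto
A/IA followed by φ₀. (The published statement also treats finite flat, finite faithfully flat and
finite étale maps, whose proofs are referred elsewhere; only the finite case is stated.) -/
theorem result
    (V : Type u) [CommRing V] [IsAddTorsionFree V]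
    (hexc : EGA4.IsExcellent V) (hV : EGA4.IsNormalRing V)
    (I : Ideal V) [HenselianRing V I]
    (A C : Type u) [CommRing A] [Algebra V A] [Algebra.Smooth V A]
    [CommRing C] [Algebra V C] [Algebra.Smooth V C]
    (φ₀ : (A ⧸ I.map (algebraMap V A)) →ₐ[V] (C ⧸ I.map (algebraMap V C)))
    (hφ₀ : φ₀.toRingHom.Finite) :
    ∃ φ : AdicCompletion (I.map (algebraMap V A)) A →ₐ[V]
        AdicCompletion (I.map (algebraMap V C)) C,
      φ.toRingHom.Finite ∧
      (AdicCompletion.evalOneₐ (I.map (algebraMap V C))).toRingHom.comp φ.toRingHom =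
        φ₀.toRingHom.comp (AdicCompletion.evalOneₐ (I.map (algebraMap V A))).toRingHom := by
  have := hexc.1
  exact core I _ _ rfl rfl φ₀ hφ₀

end Groth.Agent.S19376
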