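import Groth.Statements.S19377
import Groth.Agent.LinSysLib.AmpleProj
import Groth.Agent.MiscFlat6.QARelAmple
import Groth.Agent.MiscFlat6.RelAmpleComp
import Groth.Agent.S2337
import Groth.Agent.S7791
import Groth.Agent.ProperConnLib.Core
-- import your own Groth.Agent.* helpers here

set_option autoImplicit false
universe u
open CategoryTheory AlgebraicGeometry
open RelProj

namespace Groth.Agent.S19377

theorem quasiAffine_of_qc_open {X Y : Scheme.{u}} (j : X ⟶ Y) [IsOpenImmersion j] [QuasiCompact j] :
    Mor2.IsQuasiAffine j :=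
  RichLib.QA.of_isImmersion j

theorem exists_mem_of_dense {S : Scheme.{u}} [IsLocallyNoetherian S] {V : S.Opens} (hV : Dense (V : Set S))
    (s : S) : ∃ s' ∈ connectedComponent s, s' ∈ V := by
  haveI := ProperConnLib.locallyConnectedSpace S
  exact hV.exists_mem_open isOpen_connectedComponent ⟨s, mem_connectedComponent⟩ |>.imp fun x h => ⟨h.2, h.1⟩

/-- Let k be a field, S a smooth, separated and quasi-compact k-scheme and f : X → S a proper smooth
morphism. The following two conditions are equivalent. (P): there is a dense open subscheme U of X,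
quasi-projective over S, such that every connected component of S has a point not lying in the image
f(X ∖ U). Generic projectivity: there is a dense open subscheme V of S such that the restriction
f⁻¹(V) → V of f is projective. (The source works over the residue field of a complete discrete
valuation ring of mixed characteristic and adds that the restriction over V is smooth, which is
automatic; the base field plays no role and is arbitrary here.) -/
theorem result
    {k : Type u} [Field k] {X S : Scheme.{u}} (f : X ⟶ S) (g : S ⟶ Spec (.of k))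
    [Smooth g] [IsSeparated g] [QuasiCompact g] [IsProper f] [Smooth f] :
    (∃ U : X.Opens, Dense (U : Set X) ∧ RelProj.IsQuasiProjective (U.ι ≫ f) ∧
        ∀ s : S, ∃ s' : S, s' ∈ connectedComponent s ∧ s' ∉ ⇑f.base '' (U : Set X)ᶜ) ↔
      ∃ V : S.Opens, Dense (V : Set S) ∧ RelProj.IsProjective (f ∣_ V) := by
  classical
  haveI : IsLocallyNoetherian S := LocallyOfFiniteType.isLocallyNoetherian g
  haveI : CompactSpace S := QuasiCompact.compactSpace_of_compactSpace g
  haveI : IsNoetherian S := ⟨⟩
  constructor
  · rintro ⟨U, -, ⟨-, -, L, hL⟩, hcomp⟩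
    let Z : Set S := ⇑f.base '' (U : Set X)ᶜ
    have hZ : IsClosed Z := f.isClosedMap _ U.2.isClosed_compl
    let V : S.Opens := ⟨Zᶜ, hZ.isOpen_compl⟩
    refine ⟨V, ?_, ?_⟩
    · haveI := ProperConnLib.locallyConnectedSpace S
      rw [dense_iff_inter_open]
      intro O hO hne
      obtain ⟨s, hs⟩ := hne
      let C : S.Opens := ⟨connectedComponent s, isOpen_connectedComponent⟩
      haveI : ConnectedSpace (C : Scheme.{u}) :=
        isConnected_iff_connectedSpace.1 (isConnected_connectedComponent (x := s))
      haveI : IsIntegral (C : Scheme.{u}) :=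
        Groth.Agent.S7791.isIntegral_of_smooth_connected k _ (C.ι ≫ g)
      obtain ⟨s', hs', hs'Z⟩ := hcomp s
      have hirr : IsPreirreducible (connectedComponent s) := by
        have h := (IrreducibleSpace.isIrreducible_univ (C : Scheme.{u})).2.image C.ι C.ι.continuous.continuousOn
        rwa [Set.image_univ, Scheme.Opens.range_ι] at h
      obtain ⟨z, -, hzO, hzV⟩ := hirr O (Zᶜ) hO hZ.isOpen_compl ⟨s, mem_connectedComponent, hs⟩ ⟨s', hs', hs'Z⟩
      exact ⟨z, hzO, hzV⟩
    · haveI : CompactSpace (V : Scheme.{u}) :=
        isCompact_iff_compactSpace.mp (TopologicalSpace.NoetherianSpace.isCompact _)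
      have hle : f ⁻¹ᵁ V ≤ U := fun x hx => by
        by_contra h
        exact (show f x ∈ Zᶜ from hx) ⟨x, h, rfl⟩
      haveI : QuasiSeparatedSpace (V : Scheme.{u}) := inferInstance
      haveI : QuasiCompact (U.ι ≫ f) := hL.1
      let j := X.homOfLE hle
      have he : j ≫ U.ι ≫ f = (f ∣_ V) ≫ V.ι := by
        rw [morphismRestrict_ι, ← Category.assoc, Scheme.homOfLE_ι]
      haveI : QuasiCompact (f ∣_ V) := IsZariskiLocalAtTarget.restrict (P := @QuasiCompact) inferInstance V
      haveI : QuasiCompact (j ≫ U.ι ≫ f) := by rw [he]; infer_instance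
      haveI : QuasiCompact j := QuasiCompact.of_comp j (U.ι ≫ f)
      have h1 := MiscFlat6.isRelAmple_pb j (U.ι ≫ f) (quasiAffine_of_qc_open j) hL
      rw [he] at h1
      haveI : IsProper (f ∣_ V) := IsZariskiLocalAtTarget.restrict (P := @IsProper) inferInstance V
      exact LinSysLib.isProjective_of_isRelAmple (f ∣_ V) (MiscFlat6.isRelAmple_of_comp (f ∣_ V) V.ι h1)
  · rintro ⟨V, hV, hproj⟩
    refine ⟨f ⁻¹ᵁ V, hV.preimage f.isOpenMap, ?_, fun s => ?_⟩
    · haveI : QuasiCompact V.ι := inferInstance
      haveI : CompactSpace S := inferInstance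
      obtain ⟨⟨hft, hqc, L, hL⟩, -⟩ := MiscFlat6.isQuasiProjective_of_isProjective hproj
      haveI := hft
      haveI := hqc
      have hK := (Groth.Agent.S2337.result V.ι).1 (quasiAffine_of_qc_open V.ι)
      obtain ⟨n, -, hn⟩ := MiscFlat6.relAmple_comp_tensor_pullback_powers (f ∣_ V) V.ι L _ hL hK
      rw [← morphismRestrict_ι]
      exact ⟨inferInstance, inferInstance, _, hn n le_rfl⟩
    · obtain ⟨s', hs', hs'V⟩ := exists_mem_of_dense hV s
      refine ⟨s', hs', ?_⟩
      rintro ⟨x, hx, rfl⟩
      exact hx hs'V

end Groth.Agent.S19377
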