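import Groth.Statements.S19378
import Groth.Agent.GeomRedFibLib.OnePlus
-- import your own Groth.Agent.* helpers here

set_option autoImplicit false
universe u
open EGA4

namespace Groth.Agent.S19378

/-- Let A be a Noetherian ring, J a proper ideal of A, Â the J-adic completion and A_T the localization
of A at T = 1 + J. If the canonical map A → Â is a normal homomorphism (flat with geometrically
normal fibres), then A_T is a normal ring (all local rings integrally closed domains) if and only if
Â is. (The case of the henselization of the pair and of the weak completion is not stated here.) -/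
theorem result
    (A : Type u) [CommRing A] [IsNoetherianRing A] (J : Ideal A) (hJ : J ≠ ⊤)
    (hf : EGA4.IsNormalHom A (AdicCompletion J A))
    (T : Submonoid A) (hT : T = MonoidHom.mker (Ideal.Quotient.mk J)) :
    EGA4.IsNormalRing (Localization T) ↔ EGA4.IsNormalRing (AdicCompletion J A) := by
  haveI := hf.1
  haveI := AdicRingLib.isNoetherianRing_adicCompletion J
  haveI : IsNoetherianRing (Localization T) := IsLocalization.isNoetherianRing T _ inferInstance
  have hg : ∀ (p : Ideal A) [p.IsPrime], GeomRedFibLib.GeomP (GeomRedFibLib.RkLoc 1) p.ResidueField (p.Fiber (AdicCompletion J A)) ∧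
      GeomRedFibLib.GeomP (GeomRedFibLib.SkLoc 2) p.ResidueField (p.Fiber (AdicCompletion J A)) := fun p _ ↦ by
    haveI := GeomRedFibLib.isNoetherianRing_fiber A (AdicCompletion J A) p
    exact (GeomRedFibLib.geomP_normal_iff _ _).mp (hf.2 p)
  rw [GeomRedFibLib.isNormalRing_iff, GeomRedFibLib.isNormalRing_iff]
  refine and_congr
    (GeomRedFibLib.ringP_onePlus_iff (GeomRedFibLib.isFlatLocalProp_rkLoc 1) A J (fun q _ ↦ ?_) T hT)
    (GeomRedFibLib.ringP_onePlus_iff (GeomRedFibLib.isFlatLocalProp_skLoc 2) A J (fun q _ ↦ ?_) T hT)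
  · exact GeomRedFibLib.fibLocRing_of_fiber (GeomRedFibLib.isGeomProp_rkLoc 1) A _ q
      (GeomRedFibLib.ringP_fiber_of_forall_finite (GeomRedFibLib.isFlatLocalProp_rkLoc 1) _ ((hg _).1 _ inferInstance))
  · exact GeomRedFibLib.fibLocRing_of_fiber (GeomRedFibLib.isGeomProp_skLoc 2) A _ q
      (GeomRedFibLib.ringP_fiber_of_forall_finite (GeomRedFibLib.isFlatLocalProp_skLoc 2) _ ((hg _).2 _ inferInstance))

end Groth.Agent.S19378
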