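import Groth.Statements.S19380
import Mathlib.LinearAlgebra.Matrix.Charpoly.Coeff
import Mathlib.LinearAlgebra.Matrix.SchurComplement
import Mathlib.Data.List.Range

set_option autoImplicit false
universe u
open CAlg

namespace Groth.Agent.S19380

/-- Let L be a commutative ring, σ a ring automorphism of L of finite order dividing d (σ^d = 1), and C
an r × r matrix over L. The reverse characteristic polynomial det(1 − T·N) of the twisted product N
= C·σ(C)·σ²(C)⋯σ^(d−1)(C), with σ applied to the entries, is fixed by σ acting on coefficients. (In
the source this is phrased for the fibre at a closed point x of degree d of a convergent F-module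
with Frobenius matrix C: the d-th iterate of the semilinear Frobenius of the fibre is the linear map
with matrix N, so its characteristic polynomial has coefficients in the subfield fixed by the
Frobenius of K(x), namely K, and likewise with the valuation ring in place of K for an integral
F-module; only this linear-algebra statement, over any commutative ring, is given here.) -/
theorem result
    (L : Type u) [CommRing L] (σ : L ≃+* L) (d : ℕ) (hσ : σ ^ d = 1)
    (r : ℕ) (C : Matrix (Fin r) (Fin r) L) :
    (Matrix.charpolyRev (((List.range d).map fun i => C.map ⇑(σ ^ i)).prod)).map (σ : L →+* L) =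
      Matrix.charpolyRev (((List.range d).map fun i => C.map ⇑(σ ^ i)).prod) := by
  have hrev : ∀ A B : Matrix (Fin r) (Fin r) L, (A * B).charpolyRev = (B * A).charpolyRev := fun A B => by
    unfold Matrix.charpolyRev
    rw [Matrix.map_mul, Matrix.map_mul, ← smul_mul_assoc, Matrix.det_one_sub_mul_comm, mul_smul_comm]
  have hmap : ∀ M : Matrix (Fin r) (Fin r) L,
      (M.charpolyRev).map (σ : L →+* L) = (M.map ⇑σ).charpolyRev := fun M => by
    unfold Matrix.charpolyRev
    rw [← Polynomial.coe_mapRingHom, RingHom.map_det]
    congr 1
    ext i j
    rw [RingHom.mapMatrix_apply]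
    by_cases hij : i = j <;> simp [Matrix.one_apply, hij, Polynomial.map_sub]
  rcases d with _ | d
  · rw [hmap]
    congr 1
    ext i j
    rcases eq_or_ne i j with rfl | hij <;> simp [*]
  set T : ℕ → Matrix (Fin r) (Fin r) L := fun i => C.map ⇑(σ ^ i) with hT
  rw [hmap, show (((List.range (d + 1)).map T).prod).map ⇑σ =
      ((List.range (d + 1)).map fun i => T (i + 1)).prod by
    rw [← RingHom.coe_coe σ, ← RingHom.mapMatrix_apply, map_list_prod, List.map_map]
    congr 1
    refine List.map_congr_left fun i _ => ?_
    ext a b
    simp only [hT, Function.comp_apply, RingHom.mapMatrix_apply, Matrix.map_apply, RingHom.coe_coe]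
    rw [pow_succ', RingAut.mul_apply]]
  nth_rw 2 [List.range_succ_eq_map]
  rw [List.map_cons, List.prod_cons, List.range_succ, List.map_append, List.prod_append, List.map_map,
    List.map_singleton, List.prod_singleton, hrev (T 0)]
  congr 2
  show C.map ⇑(σ ^ (d + 1)) = C.map ⇑(σ ^ 0)
  rw [hσ, pow_zero]

end Groth.Agent.S19380
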