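import Groth.Statements.S19383
import Mathlib
-- import your own Groth.Agent.* helpers here

set_option autoImplicit false
universe u
open CAlg

namespace Groth.Agent.S19383

/-- Over a discrete valuation ring, let V be a henselian discrete valuation ring with maximal ideal 𝔪
and B a Noetherian V-algebra, B̂ its 𝔪B-adic completion. Then B is flat over V if and only if B̂ is
flat over V. (The published lemma takes V an excellent normal ring with an ideal I such that (V,
V/I) is a henselian pair and B of finite type; in that generality it fails: for V = ℤ_p[[x]], I =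
(p) and B = V[y]/(x, py − 1) ≅ ℚ_p one has IB = B, so B̂ = 0 is flat while B is not flat over V.
Over a discrete valuation ring flatness is torsion-freeness and the statement holds for every
Noetherian B.) -/
theorem result
    (V : Type u) [CommRing V] [IsDomain V] [IsDiscreteValuationRing V] [HenselianLocalRing V]
    (B : Type u) [CommRing B] [Algebra V B] [IsNoetherianRing B] :
    Module.Flat V B ↔
      Module.Flat V (AdicCompletion ((IsLocalRing.maximalIdeal V).map (algebraMap V B)) B) := by
  obtain ⟨π, hπ⟩ := IsDiscreteValuationRing.exists_irreducible V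
  set I := (IsLocalRing.maximalIdeal V).map (algebraMap V B) with hI
  let C := AdicCompletion I B
  constructor
  · intro h
    exact Module.Flat.trans V B C
  · intro h
    have hIπ : I = Ideal.span {algebraMap V B π} := by
      rw [hI, hπ.maximalIdeal_eq, Ideal.map_span, Set.image_singleton]
    have hπC : Function.Injective fun c : C => π • c := by
      have h1 := Module.Flat.isSMulRegular_of_isRegular (M := C) (IsRegular.of_ne_zero hπ.ne_zero)
      exact h1
    rw [IsDedekindDomain.flat_iff_torsion_eq_bot, eq_bot_iff]
    rintro x ⟨⟨a, ha⟩, hax⟩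
    obtain ⟨n, w, rfl⟩ := IsDiscreteValuationRing.eq_unit_mul_pow_irreducible (nonZeroDivisors.ne_zero ha) hπ
    change ((w : V) * π ^ n) • x = 0 at hax
    rw [mul_smul, w.isUnit.smul_eq_zero] at hax
    have hpi : ∀ m : ℕ, Function.Injective fun c : C => π ^ m • c := fun m => by
      induction m with
      | zero => intro c d h; simpa using h
      | succ m ih =>
        intro c d hcd
        simp only [pow_succ, mul_smul] at hcd
        exact hπC (ih hcd)
    let ι : B →ₗ[B] C := AdicCompletion.of I B
    have h0 : ι x = 0 := hpi n (by
      show π ^ n • ι x = π ^ n • (0 : C)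
      rw [smul_zero, ← map_zero ι, ← hax, ← algebraMap_smul B (π ^ n) x, map_smul, algebraMap_smul])
    have hx : x ∈ (⨅ k : ℕ, I ^ k) := Submodule.mem_iInf _ |>.2 fun k => by
      have h1 := congrArg (fun c : C => c.val k) h0
      simp only [ι, AdicCompletion.of_apply, AdicCompletion.val_zero, Pi.zero_apply] at h1
      have h1' : x ∈ I ^ k • (⊤ : Submodule B B) := (Submodule.Quotient.mk_eq_zero _).1 h1
      simpa using h1'
    obtain ⟨⟨r, hr⟩, hrx⟩ := (Ideal.mem_iInf_smul_pow_eq_bot_iff I x).1 (by simpa using hx)
    rw [hIπ, Ideal.mem_span_singleton'] at hr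
    obtain ⟨b, rfl⟩ := hr
    rw [smul_eq_mul] at hrx
    have h2 : ∀ m : ℕ, x = b ^ m * (algebraMap V B π ^ m * x) := fun m => by
      induction m with
      | zero => simp
      | succ m ih => nth_rewrite 1 [ih]; nth_rewrite 1 [← hrx]; rw [pow_succ, pow_succ]; ring
    show x = 0
    rw [h2 n, ← map_pow, ← Algebra.smul_def, hax, mul_zero]

end Groth.Agent.S19383
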