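import Groth.Statements.S19384
import Mathlib
import Groth.Agent.VerschFLib.Basic
import Groth.Agent.OortTateLib.Eigen
-- import your own Groth.Agent.* helpers here

set_option autoImplicit false
universe u
open Versch

namespace Groth.Agent.S19384

/-- Over a field and for one finite level, let k be a field of characteristic p > 0 and G = Spec A a
finite commutative k-group scheme (A a finite-dimensional commutative cocommutative Hopf algebra)
killed by p^n, i.e. the p^n-th power map of G is the trivial homomorphism, and suppose the
Verschiebung of G is an isomorphism (the ring map v : A → A ⊗_k k^(p) characterised as the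
Verschiebung is bijective). Then G is infinitesimal, more precisely the n-th iterate of its
Frobenius is trivial: a^(p^n) = 0 for every a in the augmentation ideal. (The source states this for
the p^n-torsion levels of a p-divisible group of multiplicative type over any scheme of
characteristic p and reduces to a field fibre by fibre; it also records that the Cartier dual has
unipotent fibres, which is not stated here.) -/
theorem result
    (p : ℕ) [Fact p.Prime] (k : Type u) [Field k] [CharP k p]
    (A : Type u) [CommRing A] [HopfAlgebra k A] [Coalgebra.IsCocomm k A] [Module.Finite k A]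
    (n : ℕ)
    (hn : SGA3b.powConv k A (p ^ n) = (Algebra.ofId k A).comp (Bialgebra.counitAlgHom k A))
    (v : A →+* FrobAlg.BaseChange p k A) (hv : Versch.IsVerschiebung p k A v)
    (hbij : Function.Bijective v)
    (a : A) (ha : Coalgebra.counit (R := k) a = 0) : a ^ (p ^ n) = 0 := by
  haveI : Nontrivial A := Function.Surjective.nontrivial (f := Bialgebra.counitAlgHom k A) (fun r => ⟨algebraMap k A r, by simp⟩)
  haveI : CharP A p := charP_of_injective_algebraMap (FaithfulSMul.algebraMap_injective k A) p
  have hstep : ∀ c : A, ∃ b, c ^ p = SGA3b.powConv k A p b := by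
    intro c
    obtain ⟨b, hb⟩ := hbij.2 (c ⊗ₜ[k] (1 : FrobAlg.Twist p k))
    refine ⟨b, ?_⟩
    rw [← VerschFLib.relFrob_verschiebung_apply p k A v hv b, hb]
    simp [FrobAlg.relFrob, FrobAlg.frobHom, FrobAlg.inclHom]
    rfl
  have hit : ∀ (m : ℕ) (c : A), ∃ b, c ^ (p ^ m) = SGA3b.powConv k A (p ^ m) b := by
    intro m
    induction m with
    | zero => exact fun c => ⟨c, by simp [SGA3b.powConv]⟩
    | succ m ih =>
      intro c
      obtain ⟨b, hb⟩ := hstep c
      obtain ⟨d, hd⟩ := ih b
      refine ⟨d, ?_⟩
      rw [pow_succ', pow_mul, hb, ← map_pow, hd, ← AlgHom.comp_apply, OortTateLib.powConv_comp]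
  obtain ⟨b, hb⟩ := hit n a
  rw [hn] at hb
  change a ^ (p ^ n) = algebraMap k A (Bialgebra.counitAlgHom k A b) at hb
  have h1 := congrArg (Bialgebra.counitAlgHom k A) hb
  rw [map_pow, AlgHom.commutes] at h1
  rw [hb]
  have h2 : Bialgebra.counitAlgHom k A a = 0 := ha
  rw [h2, zero_pow (pow_ne_zero _ (Fact.out : p.Prime).ne_zero)] at h1
  have h3 : Bialgebra.counitAlgHom k A b = 0 := by simpa using h1.symm
  rw [h3, map_zero]

end Groth.Agent.S19384
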