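import Groth.Statements.S19389
import Groth.Agent.PicThkLib.Tower
import Mathlib.RingTheory.WittVector.Complete
import Mathlib.RingTheory.WittVector.Truncated
import Mathlib.RingTheory.WittVector.DiscreteValuationRing

set_option autoImplicit false
set_option backward.isDefEq.respectTransparency false
universe u
open CategoryTheory CategoryTheory.Limits AlgebraicGeometry
open PicThk

namespace Groth.Agent.S19389

/-- Let p > 2 be a prime, k a finite field of characteristic p and W = W(k) its ring of Witt vectors;
let f : X → Spec W be proper and smooth of relative dimension 1 with an ample invertible O_X-module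
(a smooth projective relative curve), and X_n = X ×_W Spec W/(p^{n+1}) the infinitesimal thickenings
of the special fibre, with inclusions ι_n : X_n → X. Granting the group laws of the Picard groups
involved and the multiplicativity of pull-back of invertible classes along each ι_n, the restriction
maps Pic(X) → Pic(X_n) are all surjective, and for every i there is a level t such that a class on X
whose restriction to X_t is a p^i-th power is already a p^i-th power in Pic(X). (The published proof
identifies CH^1(X) with Pic(X) and H^1(X_1, K^M_1 of X_n) with Pic(X_n) and states that CH^1(X) ⊗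
Z/p^i → (Pic(X_n) ⊗ Z/p^i)_n is an isomorphism of pro-abelian groups; the two assertions here are
what its proof establishes and imply that pro-isomorphism, the first giving levelwise surjectivity
and the second the vanishing of the kernel pro-system.) -/
theorem result
    (p : ℕ) [Fact p.Prime] (hp : 2 < p) (k : Type u) [Field k] [Finite k] [CharP k p]
    (X : Scheme.{u}) (f : X ⟶ Spec (CommRingCat.of (WittVector p k))) [IsProper f] [SmoothOfRelativeDimension 1 f]
    (L : X.Modules) (hL : CohB1.IsAmple L)
    [PicGrp.Law X] [∀ n : ℕ, PicGrp.Law (CohB1.thick f (Ideal.span (singleton (p : (WittVector p k)))) n)]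
    (hι : ∀ n : ℕ, PicGrp.PullMul (CohB1.thickι f (Ideal.span (singleton (p : (WittVector p k)))) n)) (i : ℕ) :
    (∀ n : ℕ, Function.Surjective (PicGrp.pullHom (CohB1.thickι f (Ideal.span (singleton (p : (WittVector p k)))) n) (hι n))) ∧
    ∃ t : ℕ, ∀ a : PicLoc.PicSet X,
      (∃ b : PicLoc.PicSet (CohB1.thick f (Ideal.span (singleton (p : (WittVector p k)))) t), b ^ (p ^ i) = PicGrp.pullHom (CohB1.thickι f (Ideal.span (singleton (p : (WittVector p k)))) t) (hι t) a) →
      ∃ a' : PicLoc.PicSet X, a' ^ (p ^ i) = a := by
  let W := WittVector p k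
  haveI hDVR : IsDiscreteValuationRing W := WittVector.isDiscreteValuationRing
  haveI : IsNoetherianRing W := inferInstance
  have hmax : (Ideal.span {(p : W)} : Ideal W) = IsLocalRing.maximalIdeal W :=
    ((IsDiscreteValuationRing.irreducible_iff_uniformizer (p : W)).1 (WittVector.irreducible p)).symm
  haveI : IsAdicComplete (Ideal.span {(p : W)}) W := WittVector.isAdicCompleteIdealSpanP
  letI : Fintype k := Fintype.ofFinite k
  haveI : ∀ n, Finite (W ⧸ (Ideal.span {(p : W)}) ^ (n + 1)) := fun n => by
    refine Finite.of_surjective (fun v : TruncatedWittVector p (n + 1) k => Ideal.Quotient.mk _ v.out) fun q => ?_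
    obtain ⟨x, rfl⟩ := Ideal.Quotient.mk_surjective q
    refine ⟨WittVector.truncateFun (n + 1) x, Ideal.Quotient.eq.2 ?_⟩
    rw [Ideal.span_singleton_pow]
    refine (WittVector.mem_span_p_pow_iff_le_coeff_eq_zero _ (n + 1)).2 ?_
    refine WittVector.le_coeff_eq_iff_le_sub_coeff_eq_zero.1 fun j hj => ?_
    simp only [TruncatedWittVector.out, WittVector.truncateFun, TruncatedWittVector.coeff_mk,
      dif_pos hj]
  refine ⟨fun n => PicThkLib.R_surjective f p hmax n, 1 + i, fun a ⟨b, hb⟩ => ?_⟩
  obtain ⟨B, hB⟩ := PicThkLib.R_surjective f p hmax (1 + i) b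
  have hd : PicThkLib.R f p (1 + i) (a / B ^ (p ^ i)) = 1 := by
    rw [map_div, map_pow, hB, div_eq_one]
    exact hb.symm
  obtain ⟨e, he, -⟩ := PicThkLib.exists_pow_root f p hmax i hd
  exact ⟨e * B, by rw [mul_pow, he, div_mul_cancel]⟩

end Groth.Agent.S19389
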