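import Groth.Statements.S1939
import Mathlib
import Groth.Agent.CycLimLib.Gen
import Groth.Agent.FibDimLib.Comps
-- import your own Groth.Agent.* helpers here

set_option autoImplicit false
universe u
open CategoryTheory AlgebraicGeometry
open CategoryTheory.Limits
open Cyc

namespace Groth.Agent.S1939

/-- Let (S, δS) and (S', δS') be two pairs satisfying Cyc.IsSetup, g : S' → S flat with δS'(s') = δS(g
s') + c for every s' generic in an irreducible component of its fibre g⁻¹(g s'), a : X → S locally
of finite type with X integral of δ-dimension k (δX induced from δS), and X' = X ×_S S' with δX'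
induced from δS'. Then every generic point x' of an irreducible component of X' has δX'(x') = k + c.
A pair (X, δ) with Cyc.IsSetup plays the role of a scheme locally of finite type over a fixed base
with a dimension function (X locally Noetherian with universally catenary local rings, δ a dimension
function), and Cyc.DeltaCompat records that the dimension function upstairs is the induced one. -/
theorem result (S S' X : Scheme.{u}) (δS : S → ℤ) (δS' : S' → ℤ) (hS : Cyc.IsSetup S δS) (hS' : Cyc.IsSetup S' δS') (g : S' ⟶ S) [Flat g] (c : ℤ) (hc : ∀ s' : S', (∀ y, g y = g s' → y ⤳ s' → y = s') → δS' s' = δS (g s') + c) (a : X ⟶ S) [LocallyOfFiniteType a] [IsIntegral X] (δX : X → ℤ) (hX : Cyc.DeltaCompat a δX δS) (δX' : ↥(pullback a g) → ℤ) (hX' : Cyc.DeltaCompat (pullback.snd a g) δX' δS') (k : ℤ) (hk : δX (genericPoint X) = k) (x' : ↥(pullback a g)) (hx' : ∀ y : ↥(pullback a g), y ⤳ x' → y = x') : δX' x' = k + c := by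
  have hxη : pullback.fst a g x' = genericPoint X := by
    obtain ⟨y, hy, hyη⟩ := (Flat.generalizingMap (pullback.fst a g)) (genericPoint_specializes (pullback.fst a g x'))
    rw [← hyη, hx' y hy]
  have hpt : g (pullback.snd a g x') = a (genericPoint X) := by
    rw [← hxη, ← Scheme.Hom.comp_apply, ← Scheme.Hom.comp_apply, pullback.condition]
  have hs' : ∀ y, g y = g (pullback.snd a g x') → y ⤳ pullback.snd a g x' → y = pullback.snd a g x' := by
    intro y hy hys
    let j := X.fromSpecResidueField (genericPoint X)
    let φ := Spec.map (a.residueFieldMap (genericPoint X))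
    haveI : Flat φ := by
      rw [HasRingHomProperty.Spec_iff (P := @Flat)]
      letI := (a.residueFieldMap (genericPoint X)).hom.toAlgebra
      show Module.Flat (S.residueField (a (genericPoint X))) (X.residueField (genericPoint X))
      infer_instance
    have h0 : j ≫ a = φ ≫ S.fromSpecResidueField (a (genericPoint X)) :=
      (Scheme.Hom.SpecMap_residueFieldMap_fromSpecResidueField a (genericPoint X)).symm
    have sq := (IsPullback.of_hasPullback (pullback.fst a g) j).flip.paste_vert (IsPullback.of_hasPullback a g)
    have ht : IsPullback (g.fiberToSpecResidueField (a (genericPoint X))) (g.fiberι (a (genericPoint X)))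
        (S.fromSpecResidueField (a (genericPoint X))) g :=
      (IsPullback.of_hasPullback g (S.fromSpecResidueField (a (genericPoint X)))).flip
    let q : pullback (pullback.fst a g) j ⟶ g.fiber (a (genericPoint X)) :=
      ht.lift (pullback.snd _ j ≫ φ) (pullback.fst _ j ≫ pullback.snd a g)
        (by rw [Category.assoc, ← h0]; exact sq.w)
    have hq₁ : q ≫ g.fiberToSpecResidueField (a (genericPoint X)) = pullback.snd _ j ≫ φ := ht.lift_fst _ _ _
    have hq₂ : q ≫ g.fiberι (a (genericPoint X)) = pullback.fst _ j ≫ pullback.snd a g := ht.lift_snd _ _ _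
    have sq' : IsPullback (pullback.snd (pullback.fst a g) j) q φ (g.fiberToSpecResidueField (a (genericPoint X))) :=
      IsPullback.of_bot (by rw [hq₂, ← h0]; exact sq) hq₁.symm ht
    haveI : Flat q := MorphismProperty.of_isPullback sq' ‹Flat φ›
    obtain ⟨w, hw⟩ : x' ∈ Set.range (pullback.fst (pullback.fst a g) j) := by
      rw [Scheme.Pullback.range_fst, Scheme.range_fromSpecResidueField]
      exact hxη
    obtain ⟨v, hv⟩ : y ∈ Set.range (g.fiberι (a (genericPoint X))) := by
      rw [g.range_fiberι]
      exact hy.trans hpt
    have hqw : g.fiberι (a (genericPoint X)) (q w) = pullback.snd a g x' := by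
      rw [← hw, ← Scheme.Hom.comp_apply, hq₂, Scheme.Hom.comp_apply]
    have hvq : v ⤳ q w := (g.fiberι (a (genericPoint X))).isEmbedding.isInducing.specializes_iff.1 (by
      rw [hv, hqw]; exact hys)
    obtain ⟨w', hw', hqw'⟩ := (Flat.generalizingMap q) hvq
    have h1 : w' = w := by
      haveI : IsPreimmersion (pullback.fst (pullback.fst a g) j) := MorphismProperty.pullback_fst _ _ inferInstance
      exact (pullback.fst (pullback.fst a g) j).isEmbedding.injective
        ((hx' _ (hw ▸ hw'.map (pullback.fst (pullback.fst a g) j).continuous)).trans hw.symm)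
    rw [← hv, ← hqw', h1, hqw]
  obtain ⟨n', hn', e1⟩ := hX' x'
  obtain ⟨n, hn, e2⟩ := hX (genericPoint X)
  have h3 : FlatMor.fibreDimAt (pullback.snd a g) x' = FlatMor.fibreDimAt a (pullback.fst a g x') :=
    FibDimLib.fibreDimAt_baseChange (IsPullback.of_hasPullback a g) x'
  rw [hxη, UOpenLib.fibreDimAt_eq_of_max (pullback.snd a g) (fun y _ hy => hx' y (specializes_iff_mem_closure.2 hy)),
    UOpenLib.fibreDimAt_eq_of_max a (fun y _ hy => ((specializes_iff_mem_closure.2 hy).antisymm (genericPoint_specializes y)).eq),
    AlgSpLib.fibreClosureDim_eq_resTrdeg, AlgSpLib.fibreClosureDim_eq_resTrdeg, Dual3.resTrdeg, Dual3.resTrdeg, hn, hn',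
    map_natCast, map_natCast] at h3
  have h4 : n' = n := by exact_mod_cast h3
  have h5 := hc _ hs'
  rw [hpt] at h5
  omega

end Groth.Agent.S1939
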