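import Groth.Statements.S19390
import Mathlib
import Mathlib
-- import your own Groth.Agent.* helpers here

set_option autoImplicit false
universe u
open GIT

namespace Groth.Agent.S19390

/-- Let e ≥ 1, n = 2e + 1, and let x_1, …, x_n be points such that no point occurs more than e times
among them (the stability condition for n ordered points on a line, n odd). Then there are index
sequences i_1, …, i_n and j_1, …, j_n in which every index between 1 and n occurs exactly twice in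
total, such that x_{i_k} ≠ x_{j_k} for every k and (i_1, i_2, i_3) = (j_3, j_1, j_2). Indices are
written 0, …, n − 1 here. -/
theorem result {α : Type u} [DecidableEq α] (e : ℕ) (he : 1 ≤ e)
    (x : Fin (2 * e + 1) → α)
    (hx : ∀ a : α, (Finset.univ.filter fun k => x k = a).card ≤ e) :
    ∃ i j : Fin (2 * e + 1) → Fin (2 * e + 1),
      (∀ m : Fin (2 * e + 1),
        (Finset.univ.filter fun k => i k = m).card + (Finset.univ.filter fun k => j k = m).card = 2) ∧
      (∀ k, x (i k) ≠ x (j k)) ∧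
      i 0 = j 2 ∧ i 1 = j 0 ∧ i 2 = j 1 := by
  classical
  let G := Set.range x
  obtain ⟨r, hr⟩ : ∃ r : α → ℕ, ∀ a b, (∃ u, x u = a) → (∃ v, x v = b) → r a = r b → a = b := by
    refine ⟨fun a => if h : ∃ u, x u = a then (h.choose : ℕ) else 0, fun a b ha hb hab => ?_⟩
    simp only [dif_pos ha, dif_pos hb] at hab
    rw [← ha.choose_spec, ← hb.choose_spec, Fin.ext hab]
  let σ := Tuple.sort (fun k => r (x k))
  have hmono : Monotone fun k => r (x (σ k)) := Tuple.monotone_sort (fun k => r (x k))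
  have hfar : ∀ a b : Fin (2 * e + 1), (a : ℕ) + e ≤ b → x (σ a) ≠ x (σ b) := by
    intro a b hab heq
    have hsub : (Finset.Icc a b).image σ ⊆ Finset.univ.filter fun k => x k = x (σ a) := by
      intro k hk
      obtain ⟨c, hc, rfl⟩ := Finset.mem_image.1 hk
      obtain ⟨h1, h2⟩ := Finset.mem_Icc.1 hc
      refine Finset.mem_filter.2 ⟨Finset.mem_univ _, hr _ _ ⟨_, rfl⟩ ⟨_, rfl⟩ (le_antisymm ?_ (hmono h1))⟩
      have := hmono h2
      simp only at this
      rw [← heq] at this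
      exact this
    have h := (Finset.card_le_card hsub).trans (hx _)
    rw [Finset.card_image_of_injective _ σ.injective, Fin.card_Icc] at h
    omega
  let p : Fin (2 * e + 1) → Fin (2 * e + 1) := fun k =>
    if (k : ℕ) = 0 then ⟨0, by omega⟩ else if (k : ℕ) = 1 then ⟨e, by omega⟩ else if (k : ℕ) = 2 then ⟨2 * e, by omega⟩
    else ⟨((k : ℕ) - 3) / 2 + 1, by omega⟩
  let q : Fin (2 * e + 1) → Fin (2 * e + 1) := fun k =>
    if (k : ℕ) = 0 then ⟨e, by omega⟩ else if (k : ℕ) = 1 then ⟨2 * e, by omega⟩ else if (k : ℕ) = 2 then ⟨0, by omega⟩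
    else ⟨((k : ℕ) - 3) / 2 + 1 + e, by omega⟩
  refine ⟨fun k => σ (p k), fun k => σ (q k), fun m => ?_, fun k => ?_, ?_, ?_, ?_⟩
  · obtain ⟨c, rfl⟩ := σ.surjective m
    simp only [σ.injective.eq_iff]
    have hp : ∀ k : Fin (2 * e + 1), p k = c ↔ ((k : ℕ) = 0 ∧ (c : ℕ) = 0) ∨ ((k : ℕ) = 1 ∧ (c : ℕ) = e) ∨ ((k : ℕ) = 2 ∧ (c : ℕ) = 2 * e) ∨
        (3 ≤ (k : ℕ) ∧ (c : ℕ) = ((k : ℕ) - 3) / 2 + 1) := fun k => by
      simp only [p]; split_ifs <;> simp only [Fin.ext_iff] <;> omega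
    have hq : ∀ k : Fin (2 * e + 1), q k = c ↔ ((k : ℕ) = 0 ∧ (c : ℕ) = e) ∨ ((k : ℕ) = 1 ∧ (c : ℕ) = 2 * e) ∨ ((k : ℕ) = 2 ∧ (c : ℕ) = 0) ∨
        (3 ≤ (k : ℕ) ∧ (c : ℕ) = ((k : ℕ) - 3) / 2 + 1 + e) := fun k => by
      simp only [q]; split_ifs <;> simp only [Fin.ext_iff] <;> omega
    have one : ∀ (f : Fin (2 * e + 1) → Fin (2 * e + 1)) (k₀ : ℕ) (hk : k₀ < 2 * e + 1), (∀ k, f k = c ↔ (k : ℕ) = k₀) →
        (Finset.univ.filter fun k => f k = c).card = 1 := fun f k₀ hk h => by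
      rw [show (Finset.univ.filter fun k => f k = c) = {⟨k₀, hk⟩} by ext k; simp [h, Fin.ext_iff]]; simp
    have zero : ∀ (f : Fin (2 * e + 1) → Fin (2 * e + 1)), (∀ k, f k ≠ c) → (Finset.univ.filter fun k => f k = c).card = 0 :=
      fun f h => by simp [h]
    have two : ∀ (f : Fin (2 * e + 1) → Fin (2 * e + 1)) (k₀ : ℕ) (hk : k₀ + 1 < 2 * e + 1), (∀ k, f k = c ↔ ((k : ℕ) = k₀ ∨ (k : ℕ) = k₀ + 1)) →
        (Finset.univ.filter fun k => f k = c).card = 2 := fun f k₀ hk h => by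
      rw [show (Finset.univ.filter fun k => f k = c) = {⟨k₀, by omega⟩, ⟨k₀ + 1, hk⟩} by ext k; simp [h, Fin.ext_iff]]
      exact Finset.card_pair (by simp [Fin.ext_iff])
    by_cases c0 : (c : ℕ) = 0
    · rw [one p 0 (by omega) (fun k => by rw [hp]; omega), one q 2 (by omega) (fun k => by rw [hq]; omega)]
    by_cases ce : (c : ℕ) = e
    · rw [one p 1 (by omega) (fun k => by rw [hp]; omega), one q 0 (by omega) (fun k => by rw [hq]; omega)]
    by_cases c2 : (c : ℕ) = 2 * e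
    · rw [one p 2 (by omega) (fun k => by rw [hp]; omega), one q 1 (by omega) (fun k => by rw [hq]; omega)]
    by_cases clt : (c : ℕ) < e
    · rw [two p (3 + 2 * ((c : ℕ) - 1)) (by omega) (fun k => by rw [hp]; omega), zero q (fun k => by rw [ne_eq, hq]; omega)]
    · rw [two q (3 + 2 * ((c : ℕ) - e - 1)) (by omega) (fun k => by rw [hq]; omega), zero p (fun k => by rw [ne_eq, hp]; omega)]
  · show x (σ (p k)) ≠ x (σ (q k))
    simp only [p, q]
    split_ifs with h0 h1 h2
    · exact hfar _ _ (by simp)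
    · exact hfar _ _ (by show e + e ≤ 2 * e; omega)
    · exact (hfar _ _ (by show 0 + e ≤ 2 * e; omega)).symm
    · exact hfar _ _ (by simp)
  all_goals
    have h1 : ((1 : Fin (2 * e + 1)) : ℕ) = 1 := by rw [Fin.val_one', Nat.mod_eq_of_lt]; omega
    have h2 : ((2 : Fin (2 * e + 1)) : ℕ) = 2 := Nat.mod_eq_of_lt (show 2 < 2 * e + 1 by omega)
    simp only [p, q, h1, h2, Fin.val_zero, if_true, if_false, one_ne_zero, OfNat.ofNat_ne_zero, OfNat.ofNat_ne_one]

end Groth.Agent.S19390
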