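import Groth.Statements.S19391
import Mathlib.Tactic

set_option autoImplicit false
universe u
open InvQ

namespace Groth.Agent.S19391

/-- For a binary quartic written as a product of four linear forms μ_i X₀ − λ_i X₁, with coefficients
a_0, …, a_4, the discriminant D = ∏_{i<j} (λ_j μ_i − λ_i μ_j)² is a constant multiple of P³ − 6Q²
for the two basic invariants P, Q. With the integral normalisation I = 6P = 12a₀a₄ − 3a₁a₃ + a₂², J
= 72Q = 72a₀a₂a₄ + 9a₁a₂a₃ − 27a₀a₃² − 27a₁²a₄ − 2a₂³ used here, the identity reads 27 D = 4 I³ − J²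
(so the constant is 32: D = 32 (P³ − 6Q²)); it is stated over an arbitrary commutative ring. -/
theorem result (R : Type u) [CommRing R] (la mu : Fin 4 → R) :
    27 * W4c6intromoduli.disc la mu =
      4 * W4c6intromoduli.invI (W4c6intromoduli.coef la mu) ^ 3
        - W4c6intromoduli.invJ (W4c6intromoduli.coef la mu) ^ 2 := by
  have hroot : W4c6intromoduli.rootPoly la mu =
      Polynomial.C (mu 0 * mu 1 * mu 2 * mu 3)
      - Polynomial.C (la 0 * mu 1 * mu 2 * mu 3 + mu 0 * la 1 * mu 2 * mu 3 + mu 0 * mu 1 * la 2 * mu 3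
          + mu 0 * mu 1 * mu 2 * la 3) * Polynomial.X
      + Polynomial.C (la 0 * la 1 * mu 2 * mu 3 + la 0 * mu 1 * la 2 * mu 3 + la 0 * mu 1 * mu 2 * la 3
          + mu 0 * la 1 * la 2 * mu 3 + mu 0 * la 1 * mu 2 * la 3 + mu 0 * mu 1 * la 2 * la 3) * Polynomial.X ^ 2
      - Polynomial.C (mu 0 * la 1 * la 2 * la 3 + la 0 * mu 1 * la 2 * la 3 + la 0 * la 1 * mu 2 * la 3
          + la 0 * la 1 * la 2 * mu 3) * Polynomial.X ^ 3
      + Polynomial.C (la 0 * la 1 * la 2 * la 3) * Polynomial.X ^ 4 := by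
    simp only [W4c6intromoduli.rootPoly, Fin.prod_univ_four, map_add, map_mul]
    ring
  have hdisc : W4c6intromoduli.disc la mu = (la 1 * mu 0 - la 0 * mu 1) ^ 2 * (la 2 * mu 0 - la 0 * mu 2) ^ 2 *
      (la 3 * mu 0 - la 0 * mu 3) ^ 2 * (la 2 * mu 1 - la 1 * mu 2) ^ 2 * (la 3 * mu 1 - la 1 * mu 3) ^ 2 *
      (la 3 * mu 2 - la 2 * mu 3) ^ 2 := by
    rw [W4c6intromoduli.disc, Finset.prod_filter, Fintype.prod_prod_type]
    simp [Fin.prod_univ_four]
    ring
  have hc : ∀ i, W4c6intromoduli.coef la mu i = (W4c6intromoduli.rootPoly la mu).coeff i := fun _ => rfl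
  simp only [W4c6intromoduli.invI, W4c6intromoduli.invJ, hc, hroot, hdisc, Polynomial.coeff_add,
    Polynomial.coeff_sub, Polynomial.coeff_C, Polynomial.coeff_C_mul, Polynomial.coeff_X,
    Polynomial.coeff_X_pow, Nat.reduceEqDiff, if_true, if_false, mul_one, mul_zero, add_zero,
    sub_zero, zero_add, zero_sub]
  generalize la 0 = a0, la 1 = a1, la 2 = a2, la 3 = a3, mu 0 = b0, mu 1 = b1, mu 2 = b2, mu 3 = b3
  ring

end Groth.Agent.S19391
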