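import Groth.Statements.S19392
import Mathlib.Tactic
-- import your own Groth.Agent.* helpers here

set_option autoImplicit false
universe u
open InvQ

namespace Groth.Agent.S19392


/-- Over a field of characteristic different from 2 and 3, a nonzero binary quartic f has P(f) = Q(f) =
0 for the two basic invariants P, Q if and only if f has a triple zero. Stated for f = ∏_i (μ_i X₀ −
λ_i X₁) given by four root points (λ_i, μ_i) ≠ (0, 0) (over an algebraically closed field every
nonzero quartic form is of this shape), with the integral invariants I = 6P and J = 72Q of the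
coefficients of f; a triple zero means that three of the four root points are pairwise proportional. -/
theorem result (k : Type u) [Field k]
    (h2 : (2 : k) ≠ 0) (h3 : (3 : k) ≠ 0) (la mu : Fin 4 → k) (hne : ∀ i, la i ≠ 0 ∨ mu i ≠ 0) :
    (W4c6intromoduli.invI (W4c6intromoduli.coef la mu) = 0 ∧
        W4c6intromoduli.invJ (W4c6intromoduli.coef la mu) = 0) ↔
      ∃ i j l : Fin 4, i ≠ j ∧ j ≠ l ∧ i ≠ l ∧
        la i * mu j = la j * mu i ∧ la j * mu l = la l * mu j := by
  classical
  set d : Fin 4 → Fin 4 → k := fun i j => la i * mu j - la j * mu i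
  have hpoly : W4c6intromoduli.rootPoly la mu =
      Polynomial.C (mu 0 * mu 1 * mu 2 * mu 3) +
      Polynomial.C (-(la 0 * mu 1 * mu 2 * mu 3 + mu 0 * la 1 * mu 2 * mu 3 + mu 0 * mu 1 * la 2 * mu 3 +
        mu 0 * mu 1 * mu 2 * la 3)) * Polynomial.X +
      Polynomial.C (la 0 * la 1 * mu 2 * mu 3 + la 0 * mu 1 * la 2 * mu 3 + la 0 * mu 1 * mu 2 * la 3 +
        mu 0 * la 1 * la 2 * mu 3 + mu 0 * la 1 * mu 2 * la 3 + mu 0 * mu 1 * la 2 * la 3) * Polynomial.X ^ 2 +
      Polynomial.C (-(mu 0 * la 1 * la 2 * la 3 + la 0 * mu 1 * la 2 * la 3 + la 0 * la 1 * mu 2 * la 3 +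
        la 0 * la 1 * la 2 * mu 3)) * Polynomial.X ^ 3 +
      Polynomial.C (la 0 * la 1 * la 2 * la 3) * Polynomial.X ^ 4 := by
    simp only [W4c6intromoduli.rootPoly, Fin.prod_univ_four, map_mul, map_add, map_neg]
    ring
  set A := d 0 1 * d 2 3
  set C' := d 0 3 * d 1 2
  have hI : W4c6intromoduli.invI (W4c6intromoduli.coef la mu) = A ^ 2 + A * C' + C' ^ 2 := by
    simp only [W4c6intromoduli.invI, W4c6intromoduli.coef, hpoly, Polynomial.coeff_add,
      Polynomial.coeff_C_mul, Polynomial.coeff_X_pow, Polynomial.coeff_X, Polynomial.coeff_C]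
    norm_num [A, C', d]
    ring
  have hJ : W4c6intromoduli.invJ (W4c6intromoduli.coef la mu) = (A - C') * (2 * A + C') * (A + 2 * C') := by
    simp only [W4c6intromoduli.invJ, W4c6intromoduli.coef, hpoly, Polynomial.coeff_add,
      Polynomial.coeff_C_mul, Polynomial.coeff_X_pow, Polynomial.coeff_X, Polynomial.coeff_C]
    norm_num [A, C', d]
    ring
  rw [hI, hJ]
  constructor
  · rintro ⟨h1, h2'⟩
    have hA0 : A = 0 ∧ C' = 0 := by
      rcases mul_eq_zero.1 h2' with h | h
      · rcases mul_eq_zero.1 h with h | h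
        · have e : C' = A := (sub_eq_zero.1 h).symm
          have : (3 : k) * (A * A) = 0 := by rw [e] at h1; linear_combination h1
          have hA := mul_self_eq_zero.1 ((mul_eq_zero.1 this).resolve_left h3)
          exact ⟨hA, e.trans hA⟩
        · have e : C' = -2 * A := by linear_combination h
          have : (3 : k) * (A * A) = 0 := by rw [e] at h1; linear_combination h1
          have hA := mul_self_eq_zero.1 ((mul_eq_zero.1 this).resolve_left h3)
          exact ⟨hA, by rw [e, hA, mul_zero]⟩
      · have e : A = -2 * C' := by linear_combination h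
        have : (3 : k) * (C' * C') = 0 := by rw [e] at h1; linear_combination h1
        have hA := mul_self_eq_zero.1 ((mul_eq_zero.1 this).resolve_left h3)
        exact ⟨by rw [e, hA, mul_zero], hA⟩
    rcases mul_eq_zero.1 hA0.1 with a | a <;> rcases mul_eq_zero.1 hA0.2 with b | b
    · exact ⟨1, 0, 3, by decide, by decide, by decide, (sub_eq_zero.1 a).symm, sub_eq_zero.1 b⟩
    · exact ⟨0, 1, 2, by decide, by decide, by decide, sub_eq_zero.1 a, sub_eq_zero.1 b⟩
    · exact ⟨2, 3, 0, by decide, by decide, by decide, sub_eq_zero.1 a, (sub_eq_zero.1 b).symm⟩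
    · exact ⟨1, 2, 3, by decide, by decide, by decide, sub_eq_zero.1 b, sub_eq_zero.1 a⟩
  · rintro ⟨i, j, l, hij, hjl, hil, e1, e2⟩
    have e3 : la i * mu l = la l * mu i := by
      rcases hne j with h | h
      · apply mul_left_cancel₀ h
        linear_combination la i * e2 + la l * e1
      · apply mul_left_cancel₀ h
        linear_combination mu l * e1 + mu i * e2
    have hd1 : d i j = 0 ∧ d j i = 0 := ⟨sub_eq_zero.2 e1, sub_eq_zero.2 e1.symm⟩
    have hd2 : d j l = 0 ∧ d l j = 0 := ⟨sub_eq_zero.2 e2, sub_eq_zero.2 e2.symm⟩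
    have hd3 : d i l = 0 ∧ d l i = 0 := ⟨sub_eq_zero.2 e3, sub_eq_zero.2 e3.symm⟩
    have hAC : A = 0 ∧ C' = 0 := by
      fin_cases i <;> fin_cases j <;> fin_cases l <;>
        simp_all (config := { decide := true }) [A, C', -sub_eq_zero]
    rw [hAC.1, hAC.2]
    simp


end Groth.Agent.S19392
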