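import Groth.Statements.S19394
import Mathlib.LinearAlgebra.Semisimple
import Mathlib.LinearAlgebra.Matrix.ToLin
import Mathlib.LinearAlgebra.Matrix.NonsingularInverse
import Mathlib.Algebra.Polynomial.Roots
import Mathlib.Algebra.MvPolynomial.Eval
import Mathlib.LinearAlgebra.Projection
import Mathlib.RingTheory.Nilpotent.Basic
import Mathlib.LinearAlgebra.Eigenspace.Minpoly
-- import your own Groth.Agent.* helpers here

set_option autoImplicit false
universe u
open InvQ

namespace Groth.Agent.S19394

/-- Over an algebraically closed field, the semisimple part of a square matrix B lies in the Zariski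
closure of the orbit of B under conjugation by the general linear group. The semisimple part is
given as S with B = S + N, S semisimple, N nilpotent and SN = NS; membership in the Zariski closure
is spelled out as: every polynomial in the n² matrix entries vanishing at all conjugates A B A⁻¹ (A
invertible) vanishes at S. -/
theorem result (k : Type u) [Field k] [IsAlgClosed k] (n : ℕ)
    (B S N : Matrix (Fin n) (Fin n) k) (hS : Module.End.IsSemisimple (Matrix.toLin' S))
    (hN : IsNilpotent N) (hSN : Commute S N) (hB : B = S + N)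
    (F : MvPolynomial (Fin n × Fin n) k)
    (hF : ∀ A : Matrix (Fin n) (Fin n) k, IsUnit A.det →
      MvPolynomial.eval (fun p => (A * B * A⁻¹) p.1 p.2) F = 0) :
    MvPolynomial.eval (fun p => S p.1 p.2) F = 0 := by
  classical
  let φ := Matrix.toLinAlgEquiv' (R := k) (n := Fin n)
  let S' := φ S
  let N' := φ N
  have hS' : Module.End.IsSemisimple S' := hS
  have hSN' : Commute S' N' := hSN.map φ
  obtain ⟨m, hm⟩ := hN
  have hm' : N' ^ m = 0 := by rw [← map_pow, hm, map_zero]
  let K : ℕ → Submodule k (Fin n → k) := fun j => LinearMap.ker (N' ^ j)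
  have hKmono : Monotone K := fun a b hab x hx => by
    obtain ⟨c, rfl⟩ := Nat.exists_eq_add_of_le hab
    show (N' ^ (a + c)) x = 0
    rw [add_comm, pow_add, Module.End.mul_apply, show (N' ^ a) x = 0 from hx, map_zero]
  -- invariant projections
  have hproj : ∀ j, ∃ E : Module.End k (Fin n → k), Commute S' E ∧ (∀ x, E x ∈ K j) ∧ ∀ x ∈ K j, E x = x := fun j => by
    have hinv : K j ∈ Module.End.invtSubmodule S' := fun x hx => by
      show (N' ^ j) (S' x) = 0
      rw [← Module.End.mul_apply, ← (hSN'.pow_right j).eq, Module.End.mul_apply, show (N' ^ j) x = 0 from hx, map_zero]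
    obtain ⟨q, hq, hc⟩ := (Module.End.isSemisimple_iff.mp hS') _ hinv
    refine ⟨(K j).subtype ∘ₗ Submodule.projectionOnto (K j) q hc, ?_, fun x => (Submodule.projectionOnto (K j) q hc x).2, fun x hx => ?_⟩
    · refine LinearMap.ext fun x => ?_
      obtain ⟨a, ha, b, hb, rfl⟩ := Submodule.mem_sup.mp (hc.sup_eq_top ▸ Submodule.mem_top : x ∈ K j ⊔ q)
      have h1 := hinv ha
      have h2 := hq hb
      simp only [Module.End.mul_apply, map_add, LinearMap.comp_apply, Submodule.coe_subtype, Submodule.coe_add]
      rw [Submodule.projectionOnto_apply_left hc ⟨a, ha⟩, (Submodule.projectionOnto_apply_eq_zero_iff hc).mpr hb,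
        Submodule.projectionOnto_apply_left hc ⟨_, h1⟩, (Submodule.projectionOnto_apply_eq_zero_iff hc).mpr h2]
      simp
    · simp [Submodule.projectionOnto_apply_left hc ⟨x, hx⟩]
  choose E hES hEK hEfix using hproj
  let G : ℕ → Module.End k (Fin n → k) := fun t => Nat.rec 1 (fun t F => E (m - (t + 1)) * F) t
  have hGs : ∀ t, G (t + 1) = E (m - (t + 1)) * G t := fun t => rfl
  have hG : ∀ t, Commute S' (G t) ∧ (∀ x, G t x ∈ K (m - t)) ∧ ∀ x ∈ K (m - t), G t x = x := by
    intro t
    induction t with
    | zero => exact ⟨Commute.one_right _, fun x => by simp [G, K, hm'], fun x _ => rfl⟩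
    | succ t ih =>
      refine ⟨(hES _).mul_right ih.1, fun x => hEK _ _, fun x hx => ?_⟩
      rw [hGs, Module.End.mul_apply, ih.2.2 x (hKmono (by omega) hx), hEfix _ x hx]
  have hab : ∀ a b, a ≤ b → G a * G b = G b := fun a b h => LinearMap.ext fun x => by
    rw [Module.End.mul_apply]
    exact (hG a).2.2 _ (hKmono (by omega) ((hG b).2.1 x))
  have hba : ∀ a b, a ≤ b → G b * G a = G b := fun a b h => by
    induction h with
    | refl => exact hab a a le_rfl
    | @step b _ ih => rw [hGs, mul_assoc, ih]
  have hmax : ∀ a b, G a * G b = G (max a b) := fun a b => by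
    rcases le_total a b with h | h
    · rw [max_eq_right h, hab a b h]
    · rw [max_eq_left h, hba b a h]
  have hGm : G m = 0 := LinearMap.ext fun x => by
    have := (hG m).2.1 x
    simpa [K] using this
  have hNG : ∀ t, G (t + 1) * (N' * G t) = N' * G t := fun t => LinearMap.ext fun x => by
    rw [Module.End.mul_apply]
    simp only [Module.End.mul_apply]
    refine (hG (t + 1)).2.2 (N' (G t x)) ?_
    have h1 : G t x ∈ K (m - t) := (hG t).2.1 x
    show (N' ^ (m - (t + 1))) (N' (G t x)) = 0
    rw [← Module.End.mul_apply, ← pow_succ]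
    exact hKmono (by omega) h1
  let P : ℕ → Module.End k (Fin n → k) := fun t => G t - G (t + 1)
  have hPsum : ∑ t ∈ Finset.range m, P t = 1 := by
    rw [Finset.sum_range_sub', hGm, sub_zero]; rfl
  have hPP : ∀ a b, P a * P b = if a = b then P a else 0 := fun a b => by
    simp only [P, sub_mul, mul_sub, hmax]
    rcases lt_trichotomy a b with h | rfl | h
    · rw [if_neg h.ne, max_eq_right h.le, max_eq_right (by omega : a ≤ b + 1), max_eq_right (by omega : a + 1 ≤ b), max_eq_right (by omega : a + 1 ≤ b + 1)]; abel
    · rw [if_pos rfl, max_self, max_eq_right (Nat.le_succ a), max_eq_left (Nat.le_succ a), max_self]; abel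
    · rw [if_neg h.ne', max_eq_left h.le, max_eq_left (by omega : b + 1 ≤ a), max_eq_left (by omega : b ≤ a + 1), max_eq_left (by omega : b + 1 ≤ a + 1)]; abel
  have hPN : ∀ a b, a ≤ b → P a * (N' * P b) = 0 := fun a b h => by
    have e1 : P b = G b * P b := by simp [P, mul_sub, hab b b le_rfl, hab b (b + 1) (Nat.le_succ b)]
    have e2 : P a * G (b + 1) = 0 := by
      simp [P, sub_mul, hab a (b + 1) (by omega), hab (a + 1) (b + 1) (by omega)]
    rw [e1, ← mul_assoc N', ← hNG b, ← mul_assoc, ← mul_assoc, e2, zero_mul, zero_mul]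
  have hSP : ∀ a, Commute S' (P a) := fun a => (hG a).1.sub_right (hG (a + 1)).1
  -- back to matrices
  let p : ℕ → Matrix (Fin n) (Fin n) k := fun t => φ.symm (P t)
  have hpp : ∀ a b, p a * p b = if a = b then p a else 0 := fun a b => by
    simp only [p, ← map_mul, hPP, apply_ite φ.symm, map_zero]
  have hpsum : ∑ t ∈ Finset.range m, p t = 1 := by simp only [p, ← map_sum, hPsum, map_one]
  have hpN : ∀ a b, a ≤ b → p a * N * p b = 0 := fun a b h => by
    apply φ.injective
    simp only [p, map_mul, AlgEquiv.apply_symm_apply, map_zero, mul_assoc]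
    exact hPN a b h
  have hSp : ∀ a, Commute S (p a) := fun a => by
    have := (hSP a).map φ.symm
    simpa [S', p] using this
  let Ns : k → Matrix (Fin n) (Fin n) k := fun s =>
    ∑ a ∈ Finset.range m, ∑ b ∈ Finset.range m, s ^ (a - b) • (p a * N * p b)
  have hconj : ∀ s : k, s ≠ 0 → MvPolynomial.eval (fun q : Fin n × Fin n => (S + Ns s) q.1 q.2) F = 0 := by
    intro s hs
    let g := ∑ a ∈ Finset.range m, s ^ a • p a
    let g' := ∑ a ∈ Finset.range m, (s ^ a)⁻¹ • p a
    have hgg : g * g' = 1 := by
      simp only [g, g', Finset.sum_mul, Finset.mul_sum, smul_mul_smul_comm, hpp, smul_ite, smul_zero, Finset.sum_ite_eq]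
      rw [← hpsum]
      refine Finset.sum_congr rfl fun a ha => ?_
      simp [Finset.sum_ite_eq', Finset.sum_ite_eq, ha, mul_inv_cancel₀ (pow_ne_zero a hs)]
    have hB' : g * B * g' = S + Ns s := by
      rw [hB, mul_add, add_mul]
      congr 1
      · have hc : Commute S g := Commute.sum_right _ _ _ fun a _ => (hSp a).smul_right (s ^ a)
        rw [← hc.eq, mul_assoc, hgg, mul_one]
      · simp only [g, g', Ns, Finset.sum_mul, Finset.mul_sum, smul_mul_assoc, mul_smul_comm, smul_smul, Finset.smul_sum]
        refine Finset.sum_comm.trans (Finset.sum_congr rfl fun a _ => Finset.sum_congr rfl fun b _ => ?_)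
        rcases le_or_gt a b with h | h
        · rw [hpN a b h, smul_zero, smul_zero]
        · rw [pow_sub₀ s hs h.le, mul_comm]
    rw [← hB', show g' = g⁻¹ from (Matrix.inv_eq_right_inv hgg).symm]
    exact hF g (Matrix.isUnit_det_of_right_inverse hgg)
  let Q : Polynomial k := MvPolynomial.aeval (fun q : Fin n × Fin n => Polynomial.C (S q.1 q.2) +
    ∑ a ∈ Finset.range m, ∑ b ∈ Finset.range m, Polynomial.C ((p a * N * p b) q.1 q.2) * Polynomial.X ^ (a - b)) F
  have hQ : ∀ s, Q.eval s = MvPolynomial.eval (fun q : Fin n × Fin n => (S + Ns s) q.1 q.2) F := fun s => by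
    rw [← Polynomial.coe_aeval_eq_eval, MvPolynomial.comp_aeval_apply, MvPolynomial.aeval_eq_eval]
    congr 2
    funext q
    simp only [Ns, map_add, map_sum, map_mul, map_pow, Polynomial.aeval_C, Polynomial.aeval_X, Algebra.algebraMap_self, RingHom.id_apply, Matrix.add_apply, Matrix.sum_apply, Matrix.smul_apply, smul_eq_mul]
    simp only [mul_comm]
  have hQ0 : Q = 0 := Polynomial.eq_zero_of_infinite_isRoot Q
    ((Set.finite_singleton (0 : k)).infinite_compl.mono fun s hs => (hQ s).trans (hconj s hs))
  have := hQ 0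
  rw [hQ0, Polynomial.eval_zero] at this
  rw [this]
  congr 2
  funext q
  suffices Ns 0 = 0 by simp [this]
  refine Finset.sum_eq_zero fun a _ => Finset.sum_eq_zero fun b _ => ?_
  rcases le_or_gt a b with h | h
  · rw [hpN a b h, smul_zero]
  · rw [zero_pow (by omega), zero_smul]

end Groth.Agent.S19394
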