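import Groth.Statements.S19396
import Groth.Agent.FFLib.Gaps

set_option autoImplicit false
universe u v
open FunFld

namespace Groth.Agent.S19396

/-- On an elliptic curve with base point 0, if f has a double pole at 0 and no other pole and g a triple
pole at 0 and no other pole, then for n ≥ 2 the functions 1, f, …, f^[n/2], g, fg, …, f^[(n−3)/2] g
form a basis of the space of functions with at most an n-fold pole at 0. Stated for a function field
K/k of one variable of genus 1 with a place P of degree 1 in the role of the curve and its base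
point: the family indexed by Fin (n/2 + 1) ⊕ Fin ((n − 1)/2), sending i on the left to f^i and i on
the right to f^i g, is linearly independent over k and spans L(nP). -/
theorem result (k : Type u) (K : Type v) [Field k] [Field K]
    [Algebra k K] (hK : FunFld.IsFunctionField k K) (hgen : FunFld.genus k K = 1)
    (P : FunFld.Place k K) (hP : P.deg = 1) (f g : K)
    (hf : f ∈ FunFld.L (Finsupp.single P 2)) (hf2 : P.ord f = -2)
    (hg : g ∈ FunFld.L (Finsupp.single P 3)) (hg3 : P.ord g = -3) (n : ℕ) (hn : 2 ≤ n) :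
    LinearIndependent k
        (Sum.elim (fun i : Fin (n / 2 + 1) => f ^ (i : ℕ)) (fun i : Fin ((n - 1) / 2) => f ^ (i : ℕ) * g)) ∧
      Submodule.span k (Set.range
        (Sum.elim (fun i : Fin (n / 2 + 1) => f ^ (i : ℕ)) (fun i : Fin ((n - 1) / 2) => f ^ (i : ℕ) * g))) =
        FunFld.L (Finsupp.single P (n : ℤ)) := by
  classical
  have hf0 : f ≠ 0 := fun e => by rw [e, FFLib.ord_zero] at hf2; omega
  have hg0 : g ≠ 0 := fun e => by rw [e, FFLib.ord_zero] at hg3; omega
  have hfd := FFLib.finiteDimensional_L hK (Finsupp.single P (n : ℤ))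
  set v := Sum.elim (fun i : Fin (n / 2 + 1) => f ^ (i : ℕ)) (fun i : Fin ((n - 1) / 2) => f ^ (i : ℕ) * g) with hv
  have hne : ∀ i, v i ≠ 0 := by
    rintro (i | i)
    · exact pow_ne_zero _ hf0
    · exact mul_ne_zero (pow_ne_zero _ hf0) hg0
  have hord1 : ∀ i : ℕ, P.ord (f ^ i) = -2 * i := fun i => by rw [FFLib.ord_pow, hf2]; ring
  have hord2 : ∀ i : ℕ, P.ord (f ^ i * g) = -2 * i - 3 := fun i => by
    rw [FFLib.ord_mul P (pow_ne_zero _ hf0) hg0, hord1, hg3]; ring
  have hli : LinearIndependent k v := FFLib.linearIndependent_of_ord P v hne (by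
    rintro (a | a) (b | b) e <;> simp only [hv, Sum.elim_inl, Sum.elim_inr, hord1, hord2] at e
    · exact congrArg Sum.inl (Fin.ext (by omega))
    · omega
    · omega
    · exact congrArg Sum.inr (Fin.ext (by omega)))
  refine ⟨hli, Submodule.eq_of_le_of_finrank_le (Submodule.span_le.2 ?_) ?_⟩
  · rintro _ ⟨i, rfl⟩
    refine (FFLib.mem_L_iff (hne i)).2 fun Q => ?_
    rcases eq_or_ne Q P with rfl | hQ
    · rw [Finsupp.single_eq_same]
      rcases i with i | i <;> simp only [hv, Sum.elim_inl, Sum.elim_inr, hord1, hord2] <;>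
        have := i.2 <;> omega
    · rw [Finsupp.single_eq_of_ne hQ, add_zero]
      have h1 := (FFLib.mem_L_iff hf0).1 hf Q
      have h2 := (FFLib.mem_L_iff hg0).1 hg Q
      rw [Finsupp.single_eq_of_ne hQ, add_zero] at h1 h2
      rcases i with i | i <;> simp only [hv, Sum.elim_inl, Sum.elim_inr]
      · rw [FFLib.ord_pow]; positivity
      · rw [FFLib.ord_mul Q (pow_ne_zero _ hf0) hg0, FFLib.ord_pow]; positivity
  · rw [finrank_span_eq_card hli, Fintype.card_sum, Fintype.card_fin, Fintype.card_fin]
    have h := FFLib.ell_eq_of_deg_ge hK (D := Finsupp.single P (n : ℤ))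
      (by rw [FFLib.deg_single, hP, hgen]; push_cast; omega)
    rw [FFLib.deg_single, hP, hgen, ell] at h
    omega

end Groth.Agent.S19396
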