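import Groth.Statements.S19397
import Groth.Agent.GeomFFLib.Splitting
import Groth.Agent.GeomFFLib.AlgExt
import Groth.Agent.FFLib.RR
import Mathlib.FieldTheory.IsAlgClosed.Basic
import Mathlib.FieldTheory.Separable
import Mathlib.Algebra.Polynomial.Inductions
import Mathlib.Tactic.LinearCombination
-- import your own Groth.Agent.* helpers here

set_option autoImplicit false
universe u v
open FunFld

namespace Groth.Agent.S19397

open Groth.Agent.FFLib Polynomial in
theorem v_aeval {k : Type u} {K : Type v} [Field k] [Field K] [Algebra k K] {P : Place k K} {x : K}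
    (hx : P.1 x = WithZero.exp 2) (p : k[X]) (hp : p ≠ 0) :
    ∃ d : ℕ, P.1 (aeval x p) = WithZero.exp (2 * (d : ℤ)) ∧ (p.coeff 0 = 0 → 1 ≤ d) := by
  classical
  suffices h : ∀ q : k[X], q ≠ 0 → ∃ d : ℕ, P.1 (aeval x q) = WithZero.exp (2 * (d : ℤ)) ∧ (q.coeff 0 = 0 → 1 ≤ d) from h p hp
  intro q
  induction q using Polynomial.recOnHorner with
  | M0 => exact fun h => absurd rfl h
  | MC q c hq0 hc ih =>
    intro _
    rcases eq_or_ne q 0 with rfl | hq
    · refine ⟨0, by rw [zero_add, aeval_C, v_const P hc]; simp, fun h => absurd (by simpa using h) hc⟩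
    · obtain ⟨d, hd, hd1⟩ := ih hq
      refine ⟨d, ?_, fun _ => hd1 hq0⟩
      rw [map_add, P.1.map_add_eq_of_lt_left, hd]
      rw [hd, aeval_C, v_const P hc, ← WithZero.exp_zero, WithZero.exp_lt_exp]
      have := hd1 hq0
      omega
  | MX q hq ih =>
    intro _
    obtain ⟨d, hd, -⟩ := ih hq
    refine ⟨d + 1, ?_, fun _ => by omega⟩
    rw [map_mul, map_mul, aeval_X, hd, hx, ← WithZero.exp_add]
    push_cast
    ring_nf

open Groth.Agent.FFLib Polynomial in
theorem pair_eq_zero {k : Type u} {K : Type v} [Field k] [Field K] [Algebra k K] {P : Place k K} {x y : K}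
    (hx : P.1 x = WithZero.exp 2) (hy : P.1 y = WithZero.exp 3) {p0 p1 : k[X]}
    (h : aeval x p0 + aeval x p1 * y = 0) : p0 = 0 ∧ p1 = 0 := by
  have hy0 : y ≠ 0 := fun e => by rw [e, map_zero] at hy; exact WithZero.exp_ne_zero hy.symm
  rcases eq_or_ne p1 0 with rfl | h1
  · refine ⟨?_, rfl⟩
    by_contra h0
    obtain ⟨d, hd, -⟩ := v_aeval hx p0 h0
    rw [map_zero, zero_mul, add_zero] at h
    rw [h, map_zero] at hd
    exact WithZero.exp_ne_zero hd.symm
  exfalso
  obtain ⟨e, he, -⟩ := v_aeval hx p1 h1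
  have h0 : p0 ≠ 0 := fun h0 => by
    rw [h0, map_zero, zero_add] at h
    rcases mul_eq_zero.1 h with h2 | h2
    · rw [h2, map_zero] at he; exact WithZero.exp_ne_zero he.symm
    · exact hy0 h2
  obtain ⟨d, hd, -⟩ := v_aeval hx p0 h0
  rw [eq_neg_of_add_eq_zero_left h, Valuation.map_neg, map_mul, he, hy, ← WithZero.exp_add, WithZero.exp_inj] at hd
  omega

open Groth.Agent.FFLib in
/-- Two generating pairs with the same relations differ by an automorphism. -/
theorem exists_algEquiv_of_ker_eq {k : Type u} {K : Type v} [Field k] [Field K] [Algebra k K] {x y x' y' : K}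
    (hxy : IntermediateField.adjoin k ({x, y} : Set K) = ⊤) (hxy' : IntermediateField.adjoin k ({x', y'} : Set K) = ⊤)
    (h : ∀ p : MvPolynomial (Fin 2) k, MvPolynomial.aeval ![x, y] p = 0 ↔ MvPolynomial.aeval ![x', y'] p = 0) :
    ∃ σ : K ≃ₐ[k] K, σ x = x' ∧ σ y = y' := by
  classical
  set φ : MvPolynomial (Fin 2) k →ₐ[k] K := MvPolynomial.aeval ![x, y] with hφ
  set φ' : MvPolynomial (Fin 2) k →ₐ[k] K := MvPolynomial.aeval ![x', y'] with hφ'
  set A := φ.range
  have hker : ∀ p, φ.rangeRestrict p = 0 ↔ φ' p = 0 := fun p => by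
    rw [← h p]; exact Subtype.ext_iff.trans Iff.rfl
  let g : A →ₐ[k] K :=
    (Ideal.Quotient.liftₐ (RingHom.ker φ.rangeRestrict) φ' fun p hp => (hker p).1 hp).comp
      (Ideal.quotientKerAlgEquivOfSurjective (f := φ.rangeRestrict) φ.rangeRestrict_surjective).symm.toAlgHom
  have hg : ∀ p, g (φ.rangeRestrict p) = φ' p := fun p => by
    have e : (Ideal.quotientKerAlgEquivOfSurjective (f := φ.rangeRestrict) φ.rangeRestrict_surjective).symm
        (φ.rangeRestrict p) = Ideal.Quotient.mk (RingHom.ker φ.rangeRestrict) p := by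
      rw [AlgEquiv.symm_apply_eq]; rfl
    simp only [g, AlgHom.comp_apply]
    erw [e]
    rfl
  have hginj : Function.Injective g := (injective_iff_map_eq_zero g).2 fun a ha => by
    obtain ⟨p, rfl⟩ := φ.rangeRestrict_surjective a
    rw [hg] at ha
    exact (hker p).2 ha
  haveI : IsFractionRing A K := IsFractionRing.of_field A K fun z => by
    have hz : z ∈ IntermediateField.adjoin k ({x, y} : Set K) := hxy ▸ trivial
    obtain ⟨r, hr, s, hs, rfl⟩ := IntermediateField.mem_adjoin_iff_div.1 hz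
    rw [show ({x, y} : Set K) = Set.range ![x, y] by simp [Matrix.range_cons, Matrix.range_empty, Set.pair_comm],
      Algebra.adjoin_range_eq_range_aeval] at hr hs
    exact ⟨⟨r, hr⟩, ⟨s, hs⟩, rfl⟩
  let σ : K →ₐ[k] K := IsFractionRing.liftAlgHom (K := K) hginj
  have hσ : ∀ p, σ (φ p) = φ' p := fun p => by
    rw [← hg p]
    exact IsFractionRing.lift_algebraMap hginj (φ.rangeRestrict p)
  have hx : σ x = x' := by simpa [hφ, hφ'] using hσ (MvPolynomial.X 0)
  have hy : σ y = y' := by simpa [hφ, hφ'] using hσ (MvPolynomial.X 1)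
  have hsurj : Function.Surjective σ := fun z => by
    have hle : IntermediateField.adjoin k ({x', y'} : Set K) ≤ σ.fieldRange :=
      IntermediateField.adjoin_le_iff.2 (Set.insert_subset ⟨x, hx⟩ (Set.singleton_subset_iff.2 ⟨y, hy⟩))
    exact hle (hxy' ▸ trivial : z ∈ IntermediateField.adjoin k ({x', y'} : Set K))
  exact ⟨AlgEquiv.ofBijective σ ⟨σ.toRingHom.injective, hsurj⟩, hx, hy⟩

open Polynomial in
theorem exists_pair {k : Type u} {K : Type v} [Field k] [Field K] [Algebra k K] (f : k[X]) (p : MvPolynomial (Fin 2) k) :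
    ∃ p0 p1 : k[X], ∀ x y : K, y ^ 2 = aeval x f → MvPolynomial.aeval ![x, y] p = aeval x p0 + aeval x p1 * y := by
  induction p using MvPolynomial.induction_on with
  | C c => exact ⟨Polynomial.C c, 0, fun x y _ => by simp⟩
  | add p q hp hq =>
    obtain ⟨p0, p1, hp⟩ := hp
    obtain ⟨q0, q1, hq⟩ := hq
    exact ⟨p0 + q0, p1 + q1, fun x y h => by rw [map_add, hp x y h, hq x y h, map_add, map_add]; ring⟩
  | mul_X p i hp =>
    obtain ⟨p0, p1, hp⟩ := hp
    fin_cases i
    · exact ⟨p0 * Polynomial.X, p1 * Polynomial.X, fun x y h => by rw [map_mul, hp x y h]; simp; ring⟩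
    · exact ⟨p1 * f, p0, fun x y h => by rw [map_mul, hp x y h, map_mul, ← h]; simp; ring⟩

theorem coeffs_zero {k : Type u} [Field k] {e3 e2 e1 e0 : k}
    (h : Polynomial.C e3 * Polynomial.X ^ 3 + Polynomial.C e2 * Polynomial.X ^ 2 + Polynomial.C e1 * Polynomial.X + Polynomial.C e0 = 0) :
    e3 = 0 ∧ e2 = 0 ∧ e1 = 0 ∧ e0 = 0 := by
  refine ⟨?_, ?_, ?_, ?_⟩
  · simpa [Polynomial.coeff_X_pow, Polynomial.coeff_C, Polynomial.coeff_X] using congrArg (fun p => Polynomial.coeff p 3) h
  · simpa [Polynomial.coeff_X_pow, Polynomial.coeff_C, Polynomial.coeff_X] using congrArg (fun p => Polynomial.coeff p 2) h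
  · simpa [Polynomial.coeff_X_pow, Polynomial.coeff_C, Polynomial.coeff_X] using congrArg (fun p => Polynomial.coeff p 1) h
  · simpa [Polynomial.coeff_X_pow, Polynomial.coeff_C, Polynomial.coeff_X] using congrArg (fun p => Polynomial.coeff p 0) h

open Classical in
/-- Over an algebraically closed field of characteristic different from 2 and 3, the automorphism group
of an elliptic curve (automorphisms fixing the base point) with invariant j has order 2 if j ≠ 0,
12³, order 4 if j = 12³ and order 6 if j = 0. Stated for the function field K/k of the curve: K of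
genus 1 generated by x, y with y² = x³ + a x + b and 4a³ + 27b² ≠ 0, P the place where x has its
double and y its triple pole (and no other poles), so that j = 12³ · 4a³/(4a³ + 27b²) and the three
cases are a, b ≠ 0; b = 0; a = 0; the automorphisms are the k-algebra automorphisms of K preserving
the valuation of P. -/
theorem result (k : Type u) (K : Type v) [Field k]
    [IsAlgClosed k] [Field K] [Algebra k K] (h2 : (2 : k) ≠ 0) (h3 : (3 : k) ≠ 0)
    (hK : FunFld.IsFunctionField k K) (hgen : FunFld.genus k K = 1) (P : FunFld.Place k K)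
    (a b : k) (hdisc : 4 * a ^ 3 + 27 * b ^ 2 ≠ 0) (x y : K)
    (heq : y ^ 2 = x ^ 3 + algebraMap k K a * x + algebraMap k K b)
    (hxy : IntermediateField.adjoin k ({x, y} : Set K) = ⊤)
    (hx : x ∈ FunFld.L (Finsupp.single P 2)) (hx2 : P.ord x = -2)
    (hy : y ∈ FunFld.L (Finsupp.single P 3)) (hy3 : P.ord y = -3) :
    Nat.card {σ : K ≃ₐ[k] K // ∀ z : K, P.1 (σ z) = P.1 z} =
      if a = 0 then 6 else if b = 0 then 4 else 2 := by
  classical
  open Groth.Agent.FFLib Groth.Agent.GeomFFLib in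
  have hx0 : x ≠ 0 := fun e => by rw [e] at hx2; simp [Place.ord] at hx2
  have hy0 : y ≠ 0 := fun e => by rw [e] at hy3; simp [Place.ord] at hy3
  have hvx : P.1 x = WithZero.exp 2 := by rw [v_eq P hx0, hx2]; norm_num
  have hvy : P.1 y = WithZero.exp 3 := by rw [v_eq P hy0, hy3]; norm_num
  have hd1 : ∀ Q : Place k K, Q.deg = 1 := fun Q => deg_eq_one_of_isAlgClosed hK.1 Q
  -- reduction of the pole order
  have reduce : ∀ (n : ℤ) (z w : K), z ∈ L (Finsupp.single P n) → w ∈ L (Finsupp.single P n) → P.1 w = WithZero.exp n →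
      ∃ α : k, z - α • w ∈ L (Finsupp.single P (n - 1)) := by
    intro n z w hz hw hwv
    obtain ⟨ev, hev⟩ := exists_value hK.1 P (hd1 P)
    have hzv : P.1 z ≤ WithZero.exp n := by simpa using hz P
    have hq : P.1 (z / w) ≤ 1 := by rw [map_div₀, hwv, div_le_one₀ WithZero.exp_pos]; exact hzv
    obtain ⟨α, hα⟩ : ∃ α : k, P.1 (z / w - algebraMap k K α) < 1 := ⟨_, hev ⟨_, hq⟩⟩
    refine ⟨α, fun R => ?_⟩
    rcases eq_or_ne R P with rfl | hne
    · have hw0 : w ≠ 0 := fun e => by rw [e, map_zero] at hwv; exact WithZero.exp_ne_zero hwv.symm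
      rw [Finsupp.single_eq_same, show z - α • w = (z / w - algebraMap k K α) * w by
        rw [Algebra.smul_def, sub_mul, div_mul_cancel₀ _ hw0], map_mul, hwv]
      refine (mul_le_mul' (le_exp_neg_one_of_lt_one hα) le_rfl).trans ?_
      rw [← WithZero.exp_add, WithZero.exp_le_exp]
      omega
    · rw [Finsupp.single_eq_of_ne hne]
      have h1 := hz R
      have h2 := (L (Finsupp.single P n)).smul_mem α hw R
      rw [Finsupp.single_eq_of_ne hne] at h1 h2
      exact (R.1.map_sub _ _).trans (max_le h1 h2)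
  have hconst : ∀ z ∈ L (Finsupp.single P (1 : ℤ)), ∃ c : k, algebraMap k K c = z := by
    intro z hz
    have hfd := finiteDimensional_L hK.1 (Finsupp.single P (1 : ℤ) : Divisor k K)
    have h1 := ell_eq_of_deg_ge hK (D := (Finsupp.single P (1 : ℤ) : Divisor k K)) (by
      rw [deg_single, hd1, hgen]; norm_num)
    rw [deg_single, hd1, hgen] at h1
    have hone : (1 : K) ∈ L (Finsupp.single P (1 : ℤ)) := fun R => by
      rw [map_one, ← WithZero.exp_zero, WithZero.exp_le_exp, Finsupp.single_apply]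
      split_ifs <;> omega
    obtain ⟨c, hc⟩ := (finrank_eq_one_iff_of_nonzero' (⟨1, hone⟩ : L (Finsupp.single P (1 : ℤ)))
      (fun e => one_ne_zero (congrArg Subtype.val e))).1 (show ell (Finsupp.single P (1 : ℤ)) = 1 by push_cast at h1; omega) ⟨z, hz⟩
    exact ⟨c, by simpa [Algebra.smul_def] using congrArg Subtype.val hc⟩
  -- pull back of places along an automorphism fixing `P`
  have hperm : ∀ (σ : K ≃ₐ[k] K), (∀ z, P.1 (σ z) = P.1 z) → ∀ n : ℤ, ∀ z ∈ L (Finsupp.single P n), σ z ∈ L (Finsupp.single P n) := by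
    intro σ hσ n z hz R
    rcases eq_or_ne R P with rfl | hne
    · rw [hσ]; exact hz R
    let R' : Place k K := ⟨R.1.comap σ.toAlgHom.toRingHom, fun c => by
      rw [Valuation.comap_apply]
      show R.1 (σ (algebraMap k K c)) ≤ 1
      rw [AlgEquiv.commutes]; exact R.2.1 c, fun g => by
      obtain ⟨w, hw⟩ := R.2.2 g
      exact ⟨σ.symm w, by show R.1 (σ (σ.symm w)) = g; rw [AlgEquiv.apply_symm_apply, hw]⟩⟩
    have hne' : R' ≠ P := fun e => hne (place_ext_of_le R P fun w hw => by
      rw [← σ.apply_symm_apply w, hσ]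
      have : R'.1 (σ.symm w) ≤ 1 := by show R.1 (σ (σ.symm w)) ≤ 1; rwa [AlgEquiv.apply_symm_apply]
      rwa [e] at this)
    have := hz R'
    rwa [Finsupp.single_eq_of_ne hne', ← Finsupp.single_eq_of_ne hne] at this
  have honly : ∀ R : Place k K, 1 < R.1 x → R = P := fun R hR => by
    by_contra hne
    have := hx R
    rw [Finsupp.single_eq_of_ne hne, WithZero.exp_zero] at this
    exact this.not_gt hR
  -- the parameter set
  set U := {u : k // u ^ 6 * a = u ^ 2 * a ∧ u ^ 6 * b = b ∧ u ≠ 0} with hU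
  have hfwd : ∀ σ : {σ : K ≃ₐ[k] K // ∀ z : K, P.1 (σ z) = P.1 z}, ∃ u : U,
      σ.1 x = algebraMap k K (u.1 ^ 2) * x ∧ σ.1 y = algebraMap k K (u.1 ^ 3) * y := by
    rintro ⟨σ, hσ⟩
    obtain ⟨α, hα⟩ := reduce 2 _ x (hperm σ hσ 2 x hx) hx hvx
    obtain ⟨β, hβ⟩ := hconst _ hα
    obtain ⟨γ, hγ⟩ := reduce 3 _ y (hperm σ hσ 3 y hy) hy hvy
    obtain ⟨δ, hδ⟩ := reduce 2 _ x (show σ y - γ • y ∈ L (Finsupp.single P 2) from hγ) hx hvx
    obtain ⟨ε, hε⟩ := hconst _ hδ
    have ex : σ x = algebraMap k K α * x + algebraMap k K β := by rw [hβ, Algebra.smul_def]; ring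
    have ey : σ y = algebraMap k K γ * y + algebraMap k K δ * x + algebraMap k K ε := by
      rw [hε, Algebra.smul_def, Algebra.smul_def]; ring
    have h1 := congrArg σ heq
    simp only [map_add, map_mul, map_pow, AlgEquiv.commutes, ex, ey] at h1
    have hp := pair_eq_zero hvx hvy
      (p0 := Polynomial.C (γ ^ 2 - α ^ 3) * Polynomial.X ^ 3 + Polynomial.C (δ ^ 2 - 3 * α ^ 2 * β) * Polynomial.X ^ 2 +
        Polynomial.C (γ ^ 2 * a + 2 * δ * ε - 3 * α * β ^ 2 - a * α) * Polynomial.X +
        Polynomial.C (γ ^ 2 * b + ε ^ 2 - β ^ 3 - a * β - b))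
      (p1 := Polynomial.C (2 * γ * δ) * Polynomial.X + Polynomial.C (2 * γ * ε)) (by
        simp only [map_add, map_mul, map_pow, Polynomial.aeval_C, Polynomial.aeval_X, map_sub, map_ofNat]
        linear_combination h1 - (algebraMap k K γ) ^ 2 * heq)
    obtain ⟨hp0, hp1⟩ := hp
    obtain ⟨c3, c2, c1, c0⟩ := coeffs_zero hp0
    obtain ⟨-, -, d1, d0⟩ := coeffs_zero (e3 := (0 : k)) (e2 := (0 : k)) (e1 := 2 * γ * δ) (e0 := 2 * γ * ε) (by rw [map_zero, zero_mul, zero_mul, zero_add, zero_add]; exact hp1)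
    have hγ0 : γ ≠ 0 := by
      rintro rfl
      have hα0 : α = 0 := by
        have : α ^ 3 = 0 := by linear_combination -c3
        exact eq_zero_of_pow_eq_zero this
      rw [hα0, map_zero, zero_mul, zero_add] at ex
      have hv := hσ x
      rw [ex] at hv
      rcases eq_or_ne β 0 with rfl | hb0
      · rw [map_zero, map_zero, hvx] at hv; exact WithZero.exp_ne_zero hv.symm
      · rw [v_const P hb0, hvx, ← WithZero.exp_zero, WithZero.exp_inj] at hv; omega
    have hδ0 : δ = 0 := (mul_eq_zero.1 d1).resolve_left (mul_ne_zero h2 hγ0)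
    have hε0 : ε = 0 := (mul_eq_zero.1 d0).resolve_left (mul_ne_zero h2 hγ0)
    subst hδ0 hε0
    have hα0 : α ≠ 0 := by
      rintro rfl
      exact hγ0 (eq_zero_of_pow_eq_zero (n := 2) (by linear_combination c3))
    have hβ0 : β = 0 := by
      have : 3 * α ^ 2 * β = 0 := by linear_combination -c2
      exact (mul_eq_zero.1 this).resolve_left (mul_ne_zero h3 (pow_ne_zero _ hα0))
    subst hβ0
    have hu2 : (γ / α) ^ 2 = α := by field_simp; linear_combination c3
    have hu3 : (γ / α) ^ 3 = γ := by rw [pow_succ, hu2, mul_div_cancel₀ _ hα0]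
    refine ⟨⟨γ / α, ?_, ?_, div_ne_zero hγ0 hα0⟩, ?_, ?_⟩
    · rw [show (γ / α) ^ 6 = ((γ / α) ^ 3) ^ 2 by ring, hu3, hu2]
      linear_combination c1
    · rw [show (γ / α) ^ 6 = ((γ / α) ^ 3) ^ 2 by ring, hu3]
      linear_combination c0
    · rw [ex, hu2, map_zero, add_zero]
    · rw [ey, hu3, map_zero, zero_mul, add_zero, add_zero]
  choose F hFx hFy using hfwd
  have hinj : Function.Injective F := by
    intro σ τ e
    refine Subtype.ext (AlgEquiv.ext fun w => ?_)
    have hw : w ∈ IntermediateField.adjoin k ({x, y} : Set K) := hxy ▸ trivial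
    induction hw using IntermediateField.adjoin_induction with
    | mem z hz =>
      rcases hz with rfl | rfl
      · rw [hFx, hFx, e]
      · rw [hFy, hFy, e]
    | algebraMap c => rw [AlgEquiv.commutes, AlgEquiv.commutes]
    | add p q _ _ hp hq => rw [map_add, map_add, hp, hq]
    | inv p _ hp => rw [map_inv₀, map_inv₀, hp]
    | mul p q _ _ hp hq => rw [map_mul, map_mul, hp, hq]
  have hsurj : Function.Surjective F := by
    rintro ⟨u, hua, hub, hu0⟩
    have hc : ∀ n : ℕ, algebraMap k K (u ^ n) ≠ 0 := fun n => (_root_.map_ne_zero _).2 (pow_ne_zero _ hu0)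
    have hvx' : P.1 (algebraMap k K (u ^ 2) * x) = WithZero.exp 2 := by rw [map_mul, v_const P (pow_ne_zero _ hu0), one_mul, hvx]
    have hvy' : P.1 (algebraMap k K (u ^ 3) * y) = WithZero.exp 3 := by rw [map_mul, v_const P (pow_ne_zero _ hu0), one_mul, hvy]
    set f : Polynomial k := Polynomial.X ^ 3 + Polynomial.C a * Polynomial.X + Polynomial.C b with hf
    have he : y ^ 2 = Polynomial.aeval x f := by simp [hf, heq]
    have he' : (algebraMap k K (u ^ 3) * y) ^ 2 = Polynomial.aeval (algebraMap k K (u ^ 2) * x) f := by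
      have ea := congrArg (algebraMap k K) hua
      have eb := congrArg (algebraMap k K) hub
      simp only [map_mul, map_pow] at ea eb
      simp only [hf, map_add, map_mul, map_pow, Polynomial.aeval_X, Polynomial.aeval_C]
      linear_combination (algebraMap k K u) ^ 6 * heq + x * ea + eb
    have hgen' : IntermediateField.adjoin k ({algebraMap k K (u ^ 2) * x, algebraMap k K (u ^ 3) * y} : Set K) = ⊤ := by
      rw [eq_top_iff, ← hxy, IntermediateField.adjoin_le_iff]
      set E := IntermediateField.adjoin k ({algebraMap k K (u ^ 2) * x, algebraMap k K (u ^ 3) * y} : Set K)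
      rintro z (rfl | rfl)
      · have := E.div_mem (IntermediateField.subset_adjoin k _ (Set.mem_insert _ _)) (E.algebraMap_mem (u ^ 2))
        rwa [mul_div_cancel_left₀ _ (hc 2)] at this
      · have := E.div_mem (IntermediateField.subset_adjoin k _ (Set.mem_insert_of_mem _ rfl)) (E.algebraMap_mem (u ^ 3))
        rwa [mul_div_cancel_left₀ _ (hc 3)] at this
    obtain ⟨σ, hσx, hσy⟩ := exists_algEquiv_of_ker_eq hxy hgen' (fun p => by
      obtain ⟨p0, p1, hp⟩ := exists_pair (K := K) f p
      rw [hp x y he, hp _ _ he']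
      constructor <;> intro h
      · obtain ⟨rfl, rfl⟩ := pair_eq_zero hvx hvy h; simp
      · obtain ⟨rfl, rfl⟩ := pair_eq_zero hvx' hvy' h; simp)
    have hσP : ∀ z, P.1 (σ z) = P.1 z := by
      let P' : Place k K := ⟨P.1.comap σ.toAlgHom.toRingHom, fun c => by
        rw [Valuation.comap_apply]
        show P.1 (σ (algebraMap k K c)) ≤ 1
        rw [AlgEquiv.commutes]; exact P.2.1 c, fun g => by
        obtain ⟨w, hw⟩ := P.2.2 g
        exact ⟨σ.symm w, by show P.1 (σ (σ.symm w)) = g; rw [AlgEquiv.apply_symm_apply, hw]⟩⟩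
      have : P' = P := honly P' (by
        show 1 < P.1 (σ x)
        rw [hσx, hvx', ← WithZero.exp_zero, WithZero.exp_lt_exp]; norm_num)
      intro z
      exact congrArg (fun R : Place k K => R.1 z) this
    refine ⟨⟨σ, hσP⟩, Subtype.ext ?_⟩
    have e2 := (hFx ⟨σ, hσP⟩).symm.trans hσx
    have e3 := (hFy ⟨σ, hσP⟩).symm.trans hσy
    have u2 := (algebraMap k K).injective (mul_right_cancel₀ hx0 e2)
    have u3 := (algebraMap k K).injective (mul_right_cancel₀ hy0 e3)
    have hF0 := (F ⟨σ, hσP⟩).2.2.2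
    calc (F ⟨σ, hσP⟩).1 = (F ⟨σ, hσP⟩).1 ^ 3 / (F ⟨σ, hσP⟩).1 ^ 2 := by field_simp
      _ = u ^ 3 / u ^ 2 := by rw [u2, u3]
      _ = u := by field_simp
  rw [Nat.card_congr (Equiv.ofBijective F ⟨hinj, hsurj⟩)]
  have hroots : ∀ n : ℕ, (n : k) ≠ 0 → Nat.card {u : k // u ^ n = 1} = n := by
    intro n hn
    have hn0 : 0 < n := Nat.pos_of_ne_zero fun e => hn (by simp [e])
    have hne : (Polynomial.X ^ n - Polynomial.C (1 : k)) ≠ 0 := Polynomial.X_pow_sub_C_ne_zero hn0 1
    have hcard := Polynomial.card_rootSet_eq_natDegree (K := k) (p := Polynomial.X ^ n - Polynomial.C (1 : k))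
      (Polynomial.separable_X_pow_sub_C 1 hn one_ne_zero) (IsAlgClosed.splits _)
    rw [Polynomial.natDegree_X_pow_sub_C, ← Nat.card_eq_fintype_card] at hcard
    refine Eq.trans (Nat.card_congr (Equiv.subtypeEquivRight fun u => ?_)) hcard
    rw [Polynomial.mem_rootSet_of_ne hne]
    simp [sub_eq_zero]
  have h4 : (4 : k) ≠ 0 := by rw [show (4 : k) = 2 * 2 by norm_num]; exact mul_ne_zero h2 h2
  have h6 : (6 : k) ≠ 0 := by rw [show (6 : k) = 2 * 3 by norm_num]; exact mul_ne_zero h2 h3
  split_ifs with ha hb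
  · have hb : b ≠ 0 := by rintro rfl; exact hdisc (by rw [ha]; ring)
    refine Eq.trans (Nat.card_congr (Equiv.subtypeEquivRight fun u => ?_)) (hroots 6 (by exact_mod_cast h6))
    refine ⟨fun h => mul_right_cancel₀ hb (by rw [h.2.1, one_mul]), fun h => ⟨by rw [ha, mul_zero, mul_zero], by rw [h, one_mul], ?_⟩⟩
    rintro rfl; simp at h
  · refine Eq.trans (Nat.card_congr (Equiv.subtypeEquivRight fun u => ?_)) (hroots 4 (by exact_mod_cast h4))
    refine ⟨fun h => ?_, fun h => ⟨?_, by rw [hb, mul_zero], ?_⟩⟩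
    · exact mul_left_cancel₀ (pow_ne_zero 2 h.2.2) (mul_right_cancel₀ ha (by linear_combination h.1))
    · linear_combination u ^ 2 * a * h
    · rintro rfl; simp at h
  · refine Eq.trans (Nat.card_congr (Equiv.subtypeEquivRight fun u => ?_)) (hroots 2 (by exact_mod_cast h2))
    refine ⟨fun h => ?_, fun h => ⟨?_, ?_, ?_⟩⟩
    · have e6 : u ^ 6 = 1 := mul_right_cancel₀ hb (by rw [h.2.1, one_mul])
      have e62 : u ^ 6 = u ^ 2 := mul_right_cancel₀ ha h.1
      exact e62 ▸ e6
    · linear_combination (u ^ 4 + u ^ 2) * a * h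
    · linear_combination (u ^ 4 + u ^ 2 + 1) * b * h
    · rintro rfl; simp at h

end Groth.Agent.S19397
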