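import Groth.Statements.S19401
import Mathlib
import Groth.Agent.GLinFinLib.OrbitFinite
-- import your own Groth.Agent.* helpers here

set_option autoImplicit false
universe u
open TensorProduct
open GLin

namespace Groth.Agent.S19401

/-- Suppose the field k is algebraically closed and has characteristic zero. Take A to be a finitely
generated commutative Hopf algebra over k (an affine algebraic group G), and take S and R to be
finitely generated commutative k-algebras, each equipped with a multiplicative A-coaction (so G acts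
on Y = Spec S and on X = Spec R). Assume S → R is a finite algebra map respecting the coactions (a
G-morphism X → Y). Given a k-point x of X whose image in Y is y, the orbit of x is closed (meaning
its orbit morphism Spec A → Spec R has closed image) exactly when the orbit of y is closed. (This is
the affine version of the source's result about G-morphisms of varieties.) -/
theorem result (k : Type u) [Field k] [IsAlgClosed k] [CharZero k]
    (A : Type u) [CommRing A] [HopfAlgebra k A] [Algebra.FiniteType k A]
    (S : Type u) [CommRing S] [Algebra k S] [Algebra.FiniteType k S] [HopfRep.Comod k A S] [GLin.IsCoactAlg k A S]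
    (R : Type u) [CommRing R] [Algebra k R] [Algebra.FiniteType k R] [HopfRep.Comod k A R] [GLin.IsCoactAlg k A R]
    [Algebra S R] [IsScalarTower k S R] [Module.Finite S R]
    (hequiv : ∀ s : S, HopfRep.Comod.coact (k := k) (A := A) (algebraMap S R s) =
      Algebra.TensorProduct.map (IsScalarTower.toAlgHom k S R) (AlgHom.id k A) (HopfRep.Comod.coact (k := k) (A := A) s))
    (x : R →ₐ[k] k) :
    GLin.IsClosedOrbit k A x ↔ GLin.IsClosedOrbit k A (x.comp (IsScalarTower.toAlgHom k S R)) := by
  classical
  haveI : IsNoetherianRing R := Algebra.FiniteType.isNoetherianRing k R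
  set φ := IsScalarTower.toAlgHom k S R
  have hcomp : GLin.orbitHom k A (x.comp φ) = (GLin.orbitHom k A x).comp φ :=
    AlgHom.ext fun s => GLinFinLib.orbitHom_comp hequiv x s
  constructor
  · intro h
    show IsClosed (Set.range (PrimeSpectrum.comap (GLin.orbitHom k A (x.comp φ)).toRingHom))
    rw [hcomp]
    have hcl := PrimeSpectrum.isClosedMap_comap_of_isIntegral (algebraMap S R)
      (algebraMap_isIntegral_iff.2 inferInstance) _ h
    rw [← Set.range_comp] at hcl
    exact hcl
  intro h
  rw [GLinFinLib.isClosedOrbit_iff]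
  intro z hz
  have hcompz : ∀ s, GLin.orbitHom k A (z.comp φ) s = GLin.orbitHom k A z (algebraMap S R s) :=
    fun s => GLinFinLib.orbitHom_comp hequiv z s
  have hcompx : ∀ s, GLin.orbitHom k A (x.comp φ) s = GLin.orbitHom k A x (algebraMap S R s) :=
    fun s => GLinFinLib.orbitHom_comp hequiv x s
  have hclo : GLin.InOrbitClosure k A (x.comp φ) (z.comp φ) := fun s hs => by
    have h1 : algebraMap S R s ∈ RingHom.ker (GLin.orbitHom k A x) := by
      rw [RingHom.mem_ker, ← hcompx]; exact hs
    exact hz h1
  obtain ⟨g, hg⟩ := GLinFinLib.exists_actPt_of_closure h hclo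
  have hker : RingHom.ker (GLin.orbitHom k A (z.comp φ)) = RingHom.ker (GLin.orbitHom k A (x.comp φ)) := by
    rw [← hg, GLinFinLib.ker_orbitHom_actPt]
  set Ix := RingHom.ker (GLin.orbitHom k A x)
  set Iz := RingHom.ker (GLin.orbitHom k A z)
  set Jy := RingHom.ker (GLin.orbitHom k A (x.comp φ))
  have hle : Ix ≤ Iz := GLinFinLib.ker_orbitHom_mono hz
  have hdim : ∀ w : R →ₐ[k] k, RingHom.ker (GLin.orbitHom k A (w.comp φ)) = Jy →
      ringKrullDim (R ⧸ RingHom.ker (GLin.orbitHom k A w)) = ringKrullDim (S ⧸ Jy) := by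
    intro w hw
    have hc : Jy = (RingHom.ker (GLin.orbitHom k A w)).comap (algebraMap S R) := Ideal.ext fun s => by
      rw [← hw, RingHom.mem_ker, Ideal.mem_comap, RingHom.mem_ker, GLinFinLib.orbitHom_comp hequiv]
    rw [hc]
    exact CommAlgDim.ringKrullDim_eq_of_integral _ _ Ideal.algebraMap_quotient_injective
  haveI : Nontrivial (R ⧸ Iz) := Ideal.Quotient.nontrivial_iff.2
    (ne_top_of_le_ne_top (RingHom.ker_ne_top z) (GLinFinLib.inOrbitClosure_refl z))
  obtain ⟨d, hd⟩ := GLinFinLib.exists_ringKrullDim_eq_nat (k := k) (R ⧸ Iz)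
  have hdx : ringKrullDim (R ⧸ Ix) = (d : WithBot ℕ∞) := by
    rw [hdim x rfl, ← hdim z hker, hd]
  rw [ringKrullDim_quotient] at hd hdx
  obtain ⟨l, hl⟩ := Order.le_krullDim_iff.1 hd.ge
  obtain ⟨Q, hQ, hQl⟩ := Ideal.exists_minimalPrimes_le (I := Iz) (J := (RelSeries.head l).1.asIdeal)
    (RelSeries.head l).2
  have hQx : Q ∈ Ix.minimalPrimes := by
    haveI := hQ.isPrime
    obtain ⟨Q', hQ', hQ'Q⟩ := Ideal.exists_minimalPrimes_le (I := Ix) (J := Q) (hle.trans hQ.le)
    rcases hQ'Q.eq_or_lt with heq | hlt
    · exact heq ▸ hQ'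
    exfalso
    haveI := hQ'.isPrime
    let e : PrimeSpectrum.zeroLocus (Iz : Set R) → PrimeSpectrum.zeroLocus (Ix : Set R) :=
      fun P => ⟨P.1, fun a ha => P.2 (hle ha)⟩
    let l' : LTSeries (PrimeSpectrum.zeroLocus (Ix : Set R)) := l.map e (fun _ _ h => h)
    have hlt' : (⟨⟨Q', inferInstance⟩, hQ'.le⟩ : PrimeSpectrum.zeroLocus (Ix : Set R)) < RelSeries.head l' :=
      show Q' < (RelSeries.head l).1.asIdeal from hlt.trans_le hQl
    have h5 := Order.LTSeries.length_le_krullDim (l'.cons _ hlt')
    rw [hdx, RelSeries.cons_length] at h5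
    have h6 : l.length + 1 ≤ d := by exact_mod_cast h5
    omega
  exact GLinFinLib.exists_actPt_of_minimalPrimes hQx hQ

end Groth.Agent.S19401
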