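import Groth.Statements.S19402
import Groth.Agent.InertiaEtaleLib.Element
import Groth.Agent.InertiaEtaleLib.Interp
-- import your own Groth.Agent.* helpers here

set_option autoImplicit false
universe u v w
open scoped Pointwise
open GLin

namespace Groth.Agent.S19402

open Pointwise in
/-- The point of a maximal ideal is rational. -/
theorem exists_const (k : Type u) [Field k] [IsAlgClosed k] {R : Type v} [CommRing R] [Algebra k R]
    [Algebra.FiniteType k R] (m : Ideal R) [m.IsMaximal] (r : R) : ∃ c : k, r - algebraMap k R c ∈ m := by
  letI : Field (R ⧸ m) := Ideal.Quotient.field m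
  haveI : Module.Finite k (R ⧸ m) := finite_of_finite_type_of_isJacobsonRing k (R ⧸ m)
  obtain ⟨c, hc⟩ := (IsAlgClosed.algebraMap_bijective_of_isIntegral (k := k) (K := R ⧸ m)).2
    (Ideal.Quotient.mk m r)
  exact ⟨c, Ideal.Quotient.eq.1 hc.symm⟩

open Pointwise in
/-- Trivial inertia gives an étale morphism. -/
theorem isEtaleAt_of_inertia_eq_bot (G R B : Type v) [Group G] [Finite G] [CommRing R] [CommRing B]
    [MulSemiringAction G R] [Algebra B R] [FaithfulSMul B R]
    (hA : ∀ y : R, (∀ g : G, g • y = y) → y ∈ Set.range (algebraMap B R))
    (hA' : ∀ (g : G) (b : B), g • algebraMap B R b = algebraMap B R b)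
    (q : Ideal R) [q.IsPrime] (hI : q.inertia G = ⊥) : Algebra.IsEtaleAt B q := by
  obtain ⟨a, -, -, -, hsep⟩ := InertiaEtaleLib.exists_element (G := G) q
  obtain ⟨P, -, ⟨s, hs, hg⟩, hstd⟩ := InertiaEtaleLib.exists_isStandardEtale (A := B) (B := R) (R := R)
    (⊥ : Subgroup G) (FaithfulSMul.algebraMap_injective B R) Function.injective_id hA hA'
    (fun b h hh => by rw [Subgroup.mem_bot.1 hh, one_smul]) a
  set f := Polynomial.aeval a (Polynomial.derivative P)
  have hf : f ∉ q := by
    intro hmem
    change algebraMap R R f ∈ q at hmem
    rw [hg] at hmem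
    obtain ⟨c, hc, hcq⟩ := (Ideal.IsPrime.prod_mem_iff (p := q)).1 hmem
    refine hsep c.out (fun h => (hs c).1 hc ?_) ?_
    · rw [hI, Subgroup.mem_bot] at h
      rw [← QuotientGroup.out_eq' c, h]
    · rw [← neg_mem_iff, neg_sub]
      exact hcq
  haveI : Algebra.FormallyEtale B (Localization.Away f) :=
    (inferInstance : Algebra.Etale B (Localization.Away f)).formallyEtale
  exact Algebra.basicOpen_subset_etaleLocus_iff.2 ‹_› (show (⟨q, ‹_›⟩ : PrimeSpectrum R) ∈ _ from hf)


/-- Let k be an algebraically closed field of characteristic zero, R a finitely generated commutative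
k-algebra which is an integrally closed domain (a normal irreducible affine variety X), and G a
finite group acting faithfully on R by k-algebra automorphisms. Let B be a commutative k-algebra
with an injective algebra map B → R, compatible with the k-structures and G-invariant, whose image
is exactly the subring of G-invariants (so Spec R → Spec B is the quotient morphism X → X/G). Then
for a maximal ideal m of R (a closed point x of X), R is étale over B at m (the local ring R_m is
formally étale over B) if and only if the stabilizer of m in G is trivial. -/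
theorem result (k : Type u) [Field k] [IsAlgClosed k] [CharZero k]
    (R : Type v) [CommRing R] [IsDomain R] [IsIntegrallyClosed R] [Algebra k R] [Algebra.FiniteType k R]
    (G : Type w) [Group G] [Finite G] [MulSemiringAction G R] [FaithfulSMul G R] [SMulCommClass G k R]
    (B : Type v) [CommRing B] [Algebra k B] [Algebra B R] [IsScalarTower k B R] [FaithfulSMul B R]
    [SMulCommClass G B R] [Algebra.IsInvariant B R G]
    (m : Ideal R) [m.IsMaximal] :
    Algebra.IsEtaleAt B m ↔ MulAction.stabilizer G m = ⊥ := by
  classical
  have hmem : ∀ g : G, g ∈ MulAction.stabilizer G m → ∀ r : R, g • r - r ∈ m := by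
    intro g hg r
    obtain ⟨c, hc⟩ := exists_const k m r
    have hgm : g • (r - algebraMap k R c) ∈ m := by
      have := Ideal.smul_mem_pointwise_smul g _ m hc
      rwa [MulAction.mem_stabilizer_iff.1 hg] at this
    rw [smul_sub, smul_algebraMap] at hgm
    have := sub_mem hgm hc
    rwa [sub_sub_sub_cancel_right] at this
  constructor
  · intro het
    rw [eq_bot_iff]
    intro g hg
    haveI : IsNoetherianRing R := Algebra.FiniteType.isNoetherianRing k R
    let L := Localization.AtPrime m
    haveI : IsNoetherianRing L := IsLocalization.isNoetherianRing m.primeCompl L inferInstance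
    haveI : Algebra.FormallyUnramified B L := inferInstance
    have hcomap : m = m.comap (MulSemiringAction.toRingHom G R g) := by
      ext r
      show r ∈ m ↔ g • r ∈ m
      conv_rhs => rw [← MulAction.mem_stabilizer_iff.1 hg, Ideal.smul_mem_pointwise_smul_iff]
    let σ : L →ₐ[B] L :=
      { Localization.localRingHom m m (MulSemiringAction.toRingHom G R g) hcomap with
        commutes' := fun b => by
          show Localization.localRingHom m m _ hcomap (algebraMap B L b) = _
          rw [IsScalarTower.algebraMap_apply B R L, Localization.localRingHom_to_map]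
          exact congrArg (algebraMap R L) (smul_algebraMap g b) }
    have hσa : ∀ r, σ (algebraMap R L r) = algebraMap R L (g • r) := fun r =>
      Localization.localRingHom_to_map _ _ _ hcomap r
    have hres : ∀ r, Ideal.Quotient.mk (IsLocalRing.maximalIdeal L) (σ (algebraMap R L r)) =
        Ideal.Quotient.mk _ (algebraMap R L r) := fun r => by
      rw [hσa, Ideal.Quotient.eq, ← map_sub, IsLocalization.AtPrime.to_map_mem_maximal_iff L m]
      exact hmem g hg r
    have heq : σ = AlgHom.id B L := by
      refine Algebra.FormallyUnramified.ext_of_iInf (I := IsLocalRing.maximalIdeal L)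
        (hI := Ideal.iInf_pow_eq_bot_of_isLocalRing _ (IsLocalRing.maximalIdeal.isMaximal L).ne_top) (H := fun z => ?_)
      obtain ⟨r, s, rfl⟩ := IsLocalization.exists_mk'_eq m.primeCompl z
      letI : Field (L ⧸ IsLocalRing.maximalIdeal L) := Ideal.Quotient.field _
      have hs0 : Ideal.Quotient.mk (IsLocalRing.maximalIdeal L) (algebraMap R L s) ≠ 0 := by
        rw [Ne, Ideal.Quotient.eq_zero_iff_mem, IsLocalization.AtPrime.to_map_mem_maximal_iff L m]
        exact s.2
      refine mul_right_cancel₀ hs0 ?_
      conv_lhs => rw [← hres (s : R), ← map_mul, ← map_mul, IsLocalization.mk'_spec, hres r]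
      conv_rhs => rw [AlgHom.id_apply, ← map_mul, IsLocalization.mk'_spec]
    rw [Subgroup.mem_bot]
    refine FaithfulSMul.eq_of_smul_eq_smul (α := R) fun r => ?_
    rw [one_smul]
    exact IsLocalization.injective L m.primeCompl_le_nonZeroDivisors
      ((hσa r).symm.trans (AlgHom.congr_fun heq _))
  · intro hstab
    let ρ := MulSemiringAction.toRingAut G R
    haveI : Finite ρ.range := Finite.of_surjective ρ.rangeRestrict ρ.rangeRestrict_surjective
    refine isEtaleAt_of_inertia_eq_bot ρ.range R B (fun y hy => ?_) ?_ m ?_
    · exact Algebra.IsInvariant.isInvariant (G := G) y fun g => hy ⟨ρ g, g, rfl⟩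
    · rintro ⟨_, g, rfl⟩ b
      exact smul_algebraMap g b
    · rw [eq_bot_iff]
      rintro ⟨_, g, rfl⟩ hg
      have hg' : g ∈ m.inertia G := hg
      have : g ∈ (⊥ : Subgroup G) := hstab ▸ Ideal.inertia_le_stabilizer m hg'
      rw [Subgroup.mem_bot] at this
      subst this
      rw [Subgroup.mem_bot]
      exact Subtype.ext (map_one ρ)

end Groth.Agent.S19402
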