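import Groth.Statements.S19407
import Groth.Agent.LunaLib.Core
-- import your own Groth.Agent.* helpers here

set_option autoImplicit false
set_option maxHeartbeats 1000000
set_option synthInstance.maxHeartbeats 400000
universe u
open TensorProduct
open GLin

namespace Groth.Agent.S19407

/-- Two primes over the same prime have a common prime in the tensor product. -/
theorem exists_prime_over {O B C : Type u} [CommRing O] [CommRing B] [CommRing C] [Algebra O B] [Algebra O C]
    (P : Ideal B) [P.IsPrime] (q : Ideal C) [q.IsPrime]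
    (h : P.comap (algebraMap O B) = q.comap (algebraMap O C)) :
    ∃ W : Ideal (B ⊗[O] C), W.IsPrime ∧ (∀ b, b ⊗ₜ[O] (1 : C) ∈ W ↔ b ∈ P) ∧
      ∀ c, (1 : B) ⊗ₜ[O] c ∈ W ↔ c ∈ q := by
  let P₀ := P.comap (algebraMap O B)
  haveI : P₀.IsPrime := Ideal.comap_isPrime _ P
  let jP := Ideal.ResidueField.map P₀ P (algebraMap O B) rfl
  let jq := Ideal.ResidueField.map P₀ q (algebraMap O C) h
  letI : Algebra P₀.ResidueField P.ResidueField := jP.toAlgebra
  letI : Algebra P₀.ResidueField q.ResidueField := jq.toAlgebra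
  let T := P.ResidueField ⊗[P₀.ResidueField] q.ResidueField
  haveI : Nontrivial T := (Algebra.TensorProduct.includeLeft_injective (S := P₀.ResidueField)
    (A := P.ResidueField) (B := q.ResidueField) (algebraMap P₀.ResidueField q.ResidueField).injective).nontrivial
  obtain ⟨M, hM⟩ := Ideal.exists_maximal T
  letI := Ideal.Quotient.field M
  let a : P.ResidueField →+* T ⧸ M := (Ideal.Quotient.mk M).comp
    (Algebra.TensorProduct.includeLeftRingHom : P.ResidueField →+* T)
  let b : q.ResidueField →+* T ⧸ M := (Ideal.Quotient.mk M).comp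
    (Algebra.TensorProduct.includeRight : q.ResidueField →ₐ[P₀.ResidueField] T).toRingHom
  let a' : B →+* T ⧸ M := a.comp (algebraMap B P.ResidueField)
  let b' : C →+* T ⧸ M := b.comp (algebraMap C q.ResidueField)
  have hcompat : ∀ o : O, a' (algebraMap O B o) = b' (algebraMap O C o) := fun o => by
    show a (algebraMap B P.ResidueField (algebraMap O B o)) = b (algebraMap C q.ResidueField (algebraMap O C o))
    rw [← Ideal.ResidueField.map_algebraMap P₀ P (algebraMap O B) rfl o,
      ← Ideal.ResidueField.map_algebraMap P₀ q (algebraMap O C) h o]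
    exact congrArg (Ideal.Quotient.mk M) (Algebra.TensorProduct.tmul_one_eq_one_tmul _)
  letI : Algebra O (T ⧸ M) := (b'.comp (algebraMap O C)).toAlgebra
  let χ : B ⊗[O] C →ₐ[O] T ⧸ M := Algebra.TensorProduct.productMap
    ({ a' with commutes' := hcompat } : B →ₐ[O] T ⧸ M) ({ b' with commutes' := fun _ => rfl } : C →ₐ[O] T ⧸ M)
  refine ⟨RingHom.ker χ, RingHom.ker_isPrime _, fun x => ?_, fun y => ?_⟩
  · rw [RingHom.mem_ker, show χ (x ⊗ₜ[O] (1 : C)) = a' x * b' 1 from Algebra.TensorProduct.productMap_apply_tmul _ _ x 1, map_one,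
      mul_one, show a' x = a (algebraMap B P.ResidueField x) from rfl, map_eq_zero_iff _ a.injective]
    exact Ideal.algebraMap_residueField_eq_zero
  · rw [RingHom.mem_ker, show χ ((1 : B) ⊗ₜ[O] y) = a' 1 * b' y from Algebra.TensorProduct.productMap_apply_tmul _ _ 1 y, map_one,
      one_mul, show b' y = b (algebraMap C q.ResidueField y) from rfl, map_eq_zero_iff _ b.injective]
    exact Ideal.algebraMap_residueField_eq_zero

/-- With explicit neighbourhoods: let k be an algebraically closed field of characteristic zero, A a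
finitely generated commutative Hopf algebra over k which is an integral domain and all of whose
finite-dimensional comodules are semisimple (a connected reductive group G), S and R reduced
finitely generated commutative k-algebras with multiplicative A-coactions (G acting on the affine
varieties Y = Spec S and X = Spec R), S → R an algebra map compatible with the coactions (a
G-morphism θ : X → Y), S₀ → S and R₀ → R injective k-algebra maps whose images are exactly the
subrings of invariants, and S₀ → R₀ an algebra map with S₀ → R₀ → R equal to S₀ → S → R (the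
morphism θ/G : X//G → Y//G). Let x be a k-point of X with kernel m such that the local ring of R at
m is an integrally closed domain (X normal at x), R is étale over S at m (θ étale at x), the orbit
of the image point θ(x) is closed, and every k-point of G fixing θ(x) fixes x (θ injective on the
orbit of x). Then there are f ∈ R₀ and g ∈ S₀ with f and g non-vanishing at x such that, writing h
for the image of f·g in R (so that U = X_h is a saturated affine open neighbourhood of x and V = Y_g
a saturated affine open of Y): every prime of S not containing g is the contraction of a prime of R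
not containing h (θ maps U onto V); R is étale over S at every prime not containing h; every k-point
of U with closed orbit maps to a point with closed orbit; R₀ is étale over S₀ at every prime not
containing f·g (θ/G étale on U//G); and the canonical map S ⊗_{S₀} R₀ → R has every element of its
kernel killed by a power of f·g and every element of R multiplied into its image by a power of h (it
becomes an isomorphism over U//G, i.e. U ≅ V ×_{V//G} U//G): the restriction of θ to U is a strongly
étale G-morphism onto V. (The published statement allows any reductive G; the argument in the source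
is complete for connected G, assumed here.) -/
theorem result (k : Type u) [Field k] [IsAlgClosed k] [CharZero k]
    (A : Type u) [CommRing A] [IsDomain A] [HopfAlgebra k A] [Algebra.FiniteType k A] (hG : HopfRep.IsLinearlyReductive k A)
    (S : Type u) [CommRing S] [IsReduced S] [Algebra k S] [Algebra.FiniteType k S] [HopfRep.Comod k A S] [GLin.IsCoactAlg k A S]
    (R : Type u) [CommRing R] [IsReduced R] [Algebra k R] [Algebra.FiniteType k R] [HopfRep.Comod k A R] [GLin.IsCoactAlg k A R]
    [Algebra S R] [IsScalarTower k S R]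
    (hequiv : (∀ s : S, HopfRep.Comod.coact (k := k) (A := A) (algebraMap S R s) =
      Algebra.TensorProduct.map (IsScalarTower.toAlgHom k S R) (AlgHom.id k A) (HopfRep.Comod.coact (k := k) (A := A) s)))
    (S₀ : Type u) [CommRing S₀] [Algebra k S₀] [Algebra S₀ S] [IsScalarTower k S₀ S]
    (hS₀i : Function.Injective (algebraMap S₀ S)) (hS₀ : (IsScalarTower.toAlgHom k S₀ S).range = GLin.invariants k A S)
    (R₀ : Type u) [CommRing R₀] [Algebra k R₀] [Algebra R₀ R] [IsScalarTower k R₀ R]
    (hR₀i : Function.Injective (algebraMap R₀ R)) (hR₀ : (IsScalarTower.toAlgHom k R₀ R).range = GLin.invariants k A R)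
    [Algebra S₀ R₀] [Algebra S₀ R] [IsScalarTower S₀ S R] [IsScalarTower S₀ R₀ R]
    (x : R →ₐ[k] k) (m : Ideal R) [m.IsMaximal] (hm : m = RingHom.ker x.toRingHom)
    [IsDomain (Localization.AtPrime m)] [IsIntegrallyClosed (Localization.AtPrime m)]
    (het : Algebra.IsEtaleAt S m)
    (hy : GLin.IsClosedOrbit k A (x.comp (IsScalarTower.toAlgHom k S R)))
    (hinj : ∀ g : A →ₐ[k] k, GLin.actPt k g (x.comp (IsScalarTower.toAlgHom k S R)) = x.comp (IsScalarTower.toAlgHom k S R) →
      GLin.actPt k g x = x) :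
    ∃ (f : R₀) (g : S₀), x (algebraMap R₀ R (f * algebraMap S₀ R₀ g)) ≠ 0 ∧
      (∀ P : Ideal S, P.IsPrime → algebraMap S₀ S g ∉ P →
        ∃ Q : Ideal R, Q.IsPrime ∧ algebraMap R₀ R (f * algebraMap S₀ R₀ g) ∉ Q ∧ Q.comap (algebraMap S R) = P) ∧
      (∀ (Q : Ideal R) [Q.IsPrime], algebraMap R₀ R (f * algebraMap S₀ R₀ g) ∉ Q → Algebra.IsEtaleAt S Q) ∧
      (∀ x' : R →ₐ[k] k, x' (algebraMap R₀ R (f * algebraMap S₀ R₀ g)) ≠ 0 → GLin.IsClosedOrbit k A x' →
        GLin.IsClosedOrbit k A (x'.comp (IsScalarTower.toAlgHom k S R))) ∧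
      (∀ (q : Ideal R₀) [q.IsPrime], f * algebraMap S₀ R₀ g ∉ q → Algebra.IsEtaleAt S₀ q) ∧
      (∀ z : S ⊗[S₀] R₀, Algebra.TensorProduct.productMap (IsScalarTower.toAlgHom S₀ S R) (IsScalarTower.toAlgHom S₀ R₀ R) z = 0 →
        ∃ n : ℕ, ((1 : S) ⊗ₜ[S₀] (f * algebraMap S₀ R₀ g)) ^ n * z = 0) ∧
      (∀ r : R, ∃ (n : ℕ) (z : S ⊗[S₀] R₀),
        Algebra.TensorProduct.productMap (IsScalarTower.toAlgHom S₀ S R) (IsScalarTower.toAlgHom S₀ R₀ R) z =
          algebraMap R₀ R (f * algebraMap S₀ R₀ g) ^ n * r) := by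
  haveI : IsNoetherianRing S := Algebra.FiniteType.isNoetherianRing k S
  haveI : IsNoetherianRing R := Algebra.FiniteType.isNoetherianRing k R
  haveI : Algebra.FiniteType S R := Algebra.FiniteType.of_restrictScalars_finiteType k S R
  have hφ := LunaLib.isComodHom_toAlgHom hequiv
  have hst := LunaLib.Pts.stabIdeal_le x (x.comp (IsScalarTower.toAlgHom k S R)) hinj
  have hx := LunaLib.isClosedOrbit_source hφ hy hst
  obtain ⟨e, hxe, hEe⟩ := LunaLib.Pts.exists_invariant_etale hG hequiv x hx m hm het
  obtain ⟨f, hxf, hget, hfR, hker, hsurj⟩ := LunaLib.core hG hS₀i hS₀ hR₀i hR₀ hφ hy hst hxe hEe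
  -- the image of the basic open
  let Rf := Localization.Away f
  let q₀ : Ideal R₀ := RingHom.ker (x.toRingHom.comp (algebraMap R₀ R))
  haveI : q₀.IsPrime := RingHom.ker_isPrime _
  have hfq₀ : f ∉ q₀ := hxf
  have hopen : IsOpen (Set.range (PrimeSpectrum.comap (algebraMap S₀ Rf))) :=
    (PrimeSpectrum.isOpenMap_comap_of_hasGoingDown_of_finitePresentation (R := S₀) (S := Rf)).isOpen_range
  have hmem : PrimeSpectrum.comap (algebraMap S₀ R₀) ⟨q₀, inferInstance⟩ ∈
      Set.range (PrimeSpectrum.comap (algebraMap S₀ Rf)) := by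
    have h1 : (⟨q₀, inferInstance⟩ : PrimeSpectrum R₀) ∈ Set.range (PrimeSpectrum.comap (algebraMap R₀ Rf)) := by
      rw [PrimeSpectrum.localization_away_comap_range Rf f]
      exact hfq₀
    obtain ⟨p, hp⟩ := h1
    refine ⟨p, ?_⟩
    rw [IsScalarTower.algebraMap_eq S₀ R₀ Rf, PrimeSpectrum.comap_comp_apply, hp]
  obtain ⟨_, ⟨_, ⟨g, rfl⟩, rfl⟩, hgx, hgsub⟩ :=
    PrimeSpectrum.isBasis_basic_opens.exists_subset_of_mem_open hmem hopen
  let h := f * algebraMap S₀ R₀ g
  have hhx : x (algebraMap R₀ R h) ≠ 0 := by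
    rw [map_mul, map_mul]
    exact mul_ne_zero hxf hgx
  -- refine the neighbourhood
  let pm := Algebra.TensorProduct.productMap (IsScalarTower.toAlgHom S₀ S R) (IsScalarTower.toAlgHom S₀ R₀ R)
  have hpm : ∀ s c, pm (s ⊗ₜ[S₀] c) = algebraMap S R s * algebraMap R₀ R c := fun s c =>
    Algebra.TensorProduct.productMap_apply_tmul _ _ s c
  have hkerh : ∀ z : S ⊗[S₀] R₀, pm z = 0 → ∃ n : ℕ, ((1 : S) ⊗ₜ[S₀] h) ^ n * z = 0 := by
    intro z hz
    obtain ⟨n, hn⟩ := hker z hz
    refine ⟨n, ?_⟩
    rw [show (1 : S) ⊗ₜ[S₀] h = ((1 : S) ⊗ₜ[S₀] algebraMap S₀ R₀ g) * ((1 : S) ⊗ₜ[S₀] f) by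
      rw [Algebra.TensorProduct.tmul_mul_tmul, one_mul]; exact congrArg _ (mul_comm _ _), mul_pow, mul_assoc, hn,
      mul_zero]
  have hsurjh : ∀ r : R, ∃ (n : ℕ) (z : S ⊗[S₀] R₀), pm z = algebraMap R₀ R h ^ n * r := by
    intro r
    obtain ⟨n, z, hz⟩ := hsurj r
    refine ⟨n, ((1 : S) ⊗ₜ[S₀] algebraMap S₀ R₀ g) ^ n * z, ?_⟩
    rw [map_mul, map_pow, hpm, show pm z = _ from hz, map_one, one_mul, map_mul (algebraMap R₀ R), mul_pow]
    ring
  refine ⟨f, g, hhx, fun P hP hgP => ?_, fun Q _ hQ => ?_, fun x' hx'h hx' => ?_, fun q _ hq => ?_,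
    hkerh, hsurjh⟩
  · -- surjectivity
    haveI := hP
    have hgP₀ : (⟨P.comap (algebraMap S₀ S), Ideal.comap_isPrime _ P⟩ : PrimeSpectrum S₀) ∈
        (PrimeSpectrum.basicOpen g : Set (PrimeSpectrum S₀)) := hgP
    obtain ⟨p, hp⟩ := hgsub hgP₀
    let q : Ideal R₀ := p.asIdeal.comap (algebraMap R₀ Rf)
    haveI : q.IsPrime := Ideal.comap_isPrime _ _
    have hPq : P.comap (algebraMap S₀ S) = q.comap (algebraMap S₀ R₀) := by
      have h1 := congrArg PrimeSpectrum.asIdeal hp
      rw [PrimeSpectrum.comap_asIdeal, IsScalarTower.algebraMap_eq S₀ R₀ Rf, ← Ideal.comap_comap] at h1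
      exact h1.symm
    have hfq : f ∉ q := fun hf => p.2.ne_top (Ideal.eq_top_of_isUnit_mem _ hf
      (IsLocalization.Away.algebraMap_isUnit f))
    have hhq : h ∉ q := fun hh => (Ideal.IsPrime.mem_or_mem inferInstance hh).elim hfq fun hg' =>
      hgP (by
        have h2 : g ∈ q.comap (algebraMap S₀ R₀) := hg'
        rwa [← hPq] at h2)
    obtain ⟨W, hW, hWP, hWq⟩ := exists_prime_over P q hPq
    let t : S ⊗[S₀] R₀ := (1 : S) ⊗ₜ[S₀] h
    have ht : pm.toRingHom t = algebraMap R₀ R h := (hpm 1 h).trans (by rw [map_one, one_mul])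
    have htW : t ∉ W := fun ht' => hhq ((hWq h).1 ht')
    let Rh := Localization.Away (algebraMap R₀ R h)
    haveI : IsLocalization.Away (pm.toRingHom t) Rh := by rw [ht]; infer_instance
    let Tt := Localization.Away t
    let Ψ : Tt →+* Rh := IsLocalization.Away.map Tt Rh pm.toRingHom t
    have hbij : Function.Bijective Ψ := by
      refine ⟨(IsLocalization.Away.map_injective_iff _ _ _).2 hkerh,
        (IsLocalization.Away.map_surjective_iff _ _ _ _).2 fun r => ?_⟩
      obtain ⟨n, z, hz⟩ := hsurjh r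
      exact ⟨z, n, by rw [ht]; exact hz⟩
    obtain ⟨W', hW'⟩ : (⟨W, hW⟩ : PrimeSpectrum (S ⊗[S₀] R₀)) ∈
        Set.range (PrimeSpectrum.comap (algebraMap (S ⊗[S₀] R₀) Tt)) := by
      rw [PrimeSpectrum.localization_away_comap_range Tt t]
      exact htW
    let eΨ := RingEquiv.ofBijective Ψ hbij
    let Q : Ideal R := (W'.asIdeal.comap eΨ.symm.toRingHom).comap (algebraMap R Rh)
    have hQW : ∀ z, pm z ∈ Q ↔ z ∈ W := by
      intro z
      have h0 : Ψ (algebraMap (S ⊗[S₀] R₀) Tt z) = algebraMap R Rh (pm z) := IsLocalization.map_eq _ z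
      have h1 : eΨ.symm (algebraMap R Rh (pm z)) = algebraMap (S ⊗[S₀] R₀) Tt z :=
        eΨ.symm_apply_eq.2 h0.symm
      show eΨ.symm (algebraMap R Rh (pm z)) ∈ W'.asIdeal ↔ _
      rw [h1]
      have h2 := congrArg PrimeSpectrum.asIdeal hW'
      exact ⟨fun hz => h2.le hz, fun hz => h2.ge hz⟩
    refine ⟨Q, Ideal.comap_isPrime _ _, fun hh => htW ((hQW t).1 (by rw [show pm t = _ from ht]; exact hh)), ?_⟩
    ext s
    rw [Ideal.mem_comap, ← hWP s, ← hQW, hpm, map_one, mul_one]
  · refine (Algebra.basicOpen_subset_etaleLocus_iff (R := S) (f := algebraMap R₀ R f)).2 hfR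
      (show (⟨Q, inferInstance⟩ : PrimeSpectrum R) ∈ PrimeSpectrum.basicOpen (algebraMap R₀ R f) from fun hf => hQ ?_)
    show algebraMap R₀ R (f * algebraMap S₀ R₀ g) ∈ Q
    rw [map_mul]
    exact Q.mul_mem_right _ hf
  · -- closed orbits
    let y' := x'.comp (IsScalarTower.toAlgHom k S R)
    have hrange : (GLin.orbitHom k A x').range = (GLin.orbitHom k A y').range := by
      refine le_antisymm ?_ (LunaLib.range_orbitHom_comp_le hφ x')
      rintro _ ⟨r, rfl⟩
      show GLin.orbitHom k A x' r ∈ (GLin.orbitHom k A y').range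
      have hinv : ∀ c : R₀, algebraMap R₀ R c ∈ GLin.invariants k A R := fun c => hR₀ ▸ ⟨c, rfl⟩
      have hz' : ∀ z : S ⊗[S₀] R₀, GLin.orbitHom k A x' (pm z) ∈ (GLin.orbitHom k A y').range := by
        intro z
        induction z using TensorProduct.induction_on with
        | zero => rw [map_zero, map_zero]; exact zero_mem _
        | add p q hp hq => rw [map_add, map_add]; exact add_mem hp hq
        | tmul s c =>
          rw [hpm, map_mul, ← LunaLib.orbitHom_comp hφ, LunaLib.orbitHom_invariant x' (hinv c)]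
          exact mul_mem ⟨s, rfl⟩ (Subalgebra.algebraMap_mem _ _)
      obtain ⟨n, z, hz⟩ := hsurjh r
      have h1 := hz' z
      rw [hz, map_mul, map_pow, LunaLib.orbitHom_invariant x' (hinv h), ← map_pow, ← Algebra.smul_def] at h1
      have h2 := Subalgebra.smul_mem (GLin.orbitHom k A y').range h1 ((x' (algebraMap R₀ R h) ^ n)⁻¹)
      rwa [smul_smul, inv_mul_cancel₀ (pow_ne_zero n hx'h), one_smul] at h2
    refine LunaLib.isClosedOrbit_of_surjective y' ?_
    rw [← hrange]
    exact LunaLib.surjective_of_isClosedOrbit x' hx'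
  · refine (Algebra.basicOpen_subset_etaleLocus_iff (R := S₀) (f := f)).2 inferInstance
      (show (⟨q, inferInstance⟩ : PrimeSpectrum R₀) ∈ PrimeSpectrum.basicOpen f from fun hf => hq (q.mul_mem_right _ hf))


end Groth.Agent.S19407
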