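import Groth.Statements.S19408
import Groth.Agent.ComodLib.LinRed
import Groth.Agent.GLinFinLib.Basic
import Groth.Agent.GLinFinLib.Points
-- import your own Groth.Agent.* helpers here

set_option autoImplicit false
universe u
open TensorProduct
open GLin

namespace Groth.Agent.S19408

open TensorProduct HopfRep

section helpers

variable {k : Type u} [Field k] {A : Type u} [CommRing A] [HopfAlgebra k A]

theorem isComodHom_of_map {S S' : Type u} [CommRing S] [Algebra k S] [CommRing S'] [Algebra k S']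
    [Comod k A S] [Comod k A S'] (φ : S →ₐ[k] S')
    (h : ∀ s, Comod.coact (k := k) (A := A) (φ s) =
      Algebra.TensorProduct.map φ (AlgHom.id k A) (Comod.coact (k := k) (A := A) s)) :
    Hoch.IsComodHom A φ.toLinearMap := by
  refine LinearMap.ext fun s => (h s).trans ?_
  show _ = φ.toLinearMap.rTensor A (Comod.coact (k := k) (A := A) s)
  generalize Comod.coact (k := k) (A := A) s = z
  induction z with
  | zero => simp
  | add a b ha hb => simp only [map_add, ha, hb]
  | tmul a b => simp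

/-- The map on invariants induced by an equivariant map. -/
theorem exists_invariant_map {S T S₀ T₀ : Type u} [CommRing S] [Algebra k S] [CommRing T] [Algebra k T]
    [Comod k A S] [GLin.IsCoactAlg k A S] [Comod k A T] [GLin.IsCoactAlg k A T]
    [CommRing S₀] [Algebra k S₀] [Algebra S₀ S] [IsScalarTower k S₀ S]
    [CommRing T₀] [Algebra k T₀] [Algebra T₀ T] [IsScalarTower k T₀ T]
    (hS₀ : (IsScalarTower.toAlgHom k S₀ S).range = GLin.invariants k A S)
    (hT₀i : Function.Injective (algebraMap T₀ T))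
    (hT₀ : (IsScalarTower.toAlgHom k T₀ T).range = GLin.invariants k A T)
    (φ : S →ₐ[k] T) (hφ : Hoch.IsComodHom A φ.toLinearMap) (hsurj : Function.Surjective φ)
    (hG : IsLinearlyReductive k A) :
    ∃ ψ : S₀ →ₐ[k] T₀, (∀ a, algebraMap T₀ T (ψ a) = φ (algebraMap S₀ S a)) ∧ Function.Surjective ψ := by
  have hmem : ∀ a : S₀, φ (algebraMap S₀ S a) ∈ GLin.invariants k A T := by
    intro a
    have ha : algebraMap S₀ S a ∈ GLin.invariants k A S := hS₀ ▸ ⟨a, rfl⟩
    show Comod.coact (k := k) (A := A) (φ.toLinearMap (algebraMap S₀ S a)) = _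
    rw [← LinearMap.comp_apply, hφ, LinearMap.comp_apply,
      show Comod.coact (k := k) (A := A) (algebraMap S₀ S a) = algebraMap S₀ S a ⊗ₜ[k] (1 : A) from ha]
    rfl
  have hex : ∀ a : S₀, ∃ b : T₀, algebraMap T₀ T b = φ (algebraMap S₀ S a) := fun a => by
    have := hmem a
    rw [← hT₀] at this
    exact this
  choose f hf using hex
  refine ⟨{ toFun := f
            map_one' := hT₀i (by simp [hf])
            map_mul' := fun a b => hT₀i (by simp [hf])
            map_zero' := hT₀i (by simp [hf])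
            map_add' := fun a b => hT₀i (by simp [hf])
            commutes' := fun c => hT₀i (by
              rw [hf, ← IsScalarTower.algebraMap_apply, ← IsScalarTower.algebraMap_apply, AlgHom.commutes]) },
    hf, fun b => ?_⟩
  obtain ⟨α, hα, h1⟩ := ComodLib.exists_invariant_of_isLinearlyReductive hG
  have hb : algebraMap T₀ T b ∈ GLin.invariants k A T := hT₀ ▸ ⟨b, rfl⟩
  obtain ⟨s, hs, hs'⟩ := ComodLib.exists_fixed_lift hα h1 hφ hsurj (w := algebraMap T₀ T b) hb
  obtain ⟨a, ha⟩ : ∃ a : S₀, algebraMap S₀ S a = s := by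
    have : s ∈ GLin.invariants k A S := hs
    rwa [← hS₀] at this
  exact ⟨a, hT₀i ((hf a).trans (by rw [ha]; exact hs'))⟩

end helpers

/-- Let k be an algebraically closed field of characteristic zero, A a finitely generated commutative
Hopf algebra over k all of whose finite-dimensional comodules are semisimple (a reductive group G),
S and R finitely generated commutative k-algebras with multiplicative A-coactions (G acting on
affine Y = Spec S and X = Spec R), S → R an algebra map compatible with the coactions (a G-morphism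
θ : X → Y), S₀ → S and R₀ → R injective k-algebra maps whose images are the subrings of invariants,
and S₀ → R₀ an algebra map with S₀ → R₀ → R equal to S₀ → S → R (θ/G). Suppose R is étale over S, R₀
is étale over S₀, and the canonical map S ⊗_{S₀} R₀ → R is bijective (θ and θ/G étale and X ≅ Y
×_{Y//G} X//G). Let J be an ideal of S which is a subcomodule (Y' = V(J) a closed G-invariant
subscheme), let S/J and R/JR carry A-coactions for which the quotient maps are compatible with the
coactions (the induced actions on Y' and X' = Y' ×_Y X), and let S₁ → S/J and R₁ → R/JR be injective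
k-algebra maps whose images are the subrings of invariants, with S₁ → R₁ an algebra map such that S₁
→ R₁ → R/JR equals S₁ → S/J → R/JR. Then R/JR is étale over S/J, R₁ is étale over S₁, and the
canonical map (S/J) ⊗_{S₁} R₁ → R/JR is bijective (θ' : X' → Y' and θ'/G are étale and X' ≅ Y'
×_{Y'//G} X'//G). -/
theorem result (k : Type u) [Field k] [IsAlgClosed k] [CharZero k]
    (A : Type u) [CommRing A] [HopfAlgebra k A] [Algebra.FiniteType k A] (hG : HopfRep.IsLinearlyReductive k A)
    (S : Type u) [CommRing S] [Algebra k S] [Algebra.FiniteType k S] [HopfRep.Comod k A S] [GLin.IsCoactAlg k A S]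
    (R : Type u) [CommRing R] [Algebra k R] [Algebra.FiniteType k R] [HopfRep.Comod k A R] [GLin.IsCoactAlg k A R]
    [Algebra S R] [IsScalarTower k S R]
    (hequiv : (∀ s : S, HopfRep.Comod.coact (k := k) (A := A) (algebraMap S R s) =
      Algebra.TensorProduct.map (IsScalarTower.toAlgHom k S R) (AlgHom.id k A) (HopfRep.Comod.coact (k := k) (A := A) s)))
    (S₀ : Type u) [CommRing S₀] [Algebra k S₀] [Algebra S₀ S] [IsScalarTower k S₀ S]
    (hS₀i : Function.Injective (algebraMap S₀ S)) (hS₀ : (IsScalarTower.toAlgHom k S₀ S).range = GLin.invariants k A S)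
    (R₀ : Type u) [CommRing R₀] [Algebra k R₀] [Algebra R₀ R] [IsScalarTower k R₀ R]
    (hR₀i : Function.Injective (algebraMap R₀ R)) (hR₀ : (IsScalarTower.toAlgHom k R₀ R).range = GLin.invariants k A R)
    [Algebra S₀ R₀] [Algebra S₀ R] [IsScalarTower S₀ S R] [IsScalarTower S₀ R₀ R]
    (het : Algebra.Etale S R) (het₀ : Algebra.Etale S₀ R₀)
    (hcart : Function.Bijective (Algebra.TensorProduct.productMap (IsScalarTower.toAlgHom S₀ S R) (IsScalarTower.toAlgHom S₀ R₀ R)))
    (J : Ideal S) (hJ : HopfRep.IsSubcomod (k := k) (A := A) (J.restrictScalars k))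
    [HopfRep.Comod k A (S ⧸ J)] [GLin.IsCoactAlg k A (S ⧸ J)]
    (hqS : (∀ s : S, HopfRep.Comod.coact (k := k) (A := A) ((Ideal.Quotient.mkₐ k J) s) =
        Algebra.TensorProduct.map (Ideal.Quotient.mkₐ k J) (AlgHom.id k A) (HopfRep.Comod.coact (k := k) (A := A) s)))
    [HopfRep.Comod k A (R ⧸ J.map (algebraMap S R))] [GLin.IsCoactAlg k A (R ⧸ J.map (algebraMap S R))]
    (hqR : (∀ s : R, HopfRep.Comod.coact (k := k) (A := A) ((Ideal.Quotient.mkₐ k (J.map (algebraMap S R))) s) =
        Algebra.TensorProduct.map (Ideal.Quotient.mkₐ k (J.map (algebraMap S R))) (AlgHom.id k A) (HopfRep.Comod.coact (k := k) (A := A) s)))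
    (S₁ : Type u) [CommRing S₁] [Algebra k S₁] [Algebra S₁ (S ⧸ J)] [IsScalarTower k S₁ (S ⧸ J)]
    (hS₁i : Function.Injective (algebraMap S₁ (S ⧸ J)))
    (hS₁ : (IsScalarTower.toAlgHom k S₁ (S ⧸ J)).range = GLin.invariants k A (S ⧸ J))
    (R₁ : Type u) [CommRing R₁] [Algebra k R₁] [Algebra R₁ (R ⧸ J.map (algebraMap S R))] [IsScalarTower k R₁ (R ⧸ J.map (algebraMap S R))]
    (hR₁i : Function.Injective (algebraMap R₁ (R ⧸ J.map (algebraMap S R))))
    (hR₁ : (IsScalarTower.toAlgHom k R₁ (R ⧸ J.map (algebraMap S R))).range = GLin.invariants k A (R ⧸ J.map (algebraMap S R)))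
    [Algebra S₁ R₁] [Algebra S₁ (R ⧸ J.map (algebraMap S R))]
    [IsScalarTower S₁ (S ⧸ J) (R ⧸ J.map (algebraMap S R))] [IsScalarTower S₁ R₁ (R ⧸ J.map (algebraMap S R))] :
    Algebra.Etale (S ⧸ J) (R ⧸ J.map (algebraMap S R)) ∧ Algebra.Etale S₁ R₁ ∧
      Function.Bijective (Algebra.TensorProduct.productMap
        (IsScalarTower.toAlgHom S₁ (S ⧸ J) (R ⧸ J.map (algebraMap S R)))
        (IsScalarTower.toAlgHom S₁ R₁ (R ⧸ J.map (algebraMap S R)))) := by
  obtain ⟨α, hα, h1⟩ := ComodLib.exists_invariant_of_isLinearlyReductive hG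
  let J' : Ideal R := J.map (algebraMap S R)
  let qS : S →ₐ[k] S ⧸ J := Ideal.Quotient.mkₐ k J
  let qR : R →ₐ[k] R ⧸ J' := Ideal.Quotient.mkₐ k J'
  obtain ⟨ψS, hψS, hψSsurj⟩ := exists_invariant_map hS₀ hS₁i hS₁ qS (isComodHom_of_map qS hqS)
    Ideal.Quotient.mk_surjective hG
  obtain ⟨ψR, hψR, hψRsurj⟩ := exists_invariant_map hR₀ hR₁i hR₁ qR (isComodHom_of_map qR hqR)
    Ideal.Quotient.mk_surjective hG
  let pm := Algebra.TensorProduct.productMap (IsScalarTower.toAlgHom S₀ S R) (IsScalarTower.toAlgHom S₀ R₀ R)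
  have hpm : ∀ (s : S) (a : R₀), pm (s ⊗ₜ[S₀] a) = algebraMap S R s * algebraMap R₀ R a := fun s a => by
    simp [pm]
  -- compatibility on the base
  have hcompat : ∀ a : S₀, algebraMap S₁ R₁ (ψS a) = ψR (algebraMap S₀ R₀ a) := fun a => hR₁i (by
    rw [hψR, ← IsScalarTower.algebraMap_apply S₁ R₁ (R ⧸ J'), IsScalarTower.algebraMap_apply S₁ (S ⧸ J) (R ⧸ J'),
      hψS, ← IsScalarTower.algebraMap_apply S₀ R₀ R, IsScalarTower.algebraMap_apply S₀ S R]
    rfl)
  -- invariant functions in `JR` come from invariant functions in `J`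
  let K : Ideal R₀ := (RingHom.ker ψS).map (algebraMap S₀ R₀)
  have hkey : ∀ r ∈ J', ∀ t : R, ∃ a ∈ K, ComodLib.reynolds R α (t * r) = algebraMap R₀ R a := by
    intro r hr
    induction hr using Submodule.span_induction with
    | mem _ h =>
      obtain ⟨j, hj, rfl⟩ := h
      intro t
      obtain ⟨z, rfl⟩ := hcart.2 t
      induction z with
      | zero => exact ⟨0, zero_mem _, by simp⟩
      | add p q hp hq =>
        obtain ⟨a, ha, ha'⟩ := hp
        obtain ⟨b, hb, hb'⟩ := hq
        exact ⟨a + b, add_mem ha hb, by rw [map_add, add_mul, map_add, ha', hb', map_add]⟩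
      | tmul s b =>
        have hθ : Hoch.IsComodHom A (IsScalarTower.toAlgHom k S R).toLinearMap :=
          isComodHom_of_map _ hequiv
        have hfix : ComodLib.reynolds S α (s * j) ∈ GLin.invariants k A S := ComodLib.reynolds_mem hα _
        rw [← hS₀] at hfix
        obtain ⟨i, hi⟩ := hfix
        have hiJ : ComodLib.reynolds S α (s * j) ∈ J :=
          GLinFinLib.reynolds_mem_of_isSubcomod α hJ (Ideal.mul_mem_left _ _ hj)
        have hik : ψS i = 0 := hS₁i (by
          rw [hψS, map_zero]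
          exact Ideal.Quotient.eq_zero_iff_mem.2 (hi ▸ hiJ))
        refine ⟨algebraMap S₀ R₀ i * b, Ideal.mul_mem_right _ _ (Ideal.mem_map_of_mem _ hik), ?_⟩
        have hb : algebraMap R₀ R b ∈ GLin.invariants k A R := hR₀ ▸ ⟨b, rfl⟩
        rw [show pm (s ⊗ₜ[S₀] b) * algebraMap S R j = algebraMap S R (s * j) * algebraMap R₀ R b by
          rw [hpm, map_mul]; ring, GLinFinLib.reynolds_mul_invariant α _ hb, map_mul (algebraMap R₀ R),
          ← IsScalarTower.algebraMap_apply S₀ R₀ R, IsScalarTower.algebraMap_apply S₀ S R]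
        congr 1
        refine (ComodLib.reynolds_natural α hθ (s * j)).symm.trans ?_
        exact congrArg (algebraMap S R) hi.symm
    | zero => intro t; exact ⟨0, zero_mem _, by simp⟩
    | add p q _ _ hp hq =>
      intro t
      obtain ⟨a, ha, ha'⟩ := hp t
      obtain ⟨b, hb, hb'⟩ := hq t
      exact ⟨a + b, add_mem ha hb, by rw [mul_add, map_add, ha', hb', map_add]⟩
    | smul c p _ hp =>
      intro t
      obtain ⟨a, ha, ha'⟩ := hp (t * c)
      exact ⟨a, ha, by rw [smul_eq_mul, ← mul_assoc, ha']⟩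
  have hker : ∀ a : R₀, ψR a = 0 → a ∈ K := by
    intro a ha
    have hJ' : algebraMap R₀ R a ∈ J' := Ideal.Quotient.eq_zero_iff_mem.1 (by
      have := hψR a
      rw [ha, map_zero] at this
      exact this.symm)
    obtain ⟨b, hb, hb'⟩ := hkey _ hJ' 1
    have hfix : algebraMap R₀ R a ∈ GLin.invariants k A R := hR₀ ▸ ⟨a, rfl⟩
    rw [one_mul, ComodLib.reynolds_fixed h1 hfix] at hb'
    exact hR₀i hb' ▸ hb
  -- étaleness of the quotient
  have hetQ : Algebra.Etale (S ⧸ J) (R ⧸ J') := by
    let f : (S ⧸ J) ⊗[S] R →ₐ[S ⧸ J] R ⧸ J' :=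
      Algebra.TensorProduct.lift (Algebra.ofId _ _) (IsScalarTower.toAlgHom S R (R ⧸ J')) fun _ _ => mul_comm _ _
    have hone : ∀ z : (S ⧸ J) ⊗[S] R, ∃ r, z = 1 ⊗ₜ[S] r := by
      intro z
      induction z with
      | zero => exact ⟨0, by simp⟩
      | add p q hp hq =>
        obtain ⟨a, rfl⟩ := hp
        obtain ⟨b, rfl⟩ := hq
        exact ⟨a + b, by rw [TensorProduct.tmul_add]⟩
      | tmul c r =>
        obtain ⟨s, rfl⟩ := Ideal.Quotient.mk_surjective c
        refine ⟨s • r, ?_⟩
        rw [TensorProduct.tmul_smul, TensorProduct.smul_tmul', Algebra.smul_def, mul_one]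
        rfl
    have hbij : Function.Bijective f := by
      constructor
      · refine (injective_iff_map_eq_zero f).2 fun z hz => ?_
        obtain ⟨r, rfl⟩ := hone z
        have hr : r ∈ RingHom.ker (Algebra.TensorProduct.includeRight : R →ₐ[S] (S ⧸ J) ⊗[S] R) := by
          refine (show J' ≤ _ from Ideal.map_le_iff_le_comap.2 fun j hj => ?_)
            (Ideal.Quotient.eq_zero_iff_mem.1 (by simpa [f] using hz))
          show (1 : S ⧸ J) ⊗ₜ[S] algebraMap S R j = 0
          rw [Algebra.algebraMap_eq_smul_one, TensorProduct.tmul_smul, TensorProduct.smul_tmul',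
            Algebra.smul_def, mul_one, show algebraMap S (S ⧸ J) j = 0 from Ideal.Quotient.eq_zero_iff_mem.2 hj,
            TensorProduct.zero_tmul]
        exact hr
      · intro z
        obtain ⟨r, rfl⟩ := Ideal.Quotient.mk_surjective z
        exact ⟨1 ⊗ₜ[S] r, by simp [f]⟩
    exact Algebra.Etale.of_equiv (AlgEquiv.ofBijective f hbij)
  -- étaleness on invariants
  have het₁ : Algebra.Etale S₁ R₁ := by
    letI : Algebra S₀ S₁ := ψS.toRingHom.toAlgebra
    letI : Algebra S₀ R₁ := ((algebraMap S₁ R₁).comp ψS.toRingHom).toAlgebra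
    haveI : IsScalarTower S₀ S₁ R₁ := IsScalarTower.of_algebraMap_eq fun _ => rfl
    let ψR' : R₀ →ₐ[S₀] R₁ := { ψR.toRingHom with commutes' := fun a => (hcompat a).symm }
    let f : S₁ ⊗[S₀] R₀ →ₐ[S₁] R₁ :=
      Algebra.TensorProduct.lift (Algebra.ofId _ _) ψR' fun _ _ => mul_comm _ _
    have hone : ∀ z : S₁ ⊗[S₀] R₀, ∃ a, z = 1 ⊗ₜ[S₀] a := by
      intro z
      induction z with
      | zero => exact ⟨0, by simp⟩
      | add p q hp hq =>
        obtain ⟨a, rfl⟩ := hp
        obtain ⟨b, rfl⟩ := hq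
        exact ⟨a + b, by rw [TensorProduct.tmul_add]⟩
      | tmul c r =>
        obtain ⟨s, rfl⟩ := hψSsurj c
        refine ⟨s • r, ?_⟩
        rw [TensorProduct.tmul_smul, TensorProduct.smul_tmul', Algebra.smul_def, mul_one]
        rfl
    have hbij : Function.Bijective f := by
      constructor
      · refine (injective_iff_map_eq_zero f).2 fun z hz => ?_
        obtain ⟨a, rfl⟩ := hone z
        have ha : ψR a = 0 := by simpa [f, ψR'] using hz
        have hr : K ≤ RingHom.ker (Algebra.TensorProduct.includeRight : R₀ →ₐ[S₀] S₁ ⊗[S₀] R₀) := by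
          refine Ideal.map_le_iff_le_comap.2 fun i hi => ?_
          show (1 : S₁) ⊗ₜ[S₀] algebraMap S₀ R₀ i = 0
          rw [Algebra.algebraMap_eq_smul_one, TensorProduct.tmul_smul, TensorProduct.smul_tmul',
            Algebra.smul_def, mul_one, show algebraMap S₀ S₁ i = 0 from hi, TensorProduct.zero_tmul]
        exact hr (hker a ha)
      · intro z
        obtain ⟨a, rfl⟩ := hψRsurj z
        exact ⟨1 ⊗ₜ[S₀] a, by simp [f, ψR']⟩
    exact Algebra.Etale.of_equiv (AlgEquiv.ofBijective f hbij)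
  refine ⟨hetQ, het₁, ?_⟩
  -- the square is cartesian
  let T := (S ⧸ J) ⊗[S₁] R₁
  let pm₁ : T →ₐ[S₁] R ⧸ J' := Algebra.TensorProduct.productMap
    (IsScalarTower.toAlgHom S₁ (S ⧸ J) (R ⧸ J')) (IsScalarTower.toAlgHom S₁ R₁ (R ⧸ J'))
  let f₁ : S →+* T := (Algebra.TensorProduct.includeLeftRingHom).comp (Ideal.Quotient.mk J)
  let f₂ : R₀ →+* T :=
    (Algebra.TensorProduct.includeRight : R₁ →ₐ[S₁] T).toRingHom.comp ψR.toRingHom
  have hf : ∀ a : S₀, f₁ (algebraMap S₀ S a) = f₂ (algebraMap S₀ R₀ a) := fun a => by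
    show (Ideal.Quotient.mk J (algebraMap S₀ S a)) ⊗ₜ[S₁] (1 : R₁) = (1 : S ⧸ J) ⊗ₜ[S₁] ψR (algebraMap S₀ R₀ a)
    rw [← hcompat, show Ideal.Quotient.mk J (algebraMap S₀ S a) = algebraMap S₁ (S ⧸ J) (ψS a) from (hψS a).symm,
      Algebra.algebraMap_eq_smul_one, Algebra.algebraMap_eq_smul_one, TensorProduct.smul_tmul]
  letI : Algebra S₀ T := (f₁.comp (algebraMap S₀ S)).toAlgebra
  let g₁ : S →ₐ[S₀] T := { f₁ with commutes' := fun _ => rfl }
  let g₂ : R₀ →ₐ[S₀] T := { f₂ with commutes' := fun a => (hf a).symm }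
  let q : S ⊗[S₀] R₀ →ₐ[S₀] T := Algebra.TensorProduct.productMap g₁ g₂
  have hqsurj : Function.Surjective q := by
    intro z
    induction z using TensorProduct.induction_on with
    | zero => exact ⟨0, map_zero q⟩
    | add p r hp hr =>
      obtain ⟨a, rfl⟩ := hp
      obtain ⟨b, rfl⟩ := hr
      exact ⟨a + b, map_add q a b⟩
    | tmul c d =>
      obtain ⟨s, rfl⟩ := Ideal.Quotient.mk_surjective c
      obtain ⟨a, rfl⟩ := hψRsurj d
      refine ⟨s ⊗ₜ[S₀] a, ?_⟩
      rw [show q (s ⊗ₜ[S₀] a) = f₁ s * f₂ a from Algebra.TensorProduct.productMap_apply_tmul g₁ g₂ s a]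
      show (Ideal.Quotient.mk J s ⊗ₜ[S₁] (1 : R₁)) * ((1 : S ⧸ J) ⊗ₜ[S₁] ψR a) = _
      exact (Algebra.TensorProduct.tmul_mul_tmul _ _ _ _).trans (by rw [mul_one, one_mul])
  have hsq : ∀ z, pm₁ (q z) = qR (pm z) := by
    intro z
    induction z with
    | zero => simp
    | add p r hp hr => rw [map_add, map_add, map_add, map_add, hp, hr]
    | tmul s a =>
      rw [show q (s ⊗ₜ[S₀] a) = f₁ s * f₂ a from Algebra.TensorProduct.productMap_apply_tmul g₁ g₂ s a,
        map_mul, hpm, map_mul]
      show pm₁ (Ideal.Quotient.mk J s ⊗ₜ[S₁] (1 : R₁)) * pm₁ ((1 : S ⧸ J) ⊗ₜ[S₁] ψR a) = _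
      rw [Algebra.TensorProduct.productMap_apply_tmul, Algebra.TensorProduct.productMap_apply_tmul,
        map_one, map_one, mul_one, one_mul]
      exact congrArg₂ (· * ·) rfl (hψR a)
  constructor
  · refine (injective_iff_map_eq_zero pm₁).2 fun z hz => ?_
    obtain ⟨w, rfl⟩ := hqsurj z
    rw [hsq] at hz
    have hw : pm w ∈ J' := Ideal.Quotient.eq_zero_iff_mem.1 hz
    have hle : J' ≤ (RingHom.ker q).map (RingEquiv.ofBijective pm.toRingHom hcart).toRingHom := by
      refine Ideal.map_le_iff_le_comap.2 fun j hj => ?_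
      rw [Ideal.mem_comap, show algebraMap S R j =
        (RingEquiv.ofBijective pm.toRingHom hcart).toRingHom (j ⊗ₜ[S₀] (1 : R₀)) from
          ((hpm j 1).trans (by rw [map_one, mul_one])).symm]
      refine Ideal.mem_map_of_mem _ ?_
      rw [RingHom.mem_ker,
        show q (j ⊗ₜ[S₀] 1) = f₁ j * f₂ 1 from Algebra.TensorProduct.productMap_apply_tmul g₁ g₂ j 1,
        show f₁ j = 0 by simp [f₁, Ideal.Quotient.eq_zero_iff_mem.2 hj], zero_mul]
    obtain ⟨w', hw', he⟩ := (Ideal.mem_map_iff_of_surjective _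
      (RingEquiv.ofBijective pm.toRingHom hcart).surjective).1 (hle hw)
    rw [← hcart.1 he]
    exact hw'
  · intro z
    obtain ⟨r, rfl⟩ := Ideal.Quotient.mk_surjective z
    obtain ⟨w, rfl⟩ := hcart.2 r
    exact ⟨q w, hsq w⟩

end Groth.Agent.S19408
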