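import Groth.Statements.S19410
import Groth.Agent.GLinFinLib.Algebra
import Groth.Agent.CSTLib.Local

set_option autoImplicit false
universe u
open TensorProduct
open GLin

namespace Groth.Agent.S19410

set_option maxHeartbeats 1000000
set_option synthInstance.maxHeartbeats 400000

open HopfRep MvPolynomial
open scoped ComodLib

theorem rTensor_eq_map {k : Type u} [Field k] {A X Y : Type u} [CommRing A] [Algebra k A] [CommRing X]
    [Algebra k X] [CommRing Y] [Algebra k Y] (f : X →ₐ[k] Y) (z : X ⊗[k] A) :
    f.toLinearMap.rTensor A z = Algebra.TensorProduct.map f (AlgHom.id k A) z := by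
  induction z with
  | zero => simp
  | tmul a b => rfl
  | add a b ha hb => simp only [map_add, ha, hb]

/-- Work over a field k that is algebraically closed and of characteristic zero. Suppose A is a finitely
generated commutative Hopf algebra over k whose finite-dimensional comodules are all semisimple (a
reductive group G). Take finitely generated commutative k-algebras S and R, each carrying a
multiplicative A-coaction (G acting on the affine schemes Y = Spec S and X = Spec R), together with
an injective, quasi-finite algebra map S → R that respects the coactions (a dominant quasi-finite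
G-morphism φ : X → Y). Then one can find finitely generated commutative k-algebras R' and S', both
integral domains with R' integrally closed, each equipped with a multiplicative A-coaction, along
with coaction-compatible surjective algebra maps R' → R and S' → S (so X and Y sit as closed
G-stable subschemes inside the integral affine G-varieties X' = Spec R' and Y' = Spec S', where X'
is normal), and a coaction-compatible algebra map S' → R' that is injective and quasi-finite (a
dominant quasi-finite G-morphism X' → Y'), such that following S' → R' by R' → R gives the same map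
as following S' → S by S → R. -/
theorem result (k : Type u) [Field k] [IsAlgClosed k] [CharZero k]
    (A : Type u) [CommRing A] [HopfAlgebra k A] [Algebra.FiniteType k A] (hG : HopfRep.IsLinearlyReductive k A)
    (S : Type u) [CommRing S] [Algebra k S] [Algebra.FiniteType k S] [HopfRep.Comod k A S] [GLin.IsCoactAlg k A S]
    (R : Type u) [CommRing R] [Algebra k R] [Algebra.FiniteType k R] [HopfRep.Comod k A R] [GLin.IsCoactAlg k A R]
    [Algebra S R] [IsScalarTower k S R] [Algebra.QuasiFinite S R] (hinj : Function.Injective (algebraMap S R))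
    (hequiv : (∀ s : S, HopfRep.Comod.coact (k := k) (A := A) (algebraMap S R s) =
      Algebra.TensorProduct.map (IsScalarTower.toAlgHom k S R) (AlgHom.id k A) (HopfRep.Comod.coact (k := k) (A := A) s))) :
    ∃ (R' : Type u) (_ : CommRing R') (_ : IsDomain R') (_ : IsIntegrallyClosed R') (_ : Algebra k R')
      (_ : HopfRep.Comod k A R') (_ : GLin.IsCoactAlg k A R')
      (S' : Type u) (_ : CommRing S') (_ : IsDomain S') (_ : Algebra k S')
      (_ : HopfRep.Comod k A S') (_ : GLin.IsCoactAlg k A S'),
      Algebra.FiniteType k R' ∧ Algebra.FiniteType k S' ∧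
      ∃ (pR : R' →ₐ[k] R) (pS : S' →ₐ[k] S) (φ' : S' →ₐ[k] R'),
        Function.Surjective pR ∧ Function.Surjective pS ∧ Function.Injective φ' ∧ φ'.toRingHom.QuasiFinite ∧
        (∀ s : R', HopfRep.Comod.coact (k := k) (A := A) (pR s) =
        Algebra.TensorProduct.map pR (AlgHom.id k A) (HopfRep.Comod.coact (k := k) (A := A) s)) ∧
        (∀ s : S', HopfRep.Comod.coact (k := k) (A := A) (pS s) =
        Algebra.TensorProduct.map pS (AlgHom.id k A) (HopfRep.Comod.coact (k := k) (A := A) s)) ∧
        (∀ s : S', HopfRep.Comod.coact (k := k) (A := A) (φ' s) =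
        Algebra.TensorProduct.map φ' (AlgHom.id k A) (HopfRep.Comod.coact (k := k) (A := A) s)) ∧
        pR.comp φ' = (IsScalarTower.toAlgHom k S R).comp pS := by
  classical
  let jS : S →ₐ[k] R := IsScalarTower.toAlgHom k S R
  have hjS : Hoch.IsComodHom A jS.toLinearMap :=
    LinearMap.ext fun x => (hequiv x).trans (rTensor_eq_map jS _).symm
  -- the polynomial ring
  obtain ⟨g, hg⟩ := (inferInstance : Algebra.FiniteType k R).out
  obtain ⟨n, v, t, hgv, hv, hmul, hone⟩ := GLinFinLib.exists_closed_family (k := k) (H := A) g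
  let t' : ULift.{u} (Fin n) → ULift.{u} (Fin n) → A := fun j i => t j.down i.down
  have hmul' : ∀ j i, CoalgebraStruct.comul (R := k) (t' j i) = ∑ l, t' j l ⊗ₜ[k] t' l i := by
    intro j i
    rw [show t' j i = t j.down i.down from rfl, hmul]
    exact (Equiv.ulift.sum_comp (fun l => t j.down l ⊗ₜ[k] t l i.down)).symm
  have hone' : ∀ j i, CoalgebraStruct.counit (R := k) (t' j i) = if j = i then (1 : k) else 0 := by
    intro j i
    rw [show t' j i = t j.down i.down from rfl, hone]
    simp only [ULift.down_inj]
  let R' : Type u := MvPolynomial (ULift.{u} (Fin n)) k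
  letI cR : Comod k A R' := CSTLib.linComod (k := k) t' hmul' hone'
  haveI : GLin.IsCoactAlg k A R' := CSTLib.linComod_isCoactAlg (k := k) t' hmul' hone'
  let pR : R' →ₐ[k] R := MvPolynomial.aeval fun i => v i.down
  have hpRc : ∀ s : R', Comod.coact (k := k) (A := A) (pR s) =
      Algebra.TensorProduct.map pR (AlgHom.id k A) (Comod.coact (k := k) (A := A) s) := by
    have h : (GLin.coactAlgHom k A R).comp pR =
        (Algebra.TensorProduct.map pR (AlgHom.id k A)).comp (CSTLib.linCoact (k := k) t') := by
      refine MvPolynomial.algHom_ext fun i => ?_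
      rw [AlgHom.comp_apply, AlgHom.comp_apply, CSTLib.linCoact_X (k := k) t' i]
      simp only [GLin.coactAlgHom_apply, pR, aeval_X, map_sum,
        Algebra.TensorProduct.map_tmul, AlgHom.id_apply, hv]
      refine (Equiv.ulift.sum_comp (fun j => v j ⊗ₜ[k] t j i.down)).symm.trans ?_
      exact Finset.sum_congr rfl fun j _ => by rw [aeval_X]; rfl
    exact fun s => (GLin.coactAlgHom_apply k A R (pR s)).symm.trans (AlgHom.congr_fun h s)
  have hpR : Function.Surjective pR := by
    rw [← AlgHom.range_eq_top, eq_top_iff, ← hg, Algebra.adjoin_le_iff]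
    intro x hx
    refine (Submodule.span_le.2 (?_ : Set.range v ⊆ (Subalgebra.toSubmodule pR.range : Submodule k R))) (hgv x hx)
    rintro _ ⟨i, rfl⟩
    exact ⟨X ⟨i⟩, aeval_X _ _⟩
  -- the elements of `R'` whose restriction comes from `S`
  have hpRh : Hoch.IsComodHom A pR.toLinearMap :=
    LinearMap.ext fun x => (hpRc x).trans (rTensor_eq_map pR _).symm
  let T : Submodule (ComodLib.Dual' k A) R' :=
    Submodule.comap (ComodLib.toHom _ hpRh) (LinearMap.range (ComodLib.toHom _ hjS))
  have hT : ∀ x : R', x ∈ T ↔ pR x ∈ jS.range := fun x => Iff.rfl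
  obtain ⟨gS, hgS⟩ := (inferInstance : Algebra.FiniteType k S).out
  choose lift hlift using fun y : S => hpR (jS y)
  obtain ⟨D, hD⟩ := (IsNoetherian.noetherian (RingHom.ker pR) : (RingHom.ker pR).FG)
  have hDker : ∀ a ∈ D, pR a = 0 := fun a ha => by
    have h : a ∈ RingHom.ker pR := hD ▸ Ideal.subset_span ha
    exact h
  let F : Finset R' := gS.image lift ∪ D ∪ (D ×ˢ (Finset.univ : Finset (ULift.{u} (Fin n)))).image
    fun q => q.1 * X q.2
  have hFT : ∀ x ∈ F, x ∈ T := by
    intro x hx
    rw [hT]
    simp only [F, Finset.mem_union, Finset.mem_image] at hx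
    rcases hx with (⟨y, -, rfl⟩ | hx) | ⟨q, hq, rfl⟩
    · exact ⟨y, (hlift y).symm⟩
    · exact ⟨0, by rw [hDker x hx, map_zero]⟩
    · exact ⟨0, by rw [map_mul, hDker _ (Finset.mem_product.1 hq).1, zero_mul, map_zero]⟩
  let W' : Submodule (ComodLib.Dual' k A) R' := ⨆ a : F, Submodule.span (ComodLib.Dual' k A) {(a : R')}
  let W : Submodule k R' := W'.restrictScalars k
  haveI : FiniteDimensional k W := by
    haveI : ∀ a : F, FiniteDimensional k
        ↥((Submodule.span (ComodLib.Dual' k A) {(a : R')}).restrictScalars k) :=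
      fun a => ComodLib.finite_span_singleton A (a : R')
    have h : W = ⨆ a : F, (Submodule.span (ComodLib.Dual' k A) {(a : R')}).restrictScalars k := by
      simp only [W, W', Submodule.restrictScalars_iSup]
    rw [h]
    infer_instance
  have hWsub : IsSubcomod (k := k) (A := A) W := ComodLib.isSubcomod_restrictScalars W'
  have hWT : W' ≤ T := iSup_le fun a => (Submodule.span_singleton_le_iff_mem _ _).2 (hFT _ a.2)
  obtain ⟨tt, htt⟩ := Module.Finite.iff_fg.1 (inferInstance : Module.Finite k W)
  let S' : Subalgebra k R' := Algebra.adjoin k (tt : Set R')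
  have hWS : ∀ x ∈ W, x ∈ S' := fun x hx => by
    rw [← htt] at hx
    exact (Submodule.span_le.2 (show (tt : Set R') ⊆ Subalgebra.toSubmodule S' from
      Algebra.subset_adjoin)) hx
  have httW : ∀ x ∈ tt, x ∈ W := fun x hx => htt ▸ Submodule.subset_span hx
  have hFS : ∀ x ∈ F, x ∈ S' := fun x hx =>
    hWS x (Submodule.mem_iSup_of_mem (⟨x, hx⟩ : F) (Submodule.mem_span_singleton_self x))
  let ιA := Algebra.TensorProduct.map S'.val (AlgHom.id k A)
  have hS'le : S' ≤ ιA.range.comap (GLin.coactAlgHom k A R') := by
    refine Algebra.adjoin_le fun x hx => ?_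
    obtain ⟨w, hw⟩ := hWsub x (httW x hx)
    show GLin.coactAlgHom k A R' x ∈ ιA.range
    rw [GLin.coactAlgHom_apply, ← hw]
    clear hw
    induction w using TensorProduct.induction_on with
    | zero => simp
    | tmul a b => exact ⟨(⟨(a : R'), hWS _ a.2⟩ : S') ⊗ₜ[k] b, rfl⟩
    | add a b ha hb => rw [map_add]; exact ιA.range.add_mem ha hb
  have hsub : IsSubcomod (k := k) (A := A) (Subalgebra.toSubmodule S') := by
    intro x hx
    obtain ⟨z, hz⟩ := (hS'le hx : GLin.coactAlgHom k A R' x ∈ ιA.range)
    exact ⟨z, ((rTensor_eq_map S'.val z).trans hz).trans (GLin.coactAlgHom_apply k A R' x)⟩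
  letI cS : Comod k A S' := ComodLib.subComod hsub
  have hval : ∀ b : S', Comod.coact (k := k) (A := A) (b : R') =
      ιA (Comod.coact (k := k) (A := A) b) := by
    intro b
    have h := LinearMap.congr_fun (ComodLib.exists_coact_sub hsub).choose_spec b
    exact h.symm.trans (rTensor_eq_map S'.val _)
  have hinjι : Function.Injective ιA := by
    intro y z hyz
    refine Module.Flat.rTensor_preserves_injective_linearMap (M := A) S'.val.toLinearMap
      Subtype.val_injective ?_
    rw [rTensor_eq_map, rTensor_eq_map]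
    exact hyz
  haveI : GLin.IsCoactAlg k A S' :=
    { coact_one := hinjι (by rw [← hval, map_one, OneMemClass.coe_one, GLin.IsCoactAlg.coact_one])
      coact_mul := fun a b => hinjι (by
        rw [← hval, map_mul ιA, ← hval, ← hval, MulMemClass.coe_mul, GLin.IsCoactAlg.coact_mul]) }
  -- the map to `S`
  have hS'T : ∀ b : S', pR (b : R') ∈ jS.range := by
    intro b
    have h : S' ≤ jS.range.comap pR := Algebra.adjoin_le fun x hx => (hT x).1 (hWT (httW x hx))
    exact h b.2
  have hjinj : Function.Injective jS := hinj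
  let e := AlgEquiv.ofInjective jS hjinj
  let pS : S' →ₐ[k] S := e.symm.toAlgHom.comp ((pR.comp S'.val).codRestrict jS.range hS'T)
  have hpS : ∀ b : S', jS (pS b) = pR (b : R') := fun b =>
    congrArg Subtype.val (e.apply_symm_apply ⟨pR (b : R'), hS'T b⟩)
  have hpSs : Function.Surjective pS := by
    rw [← AlgHom.range_eq_top, eq_top_iff, ← hgS, Algebra.adjoin_le_iff]
    intro y hy
    refine ⟨⟨lift y, hFS _ (Finset.mem_union_left _ (Finset.mem_union_left _
      (Finset.mem_image_of_mem _ hy)))⟩, hjinj ?_⟩
    exact (hpS _).trans (hlift y)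
  have hpSc : ∀ s : S', Comod.coact (k := k) (A := A) (pS s) =
      Algebra.TensorProduct.map pS (AlgHom.id k A) (Comod.coact (k := k) (A := A) s) := by
    intro s
    have hinj2 : Function.Injective (Algebra.TensorProduct.map jS (AlgHom.id k A)) := by
      intro y z hyz
      refine Module.Flat.rTensor_preserves_injective_linearMap (M := A) jS.toLinearMap hjinj ?_
      rw [rTensor_eq_map, rTensor_eq_map]
      exact hyz
    refine hinj2 ?_
    rw [← hequiv, show algebraMap S R (pS s) = pR (s : R') from hpS s, hpRc, hval]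
    generalize Comod.coact (k := k) (A := A) s = z
    induction z with
    | zero => simp
    | tmul a b => simp [ιA, hpS]
    | add a b ha hb => simp only [map_add, ha, hb]
  -- finiteness
  haveI : Algebra.FiniteType k S' := ⟨(Subalgebra.fg_top S').2 ⟨tt, rfl⟩⟩
  have hden : ∀ a ∈ D, ∀ x : R', ∃ m, a ^ m * x ∈ S' := by
    intro a ha x
    have haS : a ∈ S' := hFS a (Finset.mem_union_left _ (Finset.mem_union_right _ ha))
    induction x using MvPolynomial.induction_on with
    | C c => exact ⟨0, by rw [pow_zero, one_mul]; exact S'.algebraMap_mem c⟩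
    | add p q hp hq =>
      obtain ⟨m, hm⟩ := hp
      obtain ⟨m', hm'⟩ := hq
      refine ⟨m + m', ?_⟩
      rw [mul_add, pow_add, mul_right_comm _ _ p, mul_assoc _ _ q]
      exact S'.add_mem (S'.mul_mem hm (S'.pow_mem haS _)) (S'.mul_mem (S'.pow_mem haS _) hm')
    | mul_X p i hp =>
      obtain ⟨m, hm⟩ := hp
      refine ⟨m + 1, ?_⟩
      rw [pow_succ, mul_mul_mul_comm]
      exact S'.mul_mem hm (hFS _ (Finset.mem_union_right _
        (Finset.mem_image.2 ⟨(a, i), Finset.mem_product.2 ⟨ha, Finset.mem_univ _⟩, rfl⟩)))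
  have hqf : S'.val.toRingHom.QuasiFinite := by
    letI := S'.val.toRingHom.toAlgebra
    haveI : IsScalarTower k S' R' := IsScalarTower.of_algebraMap_eq fun _ => rfl
    haveI : Algebra.FiniteType S' R' := Algebra.FiniteType.of_restrictScalars_finiteType k S' R'
    show Algebra.QuasiFinite S' R'
    refine Algebra.QuasiFinite.iff_finite_comap_preimage_singleton.2 fun P => ?_
    have hiff : ∀ Q ∈ PrimeSpectrum.comap (algebraMap S' R') ⁻¹' {P}, ∀ b : S',
        (b : R') ∈ Q.asIdeal ↔ b ∈ P.asIdeal := by
      intro Q hQ b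
      rw [← show PrimeSpectrum.comap (algebraMap S' R') Q = P from hQ]
      exact Iff.rfl
    by_cases hP : ∃ a ∈ D, ∀ h : a ∈ S', (⟨a, h⟩ : S') ∉ P.asIdeal
    · obtain ⟨a, ha, haP⟩ := hP
      have haS : a ∈ S' := hFS a (Finset.mem_union_left _ (Finset.mem_union_right _ ha))
      refine Set.Subsingleton.finite fun Q hQ Q' hQ' => ?_
      have hle : ∀ Q ∈ PrimeSpectrum.comap (algebraMap S' R') ⁻¹' {P},
          ∀ Q' ∈ PrimeSpectrum.comap (algebraMap S' R') ⁻¹' {P}, Q.asIdeal ≤ Q'.asIdeal := by
        intro Q hQ Q' hQ' x hx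
        obtain ⟨m, hm⟩ := hden a ha x
        have h1 : a ^ m * x ∈ Q'.asIdeal :=
          (hiff Q' hQ' ⟨_, hm⟩).2 ((hiff Q hQ ⟨_, hm⟩).1 (Ideal.mul_mem_left _ _ hx))
        refine (Q'.2.mem_or_mem h1).resolve_left fun h2 => haP haS ?_
        exact (hiff Q' hQ' ⟨a, haS⟩).1 (Q'.2.mem_of_pow_mem m h2)
      exact PrimeSpectrum.ext (le_antisymm (hle Q hQ Q' hQ') (hle Q' hQ' Q hQ))
    · push Not at hP
      let E : Set (PrimeSpectrum S) := PrimeSpectrum.comap pS.toRingHom ⁻¹' {P}
      have hE : E.Finite := (Set.finite_singleton P).preimage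
        (PrimeSpectrum.comap_injective_of_surjective _ hpSs).injOn
      have hE' : (PrimeSpectrum.comap (algebraMap S R) ⁻¹' E).Finite :=
        hE.preimage' fun b _ => Algebra.QuasiFinite.finite_comap_preimage_singleton b
      refine (hE'.image (PrimeSpectrum.comap pR.toRingHom)).subset fun Q hQ => ?_
      have hle : RingHom.ker pR ≤ Q.asIdeal := by
        rw [← hD, Ideal.span_le]
        intro a ha
        obtain ⟨h, hh⟩ := hP a ha
        exact (hiff Q hQ ⟨a, h⟩).2 hh
      have hQr : Q ∈ Set.range (PrimeSpectrum.comap pR.toRingHom) := by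
        rw [range_comap_of_surjective _ _ (show Function.Surjective pR.toRingHom from hpR)]
        exact hle
      obtain ⟨Qb, rfl⟩ := hQr
      refine ⟨Qb, ?_, rfl⟩
      show PrimeSpectrum.comap pS.toRingHom (PrimeSpectrum.comap (algebraMap S R) Qb) = P
      rw [← show PrimeSpectrum.comap (algebraMap S' R') (PrimeSpectrum.comap pR.toRingHom Qb) = P from hQ]
      refine PrimeSpectrum.ext (Ideal.ext fun b => ?_)
      show algebraMap S R (pS b) ∈ Qb.asIdeal ↔ pR (b : R') ∈ Qb.asIdeal
      rw [show algebraMap S R (pS b) = pR (b : R') from hpS b]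
  exact ⟨R', inferInstance, inferInstance, inferInstance, inferInstance, cR, inferInstance,
    S', inferInstance, inferInstance, inferInstance, cS, inferInstance,
    inferInstance, inferInstance, pR, pS, S'.val, hpR, hpSs, Subtype.val_injective, hqf,
    hpRc, hpSc, hval, AlgHom.ext fun b => (hpS b).symm⟩

end Groth.Agent.S19410
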