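import Groth.Statements.S19411
import Groth.Agent.GLinFinLib.Fraction
import Groth.Agent.GrpSchLib.HopfReduced

set_option autoImplicit false
universe u
open TensorProduct
open GLin

namespace Groth.Agent.S19411

set_option maxHeartbeats 1000000
set_option synthInstance.maxHeartbeats 400000

open HopfRep WithConv UnitRigidLib

section
variable {k : Type u} [Field k] {R : Type u} [CommRing R] [Algebra k R]
  {A : Type u} [CommRing A] [Algebra k A]

/-- The pair of points evaluated at a tensor. -/
def pt (x : R →ₐ[k] k) (g : A →ₐ[k] k) : R ⊗[k] A →ₐ[k] k :=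
  Algebra.TensorProduct.lift x g fun _ _ => Commute.all _ _

theorem pt_tmul (x : R →ₐ[k] k) (g : A →ₐ[k] k) (r : R) (a : A) :
    pt x g (r ⊗ₜ[k] a) = x r * g a := Algebra.TensorProduct.lift_tmul _ _ _ _ _

/-- Evaluation in the first variable. -/
def spec₁ (x : R →ₐ[k] k) : R ⊗[k] A →ₐ[k] A :=
  (Algebra.TensorProduct.lid k A).toAlgHom.comp (Algebra.TensorProduct.map x (AlgHom.id k A))

theorem spec₁_tmul (x : R →ₐ[k] k) (r : R) (a : A) : spec₁ x (r ⊗ₜ[k] a) = x r • a := by
  simp [spec₁]

theorem apply_spec₁ (x : R →ₐ[k] k) (g : A →ₐ[k] k) (z : R ⊗[k] A) :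
    g (spec₁ x z) = pt x g z := by
  induction z with
  | zero => simp
  | tmul r a => rw [spec₁_tmul, map_smul, pt_tmul, smul_eq_mul]
  | add a b ha hb => simp only [map_add, ha, hb]

theorem apply_spec₂ (x : R →ₐ[k] k) (g : A →ₐ[k] k) (z : R ⊗[k] A) :
    x (spec₂ g z) = pt x g z := by
  induction z with
  | zero => simp
  | tmul r a => rw [spec₂_tmul, map_smul, pt_tmul, smul_eq_mul, mul_comm]
  | add a b ha hb => simp only [map_add, ha, hb]

end

/-- An idempotent of a reduced ring with connected spectrum is trivial. -/
theorem eq_zero_or_one {R : Type u} [CommRing R] [ConnectedSpace (PrimeSpectrum R)] {r : R}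
    (h : IsIdempotentElem r) : r = 0 ∨ r = 1 := by
  have hc : IsClopen (PrimeSpectrum.basicOpen r : Set (PrimeSpectrum R)) :=
    PrimeSpectrum.isClopen_iff.2 ⟨r, h, rfl⟩
  rcases isClopen_iff.1 hc with h0 | h1
  · left
    obtain ⟨n, hn⟩ := (PrimeSpectrum.basicOpen_eq_bot_iff r).1 (SetLike.coe_injective h0)
    rcases Nat.eq_zero_or_pos n with rfl | hpos
    · rw [pow_zero] at hn
      rw [← mul_one r, hn, mul_zero]
    · rwa [h.pow_eq hpos.ne'] at hn
  · right
    have hu : IsUnit r := by
      by_contra hu
      obtain ⟨M, hM, hle⟩ := Ideal.exists_le_maximal (Ideal.span {r})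
        (by rwa [Ne, Ideal.span_singleton_eq_top])
      have hmem : (⟨M, hM.isPrime⟩ : PrimeSpectrum R) ∈ (PrimeSpectrum.basicOpen r : Set _) :=
        h1 ▸ Set.mem_univ _
      exact hmem (hle (Ideal.mem_span_singleton_self r))
    calc r = hu.unit⁻¹ * (r * r) := by rw [← mul_assoc, IsUnit.val_inv_mul, one_mul]
    _ = 1 := by rw [h.eq, IsUnit.val_inv_mul]


/-- Let k be an uncountable algebraically closed field of characteristic zero, A a finitely generated
commutative Hopf algebra over k all of whose finite-dimensional comodules are semisimple (a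
reductive group G), and R a reduced finitely generated commutative k-algebra whose prime spectrum is
connected, with a multiplicative A-coaction ρ (G acting on the connected affine scheme X = Spec R).
Let θ ∈ R ⊗ A be such that the map r ↦ ρ(r)·θ from R to R ⊗ A is coassociative and counital (a
structure of G-line bundle on the trivial line bundle of X, θ being the corresponding invertible
function on X × G). Suppose that either every unit of A is a scalar multiple of a group-like element
(every invertible function on G is a constant times a character), or every unit of R is a scalar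
(every invertible function on X is constant). Then θ = 1 ⊗ χ for some group-like element χ of A: the
G-line bundle is the one attached to the character χ. (Stated for G-line bundle structures on the
trivial bundle, the case to which the hypothesis of a trivial Picard group reduces the source's
statement; uncountability of k is what the argument uses in the first case.) -/
theorem result (k : Type u) [Field k] [IsAlgClosed k] [CharZero k] [Uncountable k]
    (A : Type u) [CommRing A] [HopfAlgebra k A] [Algebra.FiniteType k A] (hG : HopfRep.IsLinearlyReductive k A)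
    (R : Type u) [CommRing R] [IsReduced R] [Algebra k R] [Algebra.FiniteType k R] [HopfRep.Comod k A R] [GLin.IsCoactAlg k A R]
    [ConnectedSpace (PrimeSpectrum R)]
    (θ : R ⊗[k] A)
    (hassoc : (TensorProduct.assoc k R A A).toLinearMap ∘ₗ
        ((LinearMap.mulRight k θ) ∘ₗ HopfRep.Comod.coact (k := k) (A := A) (V := R)).rTensor A ∘ₗ
          ((LinearMap.mulRight k θ) ∘ₗ HopfRep.Comod.coact (k := k) (A := A) (V := R)) =
      (CoalgebraStruct.comul (R := k) (A := A)).lTensor R ∘ₗ
        ((LinearMap.mulRight k θ) ∘ₗ HopfRep.Comod.coact (k := k) (A := A) (V := R)))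
    (hcounit : (CoalgebraStruct.counit (R := k) (A := A)).lTensor R ∘ₗ
        ((LinearMap.mulRight k θ) ∘ₗ HopfRep.Comod.coact (k := k) (A := A) (V := R)) =
      (TensorProduct.mk k R k).flip 1)
    (h : (∀ u : Aˣ, ∃ (c : k) (χ : A), IsGroupLikeElem k χ ∧ (u : A) = c • χ) ∨
      (∀ u : Rˣ, (u : R) ∈ Set.range (algebraMap k R))) :
    ∃ χ : A, IsGroupLikeElem k χ ∧ θ = (1 : R) ⊗ₜ[k] χ := by
  classical
  haveI : IsReduced A := Groth.Agent.GrpSchLib.HopfRed.isReduced_of_isAlgClosed (k := k)
  haveI : Nontrivial R := by
    obtain ⟨p⟩ := (inferInstance : Nonempty (PrimeSpectrum R))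
    exact nontrivial_of_ne 1 0 fun h => p.isPrime.ne_top ((Ideal.eq_top_iff_one _).2 (h ▸ p.asIdeal.zero_mem))
  obtain ⟨m₀, hm₀⟩ := Ideal.exists_maximal R
  obtain ⟨x₀, -⟩ := exists_point (K := k) m₀
  -- the twisted coaction at `1`
  have hρ1 : Comod.coact (k := k) (A := A) (1 : R) = 1 := by
    rw [← GLin.coactAlgHom_apply, map_one]
  have hε : (CoalgebraStruct.counit (R := k) (A := A)).lTensor R θ = (1 : R) ⊗ₜ[k] (1 : k) := by
    have := LinearMap.congr_fun hcounit 1
    simpa [hρ1] using this
  have hΔ : TensorProduct.assoc k R A A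
        (((LinearMap.mulRight k θ) ∘ₗ Comod.coact (k := k) (A := A) (V := R)).rTensor A θ) =
      (CoalgebraStruct.comul (R := k) (A := A)).lTensor R θ := by
    have := LinearMap.congr_fun hassoc 1
    simpa [hρ1] using this
  -- `θ` has no zero
  have hne : ∀ (x : R →ₐ[k] k) (g : A →ₐ[k] k), pt x g θ ≠ 0 := by
    intro x g hzero
    let g' : A →ₐ[k] k := g.comp (HopfAlgebra.antipodeAlgHom k A)
    let y : R →ₐ[k] k := (pt x g).comp (GLin.coactAlgHom k A R)
    let F : R ⊗[k] (A ⊗[k] A) →ₐ[k] k := pt x (pt g g')
    have h1 : ∀ z : R ⊗[k] A, F (TensorProduct.assoc k R A A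
        (((LinearMap.mulRight k θ) ∘ₗ Comod.coact (k := k) (A := A) (V := R)).rTensor A z)) =
        pt y g' z * pt x g θ := by
      intro z
      induction z with
      | zero => simp
      | add a b ha hb => simp only [map_add, ha, hb, add_mul]
      | tmul r a =>
        have h2 : ∀ (w : R ⊗[k] A) (b : A), F (TensorProduct.assoc k R A A (w ⊗ₜ[k] b)) =
            pt x g w * g' b := by
          intro w b
          induction w with
          | zero => simp [TensorProduct.zero_tmul]
          | add p q hp hq => simp only [TensorProduct.add_tmul, map_add, hp, hq, add_mul]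
          | tmul p q => simp only [TensorProduct.assoc_tmul, F, pt_tmul, mul_assoc]
        rw [LinearMap.rTensor_tmul, h2, pt_tmul]
        simp only [LinearMap.comp_apply, LinearMap.mulRight_apply, map_mul, y, AlgHom.comp_apply,
          GLin.coactAlgHom_apply]
        ring
    have h3 : ∀ a : A, pt g g' (CoalgebraStruct.comul (R := k) a) = CoalgebraStruct.counit (R := k) a := by
      intro a
      have h4 := congrArg (fun Φ : WithConv (A →ₐ[k] k) => Φ a)
        (Groth.Agent.HopfFF.conv_mul_comp_antipode g)
      simp only [AlgHom.convMul_apply] at h4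
      refine Eq.trans ?_ (h4.trans ?_)
      · generalize CoalgebraStruct.comul (R := k) a = t
        induction t with
        | zero => simp
        | add p q hp hq => simp only [map_add, hp, hq]
        | tmul p q => simp [pt_tmul, g']
      · simp
    have h5 : ∀ z : R ⊗[k] A, F ((CoalgebraStruct.comul (R := k) (A := A)).lTensor R z) =
        pt x (AlgHom.id k k) ((CoalgebraStruct.counit (R := k) (A := A)).lTensor R z) := by
      intro z
      induction z with
      | zero => simp
      | add a b ha hb => simp only [map_add, ha, hb]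
      | tmul r a => simp only [LinearMap.lTensor_tmul, F, pt_tmul, h3, AlgHom.id_apply]
    have h6 := congrArg F hΔ
    rw [h1, h5, hε, pt_tmul, hzero, mul_zero, map_one, map_one, one_mul] at h6
    exact zero_ne_one h6
  -- `θ` is constant along `X`
  have hconst : ∀ (x : R →ₐ[k] k), spec₁ x θ = spec₁ x₀ θ := by
    rcases h with hA | hR
    · have hgl : ∀ x : R →ₐ[k] k, IsGroupLikeElem k (spec₁ x θ) := by
        intro x
        obtain ⟨c, χ, hχ, hcχ⟩ := hA (isUnit_of_forall_point (K := k) (spec₁ x θ)
          fun g => by rw [apply_spec₁]; exact hne x g).unit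
        rw [IsUnit.unit_spec] at hcχ
        have h7 : ∀ z : R ⊗[k] A, CoalgebraStruct.counit (R := k) (spec₁ x z) =
            pt x (AlgHom.id k k) ((CoalgebraStruct.counit (R := k) (A := A)).lTensor R z) := by
          intro z
          induction z with
          | zero => simp
          | add a b ha hb => simp only [map_add, ha, hb]
          | tmul r a => simp [spec₁_tmul, pt_tmul]
        have h8 := h7 θ
        rw [hε, pt_tmul, hcχ, map_smul, hχ.counit_eq_one, map_one, map_one, smul_eq_mul] at h8
        rw [hcχ, (by simpa using h8 : c = 1), one_smul]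
        exact hχ
      let e := Module.Basis.extend (linearIndepOn_isGroupLikeElem (R := k) (A := A))
      let r := TensorProduct.equivFinsuppOfBasisRight (M := R) e θ
      have hr : ∀ (x : R →ₐ[k] k) b, x (r b) = e.repr (spec₁ x θ) b := by
        intro x b
        suffices H : ∀ z : R ⊗[k] A,
            x (TensorProduct.equivFinsuppOfBasisRight (M := R) e z b) = e.repr (spec₁ x z) b from H θ
        intro z
        induction z with
        | zero => simp
        | tmul p q => simp [spec₁_tmul, mul_comm]
        | add p q hp hq => simp only [map_add, Finsupp.add_apply, hp, hq]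
      intro x
      refine e.repr.injective (Finsupp.ext fun b => ?_)
      rw [← hr, ← hr]
      have hid : IsIdempotentElem (r b) := by
        refine sub_eq_zero.1 (eq_zero_of_forall_point (K := k) _ fun z => ?_)
        have hmem : spec₁ z θ ∈ (linearIndepOn_isGroupLikeElem (R := k) (A := A)).extend
            (Set.subset_univ _) :=
          LinearIndepOn.subset_extend _ _ (hgl z)
        have hb : e.repr (spec₁ z θ) = Finsupp.single ⟨_, hmem⟩ 1 := by
          rw [← e.repr_self ⟨_, hmem⟩, Module.Basis.extend_apply_self]
        rw [map_sub, map_mul, hr, hb, Finsupp.single_apply]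
        split_ifs <;> simp
      rcases eq_zero_or_one hid with h9 | h9 <;> simp [h9]
    · intro x
      refine sub_eq_zero.1 (eq_zero_of_forall_point (K := k) _ fun g => ?_)
      obtain ⟨c, hc⟩ := hR (isUnit_of_forall_point (K := k) (spec₂ g θ)
        fun z => by rw [apply_spec₂]; exact hne z g).unit
      rw [IsUnit.unit_spec] at hc
      rw [map_sub, apply_spec₁, apply_spec₁, ← apply_spec₂, ← apply_spec₂, ← hc, AlgHom.commutes,
        AlgHom.commutes, sub_self]
  obtain ⟨χ, hχ⟩ : ∃ χ, χ = spec₁ x₀ θ := ⟨_, rfl⟩
  have hθ : θ = (1 : R) ⊗ₜ[k] χ := by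
    refine sub_eq_zero.1 (eq_zero_of_forall_pair _ fun x g => ?_)
    rw [apply_spec₂, map_sub, pt_tmul, map_one, one_mul, hχ, ← hconst x, apply_spec₁, sub_self]
  refine ⟨χ, ⟨?_, ?_⟩, hθ⟩
  · rw [hθ, LinearMap.lTensor_tmul] at hε
    have := congrArg (pt x₀ (AlgHom.id k k)) hε
    simpa [pt_tmul] using this
  · rw [hθ] at hΔ
    simp only [LinearMap.rTensor_tmul, LinearMap.comp_apply, LinearMap.mulRight_apply,
      LinearMap.lTensor_tmul, hρ1, one_mul, TensorProduct.assoc_tmul] at hΔ
    have := congrArg (fun z => TensorProduct.lid k (A ⊗[k] A) (x₀.toLinearMap.rTensor (A ⊗[k] A) z)) hΔ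
    simpa using this.symm

end Groth.Agent.S19411
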