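import Groth.Statements.S19412
import Groth.Agent.GLinFinLib.OrbitFinite
-- import your own Groth.Agent.* helpers here

set_option autoImplicit false
universe u
open TensorProduct
open GLin

namespace Groth.Agent.S19412

/-- Let k be an algebraically closed field of characteristic zero, A a finitely generated commutative
Hopf algebra over k (an algebraic group G), S and R finitely generated commutative k-algebras with
multiplicative A-coactions (G acting on affine Y = Spec S, X = Spec R), S → R an algebra map
compatible with the coactions (a G-morphism φ : X → Y), S₀ → S and R₀ → R injective k-algebra maps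
whose images are the subrings of invariants, and S₀ → R₀ an algebra map with S₀ → R₀ → R equal to S₀
→ S → R (φ/G). Suppose R₀ is étale over S₀ and the canonical map S ⊗_{S₀} R₀ → R is bijective (φ is
strongly étale: φ/G étale and X ≅ Y ×_{Y//G} X//G). Then R is étale over S (φ étale), and for every
k-point x of X: every k-point of G fixing the image point φ(x) fixes x (φ restricted to the orbit of
x is injective), and the orbit of x is closed if and only if the orbit of φ(x) is closed. (The
published item also asserts that φ is surjective; that fails when φ is the inclusion of a proper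
saturated open subset, which is strongly étale, so surjectivity is not asserted here.) -/
theorem result (k : Type u) [Field k] [IsAlgClosed k] [CharZero k]
    (A : Type u) [CommRing A] [HopfAlgebra k A] [Algebra.FiniteType k A]
    (S : Type u) [CommRing S] [Algebra k S] [Algebra.FiniteType k S] [HopfRep.Comod k A S] [GLin.IsCoactAlg k A S]
    (R : Type u) [CommRing R] [Algebra k R] [Algebra.FiniteType k R] [HopfRep.Comod k A R] [GLin.IsCoactAlg k A R]
    [Algebra S R] [IsScalarTower k S R]
    (hequiv : (∀ s : S, HopfRep.Comod.coact (k := k) (A := A) (algebraMap S R s) =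
      Algebra.TensorProduct.map (IsScalarTower.toAlgHom k S R) (AlgHom.id k A) (HopfRep.Comod.coact (k := k) (A := A) s)))
    (S₀ : Type u) [CommRing S₀] [Algebra k S₀] [Algebra S₀ S] [IsScalarTower k S₀ S]
    (hS₀i : Function.Injective (algebraMap S₀ S)) (hS₀ : (IsScalarTower.toAlgHom k S₀ S).range = GLin.invariants k A S)
    (R₀ : Type u) [CommRing R₀] [Algebra k R₀] [Algebra R₀ R] [IsScalarTower k R₀ R]
    (hR₀i : Function.Injective (algebraMap R₀ R)) (hR₀ : (IsScalarTower.toAlgHom k R₀ R).range = GLin.invariants k A R)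
    [Algebra S₀ R₀] [Algebra S₀ R] [IsScalarTower S₀ S R] [IsScalarTower S₀ R₀ R]
    (het₀ : Algebra.Etale S₀ R₀)
    (hcart : Function.Bijective (Algebra.TensorProduct.productMap (IsScalarTower.toAlgHom S₀ S R) (IsScalarTower.toAlgHom S₀ R₀ R))) :
    Algebra.Etale S R ∧
      ∀ x : R →ₐ[k] k,
        (∀ g : A →ₐ[k] k, GLin.actPt k g (x.comp (IsScalarTower.toAlgHom k S R)) = x.comp (IsScalarTower.toAlgHom k S R) →
          GLin.actPt k g x = x) ∧
        (GLin.IsClosedOrbit k A x ↔ GLin.IsClosedOrbit k A (x.comp (IsScalarTower.toAlgHom k S R))) := by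
  let pm := Algebra.TensorProduct.productMap (IsScalarTower.toAlgHom S₀ S R) (IsScalarTower.toAlgHom S₀ R₀ R)
  have hpm : ∀ s : S, pm (algebraMap S (S ⊗[S₀] R₀) s) = algebraMap S R s := fun s => by
    simp [pm, Algebra.TensorProduct.algebraMap_apply]
  let eS : S ⊗[S₀] R₀ ≃ₐ[S] R := AlgEquiv.ofBijective
    ({ pm.toRingHom with commutes' := hpm } : S ⊗[S₀] R₀ →ₐ[S] R) hcart
  refine ⟨Algebra.Etale.of_equiv eS, fun x => ?_⟩
  let θ : S →ₐ[k] R := IsScalarTower.toAlgHom k S R
  let y := x.comp θ
  have hinvR : ∀ a : R₀, algebraMap R₀ R a ∈ GLin.invariants k A R := fun a => hR₀ ▸ ⟨a, rfl⟩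
  have hinvS : ∀ a : S₀, algebraMap S₀ S a ∈ GLin.invariants k A S := fun a => hS₀ ▸ ⟨a, rfl⟩
  have horbS : ∀ (z : R →ₐ[k] k) (s : S),
      GLin.orbitHom k A z (algebraMap S R s) = GLin.orbitHom k A (z.comp θ) s :=
    fun z s => (GLinFinLib.orbitHom_comp hequiv z s).symm
  have hact : ∀ (g : A →ₐ[k] k), (GLin.actPt k g x).comp θ = GLin.actPt k g y := fun g =>
    AlgHom.ext fun s => congrArg g (horbS x s)
  -- a point is determined by its two restrictions
  have hext : ∀ z z' : R →ₐ[k] k, (∀ s, z (algebraMap S R s) = z' (algebraMap S R s)) →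
      (∀ a, z (algebraMap R₀ R a) = z' (algebraMap R₀ R a)) → z = z' := by
    intro z z' h1 h2
    refine AlgHom.ext fun r => ?_
    obtain ⟨t, rfl⟩ := hcart.2 r
    induction t with
    | zero => simp
    | tmul s a => simp [map_mul, h1, h2]
    | add p q hp hq => simp only [map_add, hp, hq]
  have hfixR : ∀ (g : A →ₐ[k] k) (a : R₀), GLin.actPt k g x (algebraMap R₀ R a) = x (algebraMap R₀ R a) :=
    fun g a => GLinFinLib.eq_on_invariants_actPt g x (hinvR a)
  have hmove : ∀ (g : A →ₐ[k] k) (z : R →ₐ[k] k), GLin.actPt k g y = z.comp θ →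
      (∀ a, z (algebraMap R₀ R a) = x (algebraMap R₀ R a)) → GLin.actPt k g x = z :=
    fun g z h h' => hext _ _ (fun s => (AlgHom.congr_fun (hact g) s).trans (AlgHom.congr_fun h s))
      fun a => (hfixR g a).trans (h' a).symm
  refine ⟨fun g hg => hmove g x hg fun a => rfl, ?_⟩
  rw [GLinFinLib.isClosedOrbit_iff, GLinFinLib.isClosedOrbit_iff]
  constructor
  · intro hx w hw
    -- the point `(w, x)` of the fibre product
    letI : Algebra S₀ k := (y.toRingHom.comp (algebraMap S₀ S)).toAlgebra
    have hwS₀ : ∀ a : S₀, w (algebraMap S₀ S a) = y (algebraMap S₀ S a) := fun a =>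
      GLinFinLib.point_eq_of_inOrbitClosure hw (hinvS a)
    let wA : S →ₐ[S₀] k := { w.toRingHom with commutes' := hwS₀ }
    let xA : R₀ →ₐ[S₀] k :=
      { x.toRingHom.comp (algebraMap R₀ R) with
        commutes' := fun a => by
          show x (algebraMap R₀ R (algebraMap S₀ R₀ a)) = x (algebraMap S R (algebraMap S₀ S a))
          rw [← IsScalarTower.algebraMap_apply, ← IsScalarTower.algebraMap_apply] }
    let e := RingEquiv.ofBijective pm.toRingHom hcart
    let zr : R →+* k := (Algebra.TensorProduct.productMap wA xA).toRingHom.comp e.symm.toRingHom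
    have hzr : ∀ t, zr (pm t) = Algebra.TensorProduct.productMap wA xA t := fun t =>
      congrArg (Algebra.TensorProduct.productMap wA xA) (e.symm_apply_apply t)
    have hzs : ∀ s, zr (algebraMap S R s) = w s := fun s => by
      have : algebraMap S R s = pm (s ⊗ₜ[S₀] 1) := by simp [pm]
      rw [this, hzr]; simp [wA]
    let z : R →ₐ[k] k :=
      { zr with
        commutes' := fun c => by
          show zr (algebraMap k R c) = c
          rw [IsScalarTower.algebraMap_apply k S R, hzs, AlgHom.commutes]; rfl }
    have hz : GLin.InOrbitClosure k A x z := by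
      intro r hr
      obtain ⟨t, rfl⟩ := hcart.2 r
      obtain ⟨s, hs, hs'⟩ : ∃ s : S, GLin.orbitHom k A x (pm t) = GLin.orbitHom k A y s ∧ z (pm t) = w s := by
        clear hr
        induction t with
        | zero => exact ⟨0, by simp, by simp⟩
        | tmul s a =>
          refine ⟨algebraMap k S (x (algebraMap R₀ R a)) * s, ?_, ?_⟩
          · rw [show pm (s ⊗ₜ[S₀] a) = algebraMap S R s * algebraMap R₀ R a by simp [pm], map_mul,
              horbS, GLinFinLib.orbitHom_invariant x (hinvR a), map_mul, AlgHom.commutes, mul_comm]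
          · show zr (pm (s ⊗ₜ[S₀] a)) = _
            rw [hzr, map_mul, AlgHom.commutes]
            simp [wA, xA, mul_comm]
        | add p q hp hq =>
          obtain ⟨s₁, h1, h1'⟩ := hp
          obtain ⟨s₂, h2, h2'⟩ := hq
          exact ⟨s₁ + s₂, by rw [map_add, map_add, h1, h2, map_add], by rw [map_add, map_add, h1', h2', map_add]⟩
      rw [RingHom.mem_ker] at hr ⊢
      exact hs'.trans (hw (hs.symm.trans hr))
    obtain ⟨g, hg⟩ := hx z hz
    refine ⟨g, ?_⟩
    show GLin.actPt k g y = w
    rw [← hact, hg]
    exact AlgHom.ext hzs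
  · intro hy z hz
    have hzy : GLin.InOrbitClosure k A y (z.comp θ) := fun s hs => by
      show z (algebraMap S R s) = 0
      exact hz ((horbS x s).trans hs)
    obtain ⟨g, hg⟩ := hy _ hzy
    exact ⟨g, hmove g z hg fun a => GLinFinLib.point_eq_of_inOrbitClosure hz (hinvR a)⟩

end Groth.Agent.S19412
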