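import Groth.Statements.S19414
import Groth.Agent.WeilLib.Point

set_option autoImplicit false
universe u v
open CategoryTheory AlgebraicGeometry
open WeilCoh

namespace Groth.Agent.S19414

/-- Let H be a Weil cohomology theory with coefficients in a field K of characteristic zero on
nonsingular connected projective varieties over an algebraically closed field k, X such a variety, P
= X × X with its projections p and q, and d : X → P the diagonal (the section of p and of q). For a
closed irreducible subset Z ⊆ X with generic point η and a class α ∈ H^i(X), the cohomological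
correspondence given by the class of the diagonal image d(Z) ⊆ P acts on α as cup product with the
class of Z: q_*(p^*(α) · cl_P(d(Z))) = α · cl_X(Z) in the total cohomology ring of X. The
push-forward q_* (Gysin map, defined through Poincaré duality) is taken on the homogeneous component
of degree i + 2 codim_P(d(Z)) that contains p^*(α) · cl_P(d(Z)). The published statement takes Z to
be a smooth hyperplane section, in which case cup product with cl_X(Z) is the Lefschetz operator L
and the identity says that L is given by an algebraic correspondence; it is stated here for every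
closed irreducible Z, which is what the argument establishes. -/
theorem result (k : Type u) [Field k] [IsAlgClosed k]
    (K : Type v) [Field K] [CharZero K] (T : WeilCoh.Theory k K) (X P : WeilCoh.Var k)
    (p q : P ⟶ X) (hP : WeilCoh.IsProd p q) (d : X ⟶ P) (hdp : d ≫ p = 𝟙 X) (hdq : d ≫ q = 𝟙 X)
    (η : ↥X.obj.left) (i : ℤ) (a : ↥(T.gr X i)) :
    (T.push q (i + 2 * (WeilCoh.codim P.obj.left (WeilCoh.sm d η) : ℤ))
        ⟨T.pull p (a : T.H X) * T.cl P (WeilCoh.sm d η),
          SetLike.mul_mem_graded (T.pull_mem p i a a.2) (T.cl_mem P (WeilCoh.sm d η))⟩ : T.H X) =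
      (a : T.H X) * T.cl X η := by
  have hd := WeilLib.top_prod T hP
  have hc := WeilLib.codim_cast P (WeilCoh.sm d η)
  rw [WeilLib.pdim_section hdp] at hc
  have hc' := WeilLib.codim_cast X η
  refine WeilLib.push_eq T q _ _ ?_ fun b hb => ?_
  · convert WeilLib.mul_mem T a.2 (T.cl_mem X η) using 2
    simp only [WeilLib.top] at hd ⊢; omega
  · show _ = T.tr P (T.pull p (a : T.H X) * T.cl P (WeilCoh.sm d η) * T.pull q b)
    rw [← WeilLib.comm_left_even T (even_two_mul _) (T.cl_mem X η) (a : T.H X),
      ← WeilLib.comm_left_even T (even_two_mul _) (T.cl_mem P (WeilCoh.sm d η))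
        (T.pull p (a : T.H X)), mul_assoc (T.cl P (WeilCoh.sm d η)),
      WeilLib.tr_cl_section_mul T hdp, map_mul (T.pull d), WeilLib.pull_pull, WeilLib.pull_pull, hdp, hdq,
      WeilLib.pull_id_apply, WeilLib.pull_id_apply, ← mul_assoc]

end Groth.Agent.S19414
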