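import Groth.Statements.S19415
import Groth.Agent.WeilLib.Corr
import Mathlib.Order.Interval.Finset.Defs
import Mathlib.Data.Int.Interval

set_option autoImplicit false
universe u v
open CategoryTheory AlgebraicGeometry
open WeilCoh

namespace Groth.Agent.S19415

/-- Let H be a Weil cohomology theory with coefficients in a field K of characteristic zero on
nonsingular connected projective varieties over an algebraically closed field k, X such a variety of
dimension n, P = X × X with its projections p, q, and F : X → X an endomorphism such that the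
characteristic polynomials of F^* on the cohomology groups H^i(X), i ∈ ℤ, are pairwise coprime in
K[T]. Then for every i the i-th Künneth projector of X is given by an algebraic correspondence with
coefficients in K: there is a class u in H^{2n}(P), lying in the K-linear span of the classes of
closed irreducible subsets of P, whose action β ↦ q_*(p^*(β) · u) is the identity on H^i(X) and zero
on H^j(X) for every j ≠ i (push-forward q_* taken on the homogeneous piece of degree j + 2n). The
published statement has rational coefficients, X defined over a finite field and F its Frobenius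
endomorphism, the coprimality of the characteristic polynomials being deduced there from the Riemann
hypothesis over finite fields and from the independence of these polynomials of the cohomology
theory; here that coprimality is the hypothesis and F is any endomorphism. -/
theorem result (k : Type u) [Field k]
    [IsAlgClosed k] (K : Type v) [Field K] [CharZero K] (T : WeilCoh.Theory k K)
    (X P : WeilCoh.Var k) (p q : P ⟶ X) (hP : WeilCoh.IsProd p q) (F : X ⟶ X)
    (hF : ∀ i j : ℤ, i ≠ j → IsCoprime (T.pullDeg F i).charpoly (T.pullDeg F j).charpoly)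
    (i : ℤ) :
    ∃ u : ↥(T.gr P (2 * (WeilCoh.dim X.obj.left : ℤ))),
      (u : T.H P) ∈ Submodule.span K (Set.range (T.cl P)) ∧
        ∀ (j : ℤ) (b : ↥(T.gr X j)),
          (T.push q (j + 2 * (WeilCoh.dim X.obj.left : ℤ))
              ⟨T.pull p (b : T.H X) * (u : T.H P),
                SetLike.mul_mem_graded (T.pull_mem p j b b.2) u.2⟩ : T.H X) =
            if j = i then (b : T.H X) else 0 := by
  classical
  haveI := WeilLib.irreducibleSpace X
  have htop := WeilLib.top_prod T hP
  by_cases hi : 0 ≤ i ∧ i ≤ WeilLib.top X
  swap
  · refine ⟨0, Submodule.zero_mem _, fun j b => ?_⟩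
    change (WeilLib.act T p q (0 : ↥(T.gr P (2 * (WeilCoh.dim X.obj.left : ℤ)))) b : T.H X) = _
    rw [WeilLib.act_zero]
    by_cases hji : j = i
    · subst hji
      simp [WeilLib.eq_zero_of_vanish T b.2 (by omega)]
    · simp [hji]
  have hS : i ∈ Finset.Icc (0 : ℤ) (WeilLib.top X) := Finset.mem_Icc.2 hi
  let ch : ℤ → Polynomial K := fun j => (T.pullDeg F j).charpoly
  obtain ⟨a, c, hac⟩ : IsCoprime (ch i) (∏ j ∈ (Finset.Icc 0 (WeilLib.top X)).erase i, ch j) :=
    IsCoprime.prod_right fun j hj => hF i j (Finset.ne_of_mem_erase hj).symm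
  set R : Polynomial K := c * ∏ j ∈ (Finset.Icc 0 (WeilLib.top X)).erase i, ch j with hR
  have hR1 : Polynomial.aeval (T.pullDeg F i) R = 1 := by
    have h := congrArg (Polynomial.aeval (T.pullDeg F i)) hac
    rwa [map_add, map_mul, LinearMap.aeval_self_charpoly, mul_zero, zero_add, map_one] at h
  have hR0 : ∀ j, j ≠ i → 0 ≤ j → j ≤ WeilLib.top X → Polynomial.aeval (T.pullDeg F j) R = 0 := by
    intro j hj h0 h1
    rw [hR, ← Finset.mul_prod_erase _ _ (Finset.mem_erase.2 ⟨hj, Finset.mem_Icc.2 ⟨h0, h1⟩⟩),
      mul_left_comm, map_mul, LinearMap.aeval_self_charpoly, zero_mul]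
  choose g hgp hgq using fun m : ℕ => WeilLib.exists_lift_prod hP (WeilLib.iter F m) (𝟙 X)
  have hgmem : ∀ m, T.cl P (WeilCoh.sm (g m) (genericPoint ↥X.obj.left)) ∈
      T.gr P (2 * (WeilCoh.dim X.obj.left : ℤ)) := fun m => by
    convert WeilLib.cl_graph_mem T (hgq m) using 2
    simp only [WeilLib.top] at htop; omega
  refine ⟨∑ m ∈ Finset.range (R.natDegree + 1), R.coeff m • ⟨_, hgmem m⟩, ?_, fun j b => ?_⟩
  · simp only [Submodule.coe_sum, Submodule.coe_smul]
    exact Submodule.sum_mem _ fun m _ => Submodule.smul_mem _ _ (Submodule.subset_span ⟨_, rfl⟩)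
  · have key : (WeilLib.act T p q (∑ m ∈ Finset.range (R.natDegree + 1),
        R.coeff m • (⟨_, hgmem m⟩ : ↥(T.gr P (2 * (WeilCoh.dim X.obj.left : ℤ))))) b : T.H X) =
        ((Polynomial.aeval (T.pullDeg F j) R) b : T.H X) := by
      rw [← WeilLib.actLin_apply, map_sum, Polynomial.aeval_eq_sum_range]
      simp only [map_smul, LinearMap.sum_apply, LinearMap.smul_apply, Submodule.coe_sum,
        Submodule.coe_smul, WeilLib.actLin_apply]
      refine Finset.sum_congr rfl fun m _ => congrArg _ ?_
      exact (WeilLib.act_graph T hP (hgp m) (hgq m) _ rfl b).trans (WeilLib.pull_iter T F m b)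
    refine key.trans ?_
    by_cases hji : j = i
    · subst hji
      simp [hR1]
    · rw [if_neg hji]
      by_cases hj : 0 ≤ j ∧ j ≤ WeilLib.top X
      · simp [hR0 j hji hj.1 hj.2]
      · have hb : b = 0 := Subtype.ext (WeilLib.eq_zero_of_vanish T b.2 (by omega))
        simp [hb]

end Groth.Agent.S19415
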