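import Groth.Statements.S19418
import Groth.Agent.WeilLib.Corr

set_option autoImplicit false
universe u v
open CategoryTheory AlgebraicGeometry
open WeilCoh

namespace Groth.Agent.S19418

/-- Key step, cohomological form: let H be a Weil cohomology theory with coefficients in a field K of
characteristic zero on nonsingular connected projective varieties over an algebraically closed field
k, X such a variety of dimension n, P = X × X with projections p, q and the swap automorphism σ (σ p
= q, σ q = p); the identity dim P = 2n is carried as the arithmetic hypothesis hdim. A class u ∈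
H^{2n}(P) acts as a degree-0 correspondence on each H^j(X), 0 ≤ j ≤ 2n, by β ↦ q_*(p^*(β) · u); call
u algebraic when it lies in the K-linear span of the classes of closed irreducible subsets of P, and
let A be the K-subalgebra of ∏_j End_K(H^j(X)) generated by the actions of the algebraic classes in
H^{2n}(P). If u is algebraic and ψ ∘ (action of u) is nilpotent for every ψ ∈ A — that is, the
action of u lies in the Jacobson radical of the finite-dimensional algebra A — then u is numerically
trivial against algebraic classes: Tr_P(u · v) = 0 for every algebraic v ∈ H^{2n}(P). In the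
published argument this is the step showing that the algebra of degree-0 algebraic correspondences
modulo numerical equivalence has zero Jacobson radical, hence is semisimple; it is stated here on
the cohomological side, with the algebra generated by the correspondence actions in place of the
algebra of cycle classes. -/
theorem result (k : Type u) [Field k] [IsAlgClosed k]
    (K : Type v) [Field K] [CharZero K] (T : WeilCoh.Theory k K) (X P : WeilCoh.Var k)
    (p q : P ⟶ X) (hP : WeilCoh.IsProd p q) (σ : P ⟶ P) (hσp : σ ≫ p = q) (hσq : σ ≫ q = p)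
    (hdim : ∀ j : ℤ, j + 2 * (WeilCoh.dim X.obj.left : ℤ) + 2 * (WeilCoh.dim X.obj.left : ℤ) - 2 * (WeilCoh.dim P.obj.left : ℤ) = j)
    (u : ↥(T.gr P (2 * (WeilCoh.dim X.obj.left : ℤ)))) (hu : (u : T.H P) ∈ Submodule.span K (Set.range (T.cl P)))
    (hJ : ∀ ψ ∈ Algebra.adjoin K
          (Set.range (fun w : {w : ↥(T.gr P (2 * (WeilCoh.dim X.obj.left : ℤ))) // (w : T.H P) ∈ Submodule.span K (Set.range (T.cl P))} =>
            fun j : Fin (2 * WeilCoh.dim X.obj.left + 1) =>
              ((LinearEquiv.ofEq (T.gr X (((j : ℕ) : ℤ) + 2 * (WeilCoh.dim X.obj.left : ℤ) + 2 * (WeilCoh.dim X.obj.left : ℤ) - 2 * (WeilCoh.dim P.obj.left : ℤ))) (T.gr X ((j : ℕ) : ℤ)) (congrArg (T.gr X) (hdim ((j : ℕ) : ℤ)))).toLinearMap ∘ₗ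
              ((T.push q (((j : ℕ) : ℤ) + 2 * (WeilCoh.dim X.obj.left : ℤ))) ∘ₗ
                (((LinearMap.mulRight K (w.1 : T.H P)).restrict (p := T.gr P ((j : ℕ) : ℤ))
                    (q := T.gr P (((j : ℕ) : ℤ) + 2 * (WeilCoh.dim X.obj.left : ℤ))) (fun x hx => SetLike.mul_mem_graded hx w.1.2)) ∘ₗ
                  T.pullDeg p ((j : ℕ) : ℤ)))))),
        IsNilpotent (ψ * fun j : Fin (2 * WeilCoh.dim X.obj.left + 1) =>
          ((LinearEquiv.ofEq (T.gr X (((j : ℕ) : ℤ) + 2 * (WeilCoh.dim X.obj.left : ℤ) + 2 * (WeilCoh.dim X.obj.left : ℤ) - 2 * (WeilCoh.dim P.obj.left : ℤ))) (T.gr X ((j : ℕ) : ℤ)) (congrArg (T.gr X) (hdim ((j : ℕ) : ℤ)))).toLinearMap ∘ₗ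
              ((T.push q (((j : ℕ) : ℤ) + 2 * (WeilCoh.dim X.obj.left : ℤ))) ∘ₗ
                (((LinearMap.mulRight K (u : T.H P)).restrict (p := T.gr P ((j : ℕ) : ℤ))
                    (q := T.gr P (((j : ℕ) : ℤ) + 2 * (WeilCoh.dim X.obj.left : ℤ))) (fun x hx => SetLike.mul_mem_graded hx u.2)) ∘ₗ
                  T.pullDeg p ((j : ℕ) : ℤ))))))
    (v : ↥(T.gr P (2 * (WeilCoh.dim X.obj.left : ℤ)))) (hv : (v : T.H P) ∈ Submodule.span K (Set.range (T.cl P))) :
    T.tr P ((u : T.H P) * (v : T.H P)) = 0 := by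
  have htop := WeilLib.top_prod T hP
  have hσσ : σ ≫ σ = 𝟙 P := WeilLib.hom_ext_prod hP
    (by rw [Category.assoc, hσp, hσq, Category.id_comp])
    (by rw [Category.assoc, hσq, hσp, Category.id_comp])
  have h' : WeilCoh.sm σ ≫ WeilCoh.sm σ = 𝟙 P.obj.left :=
    congrArg (fun f : P ⟶ P => WeilCoh.sm f) hσσ
  haveI : IsIso (WeilCoh.sm σ) := ⟨WeilCoh.sm σ, h', h'⟩
  let w : ↥(T.gr P (2 * (WeilCoh.dim X.obj.left : ℤ))) :=
    ⟨T.pull σ (v : T.H P), T.pull_mem σ _ _ v.2⟩
  have hw : (w : T.H P) ∈ Submodule.span K (Set.range (T.cl P)) :=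
    WeilLib.pull_mem_span_cl T σ hv
  have hvw : (v : T.H P) = T.pull σ (w : T.H P) := by
    change (v : T.H P) = T.pull σ (T.pull σ (v : T.H P))
    rw [WeilLib.pull_pull, hσσ, WeilLib.pull_id_apply]
  rw [hvw, WeilLib.tr_mul_swap T hP hP hσp hσq
    (by simp only [WeilLib.top] at htop ⊢; omega) u w]
  have hnil := hJ _ (Algebra.subset_adjoin ⟨⟨w, hw⟩, rfl⟩)
  refine Finset.sum_eq_zero fun i hi => mul_eq_zero_of_right _ ?_
  obtain ⟨N, hN⟩ := hnil
  have hcomp := congrFun hN ⟨i, Finset.mem_range.1 hi⟩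
  have htr := LinearMap.isNilpotent_trace_of_isNilpotent (R := K) ⟨N, hcomp⟩
  rw [isNilpotent_iff_eq_zero, WeilLib.trace_eq_sum] at htr
  refine Eq.trans (Finset.sum_congr rfl fun l _ => ?_) htr
  congr 2
  exact WeilLib.act_congr T p q (hdim (i : ℤ)) _ _ _ rfl

end Groth.Agent.S19418
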