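import Groth.Statements.S19419
import Groth.Agent.P1InterLib.FibreProd
import Groth.Agent.CycBivLib.Square
import Groth.Agent.CycExtProdLib.Basic
import Groth.Agent.CycGysLib.Divisor
import Groth.Agent.CycC1Lib.Degree

set_option autoImplicit false
set_option backward.isDefEq.respectTransparency false
set_option backward.isDefEq.respectTransparency.types false
universe u
open CategoryTheory CategoryTheory.Limits AlgebraicGeometry
open Cyc

namespace Groth.Agent.S19419

/-- Let X be a smooth proper integral curve over an algebraically closed field k, with generic point η,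
and ψ : X → X a flat endomorphism over k. Let Y = X ×_k X with its two projections, m = ψ × id : Y →
Y (first projection intertwines ψ, second projection unchanged), d : X → Y the diagonal and g = (id,
ψ) : X → Y the graph of ψ. For the dimension function δ on Y induced from weight 0 on Spec k, the
flat pull-back of cycles along m in relative dimension 0 takes the diagonal divisor [Δ], the cycle
equal to 1 at d(η) and 0 elsewhere, to the graph divisor [Γ_ψ], the cycle equal to 1 at g(η) and 0
elsewhere: (ψ × id)^*[Δ] = [Γ_ψ]. The published statement allows any endomorphism ψ and reads the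
pull-back on divisors; flatness of ψ is what the flat pull-back of cycles requires (the intended
case is the Frobenius endomorphism), and iterating gives [Γ_{ψ^n}] = ((ψ × id)^*)^n [Δ]. -/
theorem result (k : Type u) [Field k]
    [IsAlgClosed k] (X : Scheme.{u}) (f : X ⟶ Spec (CommRingCat.of k)) [Smooth f] [IsProper f]
    [IsIntegral X] (hdim : topologicalKrullDim ↥X = 1) (ψ : X ⟶ X) (hψ : ψ ≫ f = f) [Flat ψ]
    (m : pullback f f ⟶ pullback f f) (hm₁ : m ≫ pullback.fst f f = pullback.fst f f ≫ ψ)
    (hm₂ : m ≫ pullback.snd f f = pullback.snd f f) (g : X ⟶ pullback f f)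
    (hg₁ : g ≫ pullback.fst f f = 𝟙 X) (hg₂ : g ≫ pullback.snd f f = ψ)
    (δ : ↥(pullback f f) → ℤ) (hδ : Cyc.DeltaCompat (pullback.fst f f ≫ f) δ (fun _ => 0)) :
    Cyc.pullFun m δ δ 0
        (Set.indicator ({pullback.diagonal f (genericPoint ↥X)} : Set ↥(pullback f f)) (fun _ => (1 : ℤ))) =
      Set.indicator ({g (genericPoint ↥X)} : Set ↥(pullback f f)) (fun _ => (1 : ℤ)) := by
  classical
  let η := genericPoint ↥X
  let d := pullback.diagonal f
  haveI : IsClosedImmersion d := inferInstance
  haveI : IsClosedImmersion g := by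
    haveI : IsClosedImmersion (g ≫ pullback.fst f f) := by rw [hg₁]; infer_instance
    exact IsClosedImmersion.of_comp g (pullback.fst f f)
  have hwd : g ≫ m = ψ ≫ d := by
    apply pullback.hom_ext
    · rw [Category.assoc, Category.assoc, hm₁, reassoc_of% hg₁, pullback.diagonal_fst, Category.comp_id]
    · rw [Category.assoc, Category.assoc, hm₂, hg₂, pullback.diagonal_snd, Category.comp_id]
  have hsq : IsPullback g ψ m d := by
    refine ⟨⟨hwd⟩, ⟨PullbackCone.isLimitAux' _ fun s => ⟨s.fst ≫ pullback.fst f f, ?_, ?_, fun {t} h1 h2 => ?_⟩⟩⟩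
    · show (s.fst ≫ pullback.fst f f) ≫ g = s.fst
      apply pullback.hom_ext
      · rw [Category.assoc, hg₁, Category.comp_id]
      · have h1 := s.condition =≫ pullback.fst f f
        have h2 := s.condition =≫ pullback.snd f f
        simp only [d, Category.assoc, hm₁, hm₂, pullback.diagonal_fst, pullback.diagonal_snd, Category.comp_id] at h1 h2
        rw [Category.assoc, hg₂, Category.assoc, h1, h2]
    · have h1 := s.condition =≫ pullback.fst f f
      simp only [d, Category.assoc, hm₁, pullback.diagonal_fst, Category.comp_id] at h1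
      show (s.fst ≫ pullback.fst f f) ≫ ψ = s.snd
      rw [Category.assoc, h1]
    · have h1' : t ≫ g = s.fst := h1
      show t = s.fst ≫ pullback.fst f f
      rw [← h1', Category.assoc, hg₁]
      exact (Category.comp_id t).symm
  have hψη : ψ η = η := by
    obtain ⟨u, hu, hu'⟩ := Flat.generalizingMap ψ ((genericPoint_spec X).specializes (y := ψ η) trivial)
    rwa [(hu.antisymm ((genericPoint_spec X).specializes trivial)).eq] at hu'
  have hmgη : m (g η) = d η := by rw [← Scheme.Hom.comp_apply, hwd, Scheme.Hom.comp_apply, hψη]
  -- the dimension function on the graph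
  have hfib : ∀ z, m z = d η → ∃ x, g x = z := fun z hz => by
    obtain ⟨p, hp, -⟩ := Scheme.Pullback.exists_preimage_pullback (f := m) (g := d) z η hz
    exact ⟨hsq.isoPullback.inv p, by rw [← Scheme.Hom.comp_apply, hsq.isoPullback_inv_fst]; exact hp⟩
  have hgf : Cyc.DeltaCompat f (fun x => δ (g x)) (fun _ => 0) := by
    have h := CycGysLib.deltaCompat_comp_closedImmersion (pullback.fst f f ≫ f) g hδ
    rwa [← Category.assoc, hg₁, Category.id_comp] at h
  have hdf : Cyc.DeltaCompat f (fun x => δ (d x)) (fun _ => 0) := by
    have h := CycGysLib.deltaCompat_comp_closedImmersion (pullback.fst f f ≫ f) d hδ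
    rwa [← Category.assoc, pullback.diagonal_fst, Category.id_comp] at h
  have heq : ∀ x, δ (g x) = δ (d x) := fun x => by
    obtain ⟨a, ha, ha'⟩ := hgf x
    obtain ⟨b, hb, hb'⟩ := hdf x
    have hab : a = b := by exact_mod_cast ha.symm.trans hb
    simp only at ha' hb'
    omega
  haveI : IsLocallyNoetherian (Spec (CommRingCat.of k)) := inferInstance
  haveI : IsLocallyNoetherian X := LocallyOfFiniteType.isLocallyNoetherian f
  have hsetup : Cyc.IsSetup X (fun x => δ (g x)) := CycBivLib.isSetup_of_lft f CycC1Lib.isSetup_field hgf
  funext z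
  simp only [Cyc.pullFun, add_zero]
  by_cases hz : z = g η
  · subst hz
    rw [Set.indicator_of_mem (Set.mem_singleton (g η)),
      if_pos (show δ (g η) = δ (m (g η)) by rw [hmgη]; exact heq η),
      Set.indicator_of_mem (show m (g η) ∈ ({d η} : Set _) from hmgη), one_mul]
    have hI : Ideal.map (m.stalkMap (g η)).hom (IsLocalRing.maximalIdeal _) =
        IsLocalRing.maximalIdeal ((pullback f f).presheaf.stalk (g η)) := by
      have hker : g.ker = (IntMult.ptIdeal (d η)).comap m := by
        rw [← P1InterLib.ker_eq_ptIdeal d, ← hsq.isoPullback_hom_fst, Scheme.Hom.ker_comp_of_isIso,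
          Scheme.IdealSheafData.ker_fst_of_isClosedImmersion]
      have h1 := congrArg (fun I => IntMult.stalkIdeal I (g η)) hker
      simp only [DivDescLib.stalkIdeal_comap] at h1
      have hm' : ∀ y, y = d η → IntMult.stalkIdeal (IntMult.ptIdeal (d η)) y =
          IsLocalRing.maximalIdeal ((pullback f f).presheaf.stalk y) := by
        rintro y rfl
        exact DiagTorLib.stalkIdeal_ptIdeal_self _
      rw [hm' _ hmgη] at h1
      rw [← h1, P1InterLib.ker_eq_ptIdeal g, DiagTorLib.stalkIdeal_ptIdeal_self]
    rw [hI, show (1 : ℤ) = ((1 : ℕ∞).toNat : ℤ) by simp]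
    congr 2
    rw [Module.length_eq_one_iff, isSimpleModule_iff_isCoatom]
    exact (IsLocalRing.maximalIdeal.isMaximal _).out
  · rw [Set.indicator_of_notMem (show z ∉ ({g η} : Set _) from hz)]
    split_ifs with h
    swap
    · rfl
    by_cases hmz : m z = d η
    · obtain ⟨x, rfl⟩ := hfib z hmz
      exfalso
      rw [hmz, ← heq η] at h
      have hne : η ≠ x := fun e => hz (by rw [e])
      have := (hsetup.2.2 _ _ ((genericPoint_spec X).specializes trivial) hne).1
      simp only [η] at *
      omega
    · rw [Set.indicator_of_notMem (show m z ∉ ({d η} : Set _) from hmz), zero_mul]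

end Groth.Agent.S19419
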