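import Groth.Statements.S19420
import Groth.Agent.FormStabLib.Semistable
import Groth.Agent.FormStabLib.Hessian

set_option autoImplicit false
universe u
open TensorProduct LaurentPolynomial
open GIT

namespace Groth.Agent.S19420

/-- Let k be an algebraically closed field of characteristic zero and let SL_3 act by substitution on
ternary cubic forms, the point a having the form F = Σ_m (3; m) a_m x^m. Then a is semistable (some
invariant homogeneous polynomial of positive degree in the coefficients is non-zero at a) if and
only if at every non-zero vector w where all first partial derivatives of F vanish, the matrix of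
second partial derivatives of F at w has rank 2: every singular point of the plane cubic F = 0 is a
double point with two distinct tangent lines. (The published statement assumes only that the
characteristic of k is neither 2 nor 3; it is stated here in characteristic zero.) -/
theorem result (k : Type u) [Field k] [IsAlgClosed k] [CharZero k]
    (a : CoordGrp.FormIdx 3 3 → k) :
    @GLin.IsSemistableVec k _ (CoordGrp.SLn 3 k) _ _ (CoordGrp.FormIdx 3 3) (GLin.comodAlong ((CoordGrp.SLn.mkHom 3 k).comp (CoordGrp.Mat.toGLn 3 k)) (CoordGrp.formsCoact k 3 3))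
      (GLin.isCoactAlg_comodAlong ((CoordGrp.SLn.mkHom 3 k).comp (CoordGrp.Mat.toGLn 3 k)) (CoordGrp.formsCoact k 3 3)
        (CoordGrp.formsCoact_isCoactAlg k 3 3))
      a ↔
      ∀ w : Fin 3 → k, w ≠ 0 →
        (∀ i : Fin 3, MvPolynomial.eval w (MvPolynomial.pderiv i (CoordGrp.formPoly a)) = 0) →
          (Matrix.of fun i j : Fin 3 =>
            MvPolynomial.eval w (MvPolynomial.pderiv i (MvPolynomial.pderiv j (CoordGrp.formPoly a)))).rank = 2 := by
  classical
  set F := CoordGrp.formPoly a with hFdef
  have hF : F.IsHomogeneous 3 := FormStabLib.formPoly_isHomogeneous _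
  constructor
  · intro hst v hv hgrad
    by_contra hrank
    change (FormStabLib.hess F v).rank ≠ 2 at hrank
    set H := FormStabLib.hess F v with hH
    have hHv : H.mulVec v = 0 := funext fun i => by
      have h1 : (MvPolynomial.pderiv i F).IsHomogeneous 2 := hF.pderiv
      have h2 := congrArg (MvPolynomial.eval v) h1.sum_X_mul_pderiv
      have hsym : ∀ j, MvPolynomial.pderiv j (MvPolynomial.pderiv i F) = MvPolynomial.pderiv i (MvPolynomial.pderiv j F) := by
        intro j
        ext e
        simp only [MvPolynomial.coeff_pderiv]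
        rcases eq_or_ne i j with rfl | hij
        · rfl
        · simp only [Finsupp.add_apply, Finsupp.single_eq_of_ne hij, Finsupp.single_eq_of_ne (Ne.symm hij), add_zero,
            add_right_comm e (Finsupp.single i 1) (Finsupp.single j 1)]
          ring
      simp only [map_sum, map_mul, MvPolynomial.eval_X, map_nsmul, hgrad, smul_zero, hsym] at h2
      simp only [hH, FormStabLib.hess, Matrix.mulVec, dotProduct, Matrix.of_apply, Pi.zero_apply]
      rw [← h2]
      exact Finset.sum_congr rfl fun j _ => mul_comm _ _
    let L := H.mulVecLin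
    have hker : 2 ≤ Module.finrank k (LinearMap.ker L) := by
      have := L.finrank_range_add_finrank_ker
      rw [Module.finrank_fin_fun] at this
      have hr : Module.finrank k (LinearMap.range L) = H.rank := rfl
      have hpos : 0 < Module.finrank k (LinearMap.ker L) :=
        Module.finrank_pos_iff_exists_ne_zero.2 ⟨⟨v, hHv⟩, fun h => hv (congrArg Subtype.val h)⟩
      omega
    obtain ⟨u, hu, huv⟩ : ∃ u ∈ LinearMap.ker L, u ∉ Submodule.span k {v} := by
      by_contra hcon
      push Not at hcon
      have := (Submodule.finrank_mono (fun u hu => hcon u hu : LinearMap.ker L ≤ Submodule.span k {v}))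
      rw [finrank_span_singleton hv] at this
      omega
    have hli : LinearIndependent k ![v, u] := by
      rw [linearIndependent_fin2]
      refine ⟨fun h => huv (by simp at h; rw [h]; exact zero_mem _), fun c hc => ?_⟩
      simp at hc
      refine huv (Submodule.mem_span_singleton.2 ⟨c⁻¹, ?_⟩)
      have hc0 : c ≠ 0 := fun h => hv (by rw [← hc, h, zero_smul])
      rw [← hc, smul_smul, inv_mul_cancel₀ hc0, one_smul]
    obtain ⟨M, hM, hcol⟩ := FormStabLib.exists_completion ![v, u] hli (by norm_num : 2 < 3)
    have hc0 : M.col 0 = v := hcol 0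
    have hc1 : M.col 1 = u := hcol 1
    have hG := FormStabLib.isHomogeneous_sub M hF
    set G := FormStabLib.sub M F with hGdef
    have hcoef1 : ∀ j : Fin 3, G.coeff (Finsupp.single 0 2 + Finsupp.single j 1) = 0 := by
      intro j
      have h1 := FormStabLib.eval_single_pderiv hG (by norm_num : 1 ≤ 3) 0 j
      rw [hGdef, FormStabLib.eval_single_sub_pderiv, hc0] at h1
      simp only [hgrad, mul_zero, Finset.sum_const_zero] at h1
      rcases mul_eq_zero.1 h1.symm with h2 | h2
      · exact absurd (Nat.cast_eq_zero.1 h2) (by split_ifs <;> norm_num)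
      · exact h2
    have hz1 : ∀ j, MvPolynomial.eval (Pi.single 0 1) (MvPolynomial.pderiv j (MvPolynomial.pderiv 1 G)) = 0 := by
      intro j
      change FormStabLib.hess G (Pi.single 0 1) j 1 = 0
      rw [hGdef, FormStabLib.hess_sub, Matrix.mulVec_single_one, hc0, ← hH]
      have : (M.transpose * H * M).col 1 = 0 := by
        rw [← Matrix.mulVec_single_one, ← Matrix.mulVec_mulVec, ← Matrix.mulVec_mulVec, Matrix.mulVec_single_one, hc1]
        rw [show H.mulVec u = 0 from hu, Matrix.mulVec_zero]
      exact congrFun this j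
    have hcoef2 : ∀ j : Fin 3, G.coeff (Finsupp.single 0 1 + Finsupp.single 1 1 + Finsupp.single j 1) = 0 := by
      intro j
      have h1 := FormStabLib.eval_single_pderiv (G := MvPolynomial.pderiv 1 G) (m := 2) hG.pderiv (by norm_num) 0 j
      rw [hz1] at h1
      rcases mul_eq_zero.1 h1.symm with h2 | h2
      · exact absurd (Nat.cast_eq_zero.1 h2) (by split_ifs <;> norm_num)
      · rw [MvPolynomial.coeff_pderiv] at h2
        rcases mul_eq_zero.1 h2 with h3 | h3
        · rw [add_right_comm]; exact h3
        · exact absurd h3 (Nat.cast_add_one_ne_zero _)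
    refine FormStabLib.not_isSemistableVec_of_weights (k := k) a M hM ![3, -1, -2]
      (by simp [Fin.sum_univ_three]) (fun e he => ?_) hst
    have hd := FormStabLib.degree_of_mem_support hF M he
    rw [Fin.sum_univ_three] at hd
    simp [Fin.sum_univ_three]
    by_contra hlt
    apply MvPolynomial.mem_support_iff.1 he
    by_cases he0 : 2 ≤ e 0
    · obtain ⟨j, hj⟩ : ∃ j : Fin 3, ∀ l, e l = (if l = 0 then 2 else 0) + (if l = j then 1 else 0) := by
        rcases (by omega : e 0 = 3 ∨ e 1 = 1 ∨ e 2 = 1) with h | h | h
        · exact ⟨0, fun l => by fin_cases l <;> simp <;> omega⟩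
        · exact ⟨1, fun l => by fin_cases l <;> simp <;> omega⟩
        · exact ⟨2, fun l => by fin_cases l <;> simp <;> omega⟩
      convert hcoef1 j using 2
      ext l; rw [hj]; simp [Finsupp.single_apply, eq_comm]
    · obtain ⟨j, hj⟩ : ∃ j : Fin 3, ∀ l, e l = (if l = 0 then 1 else 0) + (if l = 1 then 1 else 0) + (if l = j then 1 else 0) := by
        rcases (by omega : e 1 = 2 ∨ e 2 = 1) with h | h
        · exact ⟨1, fun l => by fin_cases l <;> simp <;> omega⟩
        · exact ⟨2, fun l => by fin_cases l <;> simp <;> omega⟩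
      convert hcoef2 j using 2
      ext l; rw [hj]; simp [Finsupp.single_apply, eq_comm]
  · intro h
    refine FormStabLib.isSemistableVec_of_noUnstab (by norm_num) _
      (FormStabLib.noUnstab_of_sorted (by norm_num) fun M hM Γ _ w hanti hprod hw => ?_)
    rw [Fin.prod_univ_three] at hprod
    have h01 : w 1 ≤ w 0 := hanti (by decide)
    have h12 : w 2 ≤ w 1 := hanti (by decide)
    have hA : 1 ≤ w 0 := by
      by_contra hA
      rw [not_le] at hA
      have h2 := h12.trans_lt (h01.trans_lt hA)
      have h3 := (mul_le_of_le_one_left' (mul_le_one' hA.le (h01.trans hA.le)) : w 0 * w 1 * w 2 ≤ w 2).trans_lt h2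
      rw [hprod] at h3
      exact lt_irrefl _ h3
    set G := FormStabLib.sub M F with hGdef
    have hzero : ∀ e ∈ G.support, ¬ (2 ≤ e 0 ∨ (1 ≤ e 0 ∧ 1 ≤ e 1)) := by
      intro e he hc
      have hd := FormStabLib.degree_of_mem_support hF M he
      rw [Fin.sum_univ_three] at hd
      have hh := hw e he
      rw [Fin.prod_univ_three] at hh
      refine absurd hh (not_lt.2 ?_)
      rcases (by omega : (e 0 = 3 ∧ e 1 = 0 ∧ e 2 = 0) ∨ (e 0 = 2 ∧ e 1 = 1 ∧ e 2 = 0) ∨ (e 0 = 2 ∧ e 1 = 0 ∧ e 2 = 1) ∨
          (e 0 = 1 ∧ e 1 = 2 ∧ e 2 = 0) ∨ (e 0 = 1 ∧ e 1 = 1 ∧ e 2 = 1))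
        with ⟨p, q, t⟩ | ⟨p, q, t⟩ | ⟨p, q, t⟩ | ⟨p, q, t⟩ | ⟨p, q, t⟩ <;> simp only [p, q, t, pow_one, pow_zero, mul_one]
      · exact one_le_pow_of_one_le' hA 3
      · calc (1 : Γ) = w 0 * w 1 * w 2 := hprod.symm
          _ ≤ w 0 * w 1 * w 0 := mul_le_mul' le_rfl (h12.trans h01)
          _ = w 0 ^ 2 * w 1 := by rw [pow_two, mul_right_comm]
      · calc (1 : Γ) = w 0 * w 1 * w 2 := hprod.symm
          _ ≤ w 0 * w 0 * w 2 := mul_le_mul' (mul_le_mul' le_rfl h01) le_rfl
          _ = w 0 ^ 2 * w 2 := by rw [pow_two]
      · calc (1 : Γ) = w 0 * w 1 * w 2 := hprod.symm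
          _ ≤ w 0 * w 1 * w 1 := mul_le_mul' le_rfl h12
          _ = w 0 * w 1 ^ 2 := by rw [pow_two, mul_assoc]
      · exact hprod.ge
    have hgrad : ∀ j, MvPolynomial.eval (Pi.single 0 1) (MvPolynomial.pderiv j G) = 0 := fun j => by
      refine FormStabLib.eval_pderiv_eq_zero G _ j fun e he hej => ?_
      have hd := FormStabLib.degree_of_mem_support hF M he
      rw [Fin.sum_univ_three] at hd
      have := hzero e he
      by_contra hcon
      push Not at hcon
      have c1 := hcon 1 (by simp)
      have c2 := hcon 2 (by simp)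
      fin_cases j <;> simp at c1 c2 hej <;> omega
    have hcols : ∀ i j : Fin 3, i ≠ 2 ∨ j ≠ 2 → FormStabLib.hess G (Pi.single 0 1) i j = 0 := fun i j hij => by
      refine FormStabLib.eval_pderiv2_eq_zero G _ i j fun e he hej hei => ?_
      have hd := FormStabLib.degree_of_mem_support hF M he
      rw [Fin.sum_univ_three] at hd
      have := hzero e he
      by_contra hcon
      push Not at hcon
      have c1 := hcon 1 (by simp)
      have c2 := hcon 2 (by simp)
      fin_cases i <;> fin_cases j <;> simp at c1 c2 hej hei hij <;> omega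
    have hz : M.mulVec (Pi.single 0 1) ≠ 0 := fun h0 => by
      have h' := congrArg M.adjugate.mulVec h0
      rw [Matrix.mulVec_mulVec, Matrix.adjugate_mul, hM, one_smul, Matrix.one_mulVec, Matrix.mulVec_zero] at h'
      simpa using congrFun h' 0
    have hg : ∀ i, MvPolynomial.eval (M.mulVec (Pi.single 0 1)) (MvPolynomial.pderiv i F) = 0 := by
      have h1 : Matrix.vecMul (fun i => MvPolynomial.eval (M.mulVec (Pi.single 0 1)) (MvPolynomial.pderiv i F)) M = 0 :=
        funext fun j => by
          have := hgrad j
          rw [hGdef, FormStabLib.pderiv_sub, map_sum] at this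
          simp only [map_mul, MvPolynomial.eval_C, FormStabLib.eval_sub] at this
          rw [Pi.zero_apply, ← this]
          simp only [Matrix.vecMul, dotProduct]
          exact Finset.sum_congr rfl fun i _ => mul_comm _ _
      have h2 := congrArg (fun x => Matrix.vecMul x M.adjugate) h1
      simp only [Matrix.vecMul_vecMul, Matrix.mul_adjugate, hM, one_smul, Matrix.vecMul_one, Matrix.zero_vecMul] at h2
      exact fun i => congrFun h2 i
    have hr : (FormStabLib.hess F (M.mulVec (Pi.single 0 1))).rank = 2 := h _ hz hg
    rw [← FormStabLib.rank_hess_sub hM, ← hGdef] at hr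
    generalize FormStabLib.hess G (Pi.single 0 1) = H at hr hcols
    have h1 : H.rank ≤ 1 := by
      rw [Matrix.rank_eq_finrank_span_cols]
      refine le_trans (Submodule.finrank_mono (?_ : _ ≤ Submodule.span k {(Pi.single 2 1 : Fin 3 → k)})) ?_
      · rw [Submodule.span_le]
        rintro _ ⟨j, rfl⟩
        rw [SetLike.mem_coe, Submodule.mem_span_singleton]
        refine ⟨H 2 j, funext fun i => ?_⟩
        fin_cases i <;> simp [Matrix.col, hcols]
      · rw [finrank_span_singleton (fun h0 => by simpa using congrFun h0 2)]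
    omega

end Groth.Agent.S19420
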