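import Groth.Statements.S19421
import Groth.Agent.FormStabLib.Singular

set_option autoImplicit false
universe u
open TensorProduct LaurentPolynomial
open GIT

namespace Groth.Agent.S19421

/-- Let k be an algebraically closed field of characteristic zero and let SL_3 act by substitution on
ternary cubic forms, the point a having the form F = Σ_m (3; m) a_m x^m. Then a is stable (its orbit
is closed and its stabiliser finite) if and only if the plane cubic curve F = 0 is smooth: at every
non-zero vector some first partial derivative of F is non-zero. (The published statement assumes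
only that the characteristic of k is neither 2 nor 3; it is stated here in characteristic zero.) -/
theorem result (k : Type u) [Field k] [IsAlgClosed k] [CharZero k]
    (a : CoordGrp.FormIdx 3 3 → k) :
    @GLin.IsStableVec k _ (CoordGrp.SLn 3 k) _ _ (CoordGrp.FormIdx 3 3) (GLin.comodAlong ((CoordGrp.SLn.mkHom 3 k).comp (CoordGrp.Mat.toGLn 3 k)) (CoordGrp.formsCoact k 3 3))
      (GLin.isCoactAlg_comodAlong ((CoordGrp.SLn.mkHom 3 k).comp (CoordGrp.Mat.toGLn 3 k)) (CoordGrp.formsCoact k 3 3)
        (CoordGrp.formsCoact_isCoactAlg k 3 3))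
      a ↔
      ∀ w : Fin 3 → k, w ≠ 0 →
        ∃ i : Fin 3, MvPolynomial.eval w (MvPolynomial.pderiv i (CoordGrp.formPoly a)) ≠ 0 := by
  classical
  refine ⟨fun hst w hw => ?_, fun h => FormStabLib.isStableVec le_rfl a h⟩
  by_contra hcon
  push Not at hcon
  obtain ⟨M, hM, hcol⟩ := FormStabLib.exists_completion (N := 3) (fun _ : Fin 1 => w)
    (linearIndependent_unique_iff.2 hw) (by norm_num)
  have h0 : M.col 0 = w := hcol 0
  refine FormStabLib.not_isStableVec_of_weights (k := k) FormStabLib.multinomial_ne_zero a M hM ![2, -1, -1]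
    (by simp [Fin.sum_univ_three]) (fun h => by simpa using congrFun h 0) (fun e he => ?_) hst
  have hd := FormStabLib.degree_of_mem_support (FormStabLib.formPoly_isHomogeneous a) M he
  rw [Fin.sum_univ_three] at hd
  simp [Fin.sum_univ_three]
  by_contra hpos
  obtain ⟨j, rfl⟩ : ∃ j : Fin 3, e = Finsupp.single 0 2 + Finsupp.single j 1 := by
    rcases Nat.lt_or_ge (e 0) 3 with h3 | h3
    · rcases Nat.eq_zero_or_pos (e 1) with h1 | h1
      · refine ⟨2, Finsupp.ext fun l => ?_⟩
        fin_cases l <;> simp [Finsupp.single_apply] <;> omega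
      · refine ⟨1, Finsupp.ext fun l => ?_⟩
        fin_cases l <;> simp [Finsupp.single_apply] <;> omega
    · refine ⟨0, Finsupp.ext fun l => ?_⟩
      fin_cases l <;> simp [Finsupp.single_apply] <;> omega
  have h1 := FormStabLib.eval_single_pderiv (FormStabLib.isHomogeneous_sub M (FormStabLib.formPoly_isHomogeneous a))
    (by norm_num : 1 ≤ 3) 0 j
  rw [FormStabLib.eval_single_sub_pderiv, h0] at h1
  simp only [hcon, mul_zero, Finset.sum_const_zero] at h1
  refine MvPolynomial.mem_support_iff.1 he ?_
  rcases mul_eq_zero.1 h1.symm with h2 | h2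
  · exact absurd (Nat.cast_eq_zero.1 h2) (by split_ifs <;> norm_num)
  · exact h2

end Groth.Agent.S19421
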