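import Groth.Statements.S19422
import Mathlib


-- import your own Groth.Agent.* helpers here

set_option autoImplicit false
universe u
open TensorProduct LaurentPolynomial
open GIT

namespace Groth.Agent.S19422

/-- Over an algebraically closed field k, let the multiplicative group, whose coordinate Hopf algebra is
the Laurent polynomial ring, act diagonally on affine ι-space, ι finite: the coaction on the
polynomial ring is multiplicative and sends the coordinate function X_i to X_i ⊗ T^(r_i) for
integers r_i. Then a vector v is semistable (some invariant homogeneous polynomial of positive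
degree does not vanish at v) if and only if there are indices i and j, possibly equal, with v_i ≠ 0,
v_j ≠ 0 and r_i ≤ 0 ≤ r_j, i.e. the origin lies in the convex hull of the weights of v. (Stated for
the ambient projective space on its affine cone; the published statement is for a point of a closed
invariant subvariety, whose semistability is that of the point in the ambient space.) -/
theorem result (k : Type u) [Field k] [IsAlgClosed k]
    (ι : Type u) [Fintype ι] [HopfRep.Comod k k[T;T⁻¹] (MvPolynomial ι k)] [GLin.IsCoactAlg k k[T;T⁻¹] (MvPolynomial ι k)]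
    (r : ι → ℤ)
    (hr : ∀ i : ι, HopfRep.Comod.coact (k := k) (A := k[T;T⁻¹]) (MvPolynomial.X i : MvPolynomial ι k) =
      (MvPolynomial.X i : MvPolynomial ι k) ⊗ₜ[k] (T (r i) : k[T;T⁻¹]))
    (v : ι → k) :
    GLin.IsSemistableVec k k[T;T⁻¹] v ↔ ∃ i j : ι, v i ≠ 0 ∧ v j ≠ 0 ∧ r i ≤ 0 ∧ 0 ≤ r j := by
  open scoped TensorProduct in
  open LaurentPolynomial in
  classical
  let w : (ι →₀ ℕ) → ℤ := fun d => ∑ i, (d i : ℤ) * r i
  have hT : ∀ (z : ℤ) (n : ℕ), (T z : k[T;T⁻¹]) ^ n = T ((n : ℤ) * z) := fun z n => T_pow z n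
  have hmono : ∀ (d : ι →₀ ℕ) (a : k), GLin.coactAlgHom k k[T;T⁻¹] (MvPolynomial ι k) (MvPolynomial.monomial d a) =
      MvPolynomial.monomial d a ⊗ₜ[k] (T (w d) : k[T;T⁻¹]) := by
    intro d a
    have hX : ∀ i, GLin.coactAlgHom k k[T;T⁻¹] (MvPolynomial ι k) (MvPolynomial.X i) =
        (MvPolynomial.X i : MvPolynomial ι k) ⊗ₜ[k] (T (r i) : k[T;T⁻¹]) := hr
    have hprod : ∀ s : Finset ι, ∏ i ∈ s, (T ((d i : ℤ) * r i) : k[T;T⁻¹]) = T (∑ i ∈ s, (d i : ℤ) * r i) := by
      intro s
      induction s using Finset.induction_on with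
      | empty => simp
      | insert x s hx ih => rw [Finset.prod_insert hx, Finset.sum_insert hx, ih, T_add]
    rw [MvPolynomial.monomial_eq, Finsupp.prod_fintype _ _ (fun i => pow_zero _), map_mul, map_prod]
    simp only [map_pow, hX, Algebra.TensorProduct.tmul_pow, hT]
    have hp : ∀ s : Finset ι, ∏ i ∈ s, ((MvPolynomial.X i : MvPolynomial ι k) ^ d i) ⊗ₜ[k] (T ((d i : ℤ) * r i) : k[T;T⁻¹]) =
        (∏ i ∈ s, (MvPolynomial.X i : MvPolynomial ι k) ^ d i) ⊗ₜ[k] (∏ i ∈ s, (T ((d i : ℤ) * r i) : k[T;T⁻¹])) := by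
      intro s
      induction s using Finset.induction_on with
      | empty => simp [Algebra.TensorProduct.one_def]
      | insert x s hx ih => rw [Finset.prod_insert hx, Finset.prod_insert hx, Finset.prod_insert hx, ih,
          Algebra.TensorProduct.tmul_mul_tmul]
    rw [hp, hprod, show MvPolynomial.C a = algebraMap k (MvPolynomial ι k) a from rfl, AlgHom.commutes,
      Algebra.TensorProduct.algebraMap_apply, Algebra.TensorProduct.tmul_mul_tmul, one_mul]
  have hinv : ∀ F ∈ GLin.invariants k k[T;T⁻¹] (MvPolynomial ι k), ∀ d ∈ F.support, w d = 0 := by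
    intro F hF d hd
    by_contra hw
    let L : MvPolynomial ι k ⊗[k] k[T;T⁻¹] →ₗ[k] k :=
      (TensorProduct.lid k k).toLinearMap ∘ₗ TensorProduct.map (MvPolynomial.lcoeff k d)
        ({ toFun := fun p => p.coeff (w d), map_add' := fun _ _ => by simp, map_smul' := fun _ _ => by simp } : k[T;T⁻¹] →ₗ[k] k)
    have h1 := congrArg L ((GLin.mem_invariants_iff k _ _ F).1 hF)
    rw [← GLin.coactAlgHom_apply, F.as_sum, map_sum, map_sum] at h1
    simp [hmono, L, Ne.symm hw, ← T_zero] at h1
    rw [Finset.sum_eq_single d (fun x _ hx => by simp [hx]) (fun h => absurd hd h), if_pos rfl, if_pos rfl] at h1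
    exact MvPolynomial.mem_support_iff.1 hd h1
  constructor
  · intro hs
    simp only [GLin.IsSemistableVec, GLin.IsNullform] at hs
    push Not at hs
    obtain ⟨F, hF, n, hn, hhom, hFv⟩ := hs
    obtain ⟨d, hd, hdv⟩ : ∃ d ∈ F.support, ∏ i, v i ^ d i ≠ 0 := by
      by_contra hno
      push Not at hno
      refine hFv ?_
      rw [MvPolynomial.eval_eq']
      exact Finset.sum_eq_zero fun d hd => by rw [hno d hd, mul_zero]
    have hv : ∀ i, d i ≠ 0 → v i ≠ 0 := fun i hi h0 =>
      hdv (Finset.prod_eq_zero (Finset.mem_univ i) (by rw [h0, zero_pow hi]))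
    have hw0 := hinv F hF d hd
    obtain ⟨i₀, hi₀⟩ : ∃ i, d i ≠ 0 := by
      by_contra hall
      push Not at hall
      have hd0 : d = 0 := Finsupp.ext hall
      have := hhom (MvPolynomial.mem_support_iff.1 hd)
      simp [hd0] at this
      omega
    obtain ⟨i, hi, hri⟩ : ∃ i, d i ≠ 0 ∧ r i ≤ 0 := by
      by_contra hno
      push Not at hno
      have : 0 < w d := Finset.sum_pos' (fun i _ => by
        by_cases h : d i = 0
        · simp [h]
        · exact mul_nonneg (Int.natCast_nonneg _) (hno i h).le)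
        ⟨i₀, Finset.mem_univ _, mul_pos (by omega) (hno i₀ hi₀)⟩
      omega
    obtain ⟨j, hj, hrj⟩ : ∃ j, d j ≠ 0 ∧ 0 ≤ r j := by
      by_contra hno
      push Not at hno
      have : w d < 0 := by
        refine Finset.sum_neg' (fun i _ => ?_) ⟨i₀, Finset.mem_univ _, mul_neg_of_pos_of_neg (by omega) (hno i₀ hi₀)⟩
        by_cases h : d i = 0
        · simp [h]
        · exact mul_nonpos_of_nonneg_of_nonpos (Int.natCast_nonneg _) (hno i h).le
      omega
    exact ⟨i, j, hv i hi, hv j hj, hri, hrj⟩
  · rintro ⟨i, j, hvi, hvj, hri, hrj⟩ hnull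
    have aux : ∀ a b : ℕ, 0 < a + b → (a : ℤ) * r i + (b : ℤ) * r j = 0 → False := by
      intro a b hab hw
      have hmem : (MvPolynomial.X i : MvPolynomial ι k) ^ a * MvPolynomial.X j ^ b ∈ GLin.invariants k k[T;T⁻¹] (MvPolynomial ι k) := by
        rw [GLin.mem_invariants_iff, ← GLin.coactAlgHom_apply, map_mul, map_pow, map_pow, GLin.coactAlgHom_apply,
          GLin.coactAlgHom_apply, hr, hr, Algebra.TensorProduct.tmul_pow, Algebra.TensorProduct.tmul_pow,
          Algebra.TensorProduct.tmul_mul_tmul, hT, hT, ← T_add, hw, T_zero]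
      have h := hnull _ hmem (a + b) hab (((MvPolynomial.isHomogeneous_X k i).pow a).mul ((MvPolynomial.isHomogeneous_X k j).pow b) |> fun h => by simpa using h)
      simp [hvi, hvj] at h
    rcases eq_or_ne (r i) 0 with h | h
    · exact aux 1 0 (by norm_num) (by simp [h])
    · exact aux (r j).toNat (-r i).toNat (by omega) (by rw [Int.toNat_of_nonneg hrj, Int.toNat_of_nonneg (by omega)]; ring)

end Groth.Agent.S19422
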