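import Groth.Statements.S19423
import Groth.Agent.FormStabLib.OrbitFinite

set_option autoImplicit false
universe u
open TensorProduct LaurentPolynomial
open GIT

namespace Groth.Agent.S19423

/-- Over an algebraically closed field k, let the multiplicative group, whose coordinate Hopf algebra is
the Laurent polynomial ring, act diagonally on affine ι-space, ι finite: the coaction on the
polynomial ring is multiplicative and sends the coordinate function X_i to X_i ⊗ T^(r_i) for
integers r_i. Then a vector v is stable (the orbit of the point v of affine space is closed and its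
stabiliser is a finite group scheme) if and only if there are indices i and j with v_i ≠ 0, v_j ≠ 0
and r_i < 0 < r_j, i.e. the origin is an interior point of the convex hull of the weights of v.
(Stated for the ambient projective space on its affine cone, where stability means a closed orbit
with finite stabiliser in the cone.) -/
theorem result (k : Type u) [Field k] [IsAlgClosed k]
    (ι : Type u) [Fintype ι] [HopfRep.Comod k k[T;T⁻¹] (MvPolynomial ι k)] [GLin.IsCoactAlg k k[T;T⁻¹] (MvPolynomial ι k)]
    (r : ι → ℤ)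
    (hr : ∀ i : ι, HopfRep.Comod.coact (k := k) (A := k[T;T⁻¹]) (MvPolynomial.X i : MvPolynomial ι k) =
      (MvPolynomial.X i : MvPolynomial ι k) ⊗ₜ[k] (T (r i) : k[T;T⁻¹]))
    (v : ι → k) :
    GLin.IsStableVec k k[T;T⁻¹] v ↔ ∃ i j : ι, v i ≠ 0 ∧ v j ≠ 0 ∧ r i < 0 ∧ 0 < r j := by
  classical
  set x := GLin.vecPt k ι v with hx
  set φ := GLin.orbitHom k k[T;T⁻¹] x with hφ
  have hφX : ∀ i, φ (MvPolynomial.X i) = v i • (T (r i) : k[T;T⁻¹]) := by
    intro i
    simp only [hφ, GLin.orbitHom, AlgHom.comp_apply, GLin.coactAlgHom_apply, hr]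
    simp [hx]
  constructor
  · rintro ⟨hclosed, hfin⟩
    by_contra hcon
    push Not at hcon
    by_cases hall : ∀ i, v i = 0 ∨ r i = 0
    · have hconst : φ = (Algebra.ofId k k[T;T⁻¹]).comp x := MvPolynomial.algHom_ext fun i => by
        rw [hφX, AlgHom.comp_apply, hx, MvPolynomial.aeval_X]
        rcases hall i with h | h <;> simp [h, Algebra.ofId_apply, Algebra.algebraMap_eq_smul_one]
      have hI : GLin.stabIdeal k k[T;T⁻¹] x = ⊥ := by
        rw [GLin.stabIdeal, ← hφ, Ideal.map_eq_bot_iff_le_ker]
        intro f hf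
        rw [RingHom.mem_ker] at hf ⊢
        rw [hconst, AlgHom.comp_apply, hf, map_zero]
      have hfin' : Module.Finite k (k[T;T⁻¹] ⧸ GLin.stabIdeal k k[T;T⁻¹] x) := hfin
      have hinj : Function.Injective (Ideal.Quotient.mkₐ k (GLin.stabIdeal k k[T;T⁻¹] x)) := by
        rw [injective_iff_map_eq_zero]
        intro f hf
        have := Ideal.Quotient.eq_zero_iff_mem.1 hf
        rwa [hI, Ideal.mem_bot] at this
      have : Module.Finite k k[T;T⁻¹] := Module.Finite.of_injective
        (Ideal.Quotient.mkₐ k (GLin.stabIdeal k k[T;T⁻¹] x)).toLinearMap hinj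
      have : Module.Finite k (Polynomial k) := Module.Finite.of_injective
        (Polynomial.toLaurentAlg (R := k)).toLinearMap Polynomial.toLaurent_injective
      exact Polynomial.not_finite this
    · push Not at hall
      obtain ⟨i₀, hv₀, hr₀⟩ := hall
      obtain ⟨τ, ε, hε, hnn, hT⟩ : ∃ τ : k[T;T⁻¹] ≃ₐ[k] k[T;T⁻¹], ∃ ε : ℤ, (ε = 1 ∨ ε = -1) ∧
          (∀ i, v i ≠ 0 → 0 ≤ ε * r i) ∧ ∀ z : ℤ, τ (T z) = T (ε * z) := by
        rcases lt_or_gt_of_ne hr₀ with h | h
        · refine ⟨LaurentPolynomial.invert, -1, Or.inr rfl, fun i hi => ?_, fun z => by simp⟩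
          have := hcon i₀ i hv₀ hi h
          omega
        · refine ⟨AlgEquiv.refl, 1, Or.inl rfl, fun i hi => ?_, fun z => by simp⟩
          by_contra hneg
          have := hcon i i₀ hi hv₀ (by omega)
          omega
      let P : MvPolynomial ι k →ₐ[k] Polynomial k :=
        MvPolynomial.aeval fun i => Polynomial.C (v i) * Polynomial.X ^ (ε * r i).toNat
      have hP : (Polynomial.toLaurentAlg (R := k)).comp P = τ.toAlgHom.comp φ := MvPolynomial.algHom_ext fun i => by
        rw [AlgHom.comp_apply, AlgHom.comp_apply, hφX, MvPolynomial.aeval_X]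
        rcases eq_or_ne (v i) 0 with h | h
        · simp [h]
        · have hC : τ (LaurentPolynomial.C (v i)) = LaurentPolynomial.C (v i) := τ.commutes (v i)
          simp [hT, hC, Int.toNat_of_nonneg (hnn i h), LaurentPolynomial.smul_eq_C_mul]
      let y : MvPolynomial ι k →ₐ[k] k := (Polynomial.aeval (0 : k)).comp P
      let Y : PrimeSpectrum (MvPolynomial ι k) := ⟨RingHom.ker y.toRingHom, RingHom.ker_isPrime _⟩
      have hY : Y ∈ closure (Set.range (PrimeSpectrum.comap φ.toRingHom)) := by
        rw [PrimeSpectrum.closure_range_comap]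
        intro f hf
        have h1 : P f = 0 := Polynomial.toLaurent_injective (by
          rw [map_zero]
          have := congrArg (fun ψ => ψ f) hP
          simp only [AlgHom.comp_apply] at this
          refine this.trans ?_
          rw [show φ f = 0 from hf, map_zero])
        change y f = 0
        simp [y, h1]
      have hcl : IsClosed (Set.range (PrimeSpectrum.comap φ.toRingHom)) := hclosed
      rw [hcl.closure_eq] at hY
      obtain ⟨Q, hQ⟩ := hY
      have hmem : MvPolynomial.X i₀ ∈ Y.asIdeal := by
        change y (MvPolynomial.X i₀) = 0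
        have hpos : (ε * r i₀).toNat ≠ 0 := by
          have := hnn i₀ hv₀
          rcases hε with rfl | rfl <;> omega
        simp [y, P, zero_pow hpos]
      rw [← hQ] at hmem
      change φ (MvPolynomial.X i₀) ∈ Q.asIdeal at hmem
      refine Q.2.ne_top (Ideal.eq_top_of_isUnit_mem _ hmem ?_)
      rw [hφX, LaurentPolynomial.smul_eq_C_mul]
      exact ((isUnit_iff_ne_zero.2 hv₀).map LaurentPolynomial.C).mul (LaurentPolynomial.isUnit_T _)
  · rintro ⟨i, j, hvi, hvj, hri, hrj⟩
    refine FormStabLib.isStablePt_of_finite x ?_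
    refine RingHom.IsIntegral.to_finite ?_ (RingHom.FiniteType.of_comp_finiteType
      (f := algebraMap k (MvPolynomial ι k)) ?_)
    · have hT : ∀ (l : ι) (n : ℕ) (z : ℤ), v l ≠ 0 → 0 < n → (n : ℤ) * z = r l →
          φ.toRingHom.IsIntegralElem (T z : k[T;T⁻¹]) := by
        intro l n z hl hn hz
        refine ⟨Polynomial.X ^ n - Polynomial.C (MvPolynomial.C (v l)⁻¹ * MvPolynomial.X l),
          Polynomial.monic_X_pow_sub_C _ hn.ne', ?_⟩
        rw [Polynomial.eval₂_sub, Polynomial.eval₂_X_pow, Polynomial.eval₂_C, AlgHom.toRingHom_eq_coe, RingHom.coe_coe,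
          map_mul, hφX, ← MvPolynomial.algebraMap_eq, φ.commutes, ← Algebra.smul_def, smul_smul,
          inv_mul_cancel₀ hl, one_smul, T_pow, hz, sub_self]
      have h1 : φ.toRingHom.IsIntegralElem (T 1 : k[T;T⁻¹]) :=
        hT j (r j).toNat 1 hvj (by omega) (by omega)
      have h2 : φ.toRingHom.IsIntegralElem (T (-1) : k[T;T⁻¹]) :=
        hT i (-r i).toNat (-1) hvi (by omega) (by omega)
      let : Algebra (MvPolynomial ι k) k[T;T⁻¹] := φ.toRingHom.toAlgebra
      have hpow : ∀ z : ℤ, IsIntegral (MvPolynomial ι k) (T z : k[T;T⁻¹]) := by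
        intro z
        obtain ⟨n, rfl | rfl⟩ := Int.eq_nat_or_neg z
        · rw [show ((n : ℤ)) = (n : ℤ) * 1 by ring, ← T_pow]; exact IsIntegral.pow h1 n
        · rw [show (-(n : ℤ)) = (n : ℤ) * (-1) by ring, ← T_pow]; exact IsIntegral.pow h2 n
      intro f
      induction f using LaurentPolynomial.induction_on' with
      | add p q hp hq => exact IsIntegral.add hp hq
      | C_mul_T n a =>
        refine IsIntegral.mul ?_ (hpow n)
        rw [show (LaurentPolynomial.C a : k[T;T⁻¹]) = φ (algebraMap k _ a) from (φ.commutes a).symm]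
        exact isIntegral_algebraMap
    · rw [AlgHom.toRingHom_eq_coe, AlgHom.comp_algebraMap, RingHom.finiteType_algebraMap]
      infer_instance

end Groth.Agent.S19423
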