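import Groth.Statements.S19425
import Groth.Agent.NRQuotLib.Basic
import Groth.Agent.FinHomLib.Affine
-- import your own Groth.Agent.* helpers here

set_option autoImplicit false
universe u
open CategoryTheory MonoidalCategory CartesianMonoidalCategory MonObj AlgebraicGeometry Topology
open NRQuot

namespace Groth.Agent.S19425

/-- Let k be an algebraically closed field, G an affine group scheme of finite type over k acting on a
k-scheme X locally of finite type, φ : X → Y a good quotient (affine and invariant, functions on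
every open of Y are exactly the invariant functions on its preimage, invariant closed subsets have
closed images, and images commute with intersections of families of invariant closed subsets), and U
an open subset of Y. Equip the open subscheme φ⁻¹(U) of X with the restricted action, given here as
an action compatible with the inclusion into X, and let φ_U : φ⁻¹(U) → U be the restriction of φ.
Then φ_U is a good quotient for the restricted action. -/
theorem appLE_bij {A B : Scheme.{u}} (j : A ⟶ B) [IsOpenImmersion j] {W : B.Opens} {W' : A.Opens}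
    (h : W' = j ⁻¹ᵁ W) (hW : W ≤ j.opensRange) : Function.Bijective (j.appLE W W' h.le) := by
  subst h
  haveI := Scheme.Hom.isIso_app j W hW
  rw [← Scheme.Hom.app_eq_appLE]
  exact (ConcreteCategory.isIso_iff_bijective _).mp inferInstance

theorem appLE_congr_hom {A B : Scheme.{u}} {f g : A ⟶ B} (e : f = g) {U : B.Opens} {V : A.Opens}
    (h : V ≤ f ⁻¹ᵁ U) (h' : V ≤ g ⁻¹ᵁ U) : f.appLE U V h = g.appLE U V h' := by
  subst e; rfl

theorem appLE_sq {A B C D : Scheme.{u}} (f : A ⟶ B) (g : B ⟶ D) (f' : A ⟶ C) (g' : C ⟶ D)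
    (e : f ≫ g = f' ≫ g') {U : D.Opens} {VB : B.Opens} {VC : C.Opens} {W : A.Opens} (h1 : VB ≤ g ⁻¹ᵁ U)
    (h2 : W ≤ f ⁻¹ᵁ VB) (h3 : VC ≤ g' ⁻¹ᵁ U) (h4 : W ≤ f' ⁻¹ᵁ VC) (s : Γ(D, U)) :
    f.appLE VB W h2 (g.appLE U VB h1 s) = f'.appLE VC W h4 (g'.appLE U VC h3 s) := by
  rw [← CommRingCat.comp_apply, ← CommRingCat.comp_apply, Scheme.Hom.appLE_comp_appLE,
    Scheme.Hom.appLE_comp_appLE]
  exact congrArg (fun m : Γ(D, U) ⟶ Γ(A, W) => m s) (appLE_congr_hom e _ _)

theorem result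
    (k : Type u) [Field k] [IsAlgClosed k]
    (G X Y : Over (Spec (CommRingCat.of k))) [GrpObj G] [IsAffine G.left] [LocallyOfFiniteType G.hom]
    [LocallyOfFiniteType X.hom]
    (a : AlgGrp.Action G X) (φ : X ⟶ Y) (h : NRQuot.IsGoodQuot a φ)
    (U : Y.left.Opens)
    (aU : AlgGrp.Action G (Over.mk ((φ.left ⁻¹ᵁ U).ι ≫ X.hom)))
    (jU : Over.mk ((φ.left ⁻¹ᵁ U).ι ≫ X.hom) ⟶ X) (hjU : jU.left = (φ.left ⁻¹ᵁ U).ι)
    (haU : aU.act ≫ jU = (G ◁ jU) ≫ a.act)
    (φU : Over.mk ((φ.left ⁻¹ᵁ U).ι ≫ X.hom) ⟶ Over.mk (U.ι ≫ Y.hom))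
    (hφU : φU.left ≫ U.ι = (φ.left ⁻¹ᵁ U).ι ≫ φ.left) :
    NRQuot.IsGoodQuot aU φU := by
  haveI : IsOpenImmersion jU.left := by
    rw [hjU]; exact inferInstanceAs (IsOpenImmersion (φ.left ⁻¹ᵁ U).ι)
  have hr : Set.range jU.left = φ.left ⁻¹' (U : Set Y.left) := by
    rw [hjU]; exact Scheme.Opens.range_ι _
  let jY : Over.mk (U.ι ≫ Y.hom) ⟶ Y := Over.homMk U.ι
  haveI : Mono jY.left := inferInstanceAs (Mono U.ι)
  haveI : Mono jY := Over.mono_of_mono_left jY
  have e : φU ≫ jY = jU ≫ φ :=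
    Over.OverMorphism.ext (by rw [Over.comp_left, Over.comp_left, hjU]; exact hφU)
  have hφr : φU.left = φ.left ∣_ U := (cancel_mono U.ι).mp (hφU.trans (morphismRestrict_ι _ _).symm)
  have hwr : ∀ p : (G ⊗ X).left, (snd G X).left p ∈ Set.range jU.left → p ∈ Set.range (G ◁ jU).left := by
    intro p hp
    have h1 := Scheme.image_preimage_eq_of_isPullback
      (Groth.Agent.FinHom.isPullback_whiskerLeft G jU).flip Set.univ
    rw [Set.preimage_univ, Set.image_univ, Set.image_univ] at h1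
    rw [h1]
    rw [Over.snd_left] at hp
    exact hp
  have hiU : GIT.IsInvariant aU φU := by
    show aU.act ≫ φU = snd G _ ≫ φU
    rw [← cancel_mono jY, Category.assoc, Category.assoc, e, ← Category.assoc aU.act, haU, Category.assoc,
      h.inv, ← Category.assoc, whiskerLeft_snd, Category.assoc]
  have himg : ∀ (W : Set _), NRQuot.IsInvariantSet aU W → OrbitLib.Invariant a (jU.left '' W) := by
    intro W hW
    refine NRQuotLib.invariant_of_isInvariantSet a fun p hp => ?_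
    obtain ⟨w, hw, hwp⟩ := hp
    obtain ⟨q, rfl⟩ := hwr p ⟨w, hwp⟩
    rw [← Scheme.Hom.comp_apply, ← Over.comp_left, whiskerLeft_snd, Over.comp_left,
      Scheme.Hom.comp_apply] at hwp
    have hq : (snd G _).left q ∈ W := jU.left.isOpenEmbedding.injective hwp ▸ hw
    refine ⟨aU.act.left q, hW q hq, ?_⟩
    rw [← Scheme.Hom.comp_apply, ← Over.comp_left, haU, Over.comp_left, Scheme.Hom.comp_apply]
  have hpre : ∀ W, IsClosed W → jU.left ⁻¹' closure (jU.left '' W) = W := fun W hW => by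
    rw [← jU.left.isOpenEmbedding.isEmbedding.closure_eq_preimage_closure_image, hW.closure_eq]
  have hpt : ∀ w, U.ι (φU.left w) = φ.left (jU.left w) := fun w => by
    rw [← Scheme.Hom.comp_apply, ← Scheme.Hom.comp_apply, hjU, hφU]
  have hUinj : Function.Injective U.ι := U.ι.isOpenEmbedding.injective
  have hlift : ∀ (v : U.toScheme) (z : X.left), φ.left z = U.ι v →
      ∃ w, jU.left w = z ∧ φU.left w = v := by
    intro v z hz
    obtain ⟨w, rfl⟩ : z ∈ Set.range jU.left := by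
      rw [hr, Set.mem_preimage, hz, ← Scheme.Opens.range_ι U]
      exact ⟨v, rfl⟩
    exact ⟨w, rfl, hUinj ((hpt w).trans hz)⟩
  refine ⟨?_, hiU, fun V => ?_, fun W hW hWi => ?_, fun J W hW hWi => ?_⟩
  · rw [hφr]
    exact IsZariskiLocalAtTarget.restrict h.affine U
  · -- sections
    let U' : Y.left.Opens := U.ι ''ᵁ V
    have hV : V = U.ι ⁻¹ᵁ U' := (U.ι.preimage_image_eq V).symm
    have hU'le : U' ≤ U.ι.opensRange := U.ι.image_le_opensRange V
    have hW' : φU.left ⁻¹ᵁ V = jU.left ⁻¹ᵁ (φ.left ⁻¹ᵁ U') := by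
      refine TopologicalSpace.Opens.ext (Set.ext fun w => ?_)
      show φU.left w ∈ V ↔ φ.left (jU.left w) ∈ U'
      rw [← hpt, hV]
      rfl
    have hW0 : φ.left ⁻¹ᵁ U' ≤ jU.left.opensRange := by
      intro z hz
      show z ∈ Set.range jU.left
      rw [hr]
      obtain ⟨v, hv⟩ := hU'le hz
      show φ.left z ∈ U
      rw [← hv]
      exact v.2
    have bι := appLE_bij U.ι hV hU'le
    have bj := appLE_bij jU.left hW' hW0
    have key : ∀ s : Γ(Y.left, U'), φU.left.app V (U.ι.appLE U' V hV.le s) =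
        jU.left.appLE (φ.left ⁻¹ᵁ U') (φU.left ⁻¹ᵁ V) hW'.le (φ.left.app U' s) := by
      intro s
      rw [Scheme.Hom.app_eq_appLE, Scheme.Hom.app_eq_appLE]
      exact appLE_sq _ _ _ _ (congrArg CommaMorphism.left e) _ _ _ _ s
    have hinv : ∀ f₀ : Γ(X.left, φ.left ⁻¹ᵁ U'),
        GIT.IsInvSection aU φU V (jU.left.appLE _ _ hW'.le f₀) ↔ GIT.IsInvSection a φ U' f₀ := by
      intro f₀
      haveI := Groth.Agent.FinHom.isOpenImmersion_whiskerLeft G jU
      let Oa : (G ⊗ X).left.Opens := a.act.left ⁻¹ᵁ (φ.left ⁻¹ᵁ U') ⊓ (snd G X).left ⁻¹ᵁ (φ.left ⁻¹ᵁ U')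
      let OU := aU.act.left ⁻¹ᵁ (φU.left ⁻¹ᵁ V) ⊓ (snd G _).left ⁻¹ᵁ (φU.left ⁻¹ᵁ V)
      have ea : (G ◁ jU).left ≫ a.act.left = aU.act.left ≫ jU.left :=
        (congrArg CommaMorphism.left haU).symm
      have es : (G ◁ jU).left ≫ (snd G X).left = (snd G _).left ≫ jU.left :=
        congrArg CommaMorphism.left (whiskerLeft_snd G jU)
      have hOU : OU = (G ◁ jU).left ⁻¹ᵁ Oa := by
        simp only [OU, Oa, hW', Scheme.Hom.preimage_inf, ← Scheme.Hom.comp_preimage, reassoc_of% ea, reassoc_of% es]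
      have hOa : Oa ≤ (G ◁ jU).left.opensRange := fun p hp => hwr p (hW0 hp.2)
      have bg := appLE_bij (G ◁ jU).left hOU hOa
      unfold GIT.IsInvSection
      constructor
      · intro hf
        refine bg.1 ?_
        rw [appLE_sq _ _ _ _ ea (U := φ.left ⁻¹ᵁ U') (VC := φU.left ⁻¹ᵁ V) (W := OU) _ _ hW'.le inf_le_left f₀,
          appLE_sq _ _ _ _ es (U := φ.left ⁻¹ᵁ U') (VC := φU.left ⁻¹ᵁ V) (W := OU) _ _ hW'.le inf_le_right f₀]
        exact hf
      · intro hf
        have h2 := congrArg ((G ◁ jU).left.appLE Oa OU hOU.le) hf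
        rw [appLE_sq _ _ _ _ ea (U := φ.left ⁻¹ᵁ U') (VC := φU.left ⁻¹ᵁ V) (W := OU) _ _ hW'.le inf_le_left f₀,
          appLE_sq _ _ _ _ es (U := φ.left ⁻¹ᵁ U') (VC := φU.left ⁻¹ᵁ V) (W := OU) _ _ hW'.le inf_le_right f₀] at h2
        exact h2
    obtain ⟨hi, hrange⟩ := h.sections U'
    constructor
    · intro t₁ t₂ ht
      obtain ⟨s₁, rfl⟩ := bι.2 t₁
      obtain ⟨s₂, rfl⟩ := bι.2 t₂
      rw [key, key] at ht
      rw [hi (bj.1 ht)]
    · ext f
      obtain ⟨f₀, rfl⟩ := bj.2 f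
      rw [Set.mem_setOf_eq, hinv]
      have h3 : f₀ ∈ Set.range (φ.left.app U') ↔ GIT.IsInvSection a φ U' f₀ := by
        rw [hrange]; rfl
      rw [← h3]
      constructor
      · rintro ⟨t, ht⟩
        obtain ⟨s, rfl⟩ := bι.2 t
        rw [key] at ht
        exact ⟨s, bj.1 ht⟩
      · rintro ⟨s, rfl⟩
        exact ⟨_, key s⟩
  · -- closed images
    have hc := h.closed _ isClosed_closure
      (NRQuotLib.isInvariantSet_of_invariant a ((himg W hWi).closure a))
    suffices e2 : φU.left '' W = U.ι ⁻¹' (φ.left '' closure (jU.left '' W)) by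
      rw [e2]; exact hc.preimage U.ι.continuous
    refine Set.ext fun v => ⟨?_, ?_⟩
    · rintro ⟨w, hw, rfl⟩
      exact ⟨jU.left w, subset_closure ⟨w, hw, rfl⟩, (hpt w).symm⟩
    · rintro ⟨z, hz, hzv⟩
      obtain ⟨w, rfl, hwv⟩ := hlift v z hzv
      exact ⟨w, (hpre W hW).subset hz, hwv⟩
  · -- intersections
    have hi := h.inter J (fun j => closure (jU.left '' W j)) (fun j => isClosed_closure)
      (fun j => NRQuotLib.isInvariantSet_of_invariant a ((himg (W j) (hWi j)).closure a))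
    refine Set.Subset.antisymm (Set.image_iInter_subset _ _) fun v hv => ?_
    have hv' : U.ι v ∈ ⋂ j, φ.left '' closure (jU.left '' W j) := Set.mem_iInter.mpr fun j => by
      obtain ⟨w, hw, rfl⟩ := Set.mem_iInter.mp hv j
      exact ⟨jU.left w, subset_closure ⟨w, hw, rfl⟩, (hpt w).symm⟩
    obtain ⟨z, hz, hzv⟩ := hi.symm.subset hv'
    obtain ⟨w, rfl, hwv⟩ := hlift v z hzv
    exact ⟨w, Set.mem_iInter.mpr fun j => (hpre _ (hW j)).subset (Set.mem_iInter.mp hz j), hwv⟩

end Groth.Agent.S19425
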