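import Groth.Statements.S1943
import Groth.Agent.LechLib.Koszul

set_option autoImplicit false
set_option backward.isDefEq.respectTransparency false
set_option backward.isDefEq.respectTransparency.types false
universe u
open CategoryTheory
open IntMult

namespace Groth.Agent.S1943

/-- Let A be a Noetherian local ring, f₁, …, f_r elements generating an ideal of definition I (𝔪^n ⊆ I ⊆
𝔪 for some n) and M a finite A-module. Then r! · length_A(M/I^t M)/t^r tends, as t → ∞, to Σ_i
(−1)^i length_A H^i(K(f₁, …, f_r) ⊗_A M), the Euler characteristic of the Koszul complex tensored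
with M (cohomological indexing, degrees −r, …, 0); that is, e_I(M, r) equals that alternating sum.
The Koszul complex is the shared prelude's mapping-cone model. -/
theorem result (A : Type u) [CommRing A] [IsNoetherianRing A] [IsLocalRing A] (r : ℕ) (f : Fin r → A) (hI : Ideal.span (Set.range f) ≤ IsLocalRing.maximalIdeal A ∧ ∃ n : ℕ, IsLocalRing.maximalIdeal A ^ n ≤ Ideal.span (Set.range f)) (M : Type u) [AddCommGroup M] [Module A M] [Module.Finite A M] : Filter.Tendsto (fun t : ℕ => (r.factorial : ℝ) * ((Module.length A (M ⧸ (Ideal.span (Set.range f) ^ t • (⊤ : Submodule A M)))).toNat : ℝ) / (t : ℝ) ^ r) Filter.atTop (nhds ((∑ᶠ i : ℤ, ((i.negOnePow : ℤˣ) : ℤ) * ((Module.length A ((DRing.tensorCx (Koszul.koszul A (List.ofFn f)) (ModuleCat.of A M)).homology i)).toNat : ℤ) : ℤ) : ℝ)) := by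
  obtain ⟨n, hn⟩ := hI.2
  have hfl : Module.length A (M ⧸ Ideal.span (Set.range f) • (⊤ : Submodule A M)) ≠ ⊤ :=
    CommAlgDim.length_quotient_smul_ne_top fun p _ hp => by
      rw [le_antisymm (IsLocalRing.le_maximalIdeal p.2.ne_top) (p.2.le_of_pow_le (hn.trans hp))]
      infer_instance
  obtain ⟨e, he1, he2⟩ := LechLib.exists_limit f hfl
  have h := tendsto_nhds_unique he2 (LechLib.tendsto_chi r f M (Module.length_ne_top_iff.1 hfl))
  have h2 := he1.const_mul (r.factorial : ℝ)
  rw [mul_div_cancel₀ _ (by exact_mod_cast r.factorial_ne_zero), h] at h2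
  simp only [mul_div_assoc]
  exact h2

end Groth.Agent.S1943
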