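import Groth.Statements.S19434
import Mathlib
import Groth.Agent.PnCohLib.Hypersurface
import Groth.Agent.PnCohLib.Split
import Groth.Agent.PnCohLib.K0
-- import your own Groth.Agent.* helpers here

set_option autoImplicit false
universe u
open Coherent

namespace Groth.Agent.S19434

open CategoryTheory CategoryTheory.Limits AlgebraicGeometry in
/-- Let F be a field, d ≥ 1, k ≥ 1, P = P^{d+1}_F, and X ⊆ P a hypersurface of degree k: a closed
subscheme (ideal sheaf I) whose ideal sheaf is isomorphic, as an O_P-module, to O_P(-k) —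
equivalently X is cut out by one nonzero form q of degree k, with homogeneous coordinate ring A =
F[x_0, …, x_{d+1}]/(q), whose degree-m piece has dimension a(m) = C(m+d+1, d+1) - C(m-k+d+1, d+1) (a
binomial coefficient with a negative upper entry read as 0). For an integer n let O_X(n) denote the
O_P-module O_X ⊗ O_P(n). Then H^p(P, O_X(n)) vanishes for every p different from 0 and d, H^0(P,
O_X(n)) is a finite-dimensional F-vector space of dimension a(n), and H^d(P, O_X(n)) is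
finite-dimensional of dimension a(k-2-d-n). Only the vanishing, the finiteness and the dimensions
are stated here; the identifications of H^0(P, O_X(n)) with A_n and of H^d(P, O_X(n)) with the dual
of A_{k-2-d-n} are not. -/
theorem result (F : Type u) [Field F] (d k : ℕ)
    (hd : 1 ≤ d) (hk : 1 ≤ k) (I : (CohB1.ProjSpace (d + 1) F).IdealSheafData)
    (hI : Nonempty (ClSub.idealMod I ≅ Twist.twistProjSpace (d + 1) F (-(k : ℤ)))) (n : ℤ) :
    (∀ p : ℕ, p ≠ 0 → p ≠ d →
      Subsingleton (Coh.HH (CohB1.ProjSpace (d + 1) F)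
        (CohB1.tensorMod (ClSub.quotMod I) (Twist.twistProjSpace (d + 1) F n)) p)) ∧
    (Module.Finite F (Coh.HH (CohB1.ProjSpace (d + 1) F)
        (CohB1.tensorMod (ClSub.quotMod I) (Twist.twistProjSpace (d + 1) F n)) 0) ∧
      Module.finrank F (Coh.HH (CohB1.ProjSpace (d + 1) F)
        (CohB1.tensorMod (ClSub.quotMod I) (Twist.twistProjSpace (d + 1) F n)) 0) =
        (Nat.choose (n + ((d : ℤ) + 1)).toNat (d + 1) - Nat.choose (n - (k : ℤ) + ((d : ℤ) + 1)).toNat (d + 1))) ∧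
    (Module.Finite F (Coh.HH (CohB1.ProjSpace (d + 1) F)
        (CohB1.tensorMod (ClSub.quotMod I) (Twist.twistProjSpace (d + 1) F n)) d) ∧
      Module.finrank F (Coh.HH (CohB1.ProjSpace (d + 1) F)
        (CohB1.tensorMod (ClSub.quotMod I) (Twist.twistProjSpace (d + 1) F n)) d) =
        (Nat.choose (((k : ℤ) - 2 - (d : ℤ) - n) + ((d : ℤ) + 1)).toNat (d + 1) - Nat.choose (((k : ℤ) - 2 - (d : ℤ) - n) - (k : ℤ) + ((d : ℤ) + 1)).toNat (d + 1))) := by
  haveI : IsProper (CohB1.ProjSpace.toSpec (d + 1) F) := ProjDegLib.toSpec_isProper F (d + 1)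
  haveI : IsProper (CohB1.ProjSpace (d + 1) F ↘ Spec (CommRingCat.of F)) := ProjDegLib.toSpec_isProper F (d + 1)
  haveI := PnCohLib.isLocallyNoetherian_projSpace (n := d + 1) F
  let U := (CurvLib.idealSeq I).map (CurvLib.tensorLeft' (Twist.twistProjSpace (d + 1) F n))
  have hU : U.ShortExact := HilbPolyLib.shortExact_tensor (PicPnLib.twist_inv _ F n) (CurvLib.idealSeq_shortExact I)
  obtain ⟨eI⟩ := hI
  obtain ⟨ea⟩ := PicPnLib.twist_add (d + 1) F n (-(k : ℤ))
  obtain ⟨eb⟩ := PicPnLib.twist_add (d + 1) F n 0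
  obtain ⟨e0⟩ := PicPnLib.twist_zero (d + 1) F
  let e₁ : U.X₁ ≅ Twist.twistProjSpace (d + 1) F (n + -(k : ℤ)) :=
    (CurvLib.tensorLeft' _).mapIso eI ≪≫ ea
  let e₂ : U.X₂ ≅ Twist.twistProjSpace (d + 1) F (n + 0) :=
    (CurvLib.tensorLeft' _).mapIso e0.symm ≪≫ eb
  let e₃ : U.X₃ ≅ CohB1.tensorMod (ClSub.quotMod I) (Twist.twistProjSpace (d + 1) F n) :=
    HilbPolyLib.swapIso _ _
  have hc₁ : Coh.IsCoh U.X₁ := QCohLib.isCoh_of_iso e₁.symm (PnCohLib.isCoh_twist F _)
  have hc₂ : Coh.IsCoh U.X₂ := QCohLib.isCoh_of_iso e₂.symm (PnCohLib.isCoh_twist F _)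
  have hc₃ : Coh.IsCoh U.X₃ := QCohLib.isCoh_of_iso e₃.symm
    (SerreVanLib.isCoh_tensor (CurvLib.isCoh_quotMod I) (PicPnLib.twist_inv _ F n))
  have hf₁ := fun p => CurvLib.finite_HH (k := F) hc₁ p
  have hf₂ := fun p => CurvLib.finite_HH (k := F) hc₂ p
  have hf₃ := fun p => CurvLib.finite_HH (k := F) hc₃ p
  have s₁ : ∀ q : ℕ, q ≠ 0 → q ≠ d + 1 → Subsingleton (Coh.HH _ U.X₁ q) := fun q h h' => by
    haveI := PnCohLib.subsingleton_HH_twist (n := d + 1) (R := F) (n + -(k : ℤ)) q (fun c => h c.1) (fun c => h' c.1)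
    exact (CurvLib.hIso (k := F) e₁ q).toEquiv.subsingleton
  have s₂ : ∀ q : ℕ, q ≠ 0 → q ≠ d + 1 → Subsingleton (Coh.HH _ U.X₂ q) := fun q h h' => by
    haveI := PnCohLib.subsingleton_HH_twist (n := d + 1) (R := F) (n + 0) q (fun c => h c.1) (fun c => h' c.1)
    exact (CurvLib.hIso (k := F) e₂ q).toEquiv.subsingleton
  have s₃ : ∀ q : ℕ, d < q → Subsingleton (Coh.HH _ U.X₃ q) := fun q h =>
    PnCohLib.subsingleton_top_hypersurface F d _ I ⟨eI⟩ n q h
  refine ⟨fun p hp hpd => ?_, ⟨?_, ?_⟩, ?_, ?_⟩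
  · have h3 : Subsingleton (Coh.HH _ U.X₃ p) := by
      rcases Nat.lt_or_gt_of_ne hpd with hlt | hgt
      · refine subsingleton_of_forall_eq 0 fun y => ?_
        haveI := s₁ (p + 1) (by omega) (by omega)
        haveI := s₂ p hp (by omega)
        obtain ⟨x, rfl⟩ := PnCohLib.surjective_of_shortExact (k := F) hU p inferInstance y
        exact (congrArg _ (Subsingleton.elim x 0)).trans (map_zero _)
      · exact s₃ p hgt
    exact (CurvLib.hIso (k := F) e₃ p).symm.toEquiv.subsingleton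
  · haveI := hf₃ 0
    exact Module.Finite.equiv (CurvLib.hIso (k := F) e₃ 0)
  · haveI := hf₁ 0; haveI := hf₂ 0; haveI := hf₃ 0
    have hs : Function.Surjective (CurvLib.hMap (k := F) U.g 0) := fun y => by
      obtain ⟨x, hx⟩ := PnCohLib.surjective_of_shortExact (k := F) hU 0 (s₁ 1 one_ne_zero (by omega)) y
      exact ⟨x, hx⟩
    have h := (CurvLib.hMap (k := F) U.g 0).finrank_range_add_finrank_ker
    rw [LinearMap.range_eq_top.2 hs, finrank_top, ← CurvLib.exact₂ hU 0,
      LinearMap.finrank_range_of_inj (CurvLib.injective₀ hU), (CurvLib.hIso (k := F) e₁ 0).finrank_eq,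
      (CurvLib.hIso (k := F) e₂ 0).finrank_eq, (CurvLib.hIso (k := F) e₃ 0).finrank_eq,
      PnCohLib.finrank_zero_twist F (Nat.le_add_left 1 d), PnCohLib.finrank_zero_twist F (Nat.le_add_left 1 d)] at h
    rw [show (n + ((d : ℤ) + 1)).toNat = (n + 0 + ((d + 1 : ℕ) : ℤ)).toNat by push_cast; simp,
      show (n - (k : ℤ) + ((d : ℤ) + 1)).toNat = (n + -(k : ℤ) + ((d + 1 : ℕ) : ℤ)).toNat by push_cast; rfl]
    omega
  · haveI := hf₃ d
    exact Module.Finite.equiv (CurvLib.hIso (k := F) e₃ d)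
  · haveI := hf₁ (d + 1); haveI := hf₂ (d + 1); haveI := hf₃ d
    haveI := s₂ d (by omega) (by omega)
    haveI := s₃ (d + 1) (Nat.lt_succ_self d)
    have hs : Function.Surjective (CurvLib.hMap (k := F) U.f (d + 1)) :=
      PnCohLib.surjective_of_X₃ (k := F) hU inferInstance
    have hinj : Function.Injective (CurvLib.hDel (k := F) hU d) := by
      rw [← LinearMap.ker_eq_bot, ← CurvLib.exact₃ hU d, LinearMap.range_eq_bot]
      exact LinearMap.ext fun x => (congrArg _ (Subsingleton.elim x 0)).trans (map_zero _)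
    have h := (CurvLib.hMap (k := F) U.f (d + 1)).finrank_range_add_finrank_ker
    rw [LinearMap.range_eq_top.2 hs, finrank_top, ← CurvLib.exact₁ hU d, LinearMap.finrank_range_of_inj hinj,
      (CurvLib.hIso (k := F) e₁ (d + 1)).finrank_eq, (CurvLib.hIso (k := F) e₂ (d + 1)).finrank_eq,
      (CurvLib.hIso (k := F) e₃ d).finrank_eq,
      PnCohLib.finrank_top_twist F (Nat.le_add_left 1 d), PnCohLib.finrank_top_twist F (Nat.le_add_left 1 d)] at h
    rw [show ((k : ℤ) - 2 - (d : ℤ) - n + ((d : ℤ) + 1)).toNat = (-(n + -(k : ℤ)) - 1).toNat by congr 1; ring,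
      show ((k : ℤ) - 2 - (d : ℤ) - n - (k : ℤ) + ((d : ℤ) + 1)).toNat = (-(n + 0) - 1).toNat by congr 1; ring]
    omega

end Groth.Agent.S19434
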