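import Groth.Statements.S19435
import Mathlib
import Groth.Agent.PnCohLib.Hypersurface
import Groth.Agent.PnCohLib.Split
import Groth.Agent.PnCohLib.K0
-- import your own Groth.Agent.* helpers here

set_option autoImplicit false
universe u
open Coherent

namespace Groth.Agent.S19435

open CategoryTheory CategoryTheory.Limits AlgebraicGeometry in
/-- The case d = 0. Let F be a field, k ≥ 1, P = P^1_F and X ⊆ P a hypersurface of degree k: a closed
subscheme (ideal sheaf I) whose ideal sheaf is isomorphic as an O_P-module to O_P(-k), with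
coordinate ring A = F[x_0, x_1]/(q) whose degree-m piece has dimension a(m) = C(m+1, 1) - C(m-k+1,
1) (negative upper entries read as 0); O_X(n) = O_X ⊗ O_P(n) as an O_P-module. Then H^0(P, O_X(n))
is finite-dimensional of dimension a(n) + a(k-2-n), that of an extension of the dual of the
degree-(k-2-n) piece of A by the degree-n piece (the exact sequence itself is not stated here); and
H^p(P, O_X(n)) vanishes for every p ≥ 1. -/
theorem result (F : Type u) [Field F] (k : ℕ)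
    (hk : 1 ≤ k) (I : (CohB1.ProjSpace 1 F).IdealSheafData)
    (hI : Nonempty (ClSub.idealMod I ≅ Twist.twistProjSpace 1 F (-(k : ℤ)))) (n : ℤ) :
    (Module.Finite F (Coh.HH (CohB1.ProjSpace 1 F)
        (CohB1.tensorMod (ClSub.quotMod I) (Twist.twistProjSpace 1 F n)) 0) ∧
      Module.finrank F (Coh.HH (CohB1.ProjSpace 1 F)
        (CohB1.tensorMod (ClSub.quotMod I) (Twist.twistProjSpace 1 F n)) 0) =
        (Nat.choose (n + 1).toNat 1 - Nat.choose (n - (k : ℤ) + 1).toNat 1) +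
        (Nat.choose ((k : ℤ) - 2 - n + 1).toNat 1 - Nat.choose ((k : ℤ) - 2 - n - (k : ℤ) + 1).toNat 1)) ∧
    (∀ p : ℕ, 1 ≤ p →
      Subsingleton (Coh.HH (CohB1.ProjSpace 1 F)
        (CohB1.tensorMod (ClSub.quotMod I) (Twist.twistProjSpace 1 F n)) p)) := by
  haveI : IsProper (CohB1.ProjSpace.toSpec 1 F) := ProjDegLib.toSpec_isProper F 1
  haveI : IsProper (CohB1.ProjSpace 1 F ↘ Spec (CommRingCat.of F)) := ProjDegLib.toSpec_isProper F 1
  haveI := PnCohLib.isLocallyNoetherian_projSpace (n := 1) F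
  let U := (CurvLib.idealSeq I).map (CurvLib.tensorLeft' (Twist.twistProjSpace 1 F n))
  have hU : U.ShortExact := HilbPolyLib.shortExact_tensor (PicPnLib.twist_inv _ F n) (CurvLib.idealSeq_shortExact I)
  obtain ⟨eI⟩ := hI
  obtain ⟨ea⟩ := PicPnLib.twist_add 1 F n (-(k : ℤ))
  obtain ⟨eb⟩ := PicPnLib.twist_add 1 F n 0
  obtain ⟨e0⟩ := PicPnLib.twist_zero 1 F
  let e₁ : U.X₁ ≅ Twist.twistProjSpace 1 F (n + -(k : ℤ)) :=
    (CurvLib.tensorLeft' _).mapIso eI ≪≫ ea
  let e₂ : U.X₂ ≅ Twist.twistProjSpace 1 F (n + 0) :=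
    (CurvLib.tensorLeft' _).mapIso e0.symm ≪≫ eb
  let e₃ : U.X₃ ≅ CohB1.tensorMod (ClSub.quotMod I) (Twist.twistProjSpace 1 F n) :=
    HilbPolyLib.swapIso _ _
  have hc₁ : Coh.IsCoh U.X₁ := QCohLib.isCoh_of_iso e₁.symm (PnCohLib.isCoh_twist F _)
  have hc₂ : Coh.IsCoh U.X₂ := QCohLib.isCoh_of_iso e₂.symm (PnCohLib.isCoh_twist F _)
  have hc₃ : Coh.IsCoh U.X₃ := QCohLib.isCoh_of_iso e₃.symm
    (SerreVanLib.isCoh_tensor (CurvLib.isCoh_quotMod I) (PicPnLib.twist_inv _ F n))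
  have hf₁ := fun p => CurvLib.finite_HH (k := F) hc₁ p
  have hf₂ := fun p => CurvLib.finite_HH (k := F) hc₂ p
  have hf₃ := fun p => CurvLib.finite_HH (k := F) hc₃ p
  have s₁ : ∀ q : ℕ, q ≠ 0 → q ≠ 1 → Subsingleton (Coh.HH _ U.X₁ q) := fun q h h' => by
    haveI := PnCohLib.subsingleton_HH_twist (n := 1) (R := F) (n + -(k : ℤ)) q (fun c => h c.1) (fun c => h' c.1)
    exact (CurvLib.hIso (k := F) e₁ q).toEquiv.subsingleton
  have s₂ : ∀ q : ℕ, q ≠ 0 → q ≠ 1 → Subsingleton (Coh.HH _ U.X₂ q) := fun q h h' => by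
    haveI := PnCohLib.subsingleton_HH_twist (n := 1) (R := F) (n + 0) q (fun c => h c.1) (fun c => h' c.1)
    exact (CurvLib.hIso (k := F) e₂ q).toEquiv.subsingleton
  have s₃ : ∀ q : ℕ, 0 < q → Subsingleton (Coh.HH (CohB1.ProjSpace 1 F) (CohB1.tensorMod (Twist.twistProjSpace 1 F n) (ClSub.quotMod I)) q) := fun q h =>
    PnCohLib.subsingleton_top_of_eq (M := 1) F 0 (Nat.zero_add 1).symm (-(k : ℤ)) I (Nonempty.intro eI) n q h
  refine ⟨⟨?_, ?_⟩, fun p hp => ?_⟩
  · haveI := hf₃ 0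
    exact Module.Finite.equiv (CurvLib.hIso (k := F) e₃ 0)
  · haveI := hf₁ 0; haveI := hf₂ 0; haveI := hf₃ 0; haveI := hf₁ 1; haveI := hf₂ 1
    haveI : Subsingleton (Coh.HH _ U.X₃ 1) := s₃ 1 Nat.one_pos
    have hs : Function.Surjective (CurvLib.hMap (k := F) U.f 1) := PnCohLib.surjective_of_X₃ (k := F) hU inferInstance
    have a := (CurvLib.hMap (k := F) U.g 0).finrank_range_add_finrank_ker
    rw [← CurvLib.exact₂ hU 0, LinearMap.finrank_range_of_inj (CurvLib.injective₀ hU)] at a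
    have b := (CurvLib.hDel (k := F) hU 0).finrank_range_add_finrank_ker
    rw [← CurvLib.exact₃ hU 0] at b
    have c := (CurvLib.hMap (k := F) U.f 1).finrank_range_add_finrank_ker
    rw [LinearMap.range_eq_top.2 hs, finrank_top, ← CurvLib.exact₁ hU 0] at c
    rw [(CurvLib.hIso (k := F) e₁ 0).finrank_eq, (CurvLib.hIso (k := F) e₂ 0).finrank_eq,
      PnCohLib.finrank_zero_twist F le_rfl, PnCohLib.finrank_zero_twist F le_rfl] at a
    rw [(CurvLib.hIso (k := F) e₁ 1).finrank_eq, (CurvLib.hIso (k := F) e₂ 1).finrank_eq,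
      PnCohLib.finrank_top_twist F le_rfl, PnCohLib.finrank_top_twist F le_rfl] at c
    rw [(CurvLib.hIso (k := F) e₃ 0).finrank_eq] at b
    simp only [Nat.choose_one_right] at a c ⊢
    simp only [Nat.cast_one] at a c
    obtain ⟨x, hx⟩ : ∃ x : ℕ, x = Module.finrank F (LinearMap.range (CurvLib.hDel (k := F) hU 0)) := ⟨_, rfl⟩
    obtain ⟨y, hy⟩ : ∃ y : ℕ, y = Module.finrank F (LinearMap.range (CurvLib.hMap (k := F) U.g 0)) := ⟨_, rfl⟩
    refine b.symm.trans ((congr_arg₂ (· + ·) hx.symm hy.symm).trans ?_)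
    have a' : y + (n + -(k : ℤ) + 1).toNat = (n + 0 + 1).toNat := hy ▸ a
    have c' : (-(n + 0) - 1).toNat + x = (-(n + -(k : ℤ)) - 1).toNat := hx ▸ c
    clear a b c hx hy
    omega
  · haveI : Subsingleton (Coh.HH _ U.X₃ p) := s₃ p hp
    exact (CurvLib.hIso (k := F) e₃ p).symm.toEquiv.subsingleton

end Groth.Agent.S19435
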