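import Groth.Statements.S19436
import Mathlib.RingTheory.Nakayama
import Mathlib.RingTheory.Jacobson.Ideal
import Mathlib.LinearAlgebra.FiniteDimensional.Lemmas
import Mathlib.RingTheory.Ideal.Quotient.Operations
import Mathlib.RingTheory.LocalRing.MaximalIdeal.Basic

set_option autoImplicit false
universe u
open CAlg

namespace Groth.Agent.S19436

/-- For a Noetherian local commutative algebra R over a field k, with maximal ideal M, and an ideal I of
R whose quotient R/I is finite-dimensional over k of dimension n, the power M^n lies in I. -/
theorem result (k : Type u) [Field k] (R : Type u) [CommRing R]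
    [Algebra k R] [IsNoetherianRing R] [IsLocalRing R] (I : Ideal R) [Module.Finite k (R ⧸ I)] (n : ℕ)
    (hn : Module.finrank k (R ⧸ I) = n) : IsLocalRing.maximalIdeal R ^ n ≤ I := by
  let M := IsLocalRing.maximalIdeal R
  let N : ℕ → Submodule R (R ⧸ I) := fun i => M ^ i • ⊤
  have key : ∀ i, N i = ⊥ ∨ Module.finrank k ((N i).restrictScalars k) + i ≤ n := by
    intro i
    induction i with
    | zero => exact Or.inr (by simpa [hn] using Submodule.finrank_le ((N 0).restrictScalars k))
    | succ i ih =>
      have hsucc : N (i + 1) = M • N i := by
        simp only [N]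
        rw [pow_succ']
        exact Submodule.mul_smul _ _ _
      rcases ih with ih | ih
      · exact Or.inl (by rw [hsucc, ih, Submodule.smul_bot])
      by_cases h0 : N i = ⊥
      · exact Or.inl (by rw [hsucc, h0, Submodule.smul_bot])
      refine Or.inr ?_
      have hlt : N (i + 1) < N i := by
        refine lt_of_le_of_ne (hsucc ▸ Submodule.smul_le_right) fun heq => h0 ?_
        refine Submodule.eq_bot_of_le_smul_of_le_jacobson_bot M _ ?_ (hsucc ▸ heq.ge)
          (IsLocalRing.maximalIdeal_le_jacobson _)
        exact IsNoetherian.noetherian _
      have hlt' : (N (i + 1)).restrictScalars k < (N i).restrictScalars k := hlt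
      have := Submodule.finrank_lt_finrank_of_lt hlt'
      omega
  have hbot : N n = ⊥ := by
    rcases key n with h | h
    · exact h
    · have h1 : (N n).restrictScalars k = ⊥ := Submodule.finrank_eq_zero.1 (by omega)
      exact (Submodule.restrictScalars_eq_bot_iff _ _ _).1 h1
  intro x hx
  have h1 : x • (1 : R ⧸ I) ∈ N n := Submodule.smul_mem_smul hx trivial
  rw [hbot, Submodule.mem_bot, Algebra.smul_def, mul_one] at h1
  exact Ideal.Quotient.eq_zero_iff_mem.1 h1

end Groth.Agent.S19436
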