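import Groth.Statements.S19438
import Mathlib.RingTheory.Ideal.Cotangent
import Mathlib.RingTheory.Adjoin.Polynomial.Basic
import Mathlib.Algebra.Polynomial.Div
import Mathlib.RingTheory.Nakayama

set_option autoImplicit false
universe u
open CAlg

namespace Groth.Agent.S19438

/-- First assertion: let A be a Noetherian local commutative algebra over a field k with maximal ideal
M, residue field k (the map from k to A/M is onto) and embedding dimension dim M/M^2 at least 2, and
let I be a proper ideal with A/I finite-dimensional over k. If A/I is generated as a k-algebra by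
one element, then some element of I does not lie in M^2; that is, the finite closed subscheme
defined by I lies on a smooth hypersurface germ (it is curvilinear). (The published statement is for
the local ring of a smooth surface at a closed point; only a Noetherian local algebra with residue
field k and embedding dimension at least 2 is assumed here, which is what the published argument
uses.) -/
theorem result (k : Type u) [Field k]
    (A : Type u) [CommRing A] [Algebra k A] [IsNoetherianRing A] [IsLocalRing A]
    (hres : Function.Surjective (algebraMap k (IsLocalRing.ResidueField A)))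
    (hemb : 2 ≤ Module.finrank (IsLocalRing.ResidueField A) (IsLocalRing.CotangentSpace A))
    (I : Ideal A) (hI : I ≠ ⊤) [Module.Finite k (A ⧸ I)]
    (f : A ⧸ I) (hf : Algebra.adjoin k {f} = ⊤) :
    ∃ g ∈ I, g ∉ IsLocalRing.maximalIdeal A ^ 2 := by
  by_contra hne
  push_neg at hne
  set M := IsLocalRing.maximalIdeal A
  obtain ⟨a, rfl⟩ := Ideal.Quotient.mk_surjective f
  obtain ⟨c, hc⟩ := hres (IsLocalRing.residue A a)
  set t := a - algebraMap k A c with ht
  have htM : t ∈ M := by
    rw [← IsLocalRing.residue_eq_zero_iff, ht, map_sub, ← hc, sub_eq_zero]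
    rfl
  have key : M ≤ Ideal.span {t} ⊔ M • M := by
    intro x hx
    have h1 : Ideal.Quotient.mk I x ∈ Algebra.adjoin k {Ideal.Quotient.mk I a} := hf ▸ trivial
    rw [Algebra.adjoin_singleton_eq_range_aeval] at h1
    obtain ⟨p, hp⟩ := h1
    change Polynomial.aeval (Ideal.Quotient.mk I a) p = _ at hp
    rw [← Ideal.Quotient.mkₐ_eq_mk k, Polynomial.aeval_algHom_apply,
      Ideal.Quotient.mkₐ_eq_mk, Ideal.Quotient.eq] at hp
    set q := p.comp (Polynomial.X + Polynomial.C c) with hq
    have h2 : Polynomial.aeval a p = Polynomial.aeval t q := by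
      rw [hq, Polynomial.aeval_comp]
      simp [ht]
    have hI2 : Polynomial.aeval t q - x ∈ M • M := by
      rw [← h2, smul_eq_mul, ← pow_two]
      exact hne _ hp
    rw [← Polynomial.X_mul_divX_add q] at hI2
    simp only [map_add, map_mul, Polynomial.aeval_X, Polynomial.aeval_C] at hI2
    have h3 : algebraMap k A (q.coeff 0) ∈ M := by
      have h4 : Polynomial.aeval t q.divX * t + algebraMap k A (q.coeff 0) - x ∈ M := by
        rw [mul_comm]
        exact (Ideal.mul_le_left : M * M ≤ M) hI2
      have := M.add_mem h4 hx
      rw [sub_add_cancel] at this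
      exact (M.add_mem_iff_right (M.mul_mem_left _ htM)).1 this
    have h0 : q.coeff 0 = 0 := by
      by_contra h0
      exact (IsLocalRing.mem_maximalIdeal _).1 h3 ((Ne.isUnit h0).map (algebraMap k A))
    rw [h0, map_zero, add_zero] at hI2
    refine Submodule.mem_sup.2 ⟨t * Polynomial.aeval t q.divX, Ideal.mem_span_singleton'.2 ⟨_, mul_comm _ _⟩,
      -(t * Polynomial.aeval t q.divX - x), neg_mem hI2, by abel⟩
  have hM : M ≤ Ideal.span {t} :=
    Submodule.le_of_le_smul_of_le_jacobson_bot (IsNoetherian.noetherian _)
      (IsLocalRing.maximalIdeal_le_jacobson _) key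
  have : Module.finrank (IsLocalRing.ResidueField A) (IsLocalRing.CotangentSpace A) ≤ 1 :=
    IsLocalRing.finrank_cotangentSpace_le_one_iff.2
      ⟨⟨t, le_antisymm hM ((Ideal.span_singleton_le_iff_mem _).2 htM)⟩⟩
  omega

end Groth.Agent.S19438
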