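import Groth.Statements.S19439
import Mathlib.RingTheory.MvPolynomial.Basic
import Mathlib.LinearAlgebra.FiniteDimensional.Lemmas
import Mathlib.RingTheory.Ideal.Quotient.Operations
import Mathlib.Algebra.MvPolynomial.Degrees

set_option autoImplicit false
universe u
open CAlg

namespace Groth.Agent.S19439

/-- Affine form: for all n and N there is an integer d, that depends only on n and N, such that for
every algebraically closed field k and every ideal I of the polynomial ring in N variables over k
whose quotient has finite dimension n over k, the polynomials of total degree at most d map onto the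
quotient. -/
theorem result (n N : ℕ) :
    ∃ d : ℕ, ∀ (k : Type u) [Field k] [IsAlgClosed k] (I : Ideal (MvPolynomial (Fin N) k))
      [Module.Finite k (MvPolynomial (Fin N) k ⧸ I)],
      Module.finrank k (MvPolynomial (Fin N) k ⧸ I) = n →
      Submodule.map (Ideal.Quotient.mkₐ k I).toLinearMap (MvPolynomial.restrictTotalDegree (Fin N) k d) = ⊤ := by
  refine ⟨n, fun k _ _ I _ hn => ?_⟩
  let q := (Ideal.Quotient.mkₐ k I).toLinearMap
  let V : ℕ → Submodule k (MvPolynomial (Fin N) k ⧸ I) := fun e =>
    Submodule.map q (MvPolynomial.restrictTotalDegree (Fin N) k e)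
  have hmem : ∀ {e} (p : MvPolynomial (Fin N) k), p.totalDegree ≤ e → q p ∈ V e := fun p hp =>
    ⟨p, (MvPolynomial.mem_restrictTotalDegree _ _ _).2 hp, rfl⟩
  have hmono : ∀ e, V e ≤ V (e + 1) := fun e => by
    rintro _ ⟨p, hp, rfl⟩
    exact hmem p (le_add_right ((MvPolynomial.mem_restrictTotalDegree _ _ _).1 hp))
  have hclosed : ∀ e, V (e + 1) = V e → V e = ⊤ := fun e he => by
    refine eq_top_iff.2 ?_
    rintro z -
    obtain ⟨p, rfl⟩ := Ideal.Quotient.mk_surjective z
    induction p using MvPolynomial.induction_on with
    | C a => exact hmem _ (by simp)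
    | add p p' hp hp' => rw [map_add]; exact add_mem hp hp'
    | mul_X p i hp =>
      obtain ⟨r, hr, hrp⟩ := hp
      change Ideal.Quotient.mk I r = Ideal.Quotient.mk I p at hrp
      rw [← he, map_mul, ← hrp, ← map_mul]
      refine hmem _ ((MvPolynomial.totalDegree_mul _ _).trans (add_le_add
        ((MvPolynomial.mem_restrictTotalDegree _ _ _).1 hr) ?_))
      exact MvPolynomial.totalDegree_X (R := k) i |>.le
  have key : ∀ e, V e = ⊤ ∨ e < Module.finrank k (V e) := by
    intro e
    induction e with
    | zero =>
      by_cases h : V 0 = ⊥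
      · left
        have h1 : q 1 = 0 := by
          rw [← Submodule.mem_bot k, ← h]
          exact hmem 1 (by simp)
        have : (1 : MvPolynomial (Fin N) k ⧸ I) = 0 := by rw [← h1]; exact (map_one (Ideal.Quotient.mkₐ k I)).symm
        exact eq_top_iff.2 fun z _ => by rw [← mul_one z, this, mul_zero]; exact zero_mem _
      · exact Or.inr (Nat.pos_of_ne_zero fun h0 => h (Submodule.finrank_eq_zero.1 h0))
    | succ e ih =>
      rcases ih with ih | ih
      · exact Or.inl (top_le_iff.1 (ih ▸ hmono e))
      by_cases h : V (e + 1) = V e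
      · exact Or.inl (h ▸ hclosed e h)
      · have := Submodule.finrank_lt_finrank_of_lt (lt_of_le_of_ne (hmono e) (Ne.symm h))
        exact Or.inr (by omega)
  rcases key n with h | h
  · exact h
  · exact absurd (Submodule.finrank_le (V n)) (by omega)

end Groth.Agent.S19439
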