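import Groth.Statements.S1944
import Mathlib
import Groth.Agent.CycAffLib.Field
-- import your own Groth.Agent.* helpers here

set_option autoImplicit false
universe u
open CategoryTheory AlgebraicGeometry
open Cyc

namespace Groth.Agent.S1944

/-- Let f : X → Y be flat, locally of finite type, of relative dimension r, such that every point of Y
has an open neighbourhood U over which f⁻¹(U) → U is isomorphic to affine r-space 𝔸^r_U → U. Then
f^* : CH_k(Y) → CH_{k+r}(X) is surjective: every (k + r)-cycle on X is rationally equivalent to the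
flat pullback (taken coefficientwise) of some k-cycle on Y. A pair (X, δ) with Cyc.IsSetup plays the
role of a scheme locally of finite type over a fixed base with a dimension function (X locally
Noetherian with universally catenary local rings, δ a dimension function), and Cyc.DeltaCompat
records that the dimension function upstairs is the induced one. -/
theorem result (X Y : Scheme.{u}) (δX : X → ℤ) (δY : Y → ℤ) (hX : Cyc.IsSetup X δX) (hY : Cyc.IsSetup Y δY) (f : X ⟶ Y) [Flat f] [LocallyOfFiniteType f] (r : ℕ) (hr : Cyc.HasRelDim f r) (hδ : Cyc.DeltaCompat f δX δY) (hloc : ∀ y : Y, ∃ U : Y.Opens, y ∈ U ∧ ∃ e : (↑(f ⁻¹ᵁ U) : Scheme.{u}) ≅ 𝔸(ULift.{u} (Fin r); (↑U : Scheme.{u})), e.hom ≫ (𝔸(ULift.{u} (Fin r); (↑U : Scheme.{u})) ↘ (↑U : Scheme.{u})) = f ∣_ U) (k : ℤ) (β : AlgebraicCycle X ℤ) (hβ : β ∈ Cyc.Zk X δX (k + r)) : ∃ (α : AlgebraicCycle Y ℤ) (β' : AlgebraicCycle X ℤ), α ∈ Cyc.Zk Y δY k ∧ ⇑β' = Cyc.pullFun f δX δY r ⇑α ∧ Cyc.RatEquiv δX (k + r) β β' := by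
  have hA : IsAffineHom f := IsZariskiLocalAtTarget.of_forall_exists_morphismRestrict fun y => by
    obtain ⟨U, hyU, e, he⟩ := hloc y
    refine ⟨U, hyU, ?_⟩
    rw [← he]
    infer_instance
  haveI := hA
  refine CycAffLib.exists_pull_of_fibres hX hY f hr hδ (fun η => ?_) k β hβ
  obtain ⟨U, hηU, e, he⟩ := hloc η
  let n := ULift.{u} (Fin r)
  let κ : CommRingCat.{u} := Y.residueField η
  have hrange : Set.range (Y.fromSpecResidueField η) ⊆ Set.range U.ι := by
    rw [Scheme.range_fromSpecResidueField, Scheme.Opens.range_ι]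
    exact Set.singleton_subset_iff.2 hηU
  let t : Spec κ ⟶ (↑U : Scheme.{u}) := IsOpenImmersion.lift U.ι (Y.fromSpecResidueField η) hrange
  have ht : t ≫ U.ι = Y.fromSpecResidueField η := IsOpenImmersion.lift_fac _ _ hrange
  have h1 := (isPullback_morphismRestrict f U).flip
  have h2 : IsPullback e.inv (𝔸(n; (↑U : Scheme.{u})) ↘ (↑U : Scheme.{u})) (f ∣_ U) (𝟙 _) :=
    IsPullback.of_horiz_isIso ⟨by rw [Category.comp_id, ← he, e.inv_hom_id_assoc]⟩
  have h3 : IsPullback (AffineSpace.map n t) (𝔸(n; Spec κ) ↘ Spec κ) (𝔸(n; (↑U : Scheme.{u})) ↘ (↑U : Scheme.{u})) t :=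
    AffineSpace.isPullback_map t
  have h4 : IsPullback (AffineSpace.SpecIso n κ).inv (Spec.map (CommRingCat.ofHom MvPolynomial.C)) (𝔸(n; Spec κ) ↘ Spec κ) (𝟙 _) :=
    IsPullback.of_horiz_isIso ⟨by rw [Category.comp_id, AffineSpace.SpecIso_inv_over]⟩
  have h := ((h4.paste_horiz h3).paste_horiz h2).paste_horiz h1
  simp only [Category.id_comp, Category.comp_id] at h
  rw [ht] at h
  refine ⟨_, _, _, h, inferInstance, fun w hw => ?_⟩
  obtain ⟨-, hzero⟩ := CycAffLib.affZero r κ (MvPolynomial n κ) (MvPolynomial.renameEquiv κ Equiv.ulift) (δY η) _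
    (CycAffLib.fibre_deltaCompat h hδ)
  exact hzero _ hw _ fun v hv => CycBivLib.pointCycle_ne 1 fun e => hv (by rw [e])

end Groth.Agent.S1944
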