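import Groth.Statements.S19440
import Mathlib


-- import your own Groth.Agent.* helpers here

set_option autoImplicit false
universe u
open LinAlg

namespace Groth.Agent.S19440

/-- Let U, V be commuting n × n matrices over a field k and e a vector which is cyclic for them (the
vectors U^p V^q e span k^n). An invertible matrix T which commutes with U and V and fixes e is the
identity: the general linear group acts freely by simultaneous conjugation on commuting pairs with a
cyclic vector. -/
theorem result (k : Type u) [Field k] (n : ℕ)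
    (U V : Matrix (Fin n) (Fin n) k) (hUV : U * V = V * U) (e : Fin n → k)
    (he : Submodule.span k (Set.range fun p : ℕ × ℕ => (U ^ p.1 * V ^ p.2).mulVec e) = ⊤)
    (T : Matrix.GeneralLinearGroup (Fin n) k)
    (hTU : (T : Matrix (Fin n) (Fin n) k) * U = U * T) (hTV : (T : Matrix (Fin n) (Fin n) k) * V = V * T)
    (hTe : (T : Matrix (Fin n) (Fin n) k).mulVec e = e) : T = 1 := by
  apply Matrix.GeneralLinearGroup.ext
  have hc : ∀ p : ℕ × ℕ, (T : Matrix (Fin n) (Fin n) k) * (U ^ p.1 * V ^ p.2) = (U ^ p.1 * V ^ p.2) * T := fun p =>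
    ((Commute.pow_right hTU p.1).mul_right (Commute.pow_right hTV p.2)).eq
  have hle : (⊤ : Submodule k (Fin n → k)) ≤ LinearMap.eqLocus (T : Matrix (Fin n) (Fin n) k).mulVecLin LinearMap.id := by
    rw [← he, Submodule.span_le]
    rintro _ ⟨p, rfl⟩
    change (T : Matrix (Fin n) (Fin n) k).mulVec ((U ^ p.1 * V ^ p.2).mulVec e) = (U ^ p.1 * V ^ p.2).mulVec e
    rw [Matrix.mulVec_mulVec, hc, ← Matrix.mulVec_mulVec, hTe]
  intro i j
  have := congrFun (hle (Submodule.mem_top (x := Pi.single j 1))) i
  simpa [Matrix.one_apply, Pi.single_apply] using this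

end Groth.Agent.S19440
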