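import Groth.Statements.S19441
import Groth.Agent.HilbPtsLib.ConnHilb

set_option autoImplicit false
set_option backward.isDefEq.respectTransparency false
set_option backward.isDefEq.respectTransparency.types false
universe u
open CategoryTheory CategoryTheory.Limits AlgebraicGeometry
open HilbD HilbPts HilbPts.Conn TensorProduct

namespace Groth.Agent.S19441

theorem hne (k : Type u) [Field k] (R : Type u) [CommRing R] [Algebra k R] [IsLocalRing R] [Module.Finite k R]
    (i : ℕ) (hi : i < Module.finrank k R) : Hne (Spec.map (CommRingCat.ofHom (algebraMap k R))) i := by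
  intro B _ _ _ iW _ w χ J _ hJ he
  haveI : IsArtinianRing R := IsArtinianRing.of_finite k R
  haveI : Subsingleton ↥(Spec (CommRingCat.of R)) := inferInstanceAs (Subsingleton (PrimeSpectrum R))
  let z : ↥(Spec (CommRingCat.of B)) := (⟨RingHom.ker χ.toRingHom, RingHom.ker_isPrime _⟩ : PrimeSpectrum B)
  haveI : Surjective iW := ⟨fun a => ⟨z, Subsingleton.elim _ _⟩⟩
  haveI : IsIso iW := AlgebraicGeometry.IsOpenImmersion.isIso iW
  obtain ⟨φ, hφ⟩ := Spec.map_surjective iW
  haveI : IsIso (Spec.map φ) := by rw [hφ]; infer_instance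
  haveI : IsIso φ := (ConcreteCategory.isIso_iff_bijective φ).2 (AlgebraicGeometry.isIso_SpecMap_iff.1 ‹IsIso (Spec.map φ)›)
  have hc : φ.hom.comp (algebraMap k R) = algebraMap k B := by
    have h : Spec.map (CommRingCat.ofHom (algebraMap k R) ≫ φ) = Spec.map (CommRingCat.ofHom (algebraMap k B)) := by
      rw [Spec.map_comp, hφ, w]
    exact congrArg CommRingCat.Hom.hom (Spec.map_injective h)
  let e : R ≃ₐ[k] (k ⊗[k] B) :=
    (AlgEquiv.ofBijective { φ.hom with commutes' := fun c => RingHom.congr_fun hc c }
      (ConcreteCategory.bijective_of_isIso φ)).trans (Algebra.TensorProduct.lid k B).symm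
  haveI : IsLocalRing (k ⊗[k] B) := e.toRingEquiv.isLocalRing
  haveI : Module.Finite k (k ⊗[k] B) := Module.Finite.equiv e.toLinearEquiv
  haveI : IsNoetherianRing (k ⊗[k] B) := isNoetherian_of_tower k inferInstance
  have h0 : J = ⊥ := by
    refine Submodule.eq_bot_of_le_smul_of_le_jacobson_bot (RingHom.ker (ConnAlg.chiC χ)) J
      (IsNoetherian.noetherian J) he.ge ?_
    rw [IsLocalRing.jacobson_eq_maximalIdeal ⊥ bot_ne_top]
    exact IsLocalRing.le_maximalIdeal (RingHom.ker_ne_top _)
  subst h0
  have h1 := (AlgEquiv.quotientBot k (k ⊗[k] B)).toLinearEquiv.finrank_eq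
  rw [hJ, ← e.toLinearEquiv.finrank_eq] at h1
  omega

/-- Let k be an algebraically closed field and R a local commutative k-algebra, finite-dimensional over
k. For every n, if (H, Z) represents the Hilbert functor of n points of Spec R over Spec k (Z a
closed subscheme of Spec R ×_k H finite locally free of degree n over H, every such family over a
k-scheme T being the pullback of Z along a unique k-morphism T → H), then H — the punctual Hilbert
scheme of ideals of colength n of R — has preconnected underlying space (connected when non-empty). -/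
theorem result (k : Type u) [Field k] [IsAlgClosed k]
    (R : Type u) [CommRing R] [Algebra k R] [IsLocalRing R] [Module.Finite k R] (n : ℕ)
    (H : Over (Spec (CommRingCat.of k)))
    (Z : HilbD.Obj (Spec.map (CommRingCat.ofHom (algebraMap k R))) n H)
    (hH : HilbD.IsUniversal (Spec.map (CommRingCat.ofHom (algebraMap k R))) n H Z) :
    PreconnectedSpace H.left := by
  rcases isEmpty_or_nonempty H.left with h | h
  · exact ⟨Set.subsingleton_univ.isPreconnected⟩
  let f := Spec.map (CommRingCat.ofHom (algebraMap k R))
  haveI : IsFinite f := (IsFinite.SpecMap_iff _).2 (RingHom.finite_algebraMap.2 inferInstance)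
  haveI : IsProper f := inferInstance
  have hAF : SymProd.IsAF f := fun s t _ => ⟨⊤, isAffineOpen_top _, fun x _ => trivial⟩
  haveI : ConnectedSpace ↥(Spec (CommRingCat.of R)) := by
    haveI : IsArtinianRing R := IsArtinianRing.of_finite k R
    haveI : Subsingleton ↥(Spec (CommRingCat.of R)) := inferInstanceAs (Subsingleton (PrimeSpectrum R))
    haveI : Nonempty ↥(Spec (CommRingCat.of R)) := inferInstanceAs (Nonempty (PrimeSpectrum R))
    exact { toPreconnectedSpace := ⟨Set.subsingleton_univ.isPreconnected⟩, toNonempty := inferInstance }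
  haveI := SC.locallyOfFiniteType_hom hAF hH
  haveI : JacobsonSpace ↥H.left := LocallyOfFiniteType.jacobsonSpace H.hom
  obtain ⟨z, -, hz⟩ := nonempty_inter_closedPoints (Z := (Set.univ : Set ↥H.left)) Set.univ_nonempty
    isClosed_univ.isLocallyClosed
  let a := pointOfClosedPoint H.hom z hz
  have w : 𝟙 (Spec (CommRingCat.of R)) ≫ f = Spec.map (CommRingCat.ofHom (algebraMap k R)) := Category.id_comp _
  have ha : a ≫ H.hom = gR (kCh R (𝟙 _) w) k := by rw [gR_self]; exact pointOfClosedPoint_comp _ _ _
  have hs : Supp (kCh R (𝟙 _) w) (Z.1.comap (m f a ha)) := fun x _ => ⟨x, rfl⟩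
  obtain ⟨J, hJ⟩ := exists_sid ((Z.1.comap (m f a ha)).comap (eR (kCh R (𝟙 _) w) k))
  obtain ⟨-, hd⟩ := finrank_of_supp (isFinLocFreeOfDeg_of_isPullback (isPullback_comap_m f a ha Z.1) Z.2) hs hJ
  haveI : Module.Finite k (k ⊗[k] R) := Module.Finite.equiv (Algebra.TensorProduct.lid k R).symm.toLinearEquiv
  have hn : n ≤ Module.finrank k R := by
    rw [← (Algebra.TensorProduct.lid k R).toLinearEquiv.finrank_eq, ← hd]
    exact LinearMap.finrank_le_finrank_of_surjective (f := (Ideal.Quotient.mkₐ k J).toLinearMap)
      Ideal.Quotient.mk_surjective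
  exact (connectedSpace_hilb hAF n (fun i hi => hne k R i (by omega)) H Z hH).toPreconnectedSpace

end Groth.Agent.S19441
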