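import Groth.Statements.S19442
import Groth.Agent.S11300
import Groth.Agent.HilbPtsLib.ConnOpen
import Groth.Agent.HilbPtsLib.Fogarty
import Groth.Agent.HilbPtsLib.ProperHilb

set_option backward.isDefEq.respectTransparency false
set_option backward.isDefEq.respectTransparency.types false

set_option autoImplicit false
universe u
open CategoryTheory CategoryTheory.Limits AlgebraicGeometry
open HilbD HilbPts

namespace Groth.Agent.S19442

/-- Let k be an algebraically closed field and X a smooth connected quasi-projective surface over k —
the structure morphism X → Spec k is smooth and factors as a quasi-compact immersion into a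
projective space over k, and X is connected of dimension 2. Let n ≥ 0 and let (H, Z) represent the
Hilbert functor of n points of X over k: Z is a closed subscheme of X ×_k H finite locally free of
degree n over H and every such family over a k-scheme T is the pullback of Z along a unique
k-morphism T → H. Then H is connected, every local ring of H is regular, and the dimension of H is
2n. -/
theorem result (k : Type u) [Field k]
    [IsAlgClosed k] (X : Over (Spec (CommRingCat.of k))) [Smooth X.hom]
    (hqp : RelProj.IsHQuasiProjective X.hom) [ConnectedSpace X.left] (hdim : topologicalKrullDim X.left = 2)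
    (n : ℕ) (H : Over (Spec (CommRingCat.of k))) (Z : HilbD.Obj X.hom n H)
    (hH : HilbD.IsUniversal X.hom n H Z) :
    ConnectedSpace H.left ∧ (∀ h : H.left, IsRegularLocalRing (H.left.presheaf.stalk h)) ∧
      topologicalKrullDim H.left = (2 * n : ℕ) := by
  obtain ⟨r, i, hi, hqi, hiY⟩ := hqp
  haveI := hi
  haveI := hqi
  haveI := ChowLib.isProper_toBase r (Spec (CommRingCat.of k))
  haveI : QuasiCompact X.hom := by rw [← hiY]; infer_instance
  haveI : IsSeparated X.hom := by rw [← hiY]; infer_instance
  have hA : CohB1.IsAmple ((Scheme.Modules.pullback i).obj (Twist.twistOver r (Spec (CommRingCat.of k)) 1)) :=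
    AmpleThLib.isAmple_of_isRelVeryAmplePn X.hom
      (AmpleDevLib.isInvertible_pb i (PicPnLib.twistOver_inv r (Spec (CommRingCat.of k)) 1))
      ⟨r, i, inferInstance, hiY, ⟨Iso.refl _⟩⟩
  have hAF : SymProd.IsAF X.hom := fun s t _ => AmpleThLib.exists_affineOpen_finset hA t
  haveI : IsLocallyNoetherian X.left := LocallyOfFiniteType.isLocallyNoetherian X.hom
  have hreg : ∀ x : X.left, IsRegularLocalRing (X.left.presheaf.stalk x) := fun x =>
    (DepthLib.regular_of_smooth_and_conversely X.hom x).1 (by rw [Scheme.Hom.smoothLocus_eq_top]; trivial)
  haveI : ∀ x : X.left, IsDomain (X.left.presheaf.stalk x) := fun x =>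
    haveI := hreg x
    CommAlgDim.isDomain_of_isRegularLocalRing _
  haveI : IrreducibleSpace X.left := Groth.Agent.WeilRes.irreducibleSpace_of_isDomain_stalks
  have hs : Fogarty.IsSurf X.hom := fun x hx => ⟨hreg x, by
    rw [← FibDimLib.localDim_eq_stalk_of_isClosed X.hom hx, FibDimLib.localDim_of_irreducible X.hom x, hdim]⟩
  haveI : ConnectedSpace H.left := Conn.connectedSpace_hilb_open hAF n
    (fun j _ => Groth.Agent.S11300.hne k X.hom (by rw [hdim]; norm_num) j) H Z hH
  haveI := SC.locallyOfFiniteType_hom hAF hH
  haveI := SC.quasiCompact_hom_of_isAF hAF hH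
  obtain ⟨h1, -, h3⟩ := Fogarty.regular_irreducible_dim hAF hs hH
  exact ⟨inferInstance, h1, h3⟩

end Groth.Agent.S19442
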