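import Groth.Statements.S19443
import Mathlib


-- import your own Groth.Agent.* helpers here

set_option autoImplicit false
universe u
open LinAlg

namespace Groth.Agent.S19443

/-- Algebraic form: let G be a finite group with order invertible in the field k, ρ a linear
representation of G on a k-vector space V, and ω a nondegenerate bilinear form on V invariant under
G. Then ω restricted to the fixed subspace V^G is nondegenerate (for a finite group of symplectic
automorphisms, the fixed subspace is a symplectic subspace). -/
theorem result (k : Type u) [Field k]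
    (G : Type u) [Group G] [Finite G] (hG : (Nat.card G : k) ≠ 0)
    (V : Type u) [AddCommGroup V] [Module k V] (ρ : Representation k G V)
    (ω : LinearMap.BilinForm k V) (hω : ω.Nondegenerate)
    (hinv : ∀ (g : G) (v w : V), ω (ρ g v) (ρ g w) = ω v w) :
    (ω.restrict ρ.invariants).Nondegenerate := by
  haveI := Fintype.ofFinite G
  have avg : ∀ w : V, ∑ g : G, ρ g w ∈ ρ.invariants := fun w g => by
    rw [map_sum]
    exact Fintype.sum_bijective (g * ·) (Group.mulLeft_bijective g) _ _ fun x => (by rw [map_mul]; rfl)
  refine ⟨fun v hv => ?_, fun v hv => ?_⟩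
  · refine Subtype.ext (hω.1 v.1 fun w => ?_)
    have h0 : ω v.1 (∑ g : G, ρ g w) = 0 := hv ⟨_, avg w⟩
    have e : ∀ g : G, ω v.1 (ρ g w) = ω v.1 w := fun g => by
      conv_lhs => rw [← v.2 g]
      exact hinv g _ _
    rw [map_sum, Finset.sum_congr rfl (fun g _ => e g), Finset.sum_const, Finset.card_univ, nsmul_eq_mul, ← Nat.card_eq_fintype_card, mul_eq_zero] at h0
    exact h0.resolve_left hG
  · refine Subtype.ext (hω.2 v.1 fun w => ?_)
    have h0 : ω (∑ g : G, ρ g w) v.1 = 0 := hv ⟨_, avg w⟩
    have e : ∀ g : G, ω (ρ g w) v.1 = ω w v.1 := fun g => by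
      conv_lhs => rw [← v.2 g]
      exact hinv g _ _
    rw [map_sum, LinearMap.sum_apply, Finset.sum_congr rfl (fun g _ => e g), Finset.sum_const, Finset.card_univ, nsmul_eq_mul, ← Nat.card_eq_fintype_card, mul_eq_zero] at h0
    exact h0.resolve_left hG

end Groth.Agent.S19443
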