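import Groth.Statements.S19444
import Groth.Agent.ZCLib.Span
import Mathlib.RingTheory.Norm.Basic

set_option autoImplicit false
universe u
open SymTen

namespace Groth.Agent.S19444

/-- Linearised norm: let A be a commutative ring in which n! is invertible and R a commutative
A-algebra, free of rank n as an A-module. There is a unique A-algebra homomorphism from the
symmetric tensors TS^n_A(R) to A taking r ⊗ ⋯ ⊗ r to the norm of r for every r in R. (The published
corollary is stated for any free algebra of rank n; the construction printed for it divides by n!,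
and n! invertible is assumed here.) -/
theorem result (A : Type u) [CommRing A] (R : Type u) [CommRing R]
    [Algebra A R] [Module.Free A R] [Module.Finite A R] (n : ℕ) (hn : Module.finrank A R = n)
    (hfact : IsUnit ((Nat.factorial n : ℕ) : A)) :
    ∃! φ : SymTen.TS A R n →ₐ[A] A, ∀ r : R, φ (SymTen.tpow A R n r) = Algebra.norm A r := by
  obtain ⟨f, hf, -⟩ := ZCLib.isGammaD_tau_of_isUnit (A := A) (B := R) hfact A
    (PolLaw.normLaw A R n hn)
  have hval : ∀ r : R, f (SymTen.tpow A R n r) = Algebra.norm A r := by
    intro r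
    rw [← ZCLib.ground_tau]
    have h := congrArg (fun F : R →ₚₗ[A] A => F.toFun' A ((1 : A) ⊗ₜ[A] r)) hf
    replace h : f.toLinearMap.lTensor A ((ZCLib.tau A R n).law.toFun' A ((1 : A) ⊗ₜ[A] r)) =
        (PolLaw.normLaw A R n hn).law.toFun' A ((1 : A) ⊗ₜ[A] r) := h
    rw [PolLaw.normLaw_apply] at h
    have h2 := congrArg (TensorProduct.lid A A) h
    rw [TensorProduct.lid_tmul, smul_eq_mul, mul_one] at h2
    have h3 : Algebra.norm A ((1 : A) ⊗ₜ[A] r) = Algebra.norm A r :=
      (Algebra.norm_eq_of_algEquiv (Algebra.TensorProduct.lid A R).symm r)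
    rw [h3] at h2
    rw [← h2]
    show f (TensorProduct.lid A _ ((ZCLib.tau A R n).law.toFun' A ((1 : A) ⊗ₜ[A] r))) = _
    generalize (ZCLib.tau A R n).law.toFun' A ((1 : A) ⊗ₜ[A] r) = x
    induction x with
    | zero => simp
    | tmul s t => simp
    | add a b ha hb => simp only [map_add, ha, hb]
  exact ⟨f, hval, fun g hg => ZCLib.algHom_ext_tpow hfact fun b => by rw [hg, hval]⟩

end Groth.Agent.S19444
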