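import Groth.Statements.S19446
import Groth.Agent.NegLib.Core
import Groth.Agent.FibDimLib.ClosureDim
import Groth.Agent.DimIneqLib.Dim
import Groth.Agent.IntMultLib.Positive
import Groth.Agent.S1684
import Groth.Agent.RegUFDLib.Basic
-- import your own Groth.Agent.* helpers here

set_option autoImplicit false
set_option backward.isDefEq.respectTransparency false
set_option backward.isDefEq.respectTransparency.types false
universe u
open CategoryTheory CategoryTheory.Limits AlgebraicGeometry
open Resolve

namespace Groth.Agent.S19446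

/-- Let R be a Noetherian normal local domain of dimension 2 with residue field κ and π : Y → Spec R a
proper morphism from an integral scheme with regular local rings which is an isomorphism over the
complement of the closed point (a resolution of the surface singularity). Let E_1, …, E_r be
pairwise distinct integral closed subschemes of Y of dimension one, each mapping to the closed point
(given with its structure morphism to Spec κ), which together cover the fibre over the closed point,
and for each j let L_j be an O_Y-module with L_j ⊗ I_{E_j} ≅ O_Y, i.e. L_j = O_Y(E_j). With a_ij the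
degree over κ of the restriction of L_j to E_i (the intersection number E_i·E_j), the quadratic form
Σ x_i x_j a_ij is negative for every nonzero integer vector x: the intersection matrix of the
exceptional curves is negative definite. -/
theorem result (R : Type u) [CommRing R] [IsDomain R]
    [IsNoetherianRing R] [IsLocalRing R] [IsIntegrallyClosed R] (hdimR : ringKrullDim R = 2)
    (Y : Scheme.{u}) (π : Y ⟶ Spec (CommRingCat.of R)) [IsProper π] [IsIntegral Y]
    (hreg : ∀ y : Y, IsRegularLocalRing (Y.presheaf.stalk y))
    (U : (Spec (CommRingCat.of R)).Opens)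
    (hU : ∀ p : Spec (CommRingCat.of R), p ∈ U ↔ p ≠ IsLocalRing.closedPoint R) (hbir : IsIso (π ∣_ U))
    (r : ℕ) (E : Fin r → Scheme.{u}) (e : ∀ i, E i ⟶ Y) [∀ i, IsClosedImmersion (e i)]
    [∀ i, IsIntegral (E i)] (hE : ∀ i, topologicalKrullDim (E i) = 1)
    (s : ∀ i, E i ⟶ Spec (CommRingCat.of (IsLocalRing.ResidueField R)))
    (hs : ∀ i, e i ≫ π = s i ≫ Spec.map (CommRingCat.ofHom (IsLocalRing.residue R)))
    (hdist : ∀ i j, i ≠ j → Set.range (e i).base ≠ Set.range (e j).base)
    (hcov : ∀ y : Y, π.base y ∉ U → ∃ i, y ∈ Set.range (e i).base)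
    (L : Fin r → Y.Modules) (hL : ∀ j, ClSub.IsInverseOf (L j) (ClSub.idealMod (e j).ker))
    (x : Fin r → ℤ) (hx : x ≠ 0) :
    ∑ i, ∑ j, x i * x j *
      @Curv2.deg (IsLocalRing.ResidueField R) _ (E i) ⟨s i⟩ ((Scheme.Modules.pullback (e i)).obj (L j)) 1 < 0 := by
  classical
  haveI : IsLocallyNoetherian Y := LocallyOfFiniteType.isLocallyNoetherian π
  haveI : CompactSpace Y := QuasiCompact.compactSpace_of_compactSpace π
  haveI : AlgebraicGeometry.IsNoetherian Y := { }
  have hρ : Function.Surjective (IsLocalRing.residue R) := IsLocalRing.residue_surjective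
  have hUne : (U : Set (Spec (CommRingCat.of R))).Nonempty := by
    refine ⟨(⟨⊥, Ideal.isPrime_bot⟩ : PrimeSpectrum R), (hU _).2 fun h => ?_⟩
    have h1 : (⊥ : Ideal R) = IsLocalRing.maximalIdeal R := congrArg PrimeSpectrum.asIdeal h
    have h2 := ringKrullDim_eq_zero_of_isField (IsLocalRing.isField_iff_maximalIdeal_eq.mpr h1.symm)
    rw [hdimR] at h2
    exact absurd h2 (by norm_num)
  haveI := hbir
  have hcl : ∀ i c, π (e i c) = IsLocalRing.closedPoint R := fun i c => by
    rw [← Scheme.Hom.comp_apply, hs i, Scheme.Hom.comp_apply]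
    show PrimeSpectrum.comap (IsLocalRing.residue R) _ = _
    rw [Subsingleton.elim ((s i) c : PrimeSpectrum (IsLocalRing.ResidueField R)) (IsLocalRing.closedPoint _)]
    exact IsLocalRing.comap_closedPoint (IsLocalRing.residue R)
  have hout : ∀ i c, π (e i c) ∉ U := fun i c h => (hU _).1 h (hcl i c)
  have hcart : ∀ i, BlowUp.IsEffCartierIdeal (e i).ker := fun i => by
    haveI : IsIntegral (e i).ker.subscheme := IsIntegral.of_isIso (e i).toImage
    refine Groth.Agent.S1684.result Y (e i).ker ?_ fun x _ => by
      haveI := hreg x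
      exact ⟨CommAlgDim.isDomain_of_isRegularLocalRing _, RegUFDLib.uniqueFactorizationMonoid _⟩
    have hg : (e i).ker.subschemeι (genericPoint (e i).ker.subscheme) = e i (genericPoint (E i)) := by
      conv_rhs => rw [← (e i).toImage_imageι]
      rw [Scheme.Hom.comp_apply]
      exact congrArg (e i).ker.subschemeι (genericPoint_eq_of_isOpenImmersion (e i).toImage).symm
    rw [hg]
    set ξ := e i (genericPoint (E i))
    haveI : IsProper (s i) := NegLib.isProper_s R π _ (IsLocalRing.residue R) hρ E e s hs i
    haveI : CompactSpace (E i) := QuasiCompact.compactSpace_of_compactSpace (s i)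
    obtain ⟨c, -, hc⟩ := IsClosed.exists_closed_singleton (isClosed_univ (X := ↥(E i))) Set.univ_nonempty
    have hcg : genericPoint (E i) ≠ c := fun h => by
      have h1 : (Set.univ : Set (E i)) = {c} := by
        rw [← hc.closure_eq, ← h, (genericPoint_spec (E i)).def]
      haveI : Subsingleton (E i) := ⟨fun a b => by
        have ha : a ∈ ({c} : Set (E i)) := h1 ▸ Set.mem_univ a
        have hb : b ∈ ({c} : Set (E i)) := h1 ▸ Set.mem_univ b
        exact (Set.mem_singleton_iff.1 ha).trans (Set.mem_singleton_iff.1 hb).symm⟩
      haveI : Subsingleton (TopologicalSpace.IrreducibleCloseds (E i)) := ⟨fun a b => TopologicalSpace.IrreducibleCloseds.ext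
        ((Subsingleton.eq_univ_of_nonempty a.isIrreducible.nonempty).trans
          (Subsingleton.eq_univ_of_nonempty b.isIrreducible.nonempty).symm)⟩
      have h0 : topologicalKrullDim (E i) ≤ 0 := Order.krullDim_nonpos_of_subsingleton
      rw [hE i] at h0
      exact absurd h0 (by norm_num)
    have hd1 : ringKrullDim (Y.presheaf.stalk (genericPoint Y)) < ringKrullDim (Y.presheaf.stalk ξ) :=
      FibDimLib.ringKrullDim_stalk_lt ((genericPoint_spec Y).specializes (Set.mem_univ ξ)) fun h =>
        hout i (genericPoint (E i)) (by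
          show π ξ ∈ U
          rw [← h]
          exact ModifLib.genericPoint_mem π hUne)
    have hd2 : ringKrullDim (Y.presheaf.stalk ξ) < ringKrullDim (Y.presheaf.stalk (e i c)) :=
      FibDimLib.ringKrullDim_stalk_lt (((genericPoint_spec (E i)).specializes (Set.mem_univ c)).map (e i).continuous)
        fun h => hcg ((e i).isEmbedding.injective h)
    have hd3 : ringKrullDim (Y.presheaf.stalk (e i c)) ≤ 2 :=
      (ModifLib.stalk_dim_le π hUne (e i c)).trans ((DimIneqLib.stalk_dim_le_dim _).trans
        (((PrimeSpectrum.topologicalKrullDim_eq_ringKrullDim R).trans hdimR).le))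
    have hd0 : (0 : WithBot ℕ∞) ≤ ringKrullDim (Y.presheaf.stalk (genericPoint Y)) := ringKrullDim_nonneg_of_nontrivial
    have h01 := hd0.trans_lt hd1
    have h12 := hd2.trans_le hd3
    revert h01 h12
    generalize ringKrullDim (Y.presheaf.stalk ξ) = b
    intro h01 h12
    induction b using WithBot.recBotCoe with
    | bot => simp at h01
    | coe b =>
      induction b using ENat.recTopCoe with
      | top => exact absurd h12 (not_lt.2 le_top)
      | coe n =>
        have h1 : 0 < n := by exact_mod_cast h01
        have h2 : n < 2 := by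
          have h12' : ((n : ℕ∞) : WithBot ℕ∞) < ((2 : ℕ∞) : WithBot ℕ∞) := h12
          exact_mod_cast h12'
        have : n = 1 := by omega
        subst this
        rfl
  have hpos := NegLib.contracted_pos R π U hUne _ (IsLocalRing.residue R) hρ E e hE hcart s hs hdist hout x hx
  have hneg : ∀ i j, @Curv2.deg (IsLocalRing.ResidueField R) _ (E i) ⟨s i⟩ ((Scheme.Modules.pullback (e i)).obj (L j)) 1 =
      -NegLib.dg (s i) (KFlatLib.pb (e i) (ClSub.idealMod (e j).ker)) := fun i j => by
    letI : (E i).Over (Spec (CommRingCat.of (IsLocalRing.ResidueField R))) := ⟨s i⟩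
    haveI : IsProper (E i ↘ Spec (CommRingCat.of (IsLocalRing.ResidueField R))) :=
      NegLib.isProper_s R π _ (IsLocalRing.residue R) hρ E e s hs i
    have hI := IntMultLib.isInvertible_idealMod _ (hcart j)
    obtain ⟨l⟩ := hL j
    have hLi : PicF.IsInvertible (L j) :=
      IntMultLib.isInvertible_of_inverse hI (HilbPolyLib.swapIso _ _ ≪≫ l)
    obtain ⟨b⟩ := BlowPtLib.nonempty_pb_tensor (e i) (L j) (ClSub.idealMod (e j).ker)
    have h1 := GenusZeroLib.deg_tensor (IsLocalRing.ResidueField R) (hE i)
      (AmpleDevLib.isInvertible_pb (e i) hLi) (AmpleDevLib.isInvertible_pb (e i) hI)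
    rw [← CurvLib.deg_congr b, CurvLib.deg_congr ((Scheme.Modules.pullback (e i)).mapIso l ≪≫ KFlatLib.pullUnitIso (e i))] at h1
    rw [Curv2.deg, Nat.cast_one, one_mul, sub_self] at h1
    show Curv2.deg _ (E i) _ 1 = -Curv2.deg _ (E i) _ 1
    change 0 = Curv2.deg _ (E i) ((Scheme.Modules.pullback (e i)).obj (L j)) 1 + Curv2.deg _ (E i) _ 1 at h1
    linarith
  simp only [hneg, mul_neg, Finset.sum_neg_distrib, neg_lt_zero]
  exact hpos

end Groth.Agent.S19446
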