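import Groth.Statements.S19447
import Groth.Agent.PseudoReflLib.Main
import Groth.Agent.CohenLib.FSRegular
import Groth.Agent.RegFlatLib.Basic
import Mathlib.RingTheory.MvPowerSeries.NoZeroDivisors

set_option autoImplicit false
set_option backward.isDefEq.respectTransparency false
set_option backward.isDefEq.respectTransparency.types false
set_option maxRecDepth 8000
set_option maxHeartbeats 1000000
universe u
open ConstAct

namespace Groth.Agent.S19447

/-- Let k be an algebraically closed field, A the power series ring in n variables over k with maximal
ideal M, and G a finite group of order invertible in k acting faithfully on A by k-algebra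
automorphisms, A being finite over the ring of invariants A^G. Say g is a pseudo-reflection or acts
trivially on the cotangent space when A modulo M^2 and the elements g·a − a has dimension at least n
over k. If G is generated by such elements, then A is flat over A^G and A^G is a regular local ring:
generation by pseudo-reflections implies the other two conditions of the published criterion (only
this sufficiency half is stated; the converse implication is not part of this statement). -/
theorem result (k : Type u) [Field k]
    [IsAlgClosed k] (n : ℕ) (G : Type u) [Group G] [Finite G] [MulSemiringAction G (MvPowerSeries (Fin n) k)]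
    [SMulCommClass G k (MvPowerSeries (Fin n) k)] [FaithfulSMul G (MvPowerSeries (Fin n) k)]
    (hG : (Nat.card G : k) ≠ 0)
    [Module.Finite (ConstAct.inv k (MvPowerSeries (Fin n) k) G) (MvPowerSeries (Fin n) k)]
    (hgen : Subgroup.closure {g : G | n ≤ Module.finrank k (MvPowerSeries (Fin n) k ⧸
        (Ideal.span {x : MvPowerSeries (Fin n) k | ∃ a, x = g • a - a} ⊔
          IsLocalRing.maximalIdeal (MvPowerSeries (Fin n) k) ^ 2))} = ⊤) :
    Module.Flat (ConstAct.inv k (MvPowerSeries (Fin n) k) G) (MvPowerSeries (Fin n) k) ∧
      IsRegularLocalRing (ConstAct.inv k (MvPowerSeries (Fin n) k) G) := by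
  classical
  haveI : IsDomain (MvPowerSeries (Fin n) k) := NoZeroDivisors.to_isDomain _
  haveI : IsNoetherianRing (MvPowerSeries (Fin n) k) := CohenLib.isNoetherianRing_mvPowerSeries (n := n) k
  have hm : IsLocalRing.maximalIdeal (MvPowerSeries (Fin n) k) = Ideal.span (Set.range MvPowerSeries.X) :=
    CohenLib.maximalIdeal_mvPowerSeries_field k n
  have hres : ∀ a : MvPowerSeries (Fin n) k, ∃ c : k,
      a - algebraMap k (MvPowerSeries (Fin n) k) c ∈ IsLocalRing.maximalIdeal (MvPowerSeries (Fin n) k) := fun a => by
    refine ⟨MvPowerSeries.constantCoeff a, ?_⟩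
    rw [CohenLib.maximalIdeal_mvPowerSeries_field, ← CohenLib.ker_constantCoeff, RingHom.mem_ker, map_sub,
      show algebraMap k (MvPowerSeries (Fin n) k) (MvPowerSeries.constantCoeff a) =
        MvPowerSeries.C (MvPowerSeries.constantCoeff a) from rfl, MvPowerSeries.constantCoeff_C, sub_self]
  obtain ⟨hloc, hnoeth, hhom, hflat⟩ := PseudoReflLib.main (k := k) (A := MvPowerSeries (Fin n) k) (G := G) hG _ hgen
    (fun g hg => PseudoReflLib.exists_generator hres n MvPowerSeries.X hm.symm hG g hg)
  refine ⟨hflat, ?_⟩
  haveI := CohenLib.isRegularLocalRing_mvPowerSeries (L := k) n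
  exact RegFlatLib.isRegularLocalRing_of_flat (ConstAct.inv k (MvPowerSeries (Fin n) k) G) (MvPowerSeries (Fin n) k)

end Groth.Agent.S19447
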