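import Groth.Statements.S19448
import Mathlib.RingTheory.Filtration
import Mathlib.GroupTheory.OrderOfElement
import Mathlib.RingTheory.LocalRing.ResidueField.Basic
-- import your own Groth.Agent.* helpers here

set_option autoImplicit false
universe u
open CAlg

namespace Groth.Agent.S19448

/-- Let k be a field, A a Noetherian local k-algebra with maximal ideal M and residue field k, and G a
finite group with |G| ≠ 0 in k acting on A by k-algebra automorphisms. An element of G which acts
trivially on M/M^2 acts trivially on A; in other words the stabilizer acts faithfully on the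
cotangent space whenever it acts faithfully on the local ring. -/
theorem result (k : Type u) [Field k] (A : Type u) [CommRing A]
    [Algebra k A] [IsLocalRing A] [IsNoetherianRing A]
    (hres : Function.Surjective (algebraMap k (IsLocalRing.ResidueField A)))
    (G : Type u) [Group G] [Finite G] [MulSemiringAction G A] [SMulCommClass G k A]
    (hG : (Nat.card G : k) ≠ 0) (g : G)
    (hg : ∀ a ∈ IsLocalRing.maximalIdeal A, g • a - a ∈ IsLocalRing.maximalIdeal A ^ 2) (a : A) :
    g • a = a := by
  let M := IsLocalRing.maximalIdeal A
  let φ : A →+* A := MulSemiringAction.toRingHom G A g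
  have hM : ∀ {x : A}, x ∈ M → g • x ∈ M := fun {x} hx hu => hx (by
    have := hu.map (MulSemiringAction.toRingHom G A g⁻¹)
    simpa using this)
  have hMi : ∀ (i : ℕ) {x : A}, x ∈ M ^ i → g • x ∈ M ^ i := fun i x hx => by
    have h1 : M.map φ ≤ M := Ideal.map_le_iff_le_comap.2 fun y hy => hM hy
    have h2 : (M ^ i).map φ ≤ M ^ i := by rw [Ideal.map_pow]; exact Ideal.pow_right_mono h1 i
    exact h2 (Ideal.mem_map_of_mem φ hx)
  have hscal : ∀ a : A, ∃ c : k, a - algebraMap k A c ∈ M := fun a => by
    obtain ⟨c, hc⟩ := hres (IsLocalRing.residue A a)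
    refine ⟨c, ?_⟩
    rw [← IsLocalRing.residue_eq_zero_iff, map_sub, ← hc, sub_eq_zero]
    rfl
  have hfix : ∀ c : k, g • algebraMap k A c = algebraMap k A c := fun c => by
    rw [Algebra.algebraMap_eq_smul_one, smul_comm, smul_one]
  have main : ∀ j : ℕ, ∀ b ∈ M, g • b - b ∈ M ^ (j + 2) := by
    intro j
    induction j with
    | zero => exact hg
    | succ j ih =>
      intro b hb
      have hpow : ∀ i : ℕ, ∀ x ∈ M ^ (i + 1), g • x - x ∈ M ^ (i + (j + 2)) := by
        intro i
        induction i with
        | zero => intro x hx; rw [zero_add, pow_one] at hx; rw [zero_add]; exact ih x hx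
        | succ i ihi =>
          intro x hx
          rw [pow_succ] at hx
          refine Submodule.mul_induction_on hx (fun y hy z hz => ?_) (fun y z hy hz => ?_)
          · rw [smul_mul', show (g • y) * (g • z) - y * z = (g • y - y) * (g • z) + y * (g • z - z) by ring]
            refine add_mem ?_ ?_
            · have h1 := Ideal.mul_mem_mul (ihi y hy) (hM hz)
              rwa [← pow_succ, show i + (j + 2) + 1 = i + 1 + (j + 2) by omega] at h1
            · have h1 := Ideal.mul_mem_mul hy (ih z hz)
              rwa [← pow_add] at h1
          · rw [smul_add, add_sub_add_comm]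
            exact add_mem hy hz
      have hiter : ∀ m : ℕ, g ^ m • b - b - m • (g • b - b) ∈ M ^ (j + 1 + 2) := by
        intro m
        induction m with
        | zero => simp
        | succ m ihm =>
          have h1 := hMi _ ihm
          have h2 : g • (g • b - b) - (g • b - b) ∈ M ^ (j + 1 + 2) := by
            have h3 := hpow (j + 1) _ (by simpa [add_assoc] using ih b hb)
            exact Ideal.pow_le_pow_right (by omega) h3
          have e : g ^ (m + 1) • b - b - (m + 1) • (g • b - b) =
              g • (g ^ m • b - b - m • (g • b - b)) + m • (g • (g • b - b) - (g • b - b)) := by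
            rw [pow_succ', mul_smul]
            show φ (g ^ m • b) - b - (m + 1) • (φ b - b) =
              φ (g ^ m • b - b - m • (φ b - b)) + m • (φ (φ b - b) - (φ b - b))
            simp only [map_sub, nsmul_eq_mul, map_mul, map_natCast, Nat.cast_add, Nat.cast_one]
            ring
          rw [e]
          exact add_mem h1 ((M ^ (j + 1 + 2)).smul_of_tower_mem m h2)
      have h := hiter (orderOf g)
      rw [pow_orderOf_eq_one, one_smul, sub_self, zero_sub, neg_mem_iff, nsmul_eq_mul] at h
      have hu : IsUnit ((orderOf g : ℕ) : A) := by
        have hne : ((orderOf g : ℕ) : k) ≠ 0 := fun h0 => hG (by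
          obtain ⟨d, hd⟩ := orderOf_dvd_natCard g
          rw [hd, Nat.cast_mul, h0, zero_mul])
        have := (Ne.isUnit hne).map (algebraMap k A)
        rwa [map_natCast] at this
      exact (Ideal.unit_mul_mem_iff_mem _ hu).1 h
  obtain ⟨c, hc⟩ := hscal a
  have hall : g • (a - algebraMap k A c) - (a - algebraMap k A c) ∈ ⨅ i : ℕ, M ^ i := by
    rw [Submodule.mem_iInf]
    exact fun i => Ideal.pow_le_pow_right (by omega) (main i _ hc)
  rw [Ideal.iInf_pow_eq_bot_of_isLocalRing M (IsLocalRing.maximalIdeal.isMaximal A).ne_top, Submodule.mem_bot,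
    smul_sub, hfix, sub_sub_sub_cancel_right, sub_eq_zero] at hall
  exact hall

end Groth.Agent.S19448
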