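import Groth.Statements.S19449
-- import your own Groth.Agent.* helpers here

set_option autoImplicit false
universe u
open SymRep

namespace Groth.Agent.S19449

open MvPolynomial Finset

variable {k : Type u} [Field k] {n : ℕ}

/-- The exponent vector. -/
noncomputable def expo (p : Fin n → ℕ × ℕ) : (Fin n × Fin 2) →₀ ℕ :=
  Finsupp.equivFunOnFinite.symm fun v => if v.2 = 0 then (p v.1).1 else (p v.1).2

theorem prod_eq_monomial (p : Fin n → ℕ × ℕ) (σ : Equiv.Perm (Fin n)) :
    (∏ i, (X (σ i, 0) : MvPolynomial (Fin n × Fin 2) k) ^ (p i).1 * X (σ i, 1) ^ (p i).2) =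
      monomial (expo fun j => p (σ.symm j)) 1 := by
  classical
  have h : (monomial (expo fun j => p (σ.symm j)) (1 : k)) =
      ∏ v : Fin n × Fin 2, (X v : MvPolynomial (Fin n × Fin 2) k) ^ (expo (fun j => p (σ.symm j)) v) := by
    rw [monomial_eq, C_1, one_mul, Finsupp.prod_fintype]
    simp
  rw [h, Fintype.prod_prod_type]
  simp only [Fin.prod_univ_two, expo, Finsupp.equivFunOnFinite_symm_apply_apply]
  refine Fintype.prod_equiv σ _ _ fun i => ?_
  simp

/-- The alternant. -/
noncomputable def alt (k : Type u) [Field k] {n : ℕ} (p : Fin n → ℕ × ℕ) : MvPolynomial (Fin n × Fin 2) k :=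
  (Matrix.of fun i j : Fin n =>
    (X (i, 0) : MvPolynomial (Fin n × Fin 2) k) ^ (p j).1 * X (i, 1) ^ (p j).2).det

theorem alt_eq (p : Fin n → ℕ × ℕ) :
    alt k p = ∑ σ : Equiv.Perm (Fin n), ((Equiv.Perm.sign σ : ℤˣ) : ℤ) •
      (monomial (expo fun j => p (σ.symm j)) (1 : k)) := by
  rw [alt, Matrix.det_apply]
  refine Finset.sum_congr rfl fun σ _ => ?_
  rw [Units.smul_def]
  congr 1
  exact prod_eq_monomial p σ

/-- The action of a permutation. -/
noncomputable def act (k : Type u) [Field k] {n : ℕ} (σ : Equiv.Perm (Fin n)) :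
    MvPolynomial (Fin n × Fin 2) k →ₐ[k] MvPolynomial (Fin n × Fin 2) k :=
  rename fun v : Fin n × Fin 2 => (σ v.1, v.2)

theorem act_alt (p : Fin n → ℕ × ℕ) (σ : Equiv.Perm (Fin n)) :
    act k σ (alt k p) = ((Equiv.Perm.sign σ : ℤˣ) : ℤ) • alt k p := by
  rw [alt, AlgHom.map_det]
  have h : (act k σ).mapMatrix (Matrix.of fun i j : Fin n =>
      (X (i, 0) : MvPolynomial (Fin n × Fin 2) k) ^ (p j).1 * X (i, 1) ^ (p j).2) =
      (Matrix.of fun i j : Fin n =>
        (X (i, 0) : MvPolynomial (Fin n × Fin 2) k) ^ (p j).1 * X (i, 1) ^ (p j).2).submatrix σ id := by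
    ext i j
    simp [act]
  rw [h, Matrix.det_permute, ← zsmul_eq_mul]

theorem antisymm_mem (g : MvPolynomial (Fin n × Fin 2) k) :
    (∑ σ : Equiv.Perm (Fin n), ((Equiv.Perm.sign σ : ℤˣ) : ℤ) • act k σ g) ∈
      Submodule.span k (Set.range (alt k (n := n))) := by
  induction g using MvPolynomial.induction_on' with
  | monomial d c =>
    let p : Fin n → ℕ × ℕ := fun j => (d (j, 0), d (j, 1))
    have hd : d = expo p := by
      ext ⟨i, b⟩
      fin_cases b <;> simp [expo, p]
    have hc : (monomial d c : MvPolynomial (Fin n × Fin 2) k) = c • monomial d 1 := by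
      rw [smul_monomial, smul_eq_mul, mul_one]
    have hm : ∀ σ : Equiv.Perm (Fin n),
        act k σ (monomial d 1) = monomial (expo fun j => p (σ.symm j)) 1 := fun σ => by
      rw [← prod_eq_monomial p σ, hd, show expo p = expo fun j => p ((1 : Equiv.Perm (Fin n)).symm j) from rfl,
        ← prod_eq_monomial p 1, map_prod]
      refine Finset.prod_congr rfl fun i _ => ?_
      simp [act]
    simp only [hc, map_smul, hm, smul_comm _ c, ← Finset.smul_sum, ← alt_eq]
    exact Submodule.smul_mem _ _ (Submodule.subset_span ⟨p, rfl⟩)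
  | add a b ha hb =>
    simp only [map_add, smul_add, Finset.sum_add_distrib]
    exact add_mem ha hb

theorem coeff_alt (p q : Fin n → ℕ ×ₗ ℕ) (hp : StrictMono p) (hq : StrictMono q) :
    coeff (expo fun j => ofLex (p j)) (alt k fun j => ofLex (q j)) = if q = p then 1 else 0 := by
  classical
  rw [alt_eq, coeff_sum]
  have key : ∀ σ : Equiv.Perm (Fin n), (expo fun j => ofLex (q (σ.symm j))) = (expo fun j => ofLex (p j)) →
      q = p ∧ σ = 1 := fun σ hσ => by
    have h1 : ∀ j, q (σ.symm j) = p j := fun j => by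
      have h0 := DFunLike.congr_fun hσ (j, 0)
      have h1 := DFunLike.congr_fun hσ (j, 1)
      simp [expo] at h0 h1
      exact ofLex.injective (Prod.ext h0 h1)
    have hqp : q = p := by
      refine (StrictMono.range_inj hq hp).1 ?_
      ext x
      constructor
      · rintro ⟨j, rfl⟩; exact ⟨σ j, by rw [← h1, σ.symm_apply_apply]⟩
      · rintro ⟨j, rfl⟩; exact ⟨_, h1 j⟩
    refine ⟨hqp, Equiv.ext fun j => ?_⟩
    have := h1 (σ j)
    rw [σ.symm_apply_apply, hqp] at this
    exact (hp.injective this).symm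
  rw [Finset.sum_eq_single (1 : Equiv.Perm (Fin n))]
  · split_ifs with h
    · simp [h, Equiv.Perm.one_symm]
    · rw [coeff_smul, coeff_monomial, if_neg fun h' => h (key 1 h').1, smul_zero]
  · intro σ _ hσ
    rw [coeff_smul, coeff_monomial, if_neg fun h' => hσ (key σ h').2, smul_zero]
  · simp

/-- Over a field k of characteristic zero, let the symmetric group S_n act on the polynomial ring in the
2n variables x_i, y_i (i < n; the variable (i, 0) is x_i and (i, 1) is y_i) by permuting the index
i, and for an n-tuple p of pairs (p_j, q_j) of exponents let Δ_p be the determinant det(x_i^{p_j}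
y_i^{q_j}). A polynomial is alternating — each permutation acts on it by its sign — exactly when it
is a k-linear combination of the Δ_p; and the Δ_p for p strictly increasing in the lexicographic
order on pairs (one for each n-element set of exponent pairs) are linearly independent. Hence these
Δ_p form a basis of the space of alternating polynomials. -/
theorem result (k : Type u) [Field k] [CharZero k] (n : ℕ) :
    (∀ f : MvPolynomial (Fin n × Fin 2) k,
      (∀ σ : Equiv.Perm (Fin n),
          MvPolynomial.rename (fun v : Fin n × Fin 2 => (σ v.1, v.2)) f = ((Equiv.Perm.sign σ : ℤˣ) : ℤ) • f) ↔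
        f ∈ Submodule.span k (Set.range fun p : Fin n → ℕ × ℕ =>
          (Matrix.of fun i j : Fin n =>
            (MvPolynomial.X (i, 0) : MvPolynomial (Fin n × Fin 2) k) ^ (p j).1 * MvPolynomial.X (i, 1) ^ (p j).2).det)) ∧
    LinearIndependent k (fun p : {p : Fin n → ℕ ×ₗ ℕ // StrictMono p} =>
      (Matrix.of fun i j : Fin n =>
        (MvPolynomial.X (i, 0) : MvPolynomial (Fin n × Fin 2) k) ^ (ofLex (p.1 j)).1 *
          MvPolynomial.X (i, 1) ^ (ofLex (p.1 j)).2).det) := by
  refine ⟨fun f => ⟨fun hf => ?_, fun hf σ => ?_⟩, ?_⟩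
  · have hsum : (∑ σ : Equiv.Perm (Fin n), ((Equiv.Perm.sign σ : ℤˣ) : ℤ) • act k σ f) =
        (n.factorial : k) • f := by
      have h : ∀ σ : Equiv.Perm (Fin n), ((Equiv.Perm.sign σ : ℤˣ) : ℤ) • act k σ f = f := fun σ => by
        show _ • rename _ f = f
        rw [hf σ, smul_smul, ← Units.val_mul, Int.units_mul_self, Units.val_one, one_smul]
      rw [Finset.sum_congr rfl fun σ _ => h σ, Finset.sum_const, Finset.card_univ, Fintype.card_perm,
        Fintype.card_fin, Nat.cast_smul_eq_nsmul]
    have h1 := antisymm_mem f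
    rw [hsum] at h1
    have h2 := Submodule.smul_mem _ (n.factorial : k)⁻¹ h1
    rwa [smul_smul, inv_mul_cancel₀ (by exact_mod_cast n.factorial_ne_zero), one_smul] at h2
  · induction hf using Submodule.span_induction with
    | mem x hx =>
      obtain ⟨p, rfl⟩ := hx
      exact act_alt p σ
    | zero => simp
    | add x y _ _ hx hy => rw [map_add, hx, hy, smul_add]
    | smul c x _ hx => rw [map_smul, hx, smul_comm]
  · rw [linearIndependent_iff']
    intro s c hc p hp
    replace hc : (∑ q ∈ s, c q • alt k fun j => ofLex (q.1 j)) = 0 := hc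
    have h := congrArg (MvPolynomial.coeff (expo fun j => ofLex (p.1 j))) hc
    rw [MvPolynomial.coeff_sum, MvPolynomial.coeff_zero, Finset.sum_eq_single p] at h
    · rw [MvPolynomial.coeff_smul, coeff_alt p.1 p.1 p.2 p.2, if_pos rfl,
        smul_eq_mul, mul_one] at h
      exact h
    · intro q _ hq
      rw [MvPolynomial.coeff_smul, coeff_alt p.1 q.1 p.2 q.2,
        if_neg fun h' => hq (Subtype.ext h'), smul_zero]
    · exact fun h' => absurd hp h'

end Groth.Agent.S19449
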