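import Groth.Statements.S19452
import Mathlib
import Groth.Agent.DualFlatLib.Basic
-- import your own Groth.Agent.* helpers here

set_option autoImplicit false
universe u
attribute [local instance] W4c6puncthilbintro.dualAlgebra
open HilbD

namespace Groth.Agent.S19452

set_option maxHeartbeats 2000000 in
/-- Let A be a commutative ring, R a commutative A-algebra free as an A-module, I an ideal of R with R/I
flat over A, and view the dual numbers R[ε] as an algebra over A[ε] (ε ↦ ε). For φ : I → R/I linear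
over R, let J_φ be the ideal of elements a + bε of R[ε] with a ∈ I and b ≡ φ(a) modulo I. Then each
R[ε]/J_φ is flat over A[ε] and J_φ reduces to I modulo ε; the assignment φ ↦ J_φ is injective; and
every ideal J of R[ε] with R[ε]/J flat over A[ε] which reduces to I modulo ε equals some J_φ. Thus
the first-order liftings of I correspond one-to-one to Hom_R(I, R/I) (the tangent space of the
Hilbert scheme at I). -/
theorem result (A : Type u) [CommRing A] (R : Type u) [CommRing R]
    [Algebra A R] [Module.Free A R] (I : Ideal R) [Module.Flat A (R ⧸ I)] :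
    (∀ φ : I →ₗ[R] R ⧸ I,
        Module.Flat (DualNumber A) (DualNumber R ⧸ W4c6puncthilbintro.liftIdeal I φ) ∧
          Ideal.map (TrivSqZeroExt.fstHom A R R) (W4c6puncthilbintro.liftIdeal I φ) = I) ∧
      Function.Injective (W4c6puncthilbintro.liftIdeal I) ∧
      ∀ J : Ideal (DualNumber R), Module.Flat (DualNumber A) (DualNumber R ⧸ J) →
        Ideal.map (TrivSqZeroExt.fstHom A R R) J = I →
          ∃ φ : I →ₗ[R] R ⧸ I, J = W4c6puncthilbintro.liftIdeal I φ := by
  classical
  have hs : ∀ (f : DualNumber A) (x : DualNumber R), f • x = W4c6puncthilbintro.dualMap A R f * x := fun f x => rfl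
  have hdm : ∀ f : DualNumber A, W4c6puncthilbintro.dualMap A R f =
      TrivSqZeroExt.inl (algebraMap A R f.fst) + TrivSqZeroExt.inr (algebraMap A R f.snd) := by
    intro f
    have h1 : f = TrivSqZeroExt.inl f.fst + TrivSqZeroExt.inl f.snd * DualNumber.eps := by
      ext <;> simp
    conv_lhs => rw [h1]
    rw [map_add, map_mul, W4c6puncthilbintro.dualMap_inl, W4c6puncthilbintro.dualMap_inl, W4c6puncthilbintro.dualMap_eps]
    ext <;> simp [TrivSqZeroExt.algebraMap_eq_inl', Algebra.smul_def]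
  have hfst : ∀ (f : DualNumber A) (x : DualNumber R), (f • x).fst = algebraMap A R f.fst * x.fst := by
    intro f x; rw [hs, hdm]; simp
  have hsnd : ∀ (f : DualNumber A) (x : DualNumber R),
      (f • x).snd = algebraMap A R f.fst * x.snd + algebraMap A R f.snd * x.fst := by
    intro f x; rw [hs, hdm, DualNumber.snd_mul]; simp [← Algebra.smul_def]
  have hflat : ∀ φ : I →ₗ[R] R ⧸ I, Module.Flat (DualNumber A) (DualNumber R ⧸ W4c6puncthilbintro.liftIdeal I φ) := by
    intro φ
    set J := W4c6puncthilbintro.liftIdeal I φ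
    let π : (DualNumber R ⧸ J) → R ⧸ I := fun m => Ideal.Quotient.lift J ((Ideal.Quotient.mk I).comp (TrivSqZeroExt.fstHom A R R).toRingHom)
      (fun x hx => Ideal.Quotient.eq_zero_iff_mem.2 hx.1) m
    have hπmk : ∀ x : DualNumber R, π (Ideal.Quotient.mk J x) = Ideal.Quotient.mk I x.fst := fun x => rfl
    have hπadd : ∀ m m' : (DualNumber R ⧸ J), π (m + m') = π m + π m' := fun m m' => map_add _ m m'
    have hπsum : ∀ {n : ℕ} (g : Fin n → (DualNumber R ⧸ J)), π (∑ i, g i) = ∑ i, π (g i) := fun g => map_sum _ g _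
    have hπsmul : ∀ (f : DualNumber A) (m : (DualNumber R ⧸ J)), π (f • m) = f.fst • π m := by
      intro f m
      obtain ⟨x, rfl⟩ := Ideal.Quotient.mk_surjective m
      have h1 : f • Ideal.Quotient.mk J x = Ideal.Quotient.mk J (f • x) := rfl
      rw [h1, hπmk, hπmk, hfst, map_mul, Algebra.smul_def]
      rfl
    have hπsurj : Function.Surjective π := fun z => by
      obtain ⟨a, rfl⟩ := Ideal.Quotient.mk_surjective z
      exact ⟨Ideal.Quotient.mk J (TrivSqZeroExt.inl a), by rw [hπmk, TrivSqZeroExt.fst_inl]⟩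
    have hker : ∀ m : (DualNumber R ⧸ J), π m = 0 → ∃ y : (DualNumber R ⧸ J), m = (DualNumber.eps : DualNumber A) • y := by
      intro m hm
      obtain ⟨x, rfl⟩ := Ideal.Quotient.mk_surjective m
      rw [hπmk, Ideal.Quotient.eq_zero_iff_mem] at hm
      obtain ⟨b, hb⟩ := Ideal.Quotient.mk_surjective (φ ⟨x.fst, hm⟩)
      refine ⟨Ideal.Quotient.mk J (TrivSqZeroExt.inl (x.snd - b)), ?_⟩
      show Ideal.Quotient.mk J x = Ideal.Quotient.mk J ((DualNumber.eps : DualNumber A) • TrivSqZeroExt.inl (x.snd - b))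
      rw [Ideal.Quotient.eq]
      refine ⟨?_, ?_⟩
      · simpa [hfst] using hm
      · have h1 : (⟨(x - (DualNumber.eps : DualNumber A) • TrivSqZeroExt.inl (x.snd - b)).fst, by simpa [hfst] using hm⟩ : I) =
            ⟨x.fst, hm⟩ := Subtype.ext (by simp [hfst])
        rw [h1, ← hb]
        simp [hsnd]
    have heps : ∀ m : (DualNumber R ⧸ J), (DualNumber.eps : DualNumber A) • m = 0 → π m = 0 := by
      intro m hm
      obtain ⟨x, rfl⟩ := Ideal.Quotient.mk_surjective m
      have h1 : Ideal.Quotient.mk J ((DualNumber.eps : DualNumber A) • x) = 0 := hm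
      obtain ⟨ha, hb⟩ := Ideal.Quotient.eq_zero_iff_mem.1 h1
      have h0 : (⟨((DualNumber.eps : DualNumber A) • x).fst, ha⟩ : I) = 0 := Subtype.ext (by simp [hfst])
      rw [h0, map_zero] at hb
      simp [hsnd] at hb
      rw [hπmk, Ideal.Quotient.eq_zero_iff_mem]
      exact Ideal.Quotient.eq_zero_iff_mem.1 hb
    exact DualFlatLib.flat_of_reduction (AddMonoidHom.mk' π hπadd) hπsmul hπsurj hker heps
  refine ⟨fun φ => ⟨hflat φ, le_antisymm (Ideal.map_le_iff_le_comap.2 fun x hx => hx.1) fun a ha => ?_⟩, fun φ ψ h => ?_, ?_⟩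
  · obtain ⟨b, hb⟩ := Ideal.Quotient.mk_surjective (φ ⟨a, ha⟩)
    refine Ideal.mem_map_of_mem (I := W4c6puncthilbintro.liftIdeal I φ) (TrivSqZeroExt.fstHom A R R) (x := (TrivSqZeroExt.inl a + TrivSqZeroExt.inr b : DualNumber R)) ?_ |> (by simpa using ·)
    exact ⟨by simpa using ha, by simpa using hb⟩
  · apply LinearMap.ext
    rintro ⟨a, ha⟩
    obtain ⟨b, hb⟩ := Ideal.Quotient.mk_surjective (φ ⟨a, ha⟩)
    have hmem : (TrivSqZeroExt.inl a + TrivSqZeroExt.inr b : DualNumber R) ∈ W4c6puncthilbintro.liftIdeal I φ :=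
      ⟨by simpa using ha, by simpa using hb⟩
    rw [h] at hmem
    obtain ⟨_, hb'⟩ := hmem
    rw [← hb]
    simpa using hb'
  · intro J hJ hJI
    have hsurj : ∀ a ∈ I, ∃ x ∈ J, x.fst = a := by
      intro a ha
      rw [← hJI, Ideal.mem_map_iff_of_surjective _ (fun r => ⟨TrivSqZeroExt.inl r, by simp⟩)] at ha
      obtain ⟨x, hx, hxa⟩ := ha
      exact ⟨x, hx, hxa⟩
    have hmemI : ∀ x ∈ J, x.fst ∈ I := fun x hx => hJI ▸ Ideal.mem_map_of_mem (TrivSqZeroExt.fstHom A R R) hx
    have hA : ∀ y : DualNumber R, y.fst = 0 → y ∈ J → y.snd ∈ I := by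
      intro y hy hyJ
      have hq : (DualNumber.eps : DualNumber A) • Ideal.Quotient.mk J (TrivSqZeroExt.inl y.snd) = 0 := by
        show Ideal.Quotient.mk J ((DualNumber.eps : DualNumber A) • TrivSqZeroExt.inl y.snd) = 0
        rw [Ideal.Quotient.eq_zero_iff_mem]
        convert hyJ using 1
        apply TrivSqZeroExt.ext
        · simp [hfst, hy]
        · simp [hsnd]
      haveI := hJ
      obtain ⟨w, hw⟩ := DualFlatLib.exists_eq_eps_smul (A := A) (M := DualNumber R ⧸ J)
        (q := Ideal.Quotient.mk J (TrivSqZeroExt.inl y.snd)) (by convert hq using 1)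
      obtain ⟨c, rfl⟩ := Ideal.Quotient.mk_surjective w
      have h1 : TrivSqZeroExt.inl y.snd - (DualNumber.eps : DualNumber A) • c ∈ J := Ideal.Quotient.eq.1 hw
      simpa [hfst] using hmemI _ h1
    choose x hxJ hxa using hsurj
    have hwd : ∀ (y : DualNumber R) (hy : y ∈ J) (a : R) (ha : a ∈ I), y.fst = a →
        Ideal.Quotient.mk I y.snd = Ideal.Quotient.mk I (x a ha).snd := by
      intro y hy a ha hya
      rw [Ideal.Quotient.eq]
      have := hA (y - x a ha) (by simp [hya, hxa]) (J.sub_mem hy (hxJ a ha))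
      simpa using this
    let φ : I →ₗ[R] R ⧸ I :=
      { toFun := fun a => Ideal.Quotient.mk I (x a.1 a.2).snd
        map_add' := fun a b => by
          rw [← map_add]
          refine (hwd (x a.1 a.2 + x b.1 b.2) (J.add_mem (hxJ _ _) (hxJ _ _)) _ (a + b).2 (by simp [hxa])).symm.trans ?_
          simp
        map_smul' := fun r a => by
          refine (hwd (TrivSqZeroExt.inl r * x a.1 a.2) (J.mul_mem_left _ (hxJ _ _)) _ (r • a).2 (by simp [hxa])).symm.trans ?_
          simp [Algebra.smul_def] }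
    refine ⟨φ, le_antisymm (fun y hy => ⟨hmemI y hy, hwd y hy y.fst (hmemI y hy) rfl⟩) ?_⟩
    rintro y ⟨hy1, hy2⟩
    have h1 : y.snd - (x y.fst hy1).snd ∈ I := Ideal.Quotient.eq.1 hy2
    have h2 : y = x y.fst hy1 + DualNumber.eps * x (y.snd - (x y.fst hy1).snd) h1 := by
      apply TrivSqZeroExt.ext
      · simp [hxa]
      · simp [hxa]
    rw [h2]
    exact J.add_mem (hxJ _ _) (J.mul_mem_left _ (hxJ _ _))

end Groth.Agent.S19452
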