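import Groth.Statements.S19453
import Groth.Agent.CommAlgDim.Regular
import Mathlib


-- import your own Groth.Agent.* helpers here

set_option autoImplicit false
universe u
open CAlg

namespace Groth.Agent.S19453

/-- Converse direction: let k be a field, A a regular local k-algebra of Krull dimension 2 with maximal
ideal M and residue field k, and I an ideal with A/I of finite dimension n ≥ 1 over k. If some
element of I does not lie in M^2, then A/I is isomorphic as a k-algebra to k[x]/(x^n): a cluster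
lying on a smooth curve germ of a smooth surface is curvilinear, with coordinate ring generated by
one element. -/
theorem result (k : Type u) [Field k]
    (A : Type u) [CommRing A] [Algebra k A] [IsRegularLocalRing A] (hdim : ringKrullDim A = 2)
    (hres : Function.Surjective (algebraMap k (IsLocalRing.ResidueField A)))
    (I : Ideal A) [Module.Finite k (A ⧸ I)] (n : ℕ) (hn : Module.finrank k (A ⧸ I) = n) (h1 : 1 ≤ n)
    (g : A) (hgI : g ∈ I) (hg : g ∉ IsLocalRing.maximalIdeal A ^ 2) :
    Nonempty ((A ⧸ I) ≃ₐ[k] (Polynomial k ⧸ Ideal.span {(Polynomial.X : Polynomial k) ^ n})) := by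
  classical
  have hItop : I ≠ ⊤ := by
    intro h
    haveI : Subsingleton (A ⧸ I) := Ideal.Quotient.subsingleton_iff.2 h
    rw [Module.finrank_zero_of_subsingleton] at hn
    omega
  haveI : Nontrivial (A ⧸ I) := Ideal.Quotient.nontrivial_iff.2 hItop
  have hgm : g ∈ IsLocalRing.maximalIdeal A := IsLocalRing.le_maximalIdeal hItop hgI
  haveI : Nontrivial (A ⧸ Ideal.span {g}) := CommAlgDim.nontrivial_quotient (CommAlgDim.singleton_ne_top hgm)
  haveI : IsLocalRing (A ⧸ Ideal.span {g}) := IsLocalRing.of_surjective' (Ideal.Quotient.mk _) Ideal.Quotient.mk_surjective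
  haveI : IsLocalRing (A ⧸ I) := IsLocalRing.of_surjective' (Ideal.Quotient.mk _) Ideal.Quotient.mk_surjective
  have hsf := CommAlgDim.spanFinrank_maximalIdeal_quotient_singleton hgm hg
  have hA : (IsLocalRing.maximalIdeal A).spanFinrank = 2 := by
    have h := IsRegularLocalRing.spanFinrank_maximalIdeal (R := A)
    rw [hdim] at h
    exact_mod_cast h
  obtain ⟨⟨t', ht'⟩, -⟩ := (Submodule.spanFinrank_eq_one_iff _).1 (show (IsLocalRing.maximalIdeal (A ⧸ Ideal.span {g})).spanFinrank = 1 by omega)
  have hle : Ideal.span {g} ≤ I := (Ideal.span_singleton_le_iff_mem _).2 hgI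
  let q : A ⧸ Ideal.span {g} →+* A ⧸ I := Ideal.Quotient.factor hle
  let t : A ⧸ I := q t'
  have hmax : IsLocalRing.maximalIdeal (A ⧸ I) = Ideal.span {t} := by
    rw [← IsLocalRing.map_maximalIdeal_of_surjective q (Ideal.Quotient.factor_surjective hle), ht',
      Ideal.submodule_span_eq, Ideal.map_span, Set.image_singleton]
  haveI : IsArtinianRing (A ⧸ I) := IsArtinianRing.of_finite k (A ⧸ I)
  obtain ⟨N, hN⟩ : IsNilpotent t := by
    obtain ⟨N, hN⟩ := IsArtinianRing.isNilpotent_jacobson_bot (R := A ⧸ I)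
    refine ⟨N, ?_⟩
    have : t ^ N ∈ (⊥ : Ideal (A ⧸ I)).jacobson ^ N := Ideal.pow_mem_pow (by
      rw [IsLocalRing.jacobson_eq_maximalIdeal _ bot_ne_top, hmax]; exact Ideal.mem_span_singleton_self t) N
    rw [hN] at this
    exact (Submodule.mem_bot _).1 this
  have hc : ∀ b : A ⧸ I, ∃ (c : k) (b' : A ⧸ I), b = algebraMap k _ c + t * b' := by
    intro b
    obtain ⟨a, rfl⟩ := Ideal.Quotient.mk_surjective b
    obtain ⟨c, hc⟩ := hres (IsLocalRing.residue A a)
    have hm : a - algebraMap k A c ∈ IsLocalRing.maximalIdeal A := by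
      rw [← IsLocalRing.residue_eq_zero_iff, map_sub, sub_eq_zero, ← hc]; rfl
    have hm' := Ideal.mem_map_of_mem (Ideal.Quotient.mk I) hm
    rw [IsLocalRing.map_maximalIdeal_of_surjective _ Ideal.Quotient.mk_surjective, hmax,
      Ideal.mem_span_singleton'] at hm'
    obtain ⟨b', hb'⟩ := hm'
    exact ⟨c, b', by rw [mul_comm, hb', map_sub, ← Ideal.Quotient.mk_algebraMap]; ring⟩
  let φ : Polynomial k →ₐ[k] A ⧸ I := Polynomial.aeval t
  have hstep : ∀ (i : ℕ) (b : A ⧸ I), ∃ (p : Polynomial k) (b' : A ⧸ I), b = φ p + t ^ i * b' := by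
    intro i
    induction i with
    | zero => exact fun b => ⟨0, b, by simp⟩
    | succ i ih =>
      intro b
      obtain ⟨p, b', rfl⟩ := ih b
      obtain ⟨c, b'', rfl⟩ := hc b'
      exact ⟨p + Polynomial.C c * Polynomial.X ^ i, b'', by simp [φ]; ring⟩
  have hφ : Function.Surjective φ := fun b => by
    obtain ⟨p, b', rfl⟩ := hstep N b
    exact ⟨p, by rw [hN, zero_mul, add_zero]⟩
  obtain ⟨P, hP⟩ := IsPrincipalIdealRing.principal (RingHom.ker φ)
  have hXN : (Polynomial.X : Polynomial k) ^ N ∈ RingHom.ker φ := by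
    rw [RingHom.mem_ker, map_pow, Polynomial.aeval_X, hN]
  rw [hP, Ideal.submodule_span_eq, Ideal.mem_span_singleton] at hXN
  obtain ⟨i, -, hi⟩ := (dvd_prime_pow Polynomial.prime_X N).1 hXN
  have hker : RingHom.ker φ = Ideal.span {(Polynomial.X : Polynomial k) ^ i} := by
    rw [hP, Ideal.submodule_span_eq]; exact Ideal.span_singleton_eq_span_singleton.2 hi
  let e : (Polynomial k ⧸ Ideal.span {(Polynomial.X : Polynomial k) ^ i}) ≃ₐ[k] A ⧸ I :=
    (Ideal.quotientEquivAlgOfEq k hker.symm).trans (Ideal.quotientKerAlgEquivOfSurjective hφ)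
  have hin : i = n := by
    rw [← hn, ← e.toLinearEquiv.finrank_eq, finrank_quotient_span_eq_natDegree, Polynomial.natDegree_X_pow]
  exact hin ▸ ⟨e.symm⟩

end Groth.Agent.S19453
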