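import Groth.Statements.S19456
import Groth.Agent.MeroLib.ZeroDiv
import Groth.Agent.ProjSecLib.Hyperplane

-- import your own Groth.Agent.* helpers here

set_option autoImplicit false
universe u
open CategoryTheory CategoryTheory.Limits AlgebraicGeometry TopologicalSpace Opposite
open Mero

namespace Groth.Agent.S19456



/-- With the preceding paragraph: let X be an integral scheme, L an invertible O_X-module and s a
nonzero global section of L, given as a nonzero morphism O_X → L. Then the zero scheme Z(s) of s is
an effective Cartier divisor: there is a divisor D on X (a global section of the sheaf of units of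
K_X modulo units of O_X) which, around every point of X, on some affine open neighbourhood, is the
class of a regular function generating the ideal of Z(s) there; and there is an isomorphism of
O_X-modules L ≅ O_X(D) which carries s to the element 1 of Γ(X, O_X(D)) ⊆ K(X). (The published
statement is for an irreducible variety over an algebraically closed field; this row states it for
an arbitrary integral scheme.) -/
theorem result (X : Scheme.{u}) [AlgebraicGeometry.IsIntegral X]
    (L : X.Modules) (hL : PicF.IsInvertible L) (s : Coh.structureModule X ⟶ L) (hs : s ≠ 0) :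
    ∃ D : Mero.Divisor X, Mero.IsDivOfIdeal D (PicF2.zeroScheme L s) ∧
      ∃ e : L ≅ Mero.divMod D,
        (Mero.divModι D).app ⊤ (e.hom.app ⊤ (SecTwist.val s ⊤)) = 1 := by
  have hs0 : ProjSecLib.sec s ⊤ ≠ 0 := fun h => hs (ProjSecLib.eq_zero_of_sec s h)
  refine MeroLib.exists_div_of_section hL s fun x => ?_
  obtain ⟨U, g, hxU, hg⟩ := TwistLib.exists_genOn hL x
  obtain ⟨W, hW, hxW, hWU⟩ := exists_isAffineOpen_mem_and_subset (x := x) (U := U) hxU
  have hWU' : W ≤ U := fun y hy => hWU hy
  obtain ⟨c, hc⟩ := (hg W hWU').2 (MeroLib.secOn s W)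
  haveI : Nonempty (W : X.Opens) := ⟨⟨x, hxW⟩⟩
  have hc0 : c ≠ 0 := by
    rintro rfl
    simp only [zero_smul] at hc
    exact one_ne_zero (α := Γ(X, W)) (ProjSecLib.eq_zero_of_smul s hL hs0 (1 : Γ(X, W)) ((one_smul _ _).trans hc.symm))
  refine ⟨⟨W, hW⟩, AmpleLib.res L hWU' g, ⟨c, fun y => mem_nonZeroDivisors_of_ne_zero fun h => hc0 ?_⟩, hxW,
    hg.res _, hc⟩
  exact germ_injective_of_isIntegral X y.1 y.2 (h.trans (map_zero _).symm)


end Groth.Agent.S19456
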