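import Groth.Statements.S19459
import Groth.Agent.MeroLib.ZeroDiv
import Groth.Agent.TwistLib.HomGlue

-- import your own Groth.Agent.* helpers here

set_option autoImplicit false
universe u
open CategoryTheory CategoryTheory.Limits AlgebraicGeometry TopologicalSpace Opposite
open Mero

namespace Groth.Agent.S19459

open MeroLib Opposite TensorProduct in
open AmpleLib (GenAt GenOn res) in
theorem shT_smul {X : Scheme.{u}} (M N : X.Modules) {U : X.Opens} (r r' : Γ(X, U)) (m : Γ(M, U)) (n : Γ(N, U)) :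
    (SecTwist.tmul M N U (r • m) (r' • n) : Γ(CohB1.tensorMod M N, U)) =
      (r * r') • (SecTwist.tmul M N U m n : Γ(CohB1.tensorMod M N, U)) := by
  refine (congrArg ((SecTwist.toTensor M N).app (op U)).hom (TensorProduct.smul_tmul_smul r r' m n)).trans ?_
  exact ((SecTwist.toTensor M N).app (op U)).hom.map_smul (r * r') _

open MeroLib Opposite in
open AmpleLib (GenAt GenOn res) in
theorem genOn_tmul {X : Scheme.{u}} {M N : X.Modules} {U : X.Opens} {m : Γ(M, U)} {n : Γ(N, U)}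
    (hm : GenOn M m) (hn : GenOn N n) :
    GenOn (CohB1.tensorMod M N) (SecTwist.tmul M N U m n : Γ(CohB1.tensorMod M N, U)) :=
  TwistLib.genOn_of_genAt fun y hy => (hm.genAt hy).tensor (hn.genAt hy)

open MeroLib Opposite in
open AmpleLib (GenAt GenOn res) in
theorem germ_of_isDivOfIdeal {X : Scheme.{u}} {L : X.Modules} (hL : PicF.IsInvertible L)
    (s : Coh.structureModule X ⟶ L) {D : Mero.Divisor X} (hD : Mero.IsDivOfIdeal D (PicF2.zeroScheme L s))
    (x : X) (O : X.Opens) (hxO : x ∈ O) : ∃ (W : X.affineOpens) (g : Γ(L, W.1)) (c : Mero.regSub X W.1),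
      x ∈ W.1 ∧ W.1 ≤ O ∧ GenOn L g ∧ c.1 • g = secOn s W.1 ∧
        ∀ y : W.1, D.1 y.1 = QuotientGroup.mk (regUnit (Mero.regGerm y c)) := by
  obtain ⟨U, hxU, f, hf, hI, hDf⟩ := hD x
  obtain ⟨T, g, hxT, hg⟩ := TwistLib.exists_genOn hL x
  obtain ⟨W, hW, hxW, hle⟩ := exists_isAffineOpen_mem_and_subset (x := x) (U := O ⊓ T ⊓ U.1) ⟨⟨hxO, hxT⟩, hxU⟩
  have hWT : W ≤ T := fun y hy => (hle hy).1.2
  have hWU : W ≤ U.1 := fun y hy => (hle hy).2
  obtain ⟨c, hc⟩ := (hg W hWT).2 (secOn s W)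
  have h1 := zeroScheme_ideal_of_genOn hL s (W := ⟨W, hW⟩) (hg.res hWT) hc
  rw [← (PicF2.zeroScheme L s).map_ideal (U := ⟨W, hW⟩) (V := U) hWU, hI, Ideal.map_span, Set.image_singleton] at h1
  let f' : Γ(X, W) := X.presheaf.map (homOfLE hWU).op f
  obtain ⟨p, hp⟩ : ∃ p, p * f' = c := Ideal.mem_span_singleton'.1 ((SetLike.ext_iff.1 h1 c).2 (Ideal.mem_span_singleton_self c))
  obtain ⟨q, hq⟩ : ∃ q, q * c = f' := Ideal.mem_span_singleton'.1 ((SetLike.ext_iff.1 h1 f').1 (Ideal.mem_span_singleton_self f'))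
  have hfr : f' ∈ Mero.regSub X W := Mero.regSub_res (homOfLE hWU) hf
  have hqp : ∀ y : W, X.presheaf.germ W y.1 y.2 q * X.presheaf.germ W y.1 y.2 p = 1 := fun y => by
    have h2 : (X.presheaf.germ W y.1 y.2 q * X.presheaf.germ W y.1 y.2 p - 1) * X.presheaf.germ W y.1 y.2 f' = 0 := by
      rw [sub_mul, one_mul, sub_eq_zero, mul_assoc, ← map_mul, hp, ← map_mul, hq]
    exact sub_eq_zero.1 (mem_nonZeroDivisors_iff_right.1 (hfr y) _ h2)
  have hcr : c ∈ Mero.regSub X W := fun y => by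
    refine mem_nonZeroDivisors_iff_right.2 fun z hz => mem_nonZeroDivisors_iff_right.1 (hfr y) z ?_
    rw [← hq, map_mul, mul_left_comm, hz, mul_zero]
  refine ⟨⟨W, hW⟩, res L hWT g, ⟨c, hcr⟩, hxW, fun y hy => (hle hy).1.1, hg.res _, hc, fun y => ?_⟩
  refine (hDf ⟨y.1, hWU y.2⟩).trans (QuotientGroup.eq.2 ?_)
  rw [← QuotientGroup.eq_one_iff, mk_eq_one_iff]
  refine ⟨⟨X.presheaf.germ W y.1 y.2 p, X.presheaf.germ W y.1 y.2 q, (mul_comm _ _).trans (hqp y), hqp y⟩, ?_⟩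
  rw [Units.val_mul, Units.eq_inv_mul_iff_mul_eq]
  change algebraMap _ (Mero.KStalk X y.1) (X.presheaf.germ U.1 y.1 (hWU y.2) f) *
    algebraMap _ (Mero.KStalk X y.1) (X.presheaf.germ W y.1 y.2 p) =
      algebraMap _ (Mero.KStalk X y.1) (X.presheaf.germ W y.1 y.2 c)
  rw [← map_mul, ← hp, map_mul (X.presheaf.germ W y.1 y.2).hom, mul_comm (X.presheaf.germ W y.1 y.2 p)]
  congr 2
  exact (MeroLib.germ_res hWU f y.1 y.2).symm


/-- Let X be an integral scheme, L₁ and L₂ invertible O_X-modules with nonzero global sections s₁ and s₂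
(nonzero morphisms O_X → L₁ and O_X → L₂), and let D₁, D₂ be the effective Cartier divisors of the
zero schemes Z(s₁), Z(s₂): divisors on X (global sections of the sheaf of units of K_X modulo units
of O_X) which around every point, on some affine open neighbourhood, are the class of a regular
function generating the ideal of the zero scheme. Then the divisor D₁ · D₂ (multiplicative notation
for the sum D₁ + D₂) is in the same sense the effective Cartier divisor of the zero scheme of the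
global section s₁ ⊗ s₂ of the tensor product L₁ ⊗ L₂; that is, Z(s₁ ⊗ s₂) = Z(s₁) + Z(s₂). (The
published statement is for an irreducible variety over an algebraically closed field; this row
states it for an arbitrary integral scheme.) -/
theorem result (X : Scheme.{u}) [AlgebraicGeometry.IsIntegral X]
    (L₁ L₂ : X.Modules) (hL₁ : PicF.IsInvertible L₁) (hL₂ : PicF.IsInvertible L₂)
    (s₁ : Coh.structureModule X ⟶ L₁) (s₂ : Coh.structureModule X ⟶ L₂) (hs₁ : s₁ ≠ 0) (hs₂ : s₂ ≠ 0)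
    (D₁ D₂ : Mero.Divisor X) (hD₁ : Mero.IsDivOfIdeal D₁ (PicF2.zeroScheme L₁ s₁))
    (hD₂ : Mero.IsDivOfIdeal D₂ (PicF2.zeroScheme L₂ s₂)) :
    Mero.IsDivOfIdeal (D₁ * D₂) (PicF2.zeroScheme (CohB1.tensorMod L₁ L₂) (SecTwist.tmulHom s₁ s₂)) := by
  intro x
  obtain ⟨W₁, g₁, c₁, hx₁, -, hg₁, hc₁, hd₁⟩ := germ_of_isDivOfIdeal hL₁ s₁ hD₁ x ⊤ trivial
  obtain ⟨W, g₂, c₂, hx, hle, hg₂, hc₂, hd₂⟩ := germ_of_isDivOfIdeal hL₂ s₂ hD₂ x W₁.1 hx₁
  let d : Γ(X, W.1) := X.presheaf.map (homOfLE hle).op c₁.1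
  have hT : PicF.IsInvertible (CohB1.tensorMod L₁ L₂) := by
    choose U e hxU he using fun x : X => TwistLib.exists_genOn hL₁ x
    choose V k hxV hk using fun x : X => TwistLib.exists_genOn hL₂ x
    exact TwistLib.isInvertible_of_genOn (fun x => U x ⊓ V x) (fun x => ⟨x, hxU x, hxV x⟩) _
      fun x => genOn_tmul ((he x).res inf_le_left) ((hk x).res inf_le_right)
  refine ⟨W, hx, d * c₂.1, mul_mem (Mero.regSub_res (homOfLE hle) c₁.2) c₂.2,
    MeroLib.zeroScheme_ideal_of_genOn hT _ (genOn_tmul (hg₁.res hle) hg₂) ?_, fun y => ?_⟩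
  · refine (shT_smul _ _ _ _ _ _).symm.trans ?_
    rw [hc₂, show d • AmpleLib.res L₁ hle g₁ = MeroLib.secOn s₁ W.1 by
      rw [← MeroLib.secOn_res s₁ hle, ← hc₁, AmpleLib.res_smul]]
    exact (SecTwist.val_tmulHom s₁ s₂ W.1).symm
  · show D₁.1 y.1 * D₂.1 y.1 = _
    rw [hd₁ ⟨y.1, hle y.2⟩, hd₂ y, ← QuotientGroup.mk_mul]
    refine congrArg _ (Units.ext ?_)
    change algebraMap _ (Mero.KStalk X y.1) (X.presheaf.germ W₁.1 y.1 (hle y.2) c₁.1) *
      algebraMap _ (Mero.KStalk X y.1) (X.presheaf.germ W.1 y.1 y.2 c₂.1) =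
        algebraMap _ (Mero.KStalk X y.1) (X.presheaf.germ W.1 y.1 y.2 (d * c₂.1))
    rw [← map_mul, map_mul (X.presheaf.germ W.1 y.1 y.2).hom]
    congr 2
    exact (MeroLib.germ_res hle c₁.1 y.1 y.2).symm


end Groth.Agent.S19459
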