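import Groth.Statements.S19462
import Groth.Agent.GrFreeLib.Basic

set_option autoImplicit false
universe u
open GrNak

namespace Groth.Agent.S19462

/-- Let k be a field and R a commutative ℤ-graded k-algebra whose pieces of negative degree vanish and
whose degree-zero piece is the image of k, and let M be a finitely generated ℤ-graded R-module,
graded compatibly with R. Then M is a projective R-module if and only if M has an R-basis consisting
of homogeneous elements, i.e. M is a free graded module. (The published statement takes R a graded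
quotient of a polynomial ring k[x_0, …, x_n] with its standard grading; stated here for any
commutative graded k-algebra concentrated in non-negative degrees with degree-zero part k, to which
the same graded-Nakayama argument applies.) -/
theorem result {k : Type u} [Field k] {R : Type u} [CommRing R] [Algebra k R]
    {σ : Type u} [SetLike σ R] [AddSubmonoidClass σ R] (𝒜 : ℤ → σ) [GradedRing 𝒜]
    (hneg : ∀ i : ℤ, i < 0 → ∀ x ∈ 𝒜 i, x = 0)
    (hk : ∀ c : k, algebraMap k R c ∈ 𝒜 0) (h0 : ∀ x ∈ 𝒜 0, ∃ c : k, algebraMap k R c = x)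
    {M : Type u} [AddCommGroup M] [Module R M] [Module.Finite R M]
    {τ : Type u} [SetLike τ M] [AddSubmonoidClass τ M] (ℳ : ℤ → τ) [DirectSum.Decomposition ℳ]
    [SetLike.GradedSMul 𝒜 ℳ] :
    Module.Projective R M ↔
      ∃ (ι : Type u) (b : Module.Basis ι R M), ∀ i : ι, SetLike.IsHomogeneousElem ℳ (b i) := by
  classical
  constructor
  · intro hproj
    let w : ℤ →+ ℤ := AddMonoidHom.id ℤ
    have hnn : ∀ e, w e < 0 → ∀ a ∈ 𝒜 e, a = 0 := fun e he a ha => hneg e he a ha
    let S : Set R := {a | ∃ e : ℤ, 0 < e ∧ a ∈ 𝒜 e}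
    let J : Ideal R := Ideal.span S
    have hJ := GrFreeLib.comp_eq_zero_of_mem_span 𝒜 w hnn S (fun a ha => ha)
    have hdec : ∀ x : R, ∃ c : k, x - algebraMap k R c ∈ J := by
      intro x
      obtain ⟨c, hc⟩ := h0 _ (DirectSum.decompose 𝒜 x 0).2
      refine ⟨c, ?_⟩
      rw [hc]
      nth_rewrite 1 [← DirectSum.sum_support_decompose 𝒜 x]
      by_cases h : (0 : ℤ) ∈ (DirectSum.decompose 𝒜 x).support
      · rw [← Finset.add_sum_erase _ _ h, add_sub_cancel_left]
        refine Ideal.sum_mem _ fun e he => ?_
        obtain ⟨he0, -⟩ := Finset.mem_erase.1 he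
        rcases lt_or_gt_of_ne he0 with hlt | hgt
        · rw [hneg e hlt _ (DirectSum.decompose 𝒜 x e).2]; exact J.zero_mem
        · exact Ideal.subset_span ⟨e, hgt, (DirectSum.decompose 𝒜 x e).2⟩
      · rw [DFinsupp.notMem_support_iff.1 h, ZeroMemClass.coe_zero, sub_zero]
        refine Ideal.sum_mem _ fun e he => ?_
        rcases lt_trichotomy e 0 with hlt | rfl | hgt
        · rw [hneg e hlt _ (DirectSum.decompose 𝒜 x e).2]; exact J.zero_mem
        · exact absurd he h
        · exact Ideal.subset_span ⟨e, hgt, (DirectSum.decompose 𝒜 x e).2⟩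
    rcases subsingleton_or_nontrivial R with hR | hR
    · haveI : Subsingleton M := Module.subsingleton R M
      exact ⟨PEmpty, Module.Basis.empty M, fun i => i.elim⟩
    have hunit : ∀ u : R, u ∉ J → ∃ c : k, c ≠ 0 ∧ u - algebraMap k R c ∈ J := by
      intro u hu
      obtain ⟨c, hc⟩ := hdec u
      exact ⟨c, fun h => hu (by simpa [h] using hc), hc⟩
    have hone : (1 : R) ∉ J := fun h => by
      have h1 := hJ 1 h 0 le_rfl
      rw [DirectSum.decompose_of_mem_same 𝒜 SetLike.GradedOne.one_mem] at h1
      exact one_ne_zero h1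
    haveI : J.IsPrime := by
      refine ⟨fun h => hone (h ▸ Submodule.mem_top), fun {x y} hxy => ?_⟩
      obtain ⟨a, ha⟩ := hdec x
      obtain ⟨b, hb⟩ := hdec y
      have hab : algebraMap k R (a * b) ∈ J := by
        have : algebraMap k R (a * b) = x * y - ((x - algebraMap k R a) * y + algebraMap k R a * (y - algebraMap k R b)) := by
          rw [map_mul]; ring
        rw [this]
        exact J.sub_mem hxy (J.add_mem (J.mul_mem_right _ ha) (J.mul_mem_left _ hb))
      rcases eq_or_ne (a * b) 0 with h | h
      · rcases mul_eq_zero.1 h with h | h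
        · exact Or.inl (by simpa [h] using ha)
        · exact Or.inr (by simpa [h] using hb)
      · exact absurd (J.mul_mem_left (algebraMap k R (a * b)⁻¹) hab) (by rwa [← map_mul, inv_mul_cancel₀ h, map_one])
    obtain ⟨B, hB⟩ := GrFreeLib.exists_bound 𝒜 ℳ w hnn
    obtain ⟨m, f, hf, hli, d, hd, hgen⟩ := GrFreeLib.exists_fibre_basis ℳ J
    obtain ⟨c, hc, hcJ⟩ := hunit d hd
    have hspan : ∀ x, ∃ n : ℕ, algebraMap k R c ^ n • x ∈ Submodule.span R (Set.range f) := by
      refine GrFreeLib.exists_pow_smul_mem 𝒜 ℳ w J hJ B hB _ (hk c) _ (GrFreeLib.decompose_mem_span 𝒜 ℳ f hf) fun x => ?_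
      rw [show algebraMap k R c • x = (algebraMap k R c - d) • x + d • x by rw [sub_smul, sub_add_cancel]]
      exact Submodule.add_mem_sup (Submodule.smul_mem_smul (by simpa using J.neg_mem hcJ) Submodule.mem_top) (hgen x)
    have htop : ⊤ ≤ Submodule.span R (Set.range f) := fun x _ => by
      obtain ⟨n, hn⟩ := hspan x
      exact (Submodule.smul_mem_iff_of_isUnit _ (((isUnit_iff_ne_zero.2 hc).map _).pow n)).1 hn
    obtain ⟨u, hu, N, hN⟩ := GrFreeLib.exists_pow_mul_eq_zero J hli _ hspan
    obtain ⟨a, ha, haJ⟩ := hunit u hu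
    have hind : LinearIndependent R f := by
      rw [Fintype.linearIndependent_iff]
      intro g hg i
      obtain ⟨n, hn⟩ := GrFreeLib.exists_pow_smul_eq_zero 𝒜 𝒜 w J hJ 0 (fun e he x hx => hneg e he x hx)
        (algebraMap k R a) (hk a) (algebraMap k R a - u) (by simpa using J.neg_mem haJ) (algebraMap k R c ^ N * g i)
        (by rw [sub_smul, smul_eq_mul u, ← mul_assoc, hN g hg i, sub_zero])
      rw [smul_eq_mul] at hn
      exact ((((isUnit_iff_ne_zero.2 hc).map (algebraMap k R)).pow N).mul_right_eq_zero).1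
        ((((isUnit_iff_ne_zero.2 ha).map (algebraMap k R)).pow n).mul_right_eq_zero.1 hn)
    exact ⟨ULift.{u} (Fin m), (Module.Basis.mk hind htop).reindex Equiv.ulift.symm, fun i => by
      simpa using hf i.down⟩
  · rintro ⟨ι, b, -⟩
    exact Module.Projective.of_basis b

end Groth.Agent.S19462
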