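import Groth.Statements.S19463
import Groth.Agent.SquareLib.Completion
import Groth.Agent.CurveAmpLib.Main
import Groth.Agent.CurveAmpLib.Embed
import Groth.Agent.CurveH0Lib.Smooth
import Groth.Agent.FibDimLib.ClosureDim
import Groth.Agent.ProjDegLib.Criterion
import Groth.Agent.MiscFlat6.NormalLowDim

set_option autoImplicit false
universe u
open CategoryTheory CategoryTheory.Limits AlgebraicGeometry
open Curves

namespace Groth.Agent.S19463

/-- Let k be an algebraically closed field and X a smooth curve over k (integral, separated, of finite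
type and smooth over k, of dimension one). Then there are a smooth projective curve Y over k
(integral, smooth over k, of dimension one, admitting a closed immersion over k into some P^n_k) and
an open immersion X → Y over k. -/
theorem result (k : Type u) [Field k] [IsAlgClosed k]
    (X : Scheme.{u}) [X.Over (Spec (CommRingCat.of k))] [IsIntegral X] [IsSeparated (X ↘ (Spec (CommRingCat.of k)))]
    [LocallyOfFiniteType (X ↘ (Spec (CommRingCat.of k)))] [QuasiCompact (X ↘ (Spec (CommRingCat.of k)))] [Smooth (X ↘ (Spec (CommRingCat.of k)))]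
    (hdimX : topologicalKrullDim X = 1) :
    ∃ (Y : Scheme.{u}) (_ : Y.Over (Spec (CommRingCat.of k))) (j : X ⟶ Y), IsOpenImmersion j ∧
      j ≫ (Y ↘ (Spec (CommRingCat.of k))) = X ↘ (Spec (CommRingCat.of k)) ∧ IsIntegral Y ∧ Smooth (Y ↘ (Spec (CommRingCat.of k))) ∧ topologicalKrullDim Y = 1 ∧
      ∃ (n : ℕ) (i : Y ⟶ CohB1.ProjSpace n k), IsClosedImmersion i ∧ i ≫ CohB1.ProjSpace.toSpec n k = Y ↘ (Spec (CommRingCat.of k)) := by
  obtain ⟨N, t, j, hj, hjt, ht, hint, hN⟩ := SquareLib.exists_normal_completion (X ↘ Spec (CommRingCat.of k))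
  haveI := hj; haveI := ht; haveI := hint
  letI : N.Over (Spec (CommRingCat.of k)) := ⟨t⟩
  haveI : IsProper (N ↘ Spec (CommRingCat.of k)) := ht
  haveI : IsLocallyNoetherian N := LocallyOfFiniteType.isLocallyNoetherian t
  haveI : CompactSpace N := QuasiCompact.compactSpace_of_compactSpace t
  haveI : IsNoetherian N := ⟨⟩
  haveI : N.IsSeparated := ⟨by rw [← Limits.terminal.comp_from t]; infer_instance⟩
  have hdimN : topologicalKrullDim N = 1 := by
    have h := FibDimLib.topologicalKrullDim_closure_of_isOpenEmbedding t j.isOpenEmbedding (genericPoint X)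
    rw [genericPoint_eq_of_isOpenImmersion j, (genericPoint_spec N).def, (genericPoint_spec X).def] at h
    have e1 := IsHomeomorph.topologicalKrullDim_eq _ (Homeomorph.Set.univ X).isHomeomorph
    have e2 := IsHomeomorph.topologicalKrullDim_eq _ (Homeomorph.Set.univ N).isHomeomorph
    rw [← e2, ← h, e1, hdimX]
  have hs : Smooth t := CurveH0Lib.smooth_of_regular k t
    fun y => MiscFlat6.isRegularLocalRing_stalk_of_normal N hN hdimN.le y
  obtain ⟨L, hA⟩ := CurveAmpLib.exists_ample (X := N) hdimN.le
  obtain ⟨d, r, hr, hrq⟩ : ∃ (d : ℕ) (r : N ⟶ CohB1.ProjSpace d k), IsImmersion r ∧ r ≫ CohB1.ProjSpace.toSpec d k = t :=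
    CurveAmpLib.exists_immersion t hA.1 hA
  haveI := hr
  haveI : IsProper (CohB1.ProjSpace.toSpec d k) := ProjDegLib.toSpec_isProper k d
  haveI : IsProper (r ≫ CohB1.ProjSpace.toSpec d k) := hrq.symm ▸ ht
  haveI : IsProper r := IsProper.of_comp r (CohB1.ProjSpace.toSpec d k)
  haveI : IsClosedImmersion r := IsClosedImmersion.iff_isProper_and_mono r |>.2 ⟨inferInstance, inferInstance⟩
  exact ⟨N, ⟨t⟩, j, hj, hjt, hint, hs, hdimN, d, r, inferInstance, hrq⟩

end Groth.Agent.S19463
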