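import Groth.Statements.S19465
import Groth.Agent.RichLib.FibreCrit
import Groth.Agent.WeilResLib.UnitDiag


-- import your own Groth.Agent.* helpers here

set_option autoImplicit false
universe u
open CategoryTheory CategoryTheory.Limits MonoidalCategory CartesianMonoidalCategory MonObj GrpObj AlgebraicGeometry
open AlgGrp

namespace Groth.Agent.S19465

/-- Let S be a scheme and G an S-group scheme whose structure morphism G → S is locally of finite type.
Then G → S is an isomorphism (G is the trivial group scheme over S) if and only if every fibre G_s →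
Spec κ(s), s ∈ S, is an isomorphism. -/
theorem result (S : Scheme.{u}) (G : Over S)
    [GrpObj G] [LocallyOfFiniteType G.hom] :
    IsIso G.hom ↔ ∀ s : S, IsIso (G.hom.fiberToSpecResidueField s) := by
  refine ⟨fun h s => ?_, fun h => ?_⟩
  · exact MorphismProperty.of_isPullback (P := MorphismProperty.isomorphisms Scheme) (IsPullback.of_hasPullback G.hom (S.fromSpecResidueField s)) h
  · haveI : FormallyUnramified G.hom := RichLib.FibreCrit.formallyUnramified_of_fibers G.hom fun s => by
      haveI := h s; infer_instance
    haveI := (Groth.Agent.WeilRes.formallyUnramified_iff_unit G).1 inferInstance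
    have hsec : η[G].left ≫ G.hom = 𝟙 S := Over.w η[G]
    haveI : Surjective η[G].left := ⟨fun x => by
      refine ⟨G.hom x, ?_⟩
      have hi : ∀ a b : G.left, G.hom a = G.hom b → a = b := fun a b hab => by
        obtain ⟨a', ha⟩ := (G.hom.range_fiberι (G.hom b)).ge (show a ∈ G.hom ⁻¹' {G.hom b} from hab)
        obtain ⟨b', hb⟩ := (G.hom.range_fiberι (G.hom b)).ge (show b ∈ G.hom ⁻¹' {G.hom b} from rfl)
        haveI := h (G.hom b)
        haveI : Subsingleton (Spec (S.residueField (G.hom b))) := inferInstanceAs (Subsingleton (PrimeSpectrum _))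
        haveI : Subsingleton (G.hom.fiber (G.hom b)) :=
          (asIso (G.hom.fiberToSpecResidueField (G.hom b))).hom.homeomorph.toEquiv.subsingleton
        exact ha.symm.trans ((congrArg _ (Subsingleton.elim a' b')).trans hb)
      refine hi _ _ ?_
      rw [← Scheme.Hom.comp_apply, hsec]; rfl⟩
    haveI : Epi η[G].left.base := (TopCat.epi_iff_surjective _).2 η[G].left.surjective
    haveI : IsIso η[G].left := IsOpenImmersion.isIso _
    haveI : IsIso (η[G].left ≫ G.hom) := hsec ▸ (inferInstance : IsIso (𝟙 S))
    exact IsIso.of_isIso_comp_left η[G].left G.hom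

end Groth.Agent.S19465
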