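import Groth.Statements.S19467
import Groth.Agent.MultExactLib.Compl

set_option autoImplicit false
set_option backward.isDefEq.respectTransparency false
set_option backward.isDefEq.respectTransparency.types false
set_option maxHeartbeats 1000000
set_option synthInstance.maxHeartbeats 400000
universe u
open CategoryTheory MonoidalCategory CartesianMonoidalCategory MonObj GrpObj AlgebraicGeometry CategoryTheory.Limits
open AlgGrp

namespace Groth.Agent.S19467

/-- Let k be a field, G a commutative affine k-group scheme of finite type, and j : M → G the largest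
closed subgroup scheme of multiplicative type (M is of multiplicative type and every closed subgroup
scheme of G of multiplicative type factors through M). Then there is a closed subgroup scheme h : H
→ G such that G = M · H, in the sense that the multiplication M × H → G is surjective, and M ∩ H
(the fibre product of j and h) is finite over k. (The existence of the largest subgroup scheme of
multiplicative type is taken here as a hypothesis on M.) -/
theorem result (k : Type u) [Field k]
    (G : Over (Spec (CommRingCat.of k))) [GrpObj G] [IsCommMonObj G] [IsAffine G.left]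
    [LocallyOfFiniteType G.hom]
    (M : Over (Spec (CommRingCat.of k))) [GrpObj M] (j : M ⟶ G) [IsMonHom j] [IsClosedImmersion j.left]
    (hM : SGA3x.IsMultTypeFT M)
    (hMmax : ∀ (M' : Over (Spec (CommRingCat.of k))) [GrpObj M'] (j' : M' ⟶ G) [IsMonHom j']
      [IsClosedImmersion j'.left], SGA3x.IsMultTypeFT M' → ∃ g : M' ⟶ M, g ≫ j = j') :
    ∃ (H : Over (Spec (CommRingCat.of k))) (_ : GrpObj H) (h : H ⟶ G), IsMonHom h ∧ IsClosedImmersion h.left ∧
      Surjective ((j ⊗ₘ h) ≫ μ[G]).left ∧
      IsFinite (pullback.fst j.left h.left ≫ M.hom) := by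
  haveI : Mono j := Over.mono_of_mono_left j
  haveI : QuasiCompact G.hom := inferInstance
  obtain ⟨q, hq⟩ := CharP.exists k
  haveI := hq
  rcases CharP.char_is_prime_or_zero k q with hp | hp
  · haveI : Fact q.Prime := ⟨hp⟩
    obtain ⟨S, _, s, n, hs, hsc, hS, hn, g₀, hg₀⟩ := SemiAbLib.exists_semiAb_exponent q G
    haveI := hs; haveI := hsc
    haveI : Mono s := Over.mono_of_mono_left s
    haveI : IsAffine S.left := isAffine_of_isAffineHom s.left
    haveI : LocallyOfFiniteType S.hom := by rw [← Over.w s]; infer_instance
    haveI : QuasiCompact S.hom := inferInstance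
    haveI : IsMonHom (𝟙 G ^ n) := by
      rw [← zpow_natCast (𝟙 G) n]; exact AbSchLib.isMonHom_zpow G _
    haveI : IsMonHom (g₀ ≫ s) := by rw [hg₀]; infer_instance
    haveI : IsMonHom g₀ := Groth.Agent.DiagRep.isMonHom_of_comp_mono g₀ s
    obtain ⟨c, hc⟩ := hMmax S s (MultExactLib.mult_of_semiAb hS)
    haveI : IsMonHom (c ≫ j) := by rw [hc]; infer_instance
    haveI : IsMonHom c := Groth.Agent.DiagRep.isMonHom_of_comp_mono c j
    have e : c ≫ j ≫ g₀ = 𝟙 S ^ n := by
      rw [← cancel_mono s, ← Category.assoc c j, hc, Category.assoc, hg₀, MonObj.comp_pow, Category.comp_id,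
        MonObj.pow_comp, Category.id_comp]
    haveI : Surjective (c ≫ j ≫ g₀).left := by
      rw [e]; exact (SemiAbLib.IsSemiAb.pow_spec' hS hn.ne').2.1
    refine MultExactLib.exists_compl j g₀ c fun N _ κ _ _ hκ => MultExactLib.isFinite_torsion hM κ hn ?_
    rw [← cancel_mono j, MonObj.one_comp, MonObj.pow_comp]
    have e2 : (κ ≫ j ≫ g₀) ≫ s = 1 := by rw [hκ, MonObj.one_comp]
    rw [Category.assoc, Category.assoc, hg₀, MonObj.comp_pow, Category.comp_id, MonObj.comp_pow] at e2
    exact e2
  · subst hp
    haveI : CharZero k := CharP.charP_to_charZero k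
    obtain ⟨ME, _, m, U, _, _, _, p, hm, hmc, hmt, hp', hU, hpf, hps, hplfp, hker, hr⟩ := MultExactLib.exists_quot G
    haveI := hm; haveI := hmc; haveI := hp'
    obtain ⟨r, hr, hmr⟩ := hr inferInstance
    haveI := hr
    haveI : Mono m := Over.mono_of_mono_left m
    haveI : LocallyOfFiniteType ME.hom := by rw [← Over.w m]; infer_instance
    obtain ⟨c, hc⟩ := hMmax ME m hmt
    haveI : IsMonHom (c ≫ j) := by rw [hc]; infer_instance
    haveI : IsMonHom c := Groth.Agent.DiagRep.isMonHom_of_comp_mono c j
    obtain ⟨a, ha⟩ := hker M j (MultExactLib.eq_one_mult_unip hU hM (j ≫ p))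
    haveI : Surjective (c ≫ j ≫ r).left := by
      rw [← Category.assoc, hc, hmr, Over.id_left]; infer_instance
    refine MultExactLib.exists_compl j r c fun N _ κ _ _ hκ => MultExactLib.isFinite_torsion hM κ Nat.one_pos ?_
    rw [pow_one, ← cancel_mono j, MonObj.one_comp, ← ha]
    rw [← ha, Category.assoc, hmr, Category.comp_id] at hκ
    rw [← Category.assoc, hκ, MonObj.one_comp]

end Groth.Agent.S19467
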