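import Groth.Statements.S19468
import Groth.Agent.S8004
import Groth.Agent.S14757
import Groth.Agent.S14604
import Groth.Agent.S7996
import Groth.Agent.WittExtLib.Sect
import Groth.Agent.AntiAffLib.AffineQuot
import Groth.Agent.AntiAffLib.Supplement
import Groth.Agent.AntiAffLib.Smooth
import Mathlib.AlgebraicGeometry.Morphisms.Proper
-- import your own Groth.Agent.* helpers here

set_option autoImplicit false
universe u
open CategoryTheory MonoidalCategory CartesianMonoidalCategory MonObj GrpObj AlgebraicGeometry CategoryTheory.Limits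
open AlgGrp

namespace Groth.Agent.S19468

section
set_option backward.isDefEq.respectTransparency false
set_option linter.style.haveILetI false
set_option maxHeartbeats 1000000
attribute [-instance] CategoryTheory.Hom.commGroup

theorem main {k : Type u} [Field k] [Finite k] {G : Over (Spec (CommRingCat.of k))} [GrpObj G] [Smooth G.hom]
    [QuasiCompact G.hom] [ConnectedSpace ↥G.left] :
    ∃ (L : Over (Spec (CommRingCat.of k))) (_ : GrpObj L) (l : L ⟶ G) (A : Over (Spec (CommRingCat.of k)))
      (_ : GrpObj A) (a : A ⟶ G),
      IsMonHom l ∧ IsClosedImmersion l.left ∧ AlgGrp.IsNormalHom l ∧ Smooth L.hom ∧ ConnectedSpace ↥L.left ∧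
        IsAffine L.left ∧
      IsMonHom a ∧ IsClosedImmersion a.left ∧ IsProper A.hom ∧ Smooth A.hom ∧ ConnectedSpace ↥A.left ∧
      Surjective ((l ⊗ₘ a) ≫ μ[G]).left ∧ IsFinite (pullback.fst l.left a.left ≫ L.hom) := by
  haveI : IsSeparated G.hom := Groth.Agent.GrpField.isSeparated_grp
  obtain ⟨L, _, l, hl, hlc, hls, hlco, hln, hla, hlmax, -⟩ := Groth.Agent.S8004.result k (fun E _ => IsAffine E.left)
    (fun N E Q _ _ _ _ _ _ _ _ _ i q _ _ _ _ hk hN hQ => by
      haveI : IsAffine N.left := hN
      haveI : IsAffine Q.left := hQ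
      haveI : IsAffineHom N.hom := isAffineHom_of_isAffine N.hom
      haveI : IsSeparated Q.hom := Groth.Agent.GrpField.isSeparated_grp
      haveI : QuasiCompact q.left := by
        haveI : QuasiCompact (q.left ≫ Q.hom) := by rw [Over.w q]; infer_instance
        exact QuasiCompact.of_comp q.left Q.hom
      exact WittExtLib.isAffine_of_extension i q hk)
    (fun E Q _ _ _ _ _ _ q _ _ _ hE => by
      haveI : IsAffine E.left := hE
      exact AntiAffLib.isAffine_of_surjective_hom q)
    G ⟨𝟙_ _, inferInstance, η[G], inferInstance, by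
      haveI : IsClosedImmersion ((η[G] : 𝟙_ (Over (Spec (CommRingCat.of k))) ⟶ G).left ≫ G.hom) := by
        rw [Over.w]; exact inferInstanceAs (IsClosedImmersion (𝟙 (Spec (CommRingCat.of k))))
      exact ⟨IsClosedImmersion.of_comp _ G.hom, inferInstanceAs (Smooth (𝟙 _)),
        inferInstanceAs (ConnectedSpace ↥(Spec (CommRingCat.of k))),
        fun T g n => ⟨n, by rw [show n ≫ η[G] = 1 from by rw [Hom.one_def, toUnit_unique n (toUnit T)], _root_.mul_one, mul_inv_cancel]⟩,
        inferInstanceAs (IsAffine (Spec (CommRingCat.of k)))⟩⟩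
  haveI := hl; haveI := hlc; haveI := hls; haveI := hlco; haveI : IsAffine L.left := hla
  let A := AntiAffLib.ker G
  let a : A ⟶ G := AntiAffLib.kerIncl G
  haveI : IsProper A.hom := Groth.Agent.S14604.result k A ((AntiAffLib.bijective_iff A).2 inferInstance)
  haveI : Smooth A.hom := AntiAffLib.smooth_of_antiAff A
  haveI : ConnectedSpace A.left := AntiAffLib.connectedSpace_of_antiAff A
  obtain ⟨-, hsurj⟩ := Groth.Agent.S14757.result k G L l hln
    (fun N' _ i' _ h1 h2 h3 h4 hn' => hlmax N' i' h1 h2 h3 hn' h4) A a ((AntiAffLib.bijective_iff A).2 inferInstance)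
    (fun M' _ j' _ _ hM' => by
      haveI : LocallyOfFiniteType M'.hom := by rw [← Over.w j']; infer_instance
      haveI : QuasiCompact M'.hom := by rw [← Over.w j']; infer_instance
      exact AntiAffLib.exists_factor_ker G j' ((AntiAffLib.bijective_iff M').1 hM'))
  refine ⟨L, inferInstance, l, A, inferInstance, a, hl, hlc, hln, hls, hlco, inferInstance, inferInstance, inferInstance,
    inferInstance, inferInstance, inferInstance, ?_, ?_⟩
  · have e : (β_ A L).hom ≫ (l ⊗ₘ a) ≫ μ[G] = (a ⊗ₘ l) ≫ μ[G] := by
      rw [MonObj.mul_eq_mul, MonObj.comp_mul, MonObj.comp_mul, MonObj.comp_mul, tensorHom_fst, tensorHom_snd,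
        tensorHom_fst, tensorHom_snd, braiding_hom_fst_assoc, braiding_hom_snd_assoc]
      have hc := Groth.Agent.S7996.result k A G ((AntiAffLib.bijective_iff A).2 inferInstance) a A (𝟙 A) (A ⊗ L)
        (fst A L) (snd A L ≫ l)
      rw [Category.id_comp] at hc
      exact hc.symm
    haveI : Surjective ((β_ A L).hom.left ≫ ((l ⊗ₘ a) ≫ μ[G]).left) := by
      rw [← Over.comp_left, e]; exact hsurj
    exact Surjective.of_comp (β_ A L).hom.left _
  · haveI : IsProper (pullback.fst l.left a.left ≫ L.hom) := by
      rw [← Over.w l, pullback.condition_assoc, Over.w]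
      infer_instance
    haveI : IsAffineHom (pullback.fst l.left a.left ≫ L.hom) := by
      haveI : IsAffineHom L.hom := isAffineHom_of_isAffine L.hom
      haveI : IsClosedImmersion (pullback.fst l.left a.left) := MorphismProperty.pullback_fst _ _ inferInstance
      infer_instance
    exact IsFinite.iff_isProper_and_isAffineHom.2 ⟨inferInstance, inferInstance⟩

end

attribute [-instance] CategoryTheory.Hom.commGroup in
set_option backward.isDefEq.respectTransparency false in
/-- Let k be a finite field and G a smooth connected k-group scheme of finite type. Then there are a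
closed normal subgroup scheme l : L → G with L smooth, connected and affine, and a closed subgroup
scheme a : A → G with A an abelian variety (proper, smooth and connected over k), such that G = L ·
A, in the sense that the multiplication L × A → G is surjective, and L ∩ A (the fibre product of l
and a) is finite over k. (The published statement also asserts that such a decomposition is unique;
that part is not included here.) -/
theorem result (k : Type u) [Field k] [Finite k]
    (G : Over (Spec (CommRingCat.of k))) [GrpObj G] [Smooth G.hom] [QuasiCompact G.hom]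
    [ConnectedSpace ↥G.left] :
    ∃ (L : Over (Spec (CommRingCat.of k))) (_ : GrpObj L) (l : L ⟶ G) (A : Over (Spec (CommRingCat.of k)))
      (_ : GrpObj A) (a : A ⟶ G),
      IsMonHom l ∧ IsClosedImmersion l.left ∧ AlgGrp.IsNormalHom l ∧ Smooth L.hom ∧ ConnectedSpace ↥L.left ∧
        IsAffine L.left ∧
      IsMonHom a ∧ IsClosedImmersion a.left ∧ IsProper A.hom ∧ Smooth A.hom ∧ ConnectedSpace ↥A.left ∧
      Surjective ((l ⊗ₘ a) ≫ μ[G]).left ∧ IsFinite (pullback.fst l.left a.left ≫ L.hom) := by
  exact main

end Groth.Agent.S19468
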