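import Groth.Statements.S19472
import Groth.Agent.MultExactLib.Main

set_option autoImplicit false
set_option backward.isDefEq.respectTransparency false
set_option backward.isDefEq.respectTransparency.types false
set_option maxHeartbeats 1000000
set_option synthInstance.maxHeartbeats 400000
universe u
open CategoryTheory MonoidalCategory CartesianMonoidalCategory MonObj GrpObj AlgebraicGeometry CategoryTheory.Limits
open AlgGrp

namespace Groth.Agent.S19472

/-- Let k be a field and 1 → G₁ → G → G₂ → 1 an exact sequence of commutative affine k-group schemes of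
finite type: i : G₁ → G is a closed subgroup scheme and the kernel of a flat surjective homomorphism
q : G → G₂. Let j₁ : M₁ → G₁, j : M → G and j₂ : M₂ → G₂ be the largest closed subgroup schemes of
multiplicative type (each of multiplicative type, every closed subgroup scheme of multiplicative
type factoring through it). Then the induced sequence 1 → M₁ → M → M₂ → 1 is exact: there are u : M₁
→ M over i and v : M → M₂ over q with u a closed immersion, v flat and surjective, and u the kernel
of v. (The companion statement for the largest unipotent subgroup schemes over a perfect field is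
not included; the existence of the largest multiplicative-type subgroups is carried as hypotheses.) -/
theorem result (k : Type u) [Field k]
    (G₁ : Over (Spec (CommRingCat.of k))) [GrpObj G₁] [IsCommMonObj G₁] [IsAffine G₁.left] [LocallyOfFiniteType G₁.hom]
    (G : Over (Spec (CommRingCat.of k))) [GrpObj G] [IsCommMonObj G] [IsAffine G.left] [LocallyOfFiniteType G.hom]
    (G₂ : Over (Spec (CommRingCat.of k))) [GrpObj G₂] [IsCommMonObj G₂] [IsAffine G₂.left] [LocallyOfFiniteType G₂.hom]
    (i : G₁ ⟶ G) [IsMonHom i] [IsClosedImmersion i.left]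
    (q : G ⟶ G₂) [IsMonHom q] [Surjective q.left] [Flat q.left] (hq : AlgGrp.IsKernel i q)
    (M₁ : Over (Spec (CommRingCat.of k))) [GrpObj M₁] (j₁ : M₁ ⟶ G₁) [IsMonHom j₁] [IsClosedImmersion j₁.left]
    (hM₁ : SGA3x.IsMultTypeFT M₁)
    (hM₁max : ∀ (M' : Over (Spec (CommRingCat.of k))) [GrpObj M'] (j' : M' ⟶ G₁) [IsMonHom j']
      [IsClosedImmersion j'.left], SGA3x.IsMultTypeFT M' → ∃ g : M' ⟶ M₁, g ≫ j₁ = j')
    (M : Over (Spec (CommRingCat.of k))) [GrpObj M] (j : M ⟶ G) [IsMonHom j] [IsClosedImmersion j.left]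
    (hM : SGA3x.IsMultTypeFT M)
    (hMmax : ∀ (M' : Over (Spec (CommRingCat.of k))) [GrpObj M'] (j' : M' ⟶ G) [IsMonHom j']
      [IsClosedImmersion j'.left], SGA3x.IsMultTypeFT M' → ∃ g : M' ⟶ M, g ≫ j = j')
    (M₂ : Over (Spec (CommRingCat.of k))) [GrpObj M₂] (j₂ : M₂ ⟶ G₂) [IsMonHom j₂] [IsClosedImmersion j₂.left]
    (hM₂ : SGA3x.IsMultTypeFT M₂)
    (hM₂max : ∀ (M' : Over (Spec (CommRingCat.of k))) [GrpObj M'] (j' : M' ⟶ G₂) [IsMonHom j']
      [IsClosedImmersion j'.left], SGA3x.IsMultTypeFT M' → ∃ g : M' ⟶ M₂, g ≫ j₂ = j') :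
    ∃ (u : M₁ ⟶ M) (v : M ⟶ M₂), u ≫ j = j₁ ≫ i ∧ v ≫ j₂ = j ≫ q ∧
      IsClosedImmersion u.left ∧ Surjective v.left ∧ Flat v.left ∧ AlgGrp.IsKernel u v := by
  haveI : Mono i := Over.mono_of_mono_left i
  haveI : Mono j₁ := Over.mono_of_mono_left j₁
  haveI : Mono j := Over.mono_of_mono_left j
  haveI : Mono j₂ := Over.mono_of_mono_left j₂
  haveI : IsAffine M.left := isAffine_of_isAffineHom j.left
  haveI : IsAffine M₂.left := isAffine_of_isAffineHom j₂.left
  haveI : LocallyOfFiniteType M.hom := by rw [← Over.w j]; infer_instance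
  haveI : LocallyOfFiniteType M₂.hom := by rw [← Over.w j₂]; infer_instance
  haveI : IsClosedImmersion (j₁ ≫ i).left := by rw [Over.comp_left]; infer_instance
  obtain ⟨u, hu⟩ := hMmax M₁ (j₁ ≫ i) hM₁
  haveI : IsClosedImmersion (u.left ≫ j.left) := by rw [← Over.comp_left, hu]; infer_instance
  haveI : IsClosedImmersion u.left := IsClosedImmersion.of_comp _ j.left
  haveI : IsSeparated G₂.hom := inferInstance
  haveI : QuasiCompact G₂.hom := inferInstance
  haveI : IsAffineHom G₂.hom := inferInstance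
  haveI : LocallyOfFinitePresentation G₂.hom := inferInstance
  obtain ⟨Q, _, c, hc, f', hf', hcc, hQ, hfl, hfs, hfac⟩ :=
    (Groth.Agent.S19141.result M G₂ (Groth.Agent.Transporter.locally_of_isMultTypeFT hM) (j ≫ q)).1
  haveI := hc; haveI := hf'; haveI := hcc; haveI := hfl; haveI := hfs
  haveI : IsAffine Q.left := isAffine_of_isAffineHom c.left
  haveI : LocallyOfFiniteType Q.hom := by rw [← Over.w c]; infer_instance
  have hQm : SGA3x.IsMultTypeFT Q := MultExactLib.mult_of_quotient hM f'
  obtain ⟨g₂, hg₂⟩ := hM₂max Q c hQm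
  haveI : IsMonHom (g₂ ≫ j₂) := by rw [hg₂]; infer_instance
  haveI : IsMonHom g₂ := Groth.Agent.DiagRep.isMonHom_of_comp_mono g₂ j₂
  haveI : IsClosedImmersion (g₂.left ≫ j₂.left) := by rw [← Over.comp_left, hg₂]; infer_instance
  haveI : IsClosedImmersion g₂.left := IsClosedImmersion.of_comp _ j₂.left
  let E := pullback q j₂
  let p : E ⟶ G := pullback.fst _ _
  let e : E ⟶ M₂ := pullback.snd _ _
  have hw : p ≫ q = e ≫ j₂ := pullback.condition
  haveI : Mono p := pullback.fst_of_mono
  have hfacE : ∀ {Z : Over (Spec (CommRingCat.of k))} (a : Z ⟶ G) (b : Z ⟶ M₂), a ≫ q = b ≫ j₂ →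
      ∃ l : Z ⟶ E, l ≫ p = a := fun a b h => ⟨pullback.lift a b h, pullback.lift_fst _ _ _⟩
  obtain ⟨_, hp⟩ := Groth.Agent.SubDesc.exists_grpObj_of_mono p
    (hfacE _ ((fst E E ≫ e) * (snd E E ≫ e)) (by simp only [MonObj.mul_comp, Category.assoc, hw]))
    (hfacE _ 1 (by rw [MonObj.one_comp, MonObj.one_comp]))
    (hfacE _ e⁻¹ (by simp only [GrpObj.inv_comp, hw]))
  haveI := hp
  haveI : IsMonHom (e ≫ j₂) := by rw [← hw]; infer_instance
  haveI : IsMonHom e := Groth.Agent.DiagRep.isMonHom_of_comp_mono e j₂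
  have sq := (IsPullback.of_hasPullback q j₂).map (Over.forget _)
  haveI : IsClosedImmersion p.left := MorphismProperty.of_isPullback sq.flip ‹IsClosedImmersion j₂.left›
  haveI : Flat e.left := MorphismProperty.of_isPullback sq ‹Flat q.left›
  haveI : Surjective e.left := MorphismProperty.of_isPullback sq ‹Surjective q.left›
  haveI : IsAffine E.left := isAffine_of_isAffineHom p.left
  haveI : LocallyOfFiniteType E.hom := by rw [← Over.w p]; infer_instance
  haveI : IsCommMonObj E := ⟨by
    rw [← cancel_mono p, Category.assoc, IsMonHom.mul_hom, ← BraidedCategory.braiding_naturality_assoc,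
      IsCommMonObj.mul_comm]⟩
  haveI : IsCommMonObj M₂ := ⟨by
    rw [← cancel_mono j₂, Category.assoc, IsMonHom.mul_hom, ← BraidedCategory.braiding_naturality_assoc,
      IsCommMonObj.mul_comm]⟩
  haveI : IsIso g₂ := MultExactLib.isIso_of_factors hM₂ e g₂ fun N _ m _ _ hN => by
    haveI : IsClosedImmersion (m ≫ p).left := by rw [Over.comp_left]; infer_instance
    obtain ⟨g, hg⟩ := hMmax N (m ≫ p) hN
    refine ⟨g ≫ f', ?_⟩
    rw [← cancel_mono j₂, Category.assoc, Category.assoc, hg₂, hfac, ← Category.assoc, hg, Category.assoc, hw,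
      Category.assoc]
  let v : M ⟶ M₂ := f' ≫ g₂
  have hv : v ≫ j₂ = j ≫ q := by rw [Category.assoc, hg₂, hfac]
  haveI : IsIso g₂.left := (Over.forget _).map_isIso g₂
  have hiq : i ≫ q = 1 := by rw [hq.w, ← Hom.one_def]
  have huv : u ≫ v = 1 := by
    rw [← cancel_mono j₂, Category.assoc, hv, ← Category.assoc, hu, Category.assoc, hiq, MonObj.comp_one,
      MonObj.one_comp]
  haveI : Mono u := Over.mono_of_mono_left u
  haveI : Mono (η[M₂] : 𝟙_ (Over (Spec (CommRingCat.of k))) ⟶ M₂) := ⟨fun {Z} a b _ => toUnit_unique a b⟩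
  let K := pullback v η[M₂]
  let κ : K ⟶ M := pullback.fst _ _
  haveI : Mono κ := pullback.fst_of_mono
  haveI : IsClosedImmersion κ.left := SCSectLib.closed_kernel (IsPullback.of_hasPullback v η[M₂])
  have hκv : κ ≫ v = 1 := by
    rw [pullback.condition, Hom.one_def, toUnit_unique (pullback.snd v η[M₂]) (toUnit K)]
  have hfacK : ∀ {Z : Over (Spec (CommRingCat.of k))} (a : Z ⟶ M), a ≫ v = 1 → ∃ l : Z ⟶ K, l ≫ κ = a :=
    fun {Z} a ha => ⟨pullback.lift a (toUnit Z) (ha.trans (Hom.one_def)), pullback.lift_fst _ _ _⟩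
  haveI : IsMonHom v := inferInstance
  obtain ⟨_, hκm⟩ := Groth.Agent.SubDesc.exists_grpObj_of_mono κ
    (hfacK _ (by rw [MonObj.mul_comp, Category.assoc, Category.assoc, hκv, MonObj.comp_one, MonObj.comp_one, _root_.mul_one]))
    (hfacK _ (by rw [MonObj.one_comp]))
    (hfacK _ (by rw [GrpObj.inv_comp, hκv, inv_one]))
  haveI := hκm
  have hκq : (κ ≫ j) ≫ q = 1 := by
    rw [Category.assoc, ← hv, ← Category.assoc, hκv, MonObj.one_comp]
  let b : K ⟶ G₁ := hq.lift (κ ≫ j) (toUnit K) (by rw [hκq, Hom.one_def])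
  have hb : b ≫ i = κ ≫ j := hq.lift_fst _ _ _
  haveI : IsMonHom (b ≫ i) := by rw [hb]; infer_instance
  haveI : IsMonHom b := Groth.Agent.DiagRep.isMonHom_of_comp_mono b i
  haveI : IsClosedImmersion (b.left ≫ i.left) := by rw [← Over.comp_left, hb, Over.comp_left]; infer_instance
  haveI : IsClosedImmersion b.left := IsClosedImmersion.of_comp _ i.left
  haveI : Flat K.hom := Groth.Agent.GrpField.flat_field _
  haveI : LocallyOfFiniteType K.hom := by rw [← Over.w κ]; infer_instance
  haveI : LocallyOfFinitePresentation K.hom := inferInstance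
  obtain ⟨g₁, hg₁⟩ := hM₁max K b (Groth.Agent.MultClosed.isMultTypeFT_of_closed K M hM κ)
  have hK : g₁ ≫ u = κ := by
    rw [← cancel_mono j, Category.assoc, hu, ← Category.assoc, hg₁, hb]
  refine ⟨u, v, hu, hv, inferInstance, ?_, ?_, ?_⟩
  · show Surjective (f'.left ≫ g₂.left); infer_instance
  · show Flat (f'.left ≫ g₂.left); infer_instance
  refine IsPullback.of_isLimit' ⟨by rw [huv, Hom.one_def]⟩
    (PullbackCone.IsLimit.mk _
      (fun s => (hfacK s.fst (by rw [s.condition, Hom.one_def, toUnit_unique s.snd (toUnit _)])).choose ≫ g₁)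
      (fun s => ?_) (fun s => toUnit_unique _ _) (fun s m h1 h2 => ?_))
  · rw [Category.assoc, hK]
    exact (hfacK s.fst (by rw [s.condition, Hom.one_def, toUnit_unique s.snd (toUnit _)])).choose_spec
  · rw [← cancel_mono u, Category.assoc, hK,
      (hfacK s.fst (by rw [s.condition, Hom.one_def, toUnit_unique s.snd (toUnit _)])).choose_spec]
    exact h1

end Groth.Agent.S19472
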