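import Groth.Statements.S19475
import Mathlib


-- import your own Groth.Agent.* helpers here

set_option autoImplicit false
universe u
open CAlg

namespace Groth.Agent.S19475

open IsLocalRing in
/-- Let A be a Noetherian ring, B an A-algebra, q a prime ideal of B and p its preimage in A; let A_p
and B_q be the local rings at p and q and Â_p the completion of A_p at its maximal ideal pA_p. Then
the ideal generated by qB_q in B_q ⊗ Â_p is maximal. (The tensor product is formed over A; since A_p
is a localization of A it agrees with the tensor product over A_p used in the published statement.) -/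
theorem result (A B : Type u) [CommRing A] [CommRing B]
    [Algebra A B] [IsNoetherianRing A] (q : Ideal B) [q.IsPrime] :
    ((maximalIdeal (Localization.AtPrime q)).map
      (Algebra.TensorProduct.includeLeftRingHom :
        Localization.AtPrime q →+* TensorProduct A (Localization.AtPrime q)
          (AdicCompletion (maximalIdeal (Localization.AtPrime (q.under A)))
            (Localization.AtPrime (q.under A))))).IsMaximal := by
  classical
  let p : Ideal A := q.under A
  let Ap := Localization.AtPrime p
  let Bq := Localization.AtPrime q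
  let Ah := AdicCompletion (maximalIdeal Ap) Ap
  haveI : IsNoetherianRing Ap := IsLocalization.isNoetherianRing p.primeCompl _ inferInstance
  let i₁ : Bq →+* TensorProduct A Bq Ah := Algebra.TensorProduct.includeLeftRingHom
  let i₂ : Ah →ₐ[A] TensorProduct A Bq Ah := Algebra.TensorProduct.includeRight
  let ev : Ah →ₐ[A] p.ResidueField := (AdicCompletion.evalOneₐ (maximalIdeal Ap)).restrictScalars A
  let ψ : Ah →ₐ[A] q.ResidueField := (Ideal.ResidueField.mapₐ p q (Algebra.ofId A B) rfl).comp ev
  let φ : TensorProduct A Bq Ah →ₐ[A] q.ResidueField :=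
    Algebra.TensorProduct.lift (IsScalarTower.toAlgHom A Bq q.ResidueField) ψ fun _ _ => mul_comm _ _
  let 𝔞 := (maximalIdeal Bq).map i₁
  have hpow : ∀ a ∈ p, i₁ (algebraMap A Bq a) ∈ 𝔞 := fun a ha =>
    Ideal.mem_map_of_mem _ (by
      rw [IsScalarTower.algebraMap_apply A B Bq]
      exact (IsLocalization.AtPrime.to_map_mem_maximal_iff Bq q (algebraMap A B a)).2 ha)
  have hA : ∀ a : A, i₂ (algebraMap A Ah a) = i₁ (algebraMap A Bq a) := fun a => by
    rw [AlgHom.commutes]
    exact Algebra.TensorProduct.algebraMap_apply a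
  have hm : ∀ y ∈ RingHom.ker (AdicCompletion.evalOneₐ (maximalIdeal Ap)).toRingHom, i₂ y ∈ 𝔞 := by
    intro y hy
    have hmap : Ideal.map (algebraMap Ap Ah) (maximalIdeal Ap) = p.map (algebraMap A Ah) := by
      rw [IsScalarTower.algebraMap_eq A Ap Ah, ← Ideal.map_map, Localization.AtPrime.map_eq_maximalIdeal]
    rw [AdicCompletion.ker_evalOneₐ_eq_map _ (IsLocalRing.maximalIdeal Ap).fg_of_isNoetherianRing, hmap] at hy
    have hle : p.map (algebraMap A Ah) ≤ 𝔞.comap i₂.toRingHom := Ideal.map_le_iff_le_comap.2 fun a ha => by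
      show i₂ (algebraMap A Ah a) ∈ 𝔞
      rw [hA]; exact hpow a ha
    exact hle hy
  have key : ∀ z, ∃ b, z - i₁ b ∈ 𝔞 := by
    intro z
    induction z with
    | zero => exact ⟨0, by simp⟩
    | add u v hu hv =>
      obtain ⟨b, hb⟩ := hu
      obtain ⟨c, hc⟩ := hv
      exact ⟨b + c, by rw [map_add, add_sub_add_comm]; exact add_mem hb hc⟩
    | tmul b y =>
      obtain ⟨x, hx⟩ := Ideal.Quotient.mk_surjective (AdicCompletion.evalOneₐ (maximalIdeal Ap) y)
      obtain ⟨⟨a, s⟩, rfl⟩ := IsLocalization.mk'_surjective p.primeCompl x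
      have hu : IsUnit (algebraMap A Bq s) := by
        rw [IsScalarTower.algebraMap_apply A B Bq]
        exact IsLocalization.map_units Bq (⟨algebraMap A B s, s.2⟩ : q.primeCompl)
      obtain ⟨w, hw⟩ := hu.exists_right_inv
      refine ⟨b * algebraMap A Bq a * w, ?_⟩
      have h1 : i₂ (y * algebraMap A Ah s) - i₂ (algebraMap A Ah a) ∈ 𝔞 := by
        rw [← map_sub]
        refine hm _ ?_
        rw [RingHom.mem_ker, map_sub, sub_eq_zero, AlgHom.toRingHom_eq_coe, RingHom.coe_coe, map_mul,
          IsScalarTower.algebraMap_apply A Ap Ah, AlgHom.commutes, IsScalarTower.algebraMap_apply A Ap Ah (a : A),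
          AlgHom.commutes, ← hx, Ideal.Quotient.algebraMap_eq, ← map_mul]
        exact congrArg _ (IsLocalization.mk'_spec Ap a s)
      rw [map_mul i₂, hA, hA] at h1
      have h2 := 𝔞.mul_mem_left (i₁ (b * w)) h1
      have e : i₁ b * i₂ y = TensorProduct.tmul A b y := by simp [i₁, i₂]
      have e2 : i₁ (algebraMap A Bq s) * i₁ w = 1 := by rw [← map_mul, hw, map_one]
      convert! h2 using 1
      simp only [map_mul]
      linear_combination (i₁ b * i₂ y) * e2.symm - e
  have hφ : ∀ b, φ (i₁ b) = algebraMap Bq q.ResidueField b := fun b =>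
    (Algebra.TensorProduct.lift_tmul _ _ _ b 1).trans (by rw [map_one, mul_one]; rfl)
  have hle : 𝔞 ≤ RingHom.ker φ.toRingHom := Ideal.map_le_iff_le_comap.2 fun b hb => by
    show φ (i₁ b) = 0
    rw [hφ, IsLocalRing.ResidueField.algebraMap_eq]
    exact Ideal.Quotient.eq_zero_iff_mem.2 hb
  have hker : RingHom.ker φ.toRingHom ≤ 𝔞 := fun z hz => by
    obtain ⟨b, hb⟩ := key z
    have h1 : φ (z - i₁ b) = 0 := hle hb
    rw [map_sub, show φ z = 0 from hz, zero_sub, neg_eq_zero, hφ, IsLocalRing.ResidueField.algebraMap_eq] at h1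
    simpa using add_mem hb (Ideal.mem_map_of_mem i₁ (Ideal.Quotient.eq_zero_iff_mem.1 h1))
  have hsurj : Function.Surjective φ.toRingHom := fun c => by
    obtain ⟨b, rfl⟩ := IsLocalRing.residue_surjective c
    exact ⟨i₁ b, (hφ b).trans rfl⟩
  show 𝔞.IsMaximal
  rw [le_antisymm hle hker]
  exact RingHom.ker_isMaximal_of_surjective _ hsurj

end Groth.Agent.S19475
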