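import Groth.Statements.S19477
import Mathlib.RingTheory.Invariant.Profinite
import Mathlib.FieldTheory.Galois.Profinite
import Mathlib.FieldTheory.Galois.Infinite
import Mathlib.RingTheory.TensorProduct.MvPolynomial
import Mathlib.FieldTheory.IntermediateField.Adjoin.Algebra
import Mathlib.RingTheory.EssentialFiniteness
import Mathlib.RingTheory.AlgebraicIndependent.TranscendenceBasis
import Mathlib.RingTheory.Artinian.Algebra
import Mathlib.RingTheory.Artinian.Ring
import Mathlib.RingTheory.Flat.Basic
import Mathlib.LinearAlgebra.TensorProduct.Basis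
import Mathlib.RingTheory.LocalRing.ResidueField.Ideal
-- import your own Groth.Agent.* helpers here

set_option autoImplicit false
universe u
open Variety

namespace Groth.Agent.S19477

theorem isField_tensor (K L : Type u) [Field K] [Field L] [Algebra K L] [Algebra.IsAlgebraic K L]
    (σ : Type u) (E : Type u) [Field E] [Algebra K E] (φ : MvPolynomial σ K →ₐ[K] E)
    (hφ : Function.Injective φ) (hE : ∀ e : E, ∃ r s, φ s ≠ 0 ∧ e = φ r / φ s) :
    IsField (TensorProduct K E L) := by
  let P := MvPolynomial σ K
  let j : TensorProduct K P L →ₐ[K] TensorProduct K E L := Algebra.TensorProduct.map φ (AlgHom.id K L)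
  have hj : Function.Injective j :=
    Module.Flat.rTensor_preserves_injective_linearMap (M := L) φ.toLinearMap hφ
  haveI : IsDomain (TensorProduct K P L) :=
    ((Algebra.TensorProduct.comm K P L).toRingEquiv.trans
      (MvPolynomial.scalarRTensorAlgEquiv (R := K) (N := L) (σ := σ)).toRingEquiv).toMulEquiv.isDomain
  have hclear : ∀ a : TensorProduct K E L, ∃ (p : P) (a' : TensorProduct K P L),
      φ p ≠ 0 ∧ j a' = (φ p ⊗ₜ[K] (1 : L)) * a := by
    intro a
    induction a using TensorProduct.induction_on with
    | zero => exact ⟨1, 0, by simp, by simp⟩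
    | tmul e l =>
      obtain ⟨r, s, hs, rfl⟩ := hE e
      exact ⟨s, r ⊗ₜ l, hs, by simp [j, mul_div_cancel₀ _ hs]⟩
    | add a b ha hb =>
      obtain ⟨p, a', hp, ha⟩ := ha
      obtain ⟨q, b', hq, hb⟩ := hb
      refine ⟨p * q, (q ⊗ₜ 1) * a' + (p ⊗ₜ 1) * b', by simp [hp, hq], ?_⟩
      have e : ∀ t : P, j (t ⊗ₜ (1 : L)) = φ t ⊗ₜ 1 := fun t => by simp [j]
      have e' : φ (p * q) ⊗ₜ[K] (1 : L) = (φ p ⊗ₜ 1) * (φ q ⊗ₜ 1) := by simp
      rw [map_add, map_mul, map_mul, e, e, ha, hb, e']
      ring
  have hunit : ∀ p : P, φ p ≠ 0 → IsUnit (φ p ⊗ₜ[K] (1 : L)) := fun p hp =>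
    (Ne.isUnit hp).map (Algebra.TensorProduct.includeLeft : E →ₐ[K] TensorProduct K E L)
  haveI : Nontrivial (TensorProduct K E L) := hj.nontrivial
  haveI : NoZeroDivisors (TensorProduct K E L) := ⟨fun {a b} hab => by
    obtain ⟨p, a', hp, ha⟩ := hclear a
    obtain ⟨q, b', hq, hb⟩ := hclear b
    have h : a' * b' = 0 := hj (by rw [map_mul, ha, hb, map_zero, mul_mul_mul_comm, hab, mul_zero])
    rcases mul_eq_zero.1 h with h | h
    · rw [h, map_zero] at ha
      exact Or.inl ((hunit p hp).mul_right_eq_zero.1 ha.symm)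
    · rw [h, map_zero] at hb
      exact Or.inr ((hunit q hq).mul_right_eq_zero.1 hb.symm)⟩
  haveI : IsDomain (TensorProduct K E L) := NoZeroDivisors.to_isDomain _
  exact isField_of_isIntegral_of_isField' (R := E) (Field.toIsField E)

theorem finite_primes (K F L : Type u) [Field K] [Field F] [Algebra K F] [Field L] [Algebra K L]
    [Algebra.IsAlgebraic K L] (h : Algebra.EssFiniteType K F) :
    Finite (PrimeSpectrum (TensorProduct K F L)) := by
  classical
  obtain ⟨s, hs⟩ := exists_isTranscendenceBasis K F
  set E := IntermediateField.adjoin K (Set.range (Subtype.val : s → F)) with hEdef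
  haveI : Algebra.IsAlgebraic E F := hs.isAlgebraic_field
  haveI : Algebra.EssFiniteType E F := Algebra.EssFiniteType.of_comp K E F
  haveI : Module.Finite E F := Algebra.finite_of_essFiniteType_of_isAlgebraic
  let φ : MvPolynomial s K →ₐ[K] E :=
    MvPolynomial.aeval fun i => ⟨i, IntermediateField.subset_adjoin K _ ⟨i, rfl⟩⟩
  have hval : E.val.comp φ = MvPolynomial.aeval (Subtype.val : s → F) :=
    MvPolynomial.algHom_ext fun i => by simp [φ]
  have hφ : Function.Injective φ := fun x y hxy => hs.1 (by
    rw [← hval]; exact congrArg E.val hxy)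
  have hE : ∀ e : E, ∃ r t, φ t ≠ 0 ∧ e = φ r / φ t := fun e => by
    obtain ⟨r, t, h⟩ := (IntermediateField.mem_adjoin_range_iff K (Subtype.val : s → F) (e : F)).1 e.2
    rw [← hval] at h
    by_cases ht : φ t = 0
    · refine ⟨0, 1, by simp, Subtype.ext ?_⟩
      rw [h]
      simp [ht]
    · exact ⟨r, t, ht, Subtype.ext (by rw [h]; simp)⟩
  let R := TensorProduct K E L
  let ψ : R →ₐ[K] TensorProduct K F L := Algebra.TensorProduct.map E.val (AlgHom.id K L)
  letI : Field R := (isField_tensor K L s E φ hφ hE).toField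
  letI : Algebra R (TensorProduct K F L) := ψ.toRingHom.toAlgebra
  obtain ⟨S, hS⟩ := (Module.finite_def (R := E) (M := F)).1 inferInstance
  haveI : Module.Finite R (TensorProduct K F L) := by
    refine ⟨S.image (fun f => f ⊗ₜ[K] (1 : L)), ?_⟩
    rw [eq_top_iff]
    rintro z -
    induction z using TensorProduct.induction_on with
    | zero => exact zero_mem _
    | add a b ha hb => exact add_mem ha hb
    | tmul f l =>
      have hf : f ∈ Submodule.span E (S : Set F) := hS ▸ Submodule.mem_top
      induction hf using Submodule.span_induction generalizing l with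
      | mem x hx =>
        have : x ⊗ₜ[K] l = ((1 : E) ⊗ₜ[K] l : R) • (x ⊗ₜ[K] (1 : L)) := by
          rw [Algebra.smul_def]; change _ = ψ _ * _; erw [Algebra.TensorProduct.map_tmul, Algebra.TensorProduct.tmul_mul_tmul]; simp
        rw [this]
        exact Submodule.smul_mem _ _ (Submodule.subset_span (Finset.mem_coe.2 (Finset.mem_image_of_mem _ hx)))
      | zero => rw [TensorProduct.zero_tmul]; exact zero_mem _
      | add x y _ _ hx hy => rw [TensorProduct.add_tmul]; exact add_mem (hx l) (hy l)
      | smul e x _ hx =>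
        have : (e • x) ⊗ₜ[K] l = (e ⊗ₜ[K] (1 : L) : R) • (x ⊗ₜ[K] l) := by
          rw [Algebra.smul_def, Algebra.smul_def]; change _ = ψ _ * _; erw [Algebra.TensorProduct.map_tmul, Algebra.TensorProduct.tmul_mul_tmul]; simp
        rw [this]
        exact Submodule.smul_mem _ _ (hx l)
  haveI : IsArtinianRing (TensorProduct K F L) := IsArtinianRing.of_finite R _
  infer_instance

theorem transitive (K F L : Type u) [Field K] [Field F] [Algebra K F] [Field L] [Algebra K L]
    [IsGalois K L] (P Q : PrimeSpectrum (TensorProduct K F L)) :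
    ∃ γ : L ≃ₐ[K] L, Q.asIdeal = P.asIdeal.comap
      (Algebra.TensorProduct.map (AlgHom.id K F) (γ : L →ₐ[K] L)) := by
  classical
  let A := TensorProduct K F L
  let τ : (L ≃ₐ[K] L) →* (A →ₐ[F] A) :=
    { toFun := fun γ => Algebra.TensorProduct.map (AlgHom.id F F) (γ : L →ₐ[K] L)
      map_one' := Algebra.TensorProduct.ext' fun a b => by simp
      map_mul' := fun γ γ' => Algebra.TensorProduct.ext' fun a b => by
        simp [A] }
  let ρ : (L ≃ₐ[K] L) →* (A →+* A) :=
    { toFun := fun γ => (τ γ).toRingHom
      map_one' := by rw [map_one]; rfl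
      map_mul' := fun γ γ' => by rw [map_mul]; rfl }
  letI : MulSemiringAction (L ≃ₐ[K] L) A := MulSemiringAction.compHom A ρ
  have hsmul : ∀ (γ : L ≃ₐ[K] L) (a : A), γ • a = τ γ a := fun _ _ => rfl
  have hτ : ∀ (γ : L ≃ₐ[K] L) (f : F) (l : L), τ γ (f ⊗ₜ[K] l) = f ⊗ₜ[K] γ l := fun _ _ _ => rfl
  haveI : SMulCommClass (L ≃ₐ[K] L) F A :=
    ⟨fun γ c a => by rw [hsmul, hsmul]; exact map_smul (τ γ) c a⟩
  haveI : Algebra.IsInvariant F A (L ≃ₐ[K] L) := ⟨fun a ha => by
    let b := Module.Basis.ofVectorSpace K F
    let e := TensorProduct.equivFinsuppOfBasisLeft (N := L) b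
    have he : ∀ (γ : L ≃ₐ[K] L) (x : A) i, e (τ γ x) i = γ (e x i) := fun γ x i => by
      induction x using TensorProduct.induction_on with
      | zero => simp
      | add u v hu hv => simp [hu, hv]
      | tmul f l =>
        rw [hτ]
        simp [e]
    have hfix : ∀ i, ∃ c : K, algebraMap K L c = e a i := fun i =>
      (InfiniteGalois.mem_range_algebraMap_iff_fixed _).2 fun γ => by rw [← he, ← hsmul, ha γ]
    choose c hc using hfix
    refine ⟨∑ i ∈ (e a).support, c i • b i, e.injective (Finsupp.ext fun i => ?_)⟩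
    rw [Algebra.TensorProduct.algebraMap_apply, Algebra.algebraMap_self, RingHom.id_apply]
    simp only [e, TensorProduct.equivFinsuppOfBasisLeft_apply_tmul_apply, map_sum, map_smul,
      Module.Basis.repr_self, Finsupp.finsetSum_apply, Finsupp.smul_apply, Finsupp.single_apply,
      smul_eq_mul, mul_ite, mul_one, mul_zero, Finset.sum_ite_eq']
    rw [← Algebra.algebraMap_eq_smul_one]
    split_ifs with h
    · exact hc i
    · rw [map_zero]; exact (Finsupp.notMem_support_iff.1 h).symm⟩
  letI : TopologicalSpace A := ⊥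
  haveI : DiscreteTopology A := ⟨rfl⟩
  haveI : ContinuousSMul (L ≃ₐ[K] L) A := continuousSMul_iff_stabilizer_isOpen.2 fun a => by
    obtain ⟨S, hS⟩ := TensorProduct.exists_finset (R := K) a
    let L0 := IntermediateField.adjoin K ((S.image Prod.snd : Finset L) : Set L)
    haveI : FiniteDimensional K L0 :=
      IntermediateField.finiteDimensional_adjoin fun x _ => Algebra.IsIntegral.isIntegral x
    refine Subgroup.isOpen_mono (fun γ hγ => ?_) L0.fixingSubgroup_isOpen
    rw [MulAction.mem_stabilizer_iff, hsmul, hS, map_sum]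
    refine Finset.sum_congr rfl fun p hp => ?_
    have := (IntermediateField.mem_fixingSubgroup_iff L0 γ).1 hγ p.2
      (IntermediateField.subset_adjoin K _ (Finset.mem_coe.2 (Finset.mem_image_of_mem _ hp)))
    rw [hτ, this]
  obtain ⟨g, hg⟩ := Algebra.IsInvariant.exists_smul_of_under_eq_of_profinite (A := F)
    (G := L ≃ₐ[K] L) P.asIdeal Q.asIdeal
    (((P.asIdeal.under F).eq_bot_or_top.resolve_right (Ideal.IsPrime.under F P.asIdeal).ne_top).trans
      ((Q.asIdeal.under F).eq_bot_or_top.resolve_right (Ideal.IsPrime.under F Q.asIdeal).ne_top).symm)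
  refine ⟨g⁻¹, ?_⟩
  rw [hg, Ideal.pointwise_smul_eq_comap]
  rfl

/-- Let K be a field, B an integral K-algebra of finite type with fraction field F, and L a Galois
extension of K with group Γ = Aut_K(L). Then F ⊗_K L has only finitely many prime ideals and Γ,
acting through the second factor, permutes them transitively: for prime ideals P, Q there is γ ∈ Γ
with Q the preimage of P under id ⊗ γ. (The published statement is the geometric one, that the
points of an algebraic K-scheme X correspond to the Γ-orbits of points of X_L and that these orbits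
are finite; it reduces to this algebraic statement by passing to the fibre over a point, and the
algebraic statement is what is proved.) -/
theorem result (K B L : Type u) [Field K]
    [CommRing B] [IsDomain B] [Algebra K B] [Algebra.FiniteType K B] [Field L] [Algebra K L] [IsGalois K L] :
    Finite (PrimeSpectrum (TensorProduct K (FractionRing B) L)) ∧
      ∀ P Q : PrimeSpectrum (TensorProduct K (FractionRing B) L), ∃ γ : L ≃ₐ[K] L,
        Q.asIdeal = P.asIdeal.comap
          (Algebra.TensorProduct.map (AlgHom.id K (FractionRing B)) (γ : L →ₐ[K] L)) := by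
  classical
  refine ⟨finite_primes K (FractionRing B) L ?_, fun P Q => transitive K (FractionRing B) L P Q⟩
  exact @Algebra.EssFiniteType.comp K B (FractionRing B) _ _ _ _ _ _ _ inferInstance
    (Algebra.EssFiniteType.of_isLocalization (FractionRing B) (nonZeroDivisors B))

end Groth.Agent.S19477
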