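import Groth.Statements.S19479
import Groth.Agent.ComodLib.Semisimple
-- import your own Groth.Agent.* helpers here

set_option autoImplicit false
universe u v w
open HopfRep

namespace Groth.Agent.S19479

open scoped ComodLib

open TensorProduct in
/-- Let K be a field, C a K-coalgebra and V a right C-comodule. The following are equivalent: (i) V is
the internal direct sum of a family of simple subcomodules, i.e. there is an independent family of
subcomodules W_i with sum V, each W_i nonzero and having no subcomodules inside it other than 0 and
W_i; (ii) every subcomodule of V has a complementary subcomodule. A subcomodule is a subspace W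
whose coaction lands in the image of W ⊗ C. (The source states this for left comodules; a left
comodule over C is a right comodule over the co-opposite coalgebra, so the statement is the same.) -/
theorem result {K : Type u} {C : Type v} [Field K]
    [AddCommGroup C] [Module K C] [Coalgebra K C] (V : Type w) [AddCommGroup V] [Module K V] [HopfRep.Comod K C V] :
    (∃ (ι : Type w) (W : ι → Submodule K V), iSupIndep W ∧ iSup W = ⊤ ∧ ∀ i,
        HopfRep.IsSubcomod (k := K) (A := C) (W i) ∧ W i ≠ ⊥ ∧
          ∀ W' : Submodule K V, HopfRep.IsSubcomod (k := K) (A := C) W' → W' ≤ W i → W' = ⊥ ∨ W' = W i) ↔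
      HopfRep.IsSemisimpleComod K C V := by
  constructor
  · rintro ⟨ι, W, -, htop, hW⟩
    rw [ComodLib.isSemisimpleComod_iff]
    refine isSemisimpleModule_of_isSemisimpleModule_submodule'
      (p := fun i => ComodLib.toSub (W i) (hW i).1) (fun i => ?_) ?_
    · have : IsSimpleModule (ComodLib.Dual' K C) (ComodLib.toSub (W i) (hW i).1) :=
        (ComodLib.isSimple_sub_iff _).2 ⟨(hW i).2.1, fun W' h1 h2 => (hW i).2.2 W' h1 h2⟩
      infer_instance
    · exact ComodLib.restrictScalars_iSup_eq_top.1 htop
  · intro h
    have := ComodLib.isSemisimpleComod_iff.1 h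
    obtain ⟨s, hind, hsup, hsimple⟩ :=
      IsSemisimpleModule.exists_sSupIndep_sSup_simples_eq_top (ComodLib.Dual' K C) V
    refine ⟨s, fun m => m.1.restrictScalars K, ?_, ?_, fun m => ?_⟩
    · rw [ComodLib.restrictScalars_iSupIndep]
      exact (sSupIndep_iff _).1 hind
    · rw [ComodLib.restrictScalars_iSup_eq_top, ← sSup_eq_iSup']
      exact hsup
    · have h' := (ComodLib.isSimple_sub_iff m.1).1 (hsimple m.1 m.2)
      exact ⟨ComodLib.isSubcomod_restrictScalars _, h'.1, h'.2⟩

end Groth.Agent.S19479
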