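import Groth.Statements.S19482
import Groth.Agent.FinBundleLib.Slope
-- import your own Groth.Agent.* helpers here

set_option autoImplicit false
universe u
open CategoryTheory CategoryTheory.Limits AlgebraicGeometry
open VBCurve

namespace Groth.Agent.S19482

/-- Let X be a smooth proper integral curve over an algebraically closed field k. Say that a finite
locally free O_X-module E of rank r is essentially finite if it is slope-semistable of degree 0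
(degree = χ(E) − r·χ(O_X); semistable: every finite locally free submodule of positive rank has
degree ≤ 0) and there exist a finite locally free module G which is finite in the sense of Weil —
P(G) ≅ Q(G) for two distinct polynomials P ≠ Q with natural-number coefficients, where P(G) is the
direct sum over i of P_i copies of G^{⊗ i} — and sub-bundles F₂ ⊆ F₁ ⊆ G (monomorphisms F₂ → F₁ → G
whose cokernels are finite locally free), with F₁ and F₂ slope-semistable of degree 0, such that E ≅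
F₁/F₂. If E₁ of rank r₁ and E₂ of rank r₂ are essentially finite, then E₁ ⊗ E₂ is finite locally
free of rank r₁ r₂ and essentially finite. (The predicate is written out in full three times; the
curve is smooth, proper and integral of dimension one over an algebraically closed field, so
slope-semistability has its usual meaning.) -/
theorem result (k : Type u) [Field k] [IsAlgClosed k] (X : Scheme.{u}) [X.Over (Spec (CommRingCat.of k))]
    [IsIntegral X] [IsProper (X ↘ Spec (CommRingCat.of k))] [Smooth (X ↘ Spec (CommRingCat.of k))]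
    (hdim : topologicalKrullDim X = 1)
    (r₁ r₂ : ℕ) (E₁ E₂ : X.Modules) (hE₁ : FlatMod.IsFinLocFreeOfRank r₁ E₁) (hE₂ : FlatMod.IsFinLocFreeOfRank r₂ E₂)
    (h₁ : (Curv2.deg k X E₁ r₁ = 0 ∧ ModFun.IsSlopeSemistable k X E₁ r₁ ∧
      ∃ (s : ℕ) (G : X.Modules) (s₁ : ℕ) (F₁ : X.Modules) (s₂ : ℕ) (F₂ : X.Modules) (i₁ : F₁ ⟶ G) (i₂ : F₂ ⟶ F₁),
        FlatMod.IsFinLocFreeOfRank s G ∧
        (∃ P Q : Polynomial ℕ, P ≠ Q ∧ Nonempty ((∐ fun i : Fin (P.natDegree + 1) => ∐ fun _ : Fin (P.coeff ↑i) => CohB1.tensorPow G ↑i) ≅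
          (∐ fun i : Fin (Q.natDegree + 1) => ∐ fun _ : Fin (Q.coeff ↑i) => CohB1.tensorPow G ↑i))) ∧
        FlatMod.IsFinLocFreeOfRank s₁ F₁ ∧ FlatMod.IsFinLocFreeOfRank s₂ F₂ ∧ Mono i₁ ∧ Mono i₂ ∧
        FlatMod.IsFinLocFree (cokernel i₁) ∧ FlatMod.IsFinLocFree (cokernel i₂) ∧
        Curv2.deg k X F₁ s₁ = 0 ∧ ModFun.IsSlopeSemistable k X F₁ s₁ ∧
        Curv2.deg k X F₂ s₂ = 0 ∧ ModFun.IsSlopeSemistable k X F₂ s₂ ∧
        Nonempty (E₁ ≅ cokernel i₂)))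
    (h₂ : (Curv2.deg k X E₂ r₂ = 0 ∧ ModFun.IsSlopeSemistable k X E₂ r₂ ∧
      ∃ (s : ℕ) (G : X.Modules) (s₁ : ℕ) (F₁ : X.Modules) (s₂ : ℕ) (F₂ : X.Modules) (i₁ : F₁ ⟶ G) (i₂ : F₂ ⟶ F₁),
        FlatMod.IsFinLocFreeOfRank s G ∧
        (∃ P Q : Polynomial ℕ, P ≠ Q ∧ Nonempty ((∐ fun i : Fin (P.natDegree + 1) => ∐ fun _ : Fin (P.coeff ↑i) => CohB1.tensorPow G ↑i) ≅
          (∐ fun i : Fin (Q.natDegree + 1) => ∐ fun _ : Fin (Q.coeff ↑i) => CohB1.tensorPow G ↑i))) ∧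
        FlatMod.IsFinLocFreeOfRank s₁ F₁ ∧ FlatMod.IsFinLocFreeOfRank s₂ F₂ ∧ Mono i₁ ∧ Mono i₂ ∧
        FlatMod.IsFinLocFree (cokernel i₁) ∧ FlatMod.IsFinLocFree (cokernel i₂) ∧
        Curv2.deg k X F₁ s₁ = 0 ∧ ModFun.IsSlopeSemistable k X F₁ s₁ ∧
        Curv2.deg k X F₂ s₂ = 0 ∧ ModFun.IsSlopeSemistable k X F₂ s₂ ∧
        Nonempty (E₂ ≅ cokernel i₂))) :
    FlatMod.IsFinLocFreeOfRank (r₁ * r₂) (CohB1.tensorMod E₁ E₂) ∧
    (Curv2.deg k X (CohB1.tensorMod E₁ E₂) (r₁ * r₂) = 0 ∧ ModFun.IsSlopeSemistable k X (CohB1.tensorMod E₁ E₂) (r₁ * r₂) ∧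
      ∃ (s : ℕ) (G : X.Modules) (s₁ : ℕ) (F₁ : X.Modules) (s₂ : ℕ) (F₂ : X.Modules) (i₁ : F₁ ⟶ G) (i₂ : F₂ ⟶ F₁),
        FlatMod.IsFinLocFreeOfRank s G ∧
        (∃ P Q : Polynomial ℕ, P ≠ Q ∧ Nonempty ((∐ fun i : Fin (P.natDegree + 1) => ∐ fun _ : Fin (P.coeff ↑i) => CohB1.tensorPow G ↑i) ≅
          (∐ fun i : Fin (Q.natDegree + 1) => ∐ fun _ : Fin (Q.coeff ↑i) => CohB1.tensorPow G ↑i))) ∧
        FlatMod.IsFinLocFreeOfRank s₁ F₁ ∧ FlatMod.IsFinLocFreeOfRank s₂ F₂ ∧ Mono i₁ ∧ Mono i₂ ∧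
        FlatMod.IsFinLocFree (cokernel i₁) ∧ FlatMod.IsFinLocFree (cokernel i₂) ∧
        Curv2.deg k X F₁ s₁ = 0 ∧ ModFun.IsSlopeSemistable k X F₁ s₁ ∧
        Curv2.deg k X F₂ s₂ = 0 ∧ ModFun.IsSlopeSemistable k X F₂ s₂ ∧
        Nonempty ((CohB1.tensorMod E₁ E₂) ≅ cokernel i₂)) := by
  haveI := CurvLib.isNoetherian k (X := X)
  obtain ⟨d₁, -, s, G, s₁, F₁, s₂, F₂, i₁, i₂, hG, hPQ, hF₁, hF₂, hi₁, hi₂, -, -, dF₁, -, -, -, ⟨e⟩⟩ := h₁
  obtain ⟨d₂, -, s', G', s₁', F₁', s₂', F₂', i₁', i₂', hG', hPQ', hF₁', hF₂', hi₁', hi₂', -, -, dF₁', -, -, -, ⟨e'⟩⟩ := h₂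
  have hT := FinBundleLib.tens k (X := X)
  have vG := CurveVBLib.isFinLocFree_of_rank hG
  have vG' := CurveVBLib.isFinLocFree_of_rank hG'
  have vF := CurveVBLib.isFinLocFree_of_rank hF₁
  have vF' := CurveVBLib.isFinLocFree_of_rank hF₁'
  have vE := CurveVBLib.isFinLocFree_of_rank hE₁
  have vE' := CurveVBLib.isFinLocFree_of_rank hE₂
  let W := CohB1.tensorMod G G'
  let A := CohB1.tensorMod F₁ F₁'
  let B := CohB1.tensorMod E₁ E₂
  have vW : FlatMod.IsFinLocFree W := hT.vT vG vG'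
  have vA : FlatMod.IsFinLocFree A := hT.vT vF vF'
  have vB : FlatMod.IsFinLocFree B := hT.vT vE vE'
  have hfinW : (FinBundleLib.Occ W).Finite := hT.finite_occ_tensor vG vG'
    ((FinBundleLib.isWeilFinite_iff k vG).1 hPQ) ((FinBundleLib.isWeilFinite_iff k vG').1 hPQ')
  obtain ⟨hW0, hWsub⟩ := FinBundleLib.finite_degree k hdim vW hfinW
  have hA0 : CurveVBLib.dg k A = 0 := by
    rw [FinBundleLib.dg_tensor k hdim vF vF', ← CurveVBLib.deg_eq_dg hF₁, ← CurveVBLib.deg_eq_dg hF₁', dF₁, dF₁']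
    ring
  have hB0 : CurveVBLib.dg k B = 0 := by
    rw [FinBundleLib.dg_tensor k hdim vE vE', ← CurveVBLib.deg_eq_dg hE₁, ← CurveVBLib.deg_eq_dg hE₂, d₁, d₂]
    ring
  obtain ⟨i, hi⟩ := FinBundleLib.mono_tensor k vG vF' i₁ i₁'
  obtain ⟨π, hπ⟩ := FinBundleLib.epi_tensor k vE vF' (cokernel.π i₂ ≫ e.inv) (cokernel.π i₂' ≫ e'.inv)
  haveI : Mono i := hi
  haveI : Epi π := hπ
  have cA := VBResLib.isCoh_of_vb vA
  obtain ⟨hK, hrk, hdg⟩ := CurveVBLib.epi_data (k := k) cA (VBResLib.isCoh_of_vb vB) π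
  have hK0 : CurveVBLib.dg k (kernel π) = 0 := by omega
  obtain ⟨hKr, -, -, -, -⟩ := CurveVBLib.sub_data (k := k) hdim (CurveVBLib.rank_genRank vA) (kernel.ι π) hK
  let ε : B ≅ cokernel (kernel.ι π) :=
    (Abelian.epiIsCokernelOfKernel (KernelFork.ofι (kernel.ι π) (kernel.condition π)) (kernelIsKernel π)).coconePointUniqueUpToIso
      (colimit.isColimit _)
  have hAsub : ∀ (H : X.Modules) (j : H ⟶ A), Mono j → Coh.IsCoh H → CurveVBLib.dg k H ≤ 0 := fun H j hj hH =>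
    hWsub H (j ≫ i) inferInstance hH
  have hKsub : ∀ (H : X.Modules) (j : H ⟶ kernel π), Mono j → Coh.IsCoh H → CurveVBLib.dg k H ≤ 0 := fun H j hj hH =>
    hAsub H (j ≫ kernel.ι π) inferInstance hH
  have hBsub : ∀ (H : X.Modules) (j : H ⟶ B), Mono j → Coh.IsCoh H → CurveVBLib.dg k H ≤ 0 := fun H j hj hH => by
    haveI := hj
    obtain ⟨J, a, ha, hJ, -, hJd⟩ := CurveVBLib.preimage_data (k := k) (CurveVBLib.rank_genRank vA) (kernel.ι π) hK
      (j ≫ ε.hom) hH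
    have := hAsub J a ha hJ
    omega
  have hCi : FlatMod.IsFinLocFree (cokernel i) := by
    have hCc := QCohLib.isCoh_cokernel i cA.1 (VBResLib.isCoh_of_vb vW)
    refine (Groth.Agent.S1688.result X (fun x => CurveVBLib.regular_stalk (k := k) x) hdim.le _ hCc).mp
      (CurveVBLib.torsionFree_of_no_rank_zero hCc fun H j hj hH h0 => ?_)
    obtain ⟨hnn, hz⟩ := CurveVBLib.dg_nonneg_of_rank_zero (k := k) hdim hH h0
    haveI := hj
    obtain ⟨J, a, ha, hJ, -, hJd⟩ := CurveVBLib.preimage_data (k := k) (CurveVBLib.rank_genRank vW) i cA j hH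
    have := hWsub J a ha hJ
    have hJd' : CurveVBLib.dg k J = CurveVBLib.dg k A + CurveVBLib.dg k H := hJd
    exact hz (by linarith)
  have hrank : FlatMod.IsFinLocFreeOfRank (r₁ * r₂) B := by
    have := CurveVBLib.rank_genRank vB
    rwa [FinBundleLib.genRank_tensor, CurveVBLib.genRank_eq hE₁, CurveVBLib.genRank_eq hE₂] at this
  have ss : ∀ (E : X.Modules) (n : ℕ), FlatMod.IsFinLocFreeOfRank n E → CurveVBLib.dg k E = 0 →
      (∀ (H : X.Modules) (j : H ⟶ E), Mono j → Coh.IsCoh H → CurveVBLib.dg k H ≤ 0) →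
      Curv2.deg k X E n = 0 ∧ ModFun.IsSlopeSemistable k X E n := by
    intro E n hn h0 hsub
    refine ⟨by rw [CurveVBLib.deg_eq_dg hn, h0], fun H r' j hj hr' hH => ?_⟩
    rw [CurveVBLib.deg_eq_dg hH, CurveVBLib.deg_eq_dg hn, h0, zero_mul]
    exact mul_nonpos_of_nonpos_of_nonneg (hsub H j hj (CurvLib.isCoh_of_locFree hH)) (Int.natCast_nonneg n)
  obtain ⟨hA1, hA2⟩ := ss A _ (CurveVBLib.rank_genRank vA) hA0 hAsub
  obtain ⟨hK1, hK2⟩ := ss (kernel π) _ hKr hK0 hKsub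
  obtain ⟨hB1, hB2⟩ := ss B _ hrank hB0 hBsub
  exact ⟨hrank, hB1, hB2, _, W, _, A, _, kernel π, i, kernel.ι π, CurveVBLib.rank_genRank vW,
    (FinBundleLib.isWeilFinite_iff k vW).2 hfinW, CurveVBLib.rank_genRank vA, hKr, hi, inferInstance, hCi,
    Groth.Agent.PerfLib.isFinLocFree_of_iso ε vB, hA1, hA2, hK1, hK2, ⟨ε⟩⟩

end Groth.Agent.S19482
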