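import Groth.Statements.S19488
import Mathlib
-- import your own Groth.Agent.* helpers here

set_option autoImplicit false
universe u
open CategoryTheory CategoryTheory.Limits AlgebraicGeometry
open W4c1frobunstiva

namespace Groth.Agent.S19488
set_option linter.all false

/-- Fix a closed immersion of schemes f : S → T, an O_T-module G, an O_S-module E and an epimorphism ψ :
G → f_*E. Then the morphism ψ′ : f^*G → E that corresponds to ψ under the adjunction between
pullback and pushforward (it is the pullback f^*ψ followed by the counit f^*f_*E → E, an isomorphism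
for a closed immersion) is an epimorphism, and the canonical map f^*(ker ψ) → ker(f^*ψ) is an
epimorphism. (The published statement takes G and E locally free, which these two assertions do not
use.) -/
theorem result
    {S T : Scheme.{u}} (f : S ⟶ T) [IsClosedImmersion f] (G : T.Modules) (E : S.Modules)
    (ψ : G ⟶ (Scheme.Modules.pushforward f).obj E) [Epi ψ] :
    Epi (((Scheme.Modules.pullbackPushforwardAdjunction f).homEquiv G E).symm ψ) ∧
      Epi (kernelComparison ψ (Scheme.Modules.pullback f)) := by
  have hfa : (Scheme.Modules.pushforward f).Faithful := by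
    refine ⟨fun {M N} a b h => ?_⟩
    apply Scheme.Modules.hom_ext
    intro V
    obtain ⟨U, hU, hUV⟩ := f.isClosedEmbedding.isInducing.isOpen_iff.1 V.2
    have hV : V = f ⁻¹ᵁ ⟨U, hU⟩ := TopologicalSpace.Opens.ext hUV.symm
    subst hV
    exact congrArg (fun φ => φ.app ⟨U, hU⟩) h
  have hc : Epi ((Scheme.Modules.pullbackPushforwardAdjunction f).counit.app E) := inferInstance
  haveI : PreservesColimitsOfSize.{0, 0} (Scheme.Modules.pullback f) :=
    (Scheme.Modules.pullbackPushforwardAdjunction f).leftAdjoint_preservesColimits
  haveI : (Scheme.Modules.pullback f).PreservesZeroMorphisms :=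
    haveI := (Scheme.Modules.pullbackPushforwardAdjunction f).isLeftAdjoint
    inferInstance
  refine ⟨?_, ?_⟩
  · rw [Adjunction.homEquiv_counit]
    exact epi_comp _ _
  · let sc := ShortComplex.mk (kernel.ι ψ) ψ (kernel.condition ψ)
    have he : sc.Exact := ShortComplex.exact_of_f_is_kernel _ (kernelIsKernel ψ)
    haveI : Epi sc.g := by assumption
    have h2 := he.map_of_epi_of_preservesCokernel (Scheme.Modules.pullback f) (by assumption)
      inferInstance
    exact ((sc.map (Scheme.Modules.pullback f)).exact_iff_epi_kernel_lift).1 h2

end Groth.Agent.S19488
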