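import Groth.Statements.S19489
import Mathlib.Algebra.MvPolynomial.PDeriv
import Mathlib.RingTheory.Localization.Integer
import Mathlib.Algebra.CharP.Lemmas

set_option autoImplicit false
open scoped TensorProduct
open ZeroCyc

namespace Groth.Agent.S19489

section
open TensorProduct
variable (p : ℕ) [Fact p.Prime] (A : Type) [CommRing A] [CharP A p]

theorem pow_add' (S : Type) [CommSemiring S] [Algebra A S] (s t : S) : (s + t) ^ p = s ^ p + t ^ p := by
  obtain ⟨r, hr⟩ := exists_add_pow_prime_eq (Fact.out : p.Prime) s t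
  have h0 : (p : S) = 0 := by rw [← map_natCast (algebraMap A S), CharP.cast_eq_zero A p, map_zero]
  simpa [h0] using hr

/-- `s ⊗ a ↦ s ^ p ⊗ a`. -/
noncomputable def frobMap (S : Type) [CommSemiring S] [Algebra A S] :
    S ⊗[A] FrobAlg.Twist p A →+ S ⊗[A] A :=
  TensorProduct.liftAddHom
    { toFun := fun s =>
        { toFun := fun a => (s ^ p) ⊗ₜ[A] (FrobAlg.toTwist p A).symm a
          map_zero' := by rw [map_zero, TensorProduct.tmul_zero]
          map_add' := fun a b => by rw [map_add, TensorProduct.tmul_add] }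
      map_zero' := AddMonoidHom.ext fun a => by
        change ((0 : S) ^ p) ⊗ₜ[A] (FrobAlg.toTwist p A).symm a = 0
        rw [zero_pow (Fact.out : p.Prime).ne_zero, TensorProduct.zero_tmul]
      map_add' := fun s t => AddMonoidHom.ext fun a => by
        change ((s + t) ^ p) ⊗ₜ[A] (FrobAlg.toTwist p A).symm a = _
        rw [pow_add' p A, TensorProduct.add_tmul]
        rfl }
    fun r s a => by
      change ((r • s) ^ p) ⊗ₜ[A] (FrobAlg.toTwist p A).symm a = (s ^ p) ⊗ₜ[A] (FrobAlg.toTwist p A).symm (r • a)
      rw [smul_pow, TensorProduct.smul_tmul, Algebra.smul_def r a, FrobAlg.algebraMap_twist, map_mul,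
        RingEquiv.symm_apply_apply, smul_eq_mul]

theorem frobMap_tmul (S : Type) [CommSemiring S] [Algebra A S] (s : S) (a : FrobAlg.Twist p A) :
    frobMap p A S (s ⊗ₜ a) = (s ^ p) ⊗ₜ[A] (FrobAlg.toTwist p A).symm a := rfl

/-- The Frobenius law. -/
noncomputable def frobLaw : PolLaw.MulLaw A (FrobAlg.Twist p A) A p where
  law :=
    { toFun' := fun S _ _ => frobMap p A S
      isCompat' := fun {S} _ _ {S'} _ _ φ => by
        funext x
        simp only [Function.comp_apply]
        induction x using TensorProduct.induction_on with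
        | zero => simp
        | add a b ha hb => simp only [map_add, ha, hb]
        | tmul s a => simp [frobMap_tmul] }
  homog S _ _ s x := by
    change frobMap p A S (s • x) = s ^ p • frobMap p A S x
    induction x using TensorProduct.induction_on with
    | zero => simp
    | add a b ha hb => simp only [smul_add, map_add, ha, hb]
    | tmul t a => simp [TensorProduct.smul_tmul', frobMap_tmul, mul_pow]
  mult S _ _ := by
    change frobMap p A S 1 = 1 ∧ ∀ x y, frobMap p A S (x * y) = frobMap p A S x * frobMap p A S y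
    refine ⟨by simp [Algebra.TensorProduct.one_def, frobMap_tmul], fun x y => ?_⟩
    induction x using TensorProduct.induction_on with
    | zero => simp
    | add a b ha hb => simp only [add_mul, map_add, ha, hb]
    | tmul s a =>
      induction y using TensorProduct.induction_on with
      | zero => simp
      | add c d hc hd => simp only [mul_add, map_add, hc, hd]
      | tmul t b => simp [frobMap_tmul, mul_pow]

end

/-- Let p be a prime, k = F_p(t_0, t_1, …) the field of rational functions over F_p in countably many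
variables, and K = k^{1/p} = F_p(t_0^{1/p}, t_1^{1/p}, …), modelled here as a copy of k made into a
k-algebra through the Frobenius b ↦ b ^ p (under a ↦ a ^ p the extension k ⊆ k^{1/p} becomes this
algebra). Then a ↦ a ^ p is a multiplicative polynomial law from K to k over k, homogeneous of
degree p: there is such a law sending s ⊗ a to s ^ p ⊗ a ^ p on every test algebra S, where a ^ p is
read in k. Every such law has zero kernel, so the support of the corresponding family of zero-cycles
of degree p on Spec K over Spec k is all of Spec K; and K is not finite over k. Thus the support of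
a family of zero-cycles need not be finite over the base. -/
theorem result (p : ℕ) [Fact p.Prime] :
    (∃ F : PolLaw.MulLaw (FractionRing (MvPolynomial ℕ (ZMod p))) (FrobAlg.Twist p (FractionRing (MvPolynomial ℕ (ZMod p)))) (FractionRing (MvPolynomial ℕ (ZMod p))) p,
      ∀ (S : Type) [CommSemiring S] [Algebra (FractionRing (MvPolynomial ℕ (ZMod p))) S] (s : S) (a : FrobAlg.Twist p (FractionRing (MvPolynomial ℕ (ZMod p)))),
        F.law.toFun' S (s ⊗ₜ[FractionRing (MvPolynomial ℕ (ZMod p))] a) =
          (s ^ p) ⊗ₜ[FractionRing (MvPolynomial ℕ (ZMod p))] (FrobAlg.toTwist p (FractionRing (MvPolynomial ℕ (ZMod p)))).symm a) ∧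
    (∀ F : PolLaw.MulLaw (FractionRing (MvPolynomial ℕ (ZMod p))) (FrobAlg.Twist p (FractionRing (MvPolynomial ℕ (ZMod p)))) (FractionRing (MvPolynomial ℕ (ZMod p))) p,
      (∀ (S : Type) [CommSemiring S] [Algebra (FractionRing (MvPolynomial ℕ (ZMod p))) S] (s : S) (a : FrobAlg.Twist p (FractionRing (MvPolynomial ℕ (ZMod p)))),
        F.law.toFun' S (s ⊗ₜ[FractionRing (MvPolynomial ℕ (ZMod p))] a) =
          (s ^ p) ⊗ₜ[FractionRing (MvPolynomial ℕ (ZMod p))] (FrobAlg.toTwist p (FractionRing (MvPolynomial ℕ (ZMod p)))).symm a) →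
      PolLaw.ker F.law = ⊥) ∧
    ¬ Module.Finite (FractionRing (MvPolynomial ℕ (ZMod p))) (FrobAlg.Twist p (FractionRing (MvPolynomial ℕ (ZMod p)))) := by
  classical
  have hp : p.Prime := Fact.out
  refine ⟨⟨frobLaw p _, fun S _ _ s a => frobMap_tmul p _ S s a⟩, fun F hF => ?_, fun hfin => ?_⟩
  · refine eq_bot_iff.2 fun b hb => ?_
    have h := hb (FractionRing (MvPolynomial ℕ (ZMod p))) ((0 : FractionRing (MvPolynomial ℕ (ZMod p))) ⊗ₜ 0) 1
    rw [one_mul, TensorProduct.zero_tmul, zero_add, hF, ← TensorProduct.zero_tmul (R := FractionRing (MvPolynomial ℕ (ZMod p)))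
      (FractionRing (MvPolynomial ℕ (ZMod p))) (0 : FrobAlg.Twist p (FractionRing (MvPolynomial ℕ (ZMod p)))), hF] at h
    have h' := congrArg (TensorProduct.lid (FractionRing (MvPolynomial ℕ (ZMod p))) _) h
    rw [TensorProduct.lid_tmul, TensorProduct.lid_tmul, one_pow, one_smul, map_zero, smul_zero] at h'
    rw [Ideal.mem_bot]
    exact (FrobAlg.toTwist p _).symm.injective (h'.trans (map_zero _).symm)
  · obtain ⟨m, v, hv⟩ := Module.Finite.exists_fin (R := FractionRing (MvPolynomial ℕ (ZMod p)))
      (M := FrobAlg.Twist p (FractionRing (MvPolynomial ℕ (ZMod p))))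
    let v' : Fin m → FractionRing (MvPolynomial ℕ (ZMod p)) := fun j => (FrobAlg.toTwist p _).symm (v j)
    obtain ⟨⟨E, hE⟩, hEv⟩ := IsLocalization.exist_integer_multiples_of_finite (nonZeroDivisors (MvPolynomial ℕ (ZMod p))) v'
    choose e he using hEv
    obtain ⟨N, hN⟩ := Finset.exists_notMem (E.vars ∪ Finset.univ.biUnion fun j => (e j).vars)
    have hmem : FrobAlg.toTwist p _ (algebraMap (MvPolynomial ℕ (ZMod p)) (FractionRing (MvPolynomial ℕ (ZMod p))) (MvPolynomial.X N)) ∈
        Submodule.span (FractionRing (MvPolynomial ℕ (ZMod p))) (Set.range v) := hv ▸ Submodule.mem_top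
    obtain ⟨c, hc⟩ := (Submodule.mem_span_range_iff_exists_fun _).1 hmem
    obtain ⟨⟨D, hD⟩, hDc⟩ := IsLocalization.exist_integer_multiples_of_finite (nonZeroDivisors (MvPolynomial ℕ (ZMod p))) c
    choose C hC using hDc
    have key : D ^ p * E * MvPolynomial.X N = ∑ j, C j ^ p * e j := by
      apply IsFractionRing.injective (MvPolynomial ℕ (ZMod p)) (FractionRing (MvPolynomial ℕ (ZMod p)))
      have hc' := congrArg (FrobAlg.toTwist p (FractionRing (MvPolynomial ℕ (ZMod p)))).symm hc
      simp only [map_sum, Algebra.smul_def, FrobAlg.algebraMap_twist, map_mul, RingEquiv.symm_apply_apply] at hc'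
      simp only [map_sum, map_mul, map_pow, ← hc', Finset.mul_sum]
      refine Finset.sum_congr rfl fun j _ => ?_
      rw [hC j, he j, Algebra.smul_def, Algebra.smul_def, mul_pow]
      ring
    have hd0 : ∀ P : MvPolynomial ℕ (ZMod p), MvPolynomial.pderiv N (P ^ p) = 0 := fun P => by
      rw [MvPolynomial.pderiv_pow, CharP.cast_eq_zero (MvPolynomial ℕ (ZMod p)) p, zero_mul, zero_mul]
    have hE0 : MvPolynomial.pderiv N E = 0 :=
      MvPolynomial.pderiv_eq_zero_of_notMem_vars fun h => hN (Finset.mem_union_left _ h)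
    have he0 : ∀ j, MvPolynomial.pderiv N (e j) = 0 := fun j =>
      MvPolynomial.pderiv_eq_zero_of_notMem_vars fun h =>
        hN (Finset.mem_union_right _ (Finset.mem_biUnion.2 ⟨j, Finset.mem_univ j, h⟩))
    have h0 := congrArg (MvPolynomial.pderiv N) key
    simp only [map_sum, MvPolynomial.pderiv_mul, hd0, hE0, he0, MvPolynomial.pderiv_X_self, mul_zero, zero_mul,
      mul_one, add_zero, zero_add, Finset.sum_const_zero] at h0
    exact mul_ne_zero (pow_ne_zero _ (nonZeroDivisors.ne_zero hD)) (nonZeroDivisors.ne_zero hE) h0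

end Groth.Agent.S19489
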