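import Groth.Statements.S19493
import Groth.Agent.SdAssLib.Main

set_option backward.isDefEq.respectTransparency false
set_option backward.isDefEq.respectTransparency.types false
-- import your own Groth.Agent.* helpers here

set_option autoImplicit false
universe u
open CategoryTheory AlgebraicGeometry
open EtHull

namespace Groth.Agent.S19493

/-- Let f : S' → S be a morphism of locally Noetherian schemes which is integral, radicial (universally
injective) and surjective, and which matches embedded points: a point s' of S' is an embedded
associated point of O_{S'} (an associated point that is a proper specialization of another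
associated point) if and only if f(s') is an embedded associated point of O_S. Let a : X → S be
faithfully flat, g : E → S étale and u : X → E a morphism with u ≫ g = a, so that X → E → S is a
factorization of a through an étale S-scheme. Let E' → S' be the base change of g along f, with
projection φ : E' → E, and u' : X' → E' the base change of u along φ (so X' = X ×_S S'). Then u is
scheme-theoretically dominant if and only if u' is. (The source allows algebraic spaces; schemes
here.) -/
theorem result {X E S S' E' X' : Scheme.{u}}
    [IsLocallyNoetherian S] [IsLocallyNoetherian S'] (f : S' ⟶ S) [IsIntegralHom f]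
    [UniversallyInjective f] [Surjective f]
    (hemb : ∀ s' : S', (s' ∈ AssSch.Ass (Coh.structureModule S') ∧ ∃ t ∈ AssSch.Ass (Coh.structureModule S'), t ⤳ s' ∧ t ≠ s') ↔
      (f.base s' ∈ AssSch.Ass (Coh.structureModule S) ∧ ∃ t ∈ AssSch.Ass (Coh.structureModule S), t ⤳ f.base s' ∧ t ≠ f.base s'))
    (a : X ⟶ S) [Flat a] [Surjective a] (g : E ⟶ S) [Etale g] (u : X ⟶ E) (hu : u ≫ g = a)
    (g' : E' ⟶ S') (φ : E' ⟶ E) (hE : IsPullback φ g' g f)
    (u' : X' ⟶ E') (ψ : X' ⟶ X) (hX : IsPullback ψ u' u φ) :
    IsSchemeTheoreticallyDominant u ↔ IsSchemeTheoreticallyDominant u' := by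
  subst hu
  haveI : Etale g' := MorphismProperty.of_isPullback hE inferInstance
  haveI : IsLocallyNoetherian E := LocallyOfFiniteType.isLocallyNoetherian g
  haveI : IsLocallyNoetherian E' := LocallyOfFiniteType.isLocallyNoetherian g'
  haveI : Flat u := SdAssLib.flat_of_etale_comp u g
  haveI : Flat u' := MorphismProperty.of_isPullback hX inferInstance
  haveI : Surjective φ := MorphismProperty.of_isPullback hE.flip inferInstance
  have hrange : Set.range u' = φ ⁻¹' Set.range u := by
    rw [← hX.isoPullback_hom_snd, ← Scheme.Pullback.range_snd u φ, Scheme.Hom.comp_base, TopCat.coe_comp,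
      Set.range_comp, Function.Surjective.range_eq, Set.image_univ]
    exact hX.isoPullback.hom.surjective
  have hf : Topology.IsClosedEmbedding f :=
    .of_continuous_injective_isClosedMap f.continuous f.injective f.isClosedMap
  have hass : ∀ s' : S', s' ∈ AssSch.Ass (Coh.structureModule S') ↔ f s' ∈ AssSch.Ass (Coh.structureModule S) := by
    intro s'
    refine (SdAssLib.ass_iff_min_or_emb s').trans (Iff.trans ?_ (SdAssLib.ass_iff_min_or_emb (f s')).symm)
    refine or_congr ?_ (hemb s')
    constructor
    · intro h t ht
      obtain ⟨t', rfl⟩ := f.surjective t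
      rw [h t' (hf.isInducing.specializes_iff.1 ht)]
    · intro h t ht
      exact f.injective (h _ (ht.map f.continuous))
  have hcomm : ∀ e' : E', g (φ e') = f (g' e') := fun e' => by
    rw [← Scheme.Hom.comp_apply, hE.w, Scheme.Hom.comp_apply]
  rw [SdAssLib.dom_iff, SdAssLib.dom_iff]
  constructor
  · intro h e' he'
    rw [hrange]
    exact h _ ((SdAssLib.ass_etale g _).2 (by rw [hcomm, ← hass]; exact (SdAssLib.ass_etale g' _).1 he'))
  · intro h e he
    obtain ⟨e', rfl⟩ := φ.surjective e
    have := h e' ((SdAssLib.ass_etale g' _).2 (by rw [hass, ← hcomm]; exact (SdAssLib.ass_etale g _).1 he))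
    rwa [hrange] at this

end Groth.Agent.S19493
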