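import Groth.Statements.S19494
import Groth.Agent.EtHullLib.Hull

set_option autoImplicit false
set_option linter.style.haveILetI false
set_option backward.isDefEq.respectTransparency false
set_option backward.isDefEq.respectTransparency.types false

set_option autoImplicit false
open CategoryTheory AlgebraicGeometry
universe u
open EtHull

namespace Groth.Agent.S19494

/-- Let S be a Noetherian scheme all of whose local rings are geometrically unibranch and whose
structure sheaf has no embedded associated points, and let f : X → S be flat, surjective and of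
finite presentation. Call an admissible factorization a factorization X → E → S of f with E → S
étale and affine and X → E scheme-theoretically dominant. Then any two admissible factorizations X →
E₁ → S and X → E₂ → S have an infimum: an admissible factorization X → E → S together with
compatible S-morphisms E₁ → E and E₂ → E, such that every admissible factorization X → E' → S
receiving compatible S-morphisms E₁ → E' and E₂ → E' admits a compatible morphism E → E'. (The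
source allows X to be an algebraic space; X is a scheme here.) -/
theorem result {X S : Scheme.{u}} [IsNoetherian S]
    (hS : ∀ s : S, CAlg2.IsGeomUnibranch (S.presheaf.stalk s))
    (hemb : AssSch.NoEmbedded (Coh.structureModule S))
    (f : X ⟶ S) [Flat f] [Surjective f] [LocallyOfFinitePresentation f] [QuasiCompact f]
    [QuasiSeparated f]
    (E₁ E₂ : Scheme.{u}) (g₁ : E₁ ⟶ S) (g₂ : E₂ ⟶ S) (u₁ : X ⟶ E₁) (u₂ : X ⟶ E₂)
    [Etale g₁] [Etale g₂] [IsAffineHom g₁] [IsAffineHom g₂]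
    [IsSchemeTheoreticallyDominant u₁] [IsSchemeTheoreticallyDominant u₂]
    (h₁ : u₁ ≫ g₁ = f) (h₂ : u₂ ≫ g₂ = f) :
    ∃ (E : Scheme.{u}) (g : E ⟶ S) (u : X ⟶ E) (v₁ : E₁ ⟶ E) (v₂ : E₂ ⟶ E),
      Etale g ∧ IsAffineHom g ∧ IsSchemeTheoreticallyDominant u ∧ u ≫ g = f ∧
      u₁ ≫ v₁ = u ∧ u₂ ≫ v₂ = u ∧ v₁ ≫ g = g₁ ∧ v₂ ≫ g = g₂ ∧
      ∀ (E' : Scheme.{u}) (g' : E' ⟶ S) (u' : X ⟶ E') (w₁ : E₁ ⟶ E') (w₂ : E₂ ⟶ E'),
        Etale g' → IsAffineHom g' → IsSchemeTheoreticallyDominant u' → u' ≫ g' = f →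
        u₁ ≫ w₁ = u' → u₂ ≫ w₂ = u' → w₁ ≫ g' = g₁ → w₂ ≫ g' = g₂ →
        ∃ w : E ⟶ E', u ≫ w = u' ∧ v₁ ≫ w = w₁ ∧ v₂ ≫ w = w₂ := by
  obtain ⟨⟨E, g, u, hg, hga, hu, huf⟩, ⟨v₁, e₁, e₁'⟩, ⟨v₂, e₂, e₂'⟩, hG⟩ :=
    EtHullLib.exists_inf (f := f) hS hemb ⟨E₁, g₁, u₁, inferInstance, inferInstance, inferInstance, h₁⟩
      ⟨E₂, g₂, u₂, inferInstance, inferInstance, inferInstance, h₂⟩
  refine ⟨E, g, u, v₁, v₂, hg, hga, hu, huf, e₁, e₂, e₁', e₂', fun E' g' u' w₁ w₂ hg' hga' hu' hu'f h₁u h₂u h₁g h₂g => ?_⟩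
  obtain ⟨w, hw, hw'⟩ := hG ⟨E', g', u', hg', hga', hu', hu'f⟩ ⟨w₁, h₁u, h₁g⟩ ⟨w₂, h₂u, h₂g⟩
  dsimp only at w hw hw' e₁ e₁' e₂ e₂'
  refine ⟨w, hw, ?_, ?_⟩
  · refine MiscFlat6.ext_of_isSchemeTheoreticallyDominant u₁ g' _ _ ?_ ?_
    · rw [Category.assoc, hw', e₁', h₁g]
    · rw [reassoc_of% e₁, hw, h₁u]
  · refine MiscFlat6.ext_of_isSchemeTheoreticallyDominant u₂ g' _ _ ?_ ?_
    · rw [Category.assoc, hw', e₂', h₂g]
    · rw [reassoc_of% e₂, hw, h₂u]

end Groth.Agent.S19494
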