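import Groth.Statements.S19499
import Groth.Agent.BlowBCLib.Base
import Groth.Agent.CycP1Lib.Coords
import Groth.Agent.RTrivLib.P1
import Groth.Agent.S1661
import Groth.Agent.S1676
-- import your own Groth.Agent.* helpers here

set_option autoImplicit false
set_option maxHeartbeats 2000000
set_option backward.isDefEq.respectTransparency false
universe u
open CategoryTheory CategoryTheory.Limits AlgebraicGeometry
open IntTh

namespace Groth.Agent.S19499

/-- Formation of M commutes with base change: let f : X ⟶ S be locally projective, flat, surjective and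
locally of finite presentation, with every fibre of local dimension n at each of its points, and let
i : Y ⟶ X be a closed immersion that is regular of constant codimension c ≤ n (locally cut out by a
regular sequence of length c) such that Y ⟶ S is again locally projective, flat, surjective and
locally of finite presentation with fibres of local dimension n − c everywhere. Let b : M ⟶ P¹_X be
a blowing-up of P¹_X in the closed subscheme Y × {∞} (the image of Y under the section at infinity),
given through its universal property. Let S' ⟶ S be any morphism, X' = X ×_S S' and Y' = Y ×_S S'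
the base changes with the induced closed immersion i' : Y' ⟶ X', and M' = M ×_{P¹_X} P¹_{X'} with
projection b' : M' ⟶ P¹_{X'} (so M' = M ×_S S'). Then b' is a blowing-up of P¹_{X'} in Y' × {∞}: the
formation of the deformation to the normal cone commutes with arbitrary base change on S. -/
theorem result
    {S S' X X' Y Y' M M' : Scheme.{u}} (f : X ⟶ S) (n c : ℕ) (hc : c ≤ n)
    (hfproj : RedSub.IsLocallyProjective (Over.mk f))
    [Flat f] [Surjective f] [LocallyOfFinitePresentation f]
    (hfdim : ∀ x : ↥X, FlatMor.fibreDimAt f x = n)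
    (i : Y ⟶ X) [IsClosedImmersion i]
    (hi : RegImm.IsRegularImmersionOfCodim RegImm.Kind.regular c i)
    (hgproj : RedSub.IsLocallyProjective (Over.mk (i ≫ f)))
    [Flat (i ≫ f)] [Surjective (i ≫ f)] [LocallyOfFinitePresentation (i ≫ f)]
    (hgdim : ∀ y : ↥Y, FlatMor.fibreDimAt (i ≫ f) y = ((n - c : ℕ) : WithBot ℕ∞))
    (b : M ⟶ CohB1.ProjSpaceOver 1 X)
    (hb : BlowUp.IsBlowUp b (i ≫ P1.sect X 1).ker)
    (h : S' ⟶ S) (f' : X' ⟶ S') (g : X' ⟶ X) (hX : IsPullback g f' f h)
    (i' : Y' ⟶ X') (gY : Y' ⟶ Y) (hY : IsPullback gY i' i g)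
    (b' : M' ⟶ CohB1.ProjSpaceOver 1 X') (μ : M' ⟶ M) (hM : IsPullback μ b' b (P1.toP1 g)) :
    BlowUp.IsBlowUp b' (i' ≫ P1.sect X' 1).ker := by
  let s₀ := P1.sect X 1
  haveI : IsClosedImmersion s₀ := inferInstance
  haveI hcl : IsClosedImmersion (i ≫ s₀) := inferInstance
  have hi' : Mor2.IsRegularClosedImmersion i := by
    refine ⟨‹_›, fun z => ?_⟩
    obtain ⟨U, hzU, -, rs, -, hrs, hker⟩ := hi.2 z
    exact ⟨U.1, U.2, hzU, rs, hrs, (Scheme.Hom.ker_apply i U).trans hker⟩
  haveI : Smooth (CohB1.ProjSpaceOver.toBase 1 X) := RTrivLib.smooth_toBase 1 X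
  have hsect : s₀ ≫ CohB1.ProjSpaceOver.toBase 1 X = 𝟙 X := pullback.lift_snd _ _ _
  have hreg : Mor2.IsRegularClosedImmersion (i ≫ s₀) :=
    Groth.Agent.S1661.result i s₀ hi'
      (Groth.Agent.S1676.result (CohB1.ProjSpaceOver.toBase 1 X) s₀ hsect)
  have hle : (i ≫ s₀).ker ≤ ((BlowUp.exceptional b (i ≫ s₀).ker).subschemeι ≫ b).ker := by
    rw [Scheme.Hom.ker_comp ((BlowUp.exceptional b (i ≫ s₀).ker).subschemeι) b,
      Scheme.IdealSheafData.ker_subschemeι, Scheme.IdealSheafData.le_map_iff_comap_le]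
  let ψ := IsClosedImmersion.lift (i ≫ s₀) ((BlowUp.exceptional b (i ≫ s₀).ker).subschemeι ≫ b) hle
  have hψ : ψ ≫ i ≫ s₀ = (BlowUp.exceptional b (i ≫ s₀).ker).subschemeι ≫ b :=
    IsClosedImmersion.lift_fac _ _ _
  haveI : Smooth ψ := BlowUpLib.smooth_exceptional (i ≫ s₀) hreg b hb ψ hψ
  let g₀ := CohB1.ProjSpaceOver.toBase 1 X ≫ f
  haveI : Flat ((BlowUp.exceptional b (i ≫ s₀).ker).subschemeι ≫ b ≫ g₀) := by
    rw [← Category.assoc, ← hψ]
    simp only [g₀, Category.assoc, reassoc_of% hsect]
    infer_instance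
  have hsq : IsPullback (P1.toP1 g) (CohB1.ProjSpaceOver.toBase 1 X') (CohB1.ProjSpaceOver.toBase 1 X) g := by
    refine IsPullback.of_right ?_ (pullback.lift_snd _ _ _)
      (IsPullback.of_hasPullback (CohB1.ProjSpace.toSpec 1 (ULift.{u} ℤ)) (specULiftZIsTerminal.from X))
    have h1 : P1.toP1 g ≫ pullback.fst (CohB1.ProjSpace.toSpec 1 (ULift.{u} ℤ)) (specULiftZIsTerminal.from X) =
        pullback.fst (CohB1.ProjSpace.toSpec 1 (ULift.{u} ℤ)) (specULiftZIsTerminal.from X') := by
      rw [P1.toP1, pullback.lift_fst, Category.comp_id]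
    rw [h1, specULiftZIsTerminal.hom_ext (g ≫ specULiftZIsTerminal.from X) (specULiftZIsTerminal.from X')]
    exact IsPullback.of_hasPullback _ _
  have hX' : IsPullback (P1.toP1 g) (CohB1.ProjSpaceOver.toBase 1 X' ≫ f') g₀ h := hsq.paste_vert hX
  have hcomap : (i ≫ s₀).ker.comap (P1.toP1 g) = (i' ≫ P1.sect X' 1).ker := by
    have hs : IsPullback g (P1.sect X' 1) s₀ (P1.toP1 g) := by
      refine IsPullback.of_bot ?_ ?_ hsq
      · rw [hsect, show P1.sect X' 1 ≫ CohB1.ProjSpaceOver.toBase 1 X' = 𝟙 X' from pullback.lift_snd _ _ _]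
        exact IsPullback.of_vert_isIso ⟨by simp⟩
      · apply pullback.hom_ext
        · simp only [s₀, P1.sect, P1.toP1, Category.assoc, pullback.lift_fst, pullback.lift_fst_assoc, Category.comp_id]
          rw [← Category.assoc, specULiftZIsTerminal.hom_ext (g ≫ specULiftZIsTerminal.from X) (specULiftZIsTerminal.from X')]
        · simp [s₀, P1.sect, P1.toP1]
          exact (Category.id_comp g).symm
    have hall := (hY.paste_vert hs).flip
    rw [← Scheme.IdealSheafData.ker_fst_of_isClosedImmersion, ← hall.isoPullback_hom_fst,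
      Scheme.Hom.ker_comp_of_isIso]
  exact hcomap ▸ Groth.Agent.BlowBCLib.isBlowUp_baseChange g₀ _ b hb hX' hM

end Groth.Agent.S19499
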