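import Groth.Statements.S1950
import Groth.Agent.CycProjLib.Main

set_option autoImplicit false
set_option backward.isDefEq.respectTransparency false
set_option backward.isDefEq.respectTransparency.types false
universe u
open CategoryTheory CategoryTheory.Limits AlgebraicGeometry
attribute [local instance] HasDerivedCategory.standard
open IntMult

namespace Groth.Agent.S1950

/-- Let f : X → Y be proper and flat, where X and Y are nonsingular varieties over K of dimensions n and
m, e = n − m, α an r-cycle on X and β an s-cycle on Y such that α and f^*β intersect properly. The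
pushforward f_*α then meets β properly, and on Y the cycle f_*α · β equals f_*(α · f^*β) (flat
pullback and products taken coefficientwise; f_* is Mathlib's pushforward, applied to any cycle with
the coefficients of α · f^*β). Here X is a nonsingular variety over the algebraically closed field K
(smooth, separated, quasi-compact, integral) with dimension function δ (transcendence degree) and n
= dim X; cycles are Mathlib AlgebraicCycles with Cyc.Zk membership, proper intersection is
IntMult.IntersectProperly and α · β is the Tor-formula intersection product on coefficient functions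
(IntMult.interProd), bundled where needed as 'any cycle with these coefficients'. -/
theorem result (K : Type u) [Field K] [IsAlgClosed K] (X Y : Scheme.{u}) (f : X ⟶ Y) (gX : X ⟶ Spec (CommRingCat.of K)) (gY : Y ⟶ Spec (CommRingCat.of K)) (hf : f ≫ gY = gX) [Smooth gX] [IsSeparated gX] [QuasiCompact gX] [IsIntegral X] [Smooth gY] [IsSeparated gY] [QuasiCompact gY] [IsIntegral Y] [Flat f] [IsProper f] (δX : X → ℤ) (δY : Y → ℤ) (hX : Cyc.IsSetup X δX) (hY : Cyc.IsSetup Y δY) (hδX : Cyc.DeltaCompat gX δX (fun _ => 0)) (hδY : Cyc.DeltaCompat gY δY (fun _ => 0)) (hδ : Cyc.DeltaCompat f δX δY) (n m : ℤ) (hn : δX (genericPoint X) = n) (hm : δY (genericPoint Y) = m) (e : ℕ) (he : (e : ℤ) = n - m) (hrel : Cyc.HasRelDim f e) (r s : ℤ) (α : AlgebraicCycle X ℤ) (β : AlgebraicCycle Y ℤ) (hα : α ∈ Cyc.Zk X δX r) (hβ : β ∈ Cyc.Zk Y δY s) (hprop : IntMult.IntersectProperly δX n ⇑α (Cyc.pullFun f δX δY e ⇑β)) (γ : AlgebraicCycle X ℤ) (hγ : ⇑γ = IntMult.interProd δX n ⇑α (Cyc.pullFun f δX δY e ⇑β)) : IntMult.IntersectProperly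 δY m ⇑(AlgebraicCycle.map f δX δY α) ⇑β ∧ IntMult.interProd δY m ⇑(AlgebraicCycle.map f δX δY α) ⇑β = ⇑(AlgebraicCycle.map f δX δY γ) := by
  classical
  haveI := hX.1
  haveI := hY.1
  haveI : CompactSpace X := QuasiCompact.compactSpace_of_compactSpace gX
  haveI : CompactSpace Y := QuasiCompact.compactSpace_of_compactSpace gY
  let k := r + s - m
  have hdα : ∀ ξ, α ξ ≠ 0 → δX ξ = r := fun ξ h => not_not.1 fun h' => h (hα ξ h')
  have hdβ : ∀ w, β w ≠ 0 → δY w = s := fun w h => not_not.1 fun h' => h (hβ w h')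
  have hge : ∀ x : X, δY (f x) ≤ δX x := fun x => by
    obtain ⟨a, -, ha⟩ := hδ x
    omega
  have hpull : ∀ (b : Y → ℤ) u, Cyc.pullFun f δX δY e b u ≠ 0 → b (f u) ≠ 0 ∧ δX u = δY (f u) + e := by
    intro b u h
    simp only [Cyc.pullFun] at h
    split_ifs at h with h'
    · exact ⟨left_ne_zero_of_mul h, h'⟩
    · exact absurd rfl h
  -- the points of the inverse image of a point of the support
  have hbound : ∀ ξ w, α ξ ≠ 0 → β w ≠ 0 → ∀ x, ξ ⤳ x → w ⤳ f x → δX x ≤ k := by
    intro ξ w hξ hw x hx hwx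
    obtain ⟨u, hux, hu⟩ := Flat.generalizingMap f hwx
    obtain ⟨z, hzu, hfz, hz⟩ := CycLimLib.exists_gen f u
    have hd := CycLimLib.delta_eq_of_gen f hδ hrel hz
    have hne : Cyc.pullFun f δX δY e ⇑β z ≠ 0 := by
      simp only [Cyc.pullFun]
      rw [if_pos hd]
      refine mul_ne_zero (by rw [hfz, hu]; exact hw) (Nat.cast_ne_zero.2 ?_)
      rw [Ne, ENat.toNat_eq_zero]
      exact not_or.2 ⟨CycLimLib.length_ne_zero f z, CycLimLib.length_ne_top f hz⟩
    have h := hprop ξ z x hξ hne hx (hzu.trans hux)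
    have h1 := hdα ξ hξ
    have h2 := hdβ w hw
    rw [hfz, hu] at hd
    omega
  have hmapne : ∀ v, AlgebraicCycle.map f δX δY α v ≠ 0 → ∃ ξ, α ξ ≠ 0 ∧ f ξ = v ∧ δX ξ = δY v := by
    intro v hv
    by_contra hcon
    push Not at hcon
    refine hv (finsum_mem_eq_zero_of_forall_eq_zero fun ξ hξ => ?_)
    by_cases h0 : α ξ = 0
    · rw [h0, zero_mul]
    · show α ξ * ((if δX ξ = δY (f ξ) then f.residueDegree ξ else 0 : ℕ) : ℤ) = 0
      rw [if_neg fun hd => hcon ξ h0 hξ (hd.trans (congrArg δY hξ)), Nat.cast_zero, mul_zero]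
  refine ⟨fun v w ζ hv hw hvζ hwζ => ?_, funext fun ζ => ?_⟩
  · obtain ⟨ξ, hξ, rfl, hd⟩ := hmapne v hv
    obtain ⟨x, hx, rfl⟩ := f.isClosedMap.specializingMap hvζ
    have h1 := hbound ξ w hξ hw x hx hwζ
    have h2 := hge x
    have h3 := hdα ξ hξ
    have h4 := hdβ w hw
    omega
  exact CycProjLib.map_interProd_pullFun gX gY f δX δY hX hY hδX hδY hδ n m hn hm e he hrel r s k rfl α β hdα hdβ
    hbound γ hγ ζ

end Groth.Agent.S1950
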