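import Groth.Statements.S19502
import Mathlib.Topology.Algebra.InfiniteSum.Order
import Mathlib.Analysis.Normed.Group.InfiniteSum
import Mathlib.Topology.Instances.Real.Lemmas
import Mathlib.Tactic.FieldSimp
import Mathlib.Analysis.Normed.Field.Basic
import Mathlib.Analysis.SpecialFunctions.Pow.Real

set_option autoImplicit false
universe u
open W4c3ghconstell

namespace Groth.Agent.S19502

/-- Let ι index the irreducible representations, θ : ι → ℚ a weight which is negative exactly on the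
finite set D₋, h h' : ι → ℕ with h' ≤ h pointwise (the isotypic dimensions of an object and of a
sub-object) and Σ_i θ_i h_i summable. For a finite set D of indices put S_D = Σ_{i ∉ D} θ_i h_i, d =
#(D ∖ D₋) and θ̃_D = Σ_{i ∈ D} θ_i h'_i + (S_D / d) · Σ_{i ∈ D ∖ D₋} h'_i / h_i, the modified weight
attached to the parameters chosen for D (a quotient by zero is read as zero). Then for finite sets
D₋ ⊆ D ⊆ D̃ contained in the locus θ ≠ 0: (first error term) θ̃_{D̃} − θ̃_D = Σ_{τ ∈ D̃ ∖ D} (θ_τ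
h_τ + S_{D̃}/d̃) · (h'_τ/h_τ − (1/d) Σ_{σ ∈ D ∖ D₋} h'_σ/h_σ); (second error term) Σ_i θ_i h'_i −
θ̃_D = Σ_{τ ∉ D} θ_τ h_τ · (h'_τ/h_τ − (1/d) Σ_{σ ∈ D ∖ D₋} h'_σ/h_σ). -/
theorem result {ι : Type u} [DecidableEq ι]
    (θ : ι → ℚ) (h h' : ι → ℕ) (hle : ∀ i, h' i ≤ h i) (hfin : {i | θ i < 0}.Finite)
    (hsum : Summable (fun i => (θ i : ℝ) * (h i : ℝ))) (D D' : Finset ι)
    (hDm : hfin.toFinset ⊆ D) (hDD' : D ⊆ D') (hsupp : ∀ i ∈ D', θ i ≠ 0) :
    (((∑ i ∈ D', (θ i : ℝ) * (h' i : ℝ)) + ((∑' i, if i ∈ D' then (0 : ℝ) else (θ i : ℝ) * (h i : ℝ)) / ((D' \ hfin.toFinset).card : ℝ)) * (∑ σ ∈ D' \ hfin.toFinset, ((h' σ : ℝ) / (h σ : ℝ)))) - ((∑ i ∈ D, (θ i : ℝ) * (h' i : ℝ)) + ((∑' i, if i ∈ D then (0 : ℝ) else (θ i : ℝ) * (h i : ℝ)) / ((D \ hfin.toFinset).card : ℝ)) * (∑ σ ∈ D \ hfin.toFinset, ((h' σ : ℝ) / (h σ : ℝ)))) =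
      ∑ τ ∈ D' \ D, ((θ τ : ℝ) * (h τ : ℝ) + (∑' i, if i ∈ D' then (0 : ℝ) else (θ i : ℝ) * (h i : ℝ)) / ((D' \ hfin.toFinset).card : ℝ)) *
        (((h' τ : ℝ) / (h τ : ℝ)) - (1 / ((D \ hfin.toFinset).card : ℝ)) * (∑ σ ∈ D \ hfin.toFinset, ((h' σ : ℝ) / (h σ : ℝ))))) ∧
    ((∑' i, (θ i : ℝ) * (h' i : ℝ)) - ((∑ i ∈ D, (θ i : ℝ) * (h' i : ℝ)) + ((∑' i, if i ∈ D then (0 : ℝ) else (θ i : ℝ) * (h i : ℝ)) / ((D \ hfin.toFinset).card : ℝ)) * (∑ σ ∈ D \ hfin.toFinset, ((h' σ : ℝ) / (h σ : ℝ)))) =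
      ∑' τ, if τ ∈ D then (0 : ℝ) else (θ τ : ℝ) * (h τ : ℝ) *
        (((h' τ : ℝ) / (h τ : ℝ)) - (1 / ((D \ hfin.toFinset).card : ℝ)) * (∑ σ ∈ D \ hfin.toFinset, ((h' σ : ℝ) / (h σ : ℝ))))) := by
  classical
  let a : ι → ℝ := fun i => (θ i : ℝ) * (h i : ℝ)
  let r : ι → ℝ := fun i => (h' i : ℝ) / (h i : ℝ)
  have hb : ∀ i, (θ i : ℝ) * (h' i : ℝ) = a i * r i := by
    intro i
    show _ = (θ i : ℝ) * (h i : ℝ) * ((h' i : ℝ) / (h i : ℝ))
    by_cases h0 : h i = 0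
    · have := hle i
      have h0' : h' i = 0 := by omega
      simp [h0, h0']
    · field_simp
  have hsum' : Summable (fun i => a i * r i) := by
    refine Summable.of_norm_bounded (summable_abs_iff.2 hsum) fun i => ?_
    rw [norm_mul]
    refine mul_le_of_le_one_right (norm_nonneg _) ?_
    rw [Real.norm_eq_abs, abs_of_nonneg (by positivity)]
    by_cases h0 : h i = 0
    · simp [r, h0]
    · exact (div_le_one (by positivity)).2 (by exact_mod_cast hle i)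
  have hcompl : ∀ (E : Finset ι) (f : ι → ℝ), Summable f →
      Summable (fun i => if i ∈ E then (0:ℝ) else f i) ∧ ∑' i, f i = (∑ i ∈ E, f i) + ∑' i, if i ∈ E then (0:ℝ) else f i := by
    intro E f hf
    have h1 : Summable (fun i => if i ∈ E then f i else 0) :=
      summable_of_ne_finset_zero (s := E) fun i hi => if_neg hi
    have h2 : (fun i => if i ∈ E then (0:ℝ) else f i) = fun i => f i - if i ∈ E then f i else 0 := by
      funext i; split_ifs <;> simp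
    refine ⟨h2 ▸ hf.sub h1, ?_⟩
    rw [h2, hf.tsum_sub h1, tsum_eq_sum (s := E) (f := fun i => if i ∈ E then f i else 0) fun i hi => if_neg hi,
      Finset.sum_congr rfl (g := f) fun i hi => if_pos hi]
    ring
  let Dm := hfin.toFinset
  let m : ℝ := ((D' \ D).card : ℝ)
  have hd' : (D' \ Dm) = (D \ Dm) ∪ (D' \ D) := by
    ext i
    have hi1 := @hDm i
    have hi2 := @hDD' i
    simp only [Finset.mem_sdiff, Finset.mem_union]
    tauto
  have hdis : Disjoint (D \ Dm) (D' \ D) :=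
    Finset.disjoint_left.2 fun i hi hi' => (Finset.mem_sdiff.1 hi').2 (Finset.mem_sdiff.1 hi).1
  obtain ⟨hsD, eD⟩ := hcompl D a hsum
  obtain ⟨-, eD'⟩ := hcompl D' a hsum
  obtain ⟨hsbD, ebD⟩ := hcompl D _ hsum'
  have eA : ∑ i ∈ D', a i = (∑ i ∈ D' \ D, a i) + ∑ i ∈ D, a i := (Finset.sum_sdiff hDD').symm
  refine ⟨?_, ?_⟩
  · have hS : (∑' i, if i ∈ D then (0:ℝ) else a i) = (∑ i ∈ D' \ D, a i) + ∑' i, if i ∈ D' then (0:ℝ) else a i := by
      linarith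
    simp only [hb]
    show ((∑ i ∈ D', a i * r i) + (∑' i, if i ∈ D' then (0:ℝ) else a i) / ((D' \ Dm).card : ℝ) * ∑ σ ∈ D' \ Dm, r σ) -
      ((∑ i ∈ D, a i * r i) + (∑' i, if i ∈ D then (0:ℝ) else a i) / ((D \ Dm).card : ℝ) * ∑ σ ∈ D \ Dm, r σ) =
      ∑ τ ∈ D' \ D, (a τ + (∑' i, if i ∈ D' then (0:ℝ) else a i) / ((D' \ Dm).card : ℝ)) *
        (r τ - 1 / ((D \ Dm).card : ℝ) * ∑ σ ∈ D \ Dm, r σ)
    generalize hS' : (∑' i, if i ∈ D' then (0:ℝ) else a i) = S' at hS ⊢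
    rw [hS, ← Finset.sum_sdiff hDD' (f := fun i => a i * r i), hd', Finset.sum_union hdis, Finset.card_union_of_disjoint hdis, Nat.cast_add]
    simp only [add_mul, mul_sub, Finset.sum_add_distrib, Finset.sum_sub_distrib, ← Finset.sum_mul, ← Finset.mul_sum,
      Finset.sum_const, nsmul_eq_mul]
    show _ = _
    by_cases hd0 : (D \ Dm).card = 0
    · rw [Finset.card_eq_zero.1 hd0]
      simp
      ring
    · have p1 : (0:ℝ) < ((D \ Dm).card : ℝ) := by exact_mod_cast Nat.pos_of_ne_zero hd0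
      have p2 : (0:ℝ) < ((D \ Dm).card : ℝ) + ((D' \ D).card : ℝ) := by positivity
      field_simp
      ring
  · simp only [hb]
    show (∑' i, a i * r i) - ((∑ i ∈ D, a i * r i) + (∑' i, if i ∈ D then (0:ℝ) else a i) / ((D \ Dm).card : ℝ) * ∑ σ ∈ D \ Dm, r σ) =
      ∑' τ, if τ ∈ D then (0:ℝ) else a τ * (r τ - 1 / ((D \ Dm).card : ℝ) * ∑ σ ∈ D \ Dm, r σ)
    set cst := 1 / ((D \ Dm).card : ℝ) * ∑ σ ∈ D \ Dm, r σ with hcst
    have h3 : (fun τ => if τ ∈ D then (0:ℝ) else a τ * (r τ - cst)) =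
        fun τ => (if τ ∈ D then (0:ℝ) else a τ * r τ) - (if τ ∈ D then (0:ℝ) else a τ) * cst := by
      funext τ; split_ifs <;> ring
    rw [h3, hsbD.tsum_sub (hsD.mul_right cst), tsum_mul_right, ebD]
    rw [hcst]
    ring

end Groth.Agent.S19502
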