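import Groth.Statements.S19503
import Groth.Agent.NefH1Lib.Relative
import Groth.Agent.NefH1Lib.Embed
import Groth.Agent.AmpleThLib.Restr
import Groth.Agent.SerreVanLib.CurveAmple
import Groth.Agent.AmpleDevLib.Pull
import Groth.Agent.MiscFlat6.RelAmpleCoprod

set_option autoImplicit false
set_option backward.isDefEq.respectTransparency false
set_option backward.isDefEq.respectTransparency.types false
set_option maxHeartbeats 1000000
set_option linter.style.haveILetI false
universe u
open CategoryTheory CategoryTheory.Limits AlgebraicGeometry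
open Curves

namespace Groth.Agent.S19503

/-- Let A be a Noetherian ring and f : X → Spec A a proper morphism such that H^1(X, O_X) = 0 and every
fibre of f has dimension at most one. If an O_X-module L is f-ample (f quasi-compact and L an ample
invertible module on the preimage of every affine open of Spec A), then L is f-very ample: for some
n there is an immersion i : X → Pⁿ over Spec A, compatible with f, such that L is isomorphic to the
pullback of O(1) along i. -/
theorem result (A : Type u) [CommRing A]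
    [IsNoetherianRing A] (X : Scheme.{u}) (f : X ⟶ Spec (CommRingCat.of A)) [IsProper f]
    (h1 : Subsingleton (Coh.HH X (Coh.structureModule X) 1))
    (hfib : ∀ y : ↥(Spec (CommRingCat.of A)), topologicalKrullDim ↥(f.fiber y) ≤ 1)
    (L : X.Modules) (hL : RelAmple.IsRelAmple f L) :
    RelAmple.IsRelVeryAmplePn f L := by
  haveI : IsLocallyNoetherian X := LocallyOfFiniteType.isLocallyNoetherian f
  haveI : CompactSpace X := QuasiCompact.compactSpace_of_compactSpace f
  haveI : X.IsSeparated := ⟨by rw [← terminal.comp_from f]; infer_instance⟩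
  letI : X.Over (Spec (CommRingCat.of A)) := ⟨f⟩
  haveI : IsProper (X ↘ Spec (CommRingCat.of A)) := inferInstanceAs (IsProper f)
  have hA0 := hL.2 ⟨⊤, isAffineOpen_top _⟩
  haveI : IsIso (f ⁻¹ᵁ (⊤ : (Spec (CommRingCat.of A)).Opens)).ι := inferInstanceAs (IsIso X.topIso.hom)
  have hLi : PicF.IsInvertible L := MiscFlat6.isInvertible_of_restrict_cover fun x =>
    ⟨_, (f ⁻¹ᵁ (⊤ : (Spec (CommRingCat.of A)).Opens)).ι, inferInstance, ⟨x, trivial⟩, rfl, hA0.1⟩
  have hA : CohB1.IsAmple L := AmpleThLib.isAmple_of_restrict_iso hLi _ hA0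
  have hnef : ∀ (K : Type u) [Field K] (i : A →+* K) (J : X.IdealSheafData)
      (t : J.subscheme ⟶ Spec (CommRingCat.of K)),
      AlgebraicGeometry.IsIntegral J.subscheme → topologicalKrullDim ↥J.subscheme = 1 →
      t ≫ Spec.map (CommRingCat.ofHom i) = J.subschemeι ≫ f →
      0 ≤ @Curv2.deg K _ J.subscheme ⟨t⟩ ((Scheme.Modules.pullback J.subschemeι).obj L) 1 := by
    intro K _ i J t hJ hd ht
    letI : J.subscheme.Over (Spec (CommRingCat.of K)) := ⟨t⟩
    haveI : IsProper (t ≫ Spec.map (CommRingCat.ofHom i)) := ht ▸ inferInstance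
    haveI : IsProper (J.subscheme ↘ Spec (CommRingCat.of K)) :=
      IsProper.of_comp t (Spec.map (CommRingCat.ofHom i))
    exact (SerreVanLib.deg_pos_of_isAmple hd (AmpleDevLib.isAmple_pb J.subschemeι hLi hA)).le
  have hgg := (NefH1Lib.gg_and_h1_rel h1 hfib hLi fun m _ => @hnef (A ⧸ m) (Ideal.Quotient.field m) (Ideal.Quotient.mk m)).1
  have hLc := CurvLib.isCoh_of_isInvertible hLi
  obtain ⟨m, v, hspan⟩ := NefH1Lib.exists_span f hLc
  have hspan' : ∀ σ : Γ(L, ⊤), ∃ c : Fin (m + 1) → Γ(X, ⊤), σ = ∑ l, c l • v l := fun σ => by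
    obtain ⟨c, hc⟩ := hspan σ
    exact ⟨fun l => NefH1Lib.gl f (c l), hc⟩
  exact NefH1Lib.isRelVeryAmplePn f hLi v hspan
    (fun n τ => NefH1Lib.mul_surjective (NefH1Lib.hvan2 hfib) h1 hLi hgg v hspan' n τ) hA
    (NefH1Lib.cover_of_span hLi hgg v hspan')
end Groth.Agent.S19503
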