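import Groth.Statements.S19505
import Groth.Agent.RefHullLib.Generic
import Groth.Agent.CurveVBLib.Basic
import Groth.Agent.NormalLib.Regular
import Groth.Agent.DevissLib.Stalk
import Groth.Agent.QCohLib.AffineFinite
import Groth.Agent.ProjDegLib.Criterion
import Mathlib.AlgebraicGeometry.Morphisms.Proper
-- import your own Groth.Agent.* helpers here

set_option autoImplicit false
universe u
open CategoryTheory CategoryTheory.Limits AlgebraicGeometry TopologicalSpace Opposite
open OrdSurf

namespace Groth.Agent.S19505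


open DevissLib in
/-- Polynomials in a stalk endomorphism act on germs through the sections. -/
theorem aeval_gm {X : Scheme.{u}} (M : X.Modules) (ψ : M ⟶ M) {U : X.Opens} (x : X) (hx : x ∈ U)
    (f : Γ(M, U) →ₗ[Γ(X, U)] Γ(M, U)) (hf : ∀ s, f s = ψ.app U s) (p : Polynomial Γ(X, U)) (s : Γ(M, U)) :
    Polynomial.aeval (R := X.presheaf.stalk x) ((St x).map ψ).hom (p.map (X.presheaf.germ U x hx).hom) (gm M x hx s) =
      gm M x hx (Polynomial.aeval f p s) := by
  induction p using Polynomial.induction_on generalizing s with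
  | C a => rw [Polynomial.map_C, Polynomial.aeval_C, Polynomial.aeval_C, Module.algebraMap_end_apply,
      Module.algebraMap_end_apply, gm_smul]
  | add p q hp hq =>
    rw [Polynomial.map_add, map_add, map_add, LinearMap.add_apply, LinearMap.add_apply, hp, hq]
    exact (map_add (M.presheaf.germ U x hx).hom _ _).symm
  | monomial n a h =>
    have e : ∀ t, ((St x).map ψ).hom (gm M x hx t) = gm M x hx (f t) := fun t => by rw [gm_app, hf]
    rw [pow_succ, ← mul_assoc, Polynomial.map_mul, map_mul, map_mul, Polynomial.map_X, Polynomial.aeval_X,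
      Polynomial.aeval_X, Module.End.mul_apply, Module.End.mul_apply, e, h]

open DevissLib in
/-- A germ which is generated by germs killed is killed. -/
theorem exists_gm_ne_zero {X : Scheme.{u}} (M : X.Modules) [Coh.IsQCoh M] (hft : CohB1.IsFT M) {U : X.Opens}
    (hU : IsAffineOpen U) (x : X) (hx : x ∈ U) (a : (St x).obj M) (ha : a ≠ 0) :
    ∃ s : Γ(M, U), gm M x hx s ≠ 0 := by
  by_contra h
  push Not at h
  obtain ⟨I, hI, s, hs⟩ := QCohLib.exists_genOn_affine hft hU
  obtain ⟨V, hxV, t, rfl⟩ := exists_gm_eq M x a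
  obtain ⟨W, hW, hWU, hxW, c, hc⟩ := hs (V ⊓ U) inf_le_right
    (M.presheaf.map (homOfLE inf_le_left).op t) x ⟨hxV, hx⟩
  apply ha
  have e : gm M x hxW (M.presheaf.map (homOfLE hW).op (M.presheaf.map (homOfLE inf_le_left).op t)) =
      gm M x hxV t := by rw [gm_map, gm_map]
  rw [← e, hc]
  refine (map_sum (M.presheaf.germ W x hxW).hom _ _).trans (Finset.sum_eq_zero fun i _ => ?_)
  change gm M x hxW (c i • M.presheaf.map (homOfLE hWU).op (s i)) = 0
  rw [gm_smul, gm_map, h (s i), smul_zero]

open DevissLib in
/-- An endomorphism of the generic stalk coming from the sheaf is integral over every local ring. -/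
theorem exists_monic_kills {X : Scheme.{u}} [IsIntegral X] (M : X.Modules) (hM : Coh.IsCoh M) (ψ : M ⟶ M)
    (x : X) (a : (St (genericPoint X)).obj M) (ha : a ≠ 0) :
    ∃ (q : Polynomial (X.presheaf.stalk x)) (v : (St (genericPoint X)).obj M), q.Monic ∧ v ≠ 0 ∧
      Polynomial.aeval (R := X.presheaf.stalk (genericPoint X)) ((St (genericPoint X)).map ψ).hom
        (q.map (X.presheaf.stalkSpecializes ((genericPoint_spec X).specializes trivial)).hom) v = 0 := by
  haveI := hM.1
  obtain ⟨U, hU, hxU, -⟩ := exists_isAffineOpen_mem_and_subset (x := x) (U := (⊤ : X.Opens)) trivial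
  have hη : genericPoint X ∈ U := ((genericPoint_spec X).mem_open_set_iff U.2).2 ⟨x, trivial, hxU⟩
  haveI := QCohLib.finite_of_isFT hM.2 hU
  let f : Γ(M, U) →ₗ[Γ(X, U)] Γ(M, U) :=
    { toFun := fun s => ψ.app U s
      map_add' := fun s t => map_add _ s t
      map_smul' := fun r s => Scheme.Modules.Hom.app_smul ψ r s }
  obtain ⟨p, hp, hp0⟩ := LinearMap.exists_monic_and_aeval_eq_zero Γ(X, U) f
  obtain ⟨s, hs⟩ := exists_gm_ne_zero M hM.2 hU _ hη a ha
  refine ⟨p.map (X.presheaf.germ U x hxU).hom, _, hp.map _, hs, ?_⟩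
  have e : (X.presheaf.stalkSpecializes ((genericPoint_spec X).specializes trivial)).hom.comp
      (X.presheaf.germ U x hxU).hom = (X.presheaf.germ U (genericPoint X) hη).hom := by
    ext r
    exact TopCat.Presheaf.germ_stalkSpecializes_apply X.presheaf hxU
      ((genericPoint_spec X).specializes trivial) r
  rw [Polynomial.map_map, e, aeval_gm M ψ _ hη f (fun _ => rfl), hp0, LinearMap.zero_apply, gm_zero]

/-- An element of the function field lying in every local ring is a global function. -/
theorem exists_global {X : Scheme.{u}} [IsIntegral X] (q : X.presheaf.stalk (genericPoint X))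
    (h : ∀ x : X, ∃ a : X.presheaf.stalk x,
      X.presheaf.stalkSpecializes ((genericPoint_spec X).specializes trivial) a = q) :
    ∃ t : Γ(X, ⊤), X.presheaf.germ ⊤ (genericPoint X) trivial t = q := by
  have h' : ∀ x : X, ∃ (V : X.Opens) (_ : x ∈ V) (hV : genericPoint X ∈ V) (s : Γ(X, V)),
      X.presheaf.germ V (genericPoint X) hV s = q := fun x => by
    obtain ⟨a, ha⟩ := h x
    obtain ⟨V, hxV, s, rfl⟩ := X.presheaf.exists_germ_eq a
    refine ⟨V, hxV, ((genericPoint_spec X).mem_open_set_iff V.2).2 ⟨x, trivial, hxV⟩, s, ?_⟩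
    rw [← ha]
    exact (TopCat.Presheaf.germ_stalkSpecializes_apply X.presheaf hxV
      ((genericPoint_spec X).specializes trivial) s).symm
  choose V hxV hη s hs using h'
  obtain ⟨t, ht, -⟩ := X.sheaf.existsUnique_gluing' V ⊤ (fun x => homOfLE le_top)
    (fun z _ => Opens.mem_iSup.2 ⟨z, hxV z⟩) s (fun a b => by
      refine germ_injective_of_isIntegral X (genericPoint X)
        (show genericPoint X ∈ V a ⊓ V b from ⟨hη a, hη b⟩) ?_
      show X.presheaf.germ _ _ _ (X.presheaf.map _ (s a)) = X.presheaf.germ _ _ _ (X.presheaf.map _ (s b))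
      rw [TopCat.Presheaf.germ_res_apply, TopCat.Presheaf.germ_res_apply, hs, hs])
  refine ⟨t, ?_⟩
  obtain ⟨x⟩ : Nonempty X := inferInstance
  have ht' : X.presheaf.map (homOfLE le_top).op t = s x := ht x
  rw [← hs x, ← ht']
  exact (TopCat.Presheaf.germ_res_apply X.presheaf (homOfLE le_top) (genericPoint X) (hη x) t).symm

/-- A scalar of the base field, as a global function. -/
noncomputable def gl {k : Type u} [Field k] (X : Scheme.{u}) [X.Over (Spec (CommRingCat.of k))] :
    k →+* Γ(X, ⊤) :=
  ((X ↘ Spec (CommRingCat.of k)).appTop).hom.comp (Scheme.ΓSpecIso (CommRingCat.of k)).inv.hom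

/-- Global functions on a proper integral scheme over an algebraically closed field are constants. -/
theorem gl_surjective (k : Type u) [Field k] [IsAlgClosed k] (X : Scheme.{u}) [X.Over (Spec (CommRingCat.of k))]
    [IsIntegral X] [IsProper (X ↘ Spec (CommRingCat.of k))] : Function.Surjective (gl (k := k) X) := by
  haveI : IsDomain Γ(X, ⊤) := inferInstance
  have hint : (gl (k := k) X).IsIntegral :=
    RingHom.IsIntegral.trans _ _
      (RingHom.isIntegral_of_surjective _ (Scheme.ΓSpecIso (CommRingCat.of k)).commRingCatIsoToRingEquiv.symm.surjective)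
      (isIntegral_appTop_of_universallyClosed (X ↘ Spec (CommRingCat.of k)))
  letI := (gl (k := k) X).toAlgebra
  haveI : Algebra.IsIntegral k Γ(X, ⊤) := ⟨hint⟩
  exact (IsAlgClosed.algebraMap_bijective_of_isIntegral (k := k)).2

open DevissLib in
/-- A scalar-commuting endomorphism with minimal relation over the algebraically closed base is a scalar. -/
theorem eq_scalar {k K V B : Type u} [Field k] [IsAlgClosed k] [Field K] [AddCommGroup V] [Module K V]
    [Ring B] [Module B V] [IsSimpleModule B V] [SMulCommClass K B V] (ι : k →+* K)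
    (θ : Module.End K V) (hθ : ∀ (b : B) (v : V), θ (b • v) = b • θ v)
    (q : Polynomial k) (hq : q ≠ 0) (h0 : Polynomial.aeval θ (q.map ι) = 0) :
    ∃ c : k, ∀ v : V, θ v = ι c • v := by
  haveI : Nontrivial V := IsSimpleModule.nontrivial B V
  obtain ⟨c, hc⟩ : ∃ c : k, ∃ v : V, v ≠ 0 ∧ θ v = ι c • v := by
    by_contra h
    push Not at h
    have hinj : ∀ c : k, Function.Injective (θ - algebraMap K (Module.End K V) (ι c)) := fun c =>
      (injective_iff_map_eq_zero _).2 fun v hv => by
        by_contra hv0
        rw [LinearMap.sub_apply, Module.algebraMap_end_apply, sub_eq_zero] at hv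
        exact h c v hv0 hv
    have hfac := IsAlgClosed.splits q
    have key : ∀ (m : Multiset k), Function.Injective
        (Polynomial.aeval θ (((m.map fun c => Polynomial.X - Polynomial.C c).prod).map ι)) := by
      intro m
      induction m using Multiset.induction_on with
      | empty =>
        intro a b h
        simpa using h
      | cons a t ih =>
        rw [Multiset.map_cons, Multiset.prod_cons, Polynomial.map_mul, map_mul, Polynomial.map_sub,
          Polynomial.map_X, Polynomial.map_C, map_sub, Polynomial.aeval_X, Polynomial.aeval_C]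
        exact (hinj a).comp ih
    obtain ⟨v, hv⟩ := exists_ne (0 : V)
    have h1 := congrArg (fun e : Module.End K V => e v) h0
    rw [hfac.eq_prod_roots, Polynomial.map_mul, map_mul, Polynomial.map_C, Polynomial.aeval_C] at h1
    have h2 : ι q.leadingCoeff • (Polynomial.aeval θ (((q.roots.map fun c => Polynomial.X - Polynomial.C c).prod).map ι) v) = 0 := h1
    rcases smul_eq_zero.1 h2 with h3 | h3
    · exact hq (Polynomial.leadingCoeff_eq_zero.1 ((map_eq_zero ι).1 h3))
    · exact hv ((injective_iff_map_eq_zero _).1 (key _) v h3)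
  obtain ⟨v, hv, hvc⟩ := hc
  let L : V →ₗ[B] V :=
    { toFun := fun w => θ w - ι c • w
      map_add' := fun a b => by rw [map_add, smul_add]; abel
      map_smul' := fun b w => by rw [hθ, smul_comm (ι c) b w, RingHom.id_apply, smul_sub] }
  refine ⟨c, fun w => sub_eq_zero.1 ?_⟩
  rcases eq_bot_or_eq_top (LinearMap.ker L) with h | h
  · exact absurd ((Submodule.eq_bot_iff _).1 h v (sub_eq_zero.2 hvc)) hv
  · exact LinearMap.mem_ker.1 (h ▸ Submodule.mem_top : w ∈ LinearMap.ker L)

/-- If a monic polynomial kills one nonzero vector, it kills all. -/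
theorem aeval_eq_zero {K V B : Type u} [Field K] [AddCommGroup V] [Module K V] [Ring B] [Module B V]
    [IsSimpleModule B V] [SMulCommClass K B V] (θ : Module.End K V)
    (hθ : ∀ (b : B) (v : V), θ (b • v) = b • θ v) (p : Polynomial K) {v : V} (hv : v ≠ 0)
    (h : Polynomial.aeval θ p v = 0) : Polynomial.aeval θ p = 0 := by
  have hl : ∀ (p : Polynomial K) (b : B) (w : V), Polynomial.aeval θ p (b • w) = b • Polynomial.aeval θ p w := by
    intro p
    induction p using Polynomial.induction_on with
    | C a => intro b w; rw [Polynomial.aeval_C, Module.algebraMap_end_apply, Module.algebraMap_end_apply, smul_comm]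
    | add p q hp hq => intro b w; rw [map_add, LinearMap.add_apply, LinearMap.add_apply, hp, hq, smul_add]
    | monomial n a ih =>
      intro b w
      rw [pow_succ, ← mul_assoc, map_mul, Polynomial.aeval_X, Module.End.mul_apply, Module.End.mul_apply, hθ, ih]
  let L : V →ₗ[B] V :=
    { toFun := fun w => Polynomial.aeval θ p w
      map_add' := fun a b => map_add _ a b
      map_smul' := hl p }
  refine LinearMap.ext fun w => ?_
  rcases eq_bot_or_eq_top (LinearMap.ker L) with h' | h'
  · exact absurd ((Submodule.eq_bot_iff _).1 h' v h) hv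
  · exact LinearMap.mem_ker.1 (h' ▸ Submodule.mem_top : w ∈ LinearMap.ker L)

open DevissLib in
/-- An endomorphism of a coherent module commuting with a simple action at the generic point is a scalar there. -/
theorem generic_scalar (k : Type u) [Field k] [IsAlgClosed k] (X : Scheme.{u}) [X.Over (Spec (CommRingCat.of k))]
    [IsIntegral X] [Smooth (X ↘ Spec (CommRingCat.of k))] [IsProper (X ↘ Spec (CommRingCat.of k))]
    (M : X.Modules) (hM : Coh.IsCoh M) (ψ : M ⟶ M) {B : Type u} [Ring B]
    [Module B ((St (genericPoint X)).obj M)] [IsSimpleModule B ((St (genericPoint X)).obj M)]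
    [SMulCommClass (X.presheaf.stalk (genericPoint X)) B ((St (genericPoint X)).obj M)]
    (hθ : ∀ (b : B) (v : (St (genericPoint X)).obj M),
      ((St (genericPoint X)).map ψ).hom (b • v) = b • ((St (genericPoint X)).map ψ).hom v) :
    ∃ c : k, ∀ v : (St (genericPoint X)).obj M, ((St (genericPoint X)).map ψ).hom v =
      X.presheaf.germ ⊤ (genericPoint X) trivial (gl (k := k) X c) • v := by
  letI : Field (X.presheaf.stalk (genericPoint X)) := (inferInstance : Field X.functionField)
  haveI : Nontrivial ((St (genericPoint X)).obj M) := IsSimpleModule.nontrivial B _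
  obtain ⟨a, ha⟩ := exists_ne (0 : (St (genericPoint X)).obj M)
  let θ : Module.End (X.presheaf.stalk (genericPoint X)) ((St (genericPoint X)).obj M) :=
    ((St (genericPoint X)).map ψ).hom
  have hkill : ∀ x : X, ∃ q : Polynomial (X.presheaf.stalk x), q.Monic ∧ Polynomial.aeval θ
      (q.map (X.presheaf.stalkSpecializes ((genericPoint_spec X).specializes trivial)).hom) = 0 := fun x => by
    obtain ⟨q, v, hq, hv, h⟩ := exists_monic_kills M hM ψ x a ha
    exact ⟨q, hq, aeval_eq_zero θ hθ _ hv h⟩
  obtain ⟨x₀⟩ : Nonempty X := inferInstance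
  have hint : IsIntegral (X.presheaf.stalk (genericPoint X)) θ := by
    obtain ⟨q, hq, h⟩ := hkill x₀
    exact ⟨_, hq.map _, h⟩
  let m := minpoly (X.presheaf.stalk (genericPoint X)) θ
  let ι : k →+* X.presheaf.stalk (genericPoint X) :=
    (X.presheaf.germ ⊤ (genericPoint X) trivial).hom.comp (gl (k := k) X)
  have hcoef : ∀ j, ∃ c : k, ι c = m.coeff j := by
    intro j
    have hloc : ∀ x : X, ∃ b : X.presheaf.stalk x,
        X.presheaf.stalkSpecializes ((genericPoint_spec X).specializes trivial) b = m.coeff j := by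
      intro x
      obtain ⟨q, hq, h⟩ := hkill x
      haveI := CurveVBLib.regular_stalk (k := k) x
      haveI : IsDomain (X.presheaf.stalk x) := inferInstance
      haveI := NormalLib.isIntegrallyClosed_of_isRegularLocalRing (X.presheaf.stalk x)
      have hdvd : m ∣ q.map (algebraMap (X.presheaf.stalk x) X.functionField) := minpoly.dvd _ _ h
      obtain ⟨g, hg⟩ := IsIntegrallyClosed.eq_map_mul_C_of_dvd X.functionField hq hdvd
      rw [(minpoly.monic hint).leadingCoeff, map_one, mul_one] at hg
      refine ⟨g.coeff j, ?_⟩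
      have h2 := congrArg (fun r => Polynomial.coeff r j) hg
      rw [Polynomial.coeff_map] at h2
      exact h2
    obtain ⟨t, ht⟩ := exists_global _ hloc
    obtain ⟨c, rfl⟩ := gl_surjective k X t
    exact ⟨c, ht⟩
  obtain ⟨m₀, hm₀, -⟩ : ∃ m₀ : Polynomial k, m₀.map ι = m ∧ True := by
    obtain ⟨m₀, h⟩ := (Polynomial.mem_lifts m).1
      ((Polynomial.lifts_iff_coeff_lifts m).2 fun j => hcoef j)
    exact ⟨m₀, h, trivial⟩
  obtain ⟨c, hc⟩ := eq_scalar ι θ hθ m₀ (fun h => minpoly.ne_zero hint (by
      change m = 0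
      rw [← hm₀, h, Polynomial.map_zero])) (by rw [hm₀]; exact minpoly.aeval _ θ)
  exact ⟨c, hc⟩

/-- Let k be an algebraically closed field of characteristic zero and X a smooth projective surface over
k (an integral k-scheme, smooth over k, of dimension two, admitting a closed immersion over k into
some projective space P^n_k), with generic point η. Let A be a sheaf of rings on X with a morphism φ
: O_X → A of sheaves of rings with central image whose generic stalk A_η is a division ring (simple
as a left module over itself), and let M be a sheaf of A-modules whose underlying O_X-module is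
coherent with torsion-free stalks and whose generic stalk M_η is a simple A_η-module. Then M is
simple in the sense that End_A(M) = k: every endomorphism ψ of the sheaf of A-modules M is
multiplication by a scalar c ∈ k, i.e. on every open U it acts on sections as multiplication by the
image of c in Γ(U, O_X) under the structure map, pushed into A by φ. (The published statement takes
A to be an order on X and M a torsion-free A-module of rank one; only the hypotheses listed are
assumed here, the others playing no role in the argument.) -/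
theorem result (k : Type u) [Field k] [IsAlgClosed k] [CharZero k]
    (X : Scheme.{u}) [X.Over (Spec (CommRingCat.of k))] [IsIntegral X]
    [Smooth (X ↘ Spec (CommRingCat.of k))] (hdim : topologicalKrullDim X = 2)
    (hproj : ∃ (n : ℕ) (ι : X ⟶ CohB1.ProjSpace n k), IsClosedImmersion ι ∧
      ι ≫ CohB1.ProjSpace.toSpec n k = X ↘ Spec (CommRingCat.of k))
    (A : Sheaf (Opens.grothendieckTopology X) RingCat.{u}) (φ : X.ringCatSheaf ⟶ A)
    (hcen : ∀ (U : (Opens X)ᵒᵖ) (s : X.ringCatSheaf.obj.obj U) (a : A.obj.obj U),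
      φ.hom.app U s * a = a * φ.hom.app U s)
    (hAη : IsSimpleModule (↑(TopCat.Presheaf.stalk (C := RingCat.{u}) (X := X.carrier) A.obj (genericPoint X))) (↑(TopCat.Presheaf.stalk (C := RingCat.{u}) (X := X.carrier) A.obj (genericPoint X))))
    (M : SheafOfModules.{u} A)
    (hMc : Coh.IsCoh (X := X) ((SheafOfModules.restrictScalars φ).obj M))
    (hMt : TorSh.IsTorsionFree (X := X) ((SheafOfModules.restrictScalars φ).obj M))
    (hMη : IsSimpleModule (↑(TopCat.Presheaf.stalk (C := RingCat.{u}) (X := X.carrier) A.obj (genericPoint X))) (↑(TopCat.Presheaf.stalk (C := Ab.{u}) (X := X.carrier) M.val.presheaf (genericPoint X))))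
    (ψ : M ⟶ M) :
    ∃ c : k, ∀ (U : (Opens X)ᵒᵖ) (m : M.val.obj U),
      (ψ.val.app U).hom m =
        φ.hom.app U ((X.presheaf.map (homOfLE (le_top (a := U.unop))).op)
          (((X ↘ Spec (CommRingCat.of k)).appTop).hom ((Scheme.ΓSpecIso (CommRingCat.of k)).inv.hom c))) • m := by
  obtain ⟨n, ι, hι, hιX⟩ := hproj
  haveI : IsProper (X ↘ Spec (CommRingCat.of k)) := by
    rw [← hιX]
    haveI := ProjDegLib.toSpec_isProper k n
    infer_instance
  let M₀ : X.Modules := (SheafOfModules.restrictScalars φ).obj M
  let ψ₀ : M₀ ⟶ M₀ := ⟨((SheafOfModules.restrictScalars φ).map ψ).val⟩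
  let B := (↑(TopCat.Presheaf.stalk (C := RingCat.{u}) (X := X.carrier) A.obj (genericPoint X)) : Type u)
  let η := genericPoint X
  letI hB : Module B ((DevissLib.St η).obj M₀) :=
    (inferInstance : Module B (↑(TopCat.Presheaf.stalk (C := Ab.{u}) (X := X.carrier) M.val.presheaf η)))
  haveI : IsSimpleModule B ((DevissLib.St η).obj M₀) := hMη
  -- the actions on germs
  have hK : ∀ (U : X.Opens) (hU : η ∈ U) (r : Γ(X, U)) (w : M.val.obj (op U)),
      X.presheaf.germ U η hU r • DevissLib.gm M₀ η hU w = DevissLib.gm M₀ η hU (φ.hom.app (op U) r • w) := by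
    intro U hU r w
    exact (DevissLib.gm_smul M₀ η hU r w).symm
  have hB' : ∀ (U : X.Opens) (hU : η ∈ U) (a : A.obj.obj (op U)) (w : M.val.obj (op U)),
      (TopCat.Presheaf.germ (C := RingCat.{u}) (X := X.carrier) A.obj U η hU a : B) • DevissLib.gm M₀ η hU w =
        DevissLib.gm M₀ η hU (a • w) := fun U hU a w =>
    (PresheafOfModules.germ_ringCat_smul (R := (A.obj : TopCat.Presheaf RingCat.{u} X.carrier)) M.val η U hU a w).symm
  have hrep : ∀ (b : B) (v : (DevissLib.St η).obj M₀), ∃ (W : X.Opens) (hW : η ∈ W) (a : A.obj.obj (op W))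
      (w : M.val.obj (op W)), TopCat.Presheaf.germ (C := RingCat.{u}) (X := X.carrier) A.obj W η hW a = b ∧
        DevissLib.gm M₀ η hW w = v := by
    intro b v
    obtain ⟨U, hU, a, ha⟩ := TopCat.Presheaf.exists_germ_eq (C := RingCat.{u}) (X := X.carrier) A.obj (x := η) b
    obtain ⟨V, hV, w, hw⟩ := DevissLib.exists_gm_eq M₀ η v
    exact ⟨U ⊓ V, ⟨hU, hV⟩, A.obj.map (homOfLE inf_le_left).op a, M₀.presheaf.map (homOfLE inf_le_right).op w,
      (TopCat.Presheaf.germ_res_apply (C := RingCat.{u}) (X := X.carrier) A.obj (homOfLE inf_le_left) η ⟨hU, hV⟩ a).trans ha,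
      (DevissLib.gm_map M₀ inf_le_right η ⟨hU, hV⟩ w).trans hw⟩
  haveI : SMulCommClass (X.presheaf.stalk η) B ((DevissLib.St η).obj M₀) := ⟨fun c b v => by
    obtain ⟨W, hW, a, w, rfl, rfl⟩ := hrep b v
    obtain ⟨U, hU, r, rfl⟩ := X.presheaf.exists_germ_eq c
    let V := W ⊓ U
    have hV : η ∈ V := ⟨hW, hU⟩
    rw [← TopCat.Presheaf.germ_res_apply X.presheaf (homOfLE (inf_le_right : V ≤ U)) η hV r,
      ← TopCat.Presheaf.germ_res_apply (C := RingCat.{u}) (X := X.carrier) A.obj (homOfLE (inf_le_left : V ≤ W)) η hV a,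
      ← DevissLib.gm_map M₀ (inf_le_left : V ≤ W) η hV w]
    let r' : Γ(X, V) := X.presheaf.map (homOfLE (inf_le_right : V ≤ U)).op r
    let a' : A.obj.obj (op V) := A.obj.map (homOfLE (inf_le_left : V ≤ W)).op a
    let w' : M.val.obj (op V) := M₀.presheaf.map (homOfLE (inf_le_left : V ≤ W)).op w
    exact (((congrArg (fun z => X.presheaf.germ V η hV r' • z) (hB' V hV a' w')).trans (hK V hV r' _)).trans
      (congrArg _ ((mul_smul _ _ _).symm.trans ((congrArg (· • w') (hcen (op V) r' a')).trans (mul_smul _ _ _))))).trans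
      ((congrArg (fun z => (TopCat.Presheaf.germ (C := RingCat.{u}) (X := X.carrier) A.obj V η hV a' : B) • z)
        (hK V hV r' w')).trans (hB' V hV a' _)).symm⟩
  obtain ⟨c, hc⟩ := generic_scalar k X M₀ hMc ψ₀ (B := B) fun b v => by
    obtain ⟨W, hW, a, w, rfl, rfl⟩ := hrep b v
    have hψ : ∀ t : M.val.obj (op W), ((DevissLib.St η).map ψ₀).hom (DevissLib.gm M₀ η hW t) =
        DevissLib.gm M₀ η hW ((ψ.val.app (op W)).hom t) := fun t => DevissLib.gm_app ψ₀ η hW t
    exact (((congrArg ((DevissLib.St η).map ψ₀).hom (hB' W hW a w)).trans (hψ _)).trans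
      (congrArg _ ((ψ.val.app (op W)).hom.map_smul a w))).trans
      ((congrArg (fun z => (TopCat.Presheaf.germ (C := RingCat.{u}) (X := X.carrier) A.obj W η hW a : B) • z)
        (hψ w)).trans (hB' W hW a _)).symm
  refine ⟨c, fun U m => ?_⟩
  haveI := hMc.1
  let s : Γ(M₀, U.unop) := m
  let g : Γ(X, U.unop) := X.presheaf.map (homOfLE (le_top (a := U.unop))).op (gl (k := k) X c)
  change ψ₀.app U.unop s = g • s
  refine TopCat.Presheaf.section_ext (⟨M₀.presheaf, M₀.isSheaf⟩ : TopCat.Sheaf Ab _) U.unop _ _ fun z hz => ?_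
  haveI := hMt z
  have hsp : genericPoint X ⤳ z := (genericPoint_spec X).specializes trivial
  have hη : genericPoint X ∈ U.unop := hsp.mem_open U.unop.2 hz
  refine RefHullLib.injective_stalkSpecializes_generic M₀ z hsp ?_
  rw [TopCat.Presheaf.germ_stalkSpecializes_apply, TopCat.Presheaf.germ_stalkSpecializes_apply]
  change DevissLib.gm M₀ _ hη (ψ₀.app U.unop s) = DevissLib.gm M₀ _ hη (g • s)
  rw [DevissLib.gm_smul, ← DevissLib.gm_app, hc, TopCat.Presheaf.germ_res_apply]

end Groth.Agent.S19505
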