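import Groth.Statements.S19506
import Groth.Agent.CohenLib.FSRegular
import Mathlib

set_option autoImplicit false
set_option linter.style.haveILetI false
universe u
open CAlg

namespace Groth.Agent.S19506

/-- Quotients by powers of the maximal ideal are finite over a residue field equal to the base field. -/
theorem finite_quotient_pow (k A : Type u) [Field k] [CommRing A] [Algebra k A] [IsLocalRing A]
    [IsNoetherianRing A] (π : A →ₐ[k] k) (hπ : RingHom.ker π = IsLocalRing.maximalIdeal A) (l : ℕ) :
    Module.Finite k (A ⧸ IsLocalRing.maximalIdeal A ^ l) := by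
  classical
  let m := IsLocalRing.maximalIdeal A
  obtain ⟨T, hT⟩ : m.FG := IsNoetherian.noetherian m
  let q := Ideal.Quotient.mkₐ k (m ^ l)
  let S : Subalgebra k (A ⧸ m ^ l) := Algebra.adjoin k (q '' (T : Set A))
  have key : ∀ (j : ℕ) (a : A), ∃ b : A, q b ∈ S ∧ a - b ∈ m ^ j := by
    intro j
    induction j with
    | zero => exact fun a => ⟨0, by rw [map_zero]; exact S.zero_mem, by simp⟩
    | succ j ih =>
      intro a
      have h1 : a - algebraMap k A (π a) ∈ Ideal.span (T : Set A) := by
        rw [hT]; show _ ∈ IsLocalRing.maximalIdeal A; rw [← hπ, RingHom.mem_ker, map_sub, AlgHom.commutes]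
        exact sub_self _
      have h2 : ∃ b : A, q b ∈ S ∧ (a - algebraMap k A (π a)) - b ∈ m ^ (j + 1) := by
        generalize a - algebraMap k A (π a) = y at h1
        induction h1 using Submodule.span_induction with
        | mem t ht => exact ⟨t, Algebra.subset_adjoin ⟨t, ht, rfl⟩, by rw [sub_self]; exact Submodule.zero_mem _⟩
        | zero => exact ⟨0, by rw [map_zero]; exact S.zero_mem, by simp⟩
        | add y z _ _ hy hz =>
          obtain ⟨b, hb, hb'⟩ := hy
          obtain ⟨c, hc, hc'⟩ := hz
          exact ⟨b + c, by rw [map_add]; exact S.add_mem hb hc,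
            by rw [add_sub_add_comm]; exact Ideal.add_mem _ hb' hc'⟩
        | smul c y hy hy' =>
          obtain ⟨b, hb, hb'⟩ := ih c
          obtain ⟨d, hd, hd'⟩ := hy'
          refine ⟨b * d, by rw [map_mul]; exact S.mul_mem hb hd, ?_⟩
          have hym : y ∈ m := hT ▸ hy
          rw [smul_eq_mul, show c * y - b * d = (c - b) * y + b * (y - d) by ring]
          exact Ideal.add_mem _ (by rw [pow_succ]; exact Ideal.mul_mem_mul hb' hym) (Ideal.mul_mem_left _ _ hd')
      obtain ⟨b, hb, hb'⟩ := h2
      exact ⟨algebraMap k A (π a) + b, by rw [map_add, AlgHom.commutes]; exact S.add_mem (S.algebraMap_mem _) hb,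
        by rw [← sub_sub]; exact hb'⟩
  have htop : S = ⊤ := eq_top_iff.2 fun x _ => by
    obtain ⟨a, rfl⟩ := Ideal.Quotient.mk_surjective x
    obtain ⟨b, hb, hb'⟩ := key l a
    rwa [show Ideal.Quotient.mk (m ^ l) a = q b from Ideal.Quotient.eq.2 hb']
  have hfg : (Subalgebra.toSubmodule S).FG := fg_adjoin_of_finite ((T.finite_toSet).image _) (by
    rintro _ ⟨t, ht, rfl⟩
    refine IsIntegral.of_pow (Nat.succ_pos l) ?_
    rw [← map_pow, show q (t ^ (l + 1)) = 0 from Ideal.Quotient.eq_zero_iff_mem.2
      (Ideal.pow_le_pow_right (Nat.le_succ l) (Ideal.pow_mem_pow (hT ▸ Ideal.subset_span ht) _))]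
    exact isIntegral_zero)
  rw [htop, Algebra.top_toSubmodule] at hfg
  exact ⟨hfg⟩

/-- A finitely generated square-zero extension of a finite algebra is finite. -/
theorem finite_of_sq_zero (k C : Type u) [Field k] [CommRing C] [Algebra k C] [Algebra.FiniteType k C]
    (J : Ideal C) (hJ : J ^ 2 = ⊥) (h : Module.Finite k (C ⧸ J)) : Module.Finite k C := by
  haveI : Algebra.IsIntegral k C := ⟨fun c => by
    obtain ⟨p, hp, hp0⟩ := IsIntegral.of_finite k (Ideal.Quotient.mk J c)
    refine ⟨p ^ 2, hp.pow 2, ?_⟩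
    rw [← Polynomial.aeval_def, map_pow, sq]
    have h1 : Polynomial.aeval c p ∈ J := by
      rw [← Ideal.Quotient.eq_zero_iff_mem, ← Ideal.Quotient.mkₐ_eq_mk k, ← Polynomial.aeval_algHom_apply,
        Ideal.Quotient.mkₐ_eq_mk, Polynomial.aeval_def, hp0]
    have h2 := Ideal.mul_mem_mul h1 h1
    rwa [← sq, hJ, Ideal.mem_bot] at h2⟩
  exact Algebra.IsIntegral.finite

/-- A square-zero extension of a local ring is local. -/
theorem isLocalRing_of_sq_zero (C : Type u) [CommRing C] [Nontrivial C] (J : Ideal C) (hJ : J ^ 2 = ⊥)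
    (h : IsLocalRing (C ⧸ J)) : IsLocalRing C := by
  haveI : IsLocalHom (Ideal.Quotient.mk J) := ⟨fun c hc => by
    obtain ⟨d, hd⟩ := hc.exists_right_inv
    obtain ⟨d, rfl⟩ := Ideal.Quotient.mk_surjective d
    rw [← map_mul, ← map_one (Ideal.Quotient.mk J), Ideal.Quotient.eq] at hd
    have h2 := Ideal.mul_mem_mul hd hd
    rw [← sq J, hJ, Ideal.mem_bot] at h2
    exact IsUnit.of_mul_eq_one (d * (2 - c * d)) (by linear_combination -h2)⟩
  exact RingHom.domain_isLocalRing (Ideal.Quotient.mk J)

/-- (i) ⇔ (iii): let k be a field and A a complete local Noetherian k-algebra with residue field k (a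
k-algebra map π : A → k with kernel the maximal ideal; A complete for the adic topology of its
maximal ideal). Then A is regular if and only if A satisfies the infinitesimal lifting criterion:
for every Artinian local k-algebra R and every ideal J of R of square zero, every local k-algebra
homomorphism A → R/J (one carrying non-units to non-units) lifts to a k-algebra homomorphism A → R.
(The test algebras R range over one universe, that of A. The published criterion is worded for
arbitrary k-algebra homomorphisms A → R/J; it is stated here for local ones, the case the argument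
establishes and the form in which the text itself restates the criterion afterwards. The published
statement lists a third equivalent condition, A ≅ k[[x_1, …, x_d]].) -/
theorem result (k A : Type u) [Field k]
    [CommRing A] [Algebra k A] [IsLocalRing A] [IsNoetherianRing A]
    [IsAdicComplete (IsLocalRing.maximalIdeal A) A]
    (π : A →ₐ[k] k) (hπ : RingHom.ker π = IsLocalRing.maximalIdeal A) :
    IsRegularLocalRing A ↔
      ∀ (R : Type u) [CommRing R] [Algebra k R] [IsArtinianRing R] [IsLocalRing R] (J : Ideal R),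
        J ^ 2 = ⊥ → ∀ f : A →ₐ[k] R ⧸ J, IsLocalHom (f : A →+* R ⧸ J) →
          ∃ g : A →ₐ[k] R, (Ideal.Quotient.mkₐ k J).comp g = f := by
  classical
  have hsurj : Function.Surjective π := fun c => ⟨algebraMap k A c, by rw [AlgHom.commutes]; rfl⟩
  let e : (A ⧸ RingHom.ker π) ≃ₐ[k] k := Ideal.quotientKerAlgEquivOfSurjective hsurj
  haveI : Algebra.FormallySmooth k (IsLocalRing.ResidueField A) :=
    Algebra.FormallySmooth.of_equiv ((e.symm.trans (Ideal.quotientEquivAlgOfEq k hπ)) :
      k ≃ₐ[k] A ⧸ IsLocalRing.maximalIdeal A)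
  constructor
  · intro hreg R _ _ _ _ J hJ f hf
    have hJt : J ≠ ⊤ := by
      rintro rfl
      rw [sq, Ideal.top_mul] at hJ
      exact top_ne_bot hJ
    haveI : Nontrivial (R ⧸ J) := Ideal.Quotient.nontrivial_iff.2 hJt
    haveI : IsLocalRing (R ⧸ J) := IsLocalRing.of_surjective' (Ideal.Quotient.mk J) Ideal.Quotient.mk_surjective
    obtain ⟨l, hl⟩ := IsArtinianRing.isNilpotent_jacobson_bot (R := R ⧸ J)
    refine CohenLib.liftsAdic_of_regular k A R J hJ f ⟨l, fun x hx => ?_⟩
    have h1 : (IsLocalRing.maximalIdeal A).map (f : A →+* R ⧸ J) ≤ (⊥ : Ideal (R ⧸ J)).jacobson := by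
      rw [IsLocalRing.jacobson_eq_maximalIdeal _ bot_ne_top]
      exact ((IsLocalRing.local_hom_TFAE (f : A →+* R ⧸ J)).out 0 2).1 hf
    have h2 := Ideal.pow_right_mono h1 l
    rw [← Ideal.map_pow, hl] at h2
    exact h2 (Ideal.mem_map_of_mem (f : A →+* R ⧸ J) hx)
  · intro h
    refine CohenLib.isRegularLocalRing_of_liftsAdic (k := k) fun C _ _ J hJ ψ hψ => ?_
    obtain ⟨l, hl⟩ := hψ
    rcases subsingleton_or_nontrivial (C ⧸ J) with hsub | hnt
    · have h1 : (1 : C) ∈ J := Ideal.Quotient.eq_zero_iff_mem.1 (Subsingleton.elim _ _)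
      have h2 : (1 : C) ∈ J ^ 2 := by rw [sq]; simpa using Ideal.mul_mem_mul h1 h1
      rw [hJ, Ideal.mem_bot] at h2
      haveI : Subsingleton C := subsingleton_of_zero_eq_one h2.symm
      haveI : Subsingleton k → False := fun _ => false_of_nontrivial_of_subsingleton k
      exact ⟨(Algebra.ofId k C).comp π, AlgHom.ext fun a => Subsingleton.elim _ _⟩
    -- the image is a finite-dimensional local algebra
    haveI : Algebra.FiniteType k k := inferInstance
    haveI hfin : Module.Finite k (A ⧸ IsLocalRing.maximalIdeal A ^ l) := finite_quotient_pow k A π hπ l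
    let ψl : (A ⧸ IsLocalRing.maximalIdeal A ^ l) →ₐ[k] C ⧸ J := Ideal.Quotient.liftₐ _ ψ hl
    haveI : Module.Finite k ψ.range := by
      have : (Subalgebra.toSubmodule ψ.range) = LinearMap.range ψl.toLinearMap := by
        ext x
        constructor
        · rintro ⟨a, rfl⟩; exact ⟨Ideal.Quotient.mk _ a, rfl⟩
        · rintro ⟨a, rfl⟩; obtain ⟨a, rfl⟩ := Ideal.Quotient.mk_surjective a; exact ⟨a, rfl⟩
      exact Module.Finite.equiv (LinearEquiv.ofEq _ _ this.symm)
    obtain ⟨s, hs⟩ := (Module.Finite.fg_top : (⊤ : Submodule k ψ.range).FG)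
    choose lift hlift using Ideal.Quotient.mk_surjective (I := J)
    let C' : Subalgebra k C := Algebra.adjoin k ((fun y : ψ.range => lift y.1) '' (s : Set ψ.range))
    let μ : C' →ₐ[k] C ⧸ J := (Ideal.Quotient.mkₐ k J).comp C'.val
    have hμ : μ.range = ψ.range := by
      refine le_antisymm ?_ ?_
      · rintro _ ⟨⟨c, hc⟩, rfl⟩
        have h1 : (C'.map (Ideal.Quotient.mkₐ k J)) ≤ ψ.range := by
          rw [AlgHom.map_adjoin, Algebra.adjoin_le_iff]
          rintro _ ⟨_, ⟨y, -, rfl⟩, rfl⟩
          show Ideal.Quotient.mk J (lift y.1) ∈ ψ.range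
          rw [hlift]; exact y.2
        exact h1 ⟨c, hc, rfl⟩
      · intro x hx
        have h2 : (⟨x, hx⟩ : ψ.range) ∈ Submodule.span k (s : Set ψ.range) := hs ▸ Submodule.mem_top
        suffices ∀ y ∈ Submodule.span k (s : Set ψ.range), (y : C ⧸ J) ∈ μ.range from this _ h2
        intro y hy
        induction hy using Submodule.span_induction with
        | mem y hy => exact ⟨⟨lift y.1, Algebra.subset_adjoin ⟨y, hy, rfl⟩⟩, hlift _⟩
        | zero => exact Subalgebra.zero_mem _
        | add a b _ _ ha hb => exact Subalgebra.add_mem _ ha hb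
        | smul c a _ ha => exact Subalgebra.smul_mem _ ha c
    let J' : Ideal C' := RingHom.ker μ
    have hJ' : J' ^ 2 = ⊥ := by
      rw [← le_bot_iff, sq, Ideal.mul_le]
      intro a ha b hb
      have h1 : (a : C) * b ∈ J ^ 2 := by
        rw [sq]
        exact Ideal.mul_mem_mul (Ideal.Quotient.eq_zero_iff_mem.1 ha) (Ideal.Quotient.eq_zero_iff_mem.1 hb)
      rw [hJ, Ideal.mem_bot] at h1
      exact (Submodule.mem_bot _).2 (Subtype.ext h1)
    let E : (C' ⧸ J') ≃ₐ[k] ψ.range := (Ideal.quotientKerEquivRange μ).trans (Subalgebra.equivOfEq _ _ hμ)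
    haveI : Nontrivial C := (Ideal.Quotient.mk J).domain_nontrivial
    haveI : Nontrivial C' := (RingHom.domain_nontrivial C'.val.toRingHom)
    haveI hC'fin : Module.Finite k C' := by
      haveI : Algebra.FiniteType k C' := (Subalgebra.fg_iff_finiteType C').1
        ((Subalgebra.fg_def).2 ⟨_, s.finite_toSet.image _, rfl⟩)
      exact finite_of_sq_zero k C' J' hJ' (Module.Finite.equiv E.symm.toLinearEquiv)
    haveI : IsArtinianRing C' := IsArtinianRing.of_finite k C'
    haveI : IsLocalRing ψ.range := IsLocalRing.of_surjective' ψ.rangeRestrict.toRingHom ψ.rangeRestrict_surjective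
    haveI : IsLocalRing C' := isLocalRing_of_sq_zero C' J' hJ'
      (E.toRingEquiv.symm.isLocalRing)
    let f : A →ₐ[k] C' ⧸ J' := E.symm.toAlgHom.comp ψ.rangeRestrict
    have hfloc : IsLocalHom (f : A →+* C' ⧸ J') := ⟨fun a ha => by
      by_contra hna
      have h1 : f a ^ l = 0 := by
        show E.symm (ψ.rangeRestrict a) ^ l = 0
        rw [← map_pow, ← map_pow, show ψ.rangeRestrict (a ^ l) = 0 from
          Subtype.ext (hl _ (Ideal.pow_mem_pow ((IsLocalRing.mem_maximalIdeal a).2 hna) l)), map_zero]
      haveI : Nontrivial (C' ⧸ J') := E.toRingEquiv.nontrivial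
      exact not_isUnit_zero (h1 ▸ ha.pow l)⟩
    obtain ⟨g, hg⟩ := h C' J' hJ' f hfloc
    refine ⟨C'.val.comp g, AlgHom.ext fun a => ?_⟩
    have h3 := congrArg E (AlgHom.congr_fun hg a)
    rw [show E (f a) = ψ.rangeRestrict a from E.apply_symm_apply _] at h3
    exact congrArg Subtype.val h3

end Groth.Agent.S19506
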