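import Groth.Statements.S19508
import Mathlib
import Groth.Agent.BorelLib.QuotBC
import Groth.Agent.BorelLib.SelfNormField
import Groth.Agent.S3904
import Groth.Agent.S0086
import Groth.Agent.BorelLib.ImageField
-- import your own Groth.Agent.* helpers here

set_option autoImplicit false
universe u
open CategoryTheory MonoidalCategory CartesianMonoidalCategory MonObj GrpObj AlgebraicGeometry
open AGF

namespace Groth.Agent.S19508

/-- Let k be a field, G an affine, smooth, connected k-group scheme, P a smooth connected closed
k-subgroup scheme of G and X = G/P the quotient. Then X is proper over k if and only if, after base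
change to an algebraic closure of k (the geometric fibre over the point of Spec k), P contains a
Borel subgroup of G. (Over an algebraically closed field this is the usual characterisation of
parabolic subgroups; the point here is an arbitrary ground field.) -/
theorem result (k : Type u) [Field k]
    (G : Over (Spec (CommRingCat.of k))) [GrpObj G] [IsAffine G.left] [Smooth G.hom] [ConnectedSpace G.left]
    (P : Over (Spec (CommRingCat.of k))) [GrpObj P] (iP : P ⟶ G) [IsMonHom iP] (hcl : IsClosedImmersion iP.left)
    [Smooth P.hom] [ConnectedSpace P.left]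
    (X : Over (Spec (CommRingCat.of k))) (a : AlgGrp.Action G X) (o : 𝟙_ (Over (Spec (CommRingCat.of k))) ⟶ X)
    (hX : AGF.IsQuotient iP X a o) :
    IsProper X.hom ↔ Red.IsParabolic iP := by
  have hbc : ∀ {S S' : Scheme.{u}} (t : S' ⟶ S) {G H : Over S} [GrpObj G] [GrpObj H] (i : H ⟶ G) (Y : Over S)
      (b : AlgGrp.Action G Y) (p : 𝟙_ (Over S) ⟶ Y), AGF.IsQuotient i Y b p →
      AGF.IsQuotient (G := Red.bc t G) (H := Red.bc t H) ((Over.pullback t).map i) (Red.bc t Y) (b.bc t)
        (Functor.LaxMonoidal.ε (Over.pullback t) ≫ (Over.pullback t).map p) :=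
    fun t => BorelLib.isQuotient_bc t
  haveI : IsMonHom iP := ‹_›
  haveI := hcl
  constructor
  · intro hp
    refine ⟨‹_›, hcl, ‹_›, fun s => ?_⟩
    haveI := DiagRep.isMonHom_bc_map (Red.geomPt s) iP
    obtain ⟨hA, hS, hC⟩ := BorelLib.geom_facts s G
    haveI := hA; haveI := hS; haveI := hC
    haveI : Smooth (Red.geomFibre s P).hom := (inferInstance : Smooth (Limits.pullback.snd P.hom (Red.geomPt s)))
    refine (Groth.Agent.S3904.result _ (Red.geomFibre s G) (Red.geomFibre s P)
      ((Over.pullback (Red.geomPt s)).map iP) ?_ _ _ _ (hbc _ _ _ _ _ hX)).1 ?_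
    · exact BorelLib.isClosedImmersion_bc (Red.geomPt s) iP
    · haveI := hp
      exact (inferInstance : IsProper (Limits.pullback.snd X.hom (Red.geomPt s)))
  · intro hP
    obtain ⟨s⟩ : Nonempty ↥(Spec (CommRingCat.of k)) := inferInstanceAs (Nonempty (PrimeSpectrum k))
    haveI := DiagRep.isMonHom_bc_map (Red.geomPt s) iP
    obtain ⟨hA, hS, hC⟩ := BorelLib.geom_facts s G
    haveI := hA; haveI := hS; haveI := hC
    haveI : Smooth (Red.geomFibre s P).hom := (inferInstance : Smooth (Limits.pullback.snd P.hom (Red.geomPt s)))
    have h := (Groth.Agent.S3904.result _ (Red.geomFibre s G) (Red.geomFibre s P)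
      ((Over.pullback (Red.geomPt s)).map iP) (BorelLib.isClosedImmersion_bc (Red.geomPt s) iP) _ _ _
      (hbc _ _ _ _ _ hX)).2 (hP.2.2.2 s)
    haveI := Groth.Agent.S0086.result.{u}
    haveI := BorelLib.flat_geomPt s
    haveI := BorelLib.surjective_geomPt s
    exact MorphismProperty.of_pullback_snd_of_descendsAlong (Q := (@Surjective ⊓ @Flat ⊓ @QuasiCompact : MorphismProperty Scheme.{u}))
      (f := X.hom) (g := Red.geomPt s) ⟨⟨inferInstance, inferInstance⟩, inferInstance⟩ h

end Groth.Agent.S19508
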