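import Groth.Statements.S19509
import Groth.Agent.TorsLiftLib.Basic
import Mathlib.RingTheory.Henselian

set_option autoImplicit false
universe u
open CategoryTheory MonoidalCategory CartesianMonoidalCategory MonObj GrpObj AlgebraicGeometry
open Neron

namespace Groth.Agent.S19509

/-- Let R be a complete discrete valuation ring whose fraction field K has characteristic zero and whose
residue field k has characteristic p > 0, and let N be a commutative R-group scheme which is a Néron
model of its generic fibre, an abelian variety over K. Then the torsion of order prime to p of N(R)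
= A(K) injects into the special fibre under reduction: a section x with x^n = 1, n ≥ 1 prime to p,
whose value at the closed point of Spec R is the identity point of the special fibre, is the unit
section. -/
theorem result (R : Type u) [CommRing R] [IsDomain R]
    [IsDiscreteValuationRing R] [IsAdicComplete (IsLocalRing.maximalIdeal R) R] (K : Type u) [Field K] [Algebra R K]
    [IsFractionRing R K] [CharZero K] (p : ℕ) [Fact p.Prime] [CharP (IsLocalRing.ResidueField R) p]
    (N : Over (Spec (CommRingCat.of R))) [GrpObj N] [IsCommMonObj N] (hN : SGA7.IsNeron R K N)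
    [IsProper ((SGA7.genFib R K).obj N).hom] [GeometricallyIntegral ((SGA7.genFib R K).obj N).hom]
    (x : 𝟙_ (Over (Spec (CommRingCat.of R))) ⟶ N) (n : ℕ) (hn : 0 < n) (hx : x ^ n = 1)
    (hred : x.left.base (IsLocalRing.closedPoint R) = (η[N]).left.base (IsLocalRing.closedPoint R))
    (hnp : Nat.Coprime n p) : x = 1 := by
  obtain ⟨hsm, hsep, -, -⟩ := hN
  haveI := hsm
  haveI := hsep
  haveI : HenselianLocalRing R :=
    { is_henselian := fun f hf a₀ h₁ h₂ => HenselianRing.is_henselian f hf a₀ h₁
        (h₂.map (Ideal.Quotient.mk (IsLocalRing.maximalIdeal R))) }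
  have hu : IsUnit (n : R) := by
    by_contra h
    have h1 : (n : IsLocalRing.ResidueField R) = 0 := by
      rw [← map_natCast (IsLocalRing.residue R), IsLocalRing.residue_eq_zero_iff]
      exact h
    rw [CharP.cast_eq_zero_iff (IsLocalRing.ResidueField R) p] at h1
    exact (Fact.out : p.Prime).ne_one (Nat.dvd_one.1 (hnp ▸ Nat.dvd_gcd h1 dvd_rfl))
  let s := Spec.map (CommRingCat.ofHom (IsLocalRing.residue R))
  let e := (η[N] : 𝟙_ _ ⟶ N).left
  have hxw : x.left ≫ N.hom = 𝟙 _ := Over.w x
  have hew : e ≫ N.hom = 𝟙 _ := Over.w η[N]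
  haveI : IsClosedImmersion e := by
    haveI : IsClosedImmersion (e ≫ N.hom) := by rw [hew]; infer_instance
    exact IsClosedImmersion.of_comp e N.hom
  have hxe : s ≫ x.left = s ≫ e := by
    let q := Limits.pullback.snd e (s ≫ x.left)
    haveI : IsClosedImmersion q := inferInstanceAs (IsClosedImmersion (Limits.pullback.snd e (s ≫ x.left)))
    haveI : Surjective q := ⟨fun t => by
      obtain ⟨z, -, hz⟩ := Scheme.exists_preimage_of_isPullback (IsPullback.of_hasPullback e (s ≫ x.left))
        (IsLocalRing.closedPoint R) t (hred.symm.trans (congrArg x.left.base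
          (SubmDescLib.closedPoint_map (IsLocalRing.residue R) IsLocalRing.residue_surjective t).symm))
      exact ⟨z, hz⟩⟩
    haveI : IsIso q := isIso_of_isClosedImmersion_of_surjective q
    have h : s ≫ x.left = (inv q ≫ Limits.pullback.fst e (s ≫ x.left)) ≫ e := by
      rw [Category.assoc, Limits.pullback.condition, IsIso.inv_hom_id_assoc]
    have h2 : s = inv q ≫ Limits.pullback.fst e (s ≫ x.left) := by
      have := congrArg (· ≫ N.hom) h
      simp only [Category.assoc, hxw, hew, Category.comp_id] at this
      exact this
    rw [h, ← h2]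
  let i : Over.mk s ⟶ Over.mk (𝟙 (Spec (CommRingCat.of R))) := Over.homMk s (Category.comp_id _)
  obtain ⟨σ, -, huniq⟩ := TorsLiftLib.existsUnique_lift N n hu (i ≫ 1) (by rw [MonObj.comp_one, one_pow])
  have h1 := huniq x ⟨hx, Over.OverMorphism.ext (by
    show s ≫ x.left = s ≫ (1 : 𝟙_ _ ⟶ N).left
    rw [hxe]
    exact congrArg (fun m : 𝟙_ _ ⟶ N => s ≫ m.left) (MonObj.one_eq_one N))⟩
  have h2 := huniq 1 ⟨one_pow _, rfl⟩
  exact h1.trans h2.symm

end Groth.Agent.S19509
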