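import Groth.Statements.S19510
import Groth.Agent.SmallRamTorsLib.Basic
import Groth.Agent.S19509

set_option autoImplicit false
universe u
open CategoryTheory MonoidalCategory CartesianMonoidalCategory MonObj GrpObj AlgebraicGeometry
open Neron

set_option backward.isDefEq.respectTransparency false

namespace Groth.Agent.S19510

/-- Let R be a complete discrete valuation ring whose fraction field K has characteristic zero and whose
residue field has characteristic p > 0, with absolute ramification small in the sense that v(p) < p
− 1 for the normalised valuation, i.e. p does not lie in the (p − 1)-st power of the maximal ideal.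
Let N be a commutative R-group scheme which is a Néron model of its generic fibre, an abelian
variety over K. Then all torsion of N(R) = A(K) injects into the special fibre under reduction: a
section x with x^n = 1 for some n ≥ 1 whose value at the closed point is the identity point is the
unit section. -/
theorem result (R : Type u) [CommRing R] [IsDomain R]
    [IsDiscreteValuationRing R] [IsAdicComplete (IsLocalRing.maximalIdeal R) R] (K : Type u) [Field K] [Algebra R K]
    [IsFractionRing R K] [CharZero K] (p : ℕ) [Fact p.Prime] [CharP (IsLocalRing.ResidueField R) p]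
    (N : Over (Spec (CommRingCat.of R))) [GrpObj N] [IsCommMonObj N] (hN : SGA7.IsNeron R K N)
    [IsProper ((SGA7.genFib R K).obj N).hom] [GeometricallyIntegral ((SGA7.genFib R K).obj N).hom]
    (x : 𝟙_ (Over (Spec (CommRingCat.of R))) ⟶ N) (n : ℕ) (hn : 0 < n) (hx : x ^ n = 1)
    (hred : x.left.base (IsLocalRing.closedPoint R) = (η[N]).left.base (IsLocalRing.closedPoint R))
    (hv : (p : R) ∉ IsLocalRing.maximalIdeal R ^ (p - 1)) : x = 1 := by
  have hp := (Fact.out : p.Prime)
  have hp0 : (p : R) ≠ 0 := fun h => by
    have := congrArg (algebraMap R K) h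
    rw [map_natCast, map_zero] at this
    exact hp.ne_zero (Nat.cast_eq_zero.1 this)
  have hmul : ∀ (y : 𝟙_ (Over (Spec (CommRingCat.of R))) ⟶ N),
      y.left.base (IsLocalRing.closedPoint R) = (η[N]).left.base (IsLocalRing.closedPoint R) →
      ∀ j : ℕ, (y ^ j).left.base (IsLocalRing.closedPoint R) = (η[N]).left.base (IsLocalRing.closedPoint R) := by
    intro y hy j
    let T : N ⟶ N := (toUnit N ≫ y) * 𝟙 N
    have hT : ∀ k : ℕ, (y ^ k) ≫ T = y ^ (k + 1) := fun k => by
      rw [MonObj.comp_mul, Category.comp_id, comp_toUnit_assoc, pow_succ',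
        toUnit_unique (toUnit (𝟙_ (Over (Spec (CommRingCat.of R))))) (𝟙 _), Category.id_comp]
    have h0 : (η[N] : 𝟙_ _ ⟶ N) = y ^ 0 := (MonObj.one_eq_one N).trans (pow_zero y).symm
    induction j with
    | zero => rw [← h0]
    | succ k ih =>
      rw [← hT, Over.comp_left, Scheme.Hom.comp_apply]
      refine (congrArg T.left.base ih).trans ?_
      show T.left ((η[N]).left (IsLocalRing.closedPoint R)) = _
      rw [← Scheme.Hom.comp_apply, ← Over.comp_left, h0, hT, Nat.zero_add, pow_one, ← h0]
      exact hy
  obtain ⟨a, m, hm, rfl⟩ := Nat.exists_eq_pow_mul_and_not_dvd hn.ne' p hp.ne_one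
  rw [pow_mul] at hx
  have hy : x ^ p ^ a = 1 := Groth.Agent.S19509.result R K p N hN (x ^ p ^ a) m
    (Nat.pos_of_mul_pos_left hn) hx (hmul x hred _) ((hp.coprime_iff_not_dvd.2 hm).symm)
  clear hx hn hm
  induction a generalizing x with
  | zero => rwa [pow_zero, pow_one] at hy
  | succ a ih =>
    rw [pow_succ', pow_mul] at hy
    exact SmallRamTors.eq_one_of_pow_prime N p hp hp0 hv x (ih (x ^ p) (hmul x hred p) hy) hred

end Groth.Agent.S19510
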