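import Groth.Statements.S19517
import Groth.Agent.S8000
import Groth.Agent.S10831
import Groth.Agent.GenSubLib.Main
import Groth.Agent.GrpFieldLib.Identity
import Groth.Agent.QuasiSecLib.HomogDim
import Groth.Agent.AVAmpleLib.ReducedSub
import Groth.Agent.AlbLib.AVClass
-- import your own Groth.Agent.* helpers here

set_option autoImplicit false
universe u
open CategoryTheory CategoryTheory.Limits MonoidalCategory CartesianMonoidalCategory MonObj GrpObj AlgebraicGeometry
open AlgGrp

namespace Groth.Agent.S19517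

section
set_option backward.isDefEq.respectTransparency false
set_option linter.style.haveILetI false
set_option maxHeartbeats 1000000
attribute [-instance] CategoryTheory.Hom.commGroup

variable {k : Type u} [Field k]

/-- A group scheme over a field has the dimension of its identity component. -/
theorem krullDim_eq_component (Γ : Over (Spec (CommRingCat.of k))) [GrpObj Γ] [LocallyOfFiniteType Γ.hom] :
    topologicalKrullDim ↥Γ.left = topologicalKrullDim ↥(connectedComponent (Groth.Agent.GrpField.unitPt Γ)) := by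
  refine le_antisymm ?_ (topologicalKrullDim_subspace_le _ _)
  let a : AlgGrp.Action Γ Γ := { act := μ[Γ], one_act := MonObj.one_mul Γ, mul_act := MonObj.mul_assoc Γ }
  haveI : IsIso (lift a.act (snd Γ Γ)) := by
    refine ⟨lift (fst Γ Γ * (snd Γ Γ)⁻¹) (snd Γ Γ), ?_, ?_⟩ <;> refine CartesianMonoidalCategory.hom_ext _ _ ?_ ?_
    · rw [Category.assoc, lift_fst, MonObj.comp_mul, GrpObj.comp_inv, lift_fst, lift_snd, Category.id_comp]
      show μ[Γ] * _ = _
      rw [MonObj.mul_eq_mul, mul_inv_cancel_right]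
    · rw [Category.assoc, lift_snd, lift_snd, Category.id_comp]
    · rw [Category.assoc, lift_fst, Category.id_comp]
      show _ ≫ μ[Γ] = _
      rw [MonObj.mul_eq_mul, MonObj.comp_mul, lift_fst, lift_snd, inv_mul_cancel_right]
    · rw [Category.assoc, lift_snd, lift_snd, Category.id_comp]
  haveI : IsIso (lift a.act (snd Γ Γ)).left := inferInstanceAs (IsIso ((Over.forget _).map (lift a.act (snd Γ Γ))))
  rw [Groth.Agent.S10831.result ↥Γ.left]
  refine iSup₂_le fun Y hY => ?_
  obtain ⟨y, hy⟩ := hY.1.1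
  rw [Groth.Agent.HomogDim.krullDim_connectedComponent_eq a inferInstance (Groth.Agent.GrpField.unitPt Γ) y]
  have hsub : Y ⊆ connectedComponent y := hY.1.isConnected.isPreconnected.subset_connectedComponent hy
  exact Topology.IsInducing.topologicalKrullDim_le (f := Set.inclusion hsub) (Topology.IsEmbedding.inclusion hsub).isInducing

/-- A morphism from a connected reduced group into a subgroup lands in its identity component. -/
theorem exists_lift_component {G Γ H Z : Over (Spec (CommRingCat.of k))} [GrpObj G] [GrpObj Γ] [GrpObj Z]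
    (iΓ : Γ ⟶ G) [IsMonHom iΓ] [IsClosedImmersion iΓ.left] (e : H ⟶ Γ) [IsClosedImmersion e.left]
    (her : Set.range e.left.base = connectedComponent (Groth.Agent.GrpField.unitPt Γ))
    [AlgebraicGeometry.IsReduced Z.left] [ConnectedSpace Z.left]
    (u : Z ⟶ G) [IsMonHom u] (h : Set.range u.left.base ⊆ Set.range iΓ.left.base) : ∃ v : Z ⟶ H, v ≫ e ≫ iΓ = u := by
  haveI : Mono iΓ := Over.mono_of_mono_left iΓ
  obtain ⟨w, hw⟩ := Groth.Agent.DensePts.factors_of_range u iΓ h
  obtain ⟨v, hv⟩ := Groth.Agent.DensePts.factors_of_range w e (by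
    rw [her]
    refine (isPreconnected_range w.left.continuous).subset_connectedComponent
      ⟨(η[Z] : 𝟙_ (Over (Spec (CommRingCat.of k))) ⟶ Z).left.base (IsLocalRing.closedPoint k), ?_⟩
    have h1 : η[Z] ≫ w = η[Γ] := by rw [← cancel_mono iΓ, Category.assoc, hw, IsMonHom.one_hom, IsMonHom.one_hom]
    exact congr($(h1).left.base _))
  exact ⟨v, by rw [← Category.assoc, hv, hw]⟩

/-- Conjugation by a rational point. -/
theorem isMonHom_conj {G Z : Over (Spec (CommRingCat.of k))} [GrpObj G] [GrpObj Z]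
    (g : 𝟙_ (Over (Spec (CommRingCat.of k))) ⟶ G) (u : Z ⟶ G) [IsMonHom u] :
    IsMonHom ((toUnit Z ≫ g) * u * (toUnit Z ≫ g)⁻¹) := by
  refine { one_hom := ?_, mul_hom := ?_ }
  · rw [MonObj.comp_mul, MonObj.comp_mul, GrpObj.comp_inv, IsMonHom.one_hom (f := u), comp_toUnit_assoc,
      show (η[G] : 𝟙_ (Over (Spec (CommRingCat.of k))) ⟶ G) = 1 from by
        rw [Hom.one_def, toUnit_unique (toUnit _) (𝟙 _), Category.id_comp], _root_.mul_one, mul_inv_cancel]
  · have e : μ[Z] ≫ u = (fst Z Z ≫ u) * (snd Z Z ≫ u) := by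
      rw [IsMonHom.mul_hom, MonObj.mul_eq_mul, MonObj.comp_mul, tensorHom_fst, tensorHom_snd]
    conv_rhs => rw [MonObj.mul_eq_mul, MonObj.comp_mul, tensorHom_fst, tensorHom_snd]
    rw [MonObj.comp_mul, MonObj.comp_mul, GrpObj.comp_inv, e, comp_toUnit_assoc]
    simp only [MonObj.comp_mul, GrpObj.comp_inv, comp_toUnit_assoc]
    group

variable [IsAlgClosed k] {G K N NK : Over (Spec (CommRingCat.of k))} [GrpObj G] [Smooth G.hom] [QuasiCompact G.hom]
  [GrpObj K] [QuasiCompact K.hom] [LocallyOfFiniteType K.hom] [GrpObj N] [GrpObj NK]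
  (j : K ⟶ G) [IsMonHom j] [IsClosedImmersion j.left] (hK : AlgGrp.IsNormalHom j)
  (i : N ⟶ G) [IsMonHom i] [IsClosedImmersion i.left] [Smooth N.hom] [ConnectedSpace ↥N.left] [IsAffine N.left]
  (hN : AlgGrp.IsNormalHom i)
  (iK : NK ⟶ K) [IsMonHom iK] [IsClosedImmersion iK.left] [Smooth NK.hom] [ConnectedSpace ↥NK.left] [IsAffine NK.left]
  (hNK : AlgGrp.IsNormalHom iK)

omit [QuasiCompact G.hom] in
theorem normal_of_pts [LocallyOfFiniteType G.hom] [QuasiCompact G.hom] {H : Over (Spec (CommRingCat.of k))} [GrpObj H]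
    (h : H ⟶ G) [IsMonHom h] [IsClosedImmersion h.left] [Smooth H.hom]
    (hc : ∀ g : 𝟙_ (Over (Spec (CommRingCat.of k))) ⟶ G, ∃ v : H ⟶ H, v ≫ h = (toUnit H ≫ g) * h * (toUnit H ≫ g)⁻¹) :
    AlgGrp.IsNormalHom h := by
  haveI : LocallyOfFiniteType H.hom := by rw [← Over.w h]; infer_instance
  haveI : QuasiCompact H.hom := by rw [← Over.w h]; infer_instance
  refine Groth.Agent.S8000.result k k G H h ?_
  intro g x
  have hT : Spec.map (CommRingCat.ofHom (algebraMap k k)) = 𝟙 (Spec (CommRingCat.of k)) := by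
    rw [show algebraMap k k = RingHom.id k from rfl, CommRingCat.ofHom_id, Spec.map_id]
  let e : Over.mk (Spec.map (CommRingCat.ofHom (algebraMap k k))) ⟶ 𝟙_ (Over (Spec (CommRingCat.of k))) :=
    Over.homMk (𝟙 _) ((Category.id_comp _).trans hT.symm)
  let e' : 𝟙_ (Over (Spec (CommRingCat.of k))) ⟶ Over.mk (Spec.map (CommRingCat.ofHom (algebraMap k k))) :=
    Over.homMk (𝟙 _) ((Category.id_comp _).trans hT)
  have hee : e ≫ e' = 𝟙 _ := Over.OverMorphism.ext (Category.id_comp _)
  obtain ⟨v, hv⟩ := hc (e' ≫ g)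
  refine ⟨x ≫ v, ?_⟩
  rw [Category.assoc, hv, MonObj.comp_mul, MonObj.comp_mul, GrpObj.comp_inv, comp_toUnit_assoc,
    toUnit_unique (toUnit _) e, reassoc_of% hee]

include hK hN hNK in
theorem main (hNmax : (∀ (N' : Over (Spec (CommRingCat.of k))) [GrpObj N'] (i' : N' ⟶ G) [IsMonHom i'] [IsClosedImmersion i'.left]
      [Smooth N'.hom] [ConnectedSpace ↥N'.left] [IsAffine N'.left], AlgGrp.IsNormalHom i' → ∃ f : N' ⟶ N, f ≫ i = i'))
    (hNKmax : (∀ (N' : Over (Spec (CommRingCat.of k))) [GrpObj N'] (i' : N' ⟶ K) [IsMonHom i'] [IsClosedImmersion i'.left]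
      [Smooth N'.hom] [ConnectedSpace ↥N'.left] [IsAffine N'.left], AlgGrp.IsNormalHom i' → ∃ f : N' ⟶ NK, f ≫ iK = i')) :
    (∃ g : NK ⟶ N, g ≫ i = iK ≫ j) ∧
      topologicalKrullDim ↥NK.left = topologicalKrullDim ↥(Limits.pullback j.left i.left) := by
  haveI : IsSeparated G.hom := Groth.Agent.GrpField.isSeparated_grp
  haveI : Mono j := Over.mono_of_mono_left j
  haveI : Mono i := Over.mono_of_mono_left i
  haveI : AlgebraicGeometry.IsReduced NK.left := AlgSpLib.isReduced_of_smooth NK.hom
  let u : NK ⟶ G := iK ≫ j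
  haveI : IsClosedImmersion u.left := by rw [Over.comp_left]; infer_instance
  haveI : Mono u := Over.mono_of_mono_left u
  -- the largest one of the normal subgroup is normal
  have hu : AlgGrp.IsNormalHom u := by
    refine normal_of_pts u fun g => ?_
    obtain ⟨c, hc⟩ := hK NK (toUnit NK ≫ g) iK
    obtain ⟨cK, hcK⟩ := hK K (toUnit K ≫ g) (𝟙 K)
    obtain ⟨cK', hcK'⟩ := hK K (toUnit K ≫ g⁻¹) (𝟙 K)
    rw [Category.id_comp] at hcK hcK'
    have hcm : ∀ {T : Over (Spec (CommRingCat.of k))} (x : T ⟶ K),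
        (x ≫ cK) ≫ j = (toUnit T ≫ g) * (x ≫ j) * (toUnit T ≫ g)⁻¹ := fun x => by
      rw [Category.assoc, ← hcK, MonObj.comp_mul, MonObj.comp_mul, GrpObj.comp_inv, comp_toUnit_assoc]
    have hcm' : ∀ {T : Over (Spec (CommRingCat.of k))} (x : T ⟶ K),
        (x ≫ cK') ≫ j = (toUnit T ≫ g)⁻¹ * (x ≫ j) * (toUnit T ≫ g) := fun x => by
      rw [Category.assoc, ← hcK']
      simp only [MonObj.comp_mul, GrpObj.comp_inv, comp_toUnit_assoc, _root_.inv_inv]
    have hi' : IsMonHom (iK ≫ cK) := by
      haveI := isMonHom_conj g u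
      haveI : IsMonHom ((iK ≫ cK) ≫ j) := by rw [hcm]; infer_instance
      refine { one_hom := ?_, mul_hom := ?_ }
      · rw [← cancel_mono j, Category.assoc, IsMonHom.one_hom, IsMonHom.one_hom]
      · rw [← cancel_mono j, Category.assoc, IsMonHom.mul_hom (f := (iK ≫ cK) ≫ j), Category.assoc (iK ≫ cK ⊗ₘ iK ≫ cK),
          IsMonHom.mul_hom (f := j), MonoidalCategory.tensorHom_comp_tensorHom_assoc]
    haveI := hi'
    have hinv : cK ≫ cK' = 𝟙 K := by
      rw [← cancel_mono j, hcm', Category.id_comp]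
      have h := hcm (𝟙 K)
      rw [Category.id_comp, Category.id_comp] at h
      rw [h]; group
    haveI : IsClosedImmersion (iK ≫ cK).left := by
      haveI : IsIso cK := ⟨cK', hinv, by
        rw [← cancel_mono j, hcm, Category.id_comp]
        have h := hcm' (𝟙 K)
        rw [Category.id_comp, Category.id_comp] at h
        rw [h]; group⟩
      haveI : IsIso cK.left := inferInstanceAs (IsIso ((Over.forget _).map cK))
      rw [Over.comp_left]; infer_instance
    obtain ⟨f, hf⟩ := hNKmax NK (iK ≫ cK) (fun T x n => by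
      obtain ⟨n', hn'⟩ := hNK T (x ≫ cK') n
      refine ⟨n', ?_⟩
      rw [← cancel_mono j, ← Category.assoc n', hcm, ← hn']
      simp only [MonObj.mul_comp, GrpObj.inv_comp, hcm', ← Category.assoc n, hcm]
      group)
    refine ⟨f, ?_⟩
    show f ≫ iK ≫ j = _
    rw [← Category.assoc, hf, hcm]
  refine ⟨hNmax NK u hu, ?_⟩
  obtain ⟨gN, hgN⟩ := hNmax NK u hu
  -- the intersection
  let P := pullback j i
  let ip : P ⟶ G := pullback.snd j i ≫ i
  haveI : IsClosedImmersion (pullback.snd j i).left := MorphismProperty.of_isPullback (P := @IsClosedImmersion)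
    ((IsPullback.of_hasPullback j i).map (Over.forget _)) (show IsClosedImmersion j.left from ‹_›)
  haveI : IsClosedImmersion ip.left := by rw [Over.comp_left]; infer_instance
  haveI : Mono ip := Over.mono_of_mono_left ip
  have hip : pullback.fst j i ≫ j = ip := pullback.condition
  have hlift : ∀ {T : Over (Spec (CommRingCat.of k))} (a : T ⟶ K) (b : T ⟶ N), a ≫ j = b ≫ i →
      ∃ p : T ⟶ P, p ≫ ip = b ≫ i := fun a b h => ⟨pullback.lift a b h, by
    show _ ≫ pullback.snd j i ≫ i = _
    rw [pullback.lift_snd_assoc]⟩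
  obtain ⟨hPg, hPm⟩ : ∃ _ : GrpObj P, IsMonHom ip := by
    refine Groth.Agent.SubDesc.exists_grpObj_of_mono ip ?_ ?_ ?_
    · obtain ⟨m, hm⟩ := hlift ((fst P P ≫ pullback.fst j i) * (snd P P ≫ pullback.fst j i))
        ((fst P P ≫ pullback.snd j i) * (snd P P ≫ pullback.snd j i)) (by
          simp only [MonObj.mul_comp, Category.assoc, pullback.condition])
      exact ⟨m, by rw [hm]; simp only [MonObj.mul_comp, Category.assoc, ip]⟩
    · obtain ⟨e, he⟩ := hlift (1 : 𝟙_ _ ⟶ K) (1 : 𝟙_ _ ⟶ N) (by rw [MonObj.one_comp, MonObj.one_comp])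
      exact ⟨e, by rw [he, MonObj.one_comp]⟩
    · obtain ⟨n, hn⟩ := hlift (pullback.fst j i)⁻¹ (pullback.snd j i)⁻¹ (by
        rw [GrpObj.inv_comp, GrpObj.inv_comp, pullback.condition])
      exact ⟨n, by rw [hn, GrpObj.inv_comp]⟩
  let I := Scheme.IdealSheafData.vanishingIdeal (X := P.left) ⟨Set.univ, isClosed_univ⟩
  let R : Over (Spec (CommRingCat.of k)) := Over.mk (I.subschemeι ≫ P.hom)
  let r : R ⟶ P := Over.homMk I.subschemeι rfl
  haveI : LocallyOfFiniteType P.hom := by rw [← Over.w ip]; infer_instance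
  haveI : AlgebraicGeometry.IsReduced R.left := DevissLib.isReduced_vanishingIdeal' _
  haveI : LocallyOfFiniteType R.hom := inferInstanceAs (LocallyOfFiniteType (I.subschemeι ≫ P.hom))
  haveI : GeometricallyReduced R.hom := AVAmpleLib.gr_of_isReduced R.hom
  obtain ⟨Γ, _, iΓ, hi, hci, hred, hgr, hr, -, f', hf'⟩ := Groth.Agent.GenSub.exists_generated (r ≫ ip)
  haveI := hi; haveI := hci; haveI := hred; haveI := hgr
  haveI := hPm
  obtain ⟨c, hc⟩ := Groth.Agent.GenSub.le_of_factors (r ≫ ip) iΓ hr ip r rfl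
  have hrange : Set.range iΓ.left.base = Set.range ip.left.base := by
    refine Set.Subset.antisymm ?_ ?_
    · rintro _ ⟨x, rfl⟩
      exact ⟨c.left.base x, congr($(hc).left.base x)⟩
    · rintro _ ⟨x, rfl⟩
      have : x ∈ Set.range I.subschemeι := by
        rw [Scheme.IdealSheafData.range_subschemeι, Scheme.IdealSheafData.coe_support_vanishingIdeal]; trivial
      obtain ⟨y, hy⟩ := this
      exact ⟨f'.left.base y, (congr($(hf').left.base y)).trans (congrArg ip.left.base hy)⟩
  haveI : LocallyOfFiniteType Γ.hom := by rw [← Over.w iΓ]; infer_instance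
  obtain ⟨H, _, e, he, hec, hef, her, hei, -⟩ := Groth.Agent.GrpField.exists_identity_component (G := Γ)
  haveI := he; haveI := hec; haveI := hef; haveI := hei
  rw [← Groth.Agent.GrpField.connectedComponent_unit] at her
  haveI : IsLocallyNoetherian Γ.left := LocallyOfFiniteType.isLocallyNoetherian Γ.hom
  haveI : IsOpenImmersion e.left := IsOpenImmersion.of_flat_of_mono e.left
  haveI : GeometricallyReduced H.hom := by rw [← Over.w e]; exact GeomRedFieldLib.gr_comp Γ.hom e.left
  haveI : LocallyOfFiniteType H.hom := by rw [← Over.w e]; infer_instance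
  haveI : Smooth H.hom := AlbLib.smooth_grp H
  haveI : AlgebraicGeometry.IsReduced H.left := AlgSpLib.isReduced_of_smooth H.hom
  haveI : IrreducibleSpace H.left := GeometricallyIrreducible.irreducibleSpace_of_subsingleton H.hom
  haveI : ConnectedSpace H.left := IrreducibleSpace.connectedSpace _
  let hH : H ⟶ G := e ≫ iΓ
  haveI : IsClosedImmersion hH.left := by rw [Over.comp_left]; infer_instance
  obtain ⟨hHN, hhHN⟩ : ∃ v : H ⟶ N, v ≫ i = hH := ⟨(e ≫ c) ≫ pullback.snd j i, by
    rw [Category.assoc, Category.assoc]; exact congrArg (e ≫ ·) hc⟩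
  obtain ⟨hHK, hhHK⟩ : ∃ v : H ⟶ K, v ≫ j = hH := ⟨(e ≫ c) ≫ pullback.fst j i, by
    rw [Category.assoc, Category.assoc, hip]; exact congrArg (e ≫ ·) hc⟩
  have hHn : AlgGrp.IsNormalHom hH := by
    refine normal_of_pts hH fun g => ?_
    haveI := isMonHom_conj g hH
    refine exists_lift_component iΓ e her _ ?_
    obtain ⟨a, ha⟩ := hK H (toUnit H ≫ g) hHK
    obtain ⟨b, hb⟩ := hN H (toUnit H ≫ g) hHN
    rw [hhHK] at ha
    rw [hhHN] at hb
    obtain ⟨p, hp⟩ := hlift a b (ha.symm.trans hb)
    rw [hrange, hb]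
    rintro _ ⟨x, rfl⟩
    exact ⟨p.left.base x, congr($(hp).left.base x)⟩
  haveI : IsMonHom hHK := by
    refine { one_hom := ?_, mul_hom := ?_ }
    · rw [← cancel_mono j, Category.assoc, hhHK, IsMonHom.one_hom, IsMonHom.one_hom]
    · rw [← cancel_mono j, Category.assoc, hhHK, IsMonHom.mul_hom, Category.assoc, IsMonHom.mul_hom (f := j),
        MonoidalCategory.tensorHom_comp_tensorHom_assoc, hhHK]
  haveI : IsClosedImmersion hHK.left := by
    haveI : IsClosedImmersion (hHK.left ≫ j.left) := by rw [← Over.comp_left, hhHK]; infer_instance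
    exact IsClosedImmersion.of_comp hHK.left j.left
  haveI : IsClosedImmersion hHN.left := by
    haveI : IsClosedImmersion (hHN.left ≫ i.left) := by rw [← Over.comp_left, hhHN]; infer_instance
    exact IsClosedImmersion.of_comp hHN.left i.left
  haveI : IsAffine H.left := isAffine_of_isAffineHom hHN.left
  obtain ⟨f1, hf1⟩ := hNKmax H hHK (fun T x n => by
    obtain ⟨n', hn'⟩ := hHn T (x ≫ j) n
    refine ⟨n', ?_⟩
    rw [← cancel_mono j, MonObj.mul_comp, MonObj.mul_comp, GrpObj.inv_comp, Category.assoc, Category.assoc, hhHK, hn'])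
  obtain ⟨f2, hf2⟩ := exists_lift_component iΓ e her u (by
    rw [hrange]
    obtain ⟨p, hp⟩ := hlift iK gN hgN.symm
    rintro _ ⟨x, rfl⟩
    exact ⟨p.left.base x, (congr($(hp).left.base x)).trans congr($(hgN).left.base x)⟩)
  have hr2 : Set.range u.left.base = Set.range hH.left.base := by
    refine Set.Subset.antisymm ?_ ?_
    · rintro _ ⟨x, rfl⟩
      exact ⟨f2.left.base x, congr($(hf2).left.base x)⟩
    · rintro _ ⟨x, rfl⟩
      have h : f1 ≫ u = hH := by rw [← Category.assoc, hf1, hhHK]
      exact ⟨f1.left.base x, congr($(h).left.base x)⟩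
  have sq : IsPullback (pullback.fst j i).left (pullback.snd j i).left j.left i.left :=
    (IsPullback.of_hasPullback j i).map (Over.forget _)
  have hemb : ∀ {A B : Scheme.{u}} (a : A ⟶ B) [IsClosedImmersion a],
      topologicalKrullDim ↥A = topologicalKrullDim ↥(Set.range a.base) := fun a _ =>
    (a.isClosedEmbedding.isEmbedding.toHomeomorph.isHomeomorph).topologicalKrullDim_eq _
  calc topologicalKrullDim ↥NK.left = topologicalKrullDim ↥(Set.range u.left.base) := hemb u.left
    _ = topologicalKrullDim ↥(Set.range hH.left.base) := by rw [hr2]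
    _ = topologicalKrullDim ↥H.left := (hemb hH.left).symm
    _ = topologicalKrullDim ↥(Set.range e.left.base) := hemb e.left
    _ = topologicalKrullDim ↥Γ.left := by rw [her, krullDim_eq_component Γ]
    _ = topologicalKrullDim ↥(Set.range iΓ.left.base) := hemb iΓ.left
    _ = topologicalKrullDim ↥(Set.range ip.left.base) := by rw [hrange]
    _ = topologicalKrullDim ↥P.left := (hemb ip.left).symm
    _ = _ := (Scheme.homeoOfIso sq.isoPullback).isHomeomorph.topologicalKrullDim_eq _

end

attribute [-instance] CategoryTheory.Hom.commGroup in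
set_option backward.isDefEq.respectTransparency false in
/-- Linear part, the assertion on the kernel: over an algebraically closed field k let G be a smooth
k-group scheme of finite type, j : K → G a closed normal subgroup scheme of finite type, i : G_lin →
G the largest smooth connected affine normal closed subgroup scheme of G and i_K : K_lin → K the
largest smooth connected affine normal closed subgroup scheme of K. Then K_lin is contained in
G_lin, and K_lin has finite index in K ∩ G_lin in the sense that K_lin and the fibre product K ×_G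
G_lin have the same dimension (K_lin is the reduced identity component of K ∩ G_lin). (The published
proposition is stated for an exact sequence e → K → G → Q → e of arbitrary algebraic groups and also
for unipotent and solvable parts; G is assumed smooth here, and only the linear part is stated.) -/
theorem result (k : Type u) [Field k] [IsAlgClosed k]
    (G : Over (Spec (CommRingCat.of k))) [GrpObj G] [Smooth G.hom] [QuasiCompact G.hom]
    (K : Over (Spec (CommRingCat.of k))) [GrpObj K] [QuasiCompact K.hom] [LocallyOfFiniteType K.hom]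
    (j : K ⟶ G) [IsMonHom j] [IsClosedImmersion j.left] (hK : AlgGrp.IsNormalHom j)
    (N : Over (Spec (CommRingCat.of k))) [GrpObj N] (i : N ⟶ G) [IsMonHom i] [IsClosedImmersion i.left]
    [Smooth N.hom] [ConnectedSpace ↥N.left] [IsAffine N.left] (hN : AlgGrp.IsNormalHom i)
    (hNmax : (∀ (N' : Over (Spec (CommRingCat.of k))) [GrpObj N'] (i' : N' ⟶ G) [IsMonHom i'] [IsClosedImmersion i'.left]
      [Smooth N'.hom] [ConnectedSpace ↥N'.left] [IsAffine N'.left], AlgGrp.IsNormalHom i' → ∃ f : N' ⟶ N, f ≫ i = i'))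
    (NK : Over (Spec (CommRingCat.of k))) [GrpObj NK] (iK : NK ⟶ K) [IsMonHom iK] [IsClosedImmersion iK.left]
    [Smooth NK.hom] [ConnectedSpace ↥NK.left] [IsAffine NK.left] (hNK : AlgGrp.IsNormalHom iK)
    (hNKmax : (∀ (N' : Over (Spec (CommRingCat.of k))) [GrpObj N'] (i' : N' ⟶ K) [IsMonHom i'] [IsClosedImmersion i'.left]
      [Smooth N'.hom] [ConnectedSpace ↥N'.left] [IsAffine N'.left], AlgGrp.IsNormalHom i' → ∃ f : N' ⟶ NK, f ≫ iK = i')) :
    (∃ g : NK ⟶ N, g ≫ i = iK ≫ j) ∧
      topologicalKrullDim ↥NK.left = topologicalKrullDim ↥(pullback j.left i.left) := by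
  exact main j hK i hN iK hNK hNmax hNKmax

end Groth.Agent.S19517
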