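import Groth.Statements.S19518
import Groth.Agent.RadQuotLib.Geom
import Groth.Agent.RadQuotLib.Closed
import Groth.Agent.BorelLib.Perfect
import Groth.Agent.BorelLib.Schemes
import Groth.Agent.BorelLib.NonAffBasic
import Groth.Agent.BorelLib.Cent
import Groth.Agent.S3278
import Groth.Agent.S17093
-- import your own Groth.Agent.* helpers here

set_option autoImplicit false
set_option maxHeartbeats 4000000
set_option synthInstance.maxHeartbeats 400000
set_option backward.isDefEq.respectTransparency false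
universe u
open CategoryTheory CategoryTheory.Limits MonoidalCategory CartesianMonoidalCategory MonObj GrpObj AlgebraicGeometry
open AlgGrp

namespace Groth.Agent.S19518

attribute [-instance] CategoryTheory.Hom.commGroup

open Groth.Agent Groth.Agent.BorelLib
open CoactBr (sp)
open scoped commutatorElement
attribute [local instance] BorelLib.pTop BorelLib.pTopTensor

variable {k : Type u} [Field k] [IsAlgClosed k]
  {A : Type u} [CommRing A] [HopfAlgebra k A] [Algebra.FiniteType k A]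
  {A' : Type u} [CommRing A'] [HopfAlgebra k A'] [Algebra.FiniteType k A']
  {A'' : Type u} [CommRing A''] [HopfAlgebra k A''] [Algebra.FiniteType k A'']

/-- The image of a closed subgroup is closed. -/
theorem isClosed_map' {f : Pt k A →* Pt k A'} (hf : IsMor f) {H : Subgroup (Pt k A)}
    (hH : IsClosed (H : Set (Pt k A))) : IsClosed (H.map f : Set (Pt k A')) := by
  obtain ⟨F, hFH, hF⟩ := exists_neut_cosets hH
  have h1 := (BorelLib.isClosed_map hf (isClosed_neut hH) (isPreconnected_neut H)).1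
  have e : (H.map f : Set (Pt k A')) = ⋃ r ∈ F, (fun z => (f r)⁻¹ * z) ⁻¹' ((neut H).map f : Set (Pt k A')) := by
    ext y
    simp only [Set.mem_iUnion, Set.mem_preimage, SetLike.mem_coe, Subgroup.mem_map, exists_prop]
    constructor
    · rintro ⟨x, hx, rfl⟩
      obtain ⟨r, hr, hrx⟩ := hF x hx
      exact ⟨r, hr, r⁻¹ * x, hrx, by rw [map_mul, map_inv]⟩
    · rintro ⟨r, hr, z, hz, hzy⟩
      exact ⟨r * z, H.mul_mem (hFH r hr) (neut_le _ hz), by rw [map_mul, hzy, mul_inv_cancel_left]⟩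
  rw [e]
  exact Set.Finite.isClosed_biUnion F.finite_toSet fun r _ => h1.preimage (BorelLib.continuous_const_mul _)

/-- A connected subgroup in the image of a closed subgroup lies in the image of its neutral component. -/
theorem le_map_neut {f : Pt k A →* Pt k A'} (hf : IsMor f) {H : Subgroup (Pt k A)} (hH : IsClosed (H : Set (Pt k A)))
    {N : Subgroup (Pt k A')} (hN : _root_.IsPreconnected (N : Set (Pt k A'))) (hle : N ≤ H.map f) :
    N ≤ (neut H).map f := by
  classical
  obtain ⟨F, hFH, hF⟩ := exists_neut_cosets hH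
  set C := (neut H).map f with hC
  have hCc : IsClosed (C : Set (Pt k A')) := (BorelLib.isClosed_map hf (isClosed_neut hH) (isPreconnected_neut H)).1
  let bad := F.filter fun r => f r ∉ C
  have hrest : IsClosed (⋃ r ∈ bad, (fun z => (f r)⁻¹ * z) ⁻¹' (C : Set (Pt k A'))) :=
    Set.Finite.isClosed_biUnion bad.finite_toSet fun r _ => hCc.preimage (BorelLib.continuous_const_mul _)
  have hcov : ∀ x ∈ N, x ∈ C ∨ x ∈ ⋃ r ∈ bad, (fun z => (f r)⁻¹ * z) ⁻¹' (C : Set (Pt k A')) := fun x hx => by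
    obtain ⟨y, hy, rfl⟩ := hle hx
    obtain ⟨r, hr, hry⟩ := hF y hy
    have h1 : (f r)⁻¹ * f y ∈ C := ⟨_, hry, by rw [map_mul, map_inv]⟩
    by_cases hrC : f r ∈ C
    · left
      simpa using C.mul_mem hrC h1
    · right
      exact Set.mem_biUnion (Finset.mem_filter.2 ⟨hr, hrC⟩) h1
  intro x hx
  by_contra hxC
  obtain ⟨z, hz, hzC, hzr⟩ := isPreconnected_closed_iff.1 hN _ _ hCc hrest (fun x hx => hcov x hx)
    ⟨1, N.one_mem, C.one_mem⟩ ⟨x, hx, (hcov x hx).resolve_left hxC⟩
  simp only [Set.mem_iUnion, Set.mem_preimage, SetLike.mem_coe, exists_prop] at hzr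
  obtain ⟨r, hr, hrz⟩ := hzr
  refine (Finset.mem_filter.1 hr).2 ?_
  have := C.mul_mem hzC (C.inv_mem hrz)
  simpa [_root_.mul_inv_rev] using this

/-- A homomorphism of schemes on points. -/
theorem exists_pts_hom {G G' : Over (Spec (CommRingCat.of k))} [GrpObj G] [GrpObj G'] [IsAffine G.left] [Smooth G.hom]
    [IsAffine G'.left] [Smooth G'.hom] (v : sp k A ≅ G) [IsMonHom v.hom] (w : sp k A' ≅ G') [IsMonHom w.hom]
    (q : G ⟶ G') [IsMonHom q] :
    ∃ f : Pt k A →* Pt k A', IsMor f ∧ ∀ x, ptEquiv w (f x) = ptEquiv v x ≫ q := by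
  obtain ⟨ψ, hψ⟩ := Groth.Agent.DiagRep.exists_pt (A := A') (C := A) (v.hom ≫ q ≫ w.inv)
  let f : Pt k A →* Pt k A' := ((ptEquiv w).symm.toMonoidHom.comp (ptHom q)).comp (ptEquiv v).toMonoidHom
  have hfv : ∀ x, ptEquiv w (f x) = ptEquiv v x ≫ q := fun x => (ptEquiv w).apply_symm_apply _
  have hf : ∀ x, f x = pull ψ x := fun x => (ptEquiv w).injective (by
    rw [hfv]
    show (_ ≫ CoactBr.pt x.ofConv ≫ v.hom) ≫ _ = _ ≫ CoactBr.pt (x.ofConv.comp ψ) ≫ w.hom
    rw [CoactBr.pt_comp, ← hψ]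
    simp only [Category.assoc, w.inv_hom_id]
    erw [Category.comp_id])
  exact ⟨f, ⟨ψ, hf⟩, hfv⟩

/-- **Connected solvable normal subgroups of an image come from the radical.** -/
theorem le_map_radSub (hconn : _root_.IsPreconnected (Set.univ : Set (Pt k A))) {f : Pt k A →* Pt k A'} (hf : IsMor f)
    {g : Pt k A →* Pt k A''} (hg : IsMor g) (hgs : Function.Surjective g) (hss : IsSSPts k A'')
    (hker : g.ker = radSub k A) {N : Subgroup (Pt k A')} (hNc : IsClosed (N : Set (Pt k A')))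
    (hNp : _root_.IsPreconnected (N : Set (Pt k A'))) (hNn : ∀ a, BorelLib.conjSub a N ≤ N) (hNs : IsSol N)
    (hNf : N ≤ (⊤ : Subgroup (Pt k A)).map f) : N ≤ (radSub k A).map f := by
  have hconn'' : _root_.IsPreconnected (Set.univ : Set (Pt k A'')) := by
    rw [← hgs.range_eq, ← Set.image_univ]
    exact hconn.image _ hg.continuous.continuousOn
  set P := neut (N.comap f) with hP
  have hPc : IsClosed (P : Set (Pt k A)) := isClosed_neut (hNc.preimage hf.continuous)
  have hNP : N ≤ P.map f := le_map_neut hf (hNc.preimage hf.continuous) hNp fun x hx => by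
    obtain ⟨y, -, rfl⟩ := hNf hx
    exact ⟨y, hx, rfl⟩
  have hPn : ∀ a, BorelLib.conjSub a P ≤ P := fun a => le_neut (isPreconnected_conjSub (isPreconnected_neut _))
    ((conjSub_mono (neut_le _)).trans (by
      rintro _ ⟨x, hx, rfl⟩
      exact hNn (f a) ⟨f x, hx, by simp⟩))
  obtain ⟨hMc, hMp⟩ := BorelLib.isClosed_map hg hPc (isPreconnected_neut _)
  have hMn : ∀ b, BorelLib.conjSub b (P.map g) ≤ P.map g := fun b => by
    obtain ⟨a, rfl⟩ := hgs b
    rw [← BorelLib.map_conjSub]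
    exact Subgroup.map_mono (hPn a)
  have key : ∀ n, P.map g ≤ (P ⊓ (clSub (der N n)).comap f).map g := by
    intro n
    induction n with
    | zero => exact Subgroup.map_mono (le_inf le_rfl ((neut_le _).trans (Subgroup.comap_mono (le_clSub _))))
    | succ n ih =>
      refine hss.le_of_commutators hconn'' hMc hMp hMn
        (isClosed_map' hg (hPc.inter ((isClosed_clSub _).preimage hf.continuous))) fun a ha b hb => ?_
      obtain ⟨a, ⟨ha1, ha2⟩, rfl⟩ := ih ha
      obtain ⟨b, ⟨hb1, hb2⟩, rfl⟩ := ih hb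
      refine ⟨⁅a, b⁆, ⟨?_, ?_⟩, map_commutatorElement g a b⟩
      · exact P.mul_mem (P.mul_mem (P.mul_mem ha1 hb1) (P.inv_mem ha1)) (P.inv_mem hb1)
      · show f ⁅a, b⁆ ∈ clSub (der N (n + 1))
        rw [map_commutatorElement, der_succ]
        exact commutator_clSub_le _ (Subgroup.commutator_mem_commutator ha2 hb2)
  obtain ⟨n, hn⟩ := hNs
  intro x hx
  obtain ⟨p, hp, rfl⟩ := hNP hx
  obtain ⟨q, ⟨-, hq⟩, hgq⟩ := key n ⟨p, hp, rfl⟩
  replace hq : f q ∈ clSub (der N n) := hq
  rw [hn, clSub_bot, Subgroup.mem_bot] at hq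
  refine ⟨q⁻¹ * p, ?_, by rw [map_mul, map_inv, hq, inv_one, _root_.one_mul]⟩
  rw [SetLike.mem_coe, ← hker, MonoidHom.mem_ker, map_mul, map_inv, hgq, inv_mul_cancel]

/-- Over an algebraically closed field k let e → K → G → Q → e be an exact sequence of k-group schemes
of finite type with G smooth and affine (i : K → G a closed subgroup scheme which is the kernel of
the flat surjective homomorphism π : G → Q), and let G_solv ⊆ G and Q_solv ⊆ Q be the largest smooth
connected solvable normal closed subgroup schemes. Then π maps G_solv into Q_solv and the induced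
homomorphism G_solv → Q_solv is surjective. (The published proposition is stated for arbitrary
algebraic groups; G is taken smooth, as the argument requires, and affine, the setting in which the
solvable part is considered.) -/
theorem result (k : Type u) [Field k] [IsAlgClosed k]
    (K G Q : Over (Spec (CommRingCat.of k))) [GrpObj K] [GrpObj G] [GrpObj Q]
    [QuasiCompact K.hom] [LocallyOfFiniteType K.hom] [Smooth G.hom] [QuasiCompact G.hom] [IsAffine G.left]
    [QuasiCompact Q.hom] [LocallyOfFiniteType Q.hom]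
    (i : K ⟶ G) [IsMonHom i] [IsClosedImmersion i.left]
    (π : G ⟶ Q) [IsMonHom π] [Flat π.left] [Surjective π.left] (hker : AlgGrp.IsKernel i π)
    (NG : Over (Spec (CommRingCat.of k))) [GrpObj NG] (iG : NG ⟶ G) [IsMonHom iG] [IsClosedImmersion iG.left]
    [Smooth NG.hom] [ConnectedSpace ↥NG.left] (hNGs : Red.IsSolvableGrp NG) (hNG : AlgGrp.IsNormalHom iG)
    (hNGmax : (∀ (N' : Over (Spec (CommRingCat.of k))) [GrpObj N'] (i' : N' ⟶ G) [IsMonHom i'] [IsClosedImmersion i'.left]
      [Smooth N'.hom] [ConnectedSpace ↥N'.left], Red.IsSolvableGrp N' → AlgGrp.IsNormalHom i' → ∃ f : N' ⟶ NG, f ≫ iG = i'))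
    (NQ : Over (Spec (CommRingCat.of k))) [GrpObj NQ] (iQ : NQ ⟶ Q) [IsMonHom iQ] [IsClosedImmersion iQ.left]
    [Smooth NQ.hom] [ConnectedSpace ↥NQ.left] (hNQs : Red.IsSolvableGrp NQ) (hNQ : AlgGrp.IsNormalHom iQ)
    (hNQmax : (∀ (N' : Over (Spec (CommRingCat.of k))) [GrpObj N'] (i' : N' ⟶ Q) [IsMonHom i'] [IsClosedImmersion i'.left]
      [Smooth N'.hom] [ConnectedSpace ↥N'.left], Red.IsSolvableGrp N' → AlgGrp.IsNormalHom i' → ∃ f : N' ⟶ NQ, f ≫ iQ = i')) :
    ∃ f : NG ⟶ NQ, f ≫ iQ = iG ≫ π ∧ Surjective f.left := by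
  haveI := AntiAffLib.lfp_of_lft π
  haveI : Smooth Q.hom := by
    haveI : Smooth (π.left ≫ Q.hom) := by rw [Over.w π]; infer_instance
    exact FlatLib.smooth_of_fppf_comp π.left Q.hom
  haveI : IsAffine Q.left := AntiAffLib.isAffine_of_surjective_hom π
  haveI : IsAffine NG.left := isAffine_of_isAffineHom iG.left
  haveI : IsAffine NQ.left := isAffine_of_isAffineHom iQ.left
  haveI : AlgebraicGeometry.IsReduced NG.left := AlgSpLib.isReduced_of_smooth NG.hom
  haveI : Mono iQ := Over.mono_of_mono_left iQ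
  obtain ⟨A, _, _, v, hv, hA, hAr⟩ := BorelLib.exists_setup G
  obtain ⟨A', _, _, w, hw, hA', hAr'⟩ := BorelLib.exists_setup Q
  haveI := hv; haveI := hA; haveI := hw; haveI := hA'; haveI := hAr; haveI := hAr'
  obtain ⟨f, hf, hfs, hfv⟩ := RadQuot.exists_pts_map v w π
  have hNc := BorelLib.isClosed_ptsSub v (i := iG)
  have hNp := BorelLib.isPreconnected_ptsSub v (i := iG)
  -- the image is a solvable normal subgroup
  obtain ⟨hCc, hCp⟩ := BorelLib.isClosed_map hf hNc hNp
  have hCn : ∀ a, BorelLib.conjSub a ((ptsSub v iG).map f) ≤ (ptsSub v iG).map f := fun a => by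
    obtain ⟨b, rfl⟩ := hfs a
    rw [← BorelLib.map_conjSub]
    exact Subgroup.map_mono (BorelLib.conjSub_le_of_normal v hNG b)
  obtain ⟨C, _, c, hc, hcc, hcs, hcpts, hcconn, hcsol⟩ := BorelLib.exists_scheme_sub w hCc
  haveI := hc; haveI := hcc; haveI := hcs; haveI := hcconn hCp
  have hcn : AlgGrp.IsNormalHom c := BorelLib.isNormalHom_of_pts w (hcpts.symm ▸ hCn)
  obtain ⟨l, hl⟩ := hNQmax C c (hcsol ((BorelLib.isSol_ptsSub v hNGs).map f)) hcn
  have hCN : (ptsSub v iG).map f ≤ ptsSub w iQ := hcpts ▸ BorelLib.ptsSub_le_of_factor w hl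
  obtain ⟨φ, hφ⟩ := BorelLib.NA.exists_factor_of_pts (iG ≫ π) iQ fun a => by
    have hm : f ((ptEquiv v).symm (a ≫ iG)) ∈ ptsSub w iQ :=
      hCN ⟨_, ⟨a, ((ptEquiv v).apply_symm_apply _).symm⟩, rfl⟩
    obtain ⟨b, hb⟩ := (mem_ptsSub w).1 hm
    exact ⟨b, by rw [hb, hfv, (ptEquiv v).apply_symm_apply, Category.assoc]⟩
  refine ⟨φ, hφ, ?_⟩
  -- the neutral component
  have htop : IsClosed ((⊤ : Subgroup (Pt k A)) : Set (Pt k A)) := by rw [Subgroup.coe_top]; exact isClosed_univ
  obtain ⟨G₀, _, a, ham, hac, has, hapts, haconn, -⟩ := BorelLib.exists_scheme_sub v (isClosed_neut htop)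
  haveI := ham; haveI := hac; haveI := has; haveI := haconn (isPreconnected_neut _)
  haveI : IsAffine G₀.left := isAffine_of_isAffineHom a.left
  obtain ⟨B, _, _, v₀, hv₀, hB, hBr⟩ := BorelLib.exists_setup G₀
  haveI := hv₀; haveI := hB; haveI := hBr
  have hconn₀ := BorelLib.isPreconnected_univ_of_connected v₀
  obtain ⟨em, hι, hιv⟩ := exists_pts_hom v₀ v a
  haveI : Mono a := Over.mono_of_mono_left a
  have hιinj : Function.Injective em := fun x y e => (ptEquiv v₀).injective ((cancel_mono a).1 (by rw [← hιv, ← hιv, e]))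
  have hrange : em.range = neut ⊤ := by
    rw [← hapts]
    ext x
    rw [MonoidHom.mem_range, mem_ptsSub]
    constructor
    · rintro ⟨y, rfl⟩; exact ⟨_, (hιv y).symm⟩
    · rintro ⟨b, hb⟩
      exact ⟨(ptEquiv v₀).symm b, (ptEquiv v).injective (by rw [hιv, (ptEquiv v₀).apply_symm_apply, hb])⟩
  have hind : Topology.IsInducing em := by
    have hJ : ∀ {D : Type u} [CommRing D] [HopfAlgebra k D] {H : Over (Spec (CommRingCat.of k))} [GrpObj H]
        (u : sp k D ≅ H) [IsMonHom u.hom], Topology.IsInducing fun x : Pt k D => AVAmpleLib.pt (ptEquiv u x) := by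
      intro D _ _ H _ u _
      have e : (fun x : Pt k D => AVAmpleLib.pt (ptEquiv u x)) = (u.hom.left : _ → _) ∘ toP := funext fun x => pt_ptEquiv u x
      rw [e]
      exact (TopCat.homeoOfIso (Scheme.forgetToTop.mapIso ((Over.forget _).mapIso u))).isInducing.comp isInducing_toP
    refine Topology.IsInducing.of_comp hι.continuous (hJ v).continuous ?_
    have e : (fun x => AVAmpleLib.pt (ptEquiv v x)) ∘ em = (a.left : _ → _) ∘ fun x => AVAmpleLib.pt (ptEquiv v₀ x) :=
      funext fun x => by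
        show AVAmpleLib.pt (ptEquiv v (em x)) = a.left (AVAmpleLib.pt (ptEquiv v₀ x))
        rw [hιv]; rfl
    rw [e]
    exact a.left.isClosedEmbedding.isInducing.comp (hJ v₀)
  -- its radical
  obtain ⟨hRc, hRp, hRs, hRn, -⟩ := BorelLib.radSub_facts (k := k) (A := B) hconn₀
  obtain ⟨R, _, r, hr, hrc, hrs, hrpts, -, -⟩ := BorelLib.exists_scheme_sub v₀ hRc
  haveI := hr; haveI := hrc; haveI := hrs
  obtain ⟨Q₀, _, g₀, hgM, hQa, hQl, hgf, hgs, hgk⟩ :=
    S3278.result k G₀ R r (BorelLib.isNormalHom_of_pts v₀ (hrpts.symm ▸ hRn))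
  haveI := hgM; haveI := hQa; haveI := hQl; haveI := hgf; haveI := hgs
  haveI : Smooth Q₀.hom := NormSub.smooth_of_quot g₀
  obtain ⟨A'', _, _, z, hz, hA'', hAr''⟩ := BorelLib.exists_setup Q₀
  haveI := hz; haveI := hA''; haveI := hAr''
  obtain ⟨g, hg, hgsur, hgv⟩ := RadQuot.exists_pts_map v₀ z g₀
  have hker : g.ker = radSub k B := by
    rw [← hrpts]
    ext x
    rw [MonoidHom.mem_ker, mem_ptsSub, ← (ptEquiv z).injective.eq_iff, map_one, hgv]
    constructor
    · intro h
      exact ⟨hgk.lift (ptEquiv v₀ x) (toUnit _) (by rw [h, Hom.one_def]), hgk.lift_fst _ _ _⟩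
    · rintro ⟨b, hb⟩
      rw [← hb, Category.assoc, show r ≫ g₀ = toUnit R ≫ η[Q₀] from hgk.w, ← Category.assoc,
        toUnit_unique (b ≫ toUnit R) (toUnit _), ← Hom.one_def]
  have hconn'' : _root_.IsPreconnected (Set.univ : Set (Pt k A'')) := by
    rw [← hgsur.range_eq, ← Set.image_univ]
    exact hconn₀.image _ hg.continuous.continuousOn
  obtain ⟨hc', hp', hs', hn', -⟩ := BorelLib.radSub_facts (k := k) (A := A'') hconn''
  have hss : IsSSPts k A'' := BorelLib.isSSPts_of_radSub hconn'' (RadQuot.eq_bot_of_neut_comap_le_ker g hg hgsur hc' hp'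
    ((RadQuot.neut_comap_le_radSub g hconn₀ (hker ▸ hRs) hn' hs').trans hker.ge))
  have hNQf : ptsSub w iQ ≤ (⊤ : Subgroup (Pt k B)).map (f.comp em) := by
    rw [← Subgroup.map_map, show (⊤ : Subgroup (Pt k B)).map em = neut ⊤ from (MonoidHom.range_eq_map em).symm.trans hrange]
    exact le_map_neut hf htop (BorelLib.isPreconnected_ptsSub w) fun x _ => ⟨(hfs x).choose, trivial, (hfs x).choose_spec⟩
  have hmain := le_map_radSub hconn₀ (f := f.comp em) (hf.comp hι) hg hgsur hss hker (BorelLib.isClosed_ptsSub w)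
    (BorelLib.isPreconnected_ptsSub w) (BorelLib.conjSub_le_of_normal w hNQ) (BorelLib.isSol_ptsSub w hNQs) hNQf
  -- the radical of the neutral component is normal in the whole group
  obtain ⟨hR'c, hR'p⟩ := BorelLib.isClosed_map hι hRc hRp
  have hR'n : ∀ b, BorelLib.conjSub b ((radSub k B).map em) ≤ (radSub k B).map em := fun b => by
    set J := BorelLib.conjSub b ((radSub k B).map em) with hJ
    have hJle : J ≤ em.range := by
      rw [hrange]
      refine le_neut (isPreconnected_conjSub hR'p) le_top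
    have hJpre : _root_.IsPreconnected ((J.comap em : Subgroup (Pt k B)) : Set (Pt k B)) := by
      refine hind.isPreconnected_image.1 ?_
      rw [← Subgroup.coe_map, Subgroup.map_comap_eq_self hJle]
      exact isPreconnected_conjSub hR'p
    have hJn : ∀ y, BorelLib.conjSub y (J.comap em) ≤ J.comap em := by
      rintro y _ ⟨x, hx, rfl⟩
      have hy : b⁻¹ * em y * b ∈ em.range := by
        rw [hrange]
        have h1 : em y ∈ neut ⊤ := hrange ▸ ⟨y, rfl⟩
        exact le_neut (isPreconnected_conjSub (isPreconnected_neut _)) le_top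
          (⟨em y, h1, by simp⟩ : b⁻¹ * em y * b ∈ BorelLib.conjSub b⁻¹ (neut ⊤))
      obtain ⟨y', hy'⟩ := hy
      obtain ⟨u, hu, hux⟩ := hx
      obtain ⟨u', hu', rfl⟩ := hu
      refine ⟨em (y' * u' * y'⁻¹), ⟨_, hRn y' ⟨u', hu', rfl⟩, rfl⟩, ?_⟩
      simp only [MulEquiv.coe_toMonoidHom, MulAut.conj_apply, map_mul, map_inv, hy'] at hux ⊢
      rw [← hux]
      group
    intro x hx
    obtain ⟨y, rfl⟩ := hJle hx
    refine ⟨y, le_radSub hconn₀ hJpre hJn ?_ hx, rfl⟩
    exact BorelLib.IsSol.comap hιinj ((hRs.map em).conjSub b)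
  obtain ⟨R', _, r', hr', hrc', hrs', hrpts', hrconn', hrsol'⟩ := BorelLib.exists_scheme_sub v hR'c
  haveI := hr'; haveI := hrc'; haveI := hrs'; haveI := hrconn' hR'p
  obtain ⟨e, he⟩ := hNGmax R' r' (hrsol' (hRs.map em)) (BorelLib.isNormalHom_of_pts v (hrpts'.symm ▸ hR'n))
  have hle : ptsSub w iQ ≤ (ptsSub v iG).map f := hmain.trans (by
    rw [← Subgroup.map_map]
    exact Subgroup.map_mono (hrpts' ▸ BorelLib.ptsSub_le_of_factor v he))
  haveI : LocallyOfFiniteType NG.hom := inferInstance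
  refine BorelLib.surjective_of_pts φ fun y => ?_
  obtain ⟨x, hx, hxy⟩ := hle ((mem_ptsSub w).2 ⟨y, ((ptEquiv w).apply_symm_apply _).symm⟩ :
    (ptEquiv w).symm (y ≫ iQ) ∈ ptsSub w iQ)
  obtain ⟨b, hb⟩ := (mem_ptsSub v).1 hx
  refine ⟨b, (cancel_mono iQ).1 ?_⟩
  rw [Category.assoc, hφ, ← Category.assoc, hb, ← hfv, hxy, (ptEquiv w).apply_symm_apply]

end Groth.Agent.S19518
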