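import Groth.Statements.S19520
import Groth.Agent.SepDiffLib.Sections
import Groth.Agent.SepDiffLib.Generic

set_option autoImplicit false
universe u
open CategoryTheory CategoryTheory.Limits AlgebraicGeometry
open OmegaSh

namespace Groth.Agent.S19520

theorem map_generic {X Z : Scheme.{u}} [IrreducibleSpace X] (f : X ⟶ Z) (η : Z)
    (hη : closure {η} = closure (Set.range f.base)) : f.base (genericPoint X) = η := by
  have h := (genericPoint_spec X).image f.continuous
  rw [Set.image_univ] at h
  exact (inseparable_iff_closure_eq.mpr (h.def.trans hη.symm)).eq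

/-- Let k be a field and f : X → Z a k-morphism between integral proper k-schemes, where X is
geometrically normal (its base change to an algebraic closure of k has integrally closed local
domains) and Z is smooth over k; let Y ⊆ Z be the closure of the image of f, m its dimension, and
assume the fibre of f over the generic point of Y is geometrically reduced over the residue field
there (the function field extension K(Y) ⊆ K(X) is separable). Let d_Z : O_Z → Ω_Z and d_X : O_X →
Ω_X be universal k-derivations and c : f^*Ω_Z → Ω_X the O_X-linear map compatible with them, and let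
U ⊆ X be the largest open subscheme smooth over k. If f^*Ω_Z is a free O_X-module of finite rank,
then there are m sections of Ω_X over U which are linearly independent over Γ(U, O_X); in particular
the space of sections of Ω¹ over U has dimension at least m. (The second estimate of (ii), a nonzero
section of Ω^m over U, is not stated.) -/
theorem result (k : Type u) [Field k]
    (X Z : Scheme.{u}) [X.Over (Spec (CommRingCat.of k))] [Z.Over (Spec (CommRingCat.of k))]
    [IsProper (X ↘ Spec (CommRingCat.of k))] [IsProper (Z ↘ Spec (CommRingCat.of k))] [IsIntegral X] [IsIntegral Z]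
    [Smooth (Z ↘ Spec (CommRingCat.of k))]
    (hgn : ∀ (K : Type u) [Field K] [Algebra k K] [IsAlgClosure k K],
      Pi1.IsNormalScheme (pullback (X ↘ Spec (CommRingCat.of k)) (Spec.map (CommRingCat.ofHom (algebraMap k K)))))
    (f : X ⟶ Z) (hf : f ≫ (Z ↘ Spec (CommRingCat.of k)) = X ↘ Spec (CommRingCat.of k))
    (η : Z) (hη : closure {η} = closure (Set.range f.base)) (m : ℕ)
    (hm : topologicalKrullDim (closure (Set.range f.base)) = m)
    (hsep : GeometricallyReduced (pullback.snd f (Z.fromSpecResidueField η)))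
    (ΩZ : Z.Modules) (dZ : OmegaSh.Der (Z ↘ Spec (CommRingCat.of k)) ΩZ) (hdZ : OmegaSh.IsUniversal dZ)
    (ΩX : X.Modules) (dX : OmegaSh.Der (X ↘ Spec (CommRingCat.of k)) ΩX) (hdX : OmegaSh.IsUniversal dX)
    (c : (Scheme.Modules.pullback f).obj ΩZ ⟶ ΩX) (hc : OmegaSh.IsDiffCompat f dZ dX c)
    (hfree : ∃ d : ℕ, Nonempty ((Scheme.Modules.pullback f).obj ΩZ ≅ FlatMod.freeMod X d))
    (U : X.Opens) (hU : Smooth (U.ι ≫ (X ↘ Spec (CommRingCat.of k))))
    (hUmax : ∀ V : X.Opens, Smooth (V.ι ≫ (X ↘ Spec (CommRingCat.of k))) → V ≤ U) :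
    ∃ s : Fin m → ΩX.val.obj (Opposite.op U),
      LinearIndependent (X.ringCatSheaf.obj.obj (Opposite.op U)) s := by
  obtain ⟨d, ⟨θ⟩⟩ := hfree
  have hξU : genericPoint X ∈ U := SepDiffLib.genericPoint_mem_of_max k _ hgn U hUmax
  rw [← hη] at hm
  obtain ⟨t, U', hξ, hU'a, hU'U, Λ, hΛ, hΛt⟩ := SepDiffLib.exists_coords k f hf η (map_generic f η hη) m hm hsep
    ΩZ dZ hdZ ΩX dX hdX c hc θ U hξU
  let s : Fin m → Γ(ΩX, U) := fun i => ΩX.presheaf.map (homOfLE (le_top : U ≤ ⊤)).op (t i)
  refine ⟨s, ?_⟩
  show LinearIndependent Γ(X, U) s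
  rw [Fintype.linearIndependent_iff]
  intro g hg i
  have h1 : Λ (ΩX.presheaf.map (homOfLE hU'U).op (∑ j, g j • s j)) = 0 := by rw [hg, map_zero, map_zero]
  have h2 : ∀ j, ΩX.presheaf.map (homOfLE hU'U).op (g j • s j) =
      X.presheaf.map (homOfLE hU'U).op (g j) • ΩX.presheaf.map (homOfLE (le_top : U' ≤ ⊤)).op (t j) := fun j => by
    refine (ΩX.map_smul (homOfLE hU'U) (g j) (s j)).trans (congrArg (_ • ·) ?_)
    exact ModGlueLib.rs_rs ΩX hU'U le_top (t j)
  rw [map_sum, map_sum, Finset.sum_congr rfl (fun j _ => (congrArg Λ (h2 j)).trans (hΛ _ _))] at h1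
  have h3 := congrFun h1 i
  simp only [hΛt, Finset.sum_apply, Pi.smul_apply, Pi.single_apply, smul_eq_mul, mul_ite, mul_one, mul_zero,
    Finset.sum_ite_eq, Finset.mem_univ, if_true, Pi.zero_apply] at h3
  haveI : Nonempty U := ⟨⟨_, hξU⟩⟩
  haveI : Nonempty U' := ⟨⟨_, hξ⟩⟩
  refine map_injective_of_isIntegral X (homOfLE hU'U) ?_
  refine SepDiffLib.evalRes_injective (U := U') hξ rfl ?_
  exact h3.trans ((congrArg _ (map_zero _)).trans (map_zero _)).symm

end Groth.Agent.S19520
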