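import Groth.Statements.S19522
import Mathlib
-- import your own Groth.Agent.* helpers here

set_option autoImplicit false
universe u
open TensorProduct
open GLin

namespace Groth.Agent.S19522

/-- Let k be a field, A a commutative k-bialgebra coacting multiplicatively on a commutative k-algebra
R, and χ ∈ A a group-like element with an inverse χ' (χχ' = 1). Suppose the polynomial ring R[t]
carries a multiplicative coaction which restricts to the given one on constants and sends t to t ⊗
χ'. Then g ∈ R[t] is coinvariant if and only if, for every r, its r-th coefficient has coaction g_r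
↦ g_r ⊗ χ^r; that is, the ring of invariants of R[t] is the sum over r ≥ 0 of the weight-χ^r
semi-invariants of R times t^r. (The published statement is phrased for an affine variety with an
action of a linear algebraic group over an algebraically closed field of characteristic zero and
identifies the invariants of X × A¹ with the graded ring of invariant sections of the powers of the
linearised trivial bundle; this is its coordinate-ring content, valid over any field.) -/
theorem result (k : Type u) [Field k]
    (A : Type u) [CommRing A] [Bialgebra k A]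
    (R : Type u) [CommRing R] [Algebra k R] [HopfRep.Comod k A R] [GLin.IsCoactAlg k A R]
    [HopfRep.Comod k A (Polynomial R)] [GLin.IsCoactAlg k A (Polynomial R)]
    (χ χ' : A) (hχ : CoalgebraStruct.comul (R := k) (A := A) χ = χ ⊗ₜ[k] χ)
    (hχε : CoalgebraStruct.counit (R := k) (A := A) χ = 1) (hχχ' : χ * χ' = 1)
    (hC : ∀ r : R, HopfRep.Comod.coact (k := k) (A := A) (Polynomial.C r) =
      Algebra.TensorProduct.map (Polynomial.CAlgHom : R →ₐ[k] Polynomial R) (AlgHom.id k A)
        (HopfRep.Comod.coact (k := k) (A := A) r))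
    (hX : HopfRep.Comod.coact (k := k) (A := A) (Polynomial.X : Polynomial R) = Polynomial.X ⊗ₜ[k] χ')
    (g : Polynomial R) :
    g ∈ GLin.invariants k A (Polynomial R) ↔
      ∀ r : ℕ, g.coeff r ∈ HopfRep.eigenspace k A R (χ ^ r) := by
  classical
  have hχχ : ∀ n : ℕ, χ ^ n * χ' ^ n = 1 := fun n => by rw [← mul_pow, hχχ', one_pow]
  let C' : R →ₐ[k] Polynomial R := Polynomial.CAlgHom
  have hXn : ∀ n : ℕ, HopfRep.Comod.coact (k := k) (A := A) ((Polynomial.X : Polynomial R) ^ n) =
      ((Polynomial.X ^ n) ⊗ₜ[k] (χ' ^ n)) := fun n => by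
    rw [← GLin.coactAlgHom_apply, map_pow, GLin.coactAlgHom_apply, hX, Algebra.TensorProduct.tmul_pow]
  have hmono : ∀ (n : ℕ) (a : R), HopfRep.Comod.coact (k := k) (A := A) (Polynomial.C a * Polynomial.X ^ n) =
      Algebra.TensorProduct.map C' (AlgHom.id k A) (HopfRep.Comod.coact (k := k) (A := A) a) *
        ((Polynomial.X ^ n) ⊗ₜ[k] (χ' ^ n)) := fun n a => by
    rw [GLin.IsCoactAlg.coact_mul (k := k), hC, hXn]
  let ℓ : ℕ → Polynomial R →ₗ[k] R := fun r => (Polynomial.lcoeff R r).restrictScalars k
  have hcoef : ∀ (r : ℕ) (p : Polynomial R), (ℓ r).rTensor A (HopfRep.Comod.coact (k := k) (A := A) p) =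
      HopfRep.Comod.coact (k := k) (A := A) (p.coeff r) * ((1 : R) ⊗ₜ[k] (χ' ^ r)) := fun r p => by
    induction p using Polynomial.induction_on' with
    | add p q hp hq => rw [map_add, map_add, Polynomial.coeff_add, map_add, hp, hq, add_mul]
    | monomial n a =>
      rw [← Polynomial.C_mul_X_pow_eq_monomial, hmono, Polynomial.coeff_C_mul_X_pow]
      have h1 : ∀ z : R ⊗[k] A, (ℓ r).rTensor A
          (Algebra.TensorProduct.map C' (AlgHom.id k A) z * ((Polynomial.X ^ n) ⊗ₜ[k] (χ' ^ n))) =
          (if r = n then z else 0) * ((1 : R) ⊗ₜ[k] (χ' ^ r)) := fun z => by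
        induction z with
        | zero => simp
        | add z z' hz hz' => simp only [map_add, add_mul, hz, hz']; split_ifs <;> simp [add_mul]
        | tmul x c =>
          rw [Algebra.TensorProduct.map_tmul, Algebra.TensorProduct.tmul_mul_tmul, LinearMap.rTensor_tmul]
          split_ifs with h
          · subst h
            simp [ℓ, C']
          · simp [ℓ, C', h]
      rw [h1]
      split_ifs <;> simp
  constructor
  · intro hg r
    show HopfRep.Comod.coact (k := k) (A := A) (g.coeff r) = g.coeff r ⊗ₜ[k] (χ ^ r)
    have h1 := hcoef r g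
    rw [show HopfRep.Comod.coact (k := k) (A := A) g = g ⊗ₜ[k] (1 : A) from hg, LinearMap.rTensor_tmul] at h1
    have h2 := congrArg (· * ((1 : R) ⊗ₜ[k] (χ ^ r))) h1
    simp only [mul_assoc, Algebra.TensorProduct.tmul_mul_tmul, mul_one, one_mul] at h2
    rw [mul_comm (χ' ^ r) (χ ^ r), hχχ, ← Algebra.TensorProduct.one_def, mul_one] at h2
    exact h2.symm
  · intro h
    show HopfRep.Comod.coact (k := k) (A := A) g = g ⊗ₜ[k] (1 : A)
    conv_rhs => rw [g.as_sum_range_C_mul_X_pow, TensorProduct.sum_tmul]
    conv_lhs => rw [g.as_sum_range_C_mul_X_pow, map_sum]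
    refine Finset.sum_congr rfl fun n _ => ?_
    rw [hmono, show HopfRep.Comod.coact (k := k) (A := A) (g.coeff n) = g.coeff n ⊗ₜ[k] (χ ^ n) from h n,
      Algebra.TensorProduct.map_tmul, Algebra.TensorProduct.tmul_mul_tmul]
    simp [C', hχχ]

end Groth.Agent.S19522
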