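import Groth.Statements.S19524
import Groth.Agent.SepDiffLib.Sections
import Groth.Agent.SepDiffLib.Generic
import Groth.Agent.AVIndexLib.HodgeDim

set_option autoImplicit false
universe u
open CategoryTheory CategoryTheory.Limits AlgebraicGeometry
open OmegaSh

namespace Groth.Agent.S19524

theorem map_generic {X Z : Scheme.{u}} [IrreducibleSpace X] (f : X ⟶ Z) (η : Z)
    (hη : closure {η} = closure (Set.range f.base)) : f.base (genericPoint X) = η := by
  have h := (genericPoint_spec X).image f.continuous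
  rw [Set.image_univ] at h
  exact (inseparable_iff_closure_eq.mpr (h.def.trans hη.symm)).eq


/-- Let k be a field and f : X → Z a k-morphism between integral proper k-schemes, where X is
geometrically normal (its base change to an algebraic closure of k has integrally closed local
domains) and Z is smooth over k; let Y ⊆ Z be the closure of the image of f, m its dimension, and
assume the fibre of f over the generic point of Y is geometrically reduced over the residue field
there (the function field extension K(Y) ⊆ K(X) is separable). Let d_Z : O_Z → Ω_Z and d_X : O_X →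
Ω_X be universal k-derivations and c : f^*Ω_Z → Ω_X the O_X-linear map compatible with them, and let
U ⊆ X be the largest open subscheme smooth over k. If f^*Ω_Z is a free O_X-module of finite rank and
Ω^m_X is an m-th exterior power of Ω_X (affine-locally the exterior power of the sections), then
Ω^m_X has a nonzero section over U: h⁰(U, Ω^m) ≥ 1. -/
theorem result (k : Type u) [Field k]
    (X Z : Scheme.{u}) [X.Over (Spec (CommRingCat.of k))] [Z.Over (Spec (CommRingCat.of k))]
    [IsProper (X ↘ Spec (CommRingCat.of k))] [IsProper (Z ↘ Spec (CommRingCat.of k))] [IsIntegral X] [IsIntegral Z]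
    [Smooth (Z ↘ Spec (CommRingCat.of k))]
    (hgn : ∀ (K : Type u) [Field K] [Algebra k K] [IsAlgClosure k K],
      Pi1.IsNormalScheme (pullback (X ↘ Spec (CommRingCat.of k)) (Spec.map (CommRingCat.ofHom (algebraMap k K)))))
    (f : X ⟶ Z) (hf : f ≫ (Z ↘ Spec (CommRingCat.of k)) = X ↘ Spec (CommRingCat.of k))
    (η : Z) (hη : closure {η} = closure (Set.range f.base)) (m : ℕ)
    (hm : topologicalKrullDim (closure (Set.range f.base)) = m)
    (hsep : GeometricallyReduced (pullback.snd f (Z.fromSpecResidueField η)))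
    (ΩZ : Z.Modules) (dZ : OmegaSh.Der (Z ↘ Spec (CommRingCat.of k)) ΩZ) (hdZ : OmegaSh.IsUniversal dZ)
    (ΩX : X.Modules) (dX : OmegaSh.Der (X ↘ Spec (CommRingCat.of k)) ΩX) (hdX : OmegaSh.IsUniversal dX)
    (c : (Scheme.Modules.pullback f).obj ΩZ ⟶ ΩX) (hc : OmegaSh.IsDiffCompat f dZ dX c)
    (hfree : ∃ d : ℕ, Nonempty ((Scheme.Modules.pullback f).obj ΩZ ≅ FlatMod.freeMod X d))
    (U : X.Opens) (hU : Smooth (U.ι ≫ (X ↘ Spec (CommRingCat.of k))))
    (hUmax : ∀ V : X.Opens, Smooth (V.ι ≫ (X ↘ Spec (CommRingCat.of k))) → V ≤ U)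
    (Ωm : X.Modules) (hΩm : ExtPow.IsExtPow m ΩX Ωm) :
    ∃ s : Ωm.val.obj (Opposite.op U), s ≠ 0 := by
  obtain ⟨d, ⟨θ⟩⟩ := hfree
  have hξU : genericPoint X ∈ U := SepDiffLib.genericPoint_mem_of_max k _ hgn U hUmax
  rw [← hη] at hm
  obtain ⟨t, U', hξ, hU'a, hU'U, Λ, hΛ, hΛt⟩ := SepDiffLib.exists_coords k f hf η (map_generic f η hη) m hm hsep
    ΩZ dZ hdZ ΩX dX hdX c hc θ U hξU
  obtain ⟨φ, hφ⟩ := hΩm
  haveI : X.IsSeparated := ⟨by rw [← terminal.comp_from (X ↘ Spec (CommRingCat.of k))]; infer_instance⟩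
  let w : ∀ V : X.affineOpens, Γ(Ωm, V.1) := fun V =>
    (φ V).symm (exteriorPower.ιMulti _ m fun i => ΩX.val.map (homOfLE (le_top : V.1 ≤ ⊤)).op (t i))
  have hres : ∀ (V W : X.affineOpens) (h : W.1 ≤ V.1), Ωm.presheaf.map (homOfLE h).op (w V) = w W := fun V W h => by
    refine (hφ V W h _).trans ?_
    exact congrArg (fun v => (φ W).symm (exteriorPower.ιMulti _ m v))
      (funext fun j => QCohLib.map_map' ΩX (homOfLE h) (homOfLE le_top) _)
  obtain ⟨T, hT, -⟩ := TopCat.Sheaf.existsUnique_gluing'
    ((QCohLib.toAbF X).obj Ωm : TopCat.Sheaf AddCommGrpCat _) (fun V : X.affineOpens => V.1) ⊤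
    (fun V => homOfLE le_top)
    (fun x _ => by
      obtain ⟨V, hV, hxV, -⟩ := exists_isAffineOpen_mem_and_subset (show x ∈ (⊤ : X.Opens) from trivial)
      exact TopologicalSpace.Opens.mem_iSup.mpr ⟨⟨V, hV⟩, hxV⟩)
    w (fun V W =>
      (hres V ⟨V.1 ⊓ W.1, V.2.inf W.2⟩ inf_le_left).trans (hres W ⟨V.1 ⊓ W.1, V.2.inf W.2⟩ inf_le_right).symm)
  refine ⟨Ωm.presheaf.map (homOfLE (le_top : U ≤ ⊤)).op T, fun hz => ?_⟩
  have hw : w ⟨U', hU'a⟩ = 0 := by
    refine (hT ⟨U', hU'a⟩).symm.trans ?_
    refine (ModGlueLib.rs_rs Ωm hU'U le_top T).symm.trans ?_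
    exact (congrArg _ hz).trans (map_zero _)
  -- an alternating form detecting the wedge
  letI : Algebra Γ(X, U') (X.residueField (genericPoint X)) := (SepDiffLib.evalRes U' hξ).hom.toAlgebra
  let Λl : (ΩX.val.obj (Opposite.op U')) →ₗ[Γ(X, U')] (Fin m → X.residueField (genericPoint X)) :=
    { toFun := Λ
      map_add' := map_add Λ
      map_smul' := fun a s => hΛ a s }
  let D : AlternatingMap Γ(X, U') (ΩX.val.obj (Opposite.op U')) (X.residueField (genericPoint X)) (Fin m) :=
    { toMultilinearMap :=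
        ((Matrix.detRowAlternating (R := X.residueField (genericPoint X)) (n := Fin m)).toMultilinearMap.restrictScalars
          Γ(X, U')).compLinearMap fun _ => Λl
      map_eq_zero_of_eq' := fun v a b hab hne =>
        (Matrix.detRowAlternating (R := X.residueField (genericPoint X)) (n := Fin m)).map_eq_zero_of_eq
          (fun i => Λl (v i)) (congrArg Λl hab) hne }
  let tU : Fin m → ΩX.val.obj (Opposite.op U') := fun i => ΩX.val.map (homOfLE (le_top : U' ≤ ⊤)).op (t i)
  have h0 : exteriorPower.ιMulti Γ(X, U') m tU = 0 :=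
    (φ ⟨U', hU'a⟩).symm.map_eq_zero_iff.mp hw
  have h1 := congrArg (exteriorPower.alternatingMapLinearEquiv D) h0
  rw [exteriorPower.alternatingMapLinearEquiv_apply_ιMulti, map_zero] at h1
  refine one_ne_zero (α := X.residueField (genericPoint X)) (Eq.trans ?_ h1)
  have h2 : (fun i => Λl (tU i)) =
      (1 : Matrix (Fin m) (Fin m) (X.residueField (genericPoint X))) := funext fun i => (hΛt i).trans (by
    ext j
    simp [Matrix.one_apply, Pi.single_apply, eq_comm])
  show _ = Matrix.detRowAlternating (fun i => Λl (tU i))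
  rw [h2]
  exact Matrix.det_one.symm

end Groth.Agent.S19524
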