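import Groth.Statements.S19529
import Groth.Agent.AVAmpleLib.EndInt

set_option autoImplicit false
universe u
open CategoryTheory MonoidalCategory CartesianMonoidalCategory MonObj GrpObj AlgebraicGeometry
open AbVar

namespace Groth.Agent.S19529

/-- Let k be a field with an algebraic closure Ω, l a prime invertible in k, A an abelian variety over k
(a proper, geometrically integral commutative group scheme over k) and α an endomorphism of A (a
homomorphism of group schemes). Let T_l(α) be the induced ℤ_l-linear endomorphism of the l-adic Tate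
module of Ω-points of A, which is assumed, as is always the case, to be free of finite rank over
ℤ_l. Then the minimal polynomial of T_l(α) over ℤ_l is defined over ℤ: there is a monic polynomial P
with integer coefficients whose image in ℤ_l[X] is that minimal polynomial. (The companion clause on
the characteristic polynomial is stated separately for finite and for algebraically closed ground
fields.) -/
theorem result (k Ω : Type u) [Field k] [Field Ω] [Algebra k Ω] [IsAlgClosure k Ω]
    (l : ℕ) [Fact l.Prime] (hl : (l : k) ≠ 0) (A : Over (Spec (CommRingCat.of k)))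
    [GrpObj A] [IsCommMonObj A] [IsProper A.hom] [GeometricallyIntegral A.hom]
    (α : A ⟶ A) [IsMonHom α]
    [Module.Free ℤ_[l] (AbDual.TateMod A l (SGA7.pt Ω))] [Module.Finite ℤ_[l] (AbDual.TateMod A l (SGA7.pt Ω))] :
    ∃ P : Polynomial ℤ, P.Monic ∧
      (minpoly ℤ_[l] (AbDual.tateMapₗ (l := l) (T := SGA7.pt Ω) α)) = P.map (Int.castRingHom ℤ_[l]) := by
  have : IsAlgClosed Ω := IsAlgClosure.isAlgClosed k
  have hl' : (l : Ω) ≠ 0 := by rw [← map_natCast (algebraMap k Ω)]; exact (map_ne_zero _).2 hl
  let φ : EndAV.End A := EndAV.End.of α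
  obtain ⟨Q, hQm, hQ, hQe⟩ := AVAmpleLib.exists_int_minpoly φ
  refine ⟨Q, hQm, ?_⟩
  let R := EndAV.End.tateRep (A := A) l (SGA7.pt Ω)
  show minpoly ℤ_[l] (R φ) = _
  symm
  refine minpoly.unique' _ _ (hQm.map _) ?_ fun q hq => ?_
  · rw [Polynomial.aeval_def, Polynomial.eval₂_map,
      show (algebraMap ℤ_[l] _).comp (Int.castRingHom ℤ_[l]) = R.comp (Int.castRingHom (EndAV.End A)) from
        Subsingleton.elim _ _, ← Polynomial.hom_eval₂, hQe, map_zero]
  · refine or_iff_not_imp_right.2 fun h0 => ?_
    rw [not_not] at h0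
    have h1 : LinearIndependent ℤ (fun i : Fin (minpoly ℚ (EndAV.toEnd0 φ)).natDegree => EndAV.toEnd0 φ ^ (i : ℕ)) :=
      (linearIndependent_pow (K := ℚ) (EndAV.toEnd0 φ)).restrict_scalars' ℤ
    have h2 : LinearIndependent ℤ (fun i : Fin (minpoly ℚ (EndAV.toEnd0 φ)).natDegree => (φ ^ (i : ℕ) : EndAV.End A)) := by
      refine LinearIndependent.of_comp (EndAV.toEnd0 (A := A)).toRingHom.toAddMonoidHom.toIntLinearMap ?_
      simpa [Function.comp_def, map_pow] using h1
    have h3 := AVAmpleLib.linearIndependent_tateMap_ext Ω A A l hl' _ h2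
    have hd : q.degree < ((minpoly ℚ (EndAV.toEnd0 φ)).natDegree : WithBot ℕ) := by
      refine hq.trans_le ((Polynomial.degree_le_natDegree).trans ?_)
      rw [hQm.natDegree_map, ← hQ, hQm.natDegree_map]
    have hs : q = ∑ i : Fin (minpoly ℚ (EndAV.toEnd0 φ)).natDegree, Polynomial.monomial (i : ℕ) (q.coeff i) :=
      (Fin.sum_univ_eq_sum_range (fun i => Polynomial.monomial i (q.coeff i)) _ ▸
        Polynomial.ext fun j => by
          rw [Polynomial.finsetSum_coeff]
          simp only [Polynomial.coeff_monomial]
          by_cases hj : j < (minpoly ℚ (EndAV.toEnd0 φ)).natDegree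
          · rw [Finset.sum_ite_eq' (Finset.range _) j (fun i => q.coeff i), if_pos (Finset.mem_range.2 hj)]
          · rw [Polynomial.coeff_eq_zero_of_degree_lt (hd.trans_le (by exact_mod_cast not_lt.1 hj))]
            exact (Finset.sum_eq_zero fun i hi => if_neg (by rw [Finset.mem_range] at hi; omega)).symm)
    rw [hs, map_sum] at h0
    have h4 := Fintype.linearIndependent_iff.1 h3 (fun i => q.coeff i) (by
      refine Eq.trans (Finset.sum_congr rfl fun i _ => ?_) h0
      rw [Polynomial.aeval_monomial, ← Algebra.smul_def, ← map_pow]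
      rfl)
    rw [hs]
    exact Finset.sum_eq_zero fun i _ => by rw [h4 i, map_zero]

end Groth.Agent.S19529
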