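import Groth.Statements.S19533
import Groth.Agent.AVRigidLib.Descend
import Groth.Agent.AlbLib.AVBasic

set_option autoImplicit false
set_option linter.style.haveILetI false
set_option backward.isDefEq.respectTransparency false
set_option maxHeartbeats 1000000
universe u
open CategoryTheory CategoryTheory.Limits MonoidalCategory CartesianMonoidalCategory MonObj GrpObj AlgebraicGeometry
open AbVar

namespace Groth.Agent.S19533

/-- Let k be an algebraically closed field, A an abelian variety over k (a k-group scheme whose
structure morphism is proper, smooth and geometrically connected) with unit point e, Y a scheme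
separated over k and f : A → Y a morphism over k. Write F₀ for the connected component of e in the
fibre f⁻¹(f(e)). Then the k-rational points of F₀ are stable under the group law: if k-points x and
y of A lie in F₀ then so do the product point x·y and the inverse point x⁻¹. (The published
statement is for Y a k-variety and concludes that F₀ with its reduced structure is an abelian
subvariety, together with the translation formula F_a = a + F₀; this row records the closure of
F₀(k) under multiplication and inversion, for Y merely separated over k.) -/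
theorem result (k : Type u) [Field k] [IsAlgClosed k]
    (A : Over (Spec (CommRingCat.of k))) [GrpObj A] [IsProper A.hom] [Smooth A.hom] [GeometricallyConnected A.hom]
    {Y : Scheme.{u}} (q : Y ⟶ Spec (CommRingCat.of k)) [IsSeparated q] (f : A.left ⟶ Y) (hf : f ≫ q = A.hom)
    (x y : 𝟙_ (Over (Spec (CommRingCat.of k))) ⟶ A)
    (hx : x.left (IsLocalRing.closedPoint k) ∈
      connectedComponentIn (f ⁻¹' {f (η[A].left (IsLocalRing.closedPoint k))}) (η[A].left (IsLocalRing.closedPoint k)))
    (hy : y.left (IsLocalRing.closedPoint k) ∈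
      connectedComponentIn (f ⁻¹' {f (η[A].left (IsLocalRing.closedPoint k))}) (η[A].left (IsLocalRing.closedPoint k))) :
    (lift x y ≫ μ[A]).left (IsLocalRing.closedPoint k) ∈
        connectedComponentIn (f ⁻¹' {f (η[A].left (IsLocalRing.closedPoint k))}) (η[A].left (IsLocalRing.closedPoint k)) ∧
      (x ≫ ι[A]).left (IsLocalRing.closedPoint k) ∈
        connectedComponentIn (f ⁻¹' {f (η[A].left (IsLocalRing.closedPoint k))}) (η[A].left (IsLocalRing.closedPoint k)) := by
  haveI : GeometricallyIntegral A.hom := by
    haveI : ConnectedSpace ↥(Spec (CommRingCat.of k)) := inferInstance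
    haveI : UniversallyOpen A.hom := inferInstance
    haveI : ConnectedSpace A.left := GeometricallyConnected.connectedSpace_of_subsingleton A.hom
    exact AlbLib.geometricallyIntegral_grp A
  have h1 : AVRigidLib.pt (η[A] : 𝟙_ (Over (Spec (CommRingCat.of k))) ⟶ A) =
      η[A].left (IsLocalRing.closedPoint k) := rfl
  have hone : (1 : 𝟙_ (Over (Spec (CommRingCat.of k))) ⟶ A) = η[A] := by
    rw [Hom.one_def, toUnit_unique (toUnit _) (𝟙 _), Category.id_comp]
  have hcomp : ∀ z : 𝟙_ (Over (Spec (CommRingCat.of k))) ⟶ A,
      AVRigidLib.pt z ∈ AVRigidLib.comp f (1 : 𝟙_ (Over (Spec (CommRingCat.of k))) ⟶ A) →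
      AVRigidLib.comp f z = AVRigidLib.comp f (1 : 𝟙_ (Over (Spec (CommRingCat.of k))) ⟶ A) := fun z hz => by
    have hfz : f (AVRigidLib.pt z) = f (AVRigidLib.pt (1 : 𝟙_ (Over (Spec (CommRingCat.of k))) ⟶ A)) :=
      Set.mem_singleton_iff.1 (connectedComponentIn_subset _ (AVRigidLib.pt (1 : 𝟙_ (Over (Spec (CommRingCat.of k))) ⟶ A)) hz)
    rw [AVRigidLib.comp, hfz]
    exact (connectedComponentIn_eq hz).symm
  have hx' : AVRigidLib.pt x ∈ AVRigidLib.comp f (1 : 𝟙_ (Over (Spec (CommRingCat.of k))) ⟶ A) := by
    rw [AVRigidLib.comp, hone]; exact hx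
  have hy' : AVRigidLib.pt y ∈ AVRigidLib.comp f (1 : 𝟙_ (Over (Spec (CommRingCat.of k))) ⟶ A) := by
    rw [AVRigidLib.comp, hone]; exact hy
  constructor
  · have h := AVRigidLib.image_comp_subset q f hf (1 : 𝟙_ (Over (Spec (CommRingCat.of k))) ⟶ A) y ⟨_, hx', rfl⟩
    rw [AVRigidLib.pt_tr, _root_.one_mul, hcomp y hy', AVRigidLib.comp, hone] at h
    rw [← Hom.mul_def]
    exact h
  · have h := AVRigidLib.image_comp_subset q f hf x x⁻¹
      ⟨AVRigidLib.pt (1 : 𝟙_ (Over (Spec (CommRingCat.of k))) ⟶ A),
        (hcomp x hx').ge (mem_connectedComponentIn rfl), rfl⟩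
    rw [AVRigidLib.pt_tr, _root_.one_mul, mul_inv_cancel, AVRigidLib.comp, hone] at h
    rw [show (x ≫ ι[A]) = x⁻¹ from rfl]
    exact h

end Groth.Agent.S19533
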