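import Groth.Statements.S19534
import Groth.Agent.SBTwLib.EndAlg
-- import your own Groth.Agent.* helpers here

set_option autoImplicit false
universe u
open CategoryTheory CategoryTheory.Limits AlgebraicGeometry
open ASBun

namespace Groth.Agent.S19534

open W4c1astiltbs12 in
/-- Let X be a proper, geometrically integral scheme over a field k, K an algebraic closure of k with
projection π : X_K → X, and E a nonzero finite locally free O_X-module which is absolutely
rank-one-isotypical: π^*E ≅ L^{⊕r} for some invertible O_{X_K}-module L and some natural number r.
Then the endomorphism ring of E (multiplication = composition) is a simple ring. (The published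
statement says that this ring is a central simple algebra over k; centrality over k and
finite-dimensionality are not stated here, only simplicity as a ring. Non-vanishing of E is part of
the definition of rank-one-isotypical there, the direct sum having at least one summand.) -/
theorem result (k : Type u) [Field k]
    {X : Scheme.{u}} (p : X ⟶ Spec (CommRingCat.of k)) [IsProper p] [GeometricallyIntegral p]
    (K : Type u) [Field K] [Algebra k K] [IsAlgClosure k K]
    (E : X.Modules) (hE : FlatMod.IsFinLocFree E) (hE0 : ¬ IsZero E)
    (L : (W4bk4gw11416.baseChange p K).Modules) (hL : PicF.IsInvertible L) (r : ℕ)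
    (e : Nonempty (bcMod p K E ≅ pow L r)) :
    IsSimpleRing (CategoryTheory.End E) := by
  haveI : IsAlgClosed K := IsAlgClosure.isAlgClosed k
  letI : X.Over (Spec (CommRingCat.of k)) := ⟨p⟩
  haveI : IsProper (X ↘ Spec (CommRingCat.of k)) := ‹IsProper p›
  let β := KSMod.bcSq p K
  letI : (W4bk4gw11416.baseChange p K).Over (Spec (CommRingCat.of K)) := ⟨β.iY⟩
  haveI : IsProper ((W4bk4gw11416.baseChange p K) ↘ Spec (CommRingCat.of K)) :=
    inferInstanceAs (IsProper (pullback.snd p _))
  haveI : GeometricallyIntegral β.iY := inferInstanceAs (GeometricallyIntegral (pullback.snd p _))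
  haveI : IsIntegral (W4bk4gw11416.baseChange p K) := GeometricallyIntegral.isIntegral_of_subsingleton β.iY
  obtain ⟨e⟩ := e
  have hr : 0 < r := by
    rcases Nat.eq_zero_or_pos r with h | h
    · subst h
      haveI := (Groth.Agent.PerfLib.isCoh_of_isFinLocFree hE).1
      exact absurd (KSMod.isZero_of_isZero_pb β ((KSMod.isZero_pow_zero L).of_iso e)) hE0
    · exact h
  exact (SBTw.end_csa β rfl rfl (Groth.Agent.PerfLib.isCoh_of_isFinLocFree hE) (SBTw.bijective_smul_id hL) hr e).2.1

end Groth.Agent.S19534
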