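import Groth.Statements.S19535
import Groth.Agent.OmegaAffLib.Universal
import Groth.Agent.OmegaAffLib.Restrict
import Groth.Agent.CohCmpLib.OmegaRank
import Groth.Agent.SurfNumLib.RR
import Groth.Agent.CurvLib.Line
import Groth.Agent.CohGenLib.Localization
import Groth.Agent.CohCmpLib.LineBundle

set_option autoImplicit false
universe u
open CategoryTheory CategoryTheory.Limits AlgebraicGeometry TopologicalSpace
open Curves

namespace Groth.Agent.S19535

/-- Dichotomy for the differential of a map of smooth curves: let k be a field, X and Y integral schemes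
each smooth, separated and quasi-compact over Spec k and of dimension one, and φ : X → Y a morphism
over k. Let Ω_Y and Ω_X be sheaves of differentials of Y and of X over k, given as universal
derivations, and c : φ^*Ω_Y → Ω_X the compatible map dφ (sending the pullback of d_Y s to d_X(φ^♯
s)). Then exactly one of two things happens, stated here as a disjunction: either c is the zero map,
or c is a monomorphism of O_X-modules and its cokernel (the sheaf of relative differentials Ω_{X/Y})
restricts to zero on some nonempty open subset of X, so that it is supported at finitely many closed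
points. (The published statement is for smooth curves, which are in addition geometrically
connected; integrality of X and Y is what the argument uses.) -/
theorem result (k : Type u) [Field k] {X Y : Scheme.{u}}
    (pX : X ⟶ Spec (CommRingCat.of k)) (pY : Y ⟶ Spec (CommRingCat.of k)) (φ : X ⟶ Y) (w : φ ≫ pY = pX)
    [IsIntegral X] [Smooth pX] [IsSeparated pX] [QuasiCompact pX] (hdX : topologicalKrullDim X = 1)
    [IsIntegral Y] [Smooth pY] [IsSeparated pY] [QuasiCompact pY] (hdY : topologicalKrullDim Y = 1)
    (ΩY : Y.Modules) (dY : OmegaSh.Der pY ΩY) (hY : OmegaSh.IsUniversal dY)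
    (ΩX : X.Modules) (dX : OmegaSh.Der pX ΩX) (hX : OmegaSh.IsUniversal dX)
    (c : (Scheme.Modules.pullback φ).obj ΩY ⟶ ΩX) (hc : OmegaSh.IsDiffCompat φ dY dX c) :
    c = 0 ∨ (Mono c ∧ ∃ U : X.Opens, (U : Set X).Nonempty ∧ IsZero ((Scheme.Modules.pullback U.ι).obj (cokernel c))) := by
  have inv : ∀ (Z : Scheme.{u}) (p : Z ⟶ Spec (CommRingCat.of k)) [IsIntegral Z] [Smooth p] [IsSeparated p],
      topologicalKrullDim Z = 1 → ∀ (Ω : Z.Modules) (d : OmegaSh.Der p Ω), OmegaSh.IsUniversal d → PicF.IsInvertible Ω := by
    intro Z p _ _ _ hd Ω d hu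
    letI : Z.Over (Spec (CommRingCat.of k)) := ⟨p⟩
    haveI : Smooth (Z ↘ Spec (CommRingCat.of k)) := ‹Smooth p›
    haveI : SmoothOfRelativeDimension 1 p := SurfNumLib.smoothRel_of_dim (k := k) (X := Z) (n := 1) (by exact_mod_cast hd)
    obtain ⟨e, -⟩ := OmegaAffLib.exists_iso_of_isUniversal (OmegaAffLib.isUniversal_dOmega (f := p)) hu
    exact HilbPolyLib.isInvertible_of_iso e ((CohCmpLib.invertible_iff_rank_one _).2 (CohCmpLib.rank_omega p 1))
  have hiX := inv X pX hdX ΩX dX hX
  have hiY := AmpleDevLib.isInvertible_pb φ (inv Y pY hdY ΩY dY hY)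
  by_cases h0 : c = 0
  · exact Or.inl h0
  haveI : IsLocallyNoetherian X := LocallyOfFiniteType.isLocallyNoetherian pX
  have hQ := QCohLib.isCoh_cokernel c (CurvLib.isCoh_of_isInvertible hiY).1 (CurvLib.isCoh_of_isInvertible hiX)
  refine Or.inr ⟨CurvLib.mono_of_ne_zero hiY hiX h0, ⟨_, (QCohLib.isClosed_support _ hQ.2).isOpen_compl⟩,
    ⟨genericPoint X, CurvLib.generic_notMem_support_cokernel hiY hiX h0⟩, ?_⟩
  refine IsZero.of_iso (DevissLib.isZero_of_support_empty ?_) ((Scheme.Modules.restrictFunctorIsoPullback _).app _).symm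
  exact Set.eq_empty_of_forall_notMem fun x hx => x.2 ((CohGenLib.mem_support_restrict _ (cokernel c) x).1 hx)

end Groth.Agent.S19535
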