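import Groth.Statements.S19541
import Mathlib
import Groth.Agent.CohenLib.RegularField
import Groth.Agent.NormalLib.Regular
import Groth.Prelude.Def_Curv2
import Groth.Agent.S9566

set_option autoImplicit false
universe u
open CategoryTheory CategoryTheory.Limits AlgebraicGeometry TopologicalSpace
open Curves

namespace Groth.Agent.S19541

open CategoryTheory AlgebraicGeometry

theorem ne_genericPoint_of_isClosed {X : Scheme.{u}} [IrreducibleSpace X] {x : X} (hdim : topologicalKrullDim X = 1)
    (hx : IsClosed ({x} : Set X)) : x ≠ genericPoint X := by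
  intro h
  have huniv : (Set.univ : Set X) = {x} := by
    rw [h] at hx ⊢
    exact (genericPoint_spec X).def.symm.trans hx.closure_eq
  haveI : Subsingleton X := ⟨fun a b => ((huniv ▸ Set.mem_univ a : a ∈ ({x} : Set X))).trans
    ((huniv ▸ Set.mem_univ b : b ∈ ({x} : Set X))).symm⟩
  have := topologicalKrullDim_zero_of_discreteTopology X
  rw [hdim] at this
  exact absurd this (by simp)

theorem krullDimLE_stalk {X : Scheme.{u}} (hdim : topologicalKrullDim X ≤ 1) (x : X) :
    Ring.KrullDimLE 1 (X.presheaf.stalk x) := by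
  obtain ⟨U, hU, hx, -⟩ := exists_isAffineOpen_mem_and_subset (x := x) (U := ⊤) trivial
  haveI : Ring.KrullDimLE 1 Γ(X, U) := by
    rw [Ring.krullDimLE_iff, ← PrimeSpectrum.topologicalKrullDim_eq_ringKrullDim, Nat.cast_one]
    exact hU.fromSpec.isOpenEmbedding.isInducing.topologicalKrullDim_le.trans hdim
  letI := X.presheaf.algebra_section_stalk (⟨x, hx⟩ : U)
  haveI := hU.isLocalization_stalk ⟨x, hx⟩
  rw [Ring.krullDimLE_iff, IsLocalization.AtPrime.ringKrullDim_eq_height (hU.primeIdealOf ⟨x, hx⟩).asIdeal (X.presheaf.stalk x)]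
  exact (Ideal.height_le_ringKrullDim_of_ne_top (hU.primeIdealOf ⟨x, hx⟩).2.ne_top).trans
    (Ring.krullDimLE_iff.mp inferInstance)

theorem isIntegrallyClosed_of_mem_smoothLocus {k : Type u} [Field k] {X : Scheme.{u}} [X.Over (Spec (CommRingCat.of k))] [IsLocallyNoetherian X]
    [LocallyOfFinitePresentation (X ↘ Spec (CommRingCat.of k))] {x : X}
    (hx : x ∈ (X ↘ Spec (CommRingCat.of k)).smoothLocus) :
    IsRegularLocalRing (X.presheaf.stalk x) ∧ IsIntegrallyClosed (X.presheaf.stalk x) := by
  let f := X ↘ Spec (CommRingCat.of k)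
  letI : Algebra k (X.presheaf.stalk x) := Curv2.stalkAlgebra k X x
  let j : k →+* (Spec (CommRingCat.of k)).presheaf.stalk (f x) :=
    ((Spec (CommRingCat.of k)).presheaf.germ ⊤ (f x) trivial).hom.comp
      (Scheme.ΓSpecIso (CommRingCat.of k)).inv.hom
  have hj : Function.Bijective j := by
    refine ⟨RingHom.injective j, fun t => ?_⟩
    obtain ⟨U, hp, s, rfl⟩ := TopCat.Presheaf.exists_germ_eq (F := (Spec (CommRingCat.of k)).presheaf) t
    obtain rfl : U = ⊤ := eq_top_iff.mpr fun q _ => (Subsingleton.elim (α := PrimeSpectrum k) (f x) q) ▸ hp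
    exact ⟨(Scheme.ΓSpecIso (CommRingCat.of k)).hom s, by simp [j]⟩
  have hcomp : (f.stalkMap x).hom.comp j = Curv2.stalkMap k X x := RingHom.ext fun c => by
    change f.stalkMap x ((Spec (CommRingCat.of k)).presheaf.germ ⊤ (f x) trivial _) = _
    rw [Scheme.Hom.germ_stalkMap_apply]
    rfl
  haveI : Algebra.FormallySmooth k (X.presheaf.stalk x) := by
    have h : (Curv2.stalkMap k X x).FormallySmooth :=
      hcomp ▸ RingHom.FormallySmooth.comp (RingHom.FormallySmooth.of_bijective hj) (Scheme.Hom.mem_smoothLocus.mp hx)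
    exact h
  haveI : IsRegularLocalRing (X.presheaf.stalk x) := CohenLib.isRegularLocalRing_of_formallySmooth (k := k)
  exact ⟨inferInstance, NormalLib.isIntegrallyClosed_of_isRegularLocalRing _⟩

theorem dvr_stalk {k : Type u} [Field k] {X : Scheme.{u}} (pX : X ⟶ Spec (CommRingCat.of k)) [Smooth pX]
    [IsIntegral X] (hdim : topologicalKrullDim X = 1) {x : X} (hx : IsClosed ({x} : Set X)) :
    IsDiscreteValuationRing (X.presheaf.stalk x) := by
  letI : X.Over (Spec (CommRingCat.of k)) := ⟨pX⟩
  haveI : Smooth (X ↘ Spec (CommRingCat.of k)) := ‹Smooth pX›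
  haveI : IsLocallyNoetherian X := LocallyOfFiniteType.isLocallyNoetherian pX
  haveI := krullDimLE_stalk hdim.le x
  have hn : IsIntegrallyClosed (X.presheaf.stalk x) :=
    (isIntegrallyClosed_of_mem_smoothLocus (k := k) (x := x)
      (by rw [Scheme.Hom.smoothLocus_eq_top]; exact trivial)).2
  have hnf : ¬ IsField (X.presheaf.stalk x) := by
    intro hF
    refine ne_genericPoint_of_isClosed hdim hx ?_
    letI := hF.toField
    obtain ⟨p, hp⟩ : genericPoint X ∈ Set.range (X.fromSpecStalk x) := by
      rw [X.range_fromSpecStalk]; exact (genericPoint_spec X).specializes trivial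
    have : p = IsLocalRing.closedPoint (X.presheaf.stalk x) :=
      PrimeSpectrum.ext ((Ideal.eq_bot_of_prime p.asIdeal).trans (Ideal.eq_bot_of_prime _).symm)
    rw [← hp, this, X.fromSpecStalk_closedPoint]
  refine ((IsDiscreteValuationRing.TFAE (X.presheaf.stalk x) hnf).out 0 3 rfl rfl).mpr ?_
  refine ⟨hn, ⟨IsLocalRing.maximalIdeal _, ⟨fun h => hnf (IsLocalRing.isField_iff_maximalIdeal_eq.mpr h),
    inferInstance⟩, ?_⟩⟩
  rintro Q ⟨hQ, hQp⟩
  exact IsLocalRing.eq_maximalIdeal (Ring.krullDimLE_one_iff_of_noZeroDivisors.mp inferInstance Q hQ hQp)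

/-- Pointwise criterion for a map of smooth curves to be étale: let k be an algebraically closed field,
X and Y integral schemes each smooth, separated and quasi-compact over Spec k and of dimension one,
φ : X → Y a morphism over k and x a closed point of X. Then φ is étale at x (the restriction of φ to
some open neighbourhood of x is étale) if and only if the induced homomorphism of stalks O_{Y,φ(x)}
→ O_{X,x} carries the maximal ideal of the discrete valuation ring O_{Y,φ(x)} to an ideal generating
the maximal ideal of O_{X,x}; equivalently a uniformiser at φ(x) pulls back to a uniformiser at x.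
(The published statement is for smooth curves, which are in addition geometrically connected;
integrality is what is used. For a constant φ both sides fail.) -/
theorem result (k : Type u) [Field k] [IsAlgClosed k] {X Y : Scheme.{u}}
    (pX : X ⟶ Spec (CommRingCat.of k)) (pY : Y ⟶ Spec (CommRingCat.of k)) (φ : X ⟶ Y) (w : φ ≫ pY = pX)
    [IsIntegral X] [Smooth pX] [IsSeparated pX] [QuasiCompact pX] (hdX : topologicalKrullDim X = 1)
    [IsIntegral Y] [Smooth pY] [IsSeparated pY] [QuasiCompact pY] (hdY : topologicalKrullDim Y = 1)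
    (x : X) (hx : IsClosed ({x} : Set X)) :
    (∃ U : X.Opens, x ∈ U ∧ Etale (U.ι ≫ φ)) ↔
      Ideal.map (φ.stalkMap x).hom (IsLocalRing.maximalIdeal (Y.presheaf.stalk (φ.base x))) =
        IsLocalRing.maximalIdeal (X.presheaf.stalk x) := by
  haveI : LocallyOfFiniteType (φ ≫ pY) := by rw [w]; infer_instance
  haveI : LocallyOfFiniteType φ := locallyOfFiniteType_of_comp φ pY
  haveI : IsLocallyNoetherian Y := LocallyOfFiniteType.isLocallyNoetherian pY
  have hs : Function.Surjective (φ.residueFieldMap x).hom := by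
    have hx' := hx
    have he : (residueFieldIsoBase (φ ≫ pY) x hx').inv =
        Spec.preimage (Y.fromSpecResidueField (φ x) ≫ pY) ≫ φ.residueFieldMap x := by
      apply Spec.map_injective
      rw [Spec.map_comp, Spec.map_preimage, SpecMap_residueFieldIsoBase_inv,
        Scheme.Hom.SpecMap_residueFieldMap_fromSpecResidueField_assoc]
    intro a
    obtain ⟨b, hb⟩ := (ConcreteCategory.bijective_of_isIso (residueFieldIsoBase (φ ≫ pY) x hx').inv).surjective a
    rw [he] at hb
    exact ⟨_, hb⟩
  have hres : (letI := (φ.residueFieldMap x).hom.toAlgebra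
      Module.Finite (Y.residueField (φ x)) (X.residueField x) ∧
        Algebra.IsSeparable (Y.residueField (φ x)) (X.residueField x)) := by
    letI := (φ.residueFieldMap x).hom.toAlgebra
    refine ⟨Module.Finite.of_surjective (Algebra.linearMap (Y.residueField (φ x)) (X.residueField x)) hs,
      ⟨fun a => ?_⟩⟩
    obtain ⟨b, rfl⟩ := hs a
    exact isSeparable_algebraMap b
  rw [Groth.Agent.S9566.result φ x]
  refine ⟨fun h => h.2.1, fun h => ⟨?_, h, hres⟩⟩
  haveI := dvr_stalk pX hdX hx
  have hyc : IsClosed ({φ x} : Set Y) := by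
    haveI : JacobsonSpace Y := LocallyOfFiniteType.jacobsonSpace pY
    obtain ⟨hp, hpx⟩ : pointOfClosedPoint (φ ≫ pY) x hx ≫ (φ ≫ pY) = 𝟙 _ ∧
        pointOfClosedPoint (φ ≫ pY) x hx (IsLocalRing.closedPoint k) = x :=
      ⟨pointOfClosedPoint_comp _ x hx, pointOfClosedPoint_apply _ x hx _⟩
    have hq : (pointOfClosedPoint (φ ≫ pY) x hx ≫ φ) ≫ pY = 𝟙 _ := by rw [Category.assoc, hp]
    have := (pointEquivClosedPoint pY ⟨_, hq⟩).2
    rw [mem_closedPoints_iff] at this
    have he : ((pointEquivClosedPoint pY ⟨_, hq⟩ : closedPoints Y) : Y) = φ x := by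
      change φ (pointOfClosedPoint (φ ≫ pY) x hx (IsLocalRing.closedPoint k)) = φ x
      rw [hpx]
    rwa [he] at this
  haveI : IsDiscreteValuationRing (Y.presheaf.stalk (φ x)) := dvr_stalk pY hdY hyc
  have hinj : Function.Injective (φ.stalkMap x).hom := by
    rw [RingHom.injective_iff_ker_eq_bot]
    by_contra hne
    haveI : (RingHom.ker (φ.stalkMap x).hom).IsPrime := RingHom.ker_isPrime _
    have hker : RingHom.ker (φ.stalkMap x).hom = IsLocalRing.maximalIdeal (Y.presheaf.stalk (φ x)) :=
      IsLocalRing.eq_maximalIdeal (Ideal.IsPrime.isMaximal ‹_› hne)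
    refine IsDiscreteValuationRing.not_a_field (X.presheaf.stalk x) (le_bot_iff.mp ?_)
    rw [← h, Ideal.map_le_iff_le_comap, ← RingHom.ker_eq_comap_bot, hker]
  letI := (φ.stalkMap x).hom.toAlgebra
  haveI : Module.IsTorsionFree (Y.presheaf.stalk (φ x)) (X.presheaf.stalk x) := by
    haveI : FaithfulSMul (Y.presheaf.stalk (φ x)) (X.presheaf.stalk x) :=
      (faithfulSMul_iff_algebraMap_injective _ _).mpr hinj
    infer_instance
  show Module.Flat (Y.presheaf.stalk (φ x)) (X.presheaf.stalk x)
  infer_instance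

end Groth.Agent.S19541
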