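import Groth.Statements.S19544
import Mathlib
import Groth.Agent.SerreSplitLib.Cancel

set_option autoImplicit false
universe u
open CAlg

namespace Groth.Agent.S19544

open Groth.Agent.SerreSplitLib in
theorem exists_proj (R : Type u) [CommRing R] [IsNoetherianRing R] (d n : ℕ) (hdim : ringKrullDim R = d)
    (P : Type u) [AddCommGroup P] [Module R P] [Module.Finite R P] [Module.Projective R P]
    (hrk : ∀ p : PrimeSpectrum R, Module.rankAtStalk (R := R) P p = n) :
    ∀ j : ℕ, j + d ≤ n → ∃ (π : P →ₗ[R] (Fin j → R)) (σ : (Fin j → R) →ₗ[R] P), ∀ c, π (σ c) = c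
  | 0, _ => ⟨0, 0, fun c => Subsingleton.elim _ _⟩
  | j + 1, hj => by
    obtain ⟨π, σ, hπσ⟩ := exists_proj R d n hdim P hrk j (by omega)
    haveI := noetherianSpace_maximalSpectrum (R := R)
    let pr : P →ₗ[R] LinearMap.ker π :=
      LinearMap.codRestrict (LinearMap.ker π) (LinearMap.id - σ.comp π) fun x => by simp [hπσ]
    have hpr : ∀ x : LinearMap.ker π, pr x.1 = x := fun x => Subtype.ext (by
      simp [pr, LinearMap.mem_ker.1 x.2])
    have hprσ : ∀ c, pr (σ c) = 0 := fun c => Subtype.ext (by simp [pr, hπσ])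
    haveI : Module.Projective R (LinearMap.ker π) :=
      Module.Projective.of_split (LinearMap.ker π).subtype pr (LinearMap.ext hpr)
    haveI : Module.Finite R (LinearMap.ker π) := Module.Finite.of_surjective pr fun x => ⟨x.1, hpr x⟩
    let eP : P ≃ₗ[R] LinearMap.ker π × (Fin j → R) := LinearEquiv.ofLinear (pr.prod π)
      ((LinearMap.ker π).subtype.coprod σ)
      (LinearMap.ext fun z => by
        ext1
        · simp [LinearMap.prod_apply, hpr, hprσ]
        · simp [LinearMap.prod_apply, hπσ])
      (LinearMap.ext fun x => by simp [pr])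
    have hker : ∀ p : PrimeSpectrum R, Module.rankAtStalk (R := R) (LinearMap.ker π) p + j = n := fun p => by
      rw [← hrk p, Module.rankAtStalk_eq_of_equiv eP, Module.rankAtStalk_prod, Pi.add_apply]
      haveI : Nontrivial R := PrimeSpectrum.nontrivial p
      simp
    obtain ⟨t, φ, hφ⟩ := exists_unimodular_shift (R := R) (M := LinearMap.ker π) d
      (topologicalKrullDim_maximalSpectrum_le.trans hdim.le)
      (fun x => exists_indep_of_rankAtStalk (n := n - j) (by omega) x
        (by have := hker x.toPrimeSpectrum; omega))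
      0 1 (fun x hx => absurd ((Ideal.eq_top_iff_one _).2 hx) x.isMaximal.ne_top)
    rw [zero_add, one_smul] at hφ
    let π' : P →ₗ[R] (Fin (j + 1) → R) :=
      (Fin.consLinearEquiv R (fun _ : Fin (j + 1) => R)).toLinearMap.comp ((φ.comp pr).prod π)
    let σ' : (Fin (j + 1) → R) →ₗ[R] P :=
      ((LinearMap.toSpanSingleton R P t.1).coprod σ).comp
        (Fin.consLinearEquiv R (fun _ : Fin (j + 1) => R)).symm.toLinearMap
    refine ⟨π', σ', fun c => ?_⟩
    obtain ⟨⟨a, b⟩, rfl⟩ := (Fin.consLinearEquiv R (fun _ : Fin (j + 1) => R)).surjective c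
    simp [π', σ', hpr, hprσ, hπσ, hφ, LinearMap.mem_ker.1 t.2]

/-- Let R be a Noetherian ring of Krull dimension d and P a finitely generated projective R-module of
constant rank n at every prime of R, with n > d. Then P is isomorphic to P₀ ⊕ R^(n-d) for some
module P₀; concretely, P has complementary submodules P₀ and Q with Q free of rank n - d. -/
theorem result (R : Type u) [CommRing R]
    [IsNoetherianRing R] (d n : ℕ) (hdim : ringKrullDim R = d)
    (P : Type u) [AddCommGroup P] [Module R P] [Module.Finite R P] [Module.Projective R P]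
    (hrk : ∀ p : PrimeSpectrum R, Module.rankAtStalk (R := R) P p = n) (hnd : d < n) :
    ∃ (P₀ Q : Submodule R P), IsCompl P₀ Q ∧ Nonempty (Q ≃ₗ[R] (Fin (n - d) → R)) := by
  obtain ⟨π, σ, hπσ⟩ := exists_proj R d n hdim P hrk (n - d) (by omega)
  have hinj : Function.Injective σ := fun a b h => by rw [← hπσ a, ← hπσ b, h]
  refine ⟨LinearMap.range (LinearMap.id - σ.comp π), LinearMap.range σ, ?_, ⟨(LinearEquiv.ofInjective σ hinj).symm⟩⟩
  constructor
  · rw [Submodule.disjoint_def]
    rintro _ ⟨x, rfl⟩ ⟨c, hc⟩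
    have h1 := congrArg π hc
    simp [hπσ] at h1
    rw [h1, map_zero] at hc
    exact hc.symm
  · rw [codisjoint_iff, Submodule.eq_top_iff']
    intro x
    exact Submodule.mem_sup.2 ⟨_, ⟨x, rfl⟩, _, ⟨π x, rfl⟩, by simp⟩

end Groth.Agent.S19544
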