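import Groth.Statements.S19546
import Groth.Agent.HopfLib.Basic
import Mathlib.Analysis.Complex.Polynomial.Basic
import Mathlib.LinearAlgebra.FiniteDimensional.Basic
import Mathlib.LinearAlgebra.TensorProduct.Finiteness
-- import your own Groth.Agent.* helpers here

set_option autoImplicit false
universe u v w
open scoped TensorProduct
open VBCurve

namespace Groth.Agent.S19546

/-- Let A, B, C be complex vector spaces, A and B finite-dimensional, and ν : A ⊗ B → C a linear map
injective on each factor separately (b ↦ ν(a ⊗ b) is injective for every a ≠ 0 and a ↦ ν(a ⊗ b) is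
injective for every b ≠ 0). Then the image of ν has dimension at least dim A + dim B - 1. (For A = 0
the separate-injectivity hypothesis is empty and the inequality fails as soon as dim B ≥ 2, so A and
B are taken nonzero here, the case the inequality is about.) -/
theorem result
    (A : Type u) (B : Type v) (C : Type w) [AddCommGroup A] [Module ℂ A] [AddCommGroup B] [Module ℂ B]
    [AddCommGroup C] [Module ℂ C] [FiniteDimensional ℂ A] [FiniteDimensional ℂ B]
    [Nontrivial A] [Nontrivial B] (ν : A ⊗[ℂ] B →ₗ[ℂ] C)
    (hA : ∀ a : A, a ≠ 0 → Function.Injective (fun b : B => ν (a ⊗ₜ[ℂ] b)))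
    (hB : ∀ b : B, b ≠ 0 → Function.Injective (fun a : A => ν (a ⊗ₜ[ℂ] b))) :
    Module.finrank ℂ A + Module.finrank ℂ B ≤ Module.finrank ℂ (LinearMap.range ν) + 1 := by
  classical
  let bA := Module.finBasis ℂ A
  let bB := Module.finBasis ℂ B
  have : Module.Finite ℂ (LinearMap.range ν) := inferInstance
  let bC := Module.finBasis ℂ (LinearMap.range ν)
  let w : A → B → LinearMap.range ν := fun x y => ν.rangeRestrict (x ⊗ₜ y)
  refine HopfLib.hopf (K := ℂ) (fun k p => bC.repr (w (bA p.1) (bB p.2)) k) Module.finrank_pos
    Module.finrank_pos fun u v h i j => ?_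
  let x := ∑ i, u i • bA i
  let y := ∑ j, v j • bB j
  have hw : w x y = 0 := by
    apply bC.repr.injective
    ext k
    rw [map_zero, Finsupp.zero_apply, ← h k, Fintype.sum_prod_type]
    simp only [w, x, y, TensorProduct.sum_tmul, TensorProduct.tmul_sum, ← TensorProduct.smul_tmul',
      TensorProduct.tmul_smul, map_sum, map_smul, Finsupp.smul_apply, Finsupp.coe_finset_sum,
      Finset.sum_apply, smul_eq_mul, Finset.mul_sum]
    rw [Finset.sum_comm]
    refine Finset.sum_congr rfl fun i _ => Finset.sum_congr rfl fun j _ => ?_
    ring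
  have hν : ν (x ⊗ₜ y) = 0 := congrArg Subtype.val hw
  by_cases hx : x = 0
  · have : u i = 0 := Fintype.linearIndependent_iff.mp bA.linearIndependent u hx i
    rw [this, zero_mul]
  · have hy : y = 0 := hA x hx (by simpa using hν)
    have : v j = 0 := Fintype.linearIndependent_iff.mp bB.linearIndependent v hy j
    rw [this, mul_zero]

end Groth.Agent.S19546
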