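import Groth.Statements.S19548
import Groth.Agent.RootSys.Inversion
import Groth.Agent.RootSys.PMorph

set_option autoImplicit false
universe u
open CategoryTheory AlgebraicGeometry
open RedSub

namespace Groth.Agent.S19548

open RootSysLib RootBasicLib RootPairing

/-- Let Φ be a finite reduced root system (a reduced root pairing over ℤ on a finite index set) with a
base b, let w = σ_{α_1} ⋯ σ_{α_ℓ} be a reduced decomposition of a Weyl group element into simple
reflections (every α_j in the base, and no shorter word in the simple reflections gives the same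
permutation of the roots), and let γ be a positive root with w⁻¹(γ) negative. Then for some i with 1
≤ i ≤ ℓ one has σ_γ σ_{α_1} ⋯ σ_{α_i} = σ_{α_1} ⋯ σ_{α_{i-1}}. (Indices are shifted by one below:
the word is a list and the prefixes are its first i + 1 and first i letters.) -/
theorem result {idx M N : Type}
    [AddCommGroup M] [AddCommGroup N] [Finite idx]
    (P : RootPairing idx ℤ M N) [P.IsReduced] (b : P.Base) (l : List idx)
    (hl : ∀ a ∈ l, a ∈ b.support)
    (hred : ∀ l' : List idx, (∀ a ∈ l', a ∈ b.support) →
      RedSub.wordPerm P l' = RedSub.wordPerm P l → l.length ≤ l'.length)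
    (c : idx) (hc : c ∈ RedSub.posRoots P b) (hneg : (RedSub.wordPerm P l).symm c ∈ RedSub.negRoots P b) :
    ∃ i : ℕ, i < l.length ∧
      P.reflectionPerm c * RedSub.wordPerm P (l.take (i + 1)) = RedSub.wordPerm P (l.take i) := by
  classical
  have hΔ : RootD.IsSimpleSys P (b.support : Set idx) := isSimpleSys_base b
  let S : Set idx := RootD.posOf P (b.support : Set idx)
  have hu : ∀ (t : List idx) a, RedSub.wordPerm P t a =
      (t.map fun a => RootPairing.Equiv.reflection P a).prod • a := by
    intro t a
    show (t.map P.reflectionPerm).prod a = (t.map fun a => RootPairing.Equiv.reflection P a).prod • a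
    induction t generalizing a with
    | nil => simp
    | cons x t ih =>
      simp only [List.map_cons, List.prod_cons, Equiv.Perm.mul_apply, ih, mul_smul, reflection_smul_idx]
  have hcS : (RedSub.wordPerm P (l.take 0)).symm c ∈ S := by
    simp only [List.take_zero]
    exact hc
  have hlS : (RedSub.wordPerm P (l.take l.length)).symm c ∉ S := by
    rw [List.take_length]
    intro h
    have h2 : -P.root ((RedSub.wordPerm P l).symm c) ∈ RootD.natSpan P (b.support : Set idx) := hneg
    refine neg_notMem_posOf hΔ h ?_
    show P.root (P.reflectionPerm _ _) ∈ RootD.natSpan P (b.support : Set idx)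
    rwa [root_neg]
  obtain ⟨i, hi, hpos, hnpos⟩ : ∃ i, i < l.length ∧ (RedSub.wordPerm P (l.take i)).symm c ∈ S ∧
      (RedSub.wordPerm P (l.take (i + 1))).symm c ∉ S := by
    by_contra hcon
    push Not at hcon
    have : ∀ i, i ≤ l.length → (RedSub.wordPerm P (l.take i)).symm c ∈ S := by
      intro i
      induction i with
      | zero => exact fun _ => hcS
      | succ i ih => exact fun hi => hcon i hi (ih (Nat.le_of_succ_le hi))
    exact hlS (this _ le_rfl)
  refine ⟨i, hi, ?_⟩
  set α := l[i]
  set β := (RedSub.wordPerm P (l.take i)).symm c with hβ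
  have hsplit : RedSub.wordPerm P (l.take (i + 1)) = RedSub.wordPerm P (l.take i) * P.reflectionPerm α := by
    rw [List.take_succ_eq_append_getElem hi]
    simp only [RedSub.wordPerm, List.map_append, List.prod_append, List.map_cons, List.map_nil,
      List.prod_cons, List.prod_nil, mul_one]
    rfl
  have hnpos' : P.reflectionPerm α β ∉ S := by
    intro h
    refine hnpos ?_
    rw [hsplit]
    have : (RedSub.wordPerm P (l.take i) * P.reflectionPerm α).symm c = P.reflectionPerm α β := by
      rw [Equiv.symm_apply_eq, Equiv.Perm.mul_apply, P.reflectionPerm_self, hβ, Equiv.apply_symm_apply]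
    rw [this]
    exact h
  have hαΔ : α ∈ (b.support : Set idx) := hl α (List.getElem_mem hi)
  obtain ⟨z, hz, he⟩ := (reflect_mem_posOf_or hΔ hαΔ hpos).resolve_left hnpos'
  have hβα : β = α := eq_of_isIndiv (isIndiv_of_reduced β) hz he
  have hcα : (l.take i |>.map fun a => RootPairing.Equiv.reflection P a).prod • α = c := by
    rw [← hu, ← hβα, hβ, Equiv.apply_symm_apply]
  apply Equiv.ext
  intro x
  rw [Equiv.Perm.mul_apply, hsplit, Equiv.Perm.mul_apply, hu, hu, ← reflection_smul_idx (P := P) c,
    ← reflection_smul_idx (P := P) α, ← hcα, ← aut_mul_reflection_mul_inv, mul_smul, mul_smul,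
    inv_smul_smul, reflection_smul_idx, reflection_smul_idx, P.reflectionPerm_self]

end Groth.Agent.S19548
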