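import Groth.Statements.S19550
import Groth.Agent.SchFinLib.Conn

set_option autoImplicit false
universe u
open SchFin SchFin.RSpace

namespace Groth.Agent.S19550

open SchFin in
/-- Let X be a well-connected schematic finite space and f : A → B a morphism of quasi-coherent algebras
between trivial étale covers A ≅ O_X^F and B ≅ O_X^E, F and E finite sets. Then f is induced by a
map of finite sets φ : E → F. Here the trivial algebras are written out: f is a family of
O_p-algebra maps (F → O_p) → (E → O_p), one for each point p, compatible with the restriction maps,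
and the conclusion says f_p(g) = g ∘ φ for every p and g. (The published statement names a map F →
E; a map of algebras of functions O^F → O^E is composition with a map E → F, which is what this row
states.) -/
theorem result (X : RSpace.{u})
    (hX : X.IsSchematic) (hW : X.IsWellConnected) (F E : Type) [Finite F] [Finite E]
    (f : ∀ p : X.pt, (F → X.ring p) →ₐ[X.ring p] (E → X.ring p))
    (hf : ∀ (p q : X.pt) (h : p ≤ q) (g : F → X.ring p) (e : E),
      X.res h (f p g e) = f q (fun i => X.res h (g i)) e) :
    ∃ φ : E → F, ∀ (p : X.pt) (g : F → X.ring p) (e : E), f p g e = g (φ e) := by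
    classical
  cases nonempty_fintype F
  obtain ⟨⟨p₀⟩, -⟩ := ((Groth.Agent.SchFinLib.isWellConnected_iff X).1 hW).1
  haveI hnt : ∀ p, Nontrivial (X.ring p) := fun p =>
    ((Groth.Agent.SchFinLib.connectedSpace_iff_idempotent).1 (hW.2 p)).1
  let δ : ∀ (p : X.pt), F → F → X.ring p := fun p i => Pi.single i 1
  have hsum : ∀ (p : X.pt) (g : F → X.ring p) (e : E), f p g e = ∑ i, g i * f p (δ p i) e := by
    intro p g e
    conv_lhs => rw [show g = ∑ i, g i • δ p i by funext j; simp [δ, Finset.sum_apply, Pi.single_apply]]
    simp [map_sum, Finset.sum_apply]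
  have hdich : ∀ (e : E) (i : F), (∀ p, f p (δ p i) e = 0) ∨ ∀ p, f p (δ p i) e = 1 := by
    intro e i
    refine Groth.Agent.SchFinLib.idempotent_const hW _ (fun p => ?_) fun p q h => ?_
    · have hi : IsIdempotentElem (δ p i) := funext fun j => by
        by_cases hj : j = i <;> simp [δ, Pi.mul_apply, Pi.single_apply, hj]
      exact hi.map ((Pi.evalRingHom (fun _ : E => X.ring p) e).comp (f p).toRingHom)
    · rw [hf p q h]
      exact congrFun (congrArg (f q) (funext fun j => by
        by_cases hj : j = i <;> simp [δ, Pi.single_apply, hj])) e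
  have hex : ∀ e : E, ∃ i : F, ∀ p, f p (δ p i) e = 1 := by
    intro e
    by_contra! hne
    have h1 := hsum p₀ 1 e
    rw [map_one, Finset.sum_eq_zero fun i _ => by
      rw [((hdich e i).resolve_right fun h => by obtain ⟨p, hp⟩ := hne i; exact hp (h p)) p₀, mul_zero]] at h1
    exact one_ne_zero h1
  choose φ hφ using hex
  refine ⟨φ, fun p g e => ?_⟩
  rw [hsum, Finset.sum_eq_single (φ e)]
  · rw [hφ e p, mul_one]
  · intro i _ hi
    have h0 : f p (δ p i) e = 0 := by
      have h := congrFun ((map_mul (f p) (δ p i) (δ p (φ e))).symm.trans
        (by rw [show δ p i * δ p (φ e) = 0 from funext fun j => by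
          by_cases hj : j = i <;> simp [δ, Pi.single_apply, hj, hi], map_zero])) e
      rw [Pi.mul_apply, hφ e p, mul_one] at h
      exact h
    rw [h0, mul_zero]
  · exact fun h => absurd (Finset.mem_univ _) h

end Groth.Agent.S19550
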