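import Groth.Statements.S19552
import Mathlib
import Groth.Agent.SerreSplitLib.Cancel

set_option autoImplicit false
universe u
open CAlg

namespace Groth.Agent.S19552

/-- Let R be a Noetherian ring of Krull dimension d and P, Q finitely generated projective R-modules of
constant rank at every prime which have the same class in the Grothendieck group, i.e. are stably
isomorphic: P ⊕ R^m ≅ Q ⊕ R^m for some m. Then there is a positive integer N with P^N ≅ Q^N. (The
two exponents in the published display are read as the same integer N; for modules of positive rank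
an isomorphism between direct powers forces equal exponents.) -/
theorem result (R : Type u) [CommRing R] [IsNoetherianRing R]
    (d n : ℕ) (hdim : ringKrullDim R = d)
    (P Q : Type u) [AddCommGroup P] [Module R P] [Module.Finite R P] [Module.Projective R P]
    [AddCommGroup Q] [Module R Q] [Module.Finite R Q] [Module.Projective R Q]
    (hrk : ∀ p : PrimeSpectrum R, Module.rankAtStalk (R := R) P p = n)
    (hrk' : ∀ p : PrimeSpectrum R, Module.rankAtStalk (R := R) Q p = n)
    (m : ℕ) (e : (P × (Fin m → R)) ≃ₗ[R] (Q × (Fin m → R))) :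
    ∃ N : ℕ, 1 ≤ N ∧ Nonempty ((Fin N → P) ≃ₗ[R] (Fin N → Q)) := by
  haveI := Groth.Agent.SerreSplitLib.noetherianSpace_maximalSpectrum (R := R)
  rcases Nat.eq_zero_or_pos n with hn | hn
  · haveI : Subsingleton P := (Module.rankAtStalk_eq_zero_iff_subsingleton (R := R)).1 (funext fun p => by rw [hrk, hn]; rfl)
    haveI : Subsingleton Q := (Module.rankAtStalk_eq_zero_iff_subsingleton (R := R)).1 (funext fun p => by rw [hrk', hn]; rfl)
    exact ⟨1, le_refl 1, ⟨⟨⟨⟨fun _ => 0, by intros; simp⟩, by intros; simp⟩, fun _ => 0,
      fun _ => Subsingleton.elim _ _, fun _ => Subsingleton.elim _ _⟩⟩⟩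
  let N := d + 1
  have hr : ∀ p : PrimeSpectrum R, Module.rankAtStalk (R := R) (Fin N → P) p = N * n := fun p => by
    rw [Module.rankAtStalk_pi, finsum_eq_sum_of_fintype]; simp [hrk]
  haveI : Module.Projective R (Fin N → P) :=
    Module.Projective.of_equiv (DFinsupp.linearEquivFunOnFintype (R := R) (M := fun _ : Fin N => P))
  have hle : d + 1 ≤ N * n := Nat.le_mul_of_pos_right _ hn
  obtain ⟨f⟩ : Nonempty ((Fin N → (Fin m → R)) ≃ₗ[R] (Fin (N * m) → R)) :=
    ⟨(LinearEquiv.curry R R (Fin N) (Fin m)).symm.trans (LinearEquiv.funCongrLeft R R finProdFinEquiv.symm)⟩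
  let split : ∀ (A : Type u) [AddCommGroup A] [Module R A],
      ((Fin N → A) × (Fin (N * m) → R)) ≃ₗ[R] (Fin N → A × (Fin m → R)) := fun A _ _ =>
    ((LinearEquiv.refl R (Fin N → A)).prodCongr f.symm).trans
      { toFun := fun z i => (z.1 i, z.2 i)
        invFun := fun z => (fun i => (z i).1, fun i => (z i).2)
        map_add' := fun _ _ => rfl
        map_smul' := fun _ _ => rfl
        left_inv := fun _ => rfl
        right_inv := fun _ => rfl }
  exact ⟨N, Nat.succ_pos d, Groth.Agent.SerreSplitLib.cancel d
    (Groth.Agent.SerreSplitLib.topologicalKrullDim_maximalSpectrum_le.trans hdim.le) (N * m)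
    (fun x => Groth.Agent.SerreSplitLib.exists_indep_of_rankAtStalk hle x (hr x.toPrimeSpectrum))
    (((split P).trans (LinearEquiv.piCongrRight fun _ : Fin N => e)).trans (split Q).symm)⟩

end Groth.Agent.S19552
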