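import Groth.Statements.S19558
import Groth.Agent.EtaleDetLib.Scheme
import Groth.Agent.S13428
import Groth.Agent.DepthLib.GeomRk
import Groth.Agent.NeronExtLib.BaseChange
-- import your own Groth.Agent.* helpers here

set_option autoImplicit false
universe u
open CategoryTheory CategoryTheory.Limits MonoidalCategory CartesianMonoidalCategory MonObj GrpObj AlgebraicGeometry
open NeronHD

namespace Groth.Agent.S19558

set_option backward.isDefEq.respectTransparency false

open CategoryTheory CategoryTheory.Limits AlgebraicGeometry

/-- Let S be a locally Noetherian scheme over a field of characteristic 0 which satisfies Serre's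
condition (S₂), i.e. every local ring O_{S,x} has depth at least min(2, dim O_{S,x}), and let S₁ ⊆ S
be a scheme-theoretically dense open whose complement has codimension at least 2 (dim O_{S,x} ≥ 2
for every point x outside S₁). Let G and H be smooth S-group schemes (group objects in the cartesian
monoidal category of S-schemes), H having the Néron mapping property for S₁ ⊆ S (restriction to S₁
of S-morphisms from smooth S-schemes into H is bijective), and let f : G → H be a homomorphism of
S-group schemes whose restriction G|S₁ → H|S₁ is étale. Then f is étale. (So the Néron extension of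
an étale homomorphism G|S₁ → H|S₁ is étale. Case of schemes, with smooth test schemes, of a
statement about group algebraic spaces.) -/
theorem result {k : Type u} [Field k] [CharZero k] {S : Scheme.{u}} (σ : S ⟶ Spec (CommRingCat.of k)) [IsLocallyNoetherian S]
    (hS2 : ∀ x : S, min (2 : WithBot ℕ∞) (ringKrullDim (S.presheaf.stalk x)) ≤ ((LocCoh.depth (S.presheaf.stalk x) (S.presheaf.stalk x) : ℕ∞) : WithBot ℕ∞))
    (S₁ : S.Opens) (hS₁ : CInt.IsSchematicallyDense S₁)
    (hcodim : ∀ x : S, x ∉ S₁ → (2 : WithBot ℕ∞) ≤ ringKrullDim (S.presheaf.stalk x))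
    (G H : Over S) [GrpObj G] [GrpObj H] [Smooth G.hom] [Smooth H.hom]
    (hH : ∀ Z : Over S, Smooth Z.hom → Function.Bijective (fun g : Z ⟶ H => (Over.pullback S₁.ι).map g))
    (f : G ⟶ H) [IsMonHom f] [Etale ((Over.pullback S₁.ι).map f).left] :
    Etale f.left := by
  haveI : IsLocallyNoetherian G.left := LocallyOfFiniteType.isLocallyNoetherian G.hom
  let D : G.left.Opens := G.hom ⁻¹ᵁ S₁
  haveI : Etale (D.ι ≫ f.left) := by
    let e := IsOpenImmersion.isoOfRangeEq (pullback.fst G.hom S₁.ι) D.ι (by
      rw [Scheme.Opens.range_ι, Scheme.Pullback.range_fst, Scheme.Opens.range_ι]; rfl)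
    have he : e.hom ≫ D.ι = pullback.fst G.hom S₁.ι := IsOpenImmersion.isoOfRangeEq_hom_fac _ _ _
    rw [show D.ι ≫ f.left = e.inv ≫ ((Over.pullback S₁.ι).map f).left ≫ pullback.fst H.hom S₁.ι by
      rw [NeronExtLib.map_left_fst, ← reassoc_of% he, e.inv_hom_id_assoc]]
    infer_instance
  refine EtaleDetLib.etale_of_codim_one G.hom H.hom f.left (Over.w f) D
    ((Groth.Agent.S13428.dense_of_isSchematicallyDense hS₁).preimage G.hom.isOpenMap) fun g hg => ?_
  by_contra hgD
  have h2 : (2 : WithBot ℕ∞) ≤ ringKrullDim (G.left.presheaf.stalk g) :=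
    (hcodim (G.hom g) hgD).trans (DepthLib.ringKrullDim_stalk_le_of_flat G.hom g)
  exact absurd (h2.trans hg) (by decide)

end Groth.Agent.S19558
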