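import Groth.Statements.S1956
import Mathlib
import Groth.Agent.CycK0Lib.Scale
-- import your own Groth.Agent.* helpers here

set_option autoImplicit false
universe u
open CategoryTheory AlgebraicGeometry
open Cyc

namespace Groth.Agent.S1956

/-- For a k-cycle α = Σ n_Z [Z] on X rationally equivalent to zero, the classes of ⊕_{n_Z>0} O_Z^{n_Z}
and ⊕_{n_Z<0} O_Z^{−n_Z} agree in K_0(Coh_{≤k+1}(X)/Coh_{≤k−1}(X)); that is, Z_k(X) →
K_0(Coh_{≤k+1}/Coh_{≤k−1}) factors through CH_k(X). Here O_Z is the structure sheaf of the reduced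
closure of the generic point pushed forward to X, and K_0 of the Serre quotient is modelled as in
Cyc.K0CohQuot. Here a pair (X, δ) with Cyc.IsSetup plays the role of a scheme locally of finite type
over a fixed base with a dimension function (X locally Noetherian with universally catenary local
rings, δ a dimension function). -/
theorem result (X : Scheme.{u}) (δ : X → ℤ) (hX : Cyc.IsSetup X δ) (k : ℤ) (α : AlgebraicCycle X ℤ) (hα : α ∈ Cyc.Zk X δ k) (h0 : Cyc.RatEquivZero δ k α) : Cyc.toK0CohQuot δ (k + 1) (k - 1) (Cyc.cycleSheafPos ⇑α) = Cyc.toK0CohQuot δ (k + 1) (k - 1) (Cyc.cycleSheafNeg ⇑α) := by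
  classical
  haveI := hX.1
  obtain ⟨ι, ξ, f, hξ, hf, hlf, hsum⟩ := h0
  let a := fun i => CycK0Lib.aN (ξ i) (f i)⁻¹ (inv_ne_zero (hf i))
  have hLF : CycK0Lib.LocFin fun i => CycK0Lib.N (ξ i) := by
    intro x
    obtain ⟨U, hU, hxU, hfin⟩ := hlf x
    refine ⟨U, hU.mem_nhds hxU, hfin.subset fun i hi => ?_⟩
    obtain ⟨y, hy, hyU⟩ := hi
    exact ⟨y, CycK0Lib.support_le_closure (CycK0Lib.bN _) hy, hyU⟩
  have hP : ∀ i, CycK0Lib.P (fun x => δ x ≤ k + 1) (CycK0Lib.N (ξ i)) := fun i => CycK0Lib.P_N hX (hξ i).le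
  have hT : ∀ i, CycK0Lib.Twisted δ k (CycK0Lib.N (ξ i)) (CycK0Lib.N (ξ i)) (Cyc.divFun δ (ξ i) (f i)) := by
    intro i
    haveI : Mono (a i) := CycK0Lib.mono_aN _ _ _
    refine CycK0Lib.twisted_of_gen hX (hξ i) (CycK0Lib.isCoh_N _) (a i) _ (fun y hy => dif_neg hy) ?_
    intro y h
    let g : (DevissLib.St y).obj (CycK0Lib.N (ξ i)) :=
      (CycK0Lib.N (ξ i)).presheaf.germ ⊤ y trivial (CycK0Lib.uSec (ξ i) ⊤)
    have hv : CycK0Lib.val (a i) h g = (f i)⁻¹ := CycK0Lib.val_aN _ _ h _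
    refine ⟨g, by rw [hv]; exact inv_ne_zero (hf i), CycK0Lib.exists_smul_uSec (U := ⊤) trivial, fun hd => ?_⟩
    rw [hv, inv_inv, Cyc.divFun, dif_pos ⟨h, hd⟩]
  have key := CycK0Lib.twisted_family hX hP hP hLF hLF hT α hα fun y _ => hsum y
  rw [sub_self] at key
  exact sub_eq_zero.1 key.symm

end Groth.Agent.S1956
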