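import Groth.Statements.S19562
import Mathlib.LinearAlgebra.Dimension.RankNullity
import Mathlib.LinearAlgebra.FiniteDimensional.Lemmas
import Mathlib.RingTheory.Flat.LocallyFree

set_option autoImplicit false
universe u
open W4c1limliniiii

namespace Groth.Agent.S19562

open TensorProduct in
/-- Let k be a field, 0 < r < d, and f_i, g_i (i < n) linear maps forward and backward between
consecutive ones of n + 1 copies of k^d, forming a linked Grassmannian over Spec k whose scalar s is
zero: every composite f_i ∘ g_i and g_i ∘ f_i vanishes, rank f_i + rank g_i ≥ d, and for consecutive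
indices im f_i ∩ ker f_{i+1} = 0 and im g_{i+1} ∩ ker g_i = 0. Let (V_i) be a k-valued point of the
linked Grassmannian of rank-r sub-bundles (subspaces V_i of k ⊗ k^d with quotient of rank d − r,
with f_i(V_i) ⊆ V_{i+1} and g_i(V_{i+1}) ⊆ V_i). Then (V_i) is exact, meaning ker g_i ∩ V_{i+1} ⊆
f_i(V_i) and ker f_i ∩ V_i ⊆ g_i(V_{i+1}) for all i, if and only if dim f_i(V_i) + dim g_i(V_{i+1})
= r for all i. (The published assertion is for points with values in an arbitrary scheme and also
says that f_i(V_i) and g_i(V_{i+1}) are then sub-bundles; this row is the case of a field, where the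
last clause is empty.) -/
theorem result (k : Type u) [Field k]
    (d r n : ℕ) (hr : 0 < r) (hrd : r < d) (f g : Fin n → ((Fin d → k) →ₗ[k] (Fin d → k)))
    (hI : ∀ i, (f i).comp (g i) = 0 ∧ (g i).comp (f i) = 0)
    (hII : ∀ i, d ≤ Module.finrank k (LinearMap.range (f i)) + Module.finrank k (LinearMap.range (g i)))
    (hIII : ∀ i j : Fin n, i.val + 1 = j.val →
      LinearMap.range (f i) ⊓ LinearMap.ker (f j) = ⊥ ∧
        LinearMap.range (g j) ⊓ LinearMap.ker (g i) = ⊥)
    (V : Fin (n + 1) → Module.Grassmannian k (k ⊗[k] (Fin d → k)) (d - r))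
    (hV : V ∈ W4c1limliniiii.LGPoints k d r n f g k) :
    W4c1limliniiii.IsExact k d r n f g k V ↔
      ∀ i : Fin n,
        Module.finrank k ↥(Submodule.map ((f i).baseChange k) (V i.castSucc).toSubmodule) +
          Module.finrank k ↥(Submodule.map ((g i).baseChange k) (V i.succ).toSubmodule) = r := by
  have key : ∀ (a b : (k ⊗[k] (Fin d → k)) →ₗ[k] (k ⊗[k] (Fin d → k))) (P Q : Submodule k (k ⊗[k] (Fin d → k))),
      b.comp a = 0 → P.map a ≤ Q → Module.finrank k Q = r →
        ((LinearMap.ker b ⊓ Q ≤ P.map a) ↔ Module.finrank k (P.map a) + Module.finrank k (Q.map b) = r) := by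
    intro a b P Q hba hPQ hQ
    have hle : P.map a ≤ LinearMap.ker b ⊓ Q := le_inf (by
      rintro _ ⟨x, -, rfl⟩
      exact LinearMap.congr_fun hba x) hPQ
    have h1 : Module.finrank k (Q.map b) + Module.finrank k ↥(Q ⊓ LinearMap.ker b) = Module.finrank k Q := by
      have h := LinearMap.finrank_range_add_finrank_ker (K := k) (V := Q) (V₂ := k ⊗[k] (Fin d → k)) (b.domRestrict Q)
      rw [LinearMap.range_domRestrict, LinearMap.ker_domRestrict] at h
      rw [← h, ← Submodule.map_comap_subtype, Submodule.finrank_map_subtype_eq]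
    refine ⟨fun h => ?_, fun h => ?_⟩
    · rw [le_antisymm hle h, inf_comm]
      omega
    · have h2 : Module.finrank k ↥(LinearMap.ker b ⊓ Q) = Module.finrank k ↥(P.map a) := by
        rw [inf_comm]
        omega
      exact (Submodule.eq_of_le_of_finrank_eq hle h2.symm).ge
  have hrank : ∀ i, Module.finrank k (V i).toSubmodule = r := fun i => by
    have h1 := (V i).toSubmodule.finrank_quotient_add_finrank
    have h2 := (V i).rankAtStalk_eq ⟨⊥, Ideal.isPrime_bot⟩
    rw [Module.rankAtStalk_eq_finrank_of_free] at h2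
    have h3 : Module.finrank k (k ⊗[k] (Fin d → k)) = d := by simp
    have h4 : Module.finrank k ((k ⊗[k] (Fin d → k)) ⧸ (V i).toSubmodule) = d - r := h2
    omega
  have hfg : ∀ i, ((g i).baseChange k).comp ((f i).baseChange k) = 0 ∧
      ((f i).baseChange k).comp ((g i).baseChange k) = 0 := fun i => by
    constructor <;> rw [← LinearMap.baseChange_comp] <;> simp [(hI i).1, (hI i).2]
  refine ⟨fun h i => ?_, fun h i => ⟨?_, ?_⟩⟩
  · exact (key _ _ _ _ (hfg i).1 (hV i).1 (hrank _)).1 (h i).1
  · exact (key _ _ _ _ (hfg i).1 (hV i).1 (hrank _)).2 (h i)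
  · exact (key _ _ _ _ (hfg i).2 (hV i).2 (hrank _)).2 (by rw [add_comm]; exact h i)


end Groth.Agent.S19562
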