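import Groth.Statements.S19564
import Groth.Agent.SplitQuadLib.Basic

set_option autoImplicit false
universe u
open scoped BigOperators
open FrobAlg

namespace Groth.Agent.S19564

open MvPolynomial SplitQuadricAux

theorem coeff_proj_pow {p : ℕ} [Fact p.Prime] {n : ℕ} {k : Type u} [Field k] [CharP k p]
    (G : MvPolynomial (Fin n × Fin 2) k) : coeff (expo p) (proj (G ^ p)) = 0 := by
  have hp := (Fact.out : p.Prime).two_le
  induction G using MvPolynomial.induction_on' with
  | monomial m c =>
    rw [monomial_pow]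
    by_cases hm : m = 0
    · subst hm
      rw [smul_zero, proj_monomial, coeff_smul, if_pos (by simp)]
      simp only [Finsupp.coe_zero, Pi.zero_apply, pow_zero, Finset.prod_const_one]
      rw [MvPolynomial.coeff_one, if_neg, smul_zero]
      intro e
      simpa [expo] using congrArg (fun f => f 0) e
    · obtain ⟨v, hv⟩ := Finsupp.ne_iff.1 hm
      rw [Finsupp.zero_apply] at hv
      have hle : Finsupp.single v p ≤ p • m := fun w => by
        classical
        rw [Finsupp.single_apply, Finsupp.smul_apply, smul_eq_mul]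
        split_ifs with h
        · subst h; exact Nat.le_mul_of_pos_right p (Nat.pos_of_ne_zero hv)
        · exact Nat.zero_le _
      rw [show monomial (p • m) (c ^ p) = X v ^ p * monomial (p • m - Finsupp.single v p) (c ^ p) by
        rw [X_pow_eq_monomial, monomial_mul, one_mul, add_tsub_cancel_of_le hle]]
      exact proj_pow v _
  | add a b ha hb => rw [add_pow_char, map_add, coeff_add, ha, hb, add_zero]

theorem main {p : ℕ} [Fact p.Prime] {n : ℕ} {k : Type u} [Field k] [CharP k p] [PerfectRing k p]
    (hn : 3 ≤ n) :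
    ¬ FrobAlg.IsFLiftable p k
      (MvPolynomial (Fin n × Fin 2) k ⧸ Ideal.span
        {(∑ i : Fin n, MvPolynomial.X (i, (0 : Fin 2)) * MvPolynomial.X (i, (1 : Fin 2)) : MvPolynomial (Fin n × Fin 2) k)}) := by
  set I := Ideal.span {(∑ i : Fin n, MvPolynomial.X (i, (0 : Fin 2)) * MvPolynomial.X (i, (1 : Fin 2)) :
    MvPolynomial (Fin n × Fin 2) k)} with hI
  rintro ⟨B, instB, ι, π, Φ, h⟩
  have hP : p.Prime := Fact.out
  obtain ⟨C, hC⟩ := exists_cross (p := p) (n := n)
  have hker : ∀ b, π b = 0 → ∃ c, b = (p : B) * c := by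
    intro b hb
    have hb' : b ∈ RingHom.ker π := hb
    rw [h.ker_eq, W2LiftLib.ker_res, Ideal.map_span, Set.image_singleton, map_natCast,
      Ideal.mem_span_singleton] at hb'
    exact hb'
  have hpp : (p : B) * p = 0 := by
    simpa using congrArg ι (W2LiftLib.natCast_sq (p := p) (k := k))
  have hπp : π (p : B) = 0 := by
    rw [map_natCast, ← map_natCast (algebraMap k (MvPolynomial (Fin n × Fin 2) k ⧸ I)), CharP.cast_eq_zero, map_zero]
  choose Y hY using fun v : Fin n × Fin 2 => h.surj (Ideal.Quotient.mk I (X v))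
  have hΦ : ∀ b, ∃ c, Φ b = b ^ p + (p : B) * c := fun b => by
    obtain ⟨c, hc⟩ := hker (Φ b - b ^ p) (by rw [map_sub, h.red, map_pow, sub_self])
    exact ⟨c, by rw [← hc, add_sub_cancel]⟩
  choose ψ hψ using hΦ
  set u : Fin n → B := fun i => Y (i, 0) * Y (i, 1)
  obtain ⟨g, hg⟩ := hker (∑ i, u i) (by
    rw [map_sum]
    simp only [u, map_mul, hY]
    simp only [← map_mul, ← map_sum]
    rw [Ideal.Quotient.eq_zero_iff_mem]
    exact Ideal.subset_span (Set.mem_singleton _))
  set s : B := ∑ i, (Y (i, 0) ^ p * ψ (Y (i, 1)) + Y (i, 1) ^ p * ψ (Y (i, 0))) with hs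
  have hΦu : ∀ i, Φ (u i) = u i ^ p + (p : B) * (Y (i, 0) ^ p * ψ (Y (i, 1)) + Y (i, 1) ^ p * ψ (Y (i, 0))) := fun i => by
    simp only [u]
    rw [map_mul, hψ, hψ, mul_pow]
    linear_combination (ψ (Y (i, 0)) * ψ (Y (i, 1))) * hpp
  have hsum : ∑ i, u i ^ p + (p : B) * s = (p : B) * g ^ p := by
    have h1 : Φ (∑ i, u i) = Φ ((p : B) * g) := by rw [hg]
    rw [map_sum, Finset.sum_congr rfl fun i _ => hΦu i, Finset.sum_add_distrib, ← Finset.mul_sum, map_mul,
      map_natCast, hψ g] at h1
    linear_combination h1 + ψ g * hpp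
  have hF : (∑ i, u i) ^ p = 0 := by
    obtain ⟨r, hr⟩ : ∃ r, p = r + 2 := ⟨p - 2, by have := hP.two_le; omega⟩
    have h2 : ((p : B) * g) ^ 2 = 0 := by linear_combination g ^ 2 * hpp
    rw [hg, show ((p : B) * g) ^ p = ((p : B) * g) ^ (r + 2) from congrArg _ hr, pow_add, h2, mul_zero]
  have hpC : (p : B) * aeval u C = -∑ i, u i ^ p := by
    have := congrArg (aeval u) hC
    simp only [map_mul, map_natCast, map_sub, map_pow, map_sum, aeval_X] at this
    rw [this, hF, zero_sub]
  obtain ⟨m, hm⟩ := (W2LiftLib.ringHom_flat_iff ι).1 h.flat (aeval u C - s + g ^ p) (by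
    linear_combination hpC - hsum)
  obtain ⟨G, hG⟩ := Ideal.Quotient.mk_surjective (π g)
  choose Ψ hΨ using fun v => Ideal.Quotient.mk_surjective (π (ψ (Y v)))
  let S : MvPolynomial (Fin n × Fin 2) k := ∑ i, (X (i, 0) ^ p * Ψ (i, 1) + X (i, 1) ^ p * Ψ (i, 0))
  have hπ : π (aeval u C - s + g ^ p) = 0 := by rw [hm, map_mul, hπp, zero_mul]
  have hcomp : π (aeval u C) = Ideal.Quotient.mk I
      (aeval (fun i => (X (i, 0) * X (i, 1) : MvPolynomial (Fin n × Fin 2) k)) C) := by
    change ((π.comp (aeval u).toRingHom) C) = ((Ideal.Quotient.mk I).comp (aeval _).toRingHom) C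
    congr 1
    refine MvPolynomial.ringHom_ext (fun r => by simp) fun i => ?_
    simp [u, hY]
  have hπs : π s = Ideal.Quotient.mk I S := by
    simp only [hs, S, map_sum, map_add, map_mul, map_pow, hY, hΨ]
  rw [map_add, map_sub, hcomp, hπs, map_pow, ← hG, ← map_pow, ← map_sub, ← map_add,
    Ideal.Quotient.eq_zero_iff_mem] at hπ
  have hL : ∀ x ∈ I, ∀ g, coeff (expo p) (proj (x * g)) = 0 := by
    intro x hx
    rw [hI] at hx
    induction hx using Submodule.span_induction with
    | mem y hy =>
      intro g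
      rw [Set.mem_singleton_iff] at hy
      subst hy
      rw [Finset.sum_mul, map_sum]
      simp only [proj_pair]
      rw [← Finset.sum_mul, sub3_sum hn k (fun x => x) rfl, add_neg_cancel, zero_mul, coeff_zero]
    | zero => intro g; simp
    | add a b _ _ ha hb => intro g; rw [add_mul, map_add, coeff_add, ha, hb, add_zero]
    | smul a y _ hy => intro g; rw [smul_eq_mul, mul_assoc, mul_left_comm]; exact hy _
  have hS : coeff (expo p) (proj S) = 0 := by
    rw [map_sum, coeff_sum]
    exact Finset.sum_eq_zero fun i _ => by rw [map_add, coeff_add, proj_pow, proj_pow, add_zero]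
  have h0 := hL _ hπ 1
  rw [mul_one, map_add, map_sub, coeff_add, coeff_sub, hS, coeff_proj_pow, sub_zero, add_zero, proj_aeval,
    ← map_sub3, coeff_map] at h0
  exact ((coeff_cross hn hC).map (Int.castRingHom k)).ne_zero h0

/-- Let k be a perfect field of characteristic p ≥ 3 and n ≥ 3. Then the ordinary double point k[x_1,
y_1, …, x_n, y_n]/(x_1y_1 + ⋯ + x_ny_n), the affine cone over the split quadric in 2n ≥ 6 variables,
admits no flat lifting over W₂(k) compatible with Frobenius (no flat W₂(k)-algebra reducing to it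
that carries a ring endomorphism which is σ₂-semilinear and reduces to the p-th power map). (The
published statement is for any number N ≥ 5 of variables and allows arbitrary terms of degree ≥ 3 to
be added to a non-degenerate quadratic form; this row is the case of the split form in an even
number of variables with nothing added, the case in which the argument is a pure comparison of
homogeneous components.) -/
theorem result
    (p : ℕ) [Fact p.Prime] (hp : 3 ≤ p) (k : Type u) [Field k] [CharP k p] [PerfectRing k p]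
    (n : ℕ) (hn : 3 ≤ n) :
    ¬ FrobAlg.IsFLiftable p k
      (MvPolynomial (Fin n × Fin 2) k ⧸ Ideal.span
        {(∑ i : Fin n, MvPolynomial.X (i, (0 : Fin 2)) * MvPolynomial.X (i, (1 : Fin 2)) : MvPolynomial (Fin n × Fin 2) k)}) := by
  exact main hn

end Groth.Agent.S19564
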