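import Groth.Statements.S19565
import Mathlib.LinearAlgebra.RootSystem.Base
import Mathlib.LinearAlgebra.RootSystem.Finite.Lemmas
import Mathlib.LinearAlgebra.RootSystem.Irreducible

set_option autoImplicit false
universe u v w
open RootComb

namespace Groth.Agent.S19565

open Module Finset

section

variable {ι : Type u} [Finite ι] {k : Type v} [Field k] [CharZero k]
  {M : Type w} [AddCommGroup M] [Module k M] {N : Type w} [AddCommGroup N] [Module k N]
  (P : RootPairing ι k M N) [P.IsCrystallographic] [P.IsReduced] (b : P.Base)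

/-- A root supported in `I ∪ B` and outside the span of `I`. -/
def Adm (I B : Finset ι) (f : ι → ℕ) (j : ι) : Prop :=
  (∀ u, f u ≠ 0 → u ∈ I ∨ u ∈ B) ∧ P.root j = ∑ u ∈ b.support, f u • P.root u ∧
    P.root j ∉ Submodule.span k (P.root '' ↑I)

theorem adm_pairing {I B : Finset ι} {f : ι → ℕ} {j : ι} (h : Adm P b I B f j) (l : ι) :
    P.pairingIn ℤ j l = ∑ u ∈ b.support, (f u : ℤ) * P.pairingIn ℤ u l :=
  (algebraMap ℤ k).injective_int <| by
    simp_rw [map_sum, map_mul, RootPairing.algebraMap_pairingIn, ← RootPairing.root_coroot_eq_pairing, h.2.1,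
      map_sum, map_nsmul, LinearMap.coe_sum, Finset.sum_apply, LinearMap.smul_apply, nsmul_eq_mul,
      algebraMap_int_eq, eq_intCast, Int.cast_natCast]

theorem adm_term_nonpos {I B : Finset ι} {f : ι → ℕ} {l : ι} (hl : l ∈ b.support) (hfl : f l = 0) :
    ∀ u ∈ b.support, (f u : ℤ) * P.pairingIn ℤ u l ≤ 0 := fun u hu => by
  by_cases h : u = l
  · simp [h, hfl]
  · exact mul_nonpos_of_nonneg_of_nonpos (Nat.cast_nonneg _) (b.pairingIn_le_zero_of_ne h hu hl)

theorem root_notMem_span {a : ι} {S : Set ι} (ha : a ∈ b.support) (hS : S ⊆ ↑b.support) (h : a ∉ S) :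
    P.root a ∉ Submodule.span k (P.root '' S) :=
  (linearIndepOn_iff_notMem_span.1 b.linearIndepOn_root a ha) ∘ fun hm =>
    Submodule.span_mono (Set.image_mono (show S ⊆ (↑b.support : Set ι) \ {a} from
      fun x hx => ⟨hS hx, fun he => h (Set.mem_singleton_iff.1 he ▸ hx)⟩)) hm

end

/-- Let Φ be a finite reduced crystallographic irreducible root system over a field of characteristic
zero, Δ a base of simple roots, I ⊆ Δ, and suppose the simple roots outside I are split into two
disjoint non-empty sets A and B. Then there are a simple root β ∈ A and a root δ such that δ is a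
non-negative integer combination of the simple roots of I ∪ B (a positive root whose support avoids
A), δ is not in the linear span of I (so δ is not a root of the Levi subsystem of I), and ⟨δ, β^∨⟩ <
0. (The published statement is made for the root system of a semisimple group; for a reducible
system such as A₁ × A₁ with I empty and A, B the two simple roots there is no such δ, and the
argument measures distances in a connected Dynkin diagram, so the root system is taken irreducible
here.) -/
theorem result
    {ι : Type u} [Finite ι] [DecidableEq ι] {k : Type v} [Field k] [CharZero k]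
    {M : Type w} [AddCommGroup M] [Module k M] {N : Type w} [AddCommGroup N] [Module k N]
    (P : RootPairing ι k M N) [P.IsCrystallographic] [P.IsReduced] [P.IsIrreducible] (b : P.Base)
    (I A B : Finset ι) (hcover : I ∪ A ∪ B = b.support) (hIA : Disjoint I A) (hIB : Disjoint I B)
    (hAB : Disjoint A B) (hA : A.Nonempty) (hB : B.Nonempty) :
    ∃ l ∈ A, ∃ j : ι, P.root j ∈ AddSubmonoid.closure (P.root '' ↑(I ∪ B)) ∧
      P.root j ∉ Submodule.span k (P.root '' ↑I) ∧ P.pairingIn ℤ j l < 0 := by
  classical
  have hIs : I ⊆ b.support := hcover ▸ Finset.subset_union_left.trans Finset.subset_union_left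
  have hAs : A ⊆ b.support := hcover ▸ Finset.subset_union_right.trans Finset.subset_union_left
  have hBs : B ⊆ b.support := hcover ▸ Finset.subset_union_right
  let U : Set ι := {u | u ∈ b.support ∧ ∃ f j, Adm P b I B f j ∧ f u ≠ 0}
  have hUs : U ⊆ ↑b.support := fun u hu => hu.1
  have hBU : ∀ x ∈ B, x ∈ U := fun x hx => by
    refine ⟨hBs hx, Pi.single x 1, x, ⟨fun u hu => Or.inr ?_, ?_, ?_⟩, by simp⟩
    · by_contra hne
      exact hu (Pi.single_eq_of_ne (fun h => hne (by rw [h]; exact hx)) 1)
    · rw [Finset.sum_eq_single x (fun u _ hu => by simp [Pi.single_eq_of_ne hu]) (fun h => absurd (hBs hx) h)]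
      simp
    · exact root_notMem_span P b (hBs hx) (by exact_mod_cast hIs) fun h => Finset.disjoint_left.1 hIB h hx
  have hUA : ∀ u ∈ U, u ∉ A := by
    rintro u ⟨-, f, j, hf, hfu⟩ huA
    rcases hf.1 u hfu with h | h
    · exact Finset.disjoint_left.1 hIA h huA
    · exact Finset.disjoint_left.1 hAB huA h
  by_contra hcon
  push Not at hcon
  have horth : ∀ u ∈ U, ∀ l ∈ b.support, l ∉ U → P.pairingIn ℤ u l = 0 := by
    rintro u ⟨hus, f, j, hf, hfu⟩ l hl hlU
    have hfl : f l = 0 := by
      by_contra h
      exact hlU ⟨hl, f, j, hf, h⟩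
    have hterm := adm_term_nonpos P b (I := I) (B := B) hl hfl
    have hu0 : P.pairingIn ℤ u l ≤ 0 :=
      b.pairingIn_le_zero_of_ne (fun h => hfu (h ▸ hfl)) hus hl
    by_contra hne
    have hneg : P.pairingIn ℤ j l < 0 := by
      rw [adm_pairing P b hf l]
      refine Finset.sum_neg' hterm ⟨u, hus, ?_⟩
      exact mul_neg_of_pos_of_neg (by exact_mod_cast Nat.pos_of_ne_zero hfu) (lt_of_le_of_ne hu0 hne)
    have hmem : l ∈ I ∪ A ∪ B := hcover.symm ▸ hl
    simp only [Finset.mem_union] at hmem
    have hlI : l ∈ I := by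
      rcases hmem with (h | h) | h
      · exact h
      · refine absurd hneg (not_lt.2 (hcon l h j ?_ hf.2.2))
        rw [hf.2.1]
        refine sum_mem fun x _ => ?_
        by_cases hx : f x = 0
        · rw [hx, zero_smul]; exact zero_mem _
        · exact nsmul_mem (AddSubmonoid.subset_closure (Set.mem_image_of_mem P.root
            (show x ∈ (↑(I ∪ B) : Set ι) by simpa using hf.1 x hx))) _
      · exact absurd (hBU l h) hlU
    · have hlspan : P.root l ∈ Submodule.span k (P.root '' ↑I) := Submodule.subset_span ⟨l, hlI, rfl⟩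
      obtain ⟨m, hm⟩ := P.root_add_root_mem_of_pairingIn_neg hneg fun he => hf.2.2 (he ▸ neg_mem hlspan)
      refine hlU ⟨hl, f + Pi.single l 1, m, ⟨fun x hx => ?_, ?_, fun h => hf.2.2 ?_⟩, by simp⟩
      · by_cases hxl : x = l
        · exact Or.inl (hxl ▸ hlI)
        · exact hf.1 x (by simpa [Pi.single_eq_of_ne hxl] using hx)
      · rw [hm, hf.2.1]
        simp only [Pi.add_apply, add_smul, Finset.sum_add_distrib, add_right_inj]
        rw [Finset.sum_eq_single l (fun x _ hx => by simp [Pi.single_eq_of_ne hx]) (fun h => absurd hl h)]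
        simp
      · rw [hm] at h
        simpa using sub_mem h hlspan
  let q : Submodule k M := Submodule.span k (P.root '' U)
  have hinv : ∀ i, q ∈ Module.End.invtSubmodule (P.reflection i : M →ₗ[k] M) := by
    rw [← b.forall_mem_support_invtSubmodule_iff q]
    intro i hi
    rw [Module.End.mem_invtSubmodule]
    intro x hx
    show P.reflection i x ∈ q
    rw [RootPairing.reflection_apply]
    refine sub_mem hx ?_
    by_cases hiU : i ∈ U
    · exact Submodule.smul_mem _ _ (Submodule.subset_span ⟨i, hiU, rfl⟩)
    · have h0 : P.coroot' i x = 0 := by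
        have hle : q ≤ LinearMap.ker (P.coroot' i) := Submodule.span_le.2 (by
          rintro _ ⟨u, hu, rfl⟩
          show P.coroot' i (P.root u) = 0
          rw [RootPairing.root_coroot'_eq_pairing, ← P.algebraMap_pairingIn ℤ, horth u hu i hi hiU, map_zero])
        exact hle hx
      rw [h0, zero_smul]
      exact zero_mem _
  obtain ⟨x, hx⟩ := hB
  have hne : q ≠ ⊥ := fun h => P.ne_zero x
    ((Submodule.mem_bot k).1 (h ▸ Submodule.subset_span ⟨x, hBU x hx, rfl⟩))
  obtain ⟨a, ha⟩ := hA
  refine root_notMem_span P b (hAs ha) hUs (fun h => hUA a h ha) ?_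
  rw [show Submodule.span k (P.root '' U) = ⊤ from
    RootPairing.IsIrreducible.eq_top_of_invtSubmodule_reflection (P := P) q hinv hne]
  trivial

end Groth.Agent.S19565
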