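import Groth.Statements.S19566
import Groth.Agent.StackCountLib.Finite
import Groth.Agent.StackCountLib.Orbit
import Groth.Agent.QuotStLib.Coarse
import Groth.Agent.AlbNormLib.LangTorsor

set_option linter.all false
set_option backward.isDefEq.respectTransparency false
set_option backward.isDefEq.respectTransparency.types false

set_option autoImplicit false
universe u
open CategoryTheory CategoryTheory.Limits AlgebraicGeometry
open AlgSt

open AlgSp AlgSpLib AlgStLib
namespace Groth.Agent.S19566

/-- Let F be a finite field, X a smooth F-scheme of finite type, and G a smooth affine connected F-group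
scheme acting on X. Form the quotient stack [X/G] as the category over F-schemes whose objects over
T are fppf G-torsors P → T (as schemes) with a G-equivariant map P → X, and take its fibre category
over Spec F itself. Then the isomorphism classes of this fibre are finite in number, each of its
objects has a finite automorphism group, and the mass Σ_{[ξ]} 1/#Aut(ξ) over the isomorphism classes
equals #X(F) / #G(F), the number of F-points of X divided by the order of the finite group G(F).
(The published statement allows X to be a smooth Deligne–Mumford stack, with 1/#Aut(x) weights on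
the right as well, and G any connected algebraic group; this row is the case of a scheme X and a
smooth affine G, where F-points of X have no automorphisms.) -/
theorem result
    {F : Type u} [Field F] [Finite F]
    (X G : Over (Spec (CommRingCat.of F))) [GrpObj G] (aX : AlgGrp.Action G X)
    [Smooth X.hom] [QuasiCompact X.hom] [Smooth G.hom] [IsAffineHom G.hom] [ConnectedSpace ↥G.left] :
    Finite (Quotient (isIsomorphicSetoid ((AlgSt.QuotSt Scheme.fppfPrecoverage G aX).p.Fiber (Over.mk (𝟙 (Spec (CommRingCat.of F))))))) ∧
      (∀ ξ : ((AlgSt.QuotSt Scheme.fppfPrecoverage G aX).p.Fiber (Over.mk (𝟙 (Spec (CommRingCat.of F))))), Finite (Aut ξ)) ∧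
      ∑ᶠ c : Quotient (isIsomorphicSetoid ((AlgSt.QuotSt Scheme.fppfPrecoverage G aX).p.Fiber (Over.mk (𝟙 (Spec (CommRingCat.of F)))))), ((Nat.card (Aut c.out) : ℚ))⁻¹ =
        (Nat.card (Over.mk (𝟙 (Spec (CommRingCat.of F))) ⟶ X) : ℚ) /
          (Nat.card (Over.mk (𝟙 (Spec (CommRingCat.of F))) ⟶ G) : ℚ) := by
  haveI : IsAffine G.left := isAffine_of_isAffineHom G.hom
  haveI := StackCountLib.finite_points X
  haveI := StackCountLib.finite_points G
  refine StackCountLib.mass fun ⟨A, hA⟩ => ?_
  change A.base = _ at hA
  haveI : LocallyOfFinitePresentation A.π.left :=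
    (locP_yon_map_iff _).1 (QuotStLib.locP_torsor @LocallyOfFinitePresentation isLocalOnBase_fppf_lfp inferInstance A)
  haveI : Surjective A.π.left := surjective_left_of_isSurjectiveMor (QuotStLib.isSurjectiveMor_torsor A)
  have hb : Limits.IsTerminal A.base := hA ▸ Over.mkIdTerminal
  haveI : IsIso A.base.hom := by rw [hA]; exact inferInstanceAs (IsIso (𝟙 _))
  haveI : LocallyOfFiniteType A.P.hom := by
    rw [← Over.w A.π]; infer_instance
  haveI : Nonempty ↥A.P.left := by
    obtain ⟨z, -⟩ := A.π.left.surjective ((inv A.base.hom) default)
    exact ⟨z⟩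
  have hiso : IsIso (CartesianMonoidalCategory.lift A.act.act (CartesianMonoidalCategory.snd G A.P)) := by
    let l : MonoidalCategoryStruct.tensorObj A.P A.P ⟶ MonoidalCategoryStruct.tensorObj G A.P :=
      A.cart.lift (CartesianMonoidalCategory.fst _ _) (CartesianMonoidalCategory.snd _ _) (hb.hom_ext _ _)
    refine ⟨l, A.cart.hom_ext ?_ ?_, CartesianMonoidalCategory.hom_ext _ _ ?_ ?_⟩
    · rw [Category.assoc, A.cart.lift_fst, Category.id_comp, CartesianMonoidalCategory.lift_fst]
    · rw [Category.assoc, A.cart.lift_snd, Category.id_comp, CartesianMonoidalCategory.lift_snd]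
    · rw [Category.assoc, CartesianMonoidalCategory.lift_fst, Category.id_comp]; exact A.cart.lift_fst _ _ _
    · rw [Category.assoc, CartesianMonoidalCategory.lift_snd, Category.id_comp]; exact A.cart.lift_snd _ _ _
  obtain ⟨s⟩ := AlbNormLib.exists_torsor_point A.act hiso
  exact ⟨s, hb.hom_ext _ _⟩

end Groth.Agent.S19566
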