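import Groth.Statements.S19567
import Groth.Agent.EtNbhdLib.Basic
import Mathlib.RingTheory.Localization.Away.Basic
-- import your own Groth.Agent.* helpers here

set_option autoImplicit false
universe u
open Hensel

namespace Groth.Agent.S19567

/-- Let A be a ring and I an ideal of A, and consider étale A-algebras A' for which the induced map A/I
→ A'/IA' is bijective. (1) For any two such algebras A₁ and A₂ there is a third such algebra A₃
admitting A-algebra maps from both. (2) For any two A-algebra maps f, g : A₁ → A₂ between such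
algebras there are such an algebra A₃ and an A-algebra map h : A₂ → A₃ with h ∘ f = h ∘ g. (All
algebras are taken in the universe of A. Since A itself is such an algebra, (1) and (2) say that the
category of these algebras and A-algebra maps is filtered.) -/
theorem result (A : Type u) [CommRing A] (I : Ideal A) :
    (∀ (A₁ A₂ : Type u) [CommRing A₁] [Algebra A A₁] [Algebra.Etale A A₁] [CommRing A₂] [Algebra A A₂]
        [Algebra.Etale A A₂],
        Function.Bijective (Ideal.quotientMap (I.map (algebraMap A A₁)) (algebraMap A A₁) Ideal.le_comap_map) →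
        Function.Bijective (Ideal.quotientMap (I.map (algebraMap A A₂)) (algebraMap A A₂) Ideal.le_comap_map) →
          ∃ (A₃ : Type u) (_ : CommRing A₃) (_ : Algebra A A₃) (_ : Algebra.Etale A A₃),
            Function.Bijective (Ideal.quotientMap (I.map (algebraMap A A₃)) (algebraMap A A₃) Ideal.le_comap_map) ∧
              Nonempty (A₁ →ₐ[A] A₃) ∧ Nonempty (A₂ →ₐ[A] A₃)) ∧
    (∀ (A₁ A₂ : Type u) [CommRing A₁] [Algebra A A₁] [Algebra.Etale A A₁] [CommRing A₂] [Algebra A A₂]
        [Algebra.Etale A A₂],
        Function.Bijective (Ideal.quotientMap (I.map (algebraMap A A₁)) (algebraMap A A₁) Ideal.le_comap_map) →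
        Function.Bijective (Ideal.quotientMap (I.map (algebraMap A A₂)) (algebraMap A A₂) Ideal.le_comap_map) →
          ∀ (f g : A₁ →ₐ[A] A₂),
            ∃ (A₃ : Type u) (_ : CommRing A₃) (_ : Algebra A A₃) (_ : Algebra.Etale A A₃),
              Function.Bijective (Ideal.quotientMap (I.map (algebraMap A A₃)) (algebraMap A A₃) Ideal.le_comap_map) ∧
                ∃ h : A₂ →ₐ[A] A₃, h.comp f = h.comp g) := by
  refine ⟨fun A₁ A₂ => ?_, fun A₁ A₂ => ?_⟩
  · intros _ _ _ _ _ _ h₁ h₂
    obtain ⟨φ₁, hs₁, -⟩ := Groth.Agent.EtNbhdLib.exists_hom h₁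
    obtain ⟨φ₂, hs₂, -⟩ := Groth.Agent.EtNbhdLib.exists_hom h₂
    let T := TensorProduct A A₁ A₂
    haveI : Algebra.Etale A T := Algebra.Etale.comp A A₁ T
    refine ⟨T, inferInstance, inferInstance, inferInstance,
      Groth.Agent.EtNbhdLib.bijective_quotientMap I (Algebra.TensorProduct.lift φ₁ φ₂ fun _ _ => Commute.all _ _) ?_,
      ⟨Algebra.TensorProduct.includeLeft⟩, ⟨Algebra.TensorProduct.includeRight⟩⟩
    have key : ∀ {B : Type u} [CommRing B] [Algebra A B] (j : B →ₐ[A] T) {b : B}, b ∈ I.map (algebraMap A B) →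
        j b ∈ I.map (algebraMap A T) := fun {B} _ _ j {b} hb => by
      have h := Ideal.mem_map_of_mem j.toRingHom hb
      rw [Ideal.map_map, show j.toRingHom.comp (algebraMap A B) = algebraMap A T from j.comp_algebraMap] at h
      exact h
    intro t
    induction t using TensorProduct.induction_on with
    | zero => exact ⟨0, by simp⟩
    | tmul x y =>
      obtain ⟨a, ha⟩ := hs₁ x
      obtain ⟨b, hb⟩ := hs₂ y
      refine ⟨a * b, ?_⟩
      have e : TensorProduct.tmul A x y =
          (Algebra.TensorProduct.includeLeft : A₁ →ₐ[A] T) x * (Algebra.TensorProduct.includeRight : A₂ →ₐ[A] T) y := by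
        simp
      have hx := key (Algebra.TensorProduct.includeLeft : A₁ →ₐ[A] T) ha
      have hy := key (Algebra.TensorProduct.includeRight : A₂ →ₐ[A] T) hb
      rw [map_sub, AlgHom.commutes] at hx hy
      rw [e, map_mul (algebraMap A T),
        show ∀ u v p q : T, u * v - p * q = (u - p) * v + p * (v - q) from fun u v p q => by ring]
      exact add_mem (Ideal.mul_mem_right _ _ hx) (Ideal.mul_mem_left _ _ hy)
    | add x y hx hy =>
      obtain ⟨a, ha⟩ := hx
      obtain ⟨b, hb⟩ := hy
      exact ⟨a + b, by rw [map_add, add_sub_add_comm]; exact add_mem ha hb⟩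
  · intros _ _ _ _ _ _ h₁ h₂ f g
    obtain ⟨φ₁, -, huniq⟩ := Groth.Agent.EtNbhdLib.exists_hom h₁
    obtain ⟨φ₂, hs₂, -⟩ := Groth.Agent.EtNbhdLib.exists_hom h₂
    obtain ⟨t, ht1, ht2⟩ := (Algebra.FormallyUnramified.iff_exists_tensorProduct (R := A) (S := A₁)).1 inferInstance
    let L : TensorProduct A A₁ A₁ →ₐ[A] A₂ := Algebra.TensorProduct.lift f g fun _ _ => Commute.all _ _
    have hφ : φ₂ (L t) = 1 := by
      have h : φ₂.comp L = φ₁.comp (Algebra.TensorProduct.lmul' A) := Algebra.TensorProduct.ext'
        fun x y => by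
          have h1 : φ₂ (f x) = φ₁ x := AlgHom.congr_fun (huniq (φ₂.comp f)) x
          have h2 : φ₂ (g y) = φ₁ y := AlgHom.congr_fun (huniq (φ₂.comp g)) y
          simp [L, h1, h2]
      calc φ₂ (L t) = φ₁ (Algebra.TensorProduct.lmul' A t) := AlgHom.congr_fun h t
        _ = 1 := by rw [ht2, map_one]
    let A₃ := Localization.Away (L t)
    haveI : Algebra.Etale A₂ A₃ := Algebra.Etale.of_isLocalizationAway (L t)
    haveI : Algebra.Etale A A₃ := Algebra.Etale.comp A A₂ A₃
    let ψ : A₃ →ₐ[A] A ⧸ I :=
      { toRingHom := IsLocalization.Away.lift (L t) (g := φ₂.toRingHom) (show IsUnit (φ₂ (L t)) by rw [hφ]; exact isUnit_one)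
        commutes' := fun a => by
          show IsLocalization.Away.lift (L t) _ (algebraMap A A₃ a) = _
          rw [IsScalarTower.algebraMap_apply A A₂ A₃, IsLocalization.Away.lift_eq]
          exact φ₂.commutes a }
    have hmap : ∀ {b : A₂}, b ∈ I.map (algebraMap A A₂) → algebraMap A₂ A₃ b ∈ I.map (algebraMap A A₃) := fun {b} hb => by
      have h := Ideal.mem_map_of_mem (algebraMap A₂ A₃) hb
      rwa [Ideal.map_map, ← IsScalarTower.algebraMap_eq] at h
    refine ⟨A₃, inferInstance, inferInstance, inferInstance, Groth.Agent.EtNbhdLib.bijective_quotientMap I ψ ?_,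
      IsScalarTower.toAlgHom A A₂ A₃, AlgHom.ext fun x => ?_⟩
    · intro z
      obtain ⟨n, b, hb⟩ := IsLocalization.Away.surj (L t) z
      obtain ⟨a, ha⟩ := hs₂ b
      obtain ⟨c, hc⟩ := hs₂ (L t)
      refine ⟨a, ?_⟩
      have hc1 : c - 1 ∈ I := by
        have hle : I.map (algebraMap A A₂) ≤ RingHom.ker φ₂ := Ideal.map_le_iff_le_comap.2 fun i hi => by
          rw [Ideal.mem_comap, RingHom.mem_ker, AlgHom.commutes, Ideal.Quotient.algebraMap_eq, Ideal.Quotient.eq_zero_iff_mem]
          exact hi
        have := RingHom.mem_ker.1 (hle hc)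
        rw [map_sub, hφ, AlgHom.commutes, Ideal.Quotient.algebraMap_eq, ← map_one (Ideal.Quotient.mk I), sub_eq_zero] at this
        rw [← Ideal.Quotient.eq, ← this]
      have ht1' : algebraMap A₂ A₃ (L t) - 1 ∈ I.map (algebraMap A A₃) := by
        have h1 := hmap hc
        rw [map_sub, ← IsScalarTower.algebraMap_apply] at h1
        have h2 := Ideal.mem_map_of_mem (algebraMap A A₃) hc1
        rw [map_sub, map_one] at h2
        simpa using add_mem h1 h2
      have hq : Ideal.Quotient.mk (I.map (algebraMap A A₃)) (algebraMap A₂ A₃ (L t)) = 1 := by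
        rw [← map_one (Ideal.Quotient.mk _), Ideal.Quotient.eq]
        exact ht1'
      rw [← Ideal.Quotient.eq]
      calc Ideal.Quotient.mk _ z = Ideal.Quotient.mk _ (z * algebraMap A₂ A₃ (L t) ^ n) := by
            rw [map_mul, map_pow, hq, one_pow, mul_one]
        _ = Ideal.Quotient.mk _ (algebraMap A A₃ a) := by
            rw [hb, Ideal.Quotient.eq, IsScalarTower.algebraMap_apply A A₂ A₃, ← map_sub]
            exact hmap ha
    · show algebraMap A₂ A₃ (f x) = algebraMap A₂ A₃ (g x)
      have h0 := congrArg L (ht1 x)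
      rw [map_mul, map_sub, map_zero] at h0
      simp only [L, Algebra.TensorProduct.lift_tmul, map_one, one_mul, mul_one] at h0
      have h1 := congrArg (algebraMap A₂ A₃) h0
      rw [map_mul, map_zero, (IsLocalization.Away.algebraMap_isUnit (L t) : IsUnit (algebraMap A₂ A₃ (L t))).mul_left_eq_zero,
        map_sub, sub_eq_zero] at h1
      exact h1.symm

end Groth.Agent.S19567
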