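import Groth.Statements.S19569
import Mathlib
-- import your own Groth.Agent.* helpers here

set_option autoImplicit false
universe u
open CAlg

namespace Groth.Agent.S19569

set_option maxHeartbeats 400000
universe v

lemma kill {ι : Type v} [Preorder ι] {G : ι → Type v} [∀ i, CommRing (G i)]
    (f : ∀ i j, i ≤ j → (G i →+* G j)) {A : Type v} [CommRing A] (g : ∀ i, G i →+* A)
    (hg : ∀ i j (h : i ≤ j), (g j).comp (f i j h) = g i)
    (hker : ∀ i (x : G i), g i x = 0 → ∃ j, ∃ h : i ≤ j, f i j h x = 0)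
    {i : ι} (T : Finset (G i)) (hT : ∀ x ∈ T, g i x = 0) :
    ∃ (k : ι) (χ : G i →+* G k), (g k).comp χ = g i ∧ ∀ x ∈ T, χ x = 0 := by
  classical
  induction T using Finset.induction_on with
  | empty => exact ⟨i, RingHom.id _, RingHom.comp_id _, by simp⟩
  | insert a T _ ih =>
    obtain ⟨k, χ, hχ, hk⟩ := ih fun x hx => hT x (Finset.mem_insert_of_mem hx)
    obtain ⟨l, hl, hla⟩ := hker k (χ a) (by
      rw [← RingHom.comp_apply, hχ]; exact hT a (Finset.mem_insert_self _ _))
    refine ⟨l, (f k l hl).comp χ, by rw [← RingHom.comp_assoc, hg, hχ], fun x hx => ?_⟩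
    rcases Finset.mem_insert.mp hx with rfl | hx
    · exact hla
    · rw [RingHom.comp_apply, hk x hx, map_zero]


open TensorProduct in
/-- Let A be the colimit of a directed system of rings (A_i), given by compatible ring maps A_i → A
which are jointly surjective and such that an element of some A_i mapping to zero in A already maps
to zero in some later A_j, and let B be an étale A-algebra. Then for some index i there is an étale
A_i-algebra B_i such that B is isomorphic, as an A-algebra, to the base change A ⊗_{A_i} B_i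
(existence of an isomorphism). (Stated for a system indexed by a directed preordered set.) -/
theorem result {ι : Type u} [Preorder ι] [IsDirected ι (· ≤ ·)] [Nonempty ι]
    (G : ι → Type u) [∀ i, CommRing (G i)] (f : ∀ i j, i ≤ j → (G i →+* G j))
    (A : Type u) [CommRing A] (g : ∀ i, G i →+* A) (hg : ∀ i j (h : i ≤ j), (g j).comp (f i j h) = g i)
    (hsurj : ∀ a : A, ∃ i, ∃ x : G i, g i x = a)
    (hker : ∀ i (x : G i), g i x = 0 → ∃ j, ∃ h : i ≤ j, f i j h x = 0)
    (B : Type u) [CommRing B] [Algebra A B] [Algebra.Etale A B] :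
    ∃ (i : ι) (Bi : Type u) (_ : CommRing Bi) (_ : Algebra (G i) Bi), Algebra.Etale (G i) Bi ∧
      letI : Algebra (G i) A := (g i).toAlgebra
      Nonempty (B ≃ₐ[A] A ⊗[G i] Bi) := by
  classical
  obtain ⟨A₀, B₀, _, _, hA₀, hB₀, ⟨e⟩⟩ := Algebra.Etale.exists_subalgebra_fg (R := ℤ) (A := A) (B := B)
  haveI : Algebra.FiniteType ℤ A₀ := (Subalgebra.fg_iff_finiteType A₀).mp hA₀
  obtain ⟨n, σ, hσ⟩ := Algebra.FiniteType.iff_quotient_mvPolynomial''.mp ‹Algebra.FiniteType ℤ A₀›
  choose i x hx using fun m : Fin n => hsurj (σ (MvPolynomial.X m) : A)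
  obtain ⟨j, hj⟩ := Finset.exists_le (Finset.univ.image i)
  let ψ : MvPolynomial (Fin n) ℤ →ₐ[ℤ] G j :=
    MvPolynomial.aeval fun m => f (i m) j (hj _ (by simp)) (x m)
  have hψ : (g j).toIntAlgHom.comp ψ = A₀.val.comp σ := MvPolynomial.algHom_ext fun m => by
    simp only [AlgHom.comp_apply, ψ, MvPolynomial.aeval_X]
    show g j (f (i m) j _ (x m)) = _
    rw [← RingHom.comp_apply, hg]
    exact hx m
  obtain ⟨T, hT⟩ := IsNoetherian.noetherian (RingHom.ker σ.toRingHom)
  let T' : Finset (G j) := T.image ψ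
  have hT' : ∀ y ∈ T', (g j).toIntAlgHom y = 0 := by
    intro y hy
    obtain ⟨t, ht, rfl⟩ := Finset.mem_image.mp hy
    rw [← AlgHom.comp_apply, hψ, AlgHom.comp_apply,
      show σ t = 0 from hT.le (Submodule.subset_span ht), map_zero]
  obtain ⟨k, χ, hχ, hk⟩ := kill f g hg hker T' hT'
  have hle : RingHom.ker σ ≤ RingHom.ker (χ.toIntAlgHom.comp ψ) := by
    show RingHom.ker σ.toRingHom ≤ _
    rw [← hT, Submodule.span_le]
    exact fun t ht => hk (ψ t) (Finset.mem_image_of_mem ψ ht)
  let ρ : A₀ →ₐ[ℤ] G k := AlgHom.liftOfSurjective σ hσ (χ.toIntAlgHom.comp ψ) hle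
  letI : Algebra A₀ (G k) := ρ.toRingHom.toAlgebra
  letI : Algebra (G k) A := (g k).toAlgebra
  haveI := hB₀
  haveI : IsScalarTower A₀ (G k) A := IsScalarTower.of_algebraMap_eq fun y => by
    obtain ⟨z, rfl⟩ := hσ y
    show (σ z : A) = g k (ρ (σ z))
    have h1 : ρ (σ z) = χ (ψ z) := AlgHom.liftOfSurjective_apply σ hσ (χ.toIntAlgHom.comp ψ) hle z
    rw [h1, show g k (χ (ψ z)) = (g j) (ψ z) from RingHom.congr_fun hχ (ψ z)]
    exact (AlgHom.congr_fun hψ z).symm
  exact ⟨k, G k ⊗[A₀] B₀, inferInstance, inferInstance, inferInstance,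
    ⟨e.trans (Algebra.TensorProduct.cancelBaseChange A₀ (G k) A A B₀).symm⟩⟩

end Groth.Agent.S19569
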