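import Groth.Statements.S1957
import Groth.Agent.EtLiftLib.Basic
-- import your own Groth.Agent.* helpers here

set_option autoImplicit false
universe u
open Polynomial
open EtAlg

namespace Groth.Agent.S1957

/-- Let A be a ring, I an ideal and f a monic polynomial over A. Suppose the image of f in (A/I)[x]
factors as g h where the leading coefficient of g is a unit and g, h generate the unit ideal. Then
there is an etale A-algebra A' such that A/I -> A'/IA' is bijective, together with a factorization f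
= g' h' in A'[x] whose reduction modulo IA' is the image of the given one. -/
theorem result (A : Type u) [CommRing A] (I : Ideal A) (f : A[X]) (hf : f.Monic)
    (g h : (A ⧸ I)[X]) (hgh : f.map (Ideal.Quotient.mk I) = g * h) (hlead : IsUnit g.leadingCoeff)
    (hcop : IsCoprime g h) :
    ∃ (A' : Type u) (_ : CommRing A') (_ : Algebra A A') (_ : Algebra.Etale A A'),
      Function.Bijective (Ideal.quotientMap (I.map (algebraMap A A')) (algebraMap A A') Ideal.le_comap_map) ∧
      ∃ g' h' : A'[X], f.map (algebraMap A A') = g' * h' ∧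
        g'.map (Ideal.Quotient.mk (I.map (algebraMap A A'))) =
          g.map (Ideal.quotientMap (I.map (algebraMap A A')) (algebraMap A A') Ideal.le_comap_map) ∧
        h'.map (Ideal.Quotient.mk (I.map (algebraMap A A'))) =
          h.map (Ideal.quotientMap (I.map (algebraMap A A')) (algebraMap A A') Ideal.le_comap_map) := by
  classical
  obtain ⟨u, hu⟩ := hlead
  obtain ⟨a, ha⟩ := Ideal.Quotient.mk_surjective (I := I) (u : A ⧸ I)
  have hg₀ : (C (↑u⁻¹ : A ⧸ I) * g).Monic := monic_C_mul_of_mul_leadingCoeff_eq_one (by rw [← hu, Units.inv_mul])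
  have hh₀ : (C (u : A ⧸ I) * h).Monic := by
    refine hg₀.of_mul_monic_left ?_
    rw [mul_mul_mul_comm, ← C_mul, Units.inv_mul, C_1, one_mul, ← hgh]
    exact hf.map _
  have hprod : f.map (Ideal.Quotient.mk I) = (C (↑u⁻¹ : A ⧸ I) * g) * (C (u : A ⧸ I) * h) := by
    rw [mul_mul_mul_comm, ← C_mul, Units.inv_mul, C_1, one_mul, hgh]
  have hcop₀ : IsCoprime (C (↑u⁻¹ : A ⧸ I) * g) (C (u : A ⧸ I) * h) :=
    (isCoprime_mul_unit_left_left (isUnit_C.mpr u⁻¹.isUnit) _ _).mpr ((isCoprime_mul_unit_left_right (isUnit_C.mpr u.isUnit) _ _).mpr hcop)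
  obtain ⟨A', _, _, het, hau, hbij, g', h', -, -, hmul, hgm, hhm⟩ :=
    Groth.Agent.EtLiftLib.exists_lift_monic I f hf _ _ hg₀ hh₀ hcop₀ hprod a (by rw [ha]; exact u.isUnit)
  obtain ⟨v, hv⟩ := hau
  refine ⟨A', inferInstance, inferInstance, het, hbij, C (v : A') * g', C (↑v⁻¹ : A') * h', ?_, ?_, ?_⟩
  · rw [mul_mul_mul_comm, ← C_mul, Units.mul_inv, C_1, one_mul, hmul]
  all_goals
    have hqu : Ideal.Quotient.mk (I.map (algebraMap A A')) (v : A') =
        Ideal.quotientMap (I.map (algebraMap A A')) (algebraMap A A') Ideal.le_comap_map (u : A ⧸ I) := by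
      rw [← ha, Ideal.quotientMap_mk, hv]
  · rw [Polynomial.map_mul, map_C, hgm, Polynomial.map_mul, map_C, hqu, ← mul_assoc, ← C_mul, ← map_mul, Units.mul_inv, map_one, C_1, one_mul]
  · have hinv : Ideal.Quotient.mk (I.map (algebraMap A A')) (↑v⁻¹ : A') *
        Ideal.quotientMap (I.map (algebraMap A A')) (algebraMap A A') Ideal.le_comap_map (u : A ⧸ I) = 1 := by
      rw [← hqu, ← map_mul, Units.inv_mul, map_one]
    rw [Polynomial.map_mul, map_C, hhm, Polynomial.map_mul, map_C, ← mul_assoc, ← C_mul, hinv, C_1, one_mul]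

end Groth.Agent.S1957
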