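import Groth.Statements.S19570
import Groth.Agent.HensDescLib.Main
import Groth.Agent.S6827
import Groth.Agent.S2051
import Groth.Agent.S0532
import Groth.Agent.NorLocLib.SmoothLocal
import Groth.Agent.Unram17Lib.SmoothNormal
import Mathlib

set_option autoImplicit false
set_option backward.isDefEq.respectTransparency false
set_option backward.isDefEq.respectTransparency.types false
set_option maxHeartbeats 1000000
universe u
open scoped TensorProduct
open EGA4

namespace Groth.Agent.S19570


/-- A surjection with kernel `𝔪 W` identifies the special fibre. -/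
theorem exists_fibre_equiv {V W k W₀ : Type u} [CommRing V] [CommRing W] [Algebra V W] [CommRing k] [Algebra V k]
    (hk : Function.Surjective (algebraMap V k)) [CommRing W₀] [Algebra k W₀] (π : W →+* W₀)
    (hπ : Function.Surjective π)
    (hc : ∀ v, π (algebraMap V W v) = algebraMap k W₀ (algebraMap V k v))
    (hker : RingHom.ker π = (RingHom.ker (algebraMap V k)).map (algebraMap V W)) :
    ∃ e : k ⊗[V] W ≃ₐ[k] W₀, ∀ x w, e (x ⊗ₜ w) = algebraMap k W₀ x * π w := by
  letI : Algebra V W₀ := ((algebraMap k W₀).comp (algebraMap V k)).toAlgebra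
  haveI : IsScalarTower V k W₀ := IsScalarTower.of_algebraMap_eq' rfl
  let π' : W →ₐ[V] W₀ := { π with commutes' := hc }
  let F : k ⊗[V] W →ₐ[k] W₀ := Algebra.TensorProduct.lift (Algebra.ofId k W₀) π' fun _ _ => .all _ _
  have hF : ∀ x w, F (x ⊗ₜ w) = algebraMap k W₀ x * π w := fun x w =>
    Algebra.TensorProduct.lift_tmul _ _ _ _ _
  have hone : ∀ z : k ⊗[V] W, ∃ w, z = 1 ⊗ₜ w := fun z => by
    induction z with
    | zero => exact ⟨0, by rw [TensorProduct.tmul_zero]⟩
    | add a b ha hb =>
      obtain ⟨c, rfl⟩ := ha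
      obtain ⟨d, rfl⟩ := hb
      exact ⟨c + d, by rw [TensorProduct.tmul_add]⟩
    | tmul a b =>
      obtain ⟨r, rfl⟩ := hk a
      exact ⟨r • b, by rw [← TensorProduct.smul_tmul, Algebra.smul_def, mul_one]⟩
  have hzero : ∀ w ∈ (RingHom.ker (algebraMap V k)).map (algebraMap V W), (1 : k) ⊗ₜ[V] w = 0 := by
    intro w hw
    induction hw using Submodule.span_induction with
    | mem y hy =>
      obtain ⟨a, ha, rfl⟩ := hy
      rw [Algebra.algebraMap_eq_smul_one, ← TensorProduct.smul_tmul, Algebra.smul_def, mul_one,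
        RingHom.mem_ker.mp ha, TensorProduct.zero_tmul]
    | zero => rw [TensorProduct.tmul_zero]
    | add a b _ _ ha hb => rw [TensorProduct.tmul_add, ha, hb, add_zero]
    | smul c y _ hy =>
      rw [smul_eq_mul, show (1 : k) ⊗ₜ[V] (c * y) = (1 ⊗ₜ c) * (1 ⊗ₜ y) by
        rw [Algebra.TensorProduct.tmul_mul_tmul, mul_one], hy, mul_zero]
  refine ⟨AlgEquiv.ofBijective F ⟨(injective_iff_map_eq_zero F).2 fun z hz => ?_, fun c => ?_⟩, hF⟩
  · obtain ⟨w, rfl⟩ := hone z
    rw [hF, map_one, one_mul] at hz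
    exact hzero w (hker ▸ hz)
  · obtain ⟨w, rfl⟩ := hπ c
    exact ⟨1 ⊗ₜ w, by rw [hF, map_one, one_mul]⟩

/-- The map to the tensor product with a quotient. -/
theorem quot_tmul_facts {R C : Type u} [CommRing R] [CommRing C] [Algebra R C] (I : Ideal R) :
    Function.Surjective (fun c : C => (1 : R ⧸ I) ⊗ₜ[R] c) ∧
    ∀ c : C, (1 : R ⧸ I) ⊗ₜ[R] c = 0 ↔ c ∈ I.map (algebraMap R C) := by
  refine ⟨fun z => ?_, fun c => ?_⟩
  · obtain ⟨c, hc⟩ := Submodule.Quotient.mk_surjective _ (TensorProduct.quotTensorEquivQuotSMul C I z)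
    refine ⟨c, (TensorProduct.quotTensorEquivQuotSMul C I).injective ?_⟩
    rw [← hc]
    exact TensorProduct.quotTensorEquivQuotSMul_mk_one_tmul (M := C) I c
  · rw [← (TensorProduct.quotTensorEquivQuotSMul C I).map_eq_zero_iff,
      show TensorProduct.quotTensorEquivQuotSMul C I (1 ⊗ₜ c) = Submodule.Quotient.mk c from
        TensorProduct.quotTensorEquivQuotSMul_mk_one_tmul (M := C) I c,
      Submodule.Quotient.mk_eq_zero, Ideal.smul_top_eq_map, Submodule.restrictScalars_mem]

/-- A surjection from a base change along a quotient-preserving map restricts. -/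
theorem descend_quot {U B C' B₀ : Type u} [CommRing U] [CommRing B] [Algebra U B] [CommRing C'] [Algebra U C']
    [CommRing B₀] (J : Ideal U)
    (hb : Function.Bijective (Ideal.quotientMap (J.map (algebraMap U B)) (algebraMap U B) Ideal.le_comap_map))
    (Φ : B ⊗[U] C' →+* B₀) (hΦ : Function.Surjective Φ)
    (hker : RingHom.ker Φ = J.map (algebraMap U (B ⊗[U] C'))) :
    Function.Surjective (fun c : C' => Φ ((1 : B) ⊗ₜ c)) ∧ ∀ c : C', Φ ((1 : B) ⊗ₜ c) = 0 → c ∈ J.map (algebraMap U C') := by
  let q : U ⧸ J →ₐ[U] B ⧸ J.map (algebraMap U B) :=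
    { toRingHom := Ideal.quotientMap _ (algebraMap U B) Ideal.le_comap_map
      commutes' := fun u => rfl }
  let e := AlgEquiv.ofBijective q hb
  let qC : U ⧸ J →ₐ[U] C' ⧸ J.map (algebraMap U C') :=
    { toRingHom := Ideal.quotientMap _ (algebraMap U C') Ideal.le_comap_map
      commutes' := fun u => rfl }
  let χ : B →ₐ[U] C' ⧸ J.map (algebraMap U C') := (qC.comp e.symm.toAlgHom).comp (Ideal.Quotient.mkₐ U _)
  let r : B ⊗[U] C' →ₐ[U] C' ⧸ J.map (algebraMap U C') :=
    Algebra.TensorProduct.lift χ (Ideal.Quotient.mkₐ U _) fun _ _ => .all _ _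
  have hr : ∀ c : C', r (1 ⊗ₜ c) = Ideal.Quotient.mk _ c := fun c => by
    rw [Algebra.TensorProduct.lift_tmul, map_one, one_mul, Ideal.Quotient.mkₐ_eq_mk]
  refine ⟨fun b => ?_, fun c hc => ?_⟩
  · obtain ⟨z, rfl⟩ := hΦ b
    suffices h : ∃ c : C', z - 1 ⊗ₜ c ∈ J.map (algebraMap U (B ⊗[U] C')) by
      obtain ⟨c, hc⟩ := h
      rw [← hker, RingHom.mem_ker, map_sub, sub_eq_zero] at hc
      exact ⟨c, hc.symm⟩
    clear hker hΦ
    induction z with
    | zero => exact ⟨0, by simp⟩
    | add a b ha hb' =>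
      obtain ⟨c, hc⟩ := ha
      obtain ⟨d, hd⟩ := hb'
      exact ⟨c + d, by rw [TensorProduct.tmul_add, add_sub_add_comm]; exact add_mem hc hd⟩
    | tmul x c =>
      obtain ⟨u', hu⟩ := hb.2 (Ideal.Quotient.mk _ x)
      obtain ⟨u, rfl⟩ := Ideal.Quotient.mk_surjective u'
      rw [Ideal.quotientMap_mk, Ideal.Quotient.eq] at hu
      refine ⟨u • c, ?_⟩
      rw [← TensorProduct.smul_tmul, Algebra.smul_def, mul_one, ← TensorProduct.sub_tmul,
        show (x - algebraMap U B u) ⊗ₜ[U] c = ((x - algebraMap U B u) ⊗ₜ[U] (1 : C')) * ((1 : B) ⊗ₜ c) by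
          rw [Algebra.TensorProduct.tmul_mul_tmul, mul_one, one_mul]]
      refine Ideal.mul_mem_right _ _ ?_
      have h2 := Ideal.mem_map_of_mem (Algebra.TensorProduct.includeLeft : B →ₐ[U] B ⊗[U] C').toRingHom
        (neg_mem hu)
      rw [Ideal.map_map, AlgHom.toRingHom_eq_coe, AlgHom.comp_algebraMap, neg_sub] at h2
      exact h2
  · have h1 : ((1 : B) ⊗ₜ[U] c) ∈ J.map (algebraMap U (B ⊗[U] C')) := hker ▸ hc
    have h2 := Ideal.mem_map_of_mem r.toRingHom h1
    rw [Ideal.map_map, AlgHom.toRingHom_eq_coe, AlgHom.comp_algebraMap,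
      IsScalarTower.algebraMap_eq U C' (C' ⧸ J.map (algebraMap U C')), ← Ideal.map_map,
      Ideal.Quotient.algebraMap_eq, Ideal.map_quotient_self, Ideal.mem_bot] at h2
    exact Ideal.Quotient.eq_zero_iff_mem.mp ((hr c).symm.trans h2)

theorem etale_localization (A B : Type u) [CommRing A] [CommRing B] [Algebra A B] [Algebra.Etale A B]
    (M : Submonoid A) : Algebra.Etale (Localization M) (Localization (Algebra.algebraMapSubmonoid B M)) := by
  haveI : Algebra.IsPushout A (Localization M) B (Localization (Algebra.algebraMapSubmonoid B M)) :=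
    (Algebra.isPushout_of_isLocalization M (Localization M) B (Localization (Algebra.algebraMapSubmonoid B M))).symm
  exact Algebra.Etale.of_equiv (Algebra.IsPushout.equiv A (Localization M) B (Localization (Algebra.algebraMapSubmonoid B M)))

/-- Let V be a complete discrete valuation ring of characteristic zero, with maximal ideal 𝔪 and residue
field k, let A₀ be a smooth k-algebra and B₀ a finite étale A₀-algebra. Then A₀ lifts to a smooth
V-algebra A (an isomorphism k ⊗_V A ≅ A₀ of k-algebras), and the finite étale cover lifts over it: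
there is a finite A-algebra B which is a normal ring, with an isomorphism k ⊗_V B ≅ B₀ compatible
with the one for A and with the algebra maps, such that the localization A_T → B_T at T = 1 + 𝔪A is
étale. The published corollary also claims, for the lift it produces, a finite étale lift after
inverting a suitable element and further properties of formal completions of projective closures;
the statement here asserts only that B is finite over A and normal and that A_T → B_T is étale. -/
theorem result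
    (V : Type u) [CommRing V] [IsDomain V] [IsDiscreteValuationRing V] [CharZero V]
    [IsAdicComplete (IsLocalRing.maximalIdeal V) V]
    (A₀ : Type u) [CommRing A₀] [Algebra (IsLocalRing.ResidueField V) A₀]
    [Algebra.Smooth (IsLocalRing.ResidueField V) A₀]
    (B₀ : Type u) [CommRing B₀] [Algebra A₀ B₀] [Algebra (IsLocalRing.ResidueField V) B₀]
    [IsScalarTower (IsLocalRing.ResidueField V) A₀ B₀] [Module.Finite A₀ B₀] [Algebra.Etale A₀ B₀] :
    ∃ (A : Type u) (_ : CommRing A) (_ : Algebra V A) (_ : Algebra.Smooth V A)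
      (e : (IsLocalRing.ResidueField V) ⊗[V] A ≃ₐ[IsLocalRing.ResidueField V] A₀)
      (B : Type u) (_ : CommRing B) (_ : Algebra A B) (_ : Algebra V B) (_ : IsScalarTower V A B)
      (e' : (IsLocalRing.ResidueField V) ⊗[V] B ≃ₐ[IsLocalRing.ResidueField V] B₀),
      Module.Finite A B ∧ EGA4.IsNormalRing B ∧
      (∀ x : (IsLocalRing.ResidueField V) ⊗[V] A,
        e' (Algebra.TensorProduct.map (AlgHom.id (IsLocalRing.ResidueField V) (IsLocalRing.ResidueField V))
          (IsScalarTower.toAlgHom V A B) x) = algebraMap A₀ B₀ (e x)) ∧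
      Algebra.Etale (Localization (MonoidHom.mker (Ideal.Quotient.mk ((IsLocalRing.maximalIdeal V).map (algebraMap V A)))))
        (Localization (Algebra.algebraMapSubmonoid B
          (MonoidHom.mker (Ideal.Quotient.mk ((IsLocalRing.maximalIdeal V).map (algebraMap V A)))))) := by
  classical
  let k := IsLocalRing.ResidueField V
  have hk : Function.Surjective (algebraMap V k) := Ideal.Quotient.mk_surjective
  have hkker : RingHom.ker (algebraMap V k) = (IsLocalRing.maximalIdeal V) := Ideal.mk_ker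
  letI : Algebra (V ⧸ (IsLocalRing.maximalIdeal V)) A₀ := ‹Algebra (IsLocalRing.ResidueField V) A₀›
  haveI : Algebra.Smooth (V ⧸ (IsLocalRing.maximalIdeal V)) A₀ := ‹Algebra.Smooth (IsLocalRing.ResidueField V) A₀›
  obtain ⟨A, _, _, _, ⟨eA⟩⟩ := Groth.Agent.S6827.result (R := V) (A₀ := A₀) (IsLocalRing.maximalIdeal V)
  haveI : IsNoetherianRing A := Algebra.FiniteType.isNoetherianRing V A
  let J := (IsLocalRing.maximalIdeal V).map (algebraMap V A)
  obtain ⟨H, _, _, hH⟩ := Groth.Agent.S2051.result A J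
  haveI := hH.1
  let JH := J.map (algebraMap A H)
  have hb1 := PairHensLib.quotientMap_bijective hH 1
  rw [pow_one] at hb1
  let qH := RingEquiv.ofBijective _ hb1
  let ρ : H ⧸ JH →+* A₀ := eA.toRingEquiv.toRingHom.comp qH.symm.toRingHom
  have hρ : Function.Bijective ρ := eA.bijective.comp qH.symm.bijective
  let πH : H →+* A₀ := ρ.comp (Ideal.Quotient.mk JH)
  have hπA : ∀ a, πH (algebraMap A H a) = eA (Ideal.Quotient.mk J a) := fun a =>
    congrArg eA (qH.symm_apply_eq.mpr rfl)
  have hπHker : RingHom.ker πH = JH := by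
    rw [RingHom.ker_comp_of_injective _ hρ.1, Ideal.mk_ker]
  letI algHB : Algebra (H ⧸ JH) B₀ := ((algebraMap A₀ B₀).comp ρ).toAlgebra
  haveI : Module.Finite (H ⧸ JH) B₀ :=
    (RingHom.finite_algebraMap.mpr (inferInstance : Module.Finite A₀ B₀)).comp (RingHom.Finite.of_surjective ρ hρ.2)
  haveI : Algebra.Etale (H ⧸ JH) B₀ :=
    RingHom.etale_algebraMap.mp (RingHom.Etale.stableUnderComposition _ _
      (RingHom.Etale.of_bijective hρ) (RingHom.etale_algebraMap.mpr (inferInstance : Algebra.Etale A₀ B₀)))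
  obtain ⟨C, _, _, _, _, ⟨eC⟩⟩ := Groth.Agent.S0532.result H JH B₀
  obtain ⟨U, _, _, _, _, _, hbU, C', _, _, _, _, ⟨ε⟩⟩ := HensDescLib.exists_finite_etale_descend hH C
  have hHU := PairHensLib.isPairHenselization_nbhd hH (U := U) hbU
  have hbUH := PairHensLib.quotientMap_bijective hHU 1
  rw [pow_one] at hbUH
  let JU := J.map (algebraMap A U)
  -- the surjection from the smooth neighbourhood
  let πU : U →+* A₀ := πH.comp (algebraMap U H)
  have hπUs : Function.Surjective πU := fun y => by
    obtain ⟨x, rfl⟩ := eA.surjective y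
    obtain ⟨a, rfl⟩ := Ideal.Quotient.mk_surjective x
    exact ⟨algebraMap A U a, by
      rw [RingHom.comp_apply, ← IsScalarTower.algebraMap_apply, hπA]⟩
  have hπUker : RingHom.ker πU = JU := by
    ext u
    rw [RingHom.mem_ker, RingHom.comp_apply, ← RingHom.mem_ker, hπHker,
      ← PairHensLib.algebraMap_mem_iff hHU (a := u), Ideal.map_map, ← IsScalarTower.algebraMap_eq]
  -- the surjection from the finite cover
  let ΦH : H ⊗[U] C' →+* B₀ :=
    eC.toRingEquiv.toRingHom.comp ((Algebra.TensorProduct.includeRight : C →ₐ[H] (H ⧸ JH) ⊗[H] C).toRingHom.comp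
      ε.toRingEquiv.toRingHom)
  have hΦs : Function.Surjective ΦH := eC.surjective.comp ((quot_tmul_facts JH).1.comp ε.surjective)
  have hΦker : RingHom.ker ΦH = JU.map (algebraMap U (H ⊗[U] C')) := by
    have h0 : JU.map (algebraMap U (H ⊗[U] C')) = JH.map (algebraMap H (H ⊗[U] C')) := by
      exact (Ideal.map_map _ _).trans ((congrArg (fun f => J.map f) ((IsScalarTower.algebraMap_eq A U (H ⊗[U] C')).symm.trans
        (IsScalarTower.algebraMap_eq A H (H ⊗[U] C')))).trans (Ideal.map_map _ _).symm)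
    rw [h0]
    ext z
    rw [RingHom.mem_ker]
    show eC ((1 : H ⧸ JH) ⊗ₜ ε z) = 0 ↔ _
    rw [map_eq_zero_iff _ eC.injective, (quot_tmul_facts JH).2, ← AlgHom.comp_algebraMap (ε.symm.toAlgHom), ← Ideal.map_map,
      show z = ε.symm (ε z) from (ε.symm_apply_apply z).symm]
    simp only [AlgEquiv.apply_symm_apply]
    constructor
    · intro hz; exact Ideal.mem_map_of_mem _ hz
    · intro hz
      obtain ⟨y, hy, hy'⟩ := (Ideal.mem_map_iff_of_surjective _ ε.symm.surjective).mp hz
      rwa [← ε.symm.injective hy']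
  obtain ⟨hΦ's, hΦ'k⟩ := descend_quot JU hbUH ΦH hΦs hΦker
  let Φ : C' →+* B₀ := ΦH.comp (Algebra.TensorProduct.includeRight : C' →ₐ[U] H ⊗[U] C').toRingHom
  have hΦU : ∀ u, Φ (algebraMap U C' u) = algebraMap A₀ B₀ (πU u) := fun u => by
    show ΦH ((1 : H) ⊗ₜ algebraMap U C' u) = _
    rw [show (1 : H) ⊗ₜ[U] algebraMap U C' u = algebraMap H (H ⊗[U] C') (algebraMap U H u) by
      rw [← IsScalarTower.algebraMap_apply U H (H ⊗[U] C')]
      exact (Algebra.TensorProduct.includeRight : C' →ₐ[U] H ⊗[U] C').commutes u]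
    show eC ((1 : H ⧸ JH) ⊗ₜ ε (algebraMap H _ _)) = _
    rw [ε.commutes, show (1 : H ⧸ JH) ⊗ₜ[H] algebraMap H C (algebraMap U H u) =
      algebraMap (H ⧸ JH) ((H ⧸ JH) ⊗[H] C) (algebraMap H (H ⧸ JH) (algebraMap U H u)) by
      rw [← IsScalarTower.algebraMap_apply H (H ⧸ JH) ((H ⧸ JH) ⊗[H] C)]
      exact (Algebra.TensorProduct.includeRight : C →ₐ[H] (H ⧸ JH) ⊗[H] C).commutes _, eC.commutes]
    rfl
  have hΦker' : RingHom.ker Φ = JU.map (algebraMap U C') := by
    refine le_antisymm (fun c hc => hΦ'k c hc) (Ideal.map_le_iff_le_comap.mpr fun u hu => ?_)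
    rw [Ideal.mem_comap, RingHom.mem_ker, hΦU, show πU u = 0 from RingHom.mem_ker.mp (hπUker.ge hu), map_zero]
  letI : Algebra V U := ((algebraMap A U).comp (algebraMap V A)).toAlgebra
  haveI : IsScalarTower V A U := IsScalarTower.of_algebraMap_eq' rfl
  haveI : Algebra.Smooth V U := Algebra.Smooth.comp V A U
  letI : Algebra V C' := ((algebraMap U C').comp (algebraMap V U)).toAlgebra
  haveI : IsScalarTower V U C' := IsScalarTower.of_algebraMap_eq' rfl
  haveI : Algebra.Smooth V C' := Algebra.Smooth.comp V U C'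
  have hJU : JU = (IsLocalRing.maximalIdeal V).map (algebraMap V U) := Ideal.map_map _ _
  have hVU : ∀ v, πU (algebraMap V U v) = algebraMap k A₀ (algebraMap V k v) := fun v => by
    rw [IsScalarTower.algebraMap_apply V A U, RingHom.comp_apply, ← IsScalarTower.algebraMap_apply, hπA]
    exact eA.commutes (Ideal.Quotient.mk (IsLocalRing.maximalIdeal V) v)
  obtain ⟨e, he⟩ := exists_fibre_equiv hk πU hπUs hVU (by rw [hπUker, hkker, hJU])
  obtain ⟨e', he'⟩ := exists_fibre_equiv (W := C') hk Φ hΦ's (fun v => by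
      rw [IsScalarTower.algebraMap_apply V U C', hΦU, hVU, ← IsScalarTower.algebraMap_apply k A₀ B₀])
    (by rw [hΦker', hkker, hJU, Ideal.map_map]; rfl)
  refine ⟨U, inferInstance, inferInstance, inferInstance, e, C', inferInstance, inferInstance, inferInstance,
    inferInstance, e', inferInstance,
    NorLocLib.isNormalRing_of_smooth_general V C' (Unram17Lib.isNormalRing_of_domain V), fun x => ?_,
    etale_localization U C' _⟩
  induction x with
  | zero => simp
  | add a b ha hb => simp only [map_add, ha, hb]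
  | tmul a u =>
    rw [Algebra.TensorProduct.map_tmul, he, he', map_mul, ← IsScalarTower.algebraMap_apply]
    exact congrArg₂ (· * ·) rfl (hΦU u)

end Groth.Agent.S19570
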