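import Groth.Statements.S19571
import Mathlib


-- import your own Groth.Agent.* helpers here

set_option autoImplicit false
universe u
open CategoryTheory AlgebraicGeometry
open EtaPt

namespace Groth.Agent.S19571

/-- Let f : Y → X be a morphism of schemes which is flat, surjective and locally of finite presentation.
Then every affine open U of X is covered by affine opens V each of which is the image f(W) of some
affine open W of Y; stated pointwise: for every x ∈ U there are an affine open V of X with x ∈ V ≤ U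
and an affine open W of Y with f(W) = V as sets. (For such V and W the induced ring map Γ(V) → Γ(W)
is then faithfully flat.) -/
theorem result
    {X Y : Scheme.{u}} (f : Y ⟶ X) [Flat f] [Surjective f] [LocallyOfFinitePresentation f]
    (U : X.affineOpens) (x : X) (hx : x ∈ (U : X.Opens)) :
    ∃ V : X.affineOpens, x ∈ (V : X.Opens) ∧ (V : X.Opens) ≤ (U : X.Opens) ∧
      ∃ W : Y.affineOpens, f.base '' ((W : Y.Opens) : Set Y) = ((V : X.Opens) : Set X) := by
  obtain ⟨y, hy⟩ := f.surjective x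
  obtain ⟨W₀, hW₀, hyW₀, hW₀U⟩ := exists_isAffineOpen_mem_and_subset (x := y) (U := f ⁻¹ᵁ (U : X.Opens))
    (show f.base y ∈ (U : X.Opens) by rw [hy]; exact hx)
  have hopen : IsOpen (f.base '' (W₀ : Set Y)) := f.isOpenMap _ W₀.isOpen
  obtain ⟨r, hrsub, hxr⟩ := U.2.exists_basicOpen_le (V := ⟨_, hopen⟩ ⊓ (U : X.Opens))
    (⟨x, ⟨⟨y, hyW₀, hy⟩, hx⟩⟩) hx
  let s : Γ(Y, W₀) := f.appLE (U : X.Opens) W₀ hW₀U r
  have hs : Y.basicOpen s = W₀ ⊓ f ⁻¹ᵁ (X.basicOpen r) := Scheme.basicOpen_appLE f W₀ (U : X.Opens) hW₀U r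
  refine ⟨⟨X.basicOpen r, U.2.basicOpen r⟩, hxr, X.basicOpen_le r, ⟨Y.basicOpen s, hW₀.basicOpen s⟩, ?_⟩
  show f.base '' ((Y.basicOpen s : Y.Opens) : Set Y) = ((X.basicOpen r : X.Opens) : Set X)
  rw [hs]
  ext z
  constructor
  · rintro ⟨w, ⟨-, hw⟩, rfl⟩
    exact hw
  · intro hz
    obtain ⟨w, hw, rfl⟩ := (hrsub hz).1
    exact ⟨w, ⟨hw, hz⟩, rfl⟩

end Groth.Agent.S19571
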