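import Groth.Statements.S19573
import Mathlib

set_option autoImplicit false
universe u
open LocInt

namespace Groth.Agent.S19573

set_option maxHeartbeats 1600000


/-- The first sentence of the lemma together with the description of the closed subscheme Z given in its
proof, in the local model. Let R be a commutative ring, n ≥ 1, a ∈ R^n, and F = R^n / R·a the
cokernel of R → R^n, 1 ↦ a (the zeroth homology of the two-term complex R → R^n). Then the
annihilator ideal of the top exterior power ⋀^n F is the ideal generated by the coordinates a_1, …,
a_n of a, and at every prime p of R off the closed set V(a_1, …, a_n) the module F is free of rank n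
− 1 after localization at p. (The published statement is for a complex on a scheme which is locally
quasi-isomorphic to such a two-term complex L → E with L invertible and E locally free of rank n,
and says that H^0 restricted to the complement of the closed subscheme cut out by the annihilator of
its n-th exterior power is locally free of rank n − 1; this row is the local model.) -/
theorem result (R : Type u) [CommRing R]
    (n : ℕ) (hn : 1 ≤ n) (a : Fin n → R) :
    (⋀[R]^n ((Fin n → R) ⧸ Submodule.span R {a})).annihilator = Ideal.span (Set.range a) ∧
    ∀ p : PrimeSpectrum R, ¬ Ideal.span (Set.range a) ≤ p.asIdeal →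
      p ∈ Module.freeLocus R ((Fin n → R) ⧸ Submodule.span R {a}) ∧
      Module.rankAtStalk ((Fin n → R) ⧸ Submodule.span R {a}) p = n - 1 := by
  classical
  set π := (Submodule.span R {a}).mkQ
  refine ⟨le_antisymm ?_ ?_, ?_⟩
  · intro r hr
    rw [Module.mem_annihilator] at hr
    set I := Ideal.span (Set.range a)
    let ψ : ((Fin n → R) ⧸ Submodule.span R {a}) →ₗ[R] (Fin n → R ⧸ I) :=
      (Submodule.span R {a}).liftQ ((Ideal.Quotient.mkₐ R I).toLinearMap.compLeft (Fin n)) (by
        rw [Submodule.span_le, Set.singleton_subset_iff]
        ext i
        exact Ideal.Quotient.eq_zero_iff_mem.2 (Ideal.subset_span ⟨i, rfl⟩))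
    let D : ((Fin n → R) ⧸ Submodule.span R {a}) [⋀^Fin n]→ₗ[R] (R ⧸ I) :=
      { toFun := fun v => Matrix.det (Matrix.of fun i => ψ (v i))
        map_update_add' := fun {inst} m i x y => by
          obtain rfl : inst = instDecidableEqFin n := Subsingleton.elim _ _
          have e : ∀ z, (Matrix.of fun j => ψ (Function.update m i z j)) = (Matrix.of fun j => ψ (m j)).updateRow i (ψ z) := by
            intro z; ext j l
            rcases eq_or_ne j i with rfl | h <;> simp [Matrix.updateRow_apply, *]
          show Matrix.det _ = Matrix.det _ + Matrix.det _
          rw [e, e, e, map_add]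
          exact Matrix.det_updateRow_add _ i _ _
        map_update_smul' := fun {inst} m i c x => by
          obtain rfl : inst = instDecidableEqFin n := Subsingleton.elim _ _
          have e : ∀ z, (Matrix.of fun j => ψ (Function.update m i z j)) = (Matrix.of fun j => ψ (m j)).updateRow i (ψ z) := by
            intro z; ext j l
            rcases eq_or_ne j i with rfl | h <;> simp [Matrix.updateRow_apply, *]
          show Matrix.det _ = c • Matrix.det _
          rw [e, e, map_smul, ← algebraMap_smul (R ⧸ I) c (ψ x), Matrix.det_updateRow_smul, Algebra.smul_def]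
        map_eq_zero_of_eq' := fun v i j h hij => Matrix.det_zero_of_row_eq hij (by ext l; simp [h]) }
    let E : Fin n → (Fin n → R) ⧸ Submodule.span R {a} := fun i => π (Pi.single i 1)
    have h0 := congrArg (exteriorPower.alternatingMapLinearEquiv D) (hr (exteriorPower.ιMulti R n E))
    rw [map_smul, map_zero, exteriorPower.alternatingMapLinearEquiv_apply_ιMulti] at h0
    have hE : (Matrix.of fun i => ψ (E i)) = 1 := by
      ext i j
      simp only [E, π, ψ, Matrix.of_apply, Submodule.mkQ_apply, Submodule.liftQ_apply, LinearMap.compLeft_apply, Function.comp_apply]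
      rcases eq_or_ne i j with rfl | h
      · simp
      · simp [h, h.symm]
    have hD : D E = 1 := (congrArg Matrix.det hE).trans Matrix.det_one
    rw [hD, Algebra.smul_def, mul_one] at h0
    exact Ideal.Quotient.eq_zero_iff_mem.1 h0
  · rw [Ideal.span_le]
    rintro _ ⟨i, rfl⟩
    rw [SetLike.mem_coe, Module.mem_annihilator]
    have key : (a i) • exteriorPower.ιMulti R n (M := (Fin n → R) ⧸ Submodule.span R {a}) = 0 := by
      have hc : ((a i) • exteriorPower.ιMulti R n (M := (Fin n → R) ⧸ Submodule.span R {a})).compLinearMap π = 0 := by
        refine (Pi.basisFun R (Fin n)).ext_alternating fun v hv => ?_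
        simp only [AlternatingMap.compLinearMap_apply, AlternatingMap.smul_apply, AlternatingMap.zero_apply, Pi.basisFun_apply]
        obtain ⟨j, hj⟩ := (Finite.injective_iff_surjective.1 hv) i
        set w := fun l => π (Pi.single (v l) (1 : R))
        have hπa : ∑ l, a (v l) • w l = 0 := by
          refine Eq.trans (Fintype.sum_equiv (Equiv.ofBijective v (Finite.injective_iff_bijective.1 hv)) _ (fun l => a l • π (Pi.single l (1 : R))) fun _ => rfl) ?_
          simp only [← map_smul, ← map_sum]
          have : ∑ l, a l • (Pi.single l (1 : R) : Fin n → R) = a := by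
            ext l; simp [Pi.single_apply]
          rw [this]
          exact (Submodule.Quotient.mk_eq_zero _).2 (Submodule.mem_span_singleton_self a)
        have h1 : exteriorPower.ιMulti R n (Function.update w j (∑ l, a (v l) • w l)) = 0 :=
          AlternatingMap.map_coord_zero _ j (by rw [Function.update_self, hπa])
        rw [AlternatingMap.map_update_sum, Finset.sum_eq_single j (fun l _ hl => ?_) (by simp)] at h1
        · rwa [AlternatingMap.map_update_smul, Function.update_eq_self, hj] at h1
        · rw [AlternatingMap.map_update_smul, AlternatingMap.map_eq_zero_of_eq _ _ (i := j) (j := l) (by simp [hl]) hl.symm, smul_zero]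
      refine AlternatingMap.ext fun v => ?_
      choose w hw using fun l => (Submodule.span R {a}).mkQ_surjective (v l)
      have := congrArg (fun f => f w) hc
      simpa [hw, π] using this
    intro z
    have hz : z ∈ Submodule.span R (Set.range (exteriorPower.ιMulti R n (M := (Fin n → R) ⧸ Submodule.span R {a}))) := by
      rw [exteriorPower.ιMulti_span]; trivial
    induction hz using Submodule.span_induction with
    | mem w hw =>
      obtain ⟨v, rfl⟩ := hw
      exact congrArg (fun f => f v) key
    | zero => simp
    | add w w' _ _ h h' => rw [smul_add, h, h', add_zero]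
    | smul c w _ h => rw [smul_comm, h, smul_zero]
  · intro p hp
    rw [Ideal.span_le, Set.range_subset_iff] at hp
    push Not at hp
    obtain ⟨i, hi⟩ := hp
    let S := p.asIdeal.primeCompl
    let J := {j : Fin n // j ≠ i}
    let f : (J → R) →ₗ[R] ((Fin n → R) ⧸ Submodule.span R {a}) :=
      π ∘ₗ { toFun := fun w l => if h : l ≠ i then w ⟨l, h⟩ else 0
             map_add' := fun w w' => by ext l; by_cases h : l = i <;> simp [h]
             map_smul' := fun c w => by ext l; by_cases h : l = i <;> simp [h] }
    let g : ((Fin n → R) ⧸ Submodule.span R {a}) →ₗ[R] (J → R) :=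
      (Submodule.span R {a}).liftQ
        (LinearMap.pi fun l : J => a i • (LinearMap.proj l.1 : (Fin n → R) →ₗ[R] R) - a l.1 • LinearMap.proj i) (by
          rw [Submodule.span_le, Set.singleton_subset_iff]
          ext l; simp; ring)
    have hgf : g ∘ₗ f = a i • LinearMap.id := by
      refine LinearMap.ext fun w => funext fun l => ?_
      simp [f, g, π, l.2]
    have hfg : f ∘ₗ g = a i • LinearMap.id := by
      refine LinearMap.ext fun x => ?_
      obtain ⟨v, rfl⟩ := (Submodule.span R {a}).mkQ_surjective x
      simp only [LinearMap.comp_apply, LinearMap.smul_apply, LinearMap.id_apply, f, g, π, Submodule.mkQ_apply,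
        Submodule.liftQ_apply, LinearMap.coe_mk, AddHom.coe_mk]
      rw [← Submodule.Quotient.mk_smul, Submodule.Quotient.eq, Submodule.mem_span_singleton]
      refine ⟨-v i, funext fun l => ?_⟩
      by_cases h : l = i
      · subst h; simp; ring
      · simp [h]; ring
    let F := IsLocalizedModule.mapExtendScalars S (LocalizedModule.mkLinearMap S (J → R)) (LocalizedModule.mkLinearMap S ((Fin n → R) ⧸ Submodule.span R {a})) (Localization.AtPrime p.asIdeal) f
    have hbij : Function.Bijective F := by
      have hu : ∀ (M : Type u) [AddCommGroup M] [Module R M], Function.Bijective (fun x : LocalizedModule S M => a i • x) := fun M _ _ =>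
        Module.End.isUnit_iff _ |>.1 (IsLocalizedModule.map_units (S := S) (LocalizedModule.mkLinearMap S M) (⟨a i, hi⟩ : S))
      let F₀ := IsLocalizedModule.map S (LocalizedModule.mkLinearMap S (J → R)) (LocalizedModule.mkLinearMap S ((Fin n → R) ⧸ Submodule.span R {a})) f
      let G₀ := IsLocalizedModule.map S (LocalizedModule.mkLinearMap S ((Fin n → R) ⧸ Submodule.span R {a})) (LocalizedModule.mkLinearMap S (J → R)) g
      have e1 : G₀ ∘ₗ F₀ = a i • LinearMap.id := by
        rw [← IsLocalizedModule.map_comp', hgf, map_smul, IsLocalizedModule.map_id]
      have e2 : F₀ ∘ₗ G₀ = a i • LinearMap.id := by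
        rw [← IsLocalizedModule.map_comp', hfg, map_smul, IsLocalizedModule.map_id]
      show Function.Bijective F₀
      refine ⟨fun x y hxy => (hu (J → R)).1 ?_, fun y => ?_⟩
      · have := congrArg G₀ hxy
        rwa [← LinearMap.comp_apply, ← LinearMap.comp_apply, e1] at this
      · obtain ⟨z, hz⟩ := (hu _).2 y
        refine ⟨G₀ z, ?_⟩
        rw [← LinearMap.comp_apply, e2]
        exact hz
    let e := LinearEquiv.ofBijective F hbij
    haveI : Module.Free (Localization.AtPrime p.asIdeal) (LocalizedModule S (J → R)) :=
      Module.free_of_isLocalizedModule S (LocalizedModule.mkLinearMap S (J → R))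
    refine ⟨Module.Free.of_equiv e, ?_⟩
    haveI : Nontrivial R := p.nontrivial
    show Module.finrank _ _ = _
    rw [← e.finrank_eq, Module.finrank_of_isLocalizedModule_of_free (Localization.AtPrime p.asIdeal) S (LocalizedModule.mkLinearMap S (J → R)),
      Module.finrank_fintype_fun_eq_card]
    simp [J]

end Groth.Agent.S19573
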