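import Groth.Statements.S19574
import Mathlib.RingTheory.Flat.Tensor
import Mathlib.Algebra.Homology.ShortComplex.ModuleCat
import Mathlib.LinearAlgebra.TensorProduct.RightExactness
import Mathlib.LinearAlgebra.TensorProduct.Quotient
-- import your own Groth.Agent.* helpers here

set_option autoImplicit false
universe u
open CategoryTheory MonoidalCategory
open Lie3Mod

namespace Groth.Agent.S19574

/-- Let R be a commutative ring and d ≥ 1. Let K be a chain complex of R-modules concentrated in degrees
0, …, d + 1, written … → 0 → P_{d+1} → P_d → … → P_1 → M with M = K_0, which is exact (so 0 →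
P_{d+1} → … → P_1 → M → 0 is an exact sequence), such that P_1, …, P_d are flat R-modules and such
that for every ideal I of R the complex obtained by applying (R/I) ⊗_R − termwise is again exact.
Then M is a flat R-module. (No flatness is assumed for P_{d+1}. The published lemma adds that for R
Noetherian it suffices to test prime ideals I; that refinement is not part of this statement.) -/
theorem result (R : Type u) [CommRing R]
    (d : ℕ) (hd : 1 ≤ d) (K : ChainComplex (ModuleCat.{u} R) ℕ)
    (hzero : ∀ i : ℕ, d + 1 < i → Limits.IsZero (K.X i))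
    (hflat : ∀ i : ℕ, 1 ≤ i → i ≤ d → Module.Flat R (K.X i))
    (hK : K.Acyclic)
    (hbc : ∀ I : Ideal R,
      (((tensorLeft (ModuleCat.of R (R ⧸ I))).mapHomologicalComplex (ComplexShape.down ℕ)).obj K).Acyclic) :
    Module.Flat R (K.X 0) := by
  have hex : ∀ n, Function.Exact (K.d (n + 2) (n + 1)).hom (K.d (n + 1) n).hom := fun n => by
    have := (HomologicalComplex.exactAt_iff' K (n + 2) (n + 1) n (by simp) (by simp)).mp (hK (n + 1))
    exact (ShortComplex.ShortExact.moduleCat_exact_iff_function_exact _).mp this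
  have hexI : ∀ (I : Ideal R) n, Function.Exact ((K.d (n + 2) (n + 1)).hom.lTensor (R ⧸ I)) ((K.d (n + 1) n).hom.lTensor (R ⧸ I)) := fun I n => by
    have := (HomologicalComplex.exactAt_iff' _ (n + 2) (n + 1) n (by simp) (by simp)).mp (hbc I (n + 1))
    exact (ShortComplex.ShortExact.moduleCat_exact_iff_function_exact _).mp this
  have hsurj : Function.Surjective (K.d 1 0).hom := by
    have := (HomologicalComplex.exactAt_iff' K 1 0 0 (by simp) (by simp)).mp (hK 0)
    have h := (ShortComplex.ShortExact.moduleCat_exact_iff_function_exact _).mp this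
    intro y
    refine (h y).mp ?_
    show (K.d 0 0).hom y = 0
    rw [K.shape 0 0 (by simp)]
    rfl
  haveI := hflat 1 le_rfl hd
  have hQ : ∀ (I : Ideal R) (i : ℕ) (m : K.X i), TensorProduct.quotTensorEquivQuotSMul (K.X i) I ((1 : R ⧸ I) ⊗ₜ[R] m) = Submodule.Quotient.mk m := fun I i m => by
    rw [← map_one (Ideal.Quotient.mk I), TensorProduct.quotTensorEquivQuotSMul_mk_tmul, one_smul]
  set d₁ := (K.d 1 0).hom with hd₁
  set d₂ := (K.d 2 1).hom with hd₂
  set d₃ := (K.d 3 2).hom with hd₃
  refine (Module.Flat.iff_lTensor_injective' (M := K.X 0)).mpr fun I => ?_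
  rw [injective_iff_map_eq_zero]
  rintro x hx
  haveI := hflat 1 le_rfl hd
  have hinjF : Function.Injective (I.subtype.lTensor (K.X 1)) := Module.Flat.lTensor_preserves_injective_linearMap _ I.injective_subtype
  obtain ⟨x', rfl⟩ := LinearMap.rTensor_surjective I hsurj x
  let y := TensorProduct.rid R (K.X 1) (I.subtype.lTensor (K.X 1) x')
  have hy0 : d₁ y = 0 := by
    have hnat : TensorProduct.rid R (K.X 0) (I.subtype.lTensor (K.X 0) (LinearMap.rTensor I d₁ x')) = d₁ y := by
      clear hx
      simp only [y]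
      induction x' using TensorProduct.induction_on with
      | zero => simp
      | tmul a b => simp
      | add a b ha hb => simp only [map_add, ha, hb]
    rw [← hnat, hx, map_zero]
  obtain ⟨w, hw⟩ := (hex 0 y).mp hy0
  change d₂ w = y at hw
  have hyI : y ∈ I • (⊤ : Submodule R (K.X 1)) := by
    simp only [y]
    clear hx hy0 hw
    induction x' using TensorProduct.induction_on with
    | zero => simp
    | tmul a b => simpa using Submodule.smul_mem_smul b.2 (Submodule.mem_top (x := a))
    | add a b ha hb => simpa only [map_add] using add_mem ha hb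
  have hw0 : d₂.lTensor (R ⧸ I) ((1 : R ⧸ I) ⊗ₜ[R] w) = 0 := by
    rw [LinearMap.lTensor_tmul, hw]
    apply (TensorProduct.quotTensorEquivQuotSMul (K.X 1) I).injective
    rw [map_zero, hQ]
    exact (Submodule.Quotient.mk_eq_zero _).mpr hyI
  obtain ⟨v, hv⟩ := (hexI I 1 ((1 : R ⧸ I) ⊗ₜ[R] w)).mp hw0
  obtain ⟨u, hu⟩ : ∃ u, (1 : R ⧸ I) ⊗ₜ[R] u = v := by
    obtain ⟨u, hu⟩ := Submodule.Quotient.mk_surjective _ (TensorProduct.quotTensorEquivQuotSMul (K.X 3) I v)
    refine ⟨u, (TensorProduct.quotTensorEquivQuotSMul (K.X 3) I).injective (Eq.trans ?_ hu)⟩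
    exact hQ _ _ _
  have hdiff : w - d₃ u ∈ I • (⊤ : Submodule R (K.X 2)) := by
    rw [← Submodule.Quotient.mk_eq_zero]
    have h0 : (1 : R ⧸ I) ⊗ₜ[R] (w - d₃ u) = 0 := by
      rw [TensorProduct.tmul_sub, sub_eq_zero, ← hv, ← hu]
      rfl
    have := congrArg (TensorProduct.quotTensorEquivQuotSMul (K.X 2) I) h0
    rw [map_zero, hQ] at this
    exact this
  obtain ⟨z, hz⟩ : ∃ z : TensorProduct R (K.X 2) I, TensorProduct.rid R (K.X 2) (I.subtype.lTensor (K.X 2) z) = w - d₃ u := by
    clear hv hw0
    refine Submodule.smul_induction_on hdiff (fun r hr m _ => ⟨m ⊗ₜ[R] (⟨r, hr⟩ : I), by simp⟩) ?_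
    rintro a b ⟨za, hza⟩ ⟨zb, hzb⟩
    exact ⟨za + zb, by rw [map_add, map_add, hza, hzb]⟩
  have hx' : x' = LinearMap.rTensor I d₂ z := by
    apply hinjF
    apply (TensorProduct.rid R (K.X 1)).injective
    have h32 : d₂ (d₃ u) = 0 := (hex 1 (d₃ u)).mpr ⟨u, rfl⟩
    have hnat : TensorProduct.rid R (K.X 1) (I.subtype.lTensor (K.X 1) (LinearMap.rTensor I d₂ z)) = d₂ (TensorProduct.rid R (K.X 2) (I.subtype.lTensor (K.X 2) z)) := by
      clear hz
      induction z using TensorProduct.induction_on with
      | zero => simp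
      | tmul a b => simp
      | add a b ha hb => simp only [map_add, ha, hb]
    rw [hnat, hz, map_sub, h32, sub_zero, hw]
  rw [hx', ← LinearMap.comp_apply, ← LinearMap.rTensor_comp, show d₁ ∘ₗ d₂ = 0 from LinearMap.ext fun a => (hex 0 (d₂ a)).mpr ⟨a, rfl⟩, LinearMap.rTensor_zero, LinearMap.zero_apply]

end Groth.Agent.S19574
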