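import Groth.Statements.S19575
import Groth.Agent.EtaLib.Spec
import Groth.Agent.EtaLib.Rel
import Groth.Agent.EtaLib.Valuation
import Groth.Agent.EtaLib.Loc

set_option autoImplicit false
universe u
open EtaPt

namespace Groth.Agent.S19575

/-- Let η be the field-endofunctor datum of the pointwise construction, A a commutative ring with
finitely many minimal prime ideals and φ : A → B a ring map inducing a surjection on prime spectra.
If the canonical map A → (B/A)_η (the corestriction of φ onto the subring of B of elements whose
image in ∏_q F(k(q)) comes from M_η(A)) is bijective, then for every f ∈ A the canonical map A_f →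
(B_f/A_f)_η attached to the localized map A_f → B_{φ(f)} is bijective as well. -/
theorem result (η : EtaPt.FieldEndo.{u}) {A B : Type u} [CommRing A] [CommRing B]
    (hA : (minimalPrimes A).Finite) (φ : A →+* B) (hs : Function.Surjective (PrimeSpectrum.comap φ))
    (h : Function.Bijective (η.qRel φ)) (f : A) :
    Function.Bijective (η.qRel (Localization.awayMap φ f)) := by
  have hcomm : (Localization.awayMap φ f).comp (algebraMap A (Localization.Away f)) =
      (algebraMap B (Localization.Away (φ f))).comp φ := IsLocalization.map_comp _
  rw [EtaLib.bij_qRel_iff] at h ⊢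
  refine ⟨?_, ?_⟩
  · refine (injective_iff_map_eq_zero _).2 fun z hz => ?_
    obtain ⟨k, a, hak⟩ := IsLocalization.Away.surj f z
    have h2 : algebraMap B (Localization.Away (φ f)) (φ a) = 0 := by
      rw [← RingHom.comp_apply, ← hcomm, RingHom.comp_apply, ← hak, map_mul, hz, zero_mul]
    obtain ⟨⟨_, m, rfl⟩, hm⟩ := (IsLocalization.map_eq_zero_iff (Submonoid.powers (φ f)) _ _).1 h2
    have hm' : f ^ m * a = 0 := h.1 (by rw [map_mul, map_pow, map_zero]; exact hm)
    have hu := (IsLocalization.Away.algebraMap_isUnit (S := Localization.Away f) f)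
    have : algebraMap A (Localization.Away f) a = 0 :=
      (IsLocalization.map_eq_zero_iff (Submonoid.powers f) _ _).2 ⟨⟨_, m, rfl⟩, hm'⟩
    exact ((hu.pow k).mul_left_eq_zero).1 (hak.trans this)
  · intro y hy
    obtain ⟨b, hmem, n, hbn⟩ := EtaLib.exists_rel_lift f hA φ hy
    obtain ⟨a, ha⟩ := h.2 hmem
    let u : (Localization.Away f)ˣ := (IsLocalization.Away.algebraMap_isUnit (S := Localization.Away f) f).unit
    refine ⟨algebraMap A _ a * ↑(u⁻¹ ^ n), ?_⟩
    apply ((IsLocalization.Away.algebraMap_isUnit (S := Localization.Away (φ f)) (φ f)).pow n).mul_right_cancel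
    have hA' : ∀ z, algebraMap B (Localization.Away (φ f)) (φ z) =
        Localization.awayMap φ f (algebraMap A (Localization.Away f) z) := fun z => (DFunLike.congr_fun hcomm z).symm
    rw [hbn, ← ha, hA' a, hA' f, ← map_pow, ← map_mul, mul_assoc,
      show algebraMap A (Localization.Away f) f = (u : Localization.Away f) from rfl, ← Units.val_pow_eq_pow_val,
      ← Units.val_mul, ← mul_pow, inv_mul_cancel, one_pow, Units.val_one, mul_one]
end Groth.Agent.S19575
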