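import Groth.Statements.S19576
import Groth.Agent.EtaLib.Spec
import Groth.Agent.EtaLib.Rel
import Groth.Agent.EtaLib.Valuation
import Groth.Agent.EtaLib.Loc

set_option autoImplicit false
universe u
open EtaPt

namespace Groth.Agent.S19576

/-- Let η be the field-endofunctor datum of the pointwise construction, A a commutative ring with
finitely many minimal prime ideals and φ : A → B a ring map inducing a surjection on prime spectra.
If finitely many elements f_1, …, f_n of A generate the unit ideal and, for each i, the canonical
map A_{f_i} → (B_{f_i}/A_{f_i})_η attached to the localized map A_{f_i} → B_{φ(f_i)} is bijective,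
then the canonical map A → (B/A)_η is bijective. -/
theorem result (η : EtaPt.FieldEndo.{u}) {A B : Type u} [CommRing A] [CommRing B]
    (hA : (minimalPrimes A).Finite) (φ : A →+* B) (hs : Function.Surjective (PrimeSpectrum.comap φ))
    (s : Finset A) (hspan : Ideal.span (s : Set A) = ⊤)
    (h : ∀ f ∈ s, Function.Bijective (η.qRel (Localization.awayMap φ f))) :
    Function.Bijective (η.qRel φ) := by
  have hcomm : ∀ f z, Localization.awayMap φ f (algebraMap A (Localization.Away f) z) =
      algebraMap B (Localization.Away (φ f)) (φ z) := fun f z => IsLocalization.map_eq _ _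
  simp only [EtaLib.bij_qRel_iff] at h ⊢
  refine ⟨(injective_iff_map_eq_zero φ).2 fun a ha => ?_, fun b hb => ?_⟩
  · let I : Ideal A := LinearMap.ker (LinearMap.toSpanSingleton A A a)
    have hI : ∀ f ∈ s, ∃ n, f ^ n ∈ I := fun f hf => by
      have : algebraMap A (Localization.Away f) a = 0 := (h f hf).1 (by rw [hcomm, ha, map_zero, map_zero])
      obtain ⟨⟨_, n, rfl⟩, hn⟩ := (IsLocalization.map_eq_zero_iff (Submonoid.powers f) _ _).1 this
      exact ⟨n, by simpa [I] using hn⟩
    have htop : I.radical = ⊤ := top_le_iff.1 (hspan ▸ Ideal.span_le.2 fun f hf => hI f hf)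
    have h1 : (1 : A) ∈ I := by rw [← Ideal.eq_top_iff_one]; exact Ideal.radical_eq_top.1 htop
    simpa [I] using h1
  · let I : Ideal A :=
      { carrier := {r | φ r * b ∈ φ.range}
        add_mem' := fun {r r'} hr hr' => by
          show φ (r + r') * b ∈ φ.range
          rw [map_add, add_mul]; exact add_mem hr hr'
        zero_mem' := by show φ 0 * b ∈ φ.range; rw [map_zero, zero_mul]; exact zero_mem _
        smul_mem' := fun c r hr => by
          show φ (c * r) * b ∈ φ.range
          rw [map_mul, mul_assoc]; exact mul_mem ⟨c, rfl⟩ hr }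
    have hI : ∀ f ∈ s, ∃ n, f ^ n ∈ I := fun f hf => by
      obtain ⟨z, hz⟩ := (h f hf).2 (EtaLib.rel_map φ (algebraMap A (Localization.Away f))
        (algebraMap B (Localization.Away (φ f))) (Localization.awayMap φ f) (RingHom.ext (hcomm f)) hb)
      obtain ⟨n, a, hna⟩ := IsLocalization.Away.surj f z
      have h1 : algebraMap B (Localization.Away (φ f)) (φ a) =
          algebraMap B (Localization.Away (φ f)) (φ (f ^ n) * b) := by
        rw [← hcomm, ← hna, map_mul, map_pow, hcomm, hz, map_mul, map_pow, map_pow, mul_comm]
      obtain ⟨⟨_, m, rfl⟩, hm⟩ := (IsLocalization.eq_iff_exists (Submonoid.powers (φ f)) _).1 h1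
      refine ⟨m + n, f ^ m * a, ?_⟩
      rw [map_mul, map_pow]
      exact hm.trans (by rw [map_pow, map_pow, pow_add, mul_assoc])
    have htop : I.radical = ⊤ := top_le_iff.1 (hspan ▸ Ideal.span_le.2 fun f hf => hI f hf)
    have h1 : (1 : A) ∈ I := by rw [← Ideal.eq_top_iff_one]; exact Ideal.radical_eq_top.1 htop
    have h2 : φ 1 * b ∈ φ.range := h1
    rwa [map_one, one_mul] at h2
end Groth.Agent.S19576
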