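import Groth.Statements.S19577
import Groth.Agent.EtaLib.Spec
import Groth.Agent.EtaLib.Rel
import Groth.Agent.EtaLib.Valuation
import Groth.Agent.EtaLib.Loc

set_option autoImplicit false
universe u
open EtaPt

namespace Groth.Agent.S19577

/-- Let f : A → B be a homomorphism of commutative rings, each with only finitely many minimal primes.
Then M_η(f) : M_η(A) → M_η(B) is integral exactly when f is integral, and Spec M_η(f) is surjective
exactly when Spec f is. Here η is the field-endofunctor datum of the pointwise construction, M_η(A)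
⊆ ∏_p F(k(p)) the subring attached to A with q_A : A → M_η(A), and M_η(f) : M_η(A) → M_η(B) the ring
map induced by N_η(f), pinned here as the ring map g compatible with N_η(f) under the two subring
inclusions. -/
theorem result (η : EtaPt.FieldEndo.{u}) {A B : Type u} [CommRing A] [CommRing B]
    (hA : (minimalPrimes A).Finite) (hB : (minimalPrimes B).Finite) (f : A →+* B)
    (g : η.M A →+* η.M B) (hg : ∀ x : η.M A, ((g x : η.M B) : η.N B) = η.Nmap f (x : η.N A)) :
    (f.IsIntegral ↔ g.IsIntegral) ∧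
      (Function.Surjective (PrimeSpectrum.comap f) ↔ Function.Surjective (PrimeSpectrum.comap g)) := by
  have hcomp : g.comp (η.q A) = (η.q B).comp f := by
    ext a : 1
    apply Subtype.ext
    show (g (η.q A a) : η.N B) = η.t B (f a)
    rw [hg]
    exact η.Nmap_t_apply f a
  refine ⟨⟨fun hf => ?_, fun hg' => ?_⟩, ⟨fun hs => ?_, fun hs => ?_⟩⟩
  · refine RingHom.IsIntegral.tower_top (η.q A) g ?_
    rw [hcomp]
    exact hf.trans _ _ (EtaLib.isIntegral_q hB)
  · intro b
    have : ((η.q B).comp f).IsIntegral := hcomp ▸ (EtaLib.isIntegral_q hA).trans _ _ hg'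
    obtain ⟨P, hP, hP0⟩ := this (η.q B b)
    rw [← Polynomial.hom_eval₂] at hP0
    obtain ⟨n, hn⟩ := (EtaLib.t_eq_zero_iff (η := η) _).1 (congrArg Subtype.val hP0)
    exact ⟨P ^ n, hP.pow n, by rw [Polynomial.eval₂_pow, hn]⟩
  · intro P
    obtain ⟨Q, hQ⟩ := hs (PrimeSpectrum.comap (η.q A) P)
    obtain ⟨Q', rfl⟩ := (EtaLib.bij_comap_q (η := η) hB).2 Q
    refine ⟨Q', (EtaLib.bij_comap_q (η := η) hA).1 ?_⟩
    rw [← hQ, ← PrimeSpectrum.comap_comp_apply, hcomp, PrimeSpectrum.comap_comp_apply]
  · intro p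
    obtain ⟨P, rfl⟩ := (EtaLib.bij_comap_q (η := η) hA).2 p
    obtain ⟨Q, rfl⟩ := hs P
    exact ⟨PrimeSpectrum.comap (η.q B) Q, by rw [← PrimeSpectrum.comap_comp_apply, ← hcomp, PrimeSpectrum.comap_comp_apply]⟩
end Groth.Agent.S19577
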