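import Groth.Statements.S19578
import Groth.Agent.EtaLib.Spec
import Groth.Agent.EtaLib.Rel
import Groth.Agent.EtaLib.Valuation
import Groth.Agent.EtaLib.Loc

set_option autoImplicit false
universe u
open EtaPt

namespace Groth.Agent.S19578

/-- Let f : A → B be a homomorphism of commutative rings, each with only finitely many minimal primes,
and suppose the induced map M_η(f) : M_η(A) → M_η(B) is an isomorphism. Then Spec f is a bijection
between the prime ideals of B and of A, and for every prime q of B, with p = f⁻¹(q), there is a ring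
map φ : k(q) → F(k(p)) whose composite with the residue field map k(p) → k(q) equals η_{k(p)}. Here
η is the field-endofunctor datum of the pointwise construction, M_η(A) ⊆ ∏_p F(k(p)) the subring
attached to A with q_A : A → M_η(A), and M_η(f) : M_η(A) → M_η(B) the ring map induced by N_η(f),
pinned here as the ring map g compatible with N_η(f) under the two subring inclusions. -/
theorem result (η : EtaPt.FieldEndo.{u}) {A B : Type u} [CommRing A] [CommRing B]
    (hA : (minimalPrimes A).Finite) (hB : (minimalPrimes B).Finite) (f : A →+* B)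
    (g : η.M A →+* η.M B) (hg : ∀ x : η.M A, ((g x : η.M B) : η.N B) = η.Nmap f (x : η.N A))
    (hbij : Function.Bijective g) :
    Function.Bijective (PrimeSpectrum.comap f) ∧
      ∀ Q : PrimeSpectrum B,
        ∃ φ : Q.asIdeal.ResidueField →+* η.obj (PrimeSpectrum.comap f Q).asIdeal.ResidueField,
          φ.comp (Ideal.ResidueField.map (PrimeSpectrum.comap f Q).asIdeal Q.asIdeal f rfl) =
            η.eta (PrimeSpectrum.comap f Q).asIdeal.ResidueField := by
  have hcomp : g.comp (η.q A) = (η.q B).comp f := by
    ext a : 1
    apply Subtype.ext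
    show (g (η.q A a) : η.N B) = η.t B (f a)
    rw [hg]
    exact η.Nmap_t_apply f a
  have hN : Function.Bijective (η.Nmap f) := by
    have hgb : Function.Bijective (PrimeSpectrum.comap g) := by
      refine ⟨PrimeSpectrum.comap_injective_of_surjective _ hbij.2, fun P => ?_⟩
      refine ⟨PrimeSpectrum.comap (RingEquiv.ofBijective g hbij).symm.toRingHom P, ?_⟩
      rw [← PrimeSpectrum.comap_comp_apply,
        show (RingEquiv.ofBijective g hbij).symm.toRingHom.comp g = RingHom.id _ from
          RingHom.ext fun x => (RingEquiv.ofBijective g hbij).symm_apply_apply x]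
      rfl
    have hg' : Function.Bijective (η.Nmap g) := EtaLib.bij_Nmap_of g hgb fun Q => by
      have hb := (RingHom.surjectiveOnStalks_of_surjective hbij.2).residueFieldMap_bijective
        (PrimeSpectrum.comap g Q).asIdeal Q.asIdeal rfl
      exact ⟨(η.eta _).comp (RingEquiv.ofBijective _ hb).symm.toRingHom,
        RingHom.ext fun c => congrArg (η.eta _) ((RingEquiv.ofBijective _ hb).symm_apply_apply c)⟩
    have h1 : (η.Nmap (g.comp (η.q A)) : η.N A → η.N (η.M B)) = η.Nmap g ∘ η.Nmap (η.q A) :=
      funext fun x => EtaLib.Nmap_comp η _ _ x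
    have h2 : (η.Nmap ((η.q B).comp f) : η.N A → η.N (η.M B)) = η.Nmap (η.q B) ∘ η.Nmap f :=
      funext fun x => EtaLib.Nmap_comp η _ _ x
    rw [← hcomp, h1] at h2
    refine (Function.Bijective.of_comp_iff' (EtaLib.bij_Nmap_q (η := η) hB) _).1 ?_
    rw [← h2]
    exact hg'.comp (EtaLib.bij_Nmap_q hA)
  exact ⟨EtaLib.bij_comap_of_bij_Nmap f hN, EtaLib.exists_phi_of_bij_Nmap f hN⟩
end Groth.Agent.S19578
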