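import Groth.Statements.S19579
import Groth.Agent.CubeConsLib.Defect2

set_option autoImplicit false
universe u
open CategoryTheory CategoryTheory.Limits MonoidalCategory CartesianMonoidalCategory MonObj AlgebraicGeometry
open AbVar

namespace Groth.Agent.S19579

/-- The implication from triviality of the Mumford bundle on one fibre to its triviality relative to the
base, with the identification of the descended bundle. Let X be an abelian variety over a field k
(proper, geometrically integral k-group scheme with multiplication m and unit e), T a connected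
locally Noetherian k-scheme and L an invertible module on X ×_k T. On X ×_k X ×_k T let m_T, p_13,
p_23 be the maps to X ×_k T induced by m and by the two projections X × X → X, π the projection to
T, and e_T : T → X ×_k T the unit section. If there is a point t of T over whose fibre X × X × Spec
k(t) the modules m_T^*L and p_13^*L ⊗ p_23^*L become isomorphic (equivalently the Mumford bundle
Λ(L) = m_T^*L ⊗ p_13^*L⁻¹ ⊗ p_23^*L⁻¹ is trivial on one fibre), then m_T^*L ⊗ π^*(e_T^*L) and
p_13^*L ⊗ p_23^*L are isomorphic on all of X × X × T, i.e. Λ(L) ≅ π^*N with N = e_T^*L⁻¹ (existence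
of an isomorphism). -/
theorem result (k : Type u) [Field k]
    (X T : Over (Spec (CommRingCat.of k)))
    [GrpObj X] [IsProper X.hom] [GeometricallyIntegral X.hom]
    [IsLocallyNoetherian T.left] [ConnectedSpace ↥T.left]
    (L : (X ⊗ T).left.Modules) (hL : PicF.IsInvertible L)
    (t : ↥T.left)
    (ht : Nonempty
      ((Scheme.Modules.pullback (pullback.fst (snd (X ⊗ X) T).left
          (T.left.fromSpecResidueField t))).obj
          ((Scheme.Modules.pullback (μ[X] ▷ T).left).obj L) ≅
       (Scheme.Modules.pullback (pullback.fst (snd (X ⊗ X) T).left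
          (T.left.fromSpecResidueField t))).obj
          (CohB1.tensorMod ((Scheme.Modules.pullback (fst X X ▷ T).left).obj L)
            ((Scheme.Modules.pullback (snd X X ▷ T).left).obj L)))) :
    Nonempty
      (CohB1.tensorMod ((Scheme.Modules.pullback (μ[X] ▷ T).left).obj L)
          ((Scheme.Modules.pullback (snd (X ⊗ X) T).left).obj
            ((Scheme.Modules.pullback (CartesianMonoidalCategory.lift (toUnit T ≫ η[X]) (𝟙 T)).left).obj L)) ≅
        CohB1.tensorMod ((Scheme.Modules.pullback (fst X X ▷ T).left).obj L)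
          ((Scheme.Modules.pullback (snd X X ▷ T).left).obj L)) := by
  have : LocallyOfFinitePresentation X.hom := LocallyOfFinitePresentation.iff_locallyOfFiniteType.2 inferInstance
  have hμ : fst X X * snd X X = μ[X] := by
    rw [Hom.mul_def, lift_fst_snd, Category.id_comp]
  have hfst := CubeConsLib.whiskerRight_left (fst X X) T
  have hsnd := CubeConsLib.whiskerRight_left (snd X X) T
  have hm := CubeConsLib.whiskerRight_left μ[X] T
  have hsec : (lift (toUnit T ≫ η[X]) (𝟙 T)).left = PicF.secT X.hom η[X].left (Over.w η[X]) T := rfl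
  rw [hfst, hsnd, hm] at ht ⊢
  rw [hsec]
  have hL' : PicF.IsInvertible L := hL
  have hpb := fun (f : X ⊗ X ⟶ X) => AmpleDevLib.isInvertible_pb (AbDual.bcMap f T) hL'
  have h1 := HilbPolyLib.isInvertible_tensor (hpb (fst X X)) (hpb (snd X X))
  have ht' := (CubeConsLib.clA_eq_iff (AmpleDevLib.isInvertible_pb _ (hpb μ[X]))
    (AmpleDevLib.isInvertible_pb _ h1)).2 ht
  rw [← CubeConsLib.pullA_clA _ (hpb μ[X]), ← CubeConsLib.pullA_clA _ h1, CubeConsLib.clA_tensor (hpb _) (hpb _),
    ← CubeConsLib.pullA_clA _ hL', ← CubeConsLib.pullA_clA _ hL', ← CubeConsLib.pullA_clA _ hL', map_add] at ht'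
  have hz : CubeConsLib.pullA ((PicF.XTproj (X ⊗ X).hom T).fiberι t) (CubeConsLib.defect X T hL') = 0 := by
    rw [CubeConsLib.defect, hμ, CubeConsLib.bcMap_one, map_add, map_sub, map_sub]
    have e : CubeConsLib.pullA ((PicF.XTproj (X ⊗ X).hom T).fiberι t) (CubeConsLib.pullA
        (Limits.pullback.snd (X ⊗ X).hom T.hom ≫ PicF.secT X.hom η[X].left (Over.w η[X]) T) (CubeConsLib.clA hL')) = 0 := by
      rw [CubeConsLib.pullA_comp, ← Category.assoc,
        show (PicF.XTproj (X ⊗ X).hom T).fiberι t ≫ Limits.pullback.snd (X ⊗ X).hom T.hom = _ from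
          (PicF.XTproj (X ⊗ X).hom T).fiber_fac t, Category.assoc]
      exact CubeConsLib.pullA_eq_zero_of_point _ _ hL'
    rw [e, add_zero, sub_sub, sub_eq_zero]
    exact ht'
  have hd := CubeConsLib.defect_eq_zero_of_connected X T hL' t hz
  rw [CubeConsLib.defect, hμ, CubeConsLib.bcMap_one, ← CubeConsLib.pullA_comp, sub_sub, sub_add_eq_add_sub,
    sub_eq_zero, CubeConsLib.pullA_clA _ hL', CubeConsLib.pullA_clA _ hL', CubeConsLib.pullA_clA _ hL',
    CubeConsLib.pullA_clA _ hL', CubeConsLib.pullA_clA, ← CubeConsLib.clA_tensor, ← CubeConsLib.clA_tensor,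
    CubeConsLib.clA_eq_iff] at hd
  exact hd

end Groth.Agent.S19579
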