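import Groth.Statements.S19582
import Groth.Agent.CycEqLib.Basic
import Groth.Agent.AlgSpRegLib.GenericClosure
import Groth.Agent.S1554
import Groth.Agent.UOpenLib.Basic
-- import your own Groth.Agent.* helpers here

set_option autoImplicit false
universe u
open Cyc

namespace Groth.Agent.S19582

open CategoryTheory CategoryTheory.Limits AlgebraicGeometry in
/-- Let S be a separated Noetherian scheme, p : X → S separated of finite type, z a point of X lying
over a generic point of an irreducible component of S whose closure in its fibre p⁻¹(p z) has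
dimension r, and ι : Z → X a closed immersion from a reduced scheme with image the closure of z. Let
R be a discrete valuation ring with fraction field K and x : Spec R → S a morphism sending the
generic point of Spec R to a generic point of an irreducible component of S, and let q : φ → Spec R
be the flat closure φ = φ_x(Z) of Z along x, i.e. the scheme-theoretic image of Z ×_S Spec K in Z
×_S Spec R, with its projection to Spec R. Then q is universally equidimensional of dimension r: for
every scheme S' and every S' → Spec R, the base change φ ×_R S' → S' has local fibre dimension r at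
every point (the dimension at w of the fibre through w is r) and every irreducible component of φ
×_R S' dominates an irreducible component of S'. -/
theorem result {X S Z : Scheme.{u}} [IsNoetherian S] [S.IsSeparated] [X.IsSeparated]
    (p : X ⟶ S) [LocallyOfFiniteType p] [QuasiCompact p] (z : X) (hz : closure {p.base z} ∈ irreducibleComponents ↥S)
    (r : ℕ) (hr : topologicalKrullDim ↥(closure ({p.asFiber z} : Set ↥(p.fiber (p.base z)))) = r)
    (ι : Z ⟶ X) [IsClosedImmersion ι] [IsReduced Z] (hZ : Set.range ι.base = closure {z})
    (R : Type u) [CommRing R] [IsDomain R] [IsDiscreteValuationRing R] (x : Spec (CommRingCat.of R) ⟶ S)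
    (hx : closure {x.base ⟨⊥, Ideal.isPrime_bot⟩} ∈ irreducibleComponents ↥S)
    (q : (pullback.map (ι ≫ p) (Spec.map (CommRingCat.ofHom (algebraMap R (FractionRing R))) ≫ x) (ι ≫ p) x (𝟙 Z) (Spec.map (CommRingCat.ofHom (algebraMap R (FractionRing R)))) (𝟙 S) ((Category.comp_id _).trans (Category.id_comp _).symm) (Category.comp_id _)).ker.subscheme ⟶ Spec (CommRingCat.of R))
    (hq : q = (pullback.map (ι ≫ p) (Spec.map (CommRingCat.ofHom (algebraMap R (FractionRing R))) ≫ x) (ι ≫ p) x (𝟙 Z) (Spec.map (CommRingCat.ofHom (algebraMap R (FractionRing R)))) (𝟙 S) ((Category.comp_id _).trans (Category.id_comp _).symm) (Category.comp_id _)).ker.subschemeι ≫ pullback.snd (ι ≫ p) x)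
    (S' : Scheme.{u}) (g : S' ⟶ Spec (CommRingCat.of R)) :
    (∀ w : ↥(pullback q g), FlatMor.fibreDimAt (pullback.snd q g) w = r) ∧
      ∀ C ∈ irreducibleComponents ↥(pullback q g),
        closure ((pullback.snd q g).base '' C) ∈ irreducibleComponents ↥S' := by
  subst hq
  let f := ι ≫ p
  let gK := Spec.map (CommRingCat.ofHom (algebraMap R (FractionRing R)))
  let m := pullback.map f (gK ≫ x) f x (𝟙 Z) gK (𝟙 S) ((Category.comp_id _).trans (Category.id_comp _).symm) (Category.comp_id _)
  let fP := pullback.snd f x
  let q := m.ker.subschemeι ≫ fP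
  have hm1 : m ≫ pullback.fst f x = pullback.fst f (gK ≫ x) := (pullback.lift_fst _ _ _).trans (Category.comp_id _)
  have hm2 : m ≫ fP = pullback.snd f (gK ≫ x) ≫ gK := pullback.lift_snd _ _ _
  have sq : IsPullback m (pullback.snd f (gK ≫ x)) fP (Neron.genPt R) := by
    refine IsPullback.of_right ?_ hm2 (IsPullback.of_hasPullback f x).flip.flip
    rw [hm1]
    exact IsPullback.of_hasPullback f (gK ≫ x)
  haveI : QuasiCompact m := AlgSpRegLib.qc_of_isPullback sq
  haveI : IsSchemeTheoreticallyDominant m.toImage := AlgSpRegLib.dominant_toImage m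
  haveI : Flat q := by
    refine AlgSpRegLib.flat_of_dominant_genPt m.toImage _ (pullback.snd f (gK ≫ x)) ?_
    show m.toImage ≫ m.imageι ≫ fP = _
    rw [Scheme.Hom.toImage_imageι_assoc]
    exact hm2
  haveI : LocallyOfFiniteType fP := MorphismProperty.pullback_snd _ _ inferInstance
  haveI : LocallyOfFiniteType q := inferInstance
  let η : PrimeSpectrum R := ⟨⊥, Ideal.isPrime_bot⟩
  have hgen : ∀ v, q.base v = η → FlatMor.fibreDimAt q v = r := by
    intro v hv
    rw [CycEqLib.fibreDimAt_eq_of_range m.ker.subschemeι q fP rfl v]
    · let v' := m.ker.subschemeι.base v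
      rw [show FlatMor.fibreDimAt fP v' = FlatMor.fibreDimAt f ((pullback.fst f x).base v') from
        FibDimLib.fibreDimAt_baseChange (IsPullback.of_hasPullback f x) v']
      let z' := (pullback.fst f x).base v'
      have hfz' : f.base z' = x.base η := by
        rw [← Scheme.Hom.comp_apply, pullback.condition, Scheme.Hom.comp_apply]
        exact congrArg x.base hv
      obtain ⟨z₀, hz₀⟩ : z ∈ Set.range ι.base := hZ ▸ subset_closure rfl
      have hz₀all : ∀ b : Z, z₀ ⤳ b := fun b => by
        rw [← ι.isEmbedding.isInducing.specializes_iff, hz₀, specializes_iff_mem_closure, ← hZ]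
        exact ⟨b, rfl⟩
      have hs : x.base η = p.base z := by
        have h1 : p.base z ⤳ x.base η := by
          rw [← hfz', ← hz₀]
          exact (hz₀all z').map (ι ≫ p).continuous
        exact (CycEqLib.eq_of_specializes_of_closure_mem hx h1).symm
      have hfz₀ : f.base z₀ = f.base z' := by
        rw [hfz', hs, ← hz₀]; rfl
      rw [CycEqLib.fibreDimAt_eq_of_generic f hz₀all hfz₀, UOpenLib.fibreClosureDim_eq_inter]
      refine Eq.trans ?_ ((UOpenLib.fibreClosureDim_eq_inter p z).symm.trans hr)
      have hset : ι.base '' (closure {z₀} ∩ f.base ⁻¹' {f.base z₀}) = closure {z} ∩ p.base ⁻¹' {p.base z} := by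
        have hcl : closure ({z₀} : Set Z) = Set.univ := Set.eq_univ_of_forall fun b => specializes_iff_mem_closure.1 (hz₀all b)
        rw [hcl, Set.univ_inter, hfz₀, hfz', hs, ← hZ]
        ext b
        constructor
        · rintro ⟨a, ha, rfl⟩
          exact ⟨⟨a, rfl⟩, ha⟩
        · rintro ⟨⟨a, rfl⟩, ha⟩
          exact ⟨a, ha, rfl⟩
      let e := (ι.isEmbedding.homeomorphImage (closure {z₀} ∩ f.base ⁻¹' {f.base z₀})).trans (Homeomorph.setCongr hset)
      exact IsHomeomorph.topologicalKrullDim_eq e e.isHomeomorph
    · intro b hb
      rw [Scheme.IdealSheafData.range_subschemeι]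
      let η' : PrimeSpectrum (FractionRing R) := ⟨⊥, Ideal.isPrime_bot⟩
      have hη' : (Neron.genPt R).base η' = η := by
        apply PrimeSpectrum.ext
        show Ideal.comap (algebraMap R (FractionRing R)) ⊥ = ⊥
        rw [← RingHom.ker_eq_comap_bot, (RingHom.injective_iff_ker_eq_bot _).1 (IsFractionRing.injective R (FractionRing R))]
      have hb' : fP.base b = (Neron.genPt R).base η' := hb.trans (hv.trans hη'.symm)
      obtain ⟨a, ha, -⟩ := UOpenLib.image_fst_snd sq b η' hb'
      exact Scheme.Hom.range_subset_ker_support m ⟨a, ha⟩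
  have hall : ∀ v, FlatMor.fibreDimAt q v = r := by
    intro v
    refine Groth.Agent.S1554.result q v ?_ r fun Cc hCc hvC c hc => hgen c ?_
    · refine le_trans (le_of_eq (ringKrullDim_eq_of_ringEquiv (StructureSheaf.stalkIso R (q.base v)).toRingEquiv.symm)) ?_
      rw [IsLocalization.AtPrime.ringKrullDim_eq_height (q.base v).asIdeal]
      exact Ideal.height_le_ringKrullDim_of_isPrime.trans (Ring.krullDimLE_iff.1 inferInstance)
    · have hcl : closure {c} ∈ irreducibleComponents (m.ker.subscheme : Type u) := hc.def.symm ▸ hCc
      obtain ⟨a, ha, hae⟩ := Flat.generalizingMap (f := q) (show η ⤳ q.base c from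
        (PrimeSpectrum.le_iff_specializes _ _).1 bot_le)
      rw [← hae, CycEqLib.eq_of_specializes_of_closure_mem hcl ha]
  refine ⟨fun w => ?_, fun C hC => ?_⟩
  · rw [FibDimLib.fibreDimAt_baseChange (IsPullback.of_hasPullback q g) w]
    exact hall _
  · haveI : Flat (pullback.snd q g) := MorphismProperty.pullback_snd _ _ inferInstance
    exact CycEqLib.dominates_of_flat _ hC

end Groth.Agent.S19582
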