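import Groth.Statements.S19583
import Groth.Agent.AlgSpRegLib.GenericClosure
-- import your own Groth.Agent.* helpers here

set_option autoImplicit false
universe u
open Cyc

namespace Groth.Agent.S19583

open CategoryTheory CategoryTheory.Limits AlgebraicGeometry in
/-- Let S be a separated Noetherian scheme, p : X → S a morphism from a separated scheme X (no
finiteness condition), ι : Z → X a closed immersion, and b : S' → S a blowing up of S in a
quasi-coherent ideal with support S₀ such that (1) b restricts to a bijection between the generic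
points of the irreducible components of S' and of S and (2) the strict transform Z~ of Z — the
closed subscheme of Z ×_S S' whose ideal consists, on each affine open, of the functions annihilated
by a power of the pulled-back centre — is flat over S'. Let R be a discrete valuation ring with
fraction field K and f : Spec R → S a morphism sending the generic point of Spec R into S ∖ S₀. Then
f factors uniquely through b, and for the factorisation f' : Spec R → S' the flat closure φ_f(Z) ⊆ Z
×_S Spec R (the scheme-theoretic image of Z ×_S Spec K) coincides with Spec R ×_{S'} Z~: its ideal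
sheaf equals the inverse image of the ideal of Z~ under the map Z ×_S Spec R → Z ×_S S' induced by
f'. -/
theorem result {X S Z S' : Scheme.{u}} [IsNoetherian S] [S.IsSeparated] [X.IsSeparated]
    (p : X ⟶ S) (ι : Z ⟶ X) [IsClosedImmersion ι]
    (𝓘 : S.IdealSheafData) (b : S' ⟶ S) (hb : BlowUp.IsBlowUp b 𝓘)
    (hgen : Set.BijOn b.base {s' : ↥S' | closure {s'} ∈ irreducibleComponents ↥S'} {s : ↥S | closure {s} ∈ irreducibleComponents ↥S})
    (𝒥 : (pullback (ι ≫ p) b).IdealSheafData)
    (h𝒥 : ∀ (V : (pullback (ι ≫ p) b).affineOpens) (a : Γ(pullback (ι ≫ p) b, V.1)), a ∈ 𝒥.ideal V ↔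
      BlowUp.KilledByPowerNear ((𝓘.comap (ι ≫ p)).comap (pullback.fst (ι ≫ p) b)) (Coh.structureModule (pullback (ι ≫ p) b)) V a)
    [Flat (𝒥.subschemeι ≫ pullback.snd (ι ≫ p) b)]
    (R : Type u) [CommRing R] [IsDomain R] [IsDiscreteValuationRing R] (f : Spec (CommRingCat.of R) ⟶ S)
    (hf : f.base ⟨⊥, Ideal.isPrime_bot⟩ ∉ (𝓘.support : Set ↥S)) :
    (∃! f' : Spec (CommRingCat.of R) ⟶ S', f' ≫ b = f) ∧
      ∀ (f' : Spec (CommRingCat.of R) ⟶ S') (hf' : f' ≫ b = f),
        (pullback.map (ι ≫ p) (Spec.map (CommRingCat.ofHom (algebraMap R (FractionRing R))) ≫ f) (ι ≫ p) f (𝟙 Z) (Spec.map (CommRingCat.ofHom (algebraMap R (FractionRing R)))) (𝟙 S) ((Category.comp_id _).trans (Category.id_comp _).symm) (Category.comp_id _)).ker = 𝒥.comap (pullback.map (ι ≫ p) f (ι ≫ p) b (𝟙 Z) f' (𝟙 S) ((Category.comp_id _).trans (Category.id_comp _).symm) ((Category.comp_id f).trans hf'.symm)) := by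
  let h := ι ≫ p
  let gK := Spec.map (CommRingCat.ofHom (algebraMap R (FractionRing R)))
  let η : PrimeSpectrum R := ⟨⊥, Ideal.isPrime_bot⟩
  refine ⟨hb.2 _ f ?_, fun f' hf' => ?_⟩
  · intro x
    refine ⟨⟨⊤, isAffineOpen_top _⟩, trivial, ?_⟩
    let e := (Scheme.ΓSpecIso (CommRingCat.of R)).commRingCatIsoToRingEquiv
    haveI : IsDomain Γ(Spec (CommRingCat.of R), ⊤) := e.toMulEquiv.isDomain R
    haveI : IsPrincipalIdealRing Γ(Spec (CommRingCat.of R), ⊤) :=
      IsPrincipalIdealRing.of_surjective e.symm.toRingHom e.symm.surjective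
    obtain ⟨a, ha⟩ := (IsPrincipalIdealRing.principal ((𝓘.comap f).ideal ⟨⊤, isAffineOpen_top _⟩)).principal
    rw [Ideal.submodule_span_eq] at ha
    refine ⟨a, mem_nonZeroDivisors_of_ne_zero fun ha0 => hf ?_, ha⟩
    rw [ha0, Ideal.span_singleton_zero] at ha
    have hbot : 𝓘.comap f = ⊥ := Scheme.IdealSheafData.ext_of_isAffine (by rw [Scheme.IdealSheafData.ideal_bot]; exact ha)
    have h1 : η ∈ ((𝓘.comap f).support : Set ↥(Spec (CommRingCat.of R))) := by
      rw [hbot, Scheme.IdealSheafData.support_bot]; trivial
    rw [Scheme.IdealSheafData.support_comap] at h1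
    exact h1
  · let fP := pullback.snd h f
    let t := pullback.map h f h b (𝟙 Z) f' (𝟙 S) ((Category.comp_id _).trans (Category.id_comp _).symm) ((Category.comp_id f).trans hf'.symm)
    let m := pullback.map h (gK ≫ f) h f (𝟙 Z) gK (𝟙 S) ((Category.comp_id _).trans (Category.id_comp _).symm) (Category.comp_id _)
    have ht1 : t ≫ pullback.fst h b = pullback.fst h f := (pullback.lift_fst _ _ _).trans (Category.comp_id _)
    have ht2 : t ≫ pullback.snd h b = fP ≫ f' := pullback.lift_snd _ _ _
    have hm1 : m ≫ pullback.fst h f = pullback.fst h (gK ≫ f) := (pullback.lift_fst _ _ _).trans (Category.comp_id _)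
    have hm2 : m ≫ fP = pullback.snd h (gK ≫ f) ≫ gK := pullback.lift_snd _ _ _
    have sqt : IsPullback t fP (pullback.snd h b) f' := by
      refine IsPullback.of_right ?_ ht2 (IsPullback.of_hasPullback h b)
      rw [ht1, hf']
      exact IsPullback.of_hasPullback h f
    have sqm : IsPullback m (pullback.snd h (gK ≫ f)) fP (Neron.genPt R) := by
      refine IsPullback.of_right ?_ hm2 (IsPullback.of_hasPullback h f)
      rw [hm1]
      exact IsPullback.of_hasPullback h (gK ≫ f)
    haveI : Flat ((𝒥.comap t).subschemeι ≫ fP) := by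
      rw [← Scheme.IdealSheafData.comapIso_hom_fst, Category.assoc]
      have sq2 := ((IsPullback.of_hasPullback t 𝒥.subschemeι).flip.paste_vert sqt)
      haveI : Flat (pullback.fst t 𝒥.subschemeι ≫ fP) := MorphismProperty.of_isPullback sq2 ‹_›
      infer_instance
    let E := (𝓘.comap h).comap (pullback.fst h b)
    let O : (pullback h b).Opens := E.support.compl
    have hO : 𝒥.comap O.ι = ⊥ := by
      have hE : E.comap O.ι = ⊤ := by
        rw [← Scheme.IdealSheafData.support_eq_bot_iff, Scheme.IdealSheafData.support_comap]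
        apply TopologicalSpace.Closeds.ext
        exact Set.eq_empty_of_forall_notMem fun y hy => y.2 hy
      apply Scheme.IdealSheafData.ext
      funext U
      rw [Scheme.IdealSheafData.ideal_comap_of_isOpenImmersion, Scheme.IdealSheafData.ideal_bot, Pi.bot_apply]
      let V : (pullback h b).affineOpens := ⟨O.ι ''ᵁ U.1, U.2.image_of_isOpenImmersion O.ι⟩
      have hEV : E.ideal V = ⊤ := by
        have h1 := congrArg (fun K : Scheme.IdealSheafData _ => K.ideal U) hE
        simp only [Scheme.IdealSheafData.ideal_comap_of_isOpenImmersion, Scheme.IdealSheafData.ideal_top,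
          Pi.top_apply] at h1
        rw [Ideal.eq_top_iff_one] at h1 ⊢
        simpa using h1
      have hJV : 𝒥.ideal V = ⊥ := by
        rw [eq_bot_iff]
        intro a ha
        obtain ⟨n, hn⟩ := (h𝒥 V a).1 ha
        have h0 : (1 : Γ(pullback h b, V.1)) * a = 0 := hn 1 (by
          rw [Scheme.IdealSheafData.ideal_pow, Pi.pow_apply, hEV, Ideal.top_pow]
          trivial)
        rw [one_mul] at h0
        exact h0
      rw [show 𝒥.ideal ⟨O.ι ''ᵁ U.1, U.2.image_of_isOpenImmersion O.ι⟩ = ⊥ from hJV,
        Ideal.comap_bot_of_injective]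
      exact (O.ι.appIso U.1).symm.commRingCatIsoToRingEquiv.injective
    have hfac : Set.range (m ≫ t).base ⊆ Set.range O.ι.base := by
      rintro _ ⟨y, rfl⟩
      rw [Scheme.Opens.range_ι]
      show (m ≫ t).base y ∉ (E.support : Set ↥(pullback h b))
      rw [Scheme.IdealSheafData.support_comap, Scheme.IdealSheafData.support_comap]
      show h.base ((pullback.fst h b).base ((m ≫ t).base y)) ∉ (𝓘.support : Set S)
      rw [← Scheme.Hom.comp_apply, ← Scheme.Hom.comp_apply, Category.assoc,
        pullback.condition, reassoc_of% ht2, hf', reassoc_of% hm2, Scheme.Hom.comp_apply,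
        Scheme.Hom.comp_apply]
      have h1 : gK.base ((pullback.snd h (gK ≫ f)).base y) = η := by
        apply PrimeSpectrum.ext
        show Ideal.comap (algebraMap R (FractionRing R)) ((pullback.snd h (gK ≫ f)).base y : PrimeSpectrum (FractionRing R)).asIdeal = ⊥
        rw [(Ideal.eq_bot_or_top ((pullback.snd h (gK ≫ f)).base y : PrimeSpectrum (FractionRing R)).asIdeal).resolve_right
          ((pullback.snd h (gK ≫ f)).base y : PrimeSpectrum (FractionRing R)).isPrime.ne_top,
          ← RingHom.ker_eq_comap_bot, (RingHom.injective_iff_ker_eq_bot _).1 (IsFractionRing.injective R (FractionRing R))]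
      rw [h1]
      exact hf
    have hcm : (𝒥.comap t).comap m = ⊥ := by
      rw [← Scheme.IdealSheafData.comap_comp, ← IsOpenImmersion.lift_fac O.ι (m ≫ t) hfac,
        Scheme.IdealSheafData.comap_comp, hO, Scheme.IdealSheafData.comap_bot]
    have heq := AlgSpRegLib.eq_closure_of_flat sqm (𝒥.comap t)
    rw [hcm] at heq
    show m.ker = 𝒥.comap t
    rw [heq, Scheme.Hom.ker_comp_of_isIso]

end Groth.Agent.S19583
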