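import Groth.Statements.S19584
import Groth.Agent.CycEqLib.Basic
import Groth.Agent.S9739
import Groth.Agent.S1681
-- import your own Groth.Agent.* helpers here

set_option autoImplicit false
universe u
open Cyc

namespace Groth.Agent.S19584

open CategoryTheory CategoryTheory.Limits AlgebraicGeometry in
/-- Let S be a separated Noetherian scheme, p : X → S separated of finite type, z a point of X lying
over a generic point of an irreducible component of S whose closure in its fibre p⁻¹(p z) has
dimension r, and ι : Z → X a closed immersion from a reduced scheme with image the closure of z. Let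
b : S′ → S be a blowing up (S′ Noetherian) such that the strict transform Z~ of Z — the closed
subscheme of Z ×_S S′ whose ideal consists, on each affine open, of the functions annihilated by a
power of the pulled-back centre — is flat over S′. Then Z~ → S′ is universally equidimensional of
dimension r: after any base change S″ → S′ every point of Z~ ×_{S′} S″ has local fibre dimension r
and every irreducible component of Z~ ×_{S′} S″ dominates an irreducible component of S″. (The
published lemma takes a blow-up of the reduced scheme S_red; this statement takes a blow-up of S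
itself, to which the printed argument applies unchanged.) -/
theorem result {X S Z S' : Scheme.{u}} [IsNoetherian S] [S.IsSeparated] [X.IsSeparated]
    (p : X ⟶ S) [LocallyOfFiniteType p] [QuasiCompact p] (z : X) (hz : closure {p.base z} ∈ irreducibleComponents ↥S)
    (r : ℕ) (hr : topologicalKrullDim ↥(closure ({p.asFiber z} : Set ↥(p.fiber (p.base z)))) = r)
    (ι : Z ⟶ X) [IsClosedImmersion ι] [IsReduced Z] (hZ : Set.range ι.base = closure {z})
    [IsNoetherian S'] (𝓘 : S.IdealSheafData) (b : S' ⟶ S) (hb : BlowUp.IsBlowUp b 𝓘)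
    (𝒥 : (pullback (ι ≫ p) b).IdealSheafData)
    (h𝒥 : ∀ (V : (pullback (ι ≫ p) b).affineOpens) (a : Γ(pullback (ι ≫ p) b, V.1)), a ∈ 𝒥.ideal V ↔
      BlowUp.KilledByPowerNear ((𝓘.comap (ι ≫ p)).comap (pullback.fst (ι ≫ p) b)) (Coh.structureModule (pullback (ι ≫ p) b)) V a)
    [Flat (𝒥.subschemeι ≫ pullback.snd (ι ≫ p) b)]
    (S'' : Scheme.{u}) (g : S'' ⟶ S') :
    (∀ w : ↥(pullback (𝒥.subschemeι ≫ pullback.snd (ι ≫ p) b) g),
        FlatMor.fibreDimAt (pullback.snd (𝒥.subschemeι ≫ pullback.snd (ι ≫ p) b) g) w = r) ∧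
      ∀ C ∈ irreducibleComponents ↥(pullback (𝒥.subschemeι ≫ pullback.snd (ι ≫ p) b) g),
        closure ((pullback.snd (𝒥.subschemeι ≫ pullback.snd (ι ≫ p) b) g).base '' C) ∈ irreducibleComponents ↥S'' := by
  let f := ι ≫ p
  let fP := pullback.snd f b
  let h := 𝒥.subschemeι ≫ fP
  haveI : LocallyOfFiniteType fP := MorphismProperty.pullback_snd _ _ inferInstance
  haveI : LocallyOfFiniteType h := inferInstance
  haveI : LocallyOfFinitePresentation h := inferInstance
  haveI : Flat h := ‹_›
  obtain ⟨z₀, hz₀⟩ : z ∈ Set.range ι.base := hZ ▸ subset_closure rfl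
  have hz₀all : ∀ a : Z, z₀ ⤳ a := fun a => by
    rw [← ι.isEmbedding.isInducing.specializes_iff, hz₀, specializes_iff_mem_closure, ← hZ]
    exact ⟨a, rfl⟩
  have hgen : ∀ c : 𝒥.subscheme, (∀ c', c' ⤳ c → c' = c) → FlatMor.fibreDimAt h c = r := by
    intro c hc
    have hs' : ∀ y : S', y ⤳ h.base c → y = h.base c := fun y hy => by
      obtain ⟨c', hc', rfl⟩ := Flat.generalizingMap (f := h) hy
      rw [hc c' hc']
    obtain ⟨hmax, hout⟩ := (Groth.Agent.S1681.result 𝓘 b hb).mapsTo hs'
    rw [CycEqLib.fibreDimAt_eq_of_range 𝒥.subschemeι h fP rfl c]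
    · let c' := 𝒥.subschemeι.base c
      rw [show FlatMor.fibreDimAt fP c' = FlatMor.fibreDimAt f ((pullback.fst f b).base c') from
        FibDimLib.fibreDimAt_baseChange (IsPullback.of_hasPullback f b) c']
      let z' := (pullback.fst f b).base c'
      have hfz' : f.base z' = b.base (h.base c) := by
        rw [← Scheme.Hom.comp_apply, pullback.condition, Scheme.Hom.comp_apply]; rfl
      have hs : b.base (h.base c) = p.base z := by
        refine (hmax _ ?_).symm
        show p.base z ⤳ b.base (h.base c)
        rw [← hz₀, ← hfz']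
        exact (hz₀all z').map (ι ≫ p).continuous
      have hfz₀ : f.base z₀ = f.base z' := by rw [hfz', hs, ← hz₀]; rfl
      rw [CycEqLib.fibreDimAt_eq_of_generic f hz₀all hfz₀, UOpenLib.fibreClosureDim_eq_inter]
      refine Eq.trans ?_ ((UOpenLib.fibreClosureDim_eq_inter p z).symm.trans hr)
      have hset : ι.base '' (closure {z₀} ∩ f.base ⁻¹' {f.base z₀}) = closure {z} ∩ p.base ⁻¹' {p.base z} := by
        have hcl : closure ({z₀} : Set Z) = Set.univ := Set.eq_univ_of_forall fun a => specializes_iff_mem_closure.1 (hz₀all a)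
        rw [hcl, Set.univ_inter, hfz₀, hfz', hs, ← hZ]
        ext a
        constructor
        · rintro ⟨a', ha, rfl⟩
          exact ⟨⟨a', rfl⟩, ha⟩
        · rintro ⟨⟨a', rfl⟩, ha⟩
          exact ⟨a', ha, rfl⟩
      let e := (ι.isEmbedding.homeomorphImage (closure {z₀} ∩ f.base ⁻¹' {f.base z₀})).trans (Homeomorph.setCongr hset)
      exact IsHomeomorph.topologicalKrullDim_eq e e.isHomeomorph
    · intro w hw
      rw [Scheme.IdealSheafData.range_subschemeι]
      let 𝓔 := (𝓘.comap f).comap (pullback.fst f b)
      have hwE : w ∉ (𝓔.support : Set ↥(pullback f b)) := by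
        intro hmem
        rw [Scheme.IdealSheafData.support_comap, Scheme.IdealSheafData.support_comap] at hmem
        have h1 : f.base ((pullback.fst f b).base w) ∈ (𝓘.support : Set S) := hmem
        rw [← Scheme.Hom.comp_apply, pullback.condition, Scheme.Hom.comp_apply, hw] at h1
        exact hout h1
      obtain ⟨V, hV, hwV, -⟩ := exists_isAffineOpen_mem_and_subset (x := w) (U := ⊤) trivial
      have hex : ∃ e₀ ∈ 𝓔.ideal ⟨V, hV⟩, w ∈ (pullback f b).basicOpen e₀ := by
        by_contra hne
        apply hwE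
        have : w ∈ (𝓔.support : Set ↥(pullback f b)) ∩ (V : Set ↥(pullback f b)) := by
          rw [𝓔.coe_support_inter ⟨V, hV⟩]
          exact ⟨(Scheme.mem_zeroLocus_iff _ _ _).2 fun t ht hwt => hne ⟨t, ht, hwt⟩, hwV⟩
        exact this.1
      obtain ⟨e₀, he₀, hwe₀⟩ := hex
      have : w ∈ (𝒥.support : Set ↥(pullback f b)) ∩ (V : Set ↥(pullback f b)) := by
        rw [𝒥.coe_support_inter ⟨V, hV⟩]
        refine ⟨(Scheme.mem_zeroLocus_iff _ _ _).2 fun a ha hwa => ?_, hwV⟩
        obtain ⟨n, hn⟩ := (h𝒥 ⟨V, hV⟩ a).1 ha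
        have h0 : e₀ ^ n * a = 0 := hn (e₀ ^ n) (by
          rw [Scheme.IdealSheafData.ideal_pow]
          exact Ideal.pow_mem_pow he₀ n)
        have h1 : w ∈ (pullback f b).basicOpen (e₀ ^ n * a) := by
          rw [Scheme.basicOpen_mul]
          refine ⟨?_, hwa⟩
          rcases n with _ | n
          · rw [pow_zero, Scheme.basicOpen_of_isUnit _ isUnit_one]; exact hwV
          · rw [Scheme.basicOpen_pow _ _ n.succ_pos]; exact hwe₀
        rw [h0, Scheme.basicOpen_zero] at h1
        exact h1
      exact this.1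
  have hall : ∀ v, FlatMor.fibreDimAt h v = r := by
    intro v
    obtain ⟨x₀, hx₀v, -, hmax₀, hd⟩ := UOpenLib.exists_max_fibreDimAt h v
    rw [← hd, ← UOpenLib.fibreDimAt_eq_of_max h hmax₀]
    obtain ⟨C, hC, hxC⟩ : ∃ C ∈ irreducibleComponents (𝒥.subscheme : Type u), x₀ ∈ C :=
      ⟨irreducibleComponent x₀, irreducibleComponent_mem_irreducibleComponents x₀, mem_irreducibleComponent⟩
    obtain ⟨c, rfl⟩ := CycEqLib.exists_generic hC
    rw [← Groth.Agent.S9739.result h x₀ c (specializes_iff_mem_closure.2 hxC)
      ⟨_, UOpenLib.closure_asFiber_mem h hmax₀, rfl⟩]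
    exact hgen c fun c' hc' => CycEqLib.eq_of_specializes_of_closure_mem hC hc'
  refine ⟨fun w => ?_, fun C hC => ?_⟩
  · rw [FibDimLib.fibreDimAt_baseChange (IsPullback.of_hasPullback h g) w]
    exact hall _
  · haveI : Flat (pullback.snd h g) := MorphismProperty.pullback_snd _ _ inferInstance
    exact CycEqLib.dominates_of_flat _ hC

end Groth.Agent.S19584
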