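import Groth.Statements.S19585
import Groth.Agent.AVIndexLib.FieldExt
-- import your own Groth.Agent.* helpers here

set_option autoImplicit false
universe u
open CategoryTheory CategoryTheory.Limits MonoidalCategory CartesianMonoidalCategory MonObj GrpObj AlgebraicGeometry
open AbVar

namespace Groth.Agent.S19585

set_option backward.isDefEq.respectTransparency false
set_option linter.style.haveILetI false
set_option maxHeartbeats 1000000

open CubeConsLib AVAmpleLib AVIndexLib

/-- Let k be a field and f : X → Y an isogeny between abelian varieties over k (X, Y proper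
geometrically integral k-group schemes; f a finite, flat, surjective homomorphism) and L an
invertible O_Y-module which is non-degenerate of index i, expressed by the equivalent condition that
H^j(Y, L) = 0 for j ≠ i and H^i(Y, L) ≠ 0. Then f^*L is non-degenerate of the same index: H^j(X,
f^*L) = 0 for j ≠ i and H^i(X, f^*L) ≠ 0. (No assumption on the degree of f or on the field.) -/
theorem result
    (k : Type u) [Field k] (X Y : Over (Spec (CommRingCat.of k)))
    [GrpObj X] [IsProper X.hom] [GeometricallyIntegral X.hom]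
    [GrpObj Y] [IsProper Y.hom] [GeometricallyIntegral Y.hom]
    (f : X ⟶ Y) [IsMonHom f] [IsFinite f.left] [Flat f.left] [Surjective f.left]
    (L : Y.left.Modules) (hL : PicF.IsInvertible L) (i : ℕ)
    (hvan : ∀ j : ℕ, j ≠ i → Subsingleton (Coh.HH Y.left L j)) (hne : Nontrivial (Coh.HH Y.left L i)) :
    (∀ j : ℕ, j ≠ i → Subsingleton (Coh.HH X.left ((Scheme.Modules.pullback f.left).obj L) j)) ∧
      Nontrivial (Coh.HH X.left ((Scheme.Modules.pullback f.left).obj L) i) := by
  let Ω := AlgebraicClosure k
  letI : GrpObj ((bcF Ω).obj X) := Functor.grpObjObj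
  letI : GrpObj ((bcF Ω).obj Y) := Functor.grpObjObj
  haveI : IsProper ((bcF Ω).obj X).hom := inferInstanceAs (IsProper (pullback.snd X.hom _))
  haveI : IsProper ((bcF Ω).obj Y).hom := inferInstanceAs (IsProper (pullback.snd Y.hom _))
  haveI : GeometricallyIntegral ((bcF Ω).obj X).hom :=
    inferInstanceAs (GeometricallyIntegral (pullback.snd X.hom _))
  haveI : GeometricallyIntegral ((bcF Ω).obj Y).hom :=
    inferInstanceAs (GeometricallyIntegral (pullback.snd Y.hom _))
  let fΩ := (bcF Ω).map f
  haveI : IsMonHom fΩ := inferInstance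
  have hsq := AVAmpleLib.isPullback_bc Ω f
  haveI : IsFinite fΩ.left := MorphismProperty.of_isPullback hsq ‹IsFinite f.left›
  haveI : Surjective fΩ.left := MorphismProperty.of_isPullback hsq ‹Surjective f.left›
  have hLΩ := AmpleDevLib.isInvertible_pb (prBc (X := Y) Ω) hL
  have c : Conc ((Scheme.Modules.pullback (prBc (X := Y) Ω)).obj L) i :=
    (conc_bc_iff Ω hL i).2 ⟨hvan, not_subsingleton_iff_nontrivial.2 hne⟩
  obtain ⟨-, h⟩ := index_pullback fΩ hLΩ (c.finite (hL := hLΩ))
  have cX : Conc ((Scheme.Modules.pullback fΩ.left).obj ((Scheme.Modules.pullback (prBc (X := Y) Ω)).obj L)) i :=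
    ⟨fun n hn => (h n).1 (c.1 n hn), fun h' => c.2 ((h i).2 h')⟩
  have hfL := AmpleDevLib.isInvertible_pb f.left hL
  have e : ((Scheme.Modules.pullback fΩ.left).obj ((Scheme.Modules.pullback (prBc (X := Y) Ω)).obj L)) ≅
      (Scheme.Modules.pullback (prBc (X := X) Ω)).obj ((Scheme.Modules.pullback f.left).obj L) :=
    (Scheme.Modules.pullbackComp _ _).app L ≪≫ (Scheme.Modules.pullbackCongr hsq.w.symm).app L ≪≫
      ((Scheme.Modules.pullbackComp _ _).app L).symm
  obtain ⟨h1, h2⟩ := (conc_bc_iff Ω hfL i).1 (cX.iso e)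
  exact ⟨h1, not_subsingleton_iff_nontrivial.1 h2⟩

end Groth.Agent.S19585
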