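import Groth.Statements.S1959
import Mathlib


-- import your own Groth.Agent.* helpers here

set_option autoImplicit false
universe u
open Polynomial
open EtAlg

namespace Groth.Agent.S1959

/-- Let I be an ideal of a ring A, A -> B an integral ring map and b an element of B whose image in B/IB
is idempotent. Then there are d ≥ 1 and a monic polynomial f over A with f(b) = 0 whose reduction
modulo I is x^d (x - 1)^d. -/
theorem result (A B : Type u) [CommRing A] [CommRing B] [Algebra A B]
    [Algebra.IsIntegral A B] (I : Ideal A) (b : B)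
    (hb : IsIdempotentElem (Ideal.Quotient.mk (I.map (algebraMap A B)) b)) :
    ∃ (f : A[X]) (d : ℕ), f.Monic ∧ 1 ≤ d ∧ aeval b f = 0 ∧
      f.map (Ideal.Quotient.mk I) = X ^ d * (X - 1) ^ d := by
  have hx : b ^ 2 - b ∈ I.map (algebraMap A B) := by
    rw [← Ideal.Quotient.eq_zero_iff_mem, map_sub, map_pow, pow_two, hb.eq, sub_self]
  rcases subsingleton_or_nontrivial A with hA | hA
  · haveI := (algebraMap A B).codomain_trivial
    haveI : Subsingleton (A ⧸ I) := Function.Surjective.subsingleton Ideal.Quotient.mk_surjective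
    exact ⟨1, 1, monic_one, le_rfl, Subsingleton.elim _ _, Subsingleton.elim _ _⟩
  obtain ⟨p, hp, hpx, hc⟩ := exists_monic_aeval_eq_zero_forall_mem_of_mem_map hx
  have hmap : p.map (Ideal.Quotient.mk I) = X ^ p.natDegree := by
    ext i
    rw [coeff_map, coeff_X_pow]
    by_cases hi : i = p.natDegree
    · rw [if_pos hi, hi, hp.coeff_natDegree, map_one]
    · rw [if_neg hi]; exact Ideal.Quotient.eq_zero_iff_mem.2 (hc i hi)
  refine ⟨(p * X).comp (X ^ 2 - X), p.natDegree + 1, ?_, by omega, ?_, ?_⟩
  · refine (hp.mul monic_X).comp (monic_X_pow_sub (by rw [degree_X]; norm_num)) ?_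
    rw [natDegree_sub_eq_left_of_natDegree_lt (by rw [natDegree_X, natDegree_X_pow]; omega), natDegree_X_pow]; omega
  · rw [aeval_comp, map_mul]
    simp [hpx]
  · rw [map_comp, Polynomial.map_mul, hmap, Polynomial.map_sub, Polynomial.map_pow, map_X, ← pow_succ, X_pow_comp, ← mul_pow]
    congr 1; ring

end Groth.Agent.S1959
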