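import Groth.Statements.S19590
import Mathlib
-- import your own Groth.Agent.* helpers here

set_option autoImplicit false
open BddFin

namespace Groth.Agent.S19590


open Matrix in
theorem torsion_free_kernel {n : ℕ} (A : Matrix (Fin n) (Fin n) ℤ) {q : ℕ} (hq : q.Prime)
    (hA : ∀ i j, (3 : ℤ) ∣ A i j) (h : (1 + A) ^ q = 1) : A = 0 := by
  by_contra hne
  obtain ⟨i₀, j₀, hij⟩ : ∃ i j, A i j ≠ 0 := by
    by_contra! h0
    exact hne (Matrix.ext h0)
  have hex : ∃ k, ¬ ∀ i j, (3 : ℤ) ^ (k + 1) ∣ A i j := by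
    refine ⟨(A i₀ j₀).natAbs, fun h0 => hij ?_⟩
    refine Int.eq_zero_of_dvd_of_natAbs_lt_natAbs (h0 i₀ j₀) ?_
    rw [Int.natAbs_pow]
    exact lt_of_lt_of_le (Nat.lt_pow_self (by norm_num : 1 < (3 : ℤ).natAbs))
      (Nat.pow_le_pow_right (by norm_num) (Nat.le_succ _))
  classical
  let k := Nat.find hex
  have hk : ¬ ∀ i j, (3 : ℤ) ^ (k + 1) ∣ A i j := Nat.find_spec hex
  have hdvd : ∀ i j, (3 : ℤ) ^ k ∣ A i j := by
    rcases Nat.eq_zero_or_pos k with h0 | hpos
    · intro i j; rw [h0, pow_zero]; exact one_dvd _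
    · have := Nat.find_min hex (show k - 1 < k by omega)
      rw [not_not, Nat.sub_add_cancel hpos] at this
      exact this
  have hk1 : 1 ≤ k := by
    by_contra! h0
    apply hk
    intro i j
    rw [show k = 0 by omega, zero_add, pow_one]
    exact hA i j
  choose c hc using hdvd
  let C : Matrix (Fin n) (Fin n) ℤ := Matrix.of c
  have hAC : A = (3 : ℤ) ^ k • C := Matrix.ext fun i j => by simp [C, hc i j]
  have hex2 : ∃ D : Matrix (Fin n) (Fin n) ℤ, ∀ m : ℕ, 0 < m → q = m → q • C + (3 : ℤ) ^ k • D = 0 := by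
    obtain ⟨D, hD⟩ : ∃ D : Matrix (Fin n) (Fin n) ℤ, (1 + A) ^ q = 1 + q • A + ((3 : ℤ) ^ k * 3 ^ k) • D := by
      generalize q = m
      induction m with
      | zero => exact ⟨0, by simp⟩
      | succ m ih =>
        obtain ⟨D, hD⟩ := ih
        refine ⟨D * (1 + A) + m • (C * C), ?_⟩
        rw [pow_succ, hD, hAC]
        simp only [add_mul, mul_add, one_mul, mul_one, smul_mul_assoc, mul_smul_comm, smul_smul, smul_add,
          add_smul, one_smul]
        module
    refine ⟨D, fun m _ _ => ?_⟩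
    rw [h, add_assoc, left_eq_add, hAC, smul_comm, ← smul_smul, ← smul_add] at hD
    exact (smul_eq_zero.1 hD).resolve_left (pow_ne_zero k (by norm_num))
  obtain ⟨D, hD⟩ := hex2
  have hD' := hD q hq.pos rfl
  have hbad : ∀ i j, (3 : ℤ) ∣ C i j := by
    intro i j
    rw [← natCast_zsmul] at hD'
    have h1 := congrFun (congrFun hD' i) j
    simp only [Matrix.add_apply, Matrix.smul_apply, smul_eq_mul, Matrix.zero_apply] at h1
    by_cases h3 : q = 3
    · subst h3
      -- the cube: expand exactly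
      have hcube : (1 + A) ^ 3 = 1 + (3 : ℤ) • A + (3 : ℤ) • (A * A) + A * (A * A) := by noncomm_ring
      rw [h, add_assoc, add_assoc, left_eq_add, hAC] at hcube
      have h2 := congrFun (congrFun hcube i) j
      simp only [Matrix.smul_mul, Matrix.mul_smul, Matrix.add_apply, Matrix.smul_apply, smul_eq_mul,
        Matrix.zero_apply] at h2
      obtain ⟨k', hk'⟩ := Nat.exists_eq_add_of_le hk1
      refine ⟨-((3 : ℤ) ^ k' * (C * C) i j + 3 ^ k' * 3 ^ k' * (C * (C * C)) i j), ?_⟩
      refine mul_left_cancel₀ (pow_ne_zero (k + 1) (three_ne_zero (α := ℤ))) ?_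
      rw [hk', pow_add, pow_one] at h2
      rw [hk', pow_succ, pow_add, pow_one]
      linear_combination h2
    · have hd : (3 : ℤ) ∣ (q : ℤ) * C i j := by
        rw [eq_neg_of_add_eq_zero_left h1]
        exact dvd_neg.2 ((dvd_pow_self 3 (by omega)).mul_right _)
      refine (Int.prime_three.dvd_or_dvd hd).resolve_left fun h0 => h3 ?_
      have := Int.natCast_dvd_natCast.1 (show ((3 : ℕ) : ℤ) ∣ (q : ℤ) from h0)
      exact ((Nat.prime_dvd_prime_iff_eq Nat.prime_three hq).1 this).symm
  refine hk fun i j => ?_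
  rw [hc i j, pow_succ]
  exact mul_dvd_mul_left _ (hbad i j)

/-- For every n, the orders of the finite subgroups of GL_n(ℤ) are bounded: there is B such that every
finite subgroup of GL_n(ℤ) has at most B elements. -/
theorem result (n : ℕ) :
    ∃ B : ℕ, ∀ H : Subgroup (Matrix.GeneralLinearGroup (Fin n) ℤ), Finite H → Nat.card H ≤ B := by
  classical
  let f := Matrix.GeneralLinearGroup.map (n := Fin n) (Int.castRingHom (ZMod 3))
  refine ⟨Nat.card (Matrix.GeneralLinearGroup (Fin n) (ZMod 3)), fun H hH => ?_⟩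
  refine Nat.card_le_card_of_injective (f.comp H.subtype) ((injective_iff_map_eq_one _).2 fun g hg => ?_)
  by_contra hg1
  obtain ⟨q, hq, hqd⟩ := Nat.exists_prime_and_dvd (fun h => hg1 (orderOf_eq_one_iff.1 h) : orderOf g ≠ 1)
  have hpos := orderOf_pos g
  set g' := g ^ (orderOf g / q)
  have hord : orderOf g' = q := orderOf_pow_orderOf_div hpos.ne' hqd
  have hg' : f (g' : Matrix.GeneralLinearGroup (Fin n) ℤ) = 1 := by
    have : (f.comp H.subtype) g' = 1 := by rw [map_pow, hg, one_pow]
    exact this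
  set A : Matrix (Fin n) (Fin n) ℤ := (g' : Matrix.GeneralLinearGroup (Fin n) ℤ).val - 1
  have hA : ∀ i j, (3 : ℤ) ∣ A i j := by
    intro i j
    have h := congrArg (fun u : Matrix.GeneralLinearGroup (Fin n) (ZMod 3) => u.val i j) hg'
    refine (ZMod.intCast_zmod_eq_zero_iff_dvd (A i j) 3).1 ?_
    change (Int.castRingHom (ZMod 3)) ((g' : Matrix.GeneralLinearGroup (Fin n) ℤ).val i j) = (1 : Matrix (Fin n) (Fin n) (ZMod 3)) i j at h
    simp only [Int.coe_castRingHom] at h
    rw [show A i j = (g' : Matrix.GeneralLinearGroup (Fin n) ℤ).val i j - (1 : Matrix (Fin n) (Fin n) ℤ) i j from rfl,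
      Int.cast_sub, sub_eq_zero]
    refine h.trans ?_
    by_cases hij : i = j <;> simp [Matrix.one_apply, hij]
  have hpow : (1 + A) ^ q = 1 := by
    rw [add_sub_cancel, ← Units.val_pow_eq_pow_val, ← SubgroupClass.coe_pow, ← hord, pow_orderOf_eq_one]
    rfl
  have hA0 := torsion_free_kernel A hq hA hpow
  have : g' = 1 := Subtype.ext (Units.ext (sub_eq_zero.1 hA0))
  rw [this, orderOf_one] at hord
  exact hq.one_lt.ne hord


end Groth.Agent.S19590
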