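import Groth.Statements.S19591
import Mathlib


-- import your own Groth.Agent.* helpers here

set_option autoImplicit false
universe u v
open BddFin

namespace Groth.Agent.S19591

/-- Let K be a perfect field of characteristic 2, V a finite-dimensional K-vector space with dim V > 2
and q a quadratic form on V whose polar bilinear form is non-degenerate. Then q represents zero
non-trivially. (Non-degeneracy of the polar form, which is alternating in characteristic 2, forces
dim V to be even, as the published lemma notes.) -/
theorem result
    (K : Type u) [Field K] [CharP K 2] [PerfectField K]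
    (V : Type v) [AddCommGroup V] [Module K V] [FiniteDimensional K V]
    (hV : 2 < Module.finrank K V) (q : QuadraticForm K V)
    (hq : (QuadraticMap.polarBilin q).Nondegenerate) :
    ∃ v : V, v ≠ 0 ∧ q v = 0 := by
  classical
  haveI : ExpChar K 2 := .prime Nat.prime_two
  haveI : PerfectRing K 2 := PerfectField.toPerfectRing 2
  haveI : Nontrivial V := Module.nontrivial_of_finrank_pos (R := K) (by omega)
  obtain ⟨u, hu⟩ := exists_ne (0 : V)
  by_cases hqu : q u = 0
  · exact ⟨u, hu, hqu⟩
  let φ : V →ₗ[K] K := QuadraticMap.polarBilin q u
  have hlt : Submodule.span K ({u} : Set V) < LinearMap.ker φ ⊔ Submodule.span K {u} := by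
    refine lt_of_le_of_ne le_sup_right fun e => ?_
    have h1 : LinearMap.ker φ ≤ Submodule.span K {u} := e ▸ le_sup_left
    have h2 := Submodule.finrank_mono h1
    rw [finrank_span_singleton hu] at h2
    have h3 := LinearMap.finrank_range_add_finrank_ker φ
    have h4 : Module.finrank K (LinearMap.range φ) ≤ 1 := (Submodule.finrank_le _).trans (Module.finrank_self K).le
    omega
  obtain ⟨w, hw, hwu⟩ : ∃ w ∈ LinearMap.ker φ, w ∉ Submodule.span K ({u} : Set V) :=
    SetLike.not_le_iff_exists.1 fun h => hlt.ne (sup_eq_right.2 h).symm
  obtain ⟨a, ha⟩ := surjective_frobenius K 2 (q w / q u)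
  refine ⟨a • u + w, fun h => hwu ?_, ?_⟩
  · rw [eq_neg_of_add_eq_zero_right h]
    exact neg_mem (Submodule.smul_mem _ _ (Submodule.mem_span_singleton_self u))
  · have h0 : QuadraticMap.polar q u w = 0 := hw
    rw [frobenius_def] at ha
    have hq2 : q (a • u + w) = q (a • u) + q w + QuadraticMap.polar q (a • u) w := by
      rw [QuadraticMap.polar]; ring
    rw [hq2, QuadraticMap.polar_smul_left, h0, smul_zero, add_zero, QuadraticMap.map_smul,
      ← pow_two, ha, smul_eq_mul, div_mul_cancel₀ _ hqu, CharTwo.add_self_eq_zero]

end Groth.Agent.S19591
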