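import Groth.Statements.S19593
import Groth.Agent.NefH1Lib.GenusOne
import Groth.Agent.EGA2SymLib.LocalVA
import Groth.Agent.MiscFlat6.RelVeryAmple
import Groth.Agent.MiscFlat6.RelAmpleCoprod

set_option autoImplicit false
set_option backward.isDefEq.respectTransparency false
set_option backward.isDefEq.respectTransparency.types false
set_option maxHeartbeats 1000000
set_option linter.style.haveILetI false
universe u
open CategoryTheory AlgebraicGeometry
open PicF

namespace Groth.Agent.S19593

/-- Let k be an infinite field, Y a scheme proper over k with a relatively very ample O_Y-module A (the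
pullback of O(1) along an immersion of Y into the Proj of a symmetric algebra over k), and y_1, …,
y_m finitely many points of Y. Then some global section of A generates A at every y_i. (The
published statement takes Y projective over k and A a very ample line bundle; here Y is proper over
k and A very ample relative to Y → Spec k, which makes Y projective.) -/
theorem result
    (k : Type u) [Field k] [Infinite k] (Y : Scheme.{u}) (f : Y ⟶ Spec (CommRingCat.of k)) [IsProper f]
    (A : Y.Modules) (hA : RelProj.IsRelVeryAmple f A)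
    (ι : Type) [Finite ι] (y : ι → ↥Y) :
    ∃ s : Coh.structureModule Y ⟶ A, ∀ i : ι, y i ∈ CohB1.genLocus A s := by
  letI : Y.Over (Spec (CommRingCat.of k)) := ⟨f⟩
  have hR := MiscFlat6.isRelAmple_of_isRelVeryAmple hA
  have hL : PicF.IsInvertible A := MiscFlat6.isInvertible_of_restrict_cover fun x =>
    ⟨_, (f ⁻¹ᵁ (⊤ : (Spec (CommRingCat.of k)).Opens)).ι, inferInstance, ⟨x, trivial⟩, rfl,
      (hR.2 ⟨⊤, isAffineOpen_top _⟩).1⟩
  have hgen : ∀ x : Y, ∃ σ : Γ(A, ⊤), AmpleLib.GenAt A σ (show x ∈ (⊤ : Y.Opens) from trivial) := fun x => by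
    obtain ⟨e, hx, he, -⟩ := EGA2SymLib.secAt_of_isRelVeryAmple hA (isAffineOpen_top _)
      (show x ∈ f ⁻¹ᵁ (⊤ : (Spec (CommRingCat.of k)).Opens) from trivial)
    exact ⟨e, he⟩
  obtain ⟨σ, hσ⟩ := NefH1Lib.exists_genAt_finite k hL hgen (Set.finite_range y)
  refine ⟨QCohLib.unitHom A σ, fun i => ?_⟩
  rw [AmpleThLib.genLocus_unitHom hL σ]
  exact hσ (y i) ⟨i, rfl⟩
end Groth.Agent.S19593
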