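import Groth.Statements.S19594
import Groth.Agent.FinOrdTorLib.Main

set_option autoImplicit false
set_option backward.isDefEq.respectTransparency false
set_option backward.isDefEq.respectTransparency.types false
set_option maxHeartbeats 1000000
set_option synthInstance.maxHeartbeats 400000
universe u
open CategoryTheory MonoidalCategory CartesianMonoidalCategory MonObj GrpObj AlgebraicGeometry
open BddFin

attribute [-instance] CategoryTheory.Hom.commGroup
namespace Groth.Agent.S19594

/-- Let K be a field, Γ a connected linear algebraic group over K (affine and smooth over K with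
connected underlying space) and x an element of the group Γ(K) of sections Spec K → Γ, of finite
order non-zero in K. Then x lies in a K-subtorus of Γ: there are a K-group scheme T which is a torus
(fpqc-locally on Spec K isomorphic to a split torus), a homomorphism i : T → Γ which is a
monomorphism, and y ∈ T(K) with y ≫ i = x. -/
theorem result
    (K : Type u) [Field K] (Γ : Over (Spec (CommRingCat.of K))) [GrpObj Γ]
    [IsAffine Γ.left] [Smooth Γ.hom] [ConnectedSpace Γ.left]
    (x : 𝟙_ (Over (Spec (CommRingCat.of K))) ⟶ Γ) (hx : IsOfFinOrder x) (hcop : ((orderOf x : ℕ) : K) ≠ 0) :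
    ∃ (T : Over (Spec (CommRingCat.of K))) (_ : GrpObj T) (i : T ⟶ Γ) (y : 𝟙_ (Over (Spec (CommRingCat.of K))) ⟶ T),
      IsMonHom i ∧ Mono i ∧ Red.IsTorus T ∧ y ≫ i = x := by
  exact Groth.Agent.FinOrdTor.exists_torus_through Γ x hx hcop

end Groth.Agent.S19594
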