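import Groth.Statements.S19599
import Groth.Agent.TransporterLib.SubTop

set_option autoImplicit false
open CategoryTheory MonoidalCategory CartesianMonoidalCategory MonObj GrpObj AlgebraicGeometry
universe u
open SGA3x

namespace Groth.Agent.S19599

/-- Let G be an affine group scheme of finite presentation over a scheme S and H ⊆ G a closed subgroup
scheme of finite presentation over S which is of multiplicative type (of finite type). Then the
centralizer of H in G (points of G commuting with every point of H after any base change) is
representable by a closed subscheme of G. Here G is not assumed smooth, and smoothness of the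
centralizer is not asserted. -/
theorem result {S : Scheme.{u}} (G H : Over S) [GrpObj G] [GrpObj H]
    (hGa : IsAffineHom G.hom) (hGfp : LocallyOfFinitePresentation G.hom)
    (i : H ⟶ G) [IsMonHom i] (hi : IsClosedImmersion i.left) (hHfp : LocallyOfFinitePresentation H.hom)
    (hH : SGA3x.IsMultTypeFT H) :
    ∃ (C : Over S) (c : C ⟶ G), IsClosedImmersion c.left ∧
      ∀ (X : Over S) (g : X ⟶ G), (∃ z : X ⟶ C, z ≫ c = g) ↔
        ∀ (X' : Over S) (x : X' ⟶ X) (a : X' ⟶ H), (x ≫ g) * (a ≫ i) = (a ≫ i) * (x ≫ g) := by
  haveI := hGa
  haveI := hGfp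
  obtain ⟨T, j, hj, -, hT⟩ := Transporter.exists_transporter (Transporter.locally_of_isMultTypeFT hH) i i
  refine ⟨T, j, hj, fun X g => (hT X g).trans ⟨fun h X' x a => ?_, fun h X' x a => ?_⟩⟩
  · exact mul_inv_eq_iff_eq_mul.1 (h X' x a)
  · exact mul_inv_eq_iff_eq_mul.2 (h X' x a)

end Groth.Agent.S19599
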