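import Groth.Statements.S19610
import Mathlib
import Mathlib
import Groth.Agent.NilFlatLib.Basic
-- import your own Groth.Agent.* helpers here

set_option autoImplicit false
universe u
open scoped TensorProduct
open CartMod

namespace Groth.Agent.S19610

/-- Let p be a prime and B a commutative algebra over the commutative ring A, both complete and
separated for the p-adic topology and both without p-torsion (flat over the p-adic base). If B/pB is
flat over A/pA, then B/p^nB is flat over A/p^nA for every n ≥ 1 (the quotients are written as base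
changes (A/p^n) ⊗_A B). (The published statement is for a morphism of flat p-adic formal schemes
over the Witt vectors of a perfect field: if its special fibre is flat, so are the induced morphisms
of schemes modulo every power of p; this row is its affine, ring-level case.) -/
theorem result (p : ℕ) [Fact p.Prime]
    {A B : Type u} [CommRing A] [CommRing B] [Algebra A B]
    [IsAdicComplete (Ideal.span {(p : A)}) A] [IsAdicComplete (Ideal.span {(p : B)}) B]
    (hA : IsSMulRegular A (p : A)) (hB : IsSMulRegular B (p : B))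
    (h : Module.Flat (A ⧸ Ideal.span {(p : A)}) ((A ⧸ Ideal.span {(p : A)}) ⊗[A] B))
    (n : ℕ) (hn : 1 ≤ n) :
    Module.Flat (A ⧸ (Ideal.span {(p : A)} ^ n)) ((A ⧸ (Ideal.span {(p : A)} ^ n)) ⊗[A] B) := by
  classical
  obtain ⟨n, rfl⟩ : ∃ m, n = m + 1 := ⟨n - 1, by omega⟩
  set P := Ideal.span {(p : A)} with hP
  set R := A ⧸ P ^ (n + 1) with hR
  let I : Ideal R := P.map (Ideal.Quotient.mk (P ^ (n + 1)))
  let M := R ⊗[A] B
  set π : R := Ideal.Quotient.mk (P ^ (n + 1)) (p : A) with hπ
  have hI : I = Ideal.span {π} := by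
    show Ideal.map _ _ = _
    rw [show Ideal.map (Ideal.Quotient.mk (P ^ (n + 1))) P = Ideal.span (⇑(Ideal.Quotient.mk (P ^ (n + 1))) '' {(p : A)}) from Ideal.map_span _ _, Set.image_singleton]
  have hIle : I ^ (n + 1) = ⊥ := by
    rw [← Ideal.map_pow]
    exact Ideal.map_quotient_self _
  haveI hflat : Module.Flat (R ⧸ I) ((R ⧸ I) ⊗[R] M) := by
    letI : Algebra (A ⧸ P) (R ⧸ I) := (Ideal.quotientMap I (Ideal.Quotient.mk (P ^ (n + 1))) Ideal.le_comap_map).toAlgebra
    haveI : IsScalarTower A (A ⧸ P) (R ⧸ I) := IsScalarTower.of_algebraMap_eq fun a => rfl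
    haveI : Module.Flat (A ⧸ P) ((A ⧸ P) ⊗[A] B) := h
    haveI : Module.Flat (R ⧸ I) ((R ⧸ I) ⊗[A ⧸ P] ((A ⧸ P) ⊗[A] B)) := inferInstance
    haveI : Module.Flat (R ⧸ I) ((R ⧸ I) ⊗[A] B) :=
      Module.Flat.of_linearEquiv (TensorProduct.AlgebraTensorModule.cancelBaseChange A (A ⧸ P) (R ⧸ I) (R ⧸ I) B).symm
    exact Module.Flat.of_linearEquiv (TensorProduct.AlgebraTensorModule.cancelBaseChange A R (R ⧸ I) (R ⧸ I) B)
  have key : ∀ m : M, π • m = 0 → ∃ m' : M, m = π ^ n • m' := by
    intro m hm
    obtain ⟨b, rfl⟩ : ∃ b : B, (1 : R) ⊗ₜ[A] b = m := by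
      induction m using TensorProduct.induction_on with
      | zero => exact ⟨0, TensorProduct.tmul_zero _ _⟩
      | tmul r b =>
        obtain ⟨a, rfl⟩ := Ideal.Quotient.mk_surjective r
        refine ⟨a • b, ?_⟩
        rw [← TensorProduct.smul_tmul, Algebra.smul_def, mul_one, Ideal.Quotient.algebraMap_eq]
      | add x y hx hy => exact (by
          have hgen : ∀ z : M, ∃ b : B, (1 : R) ⊗ₜ[A] b = z := by
            intro z
            induction z using TensorProduct.induction_on with
            | zero => exact ⟨0, TensorProduct.tmul_zero _ _⟩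
            | tmul r b =>
              obtain ⟨a, rfl⟩ := Ideal.Quotient.mk_surjective r
              refine ⟨a • b, ?_⟩
              rw [← TensorProduct.smul_tmul, Algebra.smul_def, mul_one, Ideal.Quotient.algebraMap_eq]
            | add u v hu hv =>
              obtain ⟨b, rfl⟩ := hu
              obtain ⟨c, rfl⟩ := hv
              exact ⟨b + c, TensorProduct.tmul_add _ _ _⟩
          exact hgen _)
    rw [show π • ((1 : R) ⊗ₜ[A] b) = (1 : R) ⊗ₜ[A] ((p : A) • b) by
      rw [TensorProduct.smul_tmul', smul_eq_mul, mul_one, ← TensorProduct.smul_tmul, Algebra.smul_def, mul_one, Ideal.Quotient.algebraMap_eq]] at hm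
    let e := TensorProduct.quotTensorEquivQuotSMul B (P ^ (n + 1))
    have h3 : e ((1 : R) ⊗ₜ[A] ((p : A) • b)) = Submodule.Quotient.mk ((p : A) • b) := by
      rw [show (1 : R) = Ideal.Quotient.mk (P ^ (n + 1)) 1 from (map_one _).symm]
      simp [e]
    rw [hm, map_zero] at h3
    have h4 := (Submodule.Quotient.mk_eq_zero _).1 h3.symm
    rw [hP, Ideal.span_singleton_pow, Submodule.ideal_span_singleton_smul, Submodule.mem_smul_pointwise_iff_exists] at h4
    obtain ⟨c, -, hc⟩ := h4
    have hb : b = (p : A) ^ n • c := by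
      apply hB
      simp only
      rw [smul_eq_mul, smul_eq_mul]
      rw [pow_succ', mul_smul] at hc
      simp only [Algebra.smul_def, map_natCast] at hc
      rw [Algebra.smul_def]
      exact hc.symm
    refine ⟨(1 : R) ⊗ₜ[A] c, ?_⟩
    rw [hb, hπ, ← map_pow, TensorProduct.smul_tmul', smul_eq_mul, mul_one, ← TensorProduct.smul_tmul, Algebra.smul_def, mul_one, Ideal.Quotient.algebraMap_eq]
  have hπI : π ∈ I := hI ▸ Ideal.mem_span_singleton_self π
  have hT : Function.Injective (LinearMap.rTensor M (Submodule.subtype I)) := by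
    have hgen : ∀ z : I ⊗[R] M, ∃ m : M, z = (⟨π, hπI⟩ : I) ⊗ₜ[R] m := by
      intro z
      induction z using TensorProduct.induction_on with
      | zero => exact ⟨0, (TensorProduct.tmul_zero _ _).symm⟩
      | tmul x m =>
        obtain ⟨r, hr⟩ := Ideal.mem_span_singleton'.1 (hI.le x.2)
        refine ⟨r • m, ?_⟩
        rw [TensorProduct.tmul_smul, TensorProduct.smul_tmul']
        congr 1
        exact Subtype.ext hr.symm
      | add u v hu hv =>
        obtain ⟨a, rfl⟩ := hu
        obtain ⟨b, rfl⟩ := hv
        exact ⟨a + b, (TensorProduct.tmul_add _ _ _).symm⟩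
    refine (injective_iff_map_eq_zero _).2 fun z hz => ?_
    obtain ⟨m, rfl⟩ := hgen z
    rw [LinearMap.rTensor_tmul] at hz
    have hz' : π • m = 0 := by
      have := congrArg (TensorProduct.lid R M) hz
      simpa using this
    obtain ⟨m', rfl⟩ := key m hz'
    rw [TensorProduct.tmul_smul, TensorProduct.smul_tmul']
    have : π ^ n • (⟨π, hπI⟩ : I) = 0 := Subtype.ext (by
      show π ^ n * π = 0
      rw [← pow_succ, ← Submodule.mem_bot R, ← hIle]
      exact Ideal.pow_mem_pow hπI _)
    rw [this, TensorProduct.zero_tmul]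
  exact NilFlatLib.flat_of_isNilpotent (I := I) ⟨n + 1, hIle⟩ hT

end Groth.Agent.S19610
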