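import Mathlib
import Groth.Statements.S19611
import Groth.Agent.ChowLib.SchDom

-- import your own Groth.Agent.* helpers here

set_option autoImplicit false
universe u
open CategoryTheory AlgebraicGeometry
open CartMod

namespace Groth.Agent.S19611

/-- For a prime p and a scheme Y of characteristic p, write Y♭ for the scheme-theoretic image of the
absolute Frobenius F_Y : Y → Y, i.e. the closed subscheme of Y defined by the sections of O_Y whose
p-th power vanishes, and Y → Y♭ for the canonical morphism through which F_Y factors. Then Y → Y♭ is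
an epimorphism of schemes: two morphisms g₁, g₂ from Y♭ to a scheme Z with equal composites Y → Y♭ →
Z are equal. (The published statement is for k-morphisms g₁, g₂ from Y♭ to a k-scheme Z over a
perfect field k of characteristic p, compared after Frobenius twist through Y → (Y♭)'; this row asks
right-cancellation against morphisms to every scheme Z, which is equivalent to it for k-morphisms.) -/
theorem result (p : ℕ) [Fact p.Prime] (Y : Scheme.{u}) [FrobSch.IsCharP Y p] :
    Epi (FrobSch.frob Y p).toImage := by
  let F := FrobSch.frob Y p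
  haveI : QuasiCompact F := ⟨fun U _ hU => hU⟩
  haveI := ChowLib.schDom_toImage F
  have hsurj : Function.Surjective F.toImage := by
    intro y
    refine ⟨F.imageι y, F.imageι.isEmbedding.injective ?_⟩
    show (F.toImage ≫ F.imageι) (F.imageι y) = F.imageι y
    rw [Scheme.Hom.toImage_imageι]
    rfl
  refine ⟨fun {Z} g₁ g₂ h => ?_⟩
  have hbase : ∀ y, g₁ y = g₂ y := by
    intro y
    obtain ⟨x, rfl⟩ := hsurj y
    exact congrArg (fun q : Y ⟶ Z => q x) h
  refine (Scheme.openCoverOfIsOpenCover _ (fun W : Z.affineOpens => g₁ ⁻¹ᵁ W.1) ?_).hom_ext _ _ fun W => ?_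
  · rw [TopologicalSpace.IsOpenCover, ← Scheme.Hom.preimage_iSup, iSup_affineOpens_eq_top]
    rfl
  · let V := g₁ ⁻¹ᵁ W.1
    show V.ι ≫ g₁ = V.ι ≫ g₂
    have h2 : V ≤ g₂ ⁻¹ᵁ W.1 := fun y hy => by
      show g₂ y ∈ W.1
      rw [← hbase y]
      exact hy
    let a := g₁.resLE W.1 V le_rfl
    let b := g₂.resLE W.1 V h2
    haveI : IsAffine W.1.toScheme := W.2
    let d := F.toImage ∣_ V
    haveI : IsSchemeTheoreticallyDominant d := ChowLib.schDom_morphismRestrict F.toImage V
    have hab : a = b := ChowLib.hom_ext_of_schDom d (Limits.terminal.from W.1.toScheme) (Subsingleton.elim _ _) (by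
      rw [← cancel_mono W.1.ι]
      simp only [a, b, d, Category.assoc, Scheme.Hom.resLE_comp_ι, morphismRestrict_ι_assoc]
      exact congrArg _ h)
    rw [← g₁.resLE_comp_ι le_rfl, ← g₂.resLE_comp_ι h2]
    exact congrArg (· ≫ W.1.ι) hab

end Groth.Agent.S19611
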