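import Groth.Statements.S19612
import Mathlib
import Mathlib
-- import your own Groth.Agent.* helpers here

set_option autoImplicit false
universe u
open scoped TensorProduct
open CartMod

namespace Groth.Agent.S19612

/-- Let k be a perfect field of characteristic p, W = W(k) the ring of Witt vectors of k, and A a
commutative W-algebra which is complete and separated for the p-adic topology (an adic W-algebra).
Then flatness of A over W is equivalent to flatness of A/p^nA = (W/p^nW) ⊗_W A over W/p^nW for every
n ≥ 1. -/
theorem result (p : ℕ) [Fact p.Prime] (k : Type u) [Field k]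
    [CharP k p] [PerfectRing k p] (A : Type u) [CommRing A] [Algebra (WittVector p k) A]
    [IsAdicComplete (Ideal.span {(p : WittVector p k)}) A] :
    Module.Flat (WittVector p k) A ↔
      ∀ n : ℕ, 1 ≤ n →
        Module.Flat (WittVector p k ⧸ (Ideal.span {(p : WittVector p k)} ^ n))
          ((WittVector p k ⧸ (Ideal.span {(p : WittVector p k)} ^ n)) ⊗[WittVector p k] A) := by
  classical
  constructor
  · intro h n _
    infer_instance
  intro h
  set P := Ideal.span {(p : WittVector p k)} with hP
  have hp0 : (p : WittVector p k) ≠ 0 := WittVector.p_nonzero p k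
  have key : ∀ a : A, (p : WittVector p k) • a = 0 → a = 0 := by
    intro a ha
    have hall : ∀ n : ℕ, a ≡ 0 [SMOD (P ^ n • ⊤ : Submodule (WittVector p k) A)] := by
      intro n
      rw [SModEq.zero]
      haveI := h (n + 1) (Nat.succ_pos n)
      set R := WittVector p k ⧸ P ^ (n + 1) with hR
      have hrel : ∑ i : Fin 1, (fun _ => algebraMap (WittVector p k) R p) i • (fun _ => (1 : R) ⊗ₜ[WittVector p k] a) i = 0 := by
        rw [Fin.sum_univ_one, algebraMap_smul, ← TensorProduct.tmul_smul, ha, TensorProduct.tmul_zero]
      obtain ⟨l, c, y, hy, hc⟩ := Module.Flat.isTrivialRelation_of_sum_smul_eq_zero hrel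
      have h1 : (1 : R) ⊗ₜ[WittVector p k] a ∈ (P ^ n • ⊤ : Submodule (WittVector p k) (R ⊗[WittVector p k] A)) := by
        rw [show (1 : R) ⊗ₜ[WittVector p k] a = ∑ j, c 0 j • y j from hy 0]
        refine Submodule.sum_mem _ fun j _ => ?_
        have h2 := hc j
        rw [Fin.sum_univ_one] at h2
        obtain ⟨w, hw⟩ := Ideal.Quotient.mk_surjective (c 0 j)
        rw [← hw, Ideal.Quotient.algebraMap_eq, ← map_mul, Ideal.Quotient.eq_zero_iff_mem, Ideal.span_singleton_pow,
          Ideal.mem_span_singleton', pow_succ'] at h2
        obtain ⟨t, ht⟩ := h2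
        have hwt : w = t * (p : WittVector p k) ^ n := mul_left_cancel₀ hp0 (by rw [← ht]; ring)
        rw [← hw, show Ideal.Quotient.mk (P ^ (n + 1)) w • y j = w • y j from algebraMap_smul R w (y j)]
        exact Submodule.smul_mem_smul (by rw [hwt, Ideal.span_singleton_pow]; exact Ideal.mem_span_singleton'.2 ⟨t, rfl⟩) Submodule.mem_top
      let e := TensorProduct.quotTensorEquivQuotSMul A (P ^ (n + 1))
      have h2 : e ((1 : R) ⊗ₜ[WittVector p k] a) ∈ Submodule.map e.toLinearMap (P ^ n • ⊤) := ⟨_, h1, rfl⟩
      rw [Submodule.map_smul'', Submodule.map_top, LinearEquiv.range] at h2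
      have h3 : e ((1 : R) ⊗ₜ[WittVector p k] a) = Submodule.Quotient.mk a := by
        rw [show (1 : R) = Ideal.Quotient.mk (P ^ (n + 1)) 1 from (map_one _).symm]
        simp [e]
      rw [h3, ← Submodule.range_mkQ (P ^ (n + 1) • ⊤ : Submodule (WittVector p k) A), ← Submodule.map_top, ← Submodule.map_smul''] at h2
      obtain ⟨b, hb, hba⟩ := h2
      have h4 : b - a ∈ (P ^ (n + 1) • ⊤ : Submodule (WittVector p k) A) := (Submodule.Quotient.eq _).1 hba
      have h5 : b - a ∈ (P ^ n • ⊤ : Submodule (WittVector p k) A) :=
        Submodule.smul_mono_left (Ideal.pow_le_pow_right (Nat.le_succ n)) h4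
      simpa using Submodule.sub_mem _ hb h5
    exact IsHausdorff.haus (inferInstance : IsHausdorff P A) a hall
  haveI : Module.IsTorsionFree (WittVector p k) A := by
    refine Module.isTorsionFree_iff_smul_eq_zero.2 fun r m => ?_
    intro hrm
    by_contra hcon
    push_neg at hcon
    obtain ⟨hr, hm⟩ := hcon
    obtain ⟨e', u, hu⟩ := IsDiscreteValuationRing.eq_unit_mul_pow_irreducible hr (WittVector.irreducible p : Irreducible (p : WittVector p k))
    rw [hu, mul_smul] at hrm
    have : (p : WittVector p k) ^ e' • m = 0 := by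
      have := congrArg (fun z => ((u⁻¹ : (WittVector p k)ˣ) : WittVector p k) • z) hrm
      simpa [smul_smul] using this
    clear hu hrm
    induction e' with
    | zero => exact hm (by simpa using this)
    | succ e' ih => rw [pow_succ', mul_smul] at this; exact ih (key _ this)
  exact (IsDedekindDomain.flat_iff_torsion_eq_bot).2 ((Submodule.isTorsionFree_iff_torsion_eq_bot).1 inferInstance)

end Groth.Agent.S19612
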