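import Groth.Statements.S19616
import Mathlib.RingTheory.AdicCompletion.Completeness
import Mathlib.RingTheory.AdicCompletion.RingHom
import Mathlib.RingTheory.Localization.Away.Basic

set_option autoImplicit false
universe u
open CartMod

namespace Groth.Agent.S19616


section
variable (p : ℕ) (A : Type u) [CommRing A] (S : Type u) [CommRing S] [Algebra A S]

/-- The `p`-adic completion. -/
abbrev Compl : Type u := AdicCompletion (Ideal.span {(p : S)}) S

theorem compl_isAdicComplete : IsAdicComplete (Ideal.span {(p : Compl p S)}) (Compl p S) := by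
  have h := AdicCompletion.isAdicComplete (I := Ideal.span {(p : S)}) (M := S) ⟨{(p : S)}, by simp⟩
  have hspan : (Ideal.span {(p : S)}).map (algebraMap S (Compl p S)) = Ideal.span {(p : Compl p S)} := by
    simp [Ideal.map_span]
  rw [← hspan]
  exact { toIsHausdorff := IsHausdorff.map_algebraMap_iff.2 inferInstance
          toIsPrecomplete := IsPrecomplete.map_algebraMap_iff.2 inferInstance }

theorem compl_regular (hreg : IsSMulRegular S (p : S)) : IsSMulRegular (Compl p S) (p : Compl p S) := by
  have key : ∀ z : Compl p S, (p : Compl p S) * z = 0 → z = 0 := by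
    intro z hs
    induction z using AdicCompletion.induction_on with | _ s => ?_
    refine AdicCompletion.ext_evalₐ fun n => ?_
    have h1 := congrArg (AdicCompletion.evalₐ _ (n + 1)) hs
    rw [map_mul, map_natCast, map_zero, AdicCompletion.evalₐ_mk, ← map_natCast (Ideal.Quotient.mk _) p,
      ← map_mul, Ideal.Quotient.eq_zero_iff_mem, Ideal.span_singleton_pow, Ideal.mem_span_singleton'] at h1
    obtain ⟨c, hc⟩ := h1
    have h2 : s.val (n + 1) = c * (p : S) ^ n := hreg (by simp only [smul_eq_mul]; rw [← hc]; ring)
    rw [map_zero, AdicCompletion.evalₐ_mk, ← AdicCompletion.Ideal.mk_eq_mk _ (Nat.le_succ n) s,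
      Ideal.Quotient.eq_zero_iff_mem, h2, Ideal.span_singleton_pow]
    exact Ideal.mul_mem_left _ _ (Ideal.mem_span_singleton_self _)
  intro x y h
  simp only [smul_eq_mul] at h
  exact sub_eq_zero.1 (key _ (by rw [mul_sub, h, sub_self]))

variable (B : Type u) [CommRing B] [Algebra A B] [IsAdicComplete (Ideal.span {(p : B)}) B]

theorem compl_lift (f₀ : S →ₐ[A] B) : Nonempty (Compl p S →ₐ[A] B) := by
  have hIJ : ∀ n, Ideal.span {(p : S)} ^ n ≤ (Ideal.span {(p : B)} ^ n).comap f₀ := fun n => by
    rw [Ideal.span_singleton_pow, Ideal.span_singleton_pow, Ideal.span_le, Set.singleton_subset_iff,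
      SetLike.mem_coe, Ideal.mem_comap, map_pow, map_natCast]
    exact Ideal.mem_span_singleton_self _
  refine ⟨IsAdicComplete.liftAlgHom (Ideal.span {(p : B)}) (fun n =>
    (Ideal.quotientMapₐ (Ideal.span {(p : B)} ^ n) f₀ (hIJ n)).comp
      ((AdicCompletion.evalₐ (Ideal.span {(p : S)}) n).restrictScalars A)) ?_⟩
  intro m n h
  refine AlgHom.ext fun x => ?_
  induction x using AdicCompletion.induction_on with | _ s => ?_
  simp only [AlgHom.comp_apply, AlgHom.coe_restrictScalars', AdicCompletion.evalₐ_mk]
  rw [← AdicCompletion.Ideal.mk_eq_mk _ h s]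
  rfl

omit [IsAdicComplete (Ideal.span {(p : B)}) B] in
theorem compl_congr (f g : Compl p S →ₐ[A] B)
    (hof : ∀ e, f (algebraMap S (Compl p S) e) = g (algebraMap S (Compl p S) e)) (n : ℕ) (x : Compl p S) :
    f x - g x ∈ Ideal.span {(p : B)} ^ n := by
  obtain ⟨e, he⟩ := Submodule.mkQ_surjective _ (x.val n)
  have h1 : x - AdicCompletion.of _ S e ∈ LinearMap.ker (AdicCompletion.eval (Ideal.span {(p : S)}) S n) := by
    rw [LinearMap.mem_ker, map_sub, AdicCompletion.eval_of, sub_eq_zero]
    exact he.symm
  rw [← AdicCompletion.pow_smul_top_eq_ker_eval ⟨{(p : S)}, by simp⟩, Ideal.span_singleton_pow,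
    Submodule.ideal_span_singleton_smul] at h1
  obtain ⟨y, -, hy⟩ := h1
  have h2 : algebraMap S (Compl p S) ((p : S) ^ n) * y = x - algebraMap S (Compl p S) e :=
    (Algebra.smul_def ((p : S) ^ n) y).symm.trans hy
  have hy' : x = algebraMap S (Compl p S) e + (p : Compl p S) ^ n * y := by
    rw [map_pow, map_natCast] at h2
    rw [h2, add_sub_cancel]
  rw [hy', map_add f, map_add g, hof, map_mul f, map_mul g, map_pow f, map_pow g,
    map_natCast f, map_natCast g, add_sub_add_left_eq_sub, ← mul_sub, Ideal.span_singleton_pow]
  exact Ideal.mul_mem_right _ _ (Ideal.mem_span_singleton_self _)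

end

/-- Let p be a prime, A a commutative ring which is complete and separated for the p-adic topology and
has no p-torsion, and a_1, …, a_n elements of A (so that (p, a_1, …, a_n) is an open ideal
containing p). Then there is a commutative A-algebra D, complete and separated for the p-adic
topology and without p-torsion, in which each a_i is divisible by p, with the following universal
property: for every A-algebra B which is p-adically complete and separated, has no p-torsion, and in
which each a_i is divisible by p, there is exactly one A-algebra homomorphism D → B; moreover this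
homomorphism is surjective whenever A → B is. (D is the coordinate ring of the dilatation of Spf A
with respect to p along the closed subscheme defined by (p, a_1, …, a_n). The published statement is
for flat p-adic formal schemes locally of finite type over the Witt vectors of a perfect field; this
row is its affine, ring-level case without a finiteness hypothesis.) -/
theorem result (p : ℕ) [Fact p.Prime]
    (A : Type u) [CommRing A] [IsAdicComplete (Ideal.span {(p : A)}) A]
    (hA : IsSMulRegular A (p : A)) {n : ℕ} (a : Fin n → A) :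
    ∃ (D : Type u) (_ : CommRing D) (_ : Algebra A D),
      IsAdicComplete (Ideal.span {(p : D)}) D ∧ IsSMulRegular D (p : D) ∧
      (∀ i, algebraMap A D (a i) ∈ Ideal.span {(p : D)}) ∧
      ∀ (B : Type u) [CommRing B] [Algebra A B] [IsAdicComplete (Ideal.span {(p : B)}) B],
        IsSMulRegular B (p : B) → (∀ i, algebraMap A B (a i) ∈ Ideal.span {(p : B)}) →
          Nonempty (D →ₐ[A] B) ∧ Subsingleton (D →ₐ[A] B) ∧
            (Function.Surjective (algebraMap A B) → ∀ f : D →ₐ[A] B, Function.Surjective f) := by
  classical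
  let L := Localization.Away (p : A)
  let S : Subalgebra A L := Algebra.adjoin A (Set.range fun i =>
    IsLocalization.mk' L (a i) (⟨(p : A), Submonoid.mem_powers _⟩ : Submonoid.powers (p : A)))
  let I : Ideal S := Ideal.span {(p : S)}
  have hI : I.FG := ⟨{(p : S)}, by simp [I]⟩
  have hpL : IsUnit (p : L) := by
    have h := IsLocalization.map_units L (⟨(p : A), Submonoid.mem_powers _⟩ : Submonoid.powers (p : A))
    rwa [map_natCast] at h
  have hregS : ∀ e e' : S, (p : S) * e = (p : S) * e' → e = e' := fun e e' h => by
    have h' := congrArg S.val h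
    rw [map_mul, map_mul, map_natCast] at h'
    exact Subtype.ext (hpL.mul_left_cancel h')
  have hgen : ∀ i, ∃ e : S, algebraMap A S (a i) = (p : S) * e := fun i => by
    refine ⟨⟨_, Algebra.subset_adjoin ⟨i, rfl⟩⟩, Subtype.ext ?_⟩
    show algebraMap A L (a i) = ((p : S) : L) * _
    have h1 : ((p : S) : L) = algebraMap A L (p : A) := by rw [map_natCast]; exact map_natCast S.val p
    rw [h1]
    exact (IsLocalization.mk'_spec' L (a i) _).symm
  have hfrac : ∀ e : S, ∃ (k : ℕ) (c : A), (p : S) ^ k * e = algebraMap A S c := fun e => by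
    obtain ⟨⟨c, ⟨_, k, rfl⟩⟩, hk⟩ := IsLocalization.surj (Submonoid.powers (p : A)) (e : L)
    refine ⟨k, c, Subtype.ext ?_⟩
    show S.val ((p : S) ^ k * e) = _
    rw [map_mul, map_pow, map_natCast, mul_comm, ← map_natCast (algebraMap A L) p, ← map_pow]
    exact hk
  have hregS' : IsSMulRegular S (p : S) := fun x y h => hregS x y h
  refine ⟨Compl p S, inferInstance, inferInstance, compl_isAdicComplete p S, compl_regular p S hregS', fun i => ?_, ?_⟩
  · obtain ⟨e, he⟩ := hgen i
    rw [Ideal.mem_span_singleton]
    refine ⟨algebraMap S (Compl p S) e, ?_⟩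
    rw [← map_natCast (algebraMap S (Compl p S)) p, ← map_mul, ← he]
    rfl
  intro B _ _ _ hB hdiv
  let J : Ideal B := Ideal.span {(p : B)}
  let LB := Localization.Away (p : B)
  have hpLB : IsUnit (p : LB) := by
    have h := IsLocalization.map_units LB (⟨(p : B), Submonoid.mem_powers _⟩ : Submonoid.powers (p : B))
    rwa [map_natCast] at h
  let ι : B →ₐ[A] LB := IsScalarTower.toAlgHom A B LB
  have hι : Function.Injective ι := fun x y h => by
    obtain ⟨⟨_, k, rfl⟩, hk⟩ := (IsLocalization.eq_iff_exists (Submonoid.powers (p : B)) LB).1 h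
    exact (hB.pow k) (by simpa using hk)
  let ψ : L →ₐ[A] LB := IsLocalization.liftAlgHom (M := Submonoid.powers (p : A)) (f := Algebra.ofId A LB)
    (by
      rintro ⟨_, k, rfl⟩
      show IsUnit (algebraMap A LB ((p : A) ^ k))
      rw [map_pow, map_natCast]
      exact hpLB.pow k)
  have hle : S ≤ ι.range.comap ψ := Algebra.adjoin_le (by
    rintro _ ⟨i, rfl⟩
    obtain ⟨b, hb⟩ := Ideal.mem_span_singleton.1 (hdiv i)
    refine ⟨b, hpLB.mul_left_cancel ?_⟩
    show (p : LB) * ι b = (p : LB) * ψ _
    have e1 : (p : LB) * ι b = algebraMap A LB (a i) := by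
      rw [← map_natCast ι p, ← map_mul, ← hb, ι.commutes]
    have e2 : (p : LB) * ψ (IsLocalization.mk' L (a i) (⟨(p : A), Submonoid.mem_powers _⟩ : Submonoid.powers (p : A))) =
        algebraMap A LB (a i) := by
      rw [← map_natCast ψ p, ← map_natCast (algebraMap A L) p, ← map_mul,
        show algebraMap A L (p : A) * _ = _ from IsLocalization.mk'_spec' L (a i) (⟨(p : A), Submonoid.mem_powers _⟩ : Submonoid.powers (p : A)),
        ψ.commutes]
    exact e1.trans e2.symm)
  let f₀ : S →ₐ[A] B := (AlgEquiv.ofInjective ι hι).symm.toAlgHom.comp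
    ((ψ.comp S.val).codRestrict ι.range fun e => hle e.2)
  refine ⟨compl_lift p A S B f₀, ⟨fun f g => ?_⟩, fun hs f b => ?_⟩
  · have hof : ∀ e, f (algebraMap S (Compl p S) e) = g (algebraMap S (Compl p S) e) := fun e => by
      obtain ⟨k, c, hc⟩ := hfrac e
      refine hB.pow k ?_
      have : ∀ q : Compl p S →ₐ[A] B,
          (p : B) ^ k • q (algebraMap S (Compl p S) e) = algebraMap A B c := fun q => by
        rw [smul_eq_mul, ← map_natCast q p, ← map_pow, ← map_mul,
          ← map_natCast (algebraMap S (Compl p S)) p, ← map_pow, ← map_mul, hc]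
        exact q.commutes c
      exact (this f).trans (this g).symm
    exact IsAdicComplete.algHom_ext J fun n => AlgHom.ext fun x =>
      Ideal.Quotient.eq.2 (compl_congr p A S B f g hof n x)
  · obtain ⟨z, rfl⟩ := hs b
    exact ⟨algebraMap A _ z, f.commutes z⟩

end Groth.Agent.S19616
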