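import Groth.Statements.S19617
import Groth.Agent.PlaneCurveLib.Coh
import Groth.Agent.CurveSDLib.Splitting
import Groth.Agent.PnCohLib.Twist
import Groth.Agent.HilbObsLib.Induct
import Groth.Agent.EpsLib.DCExt
-- import your own Groth.Agent.* helpers here

set_option autoImplicit false
set_option linter.style.haveILetI false
universe u
open CategoryTheory CategoryTheory.Limits AlgebraicGeometry
open ArtFun

namespace Groth.Agent.S19617

open CategoryTheory.Limits in
/-- `Ext¹` out of an invertible module vanishes with the first cohomology of the twisted target. -/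
theorem subsingleton_ext_one_of_h1 (k : Type u) [Field k] {X : Scheme.{u}} [X.Over (Spec (CommRingCat.of k))]
    [EnoughInjectives X.Modules] [HasExt.{u} X.Modules] (P F : X.Modules) {L' : X.Modules} (hL' : PicF.IsInvertible L')
    (e : CohB1.tensorMod L' P ≅ Coh.structureModule X)
    (h1 : Subsingleton (Coh.HH X (CohB1.tensorMod L' F) 1)) : Subsingleton (Abelian.Ext.{u} P F 1) := by
  have hS := Groth.Agent.EpsLib.DC.embSeq_shortExact F
  refine (Groth.Agent.EpsLib.DC.subsingleton_ext_one_iff P F).2 ?_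
  generalize hSdef : Groth.Agent.EpsLib.DC.embSeq F = S at hS
  subst hSdef
  intro ρ
  let S := Groth.Agent.EpsLib.DC.embSeq F
  haveI := hS.mono_f
  haveI := hS.epi_g
  let T : ShortComplex X.Modules := ShortComplex.mk (pullback.lift S.f 0 (by rw [S.zero, zero_comp]) : S.X₁ ⟶ pullback S.g ρ)
    (pullback.snd S.g ρ) (pullback.lift_snd _ _ _)
  haveI hmono : Mono T.f := mono_of_mono_fac (pullback.lift_fst S.f 0 (by rw [S.zero, zero_comp]))
  have hT : T.ShortExact :=
    { exact := by
        refine ShortComplex.exact_of_f_is_kernel _ (KernelFork.IsLimit.ofι' _ _ fun {W} g hg => ?_)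
        have hg' : g ≫ pullback.snd S.g ρ = 0 := hg
        have h0 : (g ≫ pullback.fst S.g ρ) ≫ S.g = 0 := by
          rw [Category.assoc, pullback.condition, reassoc_of% hg', zero_comp]
        refine ⟨hS.exact.lift _ h0, ?_⟩
        refine pullback.hom_ext ?_ ?_
        · show (hS.exact.lift _ h0 ≫ pullback.lift S.f 0 _) ≫ pullback.fst S.g ρ = g ≫ pullback.fst S.g ρ
          rw [Category.assoc, pullback.lift_fst]
          exact hS.exact.lift_f _ h0
        · show (hS.exact.lift _ h0 ≫ pullback.lift S.f 0 _) ≫ pullback.snd S.g ρ = g ≫ pullback.snd S.g ρ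
          rw [Category.assoc, pullback.lift_snd, comp_zero, hg']
      mono_f := hmono
      epi_g := Abelian.epi_pullback_of_epi_f S.g ρ }
  haveI : IsSplitEpi T.g := CurveSDLib.isSplitEpi_of_h1 k hT hL' e h1
  refine ⟨(section_ T.g : P ⟶ pullback S.g ρ) ≫ pullback.fst S.g ρ, ?_⟩
  have hs : (section_ T.g : P ⟶ pullback S.g ρ) ≫ pullback.snd S.g ρ = 𝟙 _ := IsSplitEpi.id T.g
  rw [Category.assoc, pullback.condition, reassoc_of% hs]


/-- Let k be a field, n ≥ 1, d ≥ 1, and Z₀ = V(F) ⊂ Pⁿ_k the hypersurface of a nonzero form F of degree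
d, assumed smooth over k. Then the embedded deformations of Z₀ are unobstructed: for every
surjection A' → A of local Artinian k-algebras with residue field k whose kernel is killed by the
maximal ideal of A', every element of the local Hilbert functor of Z₀ ⊂ Pⁿ_k at A (a closed
subscheme of Pⁿ_k ×_k Spec A, flat over Spec A, restricting to Z₀ over the closed point) is the
restriction of an element at A'. -/
theorem result (k : Type u) [Field k] (n d : ℕ)
    (hn : 1 ≤ n) (hd : 1 ≤ d) (F : LefPen.Form n k d) (hF : F ≠ 0)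
    [Smooth ((LefPen.hypIdeal F).subschemeι ≫ CohB1.ProjSpace.toSpec n k)]
    ⦃A' A : ArtFun.Art k k⦄ (p : A' ⟶ A) (hp : ArtFun.Art.IsSemismallExt p) :
    Function.Surjective
      ((ArtFun.localHilb (CohB1.ProjSpace n k) (CohB1.ProjSpace.toSpec n k) (LefPen.hypIdeal F)).map p) := by
  classical
  let P := CohB1.ProjSpace n k
  letI : P.Over (Spec (CommRingCat.of k)) := ⟨CohB1.ProjSpace.toSpec n k⟩
  haveI : IsProper (CohB1.ProjSpace.toSpec n k) := ProjDegLib.toSpec_isProper k n
  haveI : EnoughInjectives P.Modules := inferInstance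
  haveI : HasExt.{u} P.Modules := hasExt_of_enoughInjectives.{u} _
  let I := LefPen.hypIdeal F
  obtain ⟨eI⟩ := PlaneCurveLib.nonempty_idealMod_iso F hF
  obtain ⟨e0⟩ := PicPnLib.twist_zero n k
  obtain ⟨e1⟩ := PicPnLib.twist_add n k (d : ℤ) (-(d : ℤ))
  let L' := Twist.twistProjSpace n k (d : ℤ)
  have hL' : PicF.IsInvertible L' := PicPnLib.twist_inv n k (d : ℤ)
  let e : CohB1.tensorMod L' (ClSub.idealMod I) ≅ Coh.structureModule P :=
    HilbPolyLib.congrRight _ eI ≪≫ e1 ≪≫ eqToIso (congrArg (Twist.twistProjSpace n k) (add_neg_cancel (d : ℤ))) ≪≫ e0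
  have h1 : Subsingleton (Coh.HH P (CohB1.tensorMod L' (ClSub.quotMod I)) 1) := by
    let S := CurvLib.idealSeq I
    have hS : S.ShortExact := CurvLib.idealSeq_shortExact I
    let T := S.map (CurvLib.tensorLeft' L')
    have hT : T.ShortExact :=
      CurvLib.shortExact_tensor_locFree (CurvLib.locFree_of_isInvertible hL') hS
    obtain ⟨e2⟩ := PicPnLib.twist_add n k (d : ℤ) 0
    have hmid : Subsingleton (Coh.HH P T.X₂ 1) := by
      haveI := PnCohLib.subsingleton_HH_twist (n := n) (R := k) ((d : ℤ) + 0) 1 (by omega) (by omega)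
      exact (CurvLib.hIso (k := k) (HilbPolyLib.congrRight L' e0.symm ≪≫ e2) 1).toEquiv.subsingleton
    have hleft : Subsingleton (Coh.HH P T.X₁ 2) := by
      haveI := PnCohLib.subsingleton_HH_twist (n := n) (R := k) 0 2 (by omega) (by omega)
      exact (CurvLib.hIso (k := k) (e ≪≫ e0.symm) 2).toEquiv.subsingleton
    show Subsingleton (Coh.HH P T.X₃ 1)
    refine subsingleton_of_forall_eq 0 fun y => ?_
    have hy : y ∈ LinearMap.ker (CurvLib.hDel (k := k) hT 1) := LinearMap.mem_ker.2 (hleft.elim _ _)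
    rw [← CurvLib.exact₃ hT 1] at hy
    obtain ⟨z, rfl⟩ := hy
    rw [hmid.elim z 0, map_zero]
  exact HilbObsLib.isSmoothFunctor (CohB1.ProjSpace.toSpec n k) I
    (subsingleton_ext_one_of_h1 k (ClSub.idealMod I) (ClSub.quotMod I) hL' e h1) p hp.1

end Groth.Agent.S19617
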