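import Groth.Statements.S19618
import Groth.Agent.CurvLib.Divisor
import Groth.Agent.EquidimLib.DimEquidim

set_option autoImplicit false
universe u
open CategoryTheory CategoryTheory.Limits AlgebraicGeometry Opposite TopologicalSpace
open BlowUp

namespace Groth.Agent.S19618

/-- Let X be a locally Noetherian scheme, Y an effective Cartier divisor on X (a quasi-coherent ideal
sheaf which, near every point, is generated on some affine open by one nonzerodivisor; Y is its
support) and Z a closed integral subscheme (a closed immersion i from an integral scheme with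
generic point ξ). If Y and Z intersect properly — every point ζ of Y ∩ Z which is maximal under
generization inside Y ∩ Z satisfies dim O_{X,ζ} = codim(Y,X) + codim(Z,X), where codim(Y,X) is the
infimum over y ∈ Y of dim O_{X,y} and codim(Z,X) = dim O_{X,i(ξ)} — then Z is not contained in Y. -/
theorem result {X Z : Scheme.{u}}
    [IsLocallyNoetherian X] (𝓘 : X.IdealSheafData) (hY : BlowUp.IsEffCartierIdeal 𝓘)
    (i : Z ⟶ X) [IsClosedImmersion i] [IsIntegral Z]
    (hprop : ∀ ζ : ↥X, ζ ∈ (𝓘.support : Set ↥X) ∩ Set.range i.base →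
        (∀ ζ' : ↥X, ζ' ∈ (𝓘.support : Set ↥X) ∩ Set.range i.base → ζ' ⤳ ζ → ζ' = ζ) →
        ringKrullDim ↑(X.presheaf.stalk ζ) =
          (⨅ y : (𝓘.support : Set ↥X), ringKrullDim ↑(X.presheaf.stalk y.1)) +
            ringKrullDim ↑(X.presheaf.stalk (i (genericPoint ↥Z)))) :
    ¬ Set.range i.base ⊆ (𝓘.support : Set ↥X) := by
  intro hsub
  let η := i (genericPoint ↥Z)
  have hη : η ∈ (𝓘.support : Set ↥X) ∩ Set.range i.base := ⟨hsub ⟨_, rfl⟩, _, rfl⟩
  have hmin : ∀ ζ' : ↥X, ζ' ∈ (𝓘.support : Set ↥X) ∩ Set.range i.base → ζ' ⤳ η → ζ' = η := by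
    rintro _ ⟨-, z, rfl⟩ h
    exact (h.antisymm (((genericPoint_spec Z).specializes trivial).map i.continuous)).eq
  have h := hprop η hη hmin
  obtain ⟨a, ha⟩ : ∃ a : ℕ, ringKrullDim (X.presheaf.stalk η) = a := by
    obtain ⟨h1, h2⟩ := finiteRingKrullDim_iff_ne_bot_and_top.1
      (inferInstance : FiniteRingKrullDim (X.presheaf.stalk η))
    cases hd : ringKrullDim (X.presheaf.stalk η) with
    | bot => exact absurd hd h1
    | coe d =>
      cases d with
      | top => exact absurd hd h2
      | coe d => exact ⟨d, rfl⟩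
  rw [ha] at h
  have h1 : (1 : WithBot ℕ∞) ≤ ⨅ y : (𝓘.support : Set ↥X), ringKrullDim ↑(X.presheaf.stalk y.1) := by
    refine le_iInf fun y => ?_
    obtain ⟨ω, hω, hne⟩ := CurvLib.exists_generization_of_mem hY y.2
    obtain ⟨Q, hQ⟩ := EquidimLib.exists_stalkPt hω
    have hlt : Q < IsLocalRing.closedPoint (X.presheaf.stalk y.1) := by
      refine lt_of_le_of_ne (IsLocalRing.le_maximalIdeal Q.isPrime.ne_top) fun e => hne ?_
      rw [← hQ, e]
      exact Scheme.fromSpecStalk_closedPoint
    have hpos : (0 : WithBot ℕ∞) < ringKrullDim (X.presheaf.stalk y.1) := Order.krullDim_pos_iff.2 ⟨Q, _, hlt⟩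
    revert hpos
    generalize ringKrullDim (X.presheaf.stalk y.1) = d
    intro hpos
    cases d with
    | bot => exact absurd hpos (not_lt_bot)
    | coe d => exact WithBot.coe_le_coe.2 (Order.one_le_iff_pos.2 (WithBot.coe_lt_coe.1 hpos))
  have h2 := le_of_le_of_eq (add_le_add_left h1 (a : WithBot ℕ∞)) h.symm
  have h3 : ((1 + a : ℕ) : WithBot ℕ∞) ≤ (a : WithBot ℕ∞) := by exact_mod_cast h2
  have h4 : 1 + a ≤ a := by exact_mod_cast h3
  omega

end Groth.Agent.S19618
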