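import Groth.Statements.S19621
import Mathlib
import Groth.Agent.CofiniteIndLib.Divisible
-- import your own Groth.Agent.* helpers here

set_option autoImplicit false
universe v
open IndCof

namespace Groth.Agent.S19621
open CategoryTheory.Limits Groth.Agent.CofiniteIndLib

open CategoryTheory CategoryTheory.Limits in
/-- Let C be a small abelian category all of whose objects are Artinian and killed by some positive
integer, and A an ind-object of C of cofinite type (A[n] is isomorphic to an object of C for every n
≥ 1). Then the following are equivalent: (i) the inverse system of copies of A indexed by the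
positive integers ordered by divisibility, with transition map from the m-th to the n-th copy
multiplication by m/n, is Mittag-Leffler (for every n the images of these maps in the n-th copy are
eventually constant): A is divisibly ML; (ii) A has a divisible sub-object B' (multiplication by
every positive integer is an epimorphism of B') such that A/B' is isomorphic to an object of C;
(iii) multiplication by p on A is an epimorphism for all but finitely many primes p. (The published
statement phrases (ii) as: A modulo its divisible part lies in C, and (iii) as: the p-primary part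
of A is divisible for almost all p; the divisible part is the largest divisible sub-object, and
multiplication by p on A is an epimorphism exactly when it is one on the p-primary part, the other
primary parts being uniquely p-divisible.) -/
theorem result {C : Type v} [SmallCategory C] [Abelian C]
    (hart : ∀ X : C, IsArtinianObject X)
    (htor : ∀ X : C, ∃ n : ℕ, 0 < n ∧ n • 𝟙 X = 0)
    (A : Ind C) (hA : ∀ n : ℕ, 0 < n → (Ind.yoneda (C := C)).essImage (kernel (n • 𝟙 A))) :
    ((∀ n : ℕ, 0 < n → ∃ m : ℕ, 0 < m ∧ n ∣ m ∧ ∀ m' : ℕ, 0 < m' → m ∣ m' →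
        imageSubobject ((m' / n) • 𝟙 A) = imageSubobject ((m / n) • 𝟙 A)) ↔
      ∃ B' : Subobject A, (∀ k : ℕ, 0 < k → Epi (k • 𝟙 (B' : Ind C))) ∧
        (Ind.yoneda (C := C)).essImage (cokernel B'.arrow)) ∧
    ((∃ B' : Subobject A, (∀ k : ℕ, 0 < k → Epi (k • 𝟙 (B' : Ind C))) ∧
        (Ind.yoneda (C := C)).essImage (cokernel B'.arrow)) ↔
      {p : ℕ | p.Prime ∧ ¬ Epi (p • 𝟙 A)}.Finite) := by
  have h23 : (∃ M : ℕ, 0 < M ∧ Stable A M) ↔
      ∃ B' : Subobject A, (∀ k : ℕ, 0 < k → Epi (k • 𝟙 (B' : Ind C))) ∧
        (Ind.yoneda (C := C)).essImage (cokernel B'.arrow) := by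
    constructor
    · rintro ⟨M, hM, h⟩
      refine ⟨_, fun k hk => h.epi hk, (Cof.isSmall_cokernel_mul hart htor hA hM).of_iso ?_⟩
      exact (cokernelIsoOfEq (imageSubobject_arrow_comp (M • 𝟙 A))).symm ≪≫
        cokernelEpiComp _ _
    · rintro ⟨B', hB', hc⟩
      refine stable_iff_exists_divisible.2 ⟨B', hB', ?_⟩
      obtain ⟨X, ⟨e⟩⟩ := hc
      obtain ⟨M, hM, hX⟩ := htor X
      refine ⟨M, hM, ?_⟩
      have h0 : M • 𝟙 ((Ind.yoneda (C := C)).obj X) = 0 := by
        rw [← (Ind.yoneda (C := C)).map_id, ← Functor.map_nsmul, hX, Functor.map_zero]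
      have : M • 𝟙 (cokernel B'.arrow) = e.inv ≫ (M • 𝟙 _) ≫ e.hom := by
        simp [Preadditive.comp_nsmul]
      rw [this, h0, zero_comp, comp_zero]
  refine ⟨ml_iff_exists_stable.trans h23, ⟨fun h => ?_, fun h => h23.1 (Cof.exists_stable_of_finite hart htor hA h)⟩⟩
  obtain ⟨M, hM, hst⟩ := h23.2 h
  refine (M.primeFactors.finite_toSet).subset ?_
  rintro p ⟨hp, hne⟩
  by_contra hpM
  refine hne (Preadditive.epi_of_cancel_zero _ fun g hg => ?_)
  have hpg : p • g = 0 := by rw [← mul_comp, hg]
  have hcop : Nat.Coprime M p := Nat.Coprime.symm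
    ((hp.coprime_iff_not_dvd).2 fun hd => hpM (Nat.mem_primeFactors.2 ⟨hp, hd, hM.ne'⟩))
  obtain ⟨T, π, _, y, hy⟩ := exists_refine_of_image_le _ _ (hst p hp.pos).ge
  refine eq_zero_of_coprime g hcop ?_ hpg
  refine zero_of_epi_comp π ?_
  have := hy =≫ g
  rw [Category.assoc, Category.assoc, mul_comp, mul_comp] at this
  rw [this, mul_smul, hpg, smul_zero, comp_zero]

end Groth.Agent.S19621
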