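import Groth.Statements.S19625
import Mathlib
import Groth.Agent.SurfNumLib.RR
import Groth.Agent.SurfNumLib.Config
import Groth.Agent.SurfNumLib.CastSev
import Groth.Agent.GenusZeroLib.Degrees
import Groth.Agent.IntFunLib.NefApps
import Groth.Agent.FLILib.Invertible
import Groth.Agent.HomCohLib.Adj
import Groth.Agent.AmpleThLib.Pow
-- import your own Groth.Agent.* helpers here

set_option autoImplicit false
universe u
open CategoryTheory CategoryTheory.Limits AlgebraicGeometry
open Surf

namespace Groth.Agent.S19625

/-- Let k be a field and S an integral surface (dimension two) which is smooth over k and projective (a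
closed immersion into some P^n_k over k). Let i : C → S be the closed immersion of an integral curve
(dimension one) all of whose local rings are regular, with ideal sheaf I ⊆ O_S, and let N =
Hom(i^*I, O_C) be the normal sheaf of C in S, the dual of the conormal sheaf i^*I (the sheaf Hom,
assumed to exist as the right adjoint of tensoring with i^*I). Then the self-intersection number
C·C, namely the intersection number of O_S(C) with itself computed as the alternating sum χ(O_S) −
2χ(I) + χ(I ⊗ I) with the inverse I = O_S(−C) of O_S(C) (packaged as FGA.intNum), equals the degree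
of N on C, the degree of a module M on C being χ(M) − χ(O_C). -/
theorem result (k : Type u) [Field k] (S : Scheme.{u}) [S.Over (Spec (CommRingCat.of k))]
    [IsIntegral S] (hdim : topologicalKrullDim S = 2) [Smooth (S ↘ (Spec (CommRingCat.of k)))]
    (hproj : ∃ (n : ℕ) (ι : S ⟶ CohB1.ProjSpace n k), IsClosedImmersion ι ∧ ι ≫ CohB1.ProjSpace.toSpec n k = (S ↘ (Spec (CommRingCat.of k))))
    (C : Scheme.{u}) (i : C ⟶ S) [IsClosedImmersion i] [IsIntegral C] (hC : topologicalKrullDim C = 1)
    (hCreg : ∀ c : C, IsRegularLocalRing (C.presheaf.stalk c))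
    [DCoh.HasSheafHom (Omega.conormal i)] :
    letI : C.Over (Spec (CommRingCat.of k)) := ⟨i ≫ (S ↘ (Spec (CommRingCat.of k)))⟩
    FGA.intNum k S 2 ![ClSub.idealMod i.ker, ClSub.idealMod i.ker] (Coh.structureModule S) =
      Curv2.deg k C ((DCoh.sheafHom (Omega.conormal i)).obj (Coh.structureModule C)) 1 := by
  letI : C.Over (Spec (CommRingCat.of k)) := ⟨i ≫ (S ↘ (Spec (CommRingCat.of k)))⟩
  have hS : topologicalKrullDim S = ((2 : ℕ) : WithBot ℕ∞) := hdim
  obtain ⟨n, ι, hι, hιc⟩ := hproj
  haveI := SurfNumLib.isProper_of_embedding (k := k) ι hιc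
  haveI := CurvLib.isNoetherian k (X := S)
  haveI : IsProper (C ↘ Spec (CommRingCat.of k)) :=
    inferInstanceAs (IsProper (i ≫ (S ↘ (Spec (CommRingCat.of k)))))
  haveI : IsIntegral i.ker.subscheme := IsIntegral.of_isIso i.toImage
  have hd : topologicalKrullDim (i.ker.support : Set S) = 1 := by
    rw [Scheme.Hom.support_ker, i.isClosedEmbedding.isClosed_range.closure_eq, ← hC]
    exact (i.isEmbedding.toHomeomorph.isHomeomorph.topologicalKrullDim_eq).symm
  have hJ := SurfNumLib.isEffCartier_curve k hS (WeilExtLib.isRegular_stalk_smooth (S ↘ Spec (CommRingCat.of k))) i.ker hd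
  have hI := IntMultLib.isInvertible_idealMod _ hJ
  let M : C.Modules := Omega.conormal i
  have hM : PicF.IsInvertible M := AmpleDevLib.isInvertible_pb i hI
  have hdual := MiscFlat6.dual_isInvertible hM
  obtain ⟨e⟩ := MiscFlat6.nonempty_dualIso hM
  haveI := CurvLib.isNoetherian k (X := C)
  have h1 := GenusZeroLib.deg_tensor k hC hM hdual
  rw [CurvLib.deg_congr (k := k) e,
    show Curv2.deg k C (Coh.structureModule C) 1 = 0 by rw [Curv2.deg]; push_cast; ring] at h1
  rw [CurvLib.deg_congr (k := k) (HomCohLib.sheafHomIso M (Coh.structureModule C) ≪≫ FLI.homModIso e _ ≪≫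
    HilbPolyLib.swapIso _ _ ≪≫ HilbPolyLib.unitLeft _)]
  rw [SurfNumLib.intNum_eq_pr hS.le, HodgeIdxLib.pr, HodgeIdxLib.N_unit]
  have hadd := IntFunLib.N_add (k := k) (l := [ClSub.idealMod i.ker]) (by simpa using hI) (CurvLib.idealSeq_shortExact i.ker)
    (CurvLib.isCoh_of_isInvertible hI) (DevissLib.isCoh_structureModule S) (CurvLib.isCoh_quotMod _)
  change IntFunLib.N k [ClSub.idealMod i.ker] (Coh.structureModule S) = IntFunLib.N k [ClSub.idealMod i.ker] (ClSub.idealMod i.ker) +
    IntFunLib.N k [ClSub.idealMod i.ker] (ClSub.quotMod i.ker) at hadd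
  haveI : Coh.IsQCoh (Coh.structureModule C) := QCohLib.isQCoh_unit
  have h2 := IntFunLib.N_push (k := k) (g := i) rfl (l := [ClSub.idealMod i.ker]) (by simpa using hI)
    (DevissLib.isCoh_structureModule C) ((topologicalKrullDim_subspace_le _ _).trans (by rw [hC]; simp))
  rw [← IntFunLib.N_congr (k := k) _ (SurfNumLib.quotMod_ker_iso i).some] at h2
  change IntFunLib.N k [M] (Coh.structureModule C) = _ at h2
  rw [← IntFunLib.euler_sub_eq_N] at h2
  skip
  simp only [Curv2.deg] at h1 ⊢
  push_cast at h1 ⊢
  omega

end Groth.Agent.S19625
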