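import Groth.Statements.S19628
import Mathlib
import Groth.Agent.ExtBCLib.DeRham
-- import your own Groth.Agent.* helpers here

set_option autoImplicit false
set_option maxHeartbeats 2000000
set_option backward.isDefEq.respectTransparency false
universe u
open DeRham

namespace Groth.Agent.S19628

open scoped TensorProduct

theorem ker_range_eq {k K V W V' W' : Type u} [Field k] [Field K] [Algebra k K] [AddCommGroup V]
    [Module k V] [AddCommGroup W] [Module k W] [AddCommGroup V'] [Module K V'] [AddCommGroup W']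
    [Module K W'] (f : V →ₗ[k] W) (f' : V' →ₗ[K] W') (α : V → V') (β : W → W')
    (Φ : K ⊗[k] V ≃ₗ[K] V') (Φ' : K ⊗[k] W ≃ₗ[K] W') (hΦ : ∀ c x, Φ (c ⊗ₜ x) = c • α x)
    (hΦ' : ∀ c x, Φ' (c ⊗ₜ x) = c • β x) (hf : ∀ x, β (f x) = f' (α x)) :
    Submodule.span K (α '' (LinearMap.ker f : Set V)) = LinearMap.ker f' ∧
      Submodule.span K (β '' (LinearMap.range f : Set W)) = LinearMap.range f' := by
  have key : ∀ t, f' (Φ t) = Φ' (f.baseChange K t) := fun t => by
    induction t with
    | zero => simp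
    | add a b ha hb => simp [ha, hb]
    | tmul c x => simp [hΦ, hΦ', hf]
  constructor
  · refine le_antisymm (Submodule.span_le.2 ?_) fun y hy => ?_
    · rintro - ⟨x, hx, rfl⟩
      rw [SetLike.mem_coe, LinearMap.mem_ker, ← hf, show f x = 0 from hx]
      simpa using (hΦ' 1 0).symm
    · obtain ⟨t, rfl⟩ := Φ.surjective y
      rw [LinearMap.mem_ker, key, LinearEquiv.map_eq_zero_iff] at hy
      obtain ⟨s, rfl⟩ := (Module.Flat.lTensor_exact K (LinearMap.exact_subtype_ker_map f) t).1 hy
      induction s with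
      | zero => simp
      | add a b ha hb =>
        rw [map_add, map_add]
        have hker : ∀ s, f.baseChange K ((LinearMap.ker f).subtype.lTensor K s) = 0 := fun s =>
          (Module.Flat.lTensor_exact K (LinearMap.exact_subtype_ker_map f) _).2 ⟨s, rfl⟩
        exact Submodule.add_mem _ (ha (hker a)) (hb (hker b))
      | tmul c x =>
        rw [LinearMap.lTensor_tmul, hΦ]
        exact Submodule.smul_mem _ _ (Submodule.subset_span ⟨x, x.2, rfl⟩)
  · refine le_antisymm (Submodule.span_le.2 ?_) ?_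
    · rintro - ⟨-, ⟨x, rfl⟩, rfl⟩
      exact ⟨α x, (hf x).symm⟩
    · rintro - ⟨y, rfl⟩
      obtain ⟨t, rfl⟩ := Φ.surjective y
      induction t with
      | zero => simp
      | add a b ha hb => rw [map_add, map_add]; exact Submodule.add_mem _ ha hb
      | tmul c x =>
        rw [key, LinearMap.baseChange_tmul, hΦ']
        exact Submodule.smul_mem _ _ (Submodule.subset_span ⟨f x, ⟨x, rfl⟩, rfl⟩)


open exteriorPower in
/-- In the affine case, at ring level, let k ⊆ K be an extension of fields of characteristic zero, A a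
smooth k-algebra and A' = K ⊗_k A (a pushout square of commutative rings with the scalar-tower
conventions). Let d be the de Rham differential of A over k, d' that of A' over K, and ψ the map of
de Rham complexes induced by A → A', assumed compatible with d and d'. Then for every p the K-span
of ψ(closed p-forms of A/k) is the module of closed p-forms of A'/K, and the K-span of ψ(exact
p-forms of A/k) is the module of exact p-forms of A'/K. Together with the degreewise base-change
bijection for exterior powers of differentials, this says that the natural map H^p_dR(A/k) ⊗_k K →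
H^p_dR(A'/K) is an isomorphism. (The source states the isomorphism H^i_dR(X) ⊗_k K ≅ H^i_dR(X_K) for
a smooth variety X, induced by a quasi-isomorphism of complexes; this row is the case of an affine
X, phrased through closed and exact forms.) -/
theorem result
    (k K : Type u) [Field k] [Field K] [CharZero k] [Algebra k K]
    (A A' : Type u) [CommRing A] [CommRing A'] [Algebra k A] [Algebra.Smooth k A]
    [Algebra A A'] [Algebra k A'] [IsScalarTower k A A'] [Algebra K A'] [IsScalarTower k K A']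
    [Algebra.IsPushout k K A A']
    (d : ∀ p : ℕ, ↥(⋀[A]^p (Ω[A⁄k])) →ₗ[k] ↥(⋀[A]^(p + 1) (Ω[A⁄k])))
    (hd : DeRham.IsDiff (KaehlerDifferential.D k A) d)
    (d' : ∀ p : ℕ, ↥(⋀[A']^p (Ω[A'⁄K])) →ₗ[K] ↥(⋀[A']^(p + 1) (Ω[A'⁄K])))
    (hd' : DeRham.IsDiff (KaehlerDifferential.D K A') d')
    (ψ : ∀ p : ℕ, ↥(⋀[A]^p (Ω[A⁄k])) →+ ↥(⋀[A']^p (Ω[A'⁄K])))
    (hψ : DeRham.IsCxMap (KaehlerDifferential.D k A) (KaehlerDifferential.D K A') (algebraMap A A') ψ)
    (hcomm : ∀ (p : ℕ) (x : ↥(⋀[A]^p (Ω[A⁄k]))), ψ (p + 1) (d p x) = d' p (ψ p x))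
    (p : ℕ) :
    Submodule.span K (ψ p '' (DeRham.cocycles d p : Set ↥(⋀[A]^p (Ω[A⁄k])))) = DeRham.cocycles d' p ∧
      Submodule.span K (ψ p '' (DeRham.coboundaries d p : Set ↥(⋀[A]^p (Ω[A⁄k])))) =
        DeRham.coboundaries d' p := by
  haveI := ExtBC.smulCommClass' K A A'
  let e : A' ⊗[A] Ω[A⁄k] ≃ₗ[A'] Ω[A'⁄K] := KaehlerDifferential.tensorKaehlerEquiv k K A A'
  have hψ' : ∀ q x, ψ q x = ExtBC.mapRestrict (ExtBC.incl e) q x := fun q => by
    have h : ψ q = (ExtBC.mapRestrict (B := A') (ExtBC.incl e) q).toAddMonoidHom := by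
      refine ExtBC.addHom_ext_gen _ _ fun b₀ b => ?_
      rw [hψ q b₀ b]
      simp only [DeRham.gen, LinearMap.toAddMonoidHom_coe, map_smul, ExtBC.mapRestrict_ιMulti,
        algebraMap_smul]
      congr 2
      funext i
      show _ = e (1 ⊗ₜ KaehlerDifferential.D k A (b i))
      rw [KaehlerDifferential.tensorKaehlerEquiv_tmul_D, one_smul]
    exact fun x => by rw [h]; rfl
  let Φ : ∀ q : ℕ, K ⊗[k] ↥(⋀[A]^q (Ω[A⁄k])) ≃ₗ[K] ↥(⋀[A']^q (Ω[A'⁄K])) := fun q =>
    (Algebra.IsPushout.cancelBaseChange k K A A' ↥(⋀[A]^q (Ω[A⁄k]))).symm.trans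
      ((LinearEquiv.ofBijective (ExtBC.chi e q)
        ⟨ExtBC.chi_injective _ q, ExtBC.chi_surjective _ q⟩).restrictScalars K)
  have hΦ : ∀ q c x, Φ q (c ⊗ₜ x) = c • ψ q x := fun q c x => by
    show ExtBC.chi e q ((Algebra.IsPushout.cancelBaseChange k K A A' _).symm (c ⊗ₜ x)) = _
    rw [Algebra.IsPushout.cancelBaseChange_symm_tmul, ExtBC.chi_tmul, hψ', algebraMap_smul]
  refine ⟨(ker_range_eq (d p) (d' p) (ψ p) (ψ (p + 1)) (Φ p) (Φ (p + 1)) (hΦ p) (hΦ (p + 1))
    (hcomm p)).1, ?_⟩
  match p with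
  | 0 => simp [DeRham.coboundaries]
  | p + 1 => exact (ker_range_eq (d p) (d' p) (ψ p) (ψ (p + 1)) (Φ p) (Φ (p + 1)) (hΦ p)
      (hΦ (p + 1)) (hcomm p)).2

end Groth.Agent.S19628
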