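import Groth.Statements.S19631
import Groth.Agent.CoskFinLib


set_option autoImplicit false
set_option linter.all false
universe u
open Hyper

namespace Groth.Agent.S19631

open CategoryTheory CategoryTheory.Limits Opposite

universe v w

theorem cosk0 {C : Type w} [Category.{v} C] [HasFiniteProducts C] (X : C) :
    SimplicialObject.IsCoskeletal (cechNerveTerminalFrom X) 0 := by
  let L := (SimplexCategory.Truncated.inclusion 0).op
  let t0 : SimplexCategory.Truncated 0 := ⟨SimplexCategory.mk 0, le_rfl⟩
  let U := cechNerveTerminalFrom X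
  have h : (Functor.RightExtension.mk U (𝟙 (L ⋙ U))).IsPointwiseRightKanExtension := fun Y => by
    let v : Fin (Y.unop.len + 1) → StructuredArrow Y L := fun i =>
      StructuredArrow.mk (Y := op t0) (SimplexCategory.const (SimplexCategory.mk 0) Y.unop i).op
    refine
      { lift := fun s => Pi.lift fun i => s.π.app (v i) ≫ Pi.π _ 0
        fac := fun s j => ?_
        uniq := fun s m hm => ?_ }
    · obtain ⟨⟨⟨⟩⟩, r, g⟩ := j
      obtain ⟨⟨⟨n⟩, hn⟩⟩ := r
      obtain rfl : n = 0 := Nat.le_zero.1 hn
      show Pi.lift (fun i => s.π.app (v i) ≫ Pi.π _ 0) ≫ U.map g ≫ 𝟙 _ = _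
      rw [Category.comp_id]
      refine Pi.hom_ext _ _ fun k => ?_
      obtain rfl : k = 0 := Subsingleton.elim (α := Fin 1) _ _
      have hg : g = (SimplexCategory.const (SimplexCategory.mk 0) Y.unop (g.unop.toOrderHom 0)).op := by
        apply Quiver.Hom.unop_inj
        ext i
        rw [Subsingleton.elim (α := Fin 1) i 0]
        rfl
      refine (Category.assoc _ _ _).trans ?_
      refine (congrArg (fun z => _ ≫ z) (Limits.Pi.lift_π (fun i => Pi.π (fun _ : Fin (Y.unop.len + 1) => X)
        (g.unop.toOrderHom i)) (0 : Fin 1))).trans ?_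
      refine (Limits.Pi.lift_π _ _).trans ?_
      show s.π.app (StructuredArrow.mk (Y := op t0)
        (SimplexCategory.const (SimplexCategory.mk 0) Y.unop (g.unop.toOrderHom 0)).op) ≫ _ = _
      rw [← hg]
      rfl
    · refine Pi.hom_ext _ _ fun i => ?_
      refine Eq.trans ?_ (Limits.Pi.lift_π (fun i => s.π.app (v i) ≫ Pi.π (fun _ : Fin 1 => X) 0) i).symm
      rw [← hm (v i)]
      refine Eq.trans ?_ (Category.assoc _ _ _).symm
      refine congrArg (fun z => m ≫ z) ?_
      refine Eq.trans ?_ (Category.assoc _ _ _).symm
      refine Eq.trans ?_ (congrArg (fun z => _ ≫ z) (Category.id_comp _)).symm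
      exact (Limits.Pi.lift_π (fun _ : Fin 1 => Pi.π (fun _ : Fin (Y.unop.len + 1) => X) i) 0).symm
  exact ⟨h.isRightKanExtension⟩


open CategoryTheory CategoryTheory.Limits AlgebraicGeometry in
/-- Let f : X → Y be a morphism of schemes and X_• = cosk_0^Y(X) its Čech nerve, the simplicial scheme
over Y with X_p = X ×_Y ⋯ ×_Y X (p + 1 factors), face maps the projections forgetting one factor and
degeneracies induced by diagonals. Then X_•, as a simplicial object of the category of schemes over
Y, is n-coskeletal for every n, i.e. the adjunction morphisms X_• → cosk_n sk_n X_• (coskeleta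
relative to Y) are isomorphisms. In the source this is phrased as: for a class S of covering maps of
varieties containing the identities, X_• → Y is an S-hypercover whenever X → Y lies in S, the
adjunction maps X_p → (cosk_{p-1} sk_{p-1} X_•)_p being isomorphisms for p ≥ 1 and X_0 → Y being f.
(Stated for arbitrary schemes; the source has varieties over a field.) -/
theorem result (X Y : Scheme.{u}) (f : X ⟶ Y) (n : ℕ) :
    SimplicialObject.IsCoskeletal (cechNerveTerminalFrom (Over.mk f)) n := by
  haveI := cosk0 (Over.mk f)
  exact Groth.Agent.CoskFinLib.isCoskeletal_mono _ (Nat.zero_le n)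

end Groth.Agent.S19631
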