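import Groth.Statements.S19632
import Groth.Agent.EulerDerLib
import Mathlib


-- import your own Groth.Agent.* helpers here

set_option autoImplicit false
universe u
open DeRham

namespace Groth.Agent.S19632

/-- Let k be a field of characteristic zero and G_m = Spec k[t, t⁻¹] the multiplicative group. The
kernel of the differential d : k[t, t⁻¹] → Ω¹ of the de Rham complex of G_m consists of the
constants: for a Laurent polynomial f, df = 0 if and only if f lies in the image of k. Equivalently
H^0_dR(G_m/k) = k. (Characteristic zero is used: in characteristic p the element t^p is closed.) -/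
theorem result (k : Type u) [Field k] [CharZero k]
    (f : LaurentPolynomial k) :
    KaehlerDifferential.D k (LaurentPolynomial k) f = 0 ↔ f ∈ Set.range (algebraMap k (LaurentPolynomial k)) := by
  constructor
  · intro h
    obtain ⟨E, hE⟩ := EulerDerLib.exists_euler k
    have h0 : E f = 0 := by
      rw [← E.liftKaehlerDifferential_comp_D f, h, map_zero]
    refine ⟨f.coeff 0, ?_⟩
    ext n
    have h1 : (n : k) * f.coeff n = 0 := by rw [← hE, h0]; rfl
    by_cases hn : n = 0
    · subst hn; rw [show algebraMap k (LaurentPolynomial k) (f.coeff 0) = LaurentPolynomial.C (f.coeff 0) from rfl, LaurentPolynomial.C_apply, if_pos rfl]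
    · rw [mul_eq_zero] at h1
      rcases h1 with h1 | h1
      · exact absurd (Int.cast_eq_zero.1 h1) hn
      · rw [show algebraMap k (LaurentPolynomial k) (f.coeff 0) = LaurentPolynomial.C (f.coeff 0) from rfl, LaurentPolynomial.C_apply, if_neg hn, h1]
  · rintro ⟨c, rfl⟩
    exact Derivation.map_algebraMap _ _

end Groth.Agent.S19632
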