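import Groth.Statements.S19633
import Groth.Agent.EulerDerLib
import Mathlib

set_option autoImplicit false
set_option backward.isDefEq.respectTransparency false
universe u
open DeRham

namespace Groth.Agent.S19633

open exteriorPower in
/-- Let k be a field of characteristic zero, G_m = Spec k[t, t⁻¹], and d the de Rham differential of
k[t, t⁻¹] over k. Then: every 1-form is closed; the exact 1-forms and the k-line spanned by t⁻¹ dt
are complementary subspaces of the 1-forms, and t⁻¹ dt is not exact — so H^1_dR(G_m/k) is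
one-dimensional, generated by the class of dt/t (the isomorphism with k being the residue); and for
every i ≥ 2 the closed i-forms are exact, so H^i_dR(G_m/k) = 0 for i > 1. (Characteristic zero is
used in the computation of the exact forms.) -/
theorem result (k : Type u) [Field k] [CharZero k]
    (d : ∀ p : ℕ, ↥(⋀[LaurentPolynomial k]^p (Ω[LaurentPolynomial k⁄k])) →ₗ[k] ↥(⋀[LaurentPolynomial k]^(p + 1) (Ω[LaurentPolynomial k⁄k])))
    (hd : DeRham.IsDiff (KaehlerDifferential.D k (LaurentPolynomial k)) d) :
    DeRham.cocycles d 1 = ⊤ ∧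
    IsCompl (DeRham.coboundaries d 1)
      (Submodule.span k {DeRham.gen (KaehlerDifferential.D k (LaurentPolynomial k)) 1
        (LaurentPolynomial.T (-1)) (fun _ => LaurentPolynomial.T 1)}) ∧
    DeRham.gen (KaehlerDifferential.D k (LaurentPolynomial k)) 1
        (LaurentPolynomial.T (-1)) (fun _ => LaurentPolynomial.T 1) ∉ DeRham.coboundaries d 1 ∧
    ∀ i : ℕ, DeRham.cocycles d (i + 2) ≤ DeRham.coboundaries d (i + 2) := by
  classical
  obtain ⟨E, hE⟩ := EulerDerLib.exists_euler k
  let δ := KaehlerDifferential.D k (LaurentPolynomial k)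
  let ω : Ω[LaurentPolynomial k⁄k] := δ (LaurentPolynomial.T 1)
  let ℓ := E.liftKaehlerDifferential
  have hET : E (LaurentPolynomial.T 1) = LaurentPolynomial.T 1 := by
    ext n
    rw [hE]
    simp only [LaurentPolynomial.T_apply]
    split_ifs with h
    · subst h; simp
    · simp
  have hinv : LaurentPolynomial.T (-1) * LaurentPolynomial.T 1 = (1 : LaurentPolynomial k) := by
    rw [← LaurentPolynomial.T_add, show (-1 : ℤ) + 1 = 0 by norm_num, LaurentPolynomial.T_zero]
  have hℓω : ℓ ω = LaurentPolynomial.T 1 := (E.liftKaehlerDifferential_comp_D _).trans hET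
  -- the forms of degree one are multiples of `dt`
  have hTn : ∀ n : ℤ, δ (LaurentPolynomial.T n) ∈ Submodule.span (LaurentPolynomial k) {ω} := by
    intro n
    induction n using Int.induction_on with
    | zero => rw [LaurentPolynomial.T_zero, Derivation.map_one_eq_zero]; exact Submodule.zero_mem _
    | succ i hi =>
      rw [LaurentPolynomial.T_add, Derivation.leibniz]
      exact Submodule.add_mem _ (Submodule.smul_mem _ _ (Submodule.mem_span_singleton_self _)) (Submodule.smul_mem _ _ hi)
    | pred i hi =>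
      have h := congrArg δ (LaurentPolynomial.T_add (R := k) (-(i : ℤ) - 1) 1)
      rw [sub_add_cancel, Derivation.leibniz] at h
      have h' : (LaurentPolynomial.T (1 : ℤ) : LaurentPolynomial k) • δ (LaurentPolynomial.T (-(i : ℤ) - 1)) ∈
          Submodule.span (LaurentPolynomial k) {ω} := by
        rw [eq_sub_of_add_eq' h.symm]
        exact Submodule.sub_mem _ hi (Submodule.smul_mem _ _ (Submodule.mem_span_singleton_self _))
      have h'' := Submodule.smul_mem _ (LaurentPolynomial.T (-1) : LaurentPolynomial k) h'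
      rwa [smul_smul, hinv, one_smul] at h''
  have hspan : ∀ x : Ω[LaurentPolynomial k⁄k], ∃ a : LaurentPolynomial k, a • ω = x := by
    intro x
    refine Submodule.mem_span_singleton.1 ?_
    have hx : x ∈ Submodule.span (LaurentPolynomial k) (Set.range δ) := by
      rw [KaehlerDifferential.span_range_derivation]; exact Submodule.mem_top
    refine (Submodule.span_le.2 ?_) hx
    rintro _ ⟨f, rfl⟩
    induction f using LaurentPolynomial.induction_on' with
    | add f g hf hg => rw [map_add]; exact Submodule.add_mem _ hf hg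
    | C_mul_T n a =>
      rw [← LaurentPolynomial.smul_eq_C_mul, Derivation.map_smul]
      exact Submodule.smul_of_tower_mem _ a (hTn n)
  have hℓ : Function.Injective ℓ := by
    rw [injective_iff_map_eq_zero]
    intro x hx
    obtain ⟨a, rfl⟩ := hspan x
    rw [map_smul, hℓω, smul_eq_mul] at hx
    rw [show a = a * LaurentPolynomial.T 1 * LaurentPolynomial.T (-1) by
      rw [mul_assoc, mul_comm (LaurentPolynomial.T 1), hinv, mul_one], hx, zero_mul, zero_smul]
  -- higher forms vanish
  have hvan : ∀ p : ℕ, ∀ x : ↥(⋀[LaurentPolynomial k]^(p + 2) (Ω[LaurentPolynomial k⁄k])), x = 0 := by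
    intro p x
    have hx : x ∈ Submodule.span (LaurentPolynomial k) (Set.range (ιMulti (LaurentPolynomial k) (p + 2)
        (M := Ω[LaurentPolynomial k⁄k]))) := by
      rw [ιMulti_span]; exact Submodule.mem_top
    induction hx using Submodule.span_induction with
    | mem y hy =>
      obtain ⟨m, rfl⟩ := hy
      choose a ha using fun i => hspan (m i)
      rw [show m = fun i => a i • ω from funext fun i => (ha i).symm, AlternatingMap.map_smul_univ]
      rw [(ιMulti (LaurentPolynomial k) (p + 2)).map_eq_zero_of_eq (fun _ => ω) (i := 0) (j := 1) rfl (by simp), smul_zero]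
    | zero => rfl
    | add _ _ _ _ h h' => rw [h, h', add_zero]
    | smul c _ _ h => rw [h, smul_zero]
  let φ : ↥(⋀[LaurentPolynomial k]^1 (Ω[LaurentPolynomial k⁄k])) →ₗ[k] LaurentPolynomial k :=
    (ℓ.restrictScalars k) ∘ₗ ((oneEquiv (LaurentPolynomial k) (Ω[LaurentPolynomial k⁄k])).restrictScalars k).toLinearMap
  have hφ : Function.Injective φ := hℓ.comp (oneEquiv _ _).injective
  have hd0 : ∀ x, ∃ f : LaurentPolynomial k, x = DeRham.gen δ 0 f Fin.elim0 := fun x => by
    refine ⟨zeroEquiv _ _ x, (zeroEquiv (LaurentPolynomial k) (Ω[LaurentPolynomial k⁄k])).injective ?_⟩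
    rw [DeRham.gen, map_smul, zeroEquiv_ιMulti, smul_eq_mul, mul_one]
  have hφd : ∀ f : LaurentPolynomial k, φ (d 0 (DeRham.gen δ 0 f Fin.elim0)) = E f := fun f => by
    rw [hd.1 0 f Fin.elim0]
    show ℓ (oneEquiv _ _ (ιMulti _ 1 _)) = _
    rw [oneEquiv_ιMulti]
    exact E.liftKaehlerDifferential_comp_D f
  let η := DeRham.gen δ 1 (LaurentPolynomial.T (-1)) (fun _ => LaurentPolynomial.T 1)
  have hη : φ η = 1 := by
    show ℓ (oneEquiv _ _ (LaurentPolynomial.T (-1) • ιMulti _ 1 _)) = _
    rw [map_smul, oneEquiv_ιMulti, map_smul]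
    show LaurentPolynomial.T (-1) • ℓ ω = _
    rw [hℓω, smul_eq_mul, hinv]
  have hcb : ∀ x ∈ DeRham.coboundaries d 1, (φ x).coeff 0 = 0 := by
    rintro _ ⟨y, rfl⟩
    obtain ⟨f, rfl⟩ := hd0 y
    rw [hφd, hE, Int.cast_zero, zero_mul]
  have hc1 : ∀ c : k, (φ (c • η)).coeff 0 = c := fun c => by
    rw [map_smul, hη]
    show (c • (1 : LaurentPolynomial k)).coeff 0 = c
    rw [← LaurentPolynomial.T_zero, AddMonoidAlgebra.coeff_smul, Finsupp.smul_apply, LaurentPolynomial.T_apply,
      if_pos rfl, smul_eq_mul, mul_one]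
  refine ⟨?_, ⟨?_, ?_⟩, fun h => ?_, fun i x _ => ?_⟩
  · exact eq_top_iff.2 fun x _ => LinearMap.mem_ker.2 (hvan 0 _)
  · rw [Submodule.disjoint_def]
    intro x hx hx'
    obtain ⟨c, rfl⟩ := Submodule.mem_span_singleton.1 hx'
    have h := hcb _ hx
    rw [hc1] at h
    rw [h, zero_smul]
  · rw [codisjoint_iff, eq_top_iff]
    intro x _
    let g := φ x
    let f : LaurentPolynomial k := AddMonoidAlgebra.ofCoeff
      (Finsupp.onFinset g.coeff.support (fun n : ℤ => g.coeff n / (n : k)) (fun n hn =>
        Finsupp.mem_support_iff.2 fun h0 => hn (by rw [h0, zero_div])))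
    refine Submodule.mem_sup.2 ⟨d 0 (DeRham.gen δ 0 f Fin.elim0), LinearMap.mem_range.2 ⟨_, rfl⟩, g.coeff 0 • η,
      Submodule.smul_mem _ _ (Submodule.mem_span_singleton_self _), hφ ?_⟩
    rw [map_add, hφd, map_smul, hη]
    ext n
    rw [AddMonoidAlgebra.coeff_add, Finsupp.add_apply, hE, AddMonoidAlgebra.coeff_smul, Finsupp.smul_apply,
      ← LaurentPolynomial.T_zero, LaurentPolynomial.T_apply]
    show (n : k) * (g.coeff n / (n : k)) + g.coeff 0 • (if (0 : ℤ) = n then (1 : k) else 0) = g.coeff n
    by_cases hn : n = 0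
    · subst hn; simp
    · rw [if_neg (Ne.symm hn), smul_zero, add_zero, mul_div_cancel₀ _ (Int.cast_ne_zero.2 hn)]
  · have h1 := hcb _ h
    have h2 := hc1 1
    rw [one_smul] at h2
    exact one_ne_zero (h2.symm.trans h1)
  · rw [hvan i x]; exact Submodule.zero_mem _

end Groth.Agent.S19633
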