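import Groth.Statements.S19634
import Mathlib
import Mathlib
-- import your own Groth.Agent.* helpers here

set_option autoImplicit false
universe u
open DeRham

namespace Groth.Agent.S19634

/-- Let k be a field of characteristic zero and A = k[X, Y]/(XY), the coordinate ring of two affine
lines crossing in a point. In the naive de Rham complex A → Ω¹_{A/k} the kernel of d consists of the
constants: dP = 0 if and only if P is in the image of k. -/
theorem result (k : Type u) [Field k] [CharZero k]
    (P : MvPolynomial (Fin 2) k ⧸ Ideal.span {(MvPolynomial.X 0 * MvPolynomial.X 1 : MvPolynomial (Fin 2) k)}) :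
    KaehlerDifferential.D k (MvPolynomial (Fin 2) k ⧸ Ideal.span {(MvPolynomial.X 0 * MvPolynomial.X 1 : MvPolynomial (Fin 2) k)}) P = 0 ↔
      P ∈ Set.range (algebraMap k (MvPolynomial (Fin 2) k ⧸ Ideal.span {(MvPolynomial.X 0 * MvPolynomial.X 1 : MvPolynomial (Fin 2) k)})) := by
  classical
  constructor
  swap
  · rintro ⟨c, rfl⟩; exact Derivation.map_algebraMap _ c
  intro hP
  obtain ⟨G, rfl⟩ := Ideal.Quotient.mk_surjective P
  have hcoef : ∀ i j : Fin 2, i ≠ j → ∀ (n : ℕ) (H : MvPolynomial (Fin 2) k),
      ((MvPolynomial.aeval (fun l : Fin 2 => if l = i then (Polynomial.X : Polynomial k) else 0)) H).coeff n = MvPolynomial.coeff (Finsupp.single i n) H := by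
    intro i j hij n H
    induction H using MvPolynomial.induction_on' with
    | add p q hp hq => rw [map_add, Polynomial.coeff_add, MvPolynomial.coeff_add, hp, hq]
    | monomial d c =>
      rw [MvPolynomial.aeval_monomial, MvPolynomial.coeff_monomial]
      by_cases hd : d j = 0
      · obtain ⟨m, rfl⟩ : ∃ m, d = Finsupp.single i m := ⟨d i, by
          ext l
          rcases eq_or_ne l i with rfl | hl
          · simp
          · rw [Finsupp.single_eq_of_ne hl, show l = j by omega, hd]⟩
        erw [Finsupp.prod_single_index (h := fun l e => (if l = i then (Polynomial.X : Polynomial k) else 0) ^ e) (pow_zero _)]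
        rw [if_pos rfl]
        simp only [(Finsupp.single_injective i).eq_iff]
        simp [Polynomial.coeff_X_pow, eq_comm]
      · rw [if_neg (fun h => hd (by rw [h, Finsupp.single_eq_of_ne hij.symm])),
          show (d.prod fun l e => (if l = i then (Polynomial.X : Polynomial k) else 0) ^ e) = 0 from
            Finset.prod_eq_zero (Finsupp.mem_support_iff.2 hd) (by simp [hij.symm, hd]), mul_zero, Polynomial.coeff_zero]
  have key : ∀ i j : Fin 2, i ≠ j → ∀ n : ℕ, (Polynomial.derivative ((MvPolynomial.aeval (fun l : Fin 2 => if l = i then (Polynomial.X : Polynomial k) else 0)) G)) = 0 ∧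
      ((MvPolynomial.aeval (fun l : Fin 2 => if l = i then (Polynomial.X : Polynomial k) else 0)) G).coeff n = MvPolynomial.coeff (Finsupp.single i n) G := by
    intro i j hij n
    set φ := MvPolynomial.aeval (R := k) (fun l : Fin 2 => if l = i then (Polynomial.X : Polynomial k) else 0) with hφ
    have hker : ∀ a ∈ Ideal.span {(MvPolynomial.X 0 * MvPolynomial.X 1 : MvPolynomial (Fin 2) k)}, φ a = 0 := fun a ha => by
      obtain ⟨r, rfl⟩ := Ideal.mem_span_singleton'.1 ha
      rw [map_mul, map_mul, hφ, MvPolynomial.aeval_X, MvPolynomial.aeval_X]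
      fin_cases i <;> simp
    let ψ : (MvPolynomial (Fin 2) k ⧸ Ideal.span {(MvPolynomial.X 0 * MvPolynomial.X 1 : MvPolynomial (Fin 2) k)}) →ₐ[k] Polynomial k :=
      Ideal.Quotient.liftₐ _ φ hker
    refine ⟨?_, ?_⟩
    · letI := ψ.toRingHom.toAlgebra
      haveI : IsScalarTower k (MvPolynomial (Fin 2) k ⧸ Ideal.span {(MvPolynomial.X 0 * MvPolynomial.X 1 : MvPolynomial (Fin 2) k)}) (Polynomial k) :=
        IsScalarTower.of_algebraMap_eq fun c => (ψ.commutes c).symm
      have h := congrArg (KaehlerDifferential.map k k (MvPolynomial (Fin 2) k ⧸ Ideal.span {(MvPolynomial.X 0 * MvPolynomial.X 1 : MvPolynomial (Fin 2) k)}) (Polynomial k)) hP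
      rw [KaehlerDifferential.map_D, map_zero] at h
      have h2 := congrArg (KaehlerDifferential.polynomialEquiv k) h
      rw [map_zero, KaehlerDifferential.polynomialEquiv_D] at h2
      exact h2
    · exact hcoef i j hij n G
  have hc : ∀ i j : Fin 2, i ≠ j → ∀ n, n ≠ 0 → MvPolynomial.coeff (Finsupp.single i n) G = 0 := fun i j hij n hn => by
    obtain ⟨h1, -⟩ := key i j hij n
    rw [← (key i j hij n).2, Polynomial.eq_C_of_derivative_eq_zero h1, Polynomial.coeff_C, if_neg hn]
  refine ⟨MvPolynomial.coeff 0 G, Eq.symm ?_⟩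
  rw [← Ideal.Quotient.mk_algebraMap, Ideal.Quotient.eq]
  have hX : (MvPolynomial.X 0 * MvPolynomial.X 1 : MvPolynomial (Fin 2) k) = MvPolynomial.monomial (Finsupp.single 0 1 + Finsupp.single 1 1) 1 := by
    rw [MvPolynomial.X, MvPolynomial.X, MvPolynomial.monomial_mul, mul_one]
  rw [hX, ← Set.image_singleton (f := fun s => MvPolynomial.monomial s (1 : k)), MvPolynomial.mem_ideal_span_monomial_image]
  intro d hd
  refine ⟨_, rfl, ?_⟩
  rw [MvPolynomial.mem_support_iff, MvPolynomial.coeff_sub, MvPolynomial.algebraMap_eq, MvPolynomial.coeff_C] at hd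
  have hpos : ∀ i j : Fin 2, i ≠ j → 1 ≤ d j := by
    intro i j hij
    by_contra h
    have hd' : d = Finsupp.single i (d i) := by
      ext l
      rcases eq_or_ne l i with rfl | hl
      · simp
      · rw [Finsupp.single_eq_of_ne hl, show l = j by omega]; omega
    rcases eq_or_ne (d i) 0 with h0 | h0
    · rw [hd', h0, Finsupp.single_zero] at hd; simp at hd
    · rw [if_neg (fun h' => h0 (by rw [← h']; rfl)), sub_zero, hd'] at hd
      exact hd (hc i j hij _ h0)
  intro l
  have h0 := hpos 1 0 (by decide)
  have h1 := hpos 0 1 (by decide)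
  fin_cases l <;> simp <;> omega

end Groth.Agent.S19634
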