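import Groth.Statements.S19635
import Mathlib


-- import your own Groth.Agent.* helpers here

set_option autoImplicit false
universe u
open DeRham

namespace Groth.Agent.S19635

/-- Let k be a field of characteristic zero and A = k[X, Y]/(XY), the coordinate ring of two affine
lines crossing in a point. The differential d : A → Ω¹_{A/k} of the naive de Rham complex is not
surjective, so the naive H^1 of this singular curve does not vanish although one expects trivial
cohomology; this is the example motivating the h-topology definition. -/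
theorem result (k : Type u) [Field k] [CharZero k] :
    ¬ Function.Surjective (KaehlerDifferential.D k (MvPolynomial (Fin 2) k ⧸ Ideal.span {(MvPolynomial.X 0 * MvPolynomial.X 1 : MvPolynomial (Fin 2) k)})) := by
  classical
  intro hsurj
  let P := MvPolynomial (Fin 2) k
  set q : Ideal P := Ideal.span {(MvPolynomial.X 0 * MvPolynomial.X 1 : P)}
  set A := P ⧸ q
  let N : Submodule P (Fin 2 → P) := Submodule.span P {(![MvPolynomial.X 1, MvPolynomial.X 0] : Fin 2 → P)} ⊔ q • (⊤ : Submodule P (Fin 2 → P))
  let M := (Fin 2 → P) ⧸ N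
  have htor : Module.IsTorsionBySet P M (q : Set P) := by
    rintro m ⟨r, hr⟩
    obtain ⟨m, rfl⟩ := Submodule.Quotient.mk_surjective _ m
    rw [← Submodule.Quotient.mk_smul, Submodule.Quotient.mk_eq_zero]
    exact le_sup_right (a := Submodule.span P {(![MvPolynomial.X 1, MvPolynomial.X 0] : Fin 2 → P)}) (Submodule.smul_mem_smul hr trivial)
  letI : Module A M := htor.module
  haveI : IsScalarTower P A M := htor.isScalarTower
  haveI : IsScalarTower k A M := htor.isScalarTower
  let D0 : P →ₗ[k] M := (N.mkQ.restrictScalars k).comp (LinearMap.pi fun i => (MvPolynomial.pderiv i).toLinearMap)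
  have hD0 : ∀ f, D0 f = Submodule.Quotient.mk (fun i => MvPolynomial.pderiv i f) := fun f => rfl
  have hker : q.restrictScalars k ≤ LinearMap.ker D0 := by
    intro f hf
    obtain ⟨c, rfl⟩ := Ideal.mem_span_singleton'.1 hf
    rw [LinearMap.mem_ker, hD0, Submodule.Quotient.mk_eq_zero]
    refine Submodule.mem_sup.2 ⟨c • (![MvPolynomial.X 1, MvPolynomial.X 0] : Fin 2 → P), Submodule.smul_mem _ _ (Submodule.subset_span rfl),
      (MvPolynomial.X 0 * MvPolynomial.X 1 : P) • (fun i => MvPolynomial.pderiv i c),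
      Submodule.smul_mem_smul (Ideal.subset_span rfl) trivial, ?_⟩
    funext i
    fin_cases i <;> simp [Derivation.leibniz, MvPolynomial.pderiv_X] <;> ring
  let D1 : A →ₗ[k] M := (q.restrictScalars k).liftQ D0 hker
  have hD1 : ∀ f, D1 (Ideal.Quotient.mk q f) = D0 f := fun f => rfl
  let D : Derivation k A M := Derivation.mk' D1 (by
    intro a b
    obtain ⟨a, rfl⟩ := Ideal.Quotient.mk_surjective a
    obtain ⟨b, rfl⟩ := Ideal.Quotient.mk_surjective b
    rw [← map_mul, hD1, hD1, hD1, hD0, hD0, hD0]
    change _ = a • (Submodule.Quotient.mk (fun i => MvPolynomial.pderiv i b) : M) + b • (Submodule.Quotient.mk (fun i => MvPolynomial.pderiv i a) : M)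
    rw [← Submodule.Quotient.mk_smul, ← Submodule.Quotient.mk_smul, ← Submodule.Quotient.mk_add]
    congr 1
    funext i
    simp [Derivation.leibniz])
  let x : A := Ideal.Quotient.mk q (MvPolynomial.X 0)
  let y : A := Ideal.Quotient.mk q (MvPolynomial.X 1)
  obtain ⟨g, hg⟩ := hsurj (x • KaehlerDifferential.D k A y)
  have h1 := congrArg D.liftKaehlerDifferential hg
  rw [Derivation.liftKaehlerDifferential_comp_D, map_smul, Derivation.liftKaehlerDifferential_comp_D] at h1
  obtain ⟨g, rfl⟩ := Ideal.Quotient.mk_surjective g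
  change D0 g = (MvPolynomial.X 0 : P) • D0 (MvPolynomial.X 1) at h1
  rw [hD0, hD0, ← Submodule.Quotient.mk_smul, Submodule.Quotient.eq] at h1
  let ℓ : (Fin 2 → P) → k := fun v => MvPolynomial.coeff (Finsupp.single 0 1) (v 1) - MvPolynomial.coeff (Finsupp.single 1 1) (v 0)
  have hadd : ∀ u v, ℓ (u + v) = ℓ u + ℓ v := fun u v => by simp only [ℓ, Pi.add_apply]; erw [MvPolynomial.coeff_add, MvPolynomial.coeff_add]; ring
  have hN : ∀ v ∈ N, ℓ v = 0 := by
    intro v hv
    obtain ⟨a, ha, b, hb, rfl⟩ := Submodule.mem_sup.1 hv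
    obtain ⟨c, rfl⟩ := Submodule.mem_span_singleton.1 ha
    have hb0 : ℓ b = 0 := by
      refine Submodule.smul_induction_on (p := fun b => ℓ b = 0) hb (fun r hr w _ => ?_) (fun u v hu hv => by rw [hadd, hu, hv, add_zero])
      obtain ⟨e, rfl⟩ := Ideal.mem_span_singleton'.1 hr
      simp only [ℓ, Pi.smul_apply, smul_eq_mul]
      rw [show e * (MvPolynomial.X 0 * MvPolynomial.X 1) * w 1 = (e * MvPolynomial.X 0 * w 1) * MvPolynomial.X 1 by ring,
        show e * (MvPolynomial.X 0 * MvPolynomial.X 1) * w 0 = (e * MvPolynomial.X 1 * w 0) * MvPolynomial.X 0 by ring,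
        MvPolynomial.coeff_mul_X', MvPolynomial.coeff_mul_X', if_neg (by simp), if_neg (by simp), sub_zero]
    rw [hadd, hb0, add_zero]
    simp only [ℓ, Pi.smul_apply, smul_eq_mul]
    simp only [Matrix.cons_val_one, Matrix.cons_val_zero]
    erw [MvPolynomial.coeff_mul_X', MvPolynomial.coeff_mul_X']
    simp
  have h2 := hN _ h1
  have e1 : ∀ (a b : Fin 2), a ≠ b → MvPolynomial.coeff (Finsupp.single a 1) (MvPolynomial.pderiv b g) = MvPolynomial.coeff (Finsupp.single a 1 + Finsupp.single b 1) g := fun a b hab => by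
    rw [MvPolynomial.coeff_pderiv, Finsupp.single_eq_of_ne (Ne.symm hab), Nat.cast_zero, zero_add, mul_one]
  have e2 : MvPolynomial.pderiv (0 : Fin 2) (MvPolynomial.X 1 : P) = 0 := MvPolynomial.pderiv_X_of_ne (by decide)
  have e3 : MvPolynomial.pderiv (1 : Fin 2) (MvPolynomial.X 1 : P) = 1 := MvPolynomial.pderiv_X_self _
  simp only [ℓ, Pi.sub_apply, Pi.smul_apply, smul_eq_mul, e2, e3, mul_zero, mul_one, sub_zero] at h2
  erw [MvPolynomial.coeff_sub, e1 0 1 (by decide), e1 1 0 (by decide), add_comm (Finsupp.single (1 : Fin 2) 1), MvPolynomial.coeff_X_same] at h2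
  rw [sub_right_comm, sub_self, zero_sub, neg_eq_zero] at h2
  exact one_ne_zero h2

end Groth.Agent.S19635
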