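import Groth.Statements.S19649
import Groth.Agent.GrFreeLib.Basic
import Mathlib.RingTheory.MvPolynomial.WeightedHomogeneous

set_option autoImplicit false
universe u v
open Instab

namespace Groth.Agent.S19649

open MvPolynomial DirectSum in
/-- The case of a point, in graded-module form over an affine base. Let R be a commutative ring, n a
natural number, A = R[x_1, …, x_n] the polynomial ring graded by ℤ^n with x_i of degree the i-th
basis vector (the weight grading of the standard action of the n-dimensional split torus on affine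
n-space), and P a finitely generated projective A-module carrying a compatible ℤ^n-grading (an
equivariant vector bundle on affine n-space over Spec R). Then P is graded-free Zariski-locally on
Spec R: for every prime p of R there are r ∉ p and finitely many homogeneous elements f_1, …, f_m of
P such that, after inverting r, the f_i form an A-basis of P — every element of P multiplied by a
power of r is an A-linear combination of the f_i, and the coefficients of every A-linear relation
among the f_i are killed by a power of r. (This is the case of a point of the source's description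
of filtered points of quotient stacks by the general linear group, whose argument the source gives
in full: an equivariant vector bundle on affine n-space over a base is, locally on the base, the
standard one attached to a cocharacter; the general case, an identification of mapping stacks, is
not stated here.) -/
theorem result
    {R : Type u} [CommRing R] (n : ℕ)
    {P : Type v} [AddCommGroup P] [Module (MvPolynomial (Fin n) R) P] [Module R P]
    [IsScalarTower R (MvPolynomial (Fin n) R) P]
    (ℳ : (Fin n → ℤ) → Submodule R P) [DirectSum.Decomposition ℳ]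
    [SetLike.GradedSMul (MvPolynomial.weightedHomogeneousSubmodule R (fun i : Fin n => (Pi.single i 1 : Fin n → ℤ))) ℳ]
    [Module.Finite (MvPolynomial (Fin n) R) P] [Module.Projective (MvPolynomial (Fin n) R) P]
    (p : PrimeSpectrum R) :
    ∃ r : R, r ∉ p.asIdeal ∧ ∃ (m : ℕ) (d : Fin m → (Fin n → ℤ)) (f : Fin m → P), (∀ i, f i ∈ ℳ (d i)) ∧
      (∀ q : P, ∃ (N : ℕ) (c : Fin m → MvPolynomial (Fin n) R), (MvPolynomial.C r : MvPolynomial (Fin n) R) ^ N • q = ∑ i, c i • f i) ∧
      (∀ c : Fin m → MvPolynomial (Fin n) R, ∑ i, c i • f i = 0 →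
        ∃ N : ℕ, ∀ i, (MvPolynomial.C r : MvPolynomial (Fin n) R) ^ N * c i = 0) := by
  classical
  let wt : Fin n → (Fin n → ℤ) := fun i => Pi.single i 1
  letI := MvPolynomial.weightedGradedAlgebra (R := R) wt
  let 𝒜 := MvPolynomial.weightedHomogeneousSubmodule R wt
  let w : (Fin n → ℤ) →+ ℤ := AddMonoidHom.mk' (fun d => ∑ i, d i) fun a b => by
    simp [Finset.sum_add_distrib]
  have hw : ∀ i, w (wt i) = 1 := fun i => by simp [w, wt]
  have hwm : ∀ mo : Fin n →₀ ℕ, 0 ≤ w (Finsupp.weight wt mo) := fun mo => by
    rw [Finsupp.weight_apply, Finsupp.sum, map_sum]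
    refine Finset.sum_nonneg fun i _ => ?_
    rw [map_nsmul, hw, nsmul_one]
    exact Int.natCast_nonneg _
  have hnn : ∀ e, w e < 0 → ∀ a ∈ 𝒜 e, a = 0 := fun e he a ha => by
    ext mo
    rw [MvPolynomial.coeff_zero]
    by_contra hmo
    have := hwm mo
    rw [ha hmo] at this
    omega
  let J : Ideal (MvPolynomial (Fin n) R) := Ideal.span (Set.range MvPolynomial.X)
  have hJ := GrFreeLib.comp_eq_zero_of_mem_span 𝒜 w hnn (Set.range MvPolynomial.X) (fun a ha => by
    obtain ⟨i, rfl⟩ := ha
    exact ⟨wt i, by rw [hw]; exact one_pos, MvPolynomial.isWeightedHomogeneous_X R wt i⟩)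
  have hdec : ∀ u : MvPolynomial (Fin n) R, MvPolynomial.C (MvPolynomial.constantCoeff u) - u ∈ J := by
    intro u
    induction u using MvPolynomial.induction_on with
    | C a => simp
    | add a b ha hb => rw [map_add, map_add, add_sub_add_comm]; exact J.add_mem ha hb
    | mul_X a i _ =>
      rw [map_mul, MvPolynomial.constantCoeff_X, mul_zero, map_zero, zero_sub]
      exact J.neg_mem (J.mul_mem_left _ (Ideal.subset_span ⟨i, rfl⟩))
  have hC : ∀ c : R, (MvPolynomial.C c : MvPolynomial (Fin n) R) ∈ 𝒜 0 := MvPolynomial.isWeightedHomogeneous_C wt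
  obtain ⟨B, hB⟩ := GrFreeLib.exists_bound 𝒜 ℳ w hnn
  let P' : Ideal (MvPolynomial (Fin n) R) := p.asIdeal.comap MvPolynomial.constantCoeff
  obtain ⟨m, f, hf, hli, d, hd, hgen⟩ := GrFreeLib.exists_fibre_basis ℳ P'
  have hspan : ∀ x : P, ∃ j : ℕ, (MvPolynomial.C (MvPolynomial.constantCoeff d) : MvPolynomial (Fin n) R) ^ j • x ∈
      Submodule.span (MvPolynomial (Fin n) R) (Set.range f) := by
    refine GrFreeLib.exists_pow_smul_mem 𝒜 ℳ w J hJ B hB _ (hC _) _ (GrFreeLib.decompose_mem_span 𝒜 ℳ f hf) fun x => ?_
    rw [show MvPolynomial.C (MvPolynomial.constantCoeff d) • x =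
      (MvPolynomial.C (MvPolynomial.constantCoeff d) - d) • x + d • x by rw [sub_smul, sub_add_cancel]]
    exact Submodule.add_mem_sup (Submodule.smul_mem_smul (hdec d) Submodule.mem_top) (hgen x)
  obtain ⟨u, hu, N₀, hN₀⟩ := GrFreeLib.exists_pow_mul_eq_zero P' hli _ hspan
  choose D hD using hf
  refine ⟨MvPolynomial.constantCoeff d * MvPolynomial.constantCoeff u,
    fun h => (p.isPrime.mem_or_mem h).elim (fun h => hd (Ideal.mem_comap.2 h)) (fun h => hu (Ideal.mem_comap.2 h)),
    m, D, f, hD, fun q => ?_, fun c hc => ?_⟩
  · obtain ⟨N, hN⟩ := hspan q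
    have h2 := Submodule.smul_mem _ (MvPolynomial.C (MvPolynomial.constantCoeff u) ^ N) hN
    rw [smul_smul, ← mul_pow, ← map_mul, mul_comm] at h2
    obtain ⟨c, hc⟩ := (Submodule.mem_span_range_iff_exists_fun _).1 h2
    exact ⟨N, c, hc.symm⟩
  · have key : ∀ i, ∃ j : ℕ, MvPolynomial.C (MvPolynomial.constantCoeff u) ^ j *
        (MvPolynomial.C (MvPolynomial.constantCoeff d) ^ N₀ * c i) = 0 := fun i =>
      GrFreeLib.exists_pow_smul_eq_zero 𝒜 𝒜 w J hJ 0 hnn _ (hC _) _ (hdec u) _
        (by rw [sub_smul, smul_eq_mul u, ← mul_assoc, hN₀ c hc i, sub_zero])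
    choose j hj using key
    refine ⟨N₀ + Finset.univ.sup j, fun i => ?_⟩
    obtain ⟨a, ha⟩ := Nat.exists_eq_add_of_le (Finset.le_sup (f := j) (Finset.mem_univ i))
    calc _ = MvPolynomial.C (MvPolynomial.constantCoeff d) ^ Finset.univ.sup j *
          (MvPolynomial.C (MvPolynomial.constantCoeff u) ^ (N₀ + a) *
            (MvPolynomial.C (MvPolynomial.constantCoeff u) ^ j i *
              (MvPolynomial.C (MvPolynomial.constantCoeff d) ^ N₀ * c i))) := by
            rw [ha, map_mul]; ring
      _ = 0 := by rw [hj i, mul_zero, mul_zero]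

end Groth.Agent.S19649
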