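import Groth.Statements.S1965
import Mathlib
-- import your own Groth.Agent.* helpers here

set_option autoImplicit false
universe u
open Polynomial
open EtAlg

namespace Groth.Agent.S1965

/-- Let A be a complete Noetherian local domain of Krull dimension 1 with maximal ideal m, P a
polynomial over A and α a root of P which is not a root of the derivative P'. Then for every c there
is an n such that for every polynomial Q all of whose coefficients lie in m^n, the polynomial P + Q
has a root β with β - α in m^c. -/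
theorem result (A : Type u) [CommRing A] [IsDomain A] [IsLocalRing A] [IsNoetherianRing A]
    [IsAdicComplete (IsLocalRing.maximalIdeal A) A] (hdim : ringKrullDim A = 1) (P : A[X]) (α : A)
    (hα : P.eval α = 0) (hα' : (derivative P).eval α ≠ 0) (c : ℕ) :
    ∃ n : ℕ, ∀ Q : A[X], (∀ i, Q.coeff i ∈ IsLocalRing.maximalIdeal A ^ n) →
      ∃ β : A, (P + Q).eval β = 0 ∧ β - α ∈ IsLocalRing.maximalIdeal A ^ c := by
  classical
  set m := IsLocalRing.maximalIdeal A with hm
  set e := (derivative P).eval α with he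
  obtain ⟨N, hN⟩ : ∃ N, m ^ N ≤ Ideal.span {e ^ 2} := by
    apply Ideal.exists_pow_le_of_le_radical_of_fg ?_ (IsNoetherian.noetherian m)
    rw [Ideal.radical_eq_sInf]
    refine le_sInf fun q hq => ?_
    obtain ⟨hle, hqp⟩ := hq
    haveI := hqp
    haveI : Ring.KrullDimLE 1 A := (Ring.krullDimLE_iff).mpr (by rw [hdim]; rfl)
    haveI := (Ring.krullDimLE_one_iff_of_noZeroDivisors).mp inferInstance q (by
      intro hb
      rw [hb, Ideal.span_singleton_le_iff_mem, Ideal.mem_bot] at hle
      exact pow_ne_zero 2 hα' hle) hqp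
    rw [IsLocalRing.eq_maximalIdeal this]
  refine ⟨N + c + 1, fun Q hQ => ?_⟩
  have hQe : ∀ a : A, Q.eval a ∈ m ^ (N + c + 1) := by
    intro a
    rw [Polynomial.eval_eq_sum, Polynomial.sum]
    exact Ideal.sum_mem _ fun i _ => Ideal.mul_mem_right _ _ (hQ i)
  have hdvd : ∀ a ∈ m ^ (N + c + 1), ∃ t ∈ m ^ (c + 1), a = e ^ 2 * t := by
    intro a ha
    have : a ∈ Ideal.span {e ^ 2} * m ^ (c + 1) := by
      rw [add_assoc, pow_add] at ha
      exact Ideal.mul_mono_left hN ha
    obtain ⟨t, ht, rfl⟩ := Ideal.mem_span_singleton_mul.mp this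
    exact ⟨t, ht, rfl⟩
  obtain ⟨q0, hq0, hq0e⟩ := hdvd _ (hQe α)
  have hQd : (derivative Q).eval α ∈ m ^ (N + c + 1) := by
    rw [Polynomial.eval_eq_sum, Polynomial.sum]
    refine Ideal.sum_mem _ fun i _ => Ideal.mul_mem_right _ _ ?_
    rw [coeff_derivative]
    exact Ideal.mul_mem_right _ _ (hQ _)
  obtain ⟨q1, hq1, hq1e⟩ := hdvd _ hQd
  -- shifted, rescaled polynomial
  have hq1m : e * q1 ∈ m := Ideal.mul_mem_left _ _ (Ideal.pow_le_self (Nat.succ_ne_zero c) hq1)
  let R := P + Q
  let T : A[X] := (R.comp (X + C α)).divX.divX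
  have htaylor : ∀ u : A, R.eval (α + u) = R.eval α + (derivative R).eval α * u + u ^ 2 * T.eval u := by
    intro u
    let S := R.comp (X + C α)
    have h1 : S = C (S.coeff 0) + X * (C (S.coeff 1) + X * T) := by
      conv_lhs => rw [← X_mul_divX_add S, ← X_mul_divX_add S.divX, coeff_divX]
      ring
    have h0 : S.coeff 0 = R.eval α := by rw [coeff_zero_eq_eval_zero]; simp [S]
    have h1' : S.coeff 1 = (derivative R).eval α := by
      rw [show S.coeff 1 = (derivative S).coeff 0 by simp [coeff_derivative], coeff_zero_eq_eval_zero]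
      simp [S, derivative_comp]
    have h2 := congrArg (Polynomial.eval u) h1
    simp [h0, h1'] at h2
    rw [show α + u = u + α from add_comm _ _]
    simp only [S, eval_comp, eval_add, eval_X, eval_C] at h2
    rw [show R.eval (u + α) = _ from h2]
    ring
  -- Hensel
  have hunit : IsUnit (1 + e * q1) := by
    by_contra hn
    have h3 : 1 + e * q1 ∈ m := (IsLocalRing.mem_maximalIdeal _).mpr hn
    exact (IsLocalRing.maximalIdeal.isMaximal A).ne_top ((Ideal.eq_top_iff_one m).mpr (by simpa using sub_mem h3 hq1m))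
  set w : A := ((hunit.unit⁻¹ : Aˣ) : A) with hwdef
  have hw : w * (1 + e * q1) = 1 := hunit.val_inv_mul
  let F : A → A := fun t => -w * (q0 + t ^ 2 * T.eval (e * t))
  let seq : ℕ → A := fun n => F^[n] 0
  have hFmem : ∀ t ∈ m ^ (c + 1), F t ∈ m ^ (c + 1) := fun t ht =>
    Ideal.mul_mem_left _ _ (add_mem hq0 (Ideal.mul_mem_right _ _ (by rw [sq]; exact Ideal.mul_mem_left _ _ ht)))
  have hseq : ∀ n, seq n ∈ m ^ (c + 1) := by
    intro n
    induction n with
    | zero => exact zero_mem _
    | succ n ih => simp only [seq, Function.iterate_succ_apply']; exact hFmem _ ih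
  have hsm : ∀ n, seq n ∈ m := fun n => Ideal.pow_le_self (Nat.succ_ne_zero c) (hseq n)
  have hcontr : ∀ s t : A, s ∈ m → t ∈ m → ∀ n, s - t ∈ m ^ n → F s - F t ∈ m ^ (n + 1) := by
    intro s t hs ht n hn
    obtain ⟨r, hr⟩ : e * s - e * t ∣ T.eval (e * s) - T.eval (e * t) := Polynomial.sub_dvd_eval_sub _ _ T
    have hid : F s - F t = (s - t) * (-w * ((s + t) * T.eval (e * s) + t ^ 2 * e * r)) := by
      simp only [F]
      linear_combination (-w * t ^ 2) * hr
    rw [hid, pow_succ]
    refine Ideal.mul_mem_mul hn (Ideal.mul_mem_left _ _ (add_mem (Ideal.mul_mem_right _ _ (add_mem hs ht)) ?_))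
    exact Ideal.mul_mem_right _ _ (Ideal.mul_mem_right _ _ (by rw [sq]; exact Ideal.mul_mem_left _ _ ht))
  have hstep : ∀ n, seq (n + 1) - seq n ∈ m ^ n := by
    intro n
    induction n with
    | zero => simp
    | succ n ih =>
      have := hcontr _ _ (hsm (n + 1)) (hsm n) n ih
      simpa only [seq, Function.iterate_succ_apply'] using this
  have hcauchy : ∀ {i j : ℕ}, i ≤ j → seq j - seq i ∈ m ^ i := by
    intro i j hij
    induction j, hij using Nat.le_induction with
    | base => simp
    | succ j hij ih =>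
      have := add_mem (Ideal.pow_le_pow_right hij (hstep j)) ih
      simpa using this
  obtain ⟨t, ht⟩ := IsPrecomplete.prec' (I := m) seq (fun {i j} hij => by
    rw [smul_eq_mul, Ideal.mul_top, SModEq.sub_mem, ← neg_sub]; exact neg_mem (hcauchy hij))
  have ht' : ∀ n, seq n - t ∈ m ^ n := fun n => by
    have := ht n
    rwa [smul_eq_mul, Ideal.mul_top, SModEq.sub_mem] at this
  have htc : t ∈ m ^ (c + 1) := by
    have := sub_mem (hseq (c + 1)) (ht' (c + 1))
    simpa using this
  have hfix : F t = t := by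
    have h7 : ∀ n, F t - t ∈ m ^ n := by
      intro n
      have h8 := hcontr _ _ (hsm n) (Ideal.pow_le_self (Nat.succ_ne_zero c) htc) n (ht' n)
      have h9 := sub_mem (ht' (n + 1)) h8
      have h10 : seq (n + 1) = F (seq n) := by simp only [seq, Function.iterate_succ_apply']
      rw [h10] at h9
      refine Ideal.pow_le_pow_right (Nat.le_succ n) ?_
      simpa using h9
    exact sub_eq_zero.mp (IsHausdorff.haus' (I := m) _ fun n => by
      rw [smul_eq_mul, Ideal.mul_top, SModEq.zero]; exact h7 n)
  refine ⟨α + e * t, ?_, ?_⟩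
  · show R.eval (α + e * t) = 0
    rw [htaylor]
    simp only [F] at hfix
    simp only [R, eval_add, derivative_add, hα, ← he, hq0e, hq1e]
    have h11 : (1 + e * q1) * t + q0 + t ^ 2 * T.eval (e * t) = 0 := by
      linear_combination (-(1 + e * q1)) * hfix - (q0 + t ^ 2 * T.eval (e * t)) * hw
    linear_combination (e ^ 2) * h11
  · rw [add_sub_cancel_left]
    exact Ideal.pow_le_pow_right (Nat.le_succ c) (Ideal.mul_mem_left _ _ htc)

end Groth.Agent.S1965
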