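import Groth.Statements.S19650
import Groth.Agent.DetDegLib.Main
import Groth.Agent.WedgeLib.FiltTools
import Groth.Agent.GrassLib.SchExtPow
import Groth.Agent.PinchPicLib.Gen
import Groth.Agent.QuotNormLib.Saturated
import Groth.Agent.CycEtaleLib.Main
import Groth.Agent.QCohLib.Push

set_option autoImplicit false
set_option backward.isDefEq.respectTransparency false
set_option backward.isDefEq.respectTransparency.types false
set_option maxHeartbeats 1000000

universe u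
open CycCov

namespace Groth.Agent.S19650

open CategoryTheory CategoryTheory.Limits AlgebraicGeometry TopologicalSpace Opposite Polynomial
open _root_.ProjFormLib (IsFrame ger)
open AmpleLib (res res_res res_smul GenOn shT)
open KFlatLib (pb puSecLE)

noncomputable section Aux

variable {Y Yb : Scheme.{u}} {L : Y.Modules} {s : Coh.structureModule Y ⟶ CohB1.tensorPow L 2} {g : Yb ⟶ Y}

theorem exists_coef {U : Y.Opens} {e : Γ(L, U)} (he : GenOn L e) :
    ∃ f : Γ(Y, U), SecTwist.val s U = f • CycCov.lpow L U e 2 := by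
  obtain ⟨f, hf⟩ := (CycEtaleLib.isGen_of_genOn (AmpleThLib.pS_genOn he 2)).2 (SecTwist.val s U)
  refine ⟨f, ?_⟩
  rw [CycEtaleLib.lpow_eq_pS]
  exact hf.symm

/-- The two coordinates of the simple double cover over an affine open. -/
theorem bijective_coords {R : CycCov.Root L 2 s g} (hR : CycCov.IsSimple R) (W : Y.affineOpens) {e : Γ(L, W.1)}
    (he : GenOn L e) :
    Function.Bijective fun p : Γ(Y, W.1) × Γ(Y, W.1) =>
      (g.app W.1).hom p.1 + (g.app W.1).hom p.2 * R.t W e (CycEtaleLib.isGen_of_genOn he) := by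
  obtain ⟨f, hf⟩ := exists_coef (s := s) he
  let hg := CycEtaleLib.isGen_of_genOn he
  have hch := hR.2 W e hg f hf
  let q : Γ(Y, W.1)[X] := X ^ 2 - C f
  have hq : q.Monic := monic_X_pow_sub_C f (by norm_num)
  let ψ : Γ(Y, W.1) × Γ(Y, W.1) → AdjoinRoot q := fun p => AdjoinRoot.mk q (C p.2 * X + C p.1)
  have hψ : (fun p : Γ(Y, W.1) × Γ(Y, W.1) => (g.app W.1).hom p.1 + (g.app W.1).hom p.2 * R.t W e hg) =
      CycCov.chart R W e hg f hf ∘ ψ := by
    funext p
    refine ((AdjoinRoot.lift_mk _ _).trans ?_).symm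
    rw [eval₂_add, eval₂_mul, eval₂_C, eval₂_C, eval₂_X, add_comm]
  rw [hψ]
  refine hch.comp ?_
  rcases subsingleton_or_nontrivial Γ(Y, W.1) with h | h
  · refine ⟨fun a b _ => Subsingleton.elim a b, fun y => ⟨0, ?_⟩⟩
    obtain ⟨r, rfl⟩ := AdjoinRoot.mk_surjective y
    show AdjoinRoot.mk q _ = _
    exact congrArg _ (Subsingleton.elim (α := Γ(Y, W.1)[X]) _ _)
  have hdeg : q.degree = 2 := degree_X_pow_sub_C (by norm_num) f
  constructor
  · intro a b hab
    have hdvd : q ∣ (C a.2 * X + C a.1) - (C b.2 * X + C b.1) := AdjoinRoot.mk_eq_mk.1 hab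
    have hr : (C a.2 * X + C a.1) - (C b.2 * X + C b.1) = C (a.2 - b.2) * X + C (a.1 - b.1) := by
      rw [C_sub, C_sub]; ring
    rw [hr] at hdvd
    have h0 : C (a.2 - b.2) * X + C (a.1 - b.1) = 0 := by
      by_contra hne
      refine hq.not_dvd_of_degree_lt hne ?_ hdvd
      rw [hdeg]
      exact lt_of_le_of_lt degree_linear_le (by norm_num)
    have h1 := congrArg (fun p : Γ(Y, W.1)[X] => p.coeff 1) h0
    have h2 := congrArg (fun p : Γ(Y, W.1)[X] => p.coeff 0) h0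
    simp [coeff_C, sub_eq_zero] at h1 h2
    exact Prod.ext h2 h1
  · intro y
    obtain ⟨r, rfl⟩ := AdjoinRoot.mk_surjective y
    have hlt : (r %ₘ q).degree ≤ 1 := by
      have h := degree_modByMonic_lt r hq
      rw [hdeg] at h
      by_cases h0 : r %ₘ q = 0
      · rw [h0, degree_zero]; exact bot_le
      · rw [degree_eq_natDegree h0] at h ⊢
        have h' : (r %ₘ q).natDegree < 2 := by exact_mod_cast h
        exact_mod_cast Nat.lt_succ_iff.1 h'
    refine ⟨((r %ₘ q).coeff 0, (r %ₘ q).coeff 1), AdjoinRoot.mk_eq_mk.2 ?_⟩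
    dsimp only
    rw [← eq_X_add_C_of_degree_le_one hlt]
    exact ⟨-(r /ₘ q), by rw [mul_neg, eq_neg_iff_add_eq_zero, sub_add_eq_add_sub, modByMonic_add_div r, sub_self]⟩

/-- The simple double cover is finite. -/
theorem isFinite {R : CycCov.Root L 2 s g} (hR : CycCov.IsSimple R) (hL : PicF.IsInvertible L) : IsFinite g := by
  haveI := hR.1
  choose U e hxU he using fun x => TwistLib.exists_genOn hL x
  choose W hW hxW hWU using fun x =>
    exists_isAffineOpen_mem_and_subset (X := Y) (x := x) (U := U x) (hxU x)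
  rw [HasAffineProperty.iff_of_iSup_eq_top (P := @IsFinite) (fun x => (⟨W x, hW x⟩ : Y.affineOpens))
    (eq_top_iff.2 fun x _ => TopologicalSpace.Opens.mem_iSup.2 ⟨x, hxW x⟩)]
  intro x
  refine ⟨(hW x).preimage g, ?_⟩
  have hg' : GenOn L (res L (hWU x) (e x)) := (he x).res (hWU x)
  let τ := R.t ⟨W x, hW x⟩ (res L (hWU x) (e x)) (CycEtaleLib.isGen_of_genOn hg')
  letI := (g.app (W x)).hom.toAlgebra
  have hfin : Module.Finite Γ(Y, W x) Γ(Yb, g ⁻¹ᵁ W x) := by
    refine Module.finite_def.2 (Submodule.fg_def.2 ⟨{1, τ}, (Set.finite_singleton τ).insert 1, eq_top_iff.2 fun y _ => ?_⟩)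
    obtain ⟨p, rfl⟩ := (bijective_coords hR ⟨W x, hW x⟩ hg').2 y
    refine Submodule.add_mem _ ?_ ?_
    · have h1 : (g.app (W x)).hom p.1 = p.1 • (1 : Γ(Yb, g ⁻¹ᵁ W x)) := (mul_one _).symm
      dsimp only
      rw [h1]
      exact Submodule.smul_mem _ _ (Submodule.subset_span (by simp))
    · show p.2 • τ ∈ _
      exact Submodule.smul_mem _ _ (Submodule.subset_span (by simp))
  have key : ∀ V : Y.Opens, V = W x → (g.app V).hom.Finite := by
    rintro _ rfl
    exact RingHom.finite_algebraMap.2 hfin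
  show (g ∣_ W x).appTop.hom.Finite
  rw [morphismRestrict_appTop]
  exact (RingHom.finite_respectsIso.cancel_right_isIso _ _).2 (key _ (W x).ι_image_top)

/-- The direct image. -/
abbrev Ps (g : Yb ⟶ Y) (M : Yb.Modules) : Y.Modules := (Scheme.Modules.pushforward g).obj M

/-- A section over a preimage as a section of the direct image. -/
def toPush (g : Yb ⟶ Y) {M : Yb.Modules} (W : Y.Opens) (x : Γ(M, g ⁻¹ᵁ W)) : Γ(Ps g M, W) := x

theorem res_toPush {M : Yb.Modules} {U W : Y.Opens} (h : W ≤ U) (x : Γ(M, g ⁻¹ᵁ U)) :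
    res (Ps g M) h (toPush g U x) = toPush g W (res M (g.preimage_mono h) x) := rfl

theorem smul_toPush {M : Yb.Modules} {W : Y.Opens} (r : Γ(Y, W)) (x : Γ(M, g ⁻¹ᵁ W)) :
    r • toPush g W x = toPush g W ((g.app W).hom r • x) := rfl

theorem toPush_add {M : Yb.Modules} {W : Y.Opens} (x y : Γ(M, g ⁻¹ᵁ W)) :
    toPush g W x + toPush g W y = toPush g W (x + y) := rfl

variable (R : CycCov.Root L 2 s g) {M : Yb.Modules}

/-- The two sections `μ`, `t μ` of the direct image. -/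
def fr {U : Y.affineOpens} {e : Γ(L, U.1)} (he : GenOn L e) (μ : Γ(M, g ⁻¹ᵁ U.1)) : Fin 2 → Γ(Ps g M, U.1) :=
  ![toPush g U.1 μ, toPush g U.1 (R.t U e (CycEtaleLib.isGen_of_genOn he) • μ)]

theorem res_fr {U W : Y.affineOpens} (h : W.1 ≤ U.1) {e : Γ(L, U.1)} (he : GenOn L e) (μ : Γ(M, g ⁻¹ᵁ U.1)) :
    (fun i => res (Ps g M) h (fr R he μ i)) = fr R (he.res h) (res M (g.preimage_mono h) μ) := by
  funext i
  fin_cases i
  · exact res_toPush h μ
  · refine (res_toPush h (R.t U e (CycEtaleLib.isGen_of_genOn he) • μ)).trans (congrArg (toPush g W.1) ?_)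
    exact (res_smul M _ _ _).trans (congrArg (· • res M (g.preimage_mono h) μ)
      (R.t_res U W h e _ (CycEtaleLib.isGen_of_genOn (he.res h))))

theorem isFrame_fr (hR : CycCov.IsSimple R) {U : Y.affineOpens} {e : Γ(L, U.1)} (he : GenOn L e)
    {μ : Γ(M, g ⁻¹ᵁ U.1)} (hμ : GenOn M μ) : IsFrame (Ps g M) (fr R he μ) := by
  refine GrassSch.isFrame_of_bijective fun W hW => ?_
  rw [res_fr R hW he μ]
  let μ' := res M (g.preimage_mono hW) μ
  let τ := R.t W (res L hW e) (CycEtaleLib.isGen_of_genOn (he.res hW))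
  have hm : Function.Bijective fun a : Γ(Yb, g ⁻¹ᵁ W.1) => toPush g W.1 (a • μ') := hμ _ _
  have e0 : ⇑(Fintype.linearCombination Γ(Y, W.1) (fr R (he.res hW) μ')) =
      (fun a : Γ(Yb, g ⁻¹ᵁ W.1) => toPush g W.1 (a • μ')) ∘
      (fun p : Γ(Y, W.1) × Γ(Y, W.1) => (g.app W.1).hom p.1 + (g.app W.1).hom p.2 * τ) ∘
      (fun c : Fin 2 → Γ(Y, W.1) => (c 0, c 1)) := by
    funext c
    rw [Fintype.linearCombination_apply, Fin.sum_univ_two]
    show c 0 • toPush g W.1 μ' + c 1 • toPush g W.1 (τ • μ') = _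
    rw [smul_toPush, smul_toPush, toPush_add]
    show toPush g W.1 _ = toPush g W.1 (((g.app W.1).hom (c 0) + (g.app W.1).hom (c 1) * τ) • μ')
    rw [add_smul, mul_smul]
  rw [e0]
  exact hm.comp ((bijective_coords hR W (he.res hW)).comp (finTwoArrowEquiv _).bijective)

/-- The matrix of the change of frames. -/
theorem change_fr {W : Y.affineOpens} {e e' : Γ(L, W.1)} (he : GenOn L e) (he' : GenOn L e')
    (μ μ' : Γ(M, g ⁻¹ᵁ W.1)) (a b u v f : Γ(Y, W.1)) (hu : e' = u • e) (hv : v * u = 1)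
    (hf : SecTwist.val s W.1 = f • CycCov.lpow L W.1 e 2)
    (hμ : μ' = ((g.app W.1).hom a + (g.app W.1).hom b * R.t W e (CycEtaleLib.isGen_of_genOn he)) • μ) (j : Fin 2) :
    fr R he' μ' j = ∑ i, (!![a, v * b * f; b, v * a] : Matrix (Fin 2) (Fin 2) Γ(Y, W.1)) i j • fr R he μ i := by
  have h1 := CycEtaleLib.isGen_of_genOn he
  have h2 := CycEtaleLib.isGen_of_genOn he'
  have hsq : R.t W e h1 ^ 2 = (g.app W.1).hom f := R.pow_eq W e h1 f hf
  have ht : R.t W e' h2 = (g.app W.1).hom v * R.t W e h1 := by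
    subst hu
    rw [← R.t_smul W e h1 u h2, mul_comm (R.t W (u • e) h2), ← mul_assoc, ← map_mul, hv, map_one, one_mul]
  fin_cases j
  · rw [Fin.sum_univ_two]
    show toPush g W.1 μ' = a • toPush g W.1 μ + b • toPush g W.1 (R.t W e h1 • μ)
    rw [smul_toPush, smul_toPush, toPush_add, hμ, add_smul, mul_smul]
  · rw [Fin.sum_univ_two]
    show toPush g W.1 (R.t W e' h2 • μ') =
      (v * b * f) • toPush g W.1 μ + (v * a) • toPush g W.1 (R.t W e h1 • μ)
    rw [smul_toPush, smul_toPush, toPush_add, hμ, smul_smul, smul_smul, ← add_smul, ht]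
    congr 2
    rw [map_mul, map_mul, map_mul, ← hsq]
    ring

theorem appLE_inv (σ : Yb ⟶ Yb) (hσg : σ ≫ g = g) (W : Y.Opens) (h : g ⁻¹ᵁ W ≤ σ ⁻¹ᵁ (g ⁻¹ᵁ W))
    (r : Γ(Y, W)) : (σ.appLE (g ⁻¹ᵁ W) (g ⁻¹ᵁ W) h).hom ((g.app W).hom r) = (g.app W).hom r := by
  have e1 : g.appLE W (g ⁻¹ᵁ W) le_rfl ≫ σ.appLE (g ⁻¹ᵁ W) (g ⁻¹ᵁ W) h = g.appLE W (g ⁻¹ᵁ W) le_rfl := by
    rw [Scheme.Hom.appLE_comp_appLE]
    simp only [hσg]
  rw [Scheme.Hom.app_eq_appLE]
  exact ConcreteCategory.congr_hom e1 r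

theorem res_pb {P Q : Scheme.{u}} (h : P ⟶ Q) (N : Q.Modules) {U W : Q.Opens} {V' V : P.Opens} (hWU : W ≤ U)
    (hV : V ≤ h ⁻¹ᵁ U) (hV' : V' ≤ h ⁻¹ᵁ W) (hle : V' ≤ V) (x : Γ(N, U)) :
    res (pb h N) hle (puSecLE h N hV x) = puSecLE h N hV' (res N hWU x) := by
  rw [CubeLib.res_puSecLE, CubeLib.puSecLE_res]

end Aux


open CategoryTheory AlgebraicGeometry Opposite in
/-- Flat double covers in characteristic ≠ 2 are presented here as simple cyclic covers of degree 2. Let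
K be an algebraically closed field in which 2 ≠ 0, let Y and Ȳ be reduced schemes, separated and
locally of finite type over K, L an invertible O_Y-module and s a global section of the tensor
square of L, and let g : Ȳ → Y together with its root datum be the simple cyclic cover of degree 2
defined by s — the flat double cover with g_*O_Ȳ = O_Y ⊕ L⁻¹ branched along the zeros of s. Let σ :
Ȳ → Ȳ be the covering involution: σ commutes with g and sends each local root coordinate t to −t.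
Then for every invertible O_Ȳ-module M, writing E = g_*M (locally free of rank 2) and Δ for a second
exterior power det E, the O_Ȳ-modules g^*Δ ⊗ g^*L and M ⊗ σ^*M are isomorphic; equivalently g^*(det
g_*M) = M ⊗ σ^*M ⊗ g^*L⁻¹ in Pic Ȳ (existence of an isomorphism only). (The source works with
quasi-projective varieties over K — reduced, equidimensional, quasi-projective; equidimensionality
and quasi-projectivity are not assumed here.) -/
theorem result
    {K : Type u} [Field K] [IsAlgClosed K] (h2 : (2 : K) ≠ 0) {Y Yb : Scheme.{u}}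
    (f : Y ⟶ Spec (CommRingCat.of K)) [LocallyOfFiniteType f] [IsSeparated f]
    [AlgebraicGeometry.IsReduced Y] [AlgebraicGeometry.IsReduced Yb]
    (L : Y.Modules) (hL : PicF.IsInvertible L)
    (s : Coh.structureModule Y ⟶ CohB1.tensorPow L 2)
    (g : Yb ⟶ Y) [LocallyOfFiniteType (g ≫ f)] [IsSeparated (g ≫ f)]
    (R : CycCov.Root L 2 s g) (hR : CycCov.IsSimple R)
    (σ : Yb ⟶ Yb) (hσg : σ ≫ g = g)
    (hσt : ∀ (U : Y.affineOpens) (e : L.val.obj (op U.1)) (he : CycCov.IsGen L U.1 e)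
      (hle : g ⁻¹ᵁ U.1 ≤ σ ⁻¹ᵁ (g ⁻¹ᵁ U.1)),
      (σ.appLE (g ⁻¹ᵁ U.1) (g ⁻¹ᵁ U.1) hle).hom (R.t U e he) = -R.t U e he)
    (M : Yb.Modules) (hM : PicF.IsInvertible M)
    (Δ : Y.Modules) (hΔ : ExtPow.IsExtPow 2 ((Scheme.Modules.pushforward g).obj M) Δ) :
    Nonempty (CohB1.tensorMod ((Scheme.Modules.pullback g).obj Δ) ((Scheme.Modules.pullback g).obj L) ≅
      CohB1.tensorMod M ((Scheme.Modules.pullback σ).obj M)) := by
  haveI := hR.1
  haveI := isFinite hR hL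
  haveI : Coh.IsQCoh M := TwistLib.isQCoh_of_isInvertible hM
  haveI : Coh.IsQCoh (Ps g M) := QCohLib.isQCoh_pushforward g M
  obtain ⟨φ, hφ⟩ := hΔ
  let ι := Σ' (U : Y.affineOpens) (e : Γ(L, U.1)) (μ : Γ(M, g ⁻¹ᵁ U.1)), PLift (GenOn L e ∧ GenOn M μ)
  have hle : ∀ W : Y.Opens, g ⁻¹ᵁ W ≤ σ ⁻¹ᵁ (g ⁻¹ᵁ W) := fun W x hx =>
    show g (σ x) ∈ W from (show g (σ x) = g x by rw [← Scheme.Hom.comp_apply, hσg]).symm ▸ hx
  let D : ι → Yb.Opens := fun t => g ⁻¹ᵁ t.1.1
  let w : ∀ t : ι, Γ(Δ, t.1.1) := fun t => DetDegLib.wsec φ t.1 (fr R t.2.2.2.down.1 t.2.2.1)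
  let x : ∀ t : ι, Γ(CohB1.tensorMod (pb g Δ) (pb g L), D t) := fun t =>
    shT (puSecLE g Δ le_rfl (w t)) (puSecLE g L le_rfl t.2.1)
  let y : ∀ t : ι, Γ(CohB1.tensorMod M (pb σ M), D t) := fun t =>
    shT t.2.2.1 (puSecLE σ M (hle t.1.1) t.2.2.1)
  have hw : ∀ t, GenOn Δ (w t) := fun t => TwistLib.genOn_of_genAt fun z hz =>
    DetDegLib.frameAt_wsec φ hφ t.1 _ (fun z' hz' => isFrame_fr R hR t.2.2.2.down.1 t.2.2.2.down.2 z' hz') hz
  have hx : ∀ t, GenOn _ (x t) := fun t =>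
    AmpleThLib.shT_genOn (CubeLib.genOn_puSecLE g (hw t) le_rfl) (CubeLib.genOn_puSecLE g t.2.2.2.down.1 le_rfl)
  have hy : ∀ t, GenOn _ (y t) := fun t =>
    AmpleThLib.shT_genOn t.2.2.2.down.2 (CubeLib.genOn_puSecLE σ t.2.2.2.down.2 (hle _))
  refine PinchPicLib.nonempty_iso_of_gens D (fun z => ?_) x y hx hy fun p q => ?_
  · obtain ⟨U₁, e, hU₁, he⟩ := TwistLib.exists_genOn hL (g z)
    obtain ⟨U₂, hU₂, -, μ, hμ⟩ := QuotNormLib.exists_genOn_saturated g hM (g z)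
    obtain ⟨W, hW, hzW, hWle⟩ := exists_isAffineOpen_mem_and_subset (X := Y) (x := g z) (U := U₁ ⊓ U₂) ⟨hU₁, hU₂⟩
    exact ⟨⟨⟨W, hW⟩, _, _, ⟨he.res (hWle.trans inf_le_left),
      hμ.res (g.preimage_mono (hWle.trans inf_le_right))⟩⟩, hzW⟩
  obtain ⟨c, hc⟩ := (hx p (D p ⊓ D q) inf_le_left).2 (res _ inf_le_right (x q))
  refine ⟨c, hc.symm, ModGlueLib.eq_of_locally _ _ fun z hz => ?_⟩
  obtain ⟨W, hW, hzW, hWle⟩ := exists_isAffineOpen_mem_and_subset (X := Y) (x := g z)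
    (U := p.1.1 ⊓ q.1.1) ⟨hz.1, hz.2⟩
  let W' : Y.affineOpens := ⟨W, hW⟩
  have h₁ : W ≤ p.1.1 := hWle.trans inf_le_left
  have h₂ : W ≤ q.1.1 := hWle.trans inf_le_right
  have hWD : g ⁻¹ᵁ W ≤ D p ⊓ D q := le_inf (g.preimage_mono h₁) (g.preimage_mono h₂)
  refine ⟨g ⁻¹ᵁ W, hWD, hzW, ?_⟩
  let e : Γ(L, W'.1) := res L h₁ p.2.1
  let e' : Γ(L, W'.1) := res L h₂ q.2.1
  have he : GenOn L e := p.2.2.2.down.1.res h₁
  have he' : GenOn L e' := q.2.2.2.down.1.res h₂
  let μ : Γ(M, g ⁻¹ᵁ W'.1) := res M (g.preimage_mono h₁) p.2.2.1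
  let μ' : Γ(M, g ⁻¹ᵁ W'.1) := res M (g.preimage_mono h₂) q.2.2.1
  have hμ : GenOn M μ := p.2.2.2.down.2.res _
  obtain ⟨u, hu⟩ := (CycEtaleLib.isGen_of_genOn he).2 e'
  replace hu : e' = u • e := hu.symm
  obtain ⟨v, hv⟩ := isUnit_iff_exists_inv'.1 (CubeLib.isUnit_of_genOn he (a := u) (hu ▸ he'))
  obtain ⟨f, hf⟩ := exists_coef (s := s) he
  obtain ⟨c₁, hc₁⟩ := (CycEtaleLib.isGen_of_genOn hμ).2 μ'
  obtain ⟨⟨a, b⟩, hab⟩ := (bijective_coords hR W' he).2 c₁
  dsimp only at hab hc₁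
  have hμ' : μ' = ((g.app W).hom a + (g.app W).hom b * R.t W' e (CycEtaleLib.isGen_of_genOn he)) • μ := by
    rw [hab]; exact hc₁.symm
  let N : Γ(Yb, g ⁻¹ᵁ W) := (g.app W).hom (a ^ 2 - b ^ 2 * f)
  have ew : res Δ h₂ (w q) = (v * (a ^ 2 - b ^ 2 * f)) • res Δ h₁ (w p) := by
    refine (DetDegLib.wsec_res φ hφ q.1 W' h₂ _).trans ?_
    show DetDegLib.wsec φ W' (fun i => res (Ps g M) h₂ (fr R q.2.2.2.down.1 q.2.2.1 i)) = _
    rw [res_fr R (W := W') h₂ q.2.2.2.down.1]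
    refine (DetDegLib.wsec_matrix φ W' (fr R he μ) _ (fun z' hz' => isFrame_fr R hR he hμ z' hz') _
      (change_fr R he he' μ μ' a b u v f hu hv hf hμ')).trans ?_
    rw [← res_fr R (W := W') h₁ p.2.2.2.down.1, Matrix.det_fin_two_of]
    refine congrArg₂ (· • ·) (by ring) (DetDegLib.wsec_res φ hφ p.1 W' h₁ _).symm
  have eX : res _ (g.preimage_mono h₂) (x q) = N • res _ (g.preimage_mono h₁) (x p) := by
    show res _ _ (shT _ _) = N • res _ _ (shT _ _)
    rw [AmpleLib.shT_res, AmpleLib.shT_res, res_pb g Δ h₂ _ le_rfl, res_pb g L h₂ _ le_rfl,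
      res_pb g Δ h₁ _ le_rfl, res_pb g L h₁ _ le_rfl, ew, show res L h₂ q.2.1 = u • res L h₁ p.2.1 from hu,
      KFlatLib.puSecLE_smul, KFlatLib.puSecLE_smul, AmpleLib.shT_smul, ← map_mul, ← Scheme.Hom.app_eq_appLE,
      show v * (a ^ 2 - b ^ 2 * f) * u = (v * u) * (a ^ 2 - b ^ 2 * f) by ring, hv, one_mul]
  have hσc : (σ.appLE _ _ (hle W)).hom ((g.app W).hom a + (g.app W).hom b * R.t W' e (CycEtaleLib.isGen_of_genOn he)) =
      (g.app W).hom a - (g.app W).hom b * R.t W' e (CycEtaleLib.isGen_of_genOn he) := by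
    rw [map_add, map_mul, appLE_inv σ hσg W (hle W), appLE_inv σ hσg W (hle W),
      hσt W' e (CycEtaleLib.isGen_of_genOn he) (hle W), mul_neg, sub_eq_add_neg]
  have eY : res _ (g.preimage_mono h₂) (y q) = N • res _ (g.preimage_mono h₁) (y p) := by
    show res _ _ (shT _ _) = N • res _ _ (shT _ _)
    rw [AmpleLib.shT_res, AmpleLib.shT_res, res_pb σ M (g.preimage_mono h₂) _ (hle W),
      res_pb σ M (g.preimage_mono h₁) _ (hle W)]
    show shT μ' (puSecLE σ M (hle W) μ') = N • shT μ (puSecLE σ M (hle W) μ)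
    rw [hμ', KFlatLib.puSecLE_smul, AmpleLib.shT_smul, hσc]
    refine congrArg (· • _) ?_
    show _ = (g.app W).hom (a ^ 2 - b ^ 2 * f)
    rw [map_sub, map_mul, map_pow, map_pow, ← R.pow_eq W' e (CycEtaleLib.isGen_of_genOn he) f hf]
    ring
  have hcW : Yb.presheaf.map (homOfLE hWD).op c = N := by
    refine (hx p (g ⁻¹ᵁ W) (g.preimage_mono h₁)).1 ?_
    have h := congrArg (res _ hWD) hc
    rw [res_smul, res_res, res_res] at h
    exact h.trans eX
  show res _ hWD _ = res _ hWD _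
  rw [res_smul, res_res, res_res, hcW]
  exact eY

end Groth.Agent.S19650
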