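import Groth.Statements.S19651
-- import your own Groth.Agent.* helpers here

set_option autoImplicit false
universe u v
open AbVar

namespace Groth.Agent.S19651

open Polynomial in
/-- Stated for an arbitrary invariant bilinear form, as the argument there allows. Let k be a field, V a
k-vector space with a bilinear form B and M a linear automorphism of V with B(Mx, My) = B(x, y) for
all x, y. If Q₁ and Q₂ are polynomials such that the reciprocal polynomial of Q₁ (its coefficient
list reversed) is coprime to Q₂, then every vector killed by a power of Q₁(M) is B-orthogonal to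
every vector killed by a power of Q₂(M). With Q₁ = Q₂ = Q this says that the generalized kernel of
Q(M) is totally isotropic whenever Q is coprime to its reciprocal polynomial, which for an
irreducible Q means that Q is not self-reciprocal. (The published statement takes M symplectic and
Q₁, Q₂ irreducible factors of the characteristic polynomial, with Q not self-reciprocal in the first
clause; its second clause asks Q₁ and Q₂ to be distinct and not reciprocal, which holds as proved
when this is read as saying that Q₂ is not the reciprocal of Q₁, but fails if it only means that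
neither is self-reciprocal, as the diagonal matrix with entries 2 and 1/2 preserving the standard
alternating form on k² shows; the coprimality of the reciprocal of Q₁ with Q₂, which is what the
published proof uses, is imposed here and covers both clauses.) -/
theorem result
    {k : Type u} [Field k] {V : Type v} [AddCommGroup V] [Module k V]
    (B : LinearMap.BilinForm k V) (M : V ≃ₗ[k] V)
    (hM : ∀ x y : V, B (M x) (M y) = B x y)
    (Q₁ Q₂ : k[X]) (h : IsCoprime Q₁.reverse Q₂)
    (x y : V)
    (hx : ∃ n : ℕ, (Polynomial.aeval (M : V →ₗ[k] V) Q₁ ^ n) x = 0)
    (hy : ∃ n : ℕ, (Polynomial.aeval (M : V →ₗ[k] V) Q₂ ^ n) y = 0) :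
    B x y = 0 := by
  classical
  let T : Module.End k V := (M : V →ₗ[k] V)
  have hT : ∀ (j : ℕ) (a b : V), B ((T ^ j) a) ((T ^ j) b) = B a b := by
    intro j
    induction j with
    | zero => intro a b; simp
    | succ j ih => intro a b; rw [pow_succ', Module.End.mul_apply, Module.End.mul_apply]; exact (hM _ _).trans (ih a b)
  have key : ∀ (Q : k[X]) (d : ℕ), Q.natDegree ≤ d → ∀ a b : V,
      B ((T ^ d) a) (aeval T (Q.reflect d) b) = B (aeval T Q a) b := by
    intro Q d
    revert Q
    refine Polynomial.induction_with_natDegree_le (fun Q => ∀ a b : V,
      B ((T ^ d) a) (aeval T (Q.reflect d) b) = B (aeval T Q a) b) d ?_ ?_ ?_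
    · intro a b; simp
    · intro i r hr hi a b
      rw [reflect_C_mul_X_pow, revAt_le hi, map_mul, map_mul, aeval_C, map_pow, map_pow, aeval_X,
        Algebra.algebraMap_eq_smul_one, smul_mul_assoc, one_mul, smul_mul_assoc, one_mul,
        LinearMap.smul_apply, LinearMap.smul_apply, map_smul, map_smul, LinearMap.smul_apply]
      rw [show T ^ d = T ^ (d - i) * T ^ i by rw [← pow_add, Nat.sub_add_cancel hi], Module.End.mul_apply, hT]
    · intro p q _ _ hp hq a b
      rw [reflect_add, map_add, map_add, LinearMap.add_apply, LinearMap.add_apply, map_add, map_add,
        LinearMap.add_apply, hp a b, hq a b]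
  have iter : ∀ (n : ℕ) (a b : V), (aeval T Q₁ ^ n) a = 0 → B a ((aeval T Q₁.reverse ^ n) b) = 0 := by
    intro n
    induction n with
    | zero => intro a b ha; simp at ha; simp [ha]
    | succ n ih =>
      intro a b ha
      have hbij : Function.Surjective (T ^ Q₁.natDegree : Module.End k V) := by
        intro z
        induction Q₁.natDegree generalizing z with
        | zero => exact ⟨z, by simp⟩
        | succ j ihj =>
          obtain ⟨w, hw⟩ := ihj (M.symm z)
          exact ⟨w, by rw [pow_succ', Module.End.mul_apply, hw]; exact M.apply_symm_apply z⟩
      obtain ⟨a', rfl⟩ := hbij a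
      rw [pow_succ' (aeval T Q₁.reverse), Module.End.mul_apply]
      rw [show Q₁.reverse = Q₁.reflect Q₁.natDegree from rfl] at *
      rw [key Q₁ _ le_rfl]
      refine ih _ _ ?_
      have hinj : ∀ j : ℕ, Function.Injective (T ^ j : Module.End k V) := by
        intro j
        induction j with
        | zero => intro _ _ h; simpa using h
        | succ j ihj => intro a b h; rw [pow_succ', Module.End.mul_apply, Module.End.mul_apply] at h; exact ihj (M.injective h)
      apply hinj Q₁.natDegree
      rw [map_zero, ← Module.End.mul_apply, ← Module.End.mul_apply, ← ha, ← Module.End.mul_apply]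
      congr 1
      rw [mul_assoc, ← pow_succ]
      have hcom : Commute (aeval T (X : k[X])) (aeval T Q₁) := (Polynomial.commute_X Q₁).map (aeval T)
      rw [aeval_X] at hcom
      exact (hcom.pow_pow _ _).eq
  obtain ⟨n, hx⟩ := hx
  obtain ⟨m, hy⟩ := hy
  obtain ⟨a, b, hab⟩ := h.pow (m := n) (n := m)
  have hy' : y = (aeval T Q₁.reverse ^ n) (aeval T a y) := by
    have := congrArg (fun P => aeval T P y) hab
    simp only [map_add, map_mul, map_pow, map_one, LinearMap.add_apply, Module.End.mul_apply, Module.End.one_apply] at this
    rw [show (aeval T Q₂ ^ m) y = 0 from hy, map_zero, add_zero] at this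
    conv_lhs => rw [← this]
    rw [← Module.End.mul_apply, ← Module.End.mul_apply, ← map_pow, ← map_mul, ← map_mul, mul_comm]
  rw [hy']
  exact iter n x _ hx

end Groth.Agent.S19651
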