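import Groth.Statements.S19652
import Mathlib

-- import your own Groth.Agent.* helpers here

set_option autoImplicit false
universe u v
open AbVar

namespace Groth.Agent.S19652

open Polynomial in
/-- Stated for an arbitrary invariant nondegenerate bilinear form, as the argument there allows. Let k
be a field, V a finite-dimensional k-vector space with a nondegenerate bilinear form B and M a
linear automorphism of V with B(Mx, My) = B(x, y) for all x, y. If Q is a polynomial associated to
its own reciprocal polynomial (its coefficient list reversed), then B restricted to the generalized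
kernel of Q(M), the union of the kernels of the powers Q(M)^n, is nondegenerate. (The published
statement takes M symplectic and Q a self-reciprocal divisor of the characteristic polynomial;
divisibility plays no role and is not assumed.) -/
theorem result
    {k : Type u} [Field k] {V : Type v} [AddCommGroup V] [Module k V] [FiniteDimensional k V]
    (B : LinearMap.BilinForm k V) (hB : B.Nondegenerate) (M : V ≃ₗ[k] V)
    (hM : ∀ x y : V, B (M x) (M y) = B x y)
    (Q : k[X]) (hQ : Associated Q Q.reverse) :
    (B.restrict (⨆ n : ℕ, LinearMap.ker (Polynomial.aeval (M : V →ₗ[k] V) Q ^ n))).Nondegenerate := by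
  classical
  let Mm : V →ₗ[k] V := (M : V →ₗ[k] V)
  let f : V →ₗ[k] V := Polynomial.aeval Mm Q
  let d := Q.natDegree
  obtain ⟨u, hu⟩ := hQ
  obtain ⟨c, hc, hcu⟩ := Polynomial.isUnit_iff.1 u.isUnit
  have hc0 : c ≠ 0 := hc.ne_zero
  have hpow : ∀ (i : ℕ) (x y : V), B ((Mm ^ i) x) ((Mm ^ i) y) = B x y := by
    intro i
    induction i with
    | zero => simp
    | succ i ih =>
      intro x y
      rw [pow_succ', Module.End.mul_apply, Module.End.mul_apply]
      exact (hM _ _).trans (ih x y)
  have hadj : ∀ x z, B (f x) ((Mm ^ d) z) = c * B x (f z) := by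
    intro x z
    have e1 : c • f z = Polynomial.aeval Mm Q.reverse z := by
      rw [← hu, ← hcu, map_mul, Polynomial.aeval_C, ← Algebra.commutes, Module.End.mul_apply, Module.algebraMap_end_apply]
    have e2 : Polynomial.aeval Mm Q.reverse z = ∑ i ∈ Finset.range (d + 1), Q.coeff i • ((Mm ^ (d - i)) z) := by
      rw [Polynomial.aeval_eq_sum_range' (show Q.reverse.natDegree < d + 1 from Nat.lt_succ_of_le (Polynomial.reverse_natDegree_le Q)), LinearMap.sum_apply, ← Finset.sum_range_reflect]
      refine Finset.sum_congr rfl fun i hi => ?_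
      rw [Finset.mem_range] at hi
      rw [LinearMap.smul_apply, show d + 1 - 1 - i = d - i by omega, Polynomial.coeff_reverse, Polynomial.revAt_le (show d - i ≤ Q.natDegree by omega), show Q.natDegree - (d - i) = i by omega]
    rw [show c * B x (f z) = B x (c • f z) by simp, e1, e2, show f x = ∑ i ∈ Finset.range (d + 1), Q.coeff i • ((Mm ^ i) x) by simp [f, d, Polynomial.aeval_eq_sum_range], map_sum, map_sum, LinearMap.sum_apply]
    refine Finset.sum_congr rfl fun i hi => ?_
    rw [Finset.mem_range] at hi
    rw [map_smul, LinearMap.smul_apply, map_smul, show Mm ^ d = Mm ^ i * Mm ^ (d - i) by rw [← pow_add]; congr 1; omega, Module.End.mul_apply, hpow]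
  have hcomm : Commute f Mm := Algebra.commute_of_mem_adjoin_self (Polynomial.aeval_mem_adjoin_singleton k Mm) |>.symm
  have hadjn : ∀ (n : ℕ) x z, B ((f ^ n) x) ((Mm ^ (d * n)) z) = c ^ n * B x ((f ^ n) z) := by
    intro n
    induction n with
    | zero => simp
    | succ n ih =>
      intro x z
      rw [pow_succ' f, Module.End.mul_apply, Nat.mul_succ, add_comm, pow_add, Module.End.mul_apply, hadj, ← Module.End.mul_apply f (Mm ^ (d * n)), (hcomm.pow_right _).eq, Module.End.mul_apply, ih, ← Module.End.mul_apply (f ^ n), ← pow_succ, pow_succ c n]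
      rw [← pow_succ' f]
      ring
  obtain ⟨N, hN⟩ := (Filter.eventually_atTop.1 ((LinearMap.eventually_isCompl_ker_pow_range_pow f).and (LinearMap.eventually_iSup_ker_pow_eq f)))
  obtain ⟨hcompl, hsup⟩ := hN N le_rfl
  have hl : ∀ w ∈ LinearMap.ker (f ^ N), ∀ v, B w ((f ^ N) v) = 0 := fun w hw v => by
    have := hadjn N w v
    rw [LinearMap.mem_ker.1 hw, map_zero, LinearMap.zero_apply] at this
    exact (mul_eq_zero.1 this.symm).resolve_left (pow_ne_zero _ hc0)
  have hr : ∀ w ∈ LinearMap.ker (f ^ N), ∀ v, B ((f ^ N) v) w = 0 := fun w hw v => by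
    have hinj : Function.Injective (Mm ^ (d * N)) := by
      rw [Module.End.coe_pow]; exact M.injective.iterate _
    obtain ⟨w', rfl⟩ := LinearMap.surjective_of_injective hinj w
    have h1 := LinearMap.mem_ker.1 hw
    rw [← Module.End.mul_apply, ((hcomm.pow_right _).pow_left _).eq, Module.End.mul_apply] at h1
    rw [hadjn, hinj (h1.trans (map_zero _).symm), map_zero, mul_zero]
  change (B.restrict (⨆ n : ℕ, LinearMap.ker (f ^ n))).Nondegenerate
  rw [hsup]
  constructor
  · rintro ⟨w, hw⟩ h
    refine Subtype.ext (hB.1 w fun y => ?_)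
    obtain ⟨a, ha, b, ⟨v, rfl⟩, rfl⟩ := Submodule.mem_sup.1 (hcompl.sup_eq_top.ge (Submodule.mem_top (x := y)))
    rw [map_add, hl w hw v, add_zero]
    exact h ⟨a, ha⟩
  · rintro ⟨w, hw⟩ h
    refine Subtype.ext (hB.2 w fun y => ?_)
    obtain ⟨a, ha, b, ⟨v, rfl⟩, rfl⟩ := Submodule.mem_sup.1 (hcompl.sup_eq_top.ge (Submodule.mem_top (x := y)))
    rw [map_add, LinearMap.add_apply, hr w hw v, add_zero]
    exact h ⟨a, ha⟩

end Groth.Agent.S19652
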