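import Groth.Statements.S19653
import Groth.Agent.DvrProperLib.GeomConnApps
import Groth.Agent.S19656
-- import your own Groth.Agent.* helpers here

set_option autoImplicit false
universe u
open AlgebraicGeometry CategoryTheory CategoryTheory.Limits
open EGA43

namespace Groth.Agent.S19653

/-- Let R be a discrete valuation ring and f : X → Spec R a flat, separated morphism of finite type
whose closed fibre is nonempty and proper over the residue field and whose generic fibre is
geometrically connected. Then f is proper, and its closed fibre is geometrically connected too. (The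
published statement does not require the closed fibre to be nonempty; the affine line over the
fraction field, viewed over R, has empty closed fibre and satisfies the other hypotheses without
being proper, and the published proof uses a point of the closed fibre, so nonemptiness is assumed
here.) -/
theorem result
    (R : Type u) [CommRing R] [IsDomain R] [IsDiscreteValuationRing R]
    (X : Scheme.{u}) (f : X ⟶ Spec (CommRingCat.of R))
    [Flat f] [IsSeparated f] [LocallyOfFiniteType f] [QuasiCompact f]
    [IsProper (f.fiberToSpecResidueField (IsLocalRing.closedPoint R))]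
    [Nonempty ↥(f.fiber (IsLocalRing.closedPoint R))]
    [GeometricallyConnected (f.fiberToSpecResidueField (genericPoint ↥(Spec (CommRingCat.of R))))] :
    IsProper f ∧ GeometricallyConnected (f.fiberToSpecResidueField (IsLocalRing.closedPoint R)) := by
  have : IsLocallyNoetherian (Spec (CommRingCat.of R)) := isLocallyNoetherian_Spec.mpr inferInstance
  have hmax : ∀ η : Spec (CommRingCat.of R), (∀ η' : Spec (CommRingCat.of R), η' ⤳ η → η' = η) →
      η = genericPoint (Spec (CommRingCat.of R)) := fun η h ↦
    (h _ ((genericPoint_spec _).specializes trivial)).symm
  obtain ⟨U, hU, hP⟩ := Groth.Agent.S19656.result f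
    (fun η h _ ↦ by rw [hmax η h]; infer_instance) (IsLocalRing.closedPoint R)
    inferInstance
  obtain rfl : U = ⊤ := eq_top_iff.mpr fun x _ ↦
    (IsLocalRing.specializes_closedPoint (R := R) x).mem_open U.isOpen hU
  have hf : IsProper f :=
    IsZariskiLocalAtTarget.of_iSup_eq_top (P := @IsProper)
      (fun _ : PUnit.{1} ↦ (⊤ : (Spec (CommRingCat.of R)).Opens)) iSup_const (fun _ ↦ hP)
  refine ⟨hf, DvrProperLib.geometricallyConnected_fiber f _ fun K _ y hy ↦ ?_⟩
  obtain ⟨x⟩ := ‹Nonempty ↥(f.fiber (IsLocalRing.closedPoint R))›
  refine DvrProperLib.connectedSpace_pullback_of_maximal f (fun η h ↦ ?_) K y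
    ⟨f.fiberι _ x, ?_⟩
  · rw [hmax η h]
    infer_instance
  · rw [hy]
    exact (f.range_fiberι _).le ⟨x, rfl⟩

end Groth.Agent.S19653
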