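import Groth.Statements.S19655
import Groth.Agent.NeronExtLib.Basic

set_option autoImplicit false
universe u
open CategoryTheory CategoryTheory.Limits MonoidalCategory CartesianMonoidalCategory AlgebraicGeometry
open Neron

namespace Groth.Agent.S19655

/-- Let R be a Dedekind domain with fraction field K, A an abelian variety over K (a proper smooth
geometrically connected K-group scheme) and N a Néron model of A over Spec R. Then for every smooth
R-scheme Y, every K-morphism to A defined on a dense open subscheme of the generic fibre of Y is the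
restriction of exactly one R-morphism Y → N: K-rational maps from smooth R-schemes to A extend
uniquely to the Néron model. (The text works over a connected Dedekind scheme; the affine case is
stated.) -/
theorem result
    (R : Type u) [CommRing R] [IsDedekindDomain R]
    (N : Over (Spec (CommRingCat.of R))) (A : Over (Spec (CommRingCat.of (FractionRing R))))
    (e : (Neron.genericFibre R).obj N ≅ A) (hN : Neron.IsNeronModelOf R N A e)
    [GrpObj A] [IsProper A.hom] [Smooth A.hom] [GeometricallyConnected A.hom]
    (Y : Over (Spec (CommRingCat.of R))) [Smooth Y.hom]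
    (W : ((Neron.genericFibre R).obj Y).left.Opens) (hW : Dense (W : Set ↥((Neron.genericFibre R).obj Y).left))
    (g : (W : Scheme.{u}) ⟶ A.left) (hg : g ≫ A.hom = W.ι ≫ ((Neron.genericFibre R).obj Y).hom) :
    ∃! h : Y ⟶ N, W.ι ≫ ((Neron.genericFibre R).map h ≫ e.hom).left = g := by
  let K := FractionRing R
  let p := ((Neron.genericFibre R).obj Y).hom
  haveI : Smooth p := MorphismProperty.pullback_snd (P := @Smooth) _ _ ‹Smooth Y.hom›
  haveI := WeilExtLib.isLocallyNoetherian_of_smooth p
  haveI := WeilExtLib.isReduced_of_smooth_dedekind p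
  obtain ⟨V, hWV, g', hg', hgW, hV1⟩ := WeilExtLib.exists_extend_proper A.hom p
    (fun x _ => WeilExtLib.isRegular_stalk_smooth p x) W hW g hg
  have hdense : ∀ x, x ∈ closure ((V : Set ((Neron.genericFibre R).obj Y).left) ∩ {z | p z = p x}) := fun x => by
    have : {z | p z = p x} = Set.univ := Set.eq_univ_of_forall fun z => Subsingleton.elim (α := PrimeSpectrum K) _ _
    rw [this, Set.inter_univ]
    exact closure_mono hWV (hW x)
  haveI : GrpObj (Over.mk A.hom) := ‹GrpObj A›
  obtain ⟨G, ⟨hG, hGV⟩, -⟩ := Groth.Agent.S3249.result p A.hom V hdense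
    (fun x hx => WeilExtLib.two_le_of_not_le_one fun h => hx (hV1 x h)) g' hg'
  let φ : (Neron.genericFibre R).obj Y ⟶ A := Over.homMk G hG
  obtain ⟨h, hh, huniq⟩ := ((hN.2.2.2.2) Y ‹_›).existsUnique φ
  have hWG : W.ι ≫ G = g := by
    rw [← hgW, ← hGV, ← Category.assoc, Scheme.homOfLE_ι]
  refine ⟨h, ?_, fun h' hh' => huniq h' (Over.OverMorphism.ext ?_)⟩
  · dsimp only
    rw [show (Neron.genericFibre R).map h ≫ e.hom = φ from hh]
    exact hWG
  · haveI : IsDominant W.ι := ⟨by rw [DenseRange, Scheme.Opens.range_ι]; exact hW⟩
    refine ext_of_isDominant_of_isSeparated A.hom ?_ W.ι (hh'.trans hWG.symm)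
    exact (Over.w _).trans hG.symm

end Groth.Agent.S19655
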