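import Groth.Statements.S19659
import Groth.Agent.AbSchLib.Flat
import Mathlib.AlgebraicGeometry.Geometrically.Connected
import Mathlib.AlgebraicGeometry.Morphisms.Proper
import Groth.Agent.S12442
-- helpers

set_option autoImplicit false
universe u
open CategoryTheory CategoryTheory.Limits MonoidalCategory CartesianMonoidalCategory MonObj GrpObj AlgebraicGeometry
open AbSch

namespace Groth.Agent.S19659

/-- Let S be a scheme, A and B abelian schemes over S (proper smooth S-group schemes with geometrically
connected fibres) and f : A → B a homomorphism. Then f is flat exactly when it is surjective. -/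
theorem result
    {S : Scheme.{u}} (A B : Over S) [GrpObj A] [IsProper A.hom] [Smooth A.hom] [GeometricallyConnected A.hom]
    [GrpObj B] [IsProper B.hom] [Smooth B.hom] [GeometricallyConnected B.hom]
    (f : A ⟶ B) [IsMonHom f] :
    Flat f.left ↔ Surjective f.left := by
  constructor
  · intro hflat
    haveI : IsProper (f.left ≫ B.hom) := by rw [Over.w]; infer_instance
    haveI : IsProper f.left := IsProper.of_comp f.left B.hom
    haveI : LocallyOfFinitePresentation (f.left ≫ B.hom) := by rw [Over.w]; infer_instance
    haveI : LocallyOfFinitePresentation f.left := Groth.Agent.S12442.lfp_of_comp_lft f.left B.hom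
    constructor
    intro y
    have hc : _root_.IsPreconnected (B.hom.base ⁻¹' {B.hom.base y}) := (B.hom.isConnected_preimage_singleton _).2
    let e : B.left := η[B].left.base (B.hom.base y)
    have he : e ∈ B.hom.base ⁻¹' {B.hom.base y} :=
      congrArg (fun m : S ⟶ S => m.base (B.hom.base y)) (Over.w η[B])
    have hmem : e ∈ Set.range f.left.base := ⟨η[A].left.base (B.hom.base y), by
      rw [← Scheme.Hom.comp_apply, ← Over.comp_left, IsMonHom.one_hom]⟩
    exact hc.subset_isClopen ⟨f.left.isClosedMap.isClosed_range, f.left.isOpenMap.isOpen_range⟩
      ⟨e, he, hmem⟩ (rfl : y ∈ B.hom.base ⁻¹' {B.hom.base y})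
  · intro hsurj
    haveI := AbSchLib.geometricallyReduced_of_smooth B.hom
    exact AbSchLib.flat_of_surjective f

end Groth.Agent.S19659
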