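import Groth.Statements.S1966
import Mathlib.Dynamics.Newton
import Mathlib.RingTheory.Henselian
import Mathlib.RingTheory.Nilpotent.Basic
import Mathlib.RingTheory.Ideal.Quotient.Operations
-- import your own Groth.Agent.* helpers here

set_option autoImplicit false
universe u
open EtAlg

namespace Groth.Agent.S1966

/-- Towers indexed by the natural numbers: let (A_k) be rings with surjective transition maps A_{k+1} ->
A_k whose kernels consist of nilpotent elements, and let A be a ring with compatible projections p_k
: A -> A_k identifying A with the set of compatible sequences (p is jointly injective and every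
compatible sequence comes from an element of A). Then for every k the pair (A, ker p_k) is
henselian. -/
theorem result (A : Type u) [CommRing A] (As : ℕ → Type u) [∀ k, CommRing (As k)]
    (t : ∀ k, As (k + 1) →+* As k) (ht : ∀ k, Function.Surjective (t k))
    (hnil : ∀ k (x : As (k + 1)), t k x = 0 → IsNilpotent x)
    (p : ∀ k, A →+* As k) (hp : ∀ k, (t k).comp (p (k + 1)) = p k)
    (hinj : ∀ a b : A, (∀ k, p k a = p k b) → a = b)
    (hsurj : ∀ x : ∀ k, As k, (∀ k, t k (x (k + 1)) = x k) → ∃ a : A, ∀ k, p k a = x k) (k : ℕ) :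
    HenselianRing A (RingHom.ker (p k)) := by
  have htp : ∀ n z, t n (p (n + 1) z) = p n z := fun n z => congrArg (fun f => f z) (hp n)
  have h0 : ∀ m (z z' : A), p m z = p m z' → p 0 z = p 0 z' := by
    intro m
    induction m with
    | zero => exact fun _ _ h => h
    | succ m ih => exact fun z z' h => ih z z' (by rw [← htp, h, htp])
  have hnilp : ∀ n (z : A), p k z = 0 → IsNilpotent (p n z) := by
    intro n z hz
    induction n with
    | zero => exact ⟨1, by rw [pow_one, h0 k z 0 (by rw [hz, map_zero]), map_zero]⟩
    | succ n ih =>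
      obtain ⟨m, hm⟩ := ih
      exact IsNilpotent.of_pow (hnil n _ (show t n (p (n + 1) z ^ m) = 0 by rw [map_pow, htp, hm]))
  have hlift : ∀ (n : ℕ) (u : As (n + 1)), IsUnit (t n u) → IsUnit u := fun n u hu => by
    obtain ⟨v, hv⟩ := ht n ↑hu.unit⁻¹
    exact isUnit_of_mul_isUnit_left (y := v) (by
      have := (hnil n (u * v - 1) (by rw [map_sub, map_mul, hv, map_one, hu.mul_val_inv, sub_self])).isUnit_add_one
      simpa using this)
  have hunit : ∀ (w : A), IsUnit (p k w) → ∀ n, IsUnit (p n w) := by
    intro w hw
    have hbase : IsUnit (p 0 w) := by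
      have : ∀ m, IsUnit (p m w) → IsUnit (p 0 w) := by
        intro m
        induction m with
        | zero => exact id
        | succ m ih => exact fun h => ih (by rw [← htp]; exact h.map (t m))
      exact this k hw
    intro n
    induction n with
    | zero => exact hbase
    | succ n ih => exact hlift n _ (by rw [htp]; exact ih)
  refine ⟨fun x hx => Ideal.mem_jacobson_bot.2 fun y => ?_, fun f _ a₀ ha hd => ?_⟩
  · have hu : ∀ n, IsUnit (p n (x * y + 1)) := hunit _ (by
      rw [map_add, map_mul, RingHom.mem_ker.1 hx, zero_mul, map_one, zero_add]; exact isUnit_one)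
    obtain ⟨v, hv⟩ := hsurj (fun n => ↑(hu n).unit⁻¹) (fun n => by
      apply (hu n).mul_left_cancel
      rw [(hu n).mul_val_inv, ← htp, ← map_mul, (hu (n + 1)).mul_val_inv, map_one])
    exact IsUnit.of_mul_eq_one v (hinj _ _ fun n => by rw [map_mul, hv, (hu n).mul_val_inv, map_one])
  · obtain ⟨q, hq⟩ := isUnit_iff_exists_inv.1 hd
    obtain ⟨q, rfl⟩ := Ideal.Quotient.mk_surjective q
    rw [← map_mul, ← map_one (Ideal.Quotient.mk (RingHom.ker (p k))), Ideal.Quotient.eq, RingHom.mem_ker, map_sub,
      map_one, sub_eq_zero, map_mul] at hq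
    have hdu := hunit _ (IsUnit.of_mul_eq_one _ hq)
    have hex : ∀ n, ∃! r : As n, IsNilpotent (p n a₀ - r) ∧ Polynomial.aeval r (f.map (p n)) = 0 := fun n => by
      apply Polynomial.existsUnique_nilpotent_sub_and_aeval_eq_zero
      · simpa [Polynomial.eval_map, Polynomial.eval₂_at_apply] using hnilp n _ (RingHom.mem_ker.1 ha)
      · simpa [Polynomial.derivative_map, Polynomial.eval_map, Polynomial.eval₂_at_apply] using hdu n
    choose r hr hru using hex
    obtain ⟨a, hra⟩ := hsurj r (fun n => hru n _ ⟨by simpa [map_sub, htp] using (hr (n + 1)).1.map (t n), by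
      have := congrArg (t n) (hr (n + 1)).2
      simp only [Polynomial.coe_aeval_eq_eval, map_zero] at this ⊢
      rw [← Polynomial.eval₂_at_apply, Polynomial.eval₂_eq_eval_map, Polynomial.map_map, hp] at this
      exact this⟩)
    refine ⟨a, hinj _ _ fun n => ?_, RingHom.mem_ker.2 ?_⟩
    · rw [map_zero, ← (hr n).2, ← hra n]
      simp [Polynomial.eval_map, Polynomial.eval₂_at_apply]
    · rw [map_sub, hra, sub_eq_zero]
      refine (hru k _ ⟨by rw [sub_self]; exact IsNilpotent.zero, ?_⟩).symm
      simpa [Polynomial.eval_map, Polynomial.eval₂_at_apply] using RingHom.mem_ker.1 ha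

end Groth.Agent.S1966
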