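import Groth.Statements.S19660
import Mathlib.Tactic.LinearCombination
import Mathlib.RingTheory.Artinian.Module


set_option linter.style.haveILetI false
set_option backward.isDefEq.respectTransparency false
set_option maxHeartbeats 1000000
-- import your own Groth.Agent.* helpers here

set_option autoImplicit false
universe u v
open AbVar

namespace Groth.Agent.S19660


section helpers
variable {k : Type u} [Field k] {V : Type v} [AddCommGroup V] [Module k V]

/-- generalised eigenvectors for `a`, `b` with `a*b ≠ q` are orthogonal for a `q`-conformal form -/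
lemma orth {B : LinearMap.BilinForm k V} {q : k} {f : Module.End k V}
    (hf : ∀ x y, B (f x) (f y) = q * B x y) {a b : k} (hab : a * b ≠ q) :
    ∀ (i j : ℕ) (x y : V), ((f - a • 1) ^ i) x = 0 → ((f - b • 1) ^ j) y = 0 → B x y = 0 := by
  intro i
  induction i with
  | zero => intro j x y hx _; simp at hx; simp [hx]
  | succ i ihi =>
    intro j
    induction j with
    | zero => intro x y _ hy; simp at hy; simp [hy]
    | succ j ihj =>
      intro x y hx hy
      set N := f - a • (1 : Module.End k V) with hN
      set N' := f - b • (1 : Module.End k V) with hN'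
      have hx' : (N ^ i) (N x) = 0 := by rwa [pow_succ] at hx
      have hy' : (N' ^ j) (N' y) = 0 := by rwa [pow_succ] at hy
      have h1 : B (N x) (N' y) = 0 := ihi j (N x) (N' y) hx' hy'
      have h2 : B (N x) y = 0 := ihi (j + 1) (N x) y hx' hy
      have h3 : B x (N' y) = 0 := ihj x (N' y) hx hy'
      have e1 : f x = N x + a • x := by simp [hN]
      have e2 : f y = N' y + b • y := by simp [hN']
      have h := hf x y
      rw [e1, e2] at h
      simp only [map_add, LinearMap.add_apply, map_smul, LinearMap.smul_apply, smul_eq_mul, h1, h2, h3,
        mul_zero, add_zero, zero_add] at h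
      have : (q - a * b) * B x y = 0 := by linear_combination -h
      exact (mul_eq_zero.mp this).resolve_left (sub_ne_zero.mpr (Ne.symm hab))

/-- `V` is spanned by a maximal generalised eigenspace and the range of a high power -/
lemma exists_decomp [FiniteDimensional k V] (f : Module.End k V) (c : k) :
    ∀ (N : ℕ) (z : V), ∃ y ∈ Module.End.maxGenEigenspace f c, ∃ w, z = y + ((f - c • 1) ^ N) w := by
  intro N z
  obtain ⟨n, hn⟩ := Filter.eventually_atTop.mp (LinearMap.eventually_isCompl_ker_pow_range_pow (f - c • 1))
  have h := hn (max n N) (le_max_left _ _)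
  obtain ⟨y, hy, u, ⟨w, rfl⟩, rfl⟩ := Submodule.mem_sup.mp (h.sup_eq_top ▸ Submodule.mem_top (x := z))
  refine ⟨y, (Module.End.mem_maxGenEigenspace _ _ _).mpr ⟨_, hy⟩, ((f - c • 1) ^ (max n N - N)) w, ?_⟩
  rw [← Module.End.mul_apply, ← pow_add, Nat.add_sub_cancel' (le_max_right n N)]

end helpers

/-- The text applies this to the Frobenius acting on the points of prime order of a principally
polarised abelian variety over a finite field with q elements and to their Weil pairing. Let k be a
field, V a finite-dimensional k-vector space with a nondegenerate bilinear form B, q a nonzero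
element of k and M a linear automorphism of V with B(Mx, My) = q·B(x, y) for all x, y. Write V₁ and
V_q for the generalized eigenspaces of M at 1 and at q. Then every vector of V₁ that is B-orthogonal
to all of V_q is zero, every vector of V_q that is B-orthogonal (on the right) to all of V₁ is zero,
and when q ≠ 1 the form B vanishes identically on V₁ × V₁ and on V_q × V_q. (The text asserts this
as the evident adaptation, to a form scaled by q, of the orthogonality and nondegeneracy facts for
generalized kernels of an automorphism preserving a form; the abstract statement is recorded here,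
the application to the Weil pairing needing that pairing's formalism.) -/
theorem result
    {k : Type u} [Field k] {V : Type v} [AddCommGroup V] [Module k V] [FiniteDimensional k V]
    (B : LinearMap.BilinForm k V) (hB : B.Nondegenerate) (q : k) (hq : q ≠ 0)
    (M : V ≃ₗ[k] V) (hM : ∀ x y : V, B (M x) (M y) = q * B x y) :
    (∀ x ∈ Module.End.maxGenEigenspace (M : Module.End k V) 1,
        (∀ y ∈ Module.End.maxGenEigenspace (M : Module.End k V) q, B x y = 0) → x = 0) ∧
      (∀ y ∈ Module.End.maxGenEigenspace (M : Module.End k V) q,
        (∀ x ∈ Module.End.maxGenEigenspace (M : Module.End k V) 1, B x y = 0) → y = 0) ∧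
      (q ≠ 1 → ∀ x ∈ Module.End.maxGenEigenspace (M : Module.End k V) 1,
        ∀ x' ∈ Module.End.maxGenEigenspace (M : Module.End k V) 1, B x x' = 0) ∧
      (q ≠ 1 → ∀ y ∈ Module.End.maxGenEigenspace (M : Module.End k V) q,
        ∀ y' ∈ Module.End.maxGenEigenspace (M : Module.End k V) q, B y y' = 0) := by
  have hf : ∀ x y, B ((M : Module.End k V) x) ((M : Module.End k V) y) = q * B x y := hM
  -- adjunction relations
  have hadj : ∀ u v : V, B u (M v) = q * B (M.symm u) v := by
    intro u v
    conv_lhs => rw [← M.apply_symm_apply u]
    exact hM _ _
  have hadj' : ∀ u v : V, B (M u) v = q * B u (M.symm v) := by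
    intro u v
    conv_lhs => rw [← M.apply_symm_apply v]
    exact hM _ _
  refine ⟨?_, ?_, ?_, ?_⟩
  · intro x hx hxy
    obtain ⟨n, hn⟩ := (Module.End.mem_maxGenEigenspace _ _ _).mp hx
    rw [one_smul] at hn
    have key : ∀ (m : ℕ) (x w : V), (((M : Module.End k V) - 1) ^ m) x = 0 →
        B x ((((M : Module.End k V) - q • 1) ^ m) w) = 0 := by
      intro m
      induction m with
      | zero => intro x w h; simp at h; simp [h]
      | succ m ih =>
        intro x w h
        rw [pow_succ', Module.End.mul_apply]
        set z := (((M : Module.End k V) - q • 1) ^ m) w with hz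
        have hc : (((M : Module.End k V) - 1) ^ m) (x - M.symm x) = 0 := by
          have h1 : x - M.symm x = (M.symm : Module.End k V) (((M : Module.End k V) - 1) x) := by simp
          have hcomm : Commute (M.symm : Module.End k V) ((M : Module.End k V) - 1) := by
            apply LinearMap.ext; intro t; simp
          rw [h1, ← Module.End.mul_apply, (hcomm.symm.pow_left m).eq, Module.End.mul_apply,
            ← Module.End.mul_apply (((M : Module.End k V) - 1) ^ m), ← pow_succ, h, map_zero]
        have h2 : B (x - M.symm x) z = 0 := ih _ w hc
        rw [map_sub, LinearMap.sub_apply, sub_eq_zero] at h2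
        simp only [LinearMap.sub_apply, LinearMap.smul_apply, Module.End.one_apply, LinearEquiv.coe_coe,
          map_sub, map_smul, smul_eq_mul, hadj, h2, sub_self]
    refine hB.1 x (fun z => ?_)
    obtain ⟨y, hy, w, rfl⟩ := exists_decomp (M : Module.End k V) q n z
    rw [map_add, hxy y hy, key n x w hn, add_zero]
  · intro y hy hxy
    obtain ⟨n, hn⟩ := (Module.End.mem_maxGenEigenspace _ _ _).mp hy
    have key : ∀ (m : ℕ) (y w : V), (((M : Module.End k V) - q • 1) ^ m) y = 0 →
        B ((((M : Module.End k V) - 1) ^ m) w) y = 0 := by
      intro m
      induction m with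
      | zero => intro y w h; simp at h; simp [h]
      | succ m ih =>
        intro y w h
        rw [pow_succ', Module.End.mul_apply]
        set z := (((M : Module.End k V) - 1) ^ m) w with hz
        have hc : (((M : Module.End k V) - q • 1) ^ m) (q • M.symm y - y) = 0 := by
          have h1 : q • M.symm y - y = - (M.symm : Module.End k V) (((M : Module.End k V) - q • 1) y) := by
            simp [map_sub, map_smul]
          have hcomm : Commute (M.symm : Module.End k V) ((M : Module.End k V) - q • 1) := by
            apply LinearMap.ext; intro t; simp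
          rw [h1, map_neg, ← Module.End.mul_apply, (hcomm.symm.pow_left m).eq, Module.End.mul_apply,
            ← Module.End.mul_apply (((M : Module.End k V) - q • 1) ^ m), ← pow_succ, h, map_zero, neg_zero]
        have h2 : B z (q • M.symm y - y) = 0 := ih _ w hc
        rw [map_sub, map_smul, smul_eq_mul] at h2
        simp only [LinearMap.sub_apply, Module.End.one_apply, LinearEquiv.coe_coe, map_sub, hadj', h2]
    refine hB.2 y (fun z => ?_)
    obtain ⟨x, hx, w, rfl⟩ := exists_decomp (M : Module.End k V) 1 n z
    rw [one_smul, map_add, LinearMap.add_apply, hxy x hx, key n y w hn, add_zero]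
  · intro h1 x hx x' hx'
    obtain ⟨i, hi⟩ := (Module.End.mem_maxGenEigenspace _ _ _).mp hx
    obtain ⟨j, hj⟩ := (Module.End.mem_maxGenEigenspace _ _ _).mp hx'
    exact orth hf (by rwa [one_mul, ne_comm]) i j x x' hi hj
  · intro h1 y hy y' hy'
    obtain ⟨i, hi⟩ := (Module.End.mem_maxGenEigenspace _ _ _).mp hy
    obtain ⟨j, hj⟩ := (Module.End.mem_maxGenEigenspace _ _ _).mp hy'
    exact orth hf (fun h => h1 (mul_left_cancel₀ hq (by rw [h, mul_one]))) i j y y' hi hj

end Groth.Agent.S19660
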