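import Groth.Statements.S19668
import Groth.Agent.S11483
import Groth.Agent.CurveVBLib.Basic
import Groth.Agent.CurvLib.RRBasic
import Groth.Agent.KFlatLib.Stalk
import Mathlib.AlgebraicGeometry.AlgClosed.Basic
import Mathlib.LinearAlgebra.Eigenspace.Triangularizable
import Mathlib.LinearAlgebra.Matrix.Charpoly.Coeff

set_option autoImplicit false
universe u
open CategoryTheory CategoryTheory.Limits AlgebraicGeometry
open Curves

namespace Groth.Agent.S19668

/-- Stable bundles are simple. Let X be a nonsingular projective curve over an algebraically closed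
field k (smooth, proper, integral, of dimension one) and E a locally free sheaf of rank r on X which
is stable: every locally free subsheaf G of rank s with 0 < s < r has deg G · r < deg E · s (degrees
computed as χ − rank·χ(O_X)). Then every endomorphism φ of E is a scalar multiple of the identity, φ
= a · 𝟙_E for some a ∈ k, where k acts on Hom_{O_X}(E, E) through the structure morphism X → Spec k
(a acts as composition with multiplication by a on E). -/
theorem result (k : Type u) [Field k] [IsAlgClosed k] (X : Scheme.{u})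
    [X.Over (Spec (CommRingCat.of k))] (hX : Curve.IsSmoothProperCurve k X (X ↘ Spec (CommRingCat.of k))) (r : ℕ)
    (E : X.Modules) (hE : FlatMod.IsFinLocFreeOfRank r E)
    (hst : ∀ (G : X.Modules) (s : ℕ) (ι : G ⟶ E), Mono ι → FlatMod.IsFinLocFreeOfRank s G → 0 < s → s < r →
      Curv2.deg k X G s * (r : ℤ) < Curv2.deg k X E r * (s : ℤ))
    (φ : E ⟶ E) : ∃ a : k, φ = a • 𝟙 E := by
  classical
  obtain ⟨_, _, hint, hdim⟩ := hX
  haveI := hint
  haveI := CurvLib.isNoetherian k (X := X)
  have hX' : Curve.IsSmoothProperCurve k X (X ↘ Spec (CommRingCat.of k)) := ⟨inferInstance, inferInstance, hint, hdim⟩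
  rcases Nat.eq_zero_or_pos r with hr | hr
  · subst hr
    have hz : IsZero E := KFlatLib.isZero_of_stalks fun y => by
      obtain ⟨U, hy, ⟨e⟩⟩ := hE y
      exact (CurveVBLib.nonempty_stalk_pi_on e hy).some.injective.subsingleton
    exact ⟨0, hz.eq_of_src _ _⟩
  obtain ⟨x, -, hx⟩ := IsClosed.exists_closed_singleton (isClosed_univ (X := X)) Set.univ_nonempty
  let R := X.presheaf.stalk x
  obtain ⟨U, hxU, ⟨e⟩⟩ := hE x
  obtain ⟨b⟩ := CurveVBLib.nonempty_stalk_pi_on e hxU
  let p := X ↘ Spec (CommRingCat.of k)
  have hres : Function.Bijective (Curv2.resMap k X x) := by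
    have h : Spec.map (CommRingCat.ofHom (Curv2.resMap k X x)) = X.fromSpecResidueField x ≫ p := by
      have hc : CommRingCat.ofHom (Curv2.resMap k X x) =
          (Scheme.ΓSpecIso (CommRingCat.of k)).inv ≫ p.appTop ≫ X.presheaf.germ ⊤ x trivial ≫ X.residue x := rfl
      rw [hc, Spec.map_comp, Spec.map_comp, Spec.map_comp]
      show _ = (Spec.map (X.residue x) ≫ X.fromSpecStalk x) ≫ p
      simp only [Category.assoc]
      congr 1
      rw [← Scheme.fromSpecStalk_toSpecΓ_assoc, ← Scheme.toSpecΓ_naturality_assoc]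
      simp [toSpecΓ_SpecMap_ΓSpecIso_inv]
    have h2 : (residueFieldIsoBase p x hx).inv = CommRingCat.ofHom (Curv2.resMap k X x) :=
      Spec.map_injective ((SpecMap_residueFieldIsoBase_inv p x hx).trans h.symm)
    have h3 := ConcreteCategory.bijective_of_isIso (residueFieldIsoBase p x hx).inv
    rw [h2] at h3
    exact h3
  let f : (DevissLib.St x).obj E →ₗ[R] (DevissLib.St x).obj E := ((DevissLib.St x).map φ).hom
  let A : Matrix (Fin r) (Fin r) R := LinearMap.toMatrix' (b.toLinearMap ∘ₗ f ∘ₗ b.symm.toLinearMap)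
  let κ := IsLocalRing.ResidueField R
  let ι : k →+* κ := Curv2.resMap k X x
  let e' : k ≃+* κ := RingEquiv.ofBijective ι hres
  let A₀ : Matrix (Fin r) (Fin r) k := A.map (e'.symm.toRingHom.comp (IsLocalRing.residue R))
  obtain ⟨a, ha⟩ := IsAlgClosed.exists_root A₀.charpoly (by
    rw [Matrix.charpoly_degree_eq_dim, Fintype.card_fin]
    exact_mod_cast hr.ne')
  refine ⟨a, ?_⟩
  by_contra hne
  let ψ : E ⟶ E := a • 𝟙 E - φ
  haveI hi : IsIso ψ := Groth.Agent.S11483.result k X hX' r E hE hst ψ (sub_ne_zero.mpr (Ne.symm hne))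
  let c : R := Curv2.stalkMap k X x a
  let g : (DevissLib.St x).obj E →ₗ[R] (DevissLib.St x).obj E := c • LinearMap.id - f
  have hg : Function.Bijective g := by
    have h1 : ∀ m, ((DevissLib.St x).map ψ).hom m = g m := by
      intro m
      obtain ⟨W, hxW, s, rfl⟩ := DevissLib.exists_gm_eq _ x m
      change _ = c • DevissLib.gm E x hxW s - ((DevissLib.St x).map φ).hom (DevissLib.gm E x hxW s)
      rw [DevissLib.gm_app, DevissLib.gm_app]
      have h2 : ψ.app W s = (a • 𝟙 E).app W s - φ.app W s := rfl
      rw [h2, KLin.smul_app_apply]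
      refine (map_sub (E.presheaf.germ W x hxW).hom _ _).trans ?_
      refine congrArg (fun t => t - E.presheaf.germ W x hxW (φ.app W s)) ?_
      refine (AmpleLib.germ_smul E _ _ hxW).trans ?_
      rw [TopCat.Presheaf.germ_res_apply]
      rfl
    have h3 := ConcreteCategory.bijective_of_isIso ((DevissLib.St x).map ψ)
    rwa [show ⇑g = ⇑((DevissLib.St x).map ψ).hom from funext fun m => (h1 m).symm]
  let g' := b.toLinearMap ∘ₗ g ∘ₗ b.symm.toLinearMap
  have hg' : Function.Bijective g' := b.bijective.comp (hg.comp b.symm.bijective)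
  have hM : LinearMap.toMatrix' g' = Matrix.scalar (Fin r) c - A := by
    have : g' = c • LinearMap.id - b.toLinearMap ∘ₗ f ∘ₗ b.symm.toLinearMap := by
      ext v i
      simp [g', g]
    rw [this, map_sub, map_smul, LinearMap.toMatrix'_id]
    simp [A, Matrix.smul_one_eq_diagonal]
  have hu : IsUnit (LinearMap.toMatrix' g').det := by
    rw [LinearMap.det_toMatrix']
    exact LinearEquiv.isUnit_det' (LinearEquiv.ofBijective g' hg')
  rw [hM] at hu
  let π : R →+* k := e'.symm.toRingHom.comp (IsLocalRing.residue R)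
  have hπ : π c = a := e'.symm_apply_apply a
  refine (hu.map π).ne_zero ?_
  rw [RingHom.map_det, map_sub]
  have h4 : π.mapMatrix (Matrix.scalar (Fin r) c) = Matrix.scalar (Fin r) a := by
    simp [hπ]
  rw [h4]
  have h5 := ha
  rw [Polynomial.IsRoot, Matrix.eval_charpoly] at h5
  exact h5

end Groth.Agent.S19668
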