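import Groth.Statements.S19672
import Groth.Agent.QuotObsLib.TanPt
-- import your own Groth.Agent.* helpers here

set_option autoImplicit false
set_option backward.isDefEq.respectTransparency false
set_option maxHeartbeats 1000000
universe u
open CategoryTheory CategoryTheory.Limits AlgebraicGeometry
open Deform

namespace Groth.Agent.S19672

/-- Let k be an algebraically closed field, X a projective k-scheme (with a closed k-immersion into some
P^n_k) and H a coherent O_X-module. Let (Q, K_u) represent the Quot functor of H over k on locally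
Noetherian k-schemes: Q is locally Noetherian, K_u ⊆ H_Q is a submodule on X ×_k Q with coherent
Q-flat quotient, and every submodule of H_T with coherent T-flat quotient (T locally Noetherian over
k) is the pullback of K_u along a unique k-morphism T → Q. Let K ⊆ H be a submodule on X ×_k Spec k
with coherent quotient F = H/K and let g : Spec k → Q be the k-point [f] classifying it. Then the
Zariski cotangent space m/m² of the local ring of Q at [f], as a vector space over the residue
field, has the same dimension as the k-vector space Hom(K, F) of O-module maps on X ×_k Spec k,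
where k acts through the projection X ×_k Spec k → Spec k. (The published statement identifies the
tangent space T_[f] Q with Hom(K, F); this row records the equality of dimensions.) -/
theorem result
    {k : Type u} [Field k] [IsAlgClosed k] (X : Scheme.{u}) (x : X ⟶ (Spec (CommRingCat.of k)))
    (hprojX : ∃ (n : ℕ) (c : X ⟶ CohB1.ProjSpaceOver n (Spec (CommRingCat.of k))),
      IsClosedImmersion c ∧ c ≫ CohB1.ProjSpaceOver.toBase n (Spec (CommRingCat.of k)) = x)
    (H : X.Modules) (hH : Coh.IsCoh H)
    (Q : Over (Spec (CommRingCat.of k))) (Ku : FGA.QuotSet x H Q) (hQ : FGA.QuotRepresentedBy x H Q Ku)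
    (K₀ : FGA.QuotSet x H (Over.mk (𝟙 (Spec (CommRingCat.of k))))) (g : (Over.mk (𝟙 (Spec (CommRingCat.of k)))) ⟶ Q)
    (hg : FGA.quotPull x H g Ku.1 = K₀.1) :
    Module.finrank (IsLocalRing.ResidueField (Q.left.presheaf.stalk (g.left.base (IsLocalRing.closedPoint k))))
        (IsLocalRing.CotangentSpace (Q.left.presheaf.stalk (g.left.base (IsLocalRing.closedPoint k)))) =
      (letI : (PicF.XT x (Over.mk (𝟙 (Spec (CommRingCat.of k))))).Over (Spec (CommRingCat.of k)) :=
        ⟨PicF.XTproj x (Over.mk (𝟙 (Spec (CommRingCat.of k))))⟩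
      Module.finrank k (Subobject.underlying.obj K₀.1 ⟶ cokernel K₀.1.arrow)) := by
  letI : (PicF.XT x (Over.mk (𝟙 (Spec (CommRingCat.of k))))).Over (Spec (CommRingCat.of k)) :=
    ⟨PicF.XTproj x (Over.mk (𝟙 (Spec (CommRingCat.of k))))⟩
  let p : Q.left := g.left.base (IsLocalRing.closedPoint k)
  letI := QuotObsLib.stalkAlg Q.hom (𝟙 (Spec (CommRingCat.of k))) p
  obtain ⟨ρ, hρ⟩ := HilbSmoothLib.exists_of_point (B := CommRingCat.of k) g.left (p := p) rfl
  let a : CommRingCat.of k ⟶ Q.left.presheaf.stalk p :=
    Spec.preimage (Q.left.fromSpecStalk p ≫ Q.hom ≫ 𝟙 _)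
  have haρ : a ≫ ρ = 𝟙 _ := Spec.map_injective (by
    rw [Spec.map_comp, Spec.map_preimage, reassoc_of% hρ, Spec.map_id, Category.comp_id]
    exact Over.w g)
  let res : Q.left.presheaf.stalk p →ₐ[k] k := { ρ.hom with commutes' := fun c => congr($(haρ) c) }
  have hflat : FlatMod.IsFlatOver x H := fun z => GenFlatStrat.isFlatOverAt_field x H z
  have key := QuotObsLib.finrank_relForms x H (𝟙 (Spec (CommRingCat.of k))) hH hflat Q Ku hQ
    (𝟙 (Spec (CommRingCat.of k))) (Category.comp_id _) K₀ g hg res hρ
  have htop : QuotObsLib.relForms (𝟙 (Spec (CommRingCat.of k))) Q.hom p res = ⊤ := by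
    refine eq_top_iff.2 fun f _ r => ?_
    have hcond := (QuotObsLib.ptHom_comp_iff Q.hom (𝟙 (Spec (CommRingCat.of k))) p res
      (HilbGlueLib.ptD res f) (𝟙 (Spec (CommRingCat.of k))) ?_).1 ?_ r
    · exact (congrArg (TrivSqZeroExt.snd (R := k) (M := k)) hcond).trans (TrivSqZeroExt.snd_inl k _)
    · rw [← Category.assoc]
      exact (congrArg (· ≫ Q.hom) hρ).trans (Over.w g)
    · show (Spec.map _ ≫ Q.left.fromSpecStalk p) ≫ Q.hom = _ ≫ 𝟙 _
      rw [Category.comp_id, Category.assoc]
      refine (congrArg (Spec.map _ ≫ ·) (congrArg (Q.left.fromSpecStalk p ≫ ·) (Category.comp_id Q.hom).symm)).trans ?_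
      refine (congrArg (Spec.map _ ≫ ·) (Spec.map_preimage (Q.left.fromSpecStalk p ≫ Q.hom ≫ 𝟙 _)).symm).trans ?_
      refine (Spec.map_comp _ _).symm.trans (congrArg Spec.map ?_)
      ext c
      exact (HilbGlueLib.ptD res f).1.commutes c
  refine Eq.trans ?_ key
  show Module.finrank _ _ = Module.finrank k (QuotObsLib.relForms (𝟙 (Spec (CommRingCat.of k))) Q.hom p res)
  rw [htop, finrank_top, Subspace.dual_finrank_eq]
  exact HilbGlueLib.finrank_residue res

end Groth.Agent.S19672
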