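import Groth.Statements.S19678
import Groth.Agent.QuotObsLib.SmoothDim
-- import your own Groth.Agent.* helpers here

set_option autoImplicit false
set_option backward.isDefEq.respectTransparency false
set_option maxHeartbeats 1000000
universe u
open CategoryTheory CategoryTheory.Limits AlgebraicGeometry
open Deform

namespace Groth.Agent.S19678

/-- Let k be an algebraically closed field, S a separated k-scheme of finite type, x : X → S a
projective morphism (X admits a closed immersion over S into some P^n_S), and H a coherent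
O_X-module flat over S. Let (Q, K_u) represent the Quot functor of H over S on locally Noetherian
S-schemes: Q → S with Q locally Noetherian, K_u ⊆ H_Q a submodule on X ×_S Q with coherent Q-flat
quotient, and every submodule of H_T with coherent T-flat quotient (T locally Noetherian over S) is
the pullback of K_u along a unique S-morphism T → Q. Let s : Spec k → S be a k-rational point of S,
K ⊆ H(s) a submodule on the fibre X(s) = X ×_S Spec k with coherent quotient F(s), g : Spec k → Q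
the corresponding point q over s, and suppose the group Ext¹(K(s), F(s)) vanishes (Ext in the
category of all O-modules on X(s); the Ext instance is the stated hypothesis and holds). Then the
projection π : Q → S is smooth near q, with relative dimension equal to dim_k Hom(K(s), F(s)), k
acting through the projection X(s) → Spec k: there is an open subscheme U of Q containing q such
that U → S is smooth of that relative dimension. (The published statement asserts smoothness of π at
q of this relative dimension.) -/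
theorem result
    {k : Type u} [Field k] [IsAlgClosed k] (S : Scheme.{u}) (σ : S ⟶ (Spec (CommRingCat.of k)))
    [LocallyOfFiniteType σ] [IsSeparated σ] [QuasiCompact σ]
    (X : Scheme.{u}) (x : X ⟶ S)
    (hprojX : ∃ (n : ℕ) (c : X ⟶ CohB1.ProjSpaceOver n S), IsClosedImmersion c ∧ c ≫ CohB1.ProjSpaceOver.toBase n S = x)
    (H : X.Modules) (hH : Coh.IsCoh H) (hHflat : FlatMod.IsFlatOver x H)
    (Q : Over S) (Ku : FGA.QuotSet x H Q) (hQ : FGA.QuotRepresentedBy x H Q Ku)
    (s : (Spec (CommRingCat.of k)) ⟶ S) (hs : s ≫ σ = 𝟙 _)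
    (K₀ : FGA.QuotSet x H (Over.mk s)) (g : (Over.mk s) ⟶ Q) (hg : FGA.quotPull x H g Ku.1 = K₀.1)
    [HasExt.{u} (PicF.XT x (Over.mk s)).Modules]
    (hExt : Subsingleton (Abelian.Ext.{u} (Subobject.underlying.obj K₀.1) (cokernel K₀.1.arrow) 1)) :
    ∃ U : Q.left.Opens, g.left.base (IsLocalRing.closedPoint k) ∈ U ∧
      SmoothOfRelativeDimension
        (letI : (PicF.XT x (Over.mk s)).Over (Spec (CommRingCat.of k)) :=
            ⟨PicF.XTproj x (Over.mk s)⟩
        Module.finrank k (Subobject.underlying.obj K₀.1 ⟶ cokernel K₀.1.arrow))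
        (U.ι ≫ Q.hom) := by
  haveI : IsLocallyNoetherian S := LocallyOfFiniteType.isLocallyNoetherian σ
  haveI : CompactSpace S := QuasiCompact.compactSpace_of_compactSpace σ
  haveI : AlgebraicGeometry.IsNoetherian S := ⟨⟩
  haveI := QuotObsLib.locallyOfFiniteType_quot x hprojX H hH Q Ku hQ
  letI : (PicF.XT x (Over.mk s)).Over (Spec (CommRingCat.of k)) := ⟨PicF.XTproj x (Over.mk s)⟩
  let p : Q.left := g.left.base (IsLocalRing.closedPoint k)
  letI := QuotObsLib.stalkAlg Q.hom σ p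
  obtain ⟨ρ, hρ⟩ := HilbSmoothLib.exists_of_point (B := CommRingCat.of k) g.left (p := p) rfl
  let a : CommRingCat.of k ⟶ Q.left.presheaf.stalk p := Spec.preimage (Q.left.fromSpecStalk p ≫ Q.hom ≫ σ)
  have haρ : a ≫ ρ = 𝟙 _ := Spec.map_injective (by
    rw [Spec.map_comp, Spec.map_preimage, reassoc_of% hρ, Spec.map_id, ← Category.assoc, Over.w g]
    exact hs)
  let res : Q.left.presheaf.stalk p →ₐ[k] k := { ρ.hom with commutes' := fun c => congr($(haρ) c) }
  obtain ⟨U, hpU, hU⟩ := QuotObsLib.exists_smooth_quot σ x H hH hHflat Q Ku hQ s hs K₀ g hg hExt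
  haveI := hU
  obtain ⟨U₀, hU₀, V, hV, hpV, e, hstd⟩ := Smooth.exists_isStandardSmooth (U.ι ≫ Q.hom) ⟨p, hpU⟩
  have hW : IsAffineOpen (U.ι ''ᵁ V) := hV.image_of_isOpenImmersion U.ι
  have hpW : p ∈ U.ι ''ᵁ V := ⟨⟨p, hpU⟩, hpV, rfl⟩
  have e' : U.ι ''ᵁ V ≤ Q.hom ⁻¹ᵁ U₀ := by
    rintro _ ⟨z, hz, rfl⟩
    exact e hz
  have happ : (U.ι ≫ Q.hom).appLE U₀ V e = Q.hom.appLE U₀ (U.ι ''ᵁ V) e' := by
    rw [Scheme.Hom.comp_appLE, Scheme.Opens.ι_appLE, Scheme.Hom.app_eq_appLE, Scheme.Hom.appLE_map]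
  rw [happ] at hstd
  letI : Algebra Γ(S, U₀) Γ(Q.left, U.ι ''ᵁ V) := (Q.hom.appLE U₀ (U.ι ''ᵁ V) e').hom.toAlgebra
  haveI : Algebra.IsStandardSmooth Γ(S, U₀) Γ(Q.left, U.ι ''ᵁ V) := hstd
  haveI : Nontrivial Γ(Q.left, U.ι ''ᵁ V) := (Q.left.presheaf.germ _ p hpW).hom.domain_nontrivial
  obtain ⟨_, _, _, _, ⟨P⟩⟩ := ‹Algebra.IsStandardSmooth Γ(S, U₀) Γ(Q.left, U.ι ''ᵁ V)›
  have hr : RingHom.IsStandardSmoothOfRelativeDimension P.dimension
      (Q.hom.appLE U₀ (U.ι ''ᵁ V) e').hom := ⟨_, _, _, ‹_›, ⟨P, rfl⟩⟩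
  have hdim := (QuotObsLib.finrank_relForms x H σ hH hHflat Q Ku hQ s hs K₀ g hg res hρ).symm.trans
    (QuotObsLib.finrank_relForms_eq Q.hom σ p res hU₀ hW e' hpW hr)
  refine ⟨U.ι ''ᵁ V, hpW, ?_⟩
  rw [hdim]
  constructor
  intro z
  haveI : IsAffine (U.ι ''ᵁ V).toScheme := hW
  refine ⟨U₀, hU₀, ⊤, isAffineOpen_top _, trivial, fun w _ => e' w.2, ?_⟩
  have key : ∀ (W₁ : Q.left.Opens) (_ : W₁ = U.ι ''ᵁ V) (e₁ : W₁ ≤ Q.hom ⁻¹ᵁ U₀),
      RingHom.IsStandardSmoothOfRelativeDimension P.dimension (Q.hom.appLE U₀ W₁ e₁).hom := by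
    rintro _ rfl _
    exact hr
  rw [Scheme.Hom.comp_appLE, Scheme.Opens.ι_appLE, Scheme.Hom.app_eq_appLE, Scheme.Hom.appLE_map]
  exact key _ (Scheme.Opens.ι_image_top _) _

end Groth.Agent.S19678
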