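import Groth.Statements.S1969
import Mathlib.RingTheory.Flat.TorsionFree
import Mathlib.RingTheory.Flat.Localization
import Mathlib.RingTheory.LocalRing.Module
import Mathlib.RingTheory.Localization.Module
import Mathlib.RingTheory.Valuation.ValuationRing
import Mathlib.Tactic.TFAE
-- import your own Groth.Agent.* helpers here

set_option autoImplicit false
universe u
open EtAlg

namespace Groth.Agent.S1969

/-- For a commutative ring A these are equivalent — all ideals are flat A-modules; all finitely
generated ideals are flat; flatness passes to submodules of flat modules; each localization at a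
prime is a valuation ring (in particular a domain). Condition (1), weak dimension at most one, is
not stated. -/
theorem result (A : Type u) [CommRing A] :
    List.TFAE [∀ I : Ideal A, Module.Flat A I,
      ∀ I : Ideal A, I.FG → Module.Flat A I,
      ∀ (M : Type u) [AddCommGroup M] [Module A M], Module.Flat A M → ∀ N : Submodule A M, Module.Flat A N,
      ∀ (p : Ideal A) [p.IsPrime], ∃ _ : IsDomain (Localization.AtPrime p), ValuationRing (Localization.AtPrime p)] := by
  classical
  tfae_have 1 → 2 := fun h I _ => h I
  tfae_have 2 → 3 := by
    intro h M _ _ hM N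
    rw [Module.Flat.iff_rTensor_injective]
    intro I hI
    haveI := h I hI
    have h1 : Function.Injective (N.subtype.lTensor I) := Module.Flat.lTensor_preserves_injective_linearMap _ Subtype.val_injective
    have h2 : Function.Injective ((I.subtype).rTensor M) := (Module.Flat.iff_rTensor_injective.1 hM) hI
    have hc : N.subtype.lTensor A ∘ₗ I.subtype.rTensor N = I.subtype.rTensor M ∘ₗ N.subtype.lTensor I := by
      ext; simp
    intro x y hxy
    apply h1
    apply h2
    rw [← LinearMap.comp_apply, ← LinearMap.comp_apply, ← hc, LinearMap.comp_apply, LinearMap.comp_apply, hxy]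
  tfae_have 3 → 1 := fun h I => h A inferInstance I
  tfae_have 1 → 4 := by
    intro h1 p _
    have h3 : ∀ (M : Type u) [AddCommGroup M] [Module A M], Module.Flat A M → ∀ N : Submodule A M, Module.Flat A N :=
      tfae_2_to_3 (tfae_1_to_2 h1)
    let L := Localization.AtPrime p
    haveI : Module.Flat A L := IsLocalization.flat L p.primeCompl
    have hfl : ∀ J : Ideal L, Module.Flat L J := fun J =>
      (Module.flat_iff_of_isLocalization L p.primeCompl J).2 (h3 L inferInstance (J.restrictScalars A))
    have hgen : ∀ J : Ideal L, J.FG → ∃ g, J = Ideal.span {g} ∧ (J ≠ ⊥ → ∀ b : L, b * g = 0 → b = 0) := by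
      intro J hJ
      haveI := hfl J
      haveI : Module.Finite L J := Module.Finite.iff_fg.2 hJ
      haveI : Module.Free L J := Module.free_of_flat_of_isLocalRing
      let b := Module.Free.chooseBasis L J
      have hsub : ∀ i j : Module.Free.ChooseBasisIndex L J, i = j := by
        intro i j
        by_contra hij
        have h0 : (b i).1 • b j - (b j).1 • b i = 0 := Subtype.ext (by simp [mul_comm])
        have h0' := congrArg (fun x => b.repr x j) h0
        simp [Finsupp.single_apply, hij] at h0'
        exact b.ne_zero i h0'
      rcases isEmpty_or_nonempty (Module.Free.ChooseBasisIndex L J) with he | ⟨⟨i⟩⟩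
      · have hJ0 : J = ⊥ := by
          rw [Submodule.eq_bot_iff]
          intro x hx
          haveI : Subsingleton J := b.repr.toEquiv.subsingleton
          exact congrArg Subtype.val (Subsingleton.elim (⟨x, hx⟩ : J) 0)
        exact ⟨0, by rw [hJ0, Ideal.span_singleton_eq_bot.2 rfl], fun h => absurd hJ0 h⟩
      · haveI : Subsingleton (Module.Free.ChooseBasisIndex L J) := ⟨hsub⟩
        haveI := uniqueOfSubsingleton i
        refine ⟨(b i).1, le_antisymm (fun x hx => ?_) ((Ideal.span_singleton_le_iff_mem _).2 (b i).2), fun _ c hc => ?_⟩
        · refine Ideal.mem_span_singleton'.2 ⟨b.repr ⟨x, hx⟩ i, ?_⟩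
          have := congrArg Subtype.val (b.sum_repr ⟨x, hx⟩)
          simpa [Subsingleton.elim default i] using this
        · have h0 : c • b i = 0 := Subtype.ext (by simpa using hc)
          have := congrArg (fun x => b.repr x i) h0
          simpa using this
    haveI : NoZeroDivisors L := ⟨fun {a c} hac => by
      by_contra hne
      push_neg at hne
      obtain ⟨g, hg, hgz⟩ := hgen (Ideal.span {a}) ⟨{a}, by simp⟩
      obtain ⟨d, hd⟩ := Ideal.mem_span_singleton'.1 (hg.ge (Ideal.mem_span_singleton_self g))
      exact hne.2 (hgz (by simpa [Ideal.span_singleton_eq_bot] using hne.1) c (by rw [← hd, mul_left_comm, mul_comm c a, hac, mul_zero]))⟩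
    haveI hdom : IsDomain L := NoZeroDivisors.to_isDomain L
    haveI : IsBezout L := ⟨fun J hJ => let ⟨g, hg, _⟩ := hgen J hJ; ⟨⟨g, hg⟩⟩⟩
    exact ⟨hdom, ValuationRing.iff_local_bezout_domain.2 ⟨inferInstance, inferInstance⟩⟩
  tfae_have 4 → 1 := by
    intro h I
    refine Module.flat_of_localized_maximal I fun P hP => ?_
    obtain ⟨hdom, hval⟩ := h P
    refine (Module.flat_iff_of_isLocalization (Localization.AtPrime P) P.primeCompl _).1 ?_
    haveI : Module.Free (Localization.AtPrime P) (LocalizedModule P.primeCompl A) :=
      Module.Free.of_basis ((Module.Basis.singleton Unit A).ofIsLocalizedModule (Localization.AtPrime P) P.primeCompl (LocalizedModule.mkLinearMap P.primeCompl A))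
    haveI : Module.IsTorsionFree (Localization.AtPrime P) (LocalizedModule P.primeCompl I) :=
      Function.Injective.moduleIsTorsionFree _ (LocalizedModule.map_injective P.primeCompl I.subtype Subtype.val_injective) (map_smul _)
    rw [Module.Flat.flat_iff_torsion_eq_bot_of_isBezout]
    exact Submodule.isTorsionFree_iff_torsion_eq_bot.1 inferInstance
  tfae_finish

end Groth.Agent.S1969
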