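import Groth.Statements.S1968
import Groth.Agent.S1969
import Mathlib.RingTheory.Flat.Basic
import Mathlib.RingTheory.Localization.FractionRing
import Mathlib.RingTheory.Valuation.ValuationRing
import Mathlib.Algebra.Ring.Pi
import Mathlib.Algebra.Group.Pi.Units
import Mathlib.Algebra.Module.Projective
-- import your own Groth.Agent.* helpers here

set_option autoImplicit false
universe u
open EtAlg

namespace Groth.Agent.S1968

/-- Let (A_j) be a family of valuation rings with fraction fields K_j. Then every ideal of the product
ring Π A_j is a flat Π A_j-module (that is, Π A_j has weak dimension at most 1), and Π K_j is the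
localization of Π A_j at its non-zero-divisors. -/
theorem result {J : Type u} (A : J → Type u) [∀ j, CommRing (A j)] [∀ j, IsDomain (A j)]
    [∀ j, ValuationRing (A j)] (K : J → Type u) [∀ j, Field (K j)] [∀ j, Algebra (A j) (K j)]
    [∀ j, IsFractionRing (A j) (K j)] :
    (∀ I : Ideal (∀ j, A j), Module.Flat (∀ j, A j) I) ∧
      IsLocalization (nonZeroDivisors (∀ j, A j)) (∀ j, K j) := by
  classical
  constructor
  · have h := Groth.Agent.S1969.result (∀ j, A j)
    refine (h.out 1 0).1 fun I hI => ?_
    obtain ⟨G, hG⟩ := hI
    have hprin : ∀ j, ∃ a, I.map (Pi.evalRingHom A j) = Ideal.span {a} := fun j => by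
      have : (I.map (Pi.evalRingHom A j)).FG := Ideal.FG.map ⟨G, hG⟩ _
      exact ((IsBezout.isPrincipal_of_FG _ this).principal)
    choose a ha using hprin
    have hmem : ∀ j, ∃ y ∈ I, y j = a j := fun j =>
      (Ideal.mem_map_iff_of_surjective (Pi.evalRingHom A j) (Function.surjective_eval j)).1 ((ha j).ge (Ideal.mem_span_singleton_self _))
    choose y hy hya using hmem
    have haI : a ∈ I := by
      have hc : ∀ j, ∃ c : (∀ i, A i) → (∀ i, A i), ∑ g ∈ G, c g * g = y j := fun j => by
        have := hy j
        rw [← hG] at this
        obtain ⟨c, -, hc⟩ := Submodule.mem_span_finset.1 this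
        exact ⟨c, by simpa using hc⟩
      choose c hc using hc
      have : a = ∑ g ∈ G, (fun j => c j g j) * g := funext fun j => by
        rw [← hya, ← hc j, Finset.sum_apply, Finset.sum_apply]; rfl
      rw [this]
      exact Ideal.sum_mem _ fun g hg => Ideal.mul_mem_left _ _ (hG ▸ Ideal.subset_span hg)
    have hdiv : ∀ x ∈ I, ∃ c, x = c * a := fun x hx => by
      have : ∀ j, ∃ c, x j = c * a j := fun j => by
        obtain ⟨c, hc⟩ := Ideal.mem_span_singleton'.1 ((ha j).le (Ideal.mem_map_of_mem _ hx))
        exact ⟨c, hc.symm⟩
      choose c hc using this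
      exact ⟨c, funext hc⟩
    choose c hc using hdiv
    let e : ∀ j, A j := fun j => if a j = 0 then 0 else 1
    let s : I →ₗ[∀ j, A j] (∀ j, A j) :=
      { toFun := fun x => c x.1 x.2 * e
        map_add' := fun x x' => funext fun j => by
          by_cases h0 : a j = 0
          · simp [e, h0]
          · have h1 := congrFun (hc (x + x').1 (x + x').2) j
            have h2 := congrFun (hc x.1 x.2) j
            have h3 := congrFun (hc x'.1 x'.2) j
            simp only [Pi.mul_apply, Submodule.coe_add, Pi.add_apply] at h1 h2 h3
            rw [h2, h3, ← add_mul] at h1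
            simp [e, h0, (mul_right_cancel₀ h0 h1).symm]
        map_smul' := fun r x => funext fun j => by
          by_cases h0 : a j = 0
          · simp [e, h0]
          · have h1 := congrFun (hc (r • x).1 (r • x).2) j
            have h2 := congrFun (hc x.1 x.2) j
            simp only [Pi.mul_apply, Submodule.coe_smul, smul_eq_mul] at h1 h2
            rw [h2, ← mul_assoc] at h1
            simp [e, h0, (mul_right_cancel₀ h0 h1).symm] }
    haveI : Module.Projective (∀ j, A j) I := Module.Projective.of_split s (LinearMap.toSpanSingleton _ I ⟨a, haI⟩) (by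
      refine LinearMap.ext fun x => Subtype.ext (funext fun j => ?_)
      have h2 := congrFun (hc x.1 x.2) j
      by_cases h0 : a j = 0
      · simp [s, h0, h2]
      · simp [s, e, h0, h2])
    infer_instance
  · letI : Algebra (∀ j, A j) (∀ j, K j) := inferInstance
    refine { map_units := fun f => ?_, surj := fun z => ?_, exists_of_eq := fun {x y} h => ⟨1, ?_⟩ }
    · rw [Pi.isUnit_iff]
      intro j
      refine IsUnit.mk0 _ fun h0 => ?_
      have h1 : f.1 j = 0 := (IsFractionRing.injective (A j) (K j)) (by rw [map_zero]; exact h0)
      have := mul_left_mem_nonZeroDivisors_eq_zero_iff f.2 |>.1 (show f.1 * Pi.single j 1 = 0 from funext fun i => by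
        rcases eq_or_ne i j with rfl | hij
        · simp [h1]
        · simp [hij])
      simpa using congrFun this j
    · choose p hp using fun j => IsLocalization.surj (nonZeroDivisors (A j)) (z j)
      refine ⟨⟨fun j => (p j).1, ⟨fun j => ((p j).2 : A j), ?_⟩⟩, funext hp⟩
      rw [mem_nonZeroDivisors_iff_right]
      intro x hx
      funext j
      exact (mul_eq_zero.1 (congrFun hx j)).resolve_right (nonZeroDivisors.coe_ne_zero _)
    · rw [OneMemClass.coe_one, one_mul, one_mul]
      exact funext fun j => IsFractionRing.injective (A j) (K j) (congrFun h j)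

end Groth.Agent.S1968
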