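import Groth.Statements.S19681
import Groth.Prelude.Def_ActBC
import Mathlib.AlgebraicGeometry.Morphisms.ClosedImmersion

set_option autoImplicit false
set_option backward.isDefEq.respectTransparency false
set_option backward.isDefEq.respectTransparency.types false
universe u
open CategoryTheory MonoidalCategory CartesianMonoidalCategory MonObj AlgebraicGeometry
open ChGrp

namespace Groth.Agent.S19681

open CategoryTheory.Limits

theorem exists_sub {S : Scheme.{u}} {G H Z Y Y' : Over S} [GrpObj G] [GrpObj H] (i : H ⟶ G) [IsMonHom i]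
    (aZ : AlgGrp.Action H Z) (aY : AlgGrp.Action G Y) (j : G ⊗ Z ⟶ Y) {K : Precoverage Scheme.{u}}
    [K.IsStableUnderBaseChange] (hY : ChGrp.IsBalProd K i aZ aY j)
    (c : Y' ⟶ Y) [IsClosedImmersion c.left] (aY' : AlgGrp.Action G Y') (hc : AlgGrp.Action.IsEquivariant aY' aY c) :
    ∃ (Z' : Over S) (c' : Z' ⟶ Z) (aZ' : AlgGrp.Action H Z') (j' : G ⊗ Z' ⟶ Y'),
      IsClosedImmersion c'.left ∧ AlgGrp.Action.IsEquivariant aZ' aZ c' ∧
      j' ≫ c = (G ◁ c') ≫ j ∧ ChGrp.IsBalProd K i aZ' aY' j' := by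
  obtain ⟨heq, hcart, hloc⟩ := hY
  haveI : Mono c := (Over.forget S).mono_of_mono_map (show Mono c.left from inferInstance)
  let e : Z ⟶ G ⊗ Z := lift (1 : Z ⟶ G) (𝟙 Z)
  have he : ∀ {T : Over S} (z : T ⟶ Z), z ≫ e = lift (1 : T ⟶ G) z := fun z => by
    simp only [e, comp_lift, MonObj.comp_one, Category.comp_id]
  have hpts : ∀ {T : Over S} (g g' : T ⟶ G) (z : T ⟶ Z),
      lift (g * g') z ≫ j = lift g (lift g' z ≫ j) ≫ aY.act := fun g g' z => by
    have h1 : lift g (lift g' z) ≫ (G ◁ j) ≫ aY.act = lift g (lift g' z ≫ j) ≫ aY.act := by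
      rw [lift_whiskerLeft_assoc]
    rw [← h1, ← show ((NonAbH1.trivialAction G).prod (AlgGrp.Action.trivial G Z)).act ≫ j = _ from heq,
      ← Category.assoc, AlgGrp.Action.lift_prod_act, AlgGrp.Action.lift_trivial_act]
    rfl
  have hce : ∀ {T : Over S} (g : T ⟶ G) (t : T ⟶ Y'),
      (lift g t ≫ aY'.act) ≫ c = lift g (t ≫ c) ≫ aY.act := fun g t => by
    rw [Category.assoc, show aY'.act ≫ c = _ from hc, lift_whiskerLeft_assoc]
  have htw : ∀ {T : Over S} (h : T ⟶ H) (z : T ⟶ Z),
      lift (1 : T ⟶ G) (lift h z ≫ aZ.act) ≫ j = lift (h ≫ i) z ≫ j := fun h z => by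
    have h2 : lift h (lift (h ≫ i) z) ≫ (ChGrp.twist i aZ).act = lift 1 (lift h z ≫ aZ.act) := by
      rw [ChGrp.lift_twist_act, mul_inv_cancel]
    rw [← h2, Category.assoc, hcart.w, lift_snd_assoc]
  let Z' : Over S := Over.mk (pullback.fst (e ≫ j).left c.left ≫ Z.hom)
  let c' : Z' ⟶ Z := Over.homMk (pullback.fst (e ≫ j).left c.left)
  let u' : Z' ⟶ Y' := Over.homMk (pullback.snd (e ≫ j).left c.left) (by
    show pullback.snd (e ≫ j).left c.left ≫ Y'.hom = pullback.fst (e ≫ j).left c.left ≫ Z.hom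
    rw [← Over.w c, ← pullback.condition_assoc, Over.w (e ≫ j)])
  have hu : c' ≫ e ≫ j = u' ≫ c := Over.OverMorphism.ext pullback.condition
  have hci : IsClosedImmersion c'.left :=
    MorphismProperty.pullback_fst (P := @IsClosedImmersion) _ _ ‹_›
  haveI : Mono c' := (Over.forget S).mono_of_mono_map (show Mono c'.left from inferInstance)
  have hfac : ∀ {T : Over S} (z : T ⟶ Z) (t : T ⟶ Y'), lift (1 : T ⟶ G) z ≫ j = t ≫ c →
      ∃ z' : T ⟶ Z', z' ≫ c' = z := fun {T} z t h => by
    rw [← he, Category.assoc] at h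
    have h' : z.left ≫ (e ≫ j).left = t.left ≫ c.left := by
      rw [← Over.comp_left, h, Over.comp_left]
    refine ⟨Over.homMk (pullback.lift z.left t.left h') ?_, Over.OverMorphism.ext (pullback.lift_fst _ _ _)⟩
    show pullback.lift z.left t.left h' ≫ pullback.fst (e ≫ j).left c.left ≫ Z.hom = T.hom
    rw [pullback.lift_fst_assoc, Over.w z]
  have hmem : ∀ {T : Over S} (z' : T ⟶ Z'), lift (1 : T ⟶ G) (z' ≫ c') ≫ j = (z' ≫ u') ≫ c := fun z' => by
    rw [← he, Category.assoc, Category.assoc, hu, ← Category.assoc]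
  -- the action on the closed subscheme
  obtain ⟨act', hact'⟩ : ∃ act' : H ⊗ Z' ⟶ Z', act' ≫ c' = (H ◁ c') ≫ aZ.act := by
    refine hfac _ (lift (fst H Z' ≫ i) (snd H Z' ≫ u') ≫ aY'.act) ?_
    have h0 : (H ◁ c') ≫ aZ.act = lift (fst H Z') (snd H Z' ≫ c') ≫ aZ.act := by
      congr 1
    rw [h0, htw, hce, ← hmem, ← hpts, _root_.mul_one]
  let aZ' : AlgGrp.Action H Z' :=
    { act := act'
      one_act := by
        rw [← cancel_mono c', Category.assoc, hact', ← whisker_exchange_assoc, aZ.one_act, leftUnitor_hom,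
          leftUnitor_hom, whiskerLeft_snd]
      mul_act := by
        rw [← cancel_mono c', Category.assoc, hact', ← whisker_exchange_assoc, aZ.mul_act]
        simp only [Category.assoc]
        rw [hact', ← MonoidalCategory.whiskerLeft_comp_assoc, hact', MonoidalCategory.whiskerLeft_comp_assoc,
          ← associator_naturality_right_assoc] }
  let j' : G ⊗ Z' ⟶ Y' := (G ◁ u') ≫ aY'.act
  have hj' : ∀ {T : Over S} (g : T ⟶ G) (z' : T ⟶ Z'), (lift g z' ≫ j') ≫ c = lift g (z' ≫ c') ≫ j := fun g z' => by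
    rw [lift_whiskerLeft_assoc, hce, ← hmem, ← hpts, _root_.mul_one]
  have hjc : j' ≫ c = (G ◁ c') ≫ j := by
    refine AlgGrp.Action.hom_ext_lift₂ fun T g z' => ?_
    rw [← Category.assoc, hj', lift_whiskerLeft_assoc]
  haveI : Mono (G ◁ c') := ⟨fun {T} a b h => CartesianMonoidalCategory.hom_ext _ _
    (by simpa using congrArg (· ≫ fst G Z) h)
    (by rw [← cancel_mono c', Category.assoc, Category.assoc]; simpa using congrArg (· ≫ snd G Z) h)⟩
  have htwc : (ChGrp.twist i aZ').act ≫ (G ◁ c') = (H ◁ (G ◁ c')) ≫ (ChGrp.twist i aZ).act := by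
    refine AlgGrp.Action.hom_ext_lift₂ fun T h v => ?_
    obtain ⟨g, z, rfl⟩ : ∃ g z, v = lift g z := ⟨v ≫ fst _ _, v ≫ snd _ _, by simp⟩
    rw [ChGrp.lift_twist_act_assoc, lift_whiskerLeft, lift_whiskerLeft_assoc, lift_whiskerLeft,
      ChGrp.lift_twist_act, Category.assoc, show aZ'.act ≫ c' = _ from hact', lift_whiskerLeft_assoc]
  have hj'w : (ChGrp.twist i aZ').act ≫ j' = snd H (G ⊗ Z') ≫ j' := by
    rw [← cancel_mono c, Category.assoc (ChGrp.twist i aZ').act, Category.assoc (snd H (G ⊗ Z')), hjc, reassoc_of% htwc, hcart.w, whiskerLeft_snd_assoc]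
  refine ⟨Z', c', aZ', j', hci, hact', hjc, ?_, ?_, ?_⟩
  · show ((NonAbH1.trivialAction G).prod (AlgGrp.Action.trivial G Z')).act ≫ j' = _
    refine AlgGrp.Action.hom_ext_lift₂ fun T g v => ?_
    obtain ⟨g', z, rfl⟩ : ∃ g' z, v = lift g' z := ⟨v ≫ fst _ _, v ≫ snd _ _, by simp⟩
    rw [← cancel_mono c, Category.assoc, Category.assoc, ← Category.assoc (lift g _), AlgGrp.Action.lift_prod_act,
      AlgGrp.Action.lift_trivial_act, ← Category.assoc (lift _ z), hj', lift_whiskerLeft_assoc, hce, hj', ← hpts]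
    rfl
  · have hlift : ∀ {T : Over S} (w w' : T ⟶ G ⊗ Z') (_ : w ≫ j' = w' ≫ j'),
        ∃ m : T ⟶ H ⊗ (G ⊗ Z'), m ≫ (ChGrp.twist i aZ').act = w ∧ m ≫ snd _ _ = w' := fun {T} w w' h => by
      have hw : (w ≫ (G ◁ c')) ≫ j = (w' ≫ (G ◁ c')) ≫ j := by
        rw [Category.assoc, Category.assoc, ← hjc, reassoc_of% h]
      refine ⟨lift (hcart.lift _ _ hw ≫ fst _ _) w', ?_, lift_snd _ _⟩
      have h3 : lift (hcart.lift _ _ hw ≫ fst _ _) w' ≫ (H ◁ (G ◁ c')) = hcart.lift _ _ hw :=
        CartesianMonoidalCategory.hom_ext _ _ (by simp)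
          (by rw [Category.assoc, whiskerLeft_snd, lift_snd_assoc, hcart.lift_snd])
      rw [← cancel_mono (G ◁ c'), Category.assoc, htwc, reassoc_of% h3, hcart.lift_fst]
    refine IsPullback.of_isLimit' ⟨hj'w⟩ (PullbackCone.IsLimit.mk _
      (fun q => (hlift q.fst q.snd q.condition).choose) (fun q => (hlift q.fst q.snd q.condition).choose_spec.1)
      (fun q => (hlift q.fst q.snd q.condition).choose_spec.2) fun q m e1 e2 => ?_)
    obtain ⟨f1, f2⟩ := (hlift q.fst q.snd q.condition).choose_spec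
    refine CartesianMonoidalCategory.hom_ext _ _ ?_ (e2.trans f2.symm)
    have h4 : m ≫ (H ◁ (G ◁ c')) = (hlift q.fst q.snd q.condition).choose ≫ (H ◁ (G ◁ c')) :=
      hcart.hom_ext (by rw [Category.assoc, Category.assoc, ← htwc, reassoc_of% e1, reassoc_of% f1])
        (by rw [Category.assoc, Category.assoc, whiskerLeft_snd, reassoc_of% e2, reassoc_of% f2])
    simpa using congrArg (· ≫ fst H _) h4
  · obtain ⟨R, hR, hsec⟩ := NonAbH1.isLocallyTrivialFor_bc c.left K hloc
    let T : Over S := Over.mk (pullback.snd j.left c.left ≫ Y'.hom)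
    let w : T ⟶ G ⊗ Z := Over.homMk (pullback.fst j.left c.left) (by
      show pullback.fst j.left c.left ≫ (G ⊗ Z).hom = pullback.snd j.left c.left ≫ Y'.hom
      rw [← Over.w j, ← Over.w c, pullback.condition_assoc])
    let t : T ⟶ Y' := Over.homMk (pullback.snd j.left c.left) rfl
    have hwt : lift (w ≫ fst G Z) (w ≫ snd G Z) ≫ j = t ≫ c := by
      rw [← comp_lift, lift_fst_snd, Category.comp_id]
      exact Over.OverMorphism.ext pullback.condition
    obtain ⟨z', hz'⟩ := hfac (w ≫ snd G Z) (lift (w ≫ fst G Z)⁻¹ t ≫ aY'.act) (by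
      rw [hce, ← hwt, ← hpts, inv_mul_cancel])
    have hv : lift (w ≫ fst G Z) z' ≫ j' = t := by
      rw [← cancel_mono c, hj', hz', hwt]
    refine ⟨R, hR, fun S'' f hf => ?_⟩
    obtain ⟨s, hs⟩ := hsec f hf
    refine ⟨s ≫ (lift (w ≫ fst G Z) z').left, ?_⟩
    show (s ≫ (lift (w ≫ fst G Z) z').left) ≫ j'.left = f
    rw [Category.assoc, ← Over.comp_left, hv]
    exact hs


/-- Let k be an algebraically closed field of characteristic zero, G and H affine group schemes of
finite type over k with i : H → G a homomorphism which is a closed immersion, and Z a reduced affine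
k-scheme of finite type with an action of H. Let Y, with its G-action and j : G × Z → Y, be the
balanced product G ×^H Z for the fppf topology (j is G-equivariant for left translation on the first
factor, a torsor for the twisted H-action h·(g, z) = (g i(h)⁻¹, h·z), with sections fppf-locally on
Y). Let c : Y' → Y be a closed immersion from a reduced scheme Y' with a G-action making c
equivariant (a closed G-invariant subvariety of Y). Then Y' is again a balanced product: there are a
closed immersion c' : Z' → Z, an H-action on Z' for which c' is equivariant (a closed H-invariant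
subscheme of Z), and a morphism j' : G × Z' → Y' with j' followed by c equal to G × c' followed by
j, such that j' makes Y' the balanced product G ×^H Z' for the fppf topology. (The source assumes G
and H reductive and defines G ×^H Z as the quotient (G × Z)//H, a principal H-bundle; here the
balanced product is taken in its torsor form and reductivity is not needed.) -/
theorem result
    (k : Type u) [Field k] [IsAlgClosed k] [CharZero k]
    (G H Z Y Y' : Over (Spec (CommRingCat.of k))) [GrpObj G] [GrpObj H]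
    [IsAffine G.left] [LocallyOfFiniteType G.hom] [IsAffine H.left] [LocallyOfFiniteType H.hom]
    (i : H ⟶ G) [IsMonHom i] [IsClosedImmersion i.left]
    [IsAffine Z.left] [LocallyOfFiniteType Z.hom] [IsReduced Z.left]
    (aZ : AlgGrp.Action H Z) (aY : AlgGrp.Action G Y) (j : G ⊗ Z ⟶ Y)
    (hY : ChGrp.IsBalProd Scheme.fppfPrecoverage i aZ aY j)
    (c : Y' ⟶ Y) [IsClosedImmersion c.left] [IsReduced Y'.left]
    (aY' : AlgGrp.Action G Y') (hc : AlgGrp.Action.IsEquivariant aY' aY c) :
    ∃ (Z' : Over (Spec (CommRingCat.of k))) (c' : Z' ⟶ Z) (aZ' : AlgGrp.Action H Z') (j' : G ⊗ Z' ⟶ Y'),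
      IsClosedImmersion c'.left ∧ AlgGrp.Action.IsEquivariant aZ' aZ c' ∧
      j' ≫ c = (G ◁ c') ≫ j ∧ ChGrp.IsBalProd Scheme.fppfPrecoverage i aZ' aY' j' := by
  exact exists_sub i aZ aY j hY c aY' hc

end Groth.Agent.S19681
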