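import Groth.Statements.S19683
import Groth.Agent.BiextDivLib.Main
import Mathlib.CategoryTheory.Sites.EpiMono

set_option autoImplicit false
universe u
open CategoryTheory CategoryTheory.Limits MonoidalCategory CartesianMonoidalCategory MonObj AlgebraicGeometry
open AbSch

namespace Groth.Agent.S19683

open Opposite

theorem locallyDiv {S : Scheme.{u}} (X : BigSite.Ab Scheme.fppfPrecoverage S) (k : ℤ) (h : Epi (k • 𝟙 X))
    (T : Over S) (p : X.obj.obj (op T)) :
    ∃ R ∈ QuotSh.J Scheme.fppfPrecoverage S T, ∀ ⦃T' : Over S⦄ (f : T' ⟶ T), R f → ∃ x, k • x = X.obj.map f.op p := by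
  haveI : Presheaf.IsLocallySurjective (QuotSh.J Scheme.fppfPrecoverage S) (k • 𝟙 X).hom :=
    (Sheaf.isLocallySurjective_iff_epi' (A := AddCommGrpCat.{u + 1}) (J := QuotSh.J Scheme.fppfPrecoverage S)
      (k • 𝟙 X)).2 h
  exact ⟨Presheaf.imageSieve (k • 𝟙 X).hom p, Presheaf.imageSieve_mem _ _ _,
    fun V g ⟨y, hy⟩ => ⟨y, hy⟩⟩

/-- Let S be a scheme, P, Q and G commutative S-group schemes with P and Q divisible (multiplication by
every non-zero integer is an epimorphism of their sheaves of points on the big fppf site), and n, m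
non-zero integers. Then the pull-back map on isomorphism classes of biextensions of (P, Q) by G
along (n, m) : P × Q → P × Q has trivial kernel: if B is a biextension of (P, Q) by G on the big
fppf site of all S-schemes, B' a biextension of (P, Q) by G with a morphism of biextensions B' → B
lying over multiplication by n on P, multiplication by m on Q and the identity of G (so that B' is
the inverse image of B by (n, m)), and B' is trivial, then B is trivial. -/
theorem result {S : Scheme.{u}} (P Q G : Over S)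
    [GrpObj P] [IsCommMonObj P] [GrpObj Q] [IsCommMonObj Q] [GrpObj G] [IsCommMonObj G]
    (hP : ∀ k : ℤ, k ≠ 0 → Epi (k • 𝟙 (CGrpSh.pts Scheme.fppfPrecoverage P)))
    (hQ : ∀ k : ℤ, k ≠ 0 → Epi (k • 𝟙 (CGrpSh.pts Scheme.fppfPrecoverage Q)))
    (n m : ℤ) (hn : n ≠ 0) (hm : m ≠ 0)
    (B B' : Biext (QuotSh.J Scheme.fppfPrecoverage S) (CGrpSh.pts Scheme.fppfPrecoverage P) (CGrpSh.pts Scheme.fppfPrecoverage Q) (CGrpSh.pts Scheme.fppfPrecoverage G))
    (φ : Biext.HomOver (QuotSh.J Scheme.fppfPrecoverage S) (n • 𝟙 (CGrpSh.pts Scheme.fppfPrecoverage P)) (m • 𝟙 (CGrpSh.pts Scheme.fppfPrecoverage Q)) (𝟙 (CGrpSh.pts Scheme.fppfPrecoverage G)) B' B)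
    (hB' : Biext.IsTrivial (QuotSh.J Scheme.fppfPrecoverage S) B') :
    Biext.IsTrivial (QuotSh.J Scheme.fppfPrecoverage S) B := by
  obtain ⟨σ⟩ := hB'
  exact (BiextDivLib.Fam.ofHomOver φ σ).isTrivial (locallyDiv _ n (hP n hn)) (locallyDiv _ m (hP m hm))
    (locallyDiv _ n (hQ n hn)) (locallyDiv _ m (hQ m hm))

end Groth.Agent.S19683
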