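import Groth.Statements.S19701
import Groth.Agent.DblTrLib.Main
import Groth.Agent.HypSqLib.Curve
import Groth.Agent.PnCohLib.K0
import Groth.Agent.PushLinLib.HH
import Groth.Agent.EtaleChiLib.Push

set_option autoImplicit false
universe u
open CategoryTheory CategoryTheory.Limits AlgebraicGeometry Opposite
open Curves

namespace Groth.Agent.S19701

/-- Let k be an algebraically closed field of characteristic different from 2 and X a hyperelliptic
curve of genus g over k: X → Spec k is smooth and proper, X is connected of dimension one with g =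
dim_k H¹(X, O_X) ≥ 2, and h : X → P¹_k is a k-morphism which is a double cover (finite, flat,
locally of finite presentation, of rank 2 at every point). Let τ : h_*O_X → O_{P¹} be the trace of h
(the O-linear map which over every affine open of P¹_k where h_*O_X is finite free is the trace of
the regular representation). Then the kernel of τ — an invertible sheaf on P¹_k — has degree −g − 1,
the degree of a rank-one sheaf E on P¹_k being χ(E) − χ(O). (On P¹_k this says that ker τ is
isomorphic to O(−g − 1); only the degree is asserted here.) -/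
theorem result (k : Type u) [Field k] [IsAlgClosed k]
    (h2 : (2 : k) ≠ 0) {X : Scheme.{u}} (p : X ⟶ Spec (CommRingCat.of k)) [IsProper p] [Smooth p]
    [ConnectedSpace ↥X] (hX : topologicalKrullDim ↥X = 1) (hg : 2 ≤ @Curv2.genus k _ X ⟨p⟩)
    (h : X ⟶ CohB1.ProjSpace 1 k) (hh : h ≫ CohB1.ProjSpace.toSpec 1 k = p)
    [IsFinite h] [Flat h] [LocallyOfFinitePresentation h]
    (hr : ∀ y : ↥(CohB1.ProjSpace 1 k), h.finrank y = 2)
    (τ : (Scheme.Modules.pushforward h).obj (Coh.structureModule X) ⟶ Coh.structureModule (CohB1.ProjSpace 1 k))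
    (hτ : FinCov.IsTraceHom h τ) :
    @Curv2.deg k _ (CohB1.ProjSpace 1 k) ⟨CohB1.ProjSpace.toSpec 1 k⟩ (kernel τ) 1 =
      -((@Curv2.genus k _ X ⟨p⟩ : ℤ) + 1) := by
  letI : X.Over (Spec (CommRingCat.of k)) := ⟨p⟩
  letI : (CohB1.ProjSpace 1 k).Over (Spec (CommRingCat.of k)) := ⟨CohB1.ProjSpace.toSpec 1 k⟩
  haveI : IsProper (X ↘ Spec (CommRingCat.of k)) := ‹IsProper p›
  haveI : Smooth (X ↘ Spec (CommRingCat.of k)) := ‹Smooth p›
  haveI : IsProper (CohB1.ProjSpace 1 k ↘ Spec (CommRingCat.of k)) := ProjDegLib.toSpec_isProper k 1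
  haveI := CurvLib.isNoetherian k (X := X)
  haveI := CurvLib.isNoetherian k (X := CohB1.ProjSpace 1 k)
  have hd := DblTrLib.rank_dirO h hr
  haveI : Coh.IsQCoh (EtTwoLib.dirO h) := (CurvLib.isCoh_of_locFree hd).1
  have h2Y : IsUnit (2 : Γ(CohB1.ProjSpace 1 k, ⊤)) := by
    rw [← map_ofNat ((Scheme.ΓSpecIso (CommRingCat.of k)).inv ≫ (CohB1.ProjSpace.toSpec 1 k).appTop).hom 2]
    exact h2.isUnit.map _
  have hτ' := DblTrLib.isTr_of_isTraceHom hτ
  have hK := CurvLib.isCoh_of_isInvertible (DblTrLib.isInvertible_kernel hd hτ' h2Y)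
  obtain ⟨es⟩ := DblTrLib.nonempty_split hd hτ' h2Y
  have hO := CurvLib.isCoh_of_isInvertible (CurvLib.isInvertible_structureModule (X := CohB1.ProjSpace 1 k))
  haveI : Coh.IsQCoh (Coh.structureModule X) := QCohLib.isQCoh_unit
  have e1 := (PushLinLib.euler_push k h hh (Coh.structureModule X)).2
  rw [HypSqLib.euler_structure (k := k) hX] at e1
  have e2 := CurvLib.euler_congr (k := k) es
  rw [EtaleChiLib.euler_biprod hO hK (QCohLib.isCoh_of_iso es (CurvLib.isCoh_of_locFree hd)),
    PnCohLib.euler_structure k] at e2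
  have e3 : (1 - (Curv2.genus k X : ℤ)) = 1 + Curv2.euler k (CohB1.ProjSpace 1 k) (kernel τ) := e1.trans e2
  rw [Curv2.deg, PnCohLib.euler_structure k]
  show _ = -((Curv2.genus k X : ℤ) + 1)
  push_cast
  linarith

end Groth.Agent.S19701
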