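import Groth.Statements.S19704
import Groth.Agent.S11425
import Groth.Agent.RedRankLib.CommRel
import Groth.Agent.RedRankLib.Max
import Groth.Agent.AntiAffLib.BaseChange
import Groth.Agent.SemiAbLib.BaseChange
-- import your own Groth.Agent.* helpers here

set_option autoImplicit false
universe u
open CategoryTheory MonoidalCategory CartesianMonoidalCategory MonObj GrpObj AlgebraicGeometry CategoryTheory.Limits
open AlgGrp

namespace Groth.Agent.S19704

section
open CoactBr (sp)

attribute [-instance] CategoryTheory.Hom.commGroup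

set_option backward.isDefEq.respectTransparency false
set_option linter.style.haveILetI false
set_option maxHeartbeats 1000000

theorem has_zero {K : Type u} [Field K] (G : Over (Spec (CommRingCat.of K))) [GrpObj G] :
    RedRank.Has G 0 := by
  refine (RedRank.has_iff G 0).2 ⟨toUnit _ ≫ η[G], ⟨by simp, ?_⟩, ?_⟩
  · have e : ∀ (f g : sp K (RedRank.TA K 0) ⟶ G), (f ⊗ₘ g) ≫ μ[G] = (fst _ _ ≫ f) * (snd _ _ ≫ g) := fun f g => by
      rw [MonObj.mul_eq_mul, MonObj.comp_mul, tensorHom_fst, tensorHom_snd]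
    rw [e]
    simp only [comp_toUnit_assoc]
    rw [show toUnit _ ≫ η[G] = (1 : sp K (RedRank.TA K 0) ⊗ sp K (RedRank.TA K 0) ⟶ G) from rfl, _root_.mul_one]
  have hb : Function.Bijective (algebraMap K (RedRank.TA K 0)) := by
    refine ⟨(algebraMap K (RedRank.TA K 0)).injective, fun x => ⟨Bialgebra.counitAlgHom K _ x, ?_⟩⟩
    refine (AlgHom.congr_fun (MonoidAlgebra.algHom_ext (φ₁ := (Algebra.ofId K (RedRank.TA K 0)).comp
      (Bialgebra.counitAlgHom K (RedRank.TA K 0))) (φ₂ := AlgHom.id K _) (fun m => ?_) (Subsingleton.elim _ _)) x :)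
    obtain rfl : m = 1 := Subsingleton.elim _ _
    simp [← MonoidAlgebra.one_def]
  haveI : IsIso (sp K (RedRank.TA K 0)).hom := by
    show IsIso (Spec.map (CommRingCat.ofHom (algebraMap K (RedRank.TA K 0))))
    haveI : IsIso (CommRingCat.ofHom (algebraMap K (RedRank.TA K 0))) :=
      (ConcreteCategory.isIso_iff_bijective _).2 hb
    infer_instance
  exact ⟨fun a b _ => Over.OverMorphism.ext
    ((cancel_mono (sp K (RedRank.TA K 0)).hom).1 ((Over.w a).trans (Over.w b).symm))⟩

/-- A commutative smooth affine group without subtorus has none geometrically. -/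
theorem hasNoSubtorus_geom_comm {k : Type u} [Field k] (U : Over (Spec (CommRingCat.of k))) [GrpObj U] [IsCommMonObj U]
    [IsAffine U.left] [Smooth U.hom] (hno : Red.HasNoSubtorus k U) (s : ↥(Spec (CommRingCat.of k))) :
    Red.HasNoSubtorus (AlgebraicClosure ((Spec (CommRingCat.of k)).residueField s)) (Red.geomFibre s U) := by
  haveI : IsAffineHom U.hom := isAffineHom_of_isAffine U.hom
  have hr : SGA3x.RedRankLocallyConstant U := fun t => by
    obtain ⟨r, i, hi, -, hd, -⟩ := RedRank.exists_maximal U (Red.geomPt t) (has_zero _)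
    refine ⟨⊤, trivial, (r : WithBot ℕ∞), fun t' _ => ?_⟩
    obtain rfl : t' = t := Subsingleton.elim (α := PrimeSpectrum k) _ _
    exact ⟨_, inferInstance, i, hi, hd⟩
  obtain ⟨T, _, i, hi, -⟩ := RedRank.exists_greatest_torus U hr
  haveI := hi.1; haveI := hi.2.1
  haveI : IsIso T.hom := hno T i hi.2.2.1
  intro R _ j _ _ hR
  haveI : IsIso (Red.geomFibre s T).hom := inferInstanceAs (IsIso (pullback.snd T.hom (Red.geomPt s)))
  haveI : IsMonHom (M := Red.bc (Red.geomPt s) T) (N := Red.bc (Red.geomPt s) U)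
    ((Over.pullback (Red.geomPt s)).map i) := DiagRep.isMonHom_bc_map _ i
  have huniq : ∀ {Z : Over (Spec (CommRingCat.of (AlgebraicClosure ((Spec (CommRingCat.of k)).residueField s))))}
      (a b : Z ⟶ Red.geomFibre s T), a = b := fun a b => Over.OverMorphism.ext
    ((cancel_mono (Red.geomFibre s T).hom).1 ((Over.w a).trans (Over.w b).symm))
  have h : (1 : Red.geomFibre s T ⟶ R) ≫ j = (Over.pullback (Red.geomPt s)).map i := by
    rw [MonObj.one_comp]
    have hid : 𝟙 (Red.geomFibre s T) = 1 := huniq _ _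
    exact ((Category.id_comp _).symm.trans ((congrArg (· ≫ (Over.pullback (Red.geomPt s)).map i) hid).trans
      (MonObj.one_comp _))).symm
  haveI := hi.2.2.2 s R j 1 hR h
  show IsIso R.hom
  haveI : IsIso (1 : Red.geomFibre s T ⟶ R).left :=
    inferInstanceAs (IsIso ((Over.forget _).map (1 : Red.geomFibre s T ⟶ R)))
  haveI : IsIso ((1 : Red.geomFibre s T ⟶ R).left ≫ R.hom) := by rw [Over.w]; infer_instance
  exact IsIso.of_isIso_comp_left (1 : Red.geomFibre s T ⟶ R).left R.hom

theorem main {k : Type u} [Field k] {G N T U Gs Gu : Over (Spec (CommRingCat.of k))} [GrpObj G] [Smooth G.hom]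
    [QuasiCompact G.hom] [IsCommMonObj G] [GrpObj N] (i : N ⟶ G) [IsMonHom i] [IsClosedImmersion i.left]
    [GrpObj T] [GrpObj U] (t : T ⟶ N) (u : U ⟶ N) [IsMonHom t] [IsMonHom u] (hT : Red.IsTorus T)
    [Smooth U.hom] [ConnectedSpace ↥U.left] [IsAffine U.left] (hU : Red.HasNoSubtorus k U)
    (hTU : IsIso ((t ⊗ₘ u) ≫ μ[N]))
    [GrpObj Gs] [GrpObj Gu] [LocallyOfFiniteType Gs.hom] [QuasiCompact Gs.hom] [LocallyOfFiniteType Gu.hom] [QuasiCompact Gu.hom]
    (qs : G ⟶ Gs) [IsMonHom qs] [Surjective qs.left] [Flat qs.left] (hs : AlgGrp.IsKernel (u ≫ i) qs)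
    (qu : G ⟶ Gu) [IsMonHom qu] [Surjective qu.left] [Flat qu.left] (hu : AlgGrp.IsKernel (t ≫ i) qu) :
    Function.Bijective ((Scheme.ΓSpecIso (CommRingCat.of k)).inv ≫ G.hom.appTop).hom ↔ Function.Bijective ((Scheme.ΓSpecIso (CommRingCat.of k)).inv ≫ Gs.hom.appTop).hom ∧ Function.Bijective ((Scheme.ΓSpecIso (CommRingCat.of k)).inv ≫ Gu.hom.appTop).hom := by
  haveI : LocallyOfFinitePresentation qs.left := AntiAffLib.lfp_of_lft qs
  haveI : LocallyOfFinitePresentation qu.left := AntiAffLib.lfp_of_lft qu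
  rw [AntiAffLib.bijective_iff, AntiAffLib.bijective_iff, AntiAffLib.bijective_iff]
  refine ⟨fun h => ?_, fun ⟨h1, h2⟩ => ?_⟩
  · haveI := h
    exact ⟨AntiAffLib.antiAff_of_fppf qs η[G], AntiAffLib.antiAff_of_fppf qu η[G]⟩
  haveI := h1; haveI := h2
  haveI : LocallyOfFinitePresentation T.hom := MultEq.lfp_of_isMultTypeFT (RedRank.isMultTypeFT_of_isTorus hT)
  haveI : QuasiSeparated G.hom := AntiAffLib.qs_grp G
  haveI : QuasiSeparated Gs.hom := AntiAffLib.qs_grp Gs
  haveI : QuasiSeparated Gu.hom := AntiAffLib.qs_grp Gu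
  haveI : Nonempty G.left := AntiAffLib.nonempty_grp G
  haveI : Nonempty Gs.left := AntiAffLib.nonempty_grp Gs
  haveI : Nonempty Gu.left := AntiAffLib.nonempty_grp Gu
  -- the vector part is commutative
  haveI : Mono i := Over.mono_of_mono_left i
  haveI : IsCommMonObj N := AntiAffLib.CommCat.isComm_of_mono i
  haveI : Mono u := by
    haveI := hTU
    refine ⟨fun {Z} a b e => ?_⟩
    have h : lift (1 : Z ⟶ T) a = lift 1 b := by
      rw [← cancel_mono ((t ⊗ₘ u) ≫ μ[N]), ← Category.assoc, ← Category.assoc, lift_map, lift_map, e]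
    simpa using congrArg (· ≫ snd T U) h
  haveI : IsCommMonObj U := AntiAffLib.CommCat.isComm_of_mono u
  let s : ↥(Spec (CommRingCat.of k)) := IsLocalRing.closedPoint k
  let K : Type u := AlgebraicClosure ((Spec (CommRingCat.of k)).residueField s)
  letI : Algebra k K := (Spec.preimage (Red.geomPt s)).hom.toAlgebra
  have hh : Spec.map (CommRingCat.ofHom (algebraMap k K)) = Red.geomPt s := Spec.map_preimage _
  let ξ := AntiAffLib.extMap (k := k) K
  haveI : Smooth (Red.bc ξ G).hom := inferInstanceAs (Smooth (pullback.snd G.hom _))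
  haveI : Smooth (Red.bc ξ U).hom := inferInstanceAs (Smooth (pullback.snd U.hom _))
  haveI : IsAffine (Red.bc ξ U).left := by
    haveI : IsAffineHom U.hom := isAffineHom_of_isAffine U.hom
    haveI : IsAffineHom (pullback.snd U.hom ξ) := MorphismProperty.pullback_snd (P := @IsAffineHom) _ _ inferInstance
    exact isAffine_of_isAffineHom (pullback.snd U.hom ξ)
  haveI : QuasiCompact U.hom := inferInstance
  haveI : ConnectedSpace (Red.bc ξ U).left := by
    haveI := AlbLib.geometricallyIntegral_grp U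
    haveI : GeometricallyIntegral (Red.bc ξ U).hom := inferInstanceAs (GeometricallyIntegral (pullback.snd U.hom _))
    exact AlbLib.connectedSpace_gi _
  have hU' : Red.HasNoSubtorus K (Red.bc ξ U) := by
    show Red.HasNoSubtorus K (Red.bc (Spec.map (CommRingCat.ofHom (algebraMap k K))) U)
    rw [hh]
    exact hasNoSubtorus_geom_comm U hU s
  haveI : IsMonHom (M := Red.bc ξ T) (N := Red.bc ξ G) ((Over.pullback ξ).map (t ≫ i)) := DiagRep.isMonHom_bc_map _ _
  haveI : IsMonHom (M := Red.bc ξ U) (N := Red.bc ξ G) ((Over.pullback ξ).map (u ≫ i)) := DiagRep.isMonHom_bc_map _ _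
  haveI : IsMonHom (M := Red.bc ξ G) (N := Red.bc ξ Gs) ((Over.pullback ξ).map qs) := DiagRep.isMonHom_bc_map _ _
  haveI : IsMonHom (M := Red.bc ξ G) (N := Red.bc ξ Gu) ((Over.pullback ξ).map qu) := DiagRep.isMonHom_bc_map _ _
  haveI : Surjective ((Over.pullback ξ).map qs).left :=
    MorphismProperty.of_isPullback (P := @Surjective) (AVAmpleLib.isPullback_bc K qs) inferInstance
  haveI : Surjective ((Over.pullback ξ).map qu).left :=
    MorphismProperty.of_isPullback (P := @Surjective) (AVAmpleLib.isPullback_bc K qu) inferInstance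
  haveI : Flat ((Over.pullback ξ).map qs).left :=
    MorphismProperty.of_isPullback (P := @Flat) (AVAmpleLib.isPullback_bc K qs) inferInstance
  haveI : Flat ((Over.pullback ξ).map qu).left :=
    MorphismProperty.of_isPullback (P := @Flat) (AVAmpleLib.isPullback_bc K qu) inferInstance
  exact (AntiAffLib.antiAff_bc_iff K G).1 (Groth.Agent.S11425.antiAff_of_quotients
    (T := Red.bc ξ T) (U := Red.bc ξ U) (Gs := Red.bc ξ Gs) (Gu := Red.bc ξ Gu)
    ((Over.pullback ξ).map (t ≫ i)) (RedRank.isTorus_bc hT ξ)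
    ((Over.pullback ξ).map (u ≫ i)) hU' ((Over.pullback ξ).map qs) (SemiAbLib.isKernel_map K hs)
    ((Over.pullback ξ).map qu) (SemiAbLib.isKernel_map K hu))

end

/-- Let k be a field of characteristic 0 and G a connected commutative algebraic group over k whose
largest connected affine algebraic subgroup G_aff = N is the direct product T × U of a torus T and a
connected unipotent (vector) group U: homomorphisms t : T → N and u : U → N with multiplication T ×
U → N an isomorphism. Let q_s : G → G_s = G/U and q_u : G → G_u = G/T be flat surjective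
homomorphisms of k-group schemes of finite type with kernels U and T. Then O(G) = k (G is
anti-affine) exactly when both quotients G_s = G/U and G_u = G/T have only constant global
functions, O(G_s) = k and O(G_u) = k. Here k is any field of characteristic 0, not necessarily
algebraically closed. -/
theorem result (k : Type u) [Field k] [CharZero k]
    (G : Over (Spec (CommRingCat.of k))) [GrpObj G] [Smooth G.hom] [QuasiCompact G.hom] [ConnectedSpace ↥G.left] [IsCommMonObj G]
    (N : Over (Spec (CommRingCat.of k))) [GrpObj N] (i : N ⟶ G) [IsMonHom i] [IsClosedImmersion i.left]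
    [Smooth N.hom] [ConnectedSpace ↥N.left] [IsAffine N.left] (hN : AlgGrp.IsNormalHom i)
    (hNmax : ∀ (N' : Over (Spec (CommRingCat.of k))) [GrpObj N'] (i' : N' ⟶ G) [IsMonHom i'] [IsClosedImmersion i'.left]
      [Smooth N'.hom] [ConnectedSpace ↥N'.left] [IsAffine N'.left], AlgGrp.IsNormalHom i' → ∃ f : N' ⟶ N, f ≫ i = i')
    (T U : Over (Spec (CommRingCat.of k))) [GrpObj T] [GrpObj U] (t : T ⟶ N) (u : U ⟶ N) [IsMonHom t] [IsMonHom u]
    (hT : Red.IsTorus T)
    [Smooth U.hom] [ConnectedSpace ↥U.left] [IsAffine U.left] (hU : Red.HasNoSubtorus k U)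
    (hTU : IsIso ((t ⊗ₘ u) ≫ μ[N]))
    (Gs Gu : Over (Spec (CommRingCat.of k))) [GrpObj Gs] [GrpObj Gu] [LocallyOfFiniteType Gs.hom] [QuasiCompact Gs.hom]
    [LocallyOfFiniteType Gu.hom] [QuasiCompact Gu.hom]
    (qs : G ⟶ Gs) [IsMonHom qs] [Surjective qs.left] [Flat qs.left] (hs : AlgGrp.IsKernel (u ≫ i) qs)
    (qu : G ⟶ Gu) [IsMonHom qu] [Surjective qu.left] [Flat qu.left] (hu : AlgGrp.IsKernel (t ≫ i) qu) :
    Function.Bijective ((Scheme.ΓSpecIso (CommRingCat.of k)).inv ≫ G.hom.appTop).hom ↔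
      Function.Bijective ((Scheme.ΓSpecIso (CommRingCat.of k)).inv ≫ Gs.hom.appTop).hom ∧
      Function.Bijective ((Scheme.ΓSpecIso (CommRingCat.of k)).inv ≫ Gu.hom.appTop).hom := by
  exact main i t u hT hU hTU qs hs qu hu

end Groth.Agent.S19704
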