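import Groth.Statements.S1971
import Groth.Agent.HensSchLib.Basic
-- import your own Groth.Agent.* helpers here

set_option autoImplicit false
universe u
open EtAlg

namespace Groth.Agent.S1971

/-- Let A be a ring with ideals I and J having the same zero locus in Spec A. Then an A-algebra is a
henselization of the pair (A, I) if and only if it is a henselization of the pair (A, J). -/
theorem result (A : Type u) [CommRing A] (I J : Ideal A)
    (h : PrimeSpectrum.zeroLocus (I : Set A) = PrimeSpectrum.zeroLocus (J : Set A)) (B : Type u) [CommRing B] [Algebra A B] :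
    Hens2.IsPairHenselization A I B ↔ Hens2.IsPairHenselization A J B := by
  have key : ∀ {K L : Ideal A}, K.radical = L.radical → Hens2.IsPairHenselization A K B → Hens2.IsPairHenselization A L B := by
    intro K L hKL hB
    have hle : ∀ (C : Type u) [CommRing C] (f : A →+* C) (M : Ideal C) {P Q : Ideal A}, P.radical = Q.radical →
        P.map f ≤ M → Q.map f ≤ M.radical := fun C _ f M P Q hPQ hP =>
      (Ideal.map_mono (Ideal.le_radical.trans hPQ.ge)).trans ((Ideal.map_radical_le f).trans (Ideal.radical_mono hP))
    refine ⟨HensSchLib.henselianRing_of_le_radical hB.1 (hle B _ _ hKL le_rfl), fun C _ M f hM hf => ?_⟩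
    exact hB.2 C M.radical f (HensSchLib.henselianRing_of_le_radical hM le_rfl) (hle C f M hKL.symm hf)
  have hr := PrimeSpectrum.zeroLocus_eq_iff.1 h
  exact ⟨key hr, key hr.symm⟩

end Groth.Agent.S1971
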