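import Groth.Statements.S19711
import Mathlib.Algebra.Module.FinitePresentation
-- import your own Groth.Agent.* helpers here

set_option autoImplicit false
universe u
open CategoryTheory
open Coh

namespace Groth.Agent.S19711

/-- Let A be a Noetherian integral domain and F an A-linear additive functor from A-modules to A-modules
with F(A) a finitely generated A-module. Call such a functor generically injective when there is a
dense open subset U of Spec A such that for every point u of U whose residue field κ(u) is a
finitely generated A-algebra the comparison map F(A) ⊗_A κ(u) → F(κ(u)) is injective; since F is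
A-linear this injectivity says: every m in F(A) whose image under F(A → κ(u)) vanishes satisfies s·m
∈ u·F(A) for some s outside u. If F is generically injective then so is every A-linear additive
subfunctor K ⊆ F (a natural transformation K → F with injective components). (The published
statement is over a reduced Noetherian affine scheme, for additive functors on quasi-coherent
sheaves with values in abelian groups and the induced A-action, assumes F weakly bounded (F(A/p)
finitely generated for every prime ideal p) and also records that K is again weakly bounded; only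
the finite generation of F(A), which its argument uses, is assumed here, and the integral case with
A-linear functors stated here is the one its argument by generic flatness treats.) -/
theorem result {A : Type u} [CommRing A] [IsNoetherianRing A] [IsDomain A]
    (F K : ModuleCat.{u} A ⥤ ModuleCat.{u} A) [F.Additive] [F.Linear A] [K.Additive] [K.Linear A]
    (ι : K ⟶ F) (hι : ∀ X : ModuleCat.{u} A, Function.Injective (ι.app X).hom)
    (hfin : Module.Finite A (F.obj (ModuleCat.of A A)))
    (hGI : ∃ U : Set (PrimeSpectrum A), IsOpen U ∧ Dense U ∧ ∀ u ∈ U, Algebra.FiniteType A u.asIdeal.ResidueField →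
        ∀ m : F.obj (ModuleCat.of A A),
          (F.map (ModuleCat.ofHom (Algebra.linearMap A u.asIdeal.ResidueField))).hom m = 0 →
            ∃ s ∉ u.asIdeal, s • m ∈ u.asIdeal • (⊤ : Submodule A (F.obj (ModuleCat.of A A)))) :
    ∃ U : Set (PrimeSpectrum A), IsOpen U ∧ Dense U ∧ ∀ u ∈ U, Algebra.FiniteType A u.asIdeal.ResidueField →
        ∀ m : K.obj (ModuleCat.of A A),
          (K.map (ModuleCat.ofHom (Algebra.linearMap A u.asIdeal.ResidueField))).hom m = 0 →
            ∃ s ∉ u.asIdeal, s • m ∈ u.asIdeal • (⊤ : Submodule A (K.obj (ModuleCat.of A A))) := by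
  classical
  obtain ⟨U₀, hU₀o, hU₀d, hU₀⟩ := hGI
  let FA := F.obj (ModuleCat.of A A)
  let KA := K.obj (ModuleCat.of A A)
  let i : KA →ₗ[A] FA := (ι.app (ModuleCat.of A A)).hom
  have hi : Function.Injective i := hι _
  haveI : Module.Finite A FA := hfin
  haveI : Module.Finite A KA := Module.Finite.of_injective i hi
  haveI : Module.FinitePresentation A FA := Module.finitePresentation_of_finite A FA
  let S := nonZeroDivisors A
  let iS := LocalizedModule.map S i
  have hiS : Function.Injective iS := LocalizedModule.map_injective S i hi
  let eS : (FractionRing A) →+* Localization S := RingHom.id _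
  haveI : IsFractionRing A (Localization S) := inferInstanceAs (IsFractionRing A (FractionRing A))
  obtain ⟨ρ, hρ⟩ := LinearMap.exists_leftInverse_of_injective (K := FractionRing A) iS (LinearMap.ker_eq_bot.mpr hiS)
  let mK := LocalizedModule.mkLinearMap S KA
  let g : FA →ₗ[A] LocalizedModule S KA := (ρ.restrictScalars A).comp (LocalizedModule.mkLinearMap S FA)
  obtain ⟨r, s, hr⟩ := Module.FinitePresentation.exists_lift_of_isLocalizedModule S mK g
  have key : ∀ m : KA, mK (r (i m)) = mK ((s : A) • m) := by
    intro m
    have h1 : mK (r (i m)) = (s : A) • g (i m) := by simpa [Submonoid.smul_def] using LinearMap.congr_fun hr (i m)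
    have h2 : g (i m) = mK m := by
      have h4 : LocalizedModule.mkLinearMap S FA (i m) = iS (mK m) := by
        simp [iS, mK, LocalizedModule.map_mk]
      simp only [g, LinearMap.comp_apply, LinearMap.restrictScalars_apply, h4]
      exact LinearMap.congr_fun hρ (mK m)
    rw [h1, h2, map_smul]
  have hker : ∀ m : KA, ∃ c : S, (c : A) • (r (i m) - (s : A) • m) = 0 := fun m => by
    have h0 : mK (r (i m) - (s : A) • m) = 0 := by rw [map_sub, key, sub_self]
    obtain ⟨c, hc⟩ := (IsLocalizedModule.eq_zero_iff S mK).mp h0
    exact ⟨c, hc⟩
  choose c hc using hker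
  obtain ⟨G, hG⟩ := (Module.finite_def (R := A) (M := KA)).mp inferInstance
  let c₀ : S := ∏ m ∈ G, c m
  have hall : ∀ m : KA, (c₀ : A) • (r (i m) - (s : A) • m) = 0 := by
    intro m
    have hm : m ∈ Submodule.span A (G : Set KA) := hG ▸ Submodule.mem_top
    induction hm using Submodule.span_induction with
    | mem x hx =>
      obtain ⟨d, hd⟩ : c x ∣ c₀ := Finset.dvd_prod_of_mem _ hx
      rw [hd, Submonoid.coe_mul, mul_comm, mul_smul, hc, smul_zero]
    | zero => simp
    | add x y _ _ hx hy => rw [map_add, map_add, smul_add, add_sub_add_comm, smul_add, hx, hy, add_zero]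
    | smul a x _ hx => rw [map_smul, map_smul, smul_comm (s : A) a, ← smul_sub, smul_comm, hx, smul_zero]
  let f : A := (c₀ : A) * (s : A)
  have hf : f ≠ 0 := mul_ne_zero (nonZeroDivisors.coe_ne_zero _) (nonZeroDivisors.coe_ne_zero _)
  have hne : ((PrimeSpectrum.basicOpen f : TopologicalSpace.Opens (PrimeSpectrum A)) : Set (PrimeSpectrum A)).Nonempty :=
    ⟨⟨⊥, Ideal.bot_prime⟩, by simpa using hf⟩
  refine ⟨U₀ ∩ (PrimeSpectrum.basicOpen f : Set _), hU₀o.inter (PrimeSpectrum.basicOpen f).2,
    hU₀d.inter_of_isOpen_left ((PrimeSpectrum.basicOpen f).2.dense hne) hU₀o, ?_⟩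
  rintro u ⟨hu, huf⟩ hft m hm
  have hnat : (F.map (ModuleCat.ofHom (Algebra.linearMap A u.asIdeal.ResidueField))).hom (i m) = 0 := by
    have := congrArg (fun φ => φ.hom m) (ι.naturality (ModuleCat.ofHom (Algebra.linearMap A u.asIdeal.ResidueField)))
    simp only [ModuleCat.hom_comp, LinearMap.comp_apply] at this
    rw [← this, hm, map_zero]
  obtain ⟨t, ht, htm⟩ := hU₀ u hu hft (i m) hnat
  refine ⟨t * f, fun h => ?_, ?_⟩
  · exact (u.2.mem_or_mem h).elim ht (by simpa using huf)
  have h3 : (c₀ : A) • r (i m) = f • m := by
    have := hall m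
    rw [smul_sub, sub_eq_zero] at this
    rw [this, ← mul_smul]
  have h5 : (t * f) • m = (c₀ : A) • r (t • i m) := by rw [map_smul, mul_smul, ← h3, smul_comm]
  rw [h5]
  refine Submodule.smul_mem _ _ ?_
  have : r (t • i m) ∈ Submodule.map r (u.asIdeal • (⊤ : Submodule A FA)) := ⟨_, htm, rfl⟩
  rw [Submodule.map_smul''] at this
  exact Submodule.smul_mono le_rfl le_top this

end Groth.Agent.S19711
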