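import Groth.Statements.S19712
import Mathlib
import Groth.Agent.GrowthLib.InterBound
import Groth.Agent.S10831
-- import your own Groth.Agent.* helpers here

set_option autoImplicit false
universe u
open CategoryTheory AlgebraicGeometry
open Variety

namespace Groth.Agent.S19712

open AlgebraicGeometry.Scheme.Modules in
/-- Uniform cohomology bound on intersections of divisors: let X be an integral scheme, proper over an
algebraically closed field k of characteristic zero and admitting an ample invertible module, of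
dimension n (the source works over the complex numbers); let A be an invertible O_X-module which is
very ample (A ≅ i^*O(1) for an immersion into some P^N_k) and such that A ⊗ P' is very ample for
every invertible P' numerically equivalent to zero, D any invertible O_X-module and 1 ≤ k ≤ n. Then
there is a constant C > 0, determined by X, A and D, such that: for every invertible P numerically
equivalent to zero, every k global sections s_1, …, s_k of A ⊗ P, and every closed subscheme Z of X
whose ideal is generated by the zero-scheme ideals of the s_j (Z = E_1 ∩ ⋯ ∩ E_k with E_j the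
divisor of s_j), if Z is reduced and all its irreducible components have dimension n − k, then dim_k
H^i(Z, (D^{⊗m})|_Z) ≤ C · m^{n−k} for every m ≥ 1 and every i. -/
theorem result
    (k : Type u) [Field k] [IsAlgClosed k] [CharZero k] (X : Scheme.{u})
    [X.Over (Spec (CommRingCat.of k))] [AlgebraicGeometry.IsIntegral X]
    [IsProper (X ↘ Spec (CommRingCat.of k))] (hproj : ∃ A : X.Modules, CohB1.IsAmple A)
    (n : ℕ) (hn : topologicalKrullDim ↥X = n)
    (A : X.Modules) (hA : PicF.IsInvertible A) (hAva : RelAmple.IsRelVeryAmplePn (X ↘ Spec (CommRingCat.of k)) A)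
    (hAP : ∀ P' : X.Modules, PicF.IsInvertible P' → Pic13.IsNumEquivZero k X P' →
      RelAmple.IsRelVeryAmplePn (X ↘ Spec (CommRingCat.of k)) (CohB1.tensorMod A P'))
    (D : X.Modules) (hD : PicF.IsInvertible D) (kk : ℕ) (hk1 : 1 ≤ kk) (hkn : kk ≤ n) :
    ∃ C : ℝ, 0 < C ∧ ∀ (P : X.Modules), PicF.IsInvertible P → Pic13.IsNumEquivZero k X P →
      ∀ (s : Fin kk → (Coh.structureModule X ⟶ CohB1.tensorMod A P))
        (Z : Scheme.{u}) [Z.Over (Spec (CommRingCat.of k))] (ι : Z ⟶ X) [IsClosedImmersion ι],
        ι ≫ (X ↘ Spec (CommRingCat.of k)) = Z ↘ Spec (CommRingCat.of k) →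
        (∀ U : X.affineOpens, ι.ker.ideal U = ⨆ j, (PicF2.zeroScheme (CohB1.tensorMod A P) (s j)).ideal U) →
        AlgebraicGeometry.IsReduced Z →
        (∀ W ∈ irreducibleComponents ↥Z, topologicalKrullDim ↥W = ((n - kk : ℕ) : WithBot ℕ∞)) →
        ∀ (m : ℕ), 1 ≤ m → ∀ i : ℕ,
          (Module.finrank k (Coh.HH Z ((pullback ι).obj (CohB1.tensorPow D m)) i) : ℝ) ≤ C * (m : ℝ) ^ (n - kk) := by
  obtain ⟨C, hC⟩ := GrowthLib.exists_inter_bound k X hproj hA hD kk (n - kk)
  refine ⟨((C : ℝ) + 1) * 2 ^ (n - kk), by positivity, fun P hP hNum s Z _ ι _ hι hI _ hcomp m hm i => ?_⟩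
  have hdim : topologicalKrullDim ↥Z ≤ ((n - kk : ℕ) : WithBot ℕ∞) := by
    rw [Groth.Agent.S10831.result]
    exact iSup₂_le fun W hW => (hcomp W hW).le
  have h := hC P (NumTrivLib.NT.of_isNumEquivZero hP hNum) s Z ι hι hI hdim m i
  have h2 : ((m : ℝ) + 1) ^ (n - kk) ≤ 2 ^ (n - kk) * (m : ℝ) ^ (n - kk) := by
    rw [← mul_pow]
    have : (1 : ℝ) ≤ (m : ℝ) := by exact_mod_cast hm
    exact pow_le_pow_left₀ (by positivity) (by linarith) _
  have h3 : (Module.finrank k (Coh.HH Z ((pullback ι).obj (CohB1.tensorPow D m)) i) : ℝ) ≤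
      (C : ℝ) * ((m : ℝ) + 1) ^ (n - kk) := by exact_mod_cast h
  refine h3.trans ((mul_le_mul_of_nonneg_left h2 (Nat.cast_nonneg C)).trans ?_)
  rw [mul_assoc]
  exact mul_le_mul_of_nonneg_right (le_add_of_nonneg_right zero_le_one) (by positivity)

end Groth.Agent.S19712
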