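import Groth.Statements.S19715
import Groth.Agent.TwDescLib.Twisted
import Groth.Agent.TwDescLib.Pieces

set_option autoImplicit false
set_option backward.isDefEq.respectTransparency false
set_option backward.isDefEq.respectTransparency.types false
universe u
open TwSh

namespace Groth.Agent.S19715

open CategoryTheory AlgebraicGeometry in
theorem eqToHom_cancel_apply {P Q : Scheme.{u}} (h : P = Q) (y : Q) : eqToHom h (eqToHom h.symm y) = y := by
  subst h; rfl

open CategoryTheory AlgebraicGeometry in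
/-- Being twisted is local on the base. Let 𝒳 → X be an fppf A-gerbe over a scheme X, χ a character of
A, d an integer and F a quasi-coherent module on 𝒳. If {T_i → X} is a family of flat morphisms
locally of finite presentation whose images cover X, and for every i the restriction of F to the
gerbe restricted over T_i is d-fold χ-twisted for the restricted action, then F is d-fold χ-twisted.
(The published statement is an equivalence, for arbitrary modules on an A-gerbe over a locally
ringed site and a covering of it; the converse implication holds by construction and is not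
asserted, and this row is the quasi-coherent form over the big fppf site of a scheme.) -/
theorem result (S : Scheme.{u}) (X : Over S) (𝒳 : AlgSt.Cat S) (h𝒳 : AlgSt.IsAlgStack Scheme.fppfPrecoverage 𝒳) (A : (Over S)ᵒᵖ ⥤ GrpCat.{u}) (χ : A ⟶ TwSh.GmPsh S) (d : ℤ) (π : 𝒳 ⥤ᵇ AlgSt.ofSch X) (ι : TwSh.BandHom 𝒳 A) (hπ : TwSh.IsBandedGerbe (QuotSh.J Scheme.fppfPrecoverage S) π ι) (I : Type u) (η : I → (AlgSt.ofSch X).obj) (hfl : ∀ i, Flat (η i).sec.down.left) (hfp : ∀ i, LocallyOfFinitePresentation (η i).sec.down.left) (hcov : ∀ x : X.left, ∃ i, x ∈ Set.range (η i).sec.down.left.base) (F : StMod.QCoh 𝒳) (h : ∀ i, TwSh.IsTwisted (StMod.Mod.comap (StMod.fibFst π (η i)) F.obj) (TwSh.BandHom.fib π (η i) ι (TwSh.IsBandedGerbe.map_hom_eq_id π hπ)) χ d) : TwSh.IsTwisted F.obj ι χ d := by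
  haveI : FibCat.IsFibGrpd 𝒳.p := h𝒳.isStack.1
  refine (TwSh.isTwisted_iff_inert_eq F.obj ι χ d).2 fun ξ a => TwDescLib.inert_eq_of_totMap ξ _ _ ?_
  let τ : (π.obj ξ).base ⟶ X := (π.obj ξ).sec.down
  let σ : ∀ i, (η i).base ⟶ X := fun i => (η i).sec.down
  have hc : TwDescLib.IsFppf (fun i => (σ i).left) := ⟨hcov, hfl, hfp⟩
  have hp := hc.pullback τ.left
  choose z c e he using fun i => TwDescLib.exists_obj_over ξ
    (Limits.pullback.fst τ.left (σ i).left ≫ eqToHom (StMod.sch_obj_eq π ξ))
  have hπc : ∀ i, StMod.bmap (AlgSt.ofSch X) (π.map (c i)) =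
      eqToHom (StMod.sch_obj_eq π (z i)) ≫ (e i).hom ≫ Limits.pullback.fst τ.left (σ i).left := fun i => by
    rw [← cancel_mono (eqToHom (StMod.sch_obj_eq π ξ)), StMod.bmap_map_comm π (c i) rfl, ← he i]
    simp only [Category.assoc]
  have hcov' : TwDescLib.IsFppf (fun i => StMod.bmap 𝒳 (c i)) := by
    refine ⟨fun y => ?_, fun i => ?_, fun i => ?_⟩
    · obtain ⟨i, p, hp'⟩ := hp.surj (eqToHom (StMod.sch_obj_eq π ξ).symm y)
      refine ⟨i, (e i).inv p, ?_⟩
      rw [← he i, ← Scheme.Hom.comp_apply, ← Category.assoc, Iso.inv_hom_id, Category.id_comp,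
        Scheme.Hom.comp_apply, hp']
      exact eqToHom_cancel_apply (StMod.sch_obj_eq π ξ) y
    · haveI := hp.flat i
      rw [← he i]; infer_instance
    · haveI := hp.lfp i
      rw [← he i]; infer_instance
  refine TwDescLib.totMap_twisted_of_cover χ d ι F.property.1 ξ a z c hcov'.flat hcov'.surj fun i => ?_
  let l : (π.obj (z i)).base.left ⟶ (η i).base.left :=
    eqToHom (StMod.sch_obj_eq π (z i)) ≫ (e i).hom ≫ Limits.pullback.snd τ.left (σ i).left
  have hl : l ≫ (σ i).left = ((π.obj (z i)).sec.down : (π.obj (z i)).base ⟶ X).left := by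
    have h1 : (π.map (c i)).hom ≫ τ = (π.obj (z i)).sec.down := congrArg ULift.down (π.map (c i)).map_sec
    rw [← h1, Over.comp_left]
    show l ≫ (σ i).left = StMod.bmap (AlgSt.ofSch X) (π.map (c i)) ≫ τ.left
    rw [hπc i]
    simp only [l, Category.assoc, Limits.pullback.condition]
  have hw : l ≫ (η i).base.hom = (π.obj (z i)).base.hom := by
    rw [← Over.w (σ i), ← Category.assoc, hl, Over.w]
  let α : π.obj (z i) ⟶ η i := ⟨Over.homMk l hw, ULift.ext _ _ (Over.OverMorphism.ext hl)⟩
  let x : (StMod.fibCat π (η i)).obj := CostructuredArrow.mk α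
  have key := (TwSh.isTwisted_iff_inert_eq _ _ χ d).1 (h i) x (A.map (𝒳.p.map (c i)).op a)
  have key' : TwSh.inert F.obj (z i) (ι.hom (z i) (A.map (𝒳.p.map (c i)).op a)) =
      TwSh.scalarEnd (F.obj.obj (z i)) ((TwSh.charUnit χ (z i) (A.map (𝒳.p.map (c i)).op a) ^ d)⁻¹).val :=
    (TwSh.inert_comap_fibFst π (η i) F.obj x (ι.hom (z i) (A.map (𝒳.p.map (c i)).op a))
      (TwSh.IsBandedGerbe.map_hom_eq_id π hπ _ _)).symm.trans key
  rw [TwDescLib.totMap_autO, key']
  rfl

end Groth.Agent.S19715
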