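import Groth.Statements.S1973
import Groth.Agent.HenselLib.Normal
import Mathlib.RingTheory.DedekindDomain.Dvr
import Mathlib.RingTheory.DiscreteValuationRing.TFAE
import Mathlib.RingTheory.QuasiFinite.Basic
import Mathlib.RingTheory.Ideal.Quotient.Operations
-- import your own Groth.Agent.* helpers here

set_option autoImplicit false
universe u
open EtAlg

namespace Groth.Agent.S1973

theorem dimLE {A B : Type u} [CommRing A] [CommRing B] [Algebra A B] [Algebra.QuasiFinite A B] :
    ringKrullDim B ≤ ringKrullDim A := by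
  refine Order.krullDim_le_of_strictMono (PrimeSpectrum.comap (algebraMap A B)) ?_
  intro P Q hPQ
  refine lt_of_le_of_ne (Ideal.comap_mono (le_of_lt hPQ)) fun he => (ne_of_lt hPQ) ?_
  exact PrimeSpectrum.ext (Algebra.QuasiFinite.eq_of_le_of_under_eq P.asIdeal Q.asIdeal (le_of_lt hPQ)
    (congrArg PrimeSpectrum.asIdeal he :))

theorem dedekind_etale (A U : Type u) [CommRing A] [IsDedekindDomain A] [CommRing U] [IsDomain U] [Algebra A U]
    [Algebra.Etale A U] : IsDedekindDomain U := by
  have : IsNoetherianRing U := Algebra.FiniteType.isNoetherianRing A U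
  have : Ring.DimensionLEOne U := by
    have h : Ring.KrullDimLE 1 U := (Ring.krullDimLE_iff).2 (dimLE.trans (Ring.krullDimLE_iff.1 (inferInstance : Ring.KrullDimLE 1 A)))
    exact ⟨fun {p} hp hpr => by
      have := hpr
      exact (Ring.krullDimLE_one_iff_of_noZeroDivisors.1 h) p hp hpr⟩
  have : IsIntegrallyClosed U := IsIntegrallyClosed.of_localization_maximal fun q _ _ =>
    (HenselLib.normal_localization_etale A U q).2
  exact { }

/-- Let A be a Dedekind domain and B an etale A-algebra. Then B is isomorphic as a ring to a finite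
product of Dedekind domains, and for every maximal ideal q of B whose localization is not a field,
the localization B_q is a discrete valuation ring. (The source states the last claim for all maximal
ideals; it fails for field factors, e.g. A a DVR with uniformizer π and B = A[1/π], so the guard is
needed.) -/
theorem result (A B : Type u) [CommRing A] [IsDedekindDomain A] [CommRing B] [Algebra A B]
    [Algebra.Etale A B] :
    (∃ (n : ℕ) (D : Fin n → Type u) (_ : ∀ i, CommRing (D i)) (_ : ∀ i, IsDedekindDomain (D i)),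
      Nonempty (B ≃+* ∀ i, D i)) ∧
    ∀ (q : Ideal B) [q.IsMaximal], ¬ IsField (Localization.AtPrime q) →
      ∃ _ : IsDomain (Localization.AtPrime q), IsDiscreteValuationRing (Localization.AtPrime q) := by
  classical
  have hN : IsNoetherianRing B := Algebra.FiniteType.isNoetherianRing A B
  have hloc : ∀ (q : Ideal B) [q.IsPrime], IsDomain (Localization.AtPrime q) ∧
      IsIntegrallyClosed (Localization.AtPrime q) :=
    fun q _ => HenselLib.normal_localization_etale A B q
  have hred : IsReduced B := isReduced_ofLocalizationMaximal B fun q _ => by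
    have := (hloc q).1
    infer_instance
  have hfin : (minimalPrimes B).Finite := minimalPrimes.finite_of_isNoetherianRing B
  have hcop : ∀ p₁ ∈ minimalPrimes B, ∀ p₂ ∈ minimalPrimes B, p₁ ≠ p₂ → p₁ ⊔ p₂ = ⊤ := by
    intro p₁ h₁ p₂ h₂ hne
    by_contra h
    obtain ⟨M, hM, hle⟩ := Ideal.exists_le_maximal _ h
    have := (hloc M).1
    have key : ∀ p ∈ minimalPrimes B, p ≤ M →
        p = RingHom.ker (algebraMap B (Localization.AtPrime M)) := by
      intro p hp hpM
      have := hp.1.1
      refine le_antisymm (hp.2 ⟨RingHom.ker_isPrime _, bot_le⟩ ?_) ?_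
      · intro x hx
        obtain ⟨s, hs⟩ := (IsLocalization.map_eq_zero_iff M.primeCompl (Localization.AtPrime M) x).1 hx
        exact (‹p.IsPrime›.mem_or_mem (hs ▸ p.zero_mem)).resolve_left fun h' => s.2 (hpM h')
      · intro x hx
        obtain ⟨s, hs⟩ := (IsLocalization.map_eq_zero_iff M.primeCompl (Localization.AtPrime M) x).1 hx
        exact (‹p.IsPrime›.mem_or_mem (hs ▸ p.zero_mem)).resolve_left fun h' => s.2 (hpM h')
    exact hne ((key p₁ h₁ (le_sup_left.trans hle)).trans (key p₂ h₂ (le_sup_right.trans hle)).symm)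
  obtain ⟨n, e, he⟩ : ∃ (n : ℕ) (e : Fin n → Ideal B), Function.Injective e ∧ Set.range e = minimalPrimes B := by
    refine ⟨hfin.toFinset.card, fun i => (hfin.toFinset.equivFin.symm i).1, ?_, ?_⟩
    · exact Subtype.val_injective.comp (Equiv.injective _)
    · ext p
      refine ⟨?_, fun hp => ⟨hfin.toFinset.equivFin ⟨p, hfin.mem_toFinset.2 hp⟩, by simp⟩⟩
      rintro ⟨i, rfl⟩
      exact hfin.mem_toFinset.1 (hfin.toFinset.equivFin.symm i).2
  have hmem : ∀ i, e i ∈ minimalPrimes B := fun i => he.2 ▸ Set.mem_range_self i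
  have hpair : Pairwise (Function.onFun IsCoprime e) := fun i j hij =>
    Ideal.isCoprime_iff_sup_eq.2 (hcop _ (hmem i) _ (hmem j) fun h => hij (he.1 h))
  have hinf : ⨅ i, e i = ⊥ := by
    rw [eq_bot_iff, ← Ideal.zero_eq_bot, ← nilradical_eq_zero B, nilradical, Ideal.radical_eq_sInf]
    refine le_sInf fun P hP => ?_
    have := hP.2
    obtain ⟨p, hp, hpP⟩ := Ideal.exists_minimalPrimes_le (bot_le : (⊥ : Ideal B) ≤ P)
    obtain ⟨i, rfl⟩ := (he.2.symm ▸ hp : p ∈ Set.range e)
    exact (iInf_le e i).trans hpP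
  have hdom : ∀ i, IsDedekindDomain (B ⧸ e i) := by
    intro i
    have := (hmem i).1.1
    have htop : e i ⊔ ⨅ j ∈ (Finset.univ.erase i), e j = ⊤ :=
      Ideal.sup_iInf_eq_top fun j hj => hcop _ (hmem i) _ (hmem j) fun h => (Finset.mem_erase.1 hj).1 (he.1 h).symm
    obtain ⟨x, hx, y, hy, hxy⟩ := Submodule.mem_sup.1 (htop.symm ▸ Submodule.mem_top : (1 : B) ∈ e i ⊔ _)
    have hzero : ∀ z ∈ e i, z * y = 0 := fun z hz => by
      rw [← Ideal.mem_bot, ← hinf, Ideal.mem_iInf]
      intro j
      by_cases hj : j = i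
      · exact Ideal.mul_mem_right _ _ (hj ▸ hz)
      · simp only [Submodule.mem_iInf] at hy
        exact Ideal.mul_mem_left _ _ (hy j (Finset.mem_erase.2 ⟨hj, Finset.mem_univ _⟩))
    have hker : RingHom.ker (algebraMap B (B ⧸ e i)) = Ideal.span {1 - y} := by
      rw [Ideal.Quotient.algebraMap_eq, Ideal.mk_ker]
      refine le_antisymm (fun z hz => Ideal.mem_span_singleton.2 ⟨z, ?_⟩)
        ((Ideal.span_singleton_le_iff_mem _).2 ?_)
      · have := hzero z hz
        linear_combination this
      · rwa [← eq_sub_of_add_eq hxy]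
    have hy2 : IsIdempotentElem y := by
      have := hzero x hx
      show y * y = y
      linear_combination (-this) + y * hxy
    have := IsLocalization.away_of_isIdempotentElem hy2 hker Ideal.Quotient.mk_surjective
    have : Algebra.Etale B (B ⧸ e i) := Algebra.Etale.of_isLocalizationAway y
    have : Algebra.Etale A (B ⧸ e i) := Algebra.Etale.comp A B (B ⧸ e i)
    exact dedekind_etale A (B ⧸ e i)
  refine ⟨⟨n, fun i => B ⧸ e i, inferInstance, hdom,
    ⟨((RingEquiv.quotientBot B).symm.trans (Ideal.quotEquivOfEq hinf.symm)).trans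
      (Ideal.quotientInfRingEquivPiQuotient e hpair)⟩⟩, fun q _ hq => ?_⟩
  obtain ⟨h1, h2⟩ := hloc q
  refine ⟨h1, ?_⟩
  have hdim : ringKrullDim (Localization.AtPrime q) ≤ 1 :=
    ((IsLocalization.AtPrime.ringKrullDim_eq_height q (Localization.AtPrime q)).trans_le (Ideal.height_le_ringKrullDim_of_ne_top Ideal.IsPrime.ne_top')).trans
      ((dimLE (A := A)).trans (Ring.krullDimLE_iff.1 (inferInstance : Ring.KrullDimLE 1 A)))
  have : Ring.DimensionLEOne (Localization.AtPrime q) := ⟨fun {p} hp hpr =>
    (Ring.krullDimLE_one_iff_of_noZeroDivisors.1 (Ring.krullDimLE_iff.2 hdim)) p hp hpr⟩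
  have : IsDedekindDomain (Localization.AtPrime q) := { }
  exact ((IsDiscreteValuationRing.TFAE (Localization.AtPrime q) hq).out 0 2 rfl rfl).2 inferInstance

end Groth.Agent.S1973
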