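import Groth.Statements.S19734
import Mathlib
import Groth.Agent.NumRLib.Pos
-- import your own Groth.Agent.* helpers here

set_option autoImplicit false
universe u
open CategoryTheory CategoryTheory.Limits AlgebraicGeometry TopologicalSpace
open Surf

namespace Groth.Agent.S19734

/-- Let k be an algebraically closed field of characteristic zero and X a smooth projective surface over
k (integral, proper and smooth over k, of dimension 2, with an ample invertible module); the notes
work over the complex numbers. Fix a group law on the Picard set of X, and let B be the intersection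
form on N¹(X)_ℝ = ℝ ⊗ (Pic X modulo numerical equivalence), the real bilinear form whose value on
the classes of invertible modules L, M is (L·M) = χ(O_X) − χ(L) − χ(M) + χ(L ⊗ M); assume N¹(X)_ℝ is
finite-dimensional. Let A(X) be the ample cone (generated by the classes of ample invertible
modules), H an ample invertible module and C₊ = {x : B(x, x) > 0, B(x, [H]) > 0} the positive cone,
which contains A(X). Then the closure of A(X) in N¹(X)_ℝ is {x : B(x, x) ≥ 0 and B(x, [C]) ≥ 0 for
every integral curve C ⊆ X}, and the closure of A(X) inside C₊, that is the closure intersected with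
C₊, is {x : B(x, x) > 0 and B(x, [C]) ≥ 0 for every integral curve C}; here C runs over
quasi-coherent ideals with integral closed subscheme of one-dimensional support and invertible ideal
module, and [C] is minus the class of the ideal. -/
theorem result (k : Type u) [Field k] [IsAlgClosed k] [CharZero k]
    (X : Scheme.{u}) [X.Over (Spec (CommRingCat.of k))] [IsProper (X ↘ (Spec (CommRingCat.of k)))]
    [Smooth (X ↘ (Spec (CommRingCat.of k)))] [AlgebraicGeometry.IsIntegral X] (hdim : topologicalKrullDim X = 2)
    (hproj : ∃ H : X.Modules, CohB1.IsAmple H) [PicGrp.Law X] [Module.Finite ℝ (NumR.N1R k X)]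
    (B : NumR.N1R k X →ₗ[ℝ] NumR.N1R k X →ₗ[ℝ] ℝ) (hB : NumR.IsIntForm₂ k X B) (H : X.Modules) (hH : CohB1.IsAmple H) :
    closure (NumR.ampleCone k X : Set (NumR.N1R k X)) = {x | 0 ≤ B x x ∧ x ∈ NumR.nefCone₂ k X B} ∧
      closure (NumR.ampleCone k X : Set (NumR.N1R k X)) ∩ NumR.posCone k X B H hH.1 =
        {x | 0 < B x x ∧ x ∈ NumR.nefCone₂ k X B} := by
  have hX : topologicalKrullDim X = ((2 : ℕ) : WithBot ℕ∞) := hdim
  obtain ⟨hhh, hidx⟩ := NumRLib.hodge hX hB hH.1 hH
  have hs := NumRLib.B_symm hX hB
  obtain ⟨-, hhC⟩ := NumRLib.ample_pos hX hB hH.1 hH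
  have hcl : closure (NumR.ampleCone k X : Set (NumR.N1R k X)) = {x | 0 ≤ B x x ∧ x ∈ NumR.nefCone₂ k X B} := by
    refine Set.Subset.antisymm (closure_minimal (fun x hx => ?_) ?_) fun x hx => ?_
    · obtain ⟨h1, -, h3⟩ := NumRLib.cone_pos hX hB hH.1 hH hx
      exact ⟨h1.le, fun I hI hd hinv => (h3 ⟨I, hI, hd, hinv⟩).le⟩
    · refine (isClosed_le continuous_const (NumRLib.continuous_sq B)).inter ?_
      simp only [NumR.nefCone₂, Set.setOf_forall]
      exact isClosed_iInter fun I => isClosed_iInter fun _ => isClosed_iInter fun _ => isClosed_iInter fun hinv =>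
        isClosed_le continuous_const (NumRLib.continuous_B_left B _)
    · have hxC : ∀ C : NumR.Curve X, 0 ≤ B x (NumRLib.cc k C) := fun C => hx.2 C.1 C.2.1 C.2.2.1 C.2.2.2
      have hxh := NumRLib.B_ample_nonneg hX hB hH.1 hH hxC
      have hmem : ∀ n : ℕ, x + ((1 : ℝ) / (n + 1)) • NumR.clR k X H hH.1 ∈ (NumR.ampleCone k X : Set (NumR.N1R k X)) := fun n => by
        have hn : (0 : ℝ) < 1 / (n + 1) := by positivity
        refine NumRLib.mem_ampleCone_of_pos hX hB hproj ?_ fun C => ?_
        · rw [← one_smul ℝ x, NumRLib.expand B hs]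
          have h1 := mul_pos (pow_pos hn 2) hhh
          have h2 := mul_nonneg hn.le hxh
          linarith [hx.1]
        · simp only [map_add, map_smul, LinearMap.add_apply, LinearMap.smul_apply, smul_eq_mul]
          exact add_pos_of_nonneg_of_pos (hxC C) (mul_pos hn (hhC C))
      refine mem_closure_of_tendsto (b := Filter.atTop (α := ℕ)) ?_ (Filter.Eventually.of_forall hmem)
      have ht := (tendsto_one_div_add_atTop_nhds_zero_nat (𝕜 := ℝ)).smul_const (NumR.clR k X H hH.1)
      rw [zero_smul] at ht
      simpa using ht.const_add x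
  refine ⟨hcl, ?_⟩
  rw [hcl]
  ext x
  refine ⟨fun h => ⟨h.2.1, h.1.2⟩, fun h => ⟨⟨h.1.le, h.2⟩, h.1, ?_⟩⟩
  exact NumRLib.pos_against hX hB hH.1 hH h.1 fun C => h.2 C.1 C.2.1 C.2.2.1 C.2.2.2

end Groth.Agent.S19734
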