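import Groth.Statements.S19735
import Mathlib
import Groth.Agent.NumRLib.Config
import Groth.Agent.S19734
-- import your own Groth.Agent.* helpers here

set_option autoImplicit false
universe u
open CategoryTheory CategoryTheory.Limits AlgebraicGeometry TopologicalSpace
open Surf

namespace Groth.Agent.S19735

/-- Let k be an algebraically closed field of characteristic zero and X a smooth projective surface over
k (integral, proper and smooth over k, of dimension 2, with an ample invertible module); the notes
work over the complex numbers. Fix a group law on the Picard set of X, and let B be the intersection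
form on N¹(X)_ℝ = ℝ ⊗ (Pic X modulo numerical equivalence), the real bilinear form whose value on
the classes of invertible modules L, M is (L·M) = χ(O_X) − χ(L) − χ(M) + χ(L ⊗ M); assume N¹(X)_ℝ is
finite-dimensional. Let H be an ample invertible module, C₊ = {x : B(x, x) > 0, B(x, [H]) > 0} the
positive cone and Ā(X) the closure of the ample cone taken inside C₊ (the closure in N¹(X)_ℝ of the
cone spanned by ample classes, intersected with C₊). Let C_1, …, C_r be pairwise distinct integral
curves on X (quasi-coherent ideals I_i with integral closed subscheme of one-dimensional support and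
invertible ideal module) with walls W^{C_i} = {x : B(x, [C_i]) = 0}. Then Ā(X) ∩ W^{C_1} ∩ ⋯ ∩
W^{C_r} is non-empty if and only if the curves C_i generate a negative definite sublattice: Σ_{i,j}
a_i a_j (I_i·I_j) < 0 for every nonzero integer vector a, where (I_i·I_j) = χ(O_X) − χ(I_i) − χ(I_j)
+ χ(I_i ⊗ I_j). (The published statement adds that, when non-empty, this intersection is open in
W^{C_1} ∩ ⋯ ∩ W^{C_r}; that is not correct as published: on the plane blown up in two points, with
C_1 one exceptional curve, the class of a line lies in Ā(X) ∩ W^{C_1} but adding a small positive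
multiple of the other exceptional curve leaves Ā(X) while staying in W^{C_1}. What the argument
there yields is a non-empty open subset of the intersection of the walls contained in Ā(X), and that
clause is not restated.) -/
theorem result (k : Type u) [Field k] [IsAlgClosed k] [CharZero k]
    (X : Scheme.{u}) [X.Over (Spec (CommRingCat.of k))] [IsProper (X ↘ (Spec (CommRingCat.of k)))]
    [Smooth (X ↘ (Spec (CommRingCat.of k)))] [AlgebraicGeometry.IsIntegral X] (hdim : topologicalKrullDim X = 2)
    (hproj : ∃ H : X.Modules, CohB1.IsAmple H) [PicGrp.Law X] [Module.Finite ℝ (NumR.N1R k X)]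
    (B : NumR.N1R k X →ₗ[ℝ] NumR.N1R k X →ₗ[ℝ] ℝ) (hB : NumR.IsIntForm₂ k X B) (H : X.Modules) (hH : CohB1.IsAmple H)
    (r : ℕ) (C : Fin r → X.IdealSheafData) (hC : Function.Injective C)
    (hCi : ∀ i, AlgebraicGeometry.IsIntegral (C i).subscheme) (hCd : ∀ i, topologicalKrullDim ((C i).support : Set X) = 1)
    (hCinv : ∀ i, PicF.IsInvertible (ClSub.idealMod (C i))) :
    (∃ x : NumR.N1R k X, x ∈ closure (NumR.ampleCone k X : Set (NumR.N1R k X)) ∧ x ∈ NumR.posCone k X B H hH.1 ∧
        ∀ i, x ∈ NumR.wall k X B (C i) (hCinv i)) ↔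
      (∀ a : Fin r → ℤ, a ≠ 0 →
      ∑ i, ∑ j, a i * a j * FGA.intNum k X 2 ![(ClSub.idealMod (C i)), (ClSub.idealMod (C j))] (Coh.structureModule X) < 0) := by
  classical
  have hX : topologicalKrullDim X = ((2 : ℕ) : WithBot ℕ∞) := hdim
  obtain ⟨hcl, -⟩ := Groth.Agent.S19734.result k X hdim hproj B hB H hH
  obtain ⟨hhh, hidx⟩ := NumRLib.hodge hX hB hH.1 hH
  let K : Fin r → NumR.Curve X := fun i => ⟨C i, hCi i, hCd i, hCinv i⟩
  have hK : Function.Injective K := fun i j h => hC (congrArg Subtype.val h)
  constructor
  · rintro ⟨x, -, hx, hw⟩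
    intro a ha
    have horth : ∀ i, B x (NumRLib.cc k (K i)) = 0 := fun i => hw i
    have h1 := NumRLib.negDef_of_orth hB hX hH.1 hH hx.1 hK horth a ha
    simp only [NumRLib.gram, K] at h1
    exact h1
  · intro hneg
    have hneg' : ∀ a : Fin r → ℤ, a ≠ 0 → ∑ i, ∑ j, a i * a j * NumRLib.gram k K i j < 0 := hneg
    set h := NumR.clR k X H hH.1
    have hhC : ∀ D : NumR.Curve X, 0 < B h (NumRLib.cc k D) := (NumRLib.ample_pos hX hB hH.1 hH).2
    obtain ⟨s, hs0, hsol⟩ := NumRLib.exists_nonneg_solution (NumRLib.gram_symm hB hX K) hneg'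
      (fun i j hij => NumRLib.gram_nonneg hB hX hK hij) (fun i => B h (NumRLib.cc k (K i))) (fun i => (hhC (K i)).le)
    let x := h + ∑ i, s i • NumRLib.cc k (K i)
    have hsymm := NumRLib.B_symm hX hB
    have horth : ∀ i, B x (NumRLib.cc k (K i)) = 0 := fun i => by
      simp only [x, map_add, map_sum, map_smul, LinearMap.add_apply, LinearMap.sum_apply, LinearMap.smul_apply,
        smul_eq_mul]
      have h1 : ∑ j, s j * B (NumRLib.cc k (K j)) (NumRLib.cc k (K i)) = - B h (NumRLib.cc k (K i)) := by
        rw [← hsol i]
        refine Finset.sum_congr rfl fun j _ => ?_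
        rw [hsymm, NumRLib.B_cc_cc hB, mul_comm]
        rfl
      rw [h1, add_neg_cancel]
    have hxh : 0 < B x h := by
      simp only [x, map_add, map_sum, map_smul, LinearMap.add_apply, LinearMap.sum_apply, LinearMap.smul_apply,
        smul_eq_mul]
      refine add_pos_of_pos_of_nonneg hhh (Finset.sum_nonneg fun i _ => mul_nonneg (hs0 i) ?_)
      rw [hsymm]
      exact (hhC (K i)).le
    have hxx : 0 < B x x := by
      have h1 : B x x = B x h + ∑ i, s i * B x (NumRLib.cc k (K i)) := by
        conv_lhs => arg 2; simp only [x]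
        simp only [map_add, map_sum, map_smul, smul_eq_mul]
      rw [h1]
      simpa only [horth, mul_zero, Finset.sum_const_zero, add_zero] using hxh
    refine ⟨x, ?_, ⟨hxx, hxh⟩, fun i => horth i⟩
    rw [hcl]
    refine ⟨hxx.le, fun I hI hd hinv => ?_⟩
    change 0 ≤ B x (NumRLib.cc k ⟨I, hI, hd, hinv⟩)
    by_cases hi : ∃ i, K i = ⟨I, hI, hd, hinv⟩
    · obtain ⟨i, hi⟩ := hi
      rw [← hi, horth i]
    · push Not at hi
      simp only [x, map_add, map_sum, map_smul, LinearMap.add_apply, LinearMap.sum_apply, LinearMap.smul_apply,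
        smul_eq_mul]
      exact add_nonneg (hhC _).le (Finset.sum_nonneg fun i _ => mul_nonneg (hs0 i) (NumRLib.B_cc_nonneg hX hB (hi i)))

end Groth.Agent.S19735
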