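import Groth.Statements.S19740
import Mathlib
import Groth.Agent.NumRLib.Big
-- import your own Groth.Agent.* helpers here

set_option autoImplicit false
open CategoryTheory CategoryTheory.Limits AlgebraicGeometry
open PosLin

namespace Groth.Agent.S19740

/-- Let X be a projective variety over the complex numbers (an integral scheme, proper over ℂ, with an
ample invertible module), fix a group law on its Picard set and let N¹(X)_ℝ = ℝ ⊗ (Pic X modulo
numerical equivalence) with its topology as a finite-dimensional real vector space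
(finite-dimensionality is assumed here). Call an invertible module L big when every ample invertible
module A admits a monomorphism A → L^⊗m for some m > 0, let Big(X) ⊆ N¹(X)_ℝ be the convex cone
spanned by the classes of big invertible modules and Psef(X) the pseudo-effective cone, the closure
of the cone spanned by the classes of invertible modules with a nonzero global section. Then Big(X)
is the interior of Psef(X), and Psef(X) is the closure of Big(X). -/
theorem result (X : Scheme.{0}) [X.Over (Spec (CommRingCat.of ℂ))]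
    [AlgebraicGeometry.IsIntegral X] [IsProper (X ↘ Spec (CommRingCat.of ℂ))] (H : X.Modules) (hH : CohB1.IsAmple H)
    [PicGrp.Law X] [Module.Finite ℝ (NumR.N1R ℂ X)] :
    (NumR.coneOf ℂ X (fun L : X.Modules => ∀ A : X.Modules, CohB1.IsAmple A → ∃ (m : ℕ) (φ : A ⟶ CohB1.tensorPow L m), 0 < m ∧ Mono φ) : Set (NumR.N1R ℂ X)) = interior (NumR.psefCone ℂ X) ∧
      NumR.psefCone ℂ X = closure (NumR.coneOf ℂ X (fun L : X.Modules => ∀ A : X.Modules, CohB1.IsAmple A → ∃ (m : ℕ) (φ : A ⟶ CohB1.tensorPow L m), 0 < m ∧ Mono φ) : Set (NumR.N1R ℂ X)) := by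
  set K : Set (NumR.N1R ℂ X) := (NumRLib.bigCone ℂ (X := X) : Set (NumR.N1R ℂ X))
  set E : ConvexCone ℝ (NumR.N1R ℂ X) := NumR.effCone ℂ X
  set A : ConvexCone ℝ (NumR.N1R ℂ X) := NumR.ampleCone ℂ X
  have hAo : IsOpen (A : Set (NumR.N1R ℂ X)) := NumRLib.isOpen_ampleCone
  have hmem : ∀ x, x ∈ K ↔ ∃ a ∈ (A : Set (NumR.N1R ℂ X)), x - a ∈ (E : Set (NumR.N1R ℂ X)) := fun x =>
    NumRLib.mem_bigCone_iff hH x
  have hKo : IsOpen K := by
    have : K = ⋃ e ∈ (E : Set (NumR.N1R ℂ X)), (fun x => x + (-e)) ⁻¹' (A : Set (NumR.N1R ℂ X)) := by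
      ext x
      simp only [Set.mem_iUnion, Set.mem_preimage, hmem, ← sub_eq_add_neg]
      exact ⟨fun ⟨a, ha, he⟩ => ⟨x - a, he, by rwa [sub_sub_cancel]⟩,
        fun ⟨e, he, ha⟩ => ⟨x - e, ha, by rwa [sub_sub_cancel]⟩⟩
    rw [this]
    exact isOpen_biUnion fun e _ => hAo.preimage (continuous_id.add continuous_const)
  have hKE : K ⊆ NumR.psefCone ℂ X := fun x hx => by
    obtain ⟨a, ha, he⟩ := (hmem x).mp hx
    refine subset_closure ?_
    rw [← add_sub_cancel a x]
    exact E.add_mem (NumRLib.ampleCone_le_effCone ha) he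
  have hh : NumR.clR ℂ X H hH.1 ∈ (A : Set (NumR.N1R ℂ X)) := NumRLib.mem_ampleCone hH.1 hH
  refine ⟨Set.Subset.antisymm (interior_maximal hKE hKo) fun x hx => ?_, Set.Subset.antisymm
    (closure_minimal (fun e he => ?_) isClosed_closure) (closure_minimal hKE isClosed_closure)⟩
  · -- an interior point minus a small ample class is still pseudo-effective
    have hcont : Continuous fun t : ℝ => x + (-t) • NumR.clR ℂ X H hH.1 :=
      by fun_prop
    obtain ⟨η, hη, hball⟩ := Metric.isOpen_iff.mp (isOpen_interior.preimage hcont) 0 (by simpa using hx)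
    have hmem' := interior_subset (hball (show η / 2 ∈ Metric.ball (0 : ℝ) η by
      rw [Metric.mem_ball, Real.dist_eq, sub_zero, abs_of_pos (by positivity)]; linarith))
    have hU : IsOpen ((fun e => x + (-1 : ℝ) • e) ⁻¹' (A : Set (NumR.N1R ℂ X))) :=
      hAo.preimage (continuous_const.add (continuous_const_smul (-1 : ℝ)))
    obtain ⟨e, heA, heE⟩ := mem_closure_iff.mp hmem' _ hU (by
      change x + (-1 : ℝ) • (x + (-(η / 2)) • NumR.clR ℂ X H hH.1) ∈ A
      have := A.smul_mem (show (0 : ℝ) < η / 2 by positivity) hh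
      convert this using 1
      module)
    refine (hmem x).mpr ⟨x + (-1 : ℝ) • e, heA, ?_⟩
    convert heE using 1
    module
  · refine mem_closure_of_tendsto (b := Filter.atTop (α := ℕ))
      (f := fun n : ℕ => e + ((1 : ℝ) / (n + 1)) • NumR.clR ℂ X H hH.1) ?_ (Filter.Eventually.of_forall fun n => ?_)
    · have ht := (tendsto_one_div_add_atTop_nhds_zero_nat (𝕜 := ℝ)).smul_const (NumR.clR ℂ X H hH.1)
      rw [zero_smul] at ht
      simpa using ht.const_add e
    · refine (hmem _).mpr ⟨((1 : ℝ) / (n + 1)) • NumR.clR ℂ X H hH.1, A.smul_mem (by positivity) hh, ?_⟩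
      rw [add_sub_cancel_right]
      exact he

end Groth.Agent.S19740
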