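import Groth.Statements.S19745
import Groth.Agent.EdP1Lib.Std

set_option autoImplicit false
universe u
open CategoryTheory AlgebraicGeometry
open EssDim

namespace Groth.Agent.S19745

theorem edSt_eq_zero (k : Type u) [Field k] (n : ℕ) (hn : n ≤ 2) (hn0 : 0 < n)
    [FibCat.IsFibGrpd (CurvSt.Mgn (Spec (CommRingCat.of k)) 0 n).p] :
    EssDim.edSt (CurvSt.Mgn (Spec (CommRingCat.of k)) 0 n) = 0 := by
  let 𝒳 := CurvSt.Mgn (Spec (CommRingCat.of k)) 0 n
  have std : ∀ (K : Type u) [Field K] [Algebra k K], ∃ (x₀ : StkCnt.pts 𝒳 K), ∀ (L : Type u) [Field L] [Algebra k L]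
      (ρ : K →ₐ[k] L) (x : StkCnt.pts 𝒳 L), ∃ φ : x.1 ⟶ x₀.1, 𝒳.p.IsHomLift (resPt ρ) φ := by
    intro K _ _
    choose s hs hsz using fun i : Fin n => EdP1Lib.exists_std K (Fin.castLE hn i)
    let A : CurvSt.PtFamObj (Spec (CommRingCat.of k)) n :=
      { base := SGA7.pt (K := k) K, C := EdP1Lib.P1 K, f := CohB1.ProjSpace.toSpec 1 K, sect := s, sect_f := hs }
    refine ⟨⟨⟨A, EdP1Lib.isSmoothPtdFam_std hn s hsz⟩, rfl⟩, fun L _ _ ρ x => ?_⟩
    obtain ⟨⟨⟨B, C, f, σ, hσ⟩, hB⟩, hx⟩ := x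
    obtain rfl : B = SGA7.pt (K := k) L := hx
    obtain ⟨top, hcart, hw⟩ := EdP1Lib.exists_cart (K := K) (L := L) (ρ : K →+* L) hn hn0 s hs hsz f σ hσ hB
    let φ : (⟨⟨SGA7.pt (K := k) L, C, f, σ, hσ⟩, hB⟩ : 𝒳.obj) ⟶ ⟨A, EdP1Lib.isSmoothPtdFam_std hn s hsz⟩ :=
      ObjectProperty.homMk ⟨resPt ρ, top, hcart, hw⟩
    have hφ : 𝒳.p.IsHomLift (𝒳.p.map φ) φ := @IsHomLift.map _ _ _ _ 𝒳.p _ _ φ
    exact ⟨φ, hφ⟩
  refine le_antisymm ?_ ?_
  · refine iSup_le fun L => iSup_le fun _ => iSup_le fun _ => iSup_le fun ξ => ?_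
    induction ξ using Quot.ind with
    | mk x =>
      obtain ⟨x₀, hx₀⟩ := std (⊥ : IntermediateField k L)
      have hd : Descends (Gerb.isoClPsh 𝒳) (Quot.mk (Gerb.IsoRel 𝒳 (SGA7.pt (K := k) L)) x) ⊥ :=
        (descends_isoCl_iff 𝒳 x ⊥).2 ⟨x₀, hx₀ L (⊥ : IntermediateField k L).val x⟩
      refine le_trans (WithBot.coe_le_coe.2 (edAt_le_of_descends hd)) ?_
      haveI : Algebra.IsAlgebraic k (⊥ : IntermediateField k L) := Algebra.IsAlgebraic.of_finite k _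
      rw [trdeg_eq_zero, map_zero]
      rfl
  · obtain ⟨x₀, -⟩ := std k
    exact le_trans (WithBot.coe_le_coe.2 bot_le) (edAt_le_ed (P := Gerb.isoClPsh 𝒳) (L := k) (Quot.mk _ x₀))

open AlgebraicGeometry CategoryTheory in
/-- Over a field `k` of characteristic zero, the stack of smooth genus-`0` curves with one marked point
and the stack of smooth genus-`0` curves with two (distinct) marked points both have essential
dimension `0`. -/
theorem result (k : Type u) [Field k] [CharZero k]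
    [FibCat.IsFibGrpd (CurvSt.Mgn (Spec (CommRingCat.of k)) 0 1).p]
    [FibCat.IsFibGrpd (CurvSt.Mgn (Spec (CommRingCat.of k)) 0 2).p] :
    EssDim.edSt (CurvSt.Mgn (Spec (CommRingCat.of k)) 0 1) = 0 ∧
      EssDim.edSt (CurvSt.Mgn (Spec (CommRingCat.of k)) 0 2) = 0 :=
  ⟨edSt_eq_zero k 1 one_le_two one_pos, edSt_eq_zero k 2 le_rfl two_pos⟩

end Groth.Agent.S19745
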