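import Groth.Statements.S19746
import Groth.Agent.EdConicLib.Descend
import Groth.Agent.EdP1Lib.Std

set_option autoImplicit false
universe u
open EssDim

namespace Groth.Agent.S19746

open CategoryTheory AlgebraicGeometry in
theorem exists_conic_field (k : Type u) [Field k] [CharZero k]
    [FibCat.IsFibGrpd (CurvSt.Mgn (Spec (CommRingCat.of k)) 0 0).p] (L : Type u) [Field L] [Algebra k L]
    (x : StkCnt.pts (CurvSt.Mgn (Spec (CommRingCat.of k)) 0 0) L) :
    ∃ s : Finset L, s.card ≤ 2 ∧ EssDim.Descends (Gerb.isoClPsh (CurvSt.Mgn (Spec (CommRingCat.of k)) 0 0))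
      (Quot.mk (Gerb.IsoRel (CurvSt.Mgn (Spec (CommRingCat.of k)) 0 0) (SGA7.pt (K := k) L)) x)
      (IntermediateField.adjoin k (s : Set L)) := by
  classical
  obtain ⟨⟨⟨B, C, f, σ, hσ⟩, hB⟩, hx⟩ := x
  obtain rfl : B = SGA7.pt (K := k) L := hx
  letI : C.Over (Spec (CommRingCat.of L)) := ⟨f⟩
  have hC : ModFun.IsCurveOfGenus 0 (C ↘ Spec (CommRingCat.of L)) := hB.1
  haveI : CharZero L := charZero_of_injective_algebraMap (algebraMap k L).injective
  obtain ⟨a, b, hab⟩ := EdConicLib.exists_descent (L := L) two_ne_zero hC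
  refine ⟨{a, b}, Finset.card_le_two, ?_⟩
  let K := IntermediateField.adjoin k ((({a, b} : Finset L)) : Set L)
  obtain ⟨V, g, hg, top, hcart⟩ := hab K
    ⟨⟨a, IntermediateField.subset_adjoin k _ (by simp)⟩, rfl⟩ ⟨⟨b, IntermediateField.subset_adjoin k _ (by simp)⟩, rfl⟩
  let A : CurvSt.PtFamObj (Spec (CommRingCat.of k)) 0 :=
    { base := SGA7.pt (K := k) K, C := V, f := g, sect := fun i => i.elim0, sect_f := fun i => i.elim0 }
  have hA : CurvSt.IsSmoothPtdFam A.f A.sect 0 := ⟨hg, fun i => i.elim0⟩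
  refine (EssDim.descends_isoCl_iff (CurvSt.Mgn (Spec (CommRingCat.of k)) 0 0) _ K).2 ⟨⟨⟨A, hA⟩, rfl⟩, ?_⟩
  let φ : (⟨⟨SGA7.pt (K := k) L, C, f, σ, hσ⟩, hB⟩ : (CurvSt.Mgn (Spec (CommRingCat.of k)) 0 0).obj) ⟶ ⟨A, hA⟩ :=
    ObjectProperty.homMk ⟨EssDim.resPt K.val, top, hcart, fun i => i.elim0⟩
  have hφ : (CurvSt.Mgn (Spec (CommRingCat.of k)) 0 0).p.IsHomLift
      ((CurvSt.Mgn (Spec (CommRingCat.of k)) 0 0).p.map φ) φ := @IsHomLift.map _ _ _ _ _ _ _ φ
  exact ⟨φ, hφ⟩

open CategoryTheory AlgebraicGeometry in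
theorem exists_object (k : Type u) [Field k] :
    Nonempty (StkCnt.pts (CurvSt.Mgn (Spec (CommRingCat.of k)) 0 0) k) := by
  let A : CurvSt.PtFamObj (Spec (CommRingCat.of k)) 0 :=
    { base := SGA7.pt (K := k) k, C := EdP1Lib.P1 k, f := CohB1.ProjSpace.toSpec 1 k, sect := fun i => i.elim0,
      sect_f := fun i => i.elim0 }
  exact ⟨⟨⟨A, EdP1Lib.isCurveOfGenus_P1 k, fun i => i.elim0⟩, rfl⟩⟩

open CategoryTheory AlgebraicGeometry in
/-- Over a field `k` of characteristic zero the stack of smooth curves of genus `0` (no marked points)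
has an object over some field, and its essential dimension over `k` is at most `2`: every smooth
proper geometrically irreducible curve of genus `0` over a field `L ⊇ k` is obtained by base change
from a curve over a subfield of `L` of transcendence degree at most `2` over `k`. (The source
asserts that this essential dimension equals `2`; the reverse inequality is only indicated there,
and this row states non-emptiness and the upper bound.) -/
theorem result (k : Type u) [Field k] [CharZero k]
    [FibCat.IsFibGrpd (CurvSt.Mgn (Spec (CommRingCat.of k)) 0 0).p] :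
    EssDim.edSt (CurvSt.Mgn (Spec (CommRingCat.of k)) 0 0) ≠ ⊥ ∧
      EssDim.edSt (CurvSt.Mgn (Spec (CommRingCat.of k)) 0 0) ≤ ((2 : ℕ) : WithBot ℕ∞) := by
  let 𝒳 := CurvSt.Mgn (Spec (CommRingCat.of k)) 0 0
  obtain ⟨x₀⟩ := exists_object k
  refine ⟨fun h => ?_, ?_⟩
  · have := le_trans (EssDim.edAt_le_ed (P := Gerb.isoClPsh 𝒳) (L := k) (Quot.mk _ x₀)) h.le
    exact WithBot.coe_ne_bot (le_bot_iff.mp this)
  · refine iSup_le fun L => iSup_le fun _ => iSup_le fun _ => iSup_le fun ξ => ?_
    induction ξ using Quot.ind with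
    | mk x =>
      obtain ⟨s, hs, hd⟩ := exists_conic_field k L x
      refine le_trans (WithBot.coe_le_coe.2 (EssDim.edAt_le_of_descends hd)) (WithBot.coe_le_coe.2 ?_)
      let K := IntermediateField.adjoin k (s : Set L)
      let t : Set K := Subtype.val ⁻¹' (s : Set L)
      have htop : IntermediateField.adjoin k t = ⊤ := by
        apply IntermediateField.map_injective K.val
        rw [IntermediateField.adjoin_map, ← AlgHom.fieldRange_eq_map, IntermediateField.fieldRange_val]
        congr 1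
        exact Set.image_preimage_eq_of_subset (fun l hl => ⟨⟨l, IntermediateField.subset_adjoin k _ hl⟩, rfl⟩)
      haveI : Algebra.IsAlgebraic (Algebra.adjoin k t) K := ⟨fun z => by
        obtain ⟨r, hr, q, hq, rfl⟩ := IntermediateField.mem_adjoin_iff_div.mp (htop.ge (IntermediateField.mem_top (x := z)))
        rw [div_eq_mul_inv]
        exact (isAlgebraic_algebraMap (⟨r, hr⟩ : Algebra.adjoin k t)).mul
          (isAlgebraic_algebraMap (⟨q, hq⟩ : Algebra.adjoin k t)).inv⟩
      have hle : Algebra.trdeg k K ≤ ((2 : ℕ) : Cardinal) := by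
        refine (Algebra.IsAlgebraic.trdeg_le_cardinalMk (R := k) (A := K) (s := t)).trans ?_
        refine (Cardinal.mk_preimage_of_injective _ _ Subtype.val_injective).trans ?_
        refine le_trans (le_of_eq (Cardinal.mk_coe_finset (s := s))) ?_
        exact_mod_cast hs
      exact (Cardinal.toENat.monotone' hle).trans_eq (Cardinal.toENat_nat 2)

end Groth.Agent.S19746
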