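import Groth.Statements.S19748
import Groth.Agent.SegreLib.Finite
-- import your own Groth.Agent.* helpers here

set_option autoImplicit false
universe u
open scoped TensorProduct
open GrSegre

namespace Groth.Agent.S19748

/-- Let R and S be graded rings defined over a field k with Segre product T = R # S, M a graded R-module
and N a graded S-module. Suppose that multiplication by some homogeneous element f ∈ R_d of positive
degree d is bijective on M and multiplication by some homogeneous g ∈ S_e of positive degree e is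
bijective on N. Then multiplication by some homogeneous element of T of positive degree is bijective
on M # N. Here a graded ring defined over k is a commutative k-algebra of finite type, graded in
nonnegative degrees by k-subspaces with degree-zero part k·1; the Segre product T = R # S = ⊕_n R_n
⊗_k S_n is presented abstractly as a graded k-algebra T with an injective k-algebra homomorphism ψ :
T → R ⊗_k S carrying T_n onto the k-span of the elementary tensors a ⊗ b with a ∈ R_n, b ∈ S_n; the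
Segre product M # N = ⊕_n M_n ⊗_k N_n of a graded R-module M and a graded S-module N is presented
abstractly as a graded T-module P with an injective k-linear map φ : P → M ⊗_k N carrying P_n onto
the k-span of the tensors x ⊗ y with x ∈ M_n, y ∈ N_n and turning the action of t ∈ T into that of
ψ(t) (acting factorwise on M ⊗_k N). -/
theorem result (k : Type u) [Field k] (R : Type u) [CommRing R] [Algebra k R] (𝒜 : ℤ → Submodule k R) [GradedAlgebra 𝒜] (hposR : ∀ n : ℤ, n < 0 → 𝒜 n = ⊥) (h0R : 𝒜 0 = Submodule.span k {(1 : R)}) [Algebra.FiniteType k R] (S : Type u) [CommRing S] [Algebra k S] (ℬ : ℤ → Submodule k S) [GradedAlgebra ℬ] (hposS : ∀ n : ℤ, n < 0 → ℬ n = ⊥) (h0S : ℬ 0 = Submodule.span k {(1 : S)}) [Algebra.FiniteType k S] (T : Type u) [CommRing T] [Algebra k T] (𝒯 : ℤ → Submodule k T) [GradedAlgebra 𝒯] (ψ : T →ₐ[k] TensorProduct k R S) (hT : GrSeg.IsSegreRing 𝒜 ℬ 𝒯 ψ) (M : Type u) [AddCommGroup M] [Module R M] [Module k M] [IsScalarTower k R M] (ℳ : ℤ → AddSubgroup M) [DirectSum.Decomposition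 ℳ] [SetLike.GradedSMul 𝒜 ℳ] (N : Type u) [AddCommGroup N] [Module S N] [Module k N] [IsScalarTower k S N] (𝒩 : ℤ → AddSubgroup N) [DirectSum.Decomposition 𝒩] [SetLike.GradedSMul ℬ 𝒩] (P : Type u) [AddCommGroup P] [Module T P] [Module k P] [IsScalarTower k T P] (𝒬 : ℤ → AddSubgroup P) [DirectSum.Decomposition 𝒬] (φ : P →ₗ[k] TensorProduct k M N) (hP : GrSeg.IsSegreMod ψ ℳ 𝒩 𝒬 φ) (d : ℕ) (hd : 0 < d) (f : R) (hf : f ∈ 𝒜 (d : ℤ)) (hfM : Function.Bijective (fun x : M => f • x)) (e : ℕ) (he : 0 < e) (g : S) (hg : g ∈ ℬ (e : ℤ)) (hgN : Function.Bijective (fun y : N => g • y)) : ∃ (c : ℤ) (t : T), 0 < c ∧ t ∈ 𝒯 c ∧ Function.Bijective (fun p : P => t • p) := by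
  have hfe : f ^ e ∈ 𝒜 ((d * e : ℕ) : ℤ) := by
    have := SetLike.pow_mem_graded e hf
    convert this using 2
    push_cast; simp [nsmul_eq_mul, mul_comm]
  have hgd : g ^ d ∈ ℬ ((d * e : ℕ) : ℤ) := by
    have := SetLike.pow_mem_graded d hg
    convert this using 2
    push_cast; simp [nsmul_eq_mul]
  obtain ⟨t, ht, hψt⟩ : (f ^ e) ⊗ₜ[k] (g ^ d) ∈ (𝒯 ((d * e : ℕ) : ℤ)).map ψ.toLinearMap := by
    rw [hT.2]; exact Submodule.subset_span ⟨_, hfe, _, hgd, rfl⟩
  replace hψt : ψ t = (f ^ e) ⊗ₜ[k] (g ^ d) := hψt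
  have hdiag : ψ t ∈ SegreLib.diagPart (k := k) 𝒜 ℬ := hψt ▸ SegreLib.tmul_mem_diagPart 𝒜 ℬ hfe hgd
  refine ⟨((d * e : ℕ) : ℤ), t, by exact_mod_cast Nat.mul_pos hd he, ht, ?_⟩
  have hpowM : Function.Bijective (fun x : M => (f ^ e) • x) := by
    have h := hfM.iterate e
    rwa [smul_iterate] at h
  have hpowN : Function.Bijective (fun y : N => (g ^ d) • y) := by
    have h := hgN.iterate d
    rwa [smul_iterate] at h
  let eM : M ≃ₗ[k] M := LinearEquiv.ofBijective ((Algebra.lsmul k k M) (f ^ e)) hpowM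
  let eN : N ≃ₗ[k] N := LinearEquiv.ofBijective ((Algebra.lsmul k k N) (g ^ d)) hpowN
  have hact : ∀ x, GrSeg.act k R S M N (ψ t) x = TensorProduct.congr eM eN x := by
    intro x
    rw [hψt]
    induction x using TensorProduct.induction_on with
    | zero => simp
    | add a b ha hb => rw [map_add, map_add, ha, hb]
    | tmul a b => rw [GrSeg.act_tmul, TensorProduct.congr_tmul]; rfl
  have hrφ := SegreLib.range_eq_diagPart ℳ 𝒩 𝒬 φ hP.image_piece
  refine ⟨fun p q h => hP.injective ((TensorProduct.congr eM eN).injective ?_), fun p => ?_⟩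
  · have h' : φ (t • p) = φ (t • q) := congrArg φ h
    rwa [hP.map_smul, hP.map_smul, hact, hact] at h'
  · obtain ⟨z, hz⟩ := (TensorProduct.congr eM eN).surjective (φ p)
    rw [← hact] at hz
    obtain ⟨q, hq⟩ : SegreLib.diagMod 𝒜 ℬ ℳ 𝒩 z ∈ LinearMap.range φ := hrφ ▸ SegreLib.diag_mem _ _ _ _ _
    refine ⟨q, hP.injective ?_⟩
    show φ (t • q) = φ p
    rw [hP.map_smul, hq, ← SegreLib.diag_act_of_mem_left 𝒜 ℬ ℳ 𝒩 hdiag, hz]
    exact SegreLib.diag_of_mem _ _ _ _ (hrφ ▸ LinearMap.mem_range_self φ p)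

end Groth.Agent.S19748
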