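import Groth.Statements.S19750
import Groth.Agent.SegreLib.Standard
-- import your own Groth.Agent.* helpers here

set_option autoImplicit false
universe u
open scoped TensorProduct
open GrSegre

namespace Groth.Agent.S19750

/-- Let R and S be graded rings defined over a field k, both generated over k by their degree-one parts
and of positive Krull dimension, T = R # S with irrelevant ideal T_+, and let a ≥ b be integers.
Then the number of generators ν_T(R(a) # S(b)) = dim_k (R(a) # S(b)) / T_+ (R(a) # S(b)) equals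
dim_k R_{a−b}. Here a graded ring defined over k is a commutative k-algebra of finite type, graded
in nonnegative degrees by k-subspaces with degree-zero part k·1; the Segre product T = R # S = ⊕_n
R_n ⊗_k S_n is presented abstractly as a graded k-algebra T with an injective k-algebra homomorphism
ψ : T → R ⊗_k S carrying T_n onto the k-span of the elementary tensors a ⊗ b with a ∈ R_n, b ∈ S_n;
the Segre product R(a) # S(b) = ⊕_n R_{n+a} ⊗_k S_{n+b} of the shifted modules is presented
abstractly as a graded T-module P with an injective k-linear map φ : P → R ⊗_k S carrying P_n onto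
the k-span of the tensors x ⊗ y with x ∈ R_{n+a}, y ∈ S_{n+b} and turning the action of t ∈ T into
that of ψ(t); T_+ is the ideal spanned by the T_n with n > 0. -/
theorem result (k : Type u) [Field k] (R : Type u) [CommRing R] [Algebra k R] (𝒜 : ℤ → Submodule k R) [GradedAlgebra 𝒜] (hposR : ∀ n : ℤ, n < 0 → 𝒜 n = ⊥) (h0R : 𝒜 0 = Submodule.span k {(1 : R)}) [Algebra.FiniteType k R] (S : Type u) [CommRing S] [Algebra k S] (ℬ : ℤ → Submodule k S) [GradedAlgebra ℬ] (hposS : ∀ n : ℤ, n < 0 → ℬ n = ⊥) (h0S : ℬ 0 = Submodule.span k {(1 : S)}) [Algebra.FiniteType k S] (T : Type u) [CommRing T] [Algebra k T] (𝒯 : ℤ → Submodule k T) [GradedAlgebra 𝒯] (ψ : T →ₐ[k] TensorProduct k R S) (hT : GrSeg.IsSegreRing 𝒜 ℬ 𝒯 ψ) (hstdR : Ideal.span (⋃ n ∈ Set.Ioi (0 : ℤ), (𝒜 n : Set R)) = Ideal.span ((𝒜 1 : Submodule k R) : Set R)) (hstdS : Ideal.span (⋃ n ∈ Set.Ioi (0 : ℤ), (ℬ n : Set S)) = Ideal.span ((ℬ 1 : Submodule k S) : Set S)) (hr1 : 1 ≤ ringKrullDim R) (hs1 : 1 ≤ ringKrullDim S) (mT : HomogeneousIdeal 𝒯) (hmT : mT.toIdeal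 = Ideal.span (⋃ n ∈ Set.Ioi (0 : ℤ), (𝒯 n : Set T))) (a b : ℤ) (hab : b ≤ a) (P : Type u) [AddCommGroup P] [Module T P] [Module k P] [IsScalarTower k T P] (𝒬 : ℤ → AddSubgroup P) [DirectSum.Decomposition 𝒬] (φ : P →ₗ[k] TensorProduct k R S) (hP : GrSeg.IsSegreMod ψ (fun n : ℤ => 𝒜 (n + a)) (fun n : ℤ => ℬ (n + b)) 𝒬 φ) : Module.finrank k (P ⧸ (mT.toIdeal • (⊤ : Submodule T P))) = Module.finrank k (𝒜 (a - b)) := by
  classical
  haveI : Nontrivial S := not_subsingleton_iff_nontrivial.1 fun _ => by
    rw [ringKrullDim_eq_bot_of_subsingleton] at hs1; simp at hs1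
  obtain ⟨ε, hε1, hε⟩ := SegreLib.exists_functional_one ℬ h0S
  have hAB : ∀ n : ℤ, φ '' (𝒬 n : Set P) = (GrSeg.segrePiece k (fun n : ℤ => 𝒜 (n + a)) (fun n : ℤ => ℬ (n + b)) n : Set _) :=
    hP.image_piece
  let pr := SegreLib.proj 𝒜 (fun c n _ h => (𝒜 n).smul_mem c h) (a - b)
  obtain ⟨L₀, hL₀⟩ : ∃ L₀ : TensorProduct k R S →ₗ[k] 𝒜 (a - b),
      ∀ r s, ((L₀ (r ⊗ₜ s) : 𝒜 (a - b)) : R) = ε s • pr r := by
    refine ⟨(LinearMap.codRestrict (𝒜 (a - b)) pr (fun r => SegreLib.proj_mem 𝒜 _ _ r)).comp
      ((TensorProduct.rid k R).toLinearMap.comp (TensorProduct.map LinearMap.id ε)), fun r s => ?_⟩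
    simp
  obtain ⟨L, hL⟩ : ∃ L : P →ₗ[k] 𝒜 (a - b), ∀ q, L q = L₀ (φ q) := ⟨L₀.comp φ, fun q => rfl⟩
  have hsurj : Function.Surjective L := fun r => by
    have hm : (r : R) ⊗ₜ[k] (1 : S) ∈ φ '' (𝒬 (-b) : Set P) := by
      rw [hAB]
      exact Submodule.subset_span ⟨r, by simpa [sub_eq_add_neg, add_comm] using r.2, 1,
        by simpa using (SetLike.GradedOne.one_mem : (1 : S) ∈ ℬ 0), rfl⟩
    obtain ⟨q, -, hq⟩ := hm
    refine ⟨q, Subtype.ext ?_⟩
    rw [hL]
    rw [hq, hL₀, hε1, one_smul]
    exact (SegreLib.proj_of_mem 𝒜 _ r.2 _).trans (if_pos rfl)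
  let MT : Submodule k P := (mT.toIdeal • (⊤ : Submodule T P)).restrictScalars k
  -- pieces above the lowest one
  have habove : ∀ m : ℤ, -b < m → GrSeg.segrePiece k (fun n : ℤ => 𝒜 (n + a)) (fun n : ℤ => ℬ (n + b)) m ≤ MT.map φ := by
    intro m hm
    refine Submodule.span_le.2 ?_
    rintro _ ⟨α, hα, β, hβ, rfl⟩
    have h1 := SegreLib.mem_span_linear 𝒜 hstdR (m := m + a) (by omega) hα
    have h2 := SegreLib.mem_span_linear ℬ hstdS (m := m + b) (by omega) hβ
    clear hα hβ
    induction h1 using Submodule.span_induction with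
    | zero => rw [TensorProduct.zero_tmul]; exact Submodule.zero_mem _
    | add x y _ _ hx hy => rw [TensorProduct.add_tmul]; exact Submodule.add_mem _ hx hy
    | smul c x _ hx => rw [← TensorProduct.smul_tmul']; exact Submodule.smul_mem _ _ hx
    | mem x hx =>
      induction h2 using Submodule.span_induction with
      | zero => rw [TensorProduct.tmul_zero]; exact Submodule.zero_mem _
      | add x y _ _ hx hy => rw [TensorProduct.tmul_add]; exact Submodule.add_mem _ hx hy
      | smul c x _ hx => rw [TensorProduct.tmul_smul]; exact Submodule.smul_mem _ _ hx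
      | mem y hy =>
        obtain ⟨u, hu, v, hv, rfl⟩ := hx
        obtain ⟨u', hu', v', hv', rfl⟩ := hy
        obtain ⟨t, ht, hψt⟩ : u ⊗ₜ[k] u' ∈ (𝒯 1).map ψ.toLinearMap := by
          rw [hT.2]; exact Submodule.subset_span ⟨u, hu, u', hu', rfl⟩
        obtain ⟨q, -, hq⟩ : v ⊗ₜ[k] v' ∈ φ '' (𝒬 (m - 1) : Set P) := by
          rw [hAB]
          exact Submodule.subset_span ⟨v, by simpa [sub_add_eq_add_sub] using hv, v',
            by simpa [sub_add_eq_add_sub] using hv', rfl⟩
        refine ⟨t • q, Submodule.smul_mem_smul ?_ Submodule.mem_top, ?_⟩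
        · rw [hmT]; exact Ideal.subset_span (Set.mem_iUnion₂.2 ⟨1, Set.mem_Ioi.2 (one_pos : (0 : ℤ) < 1), ht⟩)
        · rw [hP.map_smul, hq, show ψ t = _ from hψt, GrSeg.act_tmul, smul_eq_mul, smul_eq_mul]
  -- the Segre pieces are killed by the functional above the lowest one
  have hzero : ∀ (i : ℤ), i ≠ -b → ∀ x ∈ GrSeg.segrePiece k (fun n : ℤ => 𝒜 (n + a)) (fun n : ℤ => ℬ (n + b)) i,
      L₀ x = 0 := by
    intro i hi x hx
    refine (Submodule.span_le (p := LinearMap.ker L₀)).2 ?_ hx
    rintro _ ⟨α, hα, β, hβ, rfl⟩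
    rw [SetLike.mem_coe, LinearMap.mem_ker]
    refine Subtype.ext ?_
    rw [hL₀, (hε (i + b) β hβ).1 (by omega), zero_smul]
    rfl
  have key : ∀ t ∈ Ideal.span (⋃ n ∈ Set.Ioi (0 : ℤ), (𝒯 n : Set T)), ∀ x : P, L (t • x) = 0 := by
    intro t ht
    induction ht using Submodule.span_induction with
    | zero => intro x; rw [zero_smul, map_zero]
    | add u v _ _ hu hv => intro x; rw [add_smul, map_add, hu, hv, add_zero]
    | smul s u _ hu => intro x; rw [smul_eq_mul, mul_comm, mul_smul]; exact hu _
    | mem u hu =>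
      intro x
      obtain ⟨i, hi, hui⟩ := Set.mem_iUnion₂.1 hu
      induction x using DirectSum.Decomposition.inductionOn 𝒬 with
      | zero => rw [smul_zero, map_zero]
      | add x y hx hy => rw [smul_add, map_add, hx, hy, add_zero]
      | @homogeneous j x =>
        rw [hL, hP.map_smul]
        have hu' : ψ u ∈ GrSeg.segrePiece k 𝒜 ℬ i := by rw [← hT.2]; exact ⟨u, hui, rfl⟩
        have hx' : φ (x : P) ∈ GrSeg.segrePiece k (fun n : ℤ => 𝒜 (n + a)) (fun n : ℤ => ℬ (n + b)) j := by
          rw [← SetLike.mem_coe, ← hAB]; exact ⟨x, x.2, rfl⟩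
        revert hu' hx'
        generalize ψ u = w
        generalize φ (x : P) = v
        intro hu' hx'
        induction hu' using Submodule.span_induction with
        | zero => simp
        | add u v _ _ hu hv => rw [map_add, LinearMap.add_apply, map_add, hu, hv, add_zero]
        | smul c u _ hu => rw [map_smul, LinearMap.smul_apply, map_smul, hu, smul_zero]
        | mem e he =>
          obtain ⟨α, hα, β, hβ, rfl⟩ := he
          induction hx' using Submodule.span_induction with
          | zero => simp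
          | add u v _ _ hu hv => rw [map_add, map_add, hu, hv, add_zero]
          | smul c u _ hu => rw [map_smul, map_smul, hu, smul_zero]
          | mem f hf =>
            obtain ⟨α', hα', β', hβ', rfl⟩ := hf
            rw [GrSeg.act_tmul, smul_eq_mul, smul_eq_mul]
            refine Subtype.ext ?_
            rw [hL₀]
            by_cases hj : j + b < 0
            · replace hβ' : β' ∈ ℬ (j + b) := hβ'
              rw [hposS _ hj, Submodule.mem_bot] at hβ'
              simp [hβ']
            · rw [(hε _ _ (SetLike.mul_mem_graded hβ hβ')).1 (by have : (0:ℤ) < i := hi; omega), zero_smul]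
              rfl
  have hM : ∀ y ∈ MT, L y = 0 := by
    intro y hy
    have hy' : y ∈ mT.toIdeal • (⊤ : Submodule T P) := hy
    clear hy
    exact Submodule.smul_induction_on (p := fun y => L y = 0) hy'
      (fun t ht x _ => key t (hmT ▸ ht) x) (fun x y hx hy => by rw [map_add, hx, hy, add_zero])
  have hker : LinearMap.ker L = MT := by
    refine le_antisymm (fun q hq => ?_) ?_
    · have hgood : ∀ q : P, q - (DirectSum.decompose 𝒬 q (-b) : P) ∈ MT := by
        intro q
        induction q using DirectSum.Decomposition.inductionOn 𝒬 with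
        | zero => simp
        | add x y hx hy =>
          rw [DirectSum.decompose_add, DirectSum.add_apply, AddMemClass.coe_add, add_sub_add_comm]
          exact Submodule.add_mem _ hx hy
        | @homogeneous i x =>
          by_cases hi : i = -b
          · subst hi; rw [DirectSum.decompose_of_mem_same 𝒬 x.2, sub_self]; exact Submodule.zero_mem _
          rw [DirectSum.decompose_of_mem_ne 𝒬 x.2 hi, sub_zero]
          rcases lt_or_gt_of_ne hi with h | h
          · have hx0 : φ x ∈ GrSeg.segrePiece k (fun n : ℤ => 𝒜 (n + a)) (fun n : ℤ => ℬ (n + b)) i := by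
              rw [← SetLike.mem_coe, ← hAB]; exact ⟨x, x.2, rfl⟩
            have hb0 : GrSeg.segrePiece k (fun n : ℤ => 𝒜 (n + a)) (fun n : ℤ => ℬ (n + b)) i = ⊥ := by
              rw [GrSeg.segrePiece, Submodule.span_eq_bot]
              rintro _ ⟨α, -, β, hβ, rfl⟩
              rw [hposS (i + b) (by omega), Submodule.mem_bot] at hβ
              rw [hβ, TensorProduct.tmul_zero]
            rw [hb0, Submodule.mem_bot] at hx0
            rw [hP.injective (hx0.trans (map_zero φ).symm)]
            exact Submodule.zero_mem _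
          · obtain ⟨y, hy, hyx⟩ := habove i h (show φ x ∈ _ by rw [← SetLike.mem_coe, ← hAB]; exact ⟨x, x.2, rfl⟩)
            rw [← hP.injective hyx]; exact hy
      set q₀ : P := (DirectSum.decompose 𝒬 q (-b) : P) with hq₀
      suffices hz : q₀ = 0 by have h5 := hgood q; rwa [← hq₀, hz, sub_zero] at h5
      have h1 : L q₀ = 0 := by
        have := hM _ (hgood q)
        rw [map_sub, LinearMap.mem_ker.1 hq, zero_sub, neg_eq_zero] at this
        exact this
      have h2 : φ q₀ ∈ GrSeg.segrePiece k (fun n : ℤ => 𝒜 (n + a)) (fun n : ℤ => ℬ (n + b)) (-b) := by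
        rw [← SetLike.mem_coe, ← hAB]; exact ⟨q₀, SetLike.coe_mem _, rfl⟩
      have h3 : ∀ x ∈ GrSeg.segrePiece k (fun n : ℤ => 𝒜 (n + a)) (fun n : ℤ => ℬ (n + b)) (-b),
          x = ((L₀ x : 𝒜 (a - b)) : R) ⊗ₜ[k] (1 : S) := by
        intro x hx
        induction hx using Submodule.span_induction with
        | zero => simp
        | add x y _ _ hx hy => rw [map_add, Submodule.coe_add, TensorProduct.add_tmul, ← hx, ← hy]
        | smul c x _ hx => rw [map_smul, Submodule.coe_smul, ← TensorProduct.smul_tmul', ← hx]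
        | mem x hx =>
          obtain ⟨α, hα, β, hβ, rfl⟩ := hx
          have hβ' := (hε (-b + b) β hβ).2 (by omega)
          have hα' : α ∈ 𝒜 (a - b) := by simpa [sub_eq_add_neg, add_comm] using hα
          rw [hL₀, show pr α = α from (SegreLib.proj_of_mem 𝒜 _ hα' _).trans (if_pos rfl),
            TensorProduct.smul_tmul, ← hβ']
      refine hP.injective ?_
      rw [h3 _ h2, show L₀ (φ q₀) = 0 from (hL q₀).symm.trans h1, map_zero, ZeroMemClass.coe_zero, TensorProduct.zero_tmul]
    · intro y hy
      exact LinearMap.mem_ker.2 (hM y hy)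
  rw [show Module.finrank k (P ⧸ (mT.toIdeal • (⊤ : Submodule T P))) = Module.finrank k (P ⧸ LinearMap.ker L) from ?_]
  · exact (LinearMap.quotKerEquivOfSurjective L hsurj).finrank_eq
  · rw [hker]
    exact (Submodule.Quotient.restrictScalarsEquiv k (mT.toIdeal • (⊤ : Submodule T P))).symm.finrank_eq

end Groth.Agent.S19750
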