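import Groth.Statements.S19751
import Mathlib
import Groth.Agent.GDualLib.Chain
-- import your own Groth.Agent.* helpers here

set_option autoImplicit false
universe u
open GrDual

namespace Groth.Agent.S19751

/-- Let R be a graded ring defined over a field k with m = R_+, let F and M be finitely generated graded
R-modules and f : F → M a surjective homomorphism of graded R-modules, with dual f^* : M^* → F^* on
graded k-duals. Then f is minimal, that is Ker f ⊆ m F, if and only if f^* is essential: an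
injective homomorphism of graded modules such that every nonzero graded submodule of F^* meets its
image. Here a graded ring defined over k is a commutative k-algebra of finite type, graded in
nonnegative degrees by k-subspaces with degree-zero part k·1, and R_+ is the ideal spanned by the
R_n with n > 0; the graded k-dual M^* = ⊕_n Hom_k(M_{−n}, k) of a graded R-module M (with r ∈ R
acting by (r f)(x) = f(r x)) is presented abstractly as a graded R-module D with a k-bilinear
pairing β : D × M → k compatible with the R-actions, under which D_n pairs to zero with M_m for m ≠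
−n and is identified with the full dual space of M_{−n}; f^* is presented as the R-linear map g :
M^* → F^* with β_F(g d, x) = β_M(d, f x). -/
theorem result (k : Type u) [Field k] (R : Type u) [CommRing R] [Algebra k R] (𝒜 : ℤ → Submodule k R) [GradedAlgebra 𝒜] (hposR : ∀ n : ℤ, n < 0 → 𝒜 n = ⊥) (h0R : 𝒜 0 = Submodule.span k {(1 : R)}) [Algebra.FiniteType k R] (mR : HomogeneousIdeal 𝒜) (hmR : mR.toIdeal = Ideal.span (⋃ n ∈ Set.Ioi (0 : ℤ), (𝒜 n : Set R))) (F : Type u) [AddCommGroup F] [Module R F] [Module k F] [IsScalarTower k R F] (ℱ : ℤ → AddSubgroup F) [DirectSum.Decomposition ℱ] [SetLike.GradedSMul 𝒜 ℱ] [Module.Finite R F] (M : Type u) [AddCommGroup M] [Module R M] [Module k M] [IsScalarTower k R M] (ℳ : ℤ → AddSubgroup M) [DirectSum.Decomposition ℳ] [SetLike.GradedSMul 𝒜 ℳ] [Module.Finite R M] (f : F →ₗ[R] M) (hf : Function.Surjective f) (hfgr : GrLC.IsGrHom ℱ ℳ f) (DM : Type u) [AddCommGroup DM] [Module R DM] [Module k DM] [IsScalarTower k R DM] (𝒟M : ℤ → AddSubgroup DM) [DirectSum.Decomposition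 𝒟M] [SetLike.GradedSMul 𝒜 𝒟M] (βM : DM →ₗ[k] M →ₗ[k] k) (hDM : GrSeg.IsGDual R ℳ 𝒟M βM) (DF : Type u) [AddCommGroup DF] [Module R DF] [Module k DF] [IsScalarTower k R DF] (𝒟F : ℤ → AddSubgroup DF) [DirectSum.Decomposition 𝒟F] [SetLike.GradedSMul 𝒜 𝒟F] (βF : DF →ₗ[k] F →ₗ[k] k) (hDF : GrSeg.IsGDual R ℱ 𝒟F βF) (g : DM →ₗ[R] DF) (hg : GrSeg.IsGDualMap βM βF f g) : LinearMap.ker f ≤ mR.toIdeal • (⊤ : Submodule R F) ↔ GrLC.IsStarEss 𝒟M 𝒟F g := by
  classical
  have hfk : ∀ n x, x ∈ ℱ n → f x ∈ ℳ n := hfgr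
  have hprkf : ∀ n x, f (Groth.Agent.GDualLib.prk 𝒜 ℱ n x) = Groth.Agent.GDualLib.prk 𝒜 ℳ n (f x) := fun n x => by
    refine LinearMap.congr_fun (Groth.Agent.GDualLib.hom_ext ℱ (f := (f.restrictScalars k).comp (Groth.Agent.GDualLib.prk 𝒜 ℱ n))
      (f' := (Groth.Agent.GDualLib.prk 𝒜 ℳ n).comp (f.restrictScalars k)) fun j y hy => ?_) x
    simp only [LinearMap.comp_apply, LinearMap.coe_restrictScalars]
    rcases eq_or_ne j n with rfl | hj
    · rw [Groth.Agent.GDualLib.prk_self hy, Groth.Agent.GDualLib.prk_self (hfk j y hy)]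
    · rw [Groth.Agent.GDualLib.prk_ne hy hj, Groth.Agent.GDualLib.prk_ne (hfk j y hy) hj, map_zero]
  have hggr : GrLC.IsGrHom 𝒟M 𝒟F g := fun n d hd => by
    rw [show g d = Groth.Agent.GDualLib.prk 𝒜 𝒟F n (g d) from ?_]
    · exact Groth.Agent.GDualLib.prk_mem n _
    refine Groth.Agent.GDualLib.β_injective (𝒜 := 𝒜) hDF (Groth.Agent.GDualLib.hom_ext ℱ fun m x hx => ?_)
    rcases eq_or_ne m (-n) with rfl | hm
    · exact (Groth.Agent.GDualLib.β_prk hDF hx (g d)).symm
    · rw [hDF.vanish n _ (Groth.Agent.GDualLib.prk_mem n _) m hm x hx, hg, hDM.vanish n d hd m hm _ (hfk m x hx)]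
  have hginj : Function.Injective g := fun d d' h => Groth.Agent.GDualLib.β_injective (𝒜 := 𝒜) hDM (LinearMap.ext fun y => by
    obtain ⟨x, rfl⟩ := hf y
    rw [← hg, ← hg, h])
  -- the range of the dual map
  have hrange : ∀ n e, e ∈ 𝒟F n → (∀ x, f x = 0 → βF e x = 0) → e ∈ LinearMap.range g := by
    intro n e he hker
    obtain ⟨s, hs⟩ := (f.restrictScalars k).exists_rightInverse_of_surjective (LinearMap.range_eq_top.mpr hf)
    obtain ⟨d, hd, hdx⟩ := hDM.exists_eq n ((βF e).comp s)
    refine ⟨d, Groth.Agent.GDualLib.β_injective (𝒜 := 𝒜) hDF (Groth.Agent.GDualLib.hom_ext ℱ fun m x hx => ?_)⟩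
    rcases eq_or_ne m (-n) with rfl | hm
    · rw [hg, hdx _ (hfk _ x hx), LinearMap.comp_apply, ← sub_eq_zero, ← map_sub]
      refine hker _ ?_
      have := LinearMap.congr_fun hs (f x)
      simp only [LinearMap.comp_apply, LinearMap.coe_restrictScalars, LinearMap.id_apply] at this
      rw [map_sub, this, sub_self]
    · rw [hDF.vanish n e he m hm x hx, hDF.vanish n _ (hggr n d hd) m hm x hx]
  have hposmem : ∀ i : ℤ, 0 < i → ∀ r ∈ 𝒜 i, r ∈ mR.toIdeal := fun i hi r hr => by
    rw [hmR]; exact Ideal.subset_span (Set.mem_iUnion₂.mpr ⟨i, hi, hr⟩)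
  constructor
  · intro hmin
    refine { injective := hginj, grHom := hggr, essential := fun P hP hne => ?_ }
    obtain ⟨N, hN⟩ := Groth.Agent.GDualLib.exists_bound_below (ℳ := ℱ) 𝒜 hposR
    have hDN : ∀ (j : ℤ) (d : DF), -N < j → d ∈ 𝒟F j → d = 0 := fun j d hj hd =>
      hDF.eq_zero j d hd fun x hx => by rw [hN _ (by omega) x hx, map_zero]
    obtain ⟨d, hd, hd0⟩ := Submodule.exists_mem_ne_zero_of_ne_bot hne
    obtain ⟨n, hn⟩ : ∃ n, Groth.Agent.GDualLib.prk 𝒜 𝒟F n d ≠ 0 := by
      by_contra hc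
      push Not at hc
      exact hd0 ((Groth.Agent.GDualLib.prk_eq_zero_iff 𝒜).mp hc)
    obtain ⟨top, ⟨e, heP, het, he0⟩, hmax⟩ := Int.exists_greatest_of_bdd
      (P := fun j => ∃ e ∈ P, e ∈ 𝒟F j ∧ e ≠ 0)
      ⟨-N, fun j ⟨e, _, he, he0⟩ => le_of_not_gt fun hj => he0 (hDN j e hj he)⟩
      ⟨n, _, Groth.Agent.GDualLib.prk_homogeneous hP hd n, Groth.Agent.GDualLib.prk_mem n d, hn⟩
    have hann : ∀ r ∈ mR.toIdeal, r • e = 0 := by
      intro r hr
      have hle : mR.toIdeal ≤ LinearMap.ker (LinearMap.toSpanSingleton R DF e) := by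
        rw [hmR, Ideal.span_le]
        intro s hs
        simp only [Set.mem_iUnion, Set.mem_Ioi, SetLike.mem_coe] at hs
        obtain ⟨i, hi, hs⟩ := hs
        show s • e = 0
        by_contra hse
        have := hmax (i + top) ⟨s • e, P.smul_mem s heP, Groth.Agent.GDualLib.smul_mem' 𝒜 hs het, hse⟩
        omega
      exact hle hr
    have her : e ∈ LinearMap.range g := hrange top e het fun x hx => by
      have h1 : x ∈ mR.toIdeal • (⊤ : Submodule R F) := hmin (LinearMap.mem_ker.mpr hx)
      refine Submodule.smul_induction_on h1 (fun r hr y _ => ?_) fun a b ha hb => by rw [map_add, ha, hb, add_zero]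
      rw [← hDF.map_smul, hann r hr, map_zero, LinearMap.zero_apply]
    intro hbot
    exact he0 ((Submodule.mem_bot R).mp (hbot ▸ ⟨heP, her⟩))
  · intro hess x hx
    set Q : Submodule R F := mR.toIdeal • ⊤
    have hmf : ∀ n y, y ∈ Q → Groth.Agent.GDualLib.prk 𝒜 ℱ n y ∈ Q := by
      intro n y hy
      refine Submodule.smul_induction_on hy (fun r hr z _ => ?_) fun a b ha hb => by rw [map_add]; exact add_mem ha hb
      rw [← DirectSum.sum_support_decompose 𝒜 r, Finset.sum_smul, map_sum]
      refine sum_mem fun i _ => ?_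
      rw [Groth.Agent.GDualLib.prk_smul (DirectSum.decompose 𝒜 r i).2]
      exact Submodule.smul_mem_smul (mR.isHomogeneous i hr) Submodule.mem_top
    suffices ∀ n, Groth.Agent.GDualLib.prk 𝒜 ℱ n x ∈ Q by
      rw [← DirectSum.sum_support_decompose ℱ x]; exact sum_mem fun n _ => this n
    intro n
    by_contra hne
    have hkn : f (Groth.Agent.GDualLib.prk 𝒜 ℱ n x) = 0 := by rw [hprkf, LinearMap.mem_ker.mp hx, map_zero]
    obtain ⟨φ, hφ1, hφ2⟩ := Submodule.exists_dual_map_eq_bot_of_notMem (p := Q.restrictScalars k) hne inferInstance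
    obtain ⟨e, he, hex⟩ := hDF.exists_eq (-n) φ
    have he1 : βF e (Groth.Agent.GDualLib.prk 𝒜 ℱ n x) ≠ 0 := by
      rw [hex _ (by rw [neg_neg]; exact Groth.Agent.GDualLib.prk_mem n x)]; exact hφ1
    have heQ : ∀ y ∈ Q, βF e y = 0 := fun y hy => by
      have h1 : βF e y = βF e (Groth.Agent.GDualLib.prk 𝒜 ℱ n y) := LinearMap.congr_fun
        (Groth.Agent.GDualLib.hom_ext ℱ (f := βF e) (f' := (βF e).comp (Groth.Agent.GDualLib.prk 𝒜 ℱ n)) fun m z hz => by
          rw [LinearMap.comp_apply]
          rcases eq_or_ne m n with rfl | hm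
          · rw [Groth.Agent.GDualLib.prk_self hz]
          · rw [Groth.Agent.GDualLib.prk_ne hz hm, map_zero, hDF.vanish _ e he m (by omega) z hz]) y
      rw [h1, hex _ (by rw [neg_neg]; exact Groth.Agent.GDualLib.prk_mem n y)]
      exact (Submodule.mem_bot k).mp (hφ2 ▸ Submodule.mem_map_of_mem (f := φ) (show Groth.Agent.GDualLib.prk 𝒜 ℱ n y ∈ Q.restrictScalars k from hmf n y hy))
    have hann : ∀ r ∈ mR.toIdeal, r • e = 0 := fun r hr => Groth.Agent.GDualLib.β_injective (𝒜 := 𝒜) hDF
      (LinearMap.ext fun y => by rw [hDF.map_smul, heQ _ (Submodule.smul_mem_smul hr Submodule.mem_top), map_zero, LinearMap.zero_apply])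
    refine hess.essential (Submodule.span R {e}) (Groth.Agent.GDualLib.span_singleton_isHomogeneous 𝒜 he) ?_ ?_
    · rw [Ne, Submodule.span_singleton_eq_bot]; rintro rfl; simp at he1
    · rw [eq_bot_iff]
      rintro w ⟨hwe, d, rfl⟩
      obtain ⟨r, hr⟩ := Submodule.mem_span_singleton.mp hwe
      obtain ⟨c, hc⟩ : ∃ c : k, r - algebraMap k R c ∈ mR.toIdeal := by
        clear hr
        induction r using DirectSum.Decomposition.inductionOn 𝒜 with
        | zero => exact ⟨0, by simp⟩
        | homogeneous m =>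
          rename_i i
          obtain ⟨m, hm⟩ := m
          rcases lt_trichotomy i 0 with hi | hi | hi
          · rw [hposR i hi, Submodule.mem_bot] at hm; exact ⟨0, by simp [hm]⟩
          · subst hi
            rw [h0R, Submodule.mem_span_singleton] at hm
            obtain ⟨c, rfl⟩ := hm
            exact ⟨c, by simp [Algebra.algebraMap_eq_smul_one]⟩
          · exact ⟨0, by simpa using hposmem i hi m hm⟩
        | add a b ha hb =>
          obtain ⟨c, hc⟩ := ha
          obtain ⟨c', hc'⟩ := hb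
          exact ⟨c + c', by rw [map_add, add_sub_add_comm]; exact add_mem hc hc'⟩
      have hre : r • e = c • e := by
        rw [← sub_add_cancel r (algebraMap k R c), add_smul, hann _ hc, zero_add, algebraMap_smul]
      have hzero : c * βF e (Groth.Agent.GDualLib.prk 𝒜 ℱ n x) = 0 := by
        rw [← smul_eq_mul, ← LinearMap.smul_apply, ← map_smul, ← hre, hr, hg, hkn, map_zero]
      rw [Submodule.mem_bot, ← hr, hre, (mul_eq_zero.mp hzero).resolve_right he1, zero_smul]

end Groth.Agent.S19751
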