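import Groth.Statements.S19752
import Mathlib
import Groth.Agent.GDualLib.Chain
-- import your own Groth.Agent.* helpers here

set_option autoImplicit false
universe u
open GrDual

namespace Groth.Agent.S19752

/-- Let R = ⊕_{n ≥ 0} R_n be a Noetherian graded ring with R_0 = k a field, m = R_+ and k = R/m. Then
the graded k-dual R^* = ⊕_n Hom_k(R_{−n}, k) is the injective envelope of R/m in the category of
graded R-modules: for every injective homomorphism of graded R-modules e : R/m → R^*, the module R^*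
is an injective object of the graded category and every nonzero graded submodule of R^* meets the
image of e. Here a graded ring defined over k is a commutative k-algebra of finite type, graded in
nonnegative degrees by k-subspaces with degree-zero part k·1, and R_+ is the ideal spanned by the
R_n with n > 0 (a Noetherian such ring is the same as one of finite type over k); the graded k-dual
M^* = ⊕_n Hom_k(M_{−n}, k) of a graded R-module M (with r ∈ R acting by (r f)(x) = f(r x)) is
presented abstractly as a graded R-module D with a k-bilinear pairing β : D × M → k compatible with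
the R-actions, under which D_n pairs to zero with M_m for m ≠ −n and is identified with the full
dual space of M_{−n}. -/
theorem result (k : Type u) [Field k] (R : Type u) [CommRing R] [Algebra k R] (𝒜 : ℤ → Submodule k R) [GradedAlgebra 𝒜] (hposR : ∀ n : ℤ, n < 0 → 𝒜 n = ⊥) (h0R : 𝒜 0 = Submodule.span k {(1 : R)}) [Algebra.FiniteType k R] (mR : HomogeneousIdeal 𝒜) (hmR : mR.toIdeal = Ideal.span (⋃ n ∈ Set.Ioi (0 : ℤ), (𝒜 n : Set R))) (D : Type u) [AddCommGroup D] [Module R D] [Module k D] [IsScalarTower k R D] (𝒟 : ℤ → AddSubgroup D) [DirectSum.Decomposition 𝒟] [SetLike.GradedSMul 𝒜 𝒟] (β : D →ₗ[k] R →ₗ[k] k) (hD : GrSeg.IsGDual R 𝒜 𝒟 β) (e : (R ⧸ mR.toIdeal) →ₗ[R] D) (he : Function.Injective e) (hegr : GrLC.IsGrHom (GrLC.quotGr 𝒜 mR) 𝒟 e) : GrLC.IsStarInjHull 𝒜 (GrLC.quotGr 𝒜 mR) 𝒟 e := by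
  classical
  have h10 : (1 : R) ∈ 𝒜 0 := SetLike.GradedOne.one_mem
  have hm0 : ∀ r ∈ mR.toIdeal, Groth.Agent.GDualLib.prk 𝒜 𝒜 0 r = 0 := by
    have : mR.toIdeal ≤ Groth.Agent.GDualLib.geSub 𝒜 𝒜 hposR 1 := by
      rw [hmR, Ideal.span_le]
      intro r hr
      simp only [Set.mem_iUnion, Set.mem_Ioi, SetLike.mem_coe] at hr
      obtain ⟨n, hn, hr⟩ := hr
      exact fun j hj => Groth.Agent.GDualLib.prk_ne hr (by omega)
    exact fun r hr => this hr 0 (by omega)
  have hz : (1 : R) ≠ 0 → e (Ideal.Quotient.mk mR.toIdeal 1) ≠ 0 := by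
    intro hne1 h
    have h1 := (Ideal.Quotient.eq_zero_iff_mem).mp (he (h.trans (map_zero e).symm))
    have h2 := hm0 1 h1
    rw [Groth.Agent.GDualLib.prk_self h10] at h2
    exact hne1 h2
  have he0 : e (Ideal.Quotient.mk mR.toIdeal 1) ∈ 𝒟 0 := hegr 0 _ ⟨1, h10, rfl⟩
  have hb : (1 : R) ≠ 0 → β (e (Ideal.Quotient.mk mR.toIdeal 1)) 1 ≠ 0 := fun h1 h => hz h1 (hD.eq_zero 0 _ he0 fun x hx => by
    rw [neg_zero, h0R, Submodule.mem_span_singleton] at hx
    obtain ⟨c, rfl⟩ := hx
    rw [map_smul, h, smul_zero])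
  refine { injective := he, grHom := hegr, essential := fun P hP hne => ?_, starInj := fun A B f hf hfi g hg => ?_ }
  · obtain ⟨d, hd, hd0⟩ := Submodule.exists_mem_ne_zero_of_ne_bot hne
    obtain ⟨n, hn⟩ : ∃ n, Groth.Agent.GDualLib.prk 𝒜 𝒟 n d ≠ 0 := by
      by_contra hc
      push Not at hc
      exact hd0 ((Groth.Agent.GDualLib.prk_eq_zero_iff 𝒜).mp hc)
    have hdn : Groth.Agent.GDualLib.prk 𝒜 𝒟 n d ∈ 𝒟 n := Groth.Agent.GDualLib.prk_mem n d
    obtain ⟨x, hx, hx1⟩ : ∃ x ∈ 𝒜 (-n), β (Groth.Agent.GDualLib.prk 𝒜 𝒟 n d) x ≠ 0 := by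
      by_contra hc
      push Not at hc
      exact hn (hD.eq_zero n _ hdn fun x hx => hc x hx)
    set w := x • Groth.Agent.GDualLib.prk 𝒜 𝒟 n d
    have hw0 : w ∈ 𝒟 0 := by simpa using Groth.Agent.GDualLib.smul_mem' 𝒜 (ℳ := 𝒟) hx hdn
    have hw1 : β w 1 ≠ 0 := by rw [hD.map_smul, smul_eq_mul, mul_one]; exact hx1
    have hwe : w = (β w 1 / β (e (Ideal.Quotient.mk mR.toIdeal 1)) 1) • e (Ideal.Quotient.mk mR.toIdeal 1) := by
      refine sub_eq_zero.mp (hD.eq_zero 0 _ (sub_mem hw0 (Groth.Agent.GDualLib.ksmul_mem 𝒜 𝒟 _ he0)) fun y hy => ?_)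
      rw [neg_zero, h0R, Submodule.mem_span_singleton] at hy
      obtain ⟨c, rfl⟩ := hy
      simp only [map_sub, map_smul, LinearMap.sub_apply, LinearMap.smul_apply, smul_eq_mul]
      have := hb fun h => hw1 (by rw [h, map_zero])
      field_simp
      ring
    intro hbot
    refine hw1 ?_
    have hmem : w ∈ P ⊓ LinearMap.range e := ⟨P.smul_mem _ (Groth.Agent.GDualLib.prk_homogeneous hP hd n), by
      rw [hwe, ← algebraMap_smul R]; exact Submodule.smul_mem _ _ ⟨_, rfl⟩⟩
    rw [hbot, Submodule.mem_bot] at hmem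
    rw [hmem, map_zero, LinearMap.zero_apply]
  · letI : Module k A.carrier := Module.compHom A.carrier (algebraMap k R)
    haveI : IsScalarTower k R A.carrier := IsScalarTower.of_algebraMap_smul fun _ _ => rfl
    letI : Module k B.carrier := Module.compHom B.carrier (algebraMap k R)
    haveI : IsScalarTower k R B.carrier := IsScalarTower.of_algebraMap_smul fun _ _ => rfl
    obtain ⟨ψ, hψ⟩ : ∃ ψ : B.carrier →ₗ[k] k, ∀ a, ψ (f a) = β (g a) 1 := by
      obtain ⟨l, hl⟩ := (f.restrictScalars k).exists_leftInverse_of_injective (LinearMap.ker_eq_bot.mpr hfi)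
      refine ⟨((LinearMap.applyₗ (1 : R)).comp β).comp ((g.restrictScalars k).comp l), fun a => ?_⟩
      have := LinearMap.congr_fun hl a
      simp only [LinearMap.comp_apply, LinearMap.coe_restrictScalars, LinearMap.id_apply] at this
      simp [this]
    let Φ : B.carrier →ₗ[k] R →ₗ[k] k :=
      (((Algebra.lsmul k k B.carrier).toLinearMap).flip).compr₂ (ψ.comp (Groth.Agent.GDualLib.prk 𝒜 B.gr 0))
    have hΦ : ∀ x r, Φ x r = ψ (Groth.Agent.GDualLib.prk 𝒜 B.gr 0 (r • x)) := fun x r => rfl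
    obtain ⟨h, hh, hhe⟩ := Groth.Agent.GDualLib.exists_lift (𝒜 := 𝒜) (𝒶 := B.gr) hD Φ
      (fun r x s => by rw [hΦ, hΦ, smul_smul, smul_eq_mul, mul_comm])
      0 (fun n x hx m hm r hr => by
        rw [hΦ, Groth.Agent.GDualLib.prk_ne (Groth.Agent.GDualLib.smul_mem' 𝒜 hr hx) (by omega), map_zero])
    refine ⟨h, fun n x hx => by simpa using hh n x hx, LinearMap.ext fun a =>
      Groth.Agent.GDualLib.β_injective (𝒜 := 𝒜) hD (LinearMap.ext fun r => ?_)⟩
    rw [LinearMap.comp_apply, hhe, hΦ, ← map_smul, show β (g a) r = β (g (r • a)) 1 by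
      rw [map_smul, hD.map_smul, smul_eq_mul, mul_one]]
    -- the projection commutes with `f`, and degree zero is seen by `1`
    refine (LinearMap.congr_fun (Groth.Agent.GDualLib.hom_ext A.gr
      (f := (ψ.comp (Groth.Agent.GDualLib.prk 𝒜 B.gr 0)).comp (f.restrictScalars k))
      (f' := ((LinearMap.applyₗ (1 : R)).comp β).comp (g.restrictScalars k)) fun j y hy => ?_) (r • a) : _)
    simp only [LinearMap.comp_apply, LinearMap.coe_restrictScalars, LinearMap.applyₗ_apply_apply]
    rcases eq_or_ne j 0 with rfl | hj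
    · rw [Groth.Agent.GDualLib.prk_self (hf 0 y hy), hψ]
    · rw [Groth.Agent.GDualLib.prk_ne (hf j y hy) hj, map_zero, hD.vanish j _ (hg j y hy) 0 (by omega) 1 h10]

end Groth.Agent.S19752
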