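import Groth.Statements.S19759
import Mathlib
import Groth.Agent.GDualLib.Chain
import Groth.Agent.GrModLib.CanonTop
import Groth.Agent.GrModLib.Bridge
-- import your own Groth.Agent.* helpers here

set_option autoImplicit false
set_option maxHeartbeats 1000000
universe u
open GrDual

namespace Groth.Agent.S19759

/-- Let R be a graded ring defined over a field k with m = R_+ and n = dim R, K_R = (H^n_m(R))^* its
canonical module, and M a finitely generated graded R-module. Then (H^n_m(M))^* ≅ Hom_R(M, K_R) as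
graded R-modules. Stated here as the existence of an R-linear isomorphism carrying the degree-d
piece of (H^n_m(M))^* into the maps M → K_R homogeneous of degree d (existence of an isomorphism
only; the published one is natural in M). Here a graded ring defined over k is a commutative
k-algebra of finite type, graded in nonnegative degrees by k-subspaces with degree-zero part k·1,
and R_+ is the ideal spanned by the R_n with n > 0; the graded k-dual M^* = ⊕_n Hom_k(M_{−n}, k) of
a graded R-module M (with r ∈ R acting by (r f)(x) = f(r x)) is presented abstractly as a graded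
R-module D with a k-bilinear pairing β : D × M → k compatible with the R-actions, under which D_n
pairs to zero with M_m for m ≠ −n and is identified with the full dual space of M_{−n}; graded local
cohomology with its homogeneous pieces is computed from *injective resolutions in the graded
category and carries the k-vector space structures given. -/
theorem result (k : Type u) [Field k] (R : Type u) [CommRing R] [Algebra k R] (𝒜 : ℤ → Submodule k R) [GradedAlgebra 𝒜] (hposR : ∀ n : ℤ, n < 0 → 𝒜 n = ⊥) (h0R : 𝒜 0 = Submodule.span k {(1 : R)}) [Algebra.FiniteType k R] (mR : HomogeneousIdeal 𝒜) (hmR : mR.toIdeal = Ideal.span (⋃ n ∈ Set.Ioi (0 : ℤ), (𝒜 n : Set R))) (n : ℕ) (hn : ringKrullDim R = n) (I : GrLC.StarInjRes 𝒜 𝒜) [Module k (I.H mR n)] [IsScalarTower k R (I.H mR n)] [DirectSum.Decomposition (I.Hgr mR n)] (K : Type u) [AddCommGroup K] [Module R K] [Module k K] [IsScalarTower k R K] (𝒦 : ℤ → AddSubgroup K) [DirectSum.Decomposition 𝒦] [SetLike.GradedSMul 𝒜 𝒦] (βK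 : K →ₗ[k] I.H mR n →ₗ[k] k) (hK : GrSeg.IsGDual R (I.Hgr mR n) 𝒦 βK) (M : Type u) [AddCommGroup M] [Module R M] [Module k M] [IsScalarTower k R M] (ℳ : ℤ → AddSubgroup M) [DirectSum.Decomposition ℳ] [SetLike.GradedSMul 𝒜 ℳ] [Module.Finite R M] (EM : GrLC.StarInjRes 𝒜 ℳ) [Module k (EM.H mR n)] [IsScalarTower k R (EM.H mR n)] [DirectSum.Decomposition (EM.Hgr mR n)] (D : Type u) [AddCommGroup D] [Module R D] [Module k D] [IsScalarTower k R D] (𝒟 : ℤ → AddSubgroup D) [DirectSum.Decomposition 𝒟] [SetLike.GradedSMul 𝒜 𝒟] (βD : D →ₗ[k] EM.H mR n →ₗ[k] k) (hD : GrSeg.IsGDual R (EM.Hgr mR n) 𝒟 βD) : ∃ ε : D ≃ₗ[R] (M →ₗ[R] K), GrLC.IsGrHom 𝒟 (fun d : ℤ => (GrLC.homDeg 𝒜 ℳ 𝒦 d).toAddSubgroup) ε.toLinearMap := by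
  have hnoeth : IsNoetherianRing R := Algebra.FiniteType.isNoetherianRing k R
  let N : GrLC.GMod.{u} (GrModLib.toAdd 𝒜) := GrLC.GMod.of (GrModLib.toAdd 𝒜) R (GrModLib.toAdd 𝒜)
  let X : GrLC.GMod.{u} (GrModLib.toAdd 𝒜) := GrLC.GMod.of (GrModLib.toAdd 𝒜) M (GrModLib.toAdd ℳ)
  let a := GrModLib.toAddIdeal mR
  let Ir : GrLC.StarInjRes (GrModLib.toAdd 𝒜) N.gr := GrModLib.resToAdd (𝒜 := 𝒜) (ℳ := 𝒜) I
  let Fr : GrLC.StarInjRes (GrModLib.toAdd 𝒜) X.gr := GrModLib.resToAdd (𝒜 := 𝒜) (ℳ := ℳ) EM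
  haveI : Module.Finite R N.carrier := inferInstanceAs (Module.Finite R R)
  haveI hgsI : SetLike.GradedSMul 𝒜 (I.Hgr mR n) := ⟨fun {i j r x} hr hx => by
    obtain ⟨z, hz, rfl⟩ := hx
    exact ⟨r • z, (I.X n).gsmul.smul_mem hr hz, map_smul _ r z⟩⟩
  haveI hgsM : SetLike.GradedSMul 𝒜 (EM.Hgr mR n) := ⟨fun {i j r x} hr hx => by
    obtain ⟨z, hz, rfl⟩ := hx
    exact ⟨r • z, (EM.X n).gsmul.smul_mem hr hz, map_smul _ r z⟩⟩
  -- homogeneous elements act as maps on the top cohomology
  have hP : ∀ (i : ℤ) (m : M), m ∈ ℳ i → GrLC.IsGrHomDeg N.gr X.gr (LinearMap.toSpanSingleton R M m) i :=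
    fun i m hm g r hr => Groth.Agent.GDualLib.smul_mem' 𝒜 (ℳ := ℳ) (h := g) (g := i) hr hm
  let φ : ∀ i : ℤ, ℳ i →+ (I.H mR n →ₗ[R] EM.H mR n) := fun i =>
    AddMonoidHom.mk' (fun m => GrModLib.Hmap Ir Fr a (LinearMap.toSpanSingleton R M (m : M)) i (hP i m m.2) n)
      fun m m' => by
        have hadd : GrLC.IsGrHomDeg N.gr X.gr (LinearMap.toSpanSingleton R M (m : M) + LinearMap.toSpanSingleton R M (m' : M)) i :=
          fun g r hr => add_mem (hP i m m.2 g r hr) (hP i m' m'.2 g r hr)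
        rw [GrModLib.Hmap_congr Ir Fr a (hP i _ (m + m').2) hadd
          (LinearMap.ext fun r => by simp [LinearMap.toSpanSingleton_apply]) rfl n]
        exact GrModLib.Hmap_add Ir Fr a _ _ hadd n
  let Ψ : M →+ (I.H mR n →ₗ[R] EM.H mR n) :=
    (DirectSum.toAddMonoid φ).comp (DirectSum.decomposeAddEquiv ℳ).toAddMonoidHom
  have hΨ : ∀ i m (hm : m ∈ ℳ i), Ψ m = GrModLib.Hmap Ir Fr a (LinearMap.toSpanSingleton R M m) i (hP i m hm) n := by
    intro i m hm
    show DirectSum.toAddMonoid φ (DirectSum.decompose ℳ m) = _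
    rw [DirectSum.decompose_of_mem ℳ hm, DirectSum.toAddMonoid_of]
    rfl
  have hΨdeg : ∀ i m, m ∈ ℳ i → ∀ q y, y ∈ I.Hgr mR n q → Ψ m y ∈ EM.Hgr mR n (q + i) := fun i m hm q y hy => by
    rw [hΨ i m hm]
    exact GrModLib.Hmap_deg Ir Fr a (hP i m hm) n q y hy
  have hΨsmul : ∀ (r : R) (m : M), Ψ (r • m) = r • Ψ m := by
    intro r
    induction r using DirectSum.Decomposition.inductionOn 𝒜 with
    | zero => simp
    | add p q hp hq => intro m; rw [add_smul, map_add, hp, hq, add_smul]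
    | homogeneous r' =>
      rename_i h
      intro m
      induction m using DirectSum.Decomposition.inductionOn ℳ with
      | zero => simp
      | add p q hp hq => rw [smul_add, map_add, map_add, hp, hq, smul_add]
      | homogeneous m' =>
        rename_i i
        have hrm : (r' : R) • (m' : M) ∈ ℳ (h + i) := SetLike.GradedSMul.smul_mem (A := 𝒜) (B := ℳ) r'.2 m'.2
        have hr : GrLC.IsGrHomDeg X.gr X.gr ((r' : R) • (LinearMap.id : M →ₗ[R] M)) h := fun g y hy => by
          rw [add_comm]; exact Groth.Agent.GDualLib.smul_mem' 𝒜 (ℳ := ℳ) (h := h) (g := g) r'.2 hy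
        rw [hΨ _ _ hrm, hΨ _ _ m'.2,
          GrModLib.Hmap_congr Ir Fr a (hP _ _ hrm) (GrModLib.IsGrHomDeg.comp (hP i m' m'.2) hr)
            (LinearMap.ext fun s => smul_comm s (r' : R) (m' : M)) (add_comm h i),
          ]
        refine (GrModLib.Hmap_comp Ir Fr Fr a (hP i m' m'.2) hr n).trans ?_
        refine (congrArg (fun T => T ∘ₗ GrModLib.Hmap Ir Fr a (LinearMap.toSpanSingleton R M (m' : M)) i (hP i m' m'.2) n)
          (GrModLib.Hmap_smul Fr a (r' : R) hr r'.2 n)).trans ?_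
        exact LinearMap.ext fun y => rfl
  -- generators, surjectivity and relations of the top cohomology
  obtain ⟨t, dg, m, hm, hspan⟩ : ∃ (t : ℕ) (dg : Fin t → ℤ) (m : Fin t → M), (∀ j, m j ∈ ℳ (dg j)) ∧
      Submodule.span R (Set.range m) = ⊤ := GrModLib.exists_homogeneous_generators (GrModLib.toAdd 𝒜) X.gr
    (GrModLib.top_isHomogeneous X.gr) (Module.Finite.fg_top (R := R) (M := M))
  have hdim : Module.supportDim R N.carrier ≤ (n : ℕ) := by
    show Module.supportDim R R ≤ _
    rw [Module.supportDim_self_eq_ringKrullDim, hn]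
  have h1 : (1 : R) ∈ N.gr 0 := (SetLike.one_mem_graded 𝒜 : (1 : R) ∈ 𝒜 0)
  have hgen : ∀ y : R, ∃ r : R, r • (1 : R) = y := fun y => ⟨y, mul_one y⟩
  have hk : ∀ r : R, r • (1 : R) = 0 → ∀ x : X.carrier, r • x = 0 := fun r hr x => by
    rw [smul_eq_mul, mul_one] at hr; rw [hr, zero_smul]
  have hsurj : ∀ y, ∃ η : Fin t → I.H mR n, y = ∑ j, Ψ (m j) (η j) := fun y => by
    obtain ⟨η, hη⟩ := GrModLib.Htop_surj N X h1 hgen hk hdim a Ir Fr dg m hm hspan
      (fun j => LinearMap.toSpanSingleton R M (m j)) (fun j => hP _ _ (hm j))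
      (fun j r => show (r • (1 : R)) • m j = r • m j by rw [smul_eq_mul, mul_one]) y
    exact ⟨η, hη.trans (Finset.sum_congr rfl fun j _ => (LinearMap.congr_fun (hΨ _ _ (hm j)) (η j)).symm)⟩
  have hrel : ∀ η : Fin t → I.H mR n, ∑ j, Ψ (m j) (η j) = 0 → ∃ (L : ℕ) (rel : Fin L → Fin t → R)
      (θ : Fin L → I.H mR n), (∀ j, η j = ∑ l, rel l j • θ l) ∧ ∀ l, ∑ j, rel l j • m j = 0 := fun η hη =>
    GrModLib.Htop_rel N X h1 hgen hk hdim a Ir Fr dg m hm hspan
      (fun j => LinearMap.toSpanSingleton R M (m j)) (fun j => hP _ _ (hm j))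
      (fun j r => show (r • (1 : R)) • m j = r • m j by rw [smul_eq_mul, mul_one]) η
      ((Finset.sum_congr rfl fun j _ => (LinearMap.congr_fun (hΨ _ _ (hm j)) (η j)).symm).trans hη)
  -- the dual pairing
  let pair : D → M → (I.H mR n →ₗ[k] k) := fun δ x => (βD δ).comp ((Ψ x).restrictScalars k)
  have hex : ∀ i x, x ∈ ℳ i → ∃ g : D →ₗ[R] K, (∀ p δ, δ ∈ 𝒟 p → g δ ∈ 𝒦 (p + i)) ∧ ∀ δ, βK (g δ) = pair δ x := by
    intro i x hx
    obtain ⟨g, hg1, hg2⟩ := Groth.Agent.GDualLib.exists_lift (𝒜 := 𝒜) (𝒶 := 𝒟) hK (βD.compl₂ ((Ψ x).restrictScalars k))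
      (fun r δ η => by
        simp only [LinearMap.compl₂_apply, LinearMap.coe_restrictScalars]
        rw [(Ψ x).map_smul]
        exact hD.map_smul r δ _)
      i (fun p δ hδ q hq η hη => by
        simp only [LinearMap.compl₂_apply, LinearMap.coe_restrictScalars]
        exact hD.vanish p δ hδ (q + i) (by omega) _ (hΨdeg i x hx q η hη))
    exact ⟨g, hg1, fun δ => hg2 δ⟩
  have hall : ∀ δ x, ∃ z : K, βK z = pair δ x := by
    intro δ x
    induction x using DirectSum.Decomposition.inductionOn ℳ with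
    | zero => exact ⟨0, LinearMap.ext fun η => by simp [pair]⟩
    | homogeneous x' => obtain ⟨g, -, hg⟩ := hex _ _ x'.2; exact ⟨g δ, hg δ⟩
    | add p q hp hq =>
      obtain ⟨z, hz⟩ := hp
      obtain ⟨z', hz'⟩ := hq
      exact ⟨z + z', LinearMap.ext fun η => by rw [map_add, hz, hz']; simp [pair]⟩
  choose F hF using hall
  have βKinj := Groth.Agent.GDualLib.β_injective (𝒜 := 𝒜) hK
  have hFeq : ∀ δ x η, βK (F δ x) η = βD δ (Ψ x η) := fun δ x η => LinearMap.congr_fun (hF δ x) η
  let ε : D →ₗ[R] (M →ₗ[R] K) :=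
    { toFun := fun δ =>
        { toFun := F δ
          map_add' := fun x y => βKinj (LinearMap.ext fun η => by
            rw [map_add, LinearMap.add_apply, hFeq, hFeq, hFeq, map_add, LinearMap.add_apply, map_add])
          map_smul' := fun r x => βKinj (LinearMap.ext fun η => by
            rw [hFeq, hΨsmul, RingHom.id_apply, hK.map_smul, hFeq, LinearMap.smul_apply, map_smul (Ψ x)]) }
      map_add' := fun δ δ' => LinearMap.ext fun x => βKinj (LinearMap.ext fun η => by
        show βK (F (δ + δ') x) η = βK (F δ x + F δ' x) η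
        rw [map_add, LinearMap.add_apply, hFeq, hFeq, hFeq, map_add, LinearMap.add_apply])
      map_smul' := fun r δ => LinearMap.ext fun x => βKinj (LinearMap.ext fun η => by
        show βK (F (r • δ) x) η = βK (r • F δ x) η
        rw [hK.map_smul, hFeq, hFeq, hD.map_smul, (Ψ x).map_smul]) }
  have hεdeg : ∀ p δ, δ ∈ 𝒟 p → ∀ i x, x ∈ ℳ i → F δ x ∈ 𝒦 (i + p) := fun p δ hδ i x hx => by
    obtain ⟨g, hg1, hg2⟩ := hex i x hx
    rw [show F δ x = g δ from βKinj ((hF δ x).trans (hg2 δ).symm), add_comm]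
    exact hg1 p δ hδ
  have hinj : Function.Injective ε := by
    refine (injective_iff_map_eq_zero ε).mpr fun δ hδ => Groth.Agent.GDualLib.β_injective (𝒜 := 𝒜) hD ?_
    rw [map_zero]
    refine LinearMap.ext fun y => ?_
    obtain ⟨η, rfl⟩ := hsurj y
    rw [map_sum, LinearMap.zero_apply]
    refine Finset.sum_eq_zero fun j _ => ?_
    rw [← hFeq, show F δ (m j) = 0 from LinearMap.congr_fun hδ (m j), map_zero, LinearMap.zero_apply]
  have hsur : Function.Surjective ε := by
    intro h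
    let L : (Fin t → I.H mR n) →ₗ[k] EM.H mR n :=
      ∑ j, ((Ψ (m j)).restrictScalars k).comp (LinearMap.proj j)
    let Λ : (Fin t → I.H mR n) →ₗ[k] k := ∑ j, (βK (h (m j))).comp (LinearMap.proj j)
    have hL : ∀ η, L η = ∑ j, Ψ (m j) (η j) := fun η => by simp [L]
    have hΛ : ∀ η, Λ η = ∑ j, βK (h (m j)) (η j) := fun η => by simp [Λ]
    have hker : LinearMap.ker L ≤ LinearMap.ker Λ := by
      intro η hη
      rw [LinearMap.mem_ker, hL] at hη
      obtain ⟨L', rel, θ, hθ, hrl⟩ := hrel η hη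
      rw [LinearMap.mem_ker, hΛ]
      calc ∑ j, βK (h (m j)) (η j) = ∑ j, ∑ l, βK (rel l j • h (m j)) (θ l) :=
            Finset.sum_congr rfl fun j _ => by rw [hθ, map_sum]; exact Finset.sum_congr rfl fun l _ => (hK.map_smul _ _ _).symm
        _ = ∑ l, βK (h (∑ j, rel l j • m j)) (θ l) := by
            rw [Finset.sum_comm]; refine Finset.sum_congr rfl fun l _ => ?_
            rw [map_sum, map_sum, LinearMap.sum_apply]; exact Finset.sum_congr rfl fun j _ => by rw [h.map_smul]
        _ = 0 := Finset.sum_eq_zero fun l _ => by rw [hrl, map_zero, map_zero, LinearMap.zero_apply]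
    obtain ⟨s, hs⟩ := L.exists_rightInverse_of_surjective (LinearMap.range_eq_top.mpr fun y =>
      (hsurj y).elim fun η hη => ⟨η, (hL η).trans hη.symm⟩)
    let lam : EM.H mR n →ₗ[k] k := Λ.comp s
    have hlam : ∀ η : Fin t → I.H mR n, lam (∑ j, Ψ (m j) (η j)) = ∑ j, βK (h (m j)) (η j) := fun η => by
      rw [← hΛ, ← hL]
      have : s (L η) - η ∈ LinearMap.ker L := by
        have := LinearMap.congr_fun hs (L η)
        simp only [LinearMap.comp_apply, LinearMap.id_apply] at this
        rw [LinearMap.mem_ker, map_sub, this, sub_self]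
      have := LinearMap.mem_ker.mp (hker this)
      rwa [map_sub, sub_eq_zero] at this
    choose S hS using fun j => Groth.Agent.GDualLib.exists_support (ℳ := 𝒦) 𝒜 (h (m j))
    let Q : Finset ℤ := Finset.univ.biUnion fun j => (S j).image fun p => dg j - p
    have hQ : ∀ q ∉ Q, ∀ y ∈ EM.Hgr mR n q, lam y = 0 := by
      intro q hq y hy
      obtain ⟨η, hη⟩ := hsurj y
      let pi := fun g => Groth.Agent.GDualLib.prk 𝒜 (I.Hgr mR n) g
      let pm := Groth.Agent.GDualLib.prk 𝒜 (EM.Hgr mR n) q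
      have hy2 : y = ∑ j, Ψ (m j) (pi (q - dg j) (η j)) := by
        rw [← Groth.Agent.GDualLib.prk_self (𝒜 := 𝒜) hy, hη, map_sum]
        refine Finset.sum_congr rfl fun j _ => ?_
        refine LinearMap.congr_fun (Groth.Agent.GDualLib.hom_ext (I.Hgr mR n) (f := pm.comp ((Ψ (m j)).restrictScalars k))
          (f' := ((Ψ (m j)).restrictScalars k).comp (pi (q - dg j))) fun g z hz => ?_) (η j)
        simp only [LinearMap.comp_apply, LinearMap.coe_restrictScalars, pm, pi]
        rcases eq_or_ne g (q - dg j) with rfl | hg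
        · rw [Groth.Agent.GDualLib.prk_self hz, Groth.Agent.GDualLib.prk_self]
          simpa using hΨdeg _ _ (hm j) _ z hz
        · rw [Groth.Agent.GDualLib.prk_ne hz hg, map_zero,
            Groth.Agent.GDualLib.prk_ne (hΨdeg _ _ (hm j) g z hz) (by omega)]
      rw [hy2, hlam]
      refine Finset.sum_eq_zero fun j _ => ?_
      rw [← Groth.Agent.GDualLib.β_prk (𝒜 := 𝒜) hK (n := dg j - q)
        (by rw [neg_sub]; exact Groth.Agent.GDualLib.prk_mem _ _) (h (m j)),
        hS j _ fun hjs => hq (Finset.mem_biUnion.mpr ⟨j, Finset.mem_univ j, Finset.mem_image.mpr ⟨_, hjs, by ring⟩⟩),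
        map_zero, LinearMap.zero_apply]
    choose dq hdq hdqy using fun q : ℤ => hD.exists_eq (-q) lam
    have hδ : βD (∑ q ∈ Q, dq q) = lam := Groth.Agent.GDualLib.hom_ext (EM.Hgr mR n) fun q y hy => by
      rw [map_sum, LinearMap.sum_apply]
      by_cases hq : q ∈ Q
      · rw [Finset.sum_eq_single_of_mem q hq fun q' _ hne => hD.vanish _ _ (hdq q') q (by omega) y hy]
        exact hdqy q y (by rwa [neg_neg])
      · rw [hQ q hq y hy]
        exact Finset.sum_eq_zero fun q' hq' => hD.vanish _ _ (hdq q') q (by rintro rfl; exact hq (by rwa [neg_neg])) y hy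
    refine ⟨∑ q ∈ Q, dq q, LinearMap.ext_on hspan ?_⟩
    rintro _ ⟨j, rfl⟩
    refine βKinj (LinearMap.ext fun η => ?_)
    show βK (F _ (m j)) η = _
    rw [hFeq, hδ]
    have := hlam (Pi.single j η)
    rw [Finset.sum_eq_single j (fun i _ hij => by rw [Pi.single_eq_of_ne hij, map_zero])
        (fun h => absurd (Finset.mem_univ j) h),
      Finset.sum_eq_single j (fun i _ hij => by rw [Pi.single_eq_of_ne hij, map_zero])
        (fun h => absurd (Finset.mem_univ j) h), Pi.single_eq_same] at this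
    exact this
  exact ⟨LinearEquiv.ofBijective ε ⟨hinj, hsur⟩, fun p δ hδ i x hx => hεdeg p δ hδ i x hx⟩

end Groth.Agent.S19759
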