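import Groth.Statements.S19760
import Mathlib
import Groth.Agent.GDualLib.Chain
-- import your own Groth.Agent.* helpers here

set_option autoImplicit false
universe u
open GrDual

namespace Groth.Agent.S19760

/-- Let R = ⊕_{n ≥ 0} R_n be a Noetherian graded ring with R_0 = k a field and R^* = ⊕_n Hom_k(R_{−n},
k) its graded k-dual. A graded R-module M is Artinian exactly when, for some t and some integer
shifts n_1, …, n_t, it embeds as a graded module into the direct sum of the shifted duals R^*(n_1),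
…, R^*(n_t), that is, when there is an injective R-linear map M → (R^*)^t whose i-th component
carries M_g into R^*_{g+n_i} for every g. Here a graded ring defined over k is a commutative
k-algebra of finite type, graded in nonnegative degrees by k-subspaces with degree-zero part k·1,
and R_+ is the ideal spanned by the R_n with n > 0 (a Noetherian such ring is the same as one of
finite type over k); the graded k-dual M^* = ⊕_n Hom_k(M_{−n}, k) of a graded R-module M (with r ∈ R
acting by (r f)(x) = f(r x)) is presented abstractly as a graded R-module D with a k-bilinear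
pairing β : D × M → k compatible with the R-actions, under which D_n pairs to zero with M_m for m ≠
−n and is identified with the full dual space of M_{−n}. -/
theorem result (k : Type u) [Field k] (R : Type u) [CommRing R] [Algebra k R] (𝒜 : ℤ → Submodule k R) [GradedAlgebra 𝒜] (hposR : ∀ n : ℤ, n < 0 → 𝒜 n = ⊥) (h0R : 𝒜 0 = Submodule.span k {(1 : R)}) [Algebra.FiniteType k R] (D : Type u) [AddCommGroup D] [Module R D] [Module k D] [IsScalarTower k R D] (𝒟 : ℤ → AddSubgroup D) [DirectSum.Decomposition 𝒟] [SetLike.GradedSMul 𝒜 𝒟] (β : D →ₗ[k] R →ₗ[k] k) (hD : GrSeg.IsGDual R 𝒜 𝒟 β) (M : Type u) [AddCommGroup M] [Module R M] [Module k M] [IsScalarTower k R M] (ℳ : ℤ → AddSubgroup M) [DirectSum.Decomposition ℳ] [SetLike.GradedSMul 𝒜 ℳ] : IsArtinian R M ↔ ∃ (t : ℕ) (sh : Fin t → ℤ) (f : M →ₗ[R] (Fin t → D)), Function.Injective f ∧ ∀ (i : Fin t) (g : ℤ) (x : M), x ∈ ℳ g → f x i ∈ 𝒟 (g + sh i) := by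
  classical
  have : IsNoetherianRing R := Algebra.FiniteType.isNoetherianRing k R
  constructor
  · intro _
    let Φ : ℤ → (M →ₗ[k] k) → (M →ₗ[k] R →ₗ[k] k) := fun j φ =>
      (((Algebra.lsmul k k M).toLinearMap).flip).compr₂ (φ.comp (Groth.Agent.GDualLib.prk 𝒜 ℳ j))
    have hΦ : ∀ j φ x r, Φ j φ x r = φ (Groth.Agent.GDualLib.prk 𝒜 ℳ j (r • x)) := fun j φ x r => rfl
    have hex : ∀ i : ℤ × (M →ₗ[k] k), ∃ f : M →ₗ[R] D, (∀ n x, x ∈ ℳ n → f x ∈ 𝒟 (n + -i.1)) ∧ ∀ x, β (f x) = Φ i.1 i.2 x :=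
      fun i => Groth.Agent.GDualLib.exists_lift (𝒜 := 𝒜) hD (Φ i.1 i.2)
        (fun r x s => by rw [hΦ, hΦ, smul_smul, smul_eq_mul, mul_comm])
        (-i.1) (fun n x hx m hm r hr => by
          rw [hΦ, Groth.Agent.GDualLib.prk_ne (Groth.Agent.GDualLib.smul_mem' 𝒜 hr hx) (by omega), map_zero])
    choose F hF1 hF2 using hex
    obtain ⟨K, ⟨s, rfl⟩, hmin⟩ := wellFounded_lt.has_min (Set.range fun s : Finset (ℤ × (M →ₗ[k] k)) => s.inf fun i => LinearMap.ker (F i)) ⟨_, ⟨∅, rfl⟩⟩
    refine ⟨s.card, fun l => -(s.equivFin.symm l).1.1, LinearMap.pi fun l => F (s.equivFin.symm l).1,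
      (injective_iff_map_eq_zero _).mpr fun x hx => ?_, fun l n x hn => hF1 _ n x hn⟩
    have hxK : x ∈ s.inf fun i => LinearMap.ker (F i) := by
      rw [Submodule.mem_finsetInf]
      intro i hi
      simpa using congrFun hx (s.equivFin ⟨i, hi⟩)
    by_contra hne
    obtain ⟨j, hj⟩ : ∃ j, Groth.Agent.GDualLib.prk 𝒜 ℳ j x ≠ 0 := by
      by_contra hc
      push Not at hc
      exact hne ((Groth.Agent.GDualLib.prk_eq_zero_iff 𝒜).mp hc)
    obtain ⟨φ, hφ⟩ := Module.Projective.exists_dual_ne_zero k hj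
    have hle : (insert (j, φ) s).inf (fun i => LinearMap.ker (F i)) ≤ s.inf fun i => LinearMap.ker (F i) := by
      rw [Finset.inf_insert]; exact inf_le_right
    rw [← hle.eq_of_not_lt (hmin _ ⟨_, rfl⟩), Finset.inf_insert] at hxK
    refine hφ ?_
    have h1 := LinearMap.congr_fun (hF2 (j, φ) x) 1
    rw [LinearMap.mem_ker.mp hxK.1, hΦ, one_smul] at h1
    simpa using h1.symm
  · rintro ⟨t, sh, f, hf, -⟩
    have : IsArtinian R D := Groth.Agent.GDualLib.isArtinian_dual (𝒜 := 𝒜) hposR h0R hD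
    exact isArtinian_of_injective f hf

end Groth.Agent.S19760
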