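import Groth.Statements.S19767
import Groth.Agent.CubeConsLib.Theta

set_option autoImplicit false
universe u
open CategoryTheory MonoidalCategory CartesianMonoidalCategory MonObj GrpObj AlgebraicGeometry
open AbVar

namespace Groth.Agent.S19767

/-- Let X be an abelian variety over a field k (a proper, geometrically integral k-group scheme), L an
invertible O_X-module, T a k-scheme, x : T → X a T-valued point with translation t_x : X_T → X_T,
and L_T the inverse image of L on X_T = X ×_k T. If an O_T-module M satisfies L_T ⊗ pr_T^*M ≅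
t_x^*L_T (that is, t_x^*L_T ⊗ L_T⁻¹ ≅ pr_T^*M), then M ≅ x^*L (existence of an isomorphism). (The
published statement takes M invertible; invertibility is not needed.) -/
theorem result (k : Type u) [Field k] (X : Over (Spec (CommRingCat.of k)))
    [GrpObj X] [IsProper X.hom] [GeometricallyIntegral X.hom] (L : X.left.Modules) (hL : PicF.IsInvertible L)
    (T : Over (Spec (CommRingCat.of k))) (x : T ⟶ X) (M : T.left.Modules)
    (h : Nonempty (CohB1.tensorMod ((Scheme.Modules.pullback (fst X T).left).obj L)
          ((Scheme.Modules.pullback (snd X T).left).obj M) ≅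
        (Scheme.Modules.pullback (ThetaGrp.transl X x ≫ fst X T).left).obj L)) :
    Nonempty (M ≅ (Scheme.Modules.pullback x.left).obj L) := by
  have e := congrArg (CubeConsLib.pull (lift (1 : T ⟶ X) (𝟙 T)).left) (CubeConsLib.cl_eq_iff.2 h)
  rw [CubeConsLib.cl_tensor, map_mul, ← CubeConsLib.pull_cl, ← CubeConsLib.pull_cl, ← CubeConsLib.pull_cl,
    CubeConsLib.pull_pull, CubeConsLib.pull_pull, CubeConsLib.pull_pull, ThetaGrp.transl_fst, MonObj.comp_mul,
    lift_fst, lift_snd, lift_snd_assoc, Category.id_comp, _root_.one_mul, CubeConsLib.pull_one hL, _root_.one_mul] at e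
  rw [← CubeConsLib.cl_eq_iff]
  refine Eq.trans ?_ e
  exact (CubeConsLib.cl_eq_iff.2 ⟨(Scheme.Modules.pullbackId T.left).app M⟩).symm

end Groth.Agent.S19767
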