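import Groth.Statements.S19768
import Groth.Agent.CubeConsLib.Theta

set_option autoImplicit false
universe u
open CategoryTheory MonoidalCategory CartesianMonoidalCategory MonObj GrpObj AlgebraicGeometry
open AbVar

namespace Groth.Agent.S19768

/-- Let X be an abelian variety over a field k (a proper, geometrically integral k-group scheme), L an
invertible O_X-module, and i : K → X a closed immersion exhibiting K as K(L) (the maximal closed
subscheme over which the Mumford bundle Λ(L) = m^*L ⊗ p_1^*L⁻¹ ⊗ p_2^*L⁻¹, restricted to X ×_k K, is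
the inverse image of an invertible module on K, with its universal property). Then Λ(L) restricted
to X ×_k K is trivial, and not only pulled back from K. Stated without inverses: on X ×_k K, with p
and q the two projections and m' : (a, z) ↦ a · i(z), one has O ⊗ p^*L ⊗ (i ∘ q)^*L ≅ m'^*L. -/
theorem result (k : Type u) [Field k] (X : Over (Spec (CommRingCat.of k)))
    [GrpObj X] [IsProper X.hom] [GeometricallyIntegral X.hom] (L : X.left.Modules) (hL : PicF.IsInvertible L)
    (K : Over (Spec (CommRingCat.of k))) (i : K ⟶ X) (hK : ThetaGrp.IsKL X L i) :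
    AgPol.IsLambdaSheaf ((X ◁ i) ≫ μ[X]).left (fst X K).left (snd X K ≫ i).left L
      (Coh.structureModule (X ⊗ K).left) := by
  obtain ⟨M, hM, h⟩ := (hK.univ K i).2 ⟨𝟙 K, Category.id_comp i⟩
  have hm := (CubeConsLib.mumfordTriv_iff hL i).1 ⟨M, hM, h⟩
  rw [CubeConsLib.MumfordZero] at hm
  have hm' : (X ◁ i) ≫ μ[X] = fst X K * (snd X K ≫ i) := by
    rw [Hom.mul_def]
    congr 1
  have h1 := AmpleDevLib.isInvertible_pb (fst X K).left hL
  have h2 := CubeConsLib.isInvertible_one (X ⊗ K).left
  have h4 := AmpleDevLib.isInvertible_pb (snd X K ≫ i).left hL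
  unfold AgPol.IsLambdaSheaf
  rw [← CubeConsLib.clA_eq_iff (HilbPolyLib.isInvertible_tensor (HilbPolyLib.isInvertible_tensor h2 h1) h4)
    (AmpleDevLib.isInvertible_pb _ hL), CubeConsLib.clA_tensor (HilbPolyLib.isInvertible_tensor h2 h1) h4,
    CubeConsLib.clA_tensor h2 h1, CubeConsLib.clA_one, zero_add, hm', ← CubeConsLib.P_eq hL, ← CubeConsLib.P_eq hL,
    ← CubeConsLib.P_eq hL]
  exact hm.symm

end Groth.Agent.S19768
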