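import Groth.Statements.S1977
import Groth.Agent.WEtFieldLib.Basic
-- import your own Groth.Agent.* helpers here

set_option autoImplicit false
universe u
open EtAlg

namespace Groth.Agent.S1977

open TensorProduct Groth.Agent

theorem weaklyEtale_range {K B A : Type u} [Field K] [CommRing B] [Algebra K B] [Algebra.WeaklyEtale K B]
    [CommRing A] [Algebra K A] (f : B →ₐ[K] A) : Algebra.WeaklyEtale K f.range := by
  let : Algebra B f.range := f.rangeRestrict.toRingHom.toAlgebra
  have : IsScalarTower K B f.range := IsScalarTower.of_algebraMap_eq' f.rangeRestrict.comp_algebraMap.symm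
  have : Algebra.IsEpi B f.range := Algebra.isEpi_of_surjective_algebraMap _ _ f.rangeRestrict_surjective
  exact WEtFieldLib.weaklyEtale_of_epi (B := B) _

theorem weaklyEtale_sup {K A : Type u} [Field K] [CommRing A] [Algebra K A] (S T : Subalgebra K A)
    [Algebra.WeaklyEtale K S] [Algebra.WeaklyEtale K T] : Algebra.WeaklyEtale K (S ⊔ T : Subalgebra K A) := by
  have : Algebra.WeaklyEtale K (S ⊗[K] T) := Algebra.WeaklyEtale.trans K S _
  have h := weaklyEtale_range (Algebra.TensorProduct.productMap S.val T.val)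
  rwa [Algebra.TensorProduct.productMap_range, Subalgebra.range_val, Subalgebra.range_val] at h

theorem weaklyEtale_sSup {K A : Type u} [Field K] [CommRing A] [Algebra K A] (s : Set (Subalgebra K A))
    (hne : s.Nonempty) (hd : DirectedOn (· ≤ ·) s) (hs : ∀ S ∈ s, Algebra.WeaklyEtale K S) :
    Algebra.WeaklyEtale K (sSup s : Subalgebra K A) := by
  refine ⟨inferInstance, ?_⟩
  have hmem : ∀ w : (sSup s : Subalgebra K A), ∃ S ∈ s, (w : A) ∈ S := fun ⟨w, hw⟩ => by
    have := hne.to_subtype
    have h := Subalgebra.coe_iSup_of_directed (K := fun S : s => (S : Subalgebra K A))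
      (fun a b => let ⟨c, hc, h1, h2⟩ := hd a a.2 b b.2; ⟨⟨c, hc⟩, h1, h2⟩)
    rw [← sSup_eq_iSup'] at h
    have hw' : w ∈ ((sSup s : Subalgebra K A) : Set A) := hw
    rw [h] at hw'
    simpa using hw'
  have key : ∀ z : (sSup s : Subalgebra K A) ⊗[K] (sSup s : Subalgebra K A), ∃ S, ∃ hS : S ∈ s, z ∈
      (Algebra.TensorProduct.map (Subalgebra.inclusion (le_sSup hS)) (Subalgebra.inclusion (le_sSup hS))).range := by
    intro z
    induction z with
    | zero => exact ⟨_, hne.choose_spec, zero_mem _⟩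
    | tmul a b =>
      obtain ⟨S, hS, ha⟩ := hmem a
      obtain ⟨T, hT, hb⟩ := hmem b
      obtain ⟨U, hU, hSU, hTU⟩ := hd S hS T hT
      exact ⟨U, hU, ⟨⟨_, hSU ha⟩ ⊗ₜ ⟨_, hTU hb⟩, rfl⟩⟩
    | add x y hx hy =>
      obtain ⟨S, hS, hx⟩ := hx
      obtain ⟨T, hT, hy⟩ := hy
      obtain ⟨U, hU, hSU, hTU⟩ := hd S hS T hT
      have up : ∀ (S : Subalgebra K A) (hS : S ∈ s) (h : S ≤ U),
          (Algebra.TensorProduct.map (Subalgebra.inclusion (le_sSup hS)) (Subalgebra.inclusion (le_sSup hS))).range ≤
          (Algebra.TensorProduct.map (Subalgebra.inclusion (le_sSup hU)) (Subalgebra.inclusion (le_sSup hU))).range := by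
        rintro S hS h _ ⟨w, rfl⟩
        refine ⟨Algebra.TensorProduct.map (Subalgebra.inclusion h) (Subalgebra.inclusion h) w, ?_⟩
        show ((Algebra.TensorProduct.map _ _).comp (Algebra.TensorProduct.map _ _)) w = _
        rw [← Algebra.TensorProduct.map_comp]
        rfl
      exact ⟨U, hU, add_mem (up S hS hSU hx) (up T hT hTU hy)⟩
  show (Algebra.TensorProduct.lmul' K (S := (sSup s : Subalgebra K A))).toRingHom.Flat
  let := (Algebra.TensorProduct.lmul' K (S := (sSup s : Subalgebra K A))).toRingHom.toAlgebra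
  refine AbsFlat.flat_of_forall_dvd (fun z => ?_) _
  obtain ⟨S, hS, w, rfl⟩ := key z
  have := hs S hS
  have : Algebra.WeaklyEtale K (S ⊗[K] S) := Algebra.WeaklyEtale.trans K S _
  obtain ⟨x, hx⟩ := WEtFieldLib.forall_dvd (K := K) w
  refine ⟨Algebra.TensorProduct.map (Subalgebra.inclusion (le_sSup hS)) (Subalgebra.inclusion (le_sSup hS)) x, ?_⟩
  simp only [AlgHom.toRingHom_eq_coe, RingHom.coe_coe, ← map_mul]
  exact congrArg _ hx

/-- Let K be a field and A a K-algebra. The supremum of the weakly etale K-subalgebras of A is itself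
weakly etale over K; it is therefore the largest weakly etale K-subalgebra of A. -/
theorem result (K : Type u) [Field K] (A : Type u) [CommRing A] [Algebra K A] :
    Algebra.WeaklyEtale K ↥(EtAlgD.maxWeaklyEtale K A) := by
  refine weaklyEtale_sSup _ ⟨⊥, ?_⟩ (fun S hS T hT => ?_) fun S hS => hS
  · show Algebra.WeaklyEtale K (⊥ : Subalgebra K A)
    rw [show (⊥ : Subalgebra K A) = (Algebra.ofId K A).range from rfl]
    exact weaklyEtale_range (Algebra.ofId K A)
  · have : Algebra.WeaklyEtale K S := hS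
    have : Algebra.WeaklyEtale K T := hT
    exact ⟨S ⊔ T, weaklyEtale_sup S T, le_sup_left, le_sup_right⟩

end Groth.Agent.S1977
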