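import Groth.Statements.S19770
import Groth.Agent.CubeConsLib.Theta

set_option autoImplicit false
universe u
open CategoryTheory MonoidalCategory CartesianMonoidalCategory MonObj GrpObj AlgebraicGeometry
open AbVar

namespace Groth.Agent.S19770

/-- Let X be an abelian variety over a field k (a proper, geometrically integral k-group scheme), L an
invertible O_X-module, i : K → X a closed immersion exhibiting K as K(L) (the maximal closed
subscheme over which the Mumford bundle m^*L ⊗ p_1^*L⁻¹ ⊗ p_2^*L⁻¹, restricted to X ×_k K, is the
inverse image of an invertible module on K, with its universal property), and B a k-group scheme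
with a homomorphism j : B → X that factors through i. Write M = j^*L. Then M ⊗ [-1]^*M ≅ O_B, where
[-1] : B → B is the inversion (existence of an isomorphism). (The published statement assumes k
algebraically closed and takes for B the reduced identity component of K(L), an abelian subvariety;
the argument — restrict the Mumford bundle to B × B and pull back along (1, -1) — applies to any
group scheme over k mapping homomorphically into K(L).) -/
theorem result (k : Type u) [Field k] (X : Over (Spec (CommRingCat.of k)))
    [GrpObj X] [IsProper X.hom] [GeometricallyIntegral X.hom] (L : X.left.Modules) (hL : PicF.IsInvertible L)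
    (K : Over (Spec (CommRingCat.of k))) (i : K ⟶ X) (hK : ThetaGrp.IsKL X L i)
    (B : Over (Spec (CommRingCat.of k))) [GrpObj B] (j : B ⟶ X) [IsMonHom j] (hj : ∃ y : B ⟶ K, y ≫ i = j) :
    Nonempty (CohB1.tensorMod ((Scheme.Modules.pullback j.left).obj L)
        ((Scheme.Modules.pullback ((𝟙 B)⁻¹ ≫ j).left).obj L) ≅ Coh.structureModule B.left) := by
  have hj' : CubeConsLib.MumfordZero hL j := (CubeConsLib.mumfordTriv_iff hL j).1 ((hK.univ B j).2 hj)
  have hinv : (𝟙 B)⁻¹ ≫ j = j⁻¹ := by rw [GrpObj.inv_comp, Category.id_comp]
  have e := congrArg (CubeConsLib.pullA (lift ((𝟙 B)⁻¹ ≫ j) (𝟙 B)).left) hj'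
  rw [map_add, CubeConsLib.pullA_P, CubeConsLib.pullA_P, CubeConsLib.pullA_P, MonObj.comp_mul, lift_fst,
    lift_snd_assoc, Category.id_comp, hinv, inv_mul_cancel, CubeConsLib.P_zero hL, CubeConsLib.P_eq hL, CubeConsLib.P_eq hL,
    ← CubeConsLib.clA_tensor, ← CubeConsLib.clA_one, CubeConsLib.clA_eq_iff] at e
  obtain ⟨e⟩ := e
  exact ⟨HilbPolyLib.swapIso _ _ ≪≫ HilbPolyLib.congrLeft ((Scheme.Modules.pullbackCongr (congrArg Over.Hom.left hinv)).app L) _ ≪≫ e.symm⟩

end Groth.Agent.S19770
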