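import Groth.Statements.S19778
import Groth.Agent.AwayApproxLib.Idem

set_option autoImplicit false
universe u
open TensorProduct
open CAlg

set_option linter.style.haveILetI false

namespace Groth.Agent.S19778

open Matrix LinearMap

/-- Base change of the image of an idempotent matrix. -/
theorem nonempty_baseChange_range {R C : Type u} [CommRing R] [CommRing C] [Algebra R C] {n : ℕ}
    (e : Matrix (Fin n) (Fin n) R) (he : e * e = e) :
    Module.Projective R (LinearMap.range (Matrix.toLin' e)) ∧
    Nonempty (C ⊗[R] LinearMap.range (Matrix.toLin' e) ≃ₗ[C] LinearMap.range (Matrix.toLin' (e.map (algebraMap R C)))) := by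
  classical
  set f := Matrix.toLin' e
  have hff : ∀ x, f (f x) = f x := fun x => by
    rw [← LinearMap.comp_apply, ← Matrix.toLin'_mul, he]
  let i := (LinearMap.range f).subtype
  let p := f.rangeRestrict
  have hpi : p ∘ₗ i = LinearMap.id := LinearMap.ext fun x => Subtype.ext (by
    obtain ⟨y, hy⟩ := x.2
    show f x.1 = x.1
    rw [← hy, hff])
  refine ⟨Module.Projective.of_split i p hpi, ?_⟩
  let κ := TensorProduct.piScalarRight R C C (Fin n)
  let h : C ⊗[R] LinearMap.range f →ₗ[C] (Fin n → C) := κ.toLinearMap ∘ₗ i.baseChange C
  have hcomm : ∀ z, κ (f.baseChange C z) = Matrix.toLin' (e.map (algebraMap R C)) (κ z) := fun z => by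
    induction z using TensorProduct.induction_on with
    | zero => simp
    | add a b ha hb => simp only [map_add, ha, hb]
    | tmul c x =>
      funext r
      simp [κ, f, Matrix.mulVec, dotProduct, Finset.sum_mul, mul_assoc, Algebra.smul_def]
  have hinj : Function.Injective h := by
    refine κ.injective.comp (fun x y hxy => ?_)
    have h1 := congrArg (p.baseChange C) hxy
    rwa [← LinearMap.comp_apply, ← LinearMap.baseChange_comp, hpi, LinearMap.baseChange_id, ← LinearMap.comp_apply,
      ← LinearMap.baseChange_comp, hpi, LinearMap.baseChange_id] at h1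
  have hrange : LinearMap.range h = LinearMap.range (Matrix.toLin' (e.map (algebraMap R C))) := by
    have e1 : i ∘ₗ p = f := rfl
    ext y
    constructor
    · rintro ⟨z, rfl⟩
      refine ⟨h z, ?_⟩
      show Matrix.toLin' _ (κ (i.baseChange C z)) = κ (i.baseChange C z)
      rw [← hcomm]
      congr 1
      rw [← LinearMap.comp_apply, ← LinearMap.baseChange_comp]
      congr 2
      exact LinearMap.ext fun x => congrArg Subtype.val (LinearMap.congr_fun hpi x)
    · rintro ⟨w, rfl⟩
      obtain ⟨w, rfl⟩ := κ.surjective w
      refine ⟨p.baseChange C w, ?_⟩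
      rw [← hcomm]
      show κ _ = κ ((i ∘ₗ p).baseChange C w)
      rw [LinearMap.baseChange_comp]
      rfl
  exact ⟨LinearEquiv.ofInjective h hinj ≪≫ₗ LinearEquiv.ofEq _ _ hrange⟩


/-- For general linear groups, in the case A[1/t] → Â[1/t], let A be a commutative ring and t ∈ A with
(A, tA) a Henselian pair and the t-power torsion of A bounded, let Â be the t-adic completion and
give Â[1/t] the A[1/t]-algebra structure of the canonical map. Then every finitely generated
projective Â[1/t]-module is the base change of a finitely generated projective A[1/t]-module. (The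
published statement is the bijection H¹(A[1/t], G) ≅ H¹(Â[1/t], G) for every quasi-affine smooth
group G; this row is the case of the general linear groups, stated as essential surjectivity of base
change on finitely generated projective modules of arbitrary rank.) -/
theorem result (A : Type u) [CommRing A]
    (t : A) [HenselianRing A (Ideal.span {t})]
    (hbd : ∃ N : ℕ, ∀ a : A, (∃ m : ℕ, t ^ m * a = 0) → t ^ N * a = 0)
    [Algebra (Localization.Away t) (Localization.Away (algebraMap A (AdicCompletion (Ideal.span {t}) A) t))]
    (halg : algebraMap (Localization.Away t) (Localization.Away (algebraMap A (AdicCompletion (Ideal.span {t}) A) t)) = Localization.awayMap (algebraMap A (AdicCompletion (Ideal.span {t}) A)) t)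
    (M' : Type u) [AddCommGroup M'] [Module (Localization.Away (algebraMap A (AdicCompletion (Ideal.span {t}) A) t)) M']
    [Module.Finite (Localization.Away (algebraMap A (AdicCompletion (Ideal.span {t}) A) t)) M'] [Module.Projective (Localization.Away (algebraMap A (AdicCompletion (Ideal.span {t}) A) t)) M'] :
    ∃ (M : Type u) (_ : AddCommGroup M) (_ : Module (Localization.Away t) M),
      Module.Finite (Localization.Away t) M ∧ Module.Projective (Localization.Away t) M ∧
      Nonempty ((Localization.Away (algebraMap A (AdicCompletion (Ideal.span {t}) A) t)) ⊗[Localization.Away t] M ≃ₗ[Localization.Away (algebraMap A (AdicCompletion (Ideal.span {t}) A) t)] M') := by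
  classical
  let C := AwayApproxLib.Cl t
  obtain ⟨n, p, i, -, -, hpi⟩ := Module.Finite.exists_comp_eq_id_of_projective C M'
  let P := LinearMap.toMatrix' (i ∘ₗ p)
  have hP : P * P = P := by
    rw [← LinearMap.toMatrix'_comp]
    congr 1
    refine LinearMap.ext fun x => ?_
    show i (p (i (p x))) = i (p x)
    rw [show p (i (p x)) = p x from LinearMap.congr_fun hpi (p x)]
  obtain ⟨e, U, he, ⟨U, rfl⟩, hU⟩ := AwayApproxLib.exists_idempotent t P hP
  obtain ⟨hproj, ⟨ε⟩⟩ := nonempty_baseChange_range (C := C) e he
  rw [show algebraMap (Localization.Away t) C = AwayApproxLib.pi t from halg] at ε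
  let L : (Fin n → C) ≃ₗ[C] (Fin n → C) := LinearEquiv.ofLinear (Matrix.toLin' (U : Matrix (Fin n) (Fin n) C))
    (Matrix.toLin' (↑U⁻¹ : Matrix (Fin n) (Fin n) C))
    (by rw [← Matrix.toLin'_mul, Units.mul_inv, Matrix.toLin'_one]) (by rw [← Matrix.toLin'_mul, Units.inv_mul, Matrix.toLin'_one])
  have hr : (LinearMap.range (Matrix.toLin' P)).map L.toLinearMap = LinearMap.range (Matrix.toLin' (e.map (AwayApproxLib.pi t))) := by
    rw [← LinearMap.range_comp]
    show LinearMap.range (Matrix.toLin' (U : Matrix (Fin n) (Fin n) C) ∘ₗ Matrix.toLin' P) = _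
    rw [← Matrix.toLin'_mul, hU, Matrix.toLin'_mul]
    exact LinearMap.range_comp_of_range_eq_top _ (LinearMap.range_eq_top.2 L.surjective)
  have hrP : LinearMap.range i = LinearMap.range (Matrix.toLin' P) := by
    rw [Matrix.toLin'_toMatrix']
    exact (LinearMap.range_comp_of_range_eq_top _ (LinearMap.range_eq_top.2 fun x => ⟨i x, LinearMap.congr_fun hpi x⟩)).symm
  have hinj : Function.Injective i := fun x y h => by
    have := congrArg p h
    rwa [← LinearMap.comp_apply, ← LinearMap.comp_apply, hpi] at this
  exact ⟨LinearMap.range (Matrix.toLin' e), inferInstance, inferInstance, Module.Finite.range _, hproj,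
    ⟨ε ≪≫ₗ ((L.submoduleMap _).trans (LinearEquiv.ofEq _ _ hr)).symm ≪≫ₗ (LinearEquiv.ofEq _ _ hrP).symm ≪≫ₗ
      (LinearEquiv.ofInjective i hinj).symm⟩⟩

end Groth.Agent.S19778
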