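import Groth.Statements.S19779
import Mathlib
import Groth.Agent.LaurentApproxLib.Lift
import Groth.Agent.PairHensLib.Flat
-- import your own Groth.Agent.* helpers here

set_option autoImplicit false
universe u
open Polynomial TensorProduct
open CAlg

namespace Groth.Agent.S19779

/-- For general linear groups, in the case R{t}[1/t] → R((t)), let R be a commutative ring, B = R{t} a
henselization of R[t] along (t), ψ : B → R[[t]] the R[t]-algebra map, L = B[1/t], and L' an
L-algebra identified with R((t)) compatibly with ψ. Then base change along L → L' is a bijection on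
isomorphism classes of finitely generated projective modules: two finitely generated projective
L-modules isomorphic over L' are isomorphic, and every finitely generated projective L'-module is
extended from one over L. (The published statement is the bijection H¹(R{t}[1/t], G) ≅ H¹(R((t)), G)
for every quasi-affine smooth group G; this row is the case of the general linear groups, stated for
finitely generated projective modules of arbitrary rank.) -/
theorem result (R : Type u) [CommRing R]
    (B : Type u) [CommRing B] [Algebra R[X] B] (hB : Hens2.IsPairHenselization R[X] (Ideal.span {(X : R[X])}) B)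
    (ψ : B →ₐ[R[X]] PowerSeries R)
    (L' : Type u) [CommRing L'] [Algebra (Localization.Away (algebraMap R[X] B X)) L'] (e : L' ≃+* LaurentSeries R)
    (he : ∀ b : B, e (algebraMap (Localization.Away (algebraMap R[X] B X)) L' (algebraMap B (Localization.Away (algebraMap R[X] B X)) b)) =
      HahnSeries.ofPowerSeries ℤ R (ψ b)) :
    (∀ (M N : Type u) [AddCommGroup M] [Module (Localization.Away (algebraMap R[X] B X)) M] [Module.Finite (Localization.Away (algebraMap R[X] B X)) M] [Module.Projective (Localization.Away (algebraMap R[X] B X)) M]
        [AddCommGroup N] [Module (Localization.Away (algebraMap R[X] B X)) N] [Module.Finite (Localization.Away (algebraMap R[X] B X)) N] [Module.Projective (Localization.Away (algebraMap R[X] B X)) N],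
        Nonempty (L' ⊗[Localization.Away (algebraMap R[X] B X)] M ≃ₗ[L'] L' ⊗[Localization.Away (algebraMap R[X] B X)] N) → Nonempty (M ≃ₗ[Localization.Away (algebraMap R[X] B X)] N)) ∧
    (∀ (M' : Type u) [AddCommGroup M'] [Module L' M'] [Module.Finite L' M'] [Module.Projective L' M'],
        ∃ (M : Type u) (_ : AddCommGroup M) (_ : Module (Localization.Away (algebraMap R[X] B X)) M),
          Module.Finite (Localization.Away (algebraMap R[X] B X)) M ∧ Module.Projective (Localization.Away (algebraMap R[X] B X)) M ∧
          Nonempty (L' ⊗[Localization.Away (algebraMap R[X] B X)] M ≃ₗ[L'] M')) := by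
  classical
  haveI : HenselianRing B (Ideal.span {algebraMap R[X] B X}) := by
    have h := hB.1
    rwa [Ideal.map_span, Set.image_singleton] at h
  let L := Localization.Away (algebraMap R[X] B X)
  let ε : L →+* LaurentSeries R := e.toRingHom.comp (algebraMap L L')
  have hψ : ∀ p : R[X], ψ (algebraMap R[X] B p) = (p : PowerSeries R) := fun p => by
    rw [ψ.commutes]; rfl
  let S : LaurentApproxLib.Setup R L :=
    { A := B
      t := algebraMap R[X] B X
      ψ := ψ.toRingHom
      ε := ε
      hε := he
      ht := by
        show ψ (algebraMap R[X] B X) = _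
        rw [hψ, Polynomial.coe_X]
      htu := IsLocalization.Away.algebraMap_isUnit _
      approx := fun f N => ⟨algebraMap R[X] B (f.trunc N), by
        show _ ∣ f - ψ (algebraMap R[X] B (f.trunc N))
        rw [hψ, PowerSeries.X_pow_dvd_iff]
        intro m hm
        rw [map_sub, Polynomial.coeff_coe, PowerSeries.coeff_trunc, if_pos hm, sub_self]⟩
      ker := fun a N h => by
        obtain ⟨x, hx⟩ := (PairHensLib.quotientMap_bijective hB N).2 (Ideal.Quotient.mk _ a)
        obtain ⟨p, rfl⟩ := Ideal.Quotient.mk_surjective x
        rw [Ideal.quotientMap_mk, Ideal.Quotient.eq, Ideal.map_pow, Ideal.map_span, Set.image_singleton,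
          Ideal.span_singleton_pow, Ideal.mem_span_singleton'] at hx
        obtain ⟨b, hb⟩ := hx
        have h1 : a = algebraMap R[X] B p - b * algebraMap R[X] B X ^ N := by rw [hb, sub_sub_cancel]
        have h2 : (PowerSeries.X : PowerSeries R) ^ N ∣ (p : PowerSeries R) := by
          rw [← hψ, ← sub_add_cancel (algebraMap R[X] B p) (b * algebraMap R[X] B X ^ N), ← h1, map_add]
          refine dvd_add h ?_
          rw [map_mul, map_pow, hψ, Polynomial.coe_X]
          exact dvd_mul_left _ _
        have h3 : (Polynomial.X : R[X]) ^ N ∣ p := by
          rw [Polynomial.X_pow_dvd_iff]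
          rw [PowerSeries.X_pow_dvd_iff] at h2
          intro d hd
          rw [← Polynomial.coeff_coe]
          exact h2 d hd
        rw [h1, ← map_pow]
        exact dvd_sub (map_dvd _ h3) (dvd_mul_left _ _)
      jac := fun a => by
        have h := Ideal.mem_jacobson_bot.1
          (HenselianRing.jac (R := B) (I := Ideal.span {algebraMap R[X] B X}) (Ideal.mem_span_singleton_self _)) a
        rwa [add_comm] at h
      surj := fun l => by
        obtain ⟨⟨a, ⟨_, k, rfl⟩⟩, h⟩ := IsLocalization.surj (Submonoid.powers (algebraMap R[X] B X)) l
        refine ⟨a, k, ?_⟩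
        rw [← map_pow]
        exact h }
  refine ⟨fun M N _ _ _ _ _ _ _ _ ⟨φ⟩ => LaurentApproxLib.injective_modules e S (fun l => rfl) φ, ?_⟩
  intro M' _ _ _ _
  haveI : HenselianRing S.A (Ideal.span {S.t}) := inferInstanceAs (HenselianRing B (Ideal.span {algebraMap R[X] B X}))
  exact LaurentApproxLib.surjective_projective e S (fun l => rfl) M'

end Groth.Agent.S19779
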