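import Groth.Statements.S9624
import Mathlib.RingTheory.Spectrum.Prime.Chevalley
import Mathlib.RingTheory.Flat.FaithfullyFlat.Algebra
import Mathlib.RingTheory.Localization.FractionRing
-- import your own Groth.Agent.* helpers here

set_option autoImplicit false
universe u
open CAlg

namespace Groth.Agent.S9624

open TensorProduct in
/-- Let k be a field, S a geometrically connected k-algebra (the spectrum of k' ⊗_k S is connected for
every field extension k'/k) and R any k-algebra. Then the map R → R ⊗_k S induces a bijection on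
idempotents: each idempotent of R ⊗_k S comes from exactly one idempotent of R. Here the test fields
range over field extensions in the universe of k; this is equivalent to the unrestricted notion,
since an algebraic closure of k suffices as a test. -/
theorem result {k R S : Type u} [Field k] [CommRing R] [CommRing S] [Algebra k R] [Algebra k S]
    (hS : ∀ (k' : Type u) [Field k'] [Algebra k k'], ConnectedSpace (PrimeSpectrum (k' ⊗[k] S)))
    (x : R ⊗[k] S) (hx : IsIdempotentElem x) :
    ∃! e : R, IsIdempotentElem e ∧ algebraMap R (R ⊗[k] S) e = x := by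
  classical
  let π : PrimeSpectrum (R ⊗[k] S) → PrimeSpectrum R := PrimeSpectrum.comap (algebraMap R (R ⊗[k] S))
  haveI : Nontrivial S := by
    haveI := hS k
    haveI : Nontrivial (k ⊗[k] S) := PrimeSpectrum.nonempty_iff_nontrivial.1 (hS k).toNonempty
    exact (Algebra.TensorProduct.lid k S).symm.toEquiv.nontrivial
  have hopen : IsOpenMap π := PrimeSpectrum.isOpenMap_comap_algebraMap_tensorProduct_of_field
  -- fibres are connected
  have hfib : ∀ P Q : PrimeSpectrum (R ⊗[k] S), π P = π Q → x ∈ P.asIdeal → x ∈ Q.asIdeal := by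
    intro P Q hPQ hP
    let p := π Q
    let κ := FractionRing (R ⧸ p.asIdeal)
    let ψ : R ⊗[k] S →ₐ[k] κ ⊗[k] S := Algebra.TensorProduct.map
      ((IsScalarTower.toAlgHom k (R ⧸ p.asIdeal) κ).comp (Ideal.Quotient.mkₐ k p.asIdeal)) (AlgHom.id k S)
    have hrange : ∀ T : PrimeSpectrum (R ⊗[k] S), π T = p → ∃ T', PrimeSpectrum.comap (ψ : R ⊗[k] S →+* κ ⊗[k] S) T' = T := by
      intro T hT
      let L := FractionRing ((R ⊗[k] S) ⧸ T.asIdeal)
      let g : R ⊗[k] S →ₐ[k] L :=
        (IsScalarTower.toAlgHom k _ L).comp (Ideal.Quotient.mkₐ k T.asIdeal)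
      have hker : T.asIdeal.comap (algebraMap R (R ⊗[k] S)) = p.asIdeal := congrArg PrimeSpectrum.asIdeal hT
      let gR : (R ⧸ p.asIdeal) →ₐ[k] L := Ideal.Quotient.liftₐ p.asIdeal (g.comp Algebra.TensorProduct.includeLeft) (fun a ha => by
        rw [← hker] at ha
        show algebraMap _ L (Ideal.Quotient.mk T.asIdeal (a ⊗ₜ[k] (1 : S))) = 0
        have : (a ⊗ₜ[k] (1 : S)) ∈ T.asIdeal := ha
        rw [Ideal.Quotient.eq_zero_iff_mem.2 this, map_zero])
      have hinj : Function.Injective gR := by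
        rw [injective_iff_map_eq_zero]
        intro r hr
        obtain ⟨a, rfl⟩ := Ideal.Quotient.mk_surjective r
        have h0 : algebraMap _ L (Ideal.Quotient.mk T.asIdeal (a ⊗ₜ[k] (1 : S))) = 0 := hr
        rw [map_eq_zero_iff _ (IsFractionRing.injective _ L), Ideal.Quotient.eq_zero_iff_mem] at h0
        rw [Ideal.Quotient.eq_zero_iff_mem, ← hker]
        exact h0
      let gκ : κ →ₐ[k] L := IsLocalization.liftAlgHom (M := nonZeroDivisors (R ⧸ p.asIdeal)) (f := gR) fun y =>
        IsUnit.mk0 _ ((map_ne_zero_iff _ hinj).2 (nonZeroDivisors.ne_zero y.2))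
      let Φ : κ ⊗[k] S →ₐ[k] L := Algebra.TensorProduct.lift gκ (g.comp Algebra.TensorProduct.includeRight) fun _ _ => Commute.all _ _
      have hΦ : Φ.comp ψ = g := by
        refine Algebra.TensorProduct.ext ?_ ?_
        · refine AlgHom.ext fun a => ?_
          simp only [AlgHom.comp_apply, Algebra.TensorProduct.includeLeft_apply, ψ, Φ, Algebra.TensorProduct.map_tmul,
            Algebra.TensorProduct.lift_tmul, AlgHom.coe_id, id_eq, map_one, mul_one]
          show IsLocalization.lift _ (algebraMap _ κ (Ideal.Quotient.mk p.asIdeal a)) = _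
          rw [IsLocalization.lift_eq]
          rfl
        · refine AlgHom.ext fun a => ?_
          simp [ψ, Φ]
      refine ⟨⟨RingHom.ker Φ, RingHom.ker_isPrime _⟩, PrimeSpectrum.ext (Ideal.ext fun z => ?_)⟩
      show Φ (ψ z) = 0 ↔ _
      rw [← AlgHom.comp_apply, hΦ]
      show algebraMap _ L (Ideal.Quotient.mk T.asIdeal z) = 0 ↔ _
      rw [map_eq_zero_iff _ (IsFractionRing.injective _ L), Ideal.Quotient.eq_zero_iff_mem]
    obtain ⟨P', hP'⟩ := hrange P hPQ
    obtain ⟨Q', hQ'⟩ := hrange Q rfl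
    rw [← hP'] at hP
    rw [← hQ']
    haveI := hS κ
    have hcl : IsClopen (PrimeSpectrum.zeroLocus {ψ x} : Set (PrimeSpectrum (κ ⊗[k] S))) :=
      PrimeSpectrum.isClopen_iff_zeroLocus.2 ⟨ψ x, hx.map ψ, rfl⟩
    have huniv := hcl.eq_univ ⟨P', (PrimeSpectrum.mem_zeroLocus _ _).2 (Set.singleton_subset_iff.2 hP)⟩
    have : Q' ∈ PrimeSpectrum.zeroLocus {ψ x} := huniv ▸ Set.mem_univ Q'
    exact (Set.singleton_subset_iff.1 ((PrimeSpectrum.mem_zeroLocus Q' _).1 this) : ψ x ∈ Q'.asIdeal)
  have hsurj : Function.Surjective π := by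
    haveI : Module.FaithfullyFlat R (R ⊗[k] S) := inferInstance
    exact PrimeSpectrum.comap_surjective_of_faithfullyFlat
  let D : Set (PrimeSpectrum (R ⊗[k] S)) := ↑(PrimeSpectrum.basicOpen x)
  have hD : IsClopen D := PrimeSpectrum.isClopen_iff.2 ⟨x, hx, rfl⟩
  have hcompl : (π '' D)ᶜ = π '' Dᶜ := by
    ext p
    constructor
    · intro hp
      obtain ⟨P, rfl⟩ := hsurj p
      exact ⟨P, fun hP => hp ⟨P, hP, rfl⟩, rfl⟩
    · rintro ⟨P, hP, rfl⟩ ⟨Q, hQ, hQP⟩
      exact hQ (hfib P Q hQP.symm (not_not.1 hP))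
  have hcl : IsClopen (π '' D) := ⟨⟨by rw [hcompl]; exact hopen _ hD.1.isOpen_compl⟩, hopen _ hD.2⟩
  have hpre : π ⁻¹' (π '' D) = D := by
    refine Set.Subset.antisymm ?_ (Set.subset_preimage_image _ _)
    rintro P ⟨Q, hQ, hQP⟩ hP
    exact hQ (hfib P Q hQP.symm hP)
  have hsame : ∀ {A : Type u} [CommRing A] (a b : A), IsIdempotentElem a → IsIdempotentElem b →
      (PrimeSpectrum.basicOpen a : Set (PrimeSpectrum A)) = PrimeSpectrum.basicOpen b → a = b := fun a b ha hb h =>
    congrArg Subtype.val (PrimeSpectrum.isIdempotentElemEquivClopens.injective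
      (a₁ := ⟨a, ha⟩) (a₂ := ⟨b, hb⟩) (SetLike.coe_injective h))
  obtain ⟨e, he, heD⟩ := PrimeSpectrum.isClopen_iff.1 hcl
  have hex : algebraMap R (R ⊗[k] S) e = x := hsame _ _ (he.map _) hx (by
    have : (PrimeSpectrum.basicOpen (algebraMap R (R ⊗[k] S) e) : Set _) = π ⁻¹' (PrimeSpectrum.basicOpen e : Set _) := rfl
    rw [this, ← heD, hpre])
  refine ⟨e, ⟨he, hex⟩, fun e' ⟨he', hex'⟩ => ?_⟩
  exact FaithfulSMul.algebraMap_injective R (R ⊗[k] S) (hex'.trans hex.symm)

end Groth.Agent.S9624
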