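import Groth.Statements.S19786
import Groth.Prelude.Def_ChGrp
import Mathlib
-- import your own Groth.Agent.* helpers here

set_option autoImplicit false
universe u
open CategoryTheory MonoidalCategory CartesianMonoidalCategory MonObj AlgebraicGeometry Opposite
open GIT

namespace Groth.Agent.S19786

open Opposite

section Gen

variable {S : Scheme.{u}} {G X : Over S} [GrpObj G] {a : AlgGrp.Action G X}

/-- Translation by a constant. -/
noncomputable abbrev mv (a : AlgGrp.Action G X) (c : 𝟙_ (Over S) ⟶ G) {T : Over S} (z : T ⟶ X) : T ⟶ X :=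
  lift (toUnit T ≫ c) z ≫ a.act

theorem comp_mv (c : 𝟙_ (Over S) ⟶ G) {T T' : Over S} (t : T' ⟶ T) (z : T ⟶ X) :
    t ≫ mv a c z = mv a c (t ≫ z) := by
  rw [mv, mv, ← Category.assoc t, comp_lift, ← Category.assoc t, comp_toUnit]

theorem mv_act (c : 𝟙_ (Over S) ⟶ G) (l l' : Red.Gm S ⟶ G) (hl : l' = (toUnit _ ≫ c)⁻¹ * l * (toUnit _ ≫ c))
    {T : Over S} (g : T ⟶ Red.Gm S) {Z : Over S} (b : AlgGrp.Action G Z) (z : T ⟶ Z) :
    mv b c (lift (g ≫ l') z ≫ b.act) = lift (g ≫ l) (mv b c z) ≫ b.act := by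
  rw [mv, mv, ← b.lift_mul_act, ← b.lift_mul_act, hl, MonObj.comp_mul, MonObj.comp_mul, GrpObj.comp_inv,
    ← Category.assoc, comp_toUnit, _root_.mul_assoc (toUnit T ≫ c)⁻¹, mul_inv_cancel_left]

/-- Fibre linearity, evaluated at points. -/
theorem evalFn_lift (B : GLinSh.LinBun G a) {U U' : X.left.Opens} {y : Γ(B.V.left, B.π.left ⁻¹ᵁ U)}
    {y' : Γ(B.V.left, B.π.left ⁻¹ᵁ U')} (hy : y ∈ B.atlas.chart U) (hy' : y' ∈ B.atlas.chart U')
    {T : Over S} (x₀ x₁ : T ⟶ X) (hU : x₀.left ⁻¹ᵁ U = ⊤) (hU' : x₁.left ⁻¹ᵁ U' = ⊤)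
    {T' : Over S} (t : T' ⟶ T) (p : T' ⟶ G) (hp : lift p (t ≫ x₀) ≫ a.act = t ≫ x₁) :
      ∃ C : Γ(T'.left, ⊤), ∀ (v : T' ⟶ B.V) (hv : v ≫ B.π = t ≫ x₀) (hpv : (lift p v ≫ B.lift.act) ≫ B.π = t ≫ x₁),
        HMNum.evalFn B.π y' (lift p v ≫ B.lift.act) (HMNum.top_le_preimage B.π hU' hpv) =
          C * HMNum.evalFn B.π y v (HMNum.top_le_preimage B.π hU hv) := by
  obtain ⟨c, hc⟩ := B.lift_linear U U' y y' hy hy'
  have hW : ⊤ ≤ (lift p (t ≫ x₀)).left ⁻¹ᵁ (a.act.left ⁻¹ᵁ U' ⊓ (snd G X).left ⁻¹ᵁ U) := by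
    change ⊤ ≤ (lift p (t ≫ x₀)).left ⁻¹ᵁ (a.act.left ⁻¹ᵁ U') ⊓ (lift p (t ≫ x₀)).left ⁻¹ᵁ ((snd G X).left ⁻¹ᵁ U)
    refine le_inf ?_ ?_
    · change ⊤ ≤ (lift p (t ≫ x₀) ≫ a.act).left ⁻¹ᵁ U'
      rw [hp]
      change ⊤ ≤ t.left ⁻¹ᵁ (x₁.left ⁻¹ᵁ U')
      rw [hU']; exact le_of_eq rfl
    · change ⊤ ≤ (lift p (t ≫ x₀) ≫ snd G X).left ⁻¹ᵁ U
      rw [lift_snd]
      change ⊤ ≤ t.left ⁻¹ᵁ (x₀.left ⁻¹ᵁ U)
      rw [hU]; exact le_of_eq rfl
  refine ⟨(lift p (t ≫ x₀)).left.appLE _ ⊤ hW c, fun v hv hpv => ?_⟩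
  have hz : lift p v ≫ (G ◁ B.π) = lift p (t ≫ x₀) := by rw [lift_whiskerLeft, hv]
  have hle : ⊤ ≤ (lift p v).left ⁻¹ᵁ GLinSh.liftOpen a B.π U U' := by
    change ⊤ ≤ (lift p v ≫ (G ◁ B.π)).left ⁻¹ᵁ (a.act.left ⁻¹ᵁ U' ⊓ (snd G X).left ⁻¹ᵁ U)
    rw [hz]; exact hW
  have h1 := congrArg ((lift p v).left.appLE _ ⊤ hle).hom hc
  rw [map_mul, ← CommRingCat.comp_apply, ← CommRingCat.comp_apply, ← CommRingCat.comp_apply,
    Scheme.Hom.appLE_comp_appLE, Scheme.Hom.appLE_comp_appLE, Scheme.Hom.appLE_comp_appLE] at h1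
  refine (Eq.trans ?_ h1).trans ?_
  · rfl
  · refine congrArg₂ (· * ·) ?_ ?_
    · exact appLE_congr (congrArg CommaMorphism.left hz) _ _ _ _
    · exact appLE_congr (congrArg CommaMorphism.left (lift_snd p v)) _ _ _ _
where
  appLE_congr {W Z : Scheme.{u}} {f g : W ⟶ Z} (e : f = g) (U : Z.Opens) (h : ⊤ ≤ f ⁻¹ᵁ U) (h' : ⊤ ≤ g ⁻¹ᵁ U)
      (z : Γ(Z, U)) : f.appLE U ⊤ h z = g.appLE U ⊤ h' z := by
    subst e; rfl

end Gen

theorem isMu_mv (k : Type u) [Field k] {G X : Over (Spec (CommRingCat.of k))} [GrpObj G]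
    {a : AlgGrp.Action G X} (B : GLinSh.LinBun G a) {x : 𝟙_ (Over (Spec (CommRingCat.of k))) ⟶ X}
    (c : 𝟙_ (Over (Spec (CommRingCat.of k))) ⟶ G) (l l' : Red.Gm (Spec (CommRingCat.of k)) ⟶ G) [IsMonHom l] [IsMonHom l']
    (hl : l' = (toUnit _ ≫ c)⁻¹ * l * (toUnit _ ≫ c)) {m : ℤ} (h : HMNum.IsMu B l' x m) :
    HMNum.IsMu B l (lift c x ≫ a.act) m := by
  obtain ⟨x₀, ⟨φ, hφx, hφy⟩, hfix, U, y, hy, hU, hwt⟩ := h
  have hc : ∀ (z : 𝟙_ (Over (Spec (CommRingCat.of k))) ⟶ X), lift c z ≫ a.act = mv a c z := fun z => by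
    rw [mv, toUnit_unique (toUnit _) (𝟙 _), Category.id_comp]
  refine ⟨mv a c x₀, ⟨⟨mv a c φ.1, (Magnet.MonAct.mem_eqvHom_iff _).mpr fun T g b t => ?_⟩, ?_, ?_⟩, ?_, ?_⟩
  · rw [comp_mv, comp_mv, (Magnet.MonAct.mem_eqvHom_iff φ.1).mp φ.2, Magnet.MonAct.lift_restrict_act,
      Magnet.MonAct.lift_restrict_act]
    exact mv_act c l l' hl g a _
  · rw [hc, ← hφx]
    exact comp_mv c _ φ.1
  · rw [HMNum.limitPt_eq, ← hφy, HMNum.limitPt_eq]
    exact comp_mv c _ φ.1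
  · intro T t g
    rw [comp_mv, ← mv_act c l l' hl, hfix T t g]
  · obtain ⟨U₁, hxU₁, y₁, hy₁⟩ := B.atlas.cover
      ((mv a c x₀).left.base (IsLocalRing.closedPoint k : Spec (CommRingCat.of k)))
    have hU₁ : (mv a c x₀).left ⁻¹ᵁ U₁ = ⊤ := by
      refine top_unique fun z _ => ?_
      haveI : Subsingleton (Spec (CommRingCat.of k)) := inferInstanceAs (Subsingleton (PrimeSpectrum k))
      change (mv a c x₀).left.base z ∈ U₁
      rw [show z = (IsLocalRing.closedPoint k : Spec (CommRingCat.of k)) from Subsingleton.elim (α := Spec (CommRingCat.of k)) _ _]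
      exact hxU₁
    refine ⟨U₁, y₁, hy₁, hU₁, fun T t g v hv hgv => ?_⟩
    obtain ⟨C, hC⟩ := evalFn_lift B hy hy₁ x₀ (mv a c x₀) hU hU₁ t (toUnit T ≫ c) (comp_mv c t x₀).symm
    let v' := lift (toUnit T ≫ c)⁻¹ v ≫ B.lift.act
    have hπ : ∀ (p : T ⟶ G) (w : T ⟶ B.V), (lift p w ≫ B.lift.act) ≫ B.π = lift p (w ≫ B.π) ≫ a.act := fun p w => by
      rw [Category.assoc, B.lift_π, ← Category.assoc, lift_whiskerLeft]
    have hv' : v' ≫ B.π = t ≫ x₀ := by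
      rw [hπ, hv, comp_mv, mv, ← a.lift_mul_act, inv_mul_cancel, a.lift_one_act]
    have e : lift (toUnit T ≫ c) v' ≫ B.lift.act = v := by
      rw [← B.lift.lift_mul_act, mul_inv_cancel, B.lift.lift_one_act]
    have hw : (lift (g ≫ l') v' ≫ B.lift.act) ≫ B.π = t ≫ x₀ := by
      rw [hπ, hv', hfix T t g]
    have e2 : lift (toUnit T ≫ c) (lift (g ≫ l') v' ≫ B.lift.act) ≫ B.lift.act = lift (g ≫ l) v ≫ B.lift.act := by
      conv_rhs => rw [← e]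
      exact mv_act c l l' hl g B.lift v'
    have h1 := hC v' hv' (by rw [e]; exact hv)
    have h2 := hC _ hw (by rw [e2]; exact hgv)
    simp only [e] at h1
    simp only [e2] at h2
    rw [h1, h2, hwt T t g v' hv' hw, mul_left_comm]


/-- Let k be an algebraically closed field, G an algebraic group over k (a smooth group scheme of finite
type over k) acting by σ on a scheme X proper over k, L a G-linearised line bundle on X in
total-space form, x a k-point of X, λ : 𝔾_m → G a one-parameter subgroup and α a k-point of G; let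
λ' be the conjugate one-parameter subgroup u ↦ α⁻¹·λ(u)·α. Then μ^L(σ(α, x), λ) = μ^L(x, λ'): the
numerical function (the limit of the orbit as u → 0 exists and 𝔾_m acts on the fibre of L over it
with exponent m) takes the same values at the translated point α·x with λ and at x with λ'. -/
theorem result (k : Type u) [Field k] [IsAlgClosed k]
    (G X : Over (Spec (CommRingCat.of k))) [GrpObj G] [Smooth G.hom] [QuasiCompact G.hom] [IsProper X.hom]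
    (a : AlgGrp.Action G X) (B : GLinSh.LinBun G a) (x : 𝟙_ (Over (Spec (CommRingCat.of k))) ⟶ X)
    (l : Red.Gm (Spec (CommRingCat.of k)) ⟶ G) [IsMonHom l] (g₀ : 𝟙_ (Over (Spec (CommRingCat.of k))) ⟶ G)
    (l' : Red.Gm (Spec (CommRingCat.of k)) ⟶ G) [IsMonHom l'] (hl' : l' = (toUnit _ ≫ g₀)⁻¹ * l * (toUnit _ ≫ g₀))
    (m : ℤ) : HMNum.IsMu B l (lift g₀ x ≫ a.act) m ↔ HMNum.IsMu B l' x m := by
  have key : ∀ (x : 𝟙_ (Over (Spec (CommRingCat.of k))) ⟶ X) (c : 𝟙_ (Over (Spec (CommRingCat.of k))) ⟶ G)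
      (l₁ l₂ : Red.Gm (Spec (CommRingCat.of k)) ⟶ G) (_ : IsMonHom l₁) (_ : IsMonHom l₂),
      l₂ = (toUnit _ ≫ c)⁻¹ * l₁ * (toUnit _ ≫ c) → HMNum.IsMu B l₂ x m → HMNum.IsMu B l₁ (lift c x ≫ a.act) m :=
    fun x c l₁ l₂ _ _ h hm => isMu_mv k B c l₁ l₂ h hm
  refine ⟨fun h => ?_, key x g₀ l l' ‹_› ‹_› hl'⟩
  have hback : l = (toUnit _ ≫ g₀⁻¹)⁻¹ * l' * (toUnit _ ≫ g₀⁻¹) := by
    rw [hl', GrpObj.comp_inv, inv_inv]
    group
  have := key (lift g₀ x ≫ a.act) g₀⁻¹ l' l ‹_› ‹_› hback h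
  rwa [← a.lift_mul_act, inv_mul_cancel, a.lift_one_act] at this

end Groth.Agent.S19786
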