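import Groth.Statements.S19785
import Groth.Agent.S19787
import Groth.Agent.S19786
-- import your own Groth.Agent.* helpers here

set_option autoImplicit false
universe u
open CategoryTheory MonoidalCategory CartesianMonoidalCategory MonObj AlgebraicGeometry Opposite
open GIT

namespace Groth.Agent.S19785

open Opposite

section Gen

variable {S : Scheme.{u}} {G X : Over S} [GrpObj G] [IsSeparated G.hom] (l : Red.Gm S ⟶ G) [IsMonHom l]
  (g₀ : 𝟙_ (Over S) ⟶ G) (f : HMNum.A1 S ⟶ G) (hf : HMNum.incl S ≫ f = l * (toUnit _ ≫ g₀) * l⁻¹)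

include hf in
theorem conj_equivariant {T : Over S} (g : T ⟶ Red.Gm S) (b : T ⟶ HMNum.A1 S) :
    (lift g b ≫ (Magnet.subAct S ℤ HMNum.plus).act) ≫ f = (g ≫ l) * (b ≫ f) * (g ≫ l)⁻¹ := by
  let α : HMNum.A1 S ⊗ Red.Gm S ⟶ G :=
    lift (snd _ _) (fst _ _) ≫ (Magnet.subAct S ℤ HMNum.plus).act ≫ f
  let β : HMNum.A1 S ⊗ Red.Gm S ⟶ G := (snd _ _ ≫ l) * (fst _ _ ≫ f) * (snd _ _ ≫ l)⁻¹
  have hinc : ∀ {R : Over S} (p : R ⟶ Red.Gm S), (p ≫ HMNum.incl S) ≫ f =
      (p ≫ l) * (toUnit R ≫ g₀) * (p ≫ l)⁻¹ := fun {R} p => by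
    rw [Category.assoc, hf, MonObj.comp_mul, MonObj.comp_mul, GrpObj.comp_inv, ← Category.assoc, comp_toUnit]
  have h : α = β := by
    refine MagnetLib.eq_of_map_eq HMNum.plus.subtype Subtype.val_injective (Magnet.hom_ext_lift₂ fun R h g => ?_)
    simp only [α, β, lift_whiskerRight_assoc, MonObj.comp_mul, GrpObj.comp_inv]
    simp only [← Category.assoc, comp_lift, lift_fst, lift_snd]
    rw [EqLiftLib.lift_subAct, ← MonObj.mul_comp, hinc, hinc, MonObj.mul_comp]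
    group
  have := congrArg (lift b g ≫ ·) h
  simp only [α, β, MonObj.comp_mul, GrpObj.comp_inv] at this
  simp only [← Category.assoc, comp_lift, lift_fst, lift_snd] at this
  exact this

omit [IsSeparated G.hom] in
include hf in
theorem unit_comp_f : η[HMNum.A1 S] ≫ f = g₀ := by
  have h1 : η[HMNum.A1 S] = (1 : 𝟙_ (Over S) ⟶ Red.Gm S) ≫ HMNum.incl S := by
    rw [MonObj.one_comp, Hom.one_def, toUnit_unique (toUnit _) (𝟙 _), Category.id_comp]
  rw [h1, Category.assoc, hf, MonObj.comp_mul, MonObj.comp_mul, GrpObj.comp_inv, MonObj.one_comp, inv_one,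
    _root_.one_mul, _root_.mul_one, ← Category.assoc, comp_toUnit, toUnit_unique (toUnit _) (𝟙 _), Category.id_comp]

include hf in
theorem conj_origin : (toUnit _ ≫ (HMNum.origin S ≫ f))⁻¹ * l * (toUnit _ ≫ (HMNum.origin S ≫ f)) = l := by
  have h := conj_equivariant l g₀ f hf (T := Red.Gm S) (𝟙 _)
    (toUnit _ ≫ HMNum.origin S)
  have h' : lift (𝟙 (Red.Gm S)) (toUnit _ ≫ HMNum.origin S) ≫ (Magnet.subAct S ℤ HMNum.plus).act =
      toUnit _ ≫ HMNum.origin S := by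
    have e : toUnit (Red.Gm S) ≫ HMNum.origin S =
        (1 : Red.Gm S ⟶ Magnet.AMonS S ↥(⊥ : AddSubmonoid ℤ)) ≫ Magnet.AMonS.faceMap S HMNum.isFace_bot := by
      rw [Hom.one_def, Category.assoc]; rfl
    rw [e]
    refine Eq.trans ((Magnet.MonAct.isEquivariant_iff _ _ _).mp
      (Magnet.isEquivariant_faceMapS S HMNum.isFace_bot) _ (𝟙 _) 1).symm ?_
    rw [← Category.assoc]
    congr 1
    refine AttrPtLib.chi_ext fun m => ?_
    have hm : m = 0 := Subtype.ext (AddSubmonoid.mem_bot.mp m.2)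
    rw [hm, AttrPtLib.chi_zero, AttrPtLib.chi_zero]
  rw [h', Category.id_comp, Category.assoc, eq_mul_inv_iff_mul_eq] at h
  rw [_root_.mul_assoc, ← h, inv_mul_cancel_left]

end Gen

theorem isMu_of_mem (k : Type u) [Field k] [IsAlgClosed k] {G X : Over (Spec (CommRingCat.of k))} [GrpObj G]
    [Smooth G.hom] [IsAffineHom G.hom] [IsProper X.hom] {a : AlgGrp.Action G X} (B : GLinSh.LinBun G a)
    {x : 𝟙_ (Over (Spec (CommRingCat.of k))) ⟶ X} (l : Red.Gm (Spec (CommRingCat.of k)) ⟶ G) [IsMonHom l]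
    (g₀ : 𝟙_ (Over (Spec (CommRingCat.of k))) ⟶ G) (f : HMNum.A1 (Spec (CommRingCat.of k)) ⟶ G)
    (hf : HMNum.incl _ ≫ f = l * (toUnit _ ≫ g₀) * l⁻¹) {m : ℤ} (h : HMNum.IsMu B l x m) :
    HMNum.IsMu B l (lift g₀ x ≫ a.act) m := by
  obtain ⟨y, hy, hw⟩ := h
  obtain ⟨φ, hφx, hφy⟩ := hy
  have hlim : HMNum.IsLimitPt a l (lift g₀ x ≫ a.act) (lift (HMNum.origin _ ≫ f) y ≫ a.act) := by
    refine ⟨⟨lift (fst _ _ ≫ f) φ.1 ≫ a.act, (Magnet.MonAct.mem_eqvHom_iff _).mpr fun T g b t => ?_⟩, ?_, ?_⟩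
    · simp only [← Category.assoc, comp_lift, lift_fst]
      rw [conj_equivariant l g₀ f hf g b, (Magnet.MonAct.mem_eqvHom_iff φ.1).mp φ.2, Magnet.MonAct.lift_restrict_act,
        Magnet.MonAct.lift_restrict_act, Magnet.MonAct.ofAction_act, ← a.lift_mul_act, ← a.lift_mul_act,
        inv_mul_cancel_right]
    · change lift (toUnit _ ≫ η[HMNum.A1 _]) (𝟙 _) ≫ lift (fst _ _ ≫ f) φ.1 ≫ a.act = _
      rw [← Category.assoc, comp_lift, ← Category.assoc, lift_fst, Category.assoc, unit_comp_f l g₀ f hf,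
        toUnit_unique (toUnit _) (𝟙 _), Category.id_comp, ← hφx]
      congr 2
    · rw [HMNum.limitPt_eq, ← hφy, HMNum.limitPt_eq]
      change lift _ (𝟙 _) ≫ lift (fst _ _ ≫ f) φ.1 ≫ a.act = _
      rw [← Category.assoc, comp_lift, ← Category.assoc, lift_fst, Category.assoc, toUnit_unique (toUnit _) (𝟙 _),
        Category.id_comp]
  have hyy : HMNum.IsMu B l y m := ⟨y, Groth.Agent.S19787.isLimitPt_self a l y
    (Groth.Agent.S19787.fixed_of_isLimitPt a l ⟨φ, hφx, hφy⟩), hw⟩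
  obtain ⟨z, hz, hzw⟩ := Groth.Agent.S19786.isMu_mv k B (HMNum.origin _ ≫ f) l l (conj_origin l g₀ f hf).symm hyy
  have := Groth.Agent.S19787.limit_unique a l hz (Groth.Agent.S19787.isLimitPt_self a l _
    (Groth.Agent.S19787.fixed_of_isLimitPt a l hlim))
  subst this
  exact ⟨_, hlim, hzw⟩


/-- Let k be an algebraically closed field, G a connected reductive algebraic group over k acting by σ
on a scheme X proper over k, L a G-linearised line bundle on X in total-space form, x a k-point of X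
and λ : 𝔾_m → G a one-parameter subgroup. Let γ be a k-point of G lying in the parabolic subgroup
P(λ), i.e. such that the morphism u ↦ λ(u)·γ·λ(u)⁻¹ from 𝔾_m to G extends to the affine line
(λ(u)γλ(u)⁻¹ has a limit in G as u → 0), and let λ' be the conjugate one-parameter subgroup u ↦
γ⁻¹·λ(u)·γ. Then μ^L(x, λ) = μ^L(x, λ'): the numerical function (the limit of λ(u)·x as u → 0 exists
and 𝔾_m acts on the fibre of L over it with exponent m) takes the same values at (x, λ) and at (x,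
λ'). (The published statement is for any reductive G; this row takes G connected.) -/
theorem result (k : Type u) [Field k] [IsAlgClosed k]
    (G X : Over (Spec (CommRingCat.of k))) [GrpObj G] (hG : Red.IsReductive G) [IsProper X.hom]
    (a : AlgGrp.Action G X) (B : GLinSh.LinBun G a) (x : 𝟙_ (Over (Spec (CommRingCat.of k))) ⟶ X)
    (l : Red.Gm (Spec (CommRingCat.of k)) ⟶ G) [IsMonHom l] (g₀ : 𝟙_ (Over (Spec (CommRingCat.of k))) ⟶ G)
    (hg₀ : ∃ f : HMNum.A1 (Spec (CommRingCat.of k)) ⟶ G, HMNum.incl (Spec (CommRingCat.of k)) ≫ f = l * (toUnit _ ≫ g₀) * l⁻¹)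
    (l' : Red.Gm (Spec (CommRingCat.of k)) ⟶ G) [IsMonHom l'] (hl' : l' = (toUnit _ ≫ g₀)⁻¹ * l * (toUnit _ ≫ g₀))
    (m : ℤ) : HMNum.IsMu B l x m ↔ HMNum.IsMu B l' x m := by
  haveI : IsAffineHom G.hom := hG.1
  haveI : Smooth G.hom := hG.2.1
  obtain ⟨f, hf⟩ := hg₀
  rw [← Groth.Agent.S19786.result k G X a B x l g₀ l' hl' m]
  refine ⟨isMu_of_mem k B l g₀ f hf, fun h => ?_⟩
  have hf' : HMNum.incl _ ≫ f⁻¹ = l * (toUnit _ ≫ g₀⁻¹) * l⁻¹ := by
    rw [GrpObj.comp_inv, hf, GrpObj.comp_inv]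
    group
  have := isMu_of_mem k B l g₀⁻¹ f⁻¹ hf' h
  rwa [← a.lift_mul_act, inv_mul_cancel, a.lift_one_act] at this

end Groth.Agent.S19785
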