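import Groth.Statements.S19789
import Groth.Agent.HMProjLib.TorusMu
import Groth.Agent.DiagRepLib.Scheme

set_option autoImplicit false
universe u
open CategoryTheory MonoidalCategory CartesianMonoidalCategory MonObj AlgebraicGeometry Opposite
open GIT

attribute [-instance] CategoryTheory.ReflQuiver.toQuiver CompletePartialOrder.toPartialOrder CompletePartialOrder.toOrderBot

namespace Groth.Agent.S19789

/-- Let k be an algebraically closed field, G a connected reductive algebraic group over k, i : T → G a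
maximal torus of G, X a scheme proper over k on which G acts, L an ample G-linearised line bundle on
X in total-space form, x a k-point of X, and λ₁, λ₂ one-parameter subgroups of T with pointwise
product λ₁λ₂ (a one-parameter subgroup of T, which is commutative). Then μ^L(x, i∘(λ₁λ₂)) ≤ μ^L(x,
i∘λ₁) + μ^L(x, i∘λ₂): whenever the numerical function (the limit of the orbit as u → 0 exists and
𝔾_m acts on the fibre of L over it with the stated exponent) takes the values m₁ at i∘λ₁, m₂ at i∘λ₂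
and m at i∘(λ₁λ₂), one has m ≤ m₁ + m₂. (The published statement is for any reductive G; this row
takes G connected.) -/
theorem result (k : Type u) [Field k] [IsAlgClosed k]
    (G X T : Over (Spec (CommRingCat.of k))) [GrpObj G] [GrpObj T] (hG : Red.IsReductive G)
    (i : T ⟶ G) [IsMonHom i] (hi : Red.IsMaximalTorus i) [IsProper X.hom]
    (a : AlgGrp.Action G X) (B : GLinSh.LinBun G a) (hB : HMNum.AmpleCover B)
    (x : 𝟙_ (Over (Spec (CommRingCat.of k))) ⟶ X)
    (l₁ l₂ : Red.Gm (Spec (CommRingCat.of k)) ⟶ T) [IsMonHom l₁] [IsMonHom l₂] [IsMonHom ((l₁ * l₂) ≫ i)]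
    (m₁ m₂ m : ℤ) (h₁ : HMNum.IsMu B (l₁ ≫ i) x m₁) (h₂ : HMNum.IsMu B (l₂ ≫ i) x m₂)
    (h : HMNum.IsMu B ((l₁ * l₂) ≫ i) x m) : m ≤ m₁ + m₂ := by
  haveI : Mono i := hi.2.1
  haveI : IsMonHom (l₁ * l₂) := Groth.Agent.DiagRep.isMonHom_of_comp_mono (l₁ * l₂) i
  obtain ⟨n, ℓ, hadd, hI⟩ := HMProjLib.exists_functionals B hi.2.2.1 i hB
  obtain ⟨I, hI⟩ := hI x
  obtain ⟨j, hj, hm, -⟩ := (hI (l₁ * l₂) m).1 h
  obtain ⟨j₁, -, hm₁, hle₁⟩ := (hI l₁ m₁).1 h₁
  obtain ⟨j₂, -, hm₂, hle₂⟩ := (hI l₂ m₂).1 h₂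
  have : (m : ℚ) ≤ ((m₁ + m₂ : ℤ) : ℚ) := by
    rw [hm, hadd, Int.cast_add, hm₁, hm₂]
    exact add_le_add (hle₁ j hj) (hle₂ j hj)
  exact_mod_cast this

end Groth.Agent.S19789
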