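import Groth.Statements.S19791
import Groth.Agent.S19786
import Groth.Prelude.Def_WittGrp
-- import your own Groth.Agent.* helpers here

set_option autoImplicit false
universe u
open CategoryTheory MonoidalCategory CartesianMonoidalCategory MonObj AlgebraicGeometry Opposite
open GIT

namespace Groth.Agent.S19791

theorem isMonHom_conj {S : Scheme.{u}} {G : Over S} [GrpObj G] (l : Red.Gm S ⟶ G) [IsMonHom l]
    (g : 𝟙_ (Over S) ⟶ G) : IsMonHom ((toUnit _ ≫ g)⁻¹ * l * (toUnit _ ≫ g)) := by
  have h : ∀ {T : Over S} (p : T ⟶ Red.Gm S), p ≫ ((toUnit _ ≫ g)⁻¹ * l * (toUnit _ ≫ g)) =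
      (toUnit T ≫ g)⁻¹ * (p ≫ l) * (toUnit T ≫ g) := fun {T} p => by
    rw [MonObj.comp_mul, MonObj.comp_mul, GrpObj.comp_inv, ← Category.assoc, comp_toUnit]
  refine WittGrp.isMonHom_of_comp_mul _ ?_ fun T x y => ?_
  · rw [h, MonObj.one_comp, _root_.mul_one, inv_mul_cancel]
  · rw [h, h, h, MonObj.mul_comp]
    group


/-- Let k be an algebraically closed field, G a connected reductive algebraic group over k acting by σ
on a scheme X proper over k, L an ample G-linearised line bundle on X in total-space form, and ‖·‖ a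
real-valued function on the one-parameter subgroups of G invariant under conjugation by k-points of
G (‖γ·λ·γ⁻¹‖ = ‖λ‖; nothing else is assumed of ‖·‖). For a k-point x of X consider the set of real
numbers μ^L(x, λ)/‖λ‖, where λ runs over the non-trivial one-parameter subgroups of G and μ^L(x, λ)
= m means that the limit of λ(u)·x as u → 0 exists and 𝔾_m acts on the fibre of L over it with
exponent m; its infimum is the number M^L(x). Then for every k-point g of G the sets attached to g·x
and to x coincide, so that M^L(g·x) = M^L(x). (The published statement is for any reductive G, not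
necessarily connected, acting on a projective variety; this row takes G connected and X any scheme
proper over k.) -/
theorem result (k : Type u) [Field k] [IsAlgClosed k]
    (G X : Over (Spec (CommRingCat.of k))) [GrpObj G] (hG : Red.IsReductive G) [IsProper X.hom]
    (a : AlgGrp.Action G X) (B : GLinSh.LinBun G a) (hB : HMNum.AmpleCover B)
    (nrm : (Red.Gm (Spec (CommRingCat.of k)) ⟶ G) → ℝ)
    (hnrm : ∀ (l : Red.Gm (Spec (CommRingCat.of k)) ⟶ G) [IsMonHom l] (g : 𝟙_ (Over (Spec (CommRingCat.of k))) ⟶ G),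
      nrm ((toUnit _ ≫ g) * l * (toUnit _ ≫ g)⁻¹) = nrm l)
    (x : 𝟙_ (Over (Spec (CommRingCat.of k))) ⟶ X) (g : 𝟙_ (Over (Spec (CommRingCat.of k))) ⟶ G) (q : ℝ) :
    (∃ (l : Red.Gm (Spec (CommRingCat.of k)) ⟶ G) (_ : IsMonHom l) (m : ℤ),
        l ≠ 1 ∧ HMNum.IsMu B l (lift g x ≫ a.act) m ∧ q = (m : ℝ) / nrm l) ↔
      ∃ (l : Red.Gm (Spec (CommRingCat.of k)) ⟶ G) (_ : IsMonHom l) (m : ℤ),
        l ≠ 1 ∧ HMNum.IsMu B l x m ∧ q = (m : ℝ) / nrm l := by
  haveI : IsAffineHom G.hom := hG.1
  haveI : Smooth G.hom := hG.2.1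
  constructor
  · rintro ⟨l, hl, m, hne, hmu, rfl⟩
    haveI : IsMonHom ((toUnit _ ≫ g)⁻¹ * l * (toUnit _ ≫ g)) := isMonHom_conj l g
    refine ⟨_, inferInstance, m, fun h => hne ?_,
      (Groth.Agent.S19786.result k G X a B x l g _ rfl m).1 hmu, ?_⟩
    · rwa [_root_.mul_assoc, inv_mul_eq_one, eq_comm, mul_eq_right] at h
    · rw [show nrm ((toUnit _ ≫ g)⁻¹ * l * (toUnit _ ≫ g)) = nrm l from by
        have := hnrm l g⁻¹
        rw [GrpObj.comp_inv, inv_inv] at this
        exact this]
  · rintro ⟨l, hl, m, hne, hmu, rfl⟩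
    haveI : IsMonHom ((toUnit _ ≫ g) * l * (toUnit _ ≫ g)⁻¹) := by
      have := isMonHom_conj l g⁻¹
      rwa [GrpObj.comp_inv, inv_inv] at this
    refine ⟨_, inferInstance, m, fun h => hne ?_,
      (Groth.Agent.S19786.result k G X a B x ((toUnit _ ≫ g) * l * (toUnit _ ≫ g)⁻¹) g l (by group) m).2 hmu, ?_⟩
    · rwa [mul_inv_eq_one, mul_eq_left] at h
    · rw [hnrm l g]

end Groth.Agent.S19791
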