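import Groth.Statements.S19797
import Groth.Agent.CastelBiratLib.Bridge
import Groth.Agent.CurveH0Lib.Smooth

set_option autoImplicit false
universe u
open CategoryTheory CategoryTheory.Limits AlgebraicGeometry Opposite
open Curves

namespace Groth.Agent.S19797
attribute [local instance] CurveDualLib.algFF

/-- Let X be a smooth projective curve of genus g over an algebraically closed field k of characteristic
0 (integral, proper over k, of dimension one, all local rings regular) and ψ : X ⟶ P^r_k a
k-morphism which is non-degenerate (every nonzero global section of O(1) pulls back to a nonzero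
section of ψ^*O(1)), with deg ψ^*O(1) = 2r + c for some 0 ≤ c ≤ r - 2; equivalently ψ is the map of
a base-point-free linear system of dimension r and degree 2r + c. Suppose ψ is birational onto its
image: ψ = φ ≫ j with j : Y ⟶ P^r_k an integral closed subscheme and φ : X ⟶ Y restricting to an
isomorphism over a nonempty open subset of Y. Then g ≤ r + 2c + 1. (The published statement adds
that in the case g = r + 2c + 1 the curve is trigonal when c is positive and the system is canonical
when c = 0; that refinement is not stated here.) -/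
theorem result (k : Type u) [Field k] [IsAlgClosed k] [CharZero k] (X : Scheme.{u}) [X.Over (Spec (CommRingCat.of k))]
    [IsIntegral X] [IsProper (X ↘ (Spec (CommRingCat.of k)))] (hdim : topologicalKrullDim X = 1)
    (hreg : ∀ x : X, IsRegularLocalRing (X.presheaf.stalk x))
    (r c : ℕ) (hc : c + 2 ≤ r)
    (Y : Scheme.{u}) [IsIntegral Y] (j : Y ⟶ CohB1.ProjSpace r k) [IsClosedImmersion j] (φ : X ⟶ Y)
    (hφ : φ ≫ j ≫ CohB1.ProjSpace.toSpec r k = X ↘ Spec (CommRingCat.of k))
    (hbir : ∃ U : Y.Opens, (U : Set Y).Nonempty ∧ IsIso (φ ∣_ U))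
    (hnd : ∀ s : LinSer.Sect (CohB1.ProjSpace r k) (Twist.twistProjSpace r k 1), s ≠ 0 → OmegaSh.pullSect (φ ≫ j) (Twist.twistProjSpace r k 1) ⊤ s ≠ 0)
    (hdeg : Curv2.deg k X ((Scheme.Modules.pullback (φ ≫ j)).obj (Twist.twistProjSpace r k 1)) 1 = 2 * r + c) :
    Curv2.genus k X ≤ (r : ℤ) + 2 * c + 1 := by
  classical
  haveI := CurveH0Lib.smooth_of_regular k (X ↘ Spec (CommRingCat.of k)) hreg
  let g := φ ≫ j
  have hg : g ≫ CohB1.ProjSpace.toSpec r k = X ↘ Spec (CommRingCat.of k) := by rw [Category.assoc]; exact hφ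
  obtain ⟨U, hU, hUi⟩ := hbir
  haveI := hUi
  have hV : ((φ ⁻¹ᵁ U : X.Opens) : Set X).Nonempty := by
    obtain ⟨u, hu⟩ := hU
    obtain ⟨x, hx⟩ := (φ ∣_ U).surjective ⟨u, hu⟩
    exact ⟨_, x.2⟩
  have hinj : Set.InjOn g (φ ⁻¹ᵁ U : X.Opens) := by
    intro x hx y hy h
    have h1 : φ x = φ y := j.isClosedEmbedding.injective (by simpa [g] using h)
    have h2 := (φ ∣_ U).isOpenEmbedding.injective (a₁ := ⟨x, hx⟩) (a₂ := ⟨y, hy⟩) (by
      simp only [morphismRestrict_base]
      exact Subtype.ext h1)
    exact congrArg Subtype.val h2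
  obtain ⟨E, hE, hbpf, hbirat⟩ := CastelBiratLib.exists_birat_div (k := k) hdim hreg g hg _ hV hinj
  obtain ⟨C, hCd, hC⟩ := CurveH0Lib.LinStable.exists_canonical_hasDiv (k := k) hdim
  have hK := CurveDualLib.isFunctionField (k := k) (X := X) hdim
  have hgen := CurveDualLib.genus_eq (k := k) (X := X) hdim
  have hr : r + 1 ≤ FunFld.ell E := by
    rw [← CurveH0Lib.LinStable.h0_eq_ell hdim hE]
    exact CurveCoverLib.le_h0_of_nondegenerate g hg hnd
  have h0s := RRVanLib.finrank_h0_structure (k := k) (X := X)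
  rw [hE.deg hdim h0s] at hdeg
  obtain ⟨r', hr'⟩ : ∃ r', FunFld.ell E = r' + 1 := ⟨FunFld.ell E - 1, by omega⟩
  obtain ⟨hrr, hcl⟩ := CurveH0Lib.LinStable.estimate hdim hC E (by omega)
  rcases Nat.eq_zero_or_pos (FunFld.ell (C - E)) with hz | hp
  · omega
  have hcl' := hcl hp
  have h3 := CastelBiratLib.three_mul_le_ell_two hK hC hbpf hbirat hr' (by omega) (by rw [hgen]; omega)
  obtain ⟨hrr2, hcl2⟩ := CurveH0Lib.LinStable.estimate hdim hC (2 • E) (by omega)
  rw [Groth.Agent.FFLib.deg_nsmul] at hrr2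
  rcases Nat.eq_zero_or_pos (FunFld.ell (C - 2 • E)) with hz2 | hp2
  · push_cast at hrr2
    omega
  · have := hcl2 hp2
    push_cast at hrr2
    omega

end Groth.Agent.S19797
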