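import Groth.Statements.S19799
import Groth.Agent.FinAlgLib.Split
import Mathlib.RingTheory.TensorProduct.Pi
import Mathlib.RingTheory.TensorProduct.Maps

set_option autoImplicit false
universe u v w
open scoped TensorProduct
open CAlg

namespace Groth.Agent.S19799

/-- Let k be an algebraically closed field and A, B commutative k-algebras, each finite-dimensional as a
k-vector space. Then reduction commutes with tensor products: the kernel of the canonical surjection
A ⊗_k B ⟶ (A/nilradical A) ⊗_k (B/nilradical B) equals the nilradical of A ⊗_k B, so that this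
surjection induces an isomorphism (A ⊗_k B)_red ≅ A_red ⊗_k B_red and in particular A_red ⊗_k B_red
is reduced. -/
theorem result (k : Type u) [Field k]
    [IsAlgClosed k] (A : Type v) [CommRing A] [Algebra k A] [Module.Finite k A]
    (B : Type w) [CommRing B] [Algebra k B] [Module.Finite k B] :
    RingHom.ker (Algebra.TensorProduct.map (Ideal.Quotient.mkₐ k (nilradical A))
      (Ideal.Quotient.mkₐ k (nilradical B))).toRingHom = nilradical (A ⊗[k] B) := by
  classical
  have := Fintype.ofFinite (B →ₐ[k] k)
  let eA : (A ⧸ nilradical A) ≃ₐ[k] ((A →ₐ[k] k) → k) :=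
    (Ideal.quotientEquivAlgOfEq k FinAlgLib.ker_ev.symm).trans
      (Ideal.quotientKerAlgEquivOfSurjective FinAlgLib.ev_surjective)
  let eB : (B ⧸ nilradical B) ≃ₐ[k] ((B →ₐ[k] k) → k) :=
    (Ideal.quotientEquivAlgOfEq k FinAlgLib.ker_ev.symm).trans
      (Ideal.quotientKerAlgEquivOfSurjective FinAlgLib.ev_surjective)
  let e := (Algebra.TensorProduct.congr eA eB).trans
    ((Algebra.TensorProduct.piScalarRight k k ((A →ₐ[k] k) → k) (B →ₐ[k] k)).restrictScalars k)
  have hred : IsReduced ((A ⧸ nilradical A) ⊗[k] (B ⧸ nilradical B)) :=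
    isReduced_of_injective e e.injective
  have hsA : Function.Surjective (Ideal.Quotient.mkₐ k (nilradical A)) := Ideal.Quotient.mkₐ_surjective k _
  have hsB : Function.Surjective (Ideal.Quotient.mkₐ k (nilradical B)) := Ideal.Quotient.mkₐ_surjective k _
  refine le_antisymm ?_ fun x hx => ?_
  · show RingHom.ker (Algebra.TensorProduct.map (Ideal.Quotient.mkₐ k (nilradical A))
      (Ideal.Quotient.mkₐ k (nilradical B))) ≤ _
    rw [Algebra.TensorProduct.map_ker _ _ hsA hsB]
    refine sup_le (Ideal.map_le_iff_le_comap.2 fun a ha => ?_) (Ideal.map_le_iff_le_comap.2 fun b hb => ?_)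
    · rw [Ideal.mem_comap, mem_nilradical]
      exact (mem_nilradical.1 (Ideal.Quotient.eq_zero_iff_mem.1 ha)).map _
    · rw [Ideal.mem_comap, mem_nilradical]
      exact (mem_nilradical.1 (Ideal.Quotient.eq_zero_iff_mem.1 hb)).map _
  · exact RingHom.mem_ker.2 ((mem_nilradical.1 hx).map _).eq_zero

end Groth.Agent.S19799
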