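import Groth.Statements.S19802
import Groth.Agent.CurveFFLib.DoubleUniq
import Groth.Agent.FFLib.CastelnuovoLocal
import Groth.Agent.CurveH0Lib.Smooth
import Groth.Agent.CurveH0Lib.LinStable
-- import your own Groth.Agent.* helpers here

set_option autoImplicit false
universe u
open CategoryTheory CategoryTheory.Limits AlgebraicGeometry Opposite
open Curves

namespace Groth.Agent.S19802

attribute [local instance] CurveDualLib.algFF

theorem stalkMap_mem {A B C : Scheme.{u}} {h : A ⟶ B} {g : B ⟶ C} {f : A ⟶ C} (e : h ≫ g = f) (x : A)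
    (b : C.presheaf.stalk (f x)) : ∃ c, h.stalkMap x c = f.stalkMap x b := by
  subst e
  exact ⟨g.stalkMap (h x) b, (congrArg (fun φ => φ b) (Scheme.Hom.stalkMap_comp h g x)).symm⟩

section Image

variable {k : Type u} [Field k] {X Y : Scheme.{u}} [X.Over (Spec (CommRingCat.of k))]
  [Y.Over (Spec (CommRingCat.of k))] [IsIntegral X] [IsIntegral Y]
  [Smooth (X ↘ Spec (CommRingCat.of k))] [Smooth (Y ↘ Spec (CommRingCat.of k))]
  (hX : topologicalKrullDim X = 1) (hY : topologicalKrullDim Y = 1) {f : X ⟶ Y}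
  {ψ : Y.functionField →ₐ[k] X.functionField}
  (hψ : CurveFFLib.genPt X ≫ f = Spec.map (CommRingCat.ofHom ψ.toRingHom) ≫ CurveFFLib.genPt Y)

omit [Smooth (X ↘ Spec (CommRingCat.of k))] [Smooth (Y ↘ Spec (CommRingCat.of k))] in
include hψ in
theorem algHom_algebraMap (x : X) (b : Y.presheaf.stalk (f x)) :
    ψ (algebraMap (Y.presheaf.stalk (f x)) Y.functionField b) =
      algebraMap (X.presheaf.stalk x) X.functionField (f.stalkMap x b) := by
  have hsq := f.stalkSpecializes_stalkMap (genericPoint X) x ((genericPoint_spec X).specializes trivial)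
  have hst := CurveFFLib.stalkMap_of_genPt hψ
  have h1 := congrArg (fun φ : Y.presheaf.stalk (f x) ⟶ X.functionField => φ b) hsq
  have h2 := congrArg (fun φ : Y.functionField ⟶ X.functionField =>
    φ (algebraMap (Y.presheaf.stalk (f x)) Y.functionField b)) hst
  refine h2.symm.trans (Eq.trans ?_ h1)
  change f.stalkMap (genericPoint X) _ = f.stalkMap (genericPoint X) _
  congr 1
  exact TopCat.Presheaf.stalkSpecializes_comp_apply Y.presheaf _ _ b

include hψ in
theorem ptPlace_le_iff {x : X} (hx : IsClosed ({x} : Set X)) (hfx : IsClosed ({f x} : Set Y)) (z : Y.functionField) :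
    (CurveDualLib.ptPlace (k := k) hX hx).1 (ψ z) ≤ 1 ↔ (CurveDualLib.ptPlace (k := k) hY hfx).1 z ≤ 1 := by
  constructor
  · intro h
    by_contra hz
    rw [not_le] at hz
    have hz0 : z ≠ 0 := fun e => by rw [e, map_zero] at hz; exact absurd hz not_lt_zero
    have hinv : (CurveDualLib.ptPlace (k := k) hY hfx).1 z⁻¹ < 1 := by
      rw [map_inv₀]; exact inv_lt_one_of_one_lt₀ hz
    obtain ⟨b, hb⟩ := (CurveDualLib.ptVal_le_one_iff (k := k) hY hfx z⁻¹).1 hinv.le
    rw [← hb] at hinv
    have hmem := (CurveDualLib.ptVal_lt_one_iff (k := k) hY hfx b).1 hinv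
    have hmem' : f.stalkMap x b ∈ IsLocalRing.maximalIdeal (X.presheaf.stalk x) := by
      rw [IsLocalRing.mem_maximalIdeal, mem_nonunits_iff] at hmem ⊢
      exact fun hu => hmem ((isUnit_map_iff (f.stalkMap x).hom b).1 hu)
    have h2 : (CurveDualLib.ptPlace (k := k) hX hx).1 (ψ z⁻¹) < 1 := by
      rw [← hb, algHom_algebraMap hψ]
      exact (CurveDualLib.ptVal_lt_one_iff (k := k) hX hx _).2 hmem'
    have h3 := mul_lt_one_of_nonneg_of_lt_one_left zero_le h2 h
    rw [← map_mul, ← map_mul, inv_mul_cancel₀ hz0, map_one, map_one] at h3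
    exact lt_irrefl _ h3
  · intro h
    obtain ⟨b, rfl⟩ := (CurveDualLib.ptVal_le_one_iff (k := k) hY hfx z).1 h
    rw [algHom_algebraMap hψ]
    exact (CurveDualLib.ptVal_le_one_iff (k := k) hX hx _).2 ⟨_, rfl⟩

end Image

/-- Let F be a smooth projective curve over an algebraically closed field k of characteristic 0
(integral, proper over k, of dimension one, all local rings regular) of genus g = 4γ + 1 with γ ≥ 1,
and let f_i : F ⟶ P_i (i = 1, 2) be two k-morphisms, finite and flat of constant rank 2, onto smooth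
projective curves P_i of genus γ_i ≤ γ (two involutions of F with quotients of genus at most γ)
which are not isomorphic as covers: there is no k-isomorphism e : P₁ ≅ P₂ with f₁ ≫ e = f₂ (the
involutions are distinct). Then γ₁ = γ₂ = γ and the morphism F ⟶ P₁ ×_k P₂ induced by f₁ and f₂ is a
closed immersion. (The published statement also says that both P_i are hyperelliptic and identifies
the linear system of the image; those clauses are not part of this row.) -/
theorem result (k : Type u) [Field k] [IsAlgClosed k] [CharZero k] (X : Scheme.{u}) [X.Over (Spec (CommRingCat.of k))]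
    [IsIntegral X] [IsProper (X ↘ (Spec (CommRingCat.of k)))] (hdim : topologicalKrullDim X = 1)
    (hreg : ∀ x : X, IsRegularLocalRing (X.presheaf.stalk x))
    (γ : ℕ) (hγ : 1 ≤ γ) (hg : Curv2.genus k X = 4 * γ + 1)
    (P₁ : Scheme.{u}) [P₁.Over (Spec (CommRingCat.of k))] [IsIntegral P₁] [IsProper (P₁ ↘ (Spec (CommRingCat.of k)))]
    (hdim₁ : topologicalKrullDim P₁ = 1) (hreg₁ : ∀ y : P₁, IsRegularLocalRing (P₁.presheaf.stalk y)) (hγ₁ : Curv2.genus k P₁ ≤ γ)
    (P₂ : Scheme.{u}) [P₂.Over (Spec (CommRingCat.of k))] [IsIntegral P₂] [IsProper (P₂ ↘ (Spec (CommRingCat.of k)))]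
    (hdim₂ : topologicalKrullDim P₂ = 1) (hreg₂ : ∀ y : P₂, IsRegularLocalRing (P₂.presheaf.stalk y)) (hγ₂ : Curv2.genus k P₂ ≤ γ)
    (f₁ : X ⟶ P₁) (hf₁ : f₁ ≫ (P₁ ↘ Spec (CommRingCat.of k)) = X ↘ Spec (CommRingCat.of k))
    [IsFinite f₁] [Flat f₁] (hr₁ : ∀ y : P₁, Scheme.Hom.finrank f₁ y = 2)
    (f₂ : X ⟶ P₂) (hf₂ : f₂ ≫ (P₂ ↘ Spec (CommRingCat.of k)) = X ↘ Spec (CommRingCat.of k))
    [IsFinite f₂] [Flat f₂] (hr₂ : ∀ y : P₂, Scheme.Hom.finrank f₂ y = 2)
    (hne : ¬ ∃ e : P₁ ≅ P₂, e.hom ≫ (P₂ ↘ Spec (CommRingCat.of k)) = (P₁ ↘ Spec (CommRingCat.of k)) ∧ f₁ ≫ e.hom = f₂) :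
    Curv2.genus k P₁ = γ ∧ Curv2.genus k P₂ = γ ∧
      IsClosedImmersion (pullback.lift f₁ f₂ (hf₁.trans hf₂.symm) :
        X ⟶ pullback (P₁ ↘ Spec (CommRingCat.of k)) (P₂ ↘ Spec (CommRingCat.of k))) := by
  classical
  haveI := CurveH0Lib.smooth_of_regular k (X ↘ Spec (CommRingCat.of k)) hreg
  haveI := CurveH0Lib.smooth_of_regular k (P₁ ↘ Spec (CommRingCat.of k)) hreg₁
  haveI := CurveH0Lib.smooth_of_regular k (P₂ ↘ Spec (CommRingCat.of k)) hreg₂
  have e₁ := PlaneCurveLib.gen_to_gen (k := k) hdim hdim₁ f₁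
  have e₂ := PlaneCurveLib.gen_to_gen (k := k) hdim hdim₂ f₂
  obtain ⟨ψ₁, h₁⟩ := CurveFFLib.exists_algHom_of_hom (k := k) hf₁ e₁
  obtain ⟨ψ₂, h₂⟩ := CurveFFLib.exists_algHom_of_hom (k := k) hf₂ e₂
  have hK := CurveDualLib.isFunctionField (k := k) hdim
  have hK₁ := CurveDualLib.isFunctionField (k := k) hdim₁
  have hK₂ := CurveDualLib.isFunctionField (k := k) hdim₂
  have hn₁ := (CurveFFLib.finrank_gen (k := k) hdim hdim₁ f₁ h₁).trans (hr₁ _)
  have hn₂ := (CurveFFLib.finrank_gen (k := k) hdim hdim₂ f₂ h₂).trans (hr₂ _)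
  have hr : ψ₁.fieldRange ≠ ψ₂.fieldRange := fun heq => by
    haveI : IsLocallyNoetherian P₁ := LocallyOfFiniteType.isLocallyNoetherian (P₁ ↘ Spec (CommRingCat.of k))
    haveI : IsLocallyNoetherian P₂ := LocallyOfFiniteType.isLocallyNoetherian (P₂ ↘ Spec (CommRingCat.of k))
    refine hne (CurveFFLib.exists_iso_of_range_eq (P₁ ↘ Spec (CommRingCat.of k)) (P₂ ↘ Spec (CommRingCat.of k)) hdim₁.le
      (HurwitzLib.isNormalScheme_of_smooth (k := k)) hdim₂.le (HurwitzLib.isNormalScheme_of_smooth (k := k))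
      f₁ f₂ (hf₁.trans hf₂.symm) e₁ e₂ ?_)
    rw [CurveFFLib.stalkMap_of_genPt h₁, CurveFFLib.stalkMap_of_genPt h₂]
    ext z
    exact SetLike.ext_iff.1 heq z
  have hgK := CurveDualLib.genus_eq (k := k) hdim
  have hgK₁ := CurveDualLib.genus_eq (k := k) hdim₁
  have hgK₂ := CurveDualLib.genus_eq (k := k) hdim₂
  have hsum : 2 * FunFld.genus k P₁.functionField + 2 * FunFld.genus k P₂.functionField + 1 =
      FunFld.genus k X.functionField := by
    by_contra hlt
    exact hr (FFLib.fieldRange_eq_of_bound hK hK₁ hK₂ (by omega) ψ₁ ψ₂ hn₁ hn₂)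
  have key₁ : Module.finrank ψ₁.fieldRange X.functionField = 2 := by
    letI := ψ₁.toRingHom.toAlgebra
    exact (Algebra.finrank_eq_of_equiv_equiv ((AlgEquiv.ofInjectiveField ψ₁).toRingEquiv) (RingEquiv.refl X.functionField)
      (RingHom.ext fun _ => rfl)).symm.trans hn₁
  have key₂ : Module.finrank ψ₂.fieldRange X.functionField = 2 := by
    letI := ψ₂.toRingHom.toAlgebra
    exact (Algebra.finrank_eq_of_equiv_equiv ((AlgEquiv.ofInjectiveField ψ₂).toRingEquiv) (RingEquiv.refl X.functionField)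
      (RingHom.ext fun _ => rfl)).symm.trans hn₂
  haveI : FiniteDimensional ψ₁.fieldRange X.functionField := Module.finite_of_finrank_eq_succ key₁
  haveI : FiniteDimensional ψ₂.fieldRange X.functionField := Module.finite_of_finrank_eq_succ key₂
  have hgr : 2 * FunFld.genus k ψ₁.fieldRange + 2 * FunFld.genus k ψ₂.fieldRange + 1 =
      FunFld.genus k X.functionField := by
    rw [← FFLib.genus_congr hK₁ (AlgEquiv.ofInjectiveField ψ₁) (FFLib.isFunctionField_below (K := ψ₁.fieldRange) hK),
      ← FFLib.genus_congr hK₂ (AlgEquiv.ofInjectiveField ψ₂) (FFLib.isFunctionField_below (K := ψ₂.fieldRange) hK)]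
    exact hsum
  refine ⟨by omega, by omega, ?_⟩
  let h : X ⟶ pullback (P₁ ↘ Spec (CommRingCat.of k)) (P₂ ↘ Spec (CommRingCat.of k)) :=
    pullback.lift f₁ f₂ (hf₁.trans hf₂.symm)
  show IsClosedImmersion h
  have hh₁ : h ≫ pullback.fst _ _ = f₁ := pullback.lift_fst _ _ _
  have hh₂ : h ≫ pullback.snd _ _ = f₂ := pullback.lift_snd _ _ _
  haveI : IsFinite (h ≫ pullback.fst (P₁ ↘ Spec (CommRingCat.of k)) (P₂ ↘ Spec (CommRingCat.of k))) := by
    rw [hh₁]; infer_instance
  haveI : IsFinite h := IsFinite.of_comp h (pullback.fst _ _)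
  have hcl : ∀ {Z : Scheme.{u}} (f : X ⟶ Z) [IsFinite f] (x : X), IsClosed ({x} : Set X) → IsClosed ({f x} : Set Z) :=
    fun f _ x hx => by rw [← Set.image_singleton]; exact f.isClosedMap _ hx
  have hgencl : ∀ x : X, x ≠ genericPoint X → IsClosed ({x} : Set X) := fun x hx =>
    CurveDualLib.isClosed_of_ne_generic (k := k) hdim hx
  have hinj : Function.Injective h := by
    intro x x' he
    have he₁ : f₁ x = f₁ x' := by rw [← hh₁, Scheme.Hom.comp_apply, Scheme.Hom.comp_apply, he]
    have he₂ : f₂ x = f₂ x' := by rw [← hh₂, Scheme.Hom.comp_apply, Scheme.Hom.comp_apply, he]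
    by_cases hx : x = genericPoint X
    · by_contra hne'
      have h1 := hcl f₁ x' (hgencl x' fun e => hne' (hx.trans e.symm))
      rw [← he₁, hx, e₁] at h1
      exact GenusZeroLib.ne_genericPoint_of_isClosed hdim₁ h1 rfl
    by_cases hx' : x' = genericPoint X
    · have h1 := hcl f₁ x (hgencl x hx)
      rw [he₁, hx', e₁] at h1
      exact absurd rfl (GenusZeroLib.ne_genericPoint_of_isClosed hdim₁ h1)
    have hxc := hgencl x hx
    have hxc' := hgencl x' hx'
    refine CurveDualLib.ptPlace_injective (k := k) hdim hxc hxc'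
      (FFLib.place_eq_of_same hK two_ne_zero key₁ key₂ hr hgr _ _ ?_ ?_)
    · rintro ⟨_, z, rfl⟩
      change _ ≤ 1 ↔ _ ≤ 1
      exact (ptPlace_le_iff hdim hdim₁ h₁ hxc' (hcl f₁ x' hxc') z).trans
        ((Iff.of_eq (congrArg (fun P : FunFld.Place k P₁.functionField => P.1 z ≤ 1)
          (CurveFFLib.ptPlace_congr hdim₁ he₁.symm _ (hcl f₁ x hxc)))).trans
        (ptPlace_le_iff hdim hdim₁ h₁ hxc (hcl f₁ x hxc) z).symm)
    · rintro ⟨_, z, rfl⟩
      change _ ≤ 1 ↔ _ ≤ 1
      exact (ptPlace_le_iff hdim hdim₂ h₂ hxc' (hcl f₂ x' hxc') z).trans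
        ((Iff.of_eq (congrArg (fun P : FunFld.Place k P₂.functionField => P.1 z ≤ 1)
          (CurveFFLib.ptPlace_congr hdim₂ he₂.symm _ (hcl f₂ x hxc)))).trans
        (ptPlace_le_iff hdim hdim₂ h₂ hxc (hcl f₂ x hxc) z).symm)
  haveI : IsPreimmersion h :=
    { isEmbedding := (Topology.IsClosedEmbedding.of_continuous_injective_isClosedMap h.continuous hinj
        h.isClosedMap).isEmbedding
      stalkMap_surjective := fun x z => by
        let S : Subring X.functionField :=
          ((algebraMap (X.presheaf.stalk x) X.functionField).comp (h.stalkMap x).hom).range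
        have halg : Function.Injective (algebraMap (X.presheaf.stalk x) X.functionField) :=
          IsFractionRing.injective _ _
        suffices hz : algebraMap (X.presheaf.stalk x) X.functionField z ∈ S by
          obtain ⟨c, hc⟩ := hz
          exact ⟨c, halg hc⟩
        by_cases hx : x = genericPoint X
        · have hb : ∀ {P : Scheme.{u}} [P.Over (Spec (CommRingCat.of k))] [IsIntegral P] {f : X ⟶ P}
              (e : f x = genericPoint P) {ψ : P.functionField →ₐ[k] X.functionField}
              {g : pullback (P₁ ↘ Spec (CommRingCat.of k)) (P₂ ↘ Spec (CommRingCat.of k)) ⟶ P},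
              h ≫ g = f → CurveFFLib.genPt X ≫ f = Spec.map (CommRingCat.ofHom ψ.toRingHom) ≫ CurveFFLib.genPt P →
              ∀ w, ψ w ∈ S := by
            intro P _ _ f e ψ g hg' hψ w
            obtain ⟨b, rfl⟩ : ∃ b, algebraMap (P.presheaf.stalk (f x)) P.functionField b = w :=
              ⟨P.presheaf.stalkSpecializes (specializes_of_eq e) w, by
                refine (TopCat.Presheaf.stalkSpecializes_comp_apply P.presheaf _ _ w).trans ?_
                simp⟩
            obtain ⟨c, hc⟩ := stalkMap_mem hg' x b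
            exact ⟨c, by rw [RingHom.comp_apply, algHom_algebraMap hψ]; exact congrArg _ hc⟩
          have hinv : ∀ w ∈ S, w⁻¹ ∈ S := by
            rintro _ ⟨c, rfl⟩
            rcases eq_or_ne (h.stalkMap x c) 0 with h0 | h0
            · rw [RingHom.comp_apply]
              erw [h0]
              rw [map_zero, inv_zero]
              exact zero_mem _
            have hu : IsUnit (h.stalkMap x c) := by
              subst hx
              exact Ne.isUnit (G₀ := X.functionField) h0
            obtain ⟨u, hu'⟩ := (isUnit_map_iff (h.stalkMap x).hom c).1 hu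
            refine ⟨(↑u⁻¹ : _), eq_inv_of_mul_eq_one_left ?_⟩
            rw [← map_mul, ← hu', Units.inv_mul, map_one]
          obtain ⟨v, hv, hv'⟩ : ∃ v ∈ ψ₂.fieldRange, v ∉ ψ₁.fieldRange := by
            by_contra hh
            push Not at hh
            exact hr (IntermediateField.eq_of_le_of_finrank_eq' hh (key₂.trans key₁.symm)).symm
          have hli : LinearIndependent ψ₁.fieldRange ![(1 : X.functionField), v] := by
            rw [LinearIndependent.pair_iff]
            intro a b hab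
            by_cases hb0 : b = 0
            · subst hb0; simp_all
            · refine absurd ?_ hv'
              have hvv : v = ((-(a / b) : ψ₁.fieldRange) : X.functionField) := by
                rw [Algebra.smul_def, Algebra.smul_def, mul_one] at hab
                change (a : X.functionField) + b * v = 0 at hab
                have hb' : (b : X.functionField) ≠ 0 := fun e => hb0 (Subtype.ext e)
                push_cast
                field_simp
                linear_combination hab
              rw [hvv]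
              exact Subtype.mem _
          have hspan := hli.span_eq_top_of_card_eq_finrank (by simp [key₁])
          have hzmem : algebraMap (X.presheaf.stalk x) X.functionField z ∈
              Submodule.span ψ₁.fieldRange (Set.range ![(1 : X.functionField), v]) := hspan ▸ Submodule.mem_top
          rw [Matrix.range_cons_cons_empty, Submodule.mem_span_pair] at hzmem
          obtain ⟨⟨_, a, rfl⟩, ⟨_, b, rfl⟩, hab⟩ := hzmem
          obtain ⟨w, rfl⟩ := hv
          rw [← hab, Algebra.smul_def, Algebra.smul_def, mul_one]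
          exact add_mem (hb (by rw [hx, e₁]) hh₁ h₁ a) (mul_mem (hb (by rw [hx, e₁]) hh₁ h₁ b) (hb (by rw [hx, e₂]) hh₂ h₂ w))
        · have hxc := hgencl x hx
          set Q := CurveDualLib.ptPlace (k := k) hdim hxc with hQ
          obtain ⟨⟨_, xv, rfl⟩, ⟨_, a, rfl⟩, ⟨_, b, rfl⟩, ⟨_, c, rfl⟩, ⟨_, d, rfl⟩, hv1, ha1, hb1, hc1, hd1, hu, heq⟩ :=
            FFLib.exists_fraction hK two_ne_zero key₁ key₂ hr hgr Q (algebraMap (X.presheaf.stalk x) X.functionField z)
              ((CurveDualLib.ptVal_le_one_iff (k := k) hdim hxc _).2 ⟨z, rfl⟩)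
          have hm₁ : ∀ w, Q.1 (ψ₁ w) ≤ 1 → ψ₁ w ∈ S := fun w hw => by
            obtain ⟨b, rfl⟩ := (CurveDualLib.ptVal_le_one_iff (k := k) hdim₁ (hcl f₁ x hxc) w).1
              ((ptPlace_le_iff hdim hdim₁ h₁ hxc (hcl f₁ x hxc) w).1 hw)
            obtain ⟨c, hc⟩ := stalkMap_mem hh₁ x b
            exact ⟨c, by rw [RingHom.comp_apply, algHom_algebraMap h₁]; exact congrArg _ hc⟩
          have hm₂ : ∀ w, Q.1 (ψ₂ w) ≤ 1 → ψ₂ w ∈ S := fun w hw => by
            obtain ⟨b, rfl⟩ := (CurveDualLib.ptVal_le_one_iff (k := k) hdim₂ (hcl f₂ x hxc) w).1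
              ((ptPlace_le_iff hdim hdim₂ h₂ hxc (hcl f₂ x hxc) w).1 hw)
            obtain ⟨c, hc⟩ := stalkMap_mem hh₂ x b
            exact ⟨c, by rw [RingHom.comp_apply, algHom_algebraMap h₂]; exact congrArg _ hc⟩
          obtain ⟨n, hn⟩ : ψ₁ a + ψ₁ b * ψ₂ xv ∈ S := add_mem (hm₁ a ha1) (mul_mem (hm₁ b hb1) (hm₂ xv hv1))
          obtain ⟨m, hm⟩ : ψ₁ c + ψ₁ d * ψ₂ xv ∈ S := add_mem (hm₁ c hc1) (mul_mem (hm₁ d hd1) (hm₂ xv hv1))
          have hmu : IsUnit m := by
            by_contra hnu
            have hmem : h.stalkMap x m ∈ IsLocalRing.maximalIdeal (X.presheaf.stalk x) := by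
              rw [IsLocalRing.mem_maximalIdeal, mem_nonunits_iff]
              exact fun hu' => hnu ((isUnit_map_iff (h.stalkMap x).hom m).1 hu')
            have hlt := (CurveDualLib.ptVal_lt_one_iff (k := k) hdim hxc _).2 hmem
            rw [RingHom.comp_apply] at hm
            erw [hm] at hlt
            exact hlt.ne hu
          obtain ⟨u, rfl⟩ := hmu
          refine ⟨n * ↑u⁻¹, ?_⟩
          have hu0 : ψ₁ c + ψ₁ d * ψ₂ xv ≠ 0 := fun e => by
            rw [show ψ₁.toRingHom c + ψ₁.toRingHom d * ψ₂.toRingHom xv = 0 from e, map_zero] at hu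
            exact zero_ne_one hu
          refine mul_right_cancel₀ hu0 (Eq.trans ?_ heq.symm)
          rw [← hm, ← map_mul, mul_assoc, Units.inv_mul, mul_one]
          exact hn }
  exact IsClosedImmersion.of_isPreimmersion h h.isClosedMap.isClosed_range

end Groth.Agent.S19802
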