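import Groth.Statements.S19803
import Groth.Agent.CurveFFLib.DoubleUniq
import Groth.Agent.FFLib.CastelnuovoEq
import Groth.Agent.CurveH0Lib.Smooth
import Groth.Agent.CurveH0Lib.LinStable
-- import your own Groth.Agent.* helpers here

set_option autoImplicit false
universe u
open CategoryTheory CategoryTheory.Limits AlgebraicGeometry Opposite
open Curves

namespace Groth.Agent.S19803

attribute [local instance] CurveDualLib.algFF

open FunFld in
/-- The pencil on a source of an embedded subfield. -/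
theorem exists_pencil {k L₁ L₂ K : Type*} [Field k] [IsAlgClosed k] [Field K] [Field L₁] [Field L₂]
    [Algebra k K] [Algebra k L₁] [Algebra k L₂] (hK : IsFunctionField k K) (hL₁ : IsFunctionField k L₁)
    (hL₂ : IsFunctionField k L₂) (hc : (2 : k) ≠ 0) (ψ₁ : L₁ →ₐ[k] K) (ψ₂ : L₂ →ₐ[k] K)
    (h₁ : letI := ψ₁.toRingHom.toAlgebra; Module.finrank L₁ K = 2)
    (h₂ : letI := ψ₂.toRingHom.toAlgebra; Module.finrank L₂ K = 2) (hne : ψ₁.fieldRange ≠ ψ₂.fieldRange)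
    (hg : 2 * genus k L₁ + 2 * genus k L₂ + 1 = genus k K) :
    ∃ A : Divisor k L₁, A.deg = 2 ∧ 2 ≤ ell A := by
  have key₁ : Module.finrank ψ₁.fieldRange K = 2 := by
    letI := ψ₁.toRingHom.toAlgebra
    exact (Algebra.finrank_eq_of_equiv_equiv ((AlgEquiv.ofInjectiveField ψ₁).toRingEquiv) (RingEquiv.refl K)
      (RingHom.ext fun _ => rfl)).symm.trans h₁
  have key₂ : Module.finrank ψ₂.fieldRange K = 2 := by
    letI := ψ₂.toRingHom.toAlgebra
    exact (Algebra.finrank_eq_of_equiv_equiv ((AlgEquiv.ofInjectiveField ψ₂).toRingEquiv) (RingEquiv.refl K)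
      (RingHom.ext fun _ => rfl)).symm.trans h₂
  haveI : FiniteDimensional ψ₁.fieldRange K := Module.finite_of_finrank_eq_succ key₁
  haveI : FiniteDimensional ψ₂.fieldRange K := Module.finite_of_finrank_eq_succ key₂
  have hR₁ := FFLib.isFunctionField_below (K := ψ₁.fieldRange) hK
  obtain ⟨A, hA, hAl⟩ := FFLib.exists_pencil_of_extremal hK hc key₁ key₂ hne (by
    rw [← FFLib.genus_congr hL₁ (AlgEquiv.ofInjectiveField ψ₁) hR₁,
      ← FFLib.genus_congr hL₂ (AlgEquiv.ofInjectiveField ψ₂) (FFLib.isFunctionField_below (K := ψ₂.fieldRange) hK)]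
    exact hg)
  let e : L₁ ≃ₐ[k] ψ₁.fieldRange := AlgEquiv.ofInjectiveField ψ₁
  letI := (e.symm : ψ₁.fieldRange →ₐ[k] L₁).toRingHom.toAlgebra
  haveI : IsScalarTower k ψ₁.fieldRange L₁ := IsScalarTower.of_algebraMap_eq fun c => (e.symm.commutes c).symm
  have h1 : Module.finrank ψ₁.fieldRange L₁ = 1 := finrank_eq_one 1 one_ne_zero fun w => ⟨e w, by
    rw [Algebra.smul_def, mul_one]; exact e.symm_apply_apply w⟩
  haveI : FiniteDimensional ψ₁.fieldRange L₁ := Module.finite_of_finrank_eq_succ h1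
  refine ⟨conorm L₁ A, by rw [FFLib.deg_conorm hR₁.1, h1, hA]; norm_num, hAl.trans (FFLib.ell_le_ell_conorm hR₁ hL₁ A)⟩

/-- Let F be a smooth projective curve over an algebraically closed field k of characteristic 0
(integral, proper over k, of dimension one, all local rings regular) of genus g = 4γ + 1 with γ ≥ 1,
and let f_i : F ⟶ P_i (i = 1, 2) be two k-morphisms, finite and flat of constant rank 2, onto smooth
projective curves P_i of genus γ_i ≤ γ (two involutions of F with quotients of genus at most γ)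
which are not isomorphic as covers: there is no k-isomorphism e : P₁ ≅ P₂ with f₁ ≫ e = f₂ (the
involutions are distinct). Then P₁ and P₂ are hyperelliptic in the sense that each carries an
invertible module of degree 2 with at least two linearly independent global sections (a g^1_2).
Degrees are χ(·) - χ(O). -/
theorem result (k : Type u) [Field k] [IsAlgClosed k] [CharZero k] (X : Scheme.{u}) [X.Over (Spec (CommRingCat.of k))]
    [IsIntegral X] [IsProper (X ↘ (Spec (CommRingCat.of k)))] (hdim : topologicalKrullDim X = 1)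
    (hreg : ∀ x : X, IsRegularLocalRing (X.presheaf.stalk x))
    (γ : ℕ) (hγ : 1 ≤ γ) (hg : Curv2.genus k X = 4 * γ + 1)
    (P₁ : Scheme.{u}) [P₁.Over (Spec (CommRingCat.of k))] [IsIntegral P₁] [IsProper (P₁ ↘ (Spec (CommRingCat.of k)))]
    (hdim₁ : topologicalKrullDim P₁ = 1) (hreg₁ : ∀ y : P₁, IsRegularLocalRing (P₁.presheaf.stalk y)) (hγ₁ : Curv2.genus k P₁ ≤ γ)
    (P₂ : Scheme.{u}) [P₂.Over (Spec (CommRingCat.of k))] [IsIntegral P₂] [IsProper (P₂ ↘ (Spec (CommRingCat.of k)))]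
    (hdim₂ : topologicalKrullDim P₂ = 1) (hreg₂ : ∀ y : P₂, IsRegularLocalRing (P₂.presheaf.stalk y)) (hγ₂ : Curv2.genus k P₂ ≤ γ)
    (f₁ : X ⟶ P₁) (hf₁ : f₁ ≫ (P₁ ↘ Spec (CommRingCat.of k)) = X ↘ Spec (CommRingCat.of k))
    [IsFinite f₁] [Flat f₁] (hr₁ : ∀ y : P₁, Scheme.Hom.finrank f₁ y = 2)
    (f₂ : X ⟶ P₂) (hf₂ : f₂ ≫ (P₂ ↘ Spec (CommRingCat.of k)) = X ↘ Spec (CommRingCat.of k))
    [IsFinite f₂] [Flat f₂] (hr₂ : ∀ y : P₂, Scheme.Hom.finrank f₂ y = 2)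
    (hne : ¬ ∃ e : P₁ ≅ P₂, e.hom ≫ (P₂ ↘ Spec (CommRingCat.of k)) = (P₁ ↘ Spec (CommRingCat.of k)) ∧ f₁ ≫ e.hom = f₂) :
    (∃ M₁ : P₁.Modules, PicF.IsInvertible M₁ ∧ Curv2.deg k P₁ M₁ 1 = 2 ∧ 2 ≤ Module.finrank k (Coh.HH P₁ M₁ 0)) ∧
      ∃ M₂ : P₂.Modules, PicF.IsInvertible M₂ ∧ Curv2.deg k P₂ M₂ 1 = 2 ∧ 2 ≤ Module.finrank k (Coh.HH P₂ M₂ 0) := by
  haveI := CurveH0Lib.smooth_of_regular k (X ↘ Spec (CommRingCat.of k)) hreg
  haveI := CurveH0Lib.smooth_of_regular k (P₁ ↘ Spec (CommRingCat.of k)) hreg₁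
  haveI := CurveH0Lib.smooth_of_regular k (P₂ ↘ Spec (CommRingCat.of k)) hreg₂
  have e₁ := PlaneCurveLib.gen_to_gen (k := k) hdim hdim₁ f₁
  have e₂ := PlaneCurveLib.gen_to_gen (k := k) hdim hdim₂ f₂
  obtain ⟨ψ₁, h₁⟩ := CurveFFLib.exists_algHom_of_hom (k := k) hf₁ e₁
  obtain ⟨ψ₂, h₂⟩ := CurveFFLib.exists_algHom_of_hom (k := k) hf₂ e₂
  have hK := CurveDualLib.isFunctionField (k := k) hdim
  have hK₁ := CurveDualLib.isFunctionField (k := k) hdim₁
  have hK₂ := CurveDualLib.isFunctionField (k := k) hdim₂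
  have hn₁ := (CurveFFLib.finrank_gen (k := k) hdim hdim₁ f₁ h₁).trans (hr₁ _)
  have hn₂ := (CurveFFLib.finrank_gen (k := k) hdim hdim₂ f₂ h₂).trans (hr₂ _)
  have hr : ψ₁.fieldRange ≠ ψ₂.fieldRange := fun heq => by
    haveI : IsLocallyNoetherian P₁ := LocallyOfFiniteType.isLocallyNoetherian (P₁ ↘ Spec (CommRingCat.of k))
    haveI : IsLocallyNoetherian P₂ := LocallyOfFiniteType.isLocallyNoetherian (P₂ ↘ Spec (CommRingCat.of k))
    refine hne (CurveFFLib.exists_iso_of_range_eq (P₁ ↘ Spec (CommRingCat.of k)) (P₂ ↘ Spec (CommRingCat.of k)) hdim₁.le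
      (HurwitzLib.isNormalScheme_of_smooth (k := k)) hdim₂.le (HurwitzLib.isNormalScheme_of_smooth (k := k))
      f₁ f₂ (hf₁.trans hf₂.symm) e₁ e₂ ?_)
    rw [CurveFFLib.stalkMap_of_genPt h₁, CurveFFLib.stalkMap_of_genPt h₂]
    ext z
    exact SetLike.ext_iff.1 heq z
  have hgK := CurveDualLib.genus_eq (k := k) hdim
  have hgK₁ := CurveDualLib.genus_eq (k := k) hdim₁
  have hgK₂ := CurveDualLib.genus_eq (k := k) hdim₂
  have hsum : 2 * FunFld.genus k P₁.functionField + 2 * FunFld.genus k P₂.functionField + 1 =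
      FunFld.genus k X.functionField := by
    by_contra hlt
    exact hr (FFLib.fieldRange_eq_of_bound hK hK₁ hK₂ (by omega) ψ₁ ψ₂ hn₁ hn₂)
  have hc : (2 : k) ≠ 0 := two_ne_zero
  have build : ∀ (P : Scheme.{u}) [P.Over (Spec (CommRingCat.of k))] [IsIntegral P]
      [IsProper (P ↘ Spec (CommRingCat.of k))] [Smooth (P ↘ Spec (CommRingCat.of k))]
      (hd : topologicalKrullDim P = 1) (A : FunFld.Divisor k P.functionField), A.deg = 2 → 2 ≤ FunFld.ell A →
      ∃ M : P.Modules, PicF.IsInvertible M ∧ Curv2.deg k P M 1 = 2 ∧ 2 ≤ Module.finrank k (Coh.HH P M 0) := by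
    intro P _ _ _ _ hd A hA hAl
    have h0 := RRVanLib.finrank_h0_structure (k := k) (X := P)
    obtain ⟨M, hM⟩ := ZetaCurveLib.exists_module (k := k) hd h0 A
    exact ⟨M, hM.1, by rw [hM.deg hd h0, hA], by rw [CurveH0Lib.LinStable.h0_eq_ell hd hM]; exact hAl⟩
  obtain ⟨A₁, hA₁, hA₁l⟩ := exists_pencil hK hK₁ hK₂ hc ψ₁ ψ₂ hn₁ hn₂ hr hsum
  obtain ⟨A₂, hA₂, hA₂l⟩ := exists_pencil hK hK₂ hK₁ hc ψ₂ ψ₁ hn₂ hn₁ (Ne.symm hr) (by omega)
  exact ⟨build P₁ hdim₁ A₁ hA₁ hA₁l, build P₂ hdim₂ A₂ hA₂ hA₂l⟩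

end Groth.Agent.S19803
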