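import Groth.Statements.S19806
import Mathlib
import Groth.Agent.GrowthLib.Nef
-- import your own Groth.Agent.* helpers here

set_option autoImplicit false
universe u
open CategoryTheory CategoryTheory.Limits AlgebraicGeometry
open scoped ENNReal
open Variety

namespace Groth.Agent.S19806

/-- Let X be a projective variety of dimension d over a field k (a geometrically integral scheme, proper
over k, admitting an ample invertible module, with dim X = d) and L an invertible O_X-module; write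
vol(L) for the upper limit of dim_k H^0(X, L^m) / m^d as m → ∞, taken in the extended non-negative
reals (the volume of L up to the factor d!). Call L big when the lower limit of dim_k H^0(X, L^m) /
m^d is positive. Then L is big if and only if vol(L) is positive. -/
theorem result (k : Type u) [Field k] (X : Scheme.{u})
    [X.Over (Spec (CommRingCat.of k))] [IsIntegral X] [GeometricallyIntegral (X ↘ Spec (CommRingCat.of k))]
    [IsProper (X ↘ Spec (CommRingCat.of k))]
    (hproj : ∃ A : X.Modules, CohB1.IsAmple A) (d : ℕ) (hd : topologicalKrullDim X = d)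
    (L : X.Modules) (hL : PicF.IsInvertible L) :
    0 < Filter.liminf (fun m : ℕ => (Module.finrank k (Coh.HH X (CohB1.tensorPow L m) 0) : ℝ≥0∞) /
        (m : ℝ≥0∞) ^ d) Filter.atTop ↔
      0 < Filter.limsup (fun m : ℕ => (Module.finrank k (Coh.HH X (CohB1.tensorPow L m) 0) : ℝ≥0∞) /
        (m : ℝ≥0∞) ^ d) Filter.atTop := by
  obtain ⟨A, hA⟩ := hproj
  refine ⟨fun h => lt_of_lt_of_le h (Filter.liminf_le_limsup), fun h => ?_⟩
  set f : ℕ → ℕ := fun m => Module.finrank k (Coh.HH X (CohB1.tensorPow L m) 0)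
  obtain ⟨c, hc0, hc⟩ := exists_between h
  have hfreq := Filter.frequently_lt_of_lt_limsup (by isBoundedDefault) hc
  obtain ⟨a, ha⟩ : ∃ a : ℕ, (a : ℝ≥0∞)⁻¹ < c := ENNReal.exists_inv_nat_lt hc0.ne'
  have hbig := GrowthLib.isBigMod_of_freq (k := k) hA hL hd ⟨1, a, Nat.one_pos, fun N => by
    obtain ⟨μ, hμ, hμN⟩ := (hfreq.and_eventually (Filter.eventually_ge_atTop (N + 1))).exists
    refine ⟨μ, by omega, ?_⟩
    rw [one_mul]
    have h1 : (a : ℝ≥0∞)⁻¹ < (f μ : ℝ≥0∞) / (μ : ℝ≥0∞) ^ d := ha.trans hμ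
    have hμd : ((μ : ℝ≥0∞) ^ d) ≠ 0 := pow_ne_zero _ (by exact_mod_cast (show μ ≠ 0 by omega))
    have hμt : ((μ : ℝ≥0∞) ^ d) ≠ ⊤ := ENNReal.pow_ne_top (ENNReal.natCast_ne_top μ)
    rcases Nat.eq_zero_or_pos a with rfl | hapos
    · simp at ha
    have hta : (a : ℝ≥0∞) ≠ 0 := by exact_mod_cast hapos.ne'
    have h2 : ((μ : ℝ≥0∞) ^ d) ≤ (a : ℝ≥0∞) * (f μ : ℝ≥0∞) := by
      have h3 := (ENNReal.le_div_iff_mul_le (.inl hμd) (.inl hμt)).mp h1.le
      calc ((μ : ℝ≥0∞) ^ d) = (a : ℝ≥0∞) * ((a : ℝ≥0∞)⁻¹ * (μ : ℝ≥0∞) ^ d) := by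
            rw [← mul_assoc, ENNReal.mul_inv_cancel hta (ENNReal.natCast_ne_top a), one_mul]
        _ ≤ _ := mul_le_mul_right h3 _
    exact_mod_cast h2⟩
  obtain ⟨C, hC, m₁, hev⟩ := GrowthLib.evGrows_of_isBigMod (k := k) hA hL hd hbig
  refine lt_of_lt_of_le (ENNReal.ofReal_pos.mpr hC) (Filter.le_liminf_of_le (by isBoundedDefault) ?_)
  refine Filter.eventually_atTop.mpr ⟨m₁ + 1, fun m hm => ?_⟩
  have hμd : ((m : ℝ≥0∞) ^ d) ≠ 0 := pow_ne_zero _ (by exact_mod_cast (show m ≠ 0 by omega))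
  rw [ENNReal.le_div_iff_mul_le (.inl hμd) (.inl (ENNReal.pow_ne_top (ENNReal.natCast_ne_top m))),
    ← ENNReal.ofReal_natCast (f m), ← ENNReal.ofReal_natCast m, ← ENNReal.ofReal_pow (by positivity),
    ← ENNReal.ofReal_mul hC.le]
  exact ENNReal.ofReal_le_ofReal (hev m (by omega))

end Groth.Agent.S19806
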