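import Groth.Statements.S19809
import Mathlib

set_option autoImplicit false
universe u
open RatCurv

namespace Groth.Agent.S19809

open MvPolynomial in
abbrev Hn (K : Type u) [Field K] (n : ℕ) : Submodule K (MvPolynomial (Fin 2) K) :=
  homogeneousSubmodule (Fin 2) K n

variable {K : Type u} [Field K]

lemma natDegree_aeval_le {n : ℕ} {q : MvPolynomial (Fin 2) K} (hq : q.IsHomogeneous n) :
    (MvPolynomial.aeval ![(Polynomial.X : Polynomial K), 1] q).natDegree ≤ n := by
  rw [q.as_sum, map_sum]
  refine Polynomial.natDegree_sum_le_of_forall_le _ _ fun m hm => ?_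
  have hw : m.weight 1 = n := hq (MvPolynomial.mem_support_iff.mp hm)
  rw [MvPolynomial.aeval_monomial, Finsupp.prod_fintype _ _ (fun i => by simp), Fin.prod_univ_two]
  simp only [Matrix.cons_val_zero, Matrix.cons_val_one, one_pow, mul_one,
    ← Polynomial.C_eq_algebraMap]
  refine (Polynomial.natDegree_C_mul_le _ _).trans ?_
  rw [Polynomial.natDegree_X_pow]
  simp [Finsupp.weight_apply, Finsupp.sum_fintype, Fin.sum_univ_two] at hw
  omega

lemma homog_map_eq (n : ℕ) :
    (Polynomial.degreeLT K (n + 1)).map (Polynomial.homogenizeLM n) = Hn K n := by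
  ext q
  constructor
  · rintro ⟨p, -, rfl⟩
    exact Polynomial.isHomogeneous_homogenize p
  · intro hq
    refine ⟨_, ?_, Polynomial.homogenize_eq_of_isHomogeneous hq rfl⟩
    rw [SetLike.mem_coe, Polynomial.mem_degreeLT]
    exact (Polynomial.degree_le_natDegree).trans_lt
      (by exact_mod_cast Nat.lt_succ_of_le (natDegree_aeval_le hq))

lemma finite_Hn (n : ℕ) : Module.Finite K (Hn K n) := by
  rw [← homog_map_eq n]
  haveI : Module.Finite K (Polynomial.degreeLT K (n + 1)) :=
    Module.Finite.equiv (Polynomial.degreeLTEquiv K (n + 1)).symm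
  infer_instance

lemma finrank_Hn (n : ℕ) : Module.finrank K (Hn K n) = n + 1 := by
  rw [← homog_map_eq n]
  let f : Polynomial.degreeLT K (n + 1) →ₗ[K] MvPolynomial (Fin 2) K :=
    (Polynomial.homogenizeLM n).comp (Polynomial.degreeLT K (n + 1)).subtype
  have hf : Function.Injective f := by
    rw [← LinearMap.ker_eq_bot, LinearMap.ker_eq_bot']
    rintro ⟨p, hp⟩ h
    have hp' : p.natDegree ≤ n := by
      by_cases h0 : p = 0
      · simp [h0]
      · rw [Polynomial.mem_degreeLT, Polynomial.degree_eq_natDegree h0, Nat.cast_lt] at hp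
        omega
    exact Subtype.ext (Polynomial.eq_zero_of_homogenize_eq_zero hp' h)
  have h1 := LinearMap.finrank_range_of_inj hf
  rw [LinearMap.range_comp, Submodule.range_subtype] at h1
  rw [h1, (Polynomial.degreeLTEquiv K (n + 1)).finrank_eq, Module.finrank_fin_fun]

lemma mul_mem {m n : ℕ} {x y : MvPolynomial (Fin 2) K} (hx : x ∈ Hn K m) (hy : y ∈ Hn K n) :
    x * y ∈ Hn K (m + n) :=
  MvPolynomial.IsHomogeneous.mul hx hy

lemma exists_linear_factor [IsAlgClosed K] {n : ℕ} {g : MvPolynomial (Fin 2) K}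
    (hg : g ∈ Hn K (n + 1)) : ∃ l ∈ Hn K 1, ∃ e ∈ Hn K n, g = l * e := by
  set p := MvPolynomial.aeval ![(Polynomial.X : Polynomial K), 1] g with hpdef
  have hp : p.homogenize (n + 1) = g := Polynomial.homogenize_eq_of_isHomogeneous hg rfl
  by_cases h : p.natDegree ≤ n
  · refine ⟨_, Polynomial.isHomogeneous_homogenize (1 : Polynomial K), _,
      Polynomial.isHomogeneous_homogenize p, ?_⟩
    rw [← Polynomial.homogenize_mul 1 p (by simp) h, one_mul, add_comm, hp]
  · obtain ⟨a, ha⟩ := IsAlgClosed.exists_root p fun h0 =>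
      h (by rw [Polynomial.natDegree_eq_of_degree_eq_some h0]; exact Nat.zero_le _)
    obtain ⟨q, hq⟩ := Polynomial.dvd_iff_isRoot.mpr ha
    have hq0 : q ≠ 0 := fun h0 => h (by rw [hq, h0]; simp)
    have hd : q.natDegree ≤ n := by
      have h1 : p.natDegree = 1 + q.natDegree := by
        rw [hq, Polynomial.natDegree_mul (Polynomial.X_sub_C_ne_zero a) hq0,
          Polynomial.natDegree_X_sub_C]
      have h2 : p.natDegree ≤ n + 1 := natDegree_aeval_le hg
      omega
    refine ⟨_, Polynomial.isHomogeneous_homogenize (Polynomial.X - Polynomial.C a), _,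
      Polynomial.isHomogeneous_homogenize q, ?_⟩
    rw [← Polynomial.homogenize_mul _ q (Polynomial.natDegree_X_sub_C a).le hd, ← hq, add_comm, hp]

/-- A smooth rational quintic curve C ⊂ P^3 has a one-parameter family of 3-secant lines. Stated, as for
the nondegenerate case, through binary forms: C is the image of P^1 under a 4-dimensional linear
series V of binary quintic forms which separates every length-2 subscheme of P^1 (for every nonzero
quadratic form e, the forms of V together with the multiples of e span all quintic forms), so that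
P^1 → P(V^*) = P^3 is a closed embedding; the linear forms on P^3 are the elements of V, a line L ⊂
P^3 is the 2-dimensional space of linear forms vanishing on it, and L ∩ C has length at least 3
exactly when that space is contained in g · K[s,t]_2 for a cubic form g. The conclusion: there are
infinitely many pairwise non-proportional nonzero cubic forms g with dim (V ∩ g · K[s,t]_2) ≥ 2,
i.e. for every finite set of cubics there is such a g proportional to none of them. (The ground
field is algebraically closed of characteristic zero in place of the complex numbers; the third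
printed assertion, on curves all of whose 3-secants are 4-secant, is not stated.) -/
theorem result (K : Type u) [Field K] [IsAlgClosed K]
    [CharZero K] (V : Submodule K (MvPolynomial (Fin 2) K))
    (hV : V ≤ MvPolynomial.homogeneousSubmodule (Fin 2) K 5) (hdim : Module.finrank K ↥V = 4)
    (hsep : ∀ e ∈ MvPolynomial.homogeneousSubmodule (Fin 2) K 2, e ≠ 0 →
      ∀ F ∈ MvPolynomial.homogeneousSubmodule (Fin 2) K 5, ∃ v ∈ V,
        ∃ h ∈ MvPolynomial.homogeneousSubmodule (Fin 2) K 3, F = v + e * h)
    (F : Finset (MvPolynomial (Fin 2) K)) :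
    ∃ g ∈ MvPolynomial.homogeneousSubmodule (Fin 2) K 3, g ≠ 0 ∧
      2 ≤ Module.finrank K ↥(V ⊓ (MvPolynomial.homogeneousSubmodule (Fin 2) K 2).map (LinearMap.mulLeft K g)) ∧
      ∀ g' ∈ F, ∀ c : K, g ≠ c • g' := by
  haveI := finite_Hn (K := K)
  haveI : Module.Finite K V := Submodule.finiteDimensional_of_le hV
  set S2 := Hn K 2
  set S3 := Hn K 3
  set S5 := Hn K 5
  -- no cubic has all its quadratic multiples in `V`
  have hbad : ∀ g ∈ S3, g ≠ 0 → ¬S2.map (LinearMap.mulLeft K g) ≤ V := by
    intro g hg hg0 hle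
    obtain ⟨l, hl, e, he, hge⟩ := exists_linear_factor (n := 2) hg
    have he0 : e ≠ 0 := fun h => hg0 (by rw [hge, h, mul_zero])
    have h5 : S5 ≤ V ⊔ S3.map (LinearMap.mulLeft K e) := fun F hF => by
      obtain ⟨v, hv, h, hh, rfl⟩ := hsep e he he0 F hF
      exact Submodule.add_mem_sup hv ⟨h, hh, rfl⟩
    have hin : S2.map (LinearMap.mulLeft K g) ≤ V ⊓ S3.map (LinearMap.mulLeft K e) := by
      refine le_inf hle ?_
      rintro _ ⟨x, hx, rfl⟩
      refine ⟨l * x, mul_mem hl hx, ?_⟩
      simp only [LinearMap.mulLeft_apply, hge]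
      ring
    have hd1 : Module.finrank K (S2.map (LinearMap.mulLeft K g)) = 3 := by
      rw [← (Submodule.equivMapOfInjective _ (mul_right_injective₀ hg0) S2).finrank_eq, finrank_Hn]
    have hd2 : Module.finrank K (S3.map (LinearMap.mulLeft K e)) = 4 := by
      rw [← (Submodule.equivMapOfInjective _ (mul_right_injective₀ he0) S3).finrank_eq, finrank_Hn]
    have h1 := Submodule.finrank_sup_add_finrank_inf_eq V (S3.map (LinearMap.mulLeft K e))
    haveI : Module.Finite K ↥(V ⊓ S3.map (LinearMap.mulLeft K e)) :=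
      Submodule.finiteDimensional_inf_left _ _
    haveI : Module.Finite K ↥(V ⊔ S3.map (LinearMap.mulLeft K e)) :=
      Submodule.finiteDimensional_sup _ _
    have h2 := Submodule.finrank_mono hin
    have h3 : Module.finrank K S5 ≤ _ := Submodule.finrank_mono h5
    rw [finrank_Hn] at h3
    omega
  -- the pencil of functionals vanishing on `V`
  let W : Submodule K S5 := V.comap S5.subtype
  have hW : Module.finrank K W = 4 :=
    (Submodule.comapSubtypeEquivOfLe hV).finrank_eq.trans hdim
  have hQ : Module.finrank K (S5 ⧸ W) = 2 := by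
    have := W.finrank_quotient_add_finrank
    have h6 : Module.finrank K S5 = 6 := finrank_Hn 5
    omega
  let bQ : Module.Basis (Fin 2) K (S5 ⧸ W) := Module.finBasisOfFinrankEq K _ hQ
  let mul5 : S3 →ₗ[K] S2 →ₗ[K] S5 :=
    LinearMap.mk₂ K (fun g h => ⟨g.1 * h.1, mul_mem g.2 h.2⟩)
      (fun a b c => Subtype.ext (add_mul _ _ _))
      (fun c a b => Subtype.ext (smul_mul_assoc _ _ _))
      (fun a b c => Subtype.ext (mul_add _ _ _))
      (fun c a b => Subtype.ext (mul_smul_comm _ _ _))
  let φ : K → (S5 ⧸ W →ₗ[K] K) := fun t => bQ.coord 0 + t • bQ.coord 1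
  have hker : ∀ t : K, ∃ g : S3, g ≠ 0 ∧ ∀ h : S2, φ t (W.mkQ (mul5 g h)) = 0 := by
    intro t
    let L : S3 →ₗ[K] (S2 →ₗ[K] K) := mul5.compr₂ ((φ t).comp W.mkQ)
    have hL : LinearMap.ker L ≠ ⊥ := by
      apply LinearMap.ker_ne_bot_of_finrank_lt
      rw [Module.finrank_linearMap, finrank_Hn, finrank_Hn, Module.finrank_self]
      norm_num
    obtain ⟨g, hg, hg0⟩ := Submodule.exists_mem_ne_zero_of_ne_bot hL
    exact ⟨g, hg0, fun h => LinearMap.congr_fun (LinearMap.mem_ker.mp hg) h⟩
  choose G hG0 hGk using hker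
  have hsub : ∀ g : S3, g ≠ 0 → ∀ t t' : K, (∀ h : S2, φ t (W.mkQ (mul5 g h)) = 0) →
      (∀ h : S2, φ t' (W.mkQ (mul5 g h)) = 0) → t = t' := by
    intro g hg t t' h h'
    by_contra hne
    refine hbad g g.2 (fun h0 => hg (Subtype.ext h0)) ?_
    rintro _ ⟨x, hx, rfl⟩
    have e1 := h ⟨x, hx⟩
    have e2 := h' ⟨x, hx⟩
    simp only [φ, LinearMap.add_apply, LinearMap.smul_apply, smul_eq_mul] at e1 e2
    set z := W.mkQ (mul5 g ⟨x, hx⟩) with hz
    have h1 : bQ.coord 1 z = 0 :=
      (mul_eq_zero.mp (show (t - t') * bQ.coord 1 z = 0 by linear_combination e1 - e2)).resolve_left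
        (sub_ne_zero.mpr hne)
    have h0 : bQ.coord 0 z = 0 := by rw [h1, mul_zero, add_zero] at e1; exact e1
    have hz0 : z = 0 := bQ.forall_coord_eq_zero_iff.mp fun i => by
      fin_cases i
      · exact h0
      · exact h1
    exact (Submodule.Quotient.mk_eq_zero W).mp hz0
  have hdimG : ∀ t : K, 2 ≤ Module.finrank K ↥(V ⊓ S2.map (LinearMap.mulLeft K (G t : MvPolynomial (Fin 2) K))) := by
    intro t
    let M : S2 →ₗ[K] (S5 ⧸ W) := W.mkQ.comp (mul5 (G t))
    have hr : LinearMap.range M ≤ LinearMap.ker (φ t) := by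
      rintro _ ⟨x, rfl⟩
      exact hGk t x
    have hφ : φ t ≠ 0 := fun h => by
      have := LinearMap.congr_fun h (bQ 0)
      simp [φ] at this
    have hk : Module.finrank K (LinearMap.ker (φ t)) = 1 := by
      have h1 := Module.Dual.finrank_ker_add_one_of_ne_zero hφ
      omega
    have h2 := LinearMap.finrank_range_add_finrank_ker M
    have h3 := Submodule.finrank_mono hr
    have h3S : Module.finrank K S2 = 3 := finrank_Hn 2
    let em : LinearMap.ker M →ₗ[K]
        ↥(V ⊓ S2.map (LinearMap.mulLeft K (G t : MvPolynomial (Fin 2) K))) :=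
      LinearMap.codRestrict _
        ((LinearMap.mulLeft K (G t : MvPolynomial (Fin 2) K)).comp
          (S2.subtype.comp (LinearMap.ker M).subtype))
        (fun x => ⟨(Submodule.Quotient.mk_eq_zero W).mp (LinearMap.mem_ker.mp x.2),
          ⟨_, x.1.2, rfl⟩⟩)
    have hem : Function.Injective em := fun a b hab => by
      have h : (G t : MvPolynomial (Fin 2) K) * (a.1 : MvPolynomial (Fin 2) K) = (G t) * b.1 :=
        congrArg Subtype.val hab
      exact Subtype.ext (Subtype.ext
        (mul_left_cancel₀ (fun h0 => hG0 t (Subtype.ext h0)) h))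
    haveI : Module.Finite K ↥(V ⊓ S2.map (LinearMap.mulLeft K (G t : MvPolynomial (Fin 2) K))) :=
      Submodule.finiteDimensional_inf_left _ _
    have h4 := LinearMap.finrank_le_finrank_of_injective hem
    omega
  -- finitely many `t` give a cubic proportional to a given one
  have hfin : Set.Finite {t : K | ∃ g' ∈ F, ∃ c : K, (G t : MvPolynomial (Fin 2) K) = c • g'} := by
    have : {t : K | ∃ g' ∈ F, ∃ c : K, (G t : MvPolynomial (Fin 2) K) = c • g'} =
        ⋃ g' ∈ F, {t : K | ∃ c : K, (G t : MvPolynomial (Fin 2) K) = c • g'} := by ext; simp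
    rw [this]
    refine F.finite_toSet.biUnion fun g' _ => Set.Subsingleton.finite ?_
    rintro t ⟨c, hc⟩ t' ⟨c', hc'⟩
    have hc0 : c ≠ 0 := fun h => hG0 t (Subtype.ext (by rw [hc, h, zero_smul]; rfl))
    have he : G t' = (c' / c) • G t := Subtype.ext (by
      rw [SetLike.val_smul, hc, hc', smul_smul, div_mul_cancel₀ _ hc0])
    refine hsub (G t') (hG0 t') t t' (fun h => ?_) (hGk t')
    rw [he, map_smul, LinearMap.smul_apply, map_smul, map_smul, hGk t h, smul_zero]
  obtain ⟨t, ht⟩ := hfin.exists_notMem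
  exact ⟨G t, (G t).2, fun h => hG0 t (Subtype.ext h), hdimG t,
    fun g' hg' c h => ht ⟨g', hg', c, h⟩⟩

end Groth.Agent.S19809
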