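import Groth.Statements.S19814
import Groth.Agent.NoriFGSLib.Stages

set_option autoImplicit false
universe u
open CategoryTheory CategoryTheory.Limits MonoidalCategory CartesianMonoidalCategory MonObj GrpObj AlgebraicGeometry
open NoriFGS

set_option backward.isDefEq.respectTransparency false
set_option linter.style.haveILetI false
set_option maxHeartbeats 800000
open CategoryTheory.Limits
open Groth.Agent

attribute [-instance] CategoryTheory.Hom.commGroup

namespace Groth.Agent.S19814

/-- Let X and Y be schemes over a field k with rational points x and y, each possessing a fundamental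
group scheme with its universal pointed torsor, let f : X → Y be a k-morphism sending x to y, and
let φ be the homomorphism of fundamental group schemes induced by f. Then φ is trivial if and only
if, for every finite group scheme H over k and every H-torsor U over Y (locally trivial for the fpqc
topology) pointed over y which is Nori-reduced, the pull-back of U to X is a trivial torsor, i.e. U
acquires a section over f. (The published statement quantifies over all Nori-reduced finite torsors
over Y; this row quantifies over those pointed over y, as the printed proof does: for unpointed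
torsors the forward implication fails over a field that is not algebraically closed. The source's
standing convention for that chapter assumes the base field has characteristic p > 0; the printed
proof uses no characteristic hypothesis, so the row states it for any field.) -/
theorem result
    (k : Type u) [Field k] (X Y : Scheme.{u})
    [X.Over (Spec (CommRingCat.of k))] [Y.Over (Spec (CommRingCat.of k))]
    (x : Spec (CommRingCat.of k) ⟶ X) (y : Spec (CommRingCat.of k) ⟶ Y)
    (hx : x ≫ (X ↘ Spec (CommRingCat.of k)) = 𝟙 _) (hy : y ≫ (Y ↘ Spec (CommRingCat.of k)) = 𝟙 _)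
    (f : X ⟶ Y) (hf : f ≫ (Y ↘ Spec (CommRingCat.of k)) = X ↘ Spec (CommRingCat.of k)) (hfx : x ≫ f = y)
    (πX πY : Over (Spec (CommRingCat.of k))) [GrpObj πX] [GrpObj πY] (PX : Over X) (PY : Over Y)
    (aX : AlgGrp.Action (Red.bc (X ↘ Spec (CommRingCat.of k)) πX) PX)
    (aY : AlgGrp.Action (Red.bc (Y ↘ Spec (CommRingCat.of k)) πY) PY)
    (pX : Spec (CommRingCat.of k) ⟶ PX.left) (pY : Spec (CommRingCat.of k) ⟶ PY.left)
    (hX : NoriFGS.IsFGS x πX aX pX) (hY : NoriFGS.IsFGS y πY aY pY)
    (φ : πX ⟶ πY) (hφ : NoriFGS.IsInducedHom f hf aX pX aY pY φ) :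
    φ = toUnit πX ≫ η[πY] ↔
      ∀ (H : Over (Spec (CommRingCat.of k))) [GrpObj H] [IsFinite H.hom] (U : Over Y)
        (c : AlgGrp.Action (Red.bc (Y ↘ Spec (CommRingCat.of k)) H) U) (u : Spec (CommRingCat.of k) ⟶ U.left),
        NonAbH1.IsTorsorFor Scheme.fpqcPrecoverage c → u ≫ U.hom = y →
        NoriFGS.IsNoriReduced Scheme.fpqcPrecoverage c → NonAbH1.HasSectionOver U f := by
  obtain ⟨hXp, hXt, hpX, hXu⟩ := hX
  obtain ⟨hφm, -⟩ := id hφ
  rw [← Hom.one_def]
  constructor
  · intro hφ1 H _ _ U c u hc hu hred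
    obtain ⟨-, -, -, hYu⟩ := hY
    obtain ⟨ψ, _, h, hh, -⟩ := hYu H U c u hc hu
    obtain ⟨m, hm, -⟩ := Nori.induced_comp f hf c hfx hpX hφ hu hh
    have e := (Nori.isEquivariant_iff aX (Nori.pbAct f hf c) _ m).1 hm
    have hm1 : ∀ (Z : Over X) (g : Z ⟶ Red.bc (X ↘ Spec (CommRingCat.of k)) πX) (z : Z ⟶ PX),
        Nori.act aX g z ≫ m = z ≫ m := fun Z g z => by
      rw [e, show φ ≫ ψ = 1 by rw [hφ1, MonObj.one_comp]]
      conv_lhs => rw [← Nori.up_dn g]
      rw [Nori.up_comp, MonObj.comp_one, Nori.up_one, Nori.act_one]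
    obtain ⟨σ, -⟩ := TorsSeqLib.descend_point hXt.2 m fun T z z' => by
      obtain ⟨g, hg, -⟩ := Nori.existsUnique_act hXt.1 z z'
      rw [← hg, hm1]
    refine ⟨σ.left ≫ pullback.fst U.hom f, ?_⟩
    have hσ : σ.left ≫ pullback.snd U.hom f = 𝟙 X := Over.w σ
    rw [Category.assoc, pullback.condition, reassoc_of% hσ]
    exact Category.id_comp f
  · intro hsec
    obtain ⟨PYf⟩ := hY.1
    letI := PYf.cat
    refine PYf.isLimit.hom_ext fun idx => ?_
    letI := PYf.grp idx
    haveI := PYf.finite idx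
    let πi : πY ⟶ PYf.D.obj idx := PYf.π.app idx
    haveI : IsMonHom πi := PYf.isMonHom_π idx
    obtain ⟨H, _, _, i, _, _, ψ', _, V, c, v, h, hψi, hc, hv, hred, hh⟩ :=
      Nori.exists_reduced hy hY (PYf.D.obj idx) πi
    show φ ≫ πi = _ ≫ πi
    suffices hφψ : φ ≫ ψ' = 1 by
      rw [← hψi, ← Category.assoc, hφψ]
      simp only [MonObj.one_comp, ← Category.assoc]
    obtain ⟨σ, hσ⟩ := hsec H V c v hc hv hred
    obtain ⟨mi, hmi⟩ := Nori.induced_comp f hf c hfx hpX hφ hv hh
    have hbc := Nori.isTorsorFor_pbAct f hf c hc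
    have hbp : Nori.pbPt f hfx hv ≫ (Red.bc f V).hom = x := Nori.pbPt_hom f hfx hv
    let σ₀ : 𝟙_ (Over X) ⟶ Red.bc f V :=
      Over.homMk (pullback.lift σ (𝟙 X) (hσ.trans (Category.id_comp f).symm)) (pullback.lift_snd _ _ _)
    let b := Nori.atPt x (𝟙_ (Over (Spec (CommRingCat.of k))))
    obtain ⟨g₀, hg₀⟩ := Nori.exists_orbit_eq hx hbp hbc.1 (toUnit b ≫ σ₀)
    let gX : 𝟙_ (Over X) ⟶ Red.bc (X ↘ Spec (CommRingCat.of k)) H := Nori.up (toUnit _ ≫ g₀⁻¹)
    have hgX : toUnit b ≫ gX = Nori.pt hx g₀⁻¹ := by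
      rw [Nori.comp_up]
      unfold Nori.pt
      congr 1
      rw [← Category.assoc]
      congr 1
      exact toUnit_unique _ _
    let σ₁ := Nori.act (Nori.pbAct f hf c) gX σ₀
    have hσ₁ : toUnit b ≫ σ₁ = Nori.tpt hbp _ := by
      rw [Nori.comp_act, hgX, ← hg₀, ← Nori.orbit_mul, inv_mul_cancel, Nori.orbit_one]
    haveI : IsMonHom (1 : πX ⟶ H) := by rw [Hom.one_def]; infer_instance
    have hm : NoriFGS.IsPtTorsorHom aX pX (Nori.pbAct f hf c) (Nori.pbPt f hfx hv) (1 : πX ⟶ H) (toUnit PX ≫ σ₁) := by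
      refine ⟨(Nori.isEquivariant_iff aX (Nori.pbAct f hf c) _ _).2 fun Z g z => ?_, ?_⟩
      · conv_rhs => rw [← Nori.up_dn g]
        rw [Nori.up_comp, MonObj.comp_one, Nori.up_one, Nori.act_one]
        rw [← Category.assoc, ← Category.assoc, toUnit_unique (Nori.act aX g z ≫ toUnit PX) (z ≫ toUnit PX)]
        simp only [σ₁, Nori.act, Category.assoc]
      · let pb : b ⟶ PX := Over.homMk pX (hpX.trans (Category.id_comp x).symm)
        have e : pb ≫ toUnit PX ≫ σ₁ = Nori.tpt hbp _ := by
          rw [← Category.assoc, toUnit_unique (pb ≫ toUnit PX) (toUnit b), hσ₁]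
        exact (congrArg CommaMorphism.left e).trans (Category.id_comp _)
    obtain ⟨φ₀, _, f₀, -, hu⟩ := hXu H (Red.bc f V) (Nori.pbAct f hf c) (Nori.pbPt f hfx hv) hbc hbp
    exact (hu _ _ hmi).1.trans (hu _ _ hm).1.symm

end Groth.Agent.S19814
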