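import Groth.Statements.S19815
import Groth.Agent.NoriFGSLib.Stages
import Groth.Agent.HopfFFLib.Injective
import Groth.Agent.AntiAffLib.AffineQuot
import Groth.Agent.DeligneKillLib.Affine

set_option autoImplicit false
universe u
open CategoryTheory CategoryTheory.Limits MonoidalCategory CartesianMonoidalCategory MonObj GrpObj AlgebraicGeometry
open NoriFGS

set_option backward.isDefEq.respectTransparency false
set_option linter.style.haveILetI false
set_option maxHeartbeats 800000
open CategoryTheory.Limits
open Groth.Agent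

attribute [-instance] CategoryTheory.Hom.commGroup

namespace Groth.Agent.S19815

/-- A faithfully flat morphism of affine schemes is schematically dominant. -/
theorem dominant_of_flat_surjective {A B : Scheme.{u}} [IsAffine A] [IsAffine B] (g : A ⟶ B)
    (h : Flat g ∧ Surjective g) : IsSchemeTheoreticallyDominant g := by
  have e := arrowIsoSpecΓOfIsAffine g
  rw [MorphismProperty.arrow_mk_iso_iff @Flat e, MorphismProperty.arrow_mk_iso_iff @Surjective e,
    flat_and_surjective_SpecMap_iff] at h
  refine ⟨Scheme.IdealSheafData.ext_of_isAffine ?_⟩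
  rw [Scheme.Hom.ker_apply, Scheme.IdealSheafData.ideal_bot]
  exact (RingHom.injective_iff_ker_eq_bot _).1 h.injective

open CoactBr in
/-- A homomorphism of affine group schemes over a field injective on functions is faithfully flat. -/
theorem flat_surjective_of_injective {k : Type u} [Field k] {G G' : Over (Spec (CommRingCat.of k))} [GrpObj G]
    [GrpObj G'] [IsAffine G.left] [IsAffine G'.left] (φ : G ⟶ G') [IsMonHom φ]
    (hinj : Function.Injective φ.left.appTop.hom) : Flat φ.left ∧ Surjective φ.left := by
  obtain ⟨A, _, _, v, hv, hv'⟩ := DeligneKillLib.exists_sp G'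
  obtain ⟨B, _, _, w, hw, hw'⟩ := DeligneKillLib.exists_sp G
  haveI := hw; haveI := hv'
  obtain ⟨ψ, hψ⟩ := AntiAffLib.exists_bialgHom (w.hom ≫ φ ≫ v.inv)
  have e : w.hom.left ≫ φ.left ≫ v.inv.left = Spec.map (CommRingCat.ofHom (ψ : A →ₐ[k] B).toRingHom) :=
    congrArg CommaMorphism.left hψ
  haveI : IsIso w.hom.left := (Over.forget _).map_isIso w.hom
  haveI : IsIso v.inv.left := (Over.forget _).map_isIso v.inv
  have hψinj : Function.Injective ψ := by
    have h1 : Function.Injective (Spec.map (CommRingCat.ofHom (ψ : A →ₐ[k] B).toRingHom)).appTop.hom := by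
      rw [← e, Scheme.Hom.comp_appTop, Scheme.Hom.comp_appTop, CommRingCat.hom_comp, CommRingCat.hom_comp]
      exact ((ConcreteCategory.bijective_of_isIso w.hom.left.appTop).1.comp hinj).comp
        (ConcreteCategory.bijective_of_isIso v.inv.left.appTop).1
    intro a b hab
    have nat := Scheme.ΓSpecIso_inv_naturality (CommRingCat.ofHom (ψ : A →ₐ[k] B).toRingHom)
    have ha := congr($(nat) a)
    have hb := congr($(nat) b)
    simp only [CommRingCat.comp_apply] at ha hb
    refine (ConcreteCategory.bijective_of_isIso (Scheme.ΓSpecIso (CommRingCat.of A)).inv).1 (h1 ?_)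
    refine ha.symm.trans (Eq.trans ?_ hb)
    exact congrArg (Scheme.ΓSpecIso (CommRingCat.of B)).inv.hom hab
  have hff := Groth.Agent.HopfFF.faithfullyFlat_of_injective ψ hψinj
  have h2 : Flat (Spec.map (CommRingCat.ofHom (ψ : A →ₐ[k] B).toRingHom)) ∧
      Surjective (Spec.map (CommRingCat.ofHom (ψ : A →ₐ[k] B).toRingHom)) :=
    (flat_and_surjective_SpecMap_iff _).2 hff
  rw [← e, MorphismProperty.cancel_left_of_respectsIso @Flat, MorphismProperty.cancel_right_of_respectsIso @Flat,
    MorphismProperty.cancel_left_of_respectsIso @Surjective, MorphismProperty.cancel_right_of_respectsIso @Surjective] at h2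
  exact h2


/-- Let X and Y be schemes over a field k with rational points x and y, each possessing a fundamental
group scheme with its universal pointed torsor, let f : X → Y be a k-morphism sending x to y, and
let φ be the homomorphism of fundamental group schemes induced by f. Then φ is faithfully flat (flat
and surjective) if and only if, for every finite group scheme H over k and every H-torsor U over Y
(locally trivial for the fpqc topology) pointed over y which is Nori-reduced, the pull-back U ×_Y X,
with the base-changed action read as an action of the base change of H to X, is a Nori-reduced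
torsor over X. (The published statement quantifies over all Nori-reduced finite torsors over Y; this
row quantifies over those pointed over y, as the printed proof does. The source's standing
convention for that chapter assumes the base field has characteristic p > 0; the printed proof uses
no characteristic hypothesis, so the row states it for any field.) -/
theorem result
    (k : Type u) [Field k] (X Y : Scheme.{u})
    [X.Over (Spec (CommRingCat.of k))] [Y.Over (Spec (CommRingCat.of k))]
    (x : Spec (CommRingCat.of k) ⟶ X) (y : Spec (CommRingCat.of k) ⟶ Y)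
    (hx : x ≫ (X ↘ Spec (CommRingCat.of k)) = 𝟙 _) (hy : y ≫ (Y ↘ Spec (CommRingCat.of k)) = 𝟙 _)
    (f : X ⟶ Y) (hf : f ≫ (Y ↘ Spec (CommRingCat.of k)) = X ↘ Spec (CommRingCat.of k)) (hfx : x ≫ f = y)
    (πX πY : Over (Spec (CommRingCat.of k))) [GrpObj πX] [GrpObj πY] (PX : Over X) (PY : Over Y)
    (aX : AlgGrp.Action (Red.bc (X ↘ Spec (CommRingCat.of k)) πX) PX)
    (aY : AlgGrp.Action (Red.bc (Y ↘ Spec (CommRingCat.of k)) πY) PY)
    (pX : Spec (CommRingCat.of k) ⟶ PX.left) (pY : Spec (CommRingCat.of k) ⟶ PY.left)
    (hX : NoriFGS.IsFGS x πX aX pX) (hY : NoriFGS.IsFGS y πY aY pY)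
    (φ : πX ⟶ πY) (hφ : NoriFGS.IsInducedHom f hf aX pX aY pY φ) :
    (Flat φ.left ∧ Surjective φ.left) ↔
      ∀ (H : Over (Spec (CommRingCat.of k))) [GrpObj H] [IsFinite H.hom] (U : Over Y)
        (c : AlgGrp.Action (Red.bc (Y ↘ Spec (CommRingCat.of k)) H) U) (u : Spec (CommRingCat.of k) ⟶ U.left),
        NonAbH1.IsTorsorFor Scheme.fpqcPrecoverage c → u ≫ U.hom = y →
        NoriFGS.IsNoriReduced Scheme.fpqcPrecoverage c →
        NoriFGS.IsNoriReduced Scheme.fpqcPrecoverage
          ((c.bc f).restrict (ActBC.bcCompIso f (Y ↘ Spec (CommRingCat.of k)) H hf).inv) := by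
  obtain ⟨hXp, hXt, hpX, hXu⟩ := id hX
  obtain ⟨hYp, hYt, hpY, hYu⟩ := id hY
  obtain ⟨hφm, -⟩ := id hφ
  haveI := Nori.isAffineHom_of_isProFinite hXp
  haveI := Nori.isAffineHom_of_isProFinite hYp
  haveI := Nori.isAffine_of_isProFinite hXp
  haveI := Nori.isAffine_of_isProFinite hYp
  haveI : QuasiCompact φ.left := inferInstance
  constructor
  · intro hff H _ _ U c u hc hu hred
    obtain ⟨ψ, _, h, hh, -⟩ := hYu H U c u hc hu
    obtain ⟨hd, -, -⟩ := Nori.dominant_of_isNoriReduced hy U hYt hc hu hh hred
    haveI := dominant_of_flat_surjective φ.left hff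
    haveI := hd
    haveI : IsSchemeTheoreticallyDominant (φ ≫ ψ).left := by rw [Over.comp_left]; infer_instance
    obtain ⟨m, hm⟩ := Nori.induced_comp f hf c hfx hpX hφ hu hh
    exact Nori.isNoriReduced_of_dominant hx hX (Nori.isTorsorFor_pbAct f hf c hc) (Nori.pbPt_hom f hfx hu) hm
  · intro hall
    refine flat_surjective_of_injective φ ((injective_iff_map_eq_zero _).2 fun z hz => ?_)
    obtain ⟨D, _, _, π, _, y', hyz⟩ := Nori.exists_stage_appTop hYp (fun _ : PUnit.{u + 1} => z)
    obtain ⟨H, _, _, i, _, _, ψ', _, V, c, v, h, hψi, hc, hv, hred, hh⟩ := Nori.exists_reduced hy hY D π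
    obtain ⟨m, hm⟩ := Nori.induced_comp f hf c hfx hpX hφ hv hh
    obtain ⟨hd, hq, -⟩ := Nori.dominant_of_isNoriReduced hx (Red.bc f V) hXt (Nori.isTorsorFor_pbAct f hf c hc)
      (Nori.pbPt_hom f hfx hv) hm (hall H V c v hc hv hred)
    haveI := hd; haveI := hq
    have hz' : z = ψ'.left.appTop.hom (i.left.appTop.hom (y' ⟨⟩)) := by
      rw [← hyz ⟨⟩, ← hψi, Over.comp_left, Scheme.Hom.comp_appTop]
      rfl
    have h0 : i.left.appTop.hom (y' ⟨⟩) = 0 := by
      refine (φ ≫ ψ').left.app_injective ⊤ ?_
      rw [map_zero, ← hz, hz']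
      show ((φ ≫ ψ').left.appTop).hom _ = _
      rw [Over.comp_left, Scheme.Hom.comp_appTop]
      rfl
    rw [hz', h0, map_zero]

end Groth.Agent.S19815
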