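import Groth.Statements.S19816
import Groth.Agent.NoriFGSLib.Action

set_option autoImplicit false
set_option backward.isDefEq.respectTransparency false
set_option linter.style.haveILetI false
universe u
open CategoryTheory CategoryTheory.Limits MonoidalCategory CartesianMonoidalCategory MonObj GrpObj AlgebraicGeometry
open NoriFGS

namespace Groth.Agent.S19816

/-- Let X be a quasi-compact scheme over a field k with a rational point x which possesses a fundamental
group scheme with its universal pointed torsor. Let G, G₁, G₂ be finite group schemes over k with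
homomorphisms φ₁ : G₁ → G and φ₂ : G₂ → G, and let T, T₁, T₂ be torsors over X (locally trivial for
the fpqc topology) under the base changes to X of G, G₁, G₂, each pointed by a k-point lying over x;
let f₁ : T₁ → T and f₂ : T₂ → T be morphisms of pointed torsors along φ₁ and φ₂. Let Q be the fibre
product group scheme G₁ ×_G G₂ with its projections π₁, π₂. Then the fibre product T₁ ×_T T₂ carries
an action of the base change of Q for which both projections to T₁ and T₂ are equivariant (along π₁,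
π₂) and which makes it a torsor over X, locally trivial for the fpqc topology: the category of
pointed finite torsors over X is closed under fibre products. (The published statement is an
equivalence; this row is the implication from possessing a fundamental group scheme. The source's
standing convention for that chapter assumes the base field has characteristic p > 0; the printed
proof uses no characteristic hypothesis, so the row states it for any field.) -/
theorem result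
    (k : Type u) [Field k] (X : Scheme.{u}) [X.Over (Spec (CommRingCat.of k))]
    (x : Spec (CommRingCat.of k) ⟶ X) (hx : x ≫ (X ↘ Spec (CommRingCat.of k)) = 𝟙 _)
    (πN : Over (Spec (CommRingCat.of k))) [GrpObj πN] (P : Over X)
    (a : AlgGrp.Action (Red.bc (X ↘ Spec (CommRingCat.of k)) πN) P) (p : Spec (CommRingCat.of k) ⟶ P.left)
    (hP : NoriFGS.IsFGS x πN a p) [CompactSpace X]
    (G G₁ G₂ : Over (Spec (CommRingCat.of k))) [GrpObj G] [GrpObj G₁] [GrpObj G₂]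
    [IsFinite G.hom] [IsFinite G₁.hom] [IsFinite G₂.hom]
    (φ₁ : G₁ ⟶ G) (φ₂ : G₂ ⟶ G) [IsMonHom φ₁] [IsMonHom φ₂]
    (T T₁ T₂ : Over X)
    (b : AlgGrp.Action (Red.bc (X ↘ Spec (CommRingCat.of k)) G) T)
    (b₁ : AlgGrp.Action (Red.bc (X ↘ Spec (CommRingCat.of k)) G₁) T₁)
    (b₂ : AlgGrp.Action (Red.bc (X ↘ Spec (CommRingCat.of k)) G₂) T₂)
    (hT : NonAbH1.IsTorsorFor Scheme.fpqcPrecoverage b)
    (hT₁ : NonAbH1.IsTorsorFor Scheme.fpqcPrecoverage b₁)
    (hT₂ : NonAbH1.IsTorsorFor Scheme.fpqcPrecoverage b₂)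
    (t : Spec (CommRingCat.of k) ⟶ T.left) (t₁ : Spec (CommRingCat.of k) ⟶ T₁.left) (t₂ : Spec (CommRingCat.of k) ⟶ T₂.left)
    (ht : t ≫ T.hom = x) (ht₁ : t₁ ≫ T₁.hom = x) (ht₂ : t₂ ≫ T₂.hom = x)
    (f₁ : T₁ ⟶ T) (f₂ : T₂ ⟶ T)
    (hf₁ : NoriFGS.IsPtTorsorHom b₁ t₁ b t φ₁ f₁) (hf₂ : NoriFGS.IsPtTorsorHom b₂ t₂ b t φ₂ f₂)
    (Q : Over (Spec (CommRingCat.of k))) [GrpObj Q] (π₁ : Q ⟶ G₁) (π₂ : Q ⟶ G₂) [IsMonHom π₁] [IsMonHom π₂]
    (hQ : IsPullback π₁ π₂ φ₁ φ₂) :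
    ∃ c : AlgGrp.Action (Red.bc (X ↘ Spec (CommRingCat.of k)) Q) (pullback f₁ f₂),
      AlgGrp.Action.IsEquivariant c (b₁.restrict ((Over.pullback (X ↘ Spec (CommRingCat.of k))).map π₁)) (pullback.fst f₁ f₂) ∧
      AlgGrp.Action.IsEquivariant c (b₂.restrict ((Over.pullback (X ↘ Spec (CommRingCat.of k))).map π₂)) (pullback.snd f₁ f₂) ∧
      NonAbH1.IsTorsorFor Scheme.fpqcPrecoverage c := by
  let F := Over.pullback (X ↘ Spec (CommRingCat.of k))
  have hQX : IsPullback (F.map π₁) (F.map π₂) (F.map φ₁) (F.map φ₂) := Functor.map_isPullback _ hQ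
  have hf₁' := (Nori.isEquivariant_iff b₁ b (F.map φ₁) f₁).1 hf₁.1
  have hf₂' := (Nori.isEquivariant_iff b₂ b (F.map φ₂) f₂).1 hf₂.1
  -- the action on the fibre product
  let q₁ : Red.bc (X ↘ Spec (CommRingCat.of k)) Q ⊗ pullback f₁ f₂ ⟶ T₁ :=
    Nori.act b₁ (fst _ _ ≫ F.map π₁) (snd _ _ ≫ pullback.fst f₁ f₂)
  let q₂ : Red.bc (X ↘ Spec (CommRingCat.of k)) Q ⊗ pullback f₁ f₂ ⟶ T₂ :=
    Nori.act b₂ (fst _ _ ≫ F.map π₂) (snd _ _ ≫ pullback.snd f₁ f₂)
  let α : Red.bc (X ↘ Spec (CommRingCat.of k)) Q ⊗ pullback f₁ f₂ ⟶ pullback f₁ f₂ := pullback.lift q₁ q₂ (by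
    simp only [q₁, q₂, hf₁', hf₂', Category.assoc, hQX.w, pullback.condition])
  have hα₁ : ∀ {Z : Over X} (g : Z ⟶ Red.bc (X ↘ Spec (CommRingCat.of k)) Q) (s : Z ⟶ pullback f₁ f₂),
      lift g s ≫ α ≫ pullback.fst f₁ f₂ = Nori.act b₁ (g ≫ F.map π₁) (s ≫ pullback.fst f₁ f₂) := fun g s => by
    simp only [α, pullback.lift_fst, q₁, Nori.comp_act, lift_fst_assoc, lift_snd_assoc]
  have hα₂ : ∀ {Z : Over X} (g : Z ⟶ Red.bc (X ↘ Spec (CommRingCat.of k)) Q) (s : Z ⟶ pullback f₁ f₂),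
      lift g s ≫ α ≫ pullback.snd f₁ f₂ = Nori.act b₂ (g ≫ F.map π₂) (s ≫ pullback.snd f₁ f₂) := fun g s => by
    simp only [α, pullback.lift_snd, q₂, Nori.comp_act, lift_fst_assoc, lift_snd_assoc]
  let c := Nori.mkAction α
    (fun Z s => pullback.hom_ext (by rw [Category.assoc, hα₁, MonObj.one_comp, Nori.act_one])
      (by rw [Category.assoc, hα₂, MonObj.one_comp, Nori.act_one]))
    (fun Z g g' s => pullback.hom_ext
      (by simp only [Category.assoc, hα₁, MonObj.mul_comp, Nori.act_mul])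
      (by simp only [Category.assoc, hα₂, MonObj.mul_comp, Nori.act_mul]))
  refine ⟨c, (Nori.isEquivariant_iff c b₁ _ _).2 fun Z g s => (Category.assoc _ _ _).trans (hα₁ g s),
    (Nori.isEquivariant_iff c b₂ _ _).2 fun Z g s => (Category.assoc _ _ _).trans (hα₂ g s),
    Nori.isPseudoTorsorSch_of_points fun Z s s' => ?_, ?_⟩
  · obtain ⟨g₁, hg₁, hu₁⟩ := Nori.existsUnique_act hT₁.1 (s ≫ pullback.fst f₁ f₂) (s' ≫ pullback.fst f₁ f₂)
    obtain ⟨g₂, hg₂, hu₂⟩ := Nori.existsUnique_act hT₂.1 (s ≫ pullback.snd f₁ f₂) (s' ≫ pullback.snd f₁ f₂)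
    have hg : g₁ ≫ F.map φ₁ = g₂ ≫ F.map φ₂ := by
      refine Nori.act_left_cancel hT.1 (x := (s ≫ pullback.fst f₁ f₂) ≫ f₁) ?_
      rw [← hf₁', hg₁]
      simp only [Category.assoc, pullback.condition]
      rw [← Category.assoc, ← Category.assoc, ← hf₂', hg₂]
    refine ⟨hQX.lift g₁ g₂ hg, pullback.hom_ext ?_ ?_, fun g hgs => hQX.hom_ext ?_ ?_⟩
    · show (lift _ s ≫ α) ≫ _ = _
      rw [Category.assoc, hα₁, hQX.lift_fst, hg₁]
    · show (lift _ s ≫ α) ≫ _ = _
      rw [Category.assoc, hα₂, hQX.lift_snd, hg₂]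
    · rw [hQX.lift_fst]
      refine hu₁ _ ?_
      show Nori.act b₁ _ _ = _
      rw [← hgs, ← hα₁]
      exact (Category.assoc _ _ _).symm
    · rw [hQX.lift_snd]
      refine hu₂ _ ?_
      show Nori.act b₂ _ _ = _
      rw [← hgs, ← hα₂]
      exact (Category.assoc _ _ _).symm
  · obtain ⟨-, hPt, hp, huniv⟩ := hP
    obtain ⟨ψ₁, _, h₁, hh₁, -⟩ := huniv G₁ T₁ b₁ t₁ hT₁ ht₁
    obtain ⟨ψ₂, _, h₂, hh₂, -⟩ := huniv G₂ T₂ b₂ t₂ hT₂ ht₂
    obtain ⟨ψ, _, h, -, hu⟩ := huniv G T b t hT ht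
    have e₁ := (Nori.isEquivariant_iff a b₁ _ h₁).1 hh₁.1
    have e₂ := (Nori.isEquivariant_iff a b₂ _ h₂).1 hh₂.1
    have c₁ : NoriFGS.IsPtTorsorHom a p b t (ψ₁ ≫ φ₁) (h₁ ≫ f₁) :=
      ⟨(Nori.isEquivariant_iff a b _ _).2 fun Z g s => by
        rw [← Category.assoc, e₁, hf₁', Functor.map_comp, Category.assoc, Category.assoc],
        by rw [Over.comp_left, ← Category.assoc, hh₁.2, hf₁.2]⟩
    have c₂ : NoriFGS.IsPtTorsorHom a p b t (ψ₂ ≫ φ₂) (h₂ ≫ f₂) :=
      ⟨(Nori.isEquivariant_iff a b _ _).2 fun Z g s => by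
        rw [← Category.assoc, e₂, hf₂', Functor.map_comp, Category.assoc, Category.assoc],
        by rw [Over.comp_left, ← Category.assoc, hh₂.2, hf₂.2]⟩
    let m := pullback.lift h₁ h₂ ((hu _ _ c₁).2.trans (hu _ _ c₂).2.symm)
    obtain ⟨R, hR, hsec⟩ := hPt.2
    refine ⟨R, hR, fun S' g hg => ?_⟩
    obtain ⟨σ, hσ⟩ := hsec g hg
    exact ⟨σ ≫ m.left, by rw [Category.assoc, Over.w m, hσ]⟩

end Groth.Agent.S19816
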