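import Groth.Statements.S19817
import Groth.Agent.NoriFGSLib.Stages

set_option autoImplicit false
universe u
open CategoryTheory CategoryTheory.Limits MonoidalCategory CartesianMonoidalCategory MonObj GrpObj AlgebraicGeometry
open NoriFGS

set_option backward.isDefEq.respectTransparency false
set_option linter.style.haveILetI false
set_option maxHeartbeats 800000
open CategoryTheory.Limits
open Groth.Agent

attribute [-instance] CategoryTheory.Hom.commGroup

namespace Groth.Agent.S19817

/-- Let k be a field and X a scheme over k with a rational point x which possesses a fundamental group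
scheme π with its universal pointed torsor. Suppose that there is a natural number M such that, for
every finite group scheme G over k and every G-torsor over X (locally trivial for the fpqc topology)
pointed over x which is Nori-reduced, the order of G, namely the dimension over k of the coordinate
ring Γ(G, O_G) (a k-algebra through the structure morphism G → Spec k), is at most M. Then π is
finite over k. -/
theorem result
    (k : Type u) [Field k] (X : Scheme.{u}) [X.Over (Spec (CommRingCat.of k))]
    (x : Spec (CommRingCat.of k) ⟶ X) (hx : x ≫ (X ↘ Spec (CommRingCat.of k)) = 𝟙 _)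
    (πN : Over (Spec (CommRingCat.of k))) [GrpObj πN] (P : Over X)
    (a : AlgGrp.Action (Red.bc (X ↘ Spec (CommRingCat.of k)) πN) P) (p : Spec (CommRingCat.of k) ⟶ P.left)
    (hP : NoriFGS.IsFGS x πN a p) (M : ℕ)
    (hM : ∀ (G : Over (Spec (CommRingCat.of k))) [GrpObj G] [IsFinite G.hom] (T : Over X)
      (b : AlgGrp.Action (Red.bc (X ↘ Spec (CommRingCat.of k)) G) T) (t : Spec (CommRingCat.of k) ⟶ T.left),
      NonAbH1.IsTorsorFor Scheme.fpqcPrecoverage b → t ≫ T.hom = x →
      NoriFGS.IsNoriReduced Scheme.fpqcPrecoverage b →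
      @Module.finrank k (Coh.Γtop G.left) _ _ (Module.compHom (Coh.Γtop G.left) (Coh.toGlobal G.hom)) ≤ M) :
    IsFinite πN.hom := by
  haveI := Nori.isAffine_of_isProFinite hP.1
  let σ : k →+* Γ(πN.left, ⊤) := πN.hom.appTop.hom.comp (Scheme.ΓSpecIso (CommRingCat.of k)).inv.hom
  letI : Module k Γ(πN.left, ⊤) := Module.compHom _ σ
  have hr : Module.rank k Γ(πN.left, ⊤) ≤ (M : Cardinal) := by
    refine rank_le fun s hs => ?_
    obtain ⟨D, _, _, π, _, y, hy⟩ := Nori.exists_stage_appTop hP.1 (fun l : ↥s => (l : Γ(πN.left, ⊤)))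
    obtain ⟨H, _, _, i, _, _, ψ, _, V, c, v, f, hψi, hc, hv, hred, -⟩ := Nori.exists_reduced hx hP D π
    let τ : k →+* Γ(H.left, ⊤) := H.hom.appTop.hom.comp (Scheme.ΓSpecIso (CommRingCat.of k)).inv.hom
    letI : Module k Γ(H.left, ⊤) := Module.compHom _ τ
    have hfin : τ.Finite :=
      (H.hom.finite_appTop).comp (RingHom.Finite.of_surjective _
        (Scheme.ΓSpecIso (CommRingCat.of k)).symm.commRingCatIsoToRingEquiv.surjective)
    haveI : Module.Finite k Γ(H.left, ⊤) := hfin
    let F : Γ(H.left, ⊤) →ₗ[k] Γ(πN.left, ⊤) :=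
      { toFun := ψ.left.appTop.hom
        map_add' := map_add _
        map_smul' := fun r z => by
          show ψ.left.appTop.hom (τ r * z) = σ r * ψ.left.appTop.hom z
          rw [map_mul]
          congr 1
          show (H.hom.appTop ≫ ψ.left.appTop).hom _ = πN.hom.appTop.hom _
          rw [← Scheme.Hom.comp_appTop, Over.w] }
    have hli : LinearIndependent k (fun l : ↥s => i.left.appTop.hom (y l)) := by
      refine LinearIndependent.of_comp F ?_
      have hFy : (F ∘ fun l => i.left.appTop.hom (y l)) = fun l : ↥s => (l : Γ(πN.left, ⊤)) := funext fun l => ?_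
      · rw [hFy]; exact hs
      show ψ.left.appTop.hom (i.left.appTop.hom (y l)) = _
      rw [← hy l, ← hψi, Over.comp_left, Scheme.Hom.comp_appTop]
      rfl
    have h1 := hli.fintype_card_le_finrank
    rw [Fintype.card_coe] at h1
    exact h1.trans (hM H V c v hc hv hred)
  haveI : Module.Finite k Γ(πN.left, ⊤) :=
    Module.rank_lt_aleph0_iff.1 (hr.trans_lt (Cardinal.natCast_lt_aleph0 (n := M)))
  have hσ : σ.Finite := ‹Module.Finite k Γ(πN.left, ⊤)›
  rw [HasAffineProperty.iff_of_isAffine (P := @IsFinite)]
  exact ⟨inferInstance, RingHom.Finite.of_comp_finite (f := (Scheme.ΓSpecIso (CommRingCat.of k)).inv.hom) hσ⟩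

end Groth.Agent.S19817
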