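import Groth.Statements.S19818
import Groth.Agent.NoriFGSLib.Stages
import Groth.Agent.NoriFGSLib.FibreProd
import Groth.Agent.TorsSeqLib.Push
import Mathlib.AlgebraicGeometry.AlgClosed.Basic
-- import your own Groth.Agent.* helpers here

set_option autoImplicit false
universe u
open CategoryTheory CategoryTheory.Limits MonoidalCategory CartesianMonoidalCategory MonObj GrpObj AlgebraicGeometry
open NoriFGS

set_option backward.isDefEq.respectTransparency false
set_option linter.style.haveILetI false
set_option maxHeartbeats 800000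
open CategoryTheory.Limits
open Groth.Agent

attribute [-instance] CategoryTheory.Hom.commGroup

namespace Groth.Agent.S19818

/-- A homomorphism from a pro-finite group to a group of finite type over a field has finite image. -/
theorem isFinite_of_dominant {k : Type u} [Field k] {πN H : Over (Spec (CommRingCat.of k))} [GrpObj πN]
    (hπ : NoriFGS.IsProFinite πN) [IsAffine H.left] [LocallyOfFiniteType H.hom] (ψ : πN ⟶ H)
    [IsSchemeTheoreticallyDominant ψ.left] [QuasiCompact ψ.left] : IsFinite H.hom := by
  let e := (Scheme.ΓSpecIso (CommRingCat.of k)).inv.hom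
  let σ : k →+* Γ(H.left, ⊤) := H.hom.appTop.hom.comp e
  have hint : σ.IsIntegral := by
    intro y
    obtain ⟨D, _, _, π, _, y', hy'⟩ := Nori.exists_stage_appTop hπ (fun _ : PUnit.{u + 1} => ψ.left.appTop.hom y)
    let τ : k →+* Γ(D.left, ⊤) := D.hom.appTop.hom.comp e
    obtain ⟨q, hq, hq0⟩ := (D.hom.finite_appTop.comp (RingHom.Finite.of_surjective e
      (Scheme.ΓSpecIso (CommRingCat.of k)).symm.commRingCatIsoToRingEquiv.surjective)).to_isIntegral (y' ⟨⟩)
    refine ⟨q, hq, (injective_iff_map_eq_zero _).1 (ψ.left.app_injective ⊤) _ ?_⟩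
    have h1 : ψ.left.appTop.hom.comp σ = π.left.appTop.hom.comp τ := by
      show ((H.hom.appTop ≫ ψ.left.appTop).hom).comp e = ((D.hom.appTop ≫ π.left.appTop).hom).comp e
      rw [← Scheme.Hom.comp_appTop, ← Scheme.Hom.comp_appTop, Over.w, Over.w]
    show ψ.left.appTop.hom (q.eval₂ σ y) = 0
    rw [Polynomial.hom_eval₂, h1, ← hy' ⟨⟩, ← Polynomial.hom_eval₂, hq0, map_zero]
  have hft : σ.FiniteType := (HasRingHomProperty.appTop (P := @LocallyOfFiniteType) H.hom inferInstance).comp
    (RingHom.FiniteType.of_surjective e (Scheme.ΓSpecIso (CommRingCat.of k)).symm.commRingCatIsoToRingEquiv.surjective)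
  rw [HasAffineProperty.iff_of_isAffine (P := @IsFinite)]
  exact ⟨inferInstance, RingHom.Finite.of_comp_finite (f := e) (hint.to_finite hft)⟩


/-- Let k be an algebraically closed field, X a smooth, proper and integral curve over k (of dimension
one) with a rational point x, and let π be a fundamental group scheme of (X, x) with its universal
pointed torsor P. Let G be a connected reductive group over k and F a G-torsor over X (for the base
change of G to X, locally trivial for the fppf topology). Then F is essentially finite, meaning that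
it admits a reduction of structure group to a finite group scheme: there are a finite group scheme Γ
over k, a homomorphism ι : Γ → G and a Γ-torsor Q over X together with an ι-equivariant X-morphism Q
→ F (so that F is obtained from Q by extension of the structure group along ι), if and only if there
is a homomorphism ρ : π → G together with a ρ-equivariant X-morphism P → F (F is obtained from the
universal torsor by extension of the structure group along ρ). -/
theorem result
    (k : Type u) [Field k] [IsAlgClosed k] (X : Scheme.{u}) [X.Over (Spec (CommRingCat.of k))]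
    [AlgebraicGeometry.IsIntegral X] [IsProper (X ↘ Spec (CommRingCat.of k))] [Smooth (X ↘ Spec (CommRingCat.of k))]
    (hdim : topologicalKrullDim X = 1)
    (x : Spec (CommRingCat.of k) ⟶ X) (hx : x ≫ (X ↘ Spec (CommRingCat.of k)) = 𝟙 _)
    (πN : Over (Spec (CommRingCat.of k))) [GrpObj πN] (P : Over X)
    (a : AlgGrp.Action (Red.bc (X ↘ Spec (CommRingCat.of k)) πN) P) (p : Spec (CommRingCat.of k) ⟶ P.left)
    (hP : NoriFGS.IsFGS x πN a p)
    (G : Over (Spec (CommRingCat.of k))) [GrpObj G] (hG : Red.IsReductiveOver k G)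
    (F : Over X) (aF : AlgGrp.Action (Red.bc (X ↘ Spec (CommRingCat.of k)) G) F)
    (hF : NonAbH1.IsTorsorFor Scheme.fppfPrecoverage aF) :
    (∃ (Gf : Over (Spec (CommRingCat.of k))) (_ : GrpObj Gf) (_ : IsFinite Gf.hom) (i : Gf ⟶ G) (_ : IsMonHom i)
        (Q : Over X) (c : AlgGrp.Action (Red.bc (X ↘ Spec (CommRingCat.of k)) Gf) Q),
        NonAbH1.IsTorsorFor Scheme.fppfPrecoverage c ∧
          NonAbH1.IsPushforwardAlongSch ((Over.pullback (X ↘ Spec (CommRingCat.of k))).map i) c aF) ↔
      ∃ (ρ : πN ⟶ G) (_ : IsMonHom ρ),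
        NonAbH1.IsPushforwardAlongSch ((Over.pullback (X ↘ Spec (CommRingCat.of k))).map ρ) a aF := by
  obtain ⟨hπ, hPt, hpx, huniv⟩ := id hP
  constructor
  · rintro ⟨Gf, _, _, i, _, Q, c, hQ, f, hf⟩
    have hQ' := Nori.fpqc_of_fppf hQ
    obtain ⟨hQf, -, -⟩ := Nori.finite_flat_torsor hQ'
    haveI := hQf
    obtain ⟨Z, π, hZ, ⟨q₀⟩⟩ := Nori.exists_fpqc_point hQ'.2
    haveI : Surjective Q.hom := by
      haveI : Surjective (q₀.left ≫ Q.hom) := by rw [Over.w q₀]; exact DescLib.Fpqc.surjective π
      exact Surjective.of_comp q₀.left Q.hom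
    haveI : IsFinite (pullback.snd Q.hom x) := MorphismProperty.pullback_snd (P := @IsFinite) _ _ ‹_›
    haveI : Surjective (pullback.snd Q.hom x) := MorphismProperty.pullback_snd (P := @Surjective) _ _ ‹_›
    obtain ⟨w, -⟩ := (pullback.snd Q.hom x).surjective (IsLocalRing.closedPoint k)
    have hw : IsClosed ({w} : Set (pullback Q.hom x : Scheme.{u})) := by
      haveI : IsFinite (Over.mk (pullback.snd Q.hom x)).hom := ‹IsFinite (pullback.snd Q.hom x)›
      haveI := Nori.discreteTopology_of_isFinite (Over.mk (pullback.snd Q.hom x))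
      exact @isClosed_discrete _ _ this _
    let t := pointOfClosedPoint (pullback.snd Q.hom x) w hw ≫ pullback.fst Q.hom x
    have ht : t ≫ Q.hom = x := by
      simp only [t, Category.assoc, pullback.condition]
      rw [pointOfClosedPoint_comp_assoc]
    obtain ⟨ψ, _, h, hh, -⟩ := huniv Gf Q c t hQ' ht
    have e₁ := (Nori.isEquivariant_iff a c _ h).1 hh.1
    have e₂ := (TorsSeqLib.push_iff _ c aF f).1 hf
    refine ⟨ψ ≫ i, inferInstance, h ≫ f, (TorsSeqLib.push_iff _ a aF _).2 fun Z g z => ?_⟩
    show Nori.act a g z ≫ h ≫ f = Nori.act aF _ _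
    rw [← Category.assoc, e₁, Functor.map_comp, ← Category.assoc g, ← Category.assoc z]
    exact e₂ Z _ _
  · rintro ⟨ρ, _, m, hm⟩
    haveI := Nori.isAffine_of_isProFinite hπ
    haveI : IsAffine G.left := hG.1
    haveI : Smooth G.hom := hG.2.1
    haveI : QuasiCompact ρ.left := inferInstance
    obtain ⟨H, _, i, ψ, _, _, hψi, _, hd, hq, -⟩ := GrpHom.exists_image ρ
    haveI := hd; haveI := hq
    haveI : IsAffine H.left := isAffine_of_isAffineHom i.left
    haveI : LocallyOfFiniteType H.hom := by rw [← Over.w i]; infer_instance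
    haveI := isFinite_of_dominant hπ ψ
    haveI : IsAffineHom (Red.bc (X ↘ Spec (CommRingCat.of k)) H).hom :=
      MorphismProperty.pullback_snd (P := @IsAffineHom) H.hom _ inferInstance
    obtain ⟨Q, c, q, hc, hq⟩ := Nori.exists_push ((Over.pullback (X ↘ Spec (CommRingCat.of k))).map ψ) a hPt
    obtain ⟨hQa, hQb, hQc⟩ := Nori.finite_flat_torsor hc
    haveI := hQa; haveI := hQb; haveI := hQc
    obtain ⟨Z, π, hZ, ⟨q₀⟩⟩ := Nori.exists_fpqc_point hc.2
    haveI : Surjective Q.hom := by
      haveI : Surjective (q₀.left ≫ Q.hom) := by rw [Over.w q₀]; exact DescLib.Fpqc.surjective π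
      exact Surjective.of_comp q₀.left Q.hom
    refine ⟨H, inferInstance, inferInstance, i, inferInstance, Q, c, ⟨hc.1,
      ⟨_, Scheme.Hom.singleton_mem_fppfPrecoverage Q.hom, fun S' g hg => ?_⟩⟩, ?_⟩
    · obtain ⟨⟩ := hg
      exact ⟨𝟙 _, Category.id_comp _⟩
    · obtain ⟨r, ⟨hr, -⟩, -⟩ := TorsSeqLib.existsUnique_map ((Over.pullback (X ↘ Spec (CommRingCat.of k))).map ψ)
        ((Over.pullback (X ↘ Spec (CommRingCat.of k))).map i) a c aF hPt hc.1 q
        ((TorsSeqLib.push_iff _ a c q).2 hq) m (by rw [← Functor.map_comp, hψi]; exact hm)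
      exact ⟨r, hr⟩

end Groth.Agent.S19818
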