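import Groth.Statements.S19822
import Groth.Agent.QGorSecLib.Setup
import Groth.Agent.GorOpenLib.Mor

set_option autoImplicit false
set_option backward.isDefEq.respectTransparency false
set_option backward.isDefEq.respectTransparency.types false
set_option linter.style.haveILetI false
set_option maxHeartbeats 1000000
universe u
open QGor

namespace Groth.Agent.S19822

open CategoryTheory AlgebraicGeometry in
/-- For a proper S₂-morphism Y → Spec A to a Noetherian affine base, of pure relative dimension d, whose
fibres are Gorenstein in codimension one (at every point outside the relative Gorenstein locus the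
local ring of the fibre has dimension ≥ 2), the relative canonical sheaf ω (characterised by the
d-dualizing property over A) is reflexive: the canonical map ω → ω^{**} is an isomorphism. -/
theorem result
    (A : Type u) [CommRing A] [IsNoetherianRing A] (Y : Scheme.{u}) [Y.Over (Spec (CommRingCat.of A))]
    [IsProper (Y ↘ Spec (CommRingCat.of A))] (d : ℕ)
    (hS : RelCanon.IsSkMor (Y ↘ Spec (CommRingCat.of A)) 2) (hd : Cyc.HasRelDim (Y ↘ Spec (CommRingCat.of A)) d)
    (ω : Y.Modules) (hω : RelCanon.IsDualizingSheaf A Y d ω)
    (hG : ∀ y : Y, y ∉ RelCanon.gorLocus (Y ↘ Spec (CommRingCat.of A)) →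
      (2 : WithBot ℕ∞) ≤ ringKrullDim (((Y ↘ Spec (CommRingCat.of A)).fiber ((Y ↘ Spec (CommRingCat.of A)) y)).presheaf.stalk ((Y ↘ Spec (CommRingCat.of A)).asFiber y))) :
    RefHull.IsReflexive ω := by
  let f := Y ↘ Spec (CommRingCat.of A)
  haveI : IsNoetherianRing (CommRingCat.of A) := ‹IsNoetherianRing A›
  haveI : Flat f := hS.1
  haveI : IsLocallyNoetherian Y := LocallyOfFiniteType.isLocallyNoetherian f
  let U : Y.Opens := ⟨RelCanon.gorLocus f, GorOpenLib.isOpen_gorAt f⟩
  have hcoh := QGorSecLib.isCoh_dualizing hd hω
  refine QGorSecLib.isIso_of_extends U (QGorSecLib.extends_dualizing hd hω (U := U) hG)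
    (QGorSecLib.extends_homSh U fun V => QGorSecLib.bijective_res_structureModule (U := U) hG hS V)
    (RefHull.bidualMap ω) fun x hx => ?_
  exact (RefHullLib.bijective_stalk_bidual_iff hcoh x).2
    (QGorSecLib.isReflexiveAt_of_invertibleAt (QGorSecLib.invertibleAt_dualizing hd hω hx))

end Groth.Agent.S19822
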