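import Groth.Statements.S19823
import Groth.Agent.QGorBCLib.Main

set_option autoImplicit false
set_option backward.isDefEq.respectTransparency false
set_option backward.isDefEq.respectTransparency.types false
set_option linter.style.haveILetI false
set_option maxHeartbeats 1000000
universe u
open QGor

attribute [local instance] HasDerivedCategory.standard

namespace Groth.Agent.S19823

open CategoryTheory AlgebraicGeometry in
/-- For a proper S₂-morphism Y → Spec A to a Noetherian affine base, of pure relative dimension d, with
relative canonical sheaf ω (characterised by the d-dualizing property over A): if ω satisfies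
relative S₂ over the base (flat over the base at every point, with S₂ restriction to each fibre),
then for every Noetherian ring B, every ring map A → B and every cartesian square Y' → Y over Spec B
→ Spec A with projection p, the module p^*ω is again d-dualizing for Y' over B; that is, p^*ω is the
relative canonical sheaf of Y' over B (stated through the characterising property, so as the
existence of an isomorphism, not as a property of a named base change map). -/
theorem result
    (A : Type u) [CommRing A] [IsNoetherianRing A] (Y : Scheme.{u}) [Y.Over (Spec (CommRingCat.of A))]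
    [IsProper (Y ↘ Spec (CommRingCat.of A))] (d : ℕ)
    (hS : RelCanon.IsSkMor (Y ↘ Spec (CommRingCat.of A)) 2) (hd : Cyc.HasRelDim (Y ↘ Spec (CommRingCat.of A)) d)
    (ω : Y.Modules) (hω : RelCanon.IsDualizingSheaf A Y d ω)
    (h2 : RelCanon.RelSk (Y ↘ Spec (CommRingCat.of A)) 2 ω) :
    RelCanon.CommutesWithBaseChangeNoeth A Y d ω := by
  intro B _ _ φ Y' _ p hp
  let f := Y ↘ Spec (CommRingCat.of A)
  let f' := Y' ↘ Spec (CommRingCat.of B)
  haveI : Flat f := hS.1
  haveI : IsProper f' := MorphismProperty.of_isPullback (P := @IsProper) hp inferInstance
  haveI : CompactSpace Y' := QuasiCompact.compactSpace_of_compactSpace f'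
  haveI : QuasiSeparatedSpace Y' := quasiSeparatedSpace_of_quasiSeparated f'
  haveI := DCohRestrLib.hasRpush f'
  have hf' : DCoh.RpushPreservesQCoh f' := fun K hK => QRlimLib.isQCohD_rpush f' hK
  haveI := KoszOrthLib.isLeftAdjoint_rpushQ f' hf'
  let adj' := Adjunction.ofIsLeftAdjoint (DCoh.RpushQ f' hf')
  have hω' := (QGorBridgeLib.isGE_and_isDualizingSheaf_HD adj' (RelDualCMLib.unitQ _) ⟨Iso.refl _⟩ d
    (QGorSecLib.fibre_dim_le (FibDimLib.hasRelDim_baseChange hp hd))).2
  obtain ⟨e⟩ := QGorBCLib.nonempty_pullback_iso_of_relSk_two hd hω hp hω' hS h2
  exact QGorBridgeLib.isDualizingSheaf_of_iso e.symm hω'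

end Groth.Agent.S19823
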