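import Groth.Statements.S19825
import Groth.Agent.QGorBridgeLib.Basic
import Groth.Agent.BCArbLib.Main
import Groth.Agent.ShriekLib.FieldExt
import Groth.Agent.FibDimLib.FieldExt
import Groth.Agent.PerfBaseLib.RpushTor

set_option autoImplicit false
set_option backward.isDefEq.respectTransparency false
set_option backward.isDefEq.respectTransparency.types false
set_option linter.style.haveILetI false
set_option maxHeartbeats 1000000
universe u
open QGor

attribute [local instance] HasDerivedCategory.standard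

namespace Groth.Agent.S19825

open CategoryTheory AlgebraicGeometry in
/-- For a proper S₂-morphism Y → Spec A to a Noetherian affine base, of pure relative dimension d, with
relative canonical sheaf ω (characterised by the d-dualizing property over A), and a flat base
change: for every Noetherian ring B, flat ring map A → B and cartesian square Y' → Y over Spec B →
Spec A with projection p, the module p^*ω is d-dualizing for Y' over B, i.e. it is the relative
canonical sheaf of Y' over B (stated through the characterising property, hence as the existence of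
an isomorphism ω_{Y'/B} ≅ p^*ω). -/
theorem result
    (A : Type u) [CommRing A] [IsNoetherianRing A] (Y : Scheme.{u}) [Y.Over (Spec (CommRingCat.of A))]
    [IsProper (Y ↘ Spec (CommRingCat.of A))] (d : ℕ)
    (hS : RelCanon.IsSkMor (Y ↘ Spec (CommRingCat.of A)) 2) (hd : Cyc.HasRelDim (Y ↘ Spec (CommRingCat.of A)) d)
    (ω : Y.Modules) (hω : RelCanon.IsDualizingSheaf A Y d ω)
    (B : Type u) [CommRing B] [IsNoetherianRing B] (φ : A →+* B) (hφ : φ.Flat)
    (Y' : Scheme.{u}) [Y'.Over (Spec (CommRingCat.of B))] (p : Y' ⟶ Y)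
    (hp : IsPullback p (Y' ↘ Spec (CommRingCat.of B)) (Y ↘ Spec (CommRingCat.of A)) (Spec.map (CommRingCat.ofHom φ))) :
    RelCanon.IsDualizingSheaf B Y' d ((Scheme.Modules.pullback p).obj ω) := by
  let f := Y ↘ Spec (CommRingCat.of A)
  let f' := Y' ↘ Spec (CommRingCat.of B)
  let g := Spec.map (CommRingCat.ofHom φ)
  haveI : Flat f := hS.1
  haveI : Flat g := (HasRingHomProperty.Spec_iff (P := @Flat)).2 hφ
  haveI : IsNoetherianRing (CommRingCat.of A) := ‹IsNoetherianRing A›
  haveI : IsNoetherianRing (CommRingCat.of B) := ‹IsNoetherianRing B›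
  haveI : Flat p := MorphismProperty.of_isPullback (P := @Flat) hp.flip inferInstance
  haveI : IsProper f' := MorphismProperty.of_isPullback (P := @IsProper) hp inferInstance
  haveI : IsLocallyNoetherian Y := LocallyOfFiniteType.isLocallyNoetherian f
  haveI : IsLocallyNoetherian Y' := LocallyOfFiniteType.isLocallyNoetherian f'
  haveI : CompactSpace Y := QuasiCompact.compactSpace_of_compactSpace f
  haveI : CompactSpace Y' := QuasiCompact.compactSpace_of_compactSpace f'
  haveI : QuasiCompact p := quasiCompact_of_compactSpace _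
  haveI : QuasiCompact g := quasiCompact_of_compactSpace _
  haveI := DCohRestrLib.hasRpush f
  haveI := DCohRestrLib.hasRpush f'
  haveI := DCohRestrLib.hasRpush g
  haveI := DCohRestrLib.hasRpush p
  haveI := KFlatLib.hasLpull g
  haveI := KFlatLib.hasLpull p
  have hf : DCoh.RpushPreservesQCoh f := fun E hE => QRlimLib.isQCohD_rpush _ hE
  have hf' : DCoh.RpushPreservesQCoh f' := fun E hE => QRlimLib.isQCohD_rpush _ hE
  have hg : DCoh.RpushPreservesQCoh g := fun E hE => QRlimLib.isQCohD_rpush _ hE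
  have hg' : DCoh.RpushPreservesQCoh p := fun E hE => QRlimLib.isQCohD_rpush _ hE
  haveI := KoszOrthLib.isLeftAdjoint_rpushQ f hf
  haveI := KoszOrthLib.isLeftAdjoint_rpushQ f' hf'
  let adj := Adjunction.ofIsLeftAdjoint (DCoh.RpushQ f hf)
  let adj' := Adjunction.ofIsLeftAdjoint (DCoh.RpushQ f' hf')
  have hLg : Dual3.LpullPreservesQCoh g := KFlatLib.isQCohD_lpull g
  have hLp : Dual3.LpullPreservesQCoh p := KFlatLib.isQCohD_lpull p
  let Ag := DualFMLib.adjQ (g := g) hLg hg
  let Ag' := DualFMLib.adjQ (g := p) hLp hg'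
  let O : DCoh.DQCoh (Spec (CommRingCat.of A)) :=
    ⟨DCoh.inD _ (Coh.structureModule _), PerfBaseLib.isQCohD_inD _ QCohLib.isQCoh_unit⟩
  have hle : ∀ y, topologicalKrullDim ↥(f.fiber y) ≤ (d : WithBot ℕ∞) :=
    ProperTraceLib.fiber_dim_le d fun y Z hZ => hd y Z hZ
  have hle' : ∀ y, topologicalKrullDim ↥(f'.fiber y) ≤ (d : WithBot ℕ∞) := fun y =>
    (FibDimLib.topologicalKrullDim_fiber_baseChange hp y).trans_le (hle _)
  haveI hξ : ∀ M, IsIso (Dual3.xi adj adj' (DualFMLib.sqQ hp.w hf hf' hg hg') M) := fun M =>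
    BCArbLib.isIso_xi_sqQ_flatMap Ag Ag' hp adj adj' M
  haveI := BCArbLib.isIso_bcMap hp adj adj' Ag Ag' O (hξ _)
  let O' := (Dual3.LpullQ g hLg).obj O
  have hO' : Nonempty (O'.obj ≅ DCoh.inD _ (Coh.structureModule (Spec (CommRingCat.of B)))) :=
    ⟨(DCoh.Lpull g).mapIso (DualFMLib.inDUnit (Spec (CommRingCat.of A))) ≪≫ KiehlLib.lpullUnitIso g ≪≫
      (DualFMLib.inDUnit (Spec (CommRingCat.of B))).symm⟩
  obtain ⟨eω⟩ := QGorBridgeLib.nonempty_iso_HD adj O ⟨Iso.refl _⟩ d hle hω
  obtain ⟨-, h'⟩ := QGorBridgeLib.isGE_and_isDualizingSheaf_HD adj' O' hO' d hle'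
  obtain ⟨c⟩ := ShriekLib.nonempty_HD_lpull_flat p ((DCoh.RpushQ f hf).rightAdjoint.obj O).obj (-(d : ℤ))
  exact QGorBridgeLib.isDualizingSheaf_of_iso (((DerivedCategory.homologyFunctor Y'.Modules (-(d : ℤ))).mapIso
    ((ObjectProperty.ι _).mapIso
      (asIso (Dual3.bcMap adj adj' (DualFMLib.sqQ hp.w hf hf' hg hg') Ag Ag' O (hξ _))))).symm ≪≫
    c ≪≫ (Scheme.Modules.pullback p).mapIso eω.symm) h'

end Groth.Agent.S19825
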