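import Groth.Statements.S19826
import Groth.Agent.QGorEndLib.Main

set_option autoImplicit false
set_option backward.isDefEq.respectTransparency false
set_option backward.isDefEq.respectTransparency.types false
set_option linter.style.haveILetI false
set_option maxHeartbeats 1000000
universe u
open QGor

namespace Groth.Agent.S19826

open CategoryTheory AlgebraicGeometry in
/-- For a proper S₂-morphism Y → Spec A to a Noetherian affine base, of pure relative dimension d, with
relative canonical sheaf ω (characterised by the d-dualizing property over A), the sheaf of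
endomorphisms 𝓗om_{O_Y}(ω, ω) is isomorphic to O_Y. (Existence of an isomorphism of O_Y-modules
only: the map O_Y → 𝓗om(ω, ω) by scalar multiplication is not named here.) -/
theorem result
    (A : Type u) [CommRing A] [IsNoetherianRing A] (Y : Scheme.{u}) [Y.Over (Spec (CommRingCat.of A))]
    [IsProper (Y ↘ Spec (CommRingCat.of A))] (d : ℕ)
    (hS : RelCanon.IsSkMor (Y ↘ Spec (CommRingCat.of A)) 2) (hd : Cyc.HasRelDim (Y ↘ Spec (CommRingCat.of A)) d)
    (ω : Y.Modules) (hω : RelCanon.IsDualizingSheaf A Y d ω) :
    Nonempty (RefHull.homSh ω ω ≅ Coh.structureModule Y) := by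
  haveI : Flat (Y ↘ Spec (CommRingCat.of A)) := hS.1
  haveI := QGorEndLib.isIso_scalarMap hd hω hS
  exact ⟨(asIso (QGorEndLib.scalarMap ω)).symm⟩

end Groth.Agent.S19826
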