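import Groth.Statements.S19827
import Groth.Agent.RelDualCMLib.Gor
-- import your own Groth.Agent.* helpers here

set_option autoImplicit false
universe u
open QGor

namespace Groth.Agent.S19827

open CategoryTheory AlgebraicGeometry in
/-- With the remark preceding it: for a proper Cohen–Macaulay morphism Y → Spec A to a Noetherian affine
base (flat, with Cohen–Macaulay local rings of the fibres at every point) of pure relative dimension
d, and ω its relative dualizing sheaf (an O_Y-module with the d-dualizing property over A): ω is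
flat over the base at every point of Y; its restriction to each fibre Y_t is d-dualizing for Y_t
over κ(t) (existence form of ω ⊗ O_{Y_t} ≅ ω_{Y_t/κ(t)}); and the relative Gorenstein locus is
exactly the set of points at which ω is invertible (isomorphic to the structure sheaf on some open
neighbourhood). -/
theorem result
    (A : Type u) [CommRing A] [IsNoetherianRing A] (Y : Scheme.{u}) [Y.Over (Spec (CommRingCat.of A))]
    [IsProper (Y ↘ Spec (CommRingCat.of A))] (d : ℕ)
    (hCM : ∀ y : Y, MoreMor.IsCMAt (Y ↘ Spec (CommRingCat.of A)) y) (hd : Cyc.HasRelDim (Y ↘ Spec (CommRingCat.of A)) d)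
    (ω : Y.Modules) (hω : RelCanon.IsDualizingSheaf A Y d ω) :
    FlatMod.IsFlatOver (Y ↘ Spec (CommRingCat.of A)) ω ∧
    (∀ t : Spec (CommRingCat.of A), RelCanon.IsDualizingSheafFib (Y ↘ Spec (CommRingCat.of A)) d ω t) ∧
    (∀ y : Y, y ∈ RelCanon.gorLocus (Y ↘ Spec (CommRingCat.of A)) ↔ RelCanon.InvertibleAt ω y) := by
  haveI : Flat (Y ↘ Spec (CommRingCat.of A)) := (Flat.iff_flat_stalkMap _).2 fun y => (hCM y).1
  haveI : IsLocallyNoetherian (Spec (CommRingCat.of A)) := inferInstance
  haveI : LocallyOfFinitePresentation (Y ↘ Spec (CommRingCat.of A)) := inferInstance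
  have hd' : ∀ (y : ↥(Spec (CommRingCat.of A))) (Z : Set ↥((Y ↘ Spec (CommRingCat.of A)).fiber y)),
      Z ∈ irreducibleComponents ↥((Y ↘ Spec (CommRingCat.of A)).fiber y) →
      topologicalKrullDim ↥Z = (d : WithBot ℕ∞) := fun y Z hZ => hd y Z hZ
  obtain ⟨hflat, hrest⟩ := Groth.Agent.RelDualCMLib.flat_cm_support hCM d hd' hω
  refine ⟨hflat, fun t => ?_, fun y => Groth.Agent.RelDualCMLib.gor_iff_invertibleAt hCM d hd' hω y⟩
  letI : ((Y ↘ Spec (CommRingCat.of A)).fiber t).Over (Spec (CommRingCat.of ((Spec (CommRingCat.of A)).residueField t))) :=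
    ⟨(Y ↘ Spec (CommRingCat.of A)).fiberToSpecResidueField t⟩
  letI : ((Y ↘ Spec (CommRingCat.of A)).fiber t).Over
      (Spec (CommRingCat.of (IsLocalRing.ResidueField ((Spec (CommRingCat.of A)).presheaf.stalk t)))) :=
    ⟨(Y ↘ Spec (CommRingCat.of A)).fiberToSpecResidueField t⟩
  exact Groth.Agent.RelDualCMLib.isDualizingSheaf_baseChange hCM d hd' hω
    ((Spec (CommRingCat.of A)).fromSpecResidueField t) ((Y ↘ Spec (CommRingCat.of A)).fiberι t)
    (IsPullback.of_hasPullback _ _)

end Groth.Agent.S19827
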