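import Groth.Statements.S19830
import Groth.Agent.QGorLiftLib.Main

set_option autoImplicit false
set_option backward.isDefEq.respectTransparency false
set_option backward.isDefEq.respectTransparency.types false
set_option linter.style.haveILetI false
set_option maxHeartbeats 1000000
universe u
open QGor

namespace Groth.Agent.S19830

open CategoryTheory AlgebraicGeometry in
/-- Let Y → Spec A be a proper S₂-morphism to a Noetherian affine base, of pure relative dimension d,
with relative canonical sheaf ω (characterised by the d-dualizing property over A), which is naively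
ℚ-Gorenstein: every fibre is Gorenstein in codimension one and ℚ-Gorenstein (for every t and every
d-dualizing module ω_t on the fibre Y_t over κ(t) — its canonical sheaf — some reflexive power
ω_t^{[r]}, r > 0, is invertible at each point), and some ω^{[r]}, r > 0, is invertible at each point
of Y. For a point y over t, with ω_t the canonical sheaf of Y_t as above, let m be the relative
Gorenstein index at y (least r > 0 with ω^{[r]} invertible at y) and r the Gorenstein index of Y_t
at y (least r > 0 with ω_t^{[r]} invertible at y). Assume the fibre Y_t is Gorenstein in codimension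
two (at every point of Y_t outside the relative Gorenstein locus the local ring of Y_t has dimension
≥ 3) and satisfies S₃ at y. Then m = r. -/
theorem result
    (A : Type u) [CommRing A] [IsNoetherianRing A] (Y : Scheme.{u}) [Y.Over (Spec (CommRingCat.of A))]
    [IsProper (Y ↘ Spec (CommRingCat.of A))] (d : ℕ)
    (hS : RelCanon.IsSkMor (Y ↘ Spec (CommRingCat.of A)) 2) (hd : Cyc.HasRelDim (Y ↘ Spec (CommRingCat.of A)) d)
    (ω : Y.Modules) (hω : RelCanon.IsDualizingSheaf A Y d ω)
    (hG : ∀ y : Y, y ∉ RelCanon.gorLocus (Y ↘ Spec (CommRingCat.of A)) →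
      (2 : WithBot ℕ∞) ≤ ringKrullDim (((Y ↘ Spec (CommRingCat.of A)).fiber ((Y ↘ Spec (CommRingCat.of A)) y)).presheaf.stalk ((Y ↘ Spec (CommRingCat.of A)).asFiber y)))
    (hQf : ∀ (t : (Spec (CommRingCat.of A))) (ωt : ((Y ↘ Spec (CommRingCat.of A)).fiber t).Modules), @RelCanon.IsDualizingSheaf ((Spec (CommRingCat.of A)).residueField t) _ ((Y ↘ Spec (CommRingCat.of A)).fiber t) ⟨(Y ↘ Spec (CommRingCat.of A)).fiberToSpecResidueField t⟩ d ωt → RelCanon.IsQGorWith ωt)
    (hN : RelCanon.IsQGorWith ω)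
    (y : Y) (ωy : ((Y ↘ Spec (CommRingCat.of A)).fiber ((Y ↘ Spec (CommRingCat.of A)) y)).Modules) (hωy : @RelCanon.IsDualizingSheaf ((Spec (CommRingCat.of A)).residueField ((Y ↘ Spec (CommRingCat.of A)) y)) _ ((Y ↘ Spec (CommRingCat.of A)).fiber ((Y ↘ Spec (CommRingCat.of A)) y)) ⟨(Y ↘ Spec (CommRingCat.of A)).fiberToSpecResidueField ((Y ↘ Spec (CommRingCat.of A)) y)⟩ d ωy)
    (hG2 : ∀ y' : Y, (Y ↘ Spec (CommRingCat.of A)) y' = (Y ↘ Spec (CommRingCat.of A)) y → y' ∉ RelCanon.gorLocus (Y ↘ Spec (CommRingCat.of A)) →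
      (3 : WithBot ℕ∞) ≤ ringKrullDim (((Y ↘ Spec (CommRingCat.of A)).fiber ((Y ↘ Spec (CommRingCat.of A)) y')).presheaf.stalk ((Y ↘ Spec (CommRingCat.of A)).asFiber y')))
    (hS3 : RelCanon.SkAt 3 (Coh.structureModule ((Y ↘ Spec (CommRingCat.of A)).fiber ((Y ↘ Spec (CommRingCat.of A)) y))) ((Y ↘ Spec (CommRingCat.of A)).asFiber y)) :
    RelCanon.gorIndexWithAt ω y = RelCanon.gorIndexWithAt ωy ((Y ↘ Spec (CommRingCat.of A)).asFiber y) := by
  classical
  let f := Y ↘ Spec (CommRingCat.of A)
  haveI : Flat f := hS.1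
  haveI : IsNoetherianRing (CommRingCat.of A) := ‹IsNoetherianRing A›
  haveI : IsLocallyNoetherian Y := LocallyOfFiniteType.isLocallyNoetherian f
  haveI : IsLocallyNoetherian (f.fiber (f y)) :=
    haveI := UOpenLib.lft_fiberToSpec f (f y)
    LocallyOfFiniteType.isLocallyNoetherian (f.fiberToSpecResidueField (f y))
  refine congrArg sInf (Set.ext fun r => and_congr_right fun _ => ⟨fun h => ?_, fun h => ?_⟩)
  · exact QGorIdxLib.invertibleAt_refPowZ_fibre hd hω hS hG (f y) hωy r (f.asFiber y)
      (by rw [f.fiberι_asFiber]; exact h)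
  · obtain ⟨U, hwU, hUi⟩ := h
    obtain ⟨hflat, ⟨e⟩⟩ := QGorLiftLib.flat_refPowZ_and_fibre hd hω hS (f y)
      (QGorLiftLib.two_le_dim_fibre (f y) fun z _ => hG z) hωy (r : ℤ) (f.asFiber y)
      fun v hv hvG => by
        have hvU : v ∈ U := hv.mem_open U.2 hwU
        obtain ⟨ev⟩ := QGorBCLib.nonempty_stalk_equiv
          (show RelCanon.InvertibleAt (RelCanon.refPowZ ωy r) v from ⟨U, hvU, hUi⟩)
        rw [CommAlgDim.depth_congr ev]
        refine QGorLiftLib.le_depth_self_of_skAt hv hS3 ?_
        exact_mod_cast (hG2 _ ((f.range_fiberι (f y)).le ⟨v, rfl⟩) hvG).trans_eq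
          (AlgSpLib.stalkDim_fiber_congr f (f y) v _ rfl).symm
    obtain ⟨ew⟩ := QGorBCLib.nonempty_stalk_equiv
      (show RelCanon.InvertibleAt (RelCanon.refPowZ ωy r) (f.asFiber y) from ⟨U, hwU, hUi⟩)
    have hc := QGorBCLib.isCoh_refPowZ (QGorSecLib.isCoh_dualizing hd hω) (r : ℤ)
    rw [f.fiberι_asFiber] at hflat
    exact QGorIdxLib.invertibleAt_of_fibre f hc y hflat
      (QGorDescLib.invertibleAt_of_stalk (ConsLib.isCoh_pullback _ hc) (e.trans ew))

end Groth.Agent.S19830
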