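import Groth.Statements.S19831
import Groth.Agent.QGorLiftLib.RootMain

set_option autoImplicit false
set_option backward.isDefEq.respectTransparency false
set_option backward.isDefEq.respectTransparency.types false
set_option linter.style.haveILetI false
set_option maxHeartbeats 1000000
universe u
open QGor

namespace Groth.Agent.S19831

open CategoryTheory AlgebraicGeometry in
/-- Let Y → Spec A be a proper S₂-morphism to a Noetherian affine base, of pure relative dimension d,
with relative canonical sheaf ω (characterised by the d-dualizing property over A), which is naively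
ℚ-Gorenstein: every fibre is Gorenstein in codimension one and ℚ-Gorenstein (for every t and every
d-dualizing module ω_t on the fibre Y_t over κ(t) — its canonical sheaf — some reflexive power
ω_t^{[r]}, r > 0, is invertible at each point), and some ω^{[r]}, r > 0, is invertible at each point
of Y. For a point y over t, with ω_t the canonical sheaf of Y_t as above, let m be the relative
Gorenstein index at y (least r > 0 with ω^{[r]} invertible at y) and r the Gorenstein index of Y_t
at y (least r > 0 with ω_t^{[r]} invertible at y). Assume the image of m in κ(t) is non-zero (m is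
prime to the characteristic of the residue field). Then m = r. -/
theorem result
    (A : Type u) [CommRing A] [IsNoetherianRing A] (Y : Scheme.{u}) [Y.Over (Spec (CommRingCat.of A))]
    [IsProper (Y ↘ Spec (CommRingCat.of A))] (d : ℕ)
    (hS : RelCanon.IsSkMor (Y ↘ Spec (CommRingCat.of A)) 2) (hd : Cyc.HasRelDim (Y ↘ Spec (CommRingCat.of A)) d)
    (ω : Y.Modules) (hω : RelCanon.IsDualizingSheaf A Y d ω)
    (hG : ∀ y : Y, y ∉ RelCanon.gorLocus (Y ↘ Spec (CommRingCat.of A)) →
      (2 : WithBot ℕ∞) ≤ ringKrullDim (((Y ↘ Spec (CommRingCat.of A)).fiber ((Y ↘ Spec (CommRingCat.of A)) y)).presheaf.stalk ((Y ↘ Spec (CommRingCat.of A)).asFiber y)))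
    (hQf : ∀ (t : (Spec (CommRingCat.of A))) (ωt : ((Y ↘ Spec (CommRingCat.of A)).fiber t).Modules), @RelCanon.IsDualizingSheaf ((Spec (CommRingCat.of A)).residueField t) _ ((Y ↘ Spec (CommRingCat.of A)).fiber t) ⟨(Y ↘ Spec (CommRingCat.of A)).fiberToSpecResidueField t⟩ d ωt → RelCanon.IsQGorWith ωt)
    (hN : RelCanon.IsQGorWith ω)
    (y : Y) (ωy : ((Y ↘ Spec (CommRingCat.of A)).fiber ((Y ↘ Spec (CommRingCat.of A)) y)).Modules) (hωy : @RelCanon.IsDualizingSheaf ((Spec (CommRingCat.of A)).residueField ((Y ↘ Spec (CommRingCat.of A)) y)) _ ((Y ↘ Spec (CommRingCat.of A)).fiber ((Y ↘ Spec (CommRingCat.of A)) y)) ⟨(Y ↘ Spec (CommRingCat.of A)).fiberToSpecResidueField ((Y ↘ Spec (CommRingCat.of A)) y)⟩ d ωy)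
    (hm : (RelCanon.gorIndexWithAt ω y : (Spec (CommRingCat.of A)).residueField ((Y ↘ Spec (CommRingCat.of A)) y)) ≠ 0) :
    RelCanon.gorIndexWithAt ω y = RelCanon.gorIndexWithAt ωy ((Y ↘ Spec (CommRingCat.of A)).asFiber y) := by
  classical
  let f := Y ↘ Spec (CommRingCat.of A)
  haveI : Flat f := hS.1
  haveI : IsNoetherianRing (CommRingCat.of A) := ‹IsNoetherianRing A›
  haveI : IsLocallyNoetherian Y := LocallyOfFiniteType.isLocallyNoetherian f
  haveI : IsLocallyNoetherian (f.fiber (f y)) :=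
    haveI := UOpenLib.lft_fiberToSpec f (f y)
    LocallyOfFiniteType.isLocallyNoetherian (f.fiberToSpecResidueField (f y))
  letI : (f.fiber (f y)).Over (Spec (CommRingCat.of ((Spec (CommRingCat.of A)).residueField (f y)))) :=
    ⟨f.fiberToSpecResidueField (f y)⟩
  obtain ⟨φ, hφ⟩ := Spec.map_surjective ((Spec (CommRingCat.of A)).fromSpecResidueField (f y))
  have sq : IsPullback (f.fiberι (f y)) (f.fiber (f y) ↘ Spec (CommRingCat.of
      ((Spec (CommRingCat.of A)).residueField (f y)))) f (Spec.map φ) :=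
    hφ.symm ▸ IsPullback.of_hasPullback f ((Spec (CommRingCat.of A)).fromSpecResidueField (f y))
  haveI : IsProper (f.fiber (f y) ↘ Spec (CommRingCat.of ((Spec (CommRingCat.of A)).residueField (f y)))) :=
    MorphismProperty.of_isPullback (P := @IsProper) sq inferInstance
  let ι := f.fiberι (f y)
  let G := QGorBCLib.gorOpen A Y
  have hGt := QGorLiftLib.two_le_dim_fibre (f y) fun z _ => hG z
  obtain ⟨e⟩ := QGorBCLib.nonempty_restrict_iso hd hω sq hωy G fun z hz => ⟨hz.1, CMFlatLib.cm_of_gorenstein hz.2⟩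
  have hct := QGorSecLib.isCoh_dualizing (FibDimLib.hasRelDim_baseChange sq hd) hωy
  have hinvt : PicF.IsInvertible (ωy.restrict (ι ⁻¹ᵁ G).ι) :=
    HilbPolyLib.isInvertible_of_iso (QGorBCLib.restrictPullIso ι G ω ≪≫ e)
      (AmpleDevLib.isInvertible_pb (ι ∣_ G) (QGorBCLib.isInvertible_gorOpen hd hω))
  obtain ⟨hm0, hmi⟩ : RelCanon.gorIndexWithAt ω y ∈ {r : ℕ | 0 < r ∧ RelCanon.InvertibleAt (RelCanon.refPowZ ω r) y} :=
    Nat.sInf_mem (hN y)
  have hmt : RelCanon.InvertibleAt (RelCanon.refPowZ ωy (RelCanon.gorIndexWithAt ω y)) (f.asFiber y) :=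
    QGorIdxLib.invertibleAt_refPowZ_fibre hd hω hS hG (f y) hωy _ (f.asFiber y)
      (by rw [f.fiberι_asFiber]; exact hmi)
  have hne : {r : ℕ | 0 < r ∧ RelCanon.InvertibleAt (RelCanon.refPowZ ωy r) (f.asFiber y)}.Nonempty := ⟨_, hm0, hmt⟩
  obtain ⟨hr0, hri⟩ : RelCanon.gorIndexWithAt ωy (f.asFiber y) ∈
      {r : ℕ | 0 < r ∧ RelCanon.InvertibleAt (RelCanon.refPowZ ωy r) (f.asFiber y)} := Nat.sInf_mem hne
  have hrm : RelCanon.gorIndexWithAt ωy (f.asFiber y) ≤ RelCanon.gorIndexWithAt ω y := Nat.sInf_le ⟨hm0, hmt⟩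
  generalize hM : RelCanon.gorIndexWithAt ω y = m at *
  generalize hR : RelCanon.gorIndexWithAt ωy (f.asFiber y) = r at *
  have hb : m % r = 0 := by
    by_contra hb
    have hmt' : RelCanon.InvertibleAt (RelCanon.refPowZ ωy (r * (m / r) + m % r : ℕ)) (f.asFiber y) := by
      rw [Nat.div_add_mod]; exact hmt
    have h1 := QGorLiftLib.invertibleAt_refPowZ_sub (ι ⁻¹ᵁ G) ⊤ (fun v _ hv =>
      QGorLiftLib.le_depth_self_of_skAt specializes_rfl (QGorLiftLib.skAt_fibre hS (f y) v) (hGt v hv))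
      hct hinvt (z := f.asFiber y) trivial hri hmt'
    have h2 : r ≤ m % r := hR.symm.trans_le (Nat.sInf_le ⟨Nat.pos_of_ne_zero hb, h1⟩)
    exact absurd (Nat.mod_lt m hr0) (by omega)
  obtain ⟨a, rfl⟩ : r ∣ m := Nat.dvd_of_mod_eq_zero hb
  have hks : (a : (Spec (CommRingCat.of A)).residueField (f y)) ≠ 0 := fun h => hm (by
    rw [Nat.cast_mul, h, mul_zero])
  have ha : 0 < a := Nat.pos_of_ne_zero fun h => by simp [h] at hm0
  have h3 := QGorLiftLib.invertibleAt_refPowZ_of_root hd hω hS (f y) hGt hωy r a ha hks (f.asFiber y)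
    (by rw [f.fiberι_asFiber]; exact hmi) hri
  rw [f.fiberι_asFiber] at h3
  exact le_antisymm (hM.symm.trans_le (Nat.sInf_le ⟨hr0, h3⟩)) hrm

end Groth.Agent.S19831
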