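import Groth.Statements.S19835
import Groth.Agent.QGorBCLib.Gor

set_option autoImplicit false
set_option backward.isDefEq.respectTransparency false
set_option backward.isDefEq.respectTransparency.types false
set_option linter.style.haveILetI false
set_option maxHeartbeats 1000000
universe u
open QGor

attribute [local instance] HasDerivedCategory.standard

namespace Groth.Agent.S19835

open CategoryTheory AlgebraicGeometry in
/-- For a proper S₂-morphism Y → Spec A to a Noetherian affine base, of pure relative dimension d, whose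
fibres are Gorenstein in codimension one, with relative canonical sheaf ω (characterised by the
d-dualizing property over A): if ω is invertible, then the morphism is ℚ-Gorenstein with respect to
ω (every reflexive power ω^{[m]}, m ∈ ℤ, satisfies relative S₂ over the base at every point: flat
over the base with S₂ restriction to the fibre), and every fibre is ℚ-Gorenstein of Gorenstein index
one, i.e. for every t every d-dualizing module on the fibre Y_t over κ(t) (the canonical sheaf of
the fibre) is invertible. -/
theorem result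
    (A : Type u) [CommRing A] [IsNoetherianRing A] (Y : Scheme.{u}) [Y.Over (Spec (CommRingCat.of A))]
    [IsProper (Y ↘ Spec (CommRingCat.of A))] (d : ℕ)
    (hS : RelCanon.IsSkMor (Y ↘ Spec (CommRingCat.of A)) 2) (hd : Cyc.HasRelDim (Y ↘ Spec (CommRingCat.of A)) d)
    (ω : Y.Modules) (hω : RelCanon.IsDualizingSheaf A Y d ω)
    (hG : ∀ y : Y, y ∉ RelCanon.gorLocus (Y ↘ Spec (CommRingCat.of A)) →
      (2 : WithBot ℕ∞) ≤ ringKrullDim (((Y ↘ Spec (CommRingCat.of A)).fiber ((Y ↘ Spec (CommRingCat.of A)) y)).presheaf.stalk ((Y ↘ Spec (CommRingCat.of A)).asFiber y)))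
    (hinv : PicF.IsInvertible ω) :
    RelCanon.IsQGorMorWith (Y ↘ Spec (CommRingCat.of A)) ω ∧
    ∀ (t : (Spec (CommRingCat.of A))) (ωt : ((Y ↘ Spec (CommRingCat.of A)).fiber t).Modules), @RelCanon.IsDualizingSheaf ((Spec (CommRingCat.of A)).residueField t) _ ((Y ↘ Spec (CommRingCat.of A)).fiber t) ⟨(Y ↘ Spec (CommRingCat.of A)).fiberToSpecResidueField t⟩ d ωt → PicF.IsInvertible ωt := by
  let f := Y ↘ Spec (CommRingCat.of A)
  haveI : Flat f := hS.1
  haveI : IsNoetherianRing (CommRingCat.of A) := ‹IsNoetherianRing A›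
  haveI : IsLocallyNoetherian Y := LocallyOfFiniteType.isLocallyNoetherian f
  have hω1 : PicF.IsInvertible (ω.restrict (⊤ : Y.Opens).ι) :=
    QGorBCLib.isInvertible_restrict_of_invertibleAt fun y _ => hinv y
  have hm : ∀ (m : ℤ) (y : Y), RelCanon.InvertibleAt (RelCanon.refPowZ ω m) y := fun m y =>
    QGorBCLib.invertibleAt_of_isInvertible_restrict (QGorBCLib.isInvertible_refPowZ_restrict
      (QGorSecLib.isCoh_dualizing hd hω) hω1 m) y trivial
  refine ⟨fun m y => ⟨QGorBCLib.isFlatOverAt_of_invertibleAt f (hm m y),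
    QGorBCLib.skAt_pullback_fiber_of_invertibleAt f (hm m y) 2 (hS.2.2 y)⟩, fun t ωt hωt => ?_⟩
  letI : (f.fiber t).Over (Spec (CommRingCat.of ((Spec (CommRingCat.of A)).residueField t))) :=
    ⟨f.fiberToSpecResidueField t⟩
  haveI : IsNoetherianRing ((Spec (CommRingCat.of A)).residueField t) := inferInstance
  obtain ⟨φ, hφ⟩ := Spec.map_surjective ((Spec (CommRingCat.of A)).fromSpecResidueField t)
  have h2 : RelCanon.RelSk f 2 ω := fun y => ⟨QGorBCLib.isFlatOverAt_of_invertibleAt f (hinv y),
    QGorBCLib.skAt_pullback_fiber_of_invertibleAt f (hinv y) 2 (hS.2.2 y)⟩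
  obtain ⟨e⟩ := QGorBCLib.nonempty_pullback_iso_of_relSk_two (B := ((Spec (CommRingCat.of A)).residueField t)) (g := Spec.map φ) (p := f.fiberι t) hd hω
    (hφ.symm ▸ IsPullback.of_hasPullback f ((Spec (CommRingCat.of A)).fromSpecResidueField t)) hωt hS h2
  exact HilbPolyLib.isInvertible_of_iso e fun x => QGorBCLib.invertibleAt_pullback (f.fiberι t) (hinv _)

end Groth.Agent.S19835
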