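import Groth.Statements.S19836
import Groth.Agent.RelDualCMLib.Gor
-- import your own Groth.Agent.* helpers here

set_option autoImplicit false
universe u
open QGor

namespace Groth.Agent.S19836

open CategoryTheory AlgebraicGeometry in
/-- For a proper Cohen–Macaulay morphism Y → Spec A to a Noetherian affine base (flat, with
Cohen–Macaulay local rings of the fibres at every point) of pure relative dimension d, and ω its
relative dualizing sheaf (an O_Y-module with the d-dualizing property over A): ω is relatively
Cohen–Macaulay over the base — at every point y of Y it is flat over the base and its restriction to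
the fibre through y satisfies S_k at y for every k — and its support is the whole of Y. -/
theorem result
    (A : Type u) [CommRing A] [IsNoetherianRing A] (Y : Scheme.{u}) [Y.Over (Spec (CommRingCat.of A))]
    [IsProper (Y ↘ Spec (CommRingCat.of A))] (d : ℕ)
    (hCM : ∀ y : Y, MoreMor.IsCMAt (Y ↘ Spec (CommRingCat.of A)) y) (hd : Cyc.HasRelDim (Y ↘ Spec (CommRingCat.of A)) d)
    (ω : Y.Modules) (hω : RelCanon.IsDualizingSheaf A Y d ω) :
    (∀ (y : Y) (k : ℕ), RelCanon.RelSkAt (Y ↘ Spec (CommRingCat.of A)) k ω y) ∧ CohB1.support ω = Set.univ := by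
  haveI : Flat (Y ↘ Spec (CommRingCat.of A)) := (Flat.iff_flat_stalkMap _).2 fun y => (hCM y).1
  haveI : IsLocallyNoetherian (Spec (CommRingCat.of A)) := inferInstance
  haveI : LocallyOfFinitePresentation (Y ↘ Spec (CommRingCat.of A)) := inferInstance
  have hd' : ∀ (y : ↥(Spec (CommRingCat.of A))) (Z : Set ↥((Y ↘ Spec (CommRingCat.of A)).fiber y)),
      Z ∈ irreducibleComponents ↥((Y ↘ Spec (CommRingCat.of A)).fiber y) →
      topologicalKrullDim ↥Z = (d : WithBot ℕ∞) := fun y Z hZ => hd y Z hZ
  obtain ⟨hflat, hrest⟩ := Groth.Agent.RelDualCMLib.flat_cm_support hCM d hd' hω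
  exact ⟨fun y k => (hrest y).1 k, Set.eq_univ_of_forall fun y => (hrest y).2⟩

end Groth.Agent.S19836
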