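import Groth.Statements.S19838
import Groth.Agent.QGorLiftLib.RootMain

set_option autoImplicit false
set_option backward.isDefEq.respectTransparency false
set_option backward.isDefEq.respectTransparency.types false
set_option linter.style.haveILetI false
set_option maxHeartbeats 1000000
universe u
open QGor

namespace Groth.Agent.S19838

open CategoryTheory AlgebraicGeometry in
/-- Let Y → Spec A be a proper S₂-morphism to a Noetherian affine base, of pure relative dimension d,
with relative canonical sheaf ω (characterised by the d-dualizing property over A), and t a point of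
Spec A whose fibre Y_t is Gorenstein in codimension one and quasi-Gorenstein (every d-dualizing
module on Y_t over κ(t), i.e. its canonical sheaf, is invertible). If ω^{[r]} is invertible for some
r > 0 whose image in κ(t) is non-zero, then for every m ∈ ℤ the reflexive power ω^{[m]} satisfies
relative S₂ over the base at every point of Y_t (the morphism is ℚ-Gorenstein along Y_t). -/
theorem result
    (A : Type u) [CommRing A] [IsNoetherianRing A] (Y : Scheme.{u}) [Y.Over (Spec (CommRingCat.of A))]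
    [IsProper (Y ↘ Spec (CommRingCat.of A))] (d : ℕ)
    (hS : RelCanon.IsSkMor (Y ↘ Spec (CommRingCat.of A)) 2) (hd : Cyc.HasRelDim (Y ↘ Spec (CommRingCat.of A)) d)
    (ω : Y.Modules) (hω : RelCanon.IsDualizingSheaf A Y d ω)
    (t : (Spec (CommRingCat.of A)))
    (hG1 : ∀ y : Y, (Y ↘ Spec (CommRingCat.of A)) y = t → y ∉ RelCanon.gorLocus (Y ↘ Spec (CommRingCat.of A)) → (2 : WithBot ℕ∞) ≤ ringKrullDim (((Y ↘ Spec (CommRingCat.of A)).fiber ((Y ↘ Spec (CommRingCat.of A)) y)).presheaf.stalk ((Y ↘ Spec (CommRingCat.of A)).asFiber y)))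
    (hqg : ∀ ωt : ((Y ↘ Spec (CommRingCat.of A)).fiber t).Modules, @RelCanon.IsDualizingSheaf ((Spec (CommRingCat.of A)).residueField t) _ ((Y ↘ Spec (CommRingCat.of A)).fiber t) ⟨(Y ↘ Spec (CommRingCat.of A)).fiberToSpecResidueField t⟩ d ωt → PicF.IsInvertible ωt)
    (r : ℕ) (hr : 0 < r) (hrk : (r : (Spec (CommRingCat.of A)).residueField t) ≠ 0)
    (hinv : PicF.IsInvertible (RelCanon.refPowZ ω r)) :
    ∀ m : ℤ, ∀ y : Y, (Y ↘ Spec (CommRingCat.of A)) y = t → RelCanon.RelSkAt (Y ↘ Spec (CommRingCat.of A)) 2 (RelCanon.refPowZ ω m) y := by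
  let f := Y ↘ Spec (CommRingCat.of A)
  haveI : Flat f := hS.1
  haveI : IsNoetherianRing (CommRingCat.of A) := ‹IsNoetherianRing A›
  haveI : IsLocallyNoetherian Y := LocallyOfFiniteType.isLocallyNoetherian f
  haveI : IsLocallyNoetherian (f.fiber t) :=
    haveI := UOpenLib.lft_fiberToSpec f t
    LocallyOfFiniteType.isLocallyNoetherian (f.fiberToSpecResidueField t)
  letI : (f.fiber t).Over (Spec (CommRingCat.of ((Spec (CommRingCat.of A)).residueField t))) :=
    ⟨f.fiberToSpecResidueField t⟩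
  obtain ⟨φ, hφ⟩ := Spec.map_surjective ((Spec (CommRingCat.of A)).fromSpecResidueField t)
  have sq : IsPullback (f.fiberι t) (f.fiber t ↘ Spec (CommRingCat.of ((Spec (CommRingCat.of A)).residueField t))) f
      (Spec.map φ) := hφ.symm ▸ IsPullback.of_hasPullback f ((Spec (CommRingCat.of A)).fromSpecResidueField t)
  haveI : IsProper (f.fiber t ↘ Spec (CommRingCat.of ((Spec (CommRingCat.of A)).residueField t))) :=
    MorphismProperty.of_isPullback (P := @IsProper) sq inferInstance
  haveI : Flat (f.fiber t ↘ Spec (CommRingCat.of ((Spec (CommRingCat.of A)).residueField t))) :=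
    MorphismProperty.of_isPullback (P := @Flat) sq inferInstance
  obtain ⟨ωt, hωt⟩ := QGorLiftLib.exists_dualizing (FibDimLib.hasRelDim_baseChange sq hd)
  intro m y hy
  have hGt := QGorLiftLib.two_le_dim_fibre t hG1
  obtain ⟨w, rfl⟩ : y ∈ Set.range (f.fiberι t) := by rw [f.range_fiberι]; exact hy
  have hct := QGorSecLib.isCoh_dualizing (FibDimLib.hasRelDim_baseChange sq hd) hωt
  have hσ : RelCanon.InvertibleAt (RelCanon.refPowZ ωt (1 : ℕ)) w :=
    QGorBCLib.invertibleAt_of_isInvertible_restrict (U := ⊤) (QGorBCLib.isInvertible_refPowZ_restrict hct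
      (QGorBCLib.isInvertible_restrict_of_invertibleAt fun v _ =>
        (RelCanon.isInvertible_iff_invertibleAt _).1 (hqg ωt hωt) v) _) w trivial
  have h1 : RelCanon.InvertibleAt (RelCanon.refPowZ ω (1 : ℕ)) (f.fiberι t w) :=
    QGorLiftLib.invertibleAt_refPowZ_of_root hd hω hS t hGt hωt 1 r hr hrk w
      (by rw [one_mul]; exact (RelCanon.isInvertible_iff_invertibleAt _).1 hinv _) hσ
  have hm : RelCanon.InvertibleAt (RelCanon.refPowZ ω m) (f.fiberι t w) := by
    let G := QGorBCLib.gorOpen A Y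
    have hcω := QGorSecLib.isCoh_dualizing hd hω
    have hω' := QGorBCLib.isInvertible_gorOpen hd hω
    let F := RelCanon.refPowZ ω (1 : ℕ)
    have hcF : Coh.IsCoh F := QGorBCLib.isCoh_refPowZ hcω _
    have hFG : PicF.IsInvertible (F.restrict G.ι) := QGorBCLib.isInvertible_refPowZ_restrict hcω hω' _
    obtain ⟨V, hwV, hV⟩ := h1
    have hVi : PicF.IsInvertible (F.restrict V.ι) :=
      QGorBCLib.isInvertible_restrict_of_invertibleAt fun x hx => ⟨V, hx, hV⟩
    have hmF : RelCanon.InvertibleAt (RelCanon.refPowZ F m) (f.fiberι t w) :=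
      QGorBCLib.invertibleAt_of_isInvertible_restrict (QGorBCLib.isInvertible_refPowZ_restrict hcF hVi m) _ hwV
    have hF1 : CubeConsLib.cl (F.restrict G.ι) = CubeConsLib.cl (ω.restrict G.ι) := by
      rw [QGorLiftLib.cl_refPowZ_nat G hcω hω', pow_one]
    have hdF : CubeConsLib.cl ((RefHull.dual F).restrict G.ι) = CubeConsLib.cl ((RefHull.dual ω).restrict G.ι) :=
      left_inv_eq_right_inv (QGorBCLib.cl_dual_mul hFG)
        (by rw [hF1, mul_comm]; exact QGorBCLib.cl_dual_mul hω')
    obtain ⟨W, hW, hW2⟩ := QGorLiftLib.exists_open_near_fibre hS t hGt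
    have hwW := hW _ hy
    have hWd : ∀ x ∈ W, x ∉ G → (2 : ℕ∞) ≤ LocCoh.depth (Y.presheaf.stalk x) (Y.presheaf.stalk x) :=
      fun x hx hxG => (hW2 x hx hxG).2
    cases m with
    | ofNat n =>
      obtain ⟨e⟩ := CubeConsLib.cl_eq_iff.1 (show CubeConsLib.cl ((RelCanon.refPowZ ω n).restrict G.ι) =
          CubeConsLib.cl ((RelCanon.refPowZ F n).restrict G.ι) by
        rw [QGorLiftLib.cl_refPowZ_nat G hcω hω', QGorLiftLib.cl_refPowZ_nat G hcF hFG, hF1])
      exact QGorLiftLib.invertibleAt_dual_of_restrict_iso G W hWd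
        (RefHullLib.isCoh_dual (QGorBCLib.isCoh_tensorPow hcω n))
        (RefHullLib.isCoh_dual (QGorBCLib.isCoh_tensorPow hcF n)) e hwW hmF
    | negSucc n =>
      obtain ⟨e⟩ := CubeConsLib.cl_eq_iff.1 (show CubeConsLib.cl ((RelCanon.refPowZ (RefHull.dual ω) (n + 1 : ℕ)).restrict G.ι) =
          CubeConsLib.cl ((RelCanon.refPowZ (RefHull.dual F) (n + 1 : ℕ)).restrict G.ι) by
        rw [QGorLiftLib.cl_refPowZ_nat G (RefHullLib.isCoh_dual hcω) (QGorBCLib.isInvertible_dual_restrict hω'),
          QGorLiftLib.cl_refPowZ_nat G (RefHullLib.isCoh_dual hcF) (QGorBCLib.isInvertible_dual_restrict hFG), hdF])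
      exact QGorLiftLib.invertibleAt_dual_of_restrict_iso G W hWd
        (RefHullLib.isCoh_dual (QGorBCLib.isCoh_tensorPow (RefHullLib.isCoh_dual hcω) (n + 1)))
        (RefHullLib.isCoh_dual (QGorBCLib.isCoh_tensorPow (RefHullLib.isCoh_dual hcF) (n + 1))) e hwW hmF
  exact ⟨QGorBCLib.isFlatOverAt_of_invertibleAt f hm, QGorBCLib.skAt_pullback_fiber_of_invertibleAt f hm 2 (hS.2.2 _)⟩

end Groth.Agent.S19838
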