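import Groth.Statements.S19839
import Groth.Agent.QGorBCLib.Step

set_option autoImplicit false
set_option backward.isDefEq.respectTransparency false
set_option backward.isDefEq.respectTransparency.types false
set_option linter.style.haveILetI false
set_option maxHeartbeats 1000000
universe u
open QGor

attribute [local instance] HasDerivedCategory.standard

namespace Groth.Agent.S19839

open CategoryTheory AlgebraicGeometry in
/-- Let Y → Spec A be a proper S₂-morphism to a Noetherian affine base, of pure relative dimension d,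
with fibres Gorenstein in codimension one and relative canonical sheaf ω (characterised by the
d-dualizing property over A); let B be Noetherian, A → B a ring map, Y' → Y a cartesian square over
Spec B → Spec A with projection p, and ω' the relative canonical sheaf of Y' over B (any module with
the d-dualizing property over B). (1) If the morphism is naively ℚ-Gorenstein (some ω^{[r]}, r > 0,
invertible at each point) then so is the base change, and if ω^{[r]} is invertible for some r > 0
then ω'^{[r]} ≅ p^*(ω^{[r]}). (3) If every fibre of Y over Spec A is ℚ-Gorenstein (w.r.t. its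
canonical sheaf) then so is every fibre of Y' over Spec B. (5) If every ω^{[m]}, m ∈ ℤ, satisfies
relative S₂ over Spec A, then every ω'^{[m]} satisfies relative S₂ over Spec B and ω'^{[m]} ≅
p^*(ω^{[m]}). (Isomorphisms in existence form.) -/
theorem result
    (A : Type u) [CommRing A] [IsNoetherianRing A] (Y : Scheme.{u}) [Y.Over (Spec (CommRingCat.of A))]
    [IsProper (Y ↘ Spec (CommRingCat.of A))] (d : ℕ)
    (hS : RelCanon.IsSkMor (Y ↘ Spec (CommRingCat.of A)) 2) (hd : Cyc.HasRelDim (Y ↘ Spec (CommRingCat.of A)) d)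
    (ω : Y.Modules) (hω : RelCanon.IsDualizingSheaf A Y d ω)
    (hG : ∀ y : Y, y ∉ RelCanon.gorLocus (Y ↘ Spec (CommRingCat.of A)) →
      (2 : WithBot ℕ∞) ≤ ringKrullDim (((Y ↘ Spec (CommRingCat.of A)).fiber ((Y ↘ Spec (CommRingCat.of A)) y)).presheaf.stalk ((Y ↘ Spec (CommRingCat.of A)).asFiber y)))
    (B : Type u) [CommRing B] [IsNoetherianRing B] (φ : A →+* B)
    (Y' : Scheme.{u}) [Y'.Over (Spec (CommRingCat.of B))] (p : Y' ⟶ Y)
    (hp : IsPullback p (Y' ↘ Spec (CommRingCat.of B)) (Y ↘ Spec (CommRingCat.of A)) (Spec.map (CommRingCat.ofHom φ)))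
    (ω' : Y'.Modules) (hω' : RelCanon.IsDualizingSheaf B Y' d ω') :
    (RelCanon.IsQGorWith ω → RelCanon.IsQGorWith ω') ∧
    (∀ r : ℕ, 0 < r → PicF.IsInvertible (RelCanon.refPowZ ω r) →
      Nonempty (RelCanon.refPowZ ω' r ≅ (Scheme.Modules.pullback p).obj (RelCanon.refPowZ ω r))) ∧
    ((∀ (t : (Spec (CommRingCat.of A))) (ωt : ((Y ↘ Spec (CommRingCat.of A)).fiber t).Modules), @RelCanon.IsDualizingSheaf ((Spec (CommRingCat.of A)).residueField t) _ ((Y ↘ Spec (CommRingCat.of A)).fiber t) ⟨(Y ↘ Spec (CommRingCat.of A)).fiberToSpecResidueField t⟩ d ωt → RelCanon.IsQGorWith ωt) →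
      ∀ (t' : Spec (CommRingCat.of B)) (ωt' : ((Y' ↘ Spec (CommRingCat.of B)).fiber t').Modules),
        @RelCanon.IsDualizingSheaf ((Spec (CommRingCat.of B)).residueField t') _ ((Y' ↘ Spec (CommRingCat.of B)).fiber t') ⟨(Y' ↘ Spec (CommRingCat.of B)).fiberToSpecResidueField t'⟩ d ωt' →
        RelCanon.IsQGorWith ωt') ∧
    (RelCanon.IsQGorMorWith (Y ↘ Spec (CommRingCat.of A)) ω → RelCanon.IsQGorMorWith (Y' ↘ Spec (CommRingCat.of B)) ω' ∧
      ∀ m : ℤ, Nonempty (RelCanon.refPowZ ω' m ≅ (Scheme.Modules.pullback p).obj (RelCanon.refPowZ ω m))) := by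
  let f := Y ↘ Spec (CommRingCat.of A)
  let f' := Y' ↘ Spec (CommRingCat.of B)
  haveI : Flat f := hS.1
  haveI : IsNoetherianRing (CommRingCat.of A) := ‹IsNoetherianRing A›
  haveI : IsNoetherianRing (CommRingCat.of B) := ‹IsNoetherianRing B›
  haveI : IsLocallyNoetherian Y := LocallyOfFiniteType.isLocallyNoetherian f
  refine ⟨fun hQ => ?_, fun r hr hinv => ?_, fun hQ t' ωt' hωt' => ?_, fun h => ⟨fun m => ?_, fun m => ?_⟩⟩
  · exact QGorBCLib.isQGorWith_step (g := 𝟙 _) (p := 𝟙 Y) hd hω hS hG
      (IsPullback.of_id_fst (f := Y ↘ Spec (CommRingCat.of A))) hω hp hω' hQ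
  · obtain ⟨e⟩ := QGorBCLib.nonempty_pullback_iso_of_relSk hd hω hS hG hp hω' (r : ℤ) fun y =>
      ⟨QGorBCLib.isFlatOverAt_of_invertibleAt f (hinv y),
        QGorBCLib.skAt_pullback_fiber_of_invertibleAt f (hinv y) 2 (hS.2.2 y)⟩
    exact ⟨e.symm⟩
  · let g := Spec.map (CommRingCat.ofHom φ)
    let t := g t'
    obtain ⟨a, ha⟩ : ∃ a : f'.fiber t' ⟶ f.fiber t, IsPullback a (f'.fiberToSpecResidueField t')
        (f.fiberToSpecResidueField t) (Spec.map (g.residueFieldMap t')) :=
      ⟨_, isPullback_fiberToSpecResidueField_of_isPullback hp t'⟩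
    haveI : IsProper (f.fiberToSpecResidueField t) :=
      inferInstanceAs (IsProper (Limits.pullback.snd f ((Spec (CommRingCat.of A)).fromSpecResidueField t)))
    letI : (f.fiber t).Over (Spec (CommRingCat.of ((Spec (CommRingCat.of A)).residueField t))) :=
      ⟨f.fiberToSpecResidueField t⟩
    letI : (f'.fiber t').Over (Spec (CommRingCat.of ((Spec (CommRingCat.of B)).residueField t'))) :=
      ⟨f'.fiberToSpecResidueField t'⟩
    haveI : IsProper (f.fiber t ↘ Spec (CommRingCat.of ((Spec (CommRingCat.of A)).residueField t))) :=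
      ‹IsProper (f.fiberToSpecResidueField t)›
    have sq₁ : IsPullback (f.fiberι t) (f.fiberToSpecResidueField t) f
        ((Spec (CommRingCat.of A)).fromSpecResidueField t) := IsPullback.of_hasPullback _ _
    haveI : CompactSpace (f.fiber t) := QuasiCompact.compactSpace_of_compactSpace (f.fiberToSpecResidueField t)
    haveI : QuasiSeparatedSpace (f.fiber t) :=
      quasiSeparatedSpace_of_quasiSeparated (f.fiberToSpecResidueField t)
    let q := f.fiber t ↘ Spec (CommRingCat.of ((Spec (CommRingCat.of A)).residueField t))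
    haveI := DCohRestrLib.hasRpush q
    have hq : DCoh.RpushPreservesQCoh q := fun K hK => QRlimLib.isQCohD_rpush _ hK
    haveI := KoszOrthLib.isLeftAdjoint_rpushQ q hq
    let adj := Adjunction.ofIsLeftAdjoint (DCoh.RpushQ q hq)
    have hωt := (QGorBridgeLib.isGE_and_isDualizingSheaf_HD (A := ((Spec (CommRingCat.of A)).residueField t))
      (X := f.fiber t) adj (RelDualCMLib.unitQ _) ⟨Iso.refl _⟩ d
      (QGorSecLib.fibre_dim_le (A := ((Spec (CommRingCat.of A)).residueField t)) (Y := f.fiber t)
        (FibDimLib.hasRelDim_baseChange sq₁ hd))).2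
    exact QGorBCLib.isQGorWith_step (B := ((Spec (CommRingCat.of A)).residueField t))
      (C := ((Spec (CommRingCat.of B)).residueField t')) hd hω hS hG sq₁ hωt ha hωt' (hQ t _ hωt)
  · exact QGorBCLib.relSk_refPowZ_baseChange hd hω hS hG hp hω' m (h m)
  · obtain ⟨e⟩ := QGorBCLib.nonempty_pullback_iso_of_relSk hd hω hS hG hp hω' m (h m)
    exact ⟨e.symm⟩

end Groth.Agent.S19839
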