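import Groth.Statements.S1984
import Groth.Agent.EtRamStepLib.Total
import Groth.Agent.EtRamStepLib.Setup
-- import your own Groth.Agent.* helpers here

set_option autoImplicit false
universe u
open EtAlg

open scoped TensorProduct

namespace Groth.Agent.S1984

open TensorProduct in
/-- Let A -> B be a weakly unramified extension of discrete valuation rings with fraction fields K ⊂ L,
and K₁/K a finite separable extension which is totally ramified with respect to A. Then L ⊗_K K₁ is
a field and K₁ is a weak solution for A -> B (the valuation ring of L ⊗_K K₁ over B is weakly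
unramified over that of K₁ over A). -/
theorem result (A B K L : Type u) [CommRing A] [IsDomain A] [IsDiscreteValuationRing A]
    [CommRing B] [IsDomain B] [IsDiscreteValuationRing B] [Algebra A B] [IsLocalHom (algebraMap A B)]
    (hinj : Function.Injective (algebraMap A B))
    [Field K] [Field L] [Algebra A K] [IsFractionRing A K] [Algebra B L] [IsFractionRing B L]
    [Algebra K L] [Algebra A L] [IsScalarTower A K L] [IsScalarTower A B L]
    (hw : EtRam.IsWeaklyUnramified A B) (K₁ : Type u) [Field K₁] [Algebra K K₁] [FiniteDimensional K K₁]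
    [Algebra.IsSeparable K K₁] (ht : EtRam.IsTotallyRamified A ((algebraMap K K₁).comp (algebraMap A K))) :
    IsField (L ⊗[K] K₁) ∧ EtRam.IsWeakSolution B K L K₁ := by
  classical
  let _ : Algebra A K₁ := ((algebraMap K K₁).comp (algebraMap A K)).toAlgebra
  have : IsScalarTower A K K₁ := IsScalarTower.of_algebraMap_eq fun _ => rfl
  obtain ⟨π, hπ⟩ := IsDiscreteValuationRing.exists_irreducible A
  have hπB : Irreducible (algebraMap A B π) := (IsDiscreteValuationRing.irreducible_iff_uniformizer _).2 (by
    rw [← hw, hπ.maximalIdeal_eq, Ideal.map_span, Set.image_singleton])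
  obtain ⟨e, x, u, he, hu, hval, hspan, b, hb⟩ := EtRamStepLib.exists_uniformizer_basis A K K₁ ht hπ
  -- a common core: fields generated by `L` and `K₁`
  have core : ∀ (Ω : Type u) [Field Ω] [Algebra K Ω] [Algebra L Ω] [Algebra K₁ Ω] [IsScalarTower K L Ω] [IsScalarTower K K₁ Ω],
      Algebra.adjoin L (Set.range (algebraMap K₁ Ω)) = ⊤ → ∀ (W : ValuationSubring Ω),
      EtRam.Dominates B ((algebraMap L Ω).comp (algebraMap B L)) W →
      W.valuation (algebraMap K₁ Ω x) < 1 ∧
      (∀ z, W.valuation z < 1 → W.valuation z ≤ W.valuation (algebraMap K₁ Ω x)) ∧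
      ∀ l : Fin e → L, ∑ i, algebraMap L Ω (l i) * algebraMap K₁ Ω x ^ (i : ℕ) = 0 → l = 0 := by
    intro Ω _ _ _ _ _ _ hgen W hW
    let g := (algebraMap L Ω).comp (algebraMap B L)
    have hg : ∀ b : B, g b = algebraMap L Ω (algebraMap B L b) := fun _ => rfl
    let j := algebraMap K₁ Ω
    let y := j x
    have hA : ∀ a : A, j (algebraMap A K₁ a) = g (algebraMap A B a) := fun a => by
      rw [hg, ← IsScalarTower.algebraMap_apply A B L, IsScalarTower.algebraMap_apply A K L,
        ← IsScalarTower.algebraMap_apply K L Ω, IsScalarTower.algebraMap_apply A K K₁]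
      exact (IsScalarTower.algebraMap_apply K K₁ Ω _).symm
    have hdom : EtRam.Dominates A (algebraMap A K₁) (W.comap j) := by
      refine ⟨fun a => by show j _ ∈ W; rw [hA]; exact hW.1 _, fun a ha => ?_⟩
      refine lt_of_le_of_ne (((W.comap j).valuation_le_one_iff _).2 (by show j _ ∈ W; rw [hA]; exact hW.1 _)) fun h1 => ?_
      have h2 := ((W.comap j).valuation_le_one_iff (algebraMap A K₁ a)⁻¹).1 (by rw [map_inv₀, h1, inv_one])
      have h3 := (W.valuation_le_one_iff _).2 (show j _ ∈ W from h2)
      rw [map_inv₀, hA, map_inv₀] at h3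
      have hm : algebraMap A B a ∈ IsLocalRing.maximalIdeal B := fun h => ha (IsUnit.of_map (algebraMap A B) a h)
      by_cases h0 : W.valuation (g (algebraMap A B a)) = 0
      · rw [← hA, map_eq_zero, map_eq_zero] at h0
        rw [h0, map_zero] at h1
        exact zero_ne_one h1
      · exact not_le.2 ((one_lt_inv₀ (zero_lt_iff.2 h0)).2 (hW.2 _ hm)) h3
    obtain ⟨hx1, hu1⟩ := hval _ hdom
    have hone : ∀ t : K₁, (W.comap j).valuation t = 1 → W.valuation (j t) = 1 := fun t ht1 => by
      refine le_antisymm ((W.valuation_le_one_iff _).2 (((W.comap j).valuation_le_one_iff t).1 ht1.le)) ?_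
      have h1 := ((W.comap j).valuation_le_one_iff t⁻¹).1 (by rw [map_inv₀, ht1, inv_one])
      have h2 := (W.valuation_le_one_iff _).2 (show j _ ∈ W from h1)
      rw [map_inv₀, map_inv₀] at h2
      have hpos : W.valuation (j t) ≠ 0 := (map_ne_zero _).2 ((map_ne_zero _).2 fun e0 => by simp [e0] at ht1)
      exact (inv_le_one₀ (zero_lt_iff.2 hpos)).1 h2
    have hy1 : W.valuation y < 1 := by
      refine not_le.1 fun hge => not_le.2 hx1 ?_
      by_cases hx0 : x = 0
      · simp [y, j, hx0] at hge
      have h1 : (W.valuation (j x))⁻¹ ≤ 1 := inv_le_one_of_one_le₀ hge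
      rw [← map_inv₀, ← map_inv₀] at h1
      have h2 := ((W.comap j).valuation_le_one_iff x⁻¹).2 ((W.valuation_le_one_iff _).1 h1)
      rw [map_inv₀] at h2
      exact (inv_le_one₀ (zero_lt_iff.2 ((map_ne_zero _).2 hx0))).1 h2
    have hpow : W.valuation (g (algebraMap A B π)) = W.valuation y ^ e := by
      rw [← hA, hu, map_mul, map_mul, hone u hu1, one_mul, map_pow, map_pow]
    have hgπ : g (algebraMap A B π) ≠ 0 := by
      rw [hg]; exact (map_ne_zero _).2 ((map_ne_zero_iff _ (IsFractionRing.injective B L)).2 hπB.ne_zero)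
    have hlayer : EtRamStepLib.Layer W g e y (fun _ : Unit => (1 : Ω)) (algebraMap A B π) := by
      refine ⟨hπB, fun h0 => hgπ ?_, hy1, hpow, EtRamStepLib.indep_unique W hW⟩
      rw [h0, map_zero, zero_pow he.ne', map_eq_zero] at hpow
      exact hpow
    have hmon : ∀ i : Fin e, EtRamStepLib.Cleared g (algebraMap A B π) e y (fun _ : Unit => (1 : Ω)) (y ^ (i : ℕ)) := fun i => by
      simpa using EtRamStepLib.Cleared.monomial (g := g) (π := algebraMap A B π) (x := y) (e := fun _ : Unit => (1 : Ω)) i ()
    have h1 : EtRamStepLib.Cleared g (algebraMap A B π) e y (fun _ : Unit => (1 : Ω)) 1 := by simpa using hmon ⟨0, he⟩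
    have hcl : ∀ z : Ω, EtRamStepLib.Cleared g (algebraMap A B π) e y (fun _ : Unit => (1 : Ω)) z := fun z => by
      have hadj : z ∈ Algebra.adjoin L ({y} : Set Ω) := by
        have hz : z ∈ Algebra.adjoin L (Set.range (algebraMap K₁ Ω)) := hgen ▸ Algebra.mem_top
        refine Algebra.adjoin_le ?_ hz
        rintro _ ⟨k, rfl⟩
        have := hspan k
        induction this using Submodule.span_induction with
        | mem t ht => obtain ⟨i, rfl⟩ := ht; rw [map_pow]; exact pow_mem (Algebra.self_mem_adjoin_singleton L _) _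
        | zero => rw [map_zero]; exact zero_mem _
        | add t w _ _ ht hw => rw [map_add]; exact add_mem ht hw
        | smul c t _ ht =>
          rw [Algebra.smul_def, map_mul, ← IsScalarTower.algebraMap_apply, IsScalarTower.algebraMap_apply K L Ω]
          exact mul_mem (Subalgebra.algebraMap_mem _ _) ht
      refine EtRamStepLib.Cleared.adjoin hπB hg h1 (S := {y}) ?_ hadj
      rintro _ rfl i ⟨⟩
      rw [mul_one, ← pow_succ']
      rcases lt_or_eq_of_le (Nat.succ_le_of_lt i.2) with hlt | heq
      · exact hmon ⟨_, hlt⟩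
      · rw [show (i : ℕ) + 1 = e from heq, show y ^ e = j (x ^ e) from (map_pow j x e).symm, hb, map_mul, map_sum, Finset.mul_sum]
        refine Finset.sum_induction _ _ (fun _ _ => EtRamStepLib.Cleared.add) EtRamStepLib.Cleared.zero fun i _ => ?_
        rw [map_mul, map_pow, hA, hA, ← mul_assoc, mul_right_comm, ← map_mul g, hg]
        exact (hmon i).smul hπB hg _
    refine ⟨hy1, fun z hz => hlayer.le_of_lt_one he z (hcl z) hz, fun l hl => ?_⟩
    by_contra hne
    obtain ⟨⟨s, hs⟩, hden⟩ := IsLocalization.exist_integer_multiples_of_finite (nonZeroDivisors B) l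
    choose bl hbl using hden
    have hs0 : algebraMap B L s ≠ 0 := (map_ne_zero_iff _ (IsFractionRing.injective B L)).2 (nonZeroDivisors.ne_zero hs)
    have hne' : ∃ (i : Fin e) (_ : Unit), bl i ≠ 0 := by
      obtain ⟨i, hi⟩ := Function.ne_iff.1 hne
      refine ⟨i, (), fun h0 => hi ?_⟩
      have := hbl i
      rw [h0, map_zero, Algebra.smul_def, eq_comm, mul_eq_zero] at this
      exact this.resolve_left hs0
    obtain ⟨m, hm, -⟩ := hlayer.sum he (fun i _ => bl i) hne'
    have hzero : ∑ i : Fin e, y ^ (i : ℕ) * ∑ _ : Unit, g (bl i) * (1 : Ω) = 0 := by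
      have : algebraMap L Ω (algebraMap B L s) * (∑ i, algebraMap L Ω (l i) * y ^ (i : ℕ)) = 0 := by rw [hl, mul_zero]
      rw [Finset.mul_sum] at this
      rw [← this]
      refine Finset.sum_congr rfl fun i _ => ?_
      simp only [Finset.univ_unique, Finset.sum_singleton, mul_one, hg, hbl, Algebra.smul_def, map_mul]
      ring
    rw [hzero, map_zero] at hm
    exact pow_ne_zero m ((map_ne_zero _).2 hlayer.pos) hm.symm
  refine ⟨?_, fun Ω _ _ _ _ _ _ hgen W hW =>
    EtRamStepLib.weaklyUnramified_of_le W (algebraMap K₁ Ω) x (core Ω hgen W hW).1 (core Ω hgen W hW).2.1⟩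
  -- the tensor product
  let T := L ⊗[K] K₁
  have : Nontrivial T := inferInstance
  obtain ⟨Q, hQ⟩ := Ideal.exists_maximal T
  let Ω := T ⧸ Q
  let _ : Field Ω := Ideal.Quotient.field Q
  let j : K₁ →ₐ[K] Ω := (Ideal.Quotient.mkₐ K Q).comp Algebra.TensorProduct.includeRight
  let _ : Algebra K₁ Ω := j.toRingHom.toAlgebra
  have : IsScalarTower K K₁ Ω := IsScalarTower.of_algebraMap_eq fun k => (j.commutes k).symm
  have hgen : Algebra.adjoin L (Set.range (algebraMap K₁ Ω)) = ⊤ := by
    refine eq_top_iff.2 fun w hw => ?_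
    clear hw
    obtain ⟨t, rfl⟩ := Ideal.Quotient.mk_surjective w
    induction t using TensorProduct.induction_on with
    | zero => rw [map_zero]; exact zero_mem _
    | add t s ht hs => rw [map_add]; exact add_mem ht hs
    | tmul l k =>
      rw [show l ⊗ₜ[K] k = algebraMap L T l * Algebra.TensorProduct.includeRight k by
        show _ = (l ⊗ₜ[K] (1 : K₁)) * ((1 : L) ⊗ₜ[K] k)
        rw [Algebra.TensorProduct.tmul_mul_tmul, mul_one, one_mul], map_mul]
      refine mul_mem ?_ (Algebra.subset_adjoin ⟨k, rfl⟩)
      rw [← Ideal.Quotient.algebraMap_eq, ← IsScalarTower.algebraMap_apply L T Ω]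
      exact Subalgebra.algebraMap_mem _ l
  let g := (algebraMap L Ω).comp (algebraMap B L)
  have hginj : Function.Injective g := (algebraMap L Ω).injective.comp (IsFractionRing.injective B L)
  obtain ⟨W, hW⟩ : ∃ W : ValuationSubring Ω, EtRam.Dominates B g W := by
    let I : Ideal g.range := Ideal.map g.rangeRestrict (IsLocalRing.maximalIdeal B)
    have hbij : Function.Bijective g.rangeRestrict := ⟨fun a b h => hginj (congrArg Subtype.val h), g.rangeRestrict_surjective⟩
    have hI : I ≠ ⊤ := by
      intro htop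
      have := congrArg (Ideal.comap g.rangeRestrict) htop
      rw [Ideal.comap_map_of_bijective g.rangeRestrict hbij, Ideal.comap_top] at this
      exact (IsLocalRing.maximalIdeal.isMaximal B).ne_top this
    obtain ⟨W, hle, hnu⟩ := Ideal.image_subset_nonunits_valuationSubring I hI
    exact ⟨W, fun a => hle ⟨a, rfl⟩, fun a ha =>
      (ValuationSubring.mem_nonunits_iff _).1 (hnu ⟨g.rangeRestrict a, Ideal.mem_map_of_mem _ ha, rfl⟩)⟩
  have hindep := (core Ω hgen W hW).2.2
  have hle : Module.finrank K K₁ ≤ e := by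
    have h := finrank_range_le_card (R := K) (fun i : Fin e => x ^ (i : ℕ))
    rw [Set.finrank, show Submodule.span K (Set.range fun i : Fin e => x ^ (i : ℕ)) = ⊤ from eq_top_iff.2 fun z _ => hspan z,
      finrank_top, Fintype.card_fin] at h
    exact h
  have hli : LinearIndependent L (fun i : Fin e => algebraMap K₁ Ω x ^ (i : ℕ)) := by
    refine Fintype.linearIndependent_iff.2 fun l hl => congrFun (hindep l ?_)
    simpa [Algebra.smul_def] using hl
  have hfT : Module.finrank L T = Module.finrank K K₁ := Module.finrank_baseChange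
  have hinjQ : Function.Injective (Ideal.Quotient.mkₐ L Q).toLinearMap := by
    have hsurj : Function.Surjective (Ideal.Quotient.mkₐ L Q).toLinearMap := Ideal.Quotient.mk_surjective
    have : FiniteDimensional L Ω := Module.Finite.of_surjective _ hsurj
    have h1 := hli.fintype_card_le_finrank
    rw [Fintype.card_fin] at h1
    have h2 := LinearMap.finrank_le_finrank_of_surjective hsurj
    exact (LinearMap.injective_iff_surjective_of_finrank_eq_finrank (le_antisymm ((hfT.le.trans hle).trans h1) h2)).2 hsurj
  exact (RingEquiv.ofBijective (Ideal.Quotient.mk Q) ⟨hinjQ, Ideal.Quotient.mk_surjective⟩).toMulEquiv.isField (Field.toIsField Ω)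

end Groth.Agent.S1984
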