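import Groth.Statements.S19841
import Groth.Agent.QGorLiftLib.ArtinMain
import Mathlib.RingTheory.Ideal.KrullsHeightTheorem

set_option autoImplicit false
set_option backward.isDefEq.respectTransparency false
set_option backward.isDefEq.respectTransparency.types false
set_option linter.style.haveILetI false
set_option maxHeartbeats 1000000
universe u
open QGor

namespace Groth.Agent.S19841

open CategoryTheory AlgebraicGeometry in
/-- (i) ⇔ (ii): let Y → Spec A be a proper S₂-morphism to a Noetherian affine base, of pure relative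
dimension d, with fibres Gorenstein in codimension one and relative canonical sheaf ω (characterised
by the d-dualizing property over A); let y be a point over t ∈ Spec A at which the fibre Y_t is
ℚ-Gorenstein (w.r.t. its canonical sheaf), and m > 0. Then ω^{[m]} satisfies relative S₂ over the
base at y if and only if for every Artinian local ring A', every surjective ring map from the local
ring A_t of Spec A at t onto A', every cartesian square Y' → Y over Spec A' → Spec A with projection
p, every module ω' with the d-dualizing property for Y' over A' (its relative canonical sheaf) and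
every point y' of Y' mapping to y, the reflexive power ω'^{[m]} satisfies relative S₂ over Spec A'
at y'. -/
theorem result
    (A : Type u) [CommRing A] [IsNoetherianRing A] (Y : Scheme.{u}) [Y.Over (Spec (CommRingCat.of A))]
    [IsProper (Y ↘ Spec (CommRingCat.of A))] (d : ℕ)
    (hS : RelCanon.IsSkMor (Y ↘ Spec (CommRingCat.of A)) 2) (hd : Cyc.HasRelDim (Y ↘ Spec (CommRingCat.of A)) d)
    (ω : Y.Modules) (hω : RelCanon.IsDualizingSheaf A Y d ω)
    (hG : ∀ y : Y, y ∉ RelCanon.gorLocus (Y ↘ Spec (CommRingCat.of A)) →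
      (2 : WithBot ℕ∞) ≤ ringKrullDim (((Y ↘ Spec (CommRingCat.of A)).fiber ((Y ↘ Spec (CommRingCat.of A)) y)).presheaf.stalk ((Y ↘ Spec (CommRingCat.of A)).asFiber y)))
    (y : Y) (t : (Spec (CommRingCat.of A))) (ht : (Y ↘ Spec (CommRingCat.of A)) y = t)
    (hQy : ∀ ωt : ((Y ↘ Spec (CommRingCat.of A)).fiber ((Y ↘ Spec (CommRingCat.of A)) y)).Modules, @RelCanon.IsDualizingSheaf ((Spec (CommRingCat.of A)).residueField ((Y ↘ Spec (CommRingCat.of A)) y)) _ ((Y ↘ Spec (CommRingCat.of A)).fiber ((Y ↘ Spec (CommRingCat.of A)) y)) ⟨(Y ↘ Spec (CommRingCat.of A)).fiberToSpecResidueField ((Y ↘ Spec (CommRingCat.of A)) y)⟩ d ωt → RelCanon.IsQGorWithAt ωt ((Y ↘ Spec (CommRingCat.of A)).asFiber y))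
    (m : ℕ) (hm : 0 < m) :
    RelCanon.RelSkAt (Y ↘ Spec (CommRingCat.of A)) 2 (RelCanon.refPowZ ω m) y ↔
    ∀ (A' : Type u) [CommRing A'] [IsArtinianRing A'] [IsLocalRing A']
      (ψ : Localization.AtPrime t.asIdeal →+* A') (hψ : Function.Surjective ψ)
      (Y' : Scheme.{u}) [Y'.Over (Spec (CommRingCat.of A'))] (p : Y' ⟶ Y)
      (hp : IsPullback p (Y' ↘ Spec (CommRingCat.of A')) (Y ↘ Spec (CommRingCat.of A))
        (Spec.map (CommRingCat.ofHom (ψ.comp (algebraMap A (Localization.AtPrime t.asIdeal))))))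
      (ω' : Y'.Modules) (hω' : RelCanon.IsDualizingSheaf A' Y' d ω') (y' : Y') (hy' : p y' = y),
      RelCanon.RelSkAt (Y' ↘ Spec (CommRingCat.of A')) 2 (RelCanon.refPowZ ω' m) y' := by
  let f := Y ↘ Spec (CommRingCat.of A)
  haveI : Flat f := hS.1
  subst ht
  constructor
  · intro hy A' _ _ _ ψ hψ Y' _ p hp ω' hω' y' hy'
    subst hy'
    refine QGorLiftLib.relSkAt_refPowZ_baseChange hd hω hS hG hp hω' m (fun v _ => ?_) hy
    have e : ∀ z : Y', f (p z) = Spec.map (CommRingCat.ofHom (ψ.comp (algebraMap A _))) ((Y' ↘ Spec (CommRingCat.of A')) z) :=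
      fun z => congrArg (fun φ : Y' ⟶ Spec (CommRingCat.of A) => φ z) hp.w
    haveI : Subsingleton (PrimeSpectrum A') := ⟨fun a b => PrimeSpectrum.ext
      ((IsLocalRing.eq_maximalIdeal inferInstance).trans (IsLocalRing.eq_maximalIdeal inferInstance).symm)⟩
    exact ((e v).trans (congrArg _ (Subsingleton.elim (α := PrimeSpectrum A') ((Y' ↘ Spec (CommRingCat.of A')) v)
      ((Y' ↘ Spec (CommRingCat.of A')) y')))).trans (e y').symm
  · intro H
    refine QGorLiftLib.relSkAt_refPowZ_of_thickenings hd hω hS hG m y fun k Y' _ p sq ω' hω' y' hy' => ?_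
    let R := (Spec (CommRingCat.of A)).presheaf.stalk (f y)
    letI : Algebra A R := (StructureSheaf.toStalk A (f y)).hom.toAlgebra
    haveI : IsLocalization.AtPrime R (f y).asIdeal := StructureSheaf.IsLocalization.to_stalk A (f y)
    let a := IsLocalization.algEquiv (f y).asIdeal.primeCompl (Localization.AtPrime (f y).asIdeal) R
    haveI : IsNoetherianRing R := IsLocalization.isNoetherianRing (f y).asIdeal.primeCompl R inferInstance
    haveI : IsArtinianRing (R ⧸ IsLocalRing.maximalIdeal R ^ (k + 1)) :=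
      IsLocalRing.quotient_artinian_of_mem_minimalPrimes_of_isLocalRing _
        ⟨⟨(IsLocalRing.maximalIdeal.isMaximal R).isPrime, Ideal.pow_le_self (Nat.succ_ne_zero k)⟩,
          fun q hq _ => hq.1.le_of_pow_le hq.2⟩
    haveI : Nontrivial (R ⧸ IsLocalRing.maximalIdeal R ^ (k + 1)) := Ideal.Quotient.nontrivial_iff.2
      fun h => (IsLocalRing.maximalIdeal.isMaximal R).ne_top (top_le_iff.1 (h.ge.trans (Ideal.pow_le_self (Nat.succ_ne_zero k))))
    haveI : IsLocalRing (R ⧸ IsLocalRing.maximalIdeal R ^ (k + 1)) := .of_surjective' _ Ideal.Quotient.mk_surjective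
    refine H (R ⧸ IsLocalRing.maximalIdeal R ^ (k + 1))
      ((Ideal.Quotient.mk _).comp a.toAlgHom.toRingHom) (Ideal.Quotient.mk_surjective.comp a.surjective)
      Y' p ?_ ω' hω' y' hy'
    have e : Spec.map (CommRingCat.ofHom (((Ideal.Quotient.mk (IsLocalRing.maximalIdeal R ^ (k + 1))).comp
          a.toAlgHom.toRingHom).comp (algebraMap A (Localization.AtPrime (f y).asIdeal)))) =
        Spec.map (CommRingCat.ofHom (Ideal.Quotient.mk (IsLocalRing.maximalIdeal R ^ (k + 1)))) ≫
          (Spec (CommRingCat.of A)).fromSpecStalk (f y) := by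
      rw [RingHom.comp_assoc, show a.toAlgHom.toRingHom.comp (algebraMap A (Localization.AtPrime (f y).asIdeal)) =
        algebraMap A R from RingHom.ext a.commutes, Spec.fromSpecStalk_eq', ← Spec.map_comp]
      rfl
    rw [e]
    exact sq

end Groth.Agent.S19841
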