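import Groth.Statements.S19844
import Groth.Agent.QGorLiftLib.Main

set_option autoImplicit false
set_option backward.isDefEq.respectTransparency false
set_option backward.isDefEq.respectTransparency.types false
set_option linter.style.haveILetI false
set_option maxHeartbeats 1000000
universe u
open QGor

namespace Groth.Agent.S19844

open CategoryTheory AlgebraicGeometry in
/-- Let Y → Spec A be a proper S₂-morphism to a Noetherian affine base, of pure relative dimension d,
with fibres Gorenstein in codimension one and relative canonical sheaf ω (characterised by the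
d-dualizing property over A); let t be a point of Spec A and ω_t a d-dualizing module on the fibre
Y_t over κ(t) (the canonical sheaf of the fibre). Assume (i) Y_t is ℚ-Gorenstein: some ω_t^{[r]}, r
> 0, is invertible at each point; (ii) Y_t is Gorenstein in codimension two: at every point of Y_t
outside the relative Gorenstein locus the local ring of Y_t has dimension ≥ 3; (iii) every
ω_t^{[m]}, m ∈ ℤ, satisfies S₃ at every point of Y_t. Then for every m ∈ ℤ the reflexive power
ω^{[m]} satisfies relative S₂ over the base at every point of Y_t. -/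
theorem result
    (A : Type u) [CommRing A] [IsNoetherianRing A] (Y : Scheme.{u}) [Y.Over (Spec (CommRingCat.of A))]
    [IsProper (Y ↘ Spec (CommRingCat.of A))] (d : ℕ)
    (hS : RelCanon.IsSkMor (Y ↘ Spec (CommRingCat.of A)) 2) (hd : Cyc.HasRelDim (Y ↘ Spec (CommRingCat.of A)) d)
    (ω : Y.Modules) (hω : RelCanon.IsDualizingSheaf A Y d ω)
    (hG : ∀ y : Y, y ∉ RelCanon.gorLocus (Y ↘ Spec (CommRingCat.of A)) →
      (2 : WithBot ℕ∞) ≤ ringKrullDim (((Y ↘ Spec (CommRingCat.of A)).fiber ((Y ↘ Spec (CommRingCat.of A)) y)).presheaf.stalk ((Y ↘ Spec (CommRingCat.of A)).asFiber y)))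
    (t : (Spec (CommRingCat.of A))) (ωt : ((Y ↘ Spec (CommRingCat.of A)).fiber t).Modules) (hωt : @RelCanon.IsDualizingSheaf ((Spec (CommRingCat.of A)).residueField t) _ ((Y ↘ Spec (CommRingCat.of A)).fiber t) ⟨(Y ↘ Spec (CommRingCat.of A)).fiberToSpecResidueField t⟩ d ωt)
    (h1 : RelCanon.IsQGorWith ωt)
    (h2 : ∀ y : Y, (Y ↘ Spec (CommRingCat.of A)) y = t → y ∉ RelCanon.gorLocus (Y ↘ Spec (CommRingCat.of A)) → (3 : WithBot ℕ∞) ≤ ringKrullDim (((Y ↘ Spec (CommRingCat.of A)).fiber ((Y ↘ Spec (CommRingCat.of A)) y)).presheaf.stalk ((Y ↘ Spec (CommRingCat.of A)).asFiber y)))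
    (h3 : ∀ m : ℤ, RelCanon.HasSk 3 (RelCanon.refPowZ ωt m)) :
    ∀ m : ℤ, ∀ y : Y, (Y ↘ Spec (CommRingCat.of A)) y = t → RelCanon.RelSkAt (Y ↘ Spec (CommRingCat.of A)) 2 (RelCanon.refPowZ ω m) y := by
  let f := Y ↘ Spec (CommRingCat.of A)
  haveI : Flat f := hS.1
  haveI : IsNoetherianRing (CommRingCat.of A) := ‹IsNoetherianRing A›
  haveI : IsLocallyNoetherian Y := LocallyOfFiniteType.isLocallyNoetherian f
  intro m y hy
  subst hy
  haveI : IsLocallyNoetherian (f.fiber (f y)) :=
    haveI := UOpenLib.lft_fiberToSpec f (f y)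
    LocallyOfFiniteType.isLocallyNoetherian (f.fiberToSpecResidueField (f y))
  obtain ⟨φ, hφ⟩ := Spec.map_surjective ((Spec (CommRingCat.of A)).fromSpecResidueField (f y))
  letI : (f.fiber (f y)).Over (Spec (CommRingCat.of ((Spec (CommRingCat.of A)).residueField (f y)))) :=
    ⟨f.fiberToSpecResidueField (f y)⟩
  have sq : IsPullback (f.fiberι (f y)) (f.fiber (f y) ↘ Spec (CommRingCat.of
      ((Spec (CommRingCat.of A)).residueField (f y)))) f (Spec.map φ) :=
    hφ.symm ▸ IsPullback.of_hasPullback f ((Spec (CommRingCat.of A)).fromSpecResidueField (f y))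
  haveI : IsProper (f.fiber (f y) ↘ Spec (CommRingCat.of ((Spec (CommRingCat.of A)).residueField (f y)))) :=
    MorphismProperty.of_isPullback (P := @IsProper) sq inferInstance
  have hc := QGorBCLib.isCoh_refPowZ (QGorSecLib.isCoh_dualizing (FibDimLib.hasRelDim_baseChange sq hd) hωt) m
  have hs := QGorLiftLib.support_refPowZ_fibre hd hω (f y)
    (QGorLiftLib.two_le_dim_fibre (f y) fun z _ => hG z) hωt m
  obtain ⟨hflat, ⟨e⟩⟩ := QGorLiftLib.flat_refPowZ_and_fibre hd hω hS (f y)
    (QGorLiftLib.two_le_dim_fibre (f y) fun z _ => hG z) hωt m (f.asFiber y)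
    fun v _ hvG => by
      have h3' : (3 : WithBot ℕ∞) ≤ ringKrullDim ((f.fiber (f y)).presheaf.stalk v) :=
        (h2 _ ((f.range_fiberι (f y)).le ⟨v, rfl⟩) hvG).trans_eq
          (AlgSpLib.stalkDim_fiber_congr f (f y) v _ rfl).symm
      exact QGorLiftLib.le_depth_of_skAt hc hs specializes_rfl (h3 m v) h3'
  rw [f.fiberι_asFiber] at hflat
  refine ⟨hflat, DepthLib.hasSk_congr e.symm 2 fun p hp => le_trans (min_le_min_right _ ?_) (h3 m (f.asFiber y) p)⟩
  exact_mod_cast (by norm_num : (2 : ℕ) ≤ 3)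

end Groth.Agent.S19844
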