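import Groth.Statements.S19846
import Groth.Agent.QGorLiftLib.Near

set_option autoImplicit false
set_option backward.isDefEq.respectTransparency false
set_option backward.isDefEq.respectTransparency.types false
set_option linter.style.haveILetI false
set_option maxHeartbeats 1000000
universe u
open QGor

namespace Groth.Agent.S19846

open CategoryTheory AlgebraicGeometry in
/-- Let Y → Spec A be a proper S₂-morphism to a Noetherian affine base, of pure relative dimension d,
with relative canonical sheaf ω (characterised by the d-dualizing property over A); let Y° be the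
relative Gorenstein locus, t a point of Spec A and ω_t a d-dualizing module on the fibre Y_t over
κ(t) (its canonical sheaf), with Y_t ℚ-Gorenstein: Gorenstein in codimension one (local rings of Y_t
of dimension ≥ 2 at points outside Y°) and some ω_t^{[r]}, r > 0, invertible at each point. If for
every m ≥ 1 there is a coherent O_Y-module M_m with M_m ⊗ O_{Y_t} ≅ ω_t^{[m]} and M_m|_{Y°} ≅
(ω|_{Y°})^{⊗ m}, then for every m ≥ 0 the reflexive power ω^{[m]} satisfies relative S₂ over the
base at every point of Y_t. (The printed conclusion is that the morphism is ℚ-Gorenstein along Y_t;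
the printed argument establishes the relative S₂ property for the non-negative powers, which is what
is stated.) -/
theorem result
    (A : Type u) [CommRing A] [IsNoetherianRing A] (Y : Scheme.{u}) [Y.Over (Spec (CommRingCat.of A))]
    [IsProper (Y ↘ Spec (CommRingCat.of A))] (d : ℕ)
    (hS : RelCanon.IsSkMor (Y ↘ Spec (CommRingCat.of A)) 2) (hd : Cyc.HasRelDim (Y ↘ Spec (CommRingCat.of A)) d)
    (ω : Y.Modules) (hω : RelCanon.IsDualizingSheaf A Y d ω)
    (Yo : Y.Opens) (hYo : (Yo : Set Y) = RelCanon.gorLocus (Y ↘ Spec (CommRingCat.of A)))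
    (t : (Spec (CommRingCat.of A))) (ωt : ((Y ↘ Spec (CommRingCat.of A)).fiber t).Modules) (hωt : @RelCanon.IsDualizingSheaf ((Spec (CommRingCat.of A)).residueField t) _ ((Y ↘ Spec (CommRingCat.of A)).fiber t) ⟨(Y ↘ Spec (CommRingCat.of A)).fiberToSpecResidueField t⟩ d ωt)
    (hG1 : ∀ y : Y, (Y ↘ Spec (CommRingCat.of A)) y = t → y ∉ Yo → (2 : WithBot ℕ∞) ≤ ringKrullDim (((Y ↘ Spec (CommRingCat.of A)).fiber ((Y ↘ Spec (CommRingCat.of A)) y)).presheaf.stalk ((Y ↘ Spec (CommRingCat.of A)).asFiber y)))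
    (hQ : RelCanon.IsQGorWith ωt)
    (M : ℕ → Y.Modules) (hMc : ∀ m : ℕ, 1 ≤ m → Coh.IsCoh (M m))
    (hMt : ∀ m : ℕ, 1 ≤ m →
      Nonempty ((Scheme.Modules.pullback ((Y ↘ Spec (CommRingCat.of A)).fiberι t)).obj (M m) ≅ RelCanon.refPowZ ωt m))
    (hMo : ∀ m : ℕ, 1 ≤ m → Nonempty ((M m).restrict Yo.ι ≅ CohB1.tensorPow (ω.restrict Yo.ι) m)) :
    ∀ (m : ℕ) (y : Y), (Y ↘ Spec (CommRingCat.of A)) y = t → RelCanon.RelSkAt (Y ↘ Spec (CommRingCat.of A)) 2 (RelCanon.refPowZ ω m) y := by
  let f := Y ↘ Spec (CommRingCat.of A)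
  haveI : Flat f := hS.1
  haveI : IsNoetherianRing (CommRingCat.of A) := ‹IsNoetherianRing A›
  haveI : IsLocallyNoetherian Y := LocallyOfFiniteType.isLocallyNoetherian f
  intro m y hy
  subst hy
  haveI : IsLocallyNoetherian (f.fiber (f y)) :=
    haveI := UOpenLib.lft_fiberToSpec f (f y)
    LocallyOfFiniteType.isLocallyNoetherian (f.fiberToSpecResidueField (f y))
  have hYG : Yo = QGorBCLib.gorOpen A Y := TopologicalSpace.Opens.ext hYo
  subst hYG
  let G := QGorBCLib.gorOpen A Y
  have hGt := QGorLiftLib.two_le_dim_fibre (f y) hG1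
  have hcω := QGorSecLib.isCoh_dualizing hd hω
  have hinv := QGorBCLib.isInvertible_gorOpen hd hω
  obtain ⟨N, hN, ⟨eN⟩, ⟨et⟩⟩ : ∃ N : Y.Modules, Coh.IsCoh N ∧
      Nonempty (N.restrict G.ι ≅ (RelCanon.refPowZ ω m).restrict G.ι) ∧
      Nonempty ((Scheme.Modules.pullback (f.fiberι (f y))).obj N ≅ RelCanon.refPowZ ωt m) := by
    rcases Nat.eq_zero_or_pos m with rfl | hm
    · obtain ⟨φ, hφ⟩ := Spec.map_surjective ((Spec (CommRingCat.of A)).fromSpecResidueField (f y))
      have hO : ∀ {Z : Scheme.{u}} [IsLocallyNoetherian Z],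
          Nonempty (RefHull.ddual (Coh.structureModule Z) ≅ Coh.structureModule Z) := fun {Z} _ => by
        haveI := (RefHullLib.isIso_iff_stalk (RefHull.bidualMap (Coh.structureModule Z))).2 fun z =>
            ((RefHullLib.bijective_stalk_bidual_iff (DevissLib.isCoh_structureModule Z) z).2
              (QGorSecLib.isReflexiveAt_of_invertibleAt
                ((RelCanon.isInvertible_iff_invertibleAt _).1 CurvLib.isInvertible_structureModule z)))
        exact ⟨(asIso (RefHull.bidualMap (Coh.structureModule Z))).symm⟩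
      obtain ⟨a⟩ := hO (Z := Y)
      obtain ⟨b⟩ := hO (Z := f.fiber (f y))
      exact ⟨Coh.structureModule Y, DevissLib.isCoh_structureModule Y,
        ⟨(Scheme.Modules.restrictFunctor G.ι).mapIso a.symm⟩, ⟨KFlatLib.pullUnitIso (f.fiberι (f y)) ≪≫ b.symm⟩⟩
    · obtain ⟨e1⟩ := hMo m hm
      obtain ⟨e2⟩ := QGorBCLib.nonempty_ddual_restrict (QGorBCLib.isCoh_tensorPow hcω m)
        (QGorBCLib.isInvertible_tensorPow_restrict hinv m)
      obtain ⟨e3⟩ : Nonempty (CohB1.tensorPow (ω.restrict G.ι) m ≅ (CohB1.tensorPow ω m).restrict G.ι) :=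
        CubeConsLib.cl_eq_iff.1 (by
          rw [QGorBCLib.cl_tensorPow, QGorBCLib.cl_restrict, QGorBCLib.cl_restrict, QGorBCLib.cl_tensorPow, map_pow])
      exact ⟨M m, hMc m hm, ⟨e1 ≪≫ e3 ≪≫ e2.symm⟩, hMt m hm⟩
  obtain ⟨hflat, ⟨e⟩⟩ := QGorLiftLib.flat_refPowZ_and_fibre_of_extension hS (f y) hGt hd hω hωt (m : ℤ) hN eN
    (f.asFiber y) (QGorLiftLib.stalkEquiv et (f.asFiber y))
  rw [f.fiberι_asFiber] at hflat
  exact ⟨hflat, DepthLib.hasSk_congr e.symm 2
    (QGorLiftLib.skAt_refPowZ_fibre hd hω hS (f y) hGt hωt m (f.asFiber y))⟩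

end Groth.Agent.S19846
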