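import Groth.Statements.S1985
import Groth.Agent.SHDescLib.Tools
import Groth.Agent.SemilocalNormLib.Main
import Groth.Agent.NormalLib.Transfer
import Mathlib.RingTheory.Finiteness.Descent
import Mathlib.RingTheory.Flat.FaithfullyFlat.Algebra

set_option autoImplicit false
universe u
open EtAlg

open scoped TensorProduct
namespace Groth.Agent.S1985

set_option maxHeartbeats 800000 in
theorem finite_closure {A B K L : Type u} [CommRing A] [IsDomain A] [IsDiscreteValuationRing A]
    [CommRing B] [IsDomain B] [IsDiscreteValuationRing B] [Algebra A B] [IsLocalHom (algebraMap A B)]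
    (hinj : Function.Injective (algebraMap A B))
    [Field K] [Field L] [Algebra A K] [IsFractionRing A K] [Algebra B L] [IsFractionRing B L]
    [Algebra K L] [Algebra A L] [IsScalarTower A K L] [IsScalarTower A B L] [Algebra.IsSeparable K L] (hB : CAlg.IsNagata B)
    (K' : Type u) [Field K'] [Algebra A K'] [Algebra K K'] [IsScalarTower A K K'] [FiniteDimensional K K'] :
    Module.Finite A (integralClosure A K') := by
  have : FaithfulSMul A B := (faithfulSMul_iff_algebraMap_injective A B).2 hinj
  have : FaithfulSMul A L := (faithfulSMul_iff_algebraMap_injective A L).2 (by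
    rw [IsScalarTower.algebraMap_eq A K L]; exact (algebraMap K L).injective.comp (IsFractionRing.injective A K))
  have : FaithfulSMul A K' := (faithfulSMul_iff_algebraMap_injective A K').2 (by
    rw [IsScalarTower.algebraMap_eq A K K']; exact (algebraMap K K').injective.comp (IsFractionRing.injective A K))
  let A' := integralClosure A K'
  let T := L ⊗[K] K'
  have hred : IsReduced T := by
    have h1 : Algebra.IsGeometricallyReduced K L := SHDescLib.geomRed_of_separable
    have h2 := ((Groth.Agent.S9634.result (k := K) (S := L)).out 1 2).1 h1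
    have h3 : IsReduced (K' ⊗[K] L) := h2 K'
    exact isReduced_of_injective _ (Algebra.TensorProduct.comm K L K').injective
  have : IsArtinianRing T := IsArtinianRing.of_finite L T
  have hcompat : TensorProduct.CompatibleSMul A K L K' :=
    IsLocalization.tensorProduct_compatibleSMul (nonZeroDivisors A) K L K'
  let e₀ : L ⊗[K] K' ≃ₐ[A] L ⊗[A] K' := Algebra.TensorProduct.equivOfCompatibleSMul A K A L K'
  let iL : L →ₐ[A] T := (Algebra.TensorProduct.includeLeft : L →ₐ[K] T).restrictScalars A
  let iK : K' →ₐ[A] T := (Algebra.TensorProduct.includeRight : K' →ₐ[K] T).restrictScalars A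
  let ψ : B ⊗[A] A' →ₐ[B] T := Algebra.TensorProduct.lift (IsScalarTower.toAlgHom B L T |>.comp (IsScalarTower.toAlgHom B B L))
    (iK.comp A'.val) fun _ _ => Commute.all _ _
  have hψ : Function.Injective ψ := by
    let m := Algebra.TensorProduct.map (IsScalarTower.toAlgHom A B L) A'.val
    have h1 : Function.Injective (Algebra.TensorProduct.map (AlgHom.id A B) A'.val) :=
      Module.Flat.lTensor_preserves_injective_linearMap _ Subtype.val_injective
    have h2 : Function.Injective (Algebra.TensorProduct.map (IsScalarTower.toAlgHom A B L) (AlgHom.id A K')) :=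
      Module.Flat.rTensor_preserves_injective_linearMap _ (IsFractionRing.injective B L)
    have hm : Function.Injective m := by
      have h3 : m = (Algebra.TensorProduct.map (IsScalarTower.toAlgHom A B L) (AlgHom.id A K')).comp
          (Algebra.TensorProduct.map (AlgHom.id A B) A'.val) := Algebra.TensorProduct.ext' fun a b => rfl
      rw [h3]
      exact h2.comp h1
    have heq : ∀ x, ψ x = e₀.symm (m x) := fun x => by
      induction x using TensorProduct.induction_on with
      | zero => simp
      | tmul b a =>
        show ((algebraMap B L b) ⊗ₜ[K] (1 : K')) * ((1 : L) ⊗ₜ (a : K')) = (algebraMap B L b) ⊗ₜ[K] (a : K')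
        rw [Algebra.TensorProduct.tmul_mul_tmul, mul_one, one_mul]
      | add x y hx hy => rw [map_add, map_add, map_add, hx, hy]
    intro x y hxy
    rw [heq, heq] at hxy
    exact hm (e₀.symm.injective hxy)
  have hint : ∀ x : B ⊗[A] A', IsIntegral B x := fun x => by
    induction x using TensorProduct.induction_on with
    | zero => exact isIntegral_zero
    | tmul b a =>
      have ha : IsIntegral A ((1 : B) ⊗ₜ[A] a) :=
        (Algebra.IsIntegral.isIntegral (R := A) a).map (Algebra.TensorProduct.includeRight : A' →ₐ[A] B ⊗[A] A')
      rw [show (b ⊗ₜ[A] a : B ⊗[A] A') = algebraMap B (B ⊗[A] A') b * (1 ⊗ₜ a) by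
        show _ = b ⊗ₜ[A] (1 : A') * ((1 : B) ⊗ₜ a)
        rw [Algebra.TensorProduct.tmul_mul_tmul, mul_one, one_mul]]
      exact isIntegral_algebraMap.mul ha.tower_top
    | add x y hx hy => exact hx.add hy
  -- finiteness in every residue field of the artinian ring
  have hB2 : CAlg.IsN2 B := NormalLib.isN2_of_ringEquiv (RingEquiv.quotientBot B) (hB.2 ⊥)
  have hfin : ∀ i : MaximalSpectrum T, Module.Finite B (integralClosure B (T ⧸ i.asIdeal)) := fun i => by
    letI := Ideal.Quotient.field i.asIdeal
    exact SemilocalNormLib.finite_integralClosure_of_isN2 hB2 L (T ⧸ i.asIdeal)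
  let f : (B ⊗[A] A') →ₗ[B] ((i : MaximalSpectrum T) → integralClosure B (T ⧸ i.asIdeal)) := LinearMap.pi fun i =>
    (((Ideal.Quotient.mkₐ B i.asIdeal).comp ψ).codRestrict _ fun x =>
      (hint x).map ((Ideal.Quotient.mkₐ B i.asIdeal).comp ψ)).toLinearMap
  have hf : Function.Injective f := fun x y hxy => hψ <| by
    refine sub_eq_zero.1 (IsReduced.eq_zero _ ?_)
    rw [← mem_nilradical, nilradical_eq_sInf]
    refine Ideal.mem_sInf.2 fun {P} (hP : P.IsPrime) => ?_
    have hPm : P.IsMaximal := inferInstance
    have h1 := congrArg Subtype.val (congrFun hxy ⟨P, hPm⟩)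
    rw [← Ideal.Quotient.eq_zero_iff_mem, map_sub, sub_eq_zero]
    exact h1
  have : IsNoetherianRing B := hB.1
  have : Finite (MaximalSpectrum T) := inferInstance
  have : Module.Finite B (B ⊗[A] A') := Module.Finite.of_injective f hf
  have : Module.FaithfullyFlat A B := Module.FaithfullyFlat.of_flat_of_isLocalHom
  exact Module.Finite.of_finite_tensorProduct_of_faithfullyFlat B

/-- Let A -> B be an extension of discrete valuation rings whose extension of fraction fields L/K is
separable. If B is a Nagata ring then so is A. -/
theorem result (A B K L : Type u) [CommRing A] [IsDomain A] [IsDiscreteValuationRing A]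
    [CommRing B] [IsDomain B] [IsDiscreteValuationRing B] [Algebra A B] [IsLocalHom (algebraMap A B)]
    (hinj : Function.Injective (algebraMap A B))
    [Field K] [Field L] [Algebra A K] [IsFractionRing A K] [Algebra B L] [IsFractionRing B L]
    [Algebra K L] [Algebra A L] [IsScalarTower A K L] [IsScalarTower A B L] [Algebra.IsSeparable K L] (hB : CAlg.IsNagata B) :
    CAlg.IsNagata A := by
  refine ⟨inferInstance, fun P hP => ?_⟩
  by_cases hP0 : P = ⊥
  · subst hP0
    refine NormalLib.isN2_of_ringEquiv (RingEquiv.quotientBot A).symm ?_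
    intro K' _ _ _ _ hfd
    let e : FractionRing A ≃ₐ[A] K := FractionRing.algEquiv A K
    letI : Algebra K K' := ((algebraMap (FractionRing A) K').comp e.symm.toRingHom).toAlgebra
    have : IsScalarTower A K K' := IsScalarTower.of_algebraMap_eq fun a => by
      show algebraMap A K' a = algebraMap (FractionRing A) K' (e.symm (algebraMap A K a))
      rw [e.symm.commutes, ← IsScalarTower.algebraMap_apply]
    have : FiniteDimensional K K' :=
      Module.Finite.of_equiv_equiv e.toRingEquiv (RingEquiv.refl K') (RingHom.ext fun c => by
        show algebraMap (FractionRing A) K' (e.symm (e c)) = algebraMap (FractionRing A) K' c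
        rw [e.symm_apply_apply])
    exact finite_closure (K := K) (L := L) hinj hB K'
  · have hm : P.IsMaximal := IsPrime.to_maximal_ideal hP0
    intro K' _ _ _ _ hfd
    letI := Ideal.Quotient.field P
    have hsurj : Function.Surjective (algebraMap (A ⧸ P) (FractionRing (A ⧸ P))) := fun z => by
      obtain ⟨c, d, -, rfl⟩ := IsFractionRing.div_surjective (A := A ⧸ P) z
      exact ⟨c / d, map_div₀ _ c d⟩
    have : Module.Finite (A ⧸ P) (FractionRing (A ⧸ P)) :=
      Module.Finite.of_surjective (Algebra.linearMap (A ⧸ P) (FractionRing (A ⧸ P))) hsurj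
    have : Module.Finite (A ⧸ P) K' := Module.Finite.trans (FractionRing (A ⧸ P)) K'
    exact Module.Finite.of_injective (integralClosure (A ⧸ P) K').val.toLinearMap Subtype.val_injective

end Groth.Agent.S1985
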