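import Groth.Statements.S19856
import Mathlib.RingTheory.Filtration
import Mathlib.RingTheory.IntegralDomain
import Mathlib.RingTheory.LocalRing.ResidueField.Basic
import Mathlib.RingTheory.DiscreteValuationRing.Basic
import Mathlib.Algebra.Ring.Action.Basic
import Mathlib.GroupTheory.OrderOfElement

set_option autoImplicit false
universe u v
open CAlg

namespace Groth.Agent.S19856

/-- Ring-level form: let O be a discrete valuation ring and G a finite group acting faithfully on O by
ring automorphisms, such that every element of G acts trivially on the residue field of O (that is,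
g • a - a lies in the maximal ideal for all a) and such that the order of G is nonzero in the
residue field of O. Then G is cyclic. (The source states this for a finite group of order invertible
in an algebraically closed field k acting faithfully on a smooth connected k-variety and the
subgroup of elements fixing pointwise a codimension-one irreducible component of the ramification
locus, applied to the local ring at the generic point of that component; it is stated here for an
arbitrary discrete valuation ring with a faithful action. The source also shows that this subgroup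
is nontrivial; that geometric part is not stated.) -/
theorem result
    (O : Type u) [CommRing O] [IsDomain O] [IsDiscreteValuationRing O]
    (G : Type v) [Group G] [Finite G] [MulSemiringAction G O] [FaithfulSMul G O]
    (htriv : ∀ (g : G) (a : O), g • a - a ∈ IsLocalRing.maximalIdeal O)
    (hcard : ((Nat.card G : ℕ) : IsLocalRing.ResidueField O) ≠ 0) :
    IsCyclic G := by
  classical
  set M := IsLocalRing.maximalIdeal O with hMdef
  obtain ⟨π, hπ⟩ := IsDiscreteValuationRing.exists_irreducible O
  have hM : M = Ideal.span {π} := (IsDiscreteValuationRing.irreducible_iff_uniformizer π).1 hπ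
  have hπM : π ∈ M := hM ▸ Ideal.mem_span_singleton_self π
  have hu : ∀ g : G, ∃ u : O, g • π = u * π := fun g => by
    have h1 : g • π ∈ M := by
      rw [← sub_add_cancel (g • π) π]
      exact M.add_mem (htriv g π) hπM
    obtain ⟨u, hu⟩ := Ideal.mem_span_singleton'.1 (hM ▸ h1)
    exact ⟨u, hu.symm⟩
  choose u hu using hu
  have hres : ∀ (g : G) (a : O), IsLocalRing.residue O (g • a) = IsLocalRing.residue O a := fun g a =>
    Ideal.Quotient.eq.2 (htriv g a)
  let φ : G →* IsLocalRing.ResidueField O :=
    { toFun := fun g => IsLocalRing.residue O (u g)
      map_one' := by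
        rw [show u 1 = 1 from mul_right_cancel₀ hπ.ne_zero (by rw [← hu, one_smul, one_mul]), map_one]
      map_mul' := fun g h => by
        have h1 : u (g * h) = g • u h * u g := mul_right_cancel₀ hπ.ne_zero
          (by rw [← hu, mul_smul, hu h, smul_mul', hu g, mul_assoc])
        rw [h1, map_mul, hres, mul_comm] }
  have hker : ∀ g : G, φ g = 1 → g = 1 := by
    intro g hg
    have hn : IsUnit ((orderOf g : ℕ) : O) := by
      refine IsLocalRing.residue_ne_zero_iff_isUnit _ |>.1 ?_
      rw [map_natCast]
      obtain ⟨e, he⟩ := orderOf_dvd_natCard g
      intro h0
      rw [he, Nat.cast_mul, h0, zero_mul] at hcard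
      exact hcard rfl
    have key : ∀ k : ℕ, ∀ a : O, g • a - a ∈ M ^ (k + 1) := by
      intro k
      induction k with
      | zero => intro a; rw [zero_add, pow_one]; exact htriv g a
      | succ k ih =>
        have hact : ∀ y ∈ M ^ (k + 1), g • y - y ∈ M ^ (k + 1 + 1) := by
          intro y hy
          rw [hM, Ideal.span_singleton_pow, Ideal.mem_span_singleton'] at hy
          obtain ⟨z, rfl⟩ := hy
          rw [smul_mul', smul_pow', hu, mul_pow, ← mul_assoc, ← sub_mul]
          rw [pow_succ' M (k + 1)]
          refine Ideal.mul_mem_mul ?_ (Ideal.pow_mem_pow hπM _)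
          rw [← IsLocalRing.residue_eq_zero_iff, map_sub, map_mul, map_pow, hres,
            show IsLocalRing.residue O (u g) = 1 from hg, one_pow, mul_one, sub_self]
        intro a
        have hsum : ∀ i : ℕ, g ^ i • a - a - (i : O) * (g • a - a) ∈ M ^ (k + 1 + 1) := by
          intro i
          induction i with
          | zero => simp
          | succ i hi =>
            have h1 := hact _ (ih a)
            have h2 : g • (g ^ i • a - a - (i : O) * (g • a - a)) ∈ M ^ (k + 1 + 1) := by
              obtain ⟨z, hz⟩ := Ideal.mem_span_singleton'.1 (show _ ∈ Ideal.span {π ^ (k + 1 + 1)} by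
                rw [← Ideal.span_singleton_pow, ← hM]; exact hi)
              rw [← hz, smul_mul', smul_pow', hu]
              exact Ideal.mul_mem_left _ _ (Ideal.pow_mem_pow (M.mul_mem_left _ hπM) _)
            have hnat : g • ((i : O)) = (i : O) := map_natCast (MulSemiringAction.toRingHom G O g) i
            have := add_mem h2 (Ideal.mul_mem_left _ ((i : O)) h1)
            convert this using 1
            rw [pow_succ', mul_smul, smul_sub, smul_sub, smul_mul', hnat, smul_sub]
            push_cast
            ring
        have h3 := hsum (orderOf g)
        rw [pow_orderOf_eq_one, one_smul, sub_self, zero_sub, neg_mem_iff] at h3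
        obtain ⟨v, hv⟩ := hn
        rw [← hv] at h3
        have := Ideal.mul_mem_left _ ((v⁻¹ : Oˣ) : O) h3
        rwa [← mul_assoc, Units.inv_mul, one_mul] at this
    refine eq_of_smul_eq_smul (α := O) fun a => ?_
    rw [one_smul]
    refine sub_eq_zero.1 ((Submodule.mem_bot O).1 ?_)
    rw [← Ideal.iInf_pow_eq_bot_of_isLocalRing M (IsLocalRing.maximalIdeal.isMaximal O).ne_top, Submodule.mem_iInf]
    intro k
    exact Ideal.pow_le_pow_right k.le_succ (key k a)
  exact isCyclic_of_injective_ringHom φ ((injective_iff_map_eq_one φ).2 hker)

end Groth.Agent.S19856
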