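import Groth.Statements.S19859
import Groth.Agent.DualCxLib.DepthApps

set_option autoImplicit false
universe u
open CategoryTheory
attribute [local instance] HasDerivedCategory.standard
open Dual

namespace Groth.Agent.S19859

/-- Let A be a Noetherian local ring with a normalized dualizing complex ω (so the codimension function
of ω vanishes at the closed point) and M a nonzero finite A-module with support of dimension d. Then
Ext^{-d}(M, ω), the A-module of morphisms M → ω[-d] in D(A), is nonzero. (The source states this at
every point x of a locally Noetherian scheme with a dualizing complex, in the degree given by the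
codimension function at x minus the dimension of the stalk; localizing and shifting reduces to the
closed point of a local ring with a normalized complex, which is the form stated here.) -/
theorem result (A : Type u) [CommRing A] [IsLocalRing A]
    [IsNoetherianRing A] (ω : Dual.D A) (hω : Dual.IsDualizing A ω) (hn : Dual.IsNormalized A ω)
    (M : Type u) [AddCommGroup M] [Module A M] [Module.Finite A M] [Nontrivial M]
    (d : ℕ) (hd : Module.supportDim A M = d) :
    Nontrivial (Dual.inD A M ⟶ ω⟦(-(d : ℤ))⟧) := by
  open DualCxLib in
  have hp : closedPt A ∈ Module.support A M := by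
    obtain ⟨q, hq⟩ := (Module.nonempty_support_iff (R := A) (M := M)).2 inferInstance
    exact Module.mem_support_mono (le_closedPt q) hq
  obtain ⟨q₀, hq₀, -, hmin, hne⟩ := exists_min_deg hω (closedPt A) M hp
  have h0 : deg hω (closedPt A) = 0 := deg_closedPt_of_normalized hω hn
  have hnt : Nontrivial (Dual.inD A M ⟶ ω⟦deg hω q₀⟧) :=
    not_subsingleton_iff_nontrivial.1 fun h => hne (van_closedPt_iff.2 h)
  have hge : -(d : ℤ) ≤ deg hω q₀ := by
    by_contra hlt
    exact not_subsingleton_iff_nontrivial.2 hnt (subsingleton_ext_of_lt hω hn M d hd.le _ (lt_of_not_ge hlt))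
  have hle : Module.supportDim A M ≤ (((-deg hω q₀).toNat : ℕ∞) : WithBot ℕ∞) := by
    refine iSup_le fun l => WithBot.coe_le_coe.2 ?_
    let l' : LTSeries (PrimeSpectrum A) := l.map Subtype.val (fun _ _ h => h)
    have h1 := length_le_deg_sub hω l'
    have h2 := hmin l.head.1 l.head.2 (le_closedPt _)
    have h3 : deg hω l'.last ≤ 0 := h0 ▸ (deg_strictMono hω).monotone (le_closedPt _)
    have h4 : deg hω l'.head = deg hω l.head.1 := rfl
    exact_mod_cast (show l'.length ≤ (-deg hω q₀).toNat by omega)
  rw [hd] at hle
  have hdle : d ≤ (-deg hω q₀).toNat := by exact_mod_cast hle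
  have hq0 : deg hω q₀ ≤ 0 := h0 ▸ (deg_strictMono hω).monotone (le_closedPt _)
  rwa [show -(d : ℤ) = deg hω q₀ by omega]

end Groth.Agent.S19859
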