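import Groth.Statements.S19860
import Groth.Agent.HilbSCLib.Global

set_option autoImplicit false
universe u
open CategoryTheory CategoryTheory.Limits AlgebraicGeometry
open Variety

namespace Groth.Agent.S19860

/-- Let A be a Noetherian local integral domain, f : X ⟶ Spec A a proper morphism, L an invertible
O_X-module ample relative to f and F a coherent O_X-module. Then F is flat over Spec A if and only
if the Hilbert polynomials of F on the generic fibre and on the closed fibre coincide: for every n ≥
0 the Euler characteristic, over the fraction field, of the pullback of F ⊗ L^{⊗n} to the fibre over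
the generic point equals the Euler characteristic, over the residue field, of its pullback to the
fibre over the closed point. (The source works with k-schemes of finite type over an algebraically
closed field of characteristic zero, A a local integral k-algebra and f projective with a relatively
very ample O(1); the argument uses only that A is a Noetherian local domain and that some power of L
is relatively very ample, so it is stated here for proper f with an f-ample L and no base field.) -/
theorem result
    (A : Type u) [CommRing A] [IsDomain A] [IsNoetherianRing A] [IsLocalRing A]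
    (X : Scheme.{u}) (f : X ⟶ Spec (CommRingCat.of A)) [IsProper f]
    (L : X.Modules) (hL : RelAmple.IsRelAmple f L) (F : X.Modules) (hF : Coh.IsCoh F) :
    FlatMod.IsFlatOver f F ↔
      ∀ n : ℕ,
        @Curv2.euler ((Spec (CommRingCat.of A)).residueField (⊥ : PrimeSpectrum A)) _ (f.fiber (⊥ : PrimeSpectrum A))
          ⟨f.fiberToSpecResidueField (⊥ : PrimeSpectrum A)⟩
          ((Scheme.Modules.pullback (f.fiberι (⊥ : PrimeSpectrum A))).obj (CohB1.tensorMod F (CohB1.tensorPow L n))) =
        @Curv2.euler ((Spec (CommRingCat.of A)).residueField (IsLocalRing.closedPoint A)) _ (f.fiber (IsLocalRing.closedPoint A))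
          ⟨f.fiberToSpecResidueField (IsLocalRing.closedPoint A)⟩
          ((Scheme.Modules.pullback (f.fiberι (IsLocalRing.closedPoint A))).obj (CohB1.tensorMod F (CohB1.tensorPow L n))) := by
  haveI : LocallyOfFinitePresentation f := LocallyOfFinitePresentation.iff_locallyOfFiniteType.2 inferInstance
  haveI : IsLocallyNoetherian X := LocallyOfFiniteType.isLocallyNoetherian f
  haveI : Coh.IsQCoh F := hF.1
  have hfp : CohB1.IsFP F := QCohLib.isFP_of_isCoh F hF
  have hLi := MiscFlat6.invertible_of_relAmple hL
  let S : Scheme.{u} := Spec (CommRingCat.of A)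
  let η : S := (⊥ : PrimeSpectrum A)
  let s₀ : S := IsLocalRing.closedPoint A
  constructor
  · intro hfl n
    obtain ⟨U, hU, hc⟩ := HilbLCLib.exists_nhd_euler_eq f hfp hfl 1 (fun _ => L) (fun _ => hLi) s₀
    exact hc η ((((PrimeSpectrum.le_iff_specializes (⊥ : PrimeSpectrum A) (IsLocalRing.closedPoint A)).mp bot_le : η ⤳ s₀)).mem_open U.isOpen hU) (fun _ => n)
  · intro h x
    obtain ⟨P, hP⟩ := HilbSCLib.exists_hilb_poly f hLi hfp s₀
    obtain ⟨W, i, hi, -, -, hrange, hu⟩ := HilbSCLib.exists_stratum f hL hfp P
    haveI := hi
    have hs₀ : s₀ ∈ Set.range i := by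
      rw [hrange]
      exact fun n => hP n
    have hη : η ∈ Set.range i := by
      rw [hrange]
      exact fun n => by rw [← hP n]; exact congrArg Int.cast (h n)
    have huniv : Set.range i = Set.univ := by
      obtain ⟨O, Z, hO, hZ, he⟩ := i.isLocallyClosed_range
      refine Set.eq_univ_of_forall fun y => ?_
      rw [he] at hs₀ hη ⊢
      refine ⟨(IsLocalRing.specializes_closedPoint (y : PrimeSpectrum A)).mem_open hO hs₀.1, ?_⟩
      exact (((PrimeSpectrum.le_iff_specializes (⊥ : PrimeSpectrum A) (y : PrimeSpectrum A)).mp bot_le : η ⤳ y)).mem_closed hZ hη.2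
    haveI : Surjective i := ⟨Set.range_eq_univ.mp huniv⟩
    haveI : IsClosedImmersion i := IsClosedImmersion.of_isPreimmersion i (by rw [huniv]; exact isClosed_univ)
    haveI : IsIso i := isIso_of_isClosedImmersion_of_surjective i
    have hfl : HilbSCLib.FlatIn f F (𝟙 S) :=
      ((hu S (𝟙 S)).1 ⟨inv i, IsIso.inv_hom_id i⟩).1
    obtain ⟨z, hz, -⟩ := Scheme.Pullback.exists_preimage_pullback (f := f) (g := 𝟙 S) x (f x) rfl
    rw [← hz]
    exact (RichLib.ModFlat.isFlatOverAt_congr (Limits.pullback.fst f (𝟙 S)) (𝟙 S) Limits.pullback.condition.symm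
      (Iso.refl _) z).1 (hfl z)

end Groth.Agent.S19860
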