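import Groth.Statements.S19863
import Groth.Agent.GeomRedFibLib.OnePlus
-- import your own Groth.Agent.* helpers here

set_option autoImplicit false
universe u
open EGA4

namespace Groth.Agent.S19863

/-- Let A be a Noetherian ring, J a proper ideal of A, Â the J-adic completion and A_T the localization
of A at T = 1 + J. If the canonical map A → Â is a regular homomorphism (flat, with Noetherian
geometrically regular fibres), then A_T is a regular ring if and only if Â is a regular ring
(Noetherian, with regular local rings at all primes). (The cases of the henselization of the pair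
and of the weak completion are not stated here.) -/
theorem result
    (A : Type u) [CommRing A] [IsNoetherianRing A] (J : Ideal A) (hJ : J ≠ ⊤)
    (hf : CAlg.IsRegularHom A (AdicCompletion J A))
    (T : Submonoid A) (hT : T = MonoidHom.mker (Ideal.Quotient.mk J)) :
    IsRegularRing (Localization T) ↔ IsRegularRing (AdicCompletion J A) := by
  haveI := hf.1
  haveI := AdicRingLib.isNoetherianRing_adicCompletion J
  haveI : IsNoetherianRing (Localization T) := IsLocalization.isNoetherianRing T _ inferInstance
  rw [GeomRedFibLib.isRegularRing_iff, GeomRedFibLib.isRegularRing_iff]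
  refine GeomRedFibLib.ringP_onePlus_iff GeomRedFibLib.isFlatLocalProp_regular A J (fun q _ ↦ ?_) T hT
  refine GeomRedFibLib.fibLocRing_of_fiber GeomRedFibLib.isGeomProp_regular A _ q ?_
  haveI := GeomRedFibLib.isNoetherianRing_fiber A (AdicCompletion J A) (q.comap (algebraMap A (AdicCompletion J A)))
  exact GeomRedFibLib.ringP_fiber_of_forall_finite GeomRedFibLib.isFlatLocalProp_regular _
    ((GeomRedFibLib.geomP_regular_iff _ _).mp (hf.2 (q.comap (algebraMap A (AdicCompletion J A)))).2 _ inferInstance)

end Groth.Agent.S19863
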