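import Groth.Statements.S19868
import Groth.Agent.PLieLib.Deform
-- import your own Groth.Agent.* helpers here

set_option autoImplicit false
universe u v
open PLie

namespace Groth.Agent.S19868

open PLieLib TrivSqZeroExt

open DualNumber in
/-- Let K be a field of prime characteristic p, K[ε] the ring of dual numbers (taken with its
characteristic-p structure) and a, …, i ∈ K. Let L be a Lie algebra over K[ε], free as a module with
basis x = bs 0, y = bs 1, z = bs 2 and brackets [x,y] = aε x + bε y + cε z, [x,z] = dε x + eε y + fε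
z, [y,z] = (1 + gε) x + hε y + iε z, a first-order deformation of the Heisenberg algebra (the Jacobi
identity forces b + f = 0). Then L carries a p-mapping over K[ε] if and only if b = c = e = 0 when p
= 2; for odd p there is no condition. (The published statement is about the singularity of the point
h_3 in the restrictable locus of the rank-one-centre stratum of the moduli scheme of based
three-dimensional Lie algebras over the prime field; this row states the restrictability criterion
for the first-order deformations of h_3 asserted in its proof, over any field of characteristic p in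
place of the prime field.) -/
theorem result (K : Type u) [Field K] (p : ℕ) [Fact p.Prime] [CharP K p]
    [CharP (DualNumber K) p] (a b c d e f g h i : K)
    (L : Type v) [LieRing L] [LieAlgebra (DualNumber K) L] (bs : Module.Basis (Fin 3) (DualNumber K) L)
    (hxy : ⁅bs 0, bs 1⁆ = (a • ε : DualNumber K) • bs 0 + (b • ε : DualNumber K) • bs 1 + (c • ε : DualNumber K) • bs 2)
    (hxz : ⁅bs 0, bs 2⁆ = (d • ε : DualNumber K) • bs 0 + (e • ε : DualNumber K) • bs 1 + (f • ε : DualNumber K) • bs 2)
    (hyz : ⁅bs 1, bs 2⁆ = (1 + g • ε : DualNumber K) • bs 0 + (h • ε : DualNumber K) • bs 1 + (i • ε : DualNumber K) • bs 2) :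
    Nonempty (PLie.PMap (DualNumber K) p L) ↔ (p = 2 → b = 0 ∧ c = 0 ∧ e = 0) := by
  classical
  have hp : p.Prime := Fact.out
  rw [nonempty_pmap_iff bs]
  have hyx : ⁅bs 1, bs 0⁆ = -⁅bs 0, bs 1⁆ := (lie_skew _ _).symm
  have hzx : ⁅bs 2, bs 0⁆ = -⁅bs 0, bs 2⁆ := (lie_skew _ _).symm
  have hzy : ⁅bs 2, bs 1⁆ = -⁅bs 1, bs 2⁆ := (lie_skew _ _).symm
  have hbf : b + f = 0 := by
    have hj := lie_jacobi (bs 0) (bs 1) (bs 2)
    simp only [hyz, hzx, hxy, hxz, lie_neg, lie_add, lie_smul, lie_self, hyx, hzy, smul_neg, smul_zero, neg_zero] at hj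
    have := congrArg (fun v => snd (bs.repr v 0)) hj
    simp [fst_mul, DualNumber.snd_mul] at this
    linear_combination -this
  let adP := fun i : Fin 3 => LieAlgebra.ad (DualNumber K) L (bs i)
  have x2 : adP 0 ^ 2 = 0 := by
    refine bs.ext fun j => ?_
    fin_cases j <;>
    · apply bs.ext_elem
      intro l
      fin_cases l <;> apply TrivSqZeroExt.ext <;>
        simp [adP, pow_two, hxy, hxz, hyx, hzx, hyz, hzy, lie_smul, fst_mul, DualNumber.snd_mul] <;> ring
  have y2 : (adP 1 ^ 2) (bs 0) = (-(c • ε) : DualNumber K) • bs 0 ∧ (adP 1 ^ 2) (bs 1) = 0 ∧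
      (adP 1 ^ 2) (bs 2) = ((i - a) • ε : DualNumber K) • bs 0 - (b • ε : DualNumber K) • bs 1 - (c • ε : DualNumber K) • bs 2 := by
    refine ⟨?_, ?_, ?_⟩ <;>
    · apply bs.ext_elem
      intro l
      fin_cases l <;> apply TrivSqZeroExt.ext <;>
        simp [adP, pow_two, hxy, hxz, hyx, hzx, hyz, hzy, lie_smul, fst_mul, DualNumber.snd_mul] <;> ring
  have z2 : (adP 2 ^ 2) (bs 0) = (e • ε : DualNumber K) • bs 0 ∧
      (adP 2 ^ 2) (bs 1) = ((d + h) • ε : DualNumber K) • bs 0 + (e • ε : DualNumber K) • bs 1 + (f • ε : DualNumber K) • bs 2 ∧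
      (adP 2 ^ 2) (bs 2) = 0 := by
    refine ⟨?_, ?_, ?_⟩ <;>
    · apply bs.ext_elem
      intro l
      fin_cases l <;> apply TrivSqZeroExt.ext <;>
        simp [adP, pow_two, hxy, hxz, hyx, hzx, hyz, hzy, lie_smul, fst_mul, DualNumber.snd_mul] <;> ring
  have y3 : (adP 1 ^ 3) (bs 0) = 0 ∧ (adP 1 ^ 3) (bs 1) = 0 ∧ (adP 1 ^ 3) (bs 2) = (-(c • ε) : DualNumber K) • bs 0 := by
    refine ⟨?_, ?_, ?_⟩ <;>
    · rw [pow_succ' _ 2, Module.End.mul_apply]
      simp only [y2.1, y2.2.1, y2.2.2, map_zero, map_sub, map_smul]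
      all_goals
        apply bs.ext_elem
        intro l
        fin_cases l <;> apply TrivSqZeroExt.ext <;>
          simp [adP, hxy, hxz, hyx, hzx, hyz, hzy, fst_mul, DualNumber.snd_mul] <;> ring
  have z3 : (adP 2 ^ 3) (bs 0) = 0 ∧ (adP 2 ^ 3) (bs 1) = (-(e • ε) : DualNumber K) • bs 0 ∧ (adP 2 ^ 3) (bs 2) = 0 := by
    refine ⟨?_, ?_, ?_⟩ <;>
    · rw [pow_succ' _ 2, Module.End.mul_apply]
      simp only [z2.1, z2.2.1, z2.2.2, map_zero, map_add, map_smul]
      all_goals
        apply bs.ext_elem
        intro l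
        fin_cases l <;> apply TrivSqZeroExt.ext <;>
          simp [adP, hxy, hxz, hyx, hzx, hyz, hzy, fst_mul, DualNumber.snd_mul] <;> ring
  constructor
  · rintro H rfl
    obtain ⟨w, hw⟩ := H 1
    obtain ⟨u, hu⟩ := H 2
    obtain ⟨q, hq⟩ : ∃ q : Fin 3 → DualNumber K, w = q 0 • bs 0 + q 1 • bs 1 + q 2 • bs 2 :=
      ⟨fun j => bs.repr w j, by conv_lhs => rw [← bs.sum_repr w]; rw [Fin.sum_univ_three]⟩
    obtain ⟨r, hr⟩ : ∃ r : Fin 3 → DualNumber K, u = r 0 • bs 0 + r 1 • bs 1 + r 2 • bs 2 :=
      ⟨fun j => bs.repr u j, by conv_lhs => rw [← bs.sum_repr u]; rw [Fin.sum_univ_three]⟩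
    have e0 := y2.1.symm.trans ((hw 0).trans (by rw [hq]))
    have e1 := y2.2.1.symm.trans ((hw 1).trans (by rw [hq]))
    have e2 := y2.2.2.symm.trans ((hw 2).trans (by rw [hq]))
    have g0 := z2.1.symm.trans ((hu 0).trans (by rw [hr]))
    have g1 := z2.2.1.symm.trans ((hu 1).trans (by rw [hr]))
    have g2 := z2.2.2.symm.trans ((hu 2).trans (by rw [hr]))
    simp only [add_lie, smul_lie, hxy, hxz, hyx, hzx, hyz, hzy, lie_self, smul_zero, zero_add, add_zero] at e0 e1 e2 g0 g1 g2
    have A1 := congrArg (fun v => fst (bs.repr v 0)) e1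
    have A2 := congrArg (fun v => fst (bs.repr v 0)) e2
    have B1 := congrArg (fun v => fst (bs.repr v 0)) g1
    have B2 := congrArg (fun v => fst (bs.repr v 0)) g2
    simp [fst_mul] at A1 A2 B1 B2
    have C0 := congrArg (fun v => snd (bs.repr v 0)) e0
    have C1 := congrArg (fun v => snd (bs.repr v 1)) e1
    have C2 := congrArg (fun v => snd (bs.repr v 1)) e2
    have D0 := congrArg (fun v => snd (bs.repr v 0)) g0
    simp [fst_mul, DualNumber.snd_mul, A1, ← A2, B1, ← B2] at C0 C1 C2 D0

    refine ⟨?_, C0, D0⟩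
    rw [D0, zero_mul, neg_eq_zero] at C2
    exact C2
  · intro H j
    fin_cases j
    · refine ⟨0, fun l => ?_⟩
      obtain ⟨n, hn⟩ := Nat.exists_eq_add_of_le hp.two_le
      show (adP 0 ^ p) (bs l) = _
      rw [hn, pow_add, x2, zero_mul, LinearMap.zero_apply, zero_lie]
    all_goals
      rcases (show p = 2 ∨ p = 3 ∨ 4 ≤ p by have := hp.two_le; omega) with h2 | h3 | h4
    · obtain ⟨hb0, hc0, he0⟩ := H h2
      refine ⟨((i - a) • ε : DualNumber K) • bs 1, fun l => ?_⟩
      show (adP 1 ^ p) (bs l) = _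
      rw [h2]
      fin_cases l
      · refine y2.1.trans ?_
        apply bs.ext_elem
        intro m
        fin_cases m <;> apply TrivSqZeroExt.ext <;> simp [hyx, hxy, hb0, hc0, fst_mul, DualNumber.snd_mul]
      · refine y2.2.1.trans ?_
        simp
      · refine y2.2.2.trans ?_
        apply bs.ext_elem
        intro m
        fin_cases m <;> apply TrivSqZeroExt.ext <;> simp [hyz, hb0, hc0, fst_mul, DualNumber.snd_mul]
    · refine ⟨(-(c • ε) : DualNumber K) • bs 1, fun l => ?_⟩
      show (adP 1 ^ p) (bs l) = _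
      rw [h3]
      fin_cases l
      · refine y3.1.trans ?_
        apply bs.ext_elem
        intro m
        fin_cases m <;> apply TrivSqZeroExt.ext <;> simp [hyx, hxy, fst_mul, DualNumber.snd_mul]
      · refine y3.2.1.trans ?_
        simp
      · refine y3.2.2.trans ?_
        apply bs.ext_elem
        intro m
        fin_cases m <;> apply TrivSqZeroExt.ext <;> simp [hyz, fst_mul, DualNumber.snd_mul]
    · refine ⟨0, fun l => ?_⟩
      show (adP 1 ^ p) (bs l) = _
      obtain ⟨n, rfl⟩ := Nat.exists_eq_add_of_le h4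
      rw [show 4 + n = n + (1 + 3) by ring, pow_add, pow_add, pow_one, Module.End.mul_apply, Module.End.mul_apply, zero_lie]
      fin_cases l
      · simp only [Fin.zero_eta, Fin.isValue, y3.1, map_zero]
      · simp only [Fin.mk_one, Fin.isValue, y3.2.1, map_zero]
      · simp only [Fin.reduceFinMk, Fin.isValue, y3.2.2, map_smul]
        rw [show adP 1 (bs 0) = -⁅bs 0, bs 1⁆ from hyx, hxy, ← map_smul]
        refine (congrArg _ ?_).trans (map_zero _)
        apply bs.ext_elem
        intro m
        fin_cases m <;> apply TrivSqZeroExt.ext <;> simp [fst_mul, DualNumber.snd_mul]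
    · obtain ⟨hb0, hc0, he0⟩ := H h2
      haveI : CharP K 2 := h2 ▸ ‹CharP K p›
      have hf0 : f = 0 := by linear_combination hbf - hb0
      refine ⟨(-((d + h) • ε) : DualNumber K) • bs 2, fun l => ?_⟩
      show (adP 2 ^ p) (bs l) = _
      rw [h2]
      fin_cases l
      · refine z2.1.trans ?_
        apply bs.ext_elem
        intro m
        fin_cases m <;> apply TrivSqZeroExt.ext <;> simp [hzx, hxz, he0, hf0, fst_mul, DualNumber.snd_mul]
      · refine z2.2.1.trans ?_
        apply bs.ext_elem
        intro m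
        fin_cases m <;> apply TrivSqZeroExt.ext <;> simp [hzy, hyz, he0, hf0, fst_mul, DualNumber.snd_mul]
      · refine z2.2.2.trans ?_
        simp
    · refine ⟨(e • ε : DualNumber K) • bs 2, fun l => ?_⟩
      show (adP 2 ^ p) (bs l) = _
      rw [h3]
      fin_cases l
      · refine z3.1.trans ?_
        apply bs.ext_elem
        intro m
        fin_cases m <;> apply TrivSqZeroExt.ext <;> simp [hzx, hxz, fst_mul, DualNumber.snd_mul]
      · refine z3.2.1.trans ?_
        apply bs.ext_elem
        intro m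
        fin_cases m <;> apply TrivSqZeroExt.ext <;> simp [hzy, hyz, fst_mul, DualNumber.snd_mul]
      · refine z3.2.2.trans ?_
        simp
    · refine ⟨0, fun l => ?_⟩
      show (adP 2 ^ p) (bs l) = _
      obtain ⟨n, rfl⟩ := Nat.exists_eq_add_of_le h4
      rw [show 4 + n = n + (1 + 3) by ring, pow_add, pow_add, pow_one, Module.End.mul_apply, Module.End.mul_apply, zero_lie]
      fin_cases l
      · simp only [Fin.zero_eta, Fin.isValue, z3.1, map_zero]
      · simp only [Fin.mk_one, Fin.isValue, z3.2.1, map_smul]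
        rw [show adP 2 (bs 0) = -⁅bs 0, bs 2⁆ from hzx, hxz, ← map_smul]
        refine (congrArg _ ?_).trans (map_zero _)
        apply bs.ext_elem
        intro m
        fin_cases m <;> apply TrivSqZeroExt.ext <;> simp [fst_mul, DualNumber.snd_mul]
      · simp only [Fin.reduceFinMk, Fin.isValue, z3.2.2, map_zero]


end Groth.Agent.S19868
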