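import Groth.Statements.S19878
import Groth.Agent.FComplLib.Basic
import Mathlib.RingTheory.Ideal.IdempotentFG
-- import your own Groth.Agent.* helpers here

set_option autoImplicit false
set_option backward.isDefEq.respectTransparency false
set_option linter.all false
universe u
open LVCorr

namespace Groth.Agent.S19878

open AlgebraicGeometry CategoryTheory CategoryTheory.Limits in
/-- Let k be a field, C a k-scheme of finite type, X a k-scheme and c = (c₁, c₂) : C → X ×_k X a
correspondence; let Fix(c) = C ×_{X ×_k X} X be its scheme of fixed points (pullback along the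
diagonal), with projections i : Fix(c) → C and δ : Fix(c) → X. Let Z ⊂ X be the closed subscheme of
a quasi-coherent ideal I and suppose c is contracting near Z in a neighbourhood of the fixed points:
there is an open W ⊆ C containing the image of Fix(c) such that on W the inverse image ideal of I
under c₁ is contained in the inverse image ideal of I under c₂ (c stabilizes Z on W) and some power
(I·O_W via c₁)^k₀ is contained in (I·O_W via c₂)^(k₀+1). Then every connected open subset β of
Fix(c) whose image under δ meets Z is contained, as a set, in δ⁻¹(Z). (The source works with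
separated schemes of finite type over an algebraically closed field; this row assumes only that C is
of finite type over a field k.) -/
theorem result {C X Fx : Scheme.{u}} (k : Type u) [Field k]
    (pC : C ⟶ Spec (CommRingCat.of k)) [LocallyOfFiniteType pC] [QuasiCompact pC]
    (pX : X ⟶ Spec (CommRingCat.of k)) (c₁ c₂ : C ⟶ X) (hc : c₁ ≫ pX = c₂ ≫ pX)
    (i : Fx ⟶ C) (δ : Fx ⟶ X) (hF : IsPullback i δ (pullback.lift c₁ c₂ hc) (pullback.diagonal pX))
    (I : X.IdealSheafData) (W : C.Opens) (hW : Set.range i.base ⊆ (W : Set C))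
    (hle : I.comap (W.ι ≫ c₁) ≤ I.comap (W.ι ≫ c₂))
    (k₀ : ℕ) (hpow : I.comap (W.ι ≫ c₁) ^ k₀ ≤ I.comap (W.ι ≫ c₂) ^ (k₀ + 1))
    (β : Fx.Opens) (hβ : _root_.IsConnected (β : Set Fx))
    (hβZ : (δ.base '' (β : Set Fx) ∩ (I.support : Set X)).Nonempty) :
    (β : Set Fx) ⊆ δ.base ⁻¹' (I.support : Set X) := by
  classical
  have h12 := hF.w
  have hc₁ : i ≫ c₁ = δ := by
    have := congrArg (· ≫ pullback.fst pX pX) h12
    simpa [Category.assoc] using this
  have hc₂ : i ≫ c₂ = δ := by
    have := congrArg (· ≫ pullback.snd pX pX) h12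
    simpa [Category.assoc] using this
  haveI : LocallyOfFiniteType i :=
    MorphismProperty.of_isPullback hF.flip (inferInstance : LocallyOfFiniteType (pullback.diagonal pX))
  haveI : IsLocallyNoetherian C := LocallyOfFiniteType.isLocallyNoetherian pC
  haveI : IsLocallyNoetherian Fx := LocallyOfFiniteType.isLocallyNoetherian i
  let i' : Fx ⟶ (W : Scheme.{u}) := IsOpenImmersion.lift W.ι i (by rw [Scheme.Opens.range_ι]; exact hW)
  have hi' : i' ≫ W.ι = i := IsOpenImmersion.lift_fac _ _ _
  let J := I.comap δ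
  have hJ₁ : (I.comap (W.ι ≫ c₁)).comap i' = J := by
    rw [← Scheme.IdealSheafData.comap_comp, reassoc_of% hi', hc₁]
  have hJ₂ : (I.comap (W.ι ≫ c₂)).comap i' = J := by
    rw [← Scheme.IdealSheafData.comap_comp, reassoc_of% hi', hc₂]
  have hsupp : δ.base ⁻¹' (I.support : Set X) = (J.support : Set Fx) := by
    simp only [J, Scheme.IdealSheafData.support_comap]
    rfl
  rw [hsupp]
  suffices hopen : IsOpen (J.support : Set Fx) by
    refine IsPreconnected.subset_isClopen hβ.2 ⟨J.support.isClosed, hopen⟩ ?_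
    obtain ⟨_, ⟨z, hz, rfl⟩, hzI⟩ := hβZ
    exact ⟨z, hz, hsupp ▸ hzI⟩
  rcases k₀ with _ | n
  · have h := Scheme.IdealSheafData.comap_mono i' hpow
    simp only [pow_zero, zero_add, pow_one, Scheme.IdealSheafData.one_eq_top] at h
    rw [Scheme.IdealSheafData.comap_top, hJ₂, top_le_iff] at h
    simp [h]
  · have h := Scheme.IdealSheafData.comap_mono i' hpow
    simp only [FComplLib.comap_pow_succ, hJ₁, hJ₂] at h
    rw [← Scheme.IdealSheafData.support_pow J (n + 1) n.succ_ne_zero]
    rw [isOpen_iff_forall_mem_open]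
    intro x hx
    obtain ⟨U, hU, hxU, -⟩ := exists_isAffineOpen_mem_and_subset (X := Fx) (x := x) (U := ⊤) trivial
    haveI : IsNoetherianRing Γ(Fx, U) := IsLocallyNoetherian.component_noetherian ⟨U, hU⟩
    have hle : ((J ^ (n + 1)).ideal ⟨U, hU⟩) ≤ ((J ^ (n + 1 + 1)).ideal ⟨U, hU⟩) := h ⟨U, hU⟩
    have hid : IsIdempotentElem ((J ^ (n + 1)).ideal ⟨U, hU⟩) := by
      simp only [Scheme.IdealSheafData.ideal_pow, Pi.pow_apply] at hle ⊢
      have he : ∀ m, (J.ideal ⟨U, hU⟩) ^ (n + 1) ≤ (J.ideal ⟨U, hU⟩) ^ (n + 1 + m) := by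
        intro m
        induction m with
        | zero => exact le_rfl
        | succ m ih =>
          calc (J.ideal ⟨U, hU⟩) ^ (n + 1) ≤ (J.ideal ⟨U, hU⟩) ^ (n + 1 + 1) := hle
            _ = (J.ideal ⟨U, hU⟩) ^ (n + 1) * J.ideal ⟨U, hU⟩ := pow_succ _ _
            _ ≤ (J.ideal ⟨U, hU⟩) ^ (n + 1 + m) * J.ideal ⟨U, hU⟩ := Ideal.mul_mono_left ih
            _ = (J.ideal ⟨U, hU⟩) ^ (n + 1 + (m + 1)) := (pow_succ _ _).symm
      exact le_antisymm Ideal.mul_le_right ((he (n + 1)).trans (pow_add _ _ _).le)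
    obtain ⟨e, he, hspan⟩ := (Ideal.isIdempotentElem_iff_of_fg _ (IsNoetherian.noetherian _)).1 hid
    have hV : ((J ^ (n + 1)).support : Set Fx) ∩ U = (Fx.basicOpen (1 - e) : Set Fx) := by
      rw [(J ^ (n + 1)).coe_support_inter ⟨U, hU⟩, hspan]
      change Fx.zeroLocus (U := U) ↑(Ideal.span {e}) ∩ (U : Set Fx) = _
      rw [Scheme.zeroLocus_span, Scheme.zeroLocus_singleton]
      ext y
      constructor
      · rintro ⟨hy, hyU⟩
        rw [SetLike.mem_coe, Scheme.mem_basicOpen _ _ _ hyU]
        have hne : ¬ IsUnit (Fx.presheaf.germ U y hyU e) := fun hu => hy ((Scheme.mem_basicOpen _ _ _ hyU).2 hu)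
        rw [map_sub, map_one]
        exact IsLocalRing.isUnit_one_sub_self_of_mem_nonunits _ hne
      · intro hy
        have hyU : y ∈ U := Fx.basicOpen_le _ hy
        refine ⟨fun hy' => ?_, hyU⟩
        rw [SetLike.mem_coe, Scheme.mem_basicOpen _ _ _ hyU] at hy
        have hu := ((Scheme.mem_basicOpen _ _ _ hyU).1 hy').mul hy
        rw [← map_mul, mul_sub, mul_one, he.eq, sub_self, map_zero] at hu
        exact not_isUnit_zero hu
    refine ⟨_, fun y hy => (hV.ge hy).1, (Fx.basicOpen _).2, ?_⟩
    exact hV.le ⟨hx, hxU⟩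


end Groth.Agent.S19878
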