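import Groth.Statements.S19879
import Groth.Agent.LVCorrLib.Basic

set_option autoImplicit false
set_option linter.style.haveILetI false
set_option backward.isDefEq.respectTransparency false
set_option backward.isDefEq.respectTransparency.types false
universe u
open LVCorr

namespace Groth.Agent.S19879

open AlgebraicGeometry CategoryTheory CategoryTheory.Limits in
/-- Let k₀ be a finite field with p^e elements, K an algebraic closure of k₀, C₀ a scheme of finite type
over k₀, C = C₀ ×_{k₀} Spec K with its projections, and Fr : C → C the n-th power of the geometric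
Frobenius (over K, compatible with the (e·n)-th power of the absolute p-Frobenius of C₀). Let X be
locally of finite type over K and c₁, c₂ : C → X morphisms over K with c₂ locally quasi-finite, and
let d < p^(e n) be such that for every closed point x of X, with J_x the inverse image under c₂ of
the ideal sheaf of the reduced point x, one has (√J_x)^d ⊂ J_x (so p^(e n) exceeds the ramification
degree of c₂). Then the scheme of fixed points of the twisted correspondence (c₁ ∘ Fr, c₂), namely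
the pullback of (c₁ ∘ Fr, c₂) : C → X ×_K X along the diagonal of X, has finite and discrete
underlying topological space. (In the source X, c₁ and c₂ are also defined over k₀ and all schemes
are separated; neither is needed here.) -/
theorem result {C C₀ X Fx : Scheme.{u}}
    (p : ℕ) [Fact p.Prime] (k₀ : Type u) [Field k₀] [Fintype k₀] [CharP k₀ p] (e : ℕ)
    (hq : Fintype.card k₀ = p ^ e) (K : Type u) [Field K] [Algebra k₀ K] [IsAlgClosure k₀ K]
    (f₀ : C₀ ⟶ Spec (CommRingCat.of k₀)) [LocallyOfFiniteType f₀] [QuasiCompact f₀] [FrobSch.IsCharP C₀ p]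
    (πC₀ : C ⟶ C₀) (πK : C ⟶ Spec (CommRingCat.of K))
    (hC : IsPullback πC₀ πK f₀ (Spec.map (CommRingCat.ofHom (algebraMap k₀ K))))
    (n : ℕ) (Fr : C ⟶ C)
    (hFr₀ : Fr ≫ πC₀ = πC₀ ≫ End.asHom (End.of (FrobSch.frob C₀ p) ^ (e * n)))
    (hFrK : Fr ≫ πK = πK)
    (pX : X ⟶ Spec (CommRingCat.of K)) [LocallyOfFiniteType pX]
    (c₁ c₂ : C ⟶ X) (hc₁ : c₁ ≫ pX = πK) (hc₂ : c₂ ≫ pX = πK)
    [LocallyQuasiFinite c₂] [LocallyOfFiniteType c₂]
    (hcomm : (Fr ≫ c₁) ≫ pX = c₂ ≫ pX) (d : ℕ) (hn : d < p ^ (e * n))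
    (hd : ∀ (x : X) (hx : IsClosed ({x} : Set X)),
      ((Scheme.IdealSheafData.vanishingIdeal ⟨{x}, hx⟩).comap c₂).radical ^ d ≤
        (Scheme.IdealSheafData.vanishingIdeal ⟨{x}, hx⟩).comap c₂)
    (i : Fx ⟶ C) (δ : Fx ⟶ X) (hF : IsPullback i δ (pullback.lift (Fr ≫ c₁) c₂ hcomm) (pullback.diagonal pX)) :
    Finite Fx ∧ DiscreteTopology Fx := by
  haveI : IsAlgClosed K := IsAlgClosure.isAlgClosed k₀
  haveI : FrobSch.IsCharP C p := FrobSch.IsCharP.of_hom πC₀ p
  obtain ⟨τ, hτ⟩ := Groth.Agent.LVCorrLib.exists_fac p e hq hC n Fr hFr₀ hFrK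
  haveI : LocallyOfFiniteType πK := MorphismProperty.of_isPullback hC inferInstance
  haveI : QuasiCompact πK := MorphismProperty.of_isPullback hC inferInstance
  haveI : IsLocallyNoetherian C := LocallyOfFiniteType.isLocallyNoetherian πK
  haveI : CompactSpace C := QuasiCompact.compactSpace_of_compactSpace πK
  haveI : IsNoetherian C := {}
  haveI : IsImmersion i := MorphismProperty.of_isPullback hF.flip inferInstance
  haveI : TopologicalSpace.NoetherianSpace Fx := i.isEmbedding.isInducing.noetherianSpace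
  haveI : IsLocallyNoetherian Fx := LocallyOfFiniteType.isLocallyNoetherian i
  haveI : JacobsonSpace C := LocallyOfFiniteType.jacobsonSpace πK
  haveI : JacobsonSpace Fx := LocallyOfFiniteType.jacobsonSpace i
  haveI : JacobsonSpace X := LocallyOfFiniteType.jacobsonSpace pX
  have hδ₁ : i ≫ Fr ≫ c₁ = δ := by
    have h := congrArg (· ≫ pullback.fst pX pX) hF.w
    simpa only [Category.assoc, pullback.lift_fst, pullback.diagonal_fst, Category.comp_id] using h
  have hδ₂ : i ≫ c₂ = δ := by
    have h := congrArg (· ≫ pullback.snd pX pX) hF.w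
    simpa only [Category.assoc, pullback.lift_snd, pullback.diagonal_snd, Category.comp_id] using h
  have hopen : ∀ z : Fx, IsClosed ({z} : Set Fx) → IsOpen ({z} : Set Fx) := fun z hz => by
    haveI : LocallyOfFiniteType δ := by rw [← hδ₂]; infer_instance
    have hx : IsClosed ({δ.base z} : Set X) := δ.closePoints_subset_preimage_closedPoints hz
    obtain ⟨W, hfix, -, hW⟩ := Groth.Agent.LVCorrLib.exists_contracting_point p Fr τ (e * n) hτ
      c₁ c₂ hcomm d hn _ hx (hd _ hx)
    have hWall : i ⁻¹ᵁ W = ⊤ := top_le_iff.mp fun w _ => hfix ⟨δ.base w, by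
      rw [← Scheme.Hom.comp_apply, ← Scheme.Hom.comp_apply, hF.w]⟩
    let iW : Fx ⟶ W := IsOpenImmersion.lift W.ι i (by
      rintro _ ⟨w, rfl⟩
      rw [Scheme.Opens.range_ι]
      exact (hWall ▸ trivial : w ∈ i ⁻¹ᵁ W))
    have hiW : iW ≫ W.ι = i := IsOpenImmersion.lift_fac _ _ _
    let 𝔞 := (Scheme.IdealSheafData.vanishingIdeal ⟨{δ.base z}, hx⟩).comap δ
    obtain ⟨V, hV, hzV, -⟩ := exists_isAffineOpen_mem_and_subset (x := z) (U := ⊤) trivial
    have hpow : 𝔞.ideal ⟨V, hV⟩ ^ d ≤ 𝔞.ideal ⟨V, hV⟩ ^ (d + 1) := by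
      obtain ⟨U, hU, hzU, -⟩ := exists_isAffineOpen_mem_and_subset (x := iW z) (U := ⊤) trivial
      suffices h : 𝔞 ^ d ≤ 𝔞 ^ (d + 1) by simpa using h ⟨V, hV⟩
      have he₁ : 𝔞 = ((Scheme.IdealSheafData.vanishingIdeal ⟨{δ.base z}, hx⟩).comap
          (W.ι ≫ Fr ≫ c₁)).comap iW := by
        rw [← Scheme.IdealSheafData.comap_comp, ← Category.assoc, hiW, hδ₁]
      have he₂ : 𝔞 = ((Scheme.IdealSheafData.vanishingIdeal ⟨{δ.base z}, hx⟩).comap
          (W.ι ≫ c₂)).comap iW := by
        rw [← Scheme.IdealSheafData.comap_comp, ← Category.assoc, hiW, hδ₂]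
      refine Groth.Agent.LVCorrLib.pow_le_pow_of_comap iW hW he₁ he₂
    haveI : IsNoetherianRing Γ(Fx, V) := IsLocallyNoetherian.component_noetherian ⟨V, hV⟩
    obtain ⟨r, hr1, hr2⟩ := Submodule.exists_sub_one_mem_and_smul_eq_zero_of_fg_of_le_smul
      (𝔞.ideal ⟨V, hV⟩) (𝔞.ideal ⟨V, hV⟩ ^ d) (IsNoetherian.noetherian _)
      (by rw [smul_eq_mul, ← pow_succ']; exact hpow)
    obtain ⟨O, hO, hzO⟩ := isDiscrete_iff_forall_mem_exists_isOpen.mp
      (c₂.isDiscrete_preimage_singleton (δ.base z))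
      (i.base z) (show i.base z ∈ c₂.base ⁻¹' {δ.base z} from congr($(hδ₂).base z))
    have hsupp : (𝔞.support : Set Fx) = δ.base ⁻¹' {δ.base z} := by
      rw [Scheme.IdealSheafData.support_comap, TopologicalSpace.Closeds.coe_preimage,
        Scheme.IdealSheafData.coe_support_vanishingIdeal]
      rfl
    have hbas : ({z} : Set Fx) = (Fx.basicOpen r : Set Fx) ∩ i.base ⁻¹' O := by
      have hzero : ∀ w, w ∈ V → w ∈ δ.base ⁻¹' {δ.base z} → w ∈ Fx.basicOpen r := fun w hwV hw => by
        rw [← hsupp, SetLike.mem_coe,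
          Scheme.IdealSheafData.mem_support_iff_of_mem (U := ⟨V, hV⟩) hwV, Scheme.mem_zeroLocus_iff] at hw
        have h1 := hw _ hr1
        by_contra hr
        rw [Scheme.mem_basicOpen _ _ _ hwV] at h1 hr
        rw [map_sub, map_one] at h1
        exact hr ((IsLocalRing.isUnit_or_isUnit_of_isUnit_add
          (show IsUnit (Fx.presheaf.germ V w hwV r + (1 - Fx.presheaf.germ V w hwV r)) by simp)).elim id
            fun hu => (h1 (neg_sub (1 : _) (Fx.presheaf.germ V w hwV r) ▸ hu.neg)).elim)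
      refine Eq.symm ?_
      refine Set.eq_singleton_iff_unique_mem.mpr ⟨⟨hzero z hzV rfl, (hzO.ge rfl).1⟩, ?_⟩
      rintro w ⟨hw, hwO⟩
      have hwV : w ∈ V := Fx.basicOpen_le r hw
      refine i.isEmbedding.injective (hzO.le ⟨hwO, ?_⟩)
      show c₂.base (i.base w) = δ.base z
      rw [← Scheme.Hom.comp_apply, hδ₂]
      suffices w ∈ (𝔞.support : Set Fx) by rwa [hsupp] at this
      rw [SetLike.mem_coe, Scheme.IdealSheafData.mem_support_iff_of_mem (U := ⟨V, hV⟩) hwV,
        Scheme.mem_zeroLocus_iff]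
      intro a ha hwa
      have h1 : r * a ^ d = 0 := hr2 _ (Ideal.pow_mem_pow ha d)
      have h2 : IsUnit (Fx.presheaf.germ V w hwV (r * a ^ d)) := by
        rw [map_mul, map_pow]
        exact ((Scheme.mem_basicOpen _ _ _ hwV).mp hw).mul (((Scheme.mem_basicOpen _ _ _ hwV).mp hwa).pow d)
      rw [h1, map_zero] at h2
      exact not_isUnit_zero h2
    rw [hbas]
    exact (Fx.basicOpen r).2.inter (hO.preimage i.continuous)
  exact Groth.Agent.LVCorrLib.finite_discrete_of_closedPoints_open hopen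

end Groth.Agent.S19879
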