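import Groth.Statements.S1988
import Mathlib
import Groth.Agent.EtRamTowerLib.Dominate
-- import your own Groth.Agent.* helpers here

set_option autoImplicit false
universe u
open EtAlg

namespace Groth.Agent.S1988

/-- Let A -> B -> C be extensions of discrete valuation rings (local injective maps) with fraction
fields K ⊂ L ⊂ M₀ and K₁/K a finite extension. (The solution predicates mention only B, C and the
fields: in them the bottom ring is recovered as B ∩ K, which the hypotheses on A force to be A.) If
K₁ is a weak solution (resp. a solution) for A -> C then it is a weak solution (resp. a solution)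
for A -> B. -/
theorem result (A B C K L M₀ K₁ : Type u) [CommRing A] [IsDomain A] [IsDiscreteValuationRing A]
    [CommRing B] [IsDomain B] [IsDiscreteValuationRing B] [Algebra A B] [IsLocalHom (algebraMap A B)]
    (hinjA : Function.Injective (algebraMap A B))
    [CommRing C] [IsDomain C] [IsDiscreteValuationRing C] [Algebra B C] [IsLocalHom (algebraMap B C)]
    (hinj : Function.Injective (algebraMap B C))
    [Field K] [Field L] [Field M₀] [Field K₁] [Algebra K L] [Algebra K M₀] [Algebra L M₀] [IsScalarTower K L M₀]
    [Algebra K K₁] [FiniteDimensional K K₁] [Algebra A K] [IsFractionRing A K]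
    [Algebra B L] [IsFractionRing B L] [Algebra A L] [IsScalarTower A K L] [IsScalarTower A B L]
    [Algebra C M₀] [IsFractionRing C M₀] [Algebra B M₀]
    [IsScalarTower B C M₀] [IsScalarTower B L M₀] :
    (EtRam.IsWeakSolution C K M₀ K₁ → EtRam.IsWeakSolution B K L K₁) ∧
    (EtRam.IsSolution C K M₀ K₁ → EtRam.IsSolution B K L K₁) := by
  classical
  haveI : Module.IsTorsionFree B C := by
    rw [Module.isTorsionFree_iff_algebraMap_injective]
    exact hinj
  haveI : Module.Flat B C := inferInstance
  have setup : ∀ (M : Type u) [Field M] [Algebra K M] [Algebra L M] [Algebra K₁ M] [IsScalarTower K L M]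
      [IsScalarTower K K₁ M], Algebra.adjoin L (Set.range (algebraMap K₁ M)) = ⊤ →
      ∀ (W : ValuationSubring M), EtRam.Dominates B ((algebraMap L M).comp (algebraMap B L)) W →
      ∃ (M' : Type u) (_ : Field M') (_ : Algebra K M') (_ : Algebra M₀ M') (_ : Algebra K₁ M')
        (_ : IsScalarTower K M₀ M') (_ : IsScalarTower K K₁ M') (φ : M →+* M') (W' : ValuationSubring M'),
        Algebra.adjoin M₀ (Set.range (algebraMap K₁ M')) = ⊤ ∧
        EtRam.Dominates C ((algebraMap M₀ M').comp (algebraMap C M₀)) W' ∧ W'.comap φ = W ∧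
        algebraMap K₁ M' = φ.comp (algebraMap K₁ M) := by
    intro M _ _ _ _ _ _ hgen W hW
    letI : Algebra B M := ((algebraMap L M).comp (algebraMap B L)).toAlgebra
    have hBM : Function.Injective (algebraMap B M) :=
      (algebraMap L M).injective.comp (IsFractionRing.injective B L)
    obtain ⟨M', _, φ, ψ, W', hcomm, hW', hcomap, hclos⟩ :=
      EtRamTowerLib.exists_field_dominating B C M W hW hBM
    have hψ : Function.Injective ψ := by
      rw [injective_iff_map_eq_zero]
      intro c hc
      by_contra hne
      obtain ⟨ϖ, hϖ⟩ := IsDiscreteValuationRing.exists_irreducible B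
      obtain ⟨π, hπ⟩ := IsDiscreteValuationRing.exists_irreducible C
      obtain ⟨n, u, hcu⟩ := IsDiscreteValuationRing.eq_unit_mul_pow_irreducible hne hπ
      have hπ0 : ψ π = 0 := by
        rw [hcu, map_mul, map_pow, mul_eq_zero] at hc
        exact eq_zero_of_pow_eq_zero (hc.resolve_left (u.isUnit.map ψ).ne_zero)
      have hmem : algebraMap B C ϖ ∈ Ideal.span ({π} : Set C) := by
        rw [← hπ.maximalIdeal_eq, IsLocalRing.mem_maximalIdeal]
        exact fun hu => hϖ.not_isUnit ((isUnit_map_iff (algebraMap B C) ϖ).mp hu)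
      obtain ⟨d, hd⟩ := Ideal.mem_span_singleton.mp hmem
      have h0 : φ (algebraMap B M ϖ) = 0 := by
        rw [← RingHom.comp_apply, hcomm, RingHom.comp_apply, hd, map_mul, hπ0, zero_mul]
      rw [map_eq_zero] at h0
      exact hϖ.ne_zero (hBM (by rw [h0, map_zero]))
    let ψ₀ : M₀ →+* M' := IsFractionRing.lift (K := M₀) hψ
    have hψ₀ : ∀ c, ψ₀ (algebraMap C M₀ c) = ψ c := fun c => IsFractionRing.lift_algebraMap hψ c
    letI : Algebra M₀ M' := ψ₀.toAlgebra
    letI : Algebra K₁ M' := (φ.comp (algebraMap K₁ M)).toAlgebra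
    letI : Algebra K M' := (φ.comp (algebraMap K M)).toAlgebra
    have hL : φ.comp (algebraMap L M) = ψ₀.comp (algebraMap L M₀) := by
      refine IsLocalization.ringHom_ext (nonZeroDivisors B) (RingHom.ext fun b => ?_)
      show φ (algebraMap L M (algebraMap B L b)) = ψ₀ (algebraMap L M₀ (algebraMap B L b))
      rw [← IsScalarTower.algebraMap_apply B L M₀, IsScalarTower.algebraMap_apply B C M₀, hψ₀,
        ← RingHom.comp_apply ψ, ← hcomm]
      rfl
    haveI : IsScalarTower K M₀ M' := IsScalarTower.of_algebraMap_eq fun x => by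
      show φ (algebraMap K M x) = ψ₀ (algebraMap K M₀ x)
      rw [IsScalarTower.algebraMap_apply K L M, IsScalarTower.algebraMap_apply K L M₀]
      exact RingHom.congr_fun hL _
    haveI : IsScalarTower K K₁ M' := IsScalarTower.of_algebraMap_eq fun x => by
      show φ (algebraMap K M x) = φ (algebraMap K₁ M (algebraMap K K₁ x))
      rw [← IsScalarTower.algebraMap_apply]
    refine ⟨M', inferInstance, inferInstance, inferInstance, inferInstance, inferInstance, inferInstance, φ, W', ?_, ?_, hcomap, rfl⟩
    · have halg : ∀ x ∈ Set.range (algebraMap K₁ M'), IsAlgebraic M₀ x := by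
        rintro _ ⟨x, rfl⟩
        exact (((Algebra.IsIntegral.isIntegral (R := K) x).map (IsScalarTower.toAlgHom K K₁ M')).tower_top).isAlgebraic
      have key : ∀ t : M', t ∈ IntermediateField.adjoin M₀ (Set.range (algebraMap K₁ M')) := by
        intro t
        have ht : t ∈ Subfield.closure (Set.range φ ∪ Set.range ψ) := by rw [hclos]; trivial
        refine (Subfield.closure_le.mpr ?_ : _ ≤ (IntermediateField.adjoin M₀ (Set.range (algebraMap K₁ M'))).toSubfield) ht
        rintro _ (⟨m, rfl⟩ | ⟨c, rfl⟩)
        · have hm : m ∈ Algebra.adjoin L (Set.range (algebraMap K₁ M)) := by rw [hgen]; trivial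
          show φ m ∈ IntermediateField.adjoin M₀ (Set.range (algebraMap K₁ M'))
          induction hm using Algebra.adjoin_induction with
          | mem m hm => obtain ⟨x, rfl⟩ := hm; exact IntermediateField.subset_adjoin M₀ _ ⟨x, rfl⟩
          | algebraMap l =>
            rw [show φ (algebraMap L M l) = algebraMap M₀ M' (algebraMap L M₀ l) from RingHom.congr_fun hL l]
            exact IntermediateField.algebraMap_mem _ _
          | add a b _ _ ha hb => rw [map_add]; exact add_mem ha hb
          | mul a b _ _ ha hb => rw [map_mul]; exact mul_mem ha hb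
        · show ψ c ∈ IntermediateField.adjoin M₀ (Set.range (algebraMap K₁ M'))
          rw [← hψ₀]
          exact IntermediateField.algebraMap_mem _ _
      rw [eq_top_iff]
      intro t _
      rw [← IntermediateField.adjoin_toSubalgebra_of_isAlgebraic (F := M₀) (S := Set.range (algebraMap K₁ M')) halg]
      exact key t
    · have : (algebraMap M₀ M').comp (algebraMap C M₀) = ψ := RingHom.ext hψ₀
      rw [this]
      exact hW'
  -- the weakly unramified part
  have weak : ∀ (M M' : Type u) [Field M] [Field M'] (f : K₁ →+* M) (φ : M →+* M') (W : ValuationSubring M)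
      (W' : ValuationSubring M'), W'.comap φ = W → ∀ (f' : K₁ →+* M'), f' = φ.comp f →
      (letI : Algebra (W'.comap f') W' := (EtRam.inclOfComap W' f').toAlgebra
       EtRam.IsWeaklyUnramified (W'.comap f') W') →
      letI : Algebra (W.comap f) W := (EtRam.inclOfComap W f).toAlgebra
      EtRam.IsWeaklyUnramified (W.comap f) W := by
    intro M M' _ _ f φ W W' hWW' f' hf' h
    subst hf'
    subst hWW'
    refine le_antisymm ?_ ?_
    · rw [Ideal.map_le_iff_le_comap]
      intro a ha
      show EtRam.inclOfComap (W'.comap φ) f a ∈ IsLocalRing.maximalIdeal _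
      rw [IsLocalRing.mem_maximalIdeal] at ha ⊢
      exact fun hu => ha ((EtRam.isLocalHom_inclOfComap _ f).map_nonunit a hu)
    · intro a ha
      have ha' : EtRam.inclOfComap W' φ a ∈ IsLocalRing.maximalIdeal W' := by
        rw [IsLocalRing.mem_maximalIdeal] at ha ⊢
        exact fun hu => ha ((EtRam.isLocalHom_inclOfComap _ φ).map_nonunit a hu)
      rw [← (show Ideal.map (EtRam.inclOfComap W' (φ.comp f)) (IsLocalRing.maximalIdeal _) = IsLocalRing.maximalIdeal W' from h)] at ha'
      obtain ⟨y, hy, hdvd⟩ := EtRamTowerLib.exists_dvd_of_mem_map _ _ ha'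
      obtain ⟨d, hd⟩ := hdvd
      have hd' : φ (a : M) = φ (f (y : K₁)) * (d : M') := congrArg Subtype.val hd
      let y1 : (W'.comap φ).comap f := ⟨(y : K₁), y.2⟩
      have hy1 : y1 ∈ IsLocalRing.maximalIdeal ((W'.comap φ).comap f) := by
        rw [IsLocalRing.mem_maximalIdeal] at hy ⊢
        intro hu
        apply hy
        obtain ⟨z, hz⟩ := isUnit_iff_exists_inv.mp hu
        exact isUnit_iff_exists_inv.mpr ⟨⟨(z : K₁), z.2⟩, Subtype.ext (congrArg Subtype.val hz :)⟩
      by_cases hy0 : (y : K₁) = 0
      · have ha0 : a = 0 := by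
          apply Subtype.ext
          apply φ.injective
          rw [hd', hy0, map_zero, map_zero, zero_mul]
          simp
        rw [ha0]; exact zero_mem _
      · have hq : (a : M) / f (y : K₁) ∈ W'.comap φ := by
          show φ _ ∈ W'
          rw [map_div₀, hd', mul_div_cancel_left₀ _ (by simpa [map_eq_zero] using hy0)]
          exact d.2
        have : a = (⟨_, hq⟩ : W'.comap φ) * EtRam.inclOfComap (W'.comap φ) f y1 := by
          apply Subtype.ext
          show (a : M) = (a : M) / f (y : K₁) * f (y : K₁)
          rw [div_mul_cancel₀]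
          simpa [map_eq_zero] using hy0
        rw [this]
        exact Ideal.mul_mem_left _ _ (Ideal.mem_map_of_mem _ hy1)
  have red : ∀ (M M' : Type u) [Field M] [Field M'] (f : K₁ →+* M) (φ : M →+* M') (W : ValuationSubring M)
      (W' : ValuationSubring M'), W'.comap φ = W → ∀ (f' : K₁ →+* M'), f' = φ.comp f →
      @Algebra.IsGeometricallyReduced (IsLocalRing.ResidueField (W'.comap f')) (IsLocalRing.ResidueField W') _ _
          (IsLocalRing.ResidueField.map (EtRam.inclOfComap W' f')).toAlgebra →
      @Algebra.IsGeometricallyReduced (IsLocalRing.ResidueField (W.comap f)) (IsLocalRing.ResidueField W) _ _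
          (IsLocalRing.ResidueField.map (EtRam.inclOfComap W f)).toAlgebra := by
    intro M M' _ _ f φ W W' hWW' f' hf' h
    subst hf'
    subst hWW'
    have hV : ∀ (V : ValuationSubring K₁), W'.comap (φ.comp f) = V → ∀ (i : V →+* W') (_ : IsLocalHom i),
        (∀ x : V, (i x : M') = φ (f (x : K₁))) →
        @Algebra.IsGeometricallyReduced (IsLocalRing.ResidueField V) (IsLocalRing.ResidueField W') _ _
          (IsLocalRing.ResidueField.map i).toAlgebra := by
      rintro V rfl i hi hix
      have : i = EtRam.inclOfComap W' (φ.comp f) := RingHom.ext fun x => Subtype.ext (hix x)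
      subst this
      exact h
    let j := EtRam.inclOfComap W' φ
    let i := j.comp (EtRam.inclOfComap (W'.comap φ) f)
    haveI : IsLocalHom j := EtRam.isLocalHom_inclOfComap _ φ
    haveI : IsLocalHom (EtRam.inclOfComap (W'.comap φ) f) := EtRam.isLocalHom_inclOfComap _ f
    haveI : IsLocalHom i := RingHom.isLocalHom_comp _ _
    letI a1 := (IsLocalRing.ResidueField.map i).toAlgebra
    letI a2 := (IsLocalRing.ResidueField.map (EtRam.inclOfComap (W'.comap φ) f)).toAlgebra
    haveI := hV ((W'.comap φ).comap f) (by rw [ValuationSubring.comap_comap]) i inferInstance (fun x => rfl)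
    let e : IsLocalRing.ResidueField (W'.comap φ) →ₐ[IsLocalRing.ResidueField ((W'.comap φ).comap f)] IsLocalRing.ResidueField W' :=
      { IsLocalRing.ResidueField.map j with
        commutes' := fun r => by
          obtain ⟨r, rfl⟩ := IsLocalRing.residue_surjective r
          rfl }
    exact Algebra.IsGeometricallyReduced.of_injective e (RingHom.injective _)
  constructor
  · intro hsol M _ _ _ _ _ _ hgen W hW
    obtain ⟨M', _, _, _, _, _, _, φ, W', hg', hW', hcomap, hK₁⟩ := setup M hgen W hW
    have h := hsol M' hg' W' hW'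
    exact weak M M' (algebraMap K₁ M) φ W W' hcomap _ hK₁ h
  · intro hsol M _ _ _ _ _ _ hgen W hW
    obtain ⟨M', _, _, _, _, _, _, φ, W', hg', hW', hcomap, hK₁⟩ := setup M hgen W hW
    have h := hsol M' hg' W' hW'
    exact ⟨weak M M' (algebraMap K₁ M) φ W W' hcomap _ hK₁ h.1, red M M' (algebraMap K₁ M) φ W W' hcomap _ hK₁ h.2⟩

end Groth.Agent.S1988
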