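import Groth.Statements.S19880
import Groth.Agent.JacAlbLib.Twist

set_option autoImplicit false
set_option backward.isDefEq.respectTransparency false
set_option backward.isDefEq.respectTransparency.types false
set_option maxRecDepth 8000
set_option maxHeartbeats 1000000
universe u
open CategoryTheory CategoryTheory.Limits AlgebraicGeometry
open JacVar

namespace Groth.Agent.S19880

/-- Let k be a separably closed field, C a smooth proper geometrically connected curve of genus g > 0
over k with a k-rational point, and r > 2g an integer. Then for every effective divisor D of degree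
r on C there is an (r − g)-tuple γ = (P_1, …, P_{r−g}) of k-rational points of C with h⁰(D − P_1 − ⋯
− P_{r−g}) = 1; since every invertible module L of degree r > 2g − 2 is of the form O(D) with D
effective, this is stated as: for every invertible module L of degree r on C there are k-rational
points P_1, …, P_{r−g} with h⁰(C, L ⊗ I_{P_1} ⊗ ⋯ ⊗ I_{P_{r−g}}) = 1. (In the source this is the
statement that the symmetric power C^(r) is the union of the open pieces C^γ.) -/
theorem result (k : Type u) [Field k] [IsSepClosed k]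
    (C : Scheme.{u}) [C.Over (Spec (CommRingCat.of k))]
    [IsProper (C ↘ Spec (CommRingCat.of k))] [Smooth (C ↘ Spec (CommRingCat.of k))] [GeometricallyConnected (C ↘ Spec (CommRingCat.of k))]
    (hdim : topologicalKrullDim ↥C = 1)
    (g : ℕ) (hg : Curv2.genus k C = g) (hg0 : 0 < g)
    (σ₀ : Spec (CommRingCat.of k) ⟶ C) (hσ₀ : σ₀ ≫ (C ↘ Spec (CommRingCat.of k)) = 𝟙 _)
    (r : ℕ) (hr : 2 * g < r)
    (L : C.Modules) (hL : PicF.IsInvertible L) (hLdeg : Curv2.deg k C L 1 = (r : ℤ)) :
    ∃ σ : Fin (r - g) → (Spec (CommRingCat.of k) ⟶ C), (∀ t, σ t ≫ (C ↘ Spec (CommRingCat.of k)) = 𝟙 _) ∧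
      Module.finrank k (Coh.HH C (CohB1.tensorMod L (FGA.tensorList (List.ofFn fun t : Fin (r - g) =>
        ClSub.idealMod (σ t).ker))) 0) = 1 := by
  subst hg
  have key : ∀ (n : ℕ) (N : C.Modules), PicF.IsInvertible N → Module.finrank k (Coh.HH C N 0) = n + 1 →
      ∃ σ : Fin n → (Spec (CommRingCat.of k) ⟶ C), (∀ t, σ t ≫ (C ↘ Spec (CommRingCat.of k)) = 𝟙 _) ∧
        ∀ N' : C.Modules, CubeConsLib.cl N' = CubeConsLib.cl N * ∏ t, EllLawLib.idCls (σ t).ker →
          Module.finrank k (Coh.HH C N' 0) = 1 := by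
    intro n
    induction n with
    | zero => exact fun N hN h0 => ⟨Fin.elim0, fun t => t.elim0, fun N' e => by
        rw [Fin.prod_univ_zero, _root_.mul_one] at e; rw [JacAlbLib.h_congr (k := k) e, h0]⟩
    | succ n ih =>
      intro N hN h0
      obtain ⟨x, hx, hgen⟩ := JacAlbLib.exists_point_gen (k := k) hdim hN (by omega)
      have hI := IntMultLib.isInvertible_idealMod _ (AlgEquivCurveLib.isEffCartier_pt hdim x hx)
      have h := (JacAlbLib.h0_point (k := k) hdim x hx hN (CubeConsLib.cl_tensor N (ClSub.idealMod x.ker))).2 hgen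
      obtain ⟨σ, hσ, hP⟩ := ih _ (HilbPolyLib.isInvertible_tensor hN hI) (by omega)
      refine ⟨Fin.cons x σ, Fin.cases hx hσ, fun N' e => hP N' (e.trans ?_)⟩
      rw [Fin.prod_univ_succ, CubeConsLib.cl_tensor, _root_.mul_assoc]
      simp only [Fin.cons_zero, Fin.cons_succ]
      rfl
  have h0 := JacAlbLib.h0_of_deg (k := k) hdim hL (by omega)
  obtain ⟨σ, hσ, h1⟩ := key (r - Curv2.genus k C) L hL (by omega)
  exact ⟨σ, hσ, h1 _ (by rw [CubeConsLib.cl_tensor, JacAlbLib.cl_tensorList_ofFn fun t => (σ t).ker])⟩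

end Groth.Agent.S19880
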