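import Groth.Statements.S19881
import Mathlib
import Groth.Agent.GrModLib.LinSeq

set_option autoImplicit false
universe u
open GrLC

namespace Groth.Agent.S19881

/-- Let R = ⊕_{n ≥ 0} R_n be a (Noetherian) positively ℤ-graded ring which is standard graded
(irrelevant ideal generated by R_1), with R_0 Artinian, *local with unique homogeneous maximal ideal
m, Cohen–Macaulay of Krull dimension d, and with infinite residue field R/m. If the a-invariant of R
equals −d, i.e. the end (largest nonzero degree) of the graded local cohomology module H^d_m(R),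
computed from any *injective resolution of R in the graded category, is −d, then R is a polynomial
ring over R_0 in d variables of degree one: there is an R_0-algebra isomorphism R_0[T_1, …, T_d] ≅ R
mapping every variable into R_1. (The published statement asserts the equivalence of a(R) = −d with
R ≅ R_0[T_1, …, T_d] without the residue-field hypothesis; its argument treats the case of an
infinite residue field, which is the case stated here, and only the forward implication is stated.) -/
theorem result (R : Type u) [CommRing R]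
    [LocCoh.IsCohenMacaulayRing R] (𝒜 : ℤ → AddSubgroup R) [GradedRing 𝒜]
    (hpos : ∀ n : ℤ, n < 0 → 𝒜 n = ⊥)
    (hstd : Ideal.span (⋃ n ∈ Set.Ioi (0 : ℤ), (𝒜 n : Set R)) = Ideal.span ((𝒜 1 : AddSubgroup R) : Set R))
    [IsArtinianRing (GrLC.deg0 𝒜)] (m : HomogeneousIdeal 𝒜) (hm : GrLC.IsStarLocal 𝒜 m)
    (hinf : Infinite (R ⧸ m.toIdeal)) (d : ℕ) (hd : ringKrullDim R = d) (I : GrLC.StarInjRes 𝒜 𝒜)
    (ha : GrLC.endDeg (I.Hgr m d) = (((-(d : ℤ) : ℤ) : WithTop ℤ) : WithBot (WithTop ℤ))) :
    ∃ e : MvPolynomial (Fin d) (GrLC.deg0 𝒜) ≃ₐ[GrLC.deg0 𝒜] R, ∀ t : Fin d, e (MvPolynomial.X t) ∈ 𝒜 1 := by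
  have hstd' : (GrModLib.posIdeal 𝒜).toIdeal = Ideal.span ((𝒜 1 : AddSubgroup R) : Set R) := hstd
  have har := GrModLib.starLocal_le_radical hpos hm
  haveI : Module.Finite R (GrLC.GMod.of 𝒜 R 𝒜).carrier := inferInstanceAs (Module.Finite R R)
  obtain ⟨x, hx, hreg, hgen⟩ := GrModLib.exists_linear_seq hpos hstd' hm hinf har d (GrLC.GMod.of 𝒜 R 𝒜) inferInstance
    ((Module.supportDim_le_ringKrullDim R _).trans hd.le) (GrModLib.van_below_dim hpos hm hd)
    ((GrModLib.endDeg_le_iff I d _).1 ha.le)
  have hJ : ∀ z ∈ Ideal.span (Set.range x), GrModLib.pr 𝒜 0 z = 0 := fun z hz =>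
    GrModLib.pr_zero_posIdeal hpos z ((Ideal.span_le.2 (Set.range_subset_iff.2 fun i =>
      GrModLib.mem_posIdeal one_pos (hx i))) hz)
  have hgen' : (GrModLib.posIdeal 𝒜).toIdeal ≤ Ideal.span (Set.range x) := by
    rw [hstd', Ideal.span_le]
    intro y hy
    have h1 : y ∈ Ideal.span (Set.range x) • (⊤ : Submodule R R) := hgen 1 one_pos y hy
    rwa [smul_eq_mul, Ideal.mul_top] at h1
  have hs := GrModLib.eval₂_surjective hpos x hx hgen'
  have hi : Function.Injective (MvPolynomial.eval₂Hom (GrLC.deg0 𝒜).subtype x) := by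
    refine GrModLib.eval₂_injective d R _ x hreg fun c hc => Subtype.ext ?_
    have h1 := hJ _ hc
    rwa [show GrModLib.pr 𝒜 0 ((GrLC.deg0 𝒜).subtype c) = (c : R) from GrModLib.pr_self 𝒜 c.2] at h1
  exact ⟨AlgEquiv.ofBijective ({ toRingHom := MvPolynomial.eval₂Hom (GrLC.deg0 𝒜).subtype x
                                 commutes' := fun c => MvPolynomial.eval₂Hom_C _ _ c } :
      MvPolynomial (Fin d) (GrLC.deg0 𝒜) →ₐ[GrLC.deg0 𝒜] R) ⟨hi, hs⟩,
    fun t => by
      show MvPolynomial.eval₂Hom (GrLC.deg0 𝒜).subtype x (MvPolynomial.X t) ∈ 𝒜 1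
      rw [MvPolynomial.eval₂Hom_X']
      exact hx t⟩

end Groth.Agent.S19881
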