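import Groth.Statements.S19887
import Groth.Agent.RGFlatLib.GlueTwo
import Groth.Agent.NagataCompLib.Boundary

set_option autoImplicit false
set_option linter.style.haveILetI false
set_option backward.isDefEq.respectTransparency false
set_option backward.isDefEq.respectTransparency.types false

set_option autoImplicit false
universe u
open LVCorr

namespace Groth.Agent.S19887

open AlgebraicGeometry CategoryTheory CategoryTheory.Limits in
/-- Let k be a field and R a discrete valuation ring with a k-algebra structure, with generic point η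
(an open point of Spec R). Let X be a separated k-scheme of finite type, X_R = X ×_k Spec R, and let
(X̃, φ) be a lift of X over R: X̃ is a separated R-scheme of finite type (locally of finite type and
quasi-compact over R) and φ : X̃ → X_R an R-morphism inducing an isomorphism over η. Then there
exist a scheme Ỹ and a proper morphism ψ : Ỹ → X̃ such that (1) (Ỹ, ψ ∘ φ) is a lift of X, i.e. ψ ∘
φ is an isomorphism over η, (2) Ỹ is proper over X̃, and (3) for every compactification of X, i.e.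
every open immersion of X over k into a proper k-scheme X̄ (with X̄_R = X̄ ×_k Spec R and the
induced morphism X_R → X̄_R), Ỹ embeds by an open immersion into a scheme Ỹ(X̄) proper over R and
lifting X̄ (an R-morphism Ỹ(X̄) → X̄_R that is an isomorphism over η) such that Ỹ → Ỹ(X̄) → X̄_R
equals Ỹ → X̃ → X_R → X̄_R. (The source works over an algebraically closed field k and a discrete
valuation ring over k with residue field k, and its compactifications are dense open immersions;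
none of this is used.) -/
theorem result
    (k : Type u) [Field k] (R : Type u) [CommRing R] [IsDomain R] [IsDiscreteValuationRing R] [Algebra k R]
    (η : (Spec (CommRingCat.of R)).Opens) (hη : (η : Set ↥(Spec (CommRingCat.of R))) = {genericPoint ↥(Spec (CommRingCat.of R))})
    (X : Scheme.{u}) (pX : X ⟶ Spec (CommRingCat.of k)) [IsSeparated pX] [LocallyOfFiniteType pX] [QuasiCompact pX]
    (XR : Scheme.{u}) (a : XR ⟶ X) (b : XR ⟶ Spec (CommRingCat.of R)) (hXR : IsPullback a b pX (Spec.map (CommRingCat.ofHom (algebraMap k R))))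
    (Xt : Scheme.{u}) (q : Xt ⟶ Spec (CommRingCat.of R)) [IsSeparated q] [LocallyOfFiniteType q] [QuasiCompact q]
    (φ : Xt ⟶ XR) (hφ : φ ≫ b = q) (hφη : IsIso (φ ∣_ (b ⁻¹ᵁ η))) :
    ∃ (Y : Scheme.{u}) (ψ : Y ⟶ Xt), IsProper ψ ∧ IsIso ((ψ ≫ φ) ∣_ (b ⁻¹ᵁ η)) ∧
      ∀ (Xb : Scheme.{u}) (pXb : Xb ⟶ Spec (CommRingCat.of k)) [IsProper pXb] (jX : X ⟶ Xb) [IsOpenImmersion jX]
        (hj : jX ≫ pXb = pX)
        (XbR : Scheme.{u}) (ab : XbR ⟶ Xb) (bb : XbR ⟶ Spec (CommRingCat.of R)) (hXbR : IsPullback ab bb pXb (Spec.map (CommRingCat.ofHom (algebraMap k R))))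
        (jR : XR ⟶ XbR) (hjR₁ : jR ≫ ab = a ≫ jX) (hjR₂ : jR ≫ bb = b),
        ∃ (Yb : Scheme.{u}) (qb : Yb ⟶ Spec (CommRingCat.of R)) (_ : IsProper qb) (φb : Yb ⟶ XbR) (_ : φb ≫ bb = qb)
          (_ : IsIso (φb ∣_ (bb ⁻¹ᵁ η))) (e : Y ⟶ Yb) (_ : IsOpenImmersion e),
          e ≫ φb = ψ ≫ φ ≫ jR := by
  refine ⟨Xt, 𝟙 Xt, inferInstance, by rw [Category.id_comp]; exact hφη, ?_⟩
  intro Xb pXb _ jX _ hj XbR ab bb hXbR jR hjR₁ hjR₂
  subst hjR₂
  haveI : IsProper bb := MorphismProperty.of_isPullback (P := @IsProper) hXbR inferInstance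
  have hjRpb : IsPullback a jR jX ab :=
    IsPullback.of_bot (hj.symm ▸ hXR) hjR₁.symm hXbR
  haveI : IsOpenImmersion jR := MorphismProperty.of_isPullback (P := @IsOpenImmersion) hjRpb inferInstance
  let O : XbR.Opens := bb ⁻¹ᵁ η
  let p₁ : Xt ⟶ XbR := φ ≫ jR
  have hp₁ : p₁ ≫ bb = q := by rw [Category.assoc]; exact hφ
  haveI : IsSeparated p₁ := by
    haveI : IsSeparated (p₁ ≫ bb) := by rw [hp₁]; infer_instance
    exact IsSeparated.of_comp p₁ bb
  haveI : LocallyOfFiniteType p₁ := by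
    haveI : LocallyOfFiniteType (p₁ ≫ bb) := by rw [hp₁]; infer_instance
    exact locallyOfFiniteType_of_comp p₁ bb
  haveI : QuasiCompact p₁ := by
    haveI : QuasiCompact (p₁ ≫ bb) := by rw [hp₁]; infer_instance
    exact QuasiCompact.of_comp p₁ bb
  haveI : CompactSpace XbR := QuasiCompact.compactSpace_of_compactSpace bb
  haveI : QuasiSeparatedSpace XbR := quasiSeparatedSpace_of_quasiSeparated bb
  haveI : IsNoetherianRing R := inferInstance
  haveI : IsLocallyNoetherian XbR := LocallyOfFiniteType.isLocallyNoetherian bb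
  haveI : QuasiCompact O.ι := inferInstance
  haveI : IsIso (φ ∣_ (jR ⁻¹ᵁ O)) := hφη
  haveI : IsOpenImmersion (p₁ ∣_ O) := by rw [morphismRestrict_comp]; infer_instance
  have hpb : IsPullback (p₁ ⁻¹ᵁ O).ι (p₁ ∣_ O) p₁ O.ι := (isPullback_morphismRestrict p₁ O).flip
  haveI : IsClosedImmersion (pullback.lift (p₁ ⁻¹ᵁ O).ι (p₁ ∣_ O) hpb.w) := by
    rw [show pullback.lift (p₁ ⁻¹ᵁ O).ι (p₁ ∣_ O) hpb.w = hpb.isoPullback.hom from
      pullback.hom_ext (by simp) (by simp)]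
    infer_instance
  obtain ⟨W', qW', o₁', o₂', _, _, _, _, _, hq₁', hq₂', hko', -⟩ :=
    RGFlatLib.exists_glue_two (p₁ ⁻¹ᵁ O).ι (p₁ ∣_ O) p₁ O.ι hpb.w
  let W : W'.Opens := o₁'.opensRange ⊔ o₂'.opensRange
  let qW : (W : Scheme.{u}) ⟶ XbR := W.ι ≫ qW'
  haveI : IsLocallyNoetherian W' := LocallyOfFiniteType.isLocallyNoetherian qW'
  haveI : QuasiCompact W.ι := inferInstance
  have h₁ : Set.range o₁'.base ⊆ Set.range W.ι.base := by
    rw [Scheme.Opens.range_ι]; exact fun x hx => Or.inl hx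
  have h₂ : Set.range o₂'.base ⊆ Set.range W.ι.base := by
    rw [Scheme.Opens.range_ι]; exact fun x hx => Or.inr hx
  let o₁ := IsOpenImmersion.lift W.ι o₁' h₁
  let o₂ := IsOpenImmersion.lift W.ι o₂' h₂
  have hι₁ : o₁ ≫ W.ι = o₁' := IsOpenImmersion.lift_fac _ _ _
  have hι₂ : o₂ ≫ W.ι = o₂' := IsOpenImmersion.lift_fac _ _ _
  haveI : IsOpenImmersion o₁ := by
    haveI : IsOpenImmersion (o₁ ≫ W.ι) := by rw [hι₁]; infer_instance
    exact IsOpenImmersion.of_comp o₁ W.ι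
  haveI : IsOpenImmersion o₂ := by
    haveI : IsOpenImmersion (o₂ ≫ W.ι) := by rw [hι₂]; infer_instance
    exact IsOpenImmersion.of_comp o₂ W.ι
  have hq₁ : o₁ ≫ qW = p₁ := by rw [reassoc_of% hι₁, hq₁']
  have hq₂ : o₂ ≫ qW = O.ι := by rw [reassoc_of% hι₂, hq₂']
  have hko : (p₁ ⁻¹ᵁ O).ι ≫ o₁ = (p₁ ∣_ O) ≫ o₂ := by
    rw [← cancel_mono W.ι, Category.assoc, Category.assoc, hι₁, hι₂, hko']
  have hsurj : ∀ w : (W : Scheme.{u}), w ∈ Set.range o₁ ∨ w ∈ Set.range o₂ := fun w => by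
    rcases (show W.ι w ∈ o₁'.opensRange ⊔ o₂'.opensRange from w.2) with ⟨x, hx⟩ | ⟨x, hx⟩
    · exact Or.inl ⟨x, W.ι.isOpenEmbedding.injective (by rw [← Scheme.Hom.comp_apply, hι₁, hx])⟩
    · exact Or.inr ⟨x, W.ι.isOpenEmbedding.injective (by rw [← Scheme.Hom.comp_apply, hι₂, hx])⟩
  have hcov : ∀ w : (W : Scheme.{u}), qW w ∈ O → w ∈ Set.range o₁ → w ∈ Set.range o₂ := by
    rintro _ hw ⟨y, rfl⟩
    have hy : y ∈ p₁ ⁻¹ᵁ O := by
      show p₁ y ∈ O
      rwa [← hq₁, Scheme.Hom.comp_apply]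
    refine ⟨(p₁ ∣_ O) ⟨y, hy⟩, ?_⟩
    rw [← Scheme.Hom.comp_apply, ← hko, Scheme.Hom.comp_apply]
    rfl
  obtain ⟨P, ew, π, hew, _, hπ, hd, he⟩ := NagataCompLib.exists_dense_compactification qW
  haveI := hew
  haveI := hπ
  have hs : (o₂ ≫ ew) ≫ π = O.ι := by rw [Category.assoc, he, hq₂]
  have hle : Set.range (o₂ ≫ ew).base ⊆ Set.range (π ⁻¹ᵁ O).ι.base := by
    rintro _ ⟨z, rfl⟩
    rw [Scheme.Opens.range_ι]
    show π ((o₂ ≫ ew) z) ∈ O
    rw [← Scheme.Hom.comp_apply, hs]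
    exact z.2
  let s := IsOpenImmersion.lift (π ⁻¹ᵁ O).ι (o₂ ≫ ew) hle
  have hsι : s ≫ (π ⁻¹ᵁ O).ι = o₂ ≫ ew := IsOpenImmersion.lift_fac _ _ _
  have hsπ : s ≫ (π ∣_ O) = 𝟙 _ := by
    rw [← cancel_mono O.ι, Category.assoc, morphismRestrict_ι, reassoc_of% hsι, Category.id_comp, ← Category.assoc, hs]
  haveI : IsSeparated (π ∣_ O) := IsZariskiLocalAtTarget.restrict (P := @IsSeparated) inferInstance O
  haveI : IsClosedImmersion s := by
    haveI : IsClosedImmersion (s ≫ (π ∣_ O)) := by rw [hsπ]; infer_instance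
    exact IsClosedImmersion.of_comp s (π ∣_ O)
  haveI : IsOpenImmersion s := by
    haveI : IsOpenImmersion (s ≫ (π ⁻¹ᵁ O).ι) := by rw [hsι]; infer_instance
    exact IsOpenImmersion.of_comp s (π ⁻¹ᵁ O).ι
  haveI : Surjective s := ⟨fun z => by
    by_contra hz
    have hopen : IsOpen ((π ⁻¹ᵁ O).ι '' (Set.range s)ᶜ) :=
      (π ⁻¹ᵁ O).ι.isOpenEmbedding.isOpenMap _ s.isClosedEmbedding.isClosed_range.isOpen_compl
    obtain ⟨w, z', hz', hwz⟩ := hd.exists_mem_open hopen ⟨_, z, fun h => hz h, rfl⟩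
    have hwO : qW w ∈ O := by
      rw [← he, Scheme.Hom.comp_apply, ← hwz]
      exact z'.2
    rcases (em (w ∈ Set.range o₁)) with hw | hw
    · obtain ⟨x, rfl⟩ := hcov w hwO hw
      refine hz' ⟨x, (π ⁻¹ᵁ O).ι.isOpenEmbedding.injective ?_⟩
      rw [hwz, ← Scheme.Hom.comp_apply, hsι, Scheme.Hom.comp_apply]
    · obtain ⟨x, rfl⟩ := (hsurj w).resolve_left hw
      refine hz' ⟨x, (π ⁻¹ᵁ O).ι.isOpenEmbedding.injective ?_⟩
      rw [hwz, ← Scheme.Hom.comp_apply, hsι, Scheme.Hom.comp_apply]⟩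
  haveI : IsIso s := (isIso_iff_isOpenImmersion_and_surjective s).mpr ⟨inferInstance, inferInstance⟩
  haveI : IsIso (π ∣_ O) := by
    haveI : IsIso (s ≫ (π ∣_ O)) := by rw [hsπ]; infer_instance
    exact IsIso.of_isIso_comp_left s _
  refine ⟨P, π ≫ bb, inferInstance, π, rfl, inferInstance, o₁ ≫ ew, inferInstance, ?_⟩
  rw [Category.assoc, he, hq₁, Category.id_comp]

end Groth.Agent.S19887
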