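import Groth.Statements.S19889
import Groth.Agent.A1AVLib.Semi
import Groth.Agent.GrpHomLib.Image
import Groth.Agent.NeutralSchLib.Basic

set_option autoImplicit false
set_option backward.isDefEq.respectTransparency false
universe u
open CategoryTheory CategoryTheory.Limits MonoidalCategory CartesianMonoidalCategory MonObj GrpObj AlgebraicGeometry
open GrpSch

namespace Groth.Agent.S19889

attribute [-instance] CategoryTheory.Hom.commGroup

section
open CategoryTheory MonoidalCategory CartesianMonoidalCategory MonObj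

/-- A product of homomorphisms into a commutative group is a homomorphism. -/
theorem isMonHom_mul {C : Type*} [Category C] [CartesianMonoidalCategory C] [BraidedCategory C] {X Y : C}
    [GrpObj X] [GrpObj Y] [IsCommMonObj Y] (f g : X ⟶ Y) [IsMonHom f] [IsMonHom g] : IsMonHom (f * g) := by
  refine ⟨?_, ?_⟩
  · rw [MonObj.comp_mul, IsMonHom.one_hom (f := f), IsMonHom.one_hom (f := g), MonObj.one_eq_one,
      _root_.mul_one]
  · rw [MonObj.comp_mul, IsMonHom.mul_hom (f := f), IsMonHom.mul_hom (f := g)]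
    have key : ∀ h : X ⟶ Y, (h ⊗ₘ h) ≫ MonObj.mul = (fst X X ≫ h) * (snd X X ≫ h) := fun h => by
      rw [Hom.mul_def]
      congr 1
      exact hom_ext _ _ (by rw [tensorHom_fst, lift_fst]) (by rw [tensorHom_snd, lift_snd])
    rw [key, key, key, MonObj.comp_mul, MonObj.comp_mul]
    letI := Hom.commMonoid (M := Y) (X := X ⊗ X)
    exact mul_mul_mul_comm _ _ _ _

/-- Powers of a homomorphism into a commutative group are homomorphisms. -/
theorem isMonHom_pow {C : Type*} [Category C] [CartesianMonoidalCategory C] [BraidedCategory C] {X Y : C}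
    [GrpObj X] [GrpObj Y] [IsCommMonObj Y] (f : X ⟶ Y) [IsMonHom f] : ∀ m : ℕ, IsMonHom (f ^ m)
  | 0 => by
    rw [pow_zero]
    refine ⟨?_, ?_⟩
    · rw [MonObj.comp_one, MonObj.one_eq_one]
    · rw [MonObj.comp_one, Hom.one_def, ← _root_.one_mul (toUnit (X ⊗ X) ≫ η[Y]), Hom.mul_def, ← Hom.one_def]
      congr 1
      exact hom_ext _ _ (by simp [tensorHom_fst, MonObj.comp_one]) (by simp [tensorHom_snd, MonObj.comp_one])
  | m + 1 => by
    rw [pow_succ]
    haveI := isMonHom_pow f m
    exact isMonHom_mul _ _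

end


/-- Let k be an algebraically closed field, G a commutative group scheme locally of finite type over k,
and i : G⁰ → G its identity component (a homomorphism that is an open immersion onto the connected
component of the unit point). Then the natural map from the torsion subgroup of G(k) to the torsion
subgroup of G(k)/G⁰(k) is surjective: if g is a k-point of G and gⁿ lies in G⁰(k) for some n ≥ 1,
then there is a k-point t of G of finite order such that t⁻¹ g lies in G⁰(k). -/
theorem result (k : Type u) [Field k] [IsAlgClosed k]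
    {G G0 : Over (Spec (CommRingCat.of k))} [GrpObj G] [IsCommMonObj G] [GrpObj G0]
    [LocallyOfFiniteType G.hom] (i : G0 ⟶ G) [IsMonHom i] (hi : AutSch.IsIdComp i)
    (g : 𝟙_ (Over (Spec (CommRingCat.of k))) ⟶ G) (n : ℕ) (hn : 0 < n)
    (hg : g ^ n ∈ AutSch.ptsRange i) :
    ∃ t : 𝟙_ (Over (Spec (CommRingCat.of k))) ⟶ G, IsOfFinOrder t ∧ t⁻¹ * g ∈ AutSch.ptsRange i := by
  obtain ⟨-, hio, hir⟩ := hi
  haveI : LocallyOfFiniteType G0.hom := by rw [← Over.w i]; infer_instance
  haveI : ConnectedSpace G0.left := by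
    haveI : Nonempty G0.left := ⟨η[G0].left (IsLocalRing.closedPoint k)⟩
    refine connectedSpace_iff_univ.2 ⟨Set.univ_nonempty, (i.left.isOpenEmbedding.isInducing.isPreconnected_image).1 ?_⟩
    rw [Set.image_univ, hir, Groth.Agent.NeutralSch.neutralSet_field]
    rw [← Groth.Agent.GrpField.connectedComponent_unit]
    exact isPreconnected_connectedComponent
  haveI := A1AVLib.quasiCompact_of_connected G0
  haveI : IsSeparated G.hom := Groth.Agent.GrpField.isSeparated_grp (G := G)
  haveI : JacobsonSpace G0.left := LocallyOfFiniteType.jacobsonSpace G0.hom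
  haveI : IsLocallyNoetherian G0.left := LocallyOfFiniteType.isLocallyNoetherian G0.hom
  haveI : CompactSpace G0.left := QuasiCompact.compactSpace_of_compactSpace G0.hom
  haveI : IsNoetherian G0.left := ⟨⟩
  haveI : ∀ m : ℕ, IsMonHom (i ^ m) := isMonHom_pow i
  haveI : ∀ m : ℕ, QuasiCompact (i ^ m).left := fun m => by
    haveI : QuasiCompact ((i ^ m).left ≫ G.hom) := by rw [Over.w]; infer_instance
    exact QuasiCompact.of_comp (i ^ m).left G.hom
  have hfac : ∀ m n : ℕ, ((𝟙 G0 : G0 ⟶ G0) ^ n) ≫ i ^ m = i ^ (n * m) := fun m n => by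
    rw [MonObj.comp_pow, MonObj.pow_comp, Category.id_comp, ← pow_mul]
  let D : ℕ → TopologicalSpace.Closeds G0.left := fun m => ⟨i.left ⁻¹' Set.range (i ^ m).left,
    (Groth.Agent.GrpHom.isClosed_range (i ^ m)).preimage i.left.continuous⟩
  obtain ⟨_, ⟨⟨m, hm⟩, rfl⟩, hmin⟩ := wellFounded_lt.has_min (Set.range fun m : {m : ℕ // 0 < m} => D m.1)
    ⟨_, ⟨1, one_pos⟩, rfl⟩
  obtain ⟨g0, hg0⟩ := (AutSch.mem_ptsRange_iff i _).1 hg
  have hle : D (n * m) ≤ D m := by
    rintro x ⟨z, hz⟩
    refine ⟨((𝟙 G0 : G0 ⟶ G0) ^ n).left z, ?_⟩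
    rw [← Scheme.Hom.comp_apply, ← Over.comp_left, hfac]
    exact hz
  have heq : D m ≤ D (n * m) := by
    by_contra h
    exact hmin (D (n * m)) ⟨⟨n * m, Nat.mul_pos hn hm⟩, rfl⟩ (lt_of_le_not_ge hle h)
  let c := IsLocalRing.closedPoint k
  have hpow : g0 ≫ i ^ m = g ^ (n * m) := by rw [MonObj.comp_pow, hg0, ← pow_mul]
  have hx₀ : (g0 ≫ (𝟙 G0 : G0 ⟶ G0) ^ m).left c ∈ D m := by
    refine ⟨g0.left c, ?_⟩
    rw [← Scheme.Hom.comp_apply, ← Scheme.Hom.comp_apply, ← Over.comp_left, ← Over.comp_left]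
    rw [Category.assoc, MonObj.pow_comp, Category.id_comp]
  obtain ⟨z, hz⟩ := heq hx₀
  have hz' : (i ^ (n * m)).left z = (g0 ≫ i ^ m).left c := by
    rw [hz, ← Scheme.Hom.comp_apply, ← Over.comp_left, Category.assoc, MonObj.pow_comp, Category.id_comp]
  let y := (g0 ≫ i ^ m).left c
  have hy : IsClosed ({y} : Set G.left) := by
    haveI := isClosedImmersion_of_comp_eq_id G.hom (g0 ≫ i ^ m).left (Over.w (g0 ≫ i ^ m))
    have h := (g0 ≫ i ^ m).left.isClosedEmbedding.isClosed_range
    have e : Set.range (g0 ≫ i ^ m).left = {y} := by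
      ext w
      refine ⟨?_, fun hw => ⟨c, (Set.mem_singleton_iff.1 hw).symm⟩⟩
      rintro ⟨s, rfl⟩
      exact congrArg (g0 ≫ i ^ m).left (Subsingleton.elim (α := PrimeSpectrum k) s c)
    exact e ▸ h
  obtain ⟨x, hxy, hxc⟩ := nonempty_inter_closedPoints (X := G0.left) (Z := (i ^ (n * m)).left ⁻¹' {y})
    ⟨z, hz'⟩ (hy.preimage (i ^ (n * m)).left.continuous).isLocallyClosed
  let P : 𝟙_ (Over (Spec (CommRingCat.of k))) ⟶ G0 :=
    Over.homMk (pointOfClosedPoint G0.hom x hxc) (pointOfClosedPoint_comp _ _ _)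
  have hP : P ≫ i ^ (n * m) = g0 ≫ i ^ m := by
    ext1
    refine ext_of_apply_closedPoint_eq G.hom (Over.w _) (Over.w _) ?_
    rw [Over.comp_left, Scheme.Hom.comp_apply]
    show (i ^ (n * m)).left (pointOfClosedPoint G0.hom x hxc c) = _
    rw [pointOfClosedPoint_apply]
    exact hxy
  have hc : ∀ a b : 𝟙_ (Over (Spec (CommRingCat.of k))) ⟶ G, Commute a b := fun a b => by
    letI := Hom.commMonoid (M := G) (X := 𝟙_ (Over (Spec (CommRingCat.of k))))
    exact mul_comm a b
  refine ⟨g * (P ≫ i)⁻¹, isOfFinOrder_iff_pow_eq_one.2 ⟨n * m, Nat.mul_pos hn hm, ?_⟩, ?_⟩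
  · rw [(hc _ _).mul_pow, inv_pow, ← MonObj.comp_pow, hP, hpow, _root_.mul_inv_cancel]
  · refine (AutSch.mem_ptsRange_iff i _).2 ⟨P, ?_⟩
    rw [_root_.mul_inv_rev, _root_.inv_inv, _root_.mul_assoc, _root_.inv_mul_cancel, _root_.mul_one]

end Groth.Agent.S19889
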