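import Groth.Statements.S19891
import Groth.Agent.DvrDom.ValLifts

set_option autoImplicit false
universe u
open CategoryTheory AlgebraicGeometry
open ValCrit

namespace Groth.Agent.S19891

/-- Let h : Z → Y and f : Y → X be morphisms of quasi-compact quasi-separated schemes, with h dominant.
Then f is separated if and only if the following refined uniqueness criterion holds: for every point
z of Z, every valuation ring R of the residue field κ(z) and every morphism φ : Spec R → X whose
restriction to Spec κ(z) is the canonical morphism Spec κ(z) → Z → Y → X, any two morphisms Spec R →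
Y lying over φ and restricting to Spec κ(z) → Z → Y on the generic point coincide. (The published
statement does not require h to be dominant; its proof uses that every point of Y generalises to a
point of h(Z), and for Z empty the criterion holds whatever f is, so dominance of h is assumed
here.) -/
theorem result {X Y Z : Scheme.{u}} (h : Z ⟶ Y) (f : Y ⟶ X)
    [CompactSpace ↥Z] [QuasiSeparatedSpace ↥Z] [CompactSpace ↥Y] [QuasiSeparatedSpace ↥Y]
    [CompactSpace ↥X] [QuasiSeparatedSpace ↥X] (hd : DenseRange h.base) :
    IsSeparated f ↔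
      ∀ (z : ↥Z) (R : ValuationSubring ↑(Z.residueField z)) (φ : Spec (CommRingCat.of ↥R) ⟶ X),
        Spec.map (CommRingCat.ofHom R.subtype) ≫ φ = Z.fromSpecResidueField z ≫ h ≫ f →
        ∀ φ₁ φ₂ : Spec (CommRingCat.of ↥R) ⟶ Y,
          Spec.map (CommRingCat.ofHom R.subtype) ≫ φ₁ = Z.fromSpecResidueField z ≫ h → φ₁ ≫ f = φ →
          Spec.map (CommRingCat.ofHom R.subtype) ≫ φ₂ = Z.fromSpecResidueField z ≫ h → φ₂ ≫ f = φ →
          φ₁ = φ₂ := by
  constructor
  · intro hf z R φ hφ φ₁ φ₂ h₁ e₁ h₂ e₂
    let sq : ValuativeCommSq f :=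
      { R := R, K := Z.residueField z, i₁ := Z.fromSpecResidueField z ≫ h, i₂ := φ
        commSq := ⟨(Category.assoc _ _ _).trans hφ.symm⟩ }
    have := IsSeparated.valuativeCriterion f sq
    exact congrArg CommSq.LiftStruct.l (Subsingleton.elim (⟨φ₁, h₁, e₁⟩ : sq.commSq.LiftStruct) ⟨φ₂, h₂, e₂⟩)
  · intro H
    haveI : QuasiCompact h := inferInstance
    have hG : ∀ y : Y, ∃ z ∈ (Set.univ : Set Z), h z ⤳ y := fun y => by
      obtain ⟨z, hz⟩ := DvrDomLib.exists_specializes_of_mem_closure_range h y (hd y)
      exact ⟨z, trivial, hz⟩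
    refine DvrDomLib.isSeparated_of_valuationSubring f h Set.univ hG fun z _ R l₁ l₂ hl h₁ h₂ => ?_
    exact H z R (l₁ ≫ f) (by rw [← Category.assoc, h₁, Category.assoc]) l₁ l₂ h₁ rfl h₂ hl.symm

end Groth.Agent.S19891
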