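import Groth.Statements.S19892
import Groth.Agent.DvrDom.ValLifts

set_option autoImplicit false
universe u
open CategoryTheory AlgebraicGeometry
open ValCrit

namespace Groth.Agent.S19892

/-- Let h : Z → Y and f : Y → X be morphisms of quasi-compact quasi-separated schemes, with h dominant
and f locally of finite type. Then f is proper if and only if the following refined valuative
criterion holds: for every point z of Z, every valuation ring R of the residue field κ(z) and every
morphism φ : Spec R → X whose restriction to Spec κ(z) is the canonical morphism Spec κ(z) → Z → Y →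
X, there is exactly one morphism Spec R → Y lying over φ and restricting to Spec κ(z) → Z → Y on the
generic point. (The published statement does not require h to be dominant; its proof uses that every
point of Y generalises to a point of h(Z), and for Z empty the criterion holds whatever f is, so
dominance of h is assumed here.) -/
theorem result {X Y Z : Scheme.{u}} (h : Z ⟶ Y) (f : Y ⟶ X)
    [CompactSpace ↥Z] [QuasiSeparatedSpace ↥Z] [CompactSpace ↥Y] [QuasiSeparatedSpace ↥Y]
    [CompactSpace ↥X] [QuasiSeparatedSpace ↥X] (hd : DenseRange h.base)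
    [LocallyOfFiniteType f] :
    IsProper f ↔
      ∀ (z : ↥Z) (R : ValuationSubring ↑(Z.residueField z)) (φ : Spec (CommRingCat.of ↥R) ⟶ X),
        Spec.map (CommRingCat.ofHom R.subtype) ≫ φ = Z.fromSpecResidueField z ≫ h ≫ f →
        ∃! φ' : Spec (CommRingCat.of ↥R) ⟶ Y,
          Spec.map (CommRingCat.ofHom R.subtype) ≫ φ' = Z.fromSpecResidueField z ≫ h ∧ φ' ≫ f = φ := by
  constructor
  · intro hf z R φ hφ
    let sq : ValuativeCommSq f :=
      { R := R, K := Z.residueField z, i₁ := Z.fromSpecResidueField z ≫ h, i₂ := φ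
        commSq := ⟨(Category.assoc _ _ _).trans hφ.symm⟩ }
    have hc : ValuativeCriterion f := by
      rw [IsProper.eq_valuativeCriterion] at hf
      exact hf.1.1.1
    obtain ⟨hu⟩ := hc sq
    exact ⟨hu.default.l, ⟨hu.default.fac_left, hu.default.fac_right⟩,
      fun l hl => congrArg CommSq.LiftStruct.l (hu.uniq ⟨l, hl.1, hl.2⟩)⟩
  · intro H
    haveI : QuasiCompact h := inferInstance
    have hG : ∀ y : Y, ∃ z ∈ (Set.univ : Set Z), h z ⤳ y := fun y => by
      obtain ⟨z, hz⟩ := DvrDomLib.exists_specializes_of_mem_closure_range h y (hd y)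
      exact ⟨z, trivial, hz⟩
    have huniq : ∀ z ∈ (Set.univ : Set Z), ∀ R : ValuationSubring (Z.residueField z),
        ∀ l₁ l₂ : Spec (CommRingCat.of R) ⟶ Y, l₁ ≫ f = l₂ ≫ f →
          Spec.map (CommRingCat.ofHom R.subtype) ≫ l₁ = Z.fromSpecResidueField z ≫ h →
          Spec.map (CommRingCat.ofHom R.subtype) ≫ l₂ = Z.fromSpecResidueField z ≫ h → l₁ = l₂ :=
      fun z _ R l₁ l₂ hl h₁ h₂ =>
        (H z R (l₁ ≫ f) (by rw [← Category.assoc, h₁, Category.assoc])).unique ⟨h₁, rfl⟩ ⟨h₂, hl.symm⟩
    haveI := DvrDomLib.isSeparated_of_valuationSubring f h Set.univ hG huniq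
    haveI : UniversallyClosed f :=
      DvrDomLib.universallyClosed_of_valuationSubring_lifts f h Set.univ hG (fun z _ R y hy => by
        obtain ⟨l, ⟨h₁, h₂⟩, -⟩ := H z R y hy
        exact ⟨l, h₂, h₁⟩) huniq
    exact ⟨⟩

end Groth.Agent.S19892
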