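import Groth.Statements.S19895
import Mathlib
-- import your own Groth.Agent.* helpers here

set_option autoImplicit false
open Complex
open VerlindeComb

namespace Groth.Agent.S19895
open Finset Matrix

/-- `exp (-(2πi (Σa+Σb) Σf)/(r n)) det (ω^(a_i f_j)) det (ω^(b_i f_j))`. -/
noncomputable def alt {r : ℕ} (n : ℕ) (a b : Fin r → ℕ) (f : Fin r → ℂ) : ℂ :=
  Complex.exp (-(2 * Real.pi * I * ((∑ i, a i) + (∑ i, b i) : ℕ) * (∑ j, f j) / (r * n))) *
    (Matrix.of fun i j => Complex.exp (2 * Real.pi * I * (a i : ℂ) * f j / n)).det *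
    (Matrix.of fun i j => Complex.exp (2 * Real.pi * I * (b i : ℂ) * f j / n)).det

lemma alt_comp {r n : ℕ} (a b : Fin r → ℕ) (f : Fin r → ℂ) (π : Equiv.Perm (Fin r)) :
    alt n a b (f ∘ π) = alt n a b f := by
  have key : ∀ c : Fin r → ℕ,
      (Matrix.of fun i j => Complex.exp (2 * Real.pi * I * (c i : ℂ) * (f ∘ π) j / n)).det =
      (Equiv.Perm.sign π : ℂ) *
        (Matrix.of fun i j => Complex.exp (2 * Real.pi * I * (c i : ℂ) * f j / n)).det := by
    intro c
    exact Matrix.det_permute' π (Matrix.of fun i j =>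
      Complex.exp (2 * Real.pi * I * (c i : ℂ) * f j / n))
  have hsum : ∑ j, (f ∘ π) j = ∑ j, f j := Equiv.sum_comp π f
  have hs : ((Equiv.Perm.sign π : ℤ) : ℂ) * ((Equiv.Perm.sign π : ℤ) : ℂ) = 1 := by
    rcases Int.units_eq_one_or (Equiv.Perm.sign π) with h | h <;> simp [h]
  unfold alt
  rw [key a, key b, hsum]
  linear_combination (Complex.exp (-(2 * Real.pi * I * ((∑ i, a i) + (∑ i, b i) : ℕ) *
    (∑ j, f j) / (r * n))) *
    (Matrix.of fun i j => Complex.exp (2 * Real.pi * I * (a i : ℂ) * f j / n)).det *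
    (Matrix.of fun i j => Complex.exp (2 * Real.pi * I * (b i : ℂ) * f j / n)).det) * hs

lemma alt_shift {r n : ℕ} (hr : r ≠ 0) (a b : Fin r → ℕ) (f : Fin r → ℂ) (c : ℂ) :
    alt n a b (fun j => f j - c) = alt n a b f := by
  have key : ∀ e : Fin r → ℕ,
      (Matrix.of fun i j => Complex.exp (2 * Real.pi * I * (e i : ℂ) * (f j - c) / n)).det =
      Complex.exp (-(2 * Real.pi * I * ((∑ i, e i : ℕ) : ℂ) * c / n)) *
        (Matrix.of fun i j => Complex.exp (2 * Real.pi * I * (e i : ℂ) * f j / n)).det := by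
    intro e
    have h1 : (Matrix.of fun i j => Complex.exp (2 * Real.pi * I * (e i : ℂ) * (f j - c) / n)) =
        Matrix.of fun i j => Complex.exp (-(2 * Real.pi * I * (e i : ℂ) * c / n)) *
          Matrix.of (fun i j => Complex.exp (2 * Real.pi * I * (e i : ℂ) * f j / n)) i j := by
      ext i j
      simp only [Matrix.of_apply]
      rw [← Complex.exp_add]
      congr 1
      ring
    rw [h1, Matrix.det_mul_column, ← Complex.exp_sum]
    congr 2
    push_cast
    simp [Finset.mul_sum, Finset.sum_mul, Finset.sum_div, Finset.sum_neg_distrib]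
  unfold alt
  rw [key a, key b]
  have h0 : (r : ℂ) ≠ 0 := Nat.cast_ne_zero.2 hr
  have hs : ∑ j, (f j - c) = (∑ j, f j) - r * c := by simp [Finset.sum_sub_distrib]
  have he : ∀ (e A B x y : ℂ), x * (A * e) * (B * y) = (x * A * B) * e * y := by intros; ring
  rw [he, ← Complex.exp_add, ← Complex.exp_add, hs]
  congr 3
  field_simp
  push_cast
  ring

lemma alt_add_period {r n : ℕ} (hn : n ≠ 0) (a b : Fin r → ℕ) (f : Fin r → ℂ) (l : Fin r) :
    alt n a b (Function.update f l (f l + n)) =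
      Complex.exp (-(2 * Real.pi * I * ((∑ i, a i) + (∑ i, b i) : ℕ) / r)) * alt n a b f := by
  have h0 : (n : ℂ) ≠ 0 := Nat.cast_ne_zero.2 hn
  have key : ∀ e : Fin r → ℕ,
      (Matrix.of fun i j =>
        Complex.exp (2 * Real.pi * I * (e i : ℂ) * Function.update f l (f l + n) j / n)) =
      Matrix.of fun i j => Complex.exp (2 * Real.pi * I * (e i : ℂ) * f j / n) := by
    intro e
    ext i j
    simp only [Matrix.of_apply]
    rcases eq_or_ne j l with rfl | hj
    · rw [Function.update_self, show 2 * Real.pi * I * (e i : ℂ) * (f j + n) / n =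
          2 * Real.pi * I * (e i : ℂ) * f j / n + (e i : ℕ) * (2 * Real.pi * I) by
            field_simp, Complex.exp_add, Complex.exp_nat_mul_two_pi_mul_I, mul_one]
    · rw [Function.update_of_ne hj]
  have hs : ∑ j, Function.update f l (f l + n) j = (∑ j, f j) + n := by
    rw [Finset.sum_update_of_mem (Finset.mem_univ l), ← Finset.add_sum_erase _ f (Finset.mem_univ l),
      Finset.sdiff_singleton_eq_erase]
    ring
  unfold alt
  rw [key a, key b, hs, ← mul_assoc, ← mul_assoc, ← Complex.exp_add]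
  congr 3
  field_simp
  ring

/-- no matching of `a` with `b` summing to a constant mod `n` other than the reversal. -/
lemma rev_of_congr {r n q : ℕ} (a b : Fin r → ℕ) (ha : StrictAnti a) (hb : StrictAnti b)
    (han : ∀ i, a i < n) (hbn : ∀ i, b i < n) (π : Equiv.Perm (Fin r))
    (hπ : ∀ i, (n : ℤ) ∣ (a i + b (π i) : ℕ) - (q : ℤ)) (hsum : (∑ i, a i) + (∑ i, b i) = q * r) :
    ∀ i, a i + b (Fin.rev i) = q := by
  have hsum' : ∑ i, (((a i + b (π i) : ℕ) : ℤ) - q) = 0 := by
    rw [Finset.sum_sub_distrib, ← Nat.cast_sum, Finset.sum_add_distrib, Equiv.sum_comp π b, hsum]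
    simp [mul_comm]
  have hall : ∀ i, a i + b (π i) = q := by
    intro i
    by_contra hi
    obtain ⟨j, hj⟩ : ∃ j, (((a j + b (π j) : ℕ) : ℤ) - q) < 0 := by
      by_contra hc
      push Not at hc
      have := (Finset.sum_eq_zero_iff_of_nonneg fun j _ => hc j).1 hsum' i (Finset.mem_univ i)
      omega
    obtain ⟨l, hl⟩ : ∃ l, 0 < (((a l + b (π l) : ℕ) : ℤ) - q) := by
      by_contra hc
      push Not at hc
      have := (Finset.sum_eq_zero_iff_of_nonpos fun j _ => hc j).1 hsum' i (Finset.mem_univ i)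
      omega
    obtain ⟨s, hs⟩ := hπ j
    obtain ⟨t, ht⟩ := hπ l
    have hn : (0 : ℤ) < n := by have := han j; omega
    have h1 : s ≤ -1 := by
      by_contra hc
      push Not at hc
      nlinarith [mul_nonneg hn.le (show (0 : ℤ) ≤ s by omega)]
    have h2 : 1 ≤ t := by
      by_contra hc
      push Not at hc
      nlinarith [mul_nonpos_of_nonneg_of_nonpos hn.le (show t ≤ (0 : ℤ) by omega)]
    have h3 := mul_le_mul_of_nonneg_left h1 hn.le
    have h4 := mul_le_mul_of_nonneg_left h2 hn.le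
    have := han l
    have := hbn (π l)
    omega
  have hanti : StrictMono (fun i => π (Fin.rev i)) := by
    intro i j hij
    have h1 := hall (Fin.rev i)
    have h2 := hall (Fin.rev j)
    have h3 : a (Fin.rev i) < a (Fin.rev j) := ha (Fin.rev_lt_rev.2 hij)
    by_contra hc
    push Not at hc
    have := hb.antitone hc
    omega
  have hid : (fun i => π (Fin.rev i)) = id := by
    have := Subsingleton.elim (hanti.orderIsoOfSurjective _ (π.surjective.comp Fin.rev_surjective))
      (OrderIso.refl (Fin r))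
    ext i
    exact congrArg Fin.val (DFunLike.congr_fun this i)
  intro i
  have := congrFun hid (Fin.rev i)
  simp only [Fin.rev_rev, id_eq] at this
  simpa [this] using hall i

abbrev vset (r n : ℕ) : Finset (Fin r → Fin n) :=
  Finset.univ.filter
    fun v : Fin r → Fin n => StrictAnti v ∧ ∀ i : Fin r, (i : ℕ) = r - 1 → (v i : ℕ) = 0

lemma sum_eq_zero_of_not_dvd {m n : ℕ} (a b : Fin (m + 2) → ℕ)
    (hM : ¬ (m + 2) ∣ (∑ i, a i) + (∑ i, b i)) :
    ∑ v ∈ vset (m + 2) n, alt n a b (fun j => (v j : ℕ)) = 0 := by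
  set μ := Complex.exp (-(2 * Real.pi * I * ((∑ i, a i) + (∑ i, b i) : ℕ) / (m + 2 : ℕ))) with hμ
  have hμ1 : μ ≠ 1 := by
    intro h
    obtain ⟨l, hl⟩ := Complex.exp_eq_one_iff.1 h
    apply hM
    rw [← Int.natCast_dvd_natCast]
    refine ⟨-l, ?_⟩
    have h0 : ((m + 2 : ℕ) : ℂ) ≠ 0 := Nat.cast_ne_zero.2 (by omega)
    have h2 : (((∑ i, a i) + (∑ i, b i) : ℕ) : ℂ) = ((m + 2 : ℕ) : ℂ) * -(l : ℂ) := by
      field_simp at hl
      linear_combination -hl
    exact_mod_cast h2
  set s := vset (m + 2) n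
  have hmem : ∀ v : Fin (m + 2) → Fin n, v ∈ s ↔ StrictAnti v ∧ (v (Fin.last (m + 1)) : ℕ) = 0 := by
    intro v
    simp only [s, Finset.mem_filter, Finset.mem_univ, true_and]
    constructor
    · exact fun h => ⟨h.1, h.2 _ (by simp)⟩
    · refine fun h => ⟨h.1, fun i hi => ?_⟩
      rw [show i = Fin.last (m + 1) from Fin.ext (by simpa using hi)]
      exact h.2
  let c : (Fin (m + 2) → Fin n) → ℕ := fun v => (v (Fin.last m).castSucc : ℕ)
  let Φ : (Fin (m + 2) → Fin n) → (Fin (m + 2) → ℕ) := fun v =>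
    Fin.cons (n - c v) fun j => (v j.castSucc : ℕ) - c v
  have hpos : ∀ v ∈ s, 0 < c v := fun v hv => by
    have h1 := ((hmem v).1 hv).1 (Fin.castSucc_lt_last (Fin.last m))
    have h2 := ((hmem v).1 hv).2
    rw [Fin.lt_def] at h1
    show 0 < (v (Fin.last m).castSucc : ℕ)
    omega
  have hle : ∀ v ∈ s, ∀ j : Fin (m + 1), c v ≤ (v j.castSucc : ℕ) := fun v hv j =>
    ((hmem v).1 hv).1.antitone (by simpa using Fin.le_last j)
  have hlt : ∀ v ∈ s, ∀ j, Φ v j < n := fun v hv j => by
    have := hpos v hv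
    refine Fin.cases ?_ (fun j => ?_) j
    · have := (v (Fin.last m).castSucc).isLt
      simp only [Φ, Fin.cons_zero]
      omega
    · have := (v j.castSucc).isLt
      simp only [Φ, Fin.cons_succ]
      omega
  let Ψ : ∀ v ∈ s, Fin (m + 2) → Fin n := fun v hv j => ⟨Φ v j, hlt v hv j⟩
  have hΨ : ∀ v hv, Ψ v hv ∈ s := fun v hv => by
    refine (hmem _).2 ⟨?_, ?_⟩
    · rw [Fin.strictAnti_iff_succ_lt]
      intro i
      rw [Fin.lt_def]
      refine Fin.cases ?_ (fun i => ?_) i
      · have := hle v hv 0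
        have := (v (0 : Fin (m + 1)).castSucc).isLt
        simp only [Ψ, Φ, Fin.castSucc_zero, Fin.cons_zero, Fin.cons_succ] at *
        omega
      · have := hle v hv i.succ
        have h := ((hmem v).1 hv).1 (Fin.castSucc_lt_castSucc_iff.2 (Fin.castSucc_lt_succ (i := i)))
        rw [Fin.lt_def] at h
        simp only [Ψ, Φ, ← Fin.succ_castSucc, Fin.cons_succ] at *
        omega
    · simp only [Ψ, Φ, ← Fin.succ_last, Fin.cons_succ]
      simp [c]
  have hinj : ∀ v (hv : v ∈ s) w (hw : w ∈ s), Ψ v hv = Ψ w hw → v = w := by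
    intro v hv w hw h
    have hc : c v = c w := by
      have h0 := congrArg Fin.val (congrFun h 0)
      simp only [Ψ, Φ, Fin.cons_zero] at h0
      have h1 : c v < n := (v (Fin.last m).castSucc).isLt
      have h2 : c w < n := (w (Fin.last m).castSucc).isLt
      omega
    ext i
    refine Fin.lastCases ?_ (fun j => ?_) i
    · rw [((hmem v).1 hv).2, ((hmem w).1 hw).2]
    · have := congrArg Fin.val (congrFun h j.succ)
      simp only [Ψ, Φ, Fin.cons_succ] at this
      have := hle v hv j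
      have := hle w hw j
      omega
  have hF : ∀ v (hv : v ∈ s), alt n a b (fun j => (Ψ v hv j : ℕ)) = μ * alt n a b (fun j => (v j : ℕ)) := by
    intro v hv
    have hn : n ≠ 0 := by have := (v 0).isLt; omega
    have h1 : (fun j => ((Ψ v hv j : ℕ) : ℂ)) =
        (fun j => Function.update (fun j => ((v j : ℕ) : ℂ)) (Fin.last (m + 1))
          (((v (Fin.last (m + 1)) : ℕ) : ℂ) + n) j - (c v : ℂ)) ∘ (finRotate (m + 2)).symm := by
      ext j
      refine Fin.cases ?_ (fun j => ?_) j
      · have h : (finRotate (m + 2)).symm 0 = Fin.last (m + 1) := by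
          rw [Equiv.symm_apply_eq, finRotate_last]
        simp only [Function.comp_apply, h, Function.update_self, ((hmem v).1 hv).2, Ψ, Φ,
          Fin.cons_zero]
        rw [Nat.cast_sub (show c v ≤ n from (v (Fin.last m).castSucc).isLt.le)]
        simp
      · have h : (finRotate (m + 2)).symm j.succ = j.castSucc := by
          rw [Equiv.symm_apply_eq]
          simp
        simp only [Function.comp_apply, h, Function.update_of_ne (Fin.castSucc_lt_last j).ne, Ψ, Φ,
          Fin.cons_succ]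
        rw [Nat.cast_sub (hle v hv j)]
    rw [h1, alt_comp, alt_shift (by omega), alt_add_period hn]
  have hsum : ∑ v ∈ s, alt n a b (fun j => (v j : ℕ)) =
      ∑ v ∈ s, μ * alt n a b (fun j => (v j : ℕ)) := by
    have hsurj : ∀ w ∈ s, ∃ v, ∃ hv : v ∈ s, Ψ v hv = w := fun w hw => by
      obtain ⟨v, hv, h⟩ := Finset.surj_on_of_inj_on_of_card_le Ψ hΨ
        (fun v w hv hw h => hinj v hv w hw h) le_rfl w hw
      exact ⟨v, hv, h.symm⟩
    exact (Finset.sum_bij Ψ hΨ hinj hsurj fun v hv => (hF v hv).symm).symm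
  rw [← Finset.mul_sum] at hsum
  exact mul_left_cancel₀ (sub_ne_zero.2 hμ1) (by linear_combination -hsum)

lemma sum_eq_zero_of_dvd {r n q : ℕ} (hr : 0 < r) (hn : 0 < n) (a b : Fin r → ℕ)
    (ha : StrictAnti a) (hb : StrictAnti b) (han : ∀ i, a i < n) (hbn : ∀ i, b i < n)
    (hq : (∑ i, a i) + (∑ i, b i) = q * r) (hne : ¬ ∀ i, a i + b (Fin.rev i) = q) :
    ∑ v ∈ vset r n, alt n a b (fun j => (v j : ℕ)) = 0 := by
  have : NeZero n := ⟨hn.ne'⟩
  let l : Fin r := ⟨r - 1, by omega⟩
  let t : Fin r → Finset (Fin n) := fun j => if j = l then {0} else Finset.univ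
  let w : ℤ → ℂ := fun d => Complex.exp (2 * Real.pi * I * d / n)
  have hexp : ∀ f : Fin r → Fin n, alt n a b (fun j => (f j : ℕ)) =
      ∑ σ : Equiv.Perm (Fin r), ∑ τ : Equiv.Perm (Fin r),
        ((Equiv.Perm.sign σ : ℂ) * (Equiv.Perm.sign τ : ℂ)) *
          ∏ j, w (((a (σ j) + b (τ j) : ℕ) : ℤ) - q) ^ (f j : ℕ) := by
    intro f
    have hph : Complex.exp (-(2 * Real.pi * I * ((∑ i, a i) + (∑ i, b i) : ℕ) *
        (∑ j, ((f j : ℕ) : ℂ)) / (r * n))) =
        ∏ j, Complex.exp (-(2 * Real.pi * I * (q : ℂ) * (f j : ℕ) / n)) := by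
      rw [hq, ← Complex.exp_sum]
      congr 1
      have h0 : (r : ℂ) ≠ 0 := Nat.cast_ne_zero.2 hr.ne'
      simp only [Finset.sum_neg_distrib, ← Finset.sum_div, ← Finset.mul_sum, neg_inj]
      push_cast
      field_simp
    unfold alt
    rw [hph, mul_assoc, Matrix.det_apply', Matrix.det_apply', Finset.sum_mul_sum]
    simp only [Finset.mul_sum]
    refine Finset.sum_congr rfl fun σ _ => Finset.sum_congr rfl fun τ _ => ?_
    simp only [Matrix.of_apply]
    rw [show ∀ P e e' x y : ℂ, P * (e * x * (e' * y)) = e * e' * (x * y * P) from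
      fun _ _ _ _ _ => by ring, ← Finset.prod_mul_distrib, ← Finset.prod_mul_distrib]
    congr 1
    refine Finset.prod_congr rfl fun j _ => ?_
    rw [← Complex.exp_add, ← Complex.exp_add, ← Complex.exp_nat_mul]
    congr 1
    push_cast
    ring
  have htot : ∑ f ∈ Fintype.piFinset t, alt n a b (fun j => (f j : ℕ)) = 0 := by
    simp only [hexp]
    rw [Finset.sum_comm]
    refine Finset.sum_eq_zero fun σ _ => ?_
    rw [Finset.sum_comm]
    refine Finset.sum_eq_zero fun τ _ => ?_
    rw [← Finset.mul_sum, ← Finset.prod_univ_sum t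
      (fun j x => w (((a (σ j) + b (τ j) : ℕ) : ℤ) - q) ^ (x : ℕ))]
    apply mul_eq_zero_of_right
    by_contra hp
    rw [Finset.prod_eq_zero_iff] at hp
    push Not at hp
    have hd : ∀ j, j ≠ l → (n : ℤ) ∣ ((a (σ j) + b (τ j) : ℕ) : ℤ) - q := by
      intro j hj
      by_contra hnd
      apply hp j (Finset.mem_univ j)
      simp only [t, if_neg hj]
      rw [Fin.sum_univ_eq_sum_range (fun x => w (((a (σ j) + b (τ j) : ℕ) : ℤ) - q) ^ x) n]
      have h1 : w (((a (σ j) + b (τ j) : ℕ) : ℤ) - q) ≠ 1 := by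
        intro h
        obtain ⟨k, hk⟩ := Complex.exp_eq_one_iff.1 h
        apply hnd
        refine ⟨k, ?_⟩
        have h0 : (n : ℂ) ≠ 0 := Nat.cast_ne_zero.2 hn.ne'
        have h2 : (((((a (σ j) + b (τ j) : ℕ) : ℤ) - q : ℤ)) : ℂ) = (n : ℂ) * (k : ℂ) := by
          field_simp at hk
          linear_combination hk
        exact_mod_cast h2
      rw [geom_sum_eq h1, ← Complex.exp_nat_mul, Complex.exp_eq_one_iff.2
        ⟨((a (σ j) + b (τ j) : ℕ) : ℤ) - q, by
          have h0 : (n : ℂ) ≠ 0 := Nat.cast_ne_zero.2 hn.ne'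
          field_simp⟩]
      simp
    have hz : ∑ j, (((a (σ j) + b (τ j) : ℕ) : ℤ) - q) = 0 := by
      rw [Finset.sum_sub_distrib, ← Nat.cast_sum, Finset.sum_add_distrib, Equiv.sum_comp σ a,
        Equiv.sum_comp τ b, hq]
      simp [mul_comm]
    have hl : (n : ℤ) ∣ ((a (σ l) + b (τ l) : ℕ) : ℤ) - q := by
      rw [← Finset.add_sum_erase _ _ (Finset.mem_univ l)] at hz
      rw [eq_neg_of_add_eq_zero_left hz]
      exact (Finset.dvd_sum fun j hj => hd j (Finset.ne_of_mem_erase hj)).neg_right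
    apply hne
    refine rev_of_congr a b ha hb han hbn (σ.symm.trans τ) (fun i => ?_) hq
    by_cases h : σ.symm i = l
    · simpa [← h] using hl
    · simpa using hd _ h
  let P : Finset (Equiv.Perm (Fin r)) := Finset.univ.filter (fun π => π l = l)
  let T := (Fintype.piFinset t).filter (fun f => Function.Injective f)
  have hT : ∑ f ∈ T, alt n a b (fun j => (f j : ℕ)) = 0 := by
    rw [Finset.sum_filter_of_ne, htot]
    intro f _ hf
    by_contra hni
    simp only [Function.Injective] at hni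
    push Not at hni
    obtain ⟨i, j, hij, hne'⟩ := hni
    apply hf
    unfold alt
    rw [Matrix.det_zero_of_column_eq hne' (fun k => by simp [hij])]
    simp
  have hbij : ∑ p ∈ P ×ˢ vset r n, alt n a b (fun j => (p.2 j : ℕ)) =
      ∑ f ∈ T, alt n a b (fun j => (f j : ℕ)) := by
    refine Finset.sum_bij (fun p _ => p.2 ∘ p.1) ?_ ?_ ?_ ?_
    · rintro ⟨π, v⟩ hp
      simp only [P, Finset.mem_product, Finset.mem_filter, Finset.mem_univ, true_and] at hp
      simp only [T, Finset.mem_filter, Fintype.mem_piFinset]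
      refine ⟨fun j => ?_, hp.2.1.injective.comp π.injective⟩
      by_cases hj : j = l
      · subst hj
        simp only [t, if_pos rfl, Finset.mem_singleton, Function.comp_apply, hp.1]
        exact Fin.ext (hp.2.2 l rfl)
      · simp [t, if_neg hj]
    · rintro ⟨π, v⟩ hp ⟨π', v'⟩ hp' h
      simp only [P, Finset.mem_product, Finset.mem_filter, Finset.mem_univ, true_and] at hp hp'
      have hr' : Set.range v = Set.range v' := by
        have h' := congrArg Set.range h
        simpa [Set.range_comp, π.surjective.range_eq, π'.surjective.range_eq] using h'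
      have hv : v = v' := by
        have h2 : StrictMono (v ∘ Fin.rev) := hp.2.1.comp Fin.rev_strictAnti
        have h2' : StrictMono (v' ∘ Fin.rev) := hp'.2.1.comp Fin.rev_strictAnti
        have h3 := (StrictMono.range_inj h2 h2').1 (by
          rw [Fin.rev_surjective.range_comp, Fin.rev_surjective.range_comp, hr'])
        ext i
        simpa using congrArg Fin.val (congrFun h3 (Fin.rev i))
      subst hv
      have : π = π' := Equiv.ext fun i => hp.2.1.injective (congrFun h i)
      rw [this]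
    · intro f hf
      simp only [T, Finset.mem_filter, Fintype.mem_piFinset] at hf
      let π : Equiv.Perm (Fin r) := Fin.revPerm.trans (Tuple.sort f)
      have hm : StrictMono (f ∘ Tuple.sort f) :=
        (Tuple.monotone_sort f).strictMono_of_injective (hf.2.comp (Tuple.sort f).injective)
      have hv : StrictAnti (f ∘ π) := hm.comp_strictAnti Fin.rev_strictAnti
      have hfl : f l = 0 := by simpa [t] using hf.1 l
      have hπ : π l = l := by
        apply hf.2
        rw [hfl]
        apply le_antisymm _ (Fin.zero_le _)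
        rw [← hfl]
        have := hv.antitone (show π.symm l ≤ l by
          rw [Fin.le_def]; have := (π.symm l).isLt; show _ ≤ r - 1; omega)
        simpa using this
      refine ⟨(π.symm, f ∘ π), ?_, ?_⟩
      · simp only [P, Finset.mem_product, Finset.mem_filter, Finset.mem_univ, true_and]
        refine ⟨by rw [Equiv.symm_apply_eq, hπ], hv, fun i hi => ?_⟩
        rw [show i = l from Fin.ext hi]
        simp [hπ, hfl]
      · ext i; simp
    · rintro ⟨π, v⟩ _
      exact (alt_comp a b (fun j => ((v j : ℕ) : ℂ)) π).symm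
  rw [hT, Finset.sum_product] at hbij
  simp only [Finset.sum_const, nsmul_eq_mul] at hbij
  refine (mul_eq_zero.1 hbij).resolve_left (Nat.cast_ne_zero.2 ?_)
  exact (Finset.card_pos.2 ⟨1, by simp [P]⟩).ne'

lemma det_rev_sq {r : ℕ} (x : Fin r → ℂ) :
    (Matrix.of fun i j : Fin r => x j ^ (r - 1 - (i : ℕ))).det ^ 2 =
      ∏ i : Fin r, ∏ j ∈ Finset.Ioi i, (x j - x i) ^ 2 := by
  have h : (Matrix.of fun i j : Fin r => x j ^ (r - 1 - (i : ℕ))) =
      ((Matrix.vandermonde x).transpose).submatrix Fin.revPerm id := by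
    ext i j
    simp [Matrix.vandermonde_apply, Fin.val_rev]
    congr 1
    omega
  rw [h, Matrix.det_permute, Matrix.det_transpose, Matrix.det_vandermonde, mul_pow]
  simp only [Finset.prod_pow]
  rcases Int.units_eq_one_or (Equiv.Perm.sign (Fin.revPerm : Equiv.Perm (Fin r))) with h | h <;>
    simp [h]

lemma prod_pairs {r : ℕ} (x : Fin r → ℂ) :
    ∏ i : Fin r, ∏ j ∈ Finset.Ioi i, x i * x j = (∏ i, x i) ^ (r - 1) := by
  simp only [Finset.prod_mul_distrib]
  have h2 : ∏ i : Fin r, ∏ j ∈ Finset.Ioi i, x j = ∏ j : Fin r, ∏ i ∈ Finset.Iio j, x j :=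
    Finset.prod_comm' (by simp)
  rw [h2, ← Finset.prod_mul_distrib, ← Finset.prod_pow]
  refine Finset.prod_congr rfl fun i _ => ?_
  rw [Finset.prod_const, Finset.prod_const, ← pow_add, Fin.card_Ioi, Fin.card_Iio]
  congr 1
  have := i.isLt
  omega

lemma four_sin_sq (x y N : ℂ) :
    (2 * Complex.sin (Real.pi * (x - y) / N)) ^ 2 *
        (Complex.exp (2 * Real.pi * I * x / N) * Complex.exp (2 * Real.pi * I * y / N)) =
      (-1) * (Complex.exp (2 * Real.pi * I * y / N) - Complex.exp (2 * Real.pi * I * x / N)) ^ 2 := by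
  rw [show (Real.pi : ℂ) * (x - y) / N = Real.pi * x / N - Real.pi * y / N by ring,
    show 2 * Real.pi * I * x / N = Real.pi * x / N * I + Real.pi * x / N * I by ring,
    show 2 * Real.pi * I * y / N = Real.pi * y / N * I + Real.pi * y / N * I by ring]
  generalize (Real.pi : ℂ) * x / N = A
  generalize (Real.pi : ℂ) * y / N = B
  have hA := Complex.exp_ne_zero (A * I)
  have hB := Complex.exp_ne_zero (B * I)
  simp only [Complex.sin, neg_mul, sub_mul, neg_sub, Complex.exp_add, Complex.exp_sub]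
  field_simp
  rw [mul_comm I A]
  linear_combination
    ((Complex.exp (B * I)) ^ 2 - (Complex.exp (A * I)) ^ 2) ^ 2 * Complex.I_sq

/-- Fix integers r ≥ 2 and k ≥ 1, and two partitions λ, λ' with k ≥ λ_1 ≥ ⋯ ≥ λ_{r-1} ≥ λ_r = 0 and k ≥
λ'_1 ≥ ⋯ ≥ λ'_{r-1} ≥ λ'_r = 0 such that λ is not equivalent to the dual partition λ'* = (k − λ'_r,
…, k − λ'_1), two integer vectors being equivalent when their difference is a constant vector (a, …,
a). For an integer vector v with r + k > v_1 > ⋯ > v_{r-1} > v_r = 0 put z(v)_j = exp(2πi v_j / (r +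
k)), let S_μ(v) = det(z(v)_j^{μ_i + r − i}) / det(z(v)_j^{r − i}) be the Schur value and P(v) =
∏_{i<j} (2 sin(π (v_i − v_j)/(r + k)))². Then the sum over all such v of exp(−2πi (|λ| + |λ'|) (v_1
+ ⋯ + v_r) / (r (r + k))) · S_λ(v) · S_{λ'}(v) · P(v) vanishes; that is, the genus-zero Verlinde
number of rank r, degree 0 and level k with two parabolic points of types λ, λ' is zero. (Only the
vanishing case is stated; the complementary case, where the number equals 1, is not part of this
statement. The source allows r = 1, where the non-equivalence hypothesis cannot hold.) Indices are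
0-based below: lam i stands for λ_{i+1}. -/
theorem result (r k : ℕ) (hr : 2 ≤ r)
    (hk : 1 ≤ k) (lam lam' : Fin r → ℕ) (hlam : Antitone lam) (hlamk : ∀ i, lam i ≤ k)
    (hlam0 : ∀ i : Fin r, (i : ℕ) = r - 1 → lam i = 0)
    (hlam' : Antitone lam') (hlam'k : ∀ i, lam' i ≤ k) (hlam'0 : ∀ i : Fin r, (i : ℕ) = r - 1 → lam' i = 0)
    (hne : ¬ ∃ a : ℤ, ∀ i, (lam i : ℤ) - ((k - lam' (Fin.rev i) : ℕ) : ℤ) = a)
    (z : (Fin r → ℕ) → Fin r → ℂ)
    (hz : ∀ v j, z v j = Complex.exp (2 * Real.pi * Complex.I * (v j : ℂ) / ((r : ℂ) + k)))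
    (S : (Fin r → ℕ) → (Fin r → ℕ) → ℂ)
    (hS : ∀ μ v, S μ v = (Matrix.of fun i j : Fin r => z v j ^ (μ i + (r - 1 - (i : ℕ)))).det /
        (Matrix.of fun i j : Fin r => z v j ^ (r - 1 - (i : ℕ))).det)
    (P : (Fin r → ℕ) → ℝ)
    (hP : ∀ v, P v = ∏ p ∈ (Finset.univ : Finset (Fin r × Fin r)).filter (fun p => p.1 < p.2),
        ((2 : ℝ) * Real.sin (Real.pi * ((v p.1 : ℝ) - (v p.2 : ℝ)) / ((r : ℝ) + k))) ^ 2) :
    (∑ v ∈ (Finset.univ : Finset (Fin r → Fin (r + k))).filter
        (fun v : Fin r → Fin (r + k) => StrictAnti v ∧ ∀ i : Fin r, (i : ℕ) = r - 1 → (v i : ℕ) = 0),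
      Complex.exp (-(2 * Real.pi * Complex.I * (((∑ i, lam i) + (∑ i, lam' i) : ℕ) : ℂ) *
          ((∑ j, (v j : ℕ) : ℕ) : ℂ) / ((r : ℂ) * ((r : ℂ) + k)))) *
        S lam (fun j => (v j : ℕ)) * S lam' (fun j => (v j : ℕ)) * (P (fun j => (v j : ℕ)) : ℂ)) = 0 := by
  have hn : 0 < r + k := by omega
  set n := r + k with hndef
  have hnc : (n : ℂ) = (r : ℂ) + k := by rw [hndef]; push_cast; rfl
  have hnr : (n : ℝ) = (r : ℝ) + k := by rw [hndef]; push_cast; rfl
  let a : Fin r → ℕ := fun i => lam i + (r - 1 - (i : ℕ))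
  let b : Fin r → ℕ := fun i => lam' i + (r - 1 - (i : ℕ))
  have hanti : ∀ l : Fin r → ℕ, Antitone l →
      StrictAnti (fun i : Fin r => l i + (r - 1 - (i : ℕ))) := by
    intro l hl i j hij
    have := hl hij.le
    have := j.isLt
    rw [Fin.lt_def] at hij
    show l j + (r - 1 - (j : ℕ)) < l i + (r - 1 - (i : ℕ))
    omega
  have han : ∀ i, a i < n := fun i => by have := hlamk i; have := i.isLt; simp only [a]; omega
  have hbn : ∀ i, b i < n := fun i => by have := hlam'k i; have := i.isLt; simp only [b]; omega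
  have hM : (∑ i, a i) + (∑ i, b i) = (∑ i, lam i) + (∑ i, lam' i) + r * (r - 1) := by
    have hg : (∑ i : Fin r, (r - 1 - (i : ℕ))) * 2 = r * (r - 1) := by
      rw [← Equiv.sum_comp Fin.revPerm]
      have : ∀ i : Fin r, r - 1 - ((Fin.revPerm i : Fin r) : ℕ) = (i : ℕ) := fun i => by
        have := i.isLt
        simp [Fin.val_rev]
        omega
      simp only [this]
      rw [Fin.sum_univ_eq_sum_range (fun i => i), Finset.sum_range_id_mul_two]
    simp only [a, b, Finset.sum_add_distrib]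
    omega
  set C : ℂ := ∏ i : Fin r, ∏ _j ∈ Finset.Ioi i, (-1 : ℂ) with hC
  suffices hkey : ∀ v ∈ vset r n,
      Complex.exp (-(2 * Real.pi * Complex.I * (((∑ i, lam i) + (∑ i, lam' i) : ℕ) : ℂ) *
          ((∑ j, (v j : ℕ) : ℕ) : ℂ) / ((r : ℂ) * ((r : ℂ) + k)))) *
        S lam (fun j => (v j : ℕ)) * S lam' (fun j => (v j : ℕ)) * (P (fun j => (v j : ℕ)) : ℂ) =
      C * alt n a b (fun j => (v j : ℕ)) by
    refine (Finset.sum_congr rfl hkey).trans ?_
    rw [← Finset.mul_sum]
    apply mul_eq_zero_of_right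
    by_cases hdvd : r ∣ (∑ i, a i) + (∑ i, b i)
    · obtain ⟨q, hq⟩ := hdvd
      refine sum_eq_zero_of_dvd (q := q) (by omega) hn a b (hanti lam hlam) (hanti lam' hlam') han hbn
        (by rw [hq, mul_comm]) fun hall => hne ⟨(q : ℤ) - (r - 1 : ℕ) - k, fun i => ?_⟩
      have := hall i
      have := i.isLt
      have := hlam'k (Fin.rev i)
      simp only [a, b, Fin.val_rev] at *
      omega
    · obtain ⟨m, rfl⟩ : ∃ m, r = m + 2 := ⟨r - 2, by omega⟩
      exact sum_eq_zero_of_not_dvd a b hdvd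
  intro v hv
  simp only [Finset.mem_filter, Finset.mem_univ, true_and] at hv
  let x : Fin r → ℂ := fun j => Complex.exp (2 * Real.pi * I * ((v j : ℕ) : ℂ) / n)
  have hx : z (fun j => (v j : ℕ)) = x := funext fun j => by
    rw [hz]; simp only [x, hnc]
  have hxinj : Function.Injective x := fun i j hij => by
    apply hv.1.injective
    have hp := Complex.isPrimitiveRoot_exp n hn.ne'
    have e : ∀ i, x i = Complex.exp (2 * Real.pi * I / n) ^ (v i : ℕ) := fun i => by
      rw [← Complex.exp_nat_mul]; simp only [x]; congr 1; ring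
    rw [e, e] at hij
    exact Fin.ext (hp.pow_inj (v i).isLt (v j).isLt hij)
  set V := (Matrix.of fun i j : Fin r => x j ^ (r - 1 - (i : ℕ))).det
  have hV : V ^ 2 = ∏ i : Fin r, ∏ j ∈ Finset.Ioi i, (x j - x i) ^ 2 := det_rev_sq x
  have hV0 : V ≠ 0 := fun h => by
    rw [h, zero_pow two_ne_zero] at hV
    exact (Finset.prod_ne_zero_iff.2 fun i _ => Finset.prod_ne_zero_iff.2 fun j hj =>
      pow_ne_zero 2 (sub_ne_zero.2 fun e => (Finset.mem_Ioi.1 hj).ne (hxinj e).symm)) hV.symm
  have hPv : (P (fun j => (v j : ℕ)) : ℂ) * (∏ i, x i) ^ (r - 1) = C * V ^ 2 := by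
    have hp : ∀ g : Fin r × Fin r → ℂ,
        ∏ p ∈ (Finset.univ : Finset (Fin r × Fin r)).filter (fun p => p.1 < p.2), g p =
          ∏ i : Fin r, ∏ j ∈ Finset.Ioi i, g (i, j) := fun g => Finset.prod_finset_product' _ _ _
            (fun p => by simp) (f := fun i j => g (i, j))
    rw [hP, Complex.ofReal_prod, hp, ← prod_pairs, hV, hC]
    simp only [← Finset.prod_mul_distrib]
    refine Finset.prod_congr rfl fun i _ => Finset.prod_congr rfl fun j _ => ?_
    simp only [x]
    rw [← four_sin_sq, hnc]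
    push_cast
    rfl
  have hxp : (∏ i, x i) ^ (r - 1) =
      Complex.exp (2 * Real.pi * I * ((r - 1 : ℕ) : ℂ) * (∑ j, ((v j : ℕ) : ℂ)) / n) := by
    simp only [x]
    rw [← Complex.exp_sum, ← Complex.exp_nat_mul]
    congr 1
    rw [← Finset.sum_div, ← Finset.mul_sum]
    ring
  have hdet : ∀ l : Fin r → ℕ,
      (Matrix.of fun i j : Fin r => x j ^ (l i + (r - 1 - (i : ℕ)))).det =
      (Matrix.of fun i j : Fin r => Complex.exp (2 * Real.pi * I *
        ((l i + (r - 1 - (i : ℕ)) : ℕ) : ℂ) * ((v j : ℕ) : ℂ) / n)).det := fun l => by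
    congr 1
    ext i j
    simp only [Matrix.of_apply, x]
    rw [← Complex.exp_nat_mul]
    congr 1
    ring
  rw [hS, hS, hx]
  unfold alt
  rw [← hdet lam, ← hdet lam']
  set dA := (Matrix.of fun i j : Fin r => x j ^ (lam i + (r - 1 - (i : ℕ)))).det
  set dB := (Matrix.of fun i j : Fin r => x j ^ (lam' i + (r - 1 - (i : ℕ)))).det
  set E := Complex.exp (-(2 * Real.pi * Complex.I * (((∑ i, lam i) + (∑ i, lam' i) : ℕ) : ℂ) *
          ((∑ j, (v j : ℕ) : ℕ) : ℂ) / ((r : ℂ) * ((r : ℂ) + k))))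
  set F := Complex.exp (-(2 * Real.pi * I * ((∑ i, a i) + (∑ i, b i) : ℕ) *
    (∑ j, ((v j : ℕ) : ℂ)) / (r * n)))
  have hEF : F * (∏ i, x i) ^ (r - 1) = E := by
    rw [hxp, ← Complex.exp_add]
    congr 1
    rw [hM, hnc]
    have h0 : (r : ℂ) ≠ 0 := Nat.cast_ne_zero.2 (by omega)
    have h1 : (r : ℂ) + k ≠ 0 := by rw [← hnc]; exact Nat.cast_ne_zero.2 hn.ne'
    field_simp
    push_cast
    ring
  calc E * (dA / V) * (dB / V) * (P (fun j => (v j : ℕ)) : ℂ)
      = F * dA * dB * (((P (fun j => (v j : ℕ)) : ℂ) * (∏ i, x i) ^ (r - 1)) / V ^ 2) := by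
        rw [← hEF]; field_simp
    _ = C * (F * dA * dB) := by rw [hPv]; field_simp

end Groth.Agent.S19895
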