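import Groth.Statements.S19898
import Mathlib
import Groth.Agent.AltSpanLib.Basic

set_option autoImplicit false
universe u
open scoped TensorProduct
open SymTen

namespace Groth.Agent.S19898
open Matrix in
lemma law_ext {A : Type u} [CommRing A] {M N : Type u} [AddCommGroup M] [Module A M]
    [AddCommGroup N] [Module A N] (F G : M →ₚₗ[A] N)
    (h : ∀ (S : Type u) [CommRing S] [Algebra A S] (x : S ⊗[A] M), F.toFun' S x = G.toFun' S x) :
    F = G := by
  ext S _ _ x
  let e := (Algebra.TensorProduct.lid A S).symm
  have hF := congrFun (F.isCompat' e.toAlgHom) x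
  have hG := congrFun (G.isCompat' e.toAlgHom) x
  simp only [Function.comp_apply] at hF hG
  have hinj : Function.Injective (e.toAlgHom.toLinearMap.rTensor N) :=
    (e.toLinearEquiv.rTensor N).injective
  exact hinj (hF.trans ((h _ _).trans hG.symm))

section

variable {R : Type u} [CommRing R] {R' : Type u} [CommRing R'] [Algebra R R'] {d : ℕ}
  (b : Module.Basis (Fin d) R R')

/-- The determinant functional on the tensor power. -/
noncomputable def D : (⨂[R] _ : Fin d, R') →ₗ[R] R :=
  PiTensorProduct.lift b.det.toMultilinearMap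

lemma sub_D_smul_mem (x : ⨂[R] _ : Fin d, R') :
    x - D b x • PiTensorProduct.tprod R b ∈ SymTen.altSpan R R' d := by
  have key : AltSpanLib.toQuot R R' d =
      (LinearMap.toSpanSingleton R _ (AltSpanLib.toQuot R R' d b)).compAlternatingMap b.det := by
    refine Module.Basis.ext_alternating b fun v hv => ?_
    have e : (fun i => b (v i)) = (b : Fin d → R') ∘ Equiv.ofBijective v
      (Finite.injective_iff_bijective.1 hv) := rfl
    rw [e, AlternatingMap.map_perm, LinearMap.compAlternatingMap_apply,
      LinearMap.toSpanSingleton_apply, AlternatingMap.map_perm, Module.Basis.det_self]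
    simp [Units.smul_def, Int.cast_smul_eq_zsmul]
  induction x using PiTensorProduct.induction_on with
  | add x y hx hy => rw [map_add, add_smul, add_sub_add_comm]; exact add_mem hx hy
  | smul_tprod r v =>
    rw [map_smul, smul_eq_mul, mul_smul, ← smul_sub]
    refine Submodule.smul_mem _ r ((Submodule.Quotient.eq _).1 ?_)
    have := congr($key v)
    simpa [AltSpanLib.toQuot_apply, D] using this

lemma D_altSpan (x : ⨂[R] _ : Fin d, R') (hx : x ∈ SymTen.altSpan R R' d) : D b x = 0 := by
  induction hx using Submodule.span_induction with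
  | mem x hx =>
    obtain ⟨p, i, j, hij, hp, rfl⟩ := hx
    simpa [D] using b.det.map_eq_zero_of_eq p hp hij
  | zero => simp
  | add x y _ _ hx hy => rw [map_add, hx, hy, add_zero]
  | smul r x _ hx => rw [map_smul, hx, smul_zero]

lemma D_tprod_self : D b (PiTensorProduct.tprod R b) = 1 := by simp [D, Module.Basis.det_self]

/-- `z ↦ D (z · e)`. -/
noncomputable def ψ : (⨂[R] _ : Fin d, R') →ₗ[R] R :=
  (D b).comp ((SymTen.tpowAct R R' R' d).flip (PiTensorProduct.tprod R b))

lemma ψ_tprod (a : Fin d → R') :
    ψ b (PiTensorProduct.tprod R a) = (Matrix.of fun k j => b.repr (a j * b j) k).det := by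
  simp [ψ, D, AltSpanLib.tpowAct_tprod, Module.Basis.det_apply]
  rfl

variable [Module.Free R R'] [Module.Finite R R']

lemma mult_ψ (a x : ⨂[R] _ : Fin d, R') (ha : a ∈ SymTen.TS R R' d) :
    D b (SymTen.tpowAct R R' R' d a x) = ψ b a * D b x := by
  have := D_altSpan b _ (AltSpanLib.tpowAct_mem_altSpan a ha _ (sub_D_smul_mem b x))
  rw [map_sub, map_sub, map_smul, map_smul, sub_eq_zero, smul_eq_mul] at this
  rw [this, mul_comm]
  rfl

lemma ψ_comp_tpowLaw (hd : Module.finrank R R' = d) :
    PolLaw.postcomp (ψ b) (SymTen.tpowLaw R R' d).law = (PolLaw.normLaw R R' d hd).law := by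
  refine law_ext _ _ fun S _ _ x => ?_
  show (ψ b).lTensor S ((SymTen.tpowLaw R R' d).law.toFun' S x) = _
  rw [PolLaw.normLaw_apply]
  apply (TensorProduct.rid R S).injective
  rw [TensorProduct.rid_tmul, one_smul]
  let bS := Algebra.TensorProduct.basis S b
  set s : Fin d → S := fun i => bS.repr x i
  have hx : x = ∑ i, s i ⊗ₜ[R] b i := by
    conv_lhs => rw [← bS.sum_repr x]
    refine Finset.sum_congr rfl fun i _ => ?_
    simp [bS, s, TensorProduct.smul_tmul']
  have hlhs : (SymTen.tpowLaw R R' d).law.toFun' S x =
      ∑ f : Fin d → Fin d, (∏ j, s (f j)) ⊗ₜ[R] PiTensorProduct.tprod R (fun j => b (f j)) := by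
    rw [SymTen.tpowLaw, PolLaw.MulLaw.prodMap_toFun', hx]
    simp only [map_sum, Algebra.TensorProduct.map_tmul, AlgHom.id_apply, Finset.prod_univ_sum,
      Fintype.piFinset_univ]
    refine Finset.sum_congr rfl fun f _ => ?_
    have key : ∀ (t : Finset (Fin d)) (g : Fin d → ⨂[R] _ : Fin d, R'),
        ∏ j ∈ t, (s (f j)) ⊗ₜ[R] g j = (∏ j ∈ t, s (f j)) ⊗ₜ[R] ∏ j ∈ t, g j := by
      intro t g
      induction t using Finset.induction_on with
      | empty => simp [Algebra.TensorProduct.one_def]
      | insert j t hj ih => simp [Finset.prod_insert hj, ih, Algebra.TensorProduct.tmul_mul_tmul]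
    rw [key]
    congr 1
    simp only [PiTensorProduct.singleAlgHom_apply, MonoidHom.mulSingle_apply]
    rw [← PiTensorProduct.tprod_prod]
    exact congrArg _ (Finset.univ_prod_mulSingle (fun j => b (f j)))
  have hM : ∀ k j, Algebra.leftMulMatrix bS x k j =
      ∑ i, s i * algebraMap R S (b.repr (b i * b j) k) := by
    intro k j
    rw [Algebra.leftMulMatrix_eq_repr_mul, hx, Finset.sum_mul, map_sum, Finsupp.coe_finsetSum,
      Finset.sum_apply]
    refine Finset.sum_congr rfl fun i _ => ?_
    simp [bS, Algebra.TensorProduct.basis_repr_tmul]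
  rw [Algebra.norm_eq_matrix_det bS, hlhs, Matrix.det_apply']
  simp only [hM, map_sum, LinearMap.lTensor_tmul, TensorProduct.rid_tmul, Finset.prod_univ_sum,
    Fintype.piFinset_univ, Finset.mul_sum, ψ_tprod, Matrix.det_apply', Finset.sum_smul]
  rw [Finset.sum_comm]
  refine Finset.sum_congr rfl fun σ _ => Finset.sum_congr rfl fun f _ => ?_
  simp only [Finset.prod_mul_distrib, Algebra.smul_def, map_mul, map_prod, map_intCast,
    Matrix.of_apply]
  ring

include b in
theorem main (hd : Module.finrank R R' = d) {C : Type u} [CommRing C] [Algebra R C]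
    (γ : PolLaw.MulLaw R R' C d) (hγ : PolLaw.IsGammaD γ) (φ : C →ₐ[R] (⨂[R] _ : Fin d, R'))
    (hφ : PolLaw.MulLaw.postcomp φ γ = SymTen.tpowLaw R R' d) (π : C →ₐ[R] R)
    (hπ : PolLaw.MulLaw.postcomp π γ = PolLaw.normLaw R R' d hd) (c : C)
    (x : ⨂[R] _ : Fin d, R') :
    SymTen.tpowAct R R' R' d (φ c) x - π c • x ∈ SymTen.altSpan R R' d := by
  have hTS : ∀ c, φ c ∈ SymTen.TS R R' d := by
    intro c σ
    rw [← SymTen.perm_apply]
    have hlaw : PolLaw.MulLaw.postcomp ((SymTen.perm R R' d σ).comp φ) γ =
        SymTen.tpowLaw R R' d := by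
      apply PolLaw.MulLaw.ext
      refine law_ext _ _ fun S _ _ z => ?_
      show ((SymTen.perm R R' d σ).comp φ).toLinearMap.lTensor S (γ.law.toFun' S z) = _
      rw [AlgHom.comp_toLinearMap, LinearMap.lTensor_comp_apply]
      have h := congrArg (fun F : PolLaw.MulLaw R R' _ d => F.law.toFun' S z) hφ
      rw [show φ.toLinearMap.lTensor S (γ.law.toFun' S z) =
        (SymTen.tpowLaw R R' d).law.toFun' S z from h, SymTen.tpowLaw,
        PolLaw.MulLaw.prodMap_toFun', PolLaw.lTensor_algHom_apply, map_prod]
      refine Fintype.prod_equiv σ _ _ fun j => ?_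
      clear h
      induction z using TensorProduct.induction_on with
      | zero => simp
      | add u v hu hv => simp only [map_add, hu, hv]
      | tmul u v =>
        simp only [Algebra.TensorProduct.map_tmul, AlgHom.id_apply,
          PiTensorProduct.singleAlgHom_apply, MonoidHom.mulSingle_apply, SymTen.perm_tprod]
        congr 2
        funext i
        simp [Pi.mulSingle_apply, Equiv.symm_apply_eq]
    have := (hγ _ (SymTen.tpowLaw R R' d)).unique
      (congrArg PolLaw.MulLaw.law hlaw) (congrArg PolLaw.MulLaw.law hφ)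
    exact DFunLike.congr_fun this c
  let f : C →ₐ[R] R := AlgHom.ofLinearMap ((ψ b).comp φ.toLinearMap)
    (by simp [ψ, AltSpanLib.tpowAct_one, D_tprod_self])
    (fun c c' => by
      simp only [LinearMap.comp_apply, AlgHom.toLinearMap_apply, map_mul]
      calc ψ b (φ c * φ c')
          = D b (SymTen.tpowAct R R' R' d (φ c)
              (SymTen.tpowAct R R' R' d (φ c') (PiTensorProduct.tprod R b))) := by
            simp [ψ, AltSpanLib.tpowAct_mul]
        _ = ψ b (φ c) * ψ b (φ c') := mult_ψ b _ _ (hTS c))
  have hf : f = π := by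
    refine (hγ _ (PolLaw.normLaw R R' d hd)).unique ?_ (congrArg PolLaw.MulLaw.law hπ)
    refine law_ext _ _ fun S _ _ z => ?_
    show ((ψ b).comp φ.toLinearMap).lTensor S (γ.law.toFun' S z) = _
    rw [LinearMap.lTensor_comp_apply, ← ψ_comp_tpowLaw b hd]
    exact congrArg (fun w => (ψ b).lTensor S w)
      (congrArg (fun F : PolLaw.MulLaw R R' _ d => F.law.toFun' S z) hφ)
  have hfc : ψ b (φ c) = π c := DFunLike.congr_fun hf c
  have h1 := sub_D_smul_mem b (SymTen.tpowAct R R' R' d (φ c) x)
  have h2 := sub_D_smul_mem b x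
  rw [mult_ψ b _ x (hTS c), hfc] at h1
  have h3 := sub_mem h1 (Submodule.smul_mem _ (π c) h2)
  rwa [smul_sub, smul_smul, sub_sub_sub_cancel_right] at h3

end


/-- Let R be a commutative ring and R' a commutative R-algebra that is free of rank d as an R-module.
Let (C, γ) be the degree-d divided power algebra of R' over R, given as an R-algebra C with a
multiplicative homogeneous degree-d polynomial law γ : R' → C that is universal among such laws; let
φ : C → T^d_R(R') be the R-algebra homomorphism into the d-fold tensor power whose composite with γ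
is the law x ↦ x ⊗ ⋯ ⊗ x, and π : C → R the R-algebra homomorphism whose composite with γ is the
norm law of R' over R. Let T^d_R(R') act on itself factor by factor and let I_d ⊂ T^d_R(R') be the
R-span of the pure tensors with two equal factors, so that T^d_R(R')/I_d is the top exterior power
Λ^d_R(R'), free of rank one. Then for every c ∈ C and every x ∈ T^d_R(R') the element φ(c)·x − π(c)
x lies in I_d: the symmetric tensor φ(c) acts on Λ^d_R(R') as multiplication by the scalar π(c),
i.e. the homomorphism TS^d_R(R') → R given by the action on the top exterior power, composed with φ,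
equals π. (The source states this for R' finite locally free of constant rank d; the free case is
the affine-local form.) -/
theorem result (R : Type u) [CommRing R] (R' : Type u) [CommRing R']
    [Algebra R R'] [Module.Free R R'] [Module.Finite R R'] (d : ℕ) (hd : Module.finrank R R' = d)
    {C : Type u} [CommRing C] [Algebra R C] (γ : PolLaw.MulLaw R R' C d) (hγ : PolLaw.IsGammaD γ)
    (φ : C →ₐ[R] (⨂[R] _ : Fin d, R')) (hφ : PolLaw.MulLaw.postcomp φ γ = SymTen.tpowLaw R R' d)
    (π : C →ₐ[R] R) (hπ : PolLaw.MulLaw.postcomp π γ = PolLaw.normLaw R R' d hd)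
    (c : C) (x : ⨂[R] _ : Fin d, R') :
    SymTen.tpowAct R R' R' d (φ c) x - π c • x ∈ SymTen.altSpan R R' d := by
  rcases subsingleton_or_nontrivial R with hR | hR
  · have : Subsingleton (⨂[R] _ : Fin d, R') := Module.subsingleton R _
    rw [Subsingleton.elim (SymTen.tpowAct R R' R' d (φ c) x - π c • x) 0]
    exact zero_mem _
  let b : Module.Basis (Fin d) R R' := Module.finBasisOfFinrankEq R R' hd
  exact main b hd γ hγ φ hφ π hπ c x

end Groth.Agent.S19898
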