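import Groth.Statements.S19899
import Groth.Agent.SeminormLib.Main
import Groth.Agent.AlgSpLib.ReducedSmooth

set_option autoImplicit false
universe u
open CategoryTheory CategoryTheory.Limits AlgebraicGeometry
open Curves

namespace Groth.Agent.S19899


set_option maxHeartbeats 800000

open TopologicalSpace SeminormLib in
/-- Morphisms constant on the fibres of `ν` factor through it. -/
theorem exists_factor {k : Type u} [Field k] [IsAlgClosed k] {C C' : Scheme.{u}} [C.Over (Spec (CommRingCat.of k))]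
    [IsProper (C ↘ Spec (CommRingCat.of k))] [IsReduced C] [ConnectedSpace C] [IsReduced C']
    (ν : C' ⟶ C) [IsFinite ν] [Surjective ν] (U : C.Opens) [IsIso (ν ∣_ U)]
    (hd : topologicalKrullDim C ≤ 1) (hU : Dense (U : Set C)) (hgen : Curv2.genus k C = 0)
    (g : C' ⟶ C) (hg : g ≫ (C ↘ Spec (CommRingCat.of k)) = ν ≫ (C ↘ Spec (CommRingCat.of k)))
    (hfib : ∀ a b : C', ν a = ν b → g a = g b) : ∃ φ : C ⟶ C, ν ≫ φ = g := by
  classical
  let fC := C ↘ Spec (CommRingCat.of k)
  have : IsNoetherian C := CurvLib.isNoetherian k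
  have hgp : IsProper g := by
    have : IsProper (g ≫ fC) := by rw [hg]; infer_instance
    exact IsProper.of_comp g fC
  have : C.IsSeparated := by
    constructor
    rw [show terminal.from C = fC ≫ terminal.from _ from terminal.hom_ext _ _]
    infer_instance
  have key : ∀ x : C, ∃ (W : C.Opens) (_ : x ∈ W) (m : (W : Scheme.{u}) ⟶ C),
      (ν ∣_ W) ≫ m = (ν ⁻¹ᵁ W).ι ≫ g := by
    intro x
    obtain ⟨p, rfl⟩ := ν.surjective x
    obtain ⟨_, ⟨V, hV, rfl⟩, hpV, -⟩ := C.isBasis_affineOpens.exists_subset_of_mem_open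
      (Set.mem_univ (g p)) isOpen_univ
    have hcl : IsClosed (ν '' ((g ⁻¹ᵁ V : C'.Opens) : Set C')ᶜ) :=
      ν.isClosedMap _ (g ⁻¹ᵁ V).2.isClosed_compl
    obtain ⟨_, ⟨W, hW, rfl⟩, hpW, hWV⟩ := C.isBasis_affineOpens.exists_subset_of_mem_open
      (show ν p ∈ (ν '' ((g ⁻¹ᵁ V : C'.Opens) : Set C')ᶜ)ᶜ from fun ⟨q, hq, hqe⟩ =>
        hq (show g q ∈ V from hfib q p hqe ▸ hpV)) hcl.isOpen_compl
    have hle : ν ⁻¹ᵁ W ≤ g ⁻¹ᵁ V := fun q hq => by
      by_contra h
      exact hWV hq ⟨q, h, rfl⟩
    have hex : ∀ s : Γ(C, V), ∃ r : Γ(C, W), ν.app W r = g.appLE V (ν ⁻¹ᵁ W) hle s := by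
      intro s
      refine exists_app_eq ν U hd hU hgen W _ fun x hxW hxU => ?_
      obtain ⟨q, rfl⟩ := ν.surjective x
      have hxc := isClosed_of_notMem hd U hU hxU
      have hcl' : IsClosed ({g q} : Set C) := by
        have h1 : IsClosed (g '' (ν ⁻¹' {ν q})) := g.isClosedMap _ (hxc.preimage ν.continuous)
        have e : g '' (ν ⁻¹' {ν q}) = {g q} := by
          refine subset_antisymm ?_ (Set.singleton_subset_iff.2 ⟨q, rfl, rfl⟩)
          rintro _ ⟨r, hr, rfl⟩
          exact hfib r q hr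
        rwa [e] at h1
      obtain ⟨c, hc⟩ := exists_cst fC s (g q) (hle (show q ∈ ν ⁻¹ᵁ W from hxW)) hcl'
      refine ⟨c, fun r hr hrq => ?_⟩
      have hgr := hfib r q hrq
      have h2 : V0 (s - cst fC V c) (g r) (hle hr) := by
        have : ∀ (y : C) (hy : y ∈ V), y = g q → V0 (s - cst fC V c) y hy := by
          rintro _ _ rfl
          exact hc
        exact this _ _ hgr
      rw [← V0_appLE g hle _ r hr, map_sub, appLE_cst fC (ν ≫ fC) g hg] at h2
      exact h2
    choose ρ hρ using hex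
    have hinj := app_injective ν W
    let ρh : Γ(C, V) →+* Γ(C, W) :=
      { toFun := ρ
        map_one' := hinj (by simp [hρ])
        map_mul' := fun a b => hinj (by simp [hρ])
        map_zero' := hinj (by simp [hρ])
        map_add' := fun a b => hinj (by simp [hρ]) }
    have hρ' : CommRingCat.ofHom ρh ≫ ν.appLE W (ν ⁻¹ᵁ W) le_rfl = g.appLE V (ν ⁻¹ᵁ W) hle := by
      rw [← Scheme.Hom.app_eq_appLE]
      ext s
      exact hρ s
    have hW' : IsAffineOpen (ν ⁻¹ᵁ W) := hW.preimage ν
    refine ⟨W, hpW, hW.isoSpec.hom ≫ Spec.map (CommRingCat.ofHom ρh) ≫ hV.fromSpec, ?_⟩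
    have h1 : (ν ∣_ W) ≫ hW.isoSpec.hom = hW'.isoSpec.hom ≫ Spec.map (ν.appLE W (ν ⁻¹ᵁ W) le_rfl) := by
      rw [← cancel_mono hW.fromSpec, Category.assoc, Category.assoc,
        IsAffineOpen.SpecMap_appLE_fromSpec ν hW hW', hW.isoSpec_hom_fromSpec,
        hW'.isoSpec_hom_fromSpec_assoc, morphismRestrict_ι]
    rw [reassoc_of% h1, ← Spec.map_comp_assoc, hρ', IsAffineOpen.SpecMap_appLE_fromSpec g hV hW',
      hW'.isoSpec_hom_fromSpec_assoc]
  choose W hxW m hm using key
  have hmb : ∀ (x : C) {T : Scheme.{u}} (a : T ⟶ (W x : Scheme.{u})) (b : T ⟶ C'),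
      a ≫ (W x).ι = b ≫ ν → a ≫ m x = b ≫ g := by
    intro x T a b h
    have hr : Set.range b ⊆ Set.range (ν ⁻¹ᵁ W x).ι := by
      rintro _ ⟨t, rfl⟩
      rw [Scheme.Opens.range_ι]
      change ν (b t) ∈ W x
      rw [← Scheme.Hom.comp_apply, ← h, Scheme.Hom.comp_apply]
      exact (a t).2
    have hl : IsOpenImmersion.lift (ν ⁻¹ᵁ W x).ι b hr ≫ (ν ∣_ W x) = a := by
      rw [← cancel_mono (W x).ι, Category.assoc, morphismRestrict_ι, IsOpenImmersion.lift_fac_assoc, h]
    rw [← hl, Category.assoc, hm, IsOpenImmersion.lift_fac_assoc]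
  let 𝒰 : C.OpenCover := C.openCoverOfIsOpenCover W
    (IsOpenCover.mk (top_le_iff.1 fun x _ => Opens.mem_iSup.2 ⟨x, hxW x⟩))
  have hcompat : ∀ i j : C, pullback.fst (W i).ι (W j).ι ≫ m i = pullback.snd (W i).ι (W j).ι ≫ m j := by
    intro i j
    let P := pullback (W i).ι (W j).ι
    have : IsReduced P := isReduced_of_isOpenImmersion (pullback.fst (W i).ι (W j).ι ≫ (W i).ι)
    let q : pullback (pullback.fst (W i).ι (W j).ι ≫ (W i).ι) ν ⟶ P := pullback.fst _ _
    have : Surjective q := MorphismProperty.pullback_fst (P := @Surjective) _ _ ‹Surjective ν›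
    refine ext_of_isDominant q ?_
    rw [← Category.assoc, ← Category.assoc]
    rw [hmb i _ (pullback.snd _ _) ((Category.assoc _ _ _).trans pullback.condition),
      hmb j _ (pullback.snd _ _) ((Category.assoc _ _ _).trans ((congrArg (q ≫ ·) pullback.condition.symm).trans pullback.condition))]
  refine ⟨𝒰.glueMorphisms m hcompat, ?_⟩
  refine Scheme.Cover.hom_ext (𝒰.pullback₁ ν) _ _ fun x => ?_
  change pullback.fst ν (W x).ι ≫ ν ≫ _ = pullback.fst ν (W x).ι ≫ g
  rw [← Category.assoc, pullback.condition, Category.assoc]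
  exact (congrArg (pullback.snd ν (W x).ι ≫ ·) (𝒰.ι_glueMorphisms m hcompat x)).trans
    (hmb x _ _ pullback.condition.symm)

/-- Let k be an algebraically closed field and C a reduced, connected scheme proper over k of dimension
one with H¹(C, O_C) = 0 (a curve of arithmetic genus zero), and let ν : C' → C be its normalization,
given as a finite morphism over k from a smooth k-scheme C' that restricts to an isomorphism over a
dense open subset U of C whose preimage is dense in C'. Let ψ be an automorphism of C' over k fixing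
every point of C' that lies over a singular point of C (a point whose local ring is not regular).
Then ψ descends to C: there is a unique endomorphism φ of C with ν ∘ ψ = φ ∘ ν, and φ is an
automorphism. (The source states the resulting group isomorphism between the automorphisms of the
pointed curve C fixing each irreducible component and each singular point and the automorphisms of
C' fixing each component and each point above a marked or singular point; the descent statement here
is its non-trivial half and needs neither the marked points nor the condition on components.) -/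
theorem result
    (k : Type u) [Field k] [IsAlgClosed k] (C : Scheme.{u}) [C.Over (Spec (CommRingCat.of k))]
    [IsProper (C ↘ Spec (CommRingCat.of k))] [IsReduced C] [ConnectedSpace ↥C]
    (hdim : topologicalKrullDim ↥C = 1) (hgen : Curv2.genus k C = 0)
    (C' : Scheme.{u}) [C'.Over (Spec (CommRingCat.of k))] [Smooth (C' ↘ Spec (CommRingCat.of k))]
    (ν : C' ⟶ C) [IsFinite ν] (hν : ν ≫ (C ↘ Spec (CommRingCat.of k)) = C' ↘ Spec (CommRingCat.of k))
    (U : C.Opens) (hU : Dense (U : Set ↥C)) (hU' : Dense ((ν ⁻¹ᵁ U : C'.Opens) : Set ↥C'))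
    [IsIso (ν ∣_ U)]
    (ψ : C' ≅ C') (hψ : ψ.hom ≫ (C' ↘ Spec (CommRingCat.of k)) = C' ↘ Spec (CommRingCat.of k))
    (hfix : ∀ x : ↥C', ¬ IsRegularLocalRing (C.presheaf.stalk (ν.base x)) → ψ.hom.base x = x) :
    ∃! φ : C ⟶ C, ν ≫ φ = ψ.hom ≫ ν ∧ IsIso φ := by
  classical
  have : IsReduced C' := AlgSpLib.isReduced_of_smooth (C' ↘ Spec (CommRingCat.of k))
  have : IsNoetherian C := CurvLib.isNoetherian k
  have : C.IsSeparated := by
    constructor
    rw [show terminal.from C = (C ↘ Spec (CommRingCat.of k)) ≫ terminal.from _ from terminal.hom_ext _ _]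
    infer_instance
  have : IsLocallyNoetherian C' := LocallyOfFiniteType.isLocallyNoetherian ν
  have : CompactSpace C' := QuasiCompact.compactSpace_of_compactSpace ν
  have : IsNoetherian C' := {}
  have : Surjective ν := by
    refine ⟨fun x => ?_⟩
    have hcl := ν.isClosedMap.isClosed_range
    have hsub : (U : Set C) ⊆ Set.range ν := fun y hy => by
      obtain ⟨a, ha⟩ := (ν ∣_ U).surjective ⟨y, hy⟩
      exact ⟨a.1, by simpa [morphismRestrict_base] using congrArg Subtype.val ha⟩
    exact (hcl.closure_subset_iff.2 hsub) (hU x)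
  have hd : topologicalKrullDim C ≤ 1 := hdim.le
  have hfib : ∀ (e : C' ≅ C'), (∀ x : C', ¬ IsRegularLocalRing (C.presheaf.stalk (ν x)) → e.hom x = x) →
      ∀ a b : C', ν a = ν b → (e.hom ≫ ν) a = (e.hom ≫ ν) b := by
    intro e he a b hab
    by_cases hr : IsRegularLocalRing (C.presheaf.stalk (ν a))
    · rw [SeminormLib.eq_of_isRegular (k := k) ν U hd hU hgen hU' (ν a) hr a b rfl hab.symm]
    · rw [Scheme.Hom.comp_apply, Scheme.Hom.comp_apply, he a hr, he b (hab ▸ hr), hab]
  have hfix' : ∀ x : C', ¬ IsRegularLocalRing (C.presheaf.stalk (ν x)) → ψ.symm.hom x = x := fun x hx => by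
    have h := congrArg ψ.inv (hfix x hx)
    rw [← Scheme.Hom.comp_apply, ψ.hom_inv_id] at h
    exact h.symm
  have hψ' : ψ.inv ≫ (C' ↘ Spec (CommRingCat.of k)) = C' ↘ Spec (CommRingCat.of k) := by
    rw [Iso.inv_comp_eq, hψ]
  obtain ⟨φ, hφ⟩ := exists_factor ν U hd hU hgen (ψ.hom ≫ ν) (by rw [Category.assoc, hν, hψ])
    (hfib ψ hfix)
  obtain ⟨φ', hφ'⟩ := exists_factor ν U hd hU hgen (ψ.inv ≫ ν) (by rw [Category.assoc, hν, hψ'])
    (hfib ψ.symm hfix')
  have hiso : IsIso φ := by
    refine ⟨φ', ext_of_isDominant ν ?_, ext_of_isDominant ν ?_⟩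
    · rw [reassoc_of% hφ, hφ', ψ.hom_inv_id_assoc, Category.comp_id]
    · rw [reassoc_of% hφ', hφ, ψ.inv_hom_id_assoc, Category.comp_id]
  exact ⟨φ, ⟨hφ, hiso⟩, fun φ₁ h₁ => ext_of_isDominant ν (h₁.1.trans hφ.symm)⟩

end Groth.Agent.S19899
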