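import Groth.Statements.S19904
import Mathlib.CategoryTheory.Limits.Types.Pullbacks
import Mathlib.CategoryTheory.Limits.Shapes.Pullback.IsPullback.BicartesianSq
import Mathlib.CategoryTheory.Limits.FunctorCategory.Basic
-- import your own Groth.Agent.* helpers here

set_option autoImplicit false
universe u v
open CategoryTheory
open ArtFun

namespace Groth.Agent.S19904

/-- For functors F, G, G' on Artinian local Λ-algebras with residue field k and morphisms φ : F → G, ψ :
G' → G: if φ is smooth then the base change F ×_G G' → G' (second projection of the fibre product of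
functors) is smooth. -/
theorem result {Λ : Type u} {k : Type u} [CommRing Λ] [Field k] [Algebra Λ k]
    [IsNoetherianRing Λ] [Module.Finite Λ k]
    {F G G' : ArtFun.Art Λ k ⥤ Type v} (φ : F ⟶ G) (ψ : G' ⟶ G) (hφ : ArtFun.IsSmooth φ) :
    ArtFun.IsSmooth (Limits.pullback.snd φ ψ) := by
  intro B A μ hμ y
  obtain ⟨⟨a, c⟩, hy⟩ := y
  have hA := (IsPullback.of_hasPullback φ ψ).map ((evaluation _ _).obj A)
  have hB := (IsPullback.of_hasPullback φ ψ).map ((evaluation _ _).obj B)
  have hc : φ.app A ((Limits.pullback.fst φ ψ).app A a) = G.map μ (ψ.app B c) := by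
    rw [show φ.app A ((Limits.pullback.fst φ ψ).app A a) = ψ.app A ((Limits.pullback.snd φ ψ).app A a) from
      ConcreteCategory.congr_hom hA.w a, hy]
    exact NatTrans.naturality_apply ψ μ c
  obtain ⟨z, hz⟩ := hφ μ hμ ⟨((Limits.pullback.fst φ ψ).app A a, ψ.app B c), hc⟩
  have hz1 : F.map μ z = (Limits.pullback.fst φ ψ).app A a := congrArg (fun t => t.1.1) hz
  have hz2 : φ.app B z = ψ.app B c := congrArg (fun t => t.1.2) hz
  obtain ⟨w, hw1, hw2⟩ := Limits.Types.exists_of_isPullback hB z c hz2
  refine ⟨w, Subtype.ext (Prod.ext ?_ hw2)⟩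
  show (Limits.pullback φ ψ).map μ w = a
  refine Limits.Types.ext_of_isPullback hA ?_ ?_
  · exact ((NatTrans.naturality_apply (Limits.pullback.fst φ ψ) μ w).trans
      (congrArg _ hw1)).trans hz1
  · exact ((NatTrans.naturality_apply (Limits.pullback.snd φ ψ) μ w).trans
      (congrArg _ hw2)).trans hy.symm

end Groth.Agent.S19904
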