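import Groth.Statements.S19911
import Groth.Agent.StrictSSLib.NodeBranch

set_option backward.isDefEq.respectTransparency false
set_option backward.isDefEq.respectTransparency.types false

set_option autoImplicit false
universe u
open CategoryTheory CategoryTheory.Limits AlgebraicGeometry
open Models

namespace Groth.Agent.S19911

/-- Let R be a discrete valuation ring with fraction field K, X and Y smooth proper curves over K with
H^0(X, O_X) = K = H^0(Y, O_Y) and dim_K H^1(Y, O_Y) ≥ 2, and f : X -> Y a finite K-morphism. Let XR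
and YR be stable models of X and Y over R: proper over Spec R with structure morphisms that are
at-worst-nodal families of curves, such that no geometric fibre has an irreducible component which
is (the image of a closed immersion of) a projective line carrying at most two non-smooth points of
the fibre, and with generic fibres identified with X and Y through iX and iY. Let φ : XR -> YR be an
R-morphism extending f. If y is a point of the special fibre of YR which is a singular point of that
fibre (the structure morphism of YR is not smooth at y) and the set φ⁻¹(y) is finite, then φ⁻¹(y) is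
contained in the singular locus of the special fibre of XR (the structure morphism of XR is smooth
at no point of φ⁻¹(y)). -/
theorem result
    (R : Type u) [CommRing R] [IsDomain R] [IsDiscreteValuationRing R]
    (X Y : Scheme.{u}) (fX : X ⟶ Spec (CommRingCat.of (FractionRing R))) (fY : Y ⟶ Spec (CommRingCat.of (FractionRing R)))
    (hX : Curve.IsSmoothProperCurve (FractionRing R) X fX) (hX0 : IsIso fX.appTop)
    (hY : Curve.IsSmoothProperCurve (FractionRing R) Y fY) (hY0 : IsIso fY.appTop)
    (hg : 2 ≤ Models.curveGenus (FractionRing R) Y fY)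
    (f : X ⟶ Y) [IsFinite f] (hf : f ≫ fY = fX)
    (XR : Scheme.{u}) (p : XR ⟶ Spec (CommRingCat.of R)) [IsProper p] (hp : Curv2.IsNodalFamily p)
    (hps : SSMod.NoExcComp (𝟙 (Spec (CommRingCat.of R))) (Scheme.emptyTo XR) p)
    (iX : X ⟶ XR) (hiX : IsPullback iX fX p (Spec.map (CommRingCat.ofHom (algebraMap R (FractionRing R)))))
    (YR : Scheme.{u}) (q : YR ⟶ Spec (CommRingCat.of R)) [IsProper q] (hq : Curv2.IsNodalFamily q)
    (hqs : SSMod.NoExcComp (𝟙 (Spec (CommRingCat.of R))) (Scheme.emptyTo YR) q)
    (iY : Y ⟶ YR) (hiY : IsPullback iY fY q (Spec.map (CommRingCat.ofHom (algebraMap R (FractionRing R)))))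
    (φ : XR ⟶ YR) (hφ : φ ≫ q = p) (hφf : iX ≫ φ = f ≫ iY)
    (y : YR) (hys : q.base y = IsLocalRing.closedPoint R) (hy : y ∈ DualGr.nonsmoothPts q)
    (hfin : (φ.base ⁻¹' ({y} : Set YR)).Finite) :
    φ.base ⁻¹' ({y} : Set YR) ⊆ DualGr.nonsmoothPts p := by
  haveI := hp.2.1
  haveI := hq.2.1
  haveI : Smooth fY := hY.2.1
  let g : Spec (CommRingCat.of (FractionRing R)) ⟶ Spec (CommRingCat.of R) :=
    Spec.map (CommRingCat.ofHom (algebraMap R (FractionRing R)))
  intro x hx hns
  refine StrictSSLib.not_smooth p q hp hq ?_ φ hφ y hys hy hfin x hx hns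
  intro z ϖ hϖ hz
  haveI : IsLocalization.Away ϖ (FractionRing R) := IsLocalization.Away.mk ϖ
    ((IsUnit.mk0 _ (by simpa using hϖ.ne_zero)))
    (fun z => by
      obtain ⟨⟨a, s⟩, hz⟩ := IsLocalization.surj (nonZeroDivisors R) z
      obtain ⟨m, w, hw⟩ := IsDiscreteValuationRing.eq_unit_mul_pow_irreducible (nonZeroDivisors.coe_ne_zero s) hϖ
      refine ⟨m, a * ↑w⁻¹, ?_⟩
      rw [map_mul, ← hz, mul_assoc, ← map_mul, hw, mul_right_comm, Units.mul_inv, one_mul, map_pow])
    (fun a b h => ⟨0, by simpa using IsFractionRing.injective R (FractionRing R) h⟩)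
  haveI : IsOpenImmersion g := IsOpenImmersion.of_isLocalization ϖ
  haveI : IsOpenImmersion iY := MorphismProperty.of_isPullback hiY.flip ‹IsOpenImmersion g›
  obtain ⟨w, rfl⟩ : z ∈ Set.range iY := by
    rw [← hiY.isoPullback_hom_fst, Scheme.Hom.comp_base, TopCat.coe_comp,
      (hiY.isoPullback.hom.surjective).range_comp, Scheme.Pullback.range_fst]
    show q z ∈ Set.range (PrimeSpectrum.comap (algebraMap R (FractionRing R)))
    rw [PrimeSpectrum.localization_away_comap_range (FractionRing R) ϖ]
    exact hz
  refine ⟨?_, fun U γ hγ v hv => ?_⟩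
  · haveI := Groth.Agent.S7791.isDomain_stalk_of_smooth (FractionRing R) Y fY w
    exact MulEquiv.isDomain _ (asIso (iY.stalkMap w)).commRingCatIsoToRingEquiv.toMulEquiv
  · haveI := hγ
    haveI : Etale (pullback.snd γ iY) := MorphismProperty.pullback_snd _ _ hγ
    obtain ⟨t, ht, -⟩ := Scheme.Pullback.exists_preimage_pullback (f := γ) (g := iY) v w hv
    haveI := Groth.Agent.S7791.isDomain_stalk_of_smooth (FractionRing R) _ (pullback.snd γ iY ≫ fY) t
    haveI : IsDomain (U.presheaf.stalk (pullback.fst γ iY t)) :=
      MulEquiv.isDomain _ (asIso ((pullback.fst γ iY).stalkMap t)).commRingCatIsoToRingEquiv.toMulEquiv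
    rwa [← ht]


end Groth.Agent.S19911
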