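import Groth.Statements.S19912
import Groth.Agent.CommAlgDim.Regular

set_option backward.isDefEq.respectTransparency false
set_option backward.isDefEq.respectTransparency.types false

set_option autoImplicit false
universe u
open CategoryTheory CategoryTheory.Limits AlgebraicGeometry
open Models

namespace Groth.Agent.S19912

/-- Let R be a discrete valuation ring with fraction field K and YR a scheme over Spec R. Let V be a
discrete valuation ring which is an R-algebra in such a way that the maximal ideal of R generates
the maximal ideal of V (ramification index one), and let σ : Spec V -> YR be a morphism over Spec R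
sending the closed point of Spec V to y. If the local ring of YR at y is regular, then the local
ring at y of the special fibre of YR, namely O_{YR,y}/𝔪_R O_{YR,y}, is regular. (The published
statement takes YR a normal projective flat model of a smooth projective geometrically connected
curve Y over K and phrases the hypothesis through a point Q of Y rational over an extension L of K
unramified over K with y in the closure of Q: by the valuative criterion such a point yields a
morphism as above from the spectrum of the localization of the integral closure of R in L at a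
maximal ideal over y, which is the form used here.) -/
theorem result
    (R : Type u) [CommRing R] [IsDomain R] [IsDiscreteValuationRing R]
    (YR : Over (Spec (CommRingCat.of R)))
    (V : Type u) [CommRing V] [IsDomain V] [IsDiscreteValuationRing V] [Algebra R V]
    (hV : Ideal.map (algebraMap R V) (IsLocalRing.maximalIdeal R) = IsLocalRing.maximalIdeal V)
    (σ : Spec (CommRingCat.of V) ⟶ YR.left)
    (hσ : σ ≫ YR.hom = Spec.map (CommRingCat.ofHom (algebraMap R V)))
    (y : YR.left) (hy : σ.base (IsLocalRing.closedPoint V) = y)
    (hreg : IsRegularLocalRing (YR.left.presheaf.stalk y)) :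
    IsRegularLocalRing (YR.left.presheaf.stalk y ⧸
      Ideal.map (Models.stalkHom R YR y) (IsLocalRing.maximalIdeal R)) := by
  subst hy
  obtain ⟨ϖ, hϖ⟩ := IsDiscreteValuationRing.exists_irreducible R
  let O := YR.left.presheaf.stalk (σ.base (IsLocalRing.closedPoint V))
  let θ : O ⟶ CommRingCat.of V := Scheme.stalkClosedPointTo σ
  have hθ : θ.hom.comp (Models.stalkHom R YR (σ.base (IsLocalRing.closedPoint V))) = algebraMap R V := by
    have h1 : Spec.map (CommRingCat.ofHom (Models.stalkHom R YR (σ.base (IsLocalRing.closedPoint V)))) =
        YR.left.fromSpecStalk (σ.base (IsLocalRing.closedPoint V)) ≫ YR.hom := by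
      simp [Models.stalkHom, Coh.toGlobal, CommRingCat.ofHom_comp, Spec.map_comp]
      rw [← Scheme.fromSpecStalk_toSpecΓ_assoc, ← Scheme.toSpecΓ_naturality_assoc]
      simp
    have h2 : CommRingCat.ofHom (Models.stalkHom R YR (σ.base (IsLocalRing.closedPoint V))) ≫ θ =
        CommRingCat.ofHom (algebraMap R V) := by
      apply Spec.map_injective
      rw [Spec.map_comp, h1, ← Category.assoc, Scheme.Spec_stalkClosedPointTo_fromSpecStalk, hσ]
    exact congrArg CommRingCat.Hom.hom h2
  haveI : IsLocalHom θ.hom := inferInstanceAs (IsLocalHom (Scheme.stalkClosedPointTo σ).hom)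
  have hθm : (IsLocalRing.maximalIdeal O).map θ.hom ≤ IsLocalRing.maximalIdeal V :=
    Ideal.map_le_iff_le_comap.2 fun z hz => map_nonunit θ.hom z hz
  have hx : θ.hom (Models.stalkHom R YR _ ϖ) = algebraMap R V ϖ := RingHom.congr_fun hθ ϖ
  have hV' : IsLocalRing.maximalIdeal V = Ideal.span {algebraMap R V ϖ} := by
    rw [← hV, hϖ.maximalIdeal_eq, Ideal.map_span, Set.image_singleton]
  haveI := hreg
  rw [hϖ.maximalIdeal_eq, Ideal.map_span, Set.image_singleton]
  refine CommAlgDim.isRegularLocalRing_quotient_singleton ?_ fun h2 => ?_
  · by_contra hu
    have h := (IsLocalRing.notMem_maximalIdeal.1 hu).map θ.hom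
    rw [hx] at h
    exact (IsLocalRing.mem_maximalIdeal _).1 (hV'.ge (Ideal.mem_span_singleton_self _)) h
  · have h3 : algebraMap R V ϖ ∈ IsLocalRing.maximalIdeal V ^ 2 := by
      rw [← hx]
      refine Ideal.pow_right_mono hθm 2 ?_
      rw [← Ideal.map_pow]
      exact Ideal.mem_map_of_mem _ h2
    have hne : IsLocalRing.maximalIdeal V ≠ ⊥ := IsDiscreteValuationRing.not_a_field V
    refine hne (le_bot_iff.1 ?_)
    have hle : IsLocalRing.maximalIdeal V ≤ IsLocalRing.maximalIdeal V ^ 2 :=
      hV'.le.trans ((Ideal.span_singleton_le_iff_mem _).2 h3)
    exact (Submodule.eq_bot_of_le_smul_of_le_jacobson_bot (IsLocalRing.maximalIdeal V) _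
      (IsNoetherian.noetherian _) (hle.trans_eq (by rw [sq, smul_eq_mul]))
      (IsLocalRing.jacobson_eq_maximalIdeal _ bot_ne_top).ge).le


end Groth.Agent.S19912
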