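import Groth.Statements.S1999
import Groth.Prelude
import Mathlib

set_option autoImplicit false
universe u
open scoped Pointwise
open Polynomial

namespace Groth.Agent.S1999.Aux

variable {A B : Type*} [CommRing A] [CommRing B] [Algebra A B]
  {G : Type*} [Group G] [MulSemiringAction G B] (m : Ideal B)

theorem smul_mem_pow {σ : G} (hσ : σ ∈ MulAction.stabilizer G m) {n : ℕ} {x : B}
    (hx : x ∈ m ^ n) : σ • x ∈ m ^ n := by
  have h : σ • m ^ n = m ^ n := by rw [smul_pow', MulAction.mem_stabilizer_iff.1 hσ]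
  rw [← h]; exact Ideal.smul_mem_pointwise_smul σ x _ hx

theorem mem_inertia_iff {σ : G} {J : Ideal B} : σ ∈ J.inertia G ↔ ∀ x, σ • x - x ∈ J := Iff.rfl

theorem inertia_sq_le : (m ^ 2).inertia G ≤ m.inertia G :=
  fun _ hσ x ↦ Ideal.pow_le_self two_ne_zero (hσ x)

/-- Wild elements move `m ^ j` only into `m ^ (j+1)`. -/
theorem sub_mem_succ {σ : G} (hs : σ ∈ MulAction.stabilizer G m)
    (h2 : σ ∈ (m ^ 2).inertia G) : ∀ (j : ℕ), ∀ x ∈ m ^ j, σ • x - x ∈ m ^ (j + 1) := by
  intro j
  induction j with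
  | zero => intro x _; simpa using Ideal.pow_le_self two_ne_zero (h2 x)
  | succ j ih =>
    intro x hx
    rw [pow_succ] at hx
    refine Submodule.mul_induction_on hx (fun y hy z hz ↦ ?_) (fun y z hy hz ↦ ?_)
    · have h1 : (σ • y - y) * (σ • z) ∈ m ^ (j + 1 + 1) := by
        rw [pow_succ]; exact Ideal.mul_mem_mul (ih y hy)
          (by simpa using smul_mem_pow m hs (n := 1) (by simpa using hz))
      have h3 : y * (σ • z - z) ∈ m ^ (j + 1 + 1) := by
        rw [show j + 1 + 1 = j + 2 from rfl, pow_add]; exact Ideal.mul_mem_mul hy (h2 z)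
      convert (m ^ (j + 1 + 1)).add_mem h1 h3 using 1
      rw [smul_mul']; ring
    · convert (m ^ (j + 1 + 1)).add_mem hy hz using 1
      rw [smul_add]; ring

theorem eq_one_of_natCast_notMem [IsDomain B] [IsNoetherianRing B] [FaithfulSMul G B] [m.IsMaximal]
    {σ : G} (hs : σ ∈ MulAction.stabilizer G m) (h2 : σ ∈ (m ^ 2).inertia G) {n : ℕ}
    (hn : (n : B) ∉ m) (hσn : σ ^ n = 1) : σ = 1 := by
  suffices h : ∀ j b, σ • b - b ∈ m ^ j by
    refine eq_of_smul_eq_smul (α := B) fun b ↦ ?_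
    have : σ • b - b ∈ ⨅ j, m ^ j := Submodule.mem_iInf _ |>.2 (fun j ↦ h j b)
    rw [Ideal.iInf_pow_eq_bot_of_isDomain m (Ideal.IsMaximal.ne_top ‹_›)] at this
    rw [one_smul, ← sub_eq_zero]; exact this
  intro j
  induction j with
  | zero => intro b; simp
  | succ j ih =>
    intro b
    set d := σ • b - b with hd
    have key : ∀ k : ℕ, σ ^ k • b - b - (k : B) * d ∈ m ^ (j + 1) := by
      intro k
      induction k with
      | zero => simp
      | succ k ihk =>
        have e1 : σ • ((k : B) * d) - (k : B) * d ∈ m ^ (j + 1) :=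
          sub_mem_succ m hs h2 j _ (Ideal.mul_mem_left _ _ (ih b))
        have e2 : σ • (σ ^ k • b - b - (k : B) * d) ∈ m ^ (j + 1) := smul_mem_pow m hs ihk
        convert (m ^ (j + 1)).add_mem e1 e2 using 1
        rw [pow_succ', mul_smul, smul_sub, smul_sub, Nat.cast_succ, hd]; ring
    have hnd : (n : B) * d ∈ m ^ (j + 1) := by
      have := key n
      rw [hσn, one_smul, sub_self, zero_sub, neg_mem_iff] at this
      exact this
    have htop : Ideal.span {(n : B)} ⊔ m ^ (j + 1) = ⊤ := Ideal.sup_pow_eq_top (by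
      rw [sup_comm]
      exact Ideal.IsMaximal.out.2 _ (lt_of_le_of_ne le_sup_left fun h ↦ hn <| h ▸
        Ideal.mem_sup_right (Ideal.mem_span_singleton_self _)))
    obtain ⟨x, hx, e, he, hxe⟩ := Submodule.mem_sup.1 ((Ideal.eq_top_iff_one _).1 htop)
    obtain ⟨a, rfl⟩ := Ideal.mem_span_singleton'.1 hx
    convert (m ^ (j + 1)).add_mem (Ideal.mul_mem_left _ a hnd) (Ideal.mul_mem_right d _ he) using 1
    linear_combination (-d) * hxe

theorem tame_kernel_le [m.IsMaximal] [SMulCommClass G A B]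
    [Algebra.IsSeparable (A ⧸ m.comap (algebraMap A B)) (B ⧸ m)]
    {π : B} (hgen : ∀ x ∈ m, ∃ c, x - c * π ∈ m ^ 2) (hπ : π ∈ m)
    {σ : G} (hσ : σ ∈ m.inertia G) (hk : σ • π - π ∈ m ^ 2) : σ ∈ (m ^ 2).inertia G := by
  have hs := Ideal.inertia_le_stabilizer m hσ
  have hm : ∀ x ∈ m, σ • x - x ∈ m ^ 2 := by
    intro x hx
    obtain ⟨c, hc⟩ := hgen x hx
    have h1 : σ • (x - c * π) ∈ m ^ 2 := smul_mem_pow m hs hc
    have h2 : (σ • c - c) * π ∈ m ^ 2 := by
      rw [sq]; exact Ideal.mul_mem_mul (hσ c) hπ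
    convert (m ^ 2).sub_mem ((m ^ 2).add_mem ((m ^ 2).add_mem h1 h2)
      (Ideal.mul_mem_left _ (σ • c) hk)) hc using 1
    rw [smul_sub, smul_mul']; ring
  intro b
  haveI : (m.comap (algebraMap A B)).IsPrime := Ideal.comap_isPrime _ _
  set p := m.comap (algebraMap A B) with hp
  obtain ⟨f, hf⟩ := Polynomial.map_surjective (Ideal.Quotient.mk p) Ideal.Quotient.mk_surjective
    (minpoly (A ⧸ p) (Ideal.Quotient.mk m b))
  have hev : ∀ g : A[X], Ideal.Quotient.mk m (aeval b g) =
      aeval (Ideal.Quotient.mk m b) (g.map (Ideal.Quotient.mk p)) := by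
    intro g
    rw [show (Ideal.Quotient.mk p) = algebraMap A (A ⧸ p) from rfl, aeval_map_algebraMap]
    exact (aeval_algHom_apply (Ideal.Quotient.mkₐ A m) b g).symm
  have h0 : aeval b f ∈ m := by
    rw [← Ideal.Quotient.eq_zero_iff_mem, hev, hf, minpoly.aeval]
  have h1 : aeval b (derivative f) ∉ m := by
    rw [← Ideal.Quotient.eq_zero_iff_mem, hev, ← derivative_map, hf]
    exact (Algebra.IsSeparable.isSeparable (A ⧸ p) (Ideal.Quotient.mk m b)).aeval_derivative_ne_zero
      (minpoly.aeval _ _)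
  have hfs : aeval (σ • b) f = σ • aeval b f :=
    aeval_algHom_apply (MulSemiringAction.toAlgHom A B σ) b f
  obtain ⟨k, hk'⟩ := binomExpansion (f.map (algebraMap A B)) b (σ • b - b)
  rw [derivative_map, eval_map_algebraMap, eval_map_algebraMap, eval_map_algebraMap,
    add_sub_cancel, hfs] at hk'
  have hmul : aeval b (derivative f) * (σ • b - b) ∈ m ^ 2 := by
    have e1 : k * (σ • b - b) ^ 2 ∈ m ^ 2 :=
      Ideal.mul_mem_left _ _ (Ideal.pow_mem_pow (hσ b) 2)
    convert (m ^ 2).sub_mem (hm _ h0) e1 using 1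
    rw [hk']; ring
  have htop : Ideal.span {aeval b (derivative f)} ⊔ m ^ 2 = ⊤ := Ideal.sup_pow_eq_top (by
    rw [sup_comm]
    exact Ideal.IsMaximal.out.2 _ (lt_of_le_of_ne le_sup_left fun h ↦ h1 <| h ▸
      Ideal.mem_sup_right (Ideal.mem_span_singleton_self _)))
  obtain ⟨x, hx, e, he, hxe⟩ := Submodule.mem_sup.1 ((Ideal.eq_top_iff_one _).1 htop)
  obtain ⟨a, rfl⟩ := Ideal.mem_span_singleton'.1 hx
  change σ • b - b ∈ m ^ 2
  convert (m ^ 2).add_mem (Ideal.mul_mem_left _ a hmul) (Ideal.mul_mem_right (σ • b - b) _ he)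
    using 1
  linear_combination (-(σ • b - b)) * hxe

theorem exists_uniformizer [IsDedekindDomain B] [m.IsMaximal] (hm : m ≠ ⊥) :
    ∃ π ∈ m, π ∉ m ^ 2 ∧ ∀ x ∈ m, ∃ c, x - c * π ∈ m ^ 2 := by
  obtain ⟨π, hπ, hπ'⟩ := Ideal.exists_mem_pow_notMem_pow_succ m hm (Ideal.IsMaximal.ne_top ‹_›) 1
  have h : Ideal.span {π} ⊔ m ^ 2 = m ^ 1 := Ideal.eq_prime_pow_of_succ_lt_of_le hm
    (lt_of_le_of_ne le_sup_right fun h ↦ hπ' <| by
      rw [show (1 : ℕ) + 1 = 2 from rfl, h]
      exact Ideal.mem_sup_left (Ideal.mem_span_singleton_self _))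
    (sup_le (by rwa [Ideal.span_singleton_le_iff_mem]) (Ideal.pow_le_pow_right one_le_two))
  rw [pow_one] at h hπ
  refine ⟨π, hπ, hπ', fun x hx ↦ ?_⟩
  rw [← h] at hx
  obtain ⟨y, hy, z, hz, rfl⟩ := Submodule.mem_sup.1 hx
  obtain ⟨c, rfl⟩ := Ideal.mem_span_singleton'.1 hy
  exact ⟨c, by simpa using hz⟩

theorem coeff_mem [m.IsMaximal] {π : B} (hπ' : π ∉ m ^ 2) {c : B} (hc : c * π ∈ m ^ 2) : c ∈ m := by
  by_contra h1
  have htop : Ideal.span {c} ⊔ m ^ 2 = ⊤ := Ideal.sup_pow_eq_top (by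
    rw [sup_comm]
    exact Ideal.IsMaximal.out.2 _ (lt_of_le_of_ne le_sup_left fun h ↦ h1 <| h ▸
      Ideal.mem_sup_right (Ideal.mem_span_singleton_self _)))
  obtain ⟨x, hx, e, he, hxe⟩ := Submodule.mem_sup.1 ((Ideal.eq_top_iff_one _).1 htop)
  obtain ⟨a, rfl⟩ := Ideal.mem_span_singleton'.1 hx
  apply hπ'
  convert (m ^ 2).add_mem (Ideal.mul_mem_left _ a hc) (Ideal.mul_mem_right π _ he) using 1
  linear_combination (-π) * hxe

theorem exists_tameHom [IsDedekindDomain B] [m.IsMaximal] (hm : m ≠ ⊥) [SMulCommClass G A B]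
    [Algebra.IsSeparable (A ⧸ m.comap (algebraMap A B)) (B ⧸ m)] :
    ∃ θ : m.inertia G →* (B ⧸ m)ˣ,
      θ.ker = (MulAction.stabilizer G m ⊓ (m ^ 2).inertia G).subgroupOf (m.inertia G) := by
  obtain ⟨π, hπ, hπ', hgen⟩ := exists_uniformizer m hm
  have hstab : ∀ σ : m.inertia G, (σ : G) ∈ MulAction.stabilizer G m :=
    fun σ ↦ Ideal.inertia_le_stabilizer m σ.2
  choose c hc using fun σ : m.inertia G ↦ hgen ((σ : G) • π)
    (by simpa using smul_mem_pow m (hstab σ) (n := 1) (by simpa using hπ))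
  have huniq : ∀ (σ : m.inertia G) (d : B), (σ : G) • π - d * π ∈ m ^ 2 →
      Ideal.Quotient.mk m (c σ) = Ideal.Quotient.mk m d := by
    intro σ d hd
    rw [Ideal.Quotient.eq]
    refine coeff_mem m hπ' ?_
    convert (m ^ 2).sub_mem hd (hc σ) using 1
    ring
  let θ0 : m.inertia G →* B ⧸ m :=
    { toFun := fun σ ↦ Ideal.Quotient.mk m (c σ)
      map_one' := by rw [huniq 1 1 (by simp), map_one]
      map_mul' := fun σ τ ↦ by
        rw [← map_mul]
        refine huniq _ _ ?_
        have h1 : (σ : G) • ((τ : G) • π - c τ * π) ∈ m ^ 2 := smul_mem_pow m (hstab σ) (hc τ)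
        have h2 : ((σ : G) • c τ) * ((σ : G) • π - c σ * π) ∈ m ^ 2 :=
          Ideal.mul_mem_left _ _ (hc σ)
        have h3 : ((σ : G) • c τ - c τ) * (c σ * π) ∈ m ^ 2 := by
          rw [sq]; exact Ideal.mul_mem_mul (σ.2 (c τ)) (Ideal.mul_mem_left _ _ hπ)
        convert (m ^ 2).add_mem ((m ^ 2).add_mem h1 h2) h3 using 1
        rw [Subgroup.coe_mul, mul_smul, smul_sub, smul_mul']; ring }
  refine ⟨θ0.toHomUnits, ?_⟩
  ext σ
  rw [MonoidHom.mem_ker, Subgroup.mem_subgroupOf, Units.ext_iff, MonoidHom.coe_toHomUnits,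
    Units.val_one]
  change Ideal.Quotient.mk m (c σ) = 1 ↔ _
  constructor
  · intro h
    rw [← map_one (Ideal.Quotient.mk m), Ideal.Quotient.eq] at h
    refine ⟨hstab σ, tame_kernel_le (A := A) m hgen hπ σ.2 ?_⟩
    have h3 : (c σ - 1) * π ∈ m ^ 2 := by rw [sq]; exact Ideal.mul_mem_mul h hπ
    convert (m ^ 2).add_mem (hc σ) h3 using 1
    ring
  · intro h
    rw [huniq σ 1 (by simpa using h.2 π), map_one]

theorem subgroup_normal :
    ((MulAction.stabilizer G m ⊓ (m ^ 2).inertia G).subgroupOf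
      (MulAction.stabilizer G m)).Normal := by
  refine ⟨fun h hh g ↦ ?_⟩
  rw [Subgroup.mem_subgroupOf] at hh ⊢
  refine ⟨(g * h * g⁻¹).2, fun x ↦ ?_⟩
  have := smul_mem_pow m g.2 (hh.2 ((g : G)⁻¹ • x))
  rw [smul_sub, smul_inv_smul] at this
  simpa [mul_smul] using this

attribute [local instance] Ideal.Quotient.field in
theorem card_inertia [IsDomain A] [IsDomain B] [Module.Finite A B] [Module.Flat A B] [Finite G]
    [IsGaloisGroup G A B] (p : Ideal A) [p.IsMaximal] [m.IsMaximal] [m.LiesOver p]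
    [Algebra.IsSeparable (A ⧸ p) (B ⧸ m)] :
    Nat.card (m.inertia G) = m.ramificationIdx A := by
  haveI : IsGalois (A ⧸ p) (B ⧸ m) := { __ := Ideal.Quotient.normal G p m }
  haveI : Module.Finite (A ⧸ p) (B ⧸ m) := Module.Finite.of_restrictScalars_finite A _ _
  have hidx : Subgroup.index _ = _ := Nat.card_congr
    (Ideal.Quotient.stabilizerQuotientInertiaEquiv G p m).toEquiv
  rw [IsGalois.card_aut_eq_finrank, ← Ideal.inertiaDeg_eq_of_isMaximal p m] at hidx
  have hst : Nat.card (MulAction.stabilizer G m) =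
      Nat.card (m.inertia G) * m.inertiaDeg A := by
    rw [← hidx, ← ((m.inertia G).subgroupOf (MulAction.stabilizer G m)).card_mul_index,
      Nat.card_congr (Subgroup.subgroupOfEquivOfLe (Ideal.inertia_le_stabilizer (M := G) m)).toEquiv,
      AddSubgroup.subgroupOf_inertia]
  have horb : (p.primesOver B).ncard * Nat.card (MulAction.stabilizer G m) = Nat.card G := by
    rw [← Algebra.IsInvariant.orbit_eq_primesOver A B G p m]
    simpa using Nat.card_congr (MulAction.orbitProdStabilizerEquivGroup G m)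
  rw [hst, ← Ideal.ncard_primesOver_mul_ramificationIdxIn_mul_inertiaDegIn p B G,
    Ideal.ramificationIdxIn_eq_ramificationIdx p m G,
    Ideal.inertiaDegIn_eq_inertiaDeg p m G] at horb
  have h1 : (p.primesOver B).ncard ≠ 0 :=
    (Set.ncard_ne_zero_of_mem (a := m) ⟨inferInstance, inferInstance⟩
      (Algebra.QuasiFinite.finite_primesOver p))
  have h2 : m.inertiaDeg A ≠ 0 := (m.inertiaDeg_pos A).ne'
  exact mul_right_cancel₀ h2 (mul_left_cancel₀ h1 horb)

end Groth.Agent.S1999.Aux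

open EtAlg

namespace Groth.Agent.S1999

/-- Parts (2)–(5) in the case of part (6): let A be a discrete valuation ring with fraction field K, L/K
a finite Galois extension with group G, B the integral closure of A in L, m a maximal ideal of B
whose residue field is separable over that of A, and e the ramification index of m over A. Let D be
the decomposition group (stabilizer of m), I the inertia group (elements acting trivially on B/m)
and P the wild inertia group, here the elements of D acting trivially on B/m² (the description valid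
in the separable residue field case). Then P ≤ I, P is normal in D, P is a p-group if the residue
characteristic is p > 0 and trivial if it is 0, and I/P is cyclic of order the prime-to-p part of e
and isomorphic to a subgroup of the e-th roots of unity of B/m — more precisely to the full group of
e-th roots of unity of B/m. -/
theorem result (A K L B : Type u) [CommRing A] [IsDomain A] [IsDiscreteValuationRing A]
    [CommRing B] [IsDomain B] [Field K] [Field L] [Algebra A K] [Algebra B L] [IsFractionRing A K] [IsFractionRing B L]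
    [Algebra A B] [Algebra K L] [Algebra A L] [IsScalarTower A K L] [IsScalarTower A B L] [IsIntegralClosure B A L]
    [FiniteDimensional K L] [IsGalois K L] (m : Ideal B) [m.IsMaximal]
    [Algebra.IsSeparable (A ⧸ m.comap (algebraMap A B)) (B ⧸ m)] :
    letI := IsIntegralClosure.MulSemiringAction A K L B
    let D : Subgroup (L ≃ₐ[K] L) := MulAction.stabilizer (L ≃ₐ[K] L) m
    let I : Subgroup (L ≃ₐ[K] L) := m.inertia (L ≃ₐ[K] L)
    let P : Subgroup (L ≃ₐ[K] L) := D ⊓ (m ^ 2).inertia (L ≃ₐ[K] L)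
    let e : ℕ := Ideal.ramificationIdx' (IsLocalRing.maximalIdeal A) m
    P ≤ I ∧ I ≤ D ∧ (P.subgroupOf D).Normal ∧
    (∀ p : ℕ, p.Prime → CharP (A ⧸ m.comap (algebraMap A B)) p → IsPGroup p P) ∧
    (CharZero (A ⧸ m.comap (algebraMap A B)) → P = ⊥) ∧
    (∀ [(P.subgroupOf I).Normal],
      IsCyclic (I ⧸ P.subgroupOf I) ∧
      (∀ p : ℕ, p.Prime → CharP (A ⧸ m.comap (algebraMap A B)) p → Nat.card (I ⧸ P.subgroupOf I) = e / p ^ e.factorization p) ∧
      (CharZero (A ⧸ m.comap (algebraMap A B)) → Nat.card (I ⧸ P.subgroupOf I) = e) ∧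
      Nonempty (I ⧸ P.subgroupOf I ≃* ↥(rootsOfUnity e (B ⧸ m)))) := by
  letI := IsIntegralClosure.MulSemiringAction A K L B
  haveI : Module.Finite A B := IsIntegralClosure.finite A K L B
  haveI : IsDedekindDomain B := IsIntegralClosure.isDedekindDomain A K L B
  haveI : Algebra.IsIntegral A B := IsIntegralClosure.isIntegral_algebra A L
  have hgal : IsGaloisGroup (L ≃ₐ[K] L) A B := IsGaloisGroup.of_isFractionRing _ A B K L
  haveI := hgal
  haveI := hgal.faithful
  have hinj : Function.Injective (algebraMap A B) := fun a b h ↦ by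
    apply IsFractionRing.injective A K
    apply (algebraMap K L).injective
    rw [← IsScalarTower.algebraMap_apply, ← IsScalarTower.algebraMap_apply,
      IsScalarTower.algebraMap_apply A B L, h, ← IsScalarTower.algebraMap_apply]
  haveI : Module.IsTorsionFree A B :=
    Module.isTorsionFree_iff_algebraMap_injective.2 hinj
  haveI : Module.Flat A B := inferInstance
  haveI hpmax : (m.comap (algebraMap A B)).IsMaximal :=
    Ideal.isMaximal_comap_of_isIntegral_of_isMaximal m
  have hcomap : m.comap (algebraMap A B) = IsLocalRing.maximalIdeal A :=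
    IsLocalRing.eq_maximalIdeal hpmax
  haveI : m.LiesOver (m.comap (algebraMap A B)) := ⟨rfl⟩
  have hmap : (IsLocalRing.maximalIdeal A).map (algebraMap A B) ≠ ⊥ := fun h ↦
    IsDiscreteValuationRing.not_a_field A ((Ideal.map_eq_bot_iff_of_injective hinj).1 h)
  have hm : m ≠ ⊥ := by
    intro h
    apply hmap
    rw [← hcomap, eq_bot_iff, ← h]
    exact Ideal.map_comap_le
  intro D I P e
  have hcard : Nat.card I = e := by
    haveI : m.LiesOver (IsLocalRing.maximalIdeal A) := ⟨hcomap.symm⟩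
    rw [show Nat.card I = m.ramificationIdx A from Aux.card_inertia m (m.comap (algebraMap A B))]
    exact (Ideal.ramificationIdx'_eq_ramificationIdx' _ _ hmap).symm
  have hPI : P ≤ I := inf_le_right.trans (Aux.inertia_sq_le m)
  have hone : ∀ σ ∈ P, ∀ n : ℕ, ((n : A ⧸ m.comap (algebraMap A B)) ≠ 0) → σ ^ n = 1 → σ = 1 := by
    intro σ hσ n hn hn'
    refine Aux.eq_one_of_natCast_notMem m hσ.1 hσ.2 (fun h ↦ hn ?_) hn'
    rw [← map_natCast (Ideal.Quotient.mk _) n, Ideal.Quotient.eq_zero_iff_mem, Ideal.mem_comap,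
      map_natCast]
    exact h
  have hpgrp : ∀ p : ℕ, p.Prime → CharP (A ⧸ m.comap (algebraMap A B)) p → IsPGroup p P := by
    intro p hp hchar g
    obtain ⟨a, n, hn, hord⟩ := Nat.exists_eq_pow_mul_and_not_dvd (orderOf_pos (g : L ≃ₐ[K] L)).ne' p hp.ne_one
    refine ⟨a, Subtype.ext ?_⟩
    rw [Subgroup.coe_pow, Subgroup.coe_one]
    refine hone _ (pow_mem g.2 _) n (fun h ↦ hn ((CharP.cast_eq_zero_iff _ p n).1 h)) ?_
    rw [← pow_mul, ← hord, pow_orderOf_eq_one]
  have hzero : CharZero (A ⧸ m.comap (algebraMap A B)) → P = ⊥ := by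
    intro _
    rw [Subgroup.eq_bot_iff_forall]
    exact fun σ hσ ↦ hone σ hσ _ (Nat.cast_ne_zero.2 (orderOf_pos σ).ne') (pow_orderOf_eq_one σ)
  refine ⟨hPI, Ideal.inertia_le_stabilizer m, Aux.subgroup_normal m, hpgrp, hzero, ?_⟩
  intro hN
  obtain ⟨θ, hθ⟩ := Aux.exists_tameHom (G := L ≃ₐ[K] L) (A := A) m hm
  let φ : I ⧸ P.subgroupOf I ≃* θ.range :=
    (QuotientGroup.quotientMulEquivOfEq hθ.symm).trans (QuotientGroup.quotientKerEquivRange θ)
  haveI : Finite θ.range := Finite.of_equiv _ φ.toEquiv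
  have hr : Nat.card (I ⧸ P.subgroupOf I) = Nat.card θ.range := Nat.card_congr φ.toEquiv
  have hprod : Nat.card (I ⧸ P.subgroupOf I) * Nat.card P = e := by
    rw [← hcard, Subgroup.card_eq_card_quotient_mul_card_subgroup (P.subgroupOf I),
      Nat.card_congr (Subgroup.subgroupOfEquivOfLe hPI).toEquiv]
  have heq : ∀ r : ℕ, r ≠ 0 → Nat.card θ.range = r → θ.range = rootsOfUnity r (B ⧸ m) := by
    intro r hr0 hcr
    haveI : NeZero r := ⟨hr0⟩
    refine Subgroup.eq_of_le_of_card_ge (fun x hx ↦ ?_) ?_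
    · rw [mem_rootsOfUnity, ← hcr]
      simpa using congrArg Subtype.val (pow_card_eq_one' (x := (⟨x, hx⟩ : θ.range)))
    · rw [hcr]
      exact card_rootsOfUnity (B ⧸ m) r
  set r := Nat.card θ.range with hrdef
  have hr0 : r ≠ 0 := Nat.card_pos.ne'
  have hcp : ∀ p : ℕ, p.Prime → CharP (A ⧸ m.comap (algebraMap A B)) p →
      ∃ a, e = p ^ a * r ∧ e / p ^ e.factorization p = r ∧
        rootsOfUnity e (B ⧸ m) = rootsOfUnity r (B ⧸ m) := by
    intro p hp hchar
    haveI := Fact.mk hp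
    haveI : CharP (B ⧸ m) p :=
      charP_of_injective_ringHom (f := algebraMap (A ⧸ m.comap (algebraMap A B)) (B ⧸ m))
        Ideal.quotientMap_injective p
    obtain ⟨a, ha⟩ := (IsPGroup.iff_card).1 (hpgrp p hp hchar)
    rw [hr, ha, mul_comm] at hprod
    have hnd : ¬ p ∣ r := by
      intro h
      obtain ⟨x, hx⟩ := exists_prime_orderOf_dvd_card' p h
      have h1 : ((x : (B ⧸ m)ˣ) : B ⧸ m) ^ p = 1 := by
        have h2 := congrArg (fun y : θ.range ↦ ((y : (B ⧸ m)ˣ) : B ⧸ m)) (pow_orderOf_eq_one x)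
        simpa [hx] using h2
      have h3 : ((x : (B ⧸ m)ˣ) : B ⧸ m) = 1 :=
        frobenius_inj (B ⧸ m) p (by simpa [frobenius_def] using h1)
      have h4 : x = 1 := by ext; simpa using h3
      rw [h4, orderOf_one] at hx
      exact hp.ne_one hx.symm
    have hv : e.factorization p = a := by
      rw [← hprod, Nat.factorization_mul (pow_ne_zero _ hp.ne_zero) hr0]
      simp [hp.factorization_self, Nat.factorization_eq_zero_of_not_dvd hnd]
    refine ⟨a, hprod.symm, ?_, ?_⟩
    · rw [hv, ← hprod, Nat.mul_div_cancel_left _ (pow_pos hp.pos a)]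
    · ext ζ
      rw [← hprod]
      exact mem_rootsOfUnity_prime_pow_mul_iff (B ⧸ m) p a r
  have hc0 : CharZero (A ⧸ m.comap (algebraMap A B)) → Nat.card (I ⧸ P.subgroupOf I) = e := by
    intro h
    rw [← hprod, hzero h, Subgroup.card_bot, mul_one]
  refine ⟨φ.symm.isCyclic.1 inferInstance, fun p hp hchar ↦ ?_, hc0, ?_⟩
  · obtain ⟨a, -, h, -⟩ := hcp p hp hchar
    rw [hr]; exact h.symm
  · suffices θ.range = rootsOfUnity e (B ⧸ m) from ⟨φ.trans (MulEquiv.subgroupCongr this)⟩
    rcases CharP.exists (A ⧸ m.comap (algebraMap A B)) with ⟨q, hq⟩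
    rcases CharP.char_is_prime_or_zero (A ⧸ m.comap (algebraMap A B)) q with hprime | rfl
    · obtain ⟨a, -, -, h⟩ := hcp q hprime hq
      rw [h]; exact heq r hr0 rfl
    · haveI := CharP.charP_to_charZero (A ⧸ m.comap (algebraMap A B))
      have : r = e := hr.symm.trans (hc0 inferInstance)
      rw [← this]; exact heq r hr0 rfl

end Groth.Agent.S1999
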