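import Groth.Statements.S19917
import Groth.Agent.S1999

set_option autoImplicit false
universe u
set_option maxHeartbeats 800000
set_option synthInstance.maxHeartbeats 200000
open CategoryTheory CategoryTheory.Limits AlgebraicGeometry MonObj
open SGA7

namespace Groth.Agent.S19917

open scoped Pointwise
open Polynomial

/-- Let R be a discrete valuation ring with fraction field K and residue field k, Ω a separable closure
of K and W a valuation subring of Ω lying over R. Assume that every K-automorphism of Ω belongs to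
the inertia group at W, i.e. K coincides with its maximal extension inside Ω at which the
restriction of W is unramified over R. Let r ≥ 1 be an integer whose image in k is non-zero. Then
there is exactly one intermediate field L of Ω over K with [L : K] = r and L Galois over K; moreover
every such L is totally (and tamely) ramified over R: every maximal ideal of the integral closure of
R in L has ramification index r over R. -/
theorem result (R K Ω : Type u) [CommRing R] [IsDomain R]
    [IsDiscreteValuationRing R] [Field K] [Algebra R K] [IsFractionRing R K] [Field Ω] [Algebra K Ω]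
    [IsSepClosure K Ω] [Algebra R Ω] [IsScalarTower R K Ω]
    (W : ValuationSubring Ω) (hW : SGA7.LiesOver K R W)
    (hI : ∀ σ : Ω ≃ₐ[K] Ω, SGA7.IsInertia W σ)
    (r : ℕ) (hr : 0 < r) (hrk : (r : IsLocalRing.ResidueField R) ≠ 0) :
    (∃! L : IntermediateField K Ω, Module.finrank K L = r ∧ IsGalois K L) ∧
      ∀ L : IntermediateField K Ω, Module.finrank K L = r → IsGalois K L →
        ∀ P : Ideal (integralClosure R L), P.IsMaximal → P.ramificationIdx R = r := by
  classical
  have hrR : IsUnit (r : R) := by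
    rw [← IsLocalRing.notMem_maximalIdeal]
    intro h
    exact hrk (by rw [← map_natCast (IsLocalRing.residue R) r, IsLocalRing.residue_eq_zero_iff]; exact h)
  have hrK : (r : K) ≠ 0 := by
    rw [← map_natCast (algebraMap R K) r]; exact (hrR.map _).ne_zero
  haveI : IsSepClosed Ω := IsSepClosure.sep_closed K
  haveI : NeZero r := ⟨hr.ne'⟩
  haveI : NeZero (r : Ω) := ⟨by
    rw [← map_natCast (algebraMap K Ω) r]; exact (_root_.map_ne_zero _).2 hrK⟩
  obtain ⟨u, hu⟩ := hrR
  set v := W.valuation
  have hRΩ : ∀ x : R, algebraMap R Ω x ∈ W := fun x => by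
    rw [IsScalarTower.algebraMap_apply R K Ω]; exact hW.1 x
  have hvu : ∀ x : Rˣ, v (algebraMap R Ω (x : R)) = 1 := fun x =>
    (W.valuation_eq_one_iff ⟨_, hRΩ _⟩).1 ((x.map (algebraMap R Ω).toMonoidHom).isUnit |> fun _ =>
      IsUnit.of_mul_eq_one (⟨algebraMap R Ω ((x⁻¹ : Rˣ) : R), hRΩ _⟩ : W) (Subtype.ext (by
        show algebraMap R Ω (x : R) * algebraMap R Ω ((x⁻¹ : Rˣ) : R) = 1
        rw [← map_mul, Units.mul_inv, map_one])))
  have hfix : ∀ x : Ω, v x = 1 → x ^ r ∈ Set.range (algebraMap K Ω) → x ∈ Set.range (algebraMap K Ω) := by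
    intro x hx hxr
    refine (InfiniteGalois.mem_range_algebraMap_iff_fixed (k := K) x).2 fun σ => ?_
    obtain ⟨h1, h2⟩ := hI σ x ((W.valuation_le_one_iff x).1 hx.le)
    obtain ⟨c, hc⟩ := hxr
    have hσr : σ x ^ r = x ^ r := by rw [← map_pow, ← hc, AlgEquiv.commutes]
    by_contra hne
    obtain ⟨sgeom, hsg⟩ : ∃ s : Ω, s = ∑ i ∈ Finset.range r, σ x ^ i * x ^ (r - 1 - i) := ⟨_, rfl⟩
    have h0 : sgeom * (σ x - x) = 0 := by rw [hsg, geom_sum₂_mul, hσr, sub_self]
    have hs0 : sgeom = 0 := (mul_eq_zero.1 h0).resolve_right (sub_ne_zero.2 hne)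
    let t : W := ⟨x, (W.valuation_le_one_iff x).1 hx.le⟩
    let t' : W := ⟨σ x, h1⟩
    let π := IsLocalRing.residue W
    have hπ : π t' = π t := Ideal.Quotient.eq.2 ((W.valuation_lt_one_iff (t' - t)).2 h2)
    have hsum : π (∑ i ∈ Finset.range r, t' ^ i * t ^ (r - 1 - i)) = (r : ℕ) * π t ^ (r - 1) := by
      simp only [map_sum, map_mul, map_pow, hπ]
      rw [Finset.sum_congr rfl fun i hi => by
        rw [← pow_add, Nat.add_sub_cancel' (Nat.le_sub_one_of_lt (Finset.mem_range.1 hi))]]
      simp
    have hzero : (∑ i ∈ Finset.range r, t' ^ i * t ^ (r - 1 - i)) = 0 := Subtype.ext (by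
      push_cast
      exact hsg.symm.trans hs0)
    rw [hzero, map_zero, eq_comm, mul_eq_zero] at hsum
    have hruW : IsUnit (r : W) := (W.valuation_eq_one_iff (r : W)).2 (by
      rw [show (((r : W)) : Ω) = algebraMap R Ω (u : R) by rw [hu, map_natCast]; rfl]
      exact hvu u)
    rcases hsum with h | h
    · exact (hruW.map π).ne_zero (by rwa [map_natCast])
    · exact ((((W.valuation_eq_one_iff t).2 hx).map π).pow (r - 1)).ne_zero h
  obtain ⟨ζ, hζ⟩ := HasEnoughRootsOfUnity.exists_primitiveRoot Ω r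
  obtain ⟨ζK, hζK⟩ := hfix ζ ((pow_eq_one_iff.1 (show v ζ ^ r = 1 by rw [← map_pow, hζ.pow_eq_one, map_one])).resolve_right hr.ne')
    ⟨1, by rw [hζ.pow_eq_one, map_one]⟩
  have hζK' : IsPrimitiveRoot ζK r :=
    IsPrimitiveRoot.of_map_of_injective (f := algebraMap K Ω) (by rwa [hζK]) (algebraMap K Ω).injective
  have hroots : ∀ (d : ℕ), d ∣ r → ∀ x : Ω, x ^ d = 1 → x ∈ Set.range (algebraMap K Ω) := fun d hd x hx => by
    obtain ⟨i, -, rfl⟩ := hζ.eq_pow_of_pow_eq_one (show x ^ r = 1 by
      obtain ⟨e, rfl⟩ := hd; rw [pow_mul, hx, one_pow])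
    exact ⟨ζK ^ i, by rw [map_pow, hζK]⟩
  obtain ⟨π, hπ⟩ := IsDiscreteValuationRing.exists_irreducible R
  have hirr : Irreducible (X ^ r - C (algebraMap R K π) : K[X]) := by
    have hm : (X ^ r - C π : R[X]).Monic := monic_X_pow_sub_C _ hr.ne'
    have hdeg : (X ^ r - C π : R[X]).natDegree = r := natDegree_X_pow_sub_C
    have hmax : IsLocalRing.maximalIdeal R = Ideal.span {π} := hπ.maximalIdeal_eq
    have heis : (X ^ r - C π : R[X]).IsEisensteinAt (IsLocalRing.maximalIdeal R) := by
      refine ⟨?_, fun {i} hi => ?_, ?_⟩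
      · rw [hm.leadingCoeff]; exact (IsLocalRing.maximalIdeal R).ne_top_iff_one.1 (Ideal.IsPrime.ne_top inferInstance)
      · rw [hdeg] at hi
        rw [coeff_sub, coeff_X_pow, if_neg hi.ne, zero_sub, neg_mem_iff, coeff_C]
        split_ifs with h
        · rw [hmax]; exact Ideal.mem_span_singleton_self π
        · exact zero_mem _
      · rw [coeff_sub, coeff_X_pow, if_neg hr.ne, zero_sub, neg_mem_iff, coeff_C, if_pos rfl,
          hmax, Ideal.span_singleton_pow, Ideal.mem_span_singleton]
        rintro ⟨c, hc⟩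
        exact hπ.not_isUnit (IsUnit.of_mul_eq_one c (mul_left_cancel₀ hπ.ne_zero (by
          rw [← _root_.mul_assoc, ← sq, ← hc, _root_.mul_one])))
    have h := heis.irreducible inferInstance hm.isPrimitive (by rw [hdeg]; exact hr)
    have h2 := (hm.irreducible_iff_irreducible_map_fraction_map (K := K)).1 h
    simpa [Polynomial.map_sub, Polynomial.map_pow] using h2
  set c := algebraMap K Ω (algebraMap R K π)
  have hπK : algebraMap R K π ≠ 0 := fun h => hπ.ne_zero
    ((map_eq_zero_iff _ (IsFractionRing.injective R K)).1 h)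
  have hπΩ : c ≠ 0 := fun h => hπK ((map_eq_zero_iff _ (algebraMap K Ω).injective).1 h)
  have hradical : ∀ a : K, a ≠ 0 → ∃ y : Ω, y ^ r = algebraMap K Ω a := fun a ha => by
    have hsep : (X ^ r - C (algebraMap K Ω a) : Polynomial Ω).Separable :=
      separable_X_pow_sub_C (algebraMap K Ω a) (NeZero.ne (r : Ω))
        fun h => ha ((map_eq_zero_iff _ (algebraMap K Ω).injective).1 h)
    obtain ⟨y, hy⟩ := IsSepClosed.exists_root (X ^ r - C (algebraMap K Ω a) : Polynomial Ω)
      (by rw [degree_X_pow_sub_C hr]; exact_mod_cast hr.ne') hsep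
    exact ⟨y, by simpa [IsRoot, sub_eq_zero] using hy⟩
  obtain ⟨x, hx⟩ := hradical _ hπK
  have hdegree : ∀ y : Ω, y ^ r = c → Module.finrank K (IntermediateField.adjoin K ({y} : Set Ω)) = r := by
    intro y hy
    have hint : IsIntegral K y := Algebra.IsIntegral.isIntegral y
    rw [IntermediateField.adjoin.finrank hint,
      ← minpoly.eq_of_irreducible_of_monic hirr (by simp [hy, c]) (monic_X_pow_sub_C _ hr.ne'),
      natDegree_X_pow_sub_C]
  set L₀ := IntermediateField.adjoin K ({x} : Set Ω)
  have hr0 := hdegree x hx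
  haveI : FiniteDimensional K L₀ := Module.finite_of_finrank_pos (hr0 ▸ hr)
  have hL₀ : IsGalois K L₀ := by
    have htf := (isCyclic_tfae K L₀ (by rw [hr0]; exact ⟨ζK, (mem_primitiveRoots hr).2 hζK'⟩)).out 0 2
    refine (htf.2 ?_).1
    refine ⟨⟨x, IntermediateField.mem_adjoin_simple_self K x⟩, ⟨algebraMap R K π, Subtype.ext ?_⟩, ?_⟩
    · rw [hr0]; exact hx.symm
    · refine IntermediateField.map_injective L₀.val ?_
      rw [IntermediateField.adjoin_map, Set.image_singleton, ← AlgHom.fieldRange_eq_map,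
        IntermediateField.fieldRange_val]
      rfl
  have main : ∀ L : IntermediateField K Ω, Module.finrank K L = r → IsGalois K L →
      L = L₀ ∧ ∀ P : Ideal (integralClosure R L), P.IsMaximal → P.ramificationIdx R = r := by
    intro L hrL hgal
    haveI : FiniteDimensional K L := Module.finite_of_finrank_pos (hrL ▸ hr)
    let B := integralClosure R L
    let G := L ≃ₐ[K] L
    letI := IsIntegralClosure.MulSemiringAction R K L B
    haveI : IsFractionRing B L := IsIntegralClosure.isFractionRing_of_finite_extension R K L B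
    haveI : Module.Finite R B := IsIntegralClosure.finite R K L B
    haveI : IsDedekindDomain B := IsIntegralClosure.isDedekindDomain R K L B
    haveI : Algebra.IsIntegral R B := IsIntegralClosure.isIntegral_algebra R L
    have hG : IsGaloisGroup G R B := IsGaloisGroup.of_isFractionRing _ R B K L
    haveI := hG
    haveI := hG.faithful
    have hinj : Function.Injective (algebraMap R B) := fun a b h => by
      apply IsFractionRing.injective R K
      apply (algebraMap K L).injective
      rw [← IsScalarTower.algebraMap_apply, ← IsScalarTower.algebraMap_apply]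
      exact congrArg (fun z : B => (z : L)) h
    haveI : Module.IsTorsionFree R B := Module.isTorsionFree_iff_algebraMap_injective.2 hinj
    haveI : Module.Flat R B := inferInstance
    have hsmul : ∀ (g : G) (b : B), ((g • b : B) : L) = g (b : L) := fun g b =>
      algebraMap_galRestrict_apply R g b
    have hBW : ∀ b : B, ((b : L) : Ω) ∈ W := fun b => by
      have h : IsIntegral R ((b : L) : Ω) := b.2.map ((IntermediateField.val L).restrictScalars R)
      obtain ⟨p, hp, hpe⟩ := h
      obtain ⟨z, hz⟩ := IsIntegrallyClosed.isIntegral_iff.1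
        (⟨p.map (RingHom.codRestrict (algebraMap R Ω) W hRΩ), hp.map _, by
          rw [eval₂_map]; exact hpe⟩ : IsIntegral W ((b : L) : Ω))
      exact hz ▸ z.2
    let jB : B →+* W := RingHom.codRestrict ((IntermediateField.val L).toRingHom.comp B.val.toRingHom) W hBW
    let m₀ := (IsLocalRing.maximalIdeal W).comap jB
    have hm₀ : ∀ (g : G) (b : B), g • b - b ∈ m₀ := fun g b => by
      obtain ⟨σ, hσ⟩ := AlgEquiv.restrictNormalHom_surjective (K₁ := L) Ω g
      obtain ⟨h1, h2⟩ := hI σ _ (hBW b)
      have h3 : ((((g • b : B) : L)) : Ω) = σ ((b : L) : Ω) := by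
        rw [hsmul, ← hσ]; exact σ.restrictNormal_commutes L (b : L)
      refine (W.valuation_lt_one_iff (jB (g • b - b))).2 ?_
      show v (((((g • b : B) : L)) : Ω) - ((b : L) : Ω)) < 1
      rw [h3]; exact h2
    have hu0 : ∀ P : Ideal B, P.IsMaximal → P = m₀ ∧ P.LiesOver (IsLocalRing.maximalIdeal R) := by
      intro P hP
      have hPc : P.under R = IsLocalRing.maximalIdeal R :=
        IsLocalRing.eq_maximalIdeal (Ideal.isMaximal_comap_of_isIntegral_of_isMaximal P)
      have hm₀c : m₀.under R = IsLocalRing.maximalIdeal R := by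
        refine ((IsLocalRing.maximalIdeal.isMaximal R).eq_of_le (Ideal.IsPrime.ne_top inferInstance)
          fun a ha => ?_).symm
        refine (W.valuation_lt_one_iff (jB (algebraMap R B a))).2 ?_
        convert hW.2 a ha using 2
        show ((algebraMap R B a : L) : Ω) = _
        rw [← IsScalarTower.algebraMap_apply R K Ω]
        rfl
      obtain ⟨g, hg⟩ := Algebra.IsInvariant.exists_smul_of_under_eq R B G m₀ P (hm₀c.trans hPc.symm)
      have : g ∈ MulAction.stabilizer G m₀ := Ideal.inertia_le_stabilizer m₀ (hm₀ g)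
      exact ⟨hg.trans this, ⟨hPc.symm⟩⟩
    obtain ⟨m, hm⟩ := Ideal.exists_maximal B
    obtain ⟨rfl, hlies⟩ := hu0 m hm
    haveI := hlies
    set p := IsLocalRing.maximalIdeal R
    have hres : ∀ b : B, ∃ a : R, b - algebraMap R B a ∈ m₀ := fun b => by
      obtain ⟨a, ha⟩ := Algebra.IsInvariant.isInvariant (A := R) (G := G) (∑ g : G, g • b) (fun g => by
        rw [Finset.smul_sum]
        exact Fintype.sum_equiv (Equiv.mulLeft g) _ _ fun h => (mul_smul g h b).symm)
      refine ⟨(↑u⁻¹ : R) * a, ?_⟩
      have h1 : (∑ g : G, g • b) - (r : B) * b ∈ m₀ := by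
        have : (r : B) * b = ∑ _g : G, b := by
          rw [Finset.sum_const, Finset.card_univ, ← Nat.card_eq_fintype_card,
            IsGalois.card_aut_eq_finrank, hrL, nsmul_eq_mul]
        rw [this, ← Finset.sum_sub_distrib]
        exact sum_mem fun g _ => hm₀ g b
      have h2 := Ideal.mul_mem_left m₀ (algebraMap R B (↑u⁻¹ : R)) h1
      have h3 : algebraMap R B (↑u⁻¹ : R) * (r : B) = 1 := by
        rw [← map_natCast (algebraMap R B) r, ← hu, ← map_mul, Units.inv_mul, map_one]
      rw [← ha, mul_sub, ← _root_.mul_assoc, h3, _root_.one_mul, ← map_mul] at h2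
      exact (Submodule.neg_mem_iff _).1 (by simpa using h2)
    have hm0ne : m₀ ≠ ⊥ := fun h => IsDiscreteValuationRing.not_a_field R
      (hlies.over.trans (by rw [h]; exact Ideal.comap_bot_of_injective _ hinj))
    haveI : (m₀.comap (algebraMap R B)).IsMaximal := Ideal.isMaximal_comap_of_isIntegral_of_isMaximal m₀
    haveI : Algebra.IsSeparable (R ⧸ m₀.comap (algebraMap R B)) (B ⧸ m₀) := ⟨fun z => by
      obtain ⟨b, rfl⟩ := Ideal.Quotient.mk_surjective z
      obtain ⟨a, ha⟩ := hres b
      have : Ideal.Quotient.mk m₀ b = algebraMap (R ⧸ m₀.comap (algebraMap R B)) (B ⧸ m₀)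
          (Ideal.Quotient.mk _ a) := Ideal.Quotient.eq.2 ha
      rw [this]
      letI := Ideal.Quotient.field (m₀.comap (algebraMap R B))
      exact isSeparable_algebraMap _⟩
    haveI : Algebra.IsSeparable (R ⧸ p) (B ⧸ m₀) := ⟨fun z => by
      obtain ⟨b, rfl⟩ := Ideal.Quotient.mk_surjective z
      obtain ⟨a, ha⟩ := hres b
      have : Ideal.Quotient.mk m₀ b = algebraMap (R ⧸ p) (B ⧸ m₀) (Ideal.Quotient.mk _ a) :=
        Ideal.Quotient.eq.2 ha
      rw [this]
      letI := Ideal.Quotient.field p
      exact isSeparable_algebraMap _⟩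
    have hIall : m₀.inertia G = ⊤ := eq_top_iff.2 fun g _ => hm₀ g
    have hramr : m₀.ramificationIdx R = r := by
      rw [← Groth.Agent.S1999.Aux.card_inertia (G := G) m₀ p, hIall, Subgroup.card_top,
        IsGalois.card_aut_eq_finrank, hrL]
    obtain ⟨θ, hθ⟩ := Groth.Agent.S1999.Aux.exists_tameHom (G := G) (A := R) m₀ hm0ne
    have hθinj : Function.Injective θ := by
      rw [← MonoidHom.ker_eq_bot_iff, hθ, Subgroup.eq_bot_iff_forall]
      intro g hg
      rw [Subgroup.mem_subgroupOf] at hg
      refine Subtype.ext (Groth.Agent.S1999.Aux.eq_one_of_natCast_notMem m₀ hg.1 hg.2 (n := r) ?_ ?_)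
      · intro h
        refine (IsLocalRing.notMem_maximalIdeal.2 (hu ▸ u.isUnit) : (r : R) ∉ p) ?_
        show (r : R) ∈ IsLocalRing.maximalIdeal R
        refine hlies.over.ge ?_
        rw [Ideal.under_def, Ideal.mem_comap, map_natCast]
        exact h
      · rw [← hrL, ← IsGalois.card_aut_eq_finrank]
        exact pow_card_eq_one'
    haveI : IsCyclic (m₀.inertia G) := isCyclic_of_subgroup_isDomain
      ((Units.coeHom (B ⧸ m₀)).comp θ) (Units.val_injective.comp hθinj)
    haveI : IsCyclic G := by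
      refine isCyclic_of_surjective (m₀.inertia G).subtype fun g => ⟨⟨g, hm₀ g⟩, rfl⟩
    obtain ⟨α, ⟨a, ha⟩, hα⟩ := exists_root_adjoin_eq_top_of_isCyclic K L
      (by rw [hrL]; exact ⟨ζK, (mem_primitiveRoots hr).2 hζK'⟩)
    rw [hrL] at ha
    refine ⟨?_, fun P hP => (hu0 P hP).1 ▸ hramr⟩
    suffices ∃ β : L, ((β : L) : Ω) ^ r = c by
      obtain ⟨β, hβ⟩ := this
      haveI : FiniteDimensional K L₀ := inferInstance
      refine (IntermediateField.eq_of_le_of_finrank_eq ?_ (hr0.trans hrL.symm)).symm
      obtain ⟨i, -, hi⟩ := hζ.eq_pow_of_pow_eq_one (show (x / ((β : L) : Ω)) ^ r = 1 by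
        rw [div_pow, hx, hβ, div_self]
        exact (_root_.map_ne_zero _).2 ((map_ne_zero_iff _ (IsFractionRing.injective R K)).2 hπ.ne_zero))
      refine IntermediateField.adjoin_le_iff.2 (Set.singleton_subset_iff.2 ?_)
      have hβ0 : ((β : L) : Ω) ≠ 0 := fun h => by
        rw [h, zero_pow hr.ne'] at hβ
        exact (_root_.map_ne_zero _).2 ((map_ne_zero_iff _ (IsFractionRing.injective R K)).2 hπ.ne_zero) hβ.symm
      rw [eq_div_iff hβ0] at hi
      rw [← hi, ← hζK, ← map_pow]
      exact mul_mem (L.algebraMap_mem _) β.2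
    by_cases hr1 : r = 1
    · exact ⟨algebraMap K L (algebraMap R K π), by rw [hr1, pow_one]; rfl⟩
    have hα0 : α ≠ 0 := by
      rintro rfl
      have : (⊥ : IntermediateField K L) = ⊤ := by rw [← hα, eq_comm, IntermediateField.adjoin_simple_eq_bot_iff]; exact zero_mem _
      have h1 := IntermediateField.finrank_bot (F := K) (E := L)
      rw [this, IntermediateField.finrank_top', hrL] at h1
      exact hr1 h1
    obtain ⟨j, w, hw⟩ := IsDiscreteValuationRing.exists_units_eq_smul_zpow_of_irreducible hπ (x := a)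
      (fun h => hα0 (by rw [h, map_zero, eq_comm] at ha; exact eq_zero_of_pow_eq_zero ha))
    obtain ⟨y, hy⟩ := hradical (algebraMap R K (w : R)) fun h =>
      w.ne_zero ((map_eq_zero_iff _ (IsFractionRing.injective R K)).1 h)
    have hy' : y ^ r = algebraMap R Ω (w : R) := by
      rw [IsScalarTower.algebraMap_apply R K Ω, hy]
    obtain ⟨yK, hyK⟩ := hfix y ((pow_eq_one_iff.1 (show v y ^ r = 1 by rw [← map_pow, hy', hvu])).resolve_right hr.ne')
      ⟨algebraMap R K (w : R), by rw [hy', IsScalarTower.algebraMap_apply R K Ω]⟩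
    have hyr : yK ^ r = algebraMap R K (w : R) := (algebraMap K Ω).injective (by
      rw [map_pow, hyK, hy', IsScalarTower.algebraMap_apply R K Ω])
    have hyK0 : yK ≠ 0 := fun h => by
      rw [h, zero_pow hr.ne'] at hyr; exact (w.isUnit.map _).ne_zero hyr.symm
    set α' : L := α / algebraMap K L yK
    have hα' : α' ^ r = algebraMap K L (algebraMap R K π) ^ j := by
      rw [div_pow, ← ha, ← map_pow, hyr, ← map_zpow₀, ← map_div₀, hw, Units.smul_def, Algebra.smul_def,
        mul_div_cancel_left₀ _ (w.isUnit.map _).ne_zero]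
    have hcop : IsCoprime j (r : ℤ) := by
      rw [Int.isCoprime_iff_gcd_eq_one]
      by_contra hd
      set d := Int.gcd j (r : ℤ)
      obtain ⟨r', hr'⟩ : d ∣ r := Int.natCast_dvd_natCast.1 (Int.gcd_dvd_right j (r : ℤ))
      obtain ⟨j', hj'⟩ := Int.gcd_dvd_left j (r : ℤ)
      set t := α' ^ r' / algebraMap K L (algebraMap R K π) ^ j'
      have hπ0 : algebraMap K L (algebraMap R K π) ≠ 0 :=
        (_root_.map_ne_zero _).2 ((map_ne_zero_iff _ (IsFractionRing.injective R K)).2 hπ.ne_zero)
      have ht : t ^ d = 1 := by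
        rw [div_pow, ← pow_mul, _root_.mul_comm r' d, ← hr', hα', ← zpow_natCast _ d, ← zpow_mul,
          _root_.mul_comm j' _, ← hj', div_self (zpow_ne_zero _ hπ0)]
      obtain ⟨tK, htK⟩ := hroots d ⟨r', hr'⟩ ((t : L) : Ω) (by rw [← SubmonoidClass.coe_pow, ht]; rfl)
      have htK' : t = algebraMap K L tK := Subtype.ext htK.symm
      have hαr : (α : L) ^ r' ∈ Set.range (algebraMap K L) := by
        refine ⟨yK ^ r' * (tK * (algebraMap R K π) ^ j'), ?_⟩
        rw [map_mul, map_mul, map_pow, map_zpow₀, ← htK', div_mul_cancel₀ _ (zpow_ne_zero _ hπ0),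
          div_pow, mul_div_cancel₀ _ (pow_ne_zero _ ((_root_.map_ne_zero _).2 hyK0))]
      obtain ⟨b, hb⟩ := hαr
      have hr'0 : 0 < r' := Nat.pos_of_ne_zero fun h => hr.ne' (by rw [hr', h, mul_zero])
      have hle := minpoly.min K α (monic_X_pow_sub_C b hr'0.ne') (by simp [hb])
      rw [degree_X_pow_sub_C hr'0, degree_eq_natDegree (minpoly.ne_zero (Algebra.IsIntegral.isIntegral α)),
        Nat.cast_le, ← IntermediateField.adjoin.finrank (Algebra.IsIntegral.isIntegral α), hα,
        IntermediateField.finrank_top', hrL, hr'] at hle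
      have : d ≤ 1 := by
        by_contra h
        nlinarith
      have hd0 : d ≠ 0 := fun h => hr.ne' (by rw [hr', h, zero_mul])
      omega
    obtain ⟨s, t, hst⟩ := hcop
    refine ⟨α' ^ s * algebraMap K L (algebraMap R K π) ^ t, ?_⟩
    rw [← SubmonoidClass.coe_pow, mul_pow, ← zpow_natCast, ← zpow_natCast, ← zpow_mul, ← zpow_mul,
      _root_.mul_comm s, zpow_mul, zpow_natCast, hα', ← zpow_mul, ← zpow_add₀ ?_, _root_.mul_comm j s, hst, zpow_one]
    · rfl
    · exact (_root_.map_ne_zero _).2 ((map_ne_zero_iff _ (IsFractionRing.injective R K)).2 hπ.ne_zero)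
  exact ⟨⟨L₀, ⟨hr0, hL₀⟩, fun L hL => (main L hL.1 hL.2).1⟩, fun L h1 h2 => (main L h1 h2).2⟩

end Groth.Agent.S19917
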