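import Groth.Statements.S19923
import Groth.Agent.AVIndexLib.SwapFam

set_option autoImplicit false
set_option maxHeartbeats 1000000
set_option backward.isDefEq.respectTransparency false
set_option linter.style.haveILetI false
universe u
open CategoryTheory CategoryTheory.Limits MonoidalCategory CartesianMonoidalCategory MonObj GrpObj AlgebraicGeometry
open AbVar

namespace Groth.Agent.S19923

/-- Let A be an abelian variety over a field k (a proper, geometrically integral commutative k-group
scheme; k arbitrary), given with a dual (Â, φ_A) and a dual (Â̂, φ_Â) of Â — each represents the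
fppf-sheafified functor of invertible classes algebraically equivalent to zero on geometric fibres,
with φ multiplicative — and with a Poincaré class ξ on A ×_k Â whose transpose ξ' on Â ×_k A lies in
Pic⁰ on the fibres over A; put ι_A = φ_Â(ξ') : A → Â̂ (the double-duality morphism). Let L be an
invertible O_A-module with an inverse L⁻¹, and let Λ be a module on A ×_k A isomorphic to m^*L ⊗
p₁^*L⁻¹ ⊗ p₂^*L⁻¹ (m the group law, p₁, p₂ the projections) whose class lies in Pic⁰ on the fibres
over the second factor, so that φ_L := φ_A(Λ) : A → Â is the homomorphism a ↦ t_a^*L ⊗ L⁻¹. If φ̂_L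
: Â̂ → Â is a transpose of φ_L (φ_A of the pull-back of a Pic⁰ class c along (φ_L)_T equals φ_Â(c)
followed by φ̂_L), then φ_L = ι_A followed by φ̂_L: the homomorphism φ_L is symmetric. -/
theorem result (K : Type u) [Field K]
    (A At Att : Over (Spec (CommRingCat.of K)))
    [GrpObj A] [IsCommMonObj A] [IsProper A.hom] [GeometricallyIntegral A.hom]
    [GrpObj At] [IsCommMonObj At] [IsProper At.hom] [GeometricallyIntegral At.hom]
    [GrpObj Att] [IsCommMonObj Att] [IsProper Att.hom] [GeometricallyIntegral Att.hom]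
    (φA : ∀ T : Over (Spec (CommRingCat.of K)), PicF.Cl (PicF.XT A.hom T) → (T ⟶ At))
    (hAt : AbDual.IsDualAV Scheme.fppfPrecoverage A At φA)
    (φAt : ∀ T : Over (Spec (CommRingCat.of K)), PicF.Cl (PicF.XT At.hom T) → (T ⟶ Att))
    (hAtt : AbDual.IsDualAV Scheme.fppfPrecoverage At Att φAt)
    (ξ : PicF.Cl (PicF.XT A.hom At)) (hξ : AbDual.IsPoincareCl A At φA ξ)
    (hξ' : AbDual.IsPicZeroCl At.hom A (PicF.pullCl (pullbackSymmetry At.hom A.hom).hom ξ))
    (L Linv : A.left.Modules) (hL : PicF.IsInvertible L)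
    (hLinv : Nonempty (CohB1.tensorMod L Linv ≅ Coh.structureModule A.left))
    (Λ : (PicF.XT A.hom A).Modules)
    (hΛ : Nonempty (Λ ≅ CohB1.tensorMod (CohB1.tensorMod ((Scheme.Modules.pullback (μ[A]).left).obj L)
      ((Scheme.Modules.pullback (fst A A).left).obj Linv)) ((Scheme.Modules.pullback (snd A A).left).obj Linv)))
    (hΛ0 : AbDual.IsPicZeroCl A.hom A (PicF.cl Λ))
    (tl : Att ⟶ At) [IsMonHom tl]
    (htl : AbDual.IsTranspose (φA A (PicF.cl Λ)) φA φAt tl) :
    φA A (PicF.cl Λ) = φAt A (PicF.pullCl (pullbackSymmetry At.hom A.hom).hom ξ) ≫ tl := by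
  obtain ⟨P, rfl, hP, -⟩ := hξ.1
  have hLi : PicF.IsInvertible Linv := CohCmpLib.isInvertible_of_inverse' hL hLinv.some
  have hneg : CubeConsLib.clA hLi = -CubeConsLib.clA hL := by
    refine eq_neg_of_add_eq_zero_right ?_
    rw [← CubeConsLib.clA_tensor hL hLi, ← CubeConsLib.clA_one, CubeConsLib.clA_eq_iff]
    exact hLinv
  have hμ : μ[A] = fst A A * snd A A := by rw [Hom.mul_def, lift_fst_snd, Category.id_comp]
  rw [hμ] at hΛ
  have hμ' := AmpleDevLib.isInvertible_pb (fst A A * snd A A).left hL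
  have h1 := AmpleDevLib.isInvertible_pb (fst A A).left hLi
  have h2 := AmpleDevLib.isInvertible_pb (snd A A).left hLi
  have h3 := HilbPolyLib.isInvertible_tensor (HilbPolyLib.isInvertible_tensor hμ' h1) h2
  have hΛi : PicF.IsInvertible Λ := HilbPolyLib.isInvertible_of_iso hΛ.some.symm h3
  have cΛ : (CubeConsLib.clA hΛi : CubeConsLib.PicA (A ⊗ A).left) = CubeConsLib.lam hL (fst A A) (snd A A) := by
    refine ((CubeConsLib.clA_eq_iff (X := (A ⊗ A).left) hΛi h3).2 hΛ).trans ?_
    rw [CubeConsLib.clA_tensor (HilbPolyLib.isInvertible_tensor hμ' h1) h2, CubeConsLib.clA_tensor hμ' h1,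
      ← CubeConsLib.pullA_clA _ hL, ← CubeConsLib.pullA_clA _ hLi, ← CubeConsLib.pullA_clA _ hLi, hneg, map_neg,
      map_neg, CubeConsLib.lam, CubeConsLib.P, CubeConsLib.P, CubeConsLib.P]
    abel
  haveI : IsIntegral A.left := GeometricallyIntegral.isIntegral_of_subsingleton A.hom
  refine AVIndexLib.phi_swap hAt hP hξ hξ' (φA A (PicF.cl Λ)) htl hΛi (CubeConsLib.isInvertible_one A.left) ?_
  have key := AVIndexLib.clA_eq_pullA_poincare_add hAt hP hξ hΛi hΛ0
  have hs : CubeConsLib.pullA (PicF.secT A.hom η[A].left (Over.w η[A]) A) (CubeConsLib.clA hΛi) = 0 := by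
    have e : PicF.secT A.hom η[A].left (Over.w η[A]) A = (lift (1 : A ⟶ A) (𝟙 A)).left := by
      apply Limits.pullback.hom_ext
      · refine (Limits.pullback.lift_fst _ _ _).trans ?_
        refine Eq.trans ?_ (congrArg Over.Hom.left (lift_fst (1 : A ⟶ A) (𝟙 A))).symm
        rw [Hom.one_def, Over.comp_left]
        rfl
      · exact (Limits.pullback.lift_snd _ _ _).trans (congrArg Over.Hom.left (lift_snd (1 : A ⟶ A) (𝟙 A))).symm
    rw [e]
    show CubeConsLib.pullA (lift (1 : A ⟶ A) (𝟙 A)).left
      (CubeConsLib.clA hΛi : CubeConsLib.PicA (A ⊗ A).left) = 0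
    rw [cΛ, CubeConsLib.pullA_lam, lift_fst, lift_snd, CubeConsLib.lam_one_left]
  rw [hs, map_zero, add_zero] at key
  rw [← key, CubeConsLib.clA_one, map_zero, add_zero]
  have e : (pullbackSymmetry A.hom A.hom).hom = (lift (snd A A) (fst A A)).left := by
    apply Limits.pullback.hom_ext
    · exact (pullbackSymmetry_hom_comp_fst _ _).trans (congrArg Over.Hom.left (lift_fst (snd A A) (fst A A))).symm
    · exact (pullbackSymmetry_hom_comp_snd _ _).trans (congrArg Over.Hom.left (lift_snd (snd A A) (fst A A))).symm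
  rw [e]
  show (CubeConsLib.clA hΛi : CubeConsLib.PicA (A ⊗ A).left) = CubeConsLib.pullA (lift (snd A A) (fst A A)).left
    (CubeConsLib.clA hΛi : CubeConsLib.PicA (A ⊗ A).left)
  rw [cΛ, CubeConsLib.pullA_lam, lift_fst, lift_snd, CubeConsLib.lam_comm]

end Groth.Agent.S19923
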