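import Groth.Statements.S19926
import Groth.Agent.ProjDimLib.Basic


-- import your own Groth.Agent.* helpers here

set_option autoImplicit false
universe u
open ProjDeg

namespace Groth.Agent.S19926

/-- Let k be a field, n ≥ 0, S = k[X_0, …, X_n] graded by degree, and p a homogeneous prime ideal of S
which does not contain the irrelevant ideal S_+, so that X = V_+(p) is a nonempty integral closed
subscheme of P^n_k (every such subscheme arises this way); its affine cone C(X) ⊆ A^{n+1}_k, the
closure of the preimage of X under the projection from A^{n+1} minus the origin, is the closed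
subset V(p), with coordinate ring S/p. Then dim C(X) = dim X + 1: the Krull dimension of S/p is the
topological Krull dimension of the closed subset V_+(p) of Proj S plus one. -/
theorem result (k : Type u) [Field k] (n : ℕ)
    (p : Ideal (MvPolynomial (Fin (n + 1)) k)) [p.IsPrime] (hph : p.IsHomogeneous (CohB1.polyGrading n k))
    (hrel : ¬ (HomogeneousIdeal.irrelevant (CohB1.polyGrading n k)).toIdeal ≤ p) :
    ringKrullDim (MvPolynomial (Fin (n + 1)) k ⧸ p) =
      topologicalKrullDim ↥(ProjectiveSpectrum.zeroLocus (CohB1.polyGrading n k) (p : Set (MvPolynomial (Fin (n + 1)) k))) + 1 := by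
  have hne : GradedHilbLib.hilb p ≠ 0 :=
    (ProjDimLib.hilb_ne_zero_iff hph).2 fun h => hrel (GradedHilbLib.irrelevant_eq.trans_le h)
  let x := ProjDimLib.mkPt p hph hne
  have hX : ProjectiveSpectrum.zeroLocus (CohB1.polyGrading n k) (p : Set (MvPolynomial (Fin (n + 1)) k)) = closure {x} := by
    ext w
    exact ProjectiveSpectrum.le_iff_mem_closure _ x w
  rw [hX, ProjDimLib.dim_closure x, (GradedHilbLib.ringKrullDim_quotient hph (Ideal.IsPrime.ne_top ‹_›)).2 hne]
  rfl

end Groth.Agent.S19926
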