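import Groth.Statements.S1993
import Groth.Agent.HenselLib.PairUniversal

set_option autoImplicit false
universe u
open EtAlg

namespace Groth.Agent.S1993

/-- Let A be a local ring with maximal ideal m and B a local A-algebra with local structure map. Then B
is a henselization of the pair (A, m) if and only if B is a henselization of the local ring A (both
in the sense of the universal properties). -/
theorem result (A B : Type u) [CommRing A] [IsLocalRing A] [CommRing B]
    [IsLocalRing B] [Algebra A B] [IsLocalHom (algebraMap A B)] :
    Hens2.IsPairHenselization A (IsLocalRing.maximalIdeal A) B ↔ Hensel.IsHenselization A B := by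
  have hH := HenselLib.isPairHenselization_HR A
  have hH' : Hensel.IsHenselization A (HenselLib.HR A) := inferInstance
  constructor
  · intro hB
    obtain ⟨g, hg, -⟩ := hH.2 B ((IsLocalRing.maximalIdeal A).map (algebraMap A B)) (algebraMap A B) hB.1 le_rfl
    obtain ⟨h, hh, -⟩ := hB.2 (HenselLib.HR A) ((IsLocalRing.maximalIdeal A).map (algebraMap A (HenselLib.HR A)))
      (algebraMap A (HenselLib.HR A)) hH.1 le_rfl
    have h1 : h.comp g = RingHom.id _ := (hH.2 _ _ (algebraMap A (HenselLib.HR A)) hH.1 le_rfl).unique
      (by rw [RingHom.comp_assoc, hg, hh]) (RingHom.id_comp _)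
    have h2 : g.comp h = RingHom.id _ := (hB.2 _ _ (algebraMap A B) hB.1 le_rfl).unique
      (by rw [RingHom.comp_assoc, hh, hg]) (RingHom.id_comp _)
    let e : HenselLib.HR A ≃+* B := RingEquiv.ofRingHom g h h2 h1
    have hmax : (IsLocalRing.maximalIdeal A).map (algebraMap A B) = IsLocalRing.maximalIdeal B := by
      rw [← hg, ← Ideal.map_map, HenselLib.map_maximalIdeal_hens]
      exact IsLocalRing.map_maximalIdeal_of_surjective g e.surjective
    refine { henselian := ?_, universal := fun T _ _ f hf => ?_ }
    · haveI : HenselianRing B (IsLocalRing.maximalIdeal B) := hmax ▸ hB.1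
      exact HenselLib.henselianLocalRing_of_henselianRing
    · obtain ⟨k, hk, hku⟩ := hH'.universal T f hf
      refine ⟨k.comp h, show (k.comp h).comp (algebraMap A B) = f by rw [RingHom.comp_assoc, hh, hk], fun k' hk' => ?_⟩
      rw [← hku (k'.comp g) (show (k'.comp g).comp _ = f by rw [RingHom.comp_assoc, hg]; exact hk'),
        RingHom.comp_assoc, h2, RingHom.comp_id]
  · intro hB
    haveI := hB
    obtain ⟨e⟩ := HenselLib.nonempty_algEquiv_HR (R := A) B
    haveI := hB.henselian
    refine ⟨HenselLib.henselianRing_of_le (J := IsLocalRing.maximalIdeal B) (Ideal.map_le_iff_le_comap.2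
      fun x hx => map_nonunit (algebraMap A B) x hx), fun C _ J f hJ hfJ => ?_⟩
    obtain ⟨k, hk, hku⟩ := hH.2 C J f hJ hfJ
    refine ⟨k.comp e.symm.toAlgHom.toRingHom, RingHom.ext fun a => ?_, fun k' hk' => ?_⟩
    · show k (e.symm (algebraMap A B a)) = f a
      rw [e.symm.commutes]; exact RingHom.congr_fun hk a
    · have h3 := hku (k'.comp e.toAlgHom.toRingHom) (RingHom.ext fun a => by
        show k' (e (algebraMap A _ a)) = f a
        rw [e.commutes]; exact RingHom.congr_fun hk' a)
      refine RingHom.ext fun b => ?_
      show k' b = k (e.symm b)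
      rw [← h3]
      show k' b = k' (e (e.symm b))
      rw [e.apply_symm_apply]

end Groth.Agent.S1993
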