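import Groth.Statements.S19948
import Groth.Agent.AVThetaLib.DescKernel
import Groth.Agent.AVThetaLib.NSplit
import Groth.Agent.AVThetaLib.Rep

set_option backward.isDefEq.respectTransparency false
set_option maxHeartbeats 1000000

set_option autoImplicit false
universe u
open CategoryTheory MonoidalCategory CartesianMonoidalCategory MonObj GrpObj AlgebraicGeometry
open ThetaGrp AVThetaLib CubeConsLib

namespace Groth.Agent.S19948

/-- Let k be an algebraically closed field, f : X → Y an isogeny of abelian varieties over k (X, Y
proper, geometrically integral, commutative k-group schemes; f a finite surjective homomorphism), i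
: N → X the kernel of f (a homomorphism forming a cartesian square with the unit section of Y), L an
invertible O_X-module and i_K : K → X a closed immersion exhibiting K as K(L), the maximal closed
subscheme of X over which the Mumford bundle m^*L ⊗ p_1^*L⁻¹ ⊗ p_2^*L⁻¹, restricted to X ×_k K, is
the inverse image of an invertible module on K, with its universal property. Then L is the inverse
image of an invertible O_Y-module (there is an invertible M on Y with f^*M ≅ L) if and only if the
kernel of f lies inside K(L) as a subgroup scheme and the commutator pairing e_L is trivial on it: i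
factors through i_K, and for every k-scheme T any two points (x₁, φ₁), (x₂, φ₂) of G(L)(T) whose
translations are by points of N commute. (Algebraic closedness is used for the converse; over other
fields an isotropic kernel descends in general only after a finite extension of k.) -/
theorem result (k : Type u) [Field k] [IsAlgClosed k]
    (A : Over (Spec (CommRingCat.of k))) [GrpObj A] [IsCommMonObj A] [IsProper A.hom] [GeometricallyIntegral A.hom]
    (B : Over (Spec (CommRingCat.of k))) [GrpObj B] [IsCommMonObj B] [IsProper B.hom] [GeometricallyIntegral B.hom]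
    (f : A ⟶ B) [IsMonHom f] [IsFinite f.left] (hf : Surjective f.left)
    (N : Over (Spec (CommRingCat.of k))) [GrpObj N] (i : N ⟶ A) [IsMonHom i] (hN : AlgGrp.IsKernel i f)
    (L : A.left.Modules) (hL : PicF.IsInvertible L)
    (K : Over (Spec (CommRingCat.of k))) (iK : K ⟶ A) (hK : ThetaGrp.IsKL A L iK) :
    (∃ M : B.left.Modules, PicF.IsInvertible M ∧ Nonempty ((Scheme.Modules.pullback f.left).obj M ≅ L)) ↔
      ((∃ y : N ⟶ K, y ≫ iK = i) ∧ ThetaGrp.IsIsotropic L i) := by
  haveI := hf
  haveI := mono_of_isKernel f hN
  constructor
  · rintro ⟨M, -, ⟨e⟩⟩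
    have hk : ∀ (T : Over (Spec (CommRingCat.of k))) (n : T ⟶ N), (n ≫ i) ≫ f = 1 := fun T n => kernel_comp f hN n
    have hi : i ≫ f = 1 := by simpa using hk N (𝟙 N)
    refine ⟨(hK.univ N i).1 ((mumfordTriv_iff hL i).2 ?_), fun T x y β₁ β₂ h₁ h₂ => ?_⟩
    · have := mumfordZero_of_pts hL (dlift f e i hi)
      rwa [pt_dlift] at this
    · refine (commute_congr hL (α' := dlift f e (x ≫ i) (hk T x)) (β' := dlift f e (y ≫ i) (hk T y))
        (by rw [pt_eq_of_isOverPt h₁, pt_dlift]) (by rw [pt_eq_of_isOverPt h₂, pt_dlift])).2 ?_
      have hxy : ((x ≫ i) * (y ≫ i)) ≫ f = 1 := by rw [← MonObj.mul_comp]; exact hk T (x * y)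
      have hyx : ((y ≫ i) * (x ≫ i)) ≫ f = 1 := by rw [← MonObj.mul_comp]; exact hk T (y * x)
      rw [← dlift_mul f e _ _ (hk T x) (hk T y) hxy, ← dlift_mul f e _ _ (hk T y) (hk T x) hyx]
      congr 1
      exact mul_comm _ _
  · rintro ⟨hfac, hiso⟩
    haveI : IsFinite N.hom := by
      haveI : IsFinite (toUnit N).left :=
        MorphismProperty.of_isPullback (hN.map (Over.forget _)) ‹IsFinite f.left›
      rw [← Over.w (toUnit N)]
      haveI : IsFinite (𝟙_ (Over (Spec (CommRingCat.of k)))).hom :=
        inferInstanceAs (IsFinite (𝟙 (Spec (CommRingCat.of k))))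
      infer_instance
    obtain ⟨G, hGrp, u, hG⟩ := exists_isThetaGrpSch (L := L) hL
    obtain ⟨j, hj, hover⟩ := exists_lift_of_isotropic hL i hG (mumfordZero_of_factors hL hK hfac) hiso
    haveI := hj
    exact exists_descent_of_lift hN hL hG hover

end Groth.Agent.S19948
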