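import Groth.Statements.S19949
import Groth.Agent.AVThetaLib.Perp

set_option backward.isDefEq.respectTransparency false
set_option maxHeartbeats 1000000

set_option autoImplicit false
universe u
open CategoryTheory MonoidalCategory CartesianMonoidalCategory MonObj GrpObj AlgebraicGeometry
open ThetaGrp AVThetaLib CubeConsLib

namespace Groth.Agent.S19949

/-- Let f : X → Y be a surjective homomorphism of abelian varieties over a field k (proper,
geometrically integral, commutative k-group schemes), i : N → X its kernel (a homomorphism forming a
cartesian square with the unit section of Y), M an invertible O_Y-module and L = f^*M. Let i_L : K_L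
→ X and i_M : K_M → Y be closed immersions exhibiting K_L as K(L) and K_M as K(M): the maximal
closed subschemes over which the Mumford bundles of L, resp. M, restricted to X ×_k K_L, resp. Y ×_k
K_M, are inverse images of invertible modules on K_L, resp. K_M, with their universal properties.
Then f⁻¹(K(M)) = Ker(f)^⊥ inside K(L): for a k-scheme T and a T-valued point x of X, the point f(x)
factors through i_M if and only if x factors through i_L and x is orthogonal to N for the commutator
pairing e_L, meaning that after every base change T' → T every point of G(L)(T') lying over the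
translation by x commutes with every point lying over the translation by a point of N. (In
particular every point x with f(x) in K(M) lies in K(f^*M). The source's further identifications of
G(M) with the centralizer of the level subgroup modulo it, and of K(M) with Ker(f)^⊥/Ker(f), are not
part of this statement.) -/
theorem result (k : Type u) [Field k]
    (A : Over (Spec (CommRingCat.of k))) [GrpObj A] [IsCommMonObj A] [IsProper A.hom] [GeometricallyIntegral A.hom]
    (B : Over (Spec (CommRingCat.of k))) [GrpObj B] [IsCommMonObj B] [IsProper B.hom] [GeometricallyIntegral B.hom]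
    (f : A ⟶ B) [IsMonHom f] (hf : Surjective f.left)
    (N : Over (Spec (CommRingCat.of k))) [GrpObj N] (i : N ⟶ A) [IsMonHom i] (hN : AlgGrp.IsKernel i f)
    (M : B.left.Modules) (hM : PicF.IsInvertible M)
    (KL : Over (Spec (CommRingCat.of k))) (iL : KL ⟶ A)
    (hKL : ThetaGrp.IsKL A ((Scheme.Modules.pullback f.left).obj M) iL)
    (KM : Over (Spec (CommRingCat.of k))) (iM : KM ⟶ B) (hKM : ThetaGrp.IsKL B M iM)
    (T : Over (Spec (CommRingCat.of k))) (x : T ⟶ A) :
    (∃ y : T ⟶ KM, y ≫ iM = x ≫ f) ↔
      ((∃ y : T ⟶ KL, y ≫ iL = x) ∧ ThetaGrp.IsPerpPt ((Scheme.Modules.pullback f.left).obj M) i x) := by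
  haveI := hf
  have hL := AmpleDevLib.isInvertible_pb f.left hM
  constructor
  · intro hy
    have hx : MumfordZero hM (x ≫ f) := mumfordZero_of_factors hM hKM hy
    refine ⟨(hKL.univ T x).1 ((mumfordTriv_iff hL x).2 (mumfordZero_pullback hM hx)), ?_⟩
    intro T' g y β₁ β₂ h₁ h₂
    refine commute_of_mumfordZero hM ?_ ?_
    · rw [pt_eq_of_isOverPt h₁, Category.assoc]
      exact mumfordZero_comp hM hx g
    · rw [pt_eq_of_isOverPt h₂]
      exact kernel_comp f hN y
  · rintro ⟨hy, hperp⟩
    have hx : MumfordZero hL x := mumfordZero_of_factors hL hKL hy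
    refine factors_of_local_pts hM hKM (x ≫ f) fun t => ?_
    obtain ⟨V, ht, α', hα⟩ := exists_local_pts hL hx t
    obtain ⟨α, h⟩ := exists_pts_of_commute hM α' fun T' g n hn => by
      obtain ⟨y, hy'⟩ := exists_lift_kernel hN n hn
      exact hperp T' (g ≫ Over.homMk V.ι rfl) y _ _ (isOverPt_iff.2 (by rw [pt_bc, hα, Category.assoc]))
        (isOverPt_iff.2 (by rw [pt_dlift, hy']))
    exact ⟨V, ht, α, by rw [h, hα, Category.assoc]⟩

end Groth.Agent.S19949
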