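import Groth.Statements.S19950
import Groth.Agent.AVThetaLib.RankKL
import Groth.Agent.AVThetaLib.Radical

set_option backward.isDefEq.respectTransparency false
set_option maxHeartbeats 1000000

set_option autoImplicit false
universe u
open CategoryTheory MonoidalCategory CartesianMonoidalCategory MonObj GrpObj AlgebraicGeometry
open ThetaGrp AVThetaLib CubeConsLib

namespace Groth.Agent.S19950

/-- Let k be an algebraically closed field, X an abelian variety over k (a proper, geometrically
integral, commutative k-group scheme) and L a non-degenerate invertible O_X-module: for a closed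
immersion i : K → X exhibiting K as K(L) (the maximal closed subscheme of X over which the Mumford
bundle m^*L ⊗ p_1^*L⁻¹ ⊗ p_2^*L⁻¹, restricted to X ×_k K, is the inverse image of an invertible
module on K, with its universal property) the scheme K is finite over k. Then the theta group G(L)
is non-degenerate, in the form: the multiplicative group is the whole centre of G(L), i.e. the
commutator pairing e_L on K(L) has trivial kernel. Concretely, for a k-scheme T and a T-valued point
y of K such that i(y) is orthogonal to every point of K(L) — after every base change T' → T, every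
point of G(L)(T') lying over the translation by i(y) commutes with every point lying over the
translation by a point of K — the point i(y) is the unit. (The source states the corollary over any
field, as an isomorphism K(L) ≅ K(L)^D; it is given here over an algebraically closed field, where
the argument through a maximal totally isotropic subgroup applies, and in the centre form, which for
finite K(L) the source notes is equivalent.) -/
theorem result (k : Type u) [Field k] [IsAlgClosed k]
    (A : Over (Spec (CommRingCat.of k))) [GrpObj A] [IsCommMonObj A] [IsProper A.hom] [GeometricallyIntegral A.hom]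
    (L : A.left.Modules) (hL : PicF.IsInvertible L)
    (K : Over (Spec (CommRingCat.of k))) (iK : K ⟶ A) (hK : ThetaGrp.IsKL A L iK) [IsFinite K.hom]
    (T : Over (Spec (CommRingCat.of k))) (y : T ⟶ K)
    (hy : ThetaGrp.IsPerpPt L iK (y ≫ iK)) :
    y ≫ iK = 1 := by
  obtain ⟨R, hRg, iR, hRm, hRcl, hRfin, hR0, hRiso, hRuniv, hRperp⟩ := exists_radical hL hK
  obtain ⟨B, hBg, hBp, hBi, f, hfm, hffin, hfs, M, hM, hN, ⟨e⟩, hchar⟩ := exists_perp_quotient hL iR hR0 hRiso
  haveI := AbSchLib.flat_of_surjective f
  let b₀ : B.left := (η[B] : 𝟙_ (Over (Spec (CommRingCat.of k))) ⟶ B).left (IsLocalRing.closedPoint k)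
  have hd : ∀ b, f.left.finrank b = f.left.finrank b₀ := fun b => AVAmpleLib.finrank_const f b b₀
  have hdpos : 0 < f.left.finrank b₀ := by
    obtain ⟨a, ha⟩ := f.left.surjective b₀
    rw [← ha]
    exact Scheme.Hom.one_le_finrank_map f.left a
  obtain ⟨r, hr0, hsq, hlin, -⟩ := exists_rank_relation hL hM e hK hd (IsLocalRing.closedPoint k)
  have h1 := hlin fun x hx => (hchar K x).2 ⟨mumfordZero_of_factors hL hK ⟨𝟙 K, by rw [hx, Category.id_comp]⟩, by
    rw [hx, show iK = 𝟙 K ≫ iK from (Category.id_comp iK).symm]
    exact hRperp K (𝟙 K)⟩
  have hd1 : f.left.finrank b₀ = 1 := by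
    have h2 := hsq.symm.trans h1
    refine Nat.eq_of_mul_eq_mul_left (Nat.mul_pos hdpos hr0) ?_
    rw [Nat.mul_one]
    exact (show _ = f.left.finrank b₀ ^ 2 * r by ring).trans h2
  haveI : Flat R.hom := inferInstance
  haveI : IsIso R.hom := (Scheme.Hom.isIso_iff_finrank_eq _).2
    (funext fun t => (finrank_kernel hN hd t).trans hd1)
  obtain ⟨z, hz⟩ := hRuniv T y hy
  have e1 : z = 1 := Over.OverMorphism.ext ((cancel_mono R.hom).1 ((Over.w z).trans (Over.w (1 : T ⟶ R)).symm))
  rw [← hz, e1, MonObj.one_comp]

end Groth.Agent.S19950
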