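import Groth.Statements.S19952
import Groth.Agent.AVThetaLib.QuotKernel

set_option backward.isDefEq.respectTransparency false
set_option maxHeartbeats 1000000

set_option autoImplicit false
universe u
open CategoryTheory MonoidalCategory CartesianMonoidalCategory MonObj GrpObj AlgebraicGeometry
open ThetaGrp AVThetaLib

namespace Groth.Agent.S19952

/-- Let X be an abelian variety over a field k (a proper, geometrically integral, commutative k-group
scheme), L an invertible O_X-module, and G a k-group scheme with a point u ∈ G(L)(G) representing
the theta group of L (every point of G(L)(T) is the base change of u along a unique T → G,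
multiplicatively). Let j : H → G be a level subgroup — H a k-group scheme, j a homomorphism of group
schemes and an immersion, such that a point of H whose image lies over the identity translation is
trivial — and let i_H : H → X be the morphism it lies over: for every k-scheme T and T-valued point
h of H the base change of u along j(h) lies over the translation by i_H(h). Then there are an
abelian variety Y over k (proper, geometrically integral k-group scheme), a surjective homomorphism
f : X → Y whose kernel is i_H (i_H and f form a cartesian square with the unit section of Y), and an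
invertible O_Y-module M with f^*M ≅ L. (The source states a bijection between level subgroups and
isomorphism classes of such pairs (f, M); this row is the existence of a pair for a given level
subgroup.) -/
theorem result (k : Type u) [Field k]
    (A : Over (Spec (CommRingCat.of k))) [GrpObj A] [IsCommMonObj A] [IsProper A.hom] [GeometricallyIntegral A.hom]
    (L : A.left.Modules) (hL : PicF.IsInvertible L)
    (G : Over (Spec (CommRingCat.of k))) [GrpObj G] (u : ThetaGrp.thetaPts A L G)
    (hG : ThetaGrp.IsThetaGrpSch A L G u)
    (H : Over (Spec (CommRingCat.of k))) [GrpObj H] (j : H ⟶ G) (hj : ThetaGrp.IsLevelSubgrp u j)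
    (iH : H ⟶ A)
    (hover : ∀ (T : Over (Spec (CommRingCat.of k))) (h : T ⟶ H) (β : ThetaGrp.thetaPts A L T),
      ThetaGrp.IsBaseChange β (h ≫ j) u → ThetaGrp.IsOverPt β (h ≫ iH)) :
    ∃ (B : Over (Spec (CommRingCat.of k))) (_ : GrpObj B) (f : A ⟶ B),
      IsProper B.hom ∧ GeometricallyIntegral B.hom ∧ IsMonHom f ∧ Surjective f.left ∧
      AlgGrp.IsKernel iH f ∧
      ∃ M : B.left.Modules, PicF.IsInvertible M ∧ Nonempty ((Scheme.Modules.pullback f.left).obj M ≅ L) := by
  obtain ⟨hjI, hjM, hj1⟩ := hj
  haveI := hjI
  haveI := hjM
  have hover' : ∀ (T : Over (Spec (CommRingCat.of k))) (h : T ⟶ H), pt (bc (h ≫ j) u) = h ≫ iH := fun T h =>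
    pt_eq_of_isOverPt (hover T h _ (isBaseChange_iff.2 rfl))
  have hmul : ∀ (T : Over (Spec (CommRingCat.of k))) (a b : T ⟶ G), bc (a * b) u = bc a u * bc b u := fun T a b =>
    (isBaseChange_iff.1 (hG.mul T a b _ _ (isBaseChange_iff.2 rfl) (isBaseChange_iff.2 rfl))).symm
  haveI hmon : IsMonHom iH := isMonHom_of_mul iH fun T x y => by
    rw [← hover', ← hover', ← hover', MonObj.mul_comp, hmul, pt_mul, mul_comm]
  haveI : Mono iH := ⟨fun {T} x y h => by
    have h1 : (x * y⁻¹) ≫ iH = 1 := by rw [MonObj.mul_comp, GrpObj.inv_comp, h, mul_inv_cancel]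
    have h2 := hj1 T (x * y⁻¹) _ (isBaseChange_iff.2 rfl) (isOverPt_iff.2 (by rw [hover', h1]))
    exact mul_inv_eq_one.1 h2⟩
  obtain ⟨hft, hqc⟩ := finiteType_of_isThetaGrpSch hL hG
  haveI := hft
  haveI := hqc
  haveI : IsLocallyNoetherian G.left := LocallyOfFiniteType.isLocallyNoetherian G.hom
  haveI : AlgebraicGeometry.IsNoetherian G.left := ⟨⟩
  haveI : CompactSpace H.left := ⟨by
    rw [j.left.isEmbedding.isCompact_iff]
    exact TopologicalSpace.NoetherianSpace.isCompact _⟩
  haveI : LocallyOfFiniteType H.hom := by rw [← Over.w j]; infer_instance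
  haveI : A.left.IsSeparated := ⟨by
    rw [Limits.terminalIsTerminal.hom_ext (Limits.terminal.from A.left) (A.hom ≫ Limits.terminal.from _)]; infer_instance⟩
  haveI : QuasiCompact iH.left := inferInstance
  haveI : IsClosedImmersion iH.left := Groth.Agent.GrpHom.isClosedImmersion_of_mono_artinian iH
  obtain ⟨B, gB, f, hB1, hB2, hf1, hf2, hker⟩ := exists_quotient_kernel A iH
  exact ⟨B, gB, f, hB1, hB2, hf1, hf2, hker, exists_descent_of_lift hker hL hG hover'⟩

end Groth.Agent.S19952
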