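import Groth.Statements.S19954
import Groth.Agent.AVThetaLib.Push

set_option backward.isDefEq.respectTransparency false
set_option maxHeartbeats 1000000

set_option autoImplicit false
universe u
open CategoryTheory MonoidalCategory CartesianMonoidalCategory MonObj GrpObj AlgebraicGeometry
open ThetaGrp AVThetaLib CubeConsLib
open scoped commutatorElement

namespace Groth.Agent.S19954

/-- Let f : X → Y be a homomorphism of abelian varieties over a field k (proper, geometrically integral,
commutative k-group schemes), L an invertible O_Y-module, and i_K : K → Y a closed immersion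
exhibiting K as K(L), the maximal closed subscheme of Y over which the Mumford bundle m^*L ⊗
p_1^*L⁻¹ ⊗ p_2^*L⁻¹, restricted to Y ×_k K, is the inverse image of an invertible module on K, with
its universal property. The identity e_{f^*L} = e_L ∘ (f, f) on f⁻¹(K(L)) is stated here through the
vanishing of the two commutator pairings: for a k-scheme H and a k-morphism i_H : H → X such that f
∘ i_H factors through i_K, the pairing e_L is trivial on the image of H in Y — for every k-scheme T,
any two points of G(L)(T) lying over the translations by f(i_H(h₁)), f(i_H(h₂)) for T-valued points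
h₁, h₂ of H commute — if and only if e_{f^*L} is trivial on H: any two points of G(f^*L)(T) lying
over the translations by i_H(h₁), i_H(h₂) commute. -/
theorem result (k : Type u) [Field k]
    (A : Over (Spec (CommRingCat.of k))) [GrpObj A] [IsCommMonObj A] [IsProper A.hom] [GeometricallyIntegral A.hom]
    (B : Over (Spec (CommRingCat.of k))) [GrpObj B] [IsCommMonObj B] [IsProper B.hom] [GeometricallyIntegral B.hom]
    (f : A ⟶ B) [IsMonHom f]
    (L : B.left.Modules) (hL : PicF.IsInvertible L)
    (K : Over (Spec (CommRingCat.of k))) (iK : K ⟶ B) (hK : ThetaGrp.IsKL B L iK)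
    (H : Over (Spec (CommRingCat.of k))) (iH : H ⟶ A) (hH : ∃ y : H ⟶ K, y ≫ iK = iH ≫ f) :
    ThetaGrp.IsIsotropic L (iH ≫ f) ↔
      ThetaGrp.IsIsotropic ((Scheme.Modules.pullback f.left).obj L) iH := by
  have hM := AmpleDevLib.isInvertible_pb f.left hL
  have hmz : ∀ (T : Over (Spec (CommRingCat.of k))) (x : T ⟶ H), MumfordZero hL ((x ≫ iH) ≫ f) := by
    intro T x
    obtain ⟨y, hy⟩ := hH
    exact mumfordZero_of_factors hL hK ⟨x ≫ y, by rw [Category.assoc, hy, Category.assoc]⟩
  have hmz' : ∀ (T : Over (Spec (CommRingCat.of k))) (x : T ⟶ H), MumfordZero hM (x ≫ iH) := fun T x =>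
    mumfordZero_pullback hL (hmz T x)
  constructor
  · intro hiso T x y β₁ β₂ h₁ h₂
    rw [isOverPt_iff] at h₁ h₂
    have h1 : IsPairing L ((x ≫ iH) ≫ f) ((y ≫ iH) ≫ f) 1 := fun U g α β hα hβ => by
      rw [map_one, map_one, commutatorElement_eq_one_iff_mul_comm]
      exact hiso U (g ≫ x) (g ≫ y) α β (isOverPt_iff.2 (by rw [hα]; simp only [Category.assoc]))
        (isOverPt_iff.2 (by rw [hβ]; simp only [Category.assoc]))
    exact (h1.pullback hL (hmz T x) (hmz T y)).commute hM β₁ β₂ h₁ h₂
  · intro hiso T x y β₁ β₂ h₁ h₂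
    rw [isOverPt_iff] at h₁ h₂
    obtain ⟨c, hc⟩ := exists_pairing hL (hmz T x) (hmz T y)
    have h1 : IsPairing ((Scheme.Modules.pullback f.left).obj L) (x ≫ iH) (y ≫ iH) 1 := fun U g α β hα hβ => by
      rw [map_one, map_one, commutatorElement_eq_one_iff_mul_comm]
      exact hiso U (g ≫ x) (g ≫ y) α β (isOverPt_iff.2 (by rw [hα, Category.assoc]))
        (isOverPt_iff.2 (by rw [hβ, Category.assoc]))
    obtain rfl := pairing_unique hM (hmz' T x) (hmz' T y) (hc.pullback hL (hmz T x) (hmz T y)) h1
    exact hc.commute hL β₁ β₂ (by rw [h₁, Category.assoc]) (by rw [h₂, Category.assoc])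

end Groth.Agent.S19954
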