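import Groth.Statements.S19956
import Groth.Agent.AVThetaLib.Perp

set_option backward.isDefEq.respectTransparency false
set_option maxHeartbeats 1000000

set_option autoImplicit false
universe u
open CategoryTheory MonoidalCategory CartesianMonoidalCategory MonObj GrpObj AlgebraicGeometry
open ThetaGrp AVThetaLib CubeConsLib

namespace Groth.Agent.S19956

/-- Let f : X → Y be a surjective homomorphism of abelian varieties over a field k (proper,
geometrically integral, commutative k-group schemes), i : N → X its kernel (a homomorphism forming a
cartesian square with the unit section of Y), M an invertible O_Y-module and L = f^*M. Let G be a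
k-group scheme with a point u ∈ G(L)(G) representing the theta group of L (every point of G(L)(T) is
the base change of u along a unique T → G, multiplicatively), and j : N → G a level subgroup lying
over i: a homomorphism of group schemes and an immersion such that a point of N whose image lies
over the identity translation is trivial, and such that for every T-valued point n of N the base
change of u along j(n) lies over the translation by i(n). Let i_M : K_M → Y be a closed immersion
exhibiting K_M as K(M) (the maximal closed subscheme of Y over which the Mumford bundle of M,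
restricted to Y ×_k K_M, is the inverse image of an invertible module on K_M, with its universal
property). For a k-scheme T, a T-valued point g of G and the T-valued point x of X under it (the
base change of u along g lies over the translation by x): g lies in the centralizer of j(N) — for
every T' → T and every T'-valued point n of N, the restriction of g commutes with j(n) in the group
G(T') — if and only if f(x) factors through i_M. (The source states this for the level subgroup
attached to the descent M; by the source's description of f⁻¹(K(M)) as Ker(f)^⊥ both sides depend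
only on Ker(f), so it is stated for any level structure over i. The identification of G(M) with the
centralizer modulo j(N) is not part of this statement.) -/
theorem result (k : Type u) [Field k]
    (A : Over (Spec (CommRingCat.of k))) [GrpObj A] [IsCommMonObj A] [IsProper A.hom] [GeometricallyIntegral A.hom]
    (B : Over (Spec (CommRingCat.of k))) [GrpObj B] [IsCommMonObj B] [IsProper B.hom] [GeometricallyIntegral B.hom]
    (f : A ⟶ B) [IsMonHom f] (hf : Surjective f.left)
    (N : Over (Spec (CommRingCat.of k))) [GrpObj N] (i : N ⟶ A) [IsMonHom i] (hN : AlgGrp.IsKernel i f)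
    (M : B.left.Modules) (hM : PicF.IsInvertible M)
    (G : Over (Spec (CommRingCat.of k))) [GrpObj G]
    (u : ThetaGrp.thetaPts A ((Scheme.Modules.pullback f.left).obj M) G)
    (hG : ThetaGrp.IsThetaGrpSch A ((Scheme.Modules.pullback f.left).obj M) G u)
    (j : N ⟶ G) [IsMonHom j] (hj : ThetaGrp.IsLevelSubgrp u j)
    (hover : ∀ (T : Over (Spec (CommRingCat.of k))) (n : T ⟶ N)
      (β : ThetaGrp.thetaPts A ((Scheme.Modules.pullback f.left).obj M) T),
      ThetaGrp.IsBaseChange β (n ≫ j) u → ThetaGrp.IsOverPt β (n ≫ i))
    (KM : Over (Spec (CommRingCat.of k))) (iM : KM ⟶ B) (hKM : ThetaGrp.IsKL B M iM)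
    (T : Over (Spec (CommRingCat.of k))) (g : T ⟶ G) (x : T ⟶ A)
    (β : ThetaGrp.thetaPts A ((Scheme.Modules.pullback f.left).obj M) T)
    (hβ : ThetaGrp.IsBaseChange β g u) (hx : ThetaGrp.IsOverPt β x) :
    (∀ (T' : Over (Spec (CommRingCat.of k))) (t : T' ⟶ T) (n : T' ⟶ N),
        (t ≫ g) * (n ≫ j) = (n ≫ j) * (t ≫ g)) ↔
      ∃ y : T ⟶ KM, y ≫ iM = x ≫ f := by
  haveI := hf
  have hL := AmpleDevLib.isInvertible_pb f.left hM
  rw [isBaseChange_iff] at hβ
  have hx' : pt β = x := pt_eq_of_isOverPt hx
  have hjn : ∀ (T' : Over (Spec (CommRingCat.of k))) (n : T' ⟶ N), pt (bc (n ≫ j) u) = n ≫ i := fun T' n =>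
    pt_eq_of_isOverPt (hover T' n _ (isBaseChange_iff.2 rfl))
  have hmul : ∀ (T' : Over (Spec (CommRingCat.of k))) (a b : T' ⟶ G), bc (a * b) u = bc a u * bc b u := fun T' a b =>
    (isBaseChange_iff.1 (hG.mul T' a b _ _ (isBaseChange_iff.2 rfl) (isBaseChange_iff.2 rfl))).symm
  constructor
  · intro h
    refine (hKM.univ T (x ≫ f)).1 ((mumfordTriv_iff hM _).2 ?_)
    obtain ⟨α, hα⟩ := exists_pts_of_commute hM β fun T' g' m hm => by
      obtain ⟨n, hn⟩ := exists_lift_kernel hN m hm
      refine (commute_congr hL (α := bc g' β) (β := bc (n ≫ j) u) rfl (by rw [hjn, pt_dlift, hn])).1 ?_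
      rw [hβ, bc_bc, ← hmul, ← hmul, h T' g' n]
    rw [← hx', ← hα]
    exact mumfordZero_of_pts hM α
  · intro hy T' t n
    have hmz := mumfordZero_comp hM (mumfordZero_of_factors hM hKM hy) t
    have key : bc ((t ≫ g) * (n ≫ j)) u = bc ((n ≫ j) * (t ≫ g)) u := by
      rw [hmul, hmul, ← bc_bc, ← hβ]
      refine commute_of_mumfordZero hM ?_ ?_
      · rw [pt_bc, hx', Category.assoc]
        exact hmz
      · rw [hjn]
        exact kernel_comp f hN n
    exact (hG.univ T' _).unique (isBaseChange_iff.2 rfl) (isBaseChange_iff.2 key)

end Groth.Agent.S19956
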