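import Groth.Statements.S19963
import Mathlib
import Groth.Agent.MonicCancelLib.Basic
-- import your own Groth.Agent.* helpers here

set_option autoImplicit false
open Polynomial TensorProduct
universe u
open CAlg

namespace Groth.Agent.S19963

/-- Let A be a commutative ring and let A(t) denote the localization of the polynomial ring A[t] at the
multiplicative subset of monic polynomials, viewed as an A-algebra. If P and P' are finitely
generated projective A-modules such that A(t) ⊗_A P and A(t) ⊗_A P' are isomorphic A(t)-modules,
then P and P' are isomorphic A-modules: non-isomorphic finite projective modules stay non-isomorphic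
over A(t). (The published statement also covers base change to the ring A((t)) of Laurent power
series, and modules over A(t) itself; only the A(t) assertion for modules over A is stated.) -/
theorem result
    (A : Type u) [CommRing A] (M : Submonoid A[X]) (hM : ∀ f : A[X], f ∈ M ↔ f.Monic)
    (At : Type u) [CommRing At] [Algebra A[X] At] [IsLocalization M At]
    [Algebra A At] [IsScalarTower A A[X] At]
    (P P' : Type u) [AddCommGroup P] [Module A P] [Module.Finite A P] [Module.Projective A P]
    [AddCommGroup P'] [Module A P'] [Module.Finite A P'] [Module.Projective A P']
    (h : Nonempty ((At ⊗[A] P) ≃ₗ[At] (At ⊗[A] P'))) :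
    Nonempty (P ≃ₗ[A] P') := by
  obtain ⟨e⟩ := h
  exact MonicCancelLib.of_lift M (AlgEquiv.refl (R := A) (A₁ := LaurentSeries A))
    (Polynomial.aeval (HahnSeries.single (-1 : ℤ) (1 : A) : LaurentSeries A))
    (fun f => MonicCancelLib.isUnit_eval_of_monic f.1 ((hM f.1).mp f.2)) e

end Groth.Agent.S19963
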