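import Groth.Statements.S19967
import Mathlib.AlgebraicGeometry.Morphisms.SchemeTheoreticallyDominant

set_option autoImplicit false
universe u
open CategoryTheory CategoryTheory.Limits AlgebraicGeometry
open FlatMor

namespace Groth.Agent.S19967

/-- Let f : S' → S be a flat morphism of locally Noetherian schemes, i : C → S and i' : C' → S' closed
immersions with C and C' integral, and g : C' → C with g ≫ i = i' ≫ f. Let φ : C' → C ×_S S' be the
induced morphism and η ∈ S the image of the generic point of C. If φ becomes an isomorphism after
base change along the canonical morphism Spec O_{S,η} → S (that is, after pulling back to (C ×_S S')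
×_S Spec O_{S,η}), then φ is an isomorphism. (In the source S and S' are excellent surfaces over an
algebraically closed field, C and C' regular curves not inside the singular loci, and the
isomorphism over Spec O_{S,η} is part of the definition of a morphism of surface-curve pairs; those
extra hypotheses play no part.) -/
theorem result
    {S S' C C' : Scheme.{u}} [IsLocallyNoetherian S] [IsLocallyNoetherian S']
    (f : S' ⟶ S) [Flat f] (i : C ⟶ S) [IsClosedImmersion i] [IsIntegral C]
    (i' : C' ⟶ S') [IsClosedImmersion i'] [IsIntegral C']
    (g : C' ⟶ C) (hsq : g ≫ i = i' ≫ f)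
    (hgen : IsIso (pullback.snd (pullback.lift g i' hsq)
      (pullback.fst (pullback.fst i f ≫ i) (S.fromSpecStalk (i.base (genericPoint C)))))) :
    IsIso (pullback.lift g i' hsq) := by
  let φ := pullback.lift g i' hsq
  let η := i.base (genericPoint C)
  let s := S.fromSpecStalk η
  haveI : IsClosedImmersion φ := by
    haveI : IsClosedImmersion (φ ≫ pullback.snd i f) := by
      rw [show φ ≫ pullback.snd i f = i' from pullback.lift_snd _ _ _]; infer_instance
    exact IsClosedImmersion.of_comp φ (pullback.snd i f)
  haveI : QuasiCompact s := by
    have h1 : QuasiCompact (s ≫ specULiftZIsTerminal.from S) :=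
      (HasAffineProperty.iff_of_isAffine (P := @QuasiCompact)).2 inferInstance
    exact QuasiCompact.of_comp s (specULiftZIsTerminal.from S)
  haveI : IsDominant (pullback.fst i s) := by
    obtain ⟨p, hp, -⟩ := Scheme.Pullback.exists_preimage_pullback (f := i) (g := s) (genericPoint C)
      (IsLocalRing.closedPoint _) (Scheme.fromSpecStalk_closedPoint).symm
    refine ⟨dense_iff_closure_eq.2 (Set.eq_univ_of_univ_subset ?_)⟩
    rw [← genericPoint_spec C]
    exact closure_mono (Set.singleton_subset_iff.2 ⟨p, hp⟩)
  haveI : IsSchemeTheoreticallyDominant (pullback.fst i s) := .of_isDominant _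
  let j := pullback.fst (pullback.fst i f ≫ i) s
  have hj : j.ker = ⊥ := by
    have e : (pullbackRightPullbackFstIso i s (pullback.fst i f)).inv ≫ pullback.fst (pullback.fst i f) (pullback.fst i s) = j :=
      pullbackRightPullbackFstIso_inv_fst _ _ _
    haveI : IsSchemeTheoreticallyDominant j := by rw [← e]; infer_instance
    exact j.ker_eq_bot
  haveI := hgen
  rw [IsClosedImmersion.isIso_iff_ker_eq_bot, ← le_bot_iff, ← hj]
  show φ.ker ≤ j.ker
  have e : (inv (pullback.snd φ j) ≫ pullback.fst φ j) ≫ φ = j := by
    exact (Category.assoc _ _ _).trans ((congrArg _ pullback.condition).trans (IsIso.inv_hom_id_assoc _ _))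
  exact (Scheme.Hom.le_ker_comp (inv (pullback.snd φ j) ≫ pullback.fst φ j) φ).trans (congrArg Scheme.Hom.ker e).le

end Groth.Agent.S19967
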