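import Groth.Statements.S19969
import Groth.Agent.WeilResLib.Stable


-- import your own Groth.Agent.* helpers here

set_option autoImplicit false
universe u
open CategoryTheory MonoidalCategory CartesianMonoidalCategory AlgebraicGeometry
open AlgGrp

namespace Groth.Agent.S19969

/-- Let k be a field, X and Y arbitrary k-schemes and a : Y ×_k X → X a k-morphism such that every open
subscheme U of X is stable under a, in the sense that the preimage of U under the projection Y ×_k X
→ X is contained in the preimage of U under a. Consider the subfunctor X^a of X whose T-valued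
points, for a k-scheme T, are the k-morphisms x : T → X with a ∘ (id_Y × x) = x ∘ pr_T as morphisms
Y ×_k T → X. Then X^a is represented by a closed subscheme of X: there is a closed immersion j : Z →
X over k lying in X^a(Z) through which every element of X^a(T) factors. Neither separatedness of X
nor any finiteness condition on X or Y is assumed. -/
theorem result (k : Type u) [Field k]
    (X Y : Over (Spec (CommRingCat.of k))) (a : Y ⊗ X ⟶ X)
    (hstab : ∀ U : X.left.Opens, (CartesianMonoidalCategory.snd Y X).left ⁻¹ᵁ U ≤ a.left ⁻¹ᵁ U) :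
    ∃ (Z : Over (Spec (CommRingCat.of k))) (j : Z ⟶ X), IsClosedImmersion j.left ∧
      (Y ◁ j) ≫ a = CartesianMonoidalCategory.snd Y Z ≫ j ∧
      ∀ (T : Over (Spec (CommRingCat.of k))) (x : T ⟶ X),
        (Y ◁ x) ≫ a = CartesianMonoidalCategory.snd Y T ≫ x → ∃ z : T ⟶ Z, z ≫ j = x := by
  let a0 : X ⊗ Y ⟶ X := lift (snd X Y) (fst X Y) ≫ a
  obtain ⟨Z, z, hz, hZ⟩ := Groth.Agent.WeilRes.exists_fixed_of_stable a0
    (Groth.Agent.WeilRes.isEssentiallyFree_of_field Y.hom) (fun U w hw => by
      show a.left ((lift (snd X Y) (fst X Y)).left w) ∈ U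
      refine hstab U ?_
      show (snd Y X).left ((lift (snd X Y) (fst X Y)).left w) ∈ U
      rw [← Scheme.Hom.comp_apply, ← Over.comp_left, lift_snd]
      exact hw)
  have key : ∀ (T : Over (Spec (CommRingCat.of k))) (x : T ⟶ X), (∃ w : T ⟶ Z, w ≫ z = x) ↔
      (Y ◁ x) ≫ a = snd Y T ≫ x := by
    intro T x
    refine (hZ T x).trans ⟨fun h => ?_, fun h S'' s y => ?_⟩
    · have e := h (Y ⊗ T) (snd Y T) (fst Y T)
      simp only [a0, comp_lift_assoc, lift_fst, lift_snd] at e
      rwa [show Y ◁ x = lift (fst Y T) (snd Y T ≫ x) from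
        CartesianMonoidalCategory.hom_ext _ _ (by simp) (by simp)]
    · have e := congrArg (lift y s ≫ ·) h
      simp only [← Category.assoc] at e
      rw [lift_whiskerLeft] at e
      simp only [a0, comp_lift_assoc, lift_fst, lift_snd]
      exact e.trans (by rw [lift_snd])
  exact ⟨Z, z, hz, (key Z z).1 ⟨𝟙 Z, Category.id_comp z⟩, fun T x h => (key T x).2 h⟩

end Groth.Agent.S19969
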