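import Groth.Statements.S1997
import Mathlib.RingTheory.Flat.Tensor
import Mathlib.Algebra.Category.Ring.Epi
import Mathlib.RingTheory.IntegralClosure.IntegrallyClosed
import Mathlib.RingTheory.IntegralClosure.IsIntegralClosure.Basic
-- import your own Groth.Agent.* helpers here

set_option autoImplicit false
universe u
open CategoryTheory
open EtAlg

namespace Groth.Agent.S1997

open TensorProduct

theorem flat_submodule {A M : Type u} [CommRing A] (hA : ∀ I : Ideal A, Module.Flat A I)
    [AddCommGroup M] [Module A M] [Module.Flat A M] (N : Submodule A M) : Module.Flat A N := by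
  rw [Module.Flat.iff_rTensor_injective']
  intro I
  have := hA I
  have h1 := Module.Flat.lTensor_preserves_injective_linearMap (M := I) N.subtype N.subtype_injective
  have h2 := (Module.Flat.iff_rTensor_injective'.1 (inferInstance : Module.Flat A M)) I
  have h3 := h2.comp h1
  rw [← LinearMap.coe_comp, LinearMap.rTensor_comp_lTensor, ← LinearMap.lTensor_comp_rTensor,
    LinearMap.coe_comp] at h3
  exact h3.of_comp

/-- Let A be a ring all of whose ideals are flat (weak dimension at most one) and A -> B a flat,
injective ring map which is an epimorphism in the category of commutative rings. Then A is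
integrally closed in B. -/
theorem result (A B : Type u) [CommRing A] [CommRing B] [Algebra A B]
    (hA : ∀ I : Ideal A, Module.Flat A I) [Module.Flat A B] (hinj : Function.Injective (algebraMap A B))
    (hepi : Epi (CommRingCat.ofHom (algebraMap A B))) : IsIntegrallyClosedIn A B := by
  have hB : Algebra.IsEpi A B := CommRingCat.epi_iff_epi.1 hepi
  refine isIntegrallyClosedIn_iff.2 ⟨hinj, fun {x} hx => ?_⟩
  let C := Algebra.adjoin A ({x} : Set B)
  have : Module.Finite A C :=
    Module.Finite.iff_fg.2 hx.fg_adjoin_singleton
  have : Module.Flat A C := flat_submodule hA (Subalgebra.toSubmodule C)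
  have hCi : Function.Injective C.val.toLinearMap := Subtype.val_injective
  have : Algebra.IsEpi A C := by
    refine (Algebra.isEpi_iff_forall_one_tmul_eq A C).2 fun c => ?_
    apply (Module.Flat.rTensor_preserves_injective_linearMap (M := B) _ hCi).comp
      (Module.Flat.lTensor_preserves_injective_linearMap (M := C) _ hCi)
    simpa using (Algebra.isEpi_iff_forall_one_tmul_eq A B).1 hB (c : B)
  obtain ⟨a, ha⟩ := (Algebra.isEpi_iff_surjective_algebraMap_of_finite.1 this) ⟨x, Algebra.subset_adjoin rfl⟩
  exact ⟨a, congrArg Subtype.val ha⟩

end Groth.Agent.S1997
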