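import Groth.Statements.S19974
import Mathlib

set_option autoImplicit false
universe u v w x
open scoped BigOperators
open DefMod

namespace Groth.Agent.S19974

theorem core {O : Type v} [CommRing O] {D : Type w} [Ring D] (δ : O → O) (ι : O →+* D) (d : D)
    (hd : ∀ f : O, d * ι f = ι f * d + ι (δ f))
    (hbasis : Function.Bijective (fun c : ℕ →₀ O => c.sum (fun i f => ι f * d ^ i)))
    {T : Type x} [Ring T] (φ : O →+* T) (d' : T) (hd' : ∀ f : O, d' * φ f = φ f * d' + φ (δ f)) :
    ∃ Φ : D →+ T, (∀ P Q, Φ (P * Q) = Φ P * Φ Q) ∧ (∀ f, Φ (ι f) = φ f) ∧ Φ d = d' := by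
  let F : (ℕ →₀ O) →+ T :=
    { toFun := fun c => c.sum fun i f => φ f * d' ^ i
      map_zero' := Finsupp.sum_zero_index
      map_add' := fun a b => Finsupp.sum_add_index' (by simp) (by simp [add_mul]) }
  let G : (ℕ →₀ O) →+ D :=
    { toFun := fun c => c.sum fun i f => ι f * d ^ i
      map_zero' := Finsupp.sum_zero_index
      map_add' := fun a b => Finsupp.sum_add_index' (by simp) (by simp [add_mul]) }
  let G' : (ℕ →₀ O) ≃+ D := AddEquiv.ofBijective G hbasis
  let Φ : D →+ T := F.comp G'.symm.toAddMonoidHom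
  have hmon : ∀ f i, Φ (ι f * d ^ i) = φ f * d' ^ i := fun f i => by
    have : G' (Finsupp.single i f) = ι f * d ^ i := by
      show (Finsupp.single i f).sum (fun i f => ι f * d ^ i) = _
      rw [Finsupp.sum_single_index (by simp)]
    show F (G'.symm _) = _
    rw [← this, AddEquiv.symm_apply_apply]
    show (Finsupp.single i f).sum (fun i f => φ f * d' ^ i) = _
    rw [Finsupp.sum_single_index (by simp)]
  have hι : ∀ f, Φ (ι f) = φ f := fun f => by simpa using hmon f 0
  have hd0 : Φ d = d' := by simpa using hmon 1 1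
  have hgen : ∀ P, ∀ (A B : D →+ T),
      (∀ f i, A (ι f * d ^ i) = B (ι f * d ^ i)) → A P = B P := fun P A B h => by
    obtain ⟨c, rfl⟩ := hbasis.2 P
    rw [map_finsuppSum, map_finsuppSum]
    exact Finsupp.sum_congr fun i _ => h _ _
  have hι' : ∀ g P, Φ (ι g * P) = φ g * Φ P := fun g P =>
    hgen P (Φ.comp (AddMonoidHom.mulLeft (ι g)))
      ((AddMonoidHom.mulLeft (φ g)).comp Φ) (fun f i => by
        show Φ (ι g * (ι f * d ^ i)) = φ g * Φ (ι f * d ^ i)
        rw [← mul_assoc, ← map_mul, hmon, hmon, map_mul, mul_assoc])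
  have hd1 : ∀ P, Φ (d * P) = d' * Φ P := fun P =>
    hgen P (Φ.comp (AddMonoidHom.mulLeft d))
      ((AddMonoidHom.mulLeft d').comp Φ) (fun f i => by
        show Φ (d * (ι f * d ^ i)) = d' * Φ (ι f * d ^ i)
        rw [← mul_assoc, hd, add_mul, mul_assoc, ← pow_succ', map_add, hmon, hmon, hmon, ← mul_assoc, hd', add_mul,
          mul_assoc, ← pow_succ'])
  have hpow : ∀ (i : ℕ) P, Φ (d ^ i * P) = d' ^ i * Φ P := fun i => by
    induction i with
    | zero => intro P; simp
    | succ i ih => intro P; rw [pow_succ, mul_assoc, ih, hd1, ← mul_assoc, ← pow_succ]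
  refine ⟨Φ, fun P Q => ?_, hι, hd0⟩
  exact hgen P (Φ.comp (AddMonoidHom.mulRight Q))
    ((AddMonoidHom.mulRight (Φ Q)).comp Φ) (fun f i => by
      show Φ (ι f * d ^ i * Q) = Φ (ι f * d ^ i) * Φ Q
      rw [mul_assoc, hι', hpow, hmon, mul_assoc])


/-- Let K be a field of characteristic 0, O a commutative K-algebra with a K-linear derivation δ, and D
the ring of differential operators O[∂], presented abstractly as a K-algebra D with an algebra map ι
: O → D and an element ∂ of D such that ∂ ι(f) = ι(f) ∂ + ι(δ f) for every f in O and such that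
every element of D is in a unique way a finite sum of terms ι(f_i) ∂^i. Let E be a left D-module,
given as a K-vector space with a K-algebra map ρ : D → End_K(E), which is finite free as an
O-module. A K-derivation of D with values in the D-bimodule End_K(E) is a K-linear map s with s(PQ)
= s(P) ρ(Q) + ρ(P) s(Q); a K-derivation of O with values in End_K(E) is a K-linear map r with r(fg)
= r(f) ρ(ι g) + ρ(ι f) r(g). Then: (a) for every K-derivation s of D into End_K(E), the pair (r, v)
= (s ∘ ι, s(∂)) satisfies the identity [r(f), ρ(∂)] + [ρ(ι f), v] + r(δ f) = 0 for all f in O; (b)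
conversely, for every K-derivation r of O into End_K(E) and every v in End_K(E) satisfying that
identity for all f, there is exactly one K-derivation s of D into End_K(E) with s ∘ ι = r and s(∂) =
v. In other words s ↦ (s ∘ ι, s(∂)) maps the K-derivations of D injectively onto the pairs
satisfying the identity. -/
theorem result
    (K : Type u) [Field K] [CharZero K]
    (O : Type v) [CommRing O] [Algebra K O] (δ : Derivation K O O)
    (D : Type w) [Ring D] [Algebra K D] (ι : O →ₐ[K] D) (d : D)
    (hd : ∀ f : O, d * ι f = ι f * d + ι (δ f))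
    (hbasis : Function.Bijective (fun c : ℕ →₀ O => c.sum (fun i f => ι f * d ^ i)))
    (E : Type x) [AddCommGroup E] [Module K E] (ρ : D →ₐ[K] Module.End K E)
    (hE : ∃ (n : ℕ) (b : Fin n → E), Function.Bijective (fun c : Fin n → O => ∑ i, ρ (ι (c i)) (b i))) :
    (∀ s : D →ₗ[K] Module.End K E, (∀ P Q : D, s (P * Q) = s P * ρ Q + ρ P * s Q) →
      ∀ f : O, (s (ι f) * ρ d - ρ d * s (ι f)) + (ρ (ι f) * s d - s d * ρ (ι f)) + s (ι (δ f)) = 0) ∧
    ∀ (r : O →ₗ[K] Module.End K E) (v : Module.End K E),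
      (∀ f g : O, r (f * g) = r f * ρ (ι g) + ρ (ι f) * r g) →
      (∀ f : O, (r f * ρ d - ρ d * r f) + (ρ (ι f) * v - v * ρ (ι f)) + r (δ f) = 0) →
      ∃! s : D →ₗ[K] Module.End K E,
        (∀ P Q : D, s (P * Q) = s P * ρ Q + ρ P * s Q) ∧ s ∘ₗ ι.toLinearMap = r ∧ s d = v := by
  refine ⟨fun s hs f => ?_, fun r v hr hrel => ?_⟩
  · have h := congrArg s (hd f)
    rw [map_add, hs, hs] at h
    linear_combination (norm := abel) -h
  have hr1 : r 1 = 0 := by
    have h := hr 1 1
    rw [mul_one, map_one ι, map_one ρ, mul_one, one_mul] at h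
    exact left_eq_add.1 h
  let φ : O →+* TrivSqZeroExt (Module.End K E) (Module.End K E) :=
    { toFun := fun f => TrivSqZeroExt.inl (ρ (ι f)) + TrivSqZeroExt.inr (r f)
      map_one' := TrivSqZeroExt.ext (by simp) (by simp [hr1])
      map_mul' := fun f g => TrivSqZeroExt.ext (by simp) (by simp [TrivSqZeroExt.snd_mul, hr, add_comm])
      map_zero' := TrivSqZeroExt.ext (by simp) (by simp)
      map_add' := fun f g => TrivSqZeroExt.ext (by simp) (by simp) }
  let d' : TrivSqZeroExt (Module.End K E) (Module.End K E) := TrivSqZeroExt.inl (ρ d) + TrivSqZeroExt.inr v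
  have hd' : ∀ f, d' * φ f = φ f * d' + φ (δ f) := fun f => by
    refine TrivSqZeroExt.ext ?_ ?_
    · simp [φ, d', ← map_mul, ← map_add, hd f]
    · simp [φ, d', TrivSqZeroExt.snd_mul]
      linear_combination (norm := abel) -(hrel f)
  obtain ⟨Φ, hΦ, hΦι, hΦd⟩ := core δ ι.toRingHom d hd hbasis φ d' hd'
  have hfst : ∀ P, (Φ P).fst = ρ P := fun P => by
    obtain ⟨c, rfl⟩ := hbasis.2 P
    rw [map_finsuppSum, map_finsuppSum, Finsupp.sum, Finsupp.sum, TrivSqZeroExt.fst_sum]
    refine Finset.sum_congr rfl fun i _ => ?_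
    rw [hΦ, TrivSqZeroExt.fst_mul, show Φ (ι (c i)) = φ (c i) from hΦι _, map_mul ρ]
    congr 1
    · simp [φ]
    · clear ‹i ∈ c.support›
      induction i with
      | zero =>
        have h1 : Φ (d ^ 0) = φ 1 := by rw [pow_zero, ← hΦι, map_one ι.toRingHom]
        rw [h1]; simp
      | succ i ih => rw [pow_succ, hΦ, TrivSqZeroExt.fst_mul, ih, hΦd, map_mul ρ]; simp [d']
  let s : D →ₗ[K] Module.End K E :=
    { toFun := fun P => (Φ P).snd
      map_add' := fun P Q => by simp
      map_smul' := fun c P => by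
        have h : c • P = ι (algebraMap K O c) * P := by rw [AlgHom.commutes, Algebra.smul_def]
        have h0 : r (algebraMap K O c) = 0 := by rw [Algebra.algebraMap_eq_smul_one, map_smul, hr1, smul_zero]
        rw [h, hΦ, show Φ (ι (algebraMap K O c)) = φ _ from hΦι _]
        simp [φ, TrivSqZeroExt.snd_mul, h0, AlgHom.commutes, Algebra.smul_def] }
  have hsd : ∀ P Q, s (P * Q) = s P * ρ Q + ρ P * s Q := fun P Q => by
    show (Φ (P * Q)).snd = _
    rw [hΦ, TrivSqZeroExt.snd_mul, hfst, hfst, add_comm]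
    rfl
  have hsι : ∀ f, s (ι f) = r f := fun f => by
    show (Φ (ι f)).snd = _
    rw [show Φ (ι f) = φ f from hΦι f]
    simp [φ]
  have hsdd : s d = v := by show (Φ d).snd = _; rw [hΦd]; simp [d']
  refine ⟨s, ⟨hsd, LinearMap.ext hsι, hsdd⟩, ?_⟩
  rintro t ⟨ht, htι, htd⟩
  refine LinearMap.ext fun P => ?_
  have hpow : ∀ i, t (d ^ i) = s (d ^ i) := fun i => by
    induction i with
    | zero =>
      have h1 : d ^ 0 = ι 1 := by rw [pow_zero, map_one]
      rw [h1, hsι]
      exact LinearMap.congr_fun htι 1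
    | succ i ih => rw [pow_succ, ht, hsd, ih, htd, hsdd]
  obtain ⟨c, rfl⟩ := hbasis.2 P
  rw [map_finsuppSum, map_finsuppSum]
  refine Finsupp.sum_congr fun i _ => ?_
  rw [ht, hsd, hpow, hsι, show t (ι (c i)) = r (c i) from LinearMap.congr_fun htι _]
end Groth.Agent.S19974
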