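import Groth.Statements.S19977
import Groth.Agent.TorsStageLib.Main
import Groth.Agent.TorsFpqcLib.Basic
import Groth.Agent.GrpFieldLib.Uniq

set_option autoImplicit false
set_option backward.isDefEq.respectTransparency false
set_option backward.isDefEq.respectTransparency.types false
set_option maxRecDepth 8000
set_option maxHeartbeats 1000000
universe u
open CategoryTheory CategoryTheory.Limits MonoidalCategory CartesianMonoidalCategory MonObj AlgebraicGeometry
open NonAbH1

namespace Groth.Agent.S19977

/-- Let k be a field and X a quasi-compact and quasi-separated k-scheme. Let (T_i)_{i ∈ I} be a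
cofiltered inverse system of X-schemes that are affine over X, with limit T over X (in the source
the T_i are torsors over X under affine k-group schemes of finite type, forming a projective system
of torsors; only their being affine over the quasi-compact quasi-separated X enters). Let G be a
finite k-group scheme and V → T a finite T-scheme with an action of G ×_k T for which it is a
G-torsor over T for the fpqc topology. Then there exist an index i, a finite T_i-scheme V_i with an
action of G ×_k T_i making it an fpqc G-torsor over T_i, and a G-equivariant isomorphism of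
T-schemes between V_i ×_{T_i} T and V; the two base changes of G to T are compared through the
canonical isomorphism (G ×_k T_i) ×_{T_i} T ≅ G ×_k T. (The further assertions — V_i Nori-reduced
when V is, descent of morphisms of torsors, pointed versions — are not stated.) -/
theorem result (k : Type u) [Field k]
    (X : Scheme.{u}) [X.Over (Spec (CommRingCat.of k))] [CompactSpace X] [QuasiSeparatedSpace X]
    {I : Type u} [SmallCategory I] [IsCofiltered I]
    (DT : I ⥤ Over X) [∀ i, IsAffineHom (DT.obj i).hom]
    (cT : Cone DT) (hcT : IsLimit cT)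
    (G : Over (Spec (CommRingCat.of k))) [GrpObj G] [IsFinite G.hom]
    (V : Over cT.pt.left) [IsFinite V.hom]
    (a : AlgGrp.Action (Red.bc (cT.pt.hom ≫ (X ↘ Spec (CommRingCat.of k))) G) V)
    (hV : NonAbH1.IsTorsorFor Scheme.fpqcPrecoverage a) :
    ∃ (i : I) (h : (cT.π.app i).left ≫ ((DT.obj i).hom ≫ (X ↘ Spec (CommRingCat.of k))) = cT.pt.hom ≫ (X ↘ Spec (CommRingCat.of k)))
      (Vi : Over (DT.obj i).left) (ai : AlgGrp.Action (Red.bc ((DT.obj i).hom ≫ (X ↘ Spec (CommRingCat.of k))) G) Vi),
      IsFinite Vi.hom ∧ NonAbH1.IsTorsorFor Scheme.fpqcPrecoverage ai ∧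
      Nonempty (NonAbH1.EquivIso (ai.bc (cT.π.app i).left)
        (a.restrict (ActBC.bcCompIso (cT.π.app i).left ((DT.obj i).hom ≫ (X ↘ Spec (CommRingCat.of k))) G h).hom)) := by
  haveI : Limits.PreservesLimitsOfShape I (Over.forget X) := inferInstance
  let D := DT ⋙ Over.forget X
  let c : Limits.Cone D := (Over.forget X).mapCone cT
  have hc : Limits.IsLimit c := Limits.isLimitOfPreserves (Over.forget X) hcT
  haveI : ∀ (i i' : I) (f : i ⟶ i'), IsAffineHom (D.map f) := fun i i' f => by
    haveI : IsAffineHom ((DT.map f).left ≫ (DT.obj i').hom) := by rw [Over.w]; infer_instance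
    exact IsAffineHom.of_comp (DT.map f).left (DT.obj i').hom
  haveI : ∀ i, CompactSpace (D.obj i) := fun i => QuasiCompact.compactSpace_of_compactSpace (DT.obj i).hom
  haveI : ∀ i, QuasiSeparatedSpace (D.obj i) := fun i => quasiSeparatedSpace_of_quasiSeparated (DT.obj i).hom
  haveI : LocallyOfFinitePresentation G.hom := inferInstance
  haveI : Flat G.hom := Groth.Agent.GrpField.flat_field _
  haveI : Subsingleton ↥(Spec (CommRingCat.of k)) := inferInstanceAs (Subsingleton (PrimeSpectrum k))
  haveI : Surjective G.hom := by
    constructor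
    intro y
    exact ⟨((MonObj.one : 𝟙_ (Over (Spec (CommRingCat.of k))) ⟶ G).left) y, Subsingleton.elim _ _⟩
  let d := cT.pt.hom ≫ (X ↘ Spec (CommRingCat.of k))
  haveI : LocallyOfFinitePresentation V.hom := Groth.Agent.TorsFpqc.property_of_torsor @LocallyOfFinitePresentation a hV
    (MorphismProperty.pullback_snd _ _ ‹_›)
  haveI : Flat V.hom := Groth.Agent.TorsFpqc.property_of_torsor @Flat a hV (MorphismProperty.pullback_snd _ _ ‹_›)
  haveI : Surjective V.hom := Groth.Agent.TorsFpqc.property_of_torsor @Surjective a hV
    (MorphismProperty.pullback_snd _ _ ‹_›)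
  have hd : ∀ i, c.π.app i ≫ ((DT.obj i).hom ≫ (X ↘ Spec (CommRingCat.of k))) = d := fun i => by
    rw [← Category.assoc]
    exact congrArg (· ≫ _) (Over.w (cT.π.app i))
  have hq : ∀ {i j : I} (f : i ⟶ j), D.map f ≫ ((DT.obj j).hom ≫ (X ↘ Spec (CommRingCat.of k))) =
      (DT.obj i).hom ≫ (X ↘ Spec (CommRingCat.of k)) := fun {i j} f => by
    rw [← Category.assoc]
    exact congrArg (· ≫ _) (Over.w (DT.map f))
  obtain ⟨i, Vi, ai, h1, h2, h3⟩ := TorsStageLib.exists_stage (G := G) (c := c) (d := d)
    (q := fun i => (DT.obj i).hom ≫ (X ↘ Spec (CommRingCat.of k))) hq hd a hc hV.1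
  exact ⟨i, hd i, Vi, ai, h1, h2, h3⟩

end Groth.Agent.S19977
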