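import Groth.Statements.S19978
import Groth.Agent.AlbExLib.LargeGrp
import Groth.Agent.GenSubLib.SqWord
import Groth.Agent.GenSubLib.Smallest
import Groth.Agent.A1AVLib.Semi

set_option autoImplicit false
set_option backward.isDefEq.respectTransparency false
set_option backward.isDefEq.respectTransparency.types false
set_option maxRecDepth 8000
set_option maxHeartbeats 1000000
universe u
open CategoryTheory MonoidalCategory CartesianMonoidalCategory MonObj GrpObj AlgebraicGeometry CategoryTheory.Limits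
open AbVar

namespace Groth.Agent.S19978

/-- Over an algebraically closed field k, let X be an integral separated k-scheme of finite type which
is proper over k. Call large group a commutative separated k-group scheme G locally of finite type
given with a connected open subgroup scheme G⁰ (its neutral component) which is semiabelian: G⁰ has
a closed subgroup scheme T that is a torus and is the kernel of a flat surjective homomorphism from
G⁰ onto an abelian variety (a proper smooth connected k-group scheme). Let A be a large group, with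
neutral component A⁰, and u : X → A a k-morphism which is universal for morphisms to large groups
(every k-morphism from X to a large group G is u followed by a unique homomorphism A → G), i.e. (A,
u) is the Albanese scheme of X. Then A⁰ is proper over k: the neutral component of the Albanese
scheme of a proper scheme is an abelian variety. (The published statement is for any proper reduced
scheme of finite type over a perfect field; this row states the case of an integral scheme over an
algebraically closed field.) -/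
theorem result (k : Type u) [Field k] [IsAlgClosed k]
    (X : Over (Spec (CommRingCat.of k))) [IsIntegral X.left] [IsProper X.hom]
    (A : Over (Spec (CommRingCat.of k))) [GrpObj A] [IsCommMonObj A] [IsSeparated A.hom] [LocallyOfFiniteType A.hom]
    (A0 : Over (Spec (CommRingCat.of k))) [GrpObj A0] (e₀ : A0 ⟶ A) [IsMonHom e₀] [IsOpenImmersion e₀.left]
    [ConnectedSpace ↥A0.left]
    (T₀ : Over (Spec (CommRingCat.of k))) [GrpObj T₀] (i₀ : T₀ ⟶ A0) [IsMonHom i₀] [IsClosedImmersion i₀.left]
    (hT₀ : Red.IsTorus T₀)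
    (B₀ : Over (Spec (CommRingCat.of k))) [GrpObj B₀] [IsProper B₀.hom] [Smooth B₀.hom] [ConnectedSpace ↥B₀.left]
    (q₀ : A0 ⟶ B₀) [IsMonHom q₀] [Surjective q₀.left] [Flat q₀.left] (hker₀ : AlgGrp.IsKernel i₀ q₀)
    (u : X ⟶ A)
    (huniv : ∀ (G : Over (Spec (CommRingCat.of k))) [GrpObj G] [IsCommMonObj G] [IsSeparated G.hom] [LocallyOfFiniteType G.hom]
      (G0 : Over (Spec (CommRingCat.of k))) [GrpObj G0] (e : G0 ⟶ G) [IsMonHom e] [IsOpenImmersion e.left]
      [ConnectedSpace ↥G0.left]
      (T : Over (Spec (CommRingCat.of k))) [GrpObj T] (i : T ⟶ G0) [IsMonHom i] [IsClosedImmersion i.left]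
      (_ : Red.IsTorus T)
      (B : Over (Spec (CommRingCat.of k))) [GrpObj B] [IsProper B.hom] [Smooth B.hom] [ConnectedSpace ↥B.left]
      (q : G0 ⟶ B) [IsMonHom q] [Surjective q.left] [Flat q.left] (_ : AlgGrp.IsKernel i q)
      (φ : X ⟶ G), ∃! h : A ⟶ G, IsMonHom h ∧ u ≫ h = φ) :
    IsProper A0.hom := by
  haveI : LocallyOfFiniteType A0.hom := by rw [← Over.w e₀]; infer_instance
  haveI : QuasiCompact A0.hom := A1AVLib.quasiCompact_of_connected A0
  haveI : Smooth A0.hom := (SemiAbLib.IsSemiAb.props (G := A0)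
    ⟨T₀, inferInstance, i₀, B₀, inferInstance, q₀, inferInstance, inferInstance, hT₀, inferInstance, inferInstance,
      inferInstance, hker₀, inferInstance, inferInstance, inferInstance⟩).1
  haveI : IsSeparated A0.hom := Groth.Agent.GrpField.isSeparated_grp (G := A0)
  haveI := AlbExLib.isMonHom_one A
  let P := 𝟙_ (Over (Spec (CommRingCat.of k)))
  haveI : Smooth P.hom := inferInstanceAs (Smooth (𝟙 _))
  haveI : IsProper P.hom := inferInstanceAs (IsProper (𝟙 _))
  haveI : IsSeparated P.hom := inferInstanceAs (IsSeparated (𝟙 _))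
  haveI : ConnectedSpace P.left := inferInstanceAs (ConnectedSpace (PrimeSpectrum k))
  haveI hU1 : Subsingleton (P ⟶ P) := ⟨fun a b => toUnit_unique a b⟩
  haveI : Surjective (toUnit P).left := ⟨fun x => ⟨x, Subsingleton.elim (α := PrimeSpectrum k) _ _⟩⟩
  haveI : Flat (toUnit P).left := by rw [Over.toUnit_left]; exact inferInstanceAs (Flat (𝟙 _))
  haveI : IsMonHom (toUnit P) := AlbExLib.isMonHom_toUnit P
  have hTP : Red.IsTorus P := AlbExLib.isTorus_unit
  -- a rational point
  haveI : JacobsonSpace X.left := LocallyOfFiniteType.jacobsonSpace X.hom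
  obtain ⟨c, -, hc⟩ := nonempty_inter_closedPoints (Z := (Set.univ : Set X.left)) ⟨Classical.arbitrary _, trivial⟩
    isClosed_univ.isLocallyClosed
  obtain ⟨x₀, hx₀⟩ := AlbExLib.exists_point_eq c hc
  let a : P ⟶ A := x₀ ≫ u
  have hcP : ∀ {Z : Over (Spec (CommRingCat.of k))} (z : P ⟶ Z), x₀ ≫ toUnit X ≫ z = z := fun z => by
    rw [← Category.assoc, show x₀ ≫ toUnit X = 𝟙 _ from toUnit_unique _ _, Category.id_comp]
  -- no nontrivial power of the point lies in the neutral component
  have hd : ∀ (n : ℤ) (b : P ⟶ A0), b ≫ e₀ = a ^ n → n = 0 := by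
    intro n b hb
    by_contra hn
    obtain ⟨K, gK, ζ, hKc, hKf, hKe, hζ⟩ := AlbExLib.exists_finite_sep (k := k) n.natAbs (Int.natAbs_ne_zero.2 hn)
    letI := gK
    haveI := hKc; haveI := hKf; haveI := hKe
    haveI : IsMonHom η[K] := AlbExLib.isMonHom_one K
    haveI : Etale (η[K]).left := by
      haveI : Etale ((η[K]).left ≫ K.hom) := by rw [Over.w]; exact inferInstanceAs (Etale (𝟙 _))
      exact Etale.of_comp (η[K]).left K.hom
    haveI : Mono (η[K]).left := by
      haveI : IsIso ((η[K]).left ≫ K.hom) := by rw [Over.w]; exact inferInstanceAs (IsIso (𝟙 _))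
      exact mono_of_mono (η[K]).left K.hom
    haveI : IsOpenImmersion (η[K]).left := IsOpenImmersion.of_flat_of_mono _
    haveI : IsClosedImmersion (𝟙 P : P ⟶ P).left := by rw [Over.id_left]; infer_instance
    have hker : AlgGrp.IsKernel (𝟙 P) (toUnit P) := by
      refine ⟨⟨Subsingleton.elim _ _⟩, ⟨PullbackCone.IsLimit.mk _ (fun s => toUnit s.pt)
        (fun s => toUnit_unique _ _) (fun s => toUnit_unique _ _) (fun s m _ _ => toUnit_unique _ _)⟩⟩
    obtain ⟨χ, ⟨hχm, hχu⟩, -⟩ := huniv K P η[K] P (𝟙 P) hTP P (toUnit P) hker (toUnit X ≫ ζ)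
    haveI := hχm
    have hχa : a ≫ χ = ζ := by
      show (x₀ ≫ u) ≫ χ = ζ
      rw [Category.assoc, hχu, hcP]
    have hO : IsOpen (Set.range (η[K]).left.base) := (η[K]).left.isOpenEmbedding.isOpen_range
    have hC : IsClosed (Set.range (η[K]).left.base) := AlbExLib.isClosed_range_open (η[K])
    have hclop : IsClopen ((e₀ ≫ χ).left.base ⁻¹' Set.range (η[K]).left.base) :=
      ⟨hC.preimage (e₀ ≫ χ).left.continuous, hO.preimage (e₀ ≫ χ).left.continuous⟩
    have huniv' : Set.range (e₀ ≫ χ).left.base ⊆ Set.range (η[K]).left.base := by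
      rcases isClopen_iff.1 hclop with h | h
      · exfalso
        refine Set.eq_empty_iff_forall_notMem.1 h ((η[A0]).left.base (IsLocalRing.closedPoint k))
          ⟨IsLocalRing.closedPoint k, ?_⟩
        exact (congr($(IsMonHom.one_hom (e₀ ≫ χ)).left.base (IsLocalRing.closedPoint k))).symm
      · rintro _ ⟨z, rfl⟩
        exact h.ge (Set.mem_univ z)
    obtain ⟨l, hl⟩ : ∃ l : A0 ⟶ P, l ≫ η[K] = e₀ ≫ χ :=
      ⟨Over.homMk (IsOpenImmersion.lift (η[K]).left (e₀ ≫ χ).left huniv')
        (by rw [← Over.w (η[K]), ← Category.assoc, IsOpenImmersion.lift_fac, Over.w]),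
        Over.OverMorphism.ext (IsOpenImmersion.lift_fac _ _ _)⟩
    have h1 : e₀ ≫ χ = 1 := by rw [← hl, toUnit_unique l (toUnit A0), Hom.one_def]
    have h2 : (a ≫ χ) ^ n = 1 := by
      rw [← GrpObj.zpow_comp, ← hb, Category.assoc, h1, MonObj.comp_one]
    rw [hχa] at h2
    exact hζ (pow_natAbs_eq_one.2 h2)
  -- the union of the translates of the neutral component is everything
  obtain ⟨U, gU, j, s, π, t, hjm, hjo, hsj, hsm, hso, hπm, hsπ, htj, htπ⟩ := AlbExLib.exists_pieces e₀ a hd
  letI := gU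
  haveI := hjm; haveI := hjo; haveI := hsm; haveI := hso; haveI := hπm
  haveI : Mono j := Over.mono_of_mono_left j
  haveI : IsCommMonObj U := AntiAffLib.CommCat.isComm_of_mono j
  haveI : IsSeparated U.hom := by rw [← Over.w j]; infer_instance
  haveI : LocallyOfFiniteType U.hom := by rw [← Over.w j]; infer_instance
  haveI : Mono e₀ := Over.mono_of_mono_left e₀
  let g' : X ⟶ A := u * (toUnit X ≫ a)⁻¹
  have hg'u : g' * (toUnit X ≫ a) = u := by
    show u * (toUnit X ≫ a)⁻¹ * (toUnit X ≫ a) = u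
    group
  have hg'0 : x₀ ≫ g' = 1 := by
    show x₀ ≫ (u * (toUnit X ≫ a)⁻¹) = 1
    rw [MonObj.comp_mul, GrpObj.comp_inv, hcP]
    exact mul_inv_cancel (x₀ ≫ u)
  have hrg : Set.range g'.left.base ⊆ Set.range e₀.left.base := by
    have hclop : IsClopen (g'.left.base ⁻¹' Set.range e₀.left.base) :=
      ⟨(AlbExLib.isClosed_range_open e₀).preimage g'.left.continuous,
        e₀.left.isOpenEmbedding.isOpen_range.preimage g'.left.continuous⟩
    rcases isClopen_iff.1 hclop with h | h
    · exfalso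
      refine Set.eq_empty_iff_forall_notMem.1 h (x₀.left.base (IsLocalRing.closedPoint k))
        ⟨(1 : P ⟶ A0).left.base (IsLocalRing.closedPoint k), ?_⟩
      have h' : (1 : P ⟶ A0) ≫ e₀ = x₀ ≫ g' := by rw [hg'0, MonObj.one_comp]
      exact congr($(h').left.base (IsLocalRing.closedPoint k))
    · rintro _ ⟨z, rfl⟩
      exact h.ge (Set.mem_univ z)
  obtain ⟨g₀, hg₀⟩ : ∃ g : X ⟶ A0, g ≫ e₀ = g' :=
    ⟨Over.homMk (IsOpenImmersion.lift e₀.left g'.left hrg)
      (by rw [← Over.w e₀, ← Category.assoc, IsOpenImmersion.lift_fac, Over.w]),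
      Over.OverMorphism.ext (IsOpenImmersion.lift_fac _ _ _)⟩
  have htu : (g₀ ≫ t) ≫ j = u := by
    rw [Category.assoc, htj, MonObj.comp_mul, hg₀, ← Category.assoc, toUnit_unique (g₀ ≫ toUnit A0) (toUnit X), hg'u]
  obtain ⟨h, ⟨hhm, hhu⟩, -⟩ := huniv U A0 s T₀ i₀ hT₀ B₀ q₀ hker₀ (g₀ ≫ t)
  haveI := hhm
  obtain ⟨idA, -, hidu⟩ := huniv A A0 e₀ T₀ i₀ hT₀ B₀ q₀ hker₀ u
  have hhj : h ≫ j = 𝟙 A := by
    rw [hidu (h ≫ j) ⟨inferInstance, by rw [← Category.assoc, hhu, htu]⟩,
      hidu (𝟙 A) ⟨inferInstance, Category.comp_id _⟩]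
  have heh : e₀ ≫ h = s := by
    rw [← cancel_mono j, Category.assoc, hhj, Category.comp_id, hsj]
  let π' : A ⟶ A := h ≫ π
  have hπ'u : u ≫ π' = toUnit X ≫ a := by
    show u ≫ h ≫ π = _
    rw [← Category.assoc, hhu, Category.assoc, htπ, ← Category.assoc, toUnit_unique (g₀ ≫ toUnit A0) (toUnit X)]
  have hπ'e : e₀ ≫ π' = 1 := by
    show e₀ ≫ h ≫ π = 1
    rw [← Category.assoc, heh, hsπ]
  -- the subgroup generated by the pointed morphism
  haveI : GeometricallyReduced X.hom := GrpdFieldLib.geometricallyReduced_of_perfect X.hom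
  haveI : GeometricallyConnected X.hom := by
    haveI := AlbLib.geometricallyIntegral_of_isIntegral X
    exact H0Lib.geometricallyConnected_of_integral X.hom
  obtain ⟨Γ, gΓ, i, him, hic, hired, higr, hir, hiv, g, hg⟩ := Groth.Agent.GenSub.exists_generated g₀
  letI := gΓ
  haveI := him; haveI := hic; haveI := hired; haveI := higr
  haveI : Mono i := Over.mono_of_mono_left i
  haveI : LocallyOfFiniteType Γ.hom := by rw [← Over.w i]; infer_instance
  haveI : IsSeparated Γ.hom := by rw [← Over.w i]; infer_instance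
  haveI : Smooth Γ.hom := AlbLib.smooth_grp Γ
  have hx0 : x₀ ≫ g₀ = 1 := by
    rw [← cancel_mono e₀, Category.assoc, hg₀, hg'0, MonObj.one_comp]
  obtain ⟨l, hl⟩ := Groth.Agent.GenSub.exists_surjective_word g₀ i hir hiv fun x => ⟨x₀, hx0, by
    rw [PreconnectedSpace.connectedComponent_eq_univ]; trivial⟩
  obtain ⟨v, hv⟩ := hiv l
  haveI := AlbExLib.isProper_word (k := k) (X := X) l
  haveI : Surjective v.left := ⟨fun y => by
    obtain ⟨w, hw⟩ := hl ⟨y, rfl⟩
    exact ⟨w, i.left.isClosedEmbedding.injective ((congr($(hv).left.base w)).trans hw)⟩⟩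
  haveI : UniversallyClosed Γ.hom := by
    haveI : UniversallyClosed (v.left ≫ Γ.hom) := by rw [Over.w]; infer_instance
    exact UniversallyClosed.of_comp_surjective v.left Γ.hom
  haveI : IsProper Γ.hom := {}
  haveI : ConnectedSpace Γ.left := by
    have hw := (Groth.Agent.GenSub.isConnected_wordSet g₀ x₀ hx0).closure
    rw [← hir, ← Set.image_univ] at hw
    exact connectedSpace_iff_univ.2 ⟨Set.image_nonempty.1 hw.nonempty,
      i.left.isClosedEmbedding.isInducing.isPreconnected_image.1 hw.isPreconnected⟩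
  haveI : IsCommMonObj A0 := AntiAffLib.CommCat.isComm_of_mono e₀
  haveI : IsCommMonObj Γ := AntiAffLib.CommCat.isComm_of_mono i
  haveI : IsMonHom η[Γ] := AlbExLib.isMonHom_one Γ
  haveI : IsClosedImmersion (η[Γ]).left := by
    haveI : IsClosedImmersion ((η[Γ]).left ≫ Γ.hom) := by rw [Over.w]; exact inferInstanceAs (IsClosedImmersion (𝟙 _))
    exact IsClosedImmersion.of_comp (η[Γ]).left Γ.hom
  haveI : IsOpenImmersion (𝟙 Γ : Γ ⟶ Γ).left := by rw [Over.id_left]; infer_instance
  haveI : Surjective (𝟙 Γ : Γ ⟶ Γ).left := by rw [Over.id_left]; infer_instance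
  haveI : Flat (𝟙 Γ : Γ ⟶ Γ).left := by rw [Over.id_left]; infer_instance
  have hkerΓ : AlgGrp.IsKernel η[Γ] (𝟙 Γ) := by
    haveI : IsIso (toUnit P) := by rw [show toUnit P = 𝟙 P from Subsingleton.elim _ _]; infer_instance
    refine IsPullback.of_vert_isIso ⟨?_⟩
    rw [Category.comp_id, show toUnit P = 𝟙 _ from Subsingleton.elim _ _, Category.id_comp]
  obtain ⟨h₁, ⟨hh₁m, hh₁u⟩, -⟩ := huniv Γ Γ (𝟙 Γ) P η[Γ] hTP Γ (𝟙 Γ) hkerΓ g
  haveI := hh₁m
  let ρ : A ⟶ A := (h₁ ≫ i ≫ e₀) * π'
  haveI : IsMonHom π' := by show IsMonHom (h ≫ π); infer_instance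
  haveI : IsMonHom ρ := AVThetaLib.isMonHom_of_mul ρ fun T x y => by
    show (x * y) ≫ ((h₁ ≫ i ≫ e₀) * π') = x ≫ ((h₁ ≫ i ≫ e₀) * π') * y ≫ ((h₁ ≫ i ≫ e₀) * π')
    simp only [MonObj.comp_mul, MonObj.mul_comp]
    exact mul_mul_mul_comm _ _ _ _
  have hρu : u ≫ ρ = u := by
    show u ≫ ((h₁ ≫ i ≫ e₀) * π') = u
    rw [MonObj.comp_mul, hπ'u, ← Category.assoc, hh₁u, ← Category.assoc, hg, hg₀, hg'u]
  have hρ : ρ = 𝟙 A := by
    rw [hidu ρ ⟨inferInstance, hρu⟩, hidu (𝟙 A) ⟨inferInstance, Category.comp_id _⟩]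
  have hsplit : (e₀ ≫ h₁) ≫ i = 𝟙 A0 := by
    have := congrArg (fun f => e₀ ≫ f) hρ
    simp only [ρ] at this
    rw [MonObj.comp_mul, hπ'e, _root_.mul_one, Category.comp_id] at this
    rw [← cancel_mono e₀, Category.id_comp]
    simpa only [Category.assoc] using this
  haveI : IsSplitEpi i := IsSplitEpi.mk' ⟨e₀ ≫ h₁, hsplit⟩
  haveI : IsIso i := isIso_of_mono_of_isSplitEpi i
  haveI : IsIso (inv i).left := inferInstanceAs (IsIso ((Over.forget _).map (inv i)))
  rw [← Over.w (inv i)]
  infer_instance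

end Groth.Agent.S19978
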