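import Groth.Statements.S1998
import Mathlib.Algebra.Colimit.Ring
import Mathlib.RingTheory.Henselian
import Mathlib.RingTheory.Ideal.Quotient.Operations
import Mathlib.Algebra.Polynomial.Lifts
-- import your own Groth.Agent.* helpers here

set_option autoImplicit false
universe u
open EtAlg

namespace Groth.Agent.S1998

/-- Let (A_j, I_j) be a directed system of henselian pairs (ring maps A_j -> A_k for j ≤ k carrying I_j
into I_k). Then the direct limit A of the A_j together with the ideal generated by the images of the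
I_j is a henselian pair. -/
theorem result {ι : Type u} [Preorder ι] [IsDirected ι (· ≤ ·)] [Nonempty ι]
    (G : ι → Type u) [∀ i, CommRing (G i)] (f : ∀ i j, i ≤ j → G i →+* G j)
    [DirectedSystem G fun i j h => f i j h] (I : ∀ i, Ideal (G i))
    (hI : ∀ i j (h : i ≤ j), (I i).map (f i j h) ≤ I j) (hh : ∀ i, HenselianRing (G i) (I i)) :
    HenselianRing (Ring.DirectLimit G fun i j h => f i j h)
      (⨆ i, (I i).map (Ring.DirectLimit.of G (fun i j h => f i j h) i)) := by
  classical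
  haveI : IsDirectedOrder ι := ⟨IsDirected.directed⟩
  let L := Ring.DirectLimit G fun i j h => f i j h
  let of : ∀ i, G i →+* L := fun i => Ring.DirectLimit.of G (fun i j h => f i j h) i
  have hoff : ∀ {i j} (h : i ≤ j) x, of j (f i j h x) = of i x := fun h x => Ring.DirectLimit.of_f h x
  have hIm : ∀ {i j} (h : i ≤ j) {z}, z ∈ I i → f i j h z ∈ I j := fun h z hz => hI _ _ h (Ideal.mem_map_of_mem _ hz)
  have hmem : ∀ x : L, x ∈ (⨆ i, (I i).map (of i)) → ∃ i z, z ∈ I i ∧ of i z = x := by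
    let K : Ideal L :=
      { carrier := {x | ∃ i z, z ∈ I i ∧ of i z = x}
        zero_mem' := ⟨Classical.arbitrary ι, 0, zero_mem _, map_zero _⟩
        add_mem' := by
          rintro _ _ ⟨i, z, hz, rfl⟩ ⟨j, w, hw, rfl⟩
          obtain ⟨k, hik, hjk⟩ := exists_ge_ge i j
          exact ⟨k, f i k hik z + f j k hjk w, add_mem (hIm hik hz) (hIm hjk hw), by rw [map_add, hoff, hoff]⟩
        smul_mem' := by
          rintro c _ ⟨i, z, hz, rfl⟩
          obtain ⟨j, w, rfl⟩ := Ring.DirectLimit.exists_of c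
          obtain ⟨k, hik, hjk⟩ := exists_ge_ge i j
          exact ⟨k, f j k hjk w * f i k hik z, Ideal.mul_mem_left _ _ (hIm hik hz), by
            rw [map_mul, hoff, hoff, smul_eq_mul]⟩ }
    have hle : (⨆ i, (I i).map (of i)) ≤ K :=
      iSup_le fun i => Ideal.map_le_iff_le_comap.2 fun z hz => ⟨i, z, hz, rfl⟩
    exact fun x hx => hle hx
  refine ⟨fun x hx => Ideal.mem_jacobson_bot.2 fun y => ?_, fun p hp a₀ ha hd => ?_⟩
  · obtain ⟨i, z, hz, rfl⟩ := hmem x hx
    obtain ⟨j, w, rfl⟩ := Ring.DirectLimit.exists_of y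
    obtain ⟨k, hik, hjk⟩ := exists_ge_ge i j
    have := (Ideal.mem_jacobson_bot.1 ((hh k).jac (hIm hik hz)) (f j k hjk w)).map (of k)
    simpa [hoff] using this
  · obtain ⟨i₁, p₁, hp₁⟩ := Ring.DirectLimit.Polynomial.exists_of (f' := f) p
    obtain ⟨i₂, a₂, rfl⟩ := Ring.DirectLimit.exists_of a₀
    obtain ⟨i₃, z, hz, hz'⟩ := hmem _ ha
    obtain ⟨q, hq⟩ := isUnit_iff_exists_inv.1 hd
    obtain ⟨q, rfl⟩ := Ideal.Quotient.mk_surjective q
    rw [← map_mul, ← map_one (Ideal.Quotient.mk _), Ideal.Quotient.eq] at hq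
    obtain ⟨i₄, q₄, rfl⟩ := Ring.DirectLimit.exists_of q
    obtain ⟨i₅, z', hzz, hz''⟩ := hmem _ hq
    obtain ⟨m, hm⟩ := Finset.exists_le ({i₁, i₂, i₃, i₄, i₅} : Finset ι)
    simp only [Finset.mem_insert, Finset.mem_singleton, forall_eq_or_imp, forall_eq] at hm
    obtain ⟨h₁, h₂, h₃, h₄, h₅⟩ := hm
    let Φ := p₁.map (f i₁ m h₁)
    have hΦ : Φ.map (of m) = p := by
      rw [← hp₁, Polynomial.map_map]
      exact congrArg (Polynomial.map · p₁) (RingHom.ext fun x => hoff h₁ x)
    have hev : ∀ (P : Polynomial (G m)) (a : G m), of m (P.eval a) = (P.map (of m)).eval (of m a) := fun P a => by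
      rw [Polynomial.eval_map, Polynomial.eval₂_at_apply]
    have e1 : of m (Φ.eval (f i₂ m h₂ a₂) - f i₃ m h₃ z) = 0 := by
      rw [map_sub, hev, hΦ, hoff, hoff, hz', sub_self]
    have e2 : of m (Φ.derivative.eval (f i₂ m h₂ a₂) * f i₄ m h₄ q₄ - 1 - f i₅ m h₅ z') = 0 := by
      rw [map_sub, map_sub, map_mul, hev, ← Polynomial.derivative_map, hΦ, hoff, hoff, hoff, map_one, hz'', sub_self]
    obtain ⟨n₁, hn₁, e1'⟩ := Ring.DirectLimit.of.zero_exact (f' := f) e1
    obtain ⟨n₂, hn₂, e2'⟩ := Ring.DirectLimit.of.zero_exact (f' := f) e2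
    have hlift : (Φ.map (of m)).Monic := hΦ ▸ hp
    obtain ⟨Θ, hΘ, -, hΘm⟩ := Polynomial.lifts_and_natDegree_eq_and_monic
      (show p ∈ Polynomial.lifts (of m) from ⟨Φ, hΦ⟩) hp
    have e3 : ∀ c : ℕ, of m (Φ.coeff c - Θ.coeff c) = 0 := fun c => by
      rw [map_sub, ← Polynomial.coeff_map, ← Polynomial.coeff_map, hΦ, hΘ, sub_self]
    choose n₃ hn₃ e3' using fun c => Ring.DirectLimit.of.zero_exact (f' := f) (e3 c)
    obtain ⟨n, hn⟩ := Finset.exists_le ({n₁, n₂} ∪ (Φ.support ∪ Θ.support).image n₃ ∪ {m} : Finset ι)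
    have hmn : m ≤ n := hn m (by simp)
    let r := f m n hmn
    have hr : ∀ {a : G m} {b : ι} (hb : m ≤ b) (hbn : b ≤ n), f m b hb a = 0 → r a = 0 := fun {a b} hb hbn h => by
      show f m n hmn a = 0
      rw [← DirectedSystem.map_map (f := fun i j h => f i j h) hb hbn a, h, map_zero]
    have hΦn : Φ.map r = Θ.map r := Polynomial.ext fun c => by
      refine ((Polynomial.coeff_map r c).trans ?_).trans (Polynomial.coeff_map r c).symm
      rw [← sub_eq_zero, ← map_sub]
      by_cases hc : c ∈ Φ.support ∪ Θ.support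
      · exact hr (hn₃ c) (hn _ (by simp only [Finset.mem_union, Finset.mem_image]; exact Or.inl (Or.inr ⟨c, by simpa using hc, rfl⟩))) (e3' c)
      · simp only [Finset.mem_union, Polynomial.mem_support_iff, not_or, not_not] at hc
        rw [hc.1, hc.2, sub_self, map_zero]
    have hmon : (Φ.map r).Monic := hΦn ▸ hΘm.map r
    have f1 : (Φ.map r).eval (r (f i₂ m h₂ a₂)) ∈ I n := by
      rw [Polynomial.eval_map, Polynomial.eval₂_at_apply]
      have h := hr hn₁ (hn n₁ (by simp)) e1'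
      rw [map_sub, sub_eq_zero] at h
      rw [h]
      exact hIm hmn (hIm h₃ hz)
    have f2 : IsUnit (Ideal.Quotient.mk (I n) ((Φ.map r).derivative.eval (r (f i₂ m h₂ a₂)))) := by
      refine IsUnit.of_mul_eq_one (Ideal.Quotient.mk (I n) (r (f i₄ m h₄ q₄))) ?_
      rw [← map_mul, ← map_one (Ideal.Quotient.mk _), Ideal.Quotient.eq, Polynomial.derivative_map,
        Polynomial.eval_map, Polynomial.eval₂_at_apply, ← map_one r, ← map_mul, ← map_sub]
      have h := hr hn₂ (hn n₂ (by simp)) e2'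
      rw [map_sub, sub_eq_zero] at h
      rw [h]
      exact hIm hmn (hIm h₅ hzz)
    obtain ⟨a, ha, ha'⟩ := (hh n).is_henselian _ hmon _ f1 f2
    refine ⟨of n a, ?_, ?_⟩
    · have := congrArg (of n) ha
      rw [map_zero, ← Polynomial.eval₂_at_apply, Polynomial.eval₂_eq_eval_map, Polynomial.map_map] at this
      rw [Polynomial.IsRoot, ← hΦ]
      rwa [show (of n).comp r = of m from RingHom.ext fun x => hoff hmn x] at this
    · have h2 : of i₂ a₂ = of n (r (f i₂ m h₂ a₂)) := by rw [hoff, hoff]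
      show of n a - of i₂ a₂ ∈ _
      rw [h2, ← map_sub]
      exact Ideal.mem_iSup_of_mem n (Ideal.mem_map_of_mem _ ha')

end Groth.Agent.S1998
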