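import Groth.Statements.S19980
import Groth.Agent.ConstQuotLib.Affine
import Groth.Agent.ConstQuotLib.CatQuot
import Groth.Agent.ConstQuotLib.EffLimit
import Groth.Agent.ConstQuotLib.FpFlat

set_option autoImplicit false
set_option linter.all false
set_option backward.isDefEq.respectTransparency false
set_option backward.isDefEq.respectTransparency.types false
universe u
open ConstAct

namespace Groth.Agent.S19980

open CategoryTheory AlgebraicGeometry in
/-- Let R be a Noetherian commutative ring, A a commutative R-algebra of finite type, and G a finite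
group acting on A by R-algebra automorphisms, with ring of invariants A^G. Let [Spec A/G] be the
quotient stack of Spec A by the constant group scheme of G over Spec R, the category over (Sch/Spec
R) whose objects are torsors under the constant group scheme, locally trivial for the fppf topology,
with an equivariant morphism to Spec A; and let π : [Spec A/G] → Spec A^G be a functor over
(Sch/Spec R) whose composite with the canonical functor Spec A → [Spec A/G] is the functor of the
morphism Spec A → Spec A^G induced by the inclusion A^G ⊆ A. Then for every affine scheme Y' over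
Spec R and every morphism g : Y' → Spec A^G over Spec R which is flat, the first projection of the
2-fibre product Y' ×_{Spec A^G} [Spec A/G] → Y' (formed over (Sch/Spec R) from the functor of g and
π) is a coarse moduli space: every functor over (Sch/Spec R) from the 2-fibre product to the
category of an algebraic space over Spec R factors through the projection by exactly one morphism of
algebraic spaces up to 2-isomorphism, and for every algebraically closed field Ω over R the
projection induces a bijection from isomorphism classes of objects lying over Spec Ω onto the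
Ω-points of Y'. (The published statement allows any flat morphism from an algebraic space to Spec
A^G and puts no finiteness condition on A; the case stated is the affine one, and the published
proof uses that A is finite over A^G, which holds when A is of finite type over a Noetherian ring.) -/
theorem result (R : Type u) [CommRing R] [IsNoetherianRing R]
    (A : Type u) [CommRing A] [Algebra R A] [Algebra.FiniteType R A]
    (G : Type u) [Group G] [Fintype G] [DecidableEq G] [MulSemiringAction G A] [SMulCommClass G R A]
    (π : ConstAct.quotSt R A G Scheme.fppfPrecoverage ⥤ᵇ AlgSt.ofSch (ConstAct.specInv R A G))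
    (hπ : BasedFunctor.comp
        (AlgSt.quotMap Scheme.fppfPrecoverage (ConstAct.GR R G) (ConstAct.gaction R A G)) π =
      AlgSt.ofSpMap ((AlgSp.yon (Spec (CommRingCat.of R))).map (ConstAct.quot R A G)))
    (Y' : Over (Spec (CommRingCat.of R))) [IsAffine Y'.left]
    (g : Y' ⟶ ConstAct.specInv R A G) [Flat g.left] :
    AlgSt.IsCoarseModuli
      (FibCat.fpFst (AlgSt.ofSpMap ((AlgSp.yon (Spec (CommRingCat.of R))).map g)) π) := by
  haveI := ConstQuotLib.flat_GR R G
  haveI := ConstQuotLib.lfp_GR R G
  haveI : IsAffine (ConstAct.specA R A).left := inferInstanceAs (IsAffine (Spec _))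
  haveI : IsAffine (ConstAct.specInv R A G).left := inferInstanceAs (IsAffine (Spec _))
  haveI := ConstQuotLib.isNoetherianRing_inv R A G
  haveI : IsLocallyNoetherian (ConstAct.specInv R A G).left :=
    inferInstanceAs (IsLocallyNoetherian (Spec (CommRingCat.of (ConstAct.inv R A G))))
  haveI := ConstQuotLib.isFinite_quot R A G
  have hρ := ConstQuotLib.isQuot_quot R A G
  haveI : Surjective (ConstAct.quot R A G).left := ⟨QuotLib.surjective hρ⟩
  let X' : Over (Spec (CommRingCat.of R)) :=
    Over.mk (Limits.pullback.fst (ConstAct.quot R A G).left g.left ≫ (ConstAct.specA R A).hom)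
  let pX : X' ⟶ ConstAct.specA R A := Over.homMk (Limits.pullback.fst _ _) rfl
  let p' : X' ⟶ Y' := Over.homMk (Limits.pullback.snd _ _) (by
    show Limits.pullback.snd _ _ ≫ Y'.hom = Limits.pullback.fst _ _ ≫ (ConstAct.specA R A).hom
    rw [← Over.w g, ← Over.w (ConstAct.quot R A G), ← Category.assoc, ← Limits.pullback.condition, Category.assoc])
  have sqL : IsPullback pX.left p'.left (ConstAct.quot R A G).left g.left := IsPullback.of_hasPullback _ _
  have sq : IsPullback pX p' (ConstAct.quot R A G) g :=
    IsPullback.of_map (F := Over.forget _) (Over.OverMorphism.ext sqL.w) sqL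
  haveI : IsAffine X'.left := by
    show IsAffine (Limits.pullback (ConstAct.quot R A G).left g.left)
    infer_instance
  have hρ' := QuotLib.isQuot_baseChange hρ sqL (ConstQuotLib.pullAct_fst sqL hρ.inv)
    (ConstQuotLib.pullAct_snd sqL hρ.inv)
  have hρS : ∀ a : G, (ConstQuotLib.pullAct sqL hρ.inv a).hom ≫ X'.hom = X'.hom := fun a => by
    show _ ≫ pX.left ≫ (ConstAct.specA R A).hom = pX.left ≫ (ConstAct.specA R A).hom
    rw [← Category.assoc, ConstQuotLib.pullAct_fst, Category.assoc, ConstQuotLib.actAut_over]
  have heff : ConstQuotLib.EffEt p'.left :=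
    ConstQuotLib.effEt_baseChange (ConstAct.quot R A G).left g.left sqL
  have horb := fun (Ω : Type u) [Field Ω] [IsAlgClosed Ω] (t : Spec (CommRingCat.of Ω) ⟶ Spec (CommRingCat.of R)) =>
    ConstQuotLib.orbits R A G Ω t
  have hsec : ∀ ⦃T : Over (Spec (CommRingCat.of R))⦄ (x : T ⟶ ConstAct.X R A),
      AlgStLib.secOf π (QuotStLib.triv Scheme.fppfPrecoverage (ConstAct.gaction R A G) x) =
        (⟨x ≫ ConstAct.quot R A G⟩ :
          ((AlgSp.yon _).obj (ConstAct.specInv R A G)).obj.obj (Opposite.op T)) := fun T x => by
    let o : (AlgSt.ofSch (ConstAct.X R A)).obj := ⟨T, ⟨x⟩⟩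
    show AlgStLib.secOf (BasedFunctor.comp
      (AlgSt.quotMap Scheme.fppfPrecoverage (ConstAct.GR R G) (ConstAct.gaction R A G)) π) o = _
    rw [hπ]
    exact AlgStLib.secOf_ofPshMap ((AlgSp.yon _).map (ConstAct.quot R A G)).hom o
  refine ⟨ConstQuotLib.isCatModuli hsec sq (fun N hN ψ hinv => ?_),
    ConstQuotLib.geomPtBij hsec (QuotStLib.geomPtBij (ConstAct.quot R A G) π hπ horb) sq
      fun Ω _ _ t => (horb Ω t).1⟩
  refine ConstQuotLib.existsUnique_desc p' hρ' hρS heff hN fun a => ?_
  refine hinv (ConstQuotLib.σg hρS a)
    (pX ≫ CoactBr.pt (ConstAct.constPt R G (K := A) a)) ?_ (Over.OverMorphism.ext (ConstQuotLib.pullAct_snd sqL hρ.inv a))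
  have h1 : CartesianMonoidalCategory.lift (CoactBr.pt (ConstAct.constPt R G (K := A) a)) (CoactBr.pt (AlgHom.id R A)) ≫
      (ConstAct.gaction R A G).act = ConstAct.act R A G a⁻¹ := by
    rw [ConstAct.gaction_constPt, CoactBr.pt_id]; exact Category.id_comp _
  have h2 : CartesianMonoidalCategory.lift (pX ≫ CoactBr.pt (ConstAct.constPt R G (K := A) a)) pX ≫
      (ConstAct.gaction R A G).act = pX ≫ ConstAct.act R A G a⁻¹ := by
    rw [← h1, ← Category.assoc pX, CartesianMonoidalCategory.comp_lift, CoactBr.pt_id]
    erw [Category.comp_id]
  exact h2.trans (Over.OverMorphism.ext (ConstQuotLib.pullAct_fst sqL hρ.inv a).symm)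

end Groth.Agent.S19980
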