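import Groth.Statements.S19985
import Groth.Agent.RelConeLib.Retract
import Groth.Agent.RelConeLib.ConeImm
import Groth.Agent.RelConeLib.Cone
import Groth.Agent.RelConeLib.DomCone
import Groth.Agent.RelConeLib.Glue
import Groth.Agent.RelConeLib.ChartRing
import Groth.Agent.ConeRetrLib.Fibre
-- import your own Groth.Agent.* helpers here

set_option autoImplicit false
set_option maxHeartbeats 2000000
set_option backward.isDefEq.respectTransparency false
universe u
open CategoryTheory CategoryTheory.Limits AlgebraicGeometry Opposite TopologicalSpace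
open scoped HomogeneousIdeal
noncomputable section
open EGA2

namespace Groth.Agent.S19985

namespace Groth.Agent.S19985Aux

open HomogeneousLocalization TopologicalSpace Opposite
open ConeRetrLib (Idx)
open RelConeLib

/-- Positive-degree elements lie in any prime containing the degree-one part. -/
theorem exists_deg_one {A σ : Type u} [CommRing A] [SetLike σ A] [AddSubgroupClass σ A] {𝒜 : ℕ → σ}
    [GradedRing 𝒜] (hgen : Subring.closure ((𝒜 0 : Set A) ∪ (𝒜 1 : Set A)) = ⊤) (q : Ideal A)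
    (hq : ¬ (HomogeneousIdeal.irrelevant 𝒜).toIdeal ≤ q) : ∃ f : A, f ∈ 𝒜 1 ∧ f ∉ q := by
  classical
  by_contra hc
  push Not at hc
  refine hq fun a ha => ?_
  have key : ∀ b : A, b - GradedRing.projZeroRingHom 𝒜 b ∈ q := by
    intro b
    have hb : b ∈ Subring.closure ((𝒜 0 : Set A) ∪ (𝒜 1 : Set A)) := hgen ▸ Subring.mem_top b
    induction hb using Subring.closure_induction with
    | mem x hx =>
      rcases hx with h | h
      · have h0 : GradedRing.projZeroRingHom 𝒜 x = x := by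
          show ((DirectSum.decompose 𝒜 x) 0 : A) = x
          exact DirectSum.decompose_of_mem_same 𝒜 h
        rw [h0, sub_self]; exact zero_mem _
      · have h0 : GradedRing.projZeroRingHom 𝒜 x = 0 := by
          show ((DirectSum.decompose 𝒜 x) 0 : A) = 0
          exact DirectSum.decompose_of_mem_ne 𝒜 h one_ne_zero
        rw [h0, sub_zero]; exact hc x h
    | zero => rw [map_zero, sub_zero]; exact zero_mem _
    | one => rw [map_one, sub_self]; exact zero_mem _
    | add x y _ _ hx hy => rw [map_add, add_sub_add_comm]; exact add_mem hx hy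
    | neg x _ hx => rw [map_neg, ← neg_sub', neg_mem_iff]; exact hx
    | mul x y _ _ hx hy =>
      rw [map_mul, show x * y - GradedRing.projZeroRingHom 𝒜 x * GradedRing.projZeroRingHom 𝒜 y =
        (x - GradedRing.projZeroRingHom 𝒜 x) * y + GradedRing.projZeroRingHom 𝒜 x * (y - GradedRing.projZeroRingHom 𝒜 y)
        by ring]
      exact add_mem (Ideal.mul_mem_right _ _ hx) (Ideal.mul_mem_left _ _ hy)
  have h1 := key a
  have h0 : GradedRing.projZeroRingHom 𝒜 a = 0 := ha
  rwa [h0, sub_zero] at h1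

section Cone

variable {A σ : Type u} [CommRing A] [SetLike σ A] [AddSubgroupClass σ A] {𝒜 : ℕ → σ} [GradedRing 𝒜]
  {B τ : Type u} [CommRing B] [SetLike τ B] [AddSubgroupClass τ B] {ℬ : ℕ → τ} [GradedRing ℬ]
  (ψ : 𝒜 →+*ᵍ ℬ) [Algebra A B] (hψ : ∀ a : A, ψ a = algebraMap A B a) (z : B) (hz : z ∈ ℬ 1)
  (hhat : Function.Bijective (Polynomial.aeval (R := A) z))

include hψ hz in
/-- The affine chart of the cone lies in the chart of the projective cone. -/
theorem coneMap_chart {f : A} (hf : f ∈ 𝒜 1) :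
    ∃ l : Away ℬ (ψ f) →+* Localization.Away f,
      l.comp (Away.map ψ f) = algebraMap (Away 𝒜 f) (Localization.Away f) ∧
      Spec.map (CommRingCat.ofHom (algebraMap A (Localization.Away f))) ≫ coneMap (ℬ := ℬ) z hz hhat =
        Spec.map (CommRingCat.ofHom l) ≫ Proj.awayι ℬ (ψ f) (ψ.2 hf) one_pos := by
  let φ₀ : B →+* Localization.Away f := (algebraMap A (Localization.Away f)).comp (ConeRetrLib.ev z hhat)
  have hφf : φ₀ (ψ f) = algebraMap A (Localization.Away f) f :=
    congrArg (algebraMap A (Localization.Away f)) (ConeRetrLib.ev_phi ψ hψ z hhat f)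
  have hu : IsUnit (φ₀ (ψ f)) := hφf ▸ IsLocalization.Away.algebraMap_isUnit f
  have hzu : φ₀ z = 1 := (congrArg (algebraMap A (Localization.Away f)) (ConeRetrLib.ev_z z hhat)).trans (map_one _)
  let l : Away ℬ (ψ f) →+* Localization.Away f :=
    (Localization.awayLift φ₀ (ψ f) hu).comp (algebraMap (Away ℬ (ψ f)) (Localization.Away (ψ f)))
  refine ⟨l, RingHom.ext fun q => ?_, ?_⟩
  · obtain ⟨n, a, ha, rfl⟩ := q.mk_surjective _ hf
    refine (hu.pow n).mul_right_cancel ?_
    rw [RingHom.comp_apply, Away.map_mk]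
    have h2 := congrArg (Localization.awayLift φ₀ (ψ f) hu) (RelConeLib.Gen.mk_mul_algebraMap_pow (ψ f) (ψ a) n)
    rw [map_mul] at h2
    simp only [Localization.awayLift, IsLocalization.Away.lift_eq, map_pow] at h2
    refine h2.trans ?_
    rw [hφf, ← map_pow, HomogeneousLocalization.algebraMap_apply, Away.val_mk,
      RelConeLib.Gen.mk_mul_algebraMap_pow]
    exact congrArg (algebraMap A (Localization.Away f)) (ConeRetrLib.ev_phi ψ hψ z hhat a)
  · have hzf : z * ψ f ∈ ℬ (1 + 1) := SetLike.mul_mem_graded hz (ψ.2 hf)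
    have hu' : IsUnit (φ₀ (z * ψ f)) := by rw [map_mul, hzu, one_mul]; exact hu
    let μ : Away ℬ (z * ψ f) →+* Localization.Away f :=
      (Localization.awayLift φ₀ (z * ψ f) hu').comp (algebraMap (Away ℬ (z * ψ f)) (Localization.Away (z * ψ f)))
    have key : ∀ {s g : B} {d : ℕ} (hg : g ∈ ℬ d) (hx : z * ψ f = s * g) (hs : IsUnit (φ₀ s)),
        μ.comp (awayMap ℬ hg hx) = (Localization.awayLift φ₀ s hs).comp (algebraMap (Away ℬ s) (Localization.Away s)) := by
      intro s g d hg hx hs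
      refine RingHom.ext fun a => ?_
      show Localization.awayLift φ₀ (z * ψ f) hu' (awayMap ℬ hg hx a).val = Localization.awayLift φ₀ s hs a.val
      rw [HomogeneousLocalization.val_awayMap]
      have hsu : IsUnit (algebraMap B (Localization.Away (z * ψ f)) s) :=
        isUnit_of_mul_isUnit_left (y := algebraMap B (Localization.Away (z * ψ f)) g)
          (by rw [← map_mul, ← hx]; exact IsLocalization.Away.algebraMap_isUnit (z * ψ f))
      have h2 : (Localization.awayLift φ₀ (z * ψ f) hu').comp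
          (Localization.awayLift (algebraMap B (Localization.Away (z * ψ f))) s hsu) =
          Localization.awayLift φ₀ s hs := by
        refine IsLocalization.ringHom_ext (Submonoid.powers s) (RingHom.ext fun b => ?_)
        simp [Localization.awayLift, IsLocalization.Away.lift_eq]
      exact RingHom.congr_fun h2 a.val
    have e1 : (algebraMap A (Localization.Away f)).comp (ConeRetrLib.deHom (ℬ := ℬ) z hhat) =
        (Localization.awayLift φ₀ z (hzu ▸ isUnit_one)).comp (algebraMap (Away ℬ z) (Localization.Away z)) := by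
      rw [ConeRetrLib.deHom, ← RingHom.comp_assoc]
      congr 1
      refine IsLocalization.ringHom_ext (Submonoid.powers z) (RingHom.ext fun b => ?_)
      simp [Localization.awayLift, IsLocalization.Away.lift_eq, φ₀]
    have e2 : l = μ.comp (awayMap ℬ hz (mul_comm z (ψ f))) := (key hz (mul_comm z (ψ f)) hu).symm
    rw [coneMap, ← Spec.map_comp_assoc, ← CommRingCat.ofHom_comp, e1, ← key (ψ.2 hf) rfl, e2]
    clear_value μ
    rw [
      CommRingCat.ofHom_comp, CommRingCat.ofHom_comp, Spec.map_comp_assoc, Spec.map_comp_assoc,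
      Proj.SpecMap_awayMap_awayι, Proj.SpecMap_awayMap_awayι]

end Cone

section Rel

variable {Y PC P : Scheme.{u}} {𝒮 𝒮h : RelProj.QCGrAlg Y} {ι : 𝒮.toQCAlg ⟶ 𝒮h.toQCAlg}
  {z : 𝒮h.presheaf.obj (op ⊤)} (hz : RelCone.IsPolyOver 𝒮 𝒮h ι z) {pC : PC ⟶ Y}
  {chartC : ∀ (U : Y.Opens) (hU : IsAffineOpen U), (((pC ⁻¹ᵁ U : PC.Opens) : Scheme.{u}) ≅ Proj (𝒮h.deg U hU))}
  (hPC : RelProj.IsRelProj 𝒮h pC chartC) {p : P ⟶ Y}
  {chart : ∀ (U : Y.Opens) (hU : IsAffineOpen U), (((p ⁻¹ᵁ U : P.Opens) : Scheme.{u}) ≅ Proj (𝒮.deg U hU))}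
  (hP : RelProj.IsRelProj 𝒮 p chart)

variable (𝒮) in
/-- Degree-one charts. -/
abbrev Ix := Σ U : Y.affineOpens, {f : 𝒮.presheaf.obj (op U.1) // f ∈ 𝒮.deg U.1 U.2 1}

/-- A degree-one element as an index. -/
abbrev toIdx (k : Ix 𝒮) : Idx (𝒮.deg k.1.1 k.1.2) := ⟨1, k.2.1, one_pos, k.2.2⟩

/-- The chart of the projective bundle. -/
noncomputable def jY (k : Ix 𝒮) :
    Spec (CommRingCat.of (Away (𝒮.deg k.1.1 k.1.2) k.2.1)) ⟶ P :=
  Proj.awayι (𝒮.deg k.1.1 k.1.2) k.2.1 k.2.2 one_pos ≫ RelProj.emb p chart k.1.1 k.1.2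

instance (k : Ix 𝒮) : IsOpenImmersion (jY (chart := chart) k) := by
  unfold jY; infer_instance

theorem exists_jY (hgen : 𝒮.IsGenDegOne) (x : P) : ∃ k : Ix 𝒮, x ∈ (jY (chart := chart) k).opensRange := by
  obtain ⟨U, hU, v, rfl⟩ := RelConeLib.exists_emb (chart := chart) x
  obtain ⟨f, hf, hfv⟩ := exists_deg_one (hgen U hU) v.asHomogeneousIdeal.toIdeal v.not_irrelevant_le
  refine ⟨⟨⟨U, hU⟩, f, hf⟩, ?_⟩
  have hv : v ∈ (Proj.awayι (𝒮.deg U hU) f hf one_pos).opensRange := by
    rw [Proj.opensRange_awayι]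
    exact (Proj.mem_basicOpen (𝒮.deg U hU) f v).mpr hfv
  obtain ⟨w, hw⟩ := hv
  exact ⟨w, (congrArg (fun t => RelProj.emb p chart U hU t) hw :)⟩

/-- The chart of the pointed projective cone. -/
noncomputable def jX (k : Ix 𝒮) :
    Spec (CommRingCat.of (Away (𝒮h.deg k.1.1 k.1.2) (RelProj.gradedHomAt ι hz.graded k.1.1 k.1.2 k.2.1))) ⟶
      (RelCone.pointedProjCone 𝒮 hz pC chartC : Scheme.{u}) :=
  dChart (RelProj.gradedHomAt ι hz.graded k.1.1 k.1.2) (toIdx k) ≫ dEmb hz (chartC := chartC) k.1.1 k.1.2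

instance (k : Ix 𝒮) : IsOpenImmersion (jX hz (chartC := chartC) k) := by
  unfold jX; infer_instance

theorem preimage_eq_of_square {X V W : Scheme.{u}} (r : X ⟶ P) (e : V ⟶ X) (j : W ⟶ P) [IsOpenImmersion e]
    [IsOpenImmersion j] (d : V ⟶ W) (w : e ≫ r = d ≫ j) (hpre : r ⁻¹ᵁ j.opensRange = e.opensRange)
    {V' W' : Scheme.{u}} (c : V' ⟶ V) (a : W' ⟶ W) [IsOpenImmersion c] [IsOpenImmersion a]
    (h : d ⁻¹ᵁ a.opensRange = c.opensRange) : r ⁻¹ᵁ (a ≫ j).opensRange = (c ≫ e).opensRange := by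
  ext x
  constructor
  · rintro ⟨w', hw'⟩
    have hx : x ∈ e.opensRange := hpre.le ⟨a w', hw'⟩
    obtain ⟨v, rfl⟩ := hx
    have h1 : j (d v) = j (a w') :=
      ((Scheme.Hom.comp_apply d j v).symm.trans (congrArg (fun q : V ⟶ P => q v) w.symm)).trans hw'.symm
    have h2 : v ∈ c.opensRange := h.le ⟨w', (j.isOpenEmbedding.injective h1).symm⟩
    obtain ⟨v', rfl⟩ := h2
    exact ⟨v', rfl⟩
  · rintro ⟨v', rfl⟩
    have h2 : c v' ∈ d ⁻¹ᵁ a.opensRange := h.ge ⟨v', rfl⟩
    obtain ⟨w', hw'⟩ := h2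
    refine ⟨w', ?_⟩
    show j (a w') = r (e (c v'))
    rw [show a w' = d (c v') from hw']
    exact (Scheme.Hom.comp_apply d j (c v')).symm.trans (congrArg (fun q : V ⟶ P => q (c v')) w.symm)

variable {r : (RelCone.pointedProjCone 𝒮 hz pC chartC : Scheme.{u}) ⟶ P}
  (hr : IsRetr hz (chart := chart) r)

include hr in
theorem jX_r (k : Ix 𝒮) :
    jX hz (chartC := chartC) k ≫ r =
      Spec.map (CommRingCat.ofHom (Away.map (RelProj.gradedHomAt ι hz.graded k.1.1 k.1.2) k.2.1)) ≫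
        jY (chart := chart) k := by
  rw [jX, Category.assoc, (isRetr_iff hz r).mp hr k.1.1 k.1.2, dRetr,
    reassoc_of% (dChart_dMap (RelProj.gradedHomAt ι hz.graded k.1.1 k.1.2) (toIdx k)), dTarget, Category.assoc, jY]

include hPC hP hr in
theorem jX_range (k : Ix 𝒮) :
    r ⁻¹ᵁ (jY (chart := chart) k).opensRange = (jX hz (chartC := chartC) k).opensRange := by
  refine preimage_eq_of_square r _ (RelProj.emb p chart k.1.1 k.1.2)
    (dMap (RelProj.gradedHomAt ι hz.graded k.1.1 k.1.2)) ((isRetr_iff hz r).mp hr k.1.1 k.1.2)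
    (retr_preimage hz hPC hP hr k.1.1 k.1.2) (dChart _ (toIdx k)) (Proj.awayι _ k.2.1 k.2.2 one_pos) ?_
  rw [Proj.opensRange_awayι, dMap_preimage _ k.2.2 one_pos, dChart_opensRange]

include hPC hP hr in
theorem polynomial_fibre (hgen : 𝒮.IsGenDegOne) :
    LocallyOfFiniteType r ∧ QuasiCompact r ∧
      ∀ x : ↥P, ∃ e : pullback r (P.fromSpecResidueField x) ≅ Spec (CommRingCat.of (Polynomial (P.residueField x))),
        e.hom ≫ Spec.map (CommRingCat.ofHom (algebraMap (P.residueField x) (Polynomial (P.residueField x)))) =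
          pullback.snd r (P.fromSpecResidueField x) := by
  have hbij : ∀ k : Ix 𝒮,
      Function.Bijective (RelConeLib.Gen.hatChart (RelProj.gradedHomAt ι hz.graded k.1.1 k.1.2) _
        (hz.deg_z k.1.1 k.1.2) k.2.2) := fun k => by
    letI := RelConeLib.algι ι k.1.1
    exact RelConeLib.Gen.hatChart_bijective _ (fun _ => rfl) _ _ (RelConeLib.hat_bij hz k.1.1 k.1.2) k.2.2
  have hC : ∀ k : Ix 𝒮,
      (RelConeLib.Gen.hatChart (RelProj.gradedHomAt ι hz.graded k.1.1 k.1.2) _
        (hz.deg_z k.1.1 k.1.2) k.2.2).comp Polynomial.C =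
      Away.map (RelProj.gradedHomAt ι hz.graded k.1.1 k.1.2) k.2.1 := fun k =>
    RingHom.ext fun a => Polynomial.eval₂_C _ _
  refine ⟨?_, ?_, fun x => ?_⟩
  · refine ConeRetrLib.locallyOfFiniteType_of_charts r (fun k => jX hz (chartC := chartC) k)
      (fun k => jY (chart := chart) k) (fun k => CommRingCat.ofHom _) (fun k => jX_r hz hr k) (fun y => ?_) fun k => ?_
    · obtain ⟨k, hk⟩ := exists_jY (chart := chart) hgen (r y)
      exact ⟨k, (jX_range hz hPC hP hr k).le hk⟩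
    · rw [CommRingCat.hom_ofHom, ← hC k]
      exact (RingHom.FiniteType.of_surjective _ (hbij k).2).comp
        (RingHom.finiteType_algebraMap.mpr inferInstance)
  · haveI := isAffineHom_retr hz hPC hP hr
    infer_instance
  · obtain ⟨k, hk⟩ := exists_jY (chart := chart) hgen x
    refine ConeRetrLib.exists_fibre_iso r (jX hz (chartC := chartC) k) (jY (chart := chart) k) (CommRingCat.ofHom _)
      (jX_r hz hr k) (jX_range hz hPC hP hr k) x hk _ fun ψ => ?_
    exact ConeRetrLib.isPushout_of_bijective (ConeRetrLib.isPushout_polynomial ψ.hom) _ (hbij k) _ (hC k)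

variable {i : 𝒮.toQCAlg.spec ⟶ PC} (hi : RelCone.IsConeImm 𝒮 hz pC chartC i)
  (i' : ((RelCone.pointedCone 𝒮 : 𝒮.toQCAlg.spec.Opens) : Scheme.{u}) ⟶
    (RelCone.pointedProjCone 𝒮 hz pC chartC : Scheme.{u}))
  (hi' : i' ≫ (RelCone.pointedProjCone 𝒮 hz pC chartC).ι = (RelCone.pointedCone 𝒮).ι ≫ i)

include hPC hP hr hi hi' in
theorem laurent_fibre (hgen : 𝒮.IsGenDegOne) :
    LocallyOfFiniteType (i' ≫ r) ∧ QuasiCompact (i' ≫ r) ∧
      ∀ x : ↥P, ∃ e : pullback (i' ≫ r) (P.fromSpecResidueField x) ≅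
          Spec (CommRingCat.of (LaurentPolynomial (P.residueField x))),
        e.hom ≫ Spec.map (CommRingCat.ofHom (algebraMap (P.residueField x) (LaurentPolynomial (P.residueField x)))) =
          pullback.snd (i' ≫ r) (P.fromSpecResidueField x) := by
  let E : 𝒮.toQCAlg.spec.Opens := RelCone.pointedCone 𝒮
  let V : ∀ U : Y.affineOpens, (Spec (𝒮.presheaf.obj (op U.1))).Opens := fun U => RelCone.vertexCompl (𝒮.deg U.1 U.2)
  let e : ∀ U : Y.affineOpens, (V U : Scheme.{u}) ⟶ (E : Scheme.{u}) := fun U =>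
    IsOpenImmersion.lift E.ι ((V U).ι ≫ 𝒮.toQCAlg.ι U.1 U.2) (by
      rw [Scheme.Opens.range_ι]
      rintro _ ⟨w, rfl⟩
      exact (RelConeLib.ι_preimage_pointedCone 𝒮 U.2).ge w.2)
  have he : ∀ U, e U ≫ E.ι = (V U).ι ≫ 𝒮.toQCAlg.ι U.1 U.2 := fun U => IsOpenImmersion.lift_fac _ _ _
  haveI : ∀ U, IsOpenImmersion (e U) := fun U => by
    haveI : IsOpenImmersion (e U ≫ E.ι) := by rw [he]; infer_instance
    exact IsOpenImmersion.of_comp _ E.ι
  have hW : ∀ (U : Y.affineOpens) (w : Spec (𝒮.presheaf.obj (op U.1))),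
      w ∈ V U ↔ ¬ (HomogeneousIdeal.irrelevant (𝒮.deg U.1 U.2)).toIdeal ≤ w.asIdeal :=
    fun U w => RelConeLib.mem_vertexCompl 𝒮 U.2 w
  let cl : ∀ U : Y.affineOpens, (V U : Scheme.{u}) ⟶ (RelCone.domOpen (RelProj.gradedHomAt ι hz.graded U.1 U.2) : Scheme.{u}) :=
    fun U => letI := RelConeLib.algι ι U.1
      RelConeLib.coneLift (RelProj.gradedHomAt ι hz.graded U.1 U.2) (fun _ => rfl) _ (hz.deg_z U.1 U.2)
        (RelConeLib.hat_bij hz U.1 U.2) (V U) (hW U)
  have h1 : ∀ U, e U ≫ i' = cl U ≫ RelConeLib.dEmb hz U.1 U.2 := by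
    intro U
    letI := RelConeLib.algι ι U.1
    rw [← cancel_mono (RelCone.pointedProjCone 𝒮 hz pC chartC).ι, Category.assoc, hi', Category.assoc,
      RelConeLib.dEmb_ι, reassoc_of% (he U), (RelConeLib.isConeImm_iff hz i).mp hi U.1 U.2]
    exact (Category.assoc _ _ _).symm.trans ((congrArg (· ≫ RelProj.emb pC chartC U.1 U.2)
      (RelConeLib.coneLift_ι (RelProj.gradedHomAt ι hz.graded U.1 U.2) (fun _ => rfl) _
        (hz.deg_z U.1 U.2) (RelConeLib.hat_bij hz U.1 U.2) (V U) (hW U)).symm).trans (Category.assoc _ _ _))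
  have hw : ∀ U, e U ≫ i' ≫ r =
      (cl U ≫ dMap (RelProj.gradedHomAt ι hz.graded U.1 U.2)) ≫ RelProj.emb p chart U.1 U.2 := by
    intro U
    rw [← Category.assoc, h1, Category.assoc, (RelConeLib.isRetr_iff hz r).mp hr U.1 U.2]
    exact (Category.assoc _ _ _).symm
  have hpre' : ∀ U : Y.affineOpens, (i' ≫ r) ⁻¹ᵁ (RelProj.emb p chart U.1 U.2).opensRange = (e U).opensRange := by
    intro U
    have h2 : (i' ≫ r) ≫ p = E.ι ≫ 𝒮.toQCAlg.π := by
      rw [Category.assoc, RelConeLib.retr_over hz hPC hP hr, reassoc_of% hi', RelConeLib.coneImm_over hz hPC hi]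
    rw [RelConeLib.emb_opensRange, ← Scheme.Hom.comp_preimage, h2, Scheme.Hom.comp_preimage,
      𝒮.toQCAlg.π_preimage U.1 U.2]
    ext x
    constructor
    · rintro ⟨w, hw'⟩
      have hwV : w ∈ V U := (RelConeLib.ι_preimage_pointedCone 𝒮 U.2).le (show 𝒮.toQCAlg.ι U.1 U.2 w ∈ E from hw' ▸ x.2)
      refine ⟨⟨w, hwV⟩, E.ι.isOpenEmbedding.injective ?_⟩
      rw [← Scheme.Hom.comp_apply, he]
      exact hw'
    · rintro ⟨w, rfl⟩
      refine ⟨w.1, ?_⟩
      rw [← Scheme.Hom.comp_apply, he]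
      rfl
  have hloc : ∀ k : Ix 𝒮, ∃ c : Spec (CommRingCat.of (Localization.Away k.2.1)) ⟶ (V k.1 : Scheme.{u}),
      IsOpenImmersion c ∧
      c ≫ cl k.1 ≫ dMap (RelProj.gradedHomAt ι hz.graded k.1.1 k.1.2) =
        Spec.map (CommRingCat.ofHom (algebraMap (Away (𝒮.deg k.1.1 k.1.2) k.2.1) (Localization.Away k.2.1))) ≫
          Proj.awayι (𝒮.deg k.1.1 k.1.2) k.2.1 k.2.2 one_pos ∧
      (((cl k.1 ≫ dMap (RelProj.gradedHomAt ι hz.graded k.1.1 k.1.2)) ⁻¹ᵁ
          (Proj.awayι (𝒮.deg k.1.1 k.1.2) k.2.1 k.2.2 one_pos).opensRange :) : Set (V k.1 : Scheme.{u})) = Set.range c := by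
    intro k
    letI := RelConeLib.algι ι k.1.1
    have hrange : Set.range (Spec.map (CommRingCat.ofHom (algebraMap (𝒮.presheaf.obj (op k.1.1)) (Localization.Away k.2.1)))) =
        (PrimeSpectrum.basicOpen k.2.1 : Set (PrimeSpectrum (𝒮.presheaf.obj (op k.1.1)))) :=
      PrimeSpectrum.localization_away_comap_range (Localization.Away k.2.1) k.2.1
    have hsub : Set.range (Spec.map (CommRingCat.ofHom (algebraMap (𝒮.presheaf.obj (op k.1.1)) (Localization.Away k.2.1)))) ⊆
        Set.range (V k.1).ι := by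
      rw [hrange, Scheme.Opens.range_ι]
      exact fun w hw' => (hW k.1 w).mpr fun h => hw' (h (toIdx k).mem_irrelevant)
    haveI : IsOpenImmersion (Spec.map (CommRingCat.ofHom (algebraMap (𝒮.presheaf.obj (op k.1.1)) (Localization.Away k.2.1)))) :=
      IsOpenImmersion.of_isLocalization k.2.1
    let c := IsOpenImmersion.lift (V k.1).ι _ hsub
    have hc : c ≫ (V k.1).ι = _ := IsOpenImmersion.lift_fac _ _ hsub
    haveI : IsOpenImmersion c := by
      haveI : IsOpenImmersion (c ≫ (V k.1).ι) := by rw [hc]; infer_instance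
      exact IsOpenImmersion.of_comp _ (V k.1).ι
    obtain ⟨l, hl, hl'⟩ := coneMap_chart (RelProj.gradedHomAt ι hz.graded k.1.1 k.1.2) (fun _ => rfl) _
      (hz.deg_z k.1.1 k.1.2) (RelConeLib.hat_bij hz k.1.1 k.1.2) k.2.2
    refine ⟨c, inferInstance, ?_, ?_⟩
    · have h3 : c ≫ cl k.1 = Spec.map (CommRingCat.ofHom l) ≫
          dChart (RelProj.gradedHomAt ι hz.graded k.1.1 k.1.2) (toIdx k) := by
        rw [← cancel_mono (RelCone.domOpen (RelProj.gradedHomAt ι hz.graded k.1.1 k.1.2)).ι, Category.assoc,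
          Category.assoc, dChart_ι]
        refine Eq.trans ?_ hl'
        rw [← hc, Category.assoc]
        exact congrArg (c ≫ ·) (RelConeLib.coneLift_ι _ _ _ _ _ _ _)
      rw [reassoc_of% h3, dChart_dMap, dTarget, ← Spec.map_comp_assoc, ← CommRingCat.ofHom_comp]
      erw [hl]
    · rw [Proj.opensRange_awayι]
      refine (congrArg (fun O : (V k.1 : Scheme.{u}).Opens => (O : Set (V k.1 : Scheme.{u})))
        (RelConeLib.coneLift_preimage _ (fun _ => rfl) _ (hz.deg_z k.1.1 k.1.2)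
        (RelConeLib.hat_bij hz k.1.1 k.1.2) (V k.1) (hW k.1) k.2.2 one_pos)).trans ?_
      refine Set.ext fun v => ⟨fun hv => ?_, ?_⟩
      · have hv' : (V k.1).ι v ∈ Set.range (Spec.map (CommRingCat.ofHom
            (algebraMap (𝒮.presheaf.obj (op k.1.1)) (Localization.Away k.2.1)))) := by
          rw [hrange]; exact hv
        obtain ⟨w, hw'⟩ := hv'
        refine ⟨w, (V k.1).ι.isOpenEmbedding.injective ?_⟩
        rw [← Scheme.Hom.comp_apply, hc]
        exact hw'
      · rintro ⟨w, rfl⟩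
        refine hrange.le ⟨w, ?_⟩
        rw [← hc]
        rfl
  choose c hco hcw hcpre using hloc
  haveI := hco
  let jE : ∀ k : Ix 𝒮, Spec (CommRingCat.of (Localization.Away k.2.1)) ⟶ (E : Scheme.{u}) := fun k => c k ≫ e k.1
  haveI : ∀ k, IsOpenImmersion (jE k) := fun k => inferInstanceAs (IsOpenImmersion (c k ≫ e k.1))
  have wE : ∀ k : Ix 𝒮, jE k ≫ i' ≫ r =
      Spec.map (CommRingCat.ofHom (algebraMap (Away (𝒮.deg k.1.1 k.1.2) k.2.1) (Localization.Away k.2.1))) ≫
        jY (chart := chart) k := fun k => by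
    show (c k ≫ e k.1) ≫ i' ≫ r = _
    rw [Category.assoc, hw, jY, Category.assoc, reassoc_of% (hcw k)]
  have hpre : ∀ k : Ix 𝒮, (i' ≫ r) ⁻¹ᵁ (jY (chart := chart) k).opensRange = (jE k).opensRange := fun k =>
    preimage_eq_of_square (i' ≫ r) (e k.1) (RelProj.emb p chart k.1.1 k.1.2) _ (hw k.1) (hpre' k.1) (c k)
      (Proj.awayι _ k.2.1 k.2.2 one_pos) (TopologicalSpace.Opens.ext (hcpre k))
  have hC : ∀ k : Ix 𝒮, (RelConeLib.Gen.coneChart (𝒜 := 𝒮.deg k.1.1 k.1.2) (f := k.2.1)).comp LaurentPolynomial.C =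
      algebraMap (Away (𝒮.deg k.1.1 k.1.2) k.2.1) (Localization.Away k.2.1) := fun k =>
    RingHom.ext fun a => LaurentPolynomial.eval₂_C _ _ a
  refine ⟨?_, ?_, fun x => ?_⟩
  · refine ConeRetrLib.locallyOfFiniteType_of_charts (i' ≫ r) jE
      (fun k => jY (chart := chart) k) (fun k => CommRingCat.ofHom _) wE (fun y => ?_) fun k => ?_
    · obtain ⟨k, hk⟩ := exists_jY (chart := chart) hgen ((i' ≫ r) y)
      exact ⟨k, (hpre k).le hk⟩
    · rw [CommRingCat.hom_ofHom, ← hC k]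
      exact (RingHom.FiniteType.of_surjective _ (RelConeLib.Gen.coneChart_bijective k.2.2).2).comp
        (RingHom.finiteType_algebraMap.mpr inferInstance)
  · haveI : IsAffineHom (i' ≫ r) := RelConeLib.of_squares @IsAffineHom (i' ≫ r) e
      (fun U => RelProj.emb p chart U.1 U.2) _ hw hpre'
      (fun y => by obtain ⟨U, hU, v, hv⟩ := RelConeLib.exists_emb (chart := chart) y; exact ⟨⟨U, hU⟩, v, hv⟩)
      fun U => by
        letI := RelConeLib.algι ι U.1
        exact RelConeLib.isAffineHom_coneLift (RelProj.gradedHomAt ι hz.graded U.1 U.2) (fun _ => rfl) _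
          (hz.deg_z U.1 U.2) (RelConeLib.hat_bij hz U.1 U.2) (V U) (hW U)
    infer_instance
  · obtain ⟨k, hk⟩ := exists_jY (chart := chart) hgen x
    refine ConeRetrLib.exists_fibre_iso (i' ≫ r) (jE k) (jY (chart := chart) k) (CommRingCat.ofHom _)
      (wE k) (hpre k) x hk _ fun ψ => ?_
    exact ConeRetrLib.isPushout_of_bijective (ConeRetrLib.isPushout_laurent ψ.hom) _
      (RelConeLib.Gen.coneChart_bijective k.2.2) _ (hC k)

end Rel

end Groth.Agent.S19985Aux



/-- Let 𝒮 be a quasi-coherent positively graded O_Y-algebra with 𝒮_0 = O_Y which is generated by 𝒮_1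
(over every affine open U the ring 𝒮(U) is generated by its degree-0 and degree-1 parts), Ŝ = 𝒮[z]
(graded homomorphism ι : 𝒮 → Ŝ and a degree-one global section z, polynomial over affine opens), C =
Spec(𝒮), X = Proj(𝒮) and Ĉ = Proj(Ŝ) with their charts, E ⊆ C and Ê ⊆ Ĉ the pointed cones, i : C → Ĉ
the canonical open immersion and p : Ê → X the canonical retraction (the morphism which on each
affine piece Spec Ŝ(U)_(ι f), f ∈ 𝒮(U) homogeneous of positive degree, is Spec of 𝒮(U)_(f) → Ŝ(U)_(ι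
f) followed by the chart of X). Then p is of finite type (locally of finite type and quasi-compact)
and for every point x of X the fibre p⁻¹(x) = Ê ×_X Spec k(x) is isomorphic over k(x) to the affine
line Spec k(x)[T]; and for every factorisation i' : E → Ê of i restricted to E, the composite π = p
∘ i' : E → X is of finite type and its fibre at every x is isomorphic over k(x) to Spec k(x)[T,
T⁻¹]. -/
theorem result {Y PC P : Scheme.{u}} (𝒮 𝒮h : RelProj.QCGrAlg Y) (h0 : RelCone.StrZeroBij 𝒮)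
    (hgen : 𝒮.IsGenDegOne)
    (ι : 𝒮.toQCAlg ⟶ 𝒮h.toQCAlg) (z : 𝒮h.presheaf.obj (op ⊤)) (hz : RelCone.IsPolyOver 𝒮 𝒮h ι z)
    (pC : PC ⟶ Y)
    (chartC : ∀ (U : Y.Opens) (hU : IsAffineOpen U), (((pC ⁻¹ᵁ U : PC.Opens) : Scheme.{u}) ≅ Proj (𝒮h.deg U hU)))
    (hPC : RelProj.IsRelProj 𝒮h pC chartC)
    (p : P ⟶ Y)
    (chart : ∀ (U : Y.Opens) (hU : IsAffineOpen U), (((p ⁻¹ᵁ U : P.Opens) : Scheme.{u}) ≅ Proj (𝒮.deg U hU)))
    (hP : RelProj.IsRelProj 𝒮 p chart)
    (i : 𝒮.toQCAlg.spec ⟶ PC) (hi : RelCone.IsConeImm 𝒮 hz pC chartC i)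
    (r : ((RelCone.pointedProjCone 𝒮 hz pC chartC : PC.Opens) : Scheme.{u}) ⟶ P)
    (hr : (∀ (U : Y.Opens) (hU : IsAffineOpen U) (d : ℕ) (hd : 0 < d) (f : 𝒮.presheaf.obj (op U)) (hf : f ∈ 𝒮.deg U hU d)
        (g : Spec (CommRingCat.of (HomogeneousLocalization.Away (𝒮h.deg U hU) ((RelProj.gradedHomAt ι hz.graded U hU) f))) ⟶
          ((RelCone.pointedProjCone 𝒮 hz pC chartC : PC.Opens) : Scheme.{u})),
        g ≫ (RelCone.pointedProjCone 𝒮 hz pC chartC).ι =
            Proj.awayι (𝒮h.deg U hU) ((RelProj.gradedHomAt ι hz.graded U hU) f) ((RelProj.gradedHomAt ι hz.graded U hU).2 hf) hd ≫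
              RelProj.emb pC chartC U hU →
          g ≫ r =
            Spec.map (CommRingCat.ofHom (HomogeneousLocalization.Away.map (RelProj.gradedHomAt ι hz.graded U hU) f)) ≫
              Proj.awayι (𝒮.deg U hU) f hf hd ≫ RelProj.emb p chart U hU)) :
    (LocallyOfFiniteType r ∧ QuasiCompact r ∧
        ∀ x : ↥P, ∃ e : pullback r (P.fromSpecResidueField x) ≅ Spec (CommRingCat.of (Polynomial (P.residueField x))),
          e.hom ≫ Spec.map (CommRingCat.ofHom (algebraMap (P.residueField x) (Polynomial (P.residueField x)))) =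
            pullback.snd r (P.fromSpecResidueField x)) ∧
      ∀ i' : ((RelCone.pointedCone 𝒮 : 𝒮.toQCAlg.spec.Opens) : Scheme.{u}) ⟶
          ((RelCone.pointedProjCone 𝒮 hz pC chartC : PC.Opens) : Scheme.{u}),
        i' ≫ (RelCone.pointedProjCone 𝒮 hz pC chartC).ι = (RelCone.pointedCone 𝒮).ι ≫ i →
          LocallyOfFiniteType (i' ≫ r) ∧ QuasiCompact (i' ≫ r) ∧
        ∀ x : ↥P, ∃ e : pullback (i' ≫ r) (P.fromSpecResidueField x) ≅ Spec (CommRingCat.of (LaurentPolynomial (P.residueField x))),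
          e.hom ≫ Spec.map (CommRingCat.ofHom (algebraMap (P.residueField x) (LaurentPolynomial (P.residueField x)))) =
            pullback.snd (i' ≫ r) (P.fromSpecResidueField x) := by
  exact ⟨Groth.Agent.S19985Aux.polynomial_fibre hz hPC hP hr hgen,
    fun i' hi' => Groth.Agent.S19985Aux.laurent_fibre hz hPC hP hr hi i' hi' hgen⟩

end Groth.Agent.S19985
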