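import Groth.Statements.S19986
import Groth.Agent.DepthLib.DepthAlongLoci
import Mathlib

set_option autoImplicit false
universe u
open CategoryTheory CategoryTheory.Limits AlgebraicGeometry TopologicalSpace Topology
open CInt

namespace Groth.Agent.S19986

/-- Let f : X ⟶ S be locally of finite presentation, Y a closed subset of X which is locally
constructible in X, and F a finitely presented quasi-coherent O_X-module flat over S. Then the
function on Y sending y to the depth of the fibre module F_{f(y)} along Y ∩ X_{f(y)} at y (with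
values in ℕ ∪ {∞}) is locally constructible on the topological space Y: every point of Y has an open
neighbourhood V in Y on which the function takes only finitely many values and on which every level
set is a constructible subset of V (a member of the Boolean algebra generated by the retrocompact
open subsets of V). -/
theorem result {X S : Scheme.{u}} (f : X ⟶ S)
    [LocallyOfFinitePresentation f] (Y : Closeds ↥X) (hY : IsLocallyConstructible (Y : Set ↥X))
    (F : X.Modules) (hqc : Coh.IsQCoh F) (hfp : CohB1.IsFP F) (hfl : FlatMod.IsFlatOver f F)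
    (y₀ : ↥(Y : Set ↥X)) :
    ∃ V : Opens ↥(Y : Set ↥X), y₀ ∈ V ∧
      ((fun y : ↥(Y : Set ↥X) => CInt.fiberDepthAlong f F (Y : Set ↥X) y.1) '' (V : Set ↥(Y : Set ↥X))).Finite ∧
      ∀ t : ℕ∞, IsConstructible
        {v : ↥V | CInt.fiberDepthAlong f F (Y : Set ↥X) v.1.1 = t} := by
  classical
  haveI := hqc
  haveI := hfp
  have hFT : CohB1.IsFT F := inferInstance
  obtain ⟨V, hV, hxV⟩ : ∃ V : X.Opens, IsAffineOpen V ∧ y₀.1 ∈ V := by
    obtain ⟨_, ⟨V, hV, rfl⟩, hxV, -⟩ :=
      X.isBasis_affineOpens.exists_subset_of_mem_open (Set.mem_univ y₀.1) isOpen_univ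
    exact ⟨V, hV, hxV⟩
  let W : Opens ↥(Y : Set ↥X) := ⟨Subtype.val ⁻¹' (V : Set X), V.2.preimage continuous_subtype_val⟩
  let O : ℕ → Set X := fun e => {y : X | FlatMor.fibreDimAt f y ≤ (e : WithBot ℕ∞)}
  have hcov : (V : Set X) ⊆ ⋃ e : ℕ, O e := fun y _ => by
    obtain ⟨e, he⟩ := UOpenLib.exists_fibreDimAt_eq_nat f y
    exact Set.mem_iUnion.2 ⟨e, he.le⟩
  obtain ⟨s, hs⟩ := hV.isCompact.elim_finite_subcover O (fun e => FibDimLib.isOpen_fibreDimAt_le f _) hcov
  let N := s.sup id
  have hbound : ∀ y ∈ V, CInt.fiberDepthAlong f F (Y : Set X) y = ⊤ ∨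
      CInt.fiberDepthAlong f F (Y : Set X) y ≤ (N : ℕ∞) := by
    intro y hy
    by_cases hall : ∀ z : {z : X // z ∈ (Y : Set X) ∧ z ⤳ y ∧ f.base z = f.base y},
        CInt.fiberDepth f F z.1 = ⊤
    · exact Or.inl (iInf_eq_top.2 hall)
    push Not at hall
    obtain ⟨z, hz⟩ := hall
    refine Or.inr (iInf_le_of_le z ?_)
    by_cases hzs : z.1 ∈ CohB1.support F
    · obtain ⟨d, r, a, -, ha, -, had, he, -⟩ := DepthLib.exists_mod_numbers f F hFT hzs
      obtain ⟨e, he', hye⟩ := Set.mem_iUnion₂.1 (hs hy)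
      have h1 := (DepthLib.le_fibreDimAt_of_suppDimAt f F hFT z.2.2.1 he).trans hye
      rw [Nat.cast_le] at h1
      have h2 : e ≤ N := Finset.le_sup (f := id) he'
      rw [CInt.fiberDepth, show LocCoh.depth (CInt.fiberStalk f z.1)
        (((Scheme.Modules.pullback (f.fiberι (f.base z.1))).obj F).presheaf.stalk (f.asFiber z.1)) = (a : ℕ∞) from ha,
        Nat.cast_le]
      omega
    · exfalso
      apply hz
      haveI := UOpenLib.lft_fiberToSpec f (f.base z.1)
      haveI : IsLocallyNoetherian (f.fiber (f.base z.1)) :=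
        LocallyOfFiniteType.isLocallyNoetherian (f.fiberToSpecResidueField (f.base z.1))
      haveI : Subsingleton (((Scheme.Modules.pullback (f.fiberι (f.base z.1))).obj F).presheaf.stalk
          (f.asFiber z.1)) := by
        rw [← Module.supportDim_eq_bot_iff_subsingleton ((f.fiber (f.base z.1)).presheaf.stalk (f.asFiber z.1))]
        exact DepthLib.supportDim_fibre_eq_bot f F hFT hzs
      exact ENat.eq_top_iff_forall_ge.2 fun n =>
        DepthLib.le_depth_of_subsingleton ((f.fiber (f.base z.1)).presheaf.stalk (f.asFiber z.1)) _ n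
  refine ⟨W, hxV, ?_, fun t => ?_⟩
  · have hfin : (Set.Iic (N : ℕ∞)).Finite := by
      refine ((Finset.range (N + 1)).finite_toSet.image (Nat.cast : ℕ → ℕ∞)).subset fun a ha => ?_
      obtain ⟨m, rfl⟩ := ENat.ne_top_iff_exists.1 (ne_top_of_le_ne_top (ENat.coe_ne_top N) ha)
      exact ⟨m, Finset.mem_coe.2 (Finset.mem_range.2 (Nat.lt_succ_of_le (Nat.cast_le.1 (Set.mem_Iic.1 ha)))), rfl⟩
    refine (hfin.insert ⊤).subset ?_
    rintro _ ⟨y, hy, rfl⟩
    exact Set.mem_insert_iff.2 (hbound y.1 hy)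
  -- level sets
  haveI : CompactSpace (V : Scheme.{u}) := isCompact_iff_compactSpace.1 hV.isCompact
  haveI : IsAffine (V : Scheme.{u}) := hV
  let j : ↥W → (V : Scheme.{u}) := fun v => ⟨v.1.1, v.2⟩
  have hj : IsClosedEmbedding j := by
    refine ⟨⟨⟨?_⟩, fun a b h => Subtype.ext (Subtype.ext (congrArg (fun w : (V : Scheme.{u}) => (w.1 : X)) h))⟩, ?_⟩
    · have h1 : IsInducing (fun v : ↥W => (v.1.1 : X)) :=
        IsInducing.subtypeVal.comp IsInducing.subtypeVal
      exact ((IsInducing.subtypeVal (t := {x : X | x ∈ V})).of_comp_iff (f := j)).1 h1 |>.eq_induced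
    · have : Set.range j = V.ι ⁻¹' (Y : Set X) := by
        ext w
        exact ⟨by rintro ⟨v, rfl⟩; exact v.1.2, fun hw => ⟨⟨⟨w.1, hw⟩, w.2⟩, Subtype.ext rfl⟩⟩
      rw [this]
      exact Y.isClosed.preimage V.ι.continuous
  have hYV : IsConstructible (V.ι ⁻¹' (Y : Set X)) :=
    (ConsLib.isLocallyConstructible_preimage V.ι hY).isConstructible
  have hcpt : IsCompact (Set.range j)ᶜ := by
    have : Set.range j = V.ι ⁻¹' (Y : Set X) := by
      ext w
      exact ⟨by rintro ⟨v, rfl⟩; exact v.1.2, fun hw => ⟨⟨⟨w.1, hw⟩, w.2⟩, Subtype.ext rfl⟩⟩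
    rw [this]
    have h2 := SweepSix.isRetrocompact_of_isConstructible hYV.compl isCompact_univ isOpen_univ
    rwa [Set.inter_univ] at h2
  let D : ℕ → Set (V : Scheme.{u}) := fun n =>
    V.ι ⁻¹' {y : X | (n : ℕ∞) ≤ CInt.fiberDepthAlong f F (Y : Set X) y}
  have hD : ∀ n, IsConstructible (j ⁻¹' D n) := fun n =>
    IsConstructible.preimage_of_isClosedEmbedding hj hcpt (ConsLib.isLocallyConstructible_preimage V.ι
      (DepthLib.isLocallyConstructible_le_fiberDepthAlong f F hfp hFT hY n)).isConstructible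
  have hmem : ∀ (n : ℕ) (v : ↥W), v ∈ j ⁻¹' D n ↔
      (n : ℕ∞) ≤ CInt.fiberDepthAlong f F (Y : Set X) v.1.1 := fun n v => Iff.rfl
  induction t using ENat.recTopCoe with
  | top =>
    convert hD (N + 1) using 1
    ext v
    rw [hmem]
    change _ = ⊤ ↔ _
    refine ⟨fun h => h ▸ le_top, fun h => (hbound v.1.1 v.2).resolve_right fun h' => ?_⟩
    have := h.trans h'
    rw [Nat.cast_le] at this
    omega
  | coe n =>
    convert (hD n).sdiff (hD (n + 1)) using 1
    ext v
    rw [Set.mem_diff, hmem, hmem]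
    change _ = (n : ℕ∞) ↔ _
    generalize CInt.fiberDepthAlong f F (Y : Set X) v.1.1 = d
    induction d using ENat.recTopCoe with
    | top => simp
    | coe d => simp only [Nat.cast_le, Nat.cast_inj]; omega

end Groth.Agent.S19986
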