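import Groth.Statements.S19996
import Groth.Agent.WildQuotLib.Break

set_option autoImplicit false
universe u
open WildQuot

namespace Groth.Agent.S19996

/-- Let `k` be a field of characteristic `p > 0`, `A = k[[u]]`, and `σ` a `k`-algebra automorphism of
`A` of order exactly `p` with ramification break `m`, i.e. `σ u - u` has order `m + 1`. Then `p`
divides `m + 1` if and only if there are a uniformizer `s` of `A` (a power series of order `1`) and
a `σ`-invariant power series `a` with `σ s = s + a`. (The published statement has a third equivalent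
condition, that `Spec A` is a torsor under the effective model of the action; this row omits it.) -/
theorem result
    (p : ℕ) [Fact p.Prime] (k : Type u) [Field k] [CharP k p]
    (σ : PowerSeries k ≃ₐ[k] PowerSeries k) (hσp : σ ^ p = 1) (hσ1 : σ ≠ 1)
    (m : ℕ) (hm : (σ PowerSeries.X - PowerSeries.X).order = ((m + 1 : ℕ) : ℕ∞)) :
    p ∣ m + 1 ↔
      ∃ s a : PowerSeries k, s.order = 1 ∧ σ a = a ∧ σ s = s + a := by
  have hm' : WildQuotLib.HasOrd (WildQuotLib.dl σ PowerSeries.X) (m + 1) :=
    WildQuotLib.hasOrd_iff_order.2 hm
  exact ⟨fun h => WildQuotLib.exists_uniformizer σ hσp hm' h,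
    fun ⟨_, _, hs, ha, hsa⟩ => WildQuotLib.dvd_of_uniformizer σ hσp hm' hs ha hsa⟩

end Groth.Agent.S19996
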