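import Groth.Statements.S20000
import Groth.Agent.UnirLib.Solvable
import Groth.Agent.FFDescLib.Closure

set_option autoImplicit false
universe u
open Neron

namespace Groth.Agent.S20000

set_option backward.isDefEq.respectTransparency false
set_option linter.style.haveILetI false
open Groth.Agent WittGrp
open CategoryTheory CategoryTheory.Limits MonoidalCategory CartesianMonoidalCategory MonObj AlgebraicGeometry
attribute [-instance] CategoryTheory.Hom.commGroup

open CategoryTheory AlgebraicGeometry in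
/-- Let `κ` be an arbitrary field and `G`, `G''` smooth connected commutative group schemes of finite
type over `κ`. Let `q : G → G''` be a homomorphism which is flat and surjective, and `i : 𝔾_a → G` a
homomorphism exhibiting the additive group as the kernel of `q` (so `0 → 𝔾_a → G → G'' → 0` is exact
in the fppf topology). If `G''` is unirational, i.e. admits a dominant `κ`-morphism from a nonempty
open subscheme of an affine space over `κ`, then so does `G`. (The published statement allows the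
kernel to be any repeated extension of copies of `𝔾_a`; this row is the case of a single copy, from
which the general case follows by induction on the length.) -/
theorem result
    (κ : Type u) [Field κ]
    (G G'' : Over (Spec (CommRingCat.of κ))) [GrpObj G] [IsCommMonObj G] [GrpObj G''] [IsCommMonObj G'']
    [Smooth G.hom] [LocallyOfFiniteType G.hom] [QuasiCompact G.hom] [ConnectedSpace G.left]
    [Smooth G''.hom] [LocallyOfFiniteType G''.hom] [QuasiCompact G''.hom] [ConnectedSpace G''.left]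
    (q : G ⟶ G'') [IsMonHom q] [Flat q.left] (hq : Function.Surjective q.left.base)
    (i : Red.Ga (Spec (CommRingCat.of κ)) ⟶ G) [IsMonHom i] (hker : AlgGrp.IsKernel i q)
    (huni : ∃ (n : ℕ) (V : (AffineSpace (ULift.{u} (Fin n)) (Spec (CommRingCat.of κ))).Opens)
        (ψ : (V : Scheme.{u}) ⟶ G''.left),
      (V : Set (AffineSpace (ULift.{u} (Fin n)) (Spec (CommRingCat.of κ)))).Nonempty ∧ DenseRange ψ.base ∧
      ψ ≫ G''.hom = V.ι ≫ (AffineSpace (ULift.{u} (Fin n)) (Spec (CommRingCat.of κ)) ↘ Spec (CommRingCat.of κ))) :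
    ∃ (n : ℕ) (V : (AffineSpace (ULift.{u} (Fin n)) (Spec (CommRingCat.of κ))).Opens)
        (ψ : (V : Scheme.{u}) ⟶ G.left),
      (V : Set (AffineSpace (ULift.{u} (Fin n)) (Spec (CommRingCat.of κ)))).Nonempty ∧ DenseRange ψ.base ∧
      ψ ≫ G.hom = V.ι ≫ (AffineSpace (ULift.{u} (Fin n)) (Spec (CommRingCat.of κ)) ↘ Spec (CommRingCat.of κ)) := by
  haveI : Fact (Nat.Prime 2) := ⟨Nat.prime_two⟩
  haveI : Surjective q.left := ⟨hq⟩
  haveI : IsSeparated G''.hom := GrpField.isSeparated_grp (G := G'')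
  haveI := AlbLib.geometricallyIntegral_grp G''
  haveI : IsIntegral G''.left := GeometricallyIntegral.isIntegral_of_subsingleton G''.hom
  haveI := AlbLib.geometricallyIntegral_grp G
  haveI : IsIntegral G.left := GeometricallyIntegral.isIntegral_of_subsingleton G.hom
  obtain ⟨e, he, -⟩ := Groth.Agent.S12181.result 2 (Spec (CommRingCat.of κ))
  haveI : IsIso e.inv.left := (Over.forget (Spec (CommRingCat.of κ))).map_isIso e.inv
  haveI : Smooth (Red.Ga (Spec (CommRingCat.of κ))).hom := by rw [← Over.w e.inv]; infer_instance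
  haveI : Smooth q.left := SemiAbLib.smooth_of_kernel i q hker
  obtain ⟨U, hU, s, hs⟩ := Unir.exists_section_ext Unir.h1Zero_ga i q hker
  obtain ⟨b, V, ψ, hVne, hψd, hψ⟩ := huni
  haveI : IsDominant ψ := ⟨hψd⟩
  let Uo : Over (Spec (CommRingCat.of κ)) := Over.mk (U.ι ≫ G''.hom)
  let sG : Uo ⟶ G := Over.homMk s (by show s ≫ G.hom = U.ι ≫ G''.hom; rw [← hs, Category.assoc, Over.w q])
  let ιU : Uo ⟶ G'' := Over.homMk U.ι rfl
  have hsq' : sG ≫ q = ιU := Over.OverMorphism.ext hs
  let ga := Red.Ga (Spec (CommRingCat.of κ))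
  let m : Uo ⊗ ga ⟶ G := (fst Uo ga ≫ sG) * (snd Uo ga ≫ i)
  haveI : Mono ιU := Over.mono_of_mono_left ιU
  have hkill : ∀ (T : Over (Spec (CommRingCat.of κ))) (d : T ⟶ ga), (d ≫ i) ≫ q = 1 := fun T d => by
    rw [Category.assoc, hker.w, ← Category.assoc, toUnit_unique (d ≫ toUnit _) (toUnit _), Hom.one_def]
  have sq : IsPullback m (fst Uo ga) q ιU := by
    refine IsPullback.of_isLimit' ⟨by
      rw [MonObj.mul_comp, hkill, _root_.mul_one, Category.assoc, hsq']⟩
      (Limits.PullbackCone.IsLimit.mk _ (fun c => lift c.snd (hker.lift ((c.snd ≫ sG)⁻¹ * c.fst) (toUnit _) (by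
        rw [MonObj.mul_comp, GrpObj.inv_comp, Category.assoc, hsq', c.condition, inv_mul_cancel, Hom.one_def])))
      (fun c => ?_) (fun c => ?_) (fun c l hl₁ hl₂ => ?_))
    · simp only [m, MonObj.comp_mul, lift_fst_assoc, lift_snd_assoc, hker.lift_fst, mul_inv_cancel_left]
    · simp
    · refine CartesianMonoidalCategory.hom_ext _ _ (by simpa using hl₂) ?_
      rw [lift_snd]
      refine hker.hom_ext ?_ (toUnit_unique _ _)
      rw [hker.lift_fst, ← hl₁, ← hl₂]
      simp [m, MonObj.comp_mul]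
  haveI : IsOpenImmersion m.left := MorphismProperty.of_isPullback (P := @IsOpenImmersion)
    (sq.map (Over.forget _)).flip (inferInstanceAs (IsOpenImmersion U.ι))
  let Vo : Over (Spec (CommRingCat.of κ)) :=
    Over.mk ((ψ ⁻¹ᵁ U).ι ≫ V.ι ≫ (AffineSpace (ULift.{u} (Fin b)) (Spec (CommRingCat.of κ)) ↘ Spec (CommRingCat.of κ)))
  let jV : Vo ⟶ W 2 b (Spec (CommRingCat.of κ)) := Over.homMk ((ψ ⁻¹ᵁ U).ι ≫ V.ι) (Category.assoc _ _ _)
  let r : Vo ⟶ Uo := Over.homMk (ψ ∣_ U) (by
    show (ψ ∣_ U) ≫ U.ι ≫ G''.hom = (ψ ⁻¹ᵁ U).ι ≫ _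
    rw [← Category.assoc, morphismRestrict_ι, Category.assoc, hψ])
  haveI : IsOpenImmersion jV.left := inferInstanceAs (IsOpenImmersion ((ψ ⁻¹ᵁ U).ι ≫ V.ι))
  haveI : IsDominant r.left := by
    refine ⟨dense_iff_inter_open.2 fun O hO ⟨y, hy⟩ => ?_⟩
    obtain ⟨z, ⟨y', hy', hz⟩, v, rfl⟩ := dense_iff_inter_open.1 ψ.denseRange (U.ι '' O)
      (U.ι.isOpenEmbedding.isOpenMap O hO) ⟨_, y, hy, rfl⟩
    have hv : v ∈ ψ ⁻¹ᵁ U := by show ψ v ∈ U; rw [← hz]; exact y'.2
    refine ⟨y', hy', ⟨⟨v, hv⟩, U.ι.isOpenEmbedding.injective ?_⟩⟩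
    exact ((congr($(morphismRestrict_ι ψ U) ⟨v, hv⟩)).trans hz.symm :)
  haveI : IsDominant (r ▷ ga).left := by
    haveI : Smooth (fst Uo ga).left := MorphismProperty.pullback_fst _ _ inferInstance
    exact FFDescLib.isDominant_of_isPullback_of_isOpenMap r.left (fst Uo ga).left (fst Vo ga).left (r ▷ ga).left
      (WittExtLib.isPullback_whiskerRight r ga).flip (fst Uo ga).left.isOpenMap
  have hne : Nonempty ↥(Uo ⊗ ga).left := by
    obtain ⟨y, hy⟩ := hU
    have hz : (Uo.hom) ⟨y, hy⟩ = ga.hom ((η[ga] : 𝟙_ _ ⟶ ga).left (IsLocalRing.closedPoint κ)) :=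
      Subsingleton.elim (α := PrimeSpectrum κ) _ _
    exact ⟨(Scheme.Pullback.exists_preimage_pullback _ _ hz).choose⟩
  haveI : IsDominant m.left := ⟨(m.left.isOpenEmbedding.isOpen_range).dense (Set.range_nonempty _)⟩
  obtain ⟨c⟩ := UnipStruct.exists_iso_tensor (p := 2) (Iso.refl (W 2 b (Spec (CommRingCat.of κ))))
    (Iso.refl (W 2 1 (Spec (CommRingCat.of κ))))
  let J : Vo ⊗ ga ⟶ W 2 (b + 1) (Spec (CommRingCat.of κ)) :=
    jV ▷ ga ≫ (W 2 b (Spec (CommRingCat.of κ))) ◁ e.inv ≫ c.inv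
  haveI : IsIso c.inv.left := (Over.forget (Spec (CommRingCat.of κ))).map_isIso c.inv
  haveI : IsIso ((W 2 b (Spec (CommRingCat.of κ))) ◁ e.inv).left :=
    (Over.forget (Spec (CommRingCat.of κ))).map_isIso ((W 2 b (Spec (CommRingCat.of κ))) ◁ e.inv)
  haveI : IsOpenImmersion (jV ▷ ga).left := MorphismProperty.of_isPullback (P := @IsOpenImmersion)
    ((WittExtLib.isPullback_whiskerRight jV ga).flip) inferInstance
  haveI : IsOpenImmersion J.left := by simp only [J, Over.comp_left]; infer_instance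
  have hVo : Nonempty ↥(Vo ⊗ ga).left := by
    obtain ⟨z⟩ := hne
    obtain ⟨-, -, x, -⟩ := dense_iff_inter_open.1 (r ▷ ga).left.denseRange Set.univ isOpen_univ ⟨z, trivial⟩
    exact ⟨x⟩
  refine ⟨b + 1, J.left.opensRange, J.left.isoOpensRange.inv ≫ ((r ▷ ga).left ≫ m.left), ?_, ?_, ?_⟩
  · obtain ⟨x⟩ := hVo
    exact ⟨J.left x, x, rfl⟩
  · exact (inferInstance : IsDominant (J.left.isoOpensRange.inv ≫ ((r ▷ ga).left ≫ m.left))).denseRange
  · rw [Category.assoc, Category.assoc, Over.w m, Over.w (r ▷ ga), ← Over.w J, ← Category.assoc,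
      Scheme.Hom.isoOpensRange_inv_comp]
    rfl

end Groth.Agent.S20000
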