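import Groth.Statements.S20003
import Groth.Agent.FMKLib.TorsionFree
import Groth.Agent.FMKLib.ShiftHom
import Groth.Agent.FMKLib.CMDual
import Groth.Agent.FMKLib.Ample
import Groth.Agent.Dual3Lib.PushCoh

set_option autoImplicit false
set_option backward.isDefEq.respectTransparency false
set_option backward.isDefEq.respectTransparency.types false
universe u
open CategoryTheory CategoryTheory.Limits AlgebraicGeometry
attribute [local instance] HasDerivedCategory.standard
open FMK

namespace Groth.Agent.S20003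

/-- Let k be an algebraically closed field, X and Y proper schemes over k with structure morphisms a and
b, X with Cohen–Macaulay local rings and equidimensional of dimension d, Y with Gorenstein local
rings. Let Ra_* on D_QCoh have the right adjoint a^× (given as data with its adjunction), O an
object of D_QCoh(Spec k) isomorphic to the structure sheaf in degree 0, and ω_X = H^{−d}(a^×O) the
dualizing module of X; write RΔ(F) = RHom(F, ω_X). Let P be a cochain complex of modules on X ×_k Y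
defining a perfect object and P' a cochain complex representing its derived dual RHom(P, O_{X×Y});
for a kernel K write Φ_K = Rpr_{Y,*}(Lpr_X^*(−) ⊗^L K) and R^iΦ_K = H^i ∘ Φ_K, the derived functors
involved being assumed to exist. Let F be a cochain complex of O_X-modules defining a perfect object
which is GV with respect to P: R^iΦ_P F = 0 for i < 0 and, for i ≥ 0, the local ring of Y at every
point of the support of R^iΦ_P F has dimension ≥ i. Suppose that Φ_{P'}(RΔ F)[d] is isomorphic in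
D(O_Y) to a coherent O_Y-module G placed in degree 0 whose stalks are torsion-free
(non-zero-divisors of O_{Y,y} act injectively on G_y for every y). Then F is M-regular with respect
to P: for every i > 0, the local ring of Y at every point of the support of R^iΦ_P F has dimension ≥
i + 1. (The published statement asserts the equivalence of M-regularity with this torsion-freeness
and with an injectivity condition on a natural map; this row is the implication from
torsion-freeness, and takes the sheaf G as given rather than deducing that the transform is a sheaf.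
The published statement takes X and Y projective over k; this row takes them proper, the
first-syzygy step being local on Y.) -/
theorem result (k : Type u) [Field k] [IsAlgClosed k]
    (X Y : Scheme.{u}) (a : X ⟶ Spec (CommRingCat.of k)) (b : Y ⟶ Spec (CommRingCat.of k)) [IsProper a] [IsProper b]
    (hXcm : ∀ x : ↥X, LocCoh.IsCohenMacaulayLocalRing ↑(X.presheaf.stalk x))
    (hYg : ∀ y : ↥Y, LocCoh.IsGorensteinLocalRing ↑(Y.presheaf.stalk y))
    (d : ℕ) (hd : topologicalKrullDim ↥X = (d : WithBot ℕ∞))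
    (hXeq : ∀ Z ∈ irreducibleComponents ↥X, topologicalKrullDim ↥Z = (d : WithBot ℕ∞))
    [DCoh.HasRpush a] (ha : DCoh.RpushPreservesQCoh a)
    (adx : DCoh.DQCoh (Spec (CommRingCat.of k)) ⥤ DCoh.DQCoh X) (adj : DCoh.RpushQ a ha ⊣ adx)
    (O : DCoh.DQCoh (Spec (CommRingCat.of k)))
    (hO : Nonempty (O.obj ≅ DCoh.inD (Spec (CommRingCat.of k)) (Coh.structureModule (Spec (CommRingCat.of k)))))
    (P : CochainComplex (pullback a b).Modules ℤ) (hP : DCoh.IsPerfect (DCoh.toD (pullback a b) P))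
    [DCoh.HasLpull (pullback.fst a b)] [DCoh.HasLTensorCx P] [DCoh.HasRSheafHom P] [DCoh.HasRpush (pullback.snd a b)]
    (P' : CochainComplex (pullback a b).Modules ℤ) [DCoh.HasLTensorCx P']
    (hP' : Nonempty (DCoh.toD (pullback a b) P' ≅
      (DCoh.RSheafHom P).obj (DCoh.inD (pullback a b) (Coh.structureModule (pullback a b)))))
    (F : CochainComplex X.Modules ℤ) (hF : DCoh.IsPerfect (DCoh.toD X F)) [DCoh.HasLTensorCx F] [DCoh.HasRSheafHom F]
    (hGVneg : ∀ i : ℤ, i < 0 → IsZero (DCoh.HD ((FMK.phi a b P).obj (DCoh.toD X F)) i))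
    (hGV : ∀ (i : ℕ) (y : ↥Y), y ∈ CohB1.support (DCoh.HD ((FMK.phi a b P).obj (DCoh.toD X F)) (i : ℤ)) →
      ((i : ℕ) : WithBot ℕ∞) ≤ ringKrullDim ↑(Y.presheaf.stalk y))
    (G : Y.Modules) (hGc : Coh.IsCoh G)
    (hG : Nonempty (DCoh.inD Y G ≅ (shiftFunctor (DCoh.D Y) (d : ℤ)).obj ((FMK.phi a b P').obj
      ((DCoh.RSheafHom F).obj (DCoh.inD X (DCoh.HD (adx.obj O).obj (-(d : ℤ))))))))
    (htf : ∀ (y : ↥Y) (r : ↑(Y.presheaf.stalk y)), r ∈ nonZeroDivisors ↑(Y.presheaf.stalk y) →
      ∀ m : ↑(G.presheaf.stalk y), r • m = 0 → m = 0)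
    (i : ℕ) (hi : 0 < i) (y : ↥Y)
    (hy : y ∈ CohB1.support (DCoh.HD ((FMK.phi a b P).obj (DCoh.toD X F)) (i : ℤ))) :
    ((i + 1 : ℕ) : WithBot ℕ∞) ≤ ringKrullDim ↑(Y.presheaf.stalk y) := by
  haveI : IsLocallyNoetherian Y := LocallyOfFiniteType.isLocallyNoetherian b
  haveI : CompactSpace Y := QuasiCompact.compactSpace_of_compactSpace b
  haveI : IsNoetherian Y := ⟨⟩
  obtain ⟨eO⟩ := hO
  obtain ⟨eP'⟩ := hP'
  obtain ⟨eG⟩ := hG
  obtain ⟨-, ⟨ew⟩⟩ := FMKLib.nonempty_rightAdjoint_iso_single a ha adx adj O eO hXcm d hd hXeq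
  let w := DCoh.HD (adx.obj O).obj (-(d : ℤ))
  let e : (DerivedCategory.singleFunctor X.Modules (-(d : ℤ))).obj w ≅ (DCoh.inD X w)⟦(d : ℤ)⟧ :=
    (((DerivedCategory.singleFunctors X.Modules).shiftIso (d : ℤ) (-(d : ℤ)) 0 (by omega)).app w).symm
  obtain ⟨sh⟩ := FMKLib.nonempty_rSheafHom_shift F hF (DCoh.inD X w) (d : ℤ)
  obtain ⟨ps⟩ := FMKLib.nonempty_phi_shift a b P' ((DCoh.RSheafHom F).obj (DCoh.inD X w)) (d : ℤ)
  obtain ⟨K, hK, ⟨eK⟩⟩ := PerfDualLib.exists_kFlat_model ((FMK.phi a b P).obj (DCoh.toD X F))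
  haveI := KFlatLib.hasLTensorCx K
  haveI := BidualSchLib.hasRSheafHom K
  obtain ⟨main⟩ := FMKLib.nonempty_dual_phi a b ha adx adj O eO P hP P' eP' F hF K eK
  let eD : (DCoh.RSheafHom K).obj (DerivedCategory.Q.obj (PerfDualLib.unitCx Y)) ≅ DCoh.inD Y G :=
    (DCoh.RSheafHom K).mapIso (DualFMLib.inDUnit Y).symm ≪≫ main ≪≫
      (FMK.phi a b P').mapIso ((DCoh.RSheafHom F).mapIso (ew ≪≫ e) ≪≫ sh) ≪≫ ps ≪≫ eG.symm
  let E := DerivedCategory.Q.objPreimage (DCoh.inD Y G)
  let eE := DerivedCategory.Q.objObjPreimageIso (DCoh.inD Y G)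
  haveI := KFlatLib.hasLTensorCx E
  haveI := BidualSchLib.hasRSheafHom E
  haveI := KFlatLib.hasLTensorCx (PerfDualLib.unitCx Y)
  haveI := BidualSchLib.hasRSheafHom (PerfDualLib.unitCx Y)
  have hKp : DCoh.IsPerfect (DerivedCategory.Q.obj K) :=
    PerfLib.isPerfect_of_iso eK.symm (FMKLib.isPerfect_phi k a b P hP _ hF)
  have hEp : DCoh.IsPerfect (DerivedCategory.Q.obj E) :=
    PerfLib.isPerfect_of_iso (eE ≪≫ eD.symm).symm (PerfDualLib.isPerfect_dual K hKp)
  obtain ⟨dd⟩ := Dual3Lib.nonempty_rSheafHom_dual K E hKp hEp (eE ≪≫ eD.symm)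
    (DerivedCategory.Q.obj (PerfDualLib.unitCx Y))
  obtain ⟨u⟩ := Dual3Lib.nonempty_lTensorCx_unit K
  have hdual : FMKLib.IsDualOf E ((FMK.phi a b P).obj (DCoh.toD X F)) := @fun _ _ =>
    ⟨eK.symm ≪≫ u.symm ≪≫ dd ≪≫ (DCoh.RSheafHom E).mapIso (DualFMLib.inDUnit Y).symm⟩
  have hne := FMKLib.lt_dim_of_torsionFree E hEp _ @hdual G eE htf i hi y hy
  obtain ⟨c, hc⟩ := WithBot.ne_bot_iff_exists.1 (show ringKrullDim ↑(Y.presheaf.stalk y) ≠ ⊥ from
    ringKrullDim_ne_bot)
  have hle := hGV i y hy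
  rw [← hc] at hle hne ⊢
  refine WithBot.coe_le_coe.2 ?_
  have h1 : ((i : ℕ) : ℕ∞) ≤ c := WithBot.coe_le_coe.1 hle
  have h2 : c ≠ ((i : ℕ) : ℕ∞) := fun h => hne (congrArg (WithBot.some) h)
  rcases eq_or_ne c ⊤ with rfl | hct
  · exact le_top
  · obtain ⟨m, rfl⟩ := ENat.ne_top_iff_exists.1 hct
    norm_cast at h1 h2 ⊢
    omega

end Groth.Agent.S20003
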