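import Groth.Statements.S20004
import Mathlib
import Groth.Agent.S15800
-- import your own Groth.Agent.* helpers here

set_option autoImplicit false
universe u v w
open WildQuot

namespace Groth.Agent.S20004

/-- Let `A` be a complete regular local ring of Krull dimension at least `2` and prime characteristic
`p`; let `k` be a field with `k → A` mapping onto the residue field, such that `k` has no Galois
extension of degree `p`; let `G` be a group of order `p` acting on `A` by `k`-algebra automorphisms,
ramified precisely at the origin (for every non-maximal prime `P`, the inertia subgroup of `P` is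
trivial). Let `R` be a `k`-algebra with an injective structure map `R → A` whose image is fixed by
`G` (so `R ⊆ A^G`), with `A` finite over `R`. Galois extensions of fraction fields are expressed
through automorphism counts: since `A` and `A^G` are normal domains finite over `R`,
`Frac(A^G)/Frac(R)` is Galois exactly when `p` times the number of `k`-algebra automorphisms of
`A^G` fixing the image of `R` equals the rank `[Frac A : Frac R]` of `A` over `R`, and
`Frac(A)/Frac(R)` is Galois exactly when the number of `R`-algebra automorphisms of `A` equals that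
rank. The row: the first equality implies the second. (The published statement assumes `R ⊆ A^G`
finite with `Frac(A^G)/Frac(R)` Galois and concludes that `Frac(A)/Frac(R)` is Galois; here `R` is
taken to contain `k`, as the norm subrings of the source do.) -/
theorem result
    (p : ℕ) [Fact p.Prime] (A : Type u) [CommRing A] [IsRegularLocalRing A] [CharP A p]
    [IsAdicComplete (IsLocalRing.maximalIdeal A) A] (hdim : 2 ≤ ringKrullDim A)
    (k : Type v) [Field k] [Algebra k A]
    (hk : Function.Surjective (IsLocalRing.residue A ∘ algebraMap k A))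
    (hkp : ∀ (L : Type v) [Field L] [Algebra k L], IsGalois k L → Module.finrank k L ≠ p)
    (G : Type w) [Group G] [Finite G] [MulSemiringAction G A] (hcard : Nat.card G = p)
    [SMulCommClass G k A]
    (hram : ∀ P : Ideal A, P.IsPrime → P ≠ IsLocalRing.maximalIdeal A → P.inertia G = ⊥)
    (R : Type v) [CommRing R] [Algebra k R] [Algebra R A] [IsScalarTower k R A] [Module.Finite R A]
    (hRinj : Function.Injective (algebraMap R A))
    (hRG : ∀ (σ : G) (r : R), σ • algebraMap R A r = algebraMap R A r)
    (hgal : p * Nat.card {φ : FixedPoints.subalgebra k A G ≃ₐ[k] FixedPoints.subalgebra k A G //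
        ∀ b : FixedPoints.subalgebra k A G, (b : A) ∈ Set.range (algebraMap R A) → (φ b : A) = b} =
      Module.finrank R A) :
    Nat.card (A ≃ₐ[R] A) = Module.finrank R A := by
  classical
  haveI : IsDomain A := CommAlgDim.isDomain_of_isRegularLocalRing A
  haveI : IsDomain R := hRinj.isDomain (algebraMap R A)
  haveI : FaithfulSMul R A := (faithfulSMul_iff_algebraMap_injective R A).2 hRinj
  have hfaith : ∀ g : G, (∀ a : A, g • a = a) → g = 1 := fun g hg => by
    have hne : (⊥ : Ideal A) ≠ IsLocalRing.maximalIdeal A := fun h => by
      rw [← IsLocalRing.maximalIdeal_height_eq_ringKrullDim, ← h, Ideal.height_bot] at hdim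
      exact absurd (WithBot.coe_le_coe.1 hdim) (by norm_num)
    have h1 : g ∈ (⊥ : Ideal A).inertia G := fun a => by rw [hg a, sub_self]; exact zero_mem _
    rwa [hram ⊥ Ideal.isPrime_bot hne, Subgroup.mem_bot] at h1
  let K := FractionRing R
  let L := FractionRing A
  letI : Algebra K L := FractionRing.liftAlgebra R L
  haveI : IsScalarTower R K L := FractionRing.isScalarTower_liftAlgebra R L
  haveI : FiniteDimensional K L := Module.Finite.of_isLocalization R A (nonZeroDivisors R)
  let toK : (A ≃ₐ[R] A) → (L ≃ₐ[K] L) := fun e => IsFractionRing.fieldEquivOfAlgEquiv K L L e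
  have htoK : Function.Injective toK := fun e e' h => AlgEquiv.ext fun a =>
    IsFractionRing.injective A L ((IsFractionRing.fieldEquivOfAlgEquiv_algebraMap K L L e a).symm.trans
      ((congrArg (fun σ : L ≃ₐ[K] L => σ (algebraMap A L a)) h).trans
        (IsFractionRing.fieldEquivOfAlgEquiv_algebraMap K L L e' a)))
  haveI : Finite (A ≃ₐ[R] A) := Finite.of_injective toK htoK
  have hle : Nat.card (A ≃ₐ[R] A) ≤ Module.finrank R A := by
    rw [← IsFractionRing.finrank_eq R K A L]
    refine (Nat.card_le_card_of_injective toK htoK).trans ?_
    rw [Nat.card_eq_fintype_card]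
    exact AlgEquiv.card_le
  refine le_antisymm hle ?_
  let S := {φ : FixedPoints.subalgebra k A G ≃ₐ[k] FixedPoints.subalgebra k A G //
    ∀ b : FixedPoints.subalgebra k A G, (b : A) ∈ Set.range (algebraMap R A) → (φ b : A) = b}
  choose ψ hψ using fun φ : S => Groth.Agent.S15800.result p A hdim k hk hkp G hcard hram φ.1
  let F : G × S → (A ≃ₐ[R] A) := fun x => AlgEquiv.ofRingEquiv
    (f := (ψ x.2).toRingEquiv.trans (MulSemiringAction.toRingEquiv G A x.1)) fun r => by
      show x.1 • ψ x.2 (algebraMap R A r) = algebraMap R A r
      have h1 : ψ x.2 (algebraMap R A r) = algebraMap R A r := by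
        have h2 := hψ x.2 ⟨algebraMap R A r, fun g => hRG g r⟩
        rw [h2]
        exact x.2.2 ⟨algebraMap R A r, fun g => hRG g r⟩ ⟨r, rfl⟩
      rw [h1, hRG]
  have hF : Function.Injective F := by
    rintro ⟨g, φ⟩ ⟨g', φ'⟩ h
    have h' : ∀ a, g • ψ φ a = g' • ψ φ' a := fun a => congrArg (fun e : A ≃ₐ[R] A => e a) h
    have hφ : φ = φ' := by
      refine Subtype.ext (AlgEquiv.ext fun b => Subtype.ext ?_)
      have h1 := h' b
      rwa [hψ, hψ, (φ.1 b).2 g, (φ'.1 b).2 g'] at h1
    subst hφ
    have hg := hfaith (g'⁻¹ * g) fun a => by
      rw [mul_smul, ← (ψ φ).apply_symm_apply a, h', inv_smul_smul]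
    exact Prod.ext (inv_mul_eq_one.1 hg).symm rfl
  rw [← hgal, ← hcard, ← Nat.card_prod]
  exact Nat.card_le_card_of_injective F hF

end Groth.Agent.S20004
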