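import Groth.Statements.S20006
import Groth.Agent.PinchCohFlatLib.Alg
import Groth.Agent.PinchCohFlatLib.Geom

set_option autoImplicit false
universe u
open Pinch

set_option backward.isDefEq.respectTransparency false
set_option backward.isDefEq.respectTransparency.types false
set_option linter.style.haveILetI false
set_option maxHeartbeats 1000000

namespace Groth.Agent.S20006

open CategoryTheory AlgebraicGeometry in
/-- Let Y be an affine scheme whose ring of functions R = Γ(Y, O_Y) is a Dedekind domain, f : X → Y a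
proper flat morphism, t : T → Y a finite morphism, ξ : Z → T a finite faithfully flat morphism with
ξ ≫ t finite, and ι : Z → X a closed immersion over Y; assume every point of Y has an affine open
neighbourhood U together with an affine open V of X inside f⁻¹(U) containing the image under ι of
the part of Z over U, and that over every affine open U of Y the cokernel of the map from functions
on t⁻¹(U) to functions on the part of Z over U is a projective module over the functions on U; let X
→ P ← T be a push-out of ι and ξ in the category of schemes and p : P → Y the induced morphism.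
Suppose that f is cohomologically flat in dimension zero, rendered over the affine base as: for
every commutative ring A and ring map φ : R → A, with Spec A → Y the corresponding morphism, the
square formed by R → Γ(X, O_X), φ, Γ(X, O_X) → Γ(X ×_Y Spec A, O) and A → Γ(X ×_Y Spec A, O) is a
push-out of commutative rings (Γ(X_A, O) = Γ(X, O) ⊗_R A). Suppose moreover that R → Γ(P, O_P) is an
isomorphism (p_* O_P = O_Y) and that Γ(X, O_X) is an étale R-algebra. Then p is cohomologically flat
in dimension zero in the same sense. (The published statement is over an arbitrary Dedekind scheme Y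
with the same local hypotheses; this row takes Y affine so that cohomological flatness can be
written through global sections.) -/
theorem result {X Y T Z : Scheme.{u}} [IsAffine Y]
    (hR : IsDedekindDomain Γ(Y, ⊤))
    (f : X ⟶ Y) (t : T ⟶ Y) (ξ : Z ⟶ T) (ι : Z ⟶ X)
    [IsProper f] [Flat f] [IsFinite t] [IsFinite (ξ ≫ t)] [IsClosedImmersion ι] (hsq : ι ≫ f = ξ ≫ t)
    (hstd : ∀ y : Y, ∃ U : Y.Opens, IsAffineOpen U ∧ y ∈ U ∧ ∃ V : X.Opens, IsAffineOpen V ∧
      V ≤ f ⁻¹ᵁ U ∧ ∀ z : Z, (ξ ≫ t).base z ∈ U → ι.base z ∈ V)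
    [IsFinite ξ] [Flat ξ] [Surjective ξ]
    {P : Scheme.{u}} (a : X ⟶ P) (b : T ⟶ P) (hP : IsPushout ι ξ a b)
    (hv : ∀ U : Y.affineOpens, @Pinch.CokerProjective Γ(Y, U) Γ(Z, (ξ ≫ t) ⁻¹ᵁ U) Γ(T, t ⁻¹ᵁ U) _ _ _
      ((ξ ≫ t).app U).hom.toAlgebra (ξ.app (t ⁻¹ᵁ U)).hom)
    (p : P ⟶ Y) (hap : a ≫ p = f) (hbp : b ≫ p = t)
    (hcf : ∀ (A : Type u) [CommRing A] (φ : Γ(Y, ⊤) →+* A),
      IsPushout f.appTop (CommRingCat.ofHom φ)
        (Limits.pullback.fst f (Spec.map (CommRingCat.ofHom φ) ≫ Y.isoSpec.inv)).appTop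
        ((Scheme.ΓSpecIso (CommRingCat.of A)).inv ≫
          (Limits.pullback.snd f (Spec.map (CommRingCat.ofHom φ) ≫ Y.isoSpec.inv)).appTop))
    (hpO : IsIso p.appTop)
    (het : @Algebra.Etale Γ(Y, ⊤) Γ(X, ⊤) _ _ f.appTop.hom.toAlgebra)
    (A : Type u) [CommRing A] (φ : Γ(Y, ⊤) →+* A) :
    IsPushout p.appTop (CommRingCat.ofHom φ)
      (Limits.pullback.fst p (Spec.map (CommRingCat.ofHom φ) ≫ Y.isoSpec.inv)).appTop
      ((Scheme.ΓSpecIso (CommRingCat.of A)).inv ≫
        (Limits.pullback.snd p (Spec.map (CommRingCat.ofHom φ) ≫ Y.isoSpec.inv)).appTop) := by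
  open CategoryTheory Limits TensorProduct in
  open Groth.Agent.PinchCohFlatLib in
  open Groth.Agent.S17904 (bc isPullback_bc) in
  exact by
    haveI : IsAffine T := isAffine_of_isAffineHom t
    haveI : IsAffine Z := isAffine_of_isAffineHom (ξ ≫ t)
    haveI : IsDedekindDomain Γ(Y, ⊤) := hR
    have hY : ∀ w : T, ∃ q : PushLib.Nice ι ξ, w ∈ q.V ∧ GoodPair (ι ≫ f) q := fun w => by
      obtain ⟨U, hU, hyU, V, hV, hVU, hz⟩ := hstd (t w)
      have heq : ι ⁻¹ᵁ V = ξ ⁻¹ᵁ (t ⁻¹ᵁ U) := by
        refine le_antisymm (fun z hz' => ?_) fun z hz' => hz z hz'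
        have e : f (ι z) = t (ξ z) := congrArg (fun g : Z ⟶ Y => g z) hsq
        exact show t (ξ z) ∈ U from e ▸ hVU hz'
      exact ⟨⟨V, t ⁻¹ᵁ U, hV, hU.preimage t, heq⟩, hyU, goodPair_of_projective f t hsq U hU (hv ⟨U, hU⟩) _ rfl⟩
    have hY' : ∀ w : T, ∃ q : PushLib.Nice ι ξ, w ∈ q.V := fun w => (hY w).imp fun _ h => h.1
    have hgood : ∀ w : P, ∃ q : PushLib.Nice ι ξ, w ∈ Set.range (PushLib.Nice.chart hY' hP q).κ ∧
        GoodPair (ι ≫ a ≫ p) q := by
      rw [hap]
      have hT' : ∀ y : T, ∃ q : PushLib.Nice ι ξ, b y ∈ Set.range (PushLib.Nice.chart hY' hP q).κ ∧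
          GoodPair (ι ≫ f) q := fun y => by
        obtain ⟨q, hyq, hq⟩ := hY y
        obtain ⟨y', rfl⟩ : y ∈ Set.range q.hV.fromSpec := by rw [q.hV.range_fromSpec]; exact hyq
        exact ⟨q, ⟨_, congrArg (fun m : Spec _ ⟶ P => m y') (PushLib.Nice.chart hY' hP q).pbY.w⟩, hq⟩
      intro w
      rcases PushLib.exists_or hY' hP w with ⟨x, rfl⟩ | ⟨y, rfl⟩
      · by_cases hx : x ∈ Set.range ι
        · obtain ⟨z, rfl⟩ := hx
          have e : a (ι z) = b (ξ z) := congrArg (fun m : Z ⟶ P => m z) hP.w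
          rw [e]; exact hT' _
        · obtain ⟨U, hU, hxU, hUle⟩ := exists_isAffineOpen_mem_and_subset
            (U := ⟨(Set.range ι)ᶜ, ι.isClosedEmbedding.isClosed_range.isOpen_compl⟩) hx
          have heq : ι ⁻¹ᵁ U = ξ ⁻¹ᵁ (⊥ : T.Opens) := by
            refine le_antisymm (fun z hz => absurd ⟨z, rfl⟩ (hUle hz)) ?_
            exact fun z hz => hz.elim
          let q : PushLib.Nice ι ξ := ⟨U, ⊥, hU, isAffineOpen_bot T, heq⟩
          obtain ⟨x', rfl⟩ : x ∈ Set.range hU.fromSpec := by rw [hU.range_fromSpec]; exact hxU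
          exact ⟨q, ⟨_, congrArg (fun m : Spec _ ⟶ P => m x') (PushLib.Nice.chart hY' hP q).pbX.w⟩,
            goodPair_of_bot _ q rfl⟩
      · exact hT' y
    let g : Spec (CommRingCat.of A) ⟶ Y := Spec.map (CommRingCat.ofHom φ) ≫ Y.isoSpec.inv
    have hgφ : CommRingCat.ofHom φ ≫ (Scheme.ΓSpecIso (CommRingCat.of A)).inv = g.appTop := by
      simp only [g, Scheme.Hom.comp_appTop]
      rw [show Y.isoSpec.inv.appTop = (Scheme.ΓSpecIso Γ(Y, ⊤)).inv by simp [Scheme.isoSpec]]
      exact Scheme.ΓSpecIso_inv_naturality _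
    let iT := bc g (ξ ≫ t) f ι hsq
    let hT := bc g (ξ ≫ t) t ξ rfl
    let qT := bc g f p a hap
    let jT := bc g t p b hbp
    have hpo : IsPushout iT hT qT jT := by
      refine isPushout_bc hY' hP p hgood φ (pullback.fst p g) (pullback.snd p g) (IsPullback.of_hasPullback p g)
        (pullback.fst f g) qT (isPullback_bc g f p a hap).flip (pullback.fst t g) jT
        (isPullback_bc g t p b hbp).flip (pullback.fst (ξ ≫ t) g) iT (isPullback_bc g (ξ ≫ t) f ι hsq).flip
        hT (pullback.lift_fst _ _ _) ?_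
      apply pullback.hom_ext
      · simp only [iT, hT, qT, jT, bc, Category.assoc, pullback.lift_fst, pullback.lift_fst_assoc, hP.w]
      · simp only [iT, hT, qT, jT, bc, Category.assoc, pullback.lift_snd]
    letI : Algebra Γ(Y, ⊤) Γ(X, ⊤) := f.appTop.hom.toAlgebra
    letI : Algebra Γ(Y, ⊤) Γ(T, ⊤) := t.appTop.hom.toAlgebra
    letI : Algebra Γ(Y, ⊤) Γ(Z, ⊤) := (ξ ≫ t).appTop.hom.toAlgebra
    letI : Algebra Γ(Y, ⊤) Γ(Spec (CommRingCat.of A), ⊤) := g.appTop.hom.toAlgebra
    haveI : Algebra.Etale Γ(Y, ⊤) Γ(X, ⊤) := het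
    haveI : Module.Finite Γ(Y, ⊤) Γ(Z, ⊤) := IsFinite.finite_app (f := ξ ≫ t) ⊤ (isAffineOpen_top Y)
    let ιA : Γ(X, ⊤) →ₐ[Γ(Y, ⊤)] Γ(Z, ⊤) := { ι.appTop.hom with
      commutes' := fun r => ConcreteCategory.congr_hom
        (show f.appTop ≫ ι.appTop = (ξ ≫ t).appTop by rw [← Scheme.Hom.comp_appTop, hsq]) r }
    let ξA : Γ(T, ⊤) →ₐ[Γ(Y, ⊤)] Γ(Z, ⊤) := { ξ.appTop.hom with
      commutes' := fun r => ConcreteCategory.congr_hom
        (show t.appTop ≫ ξ.appTop = (ξ ≫ t).appTop from (Scheme.Hom.comp_appTop ξ t).symm) r }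
    have hξ : Function.Injective ξA := Groth.Agent.S17905.app_injective_of_flat_surjective ξ ⊤
    haveI : Module.Projective Γ(Y, ⊤) (Γ(Z, ⊤) ⧸ LinearMap.range ξA.toLinearMap) := by
      have h : Module.Projective Γ(Y, ⊤) (Γ(Z, ⊤) ⧸ Submodule.span Γ(Y, ⊤) (Set.range ξA)) :=
        hv ⟨⊤, isAffineOpen_top Y⟩
      rwa [show Submodule.span Γ(Y, ⊤) (Set.range ξA) = LinearMap.range ξA.toLinearMap by
        rw [← Submodule.span_eq (LinearMap.range ξA.toLinearMap), LinearMap.coe_range]; rfl] at h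
    obtain ⟨hPu, hPe⟩ := sections_of_isPushout hP
    have hpbij : Function.Bijective p.appTop := ConcreteCategory.bijective_of_isIso p.appTop
    have ha : ∀ r, a.appTop (p.appTop r) = f.appTop r := fun r => by
      rw [← hap, Scheme.Hom.comp_appTop]; rfl
    have hb : ∀ r, b.appTop (p.appTop r) = t.appTop r := fun r => by
      rw [← hbp, Scheme.Hom.comp_appTop]; rfl
    have hE : Function.Injective (algebraMap Γ(Y, ⊤) Γ(X, ⊤)) := by
      rw [injective_iff_map_eq_zero]
      intro r hr
      have h1 : t.appTop r = 0 := hξ (by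
        rw [map_zero]; exact ((ξA.commutes r).trans (ιA.commutes r).symm).trans ((congrArg ιA hr).trans (map_zero ιA)))
      exact hpbij.1 ((hPu _ _ ((ha r).trans (hr.trans (map_zero a.appTop.hom).symm))
        ((hb r).trans (h1.trans (map_zero b.appTop.hom).symm))).trans (map_zero p.appTop.hom).symm)
    have hfib : ∀ (e : Γ(X, ⊤)) (τ : Γ(T, ⊤)), ιA e = ξA τ → e ∈ Set.range (algebraMap Γ(Y, ⊤) Γ(X, ⊤)) := by
      intro e τ he
      obtain ⟨x, hx, -⟩ := hPe e τ he
      obtain ⟨r, rfl⟩ := hpbij.2 x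
      exact ⟨r, (ha r).symm.trans hx⟩
    obtain ⟨hin, hmξ, hker⟩ := core ιA ξA hξ hE hfib Γ(Spec (CommRingCat.of A), ⊤)
    have hX : IsPushout f.appTop g.appTop (pullback.fst f g).appTop (pullback.snd f g).appTop :=
      (hcf A φ).of_iso (Iso.refl _) (Iso.refl _) (Scheme.ΓSpecIso (CommRingCat.of A)).symm (Iso.refl _)
        (by simp) ((Category.id_comp _).symm.trans rfl |>.trans hgφ) (Category.comp_id _) (Category.comp_id _)
    obtain ⟨eX, heX⟩ := PinchBCLib.exists_equiv_of_isPushout (R := Γ(Y, ⊤)) (R' := Γ(X, ⊤))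
      (A := Γ(Spec (CommRingCat.of A), ⊤)) (pullback.snd f g).appTop.hom (pullback.fst f g).appTop.hom hX.flip
    obtain ⟨eT, heT⟩ := PinchBCLib.exists_equiv_of_isPushout (R := Γ(Y, ⊤)) (R' := Γ(T, ⊤))
      (A := Γ(Spec (CommRingCat.of A), ⊤)) (pullback.snd t g).appTop.hom (pullback.fst t g).appTop.hom
      (isPushout_appTop_of_isPullback (IsPullback.of_hasPullback t g)).flip
    obtain ⟨eZ, heZ⟩ := PinchBCLib.exists_equiv_of_isPushout (R := Γ(Y, ⊤)) (R' := Γ(Z, ⊤))
      (A := Γ(Spec (CommRingCat.of A), ⊤)) (pullback.snd (ξ ≫ t) g).appTop.hom (pullback.fst (ξ ≫ t) g).appTop.hom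
      (isPushout_appTop_of_isPullback (IsPullback.of_hasPullback (ξ ≫ t) g)).flip
    have hι : ∀ x, iT.appTop (eX x) = eZ (Algebra.TensorProduct.map ιA (AlgHom.id _ _) x) := fun x => by
      induction x with
      | zero => simp
      | add u v hu hv => simp only [map_add, hu, hv]
      | tmul u v =>
        rw [heX, map_mul, Algebra.TensorProduct.map_tmul, heZ]
        exact congrArg₂ (· * ·)
          (ConcreteCategory.congr_hom (show (pullback.fst f g).appTop ≫ iT.appTop =
              ι.appTop ≫ (pullback.fst (ξ ≫ t) g).appTop by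
            rw [← Scheme.Hom.comp_appTop, ← Scheme.Hom.comp_appTop]; simp only [iT, bc, pullback.lift_fst]) u)
          (ConcreteCategory.congr_hom (show (pullback.snd f g).appTop ≫ iT.appTop = (pullback.snd (ξ ≫ t) g).appTop by
            rw [← Scheme.Hom.comp_appTop]; simp only [iT, bc, pullback.lift_snd]) v)
    have hξ' : ∀ x, hT.appTop (eT x) = eZ (Algebra.TensorProduct.map ξA (AlgHom.id _ _) x) := fun x => by
      induction x with
      | zero => simp
      | add u v hu hv => simp only [map_add, hu, hv]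
      | tmul u v =>
        rw [heT, map_mul, Algebra.TensorProduct.map_tmul, heZ]
        exact congrArg₂ (· * ·)
          (ConcreteCategory.congr_hom (show (pullback.fst t g).appTop ≫ hT.appTop =
              ξ.appTop ≫ (pullback.fst (ξ ≫ t) g).appTop by
            rw [← Scheme.Hom.comp_appTop, ← Scheme.Hom.comp_appTop]; simp only [hT, bc, pullback.lift_fst]) u)
          (ConcreteCategory.congr_hom (show (pullback.snd t g).appTop ≫ hT.appTop = (pullback.snd (ξ ≫ t) g).appTop by
            rw [← Scheme.Hom.comp_appTop]; simp only [hT, bc, pullback.lift_snd]) v)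
    have hq : ∀ c, qT.appTop ((pullback.snd p g).appTop c) = eX (1 ⊗ₜ c) := fun c => by
      rw [heX, map_one, one_mul]
      exact ConcreteCategory.congr_hom (show (pullback.snd p g).appTop ≫ qT.appTop = (pullback.snd f g).appTop by
        rw [← Scheme.Hom.comp_appTop]; simp only [qT, bc, pullback.lift_snd]) c
    have hj : ∀ c, jT.appTop ((pullback.snd p g).appTop c) = eT (1 ⊗ₜ c) := fun c => by
      rw [heT, map_one, one_mul]
      exact ConcreteCategory.congr_hom (show (pullback.snd p g).appTop ≫ jT.appTop = (pullback.snd t g).appTop by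
        rw [← Scheme.Hom.comp_appTop]; simp only [jT, bc, pullback.lift_snd]) c
    obtain ⟨hu, he⟩ := sections_of_isPushout hpo
    have hbij : Function.Bijective (pullback.snd p g).appTop := by
      refine ⟨fun c c' h => hin (eX.injective ?_), fun y => ?_⟩
      · exact (hq c).symm.trans ((congrArg qT.appTop h).trans (hq c'))
      · obtain ⟨x, hx⟩ := eX.surjective (qT.appTop y)
        obtain ⟨z, hz⟩ := eT.surjective (jT.appTop y)
        have hxz : Algebra.TensorProduct.map ιA (AlgHom.id _ _) x = Algebra.TensorProduct.map ξA (AlgHom.id _ _) z := by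
          refine eZ.injective ?_
          rw [← hι, ← hξ', hx, hz]
          exact ConcreteCategory.congr_hom (show qT.appTop ≫ iT.appTop = jT.appTop ≫ hT.appTop by
            rw [← Scheme.Hom.comp_appTop, ← Scheme.Hom.comp_appTop, hpo.w]) y
        obtain ⟨c, rfl⟩ := hker x z hxz
        have hz' : z = 1 ⊗ₜ c := hmξ (by
          rw [← hxz, Algebra.TensorProduct.map_tmul, Algebra.TensorProduct.map_tmul, map_one, map_one])
        refine ⟨c, hu _ _ ((hq c).trans hx) ?_⟩
        rw [hj, ← hz', hz]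
    haveI : IsIso (pullback.snd p g).appTop := (ConcreteCategory.isIso_iff_bijective _).2 hbij
    haveI := hpO
    refine IsPushout.of_horiz_isIso ⟨?_⟩
    show p.appTop ≫ (pullback.fst p g).appTop = CommRingCat.ofHom φ ≫ (Scheme.ΓSpecIso (CommRingCat.of A)).inv ≫ (pullback.snd p g).appTop
    rw [reassoc_of% hgφ, ← Scheme.Hom.comp_appTop, ← Scheme.Hom.comp_appTop, pullback.condition]

end Groth.Agent.S20006
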