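import Groth.Statements.S2001
import Mathlib
import Groth.Agent.GlueFlatLib.Basic
-- import your own Groth.Agent.* helpers here

set_option autoImplicit false
universe u
open TensorProduct
open EtAlg

namespace Groth.Agent.S2001

set_option maxHeartbeats 400000

/-- Let (R -> R', f) be a glueing pair and M, N R-modules glueable for it. Given an R'-linear map φ' :
R' ⊗_R M -> R' ⊗_R N and an R-linear map φ₁ : M_f -> N_f which induce the same map into (R' ⊗_R N)_f
on elements of M, there is a unique R-linear map ψ : M -> N whose base change to R' is φ' and whose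
localization is φ₁. -/
theorem result (R R' : Type u) [CommRing R] [CommRing R'] [Algebra R R'] (f : R)
    (hRR : EtGlue.IsGlueingPair R R' f) (M N : Type u) [AddCommGroup M] [Module R M] [AddCommGroup N] [Module R N]
    (hM : EtGlue.IsGlueable R R' f M) (hN : EtGlue.IsGlueable R R' f N)
    (φ' : R' ⊗[R] M →ₗ[R'] R' ⊗[R] N)
    (φ₁ : LocalizedModule (Submonoid.powers f) M →ₗ[R] LocalizedModule (Submonoid.powers f) N)
    (hc : ∀ m : M, EtGlue.locOfTensor R R' f N (φ' ((1 : R') ⊗ₜ[R] m)) =
      EtGlue.tensorOfLoc R R' f N (φ₁ (LocalizedModule.mkLinearMap (Submonoid.powers f) M m))) :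
    ∃! ψ : M →ₗ[R] N, ψ.baseChange R' = φ' ∧
      IsLocalizedModule.map (Submonoid.powers f) (LocalizedModule.mkLinearMap (Submonoid.powers f) M)
        (LocalizedModule.mkLinearMap (Submonoid.powers f) N) ψ = φ₁ := by
  let S := Submonoid.powers f
  choose ψ h1 h2 using fun m : M =>
    hN.2 (φ' ((1 : R') ⊗ₜ[R] m)) (φ₁ (LocalizedModule.mkLinearMap S M m)) (hc m)
  let ψl : M →ₗ[R] N :=
    { toFun := ψ
      map_add' := fun a b => hN.1 (Prod.ext
        (by simp only [h1, TensorProduct.tmul_add, map_add]) (by simp only [h2, map_add]))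
      map_smul' := fun r a => hN.1 (Prod.ext
        (by simp only [h1, RingHom.id_apply, TensorProduct.tmul_smul,
              LinearMap.map_smul_of_tower])
        (by simp only [h2, RingHom.id_apply, map_smul])) }
  refine ⟨ψl, ⟨?_, ?_⟩, fun χ ⟨hχ1, hχ2⟩ => LinearMap.ext fun m => hN.1 (Prod.ext ?_ ?_)⟩
  · refine LinearMap.ext fun t => ?_
    induction t using TensorProduct.induction_on with
    | zero => simp
    | add a b ha hb => simp only [map_add, ha, hb]
    | tmul r m =>
      rw [LinearMap.baseChange_tmul, show r ⊗ₜ[R] m = r • ((1 : R') ⊗ₜ[R] m) by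
        rw [TensorProduct.smul_tmul', smul_eq_mul, mul_one], map_smul, ← h1 m,
        TensorProduct.smul_tmul', smul_eq_mul, mul_one]
      rfl
  · refine IsLocalizedModule.ext S (LocalizedModule.mkLinearMap S M)
      (IsLocalizedModule.map_units (LocalizedModule.mkLinearMap S N)) (LinearMap.ext fun m => ?_)
    rw [LinearMap.comp_apply, IsLocalizedModule.map_apply, LinearMap.comp_apply]
    exact h2 m
  · change (1 : R') ⊗ₜ[R] χ m = (1 : R') ⊗ₜ[R] ψ m
    rw [h1 m, ← hχ1, LinearMap.baseChange_tmul]
  · change LocalizedModule.mkLinearMap S N (χ m) = LocalizedModule.mkLinearMap S N (ψ m)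
    rw [h2 m, ← hχ2, IsLocalizedModule.map_apply]

end Groth.Agent.S2001
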