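import Groth.Statements.S20016
import Groth.Agent.ModPairLib.Basic
import Groth.Agent.BlowUpLib.Cartier
import Mathlib.RingTheory.Smooth.IntegralClosure
-- import your own Groth.Agent.* helpers here

set_option autoImplicit false
set_option maxHeartbeats 2000000
set_option backward.isDefEq.respectTransparency false
universe u
open CategoryTheory AlgebraicGeometry TopologicalSpace Opposite
open ModPair

namespace Groth.Agent.S20016

open TensorProduct in
theorem int_closed_etale {A B C D : Type u} [CommRing A] [CommRing B] [CommRing C] [CommRing D]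
    [Algebra A B] [Algebra.Etale A B] (f : A) [Algebra A C] [IsLocalization.Away f C]
    [Algebra B D] [IsLocalization.Away (algebraMap A B f) D]
    (h : ∀ x : C, IsIntegral A x → x ∈ Set.range (algebraMap A C)) (y : D) (hy : IsIntegral B y) :
    y ∈ Set.range (algebraMap B D) := by
  let e : B ⊗[A] C ≃ₐ[B] D :=
    IsLocalization.algEquiv (Submonoid.powers (algebraMap A B f)) _ _
  obtain ⟨w, hw⟩ := (TensorProduct.toIntegralClosure_bijective_of_smooth (R := A) (S := B) (B := C)).2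
    ⟨e.symm y, hy.map e.symm⟩
  have key : ∀ w : B ⊗[A] integralClosure A C,
      ((TensorProduct.toIntegralClosure A B C w : integralClosure B (B ⊗[A] C)) : B ⊗[A] C) ∈
        Set.range (algebraMap B (B ⊗[A] C)) := by
    intro w
    induction w with
    | zero => exact ⟨0, by simp⟩
    | add x z hx hz =>
      obtain ⟨a, ha⟩ := hx
      obtain ⟨b, hb⟩ := hz
      exact ⟨a + b, by rw [map_add, map_add, ha, hb]; rfl⟩
    | tmul b c =>
      obtain ⟨a, ha⟩ := h c.1 c.2
      refine ⟨a • b, ?_⟩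
      change (a • b) ⊗ₜ[A] (1 : C) = b ⊗ₜ[A] (c : C)
      rw [smul_tmul, ← Algebra.algebraMap_eq_smul_one, ha]
  obtain ⟨b, hb⟩ := key w
  exact ⟨b, by rw [← e.commutes, hb, congrArg Subtype.val hw]; simp⟩

variable {X Y : Scheme.{u}} (IX : X.IdealSheafData) (g : Y ⟶ X)

theorem restrict_inj (hX : BlowUp.IsEffCartierIdeal IX) [Flat g] (W W' : Y.Opens)
    (hW' : W ⊓ g ⁻¹ᵁ ModPair.interior IX ≤ W') (h : W' ≤ W) (s s' : Γ(Y, W))
    (eq : (Y.presheaf.map (homOfLE h).op).hom s = (Y.presheaf.map (homOfLE h).op).hom s') : s = s' := by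
  haveI := ModPairLib.isAffineHom_interior (BlowUpLib.isEffCartier_comap_of_flat g hX)
  haveI := ModPairLib.isDominant_interior (BlowUpLib.isEffCartier_comap_of_flat g hX)
  apply (ModPair.interior (IX.comap g)).ι.app_injective W
  have hle : (ModPair.interior (IX.comap g)).ι ''ᵁ ((ModPair.interior (IX.comap g)).ι ⁻¹ᵁ W) ≤ W' := by
    rw [Scheme.Hom.image_preimage_eq_opensRange_inf, Scheme.Opens.opensRange_ι,
      ModPairLib.interior_comap]
    exact le_trans (le_of_eq (inf_comm _ _)) hW'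
  rw [Scheme.Opens.ι_app]
  have := congrArg (Y.presheaf.map (homOfLE hle).op).hom eq
  rw [← CommRingCat.comp_apply, ← CommRingCat.comp_apply, ← Functor.map_comp] at this
  exact this

variable [Etale g]
  (hint : ∀ U ∈ X.affineOpens, ∀ s : Γ(X, U ⊓ ModPair.interior IX),
      (X.presheaf.map (homOfLE (inf_le_left : U ⊓ ModPair.interior IX ≤ U)).op).hom.IsIntegralElem s →
        s ∈ Set.range (X.presheaf.map (homOfLE (inf_le_left : U ⊓ ModPair.interior IX ≤ U)).op).hom)

include hint in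
theorem small (U : X.affineOpens) (f : Γ(X, U.1))
    (hb : ModPair.interior IX ⊓ U.1 = X.basicOpen f) (V : Y.affineOpens) (e : V.1 ≤ g ⁻¹ᵁ U.1)
    (W : Y.Opens) (hW : W = V.1 ⊓ g ⁻¹ᵁ ModPair.interior IX) (h : W ≤ V.1) (t : Γ(Y, W))
    (ht : (Y.presheaf.map (homOfLE h).op).hom.IsIntegralElem t) :
    t ∈ Set.range (Y.presheaf.map (homOfLE h).op).hom := by
  have hW2 : W = Y.basicOpen ((g.appLE U.1 V.1 e).hom f) := by
    rw [Scheme.basicOpen_appLE, hW, ← hb]
    ext y
    exact ⟨fun ⟨a, b⟩ => ⟨a, b, e a⟩, fun ⟨a, b, _⟩ => ⟨a, b⟩⟩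
  subst hW2
  algebraize [(g.appLE U.1 V.1 e).hom]
  haveI : Algebra.Etale Γ(X, U.1) Γ(Y, V.1) := HasRingHomProperty.appLE @Etale g ‹_› U V e
  haveI : IsLocalization.Away f Γ(X, X.basicOpen f) := U.2.isLocalization_basicOpen f
  haveI : IsLocalization.Away (algebraMap Γ(X, U.1) Γ(Y, V.1) f)
      Γ(Y, Y.basicOpen ((g.appLE U.1 V.1 e).hom f)) := V.2.isLocalization_basicOpen _
  have hA : ∀ (W : X.Opens) (_ : W = U.1 ⊓ ModPair.interior IX) (h : W ≤ U.1) (x : Γ(X, W)),
      (X.presheaf.map (homOfLE h).op).hom.IsIntegralElem x →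
        x ∈ Set.range (X.presheaf.map (homOfLE h).op).hom := by
    rintro W rfl h
    exact hint U.1 U.2
  exact int_closed_etale f (fun x hx => hA _ (by rw [inf_comm, hb]) (X.basicOpen_le f) x hx) t ht

theorem integralElem_restrict {V V' W W' : Y.Opens} (hV : V' ≤ V) (h : W ≤ V) (h' : W' ≤ V') (hW : W' ≤ W)
    (t : Γ(Y, W)) (ht : (Y.presheaf.map (homOfLE h).op).hom.IsIntegralElem t) :
    (Y.presheaf.map (homOfLE h').op).hom.IsIntegralElem ((Y.presheaf.map (homOfLE hW).op).hom t) := by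
  obtain ⟨p, hp, hp0⟩ := ht
  refine ⟨p.map (Y.presheaf.map (homOfLE hV).op).hom, hp.map _, ?_⟩
  rw [Polynomial.eval₂_map]
  have := Polynomial.hom_eval₂ p (Y.presheaf.map (homOfLE h).op).hom
    (Y.presheaf.map (homOfLE hW).op).hom t
  rw [hp0, map_zero] at this
  rw [this, ← CommRingCat.hom_comp, ← CommRingCat.hom_comp, ← Functor.map_comp, ← Functor.map_comp]
  rfl


/-- Let (X, I_X) be a modulus pair — a scheme X with the quasi-coherent ideal sheaf I_X of an effective
Cartier divisor — with interior X° (the open complement of the support of I_X), and suppose O_X is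
integrally closed in O_{X°}: for every affine open U of X, every section of O_X over U ∩ X° which is
integral over Γ(U, O_X) along the restriction map is the restriction of a section over U. Let g : Y
⟶ X be an étale morphism and Y° = g⁻¹(X°). Then O_Y is integrally closed in O_{Y°}: for every affine
open V of Y, every section of O_Y over V ∩ Y° which is integral over Γ(V, O_Y) along the restriction
map is the restriction of a section over V. (The text does not spell out the phrase integrally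
closed for sheaves; it is rendered here affine-locally through restriction maps.) -/
theorem result {X Y : Scheme.{u}}
    (IX : X.IdealSheafData) (hX : BlowUp.IsEffCartierIdeal IX)
    (hint : ∀ U ∈ X.affineOpens, ∀ s : Γ(X, U ⊓ ModPair.interior IX),
      (X.presheaf.map (homOfLE (inf_le_left : U ⊓ ModPair.interior IX ≤ U)).op).hom.IsIntegralElem s →
        s ∈ Set.range (X.presheaf.map (homOfLE (inf_le_left : U ⊓ ModPair.interior IX ≤ U)).op).hom)
    (g : Y ⟶ X) [Etale g] :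
    ∀ V ∈ Y.affineOpens, ∀ t : Γ(Y, V ⊓ g ⁻¹ᵁ ModPair.interior IX),
      (Y.presheaf.map (homOfLE (inf_le_left : V ⊓ g ⁻¹ᵁ ModPair.interior IX ≤ V)).op).hom.IsIntegralElem t →
        t ∈ Set.range (Y.presheaf.map (homOfLE (inf_le_left : V ⊓ g ⁻¹ᵁ ModPair.interior IX ≤ V)).op).hom := by
  intro V hV t ht
  have hch : ∀ y : (V : Set Y), ∃ (U : X.affineOpens) (f : Γ(X, U.1)) (V' : Y.affineOpens),
      (y : Y) ∈ V'.1 ∧ V'.1 ≤ V ∧ V'.1 ≤ g ⁻¹ᵁ U.1 ∧ ModPair.interior IX ⊓ U.1 = X.basicOpen f := by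
    intro y
    obtain ⟨U, hU, f, -, -, hb⟩ := ModPairLib.exists_gen_basicOpen hX (g y)
    obtain ⟨V', h1, h2⟩ := BlowUpLib.exists_affine (y : Y) (W := V ⊓ g ⁻¹ᵁ U.1) ⟨y.2, hU⟩
    exact ⟨U, f, V', h1, h2.trans inf_le_left, h2.trans inf_le_right, hb⟩
  choose U f V' hy hV' hg hb using hch
  have hs : ∀ i, ∃ s : Γ(Y, (V' i).1),
      (Y.presheaf.map (homOfLE (inf_le_left : (V' i).1 ⊓ g ⁻¹ᵁ ModPair.interior IX ≤ (V' i).1)).op).hom s =
        (Y.presheaf.map (homOfLE (inf_le_inf_right _ (hV' i) :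
          (V' i).1 ⊓ g ⁻¹ᵁ ModPair.interior IX ≤ V ⊓ g ⁻¹ᵁ ModPair.interior IX)).op).hom t :=
    fun i => small IX g hint (U i) (f i) (hb i) (V' i) (hg i) _ rfl inf_le_left _
      (integralElem_restrict (hV' i) inf_le_left inf_le_left (inf_le_inf_right _ (hV' i)) t ht)
  choose s hs using hs
  have hc : TopCat.Presheaf.IsCompatible Y.presheaf (fun i => (V' i).1) s := by
    intro i j
    refine restrict_inj IX g hX _ ((V' i).1 ⊓ (V' j).1 ⊓ g ⁻¹ᵁ ModPair.interior IX) le_rfl inf_le_left _ _ ?_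
    have hi := congrArg (Y.presheaf.map (homOfLE (inf_le_inf_right _ inf_le_left :
      (V' i).1 ⊓ (V' j).1 ⊓ g ⁻¹ᵁ ModPair.interior IX ≤ (V' i).1 ⊓ g ⁻¹ᵁ ModPair.interior IX)).op).hom (hs i)
    have hj := congrArg (Y.presheaf.map (homOfLE (inf_le_inf_right _ inf_le_right :
      (V' i).1 ⊓ (V' j).1 ⊓ g ⁻¹ᵁ ModPair.interior IX ≤ (V' j).1 ⊓ g ⁻¹ᵁ ModPair.interior IX)).op).hom (hs j)
    rw [← CommRingCat.comp_apply, ← CommRingCat.comp_apply, ← Functor.map_comp, ← Functor.map_comp] at hi hj ⊢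
    exact hi.trans hj.symm
  obtain ⟨σ, hσ, -⟩ := Y.sheaf.existsUnique_gluing' (fun i => (V' i).1) V (fun i => homOfLE (hV' i))
    (fun y hy' => Opens.mem_iSup.mpr ⟨⟨y, hy'⟩, hy ⟨y, hy'⟩⟩) s hc
  refine ⟨σ, Y.sheaf.eq_of_locally_eq' (fun i => (V' i).1 ⊓ g ⁻¹ᵁ ModPair.interior IX) _
    (fun i => homOfLE (inf_le_inf_right _ (hV' i))) (fun y hy' => Opens.mem_iSup.mpr
      ⟨⟨y, hy'.1⟩, hy ⟨y, hy'.1⟩, hy'.2⟩) _ _ (fun i => ?_)⟩
  have h1 := hs i
  rw [← hσ i] at h1
  change (Y.presheaf.map _).hom ((Y.presheaf.map _).hom σ) = (Y.presheaf.map _).hom t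
  rw [← CommRingCat.comp_apply, ← Functor.map_comp]
  refine Eq.trans ?_ h1
  change _ = (Y.presheaf.map _).hom ((Y.presheaf.map _).hom σ)
  rw [← CommRingCat.comp_apply, ← Functor.map_comp]
  rfl

end Groth.Agent.S20016
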