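import Groth.Statements.S20017
import Groth.Agent.NormDescTorsLib.BC

set_option autoImplicit false
set_option backward.isDefEq.respectTransparency false
set_option backward.isDefEq.respectTransparency.types false
universe u
open CategoryTheory AlgebraicGeometry
open NonAbH1
open MonoidalCategory CartesianMonoidalCategory

namespace Groth.Agent.S20017

/-- Let X be a normal integral scheme (integral, with every local ring integrally closed), G a group
scheme over X whose structure morphism is finite and flat, and U ⊆ X a dense open subscheme. Then
the restriction map H¹(X, G) → H¹(U, G|_U) on classes of fppf G-torsors — X-schemes with a G-action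
which are pseudo-torsors and acquire sections on the members of some fppf covering family, up to
equivariant isomorphism — given by base change along the open immersion U → X, is injective. (G is
not assumed commutative; injectivity is that of a map of pointed sets.) -/
theorem result
    (X : Scheme.{u}) [AlgebraicGeometry.IsIntegral X] (hX : Pi1.IsNormalScheme X)
    (G : Over X) [GrpObj G] [IsFinite G.hom] [Flat G.hom]
    (U : X.Opens) (hU : Dense (U : Set X)) :
    Function.Injective (NonAbH1.H1Sch.bcMap U.ι G Scheme.fppfPrecoverage) := by
  intro x y h
  induction x using Quot.ind with | _ P => ?_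
  induction y using Quot.ind with | _ Q => ?_
  obtain ⟨e⟩ := NormDescTorsLib.equivIso_of_eqvGen (Quot.eq.mp h)
  refine Quot.sound ?_
  have hη : genericPoint X ∈ U := by
    refine ((genericPoint_spec X).mem_open_set_iff U.isOpen).mpr ?_
    simpa using hU.nonempty
  let j : NormDescTorsLib.gen X ⟶ Over.mk U.ι :=
    Over.homMk (IsOpenImmersion.lift U.ι (X.fromSpecResidueField (genericPoint X)) (by
      erw [Scheme.Opens.range_ι]
      rintro _ ⟨z, rfl⟩
      show X.fromSpecResidueField (genericPoint X) z ∈ U
      erw [Scheme.fromSpecResidueField_apply]
      exact hη)) (IsOpenImmersion.lift_fac _ _ _)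
  refine NormDescTorsLib.exists_equivIso P.act Q.act ((P.X ◁ j) ≫ NormDescTorsLib.bcHom U.ι e.iso.hom) ?_
    (fun x => (hX x).2) P.isTorsor Q.isTorsor
  intro T g x k
  rw [lift_whiskerLeft_assoc, lift_whiskerLeft_assoc]
  exact NormDescTorsLib.bcHom_equivariant U.ι P.act Q.act e.iso.hom e.comm T g x (k ≫ j)
end Groth.Agent.S20017
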