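import Groth.Statements.S20018
import Mathlib.RingTheory.PowerSeries.Trunc
import Mathlib.RingTheory.PowerSeries.Basic

set_option autoImplicit false
open CAlg

namespace Groth.Agent.S20018

open PowerSeries in
/-- Product expansion of big Witt vectors: let R be a commutative ring and x ∈ 1 + tR[[t]] a formal
power series with constant term 1. Then x can be written uniquely as an infinite product ∏_{i ≥ 1}
(1 - α_i t^i) with α_i ∈ R. The infinite product is expressed through its truncations: there is a
unique sequence α : ℕ → R (α i standing for the coefficient attached to t^{i+1}) such that for every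
N the series x and the finite product ∏_{i=0}^{N} (1 - α_i t^{i+1}) agree modulo t^{N+2}. -/
theorem result
    (R : Type*) [CommRing R] (x : PowerSeries R) (hx : PowerSeries.constantCoeff x = 1) :
    ∃! α : ℕ → R, ∀ N : ℕ,
      PowerSeries.trunc (N + 2) x =
        PowerSeries.trunc (N + 2) (∏ i ∈ Finset.range (N + 1),
          (1 - PowerSeries.C (α i) * PowerSeries.X ^ (i + 1) : PowerSeries R)) := by
  classical
  let Q : ℕ → PowerSeries R := fun N => Nat.rec 1 (fun m P =>
    P * (1 - PowerSeries.C (PowerSeries.coeff (m + 1) P - PowerSeries.coeff (m + 1) x) * PowerSeries.X ^ (m + 1))) N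
  let α : ℕ → R := fun m => PowerSeries.coeff (m + 1) (Q m) - PowerSeries.coeff (m + 1) x
  let P : (ℕ → R) → ℕ → PowerSeries R := fun β N =>
    ∏ i ∈ Finset.range N, (1 - PowerSeries.C (β i) * PowerSeries.X ^ (i + 1))
  have hP0 : ∀ β N, PowerSeries.constantCoeff (P β N) = 1 := fun β N => by
    simp [P, map_prod, map_sub, map_mul]
  have hstep : ∀ β N m, PowerSeries.coeff m (P β (N + 1)) =
      PowerSeries.coeff m (P β N) - if N + 1 ≤ m then β N * PowerSeries.coeff (m - (N + 1)) (P β N) else 0 := by
    intro β N m
    simp only [P, Finset.prod_range_succ]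
    rw [mul_sub, mul_one, map_sub, mul_left_comm, PowerSeries.coeff_C_mul, PowerSeries.coeff_mul_X_pow']
    split_ifs <;> simp
  have htop : ∀ β N, PowerSeries.coeff (N + 1) (P β (N + 1)) = PowerSeries.coeff (N + 1) (P β N) - β N := by
    intro β N
    rw [hstep, if_pos le_rfl, Nat.sub_self, PowerSeries.coeff_zero_eq_constantCoeff_apply, hP0, mul_one]
  have hQ : ∀ N, Q N = P α N := by
    intro N
    induction N with
    | zero => simp [P, Q]
    | succ N ih =>
      simp only [P, Finset.prod_range_succ]
      rw [show (∏ i ∈ Finset.range N, (1 - PowerSeries.C (α i) * PowerSeries.X ^ (i + 1))) = Q N from ih.symm]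
  have hgood : ∀ N, ∀ m ≤ N, PowerSeries.coeff m (P α N) = PowerSeries.coeff m x := by
    intro N
    induction N with
    | zero =>
      intro m hm
      rw [Nat.le_zero.1 hm, PowerSeries.coeff_zero_eq_constantCoeff_apply,
        PowerSeries.coeff_zero_eq_constantCoeff_apply, hP0, hx]
    | succ N ih =>
      intro m hm
      rcases Nat.lt_or_eq_of_le hm with hlt | rfl
      · rw [hstep, if_neg (by omega), sub_zero, ih m (by omega)]
      · rw [htop]
        simp only [α, hQ N, sub_sub_cancel]
  have hiff : ∀ (β : ℕ → R) N, PowerSeries.trunc (N + 2) x = PowerSeries.trunc (N + 2) (P β (N + 1)) ↔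
      ∀ m ≤ N + 1, PowerSeries.coeff m (P β (N + 1)) = PowerSeries.coeff m x := by
    intro β N
    refine ⟨fun h m hm => ?_, fun h => Polynomial.ext fun m => ?_⟩
    · have := congrArg (fun p : Polynomial R => p.coeff m) h
      simpa [PowerSeries.coeff_trunc, show m < N + 2 by omega] using this.symm
    · rw [PowerSeries.coeff_trunc, PowerSeries.coeff_trunc]
      split_ifs with hm
      · exact (h m (by omega)).symm
      · rfl
  refine ⟨α, fun N => (hiff α N).2 (hgood (N + 1)), fun β hβ => funext fun N => ?_⟩
  induction N using Nat.strong_induction_on with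
  | _ N ih =>
    have h1 : P β N = P α N := Finset.prod_congr rfl fun i hi => by rw [ih i (Finset.mem_range.1 hi)]
    have h2 := (hiff β N).1 (hβ N) (N + 1) le_rfl
    rw [← hgood (N + 1) (N + 1) le_rfl, htop, htop, h1] at h2
    exact sub_right_inj.1 h2

end Groth.Agent.S20018
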