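import Groth.Statements.S20019
import Groth.Agent.CharRingLib.Integral
import Groth.Agent.HopfFFLib.Stab.Subspace
import Groth.Agent.HopfFFLib.Normal.Frame
import Groth.Agent.GrpSchLib.HopfReduced
import Groth.Agent.S0566
import Groth.Agent.S0573

set_option autoImplicit false
open scoped TensorProduct
open HopfRep

namespace Groth.Agent.S20019

private theorem isNagata_field (k : Type) [Field k] : CAlg.IsNagata k := by
  refine ⟨inferInstance, fun p _ L _ _ _ _ hL => ?_⟩
  haveI : p.IsMaximal := by
    rcases Ideal.eq_bot_or_top p with h | h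
    · subst h; exact Ideal.bot_isMaximal
    · exact absurd h (Ideal.IsPrime.ne_top inferInstance)
  letI : Field (k ⧸ p) := Ideal.Quotient.field p
  haveI : Module.Finite (k ⧸ p) (FractionRing (k ⧸ p)) :=
    Module.Finite.of_surjective (Algebra.linearMap (k ⧸ p) (FractionRing (k ⧸ p)))
      ((Field.toIsField (k ⧸ p)).localization_map_bijective (M := nonZeroDivisors (k ⧸ p)) zero_notMem_nonZeroDivisors).2
  haveI : Module.Finite (k ⧸ p) L := Module.Finite.trans (FractionRing (k ⧸ p)) L
  haveI : IsNoetherian (k ⧸ p) L := isNoetherian_of_isNoetherianRing_of_finite (k ⧸ p) L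
  exact Module.IsNoetherian.finite _ _

/-- Let A → B be a surjective homomorphism of finitely generated commutative Hopf algebras over the
complex numbers, that is a closed embedding H ↪ G of complex linear algebraic groups with G = Spec A
and H = Spec B. For a comodule structure on the coordinate space ℂ^d with coaction e_i ↦ Σ_j e_j ⊗
a_ji, its character is Σ_i a_ii. Then R(H) is a finite R(G)-module, with the complexified
representation rings realised inside the coordinate rings by characters: there are finitely many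
characters f_1, …, f_r of H-comodule structures such that every ℂ-linear combination of characters
of H-comodule structures on coordinate spaces is of the form Σ_j s_j f_j with each s_j in the
ℂ-subalgebra of B generated by the images of the characters of G-comodule structures on coordinate
spaces. (The representation rings of the published statement are rendered through characters; over
the complex numbers the characters of pairwise non-isomorphic simple comodules are linearly
independent, so the span of characters is the complexified representation ring.) -/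
theorem result
    (A B : Type) [CommRing A] [HopfAlgebra ℂ A] [Algebra.FiniteType ℂ A]
    [CommRing B] [HopfAlgebra ℂ B] [Algebra.FiniteType ℂ B]
    (π : A →ₐc[ℂ] B) (hπ : Function.Surjective π) :
    ∃ F : Finset B,
      (↑F : Set B) ⊆ Set.range (fun p : (Σ d : ℕ, HopfRep.Comod ℂ B (Fin d → ℂ)) =>
          ∑ i : Fin p.1, TensorProduct.lid ℂ B (LinearMap.rTensor B (LinearMap.proj i)
            (@HopfRep.Comod.coact ℂ B _ _ _ _ (Fin p.1 → ℂ) _ _ p.2 (Pi.single i 1)))) ∧
      (↑(Submodule.span ℂ (Set.range (fun p : (Σ d : ℕ, HopfRep.Comod ℂ B (Fin d → ℂ)) =>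
          ∑ i : Fin p.1, TensorProduct.lid ℂ B (LinearMap.rTensor B (LinearMap.proj i)
            (@HopfRep.Comod.coact ℂ B _ _ _ _ (Fin p.1 → ℂ) _ _ p.2 (Pi.single i 1)))))) : Set B) ⊆
        ↑(Submodule.span (Algebra.adjoin ℂ (π '' Set.range (fun p : (Σ d : ℕ, HopfRep.Comod ℂ A (Fin d → ℂ)) =>
          ∑ i : Fin p.1, TensorProduct.lid ℂ A (LinearMap.rTensor A (LinearMap.proj i)
            (@HopfRep.Comod.coact ℂ A _ _ _ _ (Fin p.1 → ℂ) _ _ p.2 (Pi.single i 1))))))
          (↑F : Set B)) := by
  classical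
  obtain ⟨F, hF⟩ := (Algebra.FiniteType.out : (⊤ : Subalgebra ℂ A).FG)
  obtain ⟨W, hW, hFW, hsub⟩ := Groth.Agent.HopfFF.exists_finite_subcomod (k := ℂ) F
  obtain ⟨t, -, ht, hε, hbt⟩ := Groth.Agent.HopfFF.exists_coeffMatrix (Module.finBasis ℂ W) hsub
  have htc : CharRingLib.IsCorep ℂ t := CharRingLib.isCorep_of_apply ht hε
  have hgenA : Algebra.adjoin ℂ (Set.range fun p : Fin (Module.finrank ℂ W) × Fin (Module.finrank ℂ W) => t p.1 p.2) = ⊤ := by
    rw [eq_top_iff, ← hF, Algebra.adjoin_le_iff]
    intro a ha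
    let S := Algebra.adjoin ℂ (Set.range fun p : Fin (Module.finrank ℂ W) × Fin (Module.finrank ℂ W) => t p.1 p.2)
    have hb : ∀ j, (Module.finBasis ℂ W j : A) ∈ S := fun j => by
      rw [hbt j]
      exact sum_mem fun i _ => S.smul_mem (Algebra.subset_adjoin ⟨(i, j), rfl⟩) _
    have h := congrArg W.subtype ((Module.finBasis ℂ W).sum_repr ⟨a, hFW a ha⟩)
    simp only [map_sum, map_smul, Submodule.subtype_apply] at h
    rw [SetLike.mem_coe, ← h]
    exact sum_mem fun i _ => S.smul_mem (hb i) _
  let X := t.map π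
  have hX : CharRingLib.IsCorep ℂ X := htc.map π
  have hgen : Algebra.adjoin ℂ (Set.range fun p : Fin (Module.finrank ℂ W) × Fin (Module.finrank ℂ W) => X p.1 p.2) = ⊤ := by
    have h := congrArg (Subalgebra.map (π : A →ₐ[ℂ] B)) hgenA
    rw [AlgHom.map_adjoin, Algebra.map_top, (AlgHom.range_eq_top _).2 hπ, ← Set.range_comp] at h
    exact h
  have hXc : X.charpoly = t.charpoly.map (π : A →ₐ[ℂ] B).toRingHom := by
    rw [← Matrix.charpoly_map]
    congr 1
  let S : Subalgebra ℂ B := Algebra.adjoin ℂ (π '' CharRingLib.Chars ℂ A)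
  let S₀ : Subalgebra ℂ B := Algebra.adjoin ℂ ↑((Finset.range (Module.finrank ℂ W + 1)).image fun n => π (t.charpoly.coeff n))
  have hS₀ : S₀ ≤ S := Algebra.adjoin_le fun x hx => by
    obtain ⟨n, -, rfl⟩ := Finset.mem_image.1 (Finset.mem_coe.1 hx)
    have h : (π : A →ₐ[ℂ] B) (t.charpoly.coeff n) ∈ Subalgebra.map (π : A →ₐ[ℂ] B) (Algebra.adjoin ℂ (CharRingLib.Chars ℂ A)) :=
      ⟨_, CharRingLib.charpoly_coeff_mem htc n, rfl⟩
    rw [AlgHom.map_adjoin] at h
    exact h
  haveI : Algebra.FiniteType ℂ S₀ := (Subalgebra.fg_iff_finiteType _).1 ⟨_, rfl⟩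
  haveI : Algebra.FiniteType S₀ B := Algebra.FiniteType.of_restrictScalars_finiteType ℂ S₀ B
  haveI : IsReduced B := Groth.Agent.GrpSchLib.HopfRed.isReduced_of_finiteType (k := ℂ)
  haveI : IsNoetherianRing B := Algebra.FiniteType.isNoetherianRing ℂ B
  haveI : Module.Finite S₀ (integralClosure S₀ B) :=
    Groth.Agent.S0573.result S₀ (Groth.Agent.S0566.result ℂ (isNagata_field ℂ) S₀) B
  haveI : IsNoetherianRing S₀ := Algebra.FiniteType.isNoetherianRing ℂ S₀
  have hXi : IsIntegral S₀ X := by
    have hlift : X.charpoly ∈ Polynomial.lifts (algebraMap S₀ B) := by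
      rw [Polynomial.lifts_iff_coeff_lifts]
      intro n
      refine ⟨⟨X.charpoly.coeff n, ?_⟩, rfl⟩
      rw [hXc, Polynomial.coeff_map]
      by_cases hn : n ≤ Module.finrank ℂ W
      · exact Algebra.subset_adjoin (Finset.mem_coe.2 (Finset.mem_image_of_mem (fun n => π (t.charpoly.coeff n)) (Finset.mem_range.2 (Nat.lt_succ_of_le hn))))
      · haveI : Nontrivial A := (Bialgebra.counitAlgHom ℂ A).toRingHom.domain_nontrivial
        rw [Polynomial.coeff_eq_zero_of_natDegree_lt (p := t.charpoly)
          (by rw [Matrix.charpoly_natDegree_eq_dim, Fintype.card_fin]; omega), map_zero]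
        exact zero_mem _
    obtain ⟨P, hP, -, hPm⟩ := Polynomial.lifts_and_natDegree_eq_and_monic hlift X.charpoly_monic
    refine ⟨P, hPm, ?_⟩
    rw [← Polynomial.aeval_def, ← Polynomial.aeval_map_algebraMap B, hP]
    exact Matrix.aeval_self_charpoly X
  have hint : ∀ x ∈ CharRingLib.Chars ℂ B, IsIntegral S₀ x := by
    rintro _ ⟨⟨d, c⟩, rfl⟩
    obtain ⟨w, hw, he⟩ := CharRingLib.exists_corep_of_comod c
    show IsIntegral S₀ (CharRingLib.chr c)
    rw [← he]
    exact CharRingLib.isIntegral_trace (CharRingLib.isIntegral_corep hX hXi hgen hw)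
  let N : Submodule S₀ B := Submodule.span S₀ (CharRingLib.Chars ℂ B)
  have hN : N.FG := Submodule.FG.of_le
    (T := (integralClosure S₀ B).toSubmodule) (Module.Finite.iff_fg.1 inferInstance)
    (Submodule.span_le.2 hint)
  obtain ⟨T, hT, hTs⟩ : ∃ T : Finset B, ↑T ⊆ CharRingLib.Chars ℂ B ∧ N ≤ Submodule.span S₀ (T : Set B) := by
    obtain ⟨G, hG⟩ := hN
    have hg : ∀ g ∈ G, ∃ T : Finset B, ↑T ⊆ CharRingLib.Chars ℂ B ∧ g ∈ Submodule.span S₀ (T : Set B) := fun g hg =>
      Submodule.mem_span_finite_of_mem_span (hG.le (Submodule.subset_span hg))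
    choose T hT hgT using hg
    refine ⟨G.attach.biUnion fun g => T g.1 g.2, fun x hx => ?_, ?_⟩
    · obtain ⟨g, -, hx⟩ := Finset.mem_biUnion.1 (Finset.mem_coe.1 hx)
      exact hT g.1 g.2 hx
    · rw [← hG, Submodule.span_le]
      exact fun g hg => Submodule.span_mono
        (fun x hx => Finset.mem_coe.2 (Finset.mem_biUnion.2 ⟨⟨g, hg⟩, Finset.mem_attach _ _, hx⟩)) (hgT g hg)
  refine ⟨T, hT, fun x hx => ?_⟩
  have hxT : x ∈ Submodule.span S₀ (T : Set B) := hTs ((Submodule.span_le (p := N.restrictScalars ℂ)).2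
    (fun z hz => Submodule.subset_span hz) hx)
  show x ∈ Submodule.span S (T : Set B)
  clear hx
  induction hxT using Submodule.span_induction with
  | mem z hz => exact Submodule.subset_span hz
  | zero => exact zero_mem _
  | add a b _ _ ha hb => exact add_mem ha hb
  | smul r a _ ha => exact Submodule.smul_mem _ (⟨(r : B), hS₀ r.2⟩ : S) ha

end Groth.Agent.S20019
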