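import Groth.Statements.S20022
import Mathlib
import Groth.Agent.GrModLib.Bass

set_option autoImplicit false
universe u
open GrLC

namespace Groth.Agent.S20022

/-- Let R be a commutative ℤ-graded ring whose degree-zero subring R_0 is a field k and which is the
Laurent polynomial ring k[T, T⁻¹] on a homogeneous invertible element T of positive degree d, in the
following intrinsic sense: T is a unit lying in R_d, and every nonzero homogeneous element of degree
n equals a·T^j for some a ∈ R_0 and some integer j with j·d = n (so R_n = 0 unless d divides n, and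
R_{jd} = k·T^j). Then every graded R-module M is free in the graded sense: M has an R-basis
consisting of homogeneous elements. (The other case of condition (2), R = k concentrated in degree
zero, is not included.) -/
theorem result (R : Type u) [CommRing R]
    (𝒜 : ℤ → AddSubgroup R) [GradedRing 𝒜] (h0 : IsField (GrLC.deg0 𝒜))
    (d : ℤ) (hd : 0 < d) (T : Rˣ) (hT : (T : R) ∈ 𝒜 d)
    (hA : ∀ (n : ℤ) (x : R), x ∈ 𝒜 n → x ≠ 0 →
      ∃ j : ℤ, ∃ a ∈ 𝒜 0, j * d = n ∧ x = a * ((T ^ j : Rˣ) : R))
    (M : Type u) [AddCommGroup M] [Module R M] (ℳ : ℤ → AddSubgroup M)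
    [DirectSum.Decomposition ℳ] [SetLike.GradedSMul 𝒜 ℳ] :
    ∃ (κ : Type u) (b : Module.Basis κ R M), ∀ i : κ, SetLike.IsHomogeneousElem ℳ (b i) := by
  have hunit : ∀ (g : ℤ) (x : R), x ∈ 𝒜 g → x ≠ 0 → IsUnit x := by
    intro g x hx hx0
    obtain ⟨j, a, ha, -, rfl⟩ := hA g x hx hx0
    refine IsUnit.mul ?_ (Units.isUnit _)
    have ha0 : (⟨a, ha⟩ : GrLC.deg0 𝒜) ≠ 0 := fun h => hx0 (by rw [show a = 0 from congrArg Subtype.val h, zero_mul])
    obtain ⟨b, hb⟩ := h0.mul_inv_cancel ha0
    exact IsUnit.of_mul_eq_one _ (congrArg Subtype.val hb)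
  obtain ⟨κ, v, hhom, hind, hgen⟩ := GrModLib.exists_indep_homogeneous (𝒜 := 𝒜) ℳ ⊥ (Ideal.IsHomogeneous.bot 𝒜)
    (fun r hr x => by rw [(Submodule.mem_bot R).1 hr, zero_smul])
  have hs : ∀ s ∈ GrModLib.homCompl 𝒜 (⊥ : Ideal R), IsUnit s := by
    intro s hs
    induction hs using Submonoid.closure_induction with
    | mem x hx => obtain ⟨⟨g, hg⟩, hx0⟩ := hx; exact hunit g x hg fun h => hx0 (by rw [h]; exact zero_mem _)
    | one => exact isUnit_one
    | mul a b _ _ ha hb => exact ha.mul hb
  refine ⟨κ, Module.Basis.mk (R := R) (v := v) (linearIndependent_iff.2 fun c hc => Finsupp.ext fun i =>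
    (Submodule.mem_bot R).1 (hind c hc i)) (fun y _ => ?_), fun i => ?_⟩
  · obtain ⟨s, hs', hy⟩ := hgen y
    exact (Submodule.smul_mem_iff_of_isUnit _ (hs s hs')).1 hy
  · rw [Module.Basis.mk_apply]; exact hhom i

end Groth.Agent.S20022
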