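import Groth.Statements.S20024
import Groth.Agent.WittFilLib.Gr
import Mathlib.RingTheory.Polynomial.RationalRoot
import Mathlib.RingTheory.PowerSeries.NoZeroDivisors
-- import your own Groth.Agent.* helpers here

set_option autoImplicit false
universe u
open WittFil

namespace Groth.Agent.S20024

/-- Case q = 0: let p be a prime, S a commutative ring of characteristic p and B a commutative S-algebra
(in the source B = S[[π]][1/π]), u a unit of B (the uniformizer π), m, s natural numbers, i, l
integers and c a p-typical Witt vector over S. Write Φ_v(c) for the length-m truncation of V^s(c ·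
[v]), where c is mapped to the Witt vectors of B, [v] is the Teichmüller representative of v ∈ B and
V is the Verschiebung; for n = p^(m−1−s) · i the degree-zero piece F_n^{m,0}(S) is the set of all
Φ_{u^i}(c). Then multiplication by the truncated Teichmüller representative [u^l] satisfies [u^l] ·
Φ_{u^i}(c) = Φ_{u^(i + p^s l)}(c); consequently [u^l] · F_n^{m,0}(S) = F_{n + p^(m−1) l}^{m,0}(S).
(Only the part of the lemma in differential degree q = 0 is stated; the source's S is a regular
local F-finite F_p-algebra, and the identity holds for any S-algebra B of characteristic p.) -/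
theorem result (p : ℕ) [Fact p.Prime] {S B : Type u}
    [CommRing S] [CharP S p] [CommRing B] [Algebra S B] (m s : ℕ) (u : Bˣ) (i l : ℤ)
    (c : WittVector p S) :
    WittVector.truncate m (WittVector.teichmuller p ((u ^ l : Bˣ) : B)) *
        WittFil.vShiftTeich p m s ((u ^ i : Bˣ) : B) c =
      WittFil.vShiftTeich p m s ((u ^ (i + (p : ℤ) ^ s * l) : Bˣ) : B) c := by
  rcases subsingleton_or_nontrivial B with hB | hB
  · ext j; exact Subsingleton.elim _ _
  have hpB : CharP B p := by
    obtain ⟨q, hq⟩ := CharP.exists B
    have hp0 : (p : B) = 0 := by rw [← map_natCast (algebraMap S B), CharP.cast_eq_zero, map_zero]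
    have hdvd : q ∣ p := (CharP.cast_eq_zero_iff B q p).1 hp0
    rcases (Fact.out : p.Prime).eq_one_or_self_of_dvd q hdvd with h | h
    · exact absurd h (CharP.char_ne_one B q)
    · rwa [h] at hq
  simp only [WittFil.vShiftTeich]
  rw [← map_mul, mul_comm, WittVector.iterate_verschiebung_mul_left]
  congr 2
  have hF : ∀ (s : ℕ) (v : B), (WittVector.frobenius)^[s] (WittVector.teichmuller p v) =
      WittVector.teichmuller p (v ^ p ^ s) := by
    intro s v
    induction s with
    | zero => simp
    | succ k ih =>
      rw [Function.iterate_succ_apply', ih, WittVector.frobenius_eq_map_frobenius, WittVector.map_teichmuller,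
        frobenius_def, ← pow_mul, ← pow_succ]
  rw [hF, mul_assoc, ← map_mul, ← Units.val_pow_eq_pow_val, ← Units.val_mul, ← zpow_natCast, ← zpow_mul,
    ← zpow_add, Nat.cast_pow, mul_comm l]

end Groth.Agent.S20024
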