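import Groth.Statements.S20025
import Mathlib.Algebra.MvPolynomial.PDeriv
import Mathlib.LinearAlgebra.Matrix.NonsingularInverse
import Mathlib.Tactic.FieldSimp
import Mathlib.Tactic.LinearCombination
import Mathlib.Tactic.FinCases

set_option autoImplicit false
universe u
open InvQ

namespace Groth.Agent.S20025


section
open MvPolynomial W4c6intromoduli
variable {k : Type u} [Field k]

/-- The `i`-th linear factor. -/
noncomputable def lin (la mu : Fin 4 → k) (i : Fin 4) : MvPolynomial (Fin 2) k :=
  C (mu i) * X 0 - C (la i) * X 1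

theorem exists_scale (la mu : Fin 4 → k) (hne : ∀ i, la i ≠ 0 ∨ mu i ≠ 0) (a b : Fin 4)
    (h : la a * mu b = la b * mu a) : ∃ s : k, s ≠ 0 ∧ lin la mu b = C s * lin la mu a := by
  obtain ⟨s, hs1, hs2⟩ : ∃ s : k, la b = s * la a ∧ mu b = s * mu a := by
    by_cases h0 : la a = 0
    · have hm : mu a ≠ 0 := (hne a).resolve_left (not_not.2 h0)
      have hb : la b = 0 := by
        rw [h0, zero_mul] at h
        exact (mul_eq_zero.1 h.symm).resolve_right hm
      exact ⟨mu b / mu a, by rw [h0, hb, mul_zero], by field_simp⟩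
    · refine ⟨la b / la a, by field_simp, ?_⟩
      rw [div_mul_eq_mul_div, eq_div_iff h0, mul_comm, h]
  refine ⟨s, fun hs => ?_, by simp only [lin, hs1, hs2, map_mul]; ring⟩
  rcases hne b with h' | h'
  · exact h' (by rw [hs1, hs, zero_mul])
  · exact h' (by rw [hs2, hs, zero_mul])

theorem subst_subst (M N : Matrix (Fin 2) (Fin 2) k) (P : MvPolynomial (Fin 2) k) :
    subst N (subst M P) = subst (M * N) P := by
  have h : (subst N).comp (subst M) = subst (M * N) := by
    refine MvPolynomial.algHom_ext fun i => ?_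
    simp only [subst, AlgHom.comp_apply, aeval_X, map_sum, map_mul, aeval_C, Fin.sum_univ_two,
      Matrix.mul_apply, map_add, algebraMap_eq]
    ring
  exact DFunLike.congr_fun h P

theorem subst_one (P : MvPolynomial (Fin 2) k) : subst (1 : Matrix (Fin 2) (Fin 2) k) P = P := by
  have h : subst (1 : Matrix (Fin 2) (Fin 2) k) = AlgHom.id k _ := by
    refine MvPolynomial.algHom_ext fun i => ?_
    fin_cases i <;> simp [subst, Fin.sum_univ_two]
  exact DFunLike.congr_fun h P

theorem not_both (M1 M2 : Matrix (Fin 2) (Fin 2) k) (c1 c2 : k) (hM : IsUnit M1.det) (hc : c1 ≠ 0)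
    (h : C c1 * subst M1 (X 0 ^ 2 * X 1 * (X 0 - X 1)) = C c2 * subst M2 (X 0 ^ 2 * X 1 ^ 2)) : False := by
  have h1 := congrArg (subst M1⁻¹) h
  rw [map_mul (subst M1⁻¹) (C c1), map_mul (subst M1⁻¹) (C c2), subst_subst, Matrix.mul_nonsing_inv _ hM, subst_one, subst_subst,
    show subst M1⁻¹ (C c1) = C c1 from aeval_C _ _, show subst M1⁻¹ (C c2) = C c2 from aeval_C _ _,
    show (X 0 : MvPolynomial (Fin 2) k) ^ 2 * X 1 ^ 2 = (X 0 * X 1) ^ 2 by ring, map_pow] at h1
  generalize subst (M2 * M1⁻¹) (X 0 * X 1) = q at h1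
  have h2 := congrArg (fun P => eval ![1, 0] P) h1
  have h3 := congrArg (fun P => eval ![1, 0] (pderiv 1 P)) h1
  simp only [map_mul, map_pow, map_sub, eval_C, eval_X, pderiv_mul, pderiv_pow, pderiv_C, pderiv_X_self,
    pderiv_X_of_ne (show (0 : Fin 2) ≠ 1 by decide), map_add, map_zero, map_one, map_natCast] at h2 h3
  simp only [Matrix.cons_val_zero, Matrix.cons_val_one] at h2 h3
  rcases eq_or_ne c2 0 with h4 | h4
  · exact hc (by rw [h4] at h3; simpa using h3)
  · have hq : eval ![(1 : k), 0] q = 0 := pow_eq_zero_iff two_ne_zero |>.1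
      ((mul_eq_zero.1 (h2.symm.trans (by ring))).resolve_left h4)
    exact hc (by rw [hq] at h3; simpa using h3)

end

/-- For the special fibre of the invariant map, over a field in which 2 and 3 are nonzero, consider a
split binary quartic f = ∏_i (μ_i X₀ − λ_i X₁) given by four root points (λ_i, μ_i) ≠ (0, 0), with a
double zero (vanishing discriminant ∏_{i<j} (λ_j μ_i − λ_i μ_j)²) and no triple zero (no three root
points pairwise proportional); these are the forms of the fibre over the special point P³/Q² = 6 of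
the invariant map. Then exactly one of the two alternatives holds: f is a nonzero constant times the
form X₀² X₁ (X₀ − X₁) after an invertible linear substitution of the variables, or f is a nonzero
constant times X₀² X₁² after such a substitution. So this fibre consists of exactly two classes
under substitutions and scalars (one double zero and two simple zeros; two double zeros). (The
dimensions of the two orbits and which of them is open or closed in the fibre are not part of this
row; stated for split forms over any such field.) -/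
theorem result (k : Type u) [Field k]
    (h2 : (2 : k) ≠ 0) (h3 : (3 : k) ≠ 0) (la mu : Fin 4 → k)
    (hne : ∀ i, la i ≠ 0 ∨ mu i ≠ 0) (hd : W4c6intromoduli.disc la mu = 0)
    (h3z : ∀ i j l : Fin 4, i ≠ j → j ≠ l → i ≠ l →
      ¬ (la i * mu j = la j * mu i ∧ la j * mu l = la l * mu j)) :
    Xor
      (∃ (M : Matrix (Fin 2) (Fin 2) k) (c : k), IsUnit M.det ∧ c ≠ 0 ∧
        W4c6intromoduli.binForm la mu =
          MvPolynomial.C c * W4c6intromoduli.subst M
            (MvPolynomial.X 0 ^ 2 * MvPolynomial.X 1 * (MvPolynomial.X 0 - MvPolynomial.X 1)))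
      (∃ (M : Matrix (Fin 2) (Fin 2) k) (c : k), IsUnit M.det ∧ c ≠ 0 ∧
        W4c6intromoduli.binForm la mu =
          MvPolynomial.C c * W4c6intromoduli.subst M
            (MvPolynomial.X 0 ^ 2 * MvPolynomial.X 1 ^ 2)) := by
  classical
  obtain ⟨⟨a, b⟩, hab, hz⟩ := Finset.prod_eq_zero_iff.1 hd
  have hab' : a ≠ b := ne_of_lt (Finset.mem_filter.1 hab).2
  have hpr : la a * mu b = la b * mu a :=
    (sub_eq_zero.1 (pow_eq_zero_iff two_ne_zero |>.1 hz)).symm
  obtain ⟨c, d, hca, hcb, hda, hdb, hcd, huniv⟩ : ∃ c d, c ≠ a ∧ c ≠ b ∧ d ≠ a ∧ d ≠ b ∧ c ≠ d ∧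
      (Finset.univ : Finset (Fin 4)) = {a, b, c, d} := by
    revert hab'
    clear hz hpr hab
    revert a b
    decide
  obtain ⟨s, hs, hlb⟩ := exists_scale la mu hne a b hpr
  have hf : W4c6intromoduli.binForm la mu = lin la mu a * lin la mu b * (lin la mu c * lin la mu d) := by
    show ∏ i : Fin 4, lin la mu i = _
    rw [huniv, Finset.prod_insert (by simp [hab', hca.symm, hda.symm]),
      Finset.prod_insert (by simp [hcb.symm, hdb.symm]), Finset.prod_insert (by simp [hcd]), Finset.prod_singleton]
    ring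
  have hac : la a * mu c - la c * mu a ≠ 0 := fun h =>
    h3z b a c hab'.symm hca.symm hcb.symm ⟨hpr.symm, sub_eq_zero.1 h⟩
  have had : la a * mu d - la d * mu a ≠ 0 := fun h =>
    h3z b a d hab'.symm hda.symm hdb.symm ⟨hpr.symm, sub_eq_zero.1 h⟩
  refine ((em _).imp (fun h => ⟨h, ?_⟩) fun h => ⟨?_, h⟩)
  · rintro ⟨M2, c2, hM2, hc2, h'⟩
    obtain ⟨M1, c1, hM1, hc1, h1⟩ := h
    exact not_both M1 M2 c1 c2 hM1 hc1 (h1.symm.trans h')
  · by_cases hcd' : la c * mu d = la d * mu c
    · obtain ⟨t, ht, hld⟩ := exists_scale la mu hne c d hcd'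
      refine ⟨!![mu a, -la a; mu c, -la c], s * t, ?_, mul_ne_zero hs ht, ?_⟩
      · rw [isUnit_iff_ne_zero, Matrix.det_fin_two_of]
        exact fun h => hac (by linear_combination h)
      · rw [hf, hlb, hld]
        simp [lin, W4c6intromoduli.subst, Fin.sum_univ_two]
        ring
    · exfalso
      apply h
      obtain ⟨α, hα⟩ : ∃ α, α = (la d * mu c - la c * mu d) / (la a * mu c - la c * mu a) := ⟨_, rfl⟩
      obtain ⟨β, hβ⟩ : ∃ β, β = (la a * mu d - la d * mu a) / (la a * mu c - la c * mu a) := ⟨_, rfl⟩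
      have hα0 : α ≠ 0 := by
        rw [hα]; exact div_ne_zero (sub_ne_zero.2 fun h => hcd' h.symm) hac
      have hβ0 : β ≠ 0 := by rw [hβ]; exact div_ne_zero had hac
      have hld : lin la mu d = MvPolynomial.C α * lin la mu a + MvPolynomial.C β * lin la mu c := by
        have e1 : la d = α * la a + β * la c := by rw [hα, hβ, div_mul_eq_mul_div, div_mul_eq_mul_div, ← add_div, eq_div_iff hac]; ring
        have e2 : mu d = α * mu a + β * mu c := by rw [hα, hβ, div_mul_eq_mul_div, div_mul_eq_mul_div, ← add_div, eq_div_iff hac]; ring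
        simp only [lin, e1, e2, map_add, map_mul]; ring
      refine ⟨!![α * mu a, -(α * la a); -(β * mu c), β * la c], -s / (α ^ 2 * β), ?_,
        div_ne_zero (neg_ne_zero.2 hs) (mul_ne_zero (pow_ne_zero _ hα0) hβ0), ?_⟩
      · rw [isUnit_iff_ne_zero, Matrix.det_fin_two_of]
        exact fun h => mul_ne_zero (mul_ne_zero hα0 hβ0) hac (by linear_combination -h)
      · have e : MvPolynomial.C (-s / (α ^ 2 * β)) * MvPolynomial.C (-(α ^ 2 * β)) = (MvPolynomial.C s : MvPolynomial (Fin 2) k) := by
          rw [← map_mul]; congr 1; field_simp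
        rw [hf, hlb, hld, ← e]
        simp [lin, W4c6intromoduli.subst, Fin.sum_univ_two]
        ring

end Groth.Agent.S20025
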