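import Groth.Statements.S20027
import Mathlib
import Groth.Agent.GrModLib.VerPoly
import Groth.Agent.GorLib.Fibres

set_option autoImplicit false
universe u
open GrLC

namespace Groth.Agent.S20027

/-- Let k be a field, s ≥ 1, d ≥ 1, and R = k[X_1, …, X_s] graded with every variable in degree 1.
Present the Veronese subring R^(d) = ⊕_j R_{jd} as a commutative ring R' with an injective ring
homomorphism φ : R' → R whose image is the set of polynomials whose homogeneous components in all
degrees not divisible by d are zero, and let m' be the maximal ideal of R' that is the preimage of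
the ideal of polynomials with zero constant term (the irrelevant ideal of R^(d)). Let n be the least
integer such that n ≥ s and d divides n. Then the type of R^(d), namely the Bass number μ_s(m', R')
= dim over the residue field of Ext^s over the local ring R'_{m'} from its residue field to R'_{m'}
(here s = dim R'), equals the binomial coefficient (n − 1 choose s − 1). -/
theorem result (k : Type u) [Field k] (s d : ℕ) (hs : 1 ≤ s)
    (hd : 1 ≤ d) (R' : Type u) [CommRing R'] (φ : R' →+* MvPolynomial (Fin s) k)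
    (hφ : Function.Injective φ)
    (hrange : ∀ p : MvPolynomial (Fin s) k, p ∈ φ.range ↔
      ∀ j : ℕ, ¬ d ∣ j → MvPolynomial.homogeneousComponent j p = 0)
    (m' : Ideal R') [m'.IsMaximal]
    (hm' : m' = Ideal.comap φ (RingHom.ker (MvPolynomial.constantCoeff : MvPolynomial (Fin s) k →+* k)))
    (n : ℕ) (hsn : s ≤ n) (hdn : d ∣ n) (hmin : ∀ n' : ℕ, s ≤ n' → d ∣ n' → n ≤ n') :
    GrLC.bassNum m' R' s = (Nat.choose (n - 1) (s - 1) : ℕ∞) := by
  letI := MvPolynomial.weightedGradedAlgebra (R := k) (w := fun _ : Fin s => (1 : ℤ))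
  let 𝒜 : ℤ → AddSubgroup (MvPolynomial (Fin s) k) :=
    GrModLib.toAdd (MvPolynomial.weightedHomogeneousSubmodule k (fun _ : Fin s => (1 : ℤ)))
  haveI : LocCoh.IsGorensteinRing (MvPolynomial (Fin s) k) :=
    GorLib.gorensteinRing_mvPolynomial GorLib.gorensteinRing_of_field s
  have hw : ∀ _ : Fin s, (0 : ℤ) < 1 := fun _ => one_pos
  have hpos : ∀ j : ℤ, j < 0 → 𝒜 j = ⊥ := GrModLib.wpoly_pos k _ hw
  have h0 : IsField (GrLC.deg0 𝒜) := GrModLib.wpoly_isField k _ hw
  obtain ⟨𝒜', h𝒜', hV⟩ := GrModLib.exists_ver_grading (𝒜 := 𝒜) φ hφ (q := d) (by omega) fun p =>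
    (hrange p).trans (GrModLib.supported_iff k s p).symm
  letI := h𝒜'
  have hpos' := hV.hpos' hpos
  haveI hmax := GrModLib.isMaximal_of_starLocal hpos' (GrModLib.isStarLocal_posIdeal (𝒜 := 𝒜') hpos' (hV.isField' h0))
  have hm'eq : (GrModLib.posIdeal 𝒜').toIdeal = m' := by
    refine hmax.eq_of_le (Ideal.IsMaximal.ne_top ‹m'.IsMaximal›) ?_
    rw [hm', GrModLib.posIdeal_toIdeal, Ideal.span_le]
    intro r hr
    simp only [Set.mem_iUnion] at hr
    obtain ⟨j, hj, hrj⟩ := hr
    have h1 : φ r ∈ 𝒜 (j * d) := hV.mem_iff.1 hrj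
    show MvPolynomial.constantCoeff (φ r) = 0
    by_contra hne
    have h2 := (show MvPolynomial.IsWeightedHomogeneous (fun _ : Fin s => (1 : ℤ)) (φ r) (j * d) from h1)
      (d := 0) (by rwa [← MvPolynomial.constantCoeff_eq])
    rw [map_zero] at h2
    have := Set.mem_Ioi.1 hj
    have : (0 : ℤ) < j * d := mul_pos this (by omega)
    omega
  subst hm'eq
  obtain ⟨I⟩ := GrModLib.nonempty_starInjRes (𝒜 := 𝒜) (M := MvPolynomial (Fin s) k) 𝒜
  have hρd : ((n - s : ℕ) : ℤ) < d := by
    by_contra hge
    have h1 := hmin (n - d) (by omega) (Nat.dvd_sub hdn dvd_rfl)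
    omega
  rw [GrModLib.bassNum_veronese hV hpos h0 (GrModLib.wpoly_std k s) (GrModLib.dim_mvPolynomial (N := s) k) I
    (-(s : ℤ)) (GrModLib.wpoly_endDeg k s I) ((n - s : ℕ) : ℤ) (Int.natCast_nonneg _) hρd (by
      rw [show -(s : ℤ) - ((n - s : ℕ) : ℤ) = -(n : ℤ) by omega, dvd_neg]
      exact_mod_cast hdn)]
  rw [GrModLib.finrank_piece_eq_choose k s (n - s), show s + (n - s) - 1 = n - 1 by omega,
    show n - s = n - 1 - (s - 1) by omega, Nat.choose_symm (by omega)]

end Groth.Agent.S20027
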