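import Groth.Statements.S2003
import Mathlib
import Groth.Agent.GlueFlatLib.Basic
-- import your own Groth.Agent.* helpers here

set_option autoImplicit false
universe u
open TensorProduct
open EtAlg

namespace Groth.Agent.S2003

set_option maxHeartbeats 400000

/-- Let (R -> R', f) be a glueing pair and M any R-module. Then M is finite projective over R exactly
when both of its base changes are: R' ⊗_R M over R', and M_f over R_f. -/
theorem result (R R' : Type u) [CommRing R] [CommRing R'] [Algebra R R'] (f : R)
    (hRR : EtGlue.IsGlueingPair R R' f) (M : Type u) [AddCommGroup M] [Module R M] :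
    (Module.Finite R M ∧ Module.Projective R M) ↔
      (Module.Finite R' (R' ⊗[R] M) ∧ Module.Projective R' (R' ⊗[R] M)) ∧
      (Module.Finite (Localization.Away f) (LocalizedModule (Submonoid.powers f) M) ∧
        Module.Projective (Localization.Away f) (LocalizedModule (Submonoid.powers f) M)) := by
  let e := LocalizedModule.equivTensorProduct (Submonoid.powers f) M
  refine ⟨fun ⟨_, _⟩ => ⟨⟨inferInstance, inferInstance⟩, Module.Finite.equiv e.symm, ?_⟩,
    fun ⟨⟨_, _⟩, _, _⟩ => ?_⟩
  · exact Module.Projective.of_equiv e.symm
  · have : Module.Finite (Localization.Away f) (Localization.Away f ⊗[R] M) := Module.Finite.equiv e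
    have : Module.Projective (Localization.Away f) (Localization.Away f ⊗[R] M) :=
      Module.Projective.of_equiv e
    exact Groth.Agent.GlueFlatLib.finite_projective_of_glueing hRR M

end Groth.Agent.S2003
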