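import Groth.Statements.S2006
import Mathlib
import Groth.Agent.GlueFlatLib.Basic
-- import your own Groth.Agent.* helpers here

set_option autoImplicit false
universe u
open TensorProduct
open EtAlg

namespace Groth.Agent.S2006

set_option maxHeartbeats 400000

open TensorProduct

section
variable {R : Type u} [CommRing R] {R' : Type u} [CommRing R'] [Algebra R R'] {f : R}

/-- A module is zero when it dies in both corners of a glueing pair. -/
theorem subsingleton_of_glueing (hRR : EtGlue.QuotPowBijective R R' f) (Q : Type u) [AddCommGroup Q]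
    [Module R Q] [Subsingleton (R' ⊗[R] Q)] [Subsingleton (Localization.Away f ⊗[R] Q)] :
    Subsingleton Q := by
  have : IsLocalizedModule (Submonoid.powers f) (TensorProduct.mk R (Localization.Away f) Q 1) :=
    (isLocalizedModule_iff_isBaseChange (Submonoid.powers f) (Localization.Away f) _).2
      (TensorProduct.isBaseChange R _ _)
  have hQ : ∀ q : Q, ∃ n : ℕ, f ^ n • q = 0 := fun q => by
    obtain ⟨⟨_, n, rfl⟩, hn⟩ := (IsLocalizedModule.eq_zero_iff (Submonoid.powers f)
      (TensorProduct.mk R (Localization.Away f) Q 1)).1 (Subsingleton.elim _ _)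
    exact ⟨n, hn⟩
  obtain ⟨_, _⟩ := Groth.Agent.GlueFlatLib.exists_module_of_torsion (R' := R') hRR Q hQ
  have hμ : Function.Surjective ((LinearMap.id : Q →ₗ[R] Q).liftBaseChange R') :=
    fun q => ⟨1 ⊗ₜ q, by simp⟩
  exact hμ.subsingleton

/-- Finite generation descends along a glueing pair. -/
theorem finite_of_glueing (hRR : EtGlue.QuotPowBijective R R' f) (M : Type u) [AddCommGroup M]
    [Module R M] [Module.Finite R' (R' ⊗[R] M)]
    [Module.Finite (Localization.Away f) (Localization.Away f ⊗[R] M)] : Module.Finite R M := by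
  classical
  obtain ⟨s, hs⟩ := Module.Finite.fg_top (R := R') (M := R' ⊗[R] M)
  obtain ⟨t, ht⟩ := Module.Finite.fg_top (R := Localization.Away f)
    (M := Localization.Away f ⊗[R] M)
  choose F₁ hF₁ using fun z : R' ⊗[R] M => TensorProduct.exists_finset z
  choose F₂ hF₂ using fun z : Localization.Away f ⊗[R] M => TensorProduct.exists_finset z
  let G : Finset M := (s.biUnion fun z => (F₁ z).image Prod.snd) ∪
    (t.biUnion fun z => (F₂ z).image Prod.snd)
  let N : Submodule R M := Submodule.span R G
  have aux : ∀ (C : Type u) [CommRing C] [Algebra R C] (s : Finset (C ⊗[R] M))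
      (F : C ⊗[R] M → Finset (C × M)), Submodule.span C (s : Set (C ⊗[R] M)) = ⊤ →
      (∀ z, z = ∑ i ∈ F z, i.1 ⊗ₜ[R] i.2) → (∀ z ∈ s, ∀ i ∈ F z, i.2 ∈ N) →
      Subsingleton (C ⊗[R] (M ⧸ N)) := by
    intro C _ _ s F hs hF hN
    refine subsingleton_of_forall_eq 0 fun w => ?_
    obtain ⟨z, rfl⟩ := LinearMap.lTensor_surjective C N.mkQ_surjective w
    change N.mkQ.baseChange C z = 0
    have hz : z ∈ LinearMap.ker (N.mkQ.baseChange C) := by
      refine (hs.ge.trans (Submodule.span_le.2 fun z hz => ?_)) Submodule.mem_top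
      rw [SetLike.mem_coe, LinearMap.mem_ker, hF z, map_sum]
      refine Finset.sum_eq_zero fun i hi => ?_
      rw [LinearMap.baseChange_tmul, Submodule.mkQ_apply,
        (Submodule.Quotient.mk_eq_zero N).2 (hN z hz i hi), TensorProduct.tmul_zero]
    exact hz
  have := aux R' s F₁ hs hF₁ fun z hz i hi => Submodule.subset_span (by
    simp only [G, Finset.coe_union, Finset.coe_biUnion, Finset.coe_image, Set.mem_union,
      Set.mem_iUnion]
    exact Or.inl ⟨z, hz, i, hi, rfl⟩)
  have := aux (Localization.Away f) t F₂ ht hF₂ fun z hz i hi => Submodule.subset_span (by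
    simp only [G, Finset.coe_union, Finset.coe_biUnion, Finset.coe_image, Set.mem_union,
      Set.mem_iUnion]
    exact Or.inr ⟨z, hz, i, hi, rfl⟩)
  have := subsingleton_of_glueing hRR (M ⧸ N)
  exact ⟨⟨G, Submodule.Quotient.subsingleton_iff.1 this⟩⟩

end

/-- Let R -> R' induce bijections R/f^n R -> R'/f^n R' for all n > 0 and let M be an R-module. Then M is
finitely generated if and only if R' ⊗_R M is finitely generated over R' and M_f is finitely
generated over R_f. -/
theorem result (R R' : Type u) [CommRing R] [CommRing R'] [Algebra R R'] (f : R)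
    (hq : EtGlue.QuotPowBijective R R' f) (M : Type u) [AddCommGroup M] [Module R M] :
    Module.Finite R M ↔ Module.Finite R' (R' ⊗[R] M) ∧
      Module.Finite (Localization.Away f) (LocalizedModule (Submonoid.powers f) M) := by
  have hb : IsBaseChange (Localization.Away f) (LocalizedModule.mkLinearMap (Submonoid.powers f) M) :=
    (isLocalizedModule_iff_isBaseChange (Submonoid.powers f) (Localization.Away f) _).1 inferInstance
  refine ⟨fun _ => ⟨inferInstance, Module.Finite.equiv hb.equiv⟩, fun ⟨_, _⟩ => ?_⟩
  have := Module.Finite.equiv (R := Localization.Away f) hb.equiv.symm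
  exact finite_of_glueing hq M

end Groth.Agent.S2006
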