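import Groth.Statements.S2007
import Mathlib
import Groth.Agent.TorsionEquivLib.Basic
-- import your own Groth.Agent.* helpers here

set_option autoImplicit false
universe u
open TensorProduct
open EtAlg

namespace Groth.Agent.S2007

set_option maxHeartbeats 400000

/-- Let R -> S be a flat ring map and I a finitely generated ideal of R such that R/I -> S/IS is
bijective. Let N be an R-module, M' an S-module and φ : M' -> S ⊗_R N an S-linear map whose kernel
and cokernel are I-power torsion (every element of the kernel, resp. of the target modulo the image,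
is killed by some power of I). Then there are an R-module M, an R-linear map ψ : M -> N and an
S-isomorphism S ⊗_R M ≅ M' identifying φ with the base change of ψ. -/
theorem result (R S : Type u) [CommRing R] [CommRing S] [Algebra R S] [Module.Flat R S] (I : Ideal R)
    (hI : I.FG) (hq : Function.Bijective (Ideal.quotientMap (I.map (algebraMap R S)) (algebraMap R S) Ideal.le_comap_map))
    (N : Type u) [AddCommGroup N] [Module R N] (M' : Type u) [AddCommGroup M'] [Module S M'] (φ : M' →ₗ[S] S ⊗[R] N)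
    (hker : ∀ x : M', φ x = 0 → ∃ n : ℕ, ∀ a ∈ I ^ n, algebraMap R S a • x = 0)
    (hcoker : ∀ y : S ⊗[R] N, ∃ n : ℕ, ∀ a ∈ I ^ n, algebraMap R S a • y ∈ LinearMap.range φ) :
    ∃ (M : Type u) (_ : AddCommGroup M) (_ : Module R M) (ψ : M →ₗ[R] N) (e : S ⊗[R] M ≃ₗ[S] M'),
      φ ∘ₗ e.toLinearMap = ψ.baseChange S := by
  letI : Module R M' := Module.compHom M' (algebraMap R S)
  haveI : IsScalarTower R S M' := IsScalarTower.of_algebraMap_smul fun _ _ => rfl
  let P : Submodule R (M' × N) :=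
    LinearMap.ker ((φ.restrictScalars R).coprod (-TensorProduct.mk R S N 1))
  have hP : ∀ m n, (m, n) ∈ P ↔ φ m = (1 : S) ⊗ₜ[R] n := fun m n => by
    change φ m + -((1 : S) ⊗ₜ[R] n) = 0 ↔ _
    rw [← sub_eq_add_neg, sub_eq_zero]
  let ψ : P →ₗ[R] N := LinearMap.snd R M' N ∘ₗ P.subtype
  let pr : P →ₗ[R] M' := LinearMap.fst R M' N ∘ₗ P.subtype
  let e : S ⊗[R] P →ₗ[S] M' := pr.liftBaseChange S
  have he : φ ∘ₗ e = ψ.baseChange S := by
    refine TensorProduct.AlgebraTensorModule.ext fun s p => ?_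
    simp only [e, LinearMap.comp_apply, LinearMap.liftBaseChange_tmul, map_smul,
      LinearMap.baseChange_tmul]
    rw [show φ (pr p) = (1 : S) ⊗ₜ[R] ψ p from (hP _ _).1 p.2, TensorProduct.smul_tmul',
      smul_eq_mul, mul_one]
  have hker' : ∀ q : LinearMap.ker ψ, ∃ n : ℕ, ∀ a ∈ I ^ n, a • q = 0 := fun q => by
    have h1 : φ q.1.1.1 = 0 := by
      rw [(hP _ _).1 q.1.2, show q.1.1.2 = 0 from q.2, TensorProduct.tmul_zero]
    obtain ⟨n, hn⟩ := hker _ h1
    refine ⟨n, fun a ha => Subtype.ext (Subtype.ext (Prod.ext ?_ ?_))⟩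
    · exact (algebraMap_smul S a _).symm.trans (hn a ha)
    · change a • q.1.1.2 = 0
      rw [show q.1.1.2 = 0 from q.2, smul_zero]
  have hbK := Groth.Agent.TorsionEquivLib.bijective_mk_of_torsion hq (LinearMap.ker ψ) fun q => by exact hker' q
  have hinj : Function.Injective e := by
    rw [injective_iff_map_eq_zero]
    intro z hz
    have h0 : ψ.lTensor S z = 0 := by
      have := DFunLike.congr_fun he z
      rw [LinearMap.comp_apply, hz, map_zero] at this
      exact this.symm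
    have hex0 : Function.Exact (LinearMap.ker ψ).subtype ψ := fun x =>
      ⟨fun h => ⟨⟨x, h⟩, rfl⟩, fun ⟨y, hy⟩ => hy ▸ y.2⟩
    obtain ⟨w, rfl⟩ := (@Module.Flat.lTensor_exact R S _ _ _ _ (LinearMap.ker ψ) P N _ _ _ _ _ _
      (LinearMap.ker ψ).subtype ψ hex0 z).1 h0
    obtain ⟨q, rfl⟩ := hbK.2 w
    rw [TensorProduct.mk_apply, LinearMap.lTensor_tmul, Submodule.subtype_apply] at hz ⊢
    rw [show e ((1 : S) ⊗ₜ[R] (q : P)) = pr q by simp [e]] at hz
    rw [show (q : P) = 0 from Subtype.ext (Prod.ext hz q.2)]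
    simp
  have hcok : ∀ n : N, ∃ k : ℕ, ∀ a ∈ I ^ k, a • n ∈ LinearMap.range ψ := fun n => by
    obtain ⟨k, hk⟩ := hcoker ((1 : S) ⊗ₜ[R] n)
    refine ⟨k, fun a ha => ?_⟩
    obtain ⟨m, hm⟩ := hk a ha
    refine ⟨⟨(m, a • n), (hP _ _).2 ?_⟩, rfl⟩
    rw [hm, algebraMap_smul, TensorProduct.tmul_smul]
  have hQ : ∀ c : N ⧸ LinearMap.range ψ, ∃ k : ℕ, ∀ a ∈ I ^ k, a • c = 0 := fun c => by
    obtain ⟨n, rfl⟩ := Submodule.mkQ_surjective _ c
    obtain ⟨k, hk⟩ := hcok n
    exact ⟨k, fun a ha => (map_smul _ a n).symm.trans ((Submodule.Quotient.mk_eq_zero _).2 (hk a ha))⟩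
  have hex := lTensor_exact S (LinearMap.exact_map_mkQ_range ψ) (Submodule.mkQ_surjective _)
  have hran : ∀ z, φ (e z) = ψ.lTensor S z := fun z => DFunLike.congr_fun he z
  have hsurj : Function.Surjective e := by
    intro m
    obtain ⟨c, hc⟩ := (Groth.Agent.TorsionEquivLib.bijective_mk_of_torsion hq _ hQ).2
      ((LinearMap.range ψ).mkQ.lTensor S (φ m))
    obtain ⟨n, rfl⟩ := Submodule.mkQ_surjective _ c
    obtain ⟨z, hz⟩ := (hex (φ m - (1 : S) ⊗ₜ[R] n)).1 (by
      rw [map_sub, ← hc, LinearMap.lTensor_tmul, TensorProduct.mk_apply, sub_self])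
    have hn : n ∈ LinearMap.range ψ := by
      refine ⟨⟨(m - e z, n), (hP _ _).2 ?_⟩, rfl⟩
      rw [map_sub, hran, hz]; abel
    obtain ⟨p, rfl⟩ := hn
    refine ⟨z + (1 : S) ⊗ₜ[R] p + (1 : S) ⊗ₜ[R] (⟨(m - e z - pr p, 0), ?_⟩ : P), ?_⟩
    · refine (hP _ _).2 ?_
      rw [map_sub, map_sub, hran, hz, show φ (pr p) = (1 : S) ⊗ₜ[R] ψ p from (hP _ _).1 p.2,
        TensorProduct.tmul_zero]
      abel
    · simp [e, pr]
  exact ⟨P, inferInstance, inferInstance, ψ, LinearEquiv.ofBijective e ⟨hinj, hsurj⟩, he⟩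

end Groth.Agent.S2007
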