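import Groth.Statements.S2008
import Mathlib
import Groth.Agent.TorsionEquivLib.Basic
-- import your own Groth.Agent.* helpers here

set_option autoImplicit false
universe u
open TensorProduct
open EtAlg

namespace Groth.Agent.S2008

set_option maxHeartbeats 400000

open TensorProduct in
/-- `(S/IS) ⊗ M = S ⊗ M` for `R/I`-modules `M`. -/
noncomputable def equivTensor (R S : Type u) [CommRing R] [CommRing S] [Algebra R S] (I : Ideal R)
    (M : Type u) [AddCommGroup M] [Module R M] [Module (R ⧸ I) M] [IsScalarTower R (R ⧸ I) M] :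
    ((S ⧸ I.map (algebraMap R S)) ⊗[R ⧸ I] M) ≃+ (S ⊗[R] M) :=
  (TensorProduct.congr (Algebra.TensorProduct.quotIdealMapEquivQuotTensor S I).toLinearEquiv
      (LinearEquiv.refl (R ⧸ I) M)).toAddEquiv.trans <|
    (TensorProduct.comm (R ⧸ I) _ M).toAddEquiv.trans <|
    (TensorProduct.AlgebraTensorModule.cancelBaseChange R (R ⧸ I) (R ⧸ I) M S).toAddEquiv.trans
    (TensorProduct.comm R M S).toAddEquiv

/-- For a ring map R -> S and an ideal I of R the following are equivalent: (1) S is flat over R and
S/IS is faithfully flat over R/I; (2) S is flat over R and Spec(S/IS) -> Spec(R/I) is surjective;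
(3) S is flat over R and S ⊗_R M is nonzero for every nonzero R-module M killed by I; (4) S is flat
over R and S ⊗_R M is nonzero for every nonzero I-power torsion R-module M. (Faithfulness of base
change on these subcategories is stated as detection of nonzero objects, which is equivalent for an
exact functor.) -/
theorem result (R S : Type u) [CommRing R] [CommRing S] [Algebra R S] (I : Ideal R) :
    List.TFAE [
      Module.Flat R S ∧ Module.FaithfullyFlat (R ⧸ I) (S ⧸ I.map (algebraMap R S)),
      Module.Flat R S ∧ Function.Surjective (PrimeSpectrum.comap (Ideal.quotientMap (I.map (algebraMap R S)) (algebraMap R S) Ideal.le_comap_map)),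
      Module.Flat R S ∧ ∀ (M : Type u) [AddCommGroup M] [Module R M], (∀ (a : R) (m : M), a ∈ I → a • m = 0) →
        Nontrivial M → Nontrivial (S ⊗[R] M),
      Module.Flat R S ∧ ∀ (M : Type u) [AddCommGroup M] [Module R M], (∀ m : M, ∃ n : ℕ, ∀ a ∈ I ^ n, a • m = 0) →
        Nontrivial M → Nontrivial (S ⊗[R] M)] := by
  let T := S ⧸ I.map (algebraMap R S)
  have hflat : Module.Flat R S → Module.Flat (R ⧸ I) T := fun _ =>
    Module.Flat.of_linearEquiv (Algebra.TensorProduct.quotIdealMapEquivQuotTensor S I).toLinearEquiv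
  tfae_have 1 → 2 := fun ⟨h, _⟩ => ⟨h, PrimeSpectrum.comap_surjective_of_faithfullyFlat (B := T)⟩
  tfae_have 2 → 1 := fun ⟨h, h2⟩ => by
    have := hflat h
    exact ⟨h, Module.FaithfullyFlat.of_comap_surjective (B := T) h2⟩
  tfae_have 1 → 3 := fun ⟨h, hf⟩ => by
    refine ⟨h, fun M _ _ hM hn => ?_⟩
    have hsc : Module.IsTorsionBySet R M I := fun m a => hM a m a.2
    let := hsc.module
    have : IsScalarTower R (R ⧸ I) M := hsc.isScalarTower
    exact (equivTensor R S I M).symm.toEquiv.nontrivial
  tfae_have 3 → 1 := fun ⟨h, h3⟩ => by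
    have := hflat h
    refine ⟨h, (Module.FaithfullyFlat.iff_flat_and_lTensor_reflects_triviality (R ⧸ I) T).2
      ⟨this, fun M _ _ hs => ?_⟩⟩
    let := Module.compHom M (algebraMap R (R ⧸ I))
    have : IsScalarTower R (R ⧸ I) M := IsScalarTower.of_algebraMap_smul fun _ _ => rfl
    by_contra hne
    have hn : Nontrivial M := not_subsingleton_iff_nontrivial.1 hne
    have hn' := h3 M (fun a m ha => by
      rw [← algebraMap_smul (R ⧸ I) a m, Ideal.Quotient.algebraMap_eq,
        Ideal.Quotient.eq_zero_iff_mem.2 ha, zero_smul]) hn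
    exact not_subsingleton_iff_nontrivial.2 hn' (equivTensor R S I M).symm.toEquiv.subsingleton
  tfae_have 3 → 4 := fun ⟨h, h3⟩ => by
    refine ⟨h, fun M _ _ hM hn => ?_⟩
    obtain ⟨m, hm⟩ := exists_ne (0 : M)
    obtain ⟨n, hn⟩ := hM m
    have key : ∀ n : ℕ, ∀ m : M, m ≠ 0 → (∀ a ∈ I ^ n, a • m = 0) →
        ∃ x : M, x ≠ 0 ∧ ∀ a ∈ I, a • x = 0 := by
      intro n
      induction n with
      | zero => exact fun m hm hn => (hm (by simpa using hn 1 (by simp))).elim
      | succ n ih =>
        intro m hm hn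
        by_cases hz : ∀ a ∈ I ^ n, a • m = 0
        · exact ih m hm hz
        · push Not at hz
          obtain ⟨b, hb, hb'⟩ := hz
          exact ⟨b • m, hb', fun a ha => by
            rw [← mul_smul]; exact hn _ (by rw [pow_succ']; exact Ideal.mul_mem_mul ha hb)⟩
    obtain ⟨x, hx, hx'⟩ := key n m hm hn
    have hnt : Nontrivial (S ⊗[R] Submodule.span R {x}) := by
      refine h3 _ (fun a y ha => ?_)
        ⟨⟨x, Submodule.mem_span_singleton_self x⟩, 0, fun h => hx (congrArg Subtype.val h)⟩
      obtain ⟨r, hr⟩ := Submodule.mem_span_singleton.1 y.2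
      refine Subtype.ext ?_
      rw [Submodule.coe_smul, ← hr, smul_comm, hx' a ha, smul_zero]
      rfl
    exact (Module.Flat.lTensor_preserves_injective_linearMap (M := S)
      (Submodule.span R {x}).subtype Subtype.val_injective).nontrivial
  tfae_have 4 → 3 := fun ⟨h, h4⟩ =>
    ⟨h, fun M _ _ hM => h4 M fun m => ⟨1, fun a ha => hM a m (pow_one I ▸ ha)⟩⟩
  tfae_finish

end Groth.Agent.S2008
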