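import Groth.Statements.S2009
import Mathlib
import Groth.Agent.TorsionEquivLib.Basic
-- import your own Groth.Agent.* helpers here

set_option autoImplicit false
universe u
open TensorProduct
open EtAlg

namespace Groth.Agent.S2009

set_option maxHeartbeats 400000

/-- Let R -> S be flat with S/IS faithfully flat over R/I. Then the natural map M -> S ⊗_R M is
bijective for every I-power torsion R-module M if and only if R/I -> S/IS is bijective. -/
theorem result (R S : Type u) [CommRing R] [CommRing S] [Algebra R S] (I : Ideal R)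
    [Module.Flat R S] [Module.FaithfullyFlat (R ⧸ I) (S ⧸ I.map (algebraMap R S))] :
    (∀ (M : Type u) [AddCommGroup M] [Module R M], (∀ m : M, ∃ n : ℕ, ∀ a ∈ I ^ n, a • m = 0) →
      Function.Bijective (TensorProduct.mk R S M 1)) ↔
    Function.Bijective (Ideal.quotientMap (I.map (algebraMap R S)) (algebraMap R S) Ideal.le_comap_map) := by
  refine ⟨fun h => ?_, fun hq M _ _ hM => Groth.Agent.TorsionEquivLib.bijective_mk_of_torsion hq M hM⟩
  let e := Algebra.TensorProduct.quotIdealMapEquivTensorQuot (A := R) S I
  have hb := h (R ⧸ I) fun q => ⟨1, fun a ha => by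
    obtain ⟨q, rfl⟩ := Ideal.Quotient.mk_surjective q
    rw [Algebra.smul_def, Ideal.Quotient.algebraMap_eq, ← map_mul]
    exact Ideal.Quotient.eq_zero_iff_mem.2 (Ideal.mul_mem_right _ _ (pow_one I ▸ ha))⟩
  have he : ⇑(Ideal.quotientMap (I.map (algebraMap R S)) (algebraMap R S) Ideal.le_comap_map) =
      e.symm ∘ TensorProduct.mk R S (R ⧸ I) 1 := by
    funext q
    obtain ⟨r, rfl⟩ := Ideal.Quotient.mk_surjective q
    apply e.injective
    rw [Function.comp_apply, e.apply_symm_apply, Ideal.quotientMap_mk]
    simp [e, Algebra.algebraMap_eq_smul_one, TensorProduct.smul_tmul]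
    rw [← TensorProduct.tmul_smul, Algebra.smul_def, mul_one]; rfl
  rw [he]
  exact e.symm.bijective.comp hb

end Groth.Agent.S2009
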