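import Groth.Statements.S2010
import Mathlib
import Groth.Agent.TorsionEquivLib.Basic
-- import your own Groth.Agent.* helpers here

set_option autoImplicit false
universe u
open TensorProduct
open EtAlg

namespace Groth.Agent.S2010

set_option maxHeartbeats 400000

open TensorProduct in
/-- A cocycle in `S ⊗ N` is a cocycle from `N` plus a coboundary from `S ⊗ N`. -/
theorem exists_cocycle {R S : Type u} [CommRing R] [CommRing S] [Algebra R S] [Module.Flat R S]
    {t : ℕ} (f : Fin t → R) {I : Ideal R} (hI : Ideal.span (Set.range f) = I)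
    (hq : Function.Bijective
      (Ideal.quotientMap (I.map (algebraMap R S)) (algebraMap R S) Ideal.le_comap_map))
    {N : Type u} [AddCommGroup N] [Module R N] (L : ℕ) (y : Fin t → S ⊗[R] N)
    (hy : ∀ i j, f j ^ L • y i = f i ^ L • y j) :
    ∃ (n : Fin t → N) (y0 : S ⊗[R] N), (∀ i j, f j ^ L • n i = f i ^ L • n j) ∧
      ∀ i, y i = (1 : S) ⊗ₜ[R] n i + f i ^ L • y0 := by
  classical
  let c : (Fin t → N) →ₗ[R] (Fin t × Fin t → N) := LinearMap.pi fun p =>
    f p.2 ^ L • LinearMap.proj p.1 - f p.1 ^ L • LinearMap.proj p.2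
  let P := TensorProduct.piRight R R S fun _ : Fin t => N
  have hex0 : Function.Exact (LinearMap.ker c).subtype c := fun x =>
    ⟨fun h => ⟨⟨x, h⟩, rfl⟩, fun ⟨z, hz⟩ => hz ▸ z.2⟩
  have hc0 : c.lTensor S (P.symm y) = 0 := by
    apply (TensorProduct.piRight R R S fun _ : Fin t × Fin t => N).injective
    have : ∀ (z : S ⊗[R] (Fin t → N)) (p : Fin t × Fin t),
        TensorProduct.piRight R R S (fun _ : Fin t × Fin t => N) (c.lTensor S z) p =
          f p.2 ^ L • P z p.1 - f p.1 ^ L • P z p.2 := by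
      intro z p
      induction z using TensorProduct.induction_on with
      | zero => simp
      | add a b ha hb => simp only [map_add, Pi.add_apply, ha, hb, smul_add]; abel
      | tmul s m => simp [c, P, TensorProduct.tmul_smul, TensorProduct.tmul_sub]
    rw [map_zero]
    funext p
    rw [this, P.apply_symm_apply, hy, sub_self]
    rfl
  obtain ⟨w, hw⟩ := (@Module.Flat.lTensor_exact R S _ _ _ _ (LinearMap.ker c) (Fin t → N)
    (Fin t × Fin t → N) _ _ _ _ _ _ (LinearMap.ker c).subtype c hex0 _).1 hc0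
  let d : N →ₗ[R] LinearMap.ker c := (LinearMap.pi fun i => f i ^ L • LinearMap.id).codRestrict _
    fun n => by
      refine funext fun p => ?_
      simp [c, smul_comm (f p.2 ^ L) (f p.1 ^ L)]
  obtain ⟨K, hK⟩ := Groth.Agent.TorsionEquivLib.exists_pow_le_span_pow f hI L
  have hQ : ∀ q : LinearMap.ker c ⧸ LinearMap.range d, ∃ k : ℕ, ∀ a ∈ I ^ k, a • q = 0 := by
    intro q
    obtain ⟨⟨z, hz⟩, rfl⟩ := Submodule.mkQ_surjective _ q
    refine ⟨K, fun a ha => Groth.Agent.TorsionEquivLib.smul_eq_zero_of_span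
      (f := fun i => f i ^ L) (fun k => ?_) (hK ha)⟩
    rw [← map_smul]
    refine (Submodule.Quotient.mk_eq_zero _).2 ⟨z k, Subtype.ext (funext fun i => ?_)⟩
    have := congrFun hz (i, k)
    simp only [c, LinearMap.pi_apply, LinearMap.sub_apply, LinearMap.smul_apply,
      LinearMap.proj_apply, Pi.zero_apply, sub_eq_zero] at this
    exact this.symm
  obtain ⟨q, hq'⟩ := (Groth.Agent.TorsionEquivLib.bijective_mk_of_torsion hq _ hQ).2
    ((LinearMap.range d).mkQ.lTensor S w)
  obtain ⟨z, rfl⟩ := Submodule.mkQ_surjective _ q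
  obtain ⟨y0, hy0⟩ := (lTensor_exact S (LinearMap.exact_map_mkQ_range d)
    (Submodule.mkQ_surjective _) (w - (1 : S) ⊗ₜ[R] z)).1 (by
      rw [map_sub, ← hq', LinearMap.lTensor_tmul, TensorProduct.mk_apply, sub_self])
  refine ⟨z.1, y0, fun i j => ?_, fun i => ?_⟩
  · have := congrFun z.2 (i, j)
    simp only [c, LinearMap.pi_apply, LinearMap.sub_apply, LinearMap.smul_apply,
      LinearMap.proj_apply, Pi.zero_apply, sub_eq_zero] at this
    exact this
  · have h1 : ∀ v, P ((LinearMap.ker c).subtype.lTensor S (d.lTensor S v)) i = f i ^ L • v := by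
      intro v
      induction v using TensorProduct.induction_on with
      | zero => simp
      | add a b ha hb => simp only [map_add, Pi.add_apply, ha, hb, smul_add]
      | tmul s m => simp [d, P, TensorProduct.tmul_smul]
    have h2 := congrArg (fun v => P ((LinearMap.ker c).subtype.lTensor S v) i) hy0
    simp only [map_sub, Pi.sub_apply, hw, P.apply_symm_apply, LinearMap.lTensor_tmul, h1] at h2
    rw [show P ((1 : S) ⊗ₜ[R] (LinearMap.ker c).subtype z) i = (1 : S) ⊗ₜ[R] z.1 i by simp [P]] at h2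
    rw [h2]; abel

/-- Let R -> S be flat and I a finitely generated ideal with R/I -> S/IS bijective; let N be an R-module
and M an I-power torsion R-module. For every short exact sequence 0 -> S ⊗_R N -> E' -> S ⊗_R M -> 0
of S-modules there are a short exact sequence 0 -> N -> E -> M -> 0 of R-modules and an R-linear map
E -> E' making the two squares with the maps n ↦ 1 ⊗ n and m ↦ 1 ⊗ m commute. -/
theorem result (R S : Type u) [CommRing R] [CommRing S] [Algebra R S] [Module.Flat R S] (I : Ideal R)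
    (hI : I.FG) (hq : Function.Bijective (Ideal.quotientMap (I.map (algebraMap R S)) (algebraMap R S) Ideal.le_comap_map))
    (N M : Type u) [AddCommGroup N] [Module R N] [AddCommGroup M] [Module R M]
    (hM : ∀ m : M, ∃ n : ℕ, ∀ a ∈ I ^ n, a • m = 0)
    (E' : Type u) [AddCommGroup E'] [Module S E'] [Module R E'] [IsScalarTower R S E'] (i' : S ⊗[R] N →ₗ[S] E') (p' : E' →ₗ[S] S ⊗[R] M)
    (hi' : Function.Injective i') (hp' : Function.Surjective p') (hex' : LinearMap.range i' = LinearMap.ker p') :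
    ∃ (E : Type u) (_ : AddCommGroup E) (_ : Module R E) (i : N →ₗ[R] E) (p : E →ₗ[R] M) (g : E →ₗ[R] E'),
      Function.Injective i ∧ Function.Surjective p ∧ LinearMap.range i = LinearMap.ker p ∧
      (∀ n : N, g (i n) = i' ((1 : S) ⊗ₜ[R] n)) ∧ (∀ e : E, p' (g e) = (1 : S) ⊗ₜ[R] p e) := by
  classical
  obtain ⟨t, f, hf⟩ := Submodule.fg_iff_exists_fin_generating_family.1 hI
  let h : N →ₗ[R] E' := i'.restrictScalars R ∘ₗ TensorProduct.mk R S N 1
  have hsmul : ∀ (r : R) (y : S ⊗[R] N), i' (r • y) = r • i' y := fun r y =>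
    LinearMap.map_smul_of_tower i' r y
  let Nl : Fin t → Type u := fun i => LocalizedModule (Submonoid.powers (f i)) N
  let Good : E' × (∀ i, Nl i) → Prop := fun x => ∃ (L : ℕ) (n : Fin t → N),
    (∀ i, x.2 i = LocalizedModule.mk (n i) (⟨f i ^ L, L, rfl⟩ : Submonoid.powers (f i))) ∧
    (∀ i, f i ^ L • x.1 = h (n i)) ∧ (∀ i j, f j ^ L • n i = f i ^ L • n j)
  have hup : ∀ x, ∀ (L : ℕ) (n : Fin t → N),
    (∀ i, x.2 i = LocalizedModule.mk (n i) (⟨f i ^ L, L, rfl⟩ : Submonoid.powers (f i))) →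
    (∀ i, f i ^ L • x.1 = h (n i)) → (∀ i j, f j ^ L • n i = f i ^ L • n j) → ∀ d,
    (∀ i, (x : E' × (∀ i, Nl i)).2 i = LocalizedModule.mk (f i ^ d • n i) (⟨f i ^ (L + d), L + d, rfl⟩ : Submonoid.powers (f i))) ∧
    (∀ i, f i ^ (L + d) • x.1 = h (f i ^ d • n i)) ∧
    (∀ i j, f j ^ (L + d) • f i ^ d • n i = f i ^ (L + d) • f j ^ d • n j) := by
    intro x L n h1 h2 h3 d
    refine ⟨fun i => (h1 i).trans (LocalizedModule.mk_eq.2 ⟨1, ?_⟩), fun i => ?_, fun i j => ?_⟩
    · simp only [Submonoid.smul_def, Submonoid.coe_one, one_smul]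
      rw [← mul_smul, ← pow_add]
    · rw [map_smul, add_comm, pow_add, mul_smul, h2]
    · calc f j ^ (L + d) • f i ^ d • n i = (f i ^ d * f j ^ d) • f j ^ L • n i := by
            rw [← mul_smul, ← mul_smul, pow_add]; congr 1; ring
        _ = (f i ^ d * f j ^ d) • f i ^ L • n j := by rw [h3 i j]
        _ = f i ^ (L + d) • f j ^ d • n j := by rw [← mul_smul, ← mul_smul, pow_add]; congr 1; ring
  let E : Submodule R (E' × (∀ i, Nl i)) :=
    { carrier := {x | Good x}
      zero_mem' := ⟨0, 0, fun i => (LocalizedModule.zero_mk _).symm,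
        fun i => by simp, fun i j => by simp⟩
      add_mem' := by
        rintro x x' ⟨L, n, h1, h2, h3⟩ ⟨L', n', h1', h2', h3'⟩
        obtain ⟨a1, a2, a3⟩ := hup x L n h1 h2 h3 L'
        obtain ⟨b1, b2, b3⟩ := hup x' L' n' h1' h2' h3' L
        refine ⟨L + L', fun i => f i ^ L' • n i + f i ^ L • n' i, fun i => ?_, fun i => ?_,
          fun i j => ?_⟩
        · rw [Prod.snd_add, Pi.add_apply, a1, b1, LocalizedModule.mk_add_mk]
          refine LocalizedModule.mk_eq.2 ⟨1, ?_⟩
          simp only [Submonoid.smul_def, Submonoid.coe_mul, Submonoid.coe_one, one_smul, smul_add,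
            ← mul_smul]
          rw [add_comm L' L]
          congr 2 <;> ring
        · rw [Prod.fst_add, smul_add, a2, map_add]
          congr 1
          rw [add_comm, b2]
        · rw [smul_add, smul_add, a3]
          congr 1
          rw [add_comm L L', b3]
      smul_mem' := by
        rintro r x ⟨L, n, h1, h2, h3⟩
        refine ⟨L, fun i => r • n i, fun i => ?_, fun i => ?_, fun i j => ?_⟩
        · rw [Prod.smul_snd, Pi.smul_apply, h1, LocalizedModule.smul'_mk]
        · rw [Prod.smul_fst, smul_comm, h2, map_smul]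
        · rw [smul_comm, h3, smul_comm] }
  have hbM := Groth.Agent.TorsionEquivLib.bijective_mk_of_torsion hq M hM
  let eM := LinearEquiv.ofBijective (TensorProduct.mk R S M 1) hbM
  let p : E →ₗ[R] M :=
    eM.symm.toLinearMap ∘ₗ p'.restrictScalars R ∘ₗ LinearMap.fst R E' (∀ i, Nl i) ∘ₗ E.subtype
  let g : E →ₗ[R] E' := LinearMap.fst R E' (∀ i, Nl i) ∘ₗ E.subtype
  let i : N →ₗ[R] E :=
    (h.prod (LinearMap.pi fun i => LocalizedModule.mkLinearMap (Submonoid.powers (f i)) N)).codRestrict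
      E fun n => ⟨0, fun _ => n, fun i => LocalizedModule.mk_eq.2 ⟨1, by simp⟩, fun i => by simp,
        fun i j => by simp⟩
  have hp : ∀ e : E, (1 : S) ⊗ₜ[R] p e = p' (g e) := fun e => eM.apply_symm_apply (p' (g e))
  refine ⟨E, inferInstance, inferInstance, i, p, g, ?_, ?_, ?_, fun n => rfl,
    fun e => (hp e).symm⟩
  · rw [injective_iff_map_eq_zero]
    intro n hn
    have h1 : i' ((1 : S) ⊗ₜ[R] n) = 0 := congrArg (fun e : E => e.1.1) hn
    have h2 : ∀ k, ∃ a : ℕ, f k ^ a • n = 0 := fun k => by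
      have h3 : LocalizedModule.mkLinearMap (Submonoid.powers (f k)) N n = 0 :=
        congrArg (fun e : E => e.1.2 k) hn
      obtain ⟨⟨_, a, rfl⟩, ha⟩ := (IsLocalizedModule.eq_zero_iff (Submonoid.powers (f k)) _).1 h3
      exact ⟨a, ha⟩
    choose a ha using h2
    refine Groth.Agent.TorsionEquivLib.eq_zero_of_tmul f hf hq (∑ k, a k)
      (hi' (h1.trans (map_zero i').symm)) fun k => ?_
    obtain ⟨d, hd⟩ := Nat.exists_eq_add_of_le (Finset.single_le_sum (fun _ _ => Nat.zero_le _) (Finset.mem_univ k))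
    rw [hd, add_comm, pow_add, mul_smul, ha, smul_zero]
  · intro m
    obtain ⟨e', he'⟩ := hp' ((1 : S) ⊗ₜ[R] m)
    obtain ⟨L, hL⟩ := hM m
    have hmem : ∀ k, f k ^ L • e' ∈ LinearMap.range i' := fun k => by
      rw [hex', LinearMap.mem_ker, LinearMap.map_smul_of_tower, he', ← TensorProduct.tmul_smul,
        hL _ (Ideal.pow_mem_pow (hf ▸ Ideal.subset_span ⟨k, rfl⟩) L), TensorProduct.tmul_zero]
    choose y hy using hmem
    obtain ⟨n, y0, hn, hny⟩ := exists_cocycle f hf hq L y fun k l => hi' (by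
      rw [hsmul, hsmul, hy, hy, smul_comm])
    have hgood : Good (e' - i' y0, fun k => LocalizedModule.mk (n k) (⟨f k ^ L, L, rfl⟩ : Submonoid.powers (f k))) :=
      ⟨L, n, fun k => rfl, fun k => by
        show f k ^ L • (e' - i' y0) = i' ((1 : S) ⊗ₜ[R] n k)
        rw [smul_sub, ← hsmul, ← hy, hny, map_add, add_sub_cancel_right], hn⟩
    refine ⟨⟨_, hgood⟩, hbM.1 ?_⟩
    refine (hp _).trans ?_
    show p' (e' - i' y0) = _
    rw [map_sub, show p' (i' y0) = 0 from LinearMap.mem_ker.1 (hex' ▸ ⟨y0, rfl⟩), sub_zero, he']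
    rfl
  · refine le_antisymm ?_ fun e he => ?_
    · rintro _ ⟨n, rfl⟩
      refine hbM.1 ((hp _).trans ?_)
      show p' (i' _) = _
      rw [map_zero]
      exact LinearMap.mem_ker.1 (hex' ▸ ⟨_, rfl⟩)
    · obtain ⟨⟨e', γ⟩, L, n, h1, h2, h3⟩ := e
      have h0 : p' e' = 0 := by
        have := hp ⟨(e', γ), L, n, h1, h2, h3⟩
        rw [LinearMap.mem_ker.1 he, TensorProduct.tmul_zero] at this
        exact this.symm
      obtain ⟨y, rfl⟩ : e' ∈ LinearMap.range i' := hex' ▸ h0
      obtain ⟨μ, hμ, hμ'⟩ := Groth.Agent.TorsionEquivLib.exists_glue f hf hq L n y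
        (fun k => hi' ((hsmul _ _).trans (h2 k))) h3
      refine ⟨μ, Subtype.ext (Prod.ext ?_ (funext fun k => ?_))⟩
      · show i' ((1 : S) ⊗ₜ[R] μ) = i' y
        rw [hμ]
      · obtain ⟨a, ha⟩ := hμ' k
        show LocalizedModule.mkLinearMap _ N μ = γ k
        rw [show γ k = _ from h1 k, LocalizedModule.mkLinearMap_apply]
        refine LocalizedModule.mk_eq.2 ⟨⟨f k ^ a, a, rfl⟩, ?_⟩
        rw [smul_sub, sub_eq_zero] at ha
        simpa [Submonoid.smul_def] using ha

end Groth.Agent.S2010
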