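import Groth.Statements.S2011
import Groth.Agent.NoethJacLib
import Mathlib


-- import your own Groth.Agent.* helpers here

set_option autoImplicit false
universe u
open EtAlg

namespace Groth.Agent.S2011

/-- Let A be a Noetherian ring and I an ideal contained in the Jacobson radical of A (a Zariski pair).
Then for every f in I the localization A_f is a Jacobson ring. -/
theorem result (A : Type u) [CommRing A] [IsNoetherianRing A] (I : Ideal A)
    (hI : I ≤ (⊥ : Ideal A).jacobson) (f : A) (hf : f ∈ I) : IsJacobsonRing (Localization.Away f) := by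
  haveI : IsNoetherianRing (Localization.Away f) := IsLocalization.isNoetherianRing (Submonoid.powers f) _ inferInstance
  rw [isJacobsonRing_iff_prime_eq]
  intro Q hQ
  refine le_antisymm (fun z hz => ?_) Ideal.le_jacobson
  by_contra hzQ
  obtain ⟨Q', hQ', hle, hzQ', hall⟩ := NoethJacLib.exists_max_avoid Q z hzQ
  haveI := hQ'
  have hmax : Q'.IsMaximal := by
    set φ := algebraMap A (Localization.Away f)
    set q := Q'.comap φ with hq
    obtain ⟨⟨n, s⟩, hns⟩ := IsLocalization.surj (Submonoid.powers f) z
    have hfu : IsUnit (φ f) := IsLocalization.Away.algebraMap_isUnit f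
    have hfq : f ∉ q := fun hh => hQ'.ne_top (Q'.eq_top_of_isUnit_mem hh hfu)
    have hnq : n ∉ q := fun hh => by
      rw [hq, Ideal.mem_comap, ← hns] at hh
      exact hzQ' (((Ideal.IsPrime.mul_mem_iff_mem_or_mem inferInstance).1 hh).resolve_right fun h2 =>
        hQ'.ne_top (Q'.eq_top_of_isUnit_mem h2 (IsLocalization.map_units _ s)))
    have key : ∀ r : Ideal (A ⧸ q), r.IsPrime → r ≠ ⊥ → Ideal.Quotient.mk q (f * n) ∈ r := by
      intro r hr hr0
      by_contra hfr
      haveI := hr
      set r' := r.comap (Ideal.Quotient.mk q)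
      have hfr' : Disjoint (Submonoid.powers f : Set A) (r' : Set A) := Set.disjoint_left.2 fun a ha ha' => by
        obtain ⟨m, rfl⟩ := ha
        exact hfr (by rw [map_mul]; exact r.mul_mem_right _ (‹r.IsPrime›.mem_of_pow_mem m (by simpa [r'] using ha')))
      haveI hR : (r'.map φ).IsPrime := IsLocalization.isPrime_of_isPrime_disjoint (Submonoid.powers f) _ r' inferInstance hfr'
      have hcm : (r'.map φ).comap φ = r' := IsLocalization.comap_map_of_isPrime_disjoint (Submonoid.powers f) _ inferInstance hfr'
      have hQR : Q' ≤ r'.map φ := by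
        rw [← IsLocalization.map_comap (Submonoid.powers f) (Localization.Away f) Q']
        exact Ideal.map_mono fun a ha => by
          simp only [r', Ideal.mem_comap, Ideal.Quotient.eq_zero_iff_mem.2 (show a ∈ q from ha), zero_mem]
      have hR0 : (r'.map φ).map (Ideal.Quotient.mk Q') ≠ ⊥ := by
        rw [Ne, Ideal.map_eq_bot_iff_le_ker, Ideal.mk_ker]
        intro hle'
        apply hr0
        rw [← Ideal.map_comap_of_surjective _ Ideal.Quotient.mk_surjective r, Ideal.map_eq_bot_iff_le_ker, Ideal.mk_ker]
        intro a ha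
        exact hle' (Ideal.mem_map_of_mem φ ha)
      haveI : ((r'.map φ).map (Ideal.Quotient.mk Q')).IsPrime :=
        Ideal.map_isPrime_of_surjective Ideal.Quotient.mk_surjective (by rwa [Ideal.mk_ker])
      have hz' := hall _ inferInstance hR0
      rw [← Ideal.mem_comap, Ideal.comap_map_of_surjective _ Ideal.Quotient.mk_surjective, ← RingHom.ker_eq_comap_bot,
        Ideal.mk_ker, sup_eq_left.2 hQR] at hz'
      have : n ∈ r' := by
        rw [← hcm, Ideal.mem_comap, ← hns]
        exact Ideal.mul_mem_right _ _ hz'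
      exact hfr (by rw [map_mul]; exact r.mul_mem_left _ this)
    have hg0 : Ideal.Quotient.mk q (f * n) ≠ 0 := by
      rw [Ne, Ideal.Quotient.eq_zero_iff_mem]
      exact fun hh => ((Ideal.IsPrime.mul_mem_iff_mem_or_mem inferInstance).1 hh).elim hfq hnq
    obtain ⟨R, hR, hQR⟩ := Ideal.exists_le_maximal Q' hQ'.ne_top
    rcases hQR.eq_or_lt with rfl | hlt
    · exact hR
    exfalso
    haveI := hR.isPrime
    have hqR : q ≤ R.comap φ := Ideal.comap_mono hQR
    have hr0 : (R.comap φ).map (Ideal.Quotient.mk q) ≠ ⊥ := by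
      rw [Ne, Ideal.map_eq_bot_iff_le_ker, Ideal.mk_ker]
      intro hh
      refine hlt.not_ge ?_
      rw [← IsLocalization.map_comap (Submonoid.powers f) (Localization.Away f) R,
        ← IsLocalization.map_comap (Submonoid.powers f) (Localization.Away f) Q']
      exact Ideal.map_mono hh
    haveI : ((R.comap φ).map (Ideal.Quotient.mk q)).IsPrime :=
      Ideal.map_isPrime_of_surjective Ideal.Quotient.mk_surjective (by rwa [Ideal.mk_ker])
    have hm := NoethJacLib.isMaximal_of_mem_all _ hg0 key _ hr0
    haveI := hm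
    have hm' : ((((R.comap φ).map (Ideal.Quotient.mk q))).comap (Ideal.Quotient.mk q)).IsMaximal :=
      Ideal.comap_isMaximal_of_surjective _ Ideal.Quotient.mk_surjective
    have hfm : f ∈ (((R.comap φ).map (Ideal.Quotient.mk q))).comap (Ideal.Quotient.mk q) :=
      (Ideal.mem_sInf.1 (hI hf)) ⟨bot_le, hm'⟩
    rw [Ideal.comap_map_of_surjective _ Ideal.Quotient.mk_surjective, ← RingHom.ker_eq_comap_bot, Ideal.mk_ker,
      sup_eq_left.2 hqR] at hfm
    exact hR.ne_top (R.eq_top_of_isUnit_mem hfm hfu)
  exact hzQ' (Ideal.mem_sInf.1 hz ⟨hle, hmax⟩)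

end Groth.Agent.S2011
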