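import Groth.Statements.S2014
import Mathlib.RingTheory.Length
import Mathlib.RingTheory.Ideal.MinimalPrime.Noetherian
import Mathlib.RingTheory.Nakayama
-- import your own Groth.Agent.* helpers here

set_option autoImplicit false
universe u
open EtAlg

namespace Groth.Agent.S2014

/-- Let R be a Noetherian local ring of Krull dimension 1 and x an element of the maximal ideal
contained in no minimal prime of R. Then the number of minimal prime ideals of R is at most the
length of R/xR as an R-module. -/
theorem result (R : Type u) [CommRing R] [IsNoetherianRing R] [IsLocalRing R]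
    (hdim : ringKrullDim R = 1) (x : R) (hx : x ∈ IsLocalRing.maximalIdeal R) (hmin : ∀ p ∈ minimalPrimes R, x ∉ p) :
    (Set.ncard (minimalPrimes R) : ℕ∞) ≤ Module.length R (R ⧸ Ideal.span {x}) := by
  classical
  have step : ∀ (I I' : Ideal R), I' < I → Module.length R (R ⧸ I) + 1 ≤ Module.length R (R ⧸ I') := by
    intro I I' h
    let M : Submodule R (R ⧸ I') := Submodule.map (Submodule.mkQ (I' : Submodule R R)) (I : Submodule R R)
    rw [Module.length_eq_add_of_exact (R := R) M.subtype M.mkQ (Submodule.subtype_injective M)
      (Submodule.mkQ_surjective M) (LinearMap.exact_subtype_mkQ M),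
      (show ((R ⧸ I') ⧸ M) ≃ₗ[R] (R ⧸ I) from Submodule.quotientQuotientEquivQuotient I' I h.le).length_eq, add_comm]
    refine add_le_add ?_ le_rfl
    haveI : Nontrivial ↥M := by
      obtain ⟨a, haI, ha⟩ := SetLike.exists_of_lt h
      refine ⟨⟨⟨Submodule.mkQ I' a, Submodule.mem_map_of_mem haI⟩, 0, fun e => ha ?_⟩⟩
      exact (Submodule.Quotient.mk_eq_zero I').1 (congrArg Subtype.val e)
    exact Order.one_le_iff_pos.2 Module.length_pos
  have main : ∀ S : Finset (Ideal R), (↑S ⊆ minimalPrimes R) →
      (S.card : ℕ∞) ≤ Module.length R (R ⧸ (S.inf id ⊔ Ideal.span {x})) := by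
    intro S
    induction S using Finset.induction with
    | empty => intro; simp
    | insert q S hq ih =>
      intro hS
      rw [Finset.coe_insert, Set.insert_subset_iff] at hS
      rw [Finset.card_insert_of_notMem hq, Nat.cast_add, Nat.cast_one]
      refine (add_le_add (ih hS.2) le_rfl).trans (step _ _ ?_)
      refine lt_of_le_of_ne (sup_le_sup_right (Finset.inf_mono (Finset.subset_insert q S)) _) fun heq => hq ?_
      have hle : S.inf id ≤ (insert q S).inf id := by
        refine Submodule.le_of_le_smul_of_le_jacobson_bot (I := Ideal.span {x}) (IsNoetherian.noetherian _)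
          ((Ideal.span_singleton_le_iff_mem _).2 (by rw [IsLocalRing.jacobson_eq_maximalIdeal _ bot_ne_top]; exact hx))
          fun a ha => ?_
        have ha' : a ∈ (insert q S).inf id ⊔ Ideal.span {x} := heq ▸ Submodule.mem_sup_left ha
        obtain ⟨b, hb, c, hc, rfl⟩ := Submodule.mem_sup.1 ha'
        obtain ⟨r, rfl⟩ := Ideal.mem_span_singleton'.1 hc
        refine Submodule.add_mem_sup hb ?_
        have hbS : b ∈ S.inf id := (Finset.inf_mono (f := id) (Finset.subset_insert q S) : (insert q S).inf id ≤ S.inf id) hb
        have hr : r * x ∈ S.inf id := by simpa using Submodule.sub_mem _ ha hbS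
        rw [mul_comm]
        refine Submodule.smul_mem_smul (Ideal.mem_span_singleton_self x) ?_
        rw [Submodule.mem_finsetInf] at hr ⊢
        intro p hp
        exact ((hS.2 hp).1.1.mem_or_mem (hr p hp)).resolve_right (hmin p (hS.2 hp))
      have hq' : S.inf id ≤ q := hle.trans (Finset.inf_le (Finset.mem_insert_self q S))
      obtain ⟨p, hp, hpq⟩ := (Ideal.IsPrime.inf_le' hS.1.1.1).1 hq'
      have hqp : q ≤ p := hS.1.2 ⟨(hS.2 hp).1.1, bot_le⟩ hpq
      rwa [le_antisymm hqp hpq]
  have hfin : (minimalPrimes R).Finite := minimalPrimes.finite_of_isNoetherianRing R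
  rw [Set.ncard_eq_toFinset_card _ hfin]
  refine (main hfin.toFinset (by simp)).trans ?_
  exact Module.length_le_of_surjective (Submodule.factor le_sup_right) (Submodule.factor_surjective le_sup_right)

end Groth.Agent.S2014
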