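import Groth.Statements.S2015
import Mathlib.Algebra.Module.FinitePresentation
import Mathlib.LinearAlgebra.Quotient.Pi
import Mathlib.LinearAlgebra.Isomorphisms
import Mathlib.RingTheory.Ideal.Span
import Mathlib.Tactic.LinearCombination
-- import your own Groth.Agent.* helpers here

set_option autoImplicit false
universe u
open EtAlg

namespace Groth.Agent.S2015

/-- Let R be a nonzero ring such that for all a, b in R either a divides b or b divides a. Then each
finitely presented R-module decomposes as a direct sum of finitely many cyclic modules R/fR. -/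
theorem result (R : Type u) [CommRing R] [Nontrivial R] (h : ∀ a b : R, a ∣ b ∨ b ∣ a)
    (M : Type u) [AddCommGroup M] [Module R M] [Module.FinitePresentation R M] :
    ∃ (n : ℕ) (f : Fin n → R), Nonempty (M ≃ₗ[R] ((i : Fin n) → R ⧸ Ideal.span {f i})) := by
  classical
  obtain ⟨n, K, e, hK⟩ := Module.FinitePresentation.exists_fin R M
  suffices H : ∀ (n : ℕ) (K : Submodule R (Fin n → R)), K.FG →
      ∃ (m : ℕ) (f : Fin m → R), Nonempty (((Fin n → R) ⧸ K) ≃ₗ[R] ((i : Fin m) → R ⧸ Ideal.span {f i})) by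
    obtain ⟨m, f, ⟨e'⟩⟩ := H n K hK
    exact ⟨m, f, ⟨e ≪≫ₗ e'⟩⟩
  intro n
  induction n with
  | zero => exact fun K _ => ⟨0, Fin.elim0, ⟨LinearEquiv.ofSubsingleton _ _⟩⟩
  | succ n ih =>
    intro K hK
    obtain ⟨S, rfl⟩ := hK
    have hmin : ∀ T : Finset R, T.Nonempty → ∃ a ∈ T, ∀ b ∈ T, a ∣ b := by
      intro T hT
      induction hT using Finset.Nonempty.cons_induction with
      | singleton b => exact ⟨b, by simp, by simp⟩
      | cons b T hb _ ih =>
        obtain ⟨a, ha, hab⟩ := ih
        rcases h a b with hd | hd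
        · exact ⟨a, by simp [ha], by simpa [hd] using hab⟩
        · exact ⟨b, by simp, by simpa using fun c hc => hd.trans (hab c hc)⟩
    obtain ⟨a, ha, hdiv⟩ := hmin (((insert 0 S) ×ˢ (Finset.univ : Finset (Fin (n + 1)))).image fun p => p.1 p.2)
      ⟨_, Finset.mem_image.2 ⟨((0 : Fin (n + 1) → R), (0 : Fin (n + 1))),
        Finset.mem_product.2 ⟨Finset.mem_insert_self 0 S, Finset.mem_univ _⟩, rfl⟩⟩
    obtain ⟨⟨k₁, i₀⟩, hk₁, rfl⟩ := Finset.mem_image.1 ha
    rw [Finset.mem_product] at hk₁
    have hd : ∀ k ∈ insert 0 S, ∀ i, k₁ i₀ ∣ k i := fun k hk i =>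
      hdiv _ (Finset.mem_image.2 ⟨(k, i), Finset.mem_product.2 ⟨hk, Finset.mem_univ i⟩, rfl⟩)
    choose c hc using fun i => hd k₁ hk₁.1 i
    let v : Fin (n + 1) → R := Function.update c i₀ 1
    have hkv : k₁ = k₁ i₀ • v := funext fun i => by
      rcases eq_or_ne i i₀ with rfl | hi
      · simp [v]
      · simp only [v, Pi.smul_apply, smul_eq_mul, Function.update_of_ne hi]
        exact hc i
    let P : (Fin (n + 1) → R) →ₗ[R] (Fin n → R) :=
      { toFun := fun w j => w (i₀.succAbove j) - w i₀ * v (i₀.succAbove j)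
        map_add' := fun x y => funext fun j => by simp only [Pi.add_apply]; ring
        map_smul' := fun r x => funext fun j => by simp only [Pi.smul_apply, smul_eq_mul, RingHom.id_apply]; ring }
    let K' := (Submodule.span R (S : Set (Fin (n + 1) → R))).map P
    obtain ⟨m, f, ⟨e'⟩⟩ := ih K' (Submodule.FG.map P ⟨S, rfl⟩)
    let g : (Fin (n + 1) → R) →ₗ[R] (R ⧸ Ideal.span {k₁ i₀}) × ((Fin n → R) ⧸ K') :=
      LinearMap.prod ((Submodule.mkQ (Ideal.span {k₁ i₀} : Submodule R R)).comp (LinearMap.proj i₀)) (K'.mkQ.comp P)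
    have hg : Function.Surjective g := by
      rintro ⟨x, y⟩
      obtain ⟨x, rfl⟩ := Submodule.mkQ_surjective _ x
      obtain ⟨y, rfl⟩ := Submodule.mkQ_surjective _ y
      refine ⟨x • v + Fin.insertNth i₀ 0 y, ?_⟩
      refine Prod.ext ?_ ?_
      · show Submodule.mkQ _ ((x • v + Fin.insertNth i₀ 0 y : Fin (n + 1) → R) i₀) = Submodule.mkQ _ x
        simp [v]
      · show K'.mkQ (P _) = K'.mkQ y
        congr 1
        funext j
        simp [P, v]
    have hk₁mem : k₁ ∈ Submodule.span R (S : Set (Fin (n + 1) → R)) := by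
      rcases Finset.mem_insert.1 hk₁.1 with hz | hz
      · rw [show k₁ = 0 from hz]
        exact Submodule.zero_mem _
      · exact Submodule.subset_span hz
    have hker : LinearMap.ker g = Submodule.span R (S : Set (Fin (n + 1) → R)) := by
      refine le_antisymm (fun w hw => ?_) (fun w hw => ?_)
      · obtain ⟨h1, h2⟩ := Prod.ext_iff.1 (LinearMap.mem_ker.1 hw)
        obtain ⟨r, hr⟩ := Ideal.mem_span_singleton'.1 ((Submodule.Quotient.mk_eq_zero _).1 h1)
        obtain ⟨s, hs, hPs⟩ := (Submodule.Quotient.mk_eq_zero K').1 h2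
        obtain ⟨q, hq⟩ : k₁ i₀ ∣ s i₀ := by
          refine Submodule.span_induction (p := fun s _ => k₁ i₀ ∣ s i₀) ?_ (dvd_zero _) ?_ ?_ hs
          · exact fun k hk => hd k (Finset.mem_insert_of_mem hk) i₀
          · exact fun x y _ _ hx hy => dvd_add hx hy
          · exact fun b x _ hx => hx.mul_left b
        have hw' : w = s + (r - q) • k₁ := funext fun i => by
          have e2 : k₁ i = k₁ i₀ * v i := congrFun hkv i
          have e3 : w i₀ = r * k₁ i₀ := hr.symm
          rcases i₀.eq_self_or_eq_succAbove i with rfl | ⟨j, rfl⟩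
          · simp only [Pi.add_apply, Pi.smul_apply, smul_eq_mul]
            rw [e3, hq]
            ring
          · have e1 : s (i₀.succAbove j) - s i₀ * v (i₀.succAbove j) =
                w (i₀.succAbove j) - w i₀ * v (i₀.succAbove j) := congrFun hPs j
            simp only [Pi.add_apply, Pi.smul_apply, smul_eq_mul]
            rw [e2]
            rw [e3, hq] at e1
            linear_combination -e1
        rw [hw']
        exact Submodule.add_mem _ hs (Submodule.smul_mem _ _ hk₁mem)
      · refine LinearMap.mem_ker.2 (Prod.ext ((Submodule.Quotient.mk_eq_zero _).2 ?_)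
          ((Submodule.Quotient.mk_eq_zero K').2 (Submodule.mem_map_of_mem hw)))
        refine Submodule.span_induction (p := fun s _ => s i₀ ∈ Ideal.span {k₁ i₀}) ?_ (zero_mem _) ?_ ?_ hw
        · exact fun k hk => Ideal.mem_span_singleton.2 (hd k (Finset.mem_insert_of_mem hk) i₀)
        · exact fun x y _ _ hx hy => add_mem hx hy
        · exact fun b x _ hx => Ideal.mul_mem_left _ b hx
    let F : Fin (m + 1) → R := Fin.cons (k₁ i₀) f
    let u : ((i : Fin (m + 1)) → R ⧸ Ideal.span {F i}) ≃ₗ[R]
        (R ⧸ Ideal.span {k₁ i₀}) × ((i : Fin m) → R ⧸ Ideal.span {f i}) :=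
      { toFun := fun w => (w 0, fun j => w j.succ)
        map_add' := fun _ _ => rfl
        map_smul' := fun _ _ => rfl
        invFun := fun w i => Fin.cases (motive := fun i => R ⧸ Ideal.span {F i}) w.1 w.2 i
        left_inv := fun w => funext fun i => by
          refine Fin.cases ?_ ?_ i
          · rfl
          · intro j; rfl
        right_inv := fun w => rfl }
    exact ⟨m + 1, F, ⟨(Submodule.quotEquivOfEq _ _ hker.symm) ≪≫ₗ (g.quotKerEquivOfSurjective hg) ≪≫ₗ
      (LinearEquiv.refl R _).prodCongr e' ≪≫ₗ u.symm⟩⟩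

end Groth.Agent.S2015
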