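import Groth.Statements.S2016
import Mathlib
import Groth.Agent.PureProjLib.Basic
-- import your own Groth.Agent.* helpers here

set_option autoImplicit false
universe u
open EtAlg

namespace Groth.Agent.S2016

set_option maxHeartbeats 400000

/-- Let R be a ring such that for every maximal ideal m and all a, b in R_m, either a divides b or b
divides a in R_m. Then each finitely presented R-module is a direct summand of a direct sum of
finitely many cyclic modules R/fR. -/
theorem result (R : Type u) [CommRing R]
    (h : ∀ (m : Ideal R) [m.IsMaximal], ∀ a b : Localization.AtPrime m, a ∣ b ∨ b ∣ a)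
    (M : Type u) [AddCommGroup M] [Module R M] [Module.FinitePresentation R M] :
    ∃ (n : ℕ) (f : Fin n → R) (N : Type u) (_ : AddCommGroup N) (_ : Module R N),
      Nonempty ((M × N) ≃ₗ[R] ((i : Fin n) → R ⧸ Ideal.span {f i})) := by
  obtain ⟨l, f, ψ, φ, hφ⟩ := PureProjLib.exists_factor h M
  refine ⟨l, f, LinearMap.ker φ, inferInstance, inferInstance, ⟨?_⟩⟩
  have hfx : ∀ x, φ (ψ x) = x := LinearMap.congr_fun hφ
  refine LinearEquiv.ofBijective (ψ.coprod (LinearMap.ker φ).subtype) ⟨?_, ?_⟩
  · refine (injective_iff_map_eq_zero _).mpr ?_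
    rintro ⟨x, ⟨k, hk⟩⟩ hxk
    have h1 : ψ x + k = 0 := hxk
    have h2 := congrArg φ h1
    rw [map_add, map_zero, hfx, LinearMap.mem_ker.mp hk, add_zero] at h2
    subst h2
    rw [map_zero, zero_add] at h1
    exact Prod.ext rfl (Subtype.ext h1)
  · intro z
    exact ⟨(φ z, ⟨z - ψ (φ z), by rw [LinearMap.mem_ker, map_sub, hfx, sub_self]⟩), add_sub_cancel _ _⟩

end Groth.Agent.S2016
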