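import Groth.Statements.S2017
import Groth.Agent.FibProdLib.Basic
-- import your own Groth.Agent.* helpers here

set_option autoImplicit false
universe u
open EtAlg

namespace Groth.Agent.S2017

/-- Let R be a Noetherian ring, A, B, C R-algebras of finite type, f : A -> B a surjective R-algebra map
and g : C -> B an R-algebra map making B a finite C-module. Then the fibre product A ×_B C (the
equalizer of f ∘ pr₁ and g ∘ pr₂ in A × C) is an R-algebra of finite type. -/
theorem result (R A B C : Type u) [CommRing R] [IsNoetherianRing R] [CommRing A] [CommRing B]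
    [CommRing C] [Algebra R A] [Algebra R B] [Algebra R C] [Algebra.FiniteType R A] [Algebra.FiniteType R B]
    [Algebra.FiniteType R C] (f : A →ₐ[R] B) (hf : Function.Surjective f) (g : C →ₐ[R] B)
    (hg : (g.toRingHom).Finite) :
    Algebra.FiniteType R ↥(AlgHom.equalizer (f.comp (AlgHom.fst R A C)) (g.comp (AlgHom.snd R A C))) := by
  classical
  let P := AlgHom.equalizer (f.comp (AlgHom.fst R A C)) (g.comp (AlgHom.snd R A C))
  letI := g.toRingHom.toAlgebra
  obtain ⟨S, hS⟩ := hg.fg_top
  choose lift hlift using hf
  haveI : Algebra.FiniteType R (A × C) := inferInstance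
  refine Groth.Agent.FibProdLib.finiteType_subalgebra P
    (Groth.Agent.FibProdLib.finite_prod_subalgebra P (fun c => ⟨lift (g c), hlift (g c)⟩)
      (insert 1 (S.image lift)) fun a => ?_)
  have hmem : f a ∈ Submodule.span C (S : Set B) := by rw [hS]; trivial
  obtain ⟨k, -, hk⟩ := Submodule.mem_span_finset.1 hmem
  let e : C → P := fun c => ⟨(lift (g c), c), hlift (g c)⟩
  let rest : A := a - ∑ s ∈ S, lift (g (k s)) * lift s
  have hrest : f rest = 0 := by
    simp only [rest, map_sub, map_sum, map_mul, hlift]
    rw [← hk, sub_eq_zero]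
    exact Finset.sum_congr rfl fun s _ => rfl
  let u : P := ⟨(rest, 0), hrest.trans (map_zero g).symm⟩
  refine ⟨fun t => (∑ s ∈ S.filter (fun s => lift s = t), e (k s)) + if t = 1 then u else 0, ?_⟩
  have hsum : ∀ t, (((∑ s ∈ S.filter (fun s => lift s = t), e (k s)) + if t = 1 then u else 0 : P) : A × C).1 * t =
      (∑ s ∈ S.filter (fun s => lift s = t), lift (g (k s)) * lift s) + if t = 1 then rest else 0 := by
    intro t
    rw [Subalgebra.coe_add, Prod.fst_add, add_mul, AddSubmonoidClass.coe_finsetSum, Prod.fst_sum, Finset.sum_mul]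
    congr 1
    · exact Finset.sum_congr rfl fun s hs => by rw [(Finset.mem_filter.1 hs).2]
    · split_ifs with h
      · rw [h, mul_one]
      · simp
  rw [Finset.sum_congr rfl fun t _ => hsum t, Finset.sum_add_distrib, Finset.sum_fiberwise_of_maps_to
    (fun s hs => Finset.mem_insert_of_mem (Finset.mem_image_of_mem lift hs)), Finset.sum_ite_eq', if_pos (Finset.mem_insert_self _ _)]
  exact (add_sub_cancel _ _).symm

end Groth.Agent.S2017
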