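import Groth.Statements.S2018
import Mathlib.RingTheory.Polynomial.Basic
import Mathlib.RingTheory.IntegralClosure.IsIntegral.Basic
-- import your own Groth.Agent.* helpers here

set_option autoImplicit false
universe u
open EtAlg

namespace Groth.Agent.S2018

/-- Let g : A' -> A be a surjective ring map and f : B -> A an integral ring map. Then the projection
from the fibre product B ×_A A' (the equalizer of f ∘ pr₁ and g ∘ pr₂ in B × A') to A' is integral. -/
theorem result (A A' B : Type u) [CommRing A] [CommRing A'] [CommRing B] (g : A' →+* A)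
    (hg : Function.Surjective g) (f : B →+* A) (hf : f.IsIntegral) :
    ((RingHom.snd B A').comp ((f.comp (RingHom.fst B A')).eqLocus (g.comp (RingHom.snd B A'))).subtype).IsIntegral := by
  let P := (f.comp (RingHom.fst B A')).eqLocus (g.comp (RingHom.snd B A'))
  let π := (RingHom.snd B A').comp P.subtype
  intro a
  obtain ⟨p, hp, hev⟩ := hf (g a)
  choose lift hlift using hg
  let e : B → P := fun b => ⟨(b, lift (f b)), (hlift (f b)).symm⟩
  let p' := p * Polynomial.X
  have hp' : p'.Monic := hp.mul Polynomial.monic_X
  rcases subsingleton_or_nontrivial B with hB | hB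
  · haveI : Subsingleton A := subsingleton_of_zero_eq_one (by
      rw [← map_zero f, ← map_one f, Subsingleton.elim (0 : B) 1])
    let k : P := ⟨(0, a), Subsingleton.elim _ _⟩
    exact ⟨Polynomial.X - Polynomial.C k, Polynomial.monic_X_sub_C k, by simp [k]⟩
  let q : Polynomial P := Polynomial.X ^ p'.natDegree + ∑ i ∈ Finset.range p'.natDegree, Polynomial.C (e (p'.coeff i)) * Polynomial.X ^ i
  have hq : g (q.eval₂ π a) = 0 := by
    have h1 : p'.eval₂ f (g a) = 0 := by simp [p', Polynomial.eval₂_mul, hev]
    rw [hp'.as_sum] at h1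
    rw [← h1]
    simp [q, Polynomial.eval₂_finsetSum, π, e, hlift]
  let k : P := ⟨(0, q.eval₂ π a), by
    show f 0 = g _
    rw [map_zero]
    exact hq.symm⟩
  have hd : 0 < p'.natDegree := by
    rw [Polynomial.natDegree_mul_X hp.ne_zero]; omega
  refine ⟨q - Polynomial.C k, ?_, ?_⟩
  · refine Polynomial.monic_of_natDegree_le_of_coeff_eq_one p'.natDegree ?_ ?_
    · refine Polynomial.natDegree_sub_le_of_le ?_ (by simp) |>.trans (max_le le_rfl le_rfl)
      refine Polynomial.natDegree_add_le_of_le ?_ ?_ |>.trans (max_le le_rfl le_rfl)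
      · exact Polynomial.natDegree_X_pow_le _
      · refine Polynomial.natDegree_sum_le_of_forall_le _ _ fun i hi => ?_
        exact (Polynomial.natDegree_C_mul_X_pow_le _ _).trans (Finset.mem_range.1 hi).le
    · rw [Polynomial.coeff_sub, Polynomial.coeff_C, if_neg hd.ne', sub_zero, Polynomial.coeff_add,
        Polynomial.coeff_X_pow_self, Polynomial.finsetSum_coeff, Finset.sum_eq_zero, add_zero]
      intro i hi
      rw [Polynomial.coeff_C_mul_X_pow, if_neg (Finset.mem_range.1 hi).ne']
  · rw [Polynomial.eval₂_sub, Polynomial.eval₂_C]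
    exact sub_self _

end Groth.Agent.S2018
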