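import Groth.Statements.S2032
import Mathlib.RingTheory.Smooth.StandardSmooth
import Mathlib.RingTheory.Localization.Away.Basic
import Mathlib.RingTheory.Nakayama
-- import your own Groth.Agent.* helpers here

set_option autoImplicit false
universe u
open Smoothing

namespace Groth.Agent.S2032

open MvPolynomial

/-- An fg ideal `I` with `a • I ≤ I²` is killed by an element congruent to a power of `a` mod `I`. -/
theorem exists_killing {B : Type*} [CommRing B] {m : ℕ} (g : Fin m → B) (a : B)
    (h : ∀ j, a * g j ∈ Ideal.span (Set.range g) ^ 2) :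
    ∃ N : ℕ, 0 < N ∧ ∃ b : B, b - a ^ N ∈ Ideal.span (Set.range g) ∧
      ∀ x ∈ Ideal.span (Set.range g), b * x = 0 := by
  set I := Ideal.span (Set.range g)
  let L := Localization.Away a
  let J : Ideal L := I.map (algebraMap B L)
  have hu : IsUnit (algebraMap B L a) := IsLocalization.Away.algebraMap_isUnit a
  have hJ : J ≤ J • J := by
    rw [smul_eq_mul, ← sq, ← Ideal.map_pow]
    refine Ideal.map_le_iff_le_comap.2 (Ideal.span_le.2 ?_)
    rintro _ ⟨j, rfl⟩
    have := Ideal.mem_map_of_mem (algebraMap B L) (h j)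
    rw [map_mul] at this
    exact (Ideal.unit_mul_mem_iff_mem _ hu).1 this
  obtain ⟨r, hr, hr'⟩ := Submodule.exists_mem_and_smul_eq_self_of_fg_of_le_smul J J
    (Ideal.FG.map (Submodule.fg_span (Set.finite_range g)) _) hJ
  obtain ⟨⟨⟨i, hi⟩, ⟨_, k, rfl⟩⟩, hik⟩ :=
    (IsLocalization.mem_map_algebraMap_iff (Submonoid.powers a) L).1 hr
  have hzero : ∀ j, ∃ t, a ^ t * ((a ^ k - i) * g j) = 0 := fun j => by
    have e : algebraMap B L ((a ^ k - i) * g j) = algebraMap B L 0 := by
      have := hr' _ (Ideal.mem_map_of_mem (algebraMap B L) (Ideal.subset_span ⟨j, rfl⟩))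
      rw [smul_eq_mul] at this
      rw [map_mul, map_sub, map_zero, sub_mul, ← hik, mul_assoc, mul_comm (algebraMap B L (a ^ k)),
        ← mul_assoc, this, mul_comm, sub_self]
    obtain ⟨⟨_, t, rfl⟩, ht⟩ := IsLocalization.exists_of_eq (M := Submonoid.powers a) e
    exact ⟨t, by simpa using ht⟩
  choose t ht using hzero
  refine ⟨(∑ j, t j) + 1 + k, by omega, a ^ ((∑ j, t j) + 1) * (a ^ k - i), ?_, fun x hx => ?_⟩
  · rw [mul_sub, ← pow_add, sub_sub_cancel_left, neg_mem_iff]
    exact Ideal.mul_mem_left _ _ hi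
  · induction hx using Submodule.span_induction with
    | mem y hy =>
      obtain ⟨j, rfl⟩ := hy
      obtain ⟨d, hd⟩ := Nat.exists_eq_add_of_le
        (Finset.single_le_sum (fun i _ => Nat.zero_le (t i)) (Finset.mem_univ j))
      rw [hd, mul_assoc, show t j + d + 1 = (d + 1) + t j by omega, pow_add a (d + 1), mul_assoc, ht,
        mul_zero]
    | zero => rw [mul_zero]
    | add y z _ _ hy hz => rw [mul_add, hy, hz, add_zero]
    | smul c y _ hy => rw [smul_eq_mul, mul_left_comm, hy, mul_zero]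

/-- For a finitely presented `R`-algebra `A` and `a ∈ A`, if `a` is elementary standard then `A_a` is
standard smooth over `R`. (Part (f), the converse for large powers of `a`, is not stated: as
published it fails, for example for the nodal cubic `A = {g ∈ ℚ[u] : g(0) = g(1)}` and `a =
u(u-1)`.) -/
theorem result {R A : Type u} [CommRing R] [CommRing A]
    [Algebra R A] [Algebra.FinitePresentation R A] (a : A)
    (ha : Smoothing.IsElementaryStandard R A a) : Algebra.IsStandardSmooth R (Localization.Away a) := by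
  obtain ⟨P, ⟨a', ha'⟩, hP⟩ := ha
  classical
  let v : Fin P.c → MvPolynomial (Fin P.n) R := fun j => P.rel (Fin.castLE P.hcm j)
  obtain ⟨a₀, ha₀⟩ := P.surj a
  let B₀ := MvPolynomial (Fin P.n) R ⧸ Ideal.span (Set.range v)
  let mk : MvPolynomial (Fin P.n) R →+* B₀ := Ideal.Quotient.mk _
  have hv : Ideal.span (Set.range v) ≤ RingHom.ker P.hom.toRingHom := by
    rw [P.ker_eq]
    exact Ideal.span_mono (Set.range_comp_subset_range _ _)
  let π : B₀ →ₐ[R] A := Ideal.Quotient.liftₐ _ P.hom fun x hx => hv hx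
  have hπ : ∀ y, π (mk y) = P.hom y := fun y => rfl
  have hlead : Ideal.span (P.rel '' {j' : Fin P.m | (j' : ℕ) < P.c}) ≤ Ideal.span (Set.range v) :=
    Ideal.span_mono (by rintro _ ⟨j, hj, rfl⟩; exact ⟨⟨j, hj⟩, rfl⟩)
  have hIg : (Ideal.span (Set.range P.rel)).map mk = Ideal.span (Set.range fun j => mk (P.rel j)) := by
    rw [Ideal.map_span, ← Set.range_comp]; rfl
  have hkill : ∀ j, mk a₀ * mk (P.rel j) ∈ Ideal.span (Set.range fun j => mk (P.rel j)) ^ 2 := fun j => by
    rw [← map_mul]
    by_cases hj : (j : ℕ) < P.c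
    · rw [show mk (a₀ * P.rel j) = 0 from Ideal.Quotient.eq_zero_iff_mem.2
        (Ideal.mul_mem_left _ _ (hlead (Ideal.subset_span ⟨j, hj, rfl⟩)))]
      exact zero_mem _
    · obtain ⟨y, hy, z, hz, hyz⟩ := Submodule.mem_sup.1 (hP a₀ ha₀ j (not_lt.1 hj))
      rw [← hyz, map_add, show mk y = 0 from Ideal.Quotient.eq_zero_iff_mem.2 (hlead hy), zero_add,
        ← hIg, ← Ideal.map_pow]
      exact Ideal.mem_map_of_mem _ hz
  obtain ⟨N, hN, b, hb, hbI⟩ := exists_killing _ _ hkill
  have hker : ∀ x : B₀, π x = 0 ↔ x ∈ Ideal.span (Set.range fun j => mk (P.rel j)) := by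
    intro x
    obtain ⟨y, rfl⟩ := Ideal.Quotient.mk_surjective x
    rw [← hIg]
    refine ⟨fun h => Ideal.mem_map_of_mem mk (?_ : y ∈ _), fun h => ?_⟩
    · rw [← P.ker_eq]; exact h
    · rw [Ideal.mem_quotient_iff_mem (by rwa [← P.ker_eq]), ← P.ker_eq] at h
      exact h
  have hπb : π b = a ^ N := by
    have := (hker _).2 hb
    rwa [map_sub, map_pow, hπ, ha₀, sub_eq_zero] at this
  let C := Localization.Away a
  letI : Algebra B₀ C := ((algebraMap A C).comp π.toRingHom).toAlgebra
  have hmap : ∀ x : B₀, algebraMap B₀ C x = algebraMap A C (π x) := fun x => rfl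
  haveI : IsScalarTower R B₀ C := IsScalarTower.of_algebraMap_eq (R := R) (S := B₀) (A := C) fun r => by
    rw [hmap, π.commutes]; exact IsScalarTower.algebraMap_apply R A C r
  haveI : IsLocalization.Away b C := by
    refine (isLocalization_iff _ _).2 ⟨?_, ?_, ?_⟩
    · rintro ⟨_, k, rfl⟩
      simp only [hmap, map_pow, hπb]
      exact ((IsLocalization.Away.algebraMap_isUnit a).pow _).pow _
    · intro z
      obtain ⟨⟨α, ⟨_, k, rfl⟩⟩, hz⟩ := IsLocalization.surj (Submonoid.powers a) z
      obtain ⟨y, hy⟩ := P.surj α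
      refine ⟨⟨mk y * mk a₀ ^ ((N - 1) * k), ⟨b ^ k, k, rfl⟩⟩, ?_⟩
      simp only [hmap, map_mul, map_pow, hπ, hπb, hy, ha₀]
      rw [← hz, map_pow, ← pow_mul, mul_assoc, ← pow_add]
      congr 2
      obtain ⟨n, rfl⟩ := Nat.exists_eq_add_of_le hN
      simp [add_mul]
    · intro x y hxy
      rw [hmap, hmap] at hxy
      obtain ⟨⟨_, s, rfl⟩, hs⟩ := IsLocalization.exists_of_eq (M := Submonoid.powers a) hxy
      refine ⟨⟨b ^ (s + 1), s + 1, rfl⟩, ?_⟩
      have h1 : b ^ s * (x - y) ∈ Ideal.span (Set.range fun j => mk (P.rel j)) := by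
        rw [← hker, map_mul, map_pow, hπb, map_sub, ← pow_mul]
        obtain ⟨n, rfl⟩ := Nat.exists_eq_add_of_le hN
        rw [show (0 + 1 + n) * s = n * s + s by ring, pow_add, mul_assoc, mul_sub (a ^ s)]
        simp only at hs
        rw [hs, sub_self, mul_zero]
      have h2 := hbI _ h1
      rw [← mul_assoc, ← pow_succ', mul_sub, sub_eq_zero] at h2
      exact h2
  let P₀ : Algebra.PreSubmersivePresentation R B₀ (Fin P.n) (Fin P.c) :=
    Algebra.PreSubmersivePresentation.naive (v := v) (Fin.castLE P.hcn) (Fin.castLE_injective _)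
  have hjac : P₀.jacobian =
      mk (Smoothing.jacobianMinor P.rel (Fin.castLE P.hcm) (Fin.castLE P.hcn)) := by
    rw [Algebra.PreSubmersivePresentation.jacobian_eq_jacobiMatrix_det]
    have hm : P₀.jacobiMatrix = (Matrix.of fun j k : Fin P.c =>
        pderiv (Fin.castLE P.hcn k) (P.rel (Fin.castLE P.hcm j))).transpose :=
      Matrix.ext fun i j => Algebra.PreSubmersivePresentation.jacobiMatrix_naive _ _ _ _ i j
    rw [hm, Matrix.det_transpose]
    rfl
  let Q := (Algebra.PreSubmersivePresentation.localizationAway C b).comp P₀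
  refine Algebra.SubmersivePresentation.isStandardSmooth (ι := Unit ⊕ Fin P.n) (σ := Unit ⊕ Fin P.c)
    ⟨Q, ?_⟩
  rw [Algebra.PreSubmersivePresentation.comp_jacobian_eq_jacobian_smul_jacobian,
    Algebra.smul_def, IsUnit.mul_iff, hjac, Algebra.PreSubmersivePresentation.localizationAway_jacobian]
  refine ⟨?_, ?_⟩
  · rw [hmap, hπ]
    have hu : IsUnit (algebraMap A C a) := IsLocalization.Away.algebraMap_isUnit a
    rw [congrArg (algebraMap A C) ha', map_mul, IsUnit.mul_iff] at hu
    exact hu.2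
  · exact IsLocalization.map_units C (⟨b, 1, pow_one b⟩ : Submonoid.powers b)

end Groth.Agent.S2032
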