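import Groth.Statements.S2034
import Groth.Agent.TransLib.GlueLocal

set_option autoImplicit false
universe u
open Smoothing

namespace Groth.Agent.S2034

open TensorProduct in
/-- Let `R` be a Noetherian ring, `A` a finitely presented `R`-algebra, `R → A → Λ` ring maps and `𝔮 ⊆
Λ` a prime minimal over the radical of the extended singular ideal of `R → A`; let `𝔭` be the prime
of `R` under `𝔮` and suppose the localized problem `R_𝔭 → R_𝔭 ⊗_R A → Λ_𝔮 ⊇ 𝔮Λ_𝔮` can be resolved.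
If moreover `Λ_𝔮` has Krull dimension zero, then the problem `R → A → Λ ⊇ 𝔮` itself can be resolved. -/
theorem result {R A Λ Rₚ Λq : Type u} [CommRing R] [IsNoetherianRing R] [CommRing A]
    [Algebra R A] [Algebra.FinitePresentation R A] [CommRing Λ] [Algebra R Λ] (φ : A →ₐ[R] Λ)
    (𝔮 : Ideal Λ) [𝔮.IsPrime] (hmin : 𝔮 ∈ (Smoothing.singRad R φ).minimalPrimes)
    [CommRing Rₚ] [Algebra R Rₚ] [IsLocalization.AtPrime Rₚ (𝔮.comap (algebraMap R Λ))]
    [CommRing Λq] [Algebra Λ Λq] [IsLocalization.AtPrime Λq 𝔮] [Algebra R Λq] [IsScalarTower R Λ Λq]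
    [Algebra Rₚ Λq] [IsScalarTower R Rₚ Λq] (hdim : ringKrullDim Λq = 0)
    (hres : Smoothing.Resolvable Rₚ
      (Algebra.TensorProduct.lift (Algebra.ofId Rₚ Λq) ((IsScalarTower.toAlgHom R Λ Λq).comp φ)
        (fun _ _ => Commute.all _ _) : Rₚ ⊗[R] A →ₐ[Rₚ] Λq) (𝔮.map (algebraMap Λ Λq))) :
    Smoothing.Resolvable R φ 𝔮 := by
  classical
  have : IsNoetherianRing Rₚ := IsLocalization.isNoetherianRing (𝔮.comap (algebraMap R Λ)).primeCompl Rₚ inferInstance
  have : IsNoetherianRing A := Algebra.FiniteType.isNoetherianRing R A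
  obtain ⟨B, _, _, _, αB, χB, l, y, hαχ, hgen⟩ := TransLib.exists_local_model (Rₚ := Rₚ) φ 𝔮 hres
  obtain ⟨m, a, ha⟩ := Submodule.fg_iff_exists_fin_generating_family.1
    (IsNoetherian.noetherian (Smoothing.singularIdeal R A))
  have hak : ∀ k, a k ∈ Smoothing.singularIdeal R A := fun k => ha ▸ Submodule.subset_span ⟨k, rfl⟩
  have : IsLocalRing Λq := IsLocalization.AtPrime.isLocalRing Λq 𝔮
  have : Ring.KrullDimLE 0 Λq := Ring.krullDimLE_iff.2 hdim.le
  have hnil : ∀ k, IsNilpotent (algebraMap Λ Λq (φ (a k))) := fun k => by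
    rw [← mem_nilradical, nilradical_eq_sInf, Submodule.mem_sInf]
    intro P hP
    have hPp : Ideal.IsPrime P := hP
    rw [IsLocalRing.eq_maximalIdeal (@Ideal.IsPrime.isMaximal' _ _ _ P hPp),
      IsLocalization.AtPrime.to_map_mem_maximal_iff Λq 𝔮]
    exact hmin.1.2 (Ideal.le_radical (Ideal.mem_map_of_mem φ (hak k)))
  obtain ⟨C, _, _, hC, g, h, hgh, hsm, hsm'⟩ := TransLib.exists_glue φ 𝔮 (Λq := Λq) αB χB hαχ y hgen a
    (fun k => TransLib.smooth_away_of_mem_singularIdeal (hak k)) hnil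
  refine ⟨C, inferInstance, inferInstance, hC, g, h, hgh, ?_,
    fun hle => TransLib.exists_mem_of_isSmoothAt h 𝔮 hsm (Ideal.le_radical.trans hle)⟩
  unfold Smoothing.singRad
  refine Ideal.radical_le_radical_iff.2 ?_
  rw [Ideal.map_le_iff_le_comap, ← ha]
  refine Submodule.span_le.2 ?_
  rintro _ ⟨k, rfl⟩
  show φ (a k) ∈ Ideal.radical _
  rw [Ideal.radical_eq_sInf, Submodule.mem_sInf]
  rintro r ⟨hr, hrp⟩
  by_contra hk
  exact TransLib.exists_mem_of_isSmoothAt h r (hsm' r ⟨k, hk⟩) hr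

end Groth.Agent.S2034
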