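import Groth.Statements.S2040
import Groth.Agent.AdicFSLib.Main
-- import your own Groth.Agent.* helpers here

set_option autoImplicit false
universe u
open CAlg

namespace Groth.Agent.S2040

/-- For a complete Noetherian local ring `A` with residue field `k`, and a complete Noetherian local
`k`-algebra `B` which is formally smooth over `k` for the adic topology of its maximal ideal, there
is a Noetherian complete local ring `C` with a local homomorphism `A → C`, formally smooth for the
adic topology of the maximal ideal of `C`, whose special fibre `C ⊗ k` is isomorphic to `B` over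
`k`. -/
theorem result {A B : Type u} [CommRing A] [IsLocalRing A]
    [IsNoetherianRing A] [IsAdicComplete (IsLocalRing.maximalIdeal A) A] [CommRing B] [IsLocalRing B]
    [IsNoetherianRing B] [IsAdicComplete (IsLocalRing.maximalIdeal B) B]
    [Algebra (IsLocalRing.maximalIdeal A).ResidueField B]
    (hB : CAlgX.IsAdicFormallySmooth (IsLocalRing.maximalIdeal A).ResidueField B (IsLocalRing.maximalIdeal B)) :
    ∃ (C : Type u) (_ : CommRing C) (_ : IsLocalRing C) (_ : Algebra A C),
      IsNoetherianRing C ∧ IsAdicComplete (IsLocalRing.maximalIdeal C) C ∧ IsLocalHom (algebraMap A C) ∧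
        CAlgX.IsAdicFormallySmooth A C (IsLocalRing.maximalIdeal C) ∧
        Nonempty ((IsLocalRing.maximalIdeal A).Fiber C ≃ₐ[(IsLocalRing.maximalIdeal A).ResidueField] B) := by
  let k := (IsLocalRing.maximalIdeal A).ResidueField
  obtain ⟨hgeo, d, ⟨σ⟩⟩ := Groth.Agent.S4512.result hB
  let e : B ≃+* MvPowerSeries (Fin d) (IsLocalRing.ResidueField B) :=
    (AdicCompletion.ofAlgEquiv (IsLocalRing.maximalIdeal B)).toRingEquiv.trans σ
  let θ : A →+* MvPowerSeries (Fin d) (IsLocalRing.ResidueField B) :=
    e.toRingHom.comp ((algebraMap k B).comp (algebraMap A k))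
  obtain ⟨C, _, _, _, g, _, hC, hflat, hloc, hg, hgθ, hkg⟩ := AdicFSLib.exists_flat_lift θ fun a ha => by
    show e (algebraMap k B (algebraMap A k a)) = 0
    rw [Ideal.algebraMap_residueField_eq_zero.2 ha, map_zero, map_zero]
  haveI := hflat
  haveI := hloc
  let E : (IsLocalRing.maximalIdeal A).Fiber C ≃+* B :=
    ((RingHom.quotientKerEquivOfSurjective (f := (AdicFSLib.toFibre A C).toRingHom)
      (AdicFSLib.toFibre_surjective A C)).symm.trans
      (Ideal.quotEquivOfEq ((AdicFSLib.ker_toFibre A C).trans hkg.symm))).trans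
      ((RingHom.quotientKerEquivOfSurjective hg).trans e.symm)
  have hE : ∀ x : k, E (algebraMap k _ x) = algebraMap k B x := fun x => by
    obtain ⟨a, rfl⟩ := Ideal.algebraMap_residueField_surjective (IsLocalRing.maximalIdeal A) x
    rw [← IsScalarTower.algebraMap_apply A k, ← (AdicFSLib.toFibre A C).commutes a]
    simp only [E, RingEquiv.trans_apply]
    rw [show (RingHom.quotientKerEquivOfSurjective (f := (AdicFSLib.toFibre A C).toRingHom)
      (AdicFSLib.toFibre_surjective A C)).symm ((AdicFSLib.toFibre A C) (algebraMap A C a)) =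
      Ideal.Quotient.mk _ (algebraMap A C a) from (RingHom.quotientKerEquivOfSurjective _).symm_apply_eq.2 rfl]
    show e.symm (g (algebraMap A C a)) = _
    rw [← RingHom.comp_apply g, hgθ]
    exact e.symm_apply_apply _
  let eA : (IsLocalRing.maximalIdeal A).Fiber C ≃ₐ[k] B := AlgEquiv.ofRingEquiv (f := E) hE
  refine ⟨C, inferInstance, inferInstance, inferInstance, inferInstance, hC, hloc, AdicFSLib.adicFS_of_flat ?_, ⟨eA⟩⟩
  intro k' _ _ hk'
  haveI := hgeo k' hk'
  exact IsRegularRing.of_ringEquiv (R := TensorProduct k k' B)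
    (Algebra.TensorProduct.congr (AlgEquiv.refl : k' ≃ₐ[k] k') eA.symm).toRingEquiv

end Groth.Agent.S2040
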