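import Groth.Statements.S2043
import Groth.Agent.ApproxLib.EtaleLift
-- import your own Groth.Agent.* helpers here

set_option autoImplicit false
universe u
open CAlg

namespace Groth.Agent.S2043

/-- Let `I ⊆ A` be an ideal, `B` a smooth `A`-algebra and `B → A/I` an `A`-algebra map. Then there is an
étale `A`-algebra `A'` with `A/I → A'/IA'` bijective and an `A`-algebra map `B → A'` lifting the
given map. -/
theorem result {A B : Type u} [CommRing A] [CommRing B] [Algebra A B]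
    [Algebra.Smooth A B] (I : Ideal A) (σ : B →ₐ[A] A ⧸ I) :
    ∃ (A' : Type u) (_ : CommRing A') (_ : Algebra A A'), Algebra.Etale A A' ∧
      Function.Bijective (algebraMap (A ⧸ I) (A' ⧸ I.map (algebraMap A A'))) ∧
      ∃ τ : B →ₐ[A] A', ∀ b : B,
        Ideal.Quotient.mk (I.map (algebraMap A A')) (τ b) =
          algebraMap (A ⧸ I) (A' ⧸ I.map (algebraMap A A')) (σ b) := by
  have e : I = I ^ 1 := (pow_one I).symm
  let σ' : B →ₐ[A] A ⧸ I ^ 1 := (Ideal.quotientEquivAlgOfEq A e).toAlgHom.comp σ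
  obtain ⟨A', _, _, hEt, hsurj, hinj, ρ, hρ⟩ := ApproxLib.exists_etale_lift I (N := 1) one_pos σ'
  refine ⟨A', inferInstance, inferInstance, hEt, ⟨?_, ?_⟩, ρ, fun b => ?_⟩
  · rw [injective_iff_map_eq_zero]
    intro x hx
    obtain ⟨c, rfl⟩ := Ideal.Quotient.mk_surjective x
    exact Ideal.Quotient.eq_zero_iff_mem.2 (hinj c (Ideal.Quotient.eq_zero_iff_mem.1 hx))
  · intro y
    obtain ⟨y, rfl⟩ := Ideal.Quotient.mk_surjective y
    obtain ⟨c, hc⟩ := hsurj y
    exact ⟨Ideal.Quotient.mk I c, ((Ideal.Quotient.mk_eq_mk_iff_sub_mem _ _).2 hc).symm⟩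
  · obtain ⟨c, hc⟩ := Ideal.Quotient.mk_surjective (σ b)
    have h1 : ρ b - algebraMap A A' c ∈ I.map (algebraMap A A') ^ 1 := hρ b c (by
      show _ = Ideal.quotientEquivAlgOfEq A e (σ b)
      rw [← hc]
      rfl)
    rw [pow_one] at h1
    rw [← hc]
    exact (Ideal.Quotient.mk_eq_mk_iff_sub_mem _ _).2 h1

end Groth.Agent.S2043
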