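import Groth.Statements.S2044
import Groth.Agent.EtIdemLib.Basic
import Mathlib.RingTheory.TensorProduct.Finite
import Mathlib.LinearAlgebra.Matrix.ToLin
import Mathlib.LinearAlgebra.TensorProduct.Pi
import Mathlib.RingTheory.Finiteness.Projective

set_option autoImplicit false
universe u
open CAlg

namespace Groth.Agent.S2044

open TensorProduct in
theorem exists_retract {R S : Type u} [CommRing R] [CommRing S] [Algebra R S] {P : Type u} [AddCommGroup P] [Module R P]
    {N : ℕ} (i : P →ₗ[R] (Fin N → R)) (s : (Fin N → R) →ₗ[R] P) (h : s ∘ₗ i = LinearMap.id) :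
    ∃ (i' : S ⊗[R] P →ₗ[S] (Fin N → S)) (s' : (Fin N → S) →ₗ[S] S ⊗[R] P), s' ∘ₗ i' = LinearMap.id ∧
      i' ∘ₗ s' = Matrix.toLin' ((LinearMap.toMatrix' (i ∘ₗ s)).map (algebraMap R S)) := by
  classical
  let e := TensorProduct.piScalarRight R S S (Fin N)
  refine ⟨e.toLinearMap ∘ₗ i.baseChange S, s.baseChange S ∘ₗ e.symm.toLinearMap, ?_, ?_⟩
  · refine LinearMap.ext fun z => ?_
    simp only [LinearMap.comp_apply, LinearEquiv.coe_coe, LinearEquiv.symm_apply_apply]
    rw [← LinearMap.comp_apply, ← LinearMap.baseChange_comp, h, LinearMap.baseChange_id]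
  · refine LinearMap.pi_ext' fun j => LinearMap.ext_ring ?_
    have hj : e.symm (Pi.single j 1) = (1 : S) ⊗ₜ[R] (Pi.single j (1 : R)) := by
      rw [LinearEquiv.symm_apply_eq]
      funext k
      simp [e, Pi.single_apply]
    funext k
    simp only [LinearMap.comp_apply, LinearMap.single_apply, LinearEquiv.coe_coe, hj, LinearMap.baseChange_tmul,
      Matrix.toLin'_apply, Matrix.mulVec_single_one]
    simp [e, LinearMap.toMatrix'_apply, Algebra.algebraMap_eq_smul_one, Pi.single_apply, eq_comm]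

open TensorProduct in
/-- Let `I ⊆ A` be an ideal and `P` a finite projective `A/I`-module. Then there is an étale `A`-algebra
`A'` with `A/I → A'/IA'` bijective and a finite projective `A'`-module whose reduction modulo `IA'`
is the base change of `P`. -/
theorem result {A : Type u} [CommRing A] (I : Ideal A) (P : Type u)
    [AddCommGroup P] [Module (A ⧸ I) P] [Module.Finite (A ⧸ I) P] [Module.Projective (A ⧸ I) P] :
    ∃ (A' : Type u) (_ : CommRing A') (_ : Algebra A A'), Algebra.Etale A A' ∧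
      Function.Bijective (algebraMap (A ⧸ I) (A' ⧸ I.map (algebraMap A A'))) ∧
      ∃ (P' : Type u) (_ : AddCommGroup P') (_ : Module A' P'), Module.Finite A' P' ∧
        Module.Projective A' P' ∧
        Nonempty (((A' ⧸ I.map (algebraMap A A')) ⊗[A'] P') ≃ₗ[A' ⧸ I.map (algebraMap A A')]
          ((A' ⧸ I.map (algebraMap A A')) ⊗[A ⧸ I] P)) := by
  classical
  obtain ⟨N, π, g, -, -, hπg⟩ := Module.Finite.exists_comp_eq_id_of_projective (A ⧸ I) P
  let Mb := LinearMap.toMatrix' (g ∘ₗ π)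
  choose M hM using fun j k => Ideal.Quotient.mk_surjective (Mb j k)
  let mkI : Matrix (Fin N) (Fin N) A →+* Matrix (Fin N) (Fin N) (A ⧸ I) := (Ideal.Quotient.mk I).mapMatrix
  have hMb : mkI (Matrix.of M) = Mb := Matrix.ext hM
  have hMb2 : Mb * Mb = Mb := by
    rw [← LinearMap.toMatrix'_comp]
    congr 1
    rw [LinearMap.comp_assoc, ← LinearMap.comp_assoc π g π, hπg, LinearMap.id_comp]
  let ε : Matrix (Fin N) (Fin N) A := Matrix.of M ^ 2 - Matrix.of M
  have hε : mkI ε = 0 := by rw [map_sub, map_pow, hMb, pow_two, hMb2, sub_self]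
  have hχI : (ε.charpoly * Polynomial.X).map (Ideal.Quotient.mk I) = Polynomial.X ^ (N + 1) := by
    rw [Polynomial.map_mul, Polynomial.map_X, ← Matrix.charpoly_map, show ε.map (Ideal.Quotient.mk I) = 0 from hε,
      Matrix.charpoly_zero, Fintype.card_fin, pow_succ]
  obtain ⟨A', _, _, _, hb, w, hw, hw'⟩ := EtIdemLib.exists_idem_poly I (ε.charpoly * Polynomial.X)
    (ε.charpoly_monic.mul Polynomial.monic_X) (N + 1) N.succ_pos hχI
  let up : Matrix (Fin N) (Fin N) A →ₐ[A] Matrix (Fin N) (Fin N) A' := (Algebra.ofId A A').mapMatrix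
  let E := Polynomial.aeval (up (Matrix.of M)) w
  have hE : E * E = E := by
    obtain ⟨k, hk⟩ := hw
    have h0 : Polynomial.aeval (up (Matrix.of M))
        (((ε.charpoly * Polynomial.X).comp (Polynomial.X ^ 2 - Polynomial.X)).map (algebraMap A A')) = 0 := by
      rw [Polynomial.aeval_map_algebraMap, Polynomial.aeval_algHom_apply, Polynomial.aeval_comp, map_sub, map_pow,
        Polynomial.aeval_X, map_mul, Matrix.aeval_self_charpoly, zero_mul, map_zero]
    have h1 := congrArg (Polynomial.aeval (up (Matrix.of M))) hk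
    rw [map_sub, map_pow, map_mul, h0, zero_mul, sub_eq_zero, pow_two] at h1
    exact h1
  let J := I.map (algebraMap A A')
  let mkJ : Matrix (Fin N) (Fin N) A' →+* Matrix (Fin N) (Fin N) (A' ⧸ J) := (Ideal.Quotient.mk J).mapMatrix
  have hM' : mkJ (up (Matrix.of M)) = Mb.map (algebraMap (A ⧸ I) (A' ⧸ J)) := Matrix.ext fun j k => by
    show Ideal.Quotient.mk J (algebraMap A A' (M j k)) = algebraMap (A ⧸ I) (A' ⧸ J) (Mb j k)
    rw [← hM]
    rfl
  have hEmod : mkJ E = Mb.map (algebraMap (A ⧸ I) (A' ⧸ J)) := by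
    obtain ⟨k, hk⟩ := hw'
    rw [sub_eq_iff_eq_add] at hk
    have h2 : mkJ E = Polynomial.aeval (mkJ (up (Matrix.of M))) (w.map (Ideal.Quotient.mk J)) :=
      Polynomial.map_aeval_eq_aeval_map (φ := Ideal.Quotient.mk J) (ψ := mkJ) (RingHom.ext fun a => Matrix.ext fun j l => by
        simp only [RingHom.comp_apply, mkJ, RingHom.mapMatrix_apply, Matrix.map_apply, Matrix.algebraMap_matrix_apply]
        split <;> simp) w _
    have h3 : Mb.map (algebraMap (A ⧸ I) (A' ⧸ J)) ^ 2 = Mb.map (algebraMap (A ⧸ I) (A' ⧸ J)) := by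
      rw [pow_two, ← Matrix.map_mul, hMb2]
    rw [h2, hM', hk, map_add, map_mul, map_sub, map_pow, Polynomial.aeval_X, h3, sub_self, zero_mul, zero_add]
  let P' := LinearMap.range (Matrix.toLin' E)
  let i₁ : P' →ₗ[A'] (Fin N → A') := P'.subtype
  let s₁ := (Matrix.toLin' E).rangeRestrict
  have h1 : s₁ ∘ₗ i₁ = LinearMap.id := LinearMap.ext fun x => by
    obtain ⟨y, hy⟩ := x.2
    refine Subtype.ext ?_
    show Matrix.toLin' E x = x
    rw [← hy, ← LinearMap.comp_apply, ← Matrix.toLin'_mul, hE]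
  have hproj : Module.Projective A' P' := Module.Projective.of_split i₁ s₁ h1
  have hfin : Module.Finite A' P' := Module.Finite.of_surjective s₁ (LinearMap.surjective_rangeRestrict _)
  refine ⟨A', inferInstance, inferInstance, inferInstance, hb, P', inferInstance, inferInstance, hfin, hproj, ?_⟩
  obtain ⟨ia, sa, ha, ha'⟩ := exists_retract (S := A' ⧸ J) i₁ s₁ h1
  obtain ⟨ib, sb, hb1, hb'⟩ := exists_retract (S := A' ⧸ J) g π hπg
  have hE2 : i₁ ∘ₗ s₁ = Matrix.toLin' E := rfl
  rw [hE2, LinearMap.toMatrix'_toLin', show E.map (algebraMap A' (A' ⧸ J)) = mkJ E from rfl, hEmod] at ha'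
  have key : ia ∘ₗ sa = ib ∘ₗ sb := ha'.trans hb'.symm
  refine ⟨LinearEquiv.ofLinear (sb ∘ₗ ia) (sa ∘ₗ ib) ?_ ?_⟩
  · rw [LinearMap.comp_assoc, ← LinearMap.comp_assoc ib sa ia, key, LinearMap.comp_assoc, hb1, LinearMap.comp_id, hb1]
  · rw [LinearMap.comp_assoc, ← LinearMap.comp_assoc ia sb ib, ← key, LinearMap.comp_assoc, ha, LinearMap.comp_id, ha]

end Groth.Agent.S2044
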