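import Groth.Statements.S2048
import Groth.Agent.DerivFTLib.Basic
import Groth.Agent.S0581
import Groth.Agent.NormalLib.CompleteLocal
import Groth.Agent.CplExcLib.J0

set_option autoImplicit false
set_option linter.style.haveILetI false
universe u
open CAlg

namespace Groth.Agent.S2048

/-- Let `p` be a prime and `B` a domain of characteristic `p`, finitely generated as an algebra over
some complete Noetherian local ring. If `f ∈ B` has no `p`-th root in the fraction field of `B`,
then some derivation `D : B → B` has `D(f) ≠ 0`. -/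
theorem result {R B : Type u} [CommRing R] [IsLocalRing R]
    [IsNoetherianRing R] [IsAdicComplete (IsLocalRing.maximalIdeal R) R] [CommRing B] [IsDomain B]
    [Algebra R B] [Algebra.FiniteType R B] (p : ℕ) [Fact p.Prime] [CharP B p] (f : B)
    (hf : ∀ x : FractionRing B, x ^ p ≠ algebraMap B (FractionRing B) f) :
    ∃ D : Derivation ℤ B B, D f ≠ 0 := by
  classical
  let I := RingHom.ker (algebraMap R B)
  haveI : I.IsPrime := RingHom.ker_isPrime _
  haveI : IsLocalRing (R ⧸ I) := IsLocalRing.of_surjective' _ Ideal.Quotient.mk_surjective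
  haveI : IsAdicComplete (IsLocalRing.maximalIdeal (R ⧸ I)) (R ⧸ I) := NormalLib.isAdicComplete_quotient_local I
  obtain ⟨Λ, _, n, g, hΛ, hg, hfin, -⟩ := Groth.Agent.S0581.result (R ⧸ I)
  let φ : R ⧸ I →+* B := Ideal.Quotient.lift I (algebraMap R B) fun _ ha => ha
  have hφ : Function.Injective φ := RingHom.kerLift_injective _
  have hφft : φ.FiniteType :=
    RingHom.FiniteType.of_comp_finiteType (f := Ideal.Quotient.mk I)
      (by show (algebraMap R B).FiniteType; exact RingHom.finiteType_algebraMap.2 ‹_›)
  letI : Algebra (MvPowerSeries (Fin n) Λ) B := (φ.comp g).toAlgebra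
  haveI : Algebra.FiniteType (MvPowerSeries (Fin n) Λ) B := hφft.comp hfin.finiteType
  haveI : CharP (MvPowerSeries (Fin n) Λ) p := (RingHom.charP_iff (φ.comp g) (hφ.comp hg) p).mpr inferInstance
  haveI hΛp : CharP Λ p := (RingHom.charP_iff _ (MvPowerSeries.C_injective (σ := Fin n) (R := Λ)) p).mpr inferInstance
  rcases hΛ with hF | hC
  · letI := hF.toField
    exact DerivFTLib.exists_derivation_finiteType p Λ n B (hφ.comp hg) f hf
  · have hC' := hC
    obtain ⟨_, _, -, -⟩ := hC'
    obtain ⟨q, -, -, -, hdom, hchar, -⟩ := CohenLib.cohen_props hC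
    exact absurd (CharP.eq Λ (CharP.ofCharZero Λ) hΛp).symm (Fact.out : p.Prime).ne_zero

end Groth.Agent.S2048
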