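import Groth.Statements.S2050
import Mathlib
import Groth.Agent.FlatInjLib.DenseFP
-- import your own Groth.Agent.* helpers here

set_option autoImplicit false
universe u
open CAlg

namespace Groth.Agent.S2050

/-- Let `S = R[x_1, …, x_n]` and `M` a finite `S`-module, flat over `R`, such that for every prime `𝔭`
of `R` the localization `M_𝔭` is finitely presented over `S_𝔭`. If `R` embeds into the product of
finitely many of its local rings, then `M` is finitely presented over `S`. -/
theorem result {R : Type u} [CommRing R] (n : ℕ)
    {M : Type u} [AddCommGroup M] [Module (MvPolynomial (Fin n) R) M] [Module R M]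
    [IsScalarTower R (MvPolynomial (Fin n) R) M] [Module.Finite (MvPolynomial (Fin n) R) M] [Module.Flat R M]
    (s : Finset (PrimeSpectrum R))
    (hs : Function.Injective fun r : R => fun p : s => algebraMap R (Localization.AtPrime p.1.asIdeal) r)
    (hloc : ∀ (p : Ideal R) [p.IsPrime],
      Module.FinitePresentation
        (Localization (Algebra.algebraMapSubmonoid (MvPolynomial (Fin n) R) p.primeCompl))
        (LocalizedModule (Algebra.algebraMapSubmonoid (MvPolynomial (Fin n) R) p.primeCompl) M)) :
    Module.FinitePresentation (MvPolynomial (Fin n) R) M := by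
  refine FlatInjLib.finitePresentation_of_dense (R := R) (fun p : s => p.1.asIdeal.primeCompl) (fun x hx => ?_) fun p => hloc p.1.asIdeal
  apply hs
  funext p
  obtain ⟨t, ht, htx⟩ := hx p
  show algebraMap R _ x = algebraMap R _ 0
  rw [map_zero]
  exact (IsLocalization.map_eq_zero_iff p.1.asIdeal.primeCompl _ x).2 ⟨⟨t, ht⟩, htx⟩

end Groth.Agent.S2050
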