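import Groth.Statements.S2054
import Groth.Agent.ReflexLib.Normal
import Groth.Agent.ReflexLib.Ops

set_option autoImplicit false
set_option linter.style.haveILetI false
universe u
open CAlg

namespace Groth.Agent.S2054

/-- Let `R` be a Noetherian normal domain and `M` a finite `R`-module. Then `M` is reflexive (the map to
its double dual is bijective) if and only if `M` is torsion free and satisfies Serre's condition
`(S_2)`. -/
theorem result {R M : Type u} [CommRing R] [IsDomain R] [IsNoetherianRing R]
    [IsIntegrallyClosed R] [AddCommGroup M] [Module R M] [Module.Finite R M] :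
    Module.IsReflexive R M ↔ NoZeroSMulDivisors R M ∧ LocCoh.HasSk 2 R M := by
  refine ⟨fun _ => ⟨?_, (DepthTwoLib.hasSk_reflexive M).2 ReflexLib.hasSk_two_self⟩, fun ⟨_, h⟩ => ReflexLib.isReflexive_of_hasSk h⟩
  exact ⟨fun {c x} h => by
    by_cases hc : c = 0
    · exact Or.inl hc
    · exact Or.inr ((smul_eq_zero.1 h).resolve_left hc)⟩

end Groth.Agent.S2054
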