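import Groth.Statements.S2056
import Groth.Agent.ProjLib.ML

set_option autoImplicit false
universe u
open CAlg

namespace Groth.Agent.S2056

/-- A linear map of `R`-modules is universally injective (injective after tensoring with any module) if
and only if it is injective after tensoring with every finitely presented module. -/
theorem result {R M N : Type u} [CommRing R] [AddCommGroup M]
    [Module R M] [AddCommGroup N] [Module R N] (f : M →ₗ[R] N) :
    CAlgX.UniversallyInjective R f ↔
      ∀ (Q : Type u) [AddCommGroup Q] [Module R Q], Module.FinitePresentation R Q →
        Function.Injective (f.rTensor Q) := by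
  refine ⟨fun h Q _ _ _ => h Q, fun h Q _ _ => ?_⟩
  have hd : ProjLib.Dom f (LinearMap.id : M →ₗ[R] M) :=
    ProjLib.dom_of_forall_fp fun Q _ _ hQ x hx => by
      rw [h Q hQ (hx.trans (map_zero _).symm), map_zero]
  rw [← LinearMap.ker_eq_bot, LinearMap.ker_eq_bot']
  intro x hx
  simpa using hd Q x hx

end Groth.Agent.S2056
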