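import Groth.Statements.S2057
import Groth.Agent.ProjLib.ML

set_option autoImplicit false
universe u
open CAlg

namespace Groth.Agent.S2057
open TensorProduct

/-- An injective linear map `f : M₁ → M₂` is universally injective if and only if: whenever elements
`x_i` of `M₁` satisfy `f(x_i) = Σ_j a_{ij} y_j` for some `y_j ∈ M₂` and scalars `a_{ij}`, there are
`z_j ∈ M₁` with `x_i = Σ_j a_{ij} z_j`. -/
theorem result {R M₁ M₂ : Type u} [CommRing R] [AddCommGroup M₁]
    [Module R M₁] [AddCommGroup M₂] [Module R M₂] (f : M₁ →ₗ[R] M₂) (hf : Function.Injective f) :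
    CAlgX.UniversallyInjective R f ↔
      ∀ (n m : ℕ) (x : Fin n → M₁) (y : Fin m → M₂) (a : Fin n → Fin m → R),
        (∀ i, f (x i) = ∑ j, a i j • y j) → ∃ z : Fin m → M₁, ∀ i, x i = ∑ j, a i j • z j := by
  classical
  constructor
  · intro h n m x y a hxy
    refine ProjLib.exists_of_sum_tmul_mkQ_eq_zero a x (h _ ?_)
    rw [map_zero, map_sum]
    simp only [LinearMap.rTensor_tmul]
    exact ProjLib.sum_tmul_mkQ_eq_zero a _ y hxy
  · intro h
    refine fun Q _ _ => ?_
    have hd : ProjLib.Dom f (LinearMap.id : M₁ →ₗ[R] M₁) :=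
      ProjLib.dom_of_forall_fp fun Q _ _ hQ w hw => ?_
    · rw [← LinearMap.ker_eq_bot, LinearMap.ker_eq_bot']
      intro x hx
      simpa using hd Q x hx
    obtain ⟨n, π, hπ⟩ := Module.Finite.exists_fin' R Q
    obtain ⟨m, r, hr⟩ := Submodule.fg_iff_exists_fin_generating_family.1
      (Module.FinitePresentation.fg_ker π hπ)
    obtain ⟨v, rfl⟩ := LinearMap.lTensor_surjective M₁ hπ w
    obtain ⟨x, rfl⟩ : ∃ x : Fin n → M₁, ∑ i, x i ⊗ₜ[R] Pi.single i (1 : R) = v := by
      refine ⟨TensorProduct.piScalarRight R R M₁ (Fin n) v,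
        (TensorProduct.piScalarRight R R M₁ (Fin n)).injective ?_⟩
      funext k
      simp [map_sum, Pi.single_apply]
    let K : Submodule R (Fin n → R) := Submodule.span R (Set.range r)
    let e : ((Fin n → R) ⧸ K) ≃ₗ[R] Q :=
      (Submodule.quotEquivOfEq _ _ hr).trans (π.quotKerEquivOfSurjective hπ)
    have he : ∀ v, e (Submodule.Quotient.mk v) = π v := fun v => rfl
    rw [LinearMap.rTensor_id_apply]
    let a : Fin n → Fin m → R := fun i j => r j i
    have hzero : ∑ i, f (x i) ⊗ₜ[R] K.mkQ (Pi.single i (1 : R)) = 0 := by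
      apply (LinearEquiv.lTensor M₂ e).injective
      rw [map_zero, map_sum]
      simpa [map_sum, he] using hw
    obtain ⟨t, ht⟩ := ProjLib.exists_of_sum_tmul_mkQ_eq_zero a _ hzero
    obtain ⟨z, hz⟩ := h n m x t a ht
    have hz0 := ProjLib.sum_tmul_mkQ_eq_zero a x z hz
    have := congrArg (LinearEquiv.lTensor M₁ e) hz0
    rw [map_zero, map_sum] at this
    rw [← this, map_sum]
    exact Finset.sum_congr rfl fun i _ => by rw [LinearMap.lTensor_tmul, LinearEquiv.lTensor_tmul]; rfl

end Groth.Agent.S2057
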