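import Groth.Statements.S2058
import Groth.Agent.CommAlgDim.Depth
import Groth.Agent.CommAlgDim.Regular
import Mathlib.RingTheory.Localization.Away.Basic
import Mathlib.LinearAlgebra.Charpoly.Basic

set_option autoImplicit false
set_option linter.style.haveILetI false
universe u
open CAlg

namespace Groth.Agent.S2058

/-- Let R be a Noetherian local ring which is not Artinian, is not a regular local ring of dimension
one, and has depth at most one. Then there is a finite ring map R → R' with R' ≠ 0, not bijective,
whose kernel and cokernel are killed by a power of the maximal ideal of R, such that the maximal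
ideal of R is not an associated prime of the R-module R'. (This says that the four cases for a
Noetherian local ring — Artinian, regular of dimension one, depth at least two, or admitting such a
map — cover everything; that they are mutually exclusive is not asserted.) -/
theorem result {R : Type u} [CommRing R] [IsLocalRing R] [IsNoetherianRing R]
    (h1 : ¬ IsArtinianRing R) (h2 : ¬ (IsRegularLocalRing R ∧ ringKrullDim R = 1))
    (h3 : LocCoh.depth R R ≤ 1) :
    ∃ (R' : Type u) (_ : CommRing R') (_ : Algebra R R'), Nontrivial R' ∧ Module.Finite R R' ∧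
      ¬ Function.Bijective (algebraMap R R') ∧
      (∃ n : ℕ, (∀ x : R, algebraMap R R' x = 0 → ∀ a ∈ IsLocalRing.maximalIdeal R ^ n, a * x = 0) ∧
        (∀ y : R', ∀ a ∈ IsLocalRing.maximalIdeal R ^ n, a • y ∈ Set.range (algebraMap R R'))) ∧
      IsLocalRing.maximalIdeal R ∉ associatedPrimes R R' := by
  classical
  let m := IsLocalRing.maximalIdeal R
  have hdim : (1 : WithBot ℕ∞) ≤ ringKrullDim R := by
    by_contra h
    have aux : ∀ d : WithBot ℕ∞, ¬ 1 ≤ d → d ≤ 0 := by
      intro d
      induction d using WithBot.recBotCoe with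
      | bot => exact fun _ => bot_le
      | coe e =>
        intro h
        norm_cast at h ⊢
        exact le_of_eq (ENat.lt_one_iff_eq_zero.1 (not_le.1 h))
    exact h1 (isArtinianRing_iff_krullDimLE_zero.2 (Ring.krullDimLE_iff.2 (aux _ h)))
  by_cases hass : m ∈ associatedPrimes R R
  · -- quotient by the torsion
    let J : ℕ →o Ideal R :=
      ⟨fun n => (⊥ : Submodule R R).colon ((m ^ n : Ideal R) : Set R), fun a b hab =>
        Submodule.colon_mono le_rfl (Ideal.pow_le_pow_right hab)⟩
    obtain ⟨n, hn⟩ := monotone_stabilizes_iff_noetherian.2 inferInstance J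
    have hmem : ∀ k x, x ∈ J k ↔ ∀ a ∈ m ^ k, x * a = 0 := fun k x => by
      show x ∈ (⊥ : Submodule R R).colon _ ↔ _
      simp [Submodule.mem_colon, Submodule.mem_annihilator]
    have hnt : Nontrivial (R ⧸ J n) := Ideal.Quotient.nontrivial_iff.2 fun h => h1 (by
      rw [isArtinianRing_iff_isNilpotent_maximalIdeal]
      exact ⟨n, le_bot_iff.1 fun a ha => by
        have := (hmem n 1).1 (h ▸ Submodule.mem_top) a ha
        rwa [one_mul] at this⟩)
    refine ⟨R ⧸ J n, inferInstance, inferInstance, hnt, inferInstance, fun hb => ?_, ⟨n, fun x hx a ha => ?_,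
      fun y a ha => Ideal.Quotient.mk_surjective _⟩, fun h => ?_⟩
    · obtain ⟨hp, x, hx⟩ := (isAssociatedPrime_iff (R := R)).1 hass
      have hxJ : x ∈ J n := by
        rw [hn (n + 1) n.le_succ, hmem]
        intro a ha
        have ha' : a ∈ m := Ideal.pow_le_self n.succ_ne_zero ha
        rw [hx, Submodule.mem_colon_singleton, Submodule.mem_bot, smul_eq_mul] at ha'
        rwa [mul_comm]
      have hx0 : x = 0 := hb.1 (((Ideal.Quotient.eq_zero_iff_mem).2 hxJ).trans (map_zero _).symm)
      refine hp.ne_top ((Ideal.eq_top_iff_one _).2 ?_)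
      rw [hx, Submodule.mem_colon_singleton, Submodule.mem_bot, hx0, smul_zero]
    · rw [mul_comm]
      exact (hmem n x).1 (Ideal.Quotient.eq_zero_iff_mem.1 hx) a ha
    · obtain ⟨hp, z, hz⟩ := (isAssociatedPrime_iff (R := R)).1 h
      obtain ⟨x, rfl⟩ := Ideal.Quotient.mk_surjective z
      refine hp.ne_top ((Ideal.eq_top_iff_one _).2 ?_)
      rw [hz, Submodule.mem_colon_singleton, Submodule.mem_bot, one_smul, Ideal.Quotient.eq_zero_iff_mem,
        hn (n + 1) n.le_succ, hmem]
      intro a ha
      rw [pow_succ'] at ha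
      refine Submodule.mul_induction_on ha (fun b hb c hc => ?_) (fun a b ha hb => ?_)
      · skip
        have hb' : b • Ideal.Quotient.mk (J n) x = 0 := by
          have hb2 : b ∈ (⊥ : Submodule R (R ⧸ J n)).colon {Ideal.Quotient.mk (J n) x} := hz ▸ hb
          rw [Submodule.mem_colon_singleton, Submodule.mem_bot] at hb2
          exact hb2
        rw [Algebra.smul_def, Ideal.Quotient.algebraMap_eq, ← map_mul, Ideal.Quotient.eq_zero_iff_mem] at hb'
        rw [← mul_assoc, mul_comm x b]
        exact (hmem n _).1 hb' c hc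
      · rw [mul_add, ha, hb, add_zero]
  -- depth one
  obtain ⟨x, hxm, hxreg⟩ : ∃ x ∈ m, IsSMulRegular R x := by
    have := CommAlgDim.exists_isSMulRegular_mem (R := R) (M := R) (I := m) fun p hp hle =>
      hass (by rw [show m = p from (IsLocalRing.maximalIdeal.isMaximal R).eq_of_le hp.1.ne_top hle]; exact hp)
    obtain ⟨x, hx, hx'⟩ := this
    exact ⟨x, hx, hx'⟩
  have hx0 : x ∈ nonZeroDivisors R := mem_nonZeroDivisors_iff_right.2 fun z hz => hxreg (by
    simpa [smul_eq_mul, mul_comm] using hz)
  let I : Ideal R := Ideal.span {x}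
  have hIne : I ≠ ⊤ := fun h => hxm (Ideal.span_singleton_eq_top.1 h)
  haveI : Nontrivial (R ⧸ I) := Ideal.Quotient.nontrivial_iff.2 hIne
  have hassq : m ∈ associatedPrimes R (R ⧸ I) := by
    by_contra hc
    obtain ⟨y, hym, hyreg⟩ := CommAlgDim.exists_isSMulRegular_mem (R := R) (M := R ⧸ I) (I := m) fun p hp hle =>
      hc (by rw [show m = p from (IsLocalRing.maximalIdeal.isMaximal R).eq_of_le hp.1.ne_top hle]; exact hp)
    have hw : RingTheory.Sequence.IsWeaklyRegular R [x, y] := by
      rw [RingTheory.Sequence.isWeaklyRegular_cons_iff]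
      refine ⟨hxreg, ?_⟩
      rw [RingTheory.Sequence.isWeaklyRegular_cons_iff]
      refine ⟨?_, RingTheory.Sequence.IsWeaklyRegular.nil _ _⟩
      exact ((Submodule.quotEquivOfEq _ I (by simp [I, ← Submodule.ideal_span_singleton_smul])).isSMulRegular_congr y).2 hyreg
    have hle : (2 : ℕ∞) ≤ LocCoh.depth R R := by
      unfold LocCoh.depth LocCoh.idealDepth
      split_ifs
      · exact le_top
      · refine le_iSup₂_of_le [x, y] ⟨hw, ?_⟩ le_rfl
        intro r hr
        simp only [List.mem_cons, List.not_mem_nil, or_false] at hr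
        rcases hr with rfl | rfl
        exacts [hxm, hym]
    exact absurd (hle.trans h3) (by decide)
  obtain ⟨hmp, yb, hyb⟩ := (isAssociatedPrime_iff (R := R)).1 hassq
  obtain ⟨y, rfl⟩ := Ideal.Quotient.mk_surjective yb
  have hy : y ∉ I := fun h => hmp.ne_top ((Ideal.eq_top_iff_one _).2 (by
    rw [hyb, Submodule.mem_colon_singleton, Submodule.mem_bot, one_smul, Ideal.Quotient.eq_zero_iff_mem.2 h]))
  have hyz : ∀ z ∈ m, ∃ w, x * w = y * z := fun z hz => by
    have h : z • Ideal.Quotient.mk I y = 0 := by
      have hz' : z ∈ (⊥ : Submodule R (R ⧸ I)).colon {Ideal.Quotient.mk I y} := hyb ▸ hz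
      rwa [Submodule.mem_colon_singleton, Submodule.mem_bot] at hz'
    rw [Algebra.smul_def, Ideal.Quotient.algebraMap_eq, ← map_mul, Ideal.Quotient.eq_zero_iff_mem] at h
    obtain ⟨w, hw⟩ := Ideal.mem_span_singleton'.1 h
    exact ⟨w, by rw [mul_comm, hw, mul_comm]⟩
  have hwm : ∀ z ∈ m, ∀ w, x * w = y * z → w ∈ m := by
    intro a ha u hu
    by_contra hum
    obtain ⟨v, rfl⟩ : IsUnit u := by
      by_contra hu'
      exact hum hu'
    have hmeq : m = Ideal.span {a} := by
      refine le_antisymm (fun b hb => ?_) ((Ideal.span_singleton_le_iff_mem _).2 ha)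
      obtain ⟨c, hc⟩ := hyz b hb
      refine Ideal.mem_span_singleton'.2 ⟨c * ↑v⁻¹, ?_⟩
      have h : x * (a * c) = x * (↑v * b) := by linear_combination a * hc - b * hu
      rw [mul_assoc, mul_comm (↑v⁻¹ : R), ← mul_assoc, mul_comm c, hxreg h, mul_comm (↑v : R), mul_assoc,
        Units.mul_inv, mul_one]
    have hsp : (IsLocalRing.maximalIdeal R).spanFinrank ≤ 1 := by
      rw [show IsLocalRing.maximalIdeal R = Ideal.span {a} from hmeq]
      exact (Submodule.spanFinrank_span_le_ncard_of_finite (Set.finite_singleton a)).trans (Set.ncard_singleton a).le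
    have hle : ringKrullDim R ≤ 1 := (ringKrullDim_le_spanFinrank_maximalIdeal R).trans (by exact_mod_cast hsp)
    have heq : ringKrullDim R = 1 := le_antisymm hle hdim
    refine h2 ⟨IsRegularLocalRing.of_spanFinrank_maximalIdeal_le R ?_, heq⟩
    rw [heq]
    exact_mod_cast hsp
  let L := Localization.Away x
  let ι := algebraMap R L
  have hι : Function.Injective ι := IsLocalization.injective L (Submonoid.powers_le.2 hx0)
  have hxu : IsUnit (ι x) := IsLocalization.Away.algebraMap_isUnit x
  let t : L := ι y * ↑hxu.unit⁻¹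
  have ht : ι x * t = ι y := by
    rw [mul_left_comm, IsUnit.mul_val_inv, mul_one]
  choose w hw using fun z : m => hyz z.1 z.2
  let φ : m →ₗ[R] m :=
    { toFun := fun z => ⟨w z, hwm z.1 z.2 _ (hw z)⟩
      map_add' := fun a b => Subtype.ext (hxreg (by
        show x • w (a + b) = x • (w a + w b)
        simp only [smul_eq_mul, mul_add, hw]
        push_cast
        ring))
      map_smul' := fun r a => Subtype.ext (hxreg (by
        show x • w (r • a) = x • (r * w a)
        simp only [smul_eq_mul, hw, Submodule.coe_smul, mul_left_comm x r]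
        ring)) }
  have hφ : ∀ z, ι (φ z).1 = t * ι z.1 := fun z => by
    refine hxu.mul_left_cancel ?_
    rw [← mul_assoc, ht, ← map_mul, ← map_mul]
    exact congrArg ι (hw z)
  have htint : IsIntegral R t := by
    obtain ⟨P, hP, hP0⟩ := LinearMap.exists_monic_and_aeval_eq_zero R φ
    refine ⟨P, hP, ?_⟩
    have key : ∀ (Q : Polynomial R) (z : m), ι ((Polynomial.aeval φ Q z).1) = Polynomial.aeval t Q * ι z.1 := by
      intro Q
      induction Q using Polynomial.induction_on' with
      | add P Q hP hQ =>
        intro z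
        simp only [map_add, LinearMap.add_apply, Submodule.coe_add, hP, hQ, add_mul]
      | monomial n r =>
        induction n with
        | zero =>
          intro z
          simp [Algebra.smul_def, ι]
        | succ n ih =>
          intro z
          rw [Polynomial.aeval_monomial, pow_succ, ← mul_assoc, Module.End.mul_apply, ← Polynomial.aeval_monomial,
            ih, hφ, Polynomial.aeval_monomial, Polynomial.aeval_monomial]
          ring
    have h := key P ⟨x, hxm⟩
    rw [hP0] at h
    simp only [LinearMap.zero_apply, ZeroMemClass.coe_zero, map_zero] at h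
    rw [← Polynomial.aeval_def]
    exact hxu.mul_left_eq_zero.1 h.symm
  let R' := Algebra.adjoin R ({t} : Set L)
  haveI : Module.Finite R R' := ⟨(Submodule.fg_top _).2 (IsIntegral.fg_adjoin_singleton (x := t) htint)⟩
  haveI : Nontrivial L := hι.nontrivial
  refine ⟨R', inferInstance, inferInstance, inferInstance, inferInstance, fun hb => ?_, ⟨1, fun z hz a _ => ?_, ?_⟩,
    fun h => ?_⟩
  · obtain ⟨r, hr⟩ := hb.2 ⟨t, Algebra.subset_adjoin rfl⟩
    have hr' : ι r = t := congrArg Subtype.val hr
    refine hy (Ideal.mem_span_singleton'.2 ⟨r, hι ?_⟩)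
    rw [map_mul, hr', mul_comm, ht]
  · rw [show z = 0 from hι ((congrArg Subtype.val hz).trans (map_zero ι).symm), mul_zero]
  · have key : ∀ u ∈ R', ∀ a ∈ m, ∃ b ∈ m, ι b = ι a * u := by
      intro u hu
      induction hu using Algebra.adjoin_induction with
      | mem u hu =>
        obtain rfl := hu
        exact fun a ha => ⟨_, (φ ⟨a, ha⟩).2, (hφ ⟨a, ha⟩).trans (mul_comm _ _)⟩
      | algebraMap r => exact fun a ha => ⟨a * r, Ideal.mul_mem_right _ _ ha, map_mul ι a r⟩
      | add u v _ _ hu hv =>
        intro a ha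
        obtain ⟨b, hb, hb'⟩ := hu a ha
        obtain ⟨c, hc, hc'⟩ := hv a ha
        exact ⟨b + c, add_mem hb hc, by rw [map_add, hb', hc', mul_add]⟩
      | mul u v _ _ hu hv =>
        intro a ha
        obtain ⟨b, hb, hb'⟩ := hu a ha
        obtain ⟨c, hc, hc'⟩ := hv b hb
        exact ⟨c, hc, by rw [hc', hb', mul_assoc]⟩
    intro u a ha
    rw [pow_one] at ha
    obtain ⟨b, -, hb⟩ := key u.1 u.2 a ha
    exact ⟨b, Subtype.ext (hb.trans (Algebra.smul_def a u.1).symm)⟩
  · obtain ⟨hp, u, hu⟩ := (isAssociatedPrime_iff (R := R)).1 h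
    have hxu' : x • u = 0 := by
      have hx' : x ∈ (⊥ : Submodule R R').colon {u} := hu ▸ hxm
      rwa [Submodule.mem_colon_singleton, Submodule.mem_bot] at hx'
    have hu0 : u = 0 := Subtype.ext (hxu.mul_right_eq_zero.1 ((Algebra.smul_def x u.1).symm.trans (congrArg Subtype.val hxu')))
    refine hp.ne_top ((Ideal.eq_top_iff_one _).2 ?_)
    rw [hu, Submodule.mem_colon_singleton, Submodule.mem_bot, hu0, smul_zero]

end Groth.Agent.S2058
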