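import Groth.Statements.S2059
import Mathlib.RingTheory.Jacobson.Ring
import Mathlib.RingTheory.Adjoin.Basic
import Mathlib.SetTheory.Cardinal.Free
import Mathlib.LinearAlgebra.Dimension.Basic
import Mathlib.RingTheory.Algebraic.Integral
import Mathlib.RingTheory.Localization.Away.Basic
import Mathlib.RingTheory.FiniteType
import Mathlib.SetTheory.Cardinal.Arithmetic
-- import your own Groth.Agent.* helpers here

set_option autoImplicit false
universe u
open CAlg

namespace Groth.Agent.S2059

/-- Let `k` be a field and `S` a `k`-algebra generated by a set of cardinality smaller than that of `k`.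
Then for every maximal ideal `𝔪` of `S` the residue field `S/𝔪` is algebraic over `k`, and `S` is a
Jacobson ring. -/
theorem result {k S : Type u} [Field k] [CommRing S] [Algebra k S]
    (s : Set S) (hs : Algebra.adjoin k s = ⊤) (hcard : Cardinal.mk s < Cardinal.mk k) :
    (∀ (m : Ideal S) [m.IsMaximal], Algebra.IsAlgebraic k (S ⧸ m)) ∧ IsJacobsonRing S := by
  classical
  have halg : ∀ (T : Type u) [CommRing T] [Algebra k T] (t : Set T), Algebra.adjoin k t = ⊤ → Cardinal.aleph0 ≤ Cardinal.mk k →
      Cardinal.mk t < Cardinal.mk k → Cardinal.aleph0 < Cardinal.mk k → ∀ (m : Ideal T) [m.IsMaximal], Algebra.IsAlgebraic k (T ⧸ m) := by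
    intro T _ _ t ht _ hc hk m _
    letI := Ideal.Quotient.field m
    refine ⟨fun x => by_contra fun hx => ?_⟩
    let v : k → T ⧸ m := fun a => (x - algebraMap k _ a)⁻¹
    have hne : ∀ a, x - algebraMap k (T ⧸ m) a ≠ 0 := fun a h0 => hx (by
      rw [sub_eq_zero] at h0; rw [h0]; exact isAlgebraic_algebraMap a)
    have hv : LinearIndependent k v := by
      rw [linearIndependent_iff']
      intro F c hsum a ha
      let P : Polynomial k := ∑ b ∈ F, Polynomial.C (c b) * ∏ e ∈ F.erase b, (Polynomial.X - Polynomial.C e)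
      have hP : Polynomial.aeval x P = (∏ e ∈ F, (x - algebraMap k _ e)) * ∑ b ∈ F, c b • v b := by
        rw [Finset.mul_sum, map_sum]
        refine Finset.sum_congr rfl fun b hb => ?_
        rw [map_mul, Polynomial.aeval_C, map_prod, ← Finset.mul_prod_erase F _ hb, Algebra.smul_def]
        simp only [map_sub, Polynomial.aeval_X, Polynomial.aeval_C, v]
        rw [mul_mul_mul_comm, mul_comm (x - algebraMap k (T ⧸ m) b), mul_assoc]
        field_simp [hne b]
      rw [hsum, mul_zero] at hP
      have hP0 : P = 0 := by_contra fun h => hx ⟨P, h, hP⟩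
      have h1 := congrArg (Polynomial.eval a) hP0
      simp only [P, Polynomial.eval_finset_sum, Polynomial.eval_mul, Polynomial.eval_C, Polynomial.eval_prod, Polynomial.eval_sub,
        Polynomial.eval_X, Polynomial.eval_zero] at h1
      rw [Finset.sum_eq_single_of_mem a ha fun b _ hb => by
        rw [Finset.prod_eq_zero (Finset.mem_erase.2 ⟨Ne.symm hb, ha⟩) (sub_self a), mul_zero]] at h1
      refine (mul_eq_zero.1 h1).resolve_right ?_
      exact Finset.prod_ne_zero_iff.2 fun e he => sub_ne_zero.2 (Finset.ne_of_mem_erase he).symm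
    have h1 := hv.cardinal_le_rank
    let π := (Ideal.Quotient.mkₐ k m).toLinearMap
    have h2 : Module.rank k (T ⧸ m) ≤ max Cardinal.aleph0 (Cardinal.mk t) := by
      refine le_trans (LinearMap.rank_le_of_surjective π Ideal.Quotient.mk_surjective) ?_
      have hspan : Submodule.span k ((Submonoid.closure t : Submonoid T) : Set T) = ⊤ := by
        rw [← Algebra.adjoin_eq_span, ht, Algebra.top_toSubmodule]
      rw [← rank_top k T, ← hspan]
      refine (rank_span_le _).trans ?_
      refine le_trans ?_ (Cardinal.mk_list_le_max t)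
      refine Cardinal.mk_le_of_surjective (f := fun l : List t => (⟨(l.map Subtype.val).prod, Submonoid.list_prod_mem _ fun y hy => by
        obtain ⟨z, -, rfl⟩ := List.mem_map.1 hy
        exact Submonoid.subset_closure z.2⟩ : (Submonoid.closure t : Set T))) ?_
      rintro ⟨y, hy⟩
      obtain ⟨l, hl, rfl⟩ := Submonoid.exists_list_of_mem_closure hy
      refine ⟨l.attach.map fun z => ⟨z.1, hl z.1 z.2⟩, Subtype.ext ?_⟩
      simp [Function.comp_def]
    exact absurd (h1.trans h2) (not_le.2 (max_lt hk hc))
  by_cases hfin : s.Finite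
  · haveI : Algebra.FiniteType k S := ⟨⟨hfin.toFinset, by rwa [hfin.coe_toFinset]⟩⟩
    refine ⟨fun m _ => ?_, isJacobsonRing_of_finiteType (A := k)⟩
    letI := Ideal.Quotient.field m
    haveI : Algebra.FiniteType k (S ⧸ m) := Algebra.FiniteType.of_surjective (Ideal.Quotient.mkₐ k m) Ideal.Quotient.mk_surjective
    haveI : Module.Finite k (S ⧸ m) := finite_of_finite_type_of_isJacobsonRing k (S ⧸ m)
    infer_instance
  · have hk : Cardinal.aleph0 < Cardinal.mk k :=
      lt_of_le_of_lt (Cardinal.infinite_iff.1 (Set.infinite_coe_iff.2 hfin)) hcard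
    refine ⟨fun m _ => halg S s hs hk.le hcard hk m, isJacobsonRing_iff_prime_eq.2 fun P hP => le_antisymm (fun f hf => ?_) Ideal.le_jacobson⟩
    by_contra hfP
    let T := Localization.Away f
    have hgen : Algebra.adjoin k (algebraMap S T '' s ∪ {IsLocalization.Away.invSelf f}) = ⊤ := by
      rw [eq_top_iff]
      rintro x -
      obtain ⟨n, a, hx⟩ := IsLocalization.Away.surj f x
      have h1 : algebraMap S T a ∈ Algebra.adjoin k (algebraMap S T '' s ∪ {IsLocalization.Away.invSelf f}) := by
        refine Algebra.adjoin_mono Set.subset_union_left ?_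
        have h0 := AlgHom.map_adjoin (IsScalarTower.toAlgHom k S T) s
        rw [hs, IsScalarTower.coe_toAlgHom'] at h0
        rw [← h0]
        exact ⟨a, trivial, rfl⟩
      have h2 : x = algebraMap S T a * IsLocalization.Away.invSelf f ^ n := by
        rw [← hx, mul_assoc, ← mul_pow, IsLocalization.Away.mul_invSelf, one_pow, mul_one]
      rw [h2]
      have h3 : (IsLocalization.Away.invSelf f : T) ∈ Algebra.adjoin k (algebraMap S T '' s ∪ {IsLocalization.Away.invSelf f}) := Algebra.subset_adjoin (Set.mem_union_right _ (Set.mem_singleton _))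
      exact Subalgebra.mul_mem _ h1 (Subalgebra.pow_mem _ h3 n)
    have hcard' : Cardinal.mk ↥(algebraMap S T '' s ∪ {IsLocalization.Away.invSelf f}) < Cardinal.mk k :=
      lt_of_le_of_lt (Cardinal.mk_union_le _ _) (Cardinal.add_lt_of_lt hk.le (lt_of_le_of_lt Cardinal.mk_image_le hcard)
        (lt_of_lt_of_le (by simp) hk.le))
    have hPT : P.map (algebraMap S T) ≠ ⊤ :=
      (IsLocalization.isPrime_of_isPrime_disjoint (Submonoid.powers f) T P hP (by
        rw [Set.disjoint_left]; rintro x ⟨n, rfl⟩ hx; exact hfP (hP.mem_of_pow_mem n hx))).ne_top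
    obtain ⟨M, hM, hPM⟩ := Ideal.exists_le_maximal _ hPT
    haveI := halg T _ hgen hk.le hcard' hk M
    haveI : (M.comap (algebraMap S T)).IsPrime := Ideal.comap_isPrime _ _
    let g : S ⧸ M.comap (algebraMap S T) →ₐ[k] T ⧸ M := Ideal.quotientMapₐ M (IsScalarTower.toAlgHom k S T) le_rfl
    have hg : Function.Injective g := Ideal.quotientMap_injective
    haveI : Algebra.IsIntegral k (S ⧸ M.comap (algebraMap S T)) :=
      Algebra.IsIntegral.of_injective g hg
    have hmax : (M.comap (algebraMap S T)).IsMaximal := Ideal.Quotient.maximal_of_isField _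
      (isField_of_isIntegral_of_isField' (R := k) (Field.toIsField k))
    have hfM := (Ideal.mem_sInf.1 hf) ⟨Ideal.map_le_iff_le_comap.1 hPM, hmax⟩
    exact hM.ne_top (Ideal.eq_top_of_isUnit_mem _ hfM (IsLocalization.Away.algebraMap_isUnit f))

end Groth.Agent.S2059
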