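import Groth.Statements.S5805
import Groth.Agent.CommAlgDim.GlobalDim
import Groth.Agent.ProjLib.Auslander
-- import your own Groth.Agent.* helpers here

set_option autoImplicit false
universe u
open CategoryTheory
open EGA41

namespace Groth.Agent.S5805

open IsLocalRing CommAlgDim in
theorem spanFinrank_le_of_pdlt : ∀ (d : ℕ) (R : Type u) [CommRing R] [IsRegularLocalRing R],
    (maximalIdeal R).spanFinrank = d → ∀ N, PDLT R (R ⧸ maximalIdeal R) (N + 1) → d ≤ N
  | 0, R, _, _, _, N, _ => Nat.zero_le _
  | d + 1, R, _, _, hd, 0, h => by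
    exfalso
    haveI := pdlt_one_iff.1 h
    haveI := Module.free_of_flat_of_isLocalRing (R := R) (P := R ⧸ maximalIdeal R)
    haveI : Nontrivial (R ⧸ maximalIdeal R) := Ideal.Quotient.nontrivial_iff.mpr (maximalIdeal.isMaximal R).ne_top
    obtain ⟨i⟩ := (Module.Free.chooseBasis R (R ⧸ maximalIdeal R)).index_nonempty
    set b := Module.Free.chooseBasis R (R ⧸ maximalIdeal R)
    have hm : maximalIdeal R = ⊥ := eq_bot_iff.2 fun a ha => by
      have h0 : a • b i = 0 := by
        rw [Algebra.smul_def, Ideal.Quotient.algebraMap_eq, Ideal.Quotient.eq_zero_iff_mem.2 ha, zero_mul]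
      exact (by simpa using congrArg (fun w => b.repr w i) h0 : a = 0)
    rw [hm, Submodule.spanFinrank_bot] at hd
    omega
  | d + 1, R, _, _, hd, N + 1, h => by
    obtain ⟨x, hx, hx2⟩ : ∃ x ∈ maximalIdeal R, x ∉ maximalIdeal R ^ 2 := by
      by_contra hne
      push Not at hne
      have hm : maximalIdeal R = ⊥ := Submodule.eq_bot_of_le_smul_of_le_jacobson_bot (maximalIdeal R) _ (IsNoetherian.noetherian _)
        (by rw [smul_eq_mul, ← sq]; exact hne) (IsLocalRing.maximalIdeal_le_jacobson _)
      rw [hm, Submodule.spanFinrank_bot] at hd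
      omega
    have hx0 : x ≠ 0 := fun e => hx2 (e ▸ zero_mem _)
    have hR : IsSMulRegular R x := isSMulRegular_of_ne_zero hx0
    haveI := isRegularLocalRing_quotient_singleton hx hx2
    have hn' : (maximalIdeal (R ⧸ Ideal.span {x})).spanFinrank = d := by
      have := spanFinrank_maximalIdeal_quotient_singleton hx hx2; omega
    have hm : PDLT R (maximalIdeal R) (N + 1) := by
      exact ((pdlt_ker_iff (Submodule.mkQ (maximalIdeal R)) (Submodule.mkQ_surjective _) N).1 h).of_equiv
        (LinearEquiv.ofEq _ _ (Submodule.ker_mkQ _))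
    have hmreg : IsSMulRegular (maximalIdeal R) x := fun a b h => Subtype.ext (hR (congrArg Subtype.val h))
    have hmbar := (pdlt_quotSMulTop_iff hx hR N (maximalIdeal R) hmreg).2 hm
    let π := Ideal.Quotient.mk (Ideal.span {x})
    let M := (R ⧸ Ideal.span {x}) ⧸ maximalIdeal (R ⧸ Ideal.span {x})
    let ψ : R →ₗ[R] M := (Submodule.mkQ (maximalIdeal (R ⧸ Ideal.span {x}))).restrictScalars R ∘ₗ Submodule.mkQ _
    have hψs : Function.Surjective ψ := (Submodule.mkQ_surjective _).comp (Submodule.mkQ_surjective _)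
    have hψk : LinearMap.ker ψ = maximalIdeal R := by
      ext a
      rw [LinearMap.mem_ker]
      show (Submodule.mkQ (maximalIdeal (R ⧸ Ideal.span {x}))) (π a) = 0 ↔ _
      rw [Submodule.mkQ_apply, Submodule.Quotient.mk_eq_zero, ← map_maximalIdeal_of_surjective π Ideal.Quotient.mk_surjective, ← Ideal.mem_comap,
        Ideal.comap_map_of_surjective' π Ideal.Quotient.mk_surjective, Ideal.mk_ker, sup_eq_left.mpr ((Ideal.span_singleton_le_iff_mem _).2 hx)]
    let e : (R ⧸ maximalIdeal R) ≃ₗ[R] M :=
      (Submodule.quotEquivOfEq _ _ hψk.symm).trans (ψ.quotKerEquivOfSurjective hψs)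
    let inc : (R ⧸ maximalIdeal R) →ₗ[R] QuotSMulTop x (maximalIdeal R) :=
      Submodule.liftQ _ (LinearMap.toSpanSingleton R _ (Submodule.Quotient.mk ⟨x, hx⟩)) fun a ha => by
        rw [LinearMap.mem_ker, LinearMap.toSpanSingleton_apply, ← Submodule.Quotient.mk_smul, Submodule.Quotient.mk_eq_zero]
        exact (Submodule.mem_smul_pointwise_iff_exists _ _ _).2 ⟨⟨a, ha⟩, trivial, Subtype.ext (mul_comm x a)⟩
    obtain ⟨φ, hφ⟩ : ∃ φ : CotangentSpace R →ₗ[ResidueField R] ResidueField R, φ ((maximalIdeal R).toCotangent ⟨x, hx⟩) = 1 := by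
      have hne : (maximalIdeal R).toCotangent ⟨x, hx⟩ ≠ 0 := fun e => hx2 ((Ideal.toCotangent_eq_zero _ _).1 e)
      obtain ⟨φ, hφ⟩ := Module.Projective.exists_dual_ne_zero (ResidueField R) hne
      exact ⟨(φ ((maximalIdeal R).toCotangent ⟨x, hx⟩))⁻¹ • φ, inv_mul_cancel₀ hφ⟩
    let ret : QuotSMulTop x (maximalIdeal R) →ₗ[R] (R ⧸ maximalIdeal R) :=
      Submodule.liftQ _ ((φ.restrictScalars R) ∘ₗ (maximalIdeal R).toCotangent) (by
        intro a ha
        obtain ⟨b, -, rfl⟩ := (Submodule.mem_smul_pointwise_iff_exists _ _ _).1 ha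
        rw [LinearMap.mem_ker, map_smul]
        have h0 : algebraMap R (ResidueField R) x = 0 := Ideal.Quotient.eq_zero_iff_mem.2 hx
        exact (Algebra.smul_def x (φ ((maximalIdeal R).toCotangent b) : ResidueField R)).trans (by rw [h0, zero_mul]; rfl))
    have hret : ∀ z, ret (inc z) = z := by
      intro z
      obtain ⟨a, rfl⟩ := Ideal.Quotient.mk_surjective z
      show ret (a • Submodule.Quotient.mk ⟨x, hx⟩) = _
      rw [map_smul]
      show a • φ ((maximalIdeal R).toCotangent ⟨x, hx⟩) = _
      rw [hφ]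
      exact Algebra.smul_def a (1 : ResidueField R) |>.trans (mul_one _)
    have hk : PDLT (R ⧸ Ideal.span {x}) M (N + 1) := by
      refine hmbar.of_retract
        ((inc ∘ₗ e.symm.toLinearMap).extendScalarsOfSurjective Ideal.Quotient.mk_surjective)
        ((e.toLinearMap ∘ₗ ret).extendScalarsOfSurjective Ideal.Quotient.mk_surjective) (LinearMap.ext fun y => ?_)
      show e (ret (inc (e.symm y))) = y
      rw [hret, e.apply_symm_apply]
    exact Nat.succ_le_succ (spanFinrank_le_of_pdlt d _ hn' N hk)

/-- Let A be a Noetherian local ring with residue field k and n ≥ 0. Then the global dimension of A is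
at most n as soon as the projective dimension of the A-module k is at most n: every A-module then
has projective dimension at most n. (The published statement phrases the criterion through the
vanishing of Tor^A_{n+1}(k, k), to which dim.proj_A(k) ≤ n is equivalent for finitely generated
modules over a Noetherian local ring; this row states the projective-dimension form that the
published proof establishes.) -/
theorem result (A : Type u) [CommRing A] [IsLocalRing A]
    [IsNoetherianRing A] (n : ℕ)
    (hk : HasProjectiveDimensionLT (ModuleCat.of A (IsLocalRing.ResidueField A)) (n + 1)) (M : Type u)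
    [AddCommGroup M] [Module A M] : HasProjectiveDimensionLT (ModuleCat.of A M) (n + 1) := by
  haveI := CommAlgDim.isRegularLocalRing_of_pdlt (R := A) (N := n) hk
  refine ProjLib.hasProjectiveDimensionLT_of_cyclic n (fun I => ?_) _
  exact CommAlgDim.PDLT.mono (Nat.succ_le_succ (spanFinrank_le_of_pdlt _ A rfl n hk)) (CommAlgDim.pdlt_of_isRegularLocalRing A (A ⧸ I))

end Groth.Agent.S5805
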