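import Groth.Statements.S2061
import Groth.Agent.S5805
-- import your own Groth.Agent.* helpers here

set_option autoImplicit false
universe u
open CategoryTheory
open CAlg

namespace Groth.Agent.S2061

/-- For a Noetherian local ring `R` write `𝔪` for its maximal ideal and `κ` for its residue field. The
projective dimension of `κ` as an `R`-module is at least the `κ`-dimension of `𝔪/𝔪²`: if `κ` has
projective dimension less than `d` then `dim_κ 𝔪/𝔪² < d`. -/
theorem result {R : Type u} [CommRing R] [IsLocalRing R]
    [IsNoetherianRing R] (d : ℕ)
    (hd : HasProjectiveDimensionLT (ModuleCat.of R (IsLocalRing.ResidueField R)) d) :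
    Module.finrank (IsLocalRing.ResidueField R) (IsLocalRing.CotangentSpace R) < d := by
  rw [← IsLocalRing.spanFinrank_maximalIdeal_eq_finrank_cotangentSpace]
  rcases d with _ | N
  · haveI := hd
    have h0 := isZero_of_hasProjectiveDimensionLT_zero (ModuleCat.of R (IsLocalRing.ResidueField R))
    exact absurd (ModuleCat.subsingleton_of_isZero h0) (not_subsingleton (IsLocalRing.ResidueField R))
  · haveI := CommAlgDim.isRegularLocalRing_of_pdlt (R := R) (N := N) hd
    exact Nat.lt_succ_of_le (Groth.Agent.S5805.spanFinrank_le_of_pdlt _ R rfl N hd)

end Groth.Agent.S2061
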