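import Groth.Statements.S2066
import Groth.Agent.DRingLib.PCohResolution

set_option autoImplicit false
universe u
open CategoryTheory
attribute [local instance] HasDerivedCategory.standard
open CAlg

namespace Groth.Agent.S2066

/-- An object `K` of `D(A)` is `m`-pseudo-coherent for every integer `m` if and only if some bounded
above complex of finite free modules represents it in `D(A)` ((1) iff (2)), and also if and only if
some bounded above complex of finite projective modules represents it ((2) iff (3)). -/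
theorem result {A : Type u} [CommRing A] (K : Dual.D A) :
    ((∀ m : ℤ, DRing.IsPseudoCoherent A m K) ↔ DRing.IsPseudoCoherent' A K) ∧
      ((∀ m : ℤ, DRing.IsPseudoCoherent A m K) ↔ ∃ (E : DRing.Cx A) (b : ℤ), DRing.VanishesAbove E b ∧
        DRing.TermwiseFiniteProjective E ∧ Nonempty (DRing.toD E ≅ K)) := by
  have h1 : (∀ m : ℤ, DRing.IsPseudoCoherent A m K) → DRing.IsPseudoCoherent' A K :=
    DRingLib.isPseudoCoherent'_of_forall
  have h2 : DRing.IsPseudoCoherent' A K → ∃ (E : DRing.Cx A) (b : ℤ), DRing.VanishesAbove E b ∧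
      DRing.TermwiseFiniteProjective E ∧ Nonempty (DRing.toD E ≅ K) := by
    rintro ⟨E, b, hb, hf, he⟩
    refine ⟨E, b, hb, fun i => ?_, he⟩
    have := (hf i).2
    exact ⟨(hf i).1, inferInstance⟩
  have h3 : (∃ (E : DRing.Cx A) (b : ℤ), DRing.VanishesAbove E b ∧
      DRing.TermwiseFiniteProjective E ∧ Nonempty (DRing.toD E ≅ K)) →
      ∀ m : ℤ, DRing.IsPseudoCoherent A m K := by
    rintro ⟨E, b, hb, hP, ⟨e⟩⟩ m
    exact DRingLib.forall_isPseudoCoherent_of_projective E b hb hP e m
  exact ⟨⟨h1, fun h => h3 (h2 h)⟩, ⟨fun h => h2 (h1 h), h3⟩⟩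

end Groth.Agent.S2066
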