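import Groth.Statements.S2071
import Mathlib.Algebra.Algebra.ZMod
import Mathlib.GroupTheory.OrderOfElement
import Mathlib.Analysis.Complex.Polynomial.Basic
import Mathlib.FieldTheory.Finite.Basic
import Mathlib.FieldTheory.IsAlgClosed.AlgebraicClosure
import Mathlib.NumberTheory.NumberField.InfinitePlace.Basic
import Mathlib.FieldTheory.PurelyInseparable.Basic


-- import your own Groth.Agent.* helpers here

set_option autoImplicit false
universe u
open CAlg

namespace Groth.Agent.S2071

/-- For a field extension `k'/k`, every element of `k'` has a positive power in `k` if and only if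
either `k' = k`, or the characteristic is a prime `p` and either `k'/k` is purely inseparable or
`k'` is algebraic over its prime field. -/
theorem result {k k' : Type u} [Field k] [Field k'] [Algebra k k'] :
    (∀ x : k', ∃ n : ℕ, 0 < n ∧ x ^ n ∈ Set.range (algebraMap k k')) ↔
      Function.Surjective (algebraMap k k') ∨
        ∃ p : ℕ, p.Prime ∧ CharP k' p ∧
          (IsPurelyInseparable k k' ∨ Algebra.IsAlgebraic (⊥ : Subfield k') k') := by
  classical
  constructor
  · intro h
    by_contra hcon
    push Not at hcon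
    obtain ⟨hns, hp0⟩ := hcon
    have halg : Algebra.IsAlgebraic k k' := ⟨fun x => by
      obtain ⟨n, hn, c, hc⟩ := h x
      exact IsAlgebraic.of_pow hn (hc ▸ isAlgebraic_algebraMap c)⟩
    let Ω := AlgebraicClosure k'
    -- the basic identity for a conjugate of a separable element outside `k`
    have key : ∀ x : k', x ∉ Set.range (algebraMap k k') → IsSeparable k x →
        ∃ y : Ω, IsAlgebraic k y ∧ y ≠ algebraMap k' Ω x ∧
          ∀ c : k, ∃ (η : Ω) (n : ℕ), 0 < n ∧ η ^ n = 1 ∧
            y + algebraMap k Ω c = η * (algebraMap k' Ω x + algebraMap k Ω c) := by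
      intro x hx hsep
      have hint : IsIntegral k x := (halg.isAlgebraic x).isIntegral
      have hdeg : 2 ≤ (minpoly k x).natDegree := (minpoly.two_le_natDegree_iff hint).2 hx
      have hcard : 2 ≤ Fintype.card ((minpoly k x).rootSet Ω) := by
        rwa [Polynomial.card_rootSet_eq_natDegree hsep (IsAlgClosed.splits _)]
      obtain ⟨⟨y, hy⟩, hne⟩ := Fintype.exists_ne_of_one_lt_card hcard ⟨algebraMap k' Ω x, by
        rw [Polynomial.mem_rootSet]; exact ⟨minpoly.ne_zero hint, by
          rw [Polynomial.aeval_algebraMap_apply, minpoly.aeval, map_zero]⟩⟩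
      have hy' := hy
      rw [← Algebra.IsAlgebraic.range_eval_eq_rootSet_minpoly] at hy'
      obtain ⟨σ, rfl⟩ := hy'
      refine ⟨σ x, (halg.isAlgebraic x).algHom σ, fun e => hne (Subtype.ext e), fun c => ?_⟩
      obtain ⟨n, hn, d, hd⟩ := h (x + algebraMap k k' c)
      have hz : algebraMap k' Ω x + algebraMap k Ω c ≠ 0 := by
        rw [IsScalarTower.algebraMap_apply k k' Ω, ← map_add, Ne, map_eq_zero]
        exact fun e => hx ⟨-c, by rw [map_neg]; exact (eq_neg_of_add_eq_zero_left e).symm⟩
      refine ⟨(σ x + algebraMap k Ω c) / (algebraMap k' Ω x + algebraMap k Ω c), n, hn, ?_, by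
        rw [div_mul_cancel₀ _ hz]⟩
      rw [div_pow, div_eq_one_iff_eq (pow_ne_zero _ hz)]
      calc (σ x + algebraMap k Ω c) ^ n = σ ((x + algebraMap k k' c) ^ n) := by
            rw [map_pow, map_add, σ.commutes]
        _ = algebraMap k Ω d := by rw [← hd, σ.commutes]
        _ = _ := by rw [IsScalarTower.algebraMap_apply k k' Ω, hd, map_pow, map_add, ← IsScalarTower.algebraMap_apply]
    rcases CharP.exists k' with ⟨p, hp⟩
    rcases Nat.eq_zero_or_pos p with rfl | hppos
    · -- characteristic zero
      have : CharZero k' := CharP.charP_to_charZero k'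
      have : CharZero k := (algebraMap k k').charZero
      have : CharZero Ω := charZero_of_injective_algebraMap (algebraMap k' Ω).injective
      obtain ⟨x, hx⟩ := not_forall.1 hns
      obtain ⟨y, -, hyx, hk⟩ := key x hx (Algebra.IsSeparable.isSeparable k x)
      set a := algebraMap k' Ω x
      obtain ⟨ζ, n₀, hn₀, hζ, hζe⟩ := hk 0
      rw [map_zero, add_zero, add_zero] at hζe
      have hζ1 : ζ ≠ 1 := fun e => hyx (by rw [hζe, e, one_mul])
      have hrel : ∀ (c : k) (η : Ω), y + algebraMap k Ω c = η * (a + algebraMap k Ω c) →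
          a * (ζ - η) = algebraMap k Ω c * (η - 1) := fun c η e => by
        rw [hζe] at e; linear_combination e
      have hne1 : ∀ (c : k) (η : Ω), y + algebraMap k Ω c = η * (a + algebraMap k Ω c) → η ≠ 1 := fun c η e h1 => by
        rw [h1, one_mul, add_left_inj] at e; exact hyx e
      have ha : IsIntegral ℚ a := by
        obtain ⟨η, n, hn, hη, e⟩ := hk 1
        have hm := hrel 1 η e
        rw [map_one, one_mul] at hm
        have h2 : ζ - η ≠ 0 := fun h0 => hne1 1 η e (sub_eq_zero.1 (by rw [← hm, h0, mul_zero]))
        rw [show a = (η - 1) * (ζ - η)⁻¹ by rw [← hm, mul_inv_cancel_right₀ h2]]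
        exact ((IsIntegral.of_pow hn (hη ▸ isIntegral_one)).sub isIntegral_one).mul
          (((IsIntegral.of_pow hn₀ (hζ ▸ isIntegral_one)).sub (IsIntegral.of_pow hn (hη ▸ isIntegral_one))).inv)
      have hyint : IsIntegral ℚ y := hζe ▸ (IsIntegral.of_pow hn₀ (hζ ▸ isIntegral_one)).mul ha
      let K := IntermediateField.adjoin ℚ ({a, y} : Set Ω)
      have : FiniteDimensional ℚ K := IntermediateField.finiteDimensional_adjoin fun z hz => by
        rcases hz with rfl | rfl <;> assumption
      have : NumberField K := { }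
      choose η n hn hη he using fun c : ℚ => hk (c : k)
      have hηK : ∀ c : ℚ, η c ∈ K := fun c => by
        have hc : algebraMap k Ω (c : k) = algebraMap ℚ Ω c := by simp
        have haK : a ∈ K := IntermediateField.subset_adjoin _ _ (Set.mem_insert _ _)
        have hyK : y ∈ K := IntermediateField.subset_adjoin _ _ (Set.mem_insert_of_mem _ rfl)
        have hcK : algebraMap k Ω (c : k) ∈ K := hc ▸ K.algebraMap_mem c
        have h0 : a + algebraMap k Ω (c : k) ≠ 0 := fun h0 => by
          have := he c
          rw [h0, mul_zero] at this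
          exact hyx (add_right_cancel (this.trans h0.symm))
        rw [show η c = (y + algebraMap k Ω (c : k)) / (a + algebraMap k Ω (c : k)) by
          rw [he c, mul_div_cancel_right₀ _ h0]]
        exact div_mem (add_mem hyK hcK) (add_mem haK hcK)
      have hfin := NumberField.Embeddings.finite_of_norm_le K ℂ 1
      have hinj : Function.Injective fun c : ℚ => (⟨η c, hηK c⟩ : K) := by
        intro c c' e
        have e' : η c = η c' := congrArg Subtype.val e
        have h1 := hrel _ _ (he c)
        rw [e', hrel _ _ (he c')] at h1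
        have := mul_right_cancel₀ (sub_ne_zero.2 (hne1 _ _ (he c'))) h1
        exact (Rat.cast_injective ((algebraMap k Ω).injective this)).symm
      refine Set.infinite_range_of_injective hinj (hfin.subset ?_)
      rintro _ ⟨c, rfl⟩
      have h1 : (⟨η c, hηK c⟩ : K) ^ n c = 1 := Subtype.ext (hη c)
      refine ⟨IsIntegral.of_pow (hn c) (h1 ▸ isIntegral_one), fun φ => le_of_eq ?_⟩
      exact Complex.norm_eq_one_of_pow_eq_one (by rw [← map_pow, h1, map_one]) (hn c).ne'
    · -- positive characteristic
      have hpp : p.Prime := (CharP.char_is_prime_or_zero k' p).resolve_right hppos.ne'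
      obtain ⟨hnpi, hnalg⟩ := hp0 p hpp hp
      have := Fact.mk hpp
      have : CharP k p := (algebraMap k k').charP (algebraMap k k').injective p
      have : CharP Ω p := charP_of_injective_algebraMap (algebraMap k' Ω).injective p
      letI : Algebra (ZMod p) Ω := ZMod.algebra Ω p
      letI : Algebra (ZMod p) k' := ZMod.algebra k' p
      let emb : k' →ₐ[ZMod p] Ω := { algebraMap k' Ω with
        commutes' := fun r => RingHom.congr_fun
          (Subsingleton.elim ((algebraMap k' Ω).comp (algebraMap (ZMod p) k')) (algebraMap (ZMod p) Ω)) r }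
      obtain ⟨x, hxsep, hx⟩ : ∃ x : k', IsSeparable k x ∧ x ∉ Set.range (algebraMap k k') := by
        by_contra hcon
        push Not at hcon
        exact hnpi (isPurelyInseparable_iff.2 fun x => ⟨(halg.isAlgebraic x).isIntegral, fun hs => hcon x hs⟩)
      obtain ⟨y, -, hyx, hk⟩ := key x hx hxsep
      set a := algebraMap k' Ω x
      obtain ⟨ζ, n₀, hn₀, hζ, hζe⟩ := hk 0
      rw [map_zero, add_zero, add_zero] at hζe
      have hζ1 : ζ ≠ 1 := fun e => hyx (by rw [hζe, e, one_mul])
      have hζa : IsIntegral (ZMod p) ζ := IsIntegral.of_pow hn₀ (hζ ▸ isIntegral_one)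
      have hk' : ∀ c : k, ∃ η : Ω, IsIntegral (ZMod p) η ∧ η ≠ 1 ∧ a * (ζ - η) = algebraMap k Ω c * (η - 1) := by
        intro c
        obtain ⟨η, n, hn, hη, e⟩ := hk c
        refine ⟨η, IsIntegral.of_pow hn (hη ▸ isIntegral_one), fun h1 => ?_, by rw [hζe] at e; linear_combination e⟩
        rw [h1, one_mul, add_left_inj] at e; exact hyx e
      have ha : IsIntegral (ZMod p) a := by
        obtain ⟨η, hηi, hη1, hm⟩ := hk' 1
        rw [map_one, one_mul] at hm
        have h2 : ζ - η ≠ 0 := fun h0 => hη1 (sub_eq_zero.1 (by rw [← hm, h0, mul_zero]))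
        rw [show a = (η - 1) * (ζ - η)⁻¹ by rw [← hm, mul_inv_cancel_right₀ h2]]
        exact (hηi.sub isIntegral_one).mul (hζa.sub hηi).inv
      have hkalg : ∀ c : k, IsIntegral (ZMod p) (algebraMap k Ω c) := by
        intro c
        obtain ⟨η, hηi, hη1, hm⟩ := hk' c
        rw [show algebraMap k Ω c = a * (ζ - η) * (η - 1)⁻¹ by
          rw [hm, mul_inv_cancel_right₀ (sub_ne_zero.2 hη1)]]
        exact (ha.mul (hζa.sub hηi)).mul (hηi.sub isIntegral_one).inv
      apply hnalg
      have : CharP (⊥ : Subfield k') p := (⊥ : Subfield k').subtype.charP Subtype.val_injective p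
      refine ⟨fun z => ?_⟩
      suffices hz : IsAlgebraic (ZMod p) z by
        obtain ⟨q, hq, hqz⟩ := hz
        refine ⟨q.map (ZMod.castHom (dvd_refl p) (⊥ : Subfield k')), (Polynomial.map_ne_zero_iff (RingHom.injective _)).2 hq, ?_⟩
        rw [Polynomial.aeval_def, Polynomial.eval₂_map,
          Subsingleton.elim ((algebraMap (⊥ : Subfield k') k').comp (ZMod.castHom (dvd_refl p) (⊥ : Subfield k'))) (algebraMap (ZMod p) k'),
          ← Polynomial.aeval_def, hqz]
      obtain ⟨n, hn, c, hc⟩ := h z
      refine IsAlgebraic.of_pow hn ((isAlgebraic_algHom_iff emb (algebraMap k' Ω).injective).1 ?_)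
      rw [← hc]
      show IsAlgebraic (ZMod p) (algebraMap k' Ω (algebraMap k k' c))
      rw [← IsScalarTower.algebraMap_apply]
      exact (hkalg c).isAlgebraic
  · rintro (hs | ⟨p, hp, hc, hpi | ha⟩) x
    · exact ⟨1, one_pos, hs _⟩
    · have := Fact.mk hp
      have : ExpChar k p := by
        have := (algebraMap k k').charP (algebraMap k k').injective p
        exact ExpChar.prime hp
      obtain ⟨m, hm⟩ := IsPurelyInseparable.pow_mem k p x
      exact ⟨p ^ m, pow_pos hp.pos m, hm⟩
    · by_cases hx : x = 0
      · exact ⟨1, one_pos, 0, by simp [hx]⟩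
      have := Fact.mk hp
      have : Finite (⊥ : Subfield k') := by
        refine Set.Finite.to_subtype ((Set.finite_range (ZMod.castHom (dvd_refl p) k')).subset ?_)
        exact (bot_le : (⊥ : Subfield k') ≤ (ZMod.castHom (dvd_refl p) k').fieldRange)
      have := IntermediateField.adjoin.finiteDimensional (ha.isAlgebraic x).isIntegral
      have : Finite (IntermediateField.adjoin (⊥ : Subfield k') {x}) := Module.finite_of_finite (⊥ : Subfield k')
      obtain ⟨n, hn, hn1⟩ := isOfFinOrder_iff_pow_eq_one.1
        ((isOfFinOrder_of_finite (Units.mk0 (⟨x, IntermediateField.mem_adjoin_simple_self _ x⟩ :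
          IntermediateField.adjoin (⊥ : Subfield k') {x}) (fun e => hx (congrArg Subtype.val e)))))
      exact ⟨n, hn, 1, by
        rw [map_one]
        exact (congrArg (fun z => ((z : IntermediateField.adjoin (⊥ : Subfield k') {x}) : k')) (congrArg Units.val hn1)).symm⟩

end Groth.Agent.S2071
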