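import Groth.Statements.S2073
import Mathlib.RingTheory.NoetherNormalization
import Mathlib.RingTheory.FiniteStability
import Mathlib.RingTheory.Localization.Integral
import Mathlib.RingTheory.MvPolynomial.Localization
import Mathlib.RingTheory.Polynomial.ScaleRoots
import Mathlib.RingTheory.Localization.BaseChange
import Mathlib.RingTheory.AlgebraicIndependent.Basic
import Mathlib.RingTheory.Localization.FractionRing

set_option autoImplicit false
universe u
open CAlg
open scoped TensorProduct nonZeroDivisors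

namespace Groth.Agent.S2073

/-- Let `R` be a domain and `R → S` an injective ring map of finite type. Then there are elements `y_1,
…, y_d` of `S` algebraically independent over `R`, a finitely generated `R`-subalgebra `S'` of `S`
containing them and integral over `R[y_1, …, y_d]`, and a nonzero `f ∈ R` such that every element of
`S` lands in `S'` after multiplication by a power of `f`. -/
theorem result {R S : Type u} [CommRing R] [IsDomain R] [CommRing S] [Algebra R S]
    [Algebra.FiniteType R S] (hinj : Function.Injective (algebraMap R S)) :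
    ∃ (d : ℕ) (y : Fin d → S) (S' : Subalgebra R S), AlgebraicIndependent R y ∧ (∀ i, y i ∈ S') ∧ S'.FG ∧
      (∀ s ∈ S', IsIntegral (Algebra.adjoin R (Set.range y)) s) ∧
      ∃ f : R, f ≠ 0 ∧ ∀ s : S, ∃ n : ℕ, (f ^ n) • s ∈ S' := by
  classical
  let K := FractionRing R
  let L := K ⊗[R] S
  let i : S →ₐ[R] L := Algebra.TensorProduct.includeRight
  have hloc : IsLocalizedModule R⁰ (TensorProduct.mk R K S 1) := inferInstance
  have hker : ∀ s : S, i s = 0 → ∃ t : R, t ≠ 0 ∧ t • s = 0 := by
    intro s hs
    obtain ⟨⟨t, ht⟩, h⟩ := (IsLocalizedModule.eq_zero_iff R⁰ (TensorProduct.mk R K S 1)).1 hs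
    exact ⟨t, mem_nonZeroDivisors_iff_ne_zero.1 ht, h⟩
  have hsur : ∀ z : L, ∃ c : R, c ≠ 0 ∧ ∃ s, c • z = i s := by
    intro z
    obtain ⟨⟨s, ⟨c, hc⟩⟩, h⟩ := IsLocalizedModule.surj R⁰ (TensorProduct.mk R K S 1) z
    exact ⟨c, mem_nonZeroDivisors_iff_ne_zero.1 hc, s, h⟩
  have : Nontrivial L := by
    by_contra hL
    rw [not_nontrivial_iff_subsingleton] at hL
    obtain ⟨t, ht, h⟩ := hker 1 (Subsingleton.elim _ _)
    rw [Algebra.smul_def, mul_one] at h
    exact ht (hinj (h.trans (map_zero _).symm))
  obtain ⟨d, g, ginj, gint⟩ := exists_integral_inj_algHom_of_fg K L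
  choose c hc y hy using fun j => hsur (g (MvPolynomial.X j))
  have hc' : ∀ j, algebraMap R K (c j) ≠ 0 := fun j =>
    IsFractionRing.to_map_ne_zero_of_mem_nonZeroDivisors (mem_nonZeroDivisors_iff_ne_zero.2 (hc j))
  let φ : MvPolynomial (Fin d) K →ₐ[K] MvPolynomial (Fin d) K :=
    MvPolynomial.aeval fun j => MvPolynomial.C (algebraMap R K (c j)) * MvPolynomial.X j
  let ψ : MvPolynomial (Fin d) K →ₐ[K] MvPolynomial (Fin d) K :=
    MvPolynomial.aeval fun j => MvPolynomial.C (algebraMap R K (c j))⁻¹ * MvPolynomial.X j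
  have hψφ : ψ.comp φ = AlgHom.id K _ := MvPolynomial.algHom_ext fun j => by
    simp [φ, ψ, ← mul_assoc, ← MvPolynomial.C_mul, hc' j]
  have hφψ : φ.comp ψ = AlgHom.id K _ := MvPolynomial.algHom_ext fun j => by
    simp [φ, ψ, ← mul_assoc, ← MvPolynomial.C_mul, hc' j]
  let e : MvPolynomial (Fin d) K ≃ₐ[K] MvPolynomial (Fin d) K := AlgEquiv.ofAlgHom φ ψ hφψ hψφ
  let G : MvPolynomial (Fin d) K →ₐ[K] L := g.comp e.toAlgHom
  let g₀ : MvPolynomial (Fin d) R →ₐ[R] S := MvPolynomial.aeval y
  have hG : ∀ p : MvPolynomial (Fin d) R, G (MvPolynomial.map (algebraMap R K) p) = i (g₀ p) := by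
    intro p
    induction p using MvPolynomial.induction_on with
    | C r =>
      have h1 : g₀ (MvPolynomial.C r) = algebraMap R S r := MvPolynomial.aeval_C _ r
      have h2 : G (MvPolynomial.C (algebraMap R K r)) = algebraMap K L (algebraMap R K r) := G.commutes _
      rw [MvPolynomial.map_C, h2, h1, AlgHom.commutes, ← IsScalarTower.algebraMap_apply R K L]
    | add p q hp hq => simp only [map_add, hp, hq]
    | mul_X p j hp =>
      simp only [map_mul, MvPolynomial.map_X, hp]
      congr 1
      have h1 : g₀ (MvPolynomial.X j) = y j := MvPolynomial.aeval_X _ j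
      have h2 : e (MvPolynomial.X j) = MvPolynomial.C (algebraMap R K (c j)) * MvPolynomial.X j :=
        MvPolynomial.aeval_X _ j
      rw [h1, ← hy j]
      change g (e (MvPolynomial.X j)) = _
      rw [h2, map_mul, ← MvPolynomial.algebraMap_eq, AlgHom.commutes, ← Algebra.smul_def,
        IsScalarTower.algebraMap_smul]
  have hyind : AlgebraicIndependent R y := fun p q hpq => by
    refine MvPolynomial.map_injective (algebraMap R K) (IsFractionRing.injective R K) ?_
    refine (ginj.comp e.injective) ?_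
    exact (hG p).trans ((congrArg i hpq).trans (hG q).symm)
  have hGint : G.toRingHom.IsIntegral :=
    RingHom.IsIntegral.trans _ _ (RingHom.isIntegral_of_surjective _ e.surjective) gint
  -- every element of `S` becomes integral after multiplying by a nonzero element of `R`
  have key : ∀ x : S, ∃ f : R, f ≠ 0 ∧ IsIntegral (Algebra.adjoin R (Set.range y)) (f • x) := by
    intro x
    letI : Algebra (MvPolynomial (Fin d) K) L := G.toRingHom.toAlgebra
    letI : Algebra (MvPolynomial (Fin d) R) (MvPolynomial (Fin d) K) := MvPolynomial.algebraMvPolynomial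
    letI : Algebra (MvPolynomial (Fin d) R) L := (i.toRingHom.comp g₀.toRingHom).toAlgebra
    haveI : IsScalarTower (MvPolynomial (Fin d) R) (MvPolynomial (Fin d) K) L :=
      IsScalarTower.of_algebraMap_eq fun p => (hG p).symm
    haveI : IsLocalization (R⁰.map (MvPolynomial.C (σ := Fin d))) (MvPolynomial (Fin d) K) :=
      MvPolynomial.isLocalization R⁰ K
    obtain ⟨⟨_, c₀, hc₀, rfl⟩, P, hPm, hP⟩ :=
      IsIntegral.exists_multiple_integral_of_isLocalization (R := MvPolynomial (Fin d) R)
        (Rₘ := MvPolynomial (Fin d) K) (R⁰.map (MvPolynomial.C (σ := Fin d))) (i x) (hGint (i x))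
    have hx' : (MvPolynomial.C c₀ : MvPolynomial (Fin d) R) • i x = i (c₀ • x) := by
      rw [Algebra.smul_def, Algebra.smul_def, map_mul]
      congr 1
      exact congrArg i (MvPolynomial.aeval_C _ c₀)
    rw [Submonoid.smul_def] at hP
    have hP' : i (Polynomial.eval₂ g₀.toRingHom (c₀ • x) (P * Polynomial.X)) = 0 := by
      rw [← AlgHom.coe_toRingHom, Polynomial.hom_eval₂, Polynomial.eval₂_mul, Polynomial.eval₂_X,
        AlgHom.coe_toRingHom, ← hx']
      erw [hP]
      exact zero_mul _
    obtain ⟨t, ht, hts⟩ := hker _ hP'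
    refine ⟨t * c₀, mul_ne_zero ht (mem_nonZeroDivisors_iff_ne_zero.1 hc₀), ?_⟩
    let Q := (P * Polynomial.X).scaleRoots (MvPolynomial.C t)
    have hQm : Q.Monic := (Polynomial.monic_scaleRoots_iff _).2 (hPm.mul Polynomial.monic_X)
    have hQ : Polynomial.eval₂ g₀.toRingHom ((t * c₀) • x) Q = 0 := by
      have h1 : (t * c₀) • x = g₀.toRingHom (MvPolynomial.C t) * (c₀ • x) := by
        rw [show g₀.toRingHom (MvPolynomial.C t) = algebraMap R S t from MvPolynomial.aeval_C _ t,
          ← Algebra.smul_def, mul_smul]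
      rw [h1, Polynomial.scaleRoots_eval₂_mul]
      have hdeg : 1 ≤ (P * Polynomial.X).natDegree := by
        rw [Polynomial.natDegree_mul_X hPm.ne_zero]; omega
      rw [← Nat.sub_add_cancel hdeg, pow_succ, mul_assoc,
        show g₀.toRingHom (MvPolynomial.C t) = algebraMap R S t from MvPolynomial.aeval_C _ t,
        ← Algebra.smul_def t, hts, mul_zero]
    let g₁ : MvPolynomial (Fin d) R →ₐ[R] Algebra.adjoin R (Set.range y) :=
      g₀.codRestrict _ fun p => by
        rw [Algebra.adjoin_range_eq_range_aeval]; exact ⟨p, rfl⟩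
    refine ⟨Q.map g₁.toRingHom, hQm.map _, ?_⟩
    rw [Polynomial.eval₂_map]
    exact hQ
  choose F hF0 hF using key
  obtain ⟨X, hX⟩ := Algebra.FiniteType.out (R := R) (A := S)
  let f : R := ∏ x ∈ X, F x
  have hf : f ≠ 0 := Finset.prod_ne_zero_iff.2 fun x _ => hF0 x
  have hfx : ∀ x ∈ X, IsIntegral (Algebra.adjoin R (Set.range y)) (f • x) := fun x hx => by
    obtain ⟨b, hb⟩ := Finset.dvd_prod_of_mem F hx
    have : f • x = (algebraMap R (Algebra.adjoin R (Set.range y)) b) • (F x • x) := by
      rw [IsScalarTower.algebraMap_smul, ← mul_smul, mul_comm]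
      exact congrArg (· • x) hb
    rw [this]
    exact (hF x).smul _
  let T := Set.range y ∪ (fun x => f • x) '' (X : Set S)
  refine ⟨d, y, Algebra.adjoin R T, hyind, fun j => Algebra.subset_adjoin (Or.inl ⟨j, rfl⟩),
    Subalgebra.fg_def.2 ⟨T, (Set.finite_range y).union (X.finite_toSet.image _), rfl⟩, ?_, f, hf, ?_⟩
  · intro s hs
    induction hs using Algebra.adjoin_induction with
    | mem z hz =>
      rcases hz with hz | ⟨x, hx, rfl⟩
      · exact isIntegral_algebraMap (x := (⟨z, Algebra.subset_adjoin hz⟩ : Algebra.adjoin R (Set.range y)))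
      · exact hfx x hx
    | algebraMap r =>
      rw [IsScalarTower.algebraMap_apply R (Algebra.adjoin R (Set.range y)) S]
      exact isIntegral_algebraMap
    | add a b _ _ ha hb => exact ha.add hb
    | mul a b _ _ ha hb => exact ha.mul hb
  · intro s
    have hs : s ∈ Algebra.adjoin R (X : Set S) := hX ▸ Algebra.mem_top
    induction hs using Algebra.adjoin_induction with
    | mem x hx => exact ⟨1, by rw [pow_one]; exact Algebra.subset_adjoin (Or.inr ⟨x, hx, rfl⟩)⟩
    | algebraMap r => exact ⟨0, by rw [pow_zero, one_smul]; exact Subalgebra.algebraMap_mem _ r⟩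
    | add a b _ _ ha hb =>
      obtain ⟨m, hm⟩ := ha
      obtain ⟨n, hn⟩ := hb
      refine ⟨m + n, ?_⟩
      rw [smul_add]
      refine add_mem ?_ ?_
      · rw [pow_add, mul_comm, mul_smul]; exact Subalgebra.smul_mem _ hm _
      · rw [pow_add, mul_smul]; exact Subalgebra.smul_mem _ hn _
    | mul a b _ _ ha hb =>
      obtain ⟨m, hm⟩ := ha
      obtain ⟨n, hn⟩ := hb
      refine ⟨m + n, ?_⟩
      rw [pow_add, ← smul_mul_smul_comm]
      exact mul_mem hm hn

end Groth.Agent.S2073
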