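import Groth.Statements.S2083
import Mathlib.RingTheory.Ideal.AssociatedPrime.Finiteness
import Groth.Agent.CommAlgDim.Depth
import Groth.Agent.CommAlgDim.CM


-- import your own Groth.Agent.* helpers here

set_option autoImplicit false
universe u
open CAlg

namespace Groth.Agent.S2083

/-- Let `R` be a Noetherian local ring, `M` a finite Cohen–Macaulay `R`-module and `g` a member of the
maximal ideal for which the support of `M/gM` has dimension exactly one less than that of `M`. Then
`g` is a nonzerodivisor on `M`, and the quotient `M/gM` is again Cohen–Macaulay, with depth one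
smaller than that of `M`. -/
theorem result {R M : Type u} [CommRing R] [IsLocalRing R] [IsNoetherianRing R]
    [AddCommGroup M] [Module R M] [Module.Finite R M] (hM : LocCoh.IsCohenMacaulayModule R M) (g : R)
    (hg : g ∈ IsLocalRing.maximalIdeal R)
    (hdim : Module.supportDim R (M ⧸ Ideal.span {g} • (⊤ : Submodule R M)) + 1 = Module.supportDim R M) :
    IsSMulRegular M g ∧ LocCoh.IsCohenMacaulayModule R (M ⧸ Ideal.span {g} • (⊤ : Submodule R M)) ∧
      LocCoh.depth R (M ⧸ Ideal.span {g} • (⊤ : Submodule R M)) + 1 = LocCoh.depth R M := by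
  have hsp : Ideal.span {g} • (⊤ : Submodule R M) = (open Pointwise in g • (⊤ : Submodule R M)) :=
    Submodule.ideal_span_singleton_smul g ⊤
  let e : (M ⧸ Ideal.span {g} • (⊤ : Submodule R M)) ≃ₗ[R] QuotSMulTop g M := Submodule.quotEquivOfEq _ _ hsp
  haveI : Nontrivial M := by
    refine not_subsingleton_iff_nontrivial.1 fun hs => ?_
    unfold LocCoh.IsCohenMacaulayModule at hM
    rw [Module.supportDim_eq_bot_of_subsingleton] at hM
    exact WithBot.bot_ne_coe hM
  haveI : Nontrivial (QuotSMulTop g M) := Submodule.Quotient.nontrivial_iff.2 fun h => Submodule.top_ne_pointwise_smul_of_mem_jacobson_annihilator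
    (IsLocalRing.maximalIdeal_le_jacobson _ hg) h.symm
  have aux : ∀ (N : Type u) [AddCommGroup N] [Module R N] [Module.Finite R N] [Nontrivial N],
      ∃ k : ℕ, Module.supportDim R N = (k : ℕ) := by
    intro N _ _ _ _
    rw [Module.supportDim_eq_ringKrullDim_quotient_annihilator]
    haveI := Ideal.Quotient.nontrivial_iff.2 (fun h : Module.annihilator R N = ⊤ =>
      not_subsingleton N (Module.annihilator_eq_top_iff.1 h))
    haveI : IsLocalRing (R ⧸ Module.annihilator R N) := IsLocalRing.of_surjective' _ Ideal.Quotient.mk_surjective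
    exact CommAlgDim.exists_ringKrullDim_eq
  obtain ⟨n, hn⟩ := aux M
  obtain ⟨m, hm⟩ := aux (QuotSMulTop g M)
  rw [Module.supportDim_eq_of_equiv e, hm, hn] at hdim
  have hnm : m + 1 = n := by exact_mod_cast hdim
  have hM' : LocCoh.depth R M = (n : ℕ) := by
    unfold LocCoh.IsCohenMacaulayModule at hM
    rw [hn] at hM
    exact (WithBot.coe_inj.1 hM).symm
  have hsup : ∀ (N : Type u) [AddCommGroup N] [Module R N] [Module.Finite R N] (P : Ideal R) (hP : P ∈ associatedPrimes R N),
      (⟨P, hP.1⟩ : PrimeSpectrum R) ∈ Module.support R N := by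
    intro N _ _ _ P hP
    rw [Module.mem_support_iff_of_finite]
    intro r hr
    obtain ⟨-, φ, hφ⟩ := (isAssociatedPrime_iff_exists_injective_linearMap _ _).1 hP
    refine Ideal.Quotient.eq_zero_iff_mem.1 (hφ ?_)
    rw [map_zero, show Ideal.Quotient.mk P r = r • (1 : R ⧸ P) by rw [Algebra.smul_def, mul_one]; rfl, map_smul]
    exact Module.mem_annihilator.1 hr _
  have upper : ∀ (N : Type u) [AddCommGroup N] [Module R N] [Module.Finite R N] [Nontrivial N] (k j : ℕ),
      Module.supportDim R N = (k : ℕ) → CommAlgDim.HasSeqIn (IsLocalRing.maximalIdeal R) N j → j ≤ k := by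
    intro N _ _ _ _ k j hk ⟨rs, hlen, hmem, hreg⟩
    have hR : RingTheory.Sequence.IsRegular N rs := ⟨hreg, fun h => Submodule.top_ne_ideal_smul_of_le_jacobson_annihilator
      ((Ideal.span_le.2 fun r hr => hmem r hr).trans (IsLocalRing.maximalIdeal_le_jacobson _)) h⟩
    obtain ⟨P, hP⟩ := associatedPrimes.nonempty R N
    haveI := hP.1
    have h1 := (CommAlgDim.length_le_ringKrullDim_of_mem_associatedPrimes _ _ hR P hP).trans
      (ringKrullDim_le_of_surjective (Ideal.Quotient.factor (Module.mem_support_iff_of_finite.1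
        (show (⟨P, inferInstance⟩ : PrimeSpectrum R) ∈ Module.support R N from (hsup _ P hP))))
        (Ideal.Quotient.factor_surjective _))
    rw [← Module.supportDim_eq_ringKrullDim_quotient_annihilator, hk, hlen] at h1
    exact_mod_cast h1
  have hseq : CommAlgDim.HasSeqIn (IsLocalRing.maximalIdeal R) M n := (CommAlgDim.le_depth_iff n).1 hM'.ge
  have hreg : IsSMulRegular M g := by
    by_contra hcon
    have : g ∈ ⋃ p ∈ associatedPrimes R M, (p : Set R) := by
      rw [biUnion_associatedPrimes_eq_compl_regular]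
      exact hcon
    simp only [Set.mem_iUnion, exists_prop] at this
    obtain ⟨P, hP, hgP⟩ := this
    haveI := hP.1
    obtain ⟨rs, hlen, hmem, hr⟩ := hseq
    have hR : RingTheory.Sequence.IsRegular M rs := ⟨hr, fun h => Submodule.top_ne_ideal_smul_of_le_jacobson_annihilator
      ((Ideal.span_le.2 fun r hr => hmem r hr).trans (IsLocalRing.maximalIdeal_le_jacobson _)) h⟩
    have hsupp : (⟨P, inferInstance⟩ : PrimeSpectrum R) ∈ Module.support R (QuotSMulTop g M) := by
      rw [Module.support_quotSMulTop]
      exact ⟨(hsup _ P hP), by simpa [PrimeSpectrum.mem_zeroLocus] using hgP⟩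
    have h1 := (CommAlgDim.length_le_ringKrullDim_of_mem_associatedPrimes _ _ hR P hP).trans
      (ringKrullDim_le_of_surjective (Ideal.Quotient.factor (Module.mem_support_iff_of_finite.1 hsupp))
        (Ideal.Quotient.factor_surjective _))
    rw [← Module.supportDim_eq_ringKrullDim_quotient_annihilator, hm, hlen] at h1
    have : n ≤ m := by exact_mod_cast h1
    omega
  have hlow : CommAlgDim.HasSeqIn (IsLocalRing.maximalIdeal R) (M ⧸ Ideal.span {g} • (⊤ : Submodule R M)) m := by
    obtain ⟨rs, h1, h2, h3⟩ := CommAlgDim.HasSeqIn.quotSMulTop hg hreg (hnm ▸ hseq)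
    exact ⟨rs, h1, h2, (e.isWeaklyRegular_congr rs).2 h3⟩
  haveI : Nontrivial (M ⧸ Ideal.span {g} • (⊤ : Submodule R M)) := e.toEquiv.nontrivial
  have hd : LocCoh.depth R (M ⧸ Ideal.span {g} • (⊤ : Submodule R M)) = (m : ℕ) := by
    refine le_antisymm ?_ ((CommAlgDim.le_depth_iff m).2 hlow)
    refine ENat.forall_natCast_le_iff_le.1 fun j hj => ?_
    exact_mod_cast upper _ m j ((Module.supportDim_eq_of_equiv e).trans hm) ((CommAlgDim.le_depth_iff j).1 hj)
  refine ⟨hreg, ?_, ?_⟩
  · unfold LocCoh.IsCohenMacaulayModule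
    rw [hd, Module.supportDim_eq_of_equiv e, hm]
    rfl
  · rw [hd, hM', ← hnm]
    rfl

end Groth.Agent.S2083
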