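import Groth.Statements.S2084
import Groth.Agent.CatLib.Flat
import Groth.Agent.CatLib.CMModule


-- import your own Groth.Agent.* helpers here

set_option autoImplicit false
universe u
open CAlg

namespace Groth.Agent.S2084

/-- Let `R` be a Noetherian local ring admitting a finite Cohen–Macaulay module whose support is all of
`Spec R`. Then every maximal chain of prime ideals (starting at a minimal prime, ending at the
maximal ideal, with no prime strictly between consecutive members) has length equal to the dimension
of `R`. -/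
theorem result {R M : Type u} [CommRing R] [IsLocalRing R] [IsNoetherianRing R]
    [AddCommGroup M] [Module R M] [Module.Finite R M] (hM : LocCoh.IsCohenMacaulayModule R M)
    (hsupp : Module.support R M = Set.univ) (s : LTSeries (PrimeSpectrum R))
    (hhead : s.head.asIdeal ∈ minimalPrimes R) (hlast : s.last.asIdeal = IsLocalRing.maximalIdeal R)
    (hsat : ∀ i : Fin s.length, s (Fin.castSucc i) ⋖ s (Fin.succ i)) :
    (s.length : WithBot ℕ∞) = ringKrullDim R := by
  have heq := CatLib.isEquidim_of_cmModule M hM hsupp
  have hcat := (CatLib.equidim_catenary_of_isFormallyEquidim (A := R) (CatLib.isFormallyEquidim_of_cmModule M hM hsupp heq)).2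
  have hnat : ∀ p : PrimeSpectrum R, ∃ d : ℕ, ringKrullDim (R ⧸ p.asIdeal) = d := fun p => by
    haveI := Ideal.Quotient.nontrivial_iff.2 p.isPrime.ne_top
    haveI : IsLocalRing (R ⧸ p.asIdeal) := IsLocalRing.of_surjective' _ Ideal.Quotient.mk_surjective
    exact CommAlgDim.exists_ringKrullDim_eq
  have hstep : ∀ q r : PrimeSpectrum R, q ⋖ r → Order.height r = Order.height q + 1 := by
    intro q r hqr
    haveI := Ideal.Quotient.nontrivial_iff.2 q.isPrime.ne_top
    haveI : IsLocalRing (R ⧸ q.asIdeal) := IsLocalRing.of_surjective' _ Ideal.Quotient.mk_surjective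
    haveI : (r.asIdeal.map (Ideal.Quotient.mk q.asIdeal)).IsPrime := Ideal.map_isPrime_of_surjective
      Ideal.Quotient.mk_surjective (by rw [Ideal.mk_ker]; exact hqr.le)
    have h1 := CatLib.ringKrullDim_quotient_add_height_of_domain (CatLib.isCatenary_quotient q.asIdeal hcat)
      (r.asIdeal.map (Ideal.Quotient.mk q.asIdeal))
    rw [CatLib.height_map_eq_one_of_covBy hqr, CatLib.ringKrullDim_quotient_quotient_map hqr.le] at h1
    have h2 := CatLib.ringKrullDim_quotient_add_height_of_equidim heq hcat q.asIdeal
    have h3 := CatLib.ringKrullDim_quotient_add_height_of_equidim heq hcat r.asIdeal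
    rw [PrimeSpectrum.height_eq_orderHeight] at h2 h3
    obtain ⟨dq, hdq⟩ := hnat q
    obtain ⟨dr, hdr⟩ := hnat r
    obtain ⟨hq, hhq⟩ := ENat.ne_top_iff_exists.1 (CatLib.height_ne_top q)
    obtain ⟨hr, hhr⟩ := ENat.ne_top_iff_exists.1 (CatLib.height_ne_top r)
    rw [← hhq, hdq] at h2; rw [← hhr, hdr] at h3; rw [hdr, hdq] at h1
    rw [← h2] at h3
    have h1' : dr + 1 = dq := by exact_mod_cast h1
    have h3' : dr + hr = dq + hq := by exact_mod_cast h3
    rw [← hhq, ← hhr]
    exact_mod_cast (show hr = hq + 1 by omega)
  have hlen := CatLib.saturated_length_add_height hstep s hsat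
  have h0 : Order.height s.head = 0 := by
    exact Order.height_eq_zero.2 fun q hq => hhead.2 ⟨q.isPrime, bot_le⟩ hq
  rw [h0, zero_add, ← PrimeSpectrum.height_eq_orderHeight, hlast] at hlen
  rw [← IsLocalRing.maximalIdeal_height_eq_ringKrullDim, hlen]
  rfl

end Groth.Agent.S2084
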