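import Groth.Statements.S2085
import Mathlib.RingTheory.KrullDimension.Module
import Mathlib.RingTheory.Ideal.AssociatedPrime.Localization
import Groth.Agent.CommAlgDim.Depth


-- import your own Groth.Agent.* helpers here

set_option autoImplicit false
universe u
open CAlg

namespace Groth.Agent.S2085

/-- Let `M` be a finite module over a Noetherian ring `R`. Then every associated prime of `M` is minimal
in the support of `M` (no embedded primes) if and only if `M` satisfies Serre's condition `(S_1)`. -/
theorem result {R M : Type u} [CommRing R] [IsNoetherianRing R] [AddCommGroup M] [Module R M]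
    [Module.Finite R M] :
    (∀ p ∈ associatedPrimes R M, p ∈ (Module.annihilator R M).minimalPrimes) ↔ LocCoh.HasSk 1 R M := by
  classical
  have hsupp : ∀ (p : Ideal R) [p.IsPrime] (Q : PrimeSpectrum (Localization.AtPrime p)),
      Q ∈ Module.support (Localization.AtPrime p) (LocalizedModule p.primeCompl M) ↔
        PrimeSpectrum.comap (algebraMap R (Localization.AtPrime p)) Q ∈ Module.support R M := by
    intro p _ Q
    rw [Module.mem_support_iff', Module.mem_support_iff']
    constructor
    · rintro ⟨z, hz⟩
      obtain ⟨⟨m, s⟩, rfl⟩ := IsLocalizedModule.mk'_surjective p.primeCompl (LocalizedModule.mkLinearMap p.primeCompl M) z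
      refine ⟨m, fun r hr h0 => hz (algebraMap R _ r) hr ?_⟩
      rw [algebraMap_smul, Function.uncurry_apply_pair, ← IsLocalizedModule.mk'_smul, h0, IsLocalizedModule.mk'_zero]
    · rintro ⟨m, hm⟩
      refine ⟨LocalizedModule.mkLinearMap p.primeCompl M m, fun z hz h0 => ?_⟩
      obtain ⟨⟨r, s⟩, rfl⟩ := IsLocalization.mk'_surjective p.primeCompl z
      have h1 : algebraMap R (Localization.AtPrime p) r • LocalizedModule.mkLinearMap p.primeCompl M m = 0 := by
        rw [← IsLocalization.mk'_spec (Localization.AtPrime p) r s, mul_comm, mul_smul, h0, smul_zero]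
      rw [algebraMap_smul, ← map_smul] at h1
      obtain ⟨u, hu⟩ := (IsLocalizedModule.eq_zero_iff p.primeCompl (LocalizedModule.mkLinearMap p.primeCompl M)).1 h1
      rw [Submonoid.smul_def, smul_smul] at hu
      refine hm ((u : R) * r) (fun hmem => ?_) hu
      rcases (PrimeSpectrum.comap (algebraMap R (Localization.AtPrime p)) Q).isPrime.mem_or_mem hmem with h | h
      · exact Q.isPrime.ne_top (Ideal.eq_top_of_isUnit_mem _ h (IsLocalization.map_units _ u))
      · exact hz (by
          rw [IsLocalization.mk'_mem_iff]
          exact h)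
  have hle : ∀ (p : Ideal R) [p.IsPrime] (Q : PrimeSpectrum (Localization.AtPrime p)),
      Q.asIdeal.comap (algebraMap R _) ≤ p := fun p _ Q => by
    have h := IsLocalRing.le_maximalIdeal Q.isPrime.ne_top
    exact (Ideal.comap_mono h).trans (IsLocalization.AtPrime.under_maximalIdeal (Localization.AtPrime p) p).le
  constructor
  · intro h p _
    rcases subsingleton_or_nontrivial (LocalizedModule p.primeCompl M) with hs | hn
    · refine le_trans (min_le_right _ _) ?_
      rw [Module.supportDim_eq_bot_of_subsingleton]; exact bot_le
    by_cases hp : p ∈ associatedPrimes R M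
    · refine le_trans (min_le_right _ _) (le_trans ?_ (WithBot.coe_le_coe.2 zero_le))
      have hsub : ∀ Q ∈ Module.support (Localization.AtPrime p) (LocalizedModule p.primeCompl M),
          Q.asIdeal.comap (algebraMap R _) = p := fun Q hQ => by
        refine le_antisymm (hle p Q) ((h p hp).2 ⟨inferInstance, ?_⟩ (hle p Q))
        exact Module.mem_support_iff_of_finite.1 ((hsupp p Q).1 hQ)
      have : Subsingleton (Module.support (Localization.AtPrime p) (LocalizedModule p.primeCompl M)) :=
        ⟨fun A B => Subtype.ext (PrimeSpectrum.ext (by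
          rw [← IsLocalization.map_under p.primeCompl (Localization.AtPrime p) A.1.asIdeal,
            ← IsLocalization.map_under p.primeCompl (Localization.AtPrime p) B.1.asIdeal]
          exact congrArg _ ((hsub _ A.2).trans (hsub _ B.2).symm)))⟩
      exact Order.krullDim_nonpos_of_subsingleton
    · refine le_trans (min_le_left _ _) (WithBot.coe_le_coe.2 ?_)
      rw [CommAlgDim.le_depth_iff, CommAlgDim.hasSeqIn_one_iff]
      intro Q hQ hmQ
      have hQp : Q = IsLocalRing.maximalIdeal (Localization.AtPrime p) :=
        le_antisymm (IsLocalRing.le_maximalIdeal hQ.isPrime.ne_top) hmQ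
      rw [← Module.associatedPrimes.preimage_comap_associatedPrimes_eq_associatedPrimes_of_isLocalizedModule p.primeCompl
        (R' := Localization.AtPrime p) (LocalizedModule.mkLinearMap p.primeCompl M), Set.mem_preimage, hQp,
        show Ideal.comap _ _ = p from IsLocalization.AtPrime.under_maximalIdeal (Localization.AtPrime p) p] at hQ
      exact hp hQ
  · intro h p hp
    have := hp.isPrime
    have hann : Module.annihilator R M ≤ p := by
      obtain ⟨-, x, hx⟩ := isAssociatedPrime_iff.1 hp
      intro r hr
      rw [hx, Submodule.mem_colon_singleton, Submodule.mem_bot, Module.mem_annihilator.1 hr]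
    refine ⟨⟨‹_›, hann⟩, fun q hq hqp => ?_⟩
    by_contra hpq
    have := hq.1
    have h1 := h p
    obtain ⟨Q, hQ⟩ : ∃ Q : PrimeSpectrum (Localization.AtPrime p), Q.asIdeal.comap (algebraMap R _) = q := by
      have hdisj : Disjoint (p.primeCompl : Set R) (q : Set R) := Set.disjoint_left.2 fun r hr hrq => hr (hqp hrq)
      exact ⟨⟨_, IsLocalization.isPrime_of_isPrime_disjoint p.primeCompl _ q ‹_› hdisj⟩,
        IsLocalization.under_map_of_isPrime_disjoint p.primeCompl _ ‹_› hdisj⟩
    have hQs : Q ∈ Module.support (Localization.AtPrime p) (LocalizedModule p.primeCompl M) := by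
      refine (hsupp p Q).2 (Module.mem_support_iff_of_finite.2 ?_)
      show _ ≤ Q.asIdeal.comap (algebraMap R _)
      rw [hQ]; exact hq.2
    let Pm : PrimeSpectrum (Localization.AtPrime p) := IsLocalRing.closedPoint _
    have hPs : Pm ∈ Module.support (Localization.AtPrime p) (LocalizedModule p.primeCompl M) :=
      Module.mem_support_mono (IsLocalRing.le_maximalIdeal Q.isPrime.ne_top) hQs
    have hlt : (⟨Q, hQs⟩ : Module.support (Localization.AtPrime p) (LocalizedModule p.primeCompl M)) < ⟨Pm, hPs⟩ := by
      refine lt_of_le_of_ne (IsLocalRing.le_maximalIdeal Q.isPrime.ne_top) fun he => hpq ?_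
      have h2 := congrArg (fun A : PrimeSpectrum (Localization.AtPrime p) => A.asIdeal.comap (algebraMap R _)) (congrArg Subtype.val he)
      simp only [hQ] at h2
      rw [h2]
      exact (IsLocalization.AtPrime.under_maximalIdeal (Localization.AtPrime p) p).ge
    have hdim : (1 : WithBot ℕ∞) ≤ Module.supportDim (Localization.AtPrime p) (LocalizedModule p.primeCompl M) :=
      Order.one_le_krullDim_iff.2 ⟨_, _, hlt⟩
    rw [Nat.cast_one, min_eq_left hdim] at h1
    have h1' : ((1 : ℕ) : ℕ∞) ≤ LocCoh.depth (Localization.AtPrime p) (LocalizedModule p.primeCompl M) := by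
      exact_mod_cast h1
    rw [CommAlgDim.le_depth_iff, CommAlgDim.hasSeqIn_one_iff] at h1'
    refine h1' (IsLocalRing.maximalIdeal _) ?_ le_rfl
    rw [← Module.associatedPrimes.preimage_comap_associatedPrimes_eq_associatedPrimes_of_isLocalizedModule p.primeCompl
        (R' := Localization.AtPrime p) (LocalizedModule.mkLinearMap p.primeCompl M), Set.mem_preimage,
        show Ideal.comap _ _ = p from IsLocalization.AtPrime.under_maximalIdeal (Localization.AtPrime p) p]
    exact hp

end Groth.Agent.S2085
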