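import Groth.Statements.S2089
import Groth.Agent.CommAlgDim.DepthBounds


-- import your own Groth.Agent.* helpers here

set_option autoImplicit false
universe u
open CAlg

namespace Groth.Agent.S2089

/-- Let `R` be a Noetherian local ring and `M` a finite `R`-module. For every associated prime `𝔭` of
`M` the depth of `M` is at most the dimension of `R/𝔭`. -/
theorem result {R M : Type u} [CommRing R] [IsLocalRing R] [IsNoetherianRing R]
    [AddCommGroup M] [Module R M] [Module.Finite R M] (p : Ideal R) (hp : p ∈ associatedPrimes R M) :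
    ((LocCoh.depth R M : ℕ∞) : WithBot ℕ∞) ≤ ringKrullDim (R ⧸ p) := by
  have : Nontrivial M := not_subsingleton_iff_nontrivial.1 fun _ => by
    simp [associatedPrimes.eq_empty_of_subsingleton] at hp
  have key : ∀ n : ℕ, (n : ℕ∞) ≤ LocCoh.depth R M → (n : WithBot ℕ∞) ≤ ringKrullDim (R ⧸ p) :=
    fun n hn => CommAlgDim.depth_le_ringKrullDim_quotient hp ((CommAlgDim.le_depth_iff n).1 hn)
  have hpp : p.IsPrime := hp.1
  haveI : Nontrivial (R ⧸ p) := Ideal.Quotient.nontrivial_iff.2 hpp.ne_top
  cases hd : LocCoh.depth R M using ENat.recTopCoe with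
  | coe d => exact key d hd.ge
  | top =>
    by_contra hne
    have hlt : ringKrullDim (R ⧸ p) < ⊤ := (le_top.lt_of_ne fun h => hne h.ge)
    obtain ⟨d, hd'⟩ := (ringKrullDim_le_of_surjective (Ideal.Quotient.mk p) Ideal.Quotient.mk_surjective).trans_lt
      ringKrullDim_lt_top |> fun h => WithBot.ne_bot_iff_exists.1 (ringKrullDim_ne_bot (R := R ⧸ p))
    cases d using ENat.recTopCoe with
    | top => exact hne hd'.le
    | coe d =>
      have := key (d + 1) (by rw [hd]; exact le_top)
      rw [← hd'] at this
      have h' : ((d + 1 : ℕ) : ℕ∞) ≤ (d : ℕ∞) := WithBot.coe_le_coe.1 this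
      exact absurd (Nat.cast_le.1 h') (by omega)

end Groth.Agent.S2089
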