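import Groth.Statements.S2093
import Groth.Agent.NormalLib.CompletionReduced

set_option autoImplicit false
universe u
open CAlg

namespace Groth.Agent.S2093

/-- Let `(R, 𝔪)` be a Noetherian local domain and `x ∈ 𝔪` nonzero such that `R/xR` has no embedded
associated primes, and for every associated prime `𝔭` of `R/xR` the local ring `R_𝔭` is regular and
the completion of `R/𝔭` is reduced. Then the completion of `R` is reduced. -/
theorem result {R : Type u} [CommRing R] [IsDomain R] [IsLocalRing R]
    [IsNoetherianRing R] (x : R) (hx : x ≠ 0) (hxm : x ∈ IsLocalRing.maximalIdeal R)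
    (hemb : ∀ p ∈ associatedPrimes R (R ⧸ Ideal.span {x}), p ∈ (Ideal.span {x}).minimalPrimes)
    (hreg : ∀ p ∈ associatedPrimes R (R ⧸ Ideal.span {x}), ∀ (_ : p.IsPrime),
      IsRegularLocalRing (Localization.AtPrime p) ∧
        IsReduced (AdicCompletion ((IsLocalRing.maximalIdeal R).map (Ideal.Quotient.mk p)) (R ⧸ p))) :
    IsReduced (AdicCompletion (IsLocalRing.maximalIdeal R) R) := by
  refine NormalLib.isReduced_completion_of_hypersurface x hx hxm fun p hp hpp => ?_
  obtain ⟨hreg1, hred⟩ := hreg p hp hpp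
  refine ⟨?_, hred⟩
  have h1 : ringKrullDim (Localization.AtPrime p) ≤ 1 := by
    rw [IsLocalization.AtPrime.ringKrullDim_eq_height p]
    have h2 : p.height ≤ 1 := Ideal.height_le_one_of_isPrincipal_of_mem_minimalPrimes _ p (hemb p hp)
    exact_mod_cast h2
  have h3 : ((IsLocalRing.maximalIdeal (Localization.AtPrime p)).spanFinrank : WithBot ℕ∞) ≤ 1 :=
    hreg1.spanFinrank_maximalIdeal.le.trans h1
  have h4 : (IsLocalRing.maximalIdeal (Localization.AtPrime p)).spanFinrank ≤ 1 := by exact_mod_cast h3
  rcases Nat.le_one_iff_eq_zero_or_eq_one.1 h4 with h5 | h5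
  · rw [(Submodule.spanFinrank_eq_zero_iff_eq_bot (IsNoetherian.noetherian _)).1 h5]
    infer_instance
  · exact ((Submodule.spanFinrank_eq_one_iff _).1 h5).1

end Groth.Agent.S2093
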