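import Groth.Statements.S2095
import Mathlib
import Mathlib
-- import your own Groth.Agent.* helpers here

set_option autoImplicit false
universe u
open CAlg

namespace Groth.Agent.S2095

open TensorProduct in
/-- Let `R → S` be a ring map, `𝔫 ⊆ S` an ideal and `R → R'` a ring map admitting an `R`-linear
retraction. If `R' → R' ⊗ S` is formally smooth for the adic topology of the extension of `𝔫`, then
`R → S` is formally smooth for the `𝔫`-adic topology. -/
theorem result {R S R' : Type u} [CommRing R] [CommRing S] [Algebra R S]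
    (𝔫 : Ideal S) [CommRing R'] [Algebra R R'] (ρ : R' →ₗ[R] R) (hρ : ∀ r : R, ρ (algebraMap R R' r) = r)
    (h : CAlgX.IsAdicFormallySmooth R' (R' ⊗[R] S)
      (𝔫.map (Algebra.TensorProduct.includeRight : S →ₐ[R] R' ⊗[R] S))) :
    CAlgX.IsAdicFormallySmooth R S 𝔫 := by
  intro A _ _ J hJ ψ hψ
  obtain ⟨k, hk⟩ := hψ
  let iA : A →ₐ[R] R' ⊗[R] A := Algebra.TensorProduct.includeRight
  let J' : Ideal (R' ⊗[R] A) := J.map iA
  have hJ' : J' ^ 2 = ⊥ := by rw [← Ideal.map_pow, hJ, Ideal.map_bot]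
  let q : A ⧸ J →ₐ[R] (R' ⊗[R] A) ⧸ J' := Ideal.quotientMapₐ J' iA Ideal.le_comap_map
  let ψ' : R' ⊗[R] S →ₐ[R'] (R' ⊗[R] A) ⧸ J' :=
    Algebra.TensorProduct.lift (Algebra.ofId R' _) (q.comp ψ) (fun _ _ => Commute.all _ _)
  have hψ'k : ∀ x ∈ (𝔫.map (Algebra.TensorProduct.includeRight : S →ₐ[R] R' ⊗[R] S)) ^ k, ψ' x = 0 := by
    intro x hx
    rw [← Ideal.map_pow] at hx
    refine (Ideal.map_le_iff_le_comap.2 (fun y hy => ?_) : _ ≤ RingHom.ker ψ') hx
    simp [ψ', hk y hy]
  obtain ⟨χ', hχ'⟩ := h (R' ⊗[R] A) J' hJ' ψ' ⟨k, hψ'k⟩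
  let P : R' ⊗[R] A →ₗ[R] A := TensorProduct.lift ((LinearMap.lsmul R A).comp ρ)
  have hPt : ∀ (r : R') (a : A), P (r ⊗ₜ[R] a) = ρ r • a := fun r a => by simp [P]
  have hρ1 : ρ 1 = 1 := by simpa using hρ 1
  have hP1 : ∀ a : A, P (iA a) = a := fun a => by simp [iA, hPt, hρ1]
  have hPmul : ∀ (a : A) (z : R' ⊗[R] A), P (iA a * z) = a * P z := by
    intro a z
    induction z using TensorProduct.induction_on with
    | zero => simp
    | tmul r b => simp [iA, hPt, mul_smul_comm]
    | add x y hx hy => simp only [mul_add, map_add, hx, hy]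
  have hPJ : ∀ z ∈ J', P z ∈ J := by
    have : ∀ z ∈ J', ∀ c, P (c * z) ∈ J := by
      intro z hz
      rw [show J' = Ideal.span (iA '' (J : Set A)) from rfl] at hz
      induction hz using Submodule.span_induction with
      | mem x hx =>
        obtain ⟨a, ha, rfl⟩ := hx
        intro c
        rw [mul_comm, hPmul]
        exact J.mul_mem_right _ ha
      | zero => intro c; simp
      | add x y _ _ hx hy => intro c; rw [mul_add, map_add]; exact add_mem (hx c) (hy c)
      | smul d x _ hx => intro c; rw [smul_eq_mul, ← mul_assoc]; exact hx _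
    intro z hz
    simpa using this z hz 1
  let g : S →ₐ[R] R' ⊗[R] A := (χ'.restrictScalars R).comp Algebra.TensorProduct.includeRight
  have hg : ∀ s : S, ∃ a : A, Ideal.Quotient.mk J a = ψ s ∧ g s - iA a ∈ J' := by
    intro s
    obtain ⟨a, ha⟩ := Ideal.Quotient.mk_surjective (ψ s)
    refine ⟨a, ha, ?_⟩
    rw [← Ideal.Quotient.eq]
    have := congrArg (fun f : R' ⊗[R] S →ₐ[R'] (R' ⊗[R] A) ⧸ J' => f ((1 : R') ⊗ₜ[R] s)) hχ'
    refine this.trans ?_
    simp [ψ', q, ← ha, Ideal.quotientMapₐ]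
  let ℓ : S → A := fun s => P (g s)
  have hdec : ∀ s, g s - iA (ℓ s) ∈ J' := by
    intro s
    obtain ⟨a, -, ha⟩ := hg s
    have h1 : ℓ s - a ∈ J := by
      have := hPJ _ ha
      rwa [map_sub, hP1] at this
    have := sub_mem ha (Ideal.mem_map_of_mem iA h1)
    rwa [map_sub, sub_sub, add_sub_cancel] at this
  have hmul : ∀ s t, ℓ (s * t) = ℓ s * ℓ t := by
    intro s t
    have hz : (g s - iA (ℓ s)) * (g t - iA (ℓ t)) = 0 := by
      have := Ideal.mul_mem_mul (hdec s) (hdec t)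
      rwa [← pow_two, hJ'] at this
    have h1 : g (s * t) = iA (ℓ s) * g t + iA (ℓ t) * g s - iA (ℓ s) * iA (ℓ t) := by
      rw [map_mul]; linear_combination hz
    show P (g (s * t)) = _
    rw [h1, ← map_mul iA (ℓ s), map_sub, map_add, hPmul, hPmul, hP1]
    show ℓ s * ℓ t + ℓ t * ℓ s - ℓ s * ℓ t = _
    ring
  have h1 : ℓ 1 = 1 := by
    show P (g 1) = 1
    rw [map_one, ← map_one iA, hP1]
  refine ⟨{ toFun := ℓ, map_one' := h1, map_mul' := hmul,
            map_zero' := by simp [ℓ],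
            map_add' := fun x y => by simp [ℓ],
            commutes' := fun r => by
              show P (g (algebraMap R S r)) = _
              rw [g.commutes, ← iA.commutes, hP1] }, ?_⟩
  refine AlgHom.ext fun s => ?_
  obtain ⟨a, ha, hga⟩ := hg s
  show Ideal.Quotient.mk J (ℓ s) = ψ s
  rw [← ha, Ideal.Quotient.eq]
  have := hPJ _ hga
  rwa [map_sub, hP1] at this

end Groth.Agent.S2095
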