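import Groth.Statements.S2096
import Groth.Agent.WEtReducedLib.Basic
import Groth.Agent.S0736
import Groth.Agent.S1974
-- import your own Groth.Agent.* helpers here

set_option autoImplicit false
set_option linter.style.haveILetI false
set_option backward.isDefEq.respectTransparency false
universe u
open CAlg
open scoped TensorProduct

namespace Groth.Agent.S2096

/-- Let `B` be a Noetherian ind-étale `A`-algebra (a filtered colimit of étale algebras) and `𝔭` a prime
of `A`. Then only finitely many primes of `B` lie over `𝔭`, the fibre ring `B ⊗ κ(𝔭)` is reduced of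
dimension zero, and each residue field extension `κ(𝔮)/κ(𝔭)` is separable algebraic. -/
theorem result {A B : Type u} [CommRing A] [CommRing B] [Algebra A B] (hB : EtPBC.IsIndEtale A B)
    [IsNoetherianRing B] (p : Ideal A) [p.IsPrime] :
    {q : PrimeSpectrum B | q.asIdeal.LiesOver p}.Finite ∧ IsReduced (p.Fiber B) ∧ ringKrullDim (p.Fiber B) ≤ 0 ∧
      ∀ (q : Ideal B) [q.IsPrime] [q.LiesOver p],
        @Algebra.IsSeparable p.ResidueField q.ResidueField _ _
          (Ideal.ResidueField.mapₐ p q (Algebra.ofId A B) (q.over_def p)).toRingHom.toAlgebra := by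
  haveI := Groth.Agent.S0736.result A B hB
  haveI : IsReduced (p.Fiber B) := Groth.Agent.WEtFieldLib.isReduced (K := p.ResidueField)
  haveI : Ring.KrullDimLE 0 (p.Fiber B) := Ring.KrullDimLE.mk₀ fun P hP => by
    haveI := hP
    refine Ideal.Quotient.maximal_of_isField P ⟨⟨0, 1, zero_ne_one⟩, fun a c => mul_comm a c, fun {b} hb => ?_⟩
    obtain ⟨b, rfl⟩ := Ideal.Quotient.mk_surjective b
    obtain ⟨x, hx⟩ := Groth.Agent.WEtFieldLib.forall_dvd (K := p.ResidueField) (B := p.Fiber B) b
    refine ⟨Ideal.Quotient.mk P x, ?_⟩
    rw [← map_mul, ← map_one (Ideal.Quotient.mk P), Ideal.Quotient.eq]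
    refine (hP.mem_or_mem (x := b) ?_).resolve_left fun h => hb (Ideal.Quotient.eq_zero_iff_mem.2 h)
    have : b * (b * x - 1) = 0 := by linear_combination -hx
    rw [this]; exact P.zero_mem
  haveI : IsNoetherianRing (p.Fiber B) := by
    let := (Algebra.TensorProduct.includeRight : B →ₐ[A] p.Fiber B).toRingHom.toAlgebra
    have : IsScalarTower A B (p.Fiber B) :=
      .of_algebraMap_eq' (Algebra.TensorProduct.includeRight : B →ₐ[A] p.Fiber B).comp_algebraMap.symm
    haveI : Algebra.EssFiniteType B (B ⊗[A] p.ResidueField) := inferInstance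
    haveI := Algebra.EssFiniteType.isNoetherianRing B (B ⊗[A] p.ResidueField)
    exact isNoetherianRing_of_ringEquiv (B ⊗[A] p.ResidueField)
      (Algebra.TensorProduct.comm A B p.ResidueField).toRingEquiv
  haveI : IsArtinianRing (p.Fiber B) := IsNoetherianRing.isArtinianRing_of_krullDimLE_zero
  refine ⟨?_, inferInstance, Ring.krullDimLE_iff.1 inferInstance, fun q _ _ => ?_⟩
  · have hfin : Finite (PrimeSpectrum (p.Fiber B)) := inferInstance
    haveI := Finite.of_equiv _ (PrimeSpectrum.preimageEquivFiber A B ⟨p, inferInstance⟩).symm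
    refine Set.Finite.subset (Set.toFinite (PrimeSpectrum.comap (algebraMap A B) ⁻¹' {⟨p, inferInstance⟩})) fun r hr => ?_
    exact PrimeSpectrum.ext (@Ideal.LiesOver.over _ _ _ _ _ r.asIdeal p hr).symm
  · letI : Algebra (Localization.AtPrime p) (Localization.AtPrime q) :=
      (Localization.localRingHom p q (algebraMap A B) (q.over_def p)).toAlgebra
    haveI : Localization.AtPrime.IsLiesOverAlgebra p q := ⟨rfl⟩
    have h := Groth.Agent.S1974.result A B p q
    convert h using 2
    refine Algebra.algebra_ext _ _ fun x => ?_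
    exact congrArg (fun g : p.ResidueField →+* q.ResidueField => g x)
      (Ideal.ResidueField.ringHom_ext (RingHom.ext fun r => by
        first
        | rfl
        | simp [RingHom.algebraMap_toAlgebra, ← IsScalarTower.algebraMap_apply, Algebra.ofId_apply]))

end Groth.Agent.S2096
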