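import Groth.Statements.S2097
import Mathlib.RingTheory.Noetherian.Nilpotent
import Mathlib.RingTheory.Smooth.Basic


-- import your own Groth.Agent.* helpers here

set_option autoImplicit false
universe u
open CAlg

namespace Groth.Agent.S2097

/-- Let `R → S` be smooth, `A` an `R`-algebra and `I ⊆ A` an ideal all of whose elements are nilpotent.
Every `R`-algebra map `S → A/I` lifts to an `R`-algebra map `S → A`. -/
theorem result {R S A : Type u} [CommRing R] [CommRing S] [Algebra R S] [Algebra.Smooth R S]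
    [CommRing A] [Algebra R A] (I : Ideal A) (hI : ∀ x ∈ I, IsNilpotent x) (g : S →ₐ[R] A ⧸ I) :
    ∃ f : S →ₐ[R] A, (Ideal.Quotient.mkₐ R I).comp f = g := by
  obtain ⟨n, φ, hφ, hk⟩ := Algebra.FinitePresentation.out (R := R) (A := S)
  obtain ⟨t, ht⟩ := hk
  choose a ha using fun i => Ideal.Quotient.mk_surjective (g (φ (MvPolynomial.X i)))
  let ψ : MvPolynomial (Fin n) R →ₐ[R] A := MvPolynomial.aeval a
  have hψ : (Ideal.Quotient.mkₐ R I).comp ψ = g.comp φ :=
    MvPolynomial.algHom_ext fun i => by simp [ψ, ha]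
  set J : Ideal A := Ideal.span (ψ '' t) with hJ
  have hJI : J ≤ I := by
    refine Ideal.span_le.2 ?_
    rintro _ ⟨p, hp, rfl⟩
    have h0 : φ p = 0 := by
      have : p ∈ RingHom.ker φ.toRingHom := ht ▸ Ideal.subset_span hp
      exact this
    have := DFunLike.congr_fun hψ p
    simp only [AlgHom.comp_apply, h0, map_zero, Ideal.Quotient.mkₐ_eq_mk] at this
    exact Ideal.Quotient.eq_zero_iff_mem.1 this
  have hJnil : IsNilpotent J := by
    refine (Ideal.FG.isNilpotent_iff_le_nilradical ⟨(t.finite_toSet.image ψ).toFinset, by simp [hJ]⟩).2 ?_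
    exact fun x hx => mem_nilradical.2 (hI x (hJI hx))
  let q : MvPolynomial (Fin n) R →ₐ[R] A ⧸ J := (Ideal.Quotient.mkₐ R J).comp ψ
  have hq : RingHom.ker φ.toRingHom ≤ RingHom.ker q.toRingHom := by
    rw [← ht]
    refine Ideal.span_le.2 fun p hp => ?_
    simp only [SetLike.mem_coe, RingHom.mem_ker]
    exact Ideal.Quotient.eq_zero_iff_mem.2 (Ideal.subset_span ⟨p, hp, rfl⟩)
  let g' : S →ₐ[R] A ⧸ J := AlgHom.liftOfSurjective φ hφ q hq
  obtain ⟨f, hf⟩ := Algebra.FormallySmooth.exists_lift J hJnil g'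
  refine ⟨f, AlgHom.ext fun s => ?_⟩
  obtain ⟨p, rfl⟩ := hφ s
  have h1 : Ideal.Quotient.mk J (f (φ p)) = Ideal.Quotient.mk J (ψ p) := by
    have := DFunLike.congr_fun hf (φ p)
    simpa [g', q] using this
  rw [Ideal.Quotient.eq] at h1
  rw [← AlgHom.comp_apply g φ, ← hψ]
  simp only [AlgHom.comp_apply, Ideal.Quotient.mkₐ_eq_mk]
  exact Ideal.Quotient.eq.2 (hJI h1)

end Groth.Agent.S2097
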