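import Groth.Statements.S2098
import Mathlib.RingTheory.Filtration
import Mathlib.Algebra.Module.FinitePresentation
import Mathlib.LinearAlgebra.StdBasis
import Mathlib.LinearAlgebra.Isomorphisms

set_option autoImplicit false
universe u
open CAlg

namespace Groth.Agent.S2098

/-- Let `R` be Noetherian, `I` an ideal inside the Jacobson radical and `u : N → M` a map of finite
`R`-modules. If for arbitrarily large `n` the induced map `N/IⁿN → M/IⁿM` has a left inverse, then
`u` has a left inverse. -/
theorem result {R M N : Type u} [CommRing R] [IsNoetherianRing R] (I : Ideal R)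
    (hI : I ≤ (⊥ : Ideal R).jacobson) [AddCommGroup M] [Module R M] [Module.Finite R M] [AddCommGroup N] [Module R N]
    [Module.Finite R N] (u : N →ₗ[R] M)
    (h : ∀ n₀ : ℕ, ∃ n, n₀ ≤ n ∧ ∃ s : (M ⧸ (I ^ n) • (⊤ : Submodule R M)) →ₗ[R] (N ⧸ (I ^ n) • (⊤ : Submodule R N)),
      ∀ x : N, s (Submodule.Quotient.mk (u x)) = Submodule.Quotient.mk x) :
    ∃ s : M →ₗ[R] N, s.comp u = LinearMap.id := by
  classical
  obtain ⟨a, π, hπ⟩ := Module.Finite.exists_fin' R M
  obtain ⟨b, k, hk⟩ := Submodule.fg_iff_exists_fin_generating_family.1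
    (IsNoetherian.noetherian (LinearMap.ker π))
  obtain ⟨l, g, hg⟩ := Submodule.fg_iff_exists_fin_generating_family.1
    (Module.Finite.fg_top (R := R) (M := N))
  choose c hc using fun j => hπ (u (g j))
  let v : Fin b ⊕ Fin l → (Fin a → R) := Sum.elim k c
  let Φ : (Fin a → N) →ₗ[R] (Fin b ⊕ Fin l → N) :=
    LinearMap.pi fun i => ∑ j, v i j • LinearMap.proj j
  let τ : Fin b ⊕ Fin l → N := Sum.elim 0 g
  have hΦ : ∀ t i, Φ t i = Fintype.linearCombination R t (v i) := by
    intro t i
    simp [Φ, Fintype.linearCombination_apply, LinearMap.sum_apply]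
  have hτ : (LinearMap.range Φ).mkQ τ = 0 := by
    rw [← Submodule.mem_bot R, ← Ideal.iInf_pow_smul_eq_bot_of_le_jacobson I hI, Submodule.mem_iInf]
    intro m
    obtain ⟨n, hmn, s, hs⟩ := h m
    choose t ht using fun j =>
      Submodule.mkQ_surjective _ (s (Submodule.Quotient.mk (π (Pi.single j 1))))
    have hlin : ∀ x : Fin a → R,
        Submodule.Quotient.mk (p := I ^ n • (⊤ : Submodule R N))
          (Fintype.linearCombination R t x) = s (Submodule.Quotient.mk (π x)) := by
      refine LinearMap.congr_fun (f := (Submodule.mkQ _).comp (Fintype.linearCombination R t))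
        (g := s.comp ((Submodule.mkQ _).comp π)) (LinearMap.pi_ext' fun j => LinearMap.ext_ring ?_)
      simpa using ht j
    have hmem : τ - Φ t ∈ I ^ n • (⊤ : Submodule R (Fin b ⊕ Fin l → N)) := by
      rw [← Finset.univ_sum_single (τ - Φ t)]
      refine Submodule.sum_mem _ fun i _ => ?_
      have hi : (τ - Φ t) i ∈ I ^ n • (⊤ : Submodule R N) := by
        rw [← Submodule.Quotient.mk_eq_zero, Pi.sub_apply, hΦ, Submodule.Quotient.mk_sub, hlin]
        rcases i with i | i
        · have : π (k i) = 0 := LinearMap.mem_ker.1 (hk ▸ Submodule.subset_span ⟨i, rfl⟩)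
          simp [τ, v, this]
        · simp [τ, v, hc, hs]
      have := Submodule.mem_map_of_mem (f := LinearMap.single R (fun _ => N) i) hi
      rw [Submodule.map_smul''] at this
      exact Submodule.smul_mono le_rfl le_top this
    have h2 := Submodule.mem_map_of_mem (f := (LinearMap.range Φ).mkQ) hmem
    rw [Submodule.map_smul'', map_sub, Submodule.mkQ_apply _ (Φ t),
      (Submodule.Quotient.mk_eq_zero _).2 (LinearMap.mem_range_self Φ t), sub_zero] at h2
    exact Submodule.smul_mono (Ideal.pow_le_pow_right hmn) le_top h2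
  obtain ⟨t, ht⟩ := (Submodule.Quotient.mk_eq_zero _).1 hτ
  have hker : LinearMap.ker π ≤ LinearMap.ker (Fintype.linearCombination R t) := by
    rw [← hk, Submodule.span_le]
    rintro _ ⟨i, rfl⟩
    have := congrFun ht (Sum.inl i)
    rw [hΦ] at this
    exact this
  refine ⟨(LinearMap.ker π).liftQ _ hker ∘ₗ (π.quotKerEquivOfSurjective hπ).symm.toLinearMap,
    LinearMap.ext_on_range hg fun j => ?_⟩
  have hj := congrFun ht (Sum.inr j)
  rw [hΦ] at hj
  have hsymm : (π.quotKerEquivOfSurjective hπ).symm (u (g j)) = Submodule.Quotient.mk (c j) := by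
    rw [LinearEquiv.symm_apply_eq]
    exact (hc j).symm
  simp only [LinearMap.comp_apply, LinearEquiv.coe_coe, hsymm, Submodule.liftQ_apply,
    LinearMap.id_apply]
  exact hj

end Groth.Agent.S2098
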