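import Groth.Statements.S2101
import Mathlib

set_option autoImplicit false
universe u
open CAlg

namespace Groth.Agent.S2101

section
open RingTheory.Sequence

theorem weaklyRegular_ofFn_iff {A : Type u} [CommRing A] {r : ℕ} (g : Fin r → A) :
    IsWeaklyRegular A (List.ofFn g) ↔
      ∀ i : Fin r, ∀ a, a * g i ∈ Ideal.span (g '' Set.Iio i) → a ∈ Ideal.span (g '' Set.Iio i) := by
  have hI : ∀ i : Fin r, Ideal.ofList ((List.ofFn g).take i.val) * ⊤ =
      Ideal.span (g '' Set.Iio i) := fun i => by
    rw [Ideal.mul_top]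
    refine congrArg Ideal.span (Set.ext fun x => ?_)
    change x ∈ (List.ofFn g).take i.val ↔ x ∈ g '' Set.Iio i
    rw [List.mem_take_iff_getElem]
    constructor
    · rintro ⟨j, hj, rfl⟩
      rw [lt_min_iff, List.length_ofFn] at hj
      exact ⟨⟨j, hj.2⟩, hj.1, by simp⟩
    · rintro ⟨j, hj, rfl⟩
      exact ⟨j.val, lt_min hj (by simp), by simp⟩
  rw [isWeaklyRegular_iff_Fin]
  constructor
  · intro h i a ha
    have h' := h ⟨i.val, by simp⟩
    rw [isSMulRegular_quotient_iff_mem_of_smul_mem] at h'
    have := h' a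
    simp only [Fin.getElem_fin, List.getElem_ofFn, smul_eq_mul, hI i] at this
    rw [mul_comm] at ha
    exact this ha
  · intro h i
    rw [isSMulRegular_quotient_iff_mem_of_smul_mem]
    intro a ha
    have hi : i.val < r := by simpa using i.isLt
    simp only [Fin.getElem_fin, List.getElem_ofFn, smul_eq_mul] at ha ⊢
    have hI' : Ideal.ofList ((List.ofFn g).take i.val) * ⊤ = Ideal.span (g '' Set.Iio ⟨i.val, hi⟩) := hI ⟨i.val, hi⟩
    rw [hI'] at ha ⊢
    rw [mul_comm] at ha
    exact h ⟨i.val, hi⟩ a ha

variable {R : Type u} [CommRing R] {r : ℕ} (f : Fin r → R)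

/-- `f i` is a nonzerodivisor modulo the `f j`, `j ∈ J`. -/
def NZ (J : Finset (Fin r)) (i : Fin r) : Prop :=
  ∀ a, a * f i ∈ Ideal.span (f '' (J : Set (Fin r))) → a ∈ Ideal.span (f '' (J : Set (Fin r)))

theorem nz_all (h : ∀ J i, (∀ j ∈ J, j < i) → NZ f J i) : ∀ J i, i ∉ J → NZ f J i := by
  intro J
  induction J using Finset.strongInduction with
  | H J ih =>
    intro i hi a ha
    by_cases hJ : ∀ j ∈ J, j < i
    · exact h J i hJ a ha
    push Not at hJ
    obtain ⟨j₀, hj₀, hij₀⟩ := hJ
    let k := J.max' ⟨j₀, hj₀⟩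
    have hk : k ∈ J := J.max'_mem _
    have hik : i < k := lt_of_le_of_ne (hij₀.trans (J.le_max' _ hj₀)) fun e => hi (e ▸ hk)
    let J' := J.erase k
    have hJJ' : f '' (J : Set (Fin r)) = insert (f k) (f '' (J' : Set (Fin r))) := by
      rw [← Set.image_insert_eq, ← Finset.coe_insert, Finset.insert_erase hk]
    rw [hJJ', Ideal.mem_span_insert] at ha
    obtain ⟨b, j1, hj1, hb⟩ := ha
    have h1 : b * f k ∈ Ideal.span (f '' ((insert i J' : Finset (Fin r)) : Set (Fin r))) := by
      rw [Finset.coe_insert, Set.image_insert_eq, Ideal.mem_span_insert]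
      exact ⟨a, -j1, neg_mem hj1, by rw [hb]; ring⟩
    have h2 := h (insert i J') k (by
      intro j hj
      rcases Finset.mem_insert.mp hj with rfl | hj
      · exact hik
      · exact lt_of_le_of_ne (J.le_max' _ (Finset.mem_of_mem_erase hj)) (Finset.ne_of_mem_erase hj)) b h1
    rw [Finset.coe_insert, Set.image_insert_eq, Ideal.mem_span_insert] at h2
    obtain ⟨c, j2, hj2, hc⟩ := h2
    have h3 : (a - c * f k) * f i ∈ Ideal.span (f '' (J' : Set (Fin r))) := by
      have : (a - c * f k) * f i = j1 + j2 * f k := by rw [sub_mul, hb, hc]; ring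
      rw [this]
      exact add_mem hj1 (Ideal.mul_mem_right _ _ hj2)
    have h4 := ih J' (Finset.erase_ssubset hk) i (fun e => hi (Finset.mem_of_mem_erase e)) _ h3
    rw [hJJ', Ideal.mem_span_insert]
    exact ⟨c, _, h4, by ring⟩

/-- The products `f i * X i`. -/
noncomputable def pr (i : Fin r) : MvPolynomial (Fin r) R := MvPolynomial.C (f i) * MvPolynomial.X i

open MvPolynomial in
theorem mem_span_pr_iff (J : Finset (Fin r)) (p : MvPolynomial (Fin r) R) :
    p ∈ Ideal.span (pr f '' (J : Set (Fin r))) ↔
      ∀ ν : Fin r →₀ ℕ, p.coeff ν ∈ Ideal.span (f '' ((J.filter fun j => ν j ≠ 0 : Finset (Fin r)) : Set (Fin r))) := by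
  classical
  constructor
  · intro hp
    induction hp using Submodule.span_induction with
    | zero => intro ν; simp
    | add x y _ _ hx hy => intro ν; rw [coeff_add]; exact add_mem (hx ν) (hy ν)
    | smul q x _ hx =>
      intro ν
      rw [smul_eq_mul, coeff_mul]
      refine Ideal.sum_mem _ fun d hd => Ideal.mul_mem_left _ _ ?_
      refine Ideal.span_mono (Set.image_mono ?_) (hx d.2)
      intro j hj
      rw [Finset.mem_coe, Finset.mem_filter] at hj ⊢
      refine ⟨hj.1, fun h0 => hj.2 ?_⟩
      have h5 := congrArg (fun e : Fin r →₀ ℕ => e j) (Finset.HasAntidiagonal.mem_antidiagonal.mp hd)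
      simp only [Finsupp.add_apply] at h5
      omega
    | mem x hx =>
      obtain ⟨j, hj, rfl⟩ := hx
      intro ν
      rw [pr, coeff_C_mul, coeff_X']
      split_ifs with h
      · rw [mul_one]
        refine Ideal.subset_span ⟨j, ?_, rfl⟩
        rw [Finset.mem_coe, Finset.mem_filter]
        refine ⟨hj, ?_⟩
        rw [← h]
        simp
      · rw [mul_zero]; exact zero_mem _
  · intro h
    rw [p.as_sum]
    refine Ideal.sum_mem _ fun ν _ => ?_
    have hν := h ν
    generalize p.coeff ν = c at hν
    induction hν using Submodule.span_induction with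
    | zero => simp
    | add x y _ _ hx hy => rw [map_add]; exact add_mem hx hy
    | smul q x _ hx => rw [smul_eq_mul, ← C_mul_monomial]; exact Ideal.mul_mem_left _ _ hx
    | mem x hx =>
      obtain ⟨j, hj, rfl⟩ := hx
      rw [Finset.mem_coe, Finset.mem_filter] at hj
      have he : monomial ν (f j) = monomial (ν - Finsupp.single j 1) 1 * pr f j := by
        rw [pr, X, C_mul_monomial, monomial_mul, one_mul, mul_one]
        congr 2
        refine (tsub_add_cancel_of_le ?_).symm
        rw [Finsupp.single_le_iff]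
        exact Nat.one_le_iff_ne_zero.mpr hj.2
      rw [he]
      exact Ideal.mul_mem_left _ _ (Ideal.subset_span ⟨j, hj.1, rfl⟩)

end

/-- For elements `f_1, …, f_r` generating a proper ideal, all reorderings are regular sequences in `R`
if and only if the products `f_i x_i` form a regular sequence in `R[x_1, …, x_r]`. -/
theorem result {R : Type u} [CommRing R] {r : ℕ} (f : Fin r → R)
    (hf : Ideal.span (Set.range f) ≠ ⊤) :
    (∀ σ : Equiv.Perm (Fin r), RingTheory.Sequence.IsRegular R (List.ofFn (f ∘ σ))) ↔
      RingTheory.Sequence.IsRegular (MvPolynomial (Fin r) R)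
        (List.ofFn fun i => MvPolynomial.C (f i) * MvPolynomial.X i) := by
  classical
  have hperm : (∀ σ : Equiv.Perm (Fin r), RingTheory.Sequence.IsRegular R (List.ofFn (f ∘ σ))) ↔
      ∀ J i, i ∉ J → NZ f J i := by
    constructor
    · intro h J i hi a ha
      let key : Fin r → ℕ := fun j => if j ∈ J then 0 else if j = i then 1 else 2
      let σ := Tuple.sort key
      have hm : Monotone (key ∘ σ) := Tuple.monotone_sort key
      let k := σ.symm i
      have hk : σ k = i := σ.apply_symm_apply i
      have hki : key (σ k) = 1 := by rw [hk]; simp [key, hi]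
      have hJ : (f ∘ σ) '' Set.Iio k = f '' (J : Set (Fin r)) := by
        rw [Set.image_comp]
        congr 1
        ext x
        constructor
        · rintro ⟨j, hj, rfl⟩
          have h1 : key (σ j) ≤ key (σ k) := hm (le_of_lt hj)
          rw [hki] at h1
          by_contra hx
          have hne : σ j ≠ i := fun e => (ne_of_lt (hj : j < k)) (σ.injective (e.trans hk.symm))
          simp only [Finset.mem_coe] at hx
          simp [key, hx, hne] at h1
        · intro hx
          refine ⟨σ.symm x, ?_, σ.apply_symm_apply x⟩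
          by_contra hle
          have h1 : key (σ k) ≤ key (σ (σ.symm x)) := hm (not_lt.mp (fun hlt => hle hlt))
          rw [hki, σ.apply_symm_apply] at h1
          simp only [Finset.mem_coe] at hx
          simp [key, hx] at h1
      have h2 := (weaklyRegular_ofFn_iff (f ∘ σ)).mp (h σ).toIsWeaklyRegular k a
      rw [hJ, Function.comp_apply, hk] at h2
      exact h2 ha
    · intro h σ
      refine ⟨(weaklyRegular_ofFn_iff (f ∘ σ)).mpr fun i a ha => ?_, ?_⟩
      · have he : (f ∘ σ) '' Set.Iio i = f '' (((Finset.Iio i).image σ : Finset (Fin r)) : Set (Fin r)) := by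
          rw [Set.image_comp, Finset.coe_image, Finset.coe_Iio]
        rw [he] at ha ⊢
        exact h _ (σ i) (by simp) a ha
      · rw [smul_eq_mul, Ideal.mul_top]
        intro e
        apply hf
        rw [e, Ideal.ofList]
        congr 1
        ext x
        change x ∈ Set.range f ↔ x ∈ List.ofFn (f ∘ σ)
        rw [List.mem_ofFn, ← σ.surjective.range_comp f]
        rfl
  rw [hperm]
  constructor
  · intro h
    refine ⟨(weaklyRegular_ofFn_iff (pr f)).mpr fun i p hp => ?_, ?_⟩
    · have hc : (Set.Iio i : Set (Fin r)) = ((Finset.Iio i : Finset (Fin r)) : Set (Fin r)) := (Finset.coe_Iio i).symm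
      rw [hc, mem_span_pr_iff] at hp ⊢
      intro ν
      have h1 := hp (ν + Finsupp.single i 1)
      rw [pr, mul_comm (MvPolynomial.C (f i)), ← mul_assoc, mul_comm _ (MvPolynomial.C (f i)),
        MvPolynomial.coeff_C_mul, MvPolynomial.coeff_mul_X, mul_comm] at h1
      have he : (Finset.Iio i).filter (fun j => ((ν + Finsupp.single i 1 : Fin r →₀ ℕ) : Fin r → ℕ) j ≠ 0) = (Finset.Iio i).filter (fun j => ν j ≠ 0) := by
        refine Finset.filter_congr fun j hj => ?_
        rw [Finsupp.add_apply, Finsupp.single_eq_of_ne (ne_of_lt (Finset.mem_Iio.mp hj)), add_zero]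
      rw [he] at h1
      exact h _ i (by simp) _ h1
    · rw [smul_eq_mul, Ideal.mul_top]
      intro e
      haveI : Nontrivial R := by
        by_contra hn
        rw [not_nontrivial_iff_subsingleton] at hn
        exact hf (Subsingleton.elim _ _)
      have h1 : Ideal.ofList (List.ofFn (pr f)) ≤ RingHom.ker (MvPolynomial.constantCoeff (σ := Fin r) (R := R)) := by
        rw [Ideal.ofList, Ideal.span_le]
        rintro x (hx : x ∈ List.ofFn (pr f))
        obtain ⟨j, rfl⟩ := List.mem_ofFn.mp hx
        simp [pr]
      exact RingHom.ker_ne_top _ (top_le_iff.mp (le_of_eq_of_le e h1))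
  · intro h
    refine nz_all f fun J i hJ a ha => ?_
    let ν : Fin r →₀ ℕ := ∑ j ∈ J, Finsupp.single j 1
    have hν : ∀ j, ν j = if j ∈ J then 1 else 0 := fun j => by
      simp [ν, Finsupp.finset_sum_apply, Finsupp.single_apply]
    have hfil : (Finset.Iio i).filter (fun j => ν j ≠ 0) = J := by
      ext j
      simp only [Finset.mem_filter, Finset.mem_Iio, hν, ne_eq, ite_eq_right_iff, one_ne_zero, imp_false, not_not]
      exact ⟨fun hj => hj.2, fun hj => ⟨hJ j hj, hj⟩⟩
    have hp : MvPolynomial.monomial ν a * pr f i ∈ Ideal.span (pr f '' ((Finset.Iio i : Finset (Fin r)) : Set (Fin r))) := by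
      rw [mem_span_pr_iff]
      intro μ
      rw [pr, MvPolynomial.X, MvPolynomial.C_mul_monomial, MvPolynomial.monomial_mul, MvPolynomial.coeff_monomial,
        mul_one]
      split_ifs with hμ
      · refine Ideal.span_mono (Set.image_mono (Finset.coe_subset.mpr ?_)) ha
        intro j hj
        rw [Finset.mem_filter, Finset.mem_Iio, ← hμ]
        refine ⟨hJ j hj, ?_⟩
        simp [hν, hj]
      · exact zero_mem _
    have h2 := (weaklyRegular_ofFn_iff (pr f)).mp h.toIsWeaklyRegular i (MvPolynomial.monomial ν a)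
    rw [← Finset.coe_Iio] at h2
    have h3 := (mem_span_pr_iff f _ _).mp (h2 hp) ν
    rwa [MvPolynomial.coeff_monomial, if_pos rfl, hfil] at h3

end Groth.Agent.S2101
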