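import Groth.Statements.S2112
import Groth.Agent.GeomIrrLib.Basic
-- import your own Groth.Agent.* helpers here

set_option autoImplicit false
universe u
open CAlg

set_option linter.style.haveILetI false

namespace Groth.Agent.S2112

open TensorProduct in
/-- Let `k` be a separably closed field and `R`, `S` two `k`-algebras each having exactly one minimal
prime ideal. Then `R ⊗_k S` has exactly one minimal prime ideal. -/
theorem result {k R S : Type u} [Field k] [IsSepClosed k] [CommRing R] [CommRing S]
    [Algebra k R] [Algebra k S] (hR : CAlgX.HasUniqueMinimalPrime R) (hS : CAlgX.HasUniqueMinimalPrime S) :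
    CAlgX.HasUniqueMinimalPrime (R ⊗[k] S) := by
  classical
  have key : ∀ (A : Type u) [CommRing A], CAlgX.HasUniqueMinimalPrime A ↔ IrreducibleSpace (PrimeSpectrum A) := by
    intro A _
    rw [PrimeSpectrum.irreducibleSpace_iff_isPrime_nilradical]
    constructor
    · rintro ⟨p, hp, hu⟩
      have : minimalPrimes A = {p} := Set.eq_singleton_iff_unique_mem.2 ⟨hp, hu⟩
      have e : nilradical A = p := by
        rw [nilradical, Ideal.zero_eq_bot, ← Ideal.sInf_minimalPrimes]
        exact (congrArg sInf this).trans (sInf_singleton)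
      rw [e]; exact hp.1.1
    · intro hprime
      refine ⟨nilradical A, ⟨⟨hprime, bot_le⟩, fun q hq _ => @nilradical_le_prime A _ q hq.1⟩, fun q hq => ?_⟩
      exact le_antisymm (hq.2 ⟨hprime, bot_le⟩ (@nilradical_le_prime A _ q hq.1.1)) (@nilradical_le_prime A _ q hq.1.1)
  rw [key] at hR hS ⊢
  let f := AlgebraicGeometry.Spec.map (CommRingCat.ofHom (algebraMap k R))
  let g := AlgebraicGeometry.Spec.map (CommRingCat.ofHom (algebraMap k S))
  haveI : IrreducibleSpace ↥(ConnBC.BC f (SeparableClosure k)) := by
    rw [GeomIrrLib.irreducibleSpace_bc_iff]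
    let e : k ≃ₐ[k] SeparableClosure k := AlgEquiv.ofBijective (Algebra.ofId k _)
      ⟨(algebraMap k (SeparableClosure k)).injective, IsSepClosed.algebraMap_surjective k _⟩
    let e2 : R ≃+* SeparableClosure k ⊗[k] R :=
      ((Algebra.TensorProduct.lid k R).symm.trans (Algebra.TensorProduct.congr e AlgEquiv.refl)).toRingEquiv
    exact (PrimeSpectrum.homeomorphOfRingEquiv e2).irreducibleSpace_iff.1 hR
  haveI : AlgebraicGeometry.GeometricallyIrreducible f := GeomIrrLib.gi_of_irreducible_sepClosure f
  haveI : AlgebraicGeometry.UniversallyOpen f := inferInstance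
  haveI : IrreducibleSpace ↥(AlgebraicGeometry.Spec (CommRingCat.of S)) := hS
  haveI h : IrreducibleSpace ↥(CategoryTheory.Limits.pullback f g) := inferInstance
  exact (AlgebraicGeometry.Scheme.homeoOfIso (AlgebraicGeometry.pullbackSpecIso k R S)).irreducibleSpace_iff.1 h

end Groth.Agent.S2112
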