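import Groth.Statements.S2113
import Mathlib.RingTheory.Jacobson.Ring
import Mathlib.RingTheory.Ideal.KrullsHeightTheorem

set_option autoImplicit false
universe u
open CAlg

namespace Groth.Agent.S2113

/-- A Noetherian ring in which each prime is maximal or else lies below infinitely many primes is a
Jacobson ring. -/
theorem result {R : Type u} [CommRing R] [IsNoetherianRing R]
    (h : ∀ (p : Ideal R) [p.IsPrime], p.IsMaximal ∨ {q : PrimeSpectrum R | p ≤ q.asIdeal}.Infinite) :
    IsJacobsonRing R := by
  rw [isJacobsonRing_iff_prime_eq]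
  intro P
  induction P using IsNoetherian.induction with
  | hgt P ih =>
    intro hP
    refine le_antisymm (fun x hx => ?_) Ideal.le_jacobson
    by_contra hxP
    rcases h P with hmax | hinf
    · rw [Ideal.jacobson_eq_self_of_isMaximal] at hx
      exact hxP hx
    have hxmem : ∀ q : Ideal R, q.IsPrime → P < q → x ∈ q := fun q hq hlt => by
      rw [← ih q hlt hq]
      exact Ideal.jacobson_mono hlt.le hx
    let M := Ideal.minimalPrimes (P ⊔ Ideal.span {x})
    have hM : M.Finite := Ideal.finite_minimalPrimes_of_isNoetherianRing R _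
    apply hinf
    refine (((Set.finite_singleton P).union hM).preimage
      (Function.Injective.injOn fun a b hab => PrimeSpectrum.ext hab)).subset ?_
    intro q hq
    have hq : P ≤ q.asIdeal := hq
    rcases hq.eq_or_lt with heq | hlt
    · exact Or.inl heq.symm
    refine Or.inr ?_
    let M' := {Q ∈ M | Q ≤ q.asIdeal}
    have hM' : M'.Finite := hM.subset fun Q hQ => hQ.1
    have hle : P ⊔ Ideal.span {x} ≤ q.asIdeal :=
      sup_le hq ((Ideal.span_singleton_le_iff_mem _).2 (hxmem _ q.2 hlt))
    obtain ⟨Q₀, hQ₀, hQ₀q⟩ := Ideal.exists_minimalPrimes_le hle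
    have hcov : (q.asIdeal : Set R) ⊆ ⋃ Q ∈ hM'.toFinset, (Q : Set R) := by
      intro y hy
      simp only [Set.mem_iUnion, hM'.mem_toFinset]
      by_cases hyP : y ∈ P
      · exact ⟨Q₀, ⟨hQ₀, hQ₀q⟩, (le_sup_left.trans hQ₀.1.2) hyP⟩
      obtain ⟨p, hp, hpq⟩ := Ideal.exists_minimalPrimes_le
        (sup_le hq ((Ideal.span_singleton_le_iff_mem _).2 hy))
      have hPp : P ≤ p := le_sup_left.trans hp.1.2
      have hyp : y ∈ p := hp.1.2 (Ideal.mem_sup_right (Ideal.mem_span_singleton_self y))
      have hlt' : P < p := lt_of_le_of_ne hPp fun e => hyP (e ▸ hyp)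
      have := hp.isPrime
      obtain ⟨Q, hQ, hQp⟩ := Ideal.exists_minimalPrimes_le
        (sup_le hPp ((Ideal.span_singleton_le_iff_mem _).2 (hxmem p hp.isPrime hlt')))
      have := hQ.isPrime
      have hPQ : P ≤ Q := le_sup_left.trans hQ.1.2
      let f := Ideal.Quotient.mk P
      have hker : ∀ J : Ideal R, P ≤ J → (J.map f).comap f = J := fun J hJ => by
        rw [Ideal.comap_map_of_surjective _ Ideal.Quotient.mk_surjective, ← RingHom.ker_eq_comap_bot,
          Ideal.mk_ker, sup_of_le_left hJ]
      have hp' : (p.map f).IsPrime :=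
        Ideal.map_isPrime_of_surjective Ideal.Quotient.mk_surjective (by rwa [Ideal.mk_ker])
      have hQ' : (Q.map f).IsPrime :=
        Ideal.map_isPrime_of_surjective Ideal.Quotient.mk_surjective (by rwa [Ideal.mk_ker])
      have e : Q = p := by
        by_contra hne
        have h1 : Q.map f < p.map f := lt_of_le_of_ne (Ideal.map_mono hQp) fun e => hne (by
          rw [← hker Q hPQ, e, hker p hPp])
        have h0 : ⊥ < Q.map f := bot_lt_iff_ne_bot.2 fun e => by
          have : x ∈ (Q.map f).comap f := by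
            rw [hker Q hPQ]
            exact hQ.1.2 (Ideal.mem_sup_right (Ideal.mem_span_singleton_self x))
          rw [e, ← RingHom.ker_eq_comap_bot, Ideal.mk_ker] at this
          exact hxP this
        have : (⊥ : Ideal (R ⧸ P)).IsPrime := Ideal.isPrime_bot
        have a1 := Ideal.height_strict_mono_of_isPrime_of_isPrime h0
        have a2 := Ideal.height_strict_mono_of_isPrime_of_isPrime h1
        have a3 : (p.map f).height ≤ 1 := Ideal.map_height_le_one_of_mem_minimalPrimes hp
        have a4 : (Q.map f).height = 0 := Order.lt_one_iff.1 (a2.trans_le a3)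
        exact not_lt_zero (a4 ▸ a1)
      exact ⟨Q, ⟨hQ, hQp.trans hpq⟩, e ▸ hyp⟩
    obtain ⟨Q, hQ, hqQ⟩ := (Ideal.subset_union_prime Q₀ Q₀ (fun i hi _ _ =>
      (hM'.mem_toFinset.1 hi).1.isPrime)).1 hcov
    rw [hM'.mem_toFinset] at hQ
    change q.asIdeal ∈ M
    rw [le_antisymm hqQ hQ.2]
    exact hQ.1

end Groth.Agent.S2113
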