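import Groth.Statements.S2114
import Groth.Agent.NormalLib.Transfer
import Mathlib.RingTheory.ZariskisMainTheorem

set_option autoImplicit false
universe u
open CAlg

namespace Groth.Agent.S2114

/-- Let `R ⊆ S` be an extension of domains which is of finite type and quasi-finite, with `R` Noetherian
and N-2 (integral closures in finite extensions of the fraction field are finite). Then `S` is N-2. -/
theorem result {R S : Type u} [CommRing R] [IsDomain R] [IsNoetherianRing R] [CommRing S]
    [IsDomain S] [Algebra R S] (hinj : Function.Injective (algebraMap R S)) [Algebra.FiniteType R S]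
    [Algebra.QuasiFinite R S] (hR : CAlg.IsN2 R) : CAlg.IsN2 S := by
  classical
  choose S' hS' r hrp hbij using fun p : PrimeSpectrum S =>
    Algebra.QuasiFiniteAt.exists_fg_and_exists_notMem_and_awayMap_bijective (R := R) p.asIdeal
  let f : PrimeSpectrum S → S := fun p => (r p : S)
  have hf : Ideal.span (Set.range f) = ⊤ := by
    by_contra hne
    obtain ⟨M, hM, hle⟩ := Ideal.exists_le_maximal _ hne
    exact hrp ⟨M, hM.isPrime⟩ (hle (Ideal.subset_span ⟨⟨M, hM.isPrime⟩, rfl⟩))
  obtain ⟨t, ht, htop⟩ := (Ideal.span_eq_top_iff_finite _).1 hf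
  choose p hp using fun x : (t : Set S) => ht x.2
  have hne : ∀ x : (t : Set S), f (p x) ≠ 0 := fun x h0 =>
    hrp (p x) (by rw [show (r (p x) : S) = 0 from h0]; exact zero_mem _)
  have hrange : Ideal.span (Set.range fun x : (t : Set S) => f (p x)) = ⊤ := by
    rw [show (Set.range fun x : (t : Set S) => f (p x)) = (t : Set S) by
      ext y
      exact ⟨fun ⟨x, hx⟩ => (show y = (x : S) from hx.symm.trans (hp x)) ▸ x.2, fun hy => ⟨⟨y, hy⟩, hp ⟨y, hy⟩⟩⟩]
    exact htop
  have hdom : ∀ x : (t : Set S), IsDomain (Localization.Away (f (p x))) := fun x =>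
    IsLocalization.isDomain_localization (powers_le_nonZeroDivisors_of_noZeroDivisors (hne x))
  refine NormalLib.isN2_of_span_eq_top _ hrange (fun x => Localization.Away (f (p x))) fun x => ?_
  let q := p x
  have : Module.Finite R (S' q) := Module.Finite.iff_fg.2 (hS' q)
  have hN2 : CAlg.IsN2 (S' q) := NormalLib.isN2_of_finite_injective (R := R)
    (fun a b h => hinj (congrArg Subtype.val h)) hR
  have : IsDomain (Localization.Away (r q)) := IsLocalization.isDomain_localization
    (powers_le_nonZeroDivisors_of_noZeroDivisors fun h0 => hne x (congrArg Subtype.val h0))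
  exact NormalLib.isN2_of_ringEquiv (RingEquiv.ofBijective (Localization.awayMap (S' q).val.toRingHom (r q)) (hbij q))
    (NormalLib.isN2_of_isLocalization (Submonoid.powers (r q)) (Localization.Away (r q)) hN2)

end Groth.Agent.S2114
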