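import Groth.Statements.S2115
import Groth.Agent.LimHomLib.ExtendFP
-- import your own Groth.Agent.* helpers here

set_option autoImplicit false
set_option backward.isDefEq.respectTransparency false
set_option linter.all false
universe u
open CategoryTheory AlgebraicGeometry
open Mor

namespace Groth.Agent.S2115

open CategoryTheory CategoryTheory.Limits AlgebraicGeometry

/-- Let `X` be quasi-compact and quasi-separated, `F` a quasi-coherent `O_X`-module, `U ⊆ X` a
quasi-compact open and `G` a finitely presented `O_U`-module with a map `φ : G → F|_U`. Then there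
are a finitely presented `O_X`-module `G'` with a map `φ' : G' → F` and an isomorphism `G'|_U ≅ G`
identifying `φ'|_U` with `φ`. -/
theorem result (X : Scheme.{u}) [CompactSpace X] [QuasiSeparatedSpace X]
    (F : X.Modules) (hF : Coh.IsQCoh F) (U : X.Opens) (hU : IsCompact (U : Set X)) (G : (U : Scheme.{u}).Modules)
    (hG : CohB1.IsFP G) (φ : G ⟶ F.restrict U.ι) :
    ∃ (G' : X.Modules) (φ' : G' ⟶ F) (e : G'.restrict U.ι ≅ G), CohB1.IsFP G' ∧
      e.hom ≫ φ = (Scheme.Modules.restrictFunctor U.ι).map φ' := by
  haveI := hF
  haveI : Coh.IsQCoh G := by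
    haveI : SheafOfModules.IsFinitePresentation (R := (U : Scheme.{u}).ringCatSheaf) G := hG
    exact (inferInstance : SheafOfModules.IsQuasicoherent (R := (U : Scheme.{u}).ringCatSheaf) G)
  exact LimHomLib.exists_fp_extension U hU F G hG φ

end Groth.Agent.S2115
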