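import Groth.Statements.S2117
import Groth.Agent.CohenLib.DerExt
import Mathlib.Algebra.Algebra.ZMod
import Groth.Agent.CohenLib.GeomRed
import Groth.Agent.CohenLib.FSSubfield
import Groth.Agent.CohenLib.FSField
-- import your own Groth.Agent.* helpers here

set_option autoImplicit false
universe u
open CAlg

namespace Groth.Agent.S2117

/-- Let k be a field of characteristic p > 0 and K a field extension of k. Then K is geometrically
reduced over k (equivalently, K/k is separable: every finitely generated subextension is separably
generated) if and only if the natural base-change map K ⊗_k Ω_{k/ℤ} → Ω_{K/ℤ} on absolute Kähler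
differentials is injective. -/
theorem result {k K : Type u} [Field k] [Field K] [Algebra k K] (p : ℕ)
    [Fact p.Prime] [CharP k p] :
    Algebra.IsGeometricallyReduced k K ↔ Function.Injective (KaehlerDifferential.mapBaseChange ℤ k K) := by
  constructor
  · intro h
    haveI := CohenLib.formallySmooth_of_isGeometricallyReduced k K
    rw [injective_iff_map_eq_zero]
    intro z hz
    obtain ⟨w, rfl⟩ := (Algebra.H1Cotangent.exact_δ_mapBaseChange ℤ k K z).1 hz
    rw [Subsingleton.elim w 0, map_zero]
  · intro h
    haveI : CharP K p := charP_of_injective_algebraMap (algebraMap k K).injective p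
    letI : Algebra (ZMod p) k := ZMod.algebra k p
    letI : Algebra (ZMod p) K := ZMod.algebra K p
    haveI : IsScalarTower (ZMod p) k K := IsScalarTower.of_algebraMap_eq fun x ↦ (DFunLike.congr_fun
      (RingHom.ext_zmod (algebraMap (ZMod p) K) ((algebraMap k K).comp (algebraMap (ZMod p) k))) x)
    have hext := (CohenLib.injective_lTensor_iff ℤ k K K).1
      (Module.Flat.lTensor_preserves_injective_linearMap _ h)
    haveI : Algebra.FormallySmooth k K := CohenLib.formallySmooth_of_derivation_extends (ZMod p) fun D ↦ by
      obtain ⟨D', hD'⟩ := hext (D.restrictScalars ℤ)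
      refine ⟨Derivation.mk' (D'.toAddMonoidHom.toZModLinearMap p) D'.leibniz, fun c ↦ hD' c⟩
    exact CohenLib.isGeometricallyReduced_of_formallySmooth

end Groth.Agent.S2117
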