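import Groth.Statements.S2123
import Mathlib
import Mathlib
-- import your own Groth.Agent.* helpers here

set_option autoImplicit false
universe u
open CategoryTheory AlgebraicGeometry
open Mor

namespace Groth.Agent.S2123

/-- Let `X` be an integral separated scheme and `x, y` points such that the closure of `x` is not
contained in the closure of `y`. Then, inside the function field of `X`, the local ring at `x` is
not contained in the local ring at `y`. -/
theorem result (X : Scheme.{u}) [IsIntegral X] [X.IsSeparated] (x y : X)
    (h : ¬ closure ({x} : Set X) ⊆ closure {y}) :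
    ¬ Set.range (X.presheaf.stalkSpecializes (genericPoint_specializes x)) ⊆
        Set.range (X.presheaf.stalkSpecializes (genericPoint_specializes y)) := by
  intro hsub
  let ιx := X.presheaf.stalkSpecializes (genericPoint_specializes x)
  let ιy := X.presheaf.stalkSpecializes (genericPoint_specializes y)
  have hinj : Function.Injective ιy.hom := IsFractionRing.injective (X.presheaf.stalk y) X.functionField
  let e : X.presheaf.stalk y ≃+* ιy.hom.range := RingEquiv.ofBijective ιy.hom.rangeRestrict
    ⟨fun a b hab => hinj congr(Subtype.val $hab), ιy.hom.rangeRestrict_surjective⟩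
  let ψ : X.presheaf.stalk x →+* X.presheaf.stalk y :=
    e.symm.toRingHom.comp (ιx.hom.codRestrict ιy.hom.range fun a => hsub ⟨a, rfl⟩)
  let φ : X.presheaf.stalk x ⟶ X.presheaf.stalk y := CommRingCat.ofHom ψ
  have hφ : φ ≫ ιy = ιx := by
    ext a
    exact congrArg Subtype.val (e.apply_symm_apply ⟨ιx.hom a, hsub ⟨a, rfl⟩⟩)
  haveI : IsDominant (Spec.map ιy) := ⟨by
    rw [Spec.map_base]
    refine (PrimeSpectrum.denseRange_comap_iff_ker_le_nilRadical ιy.hom).2 ?_
    rw [(RingHom.injective_iff_ker_eq_bot _).1 hinj]
    exact bot_le⟩
  have hg : Spec.map φ ≫ X.fromSpecStalk x = X.fromSpecStalk y := ext_of_isDominant (Spec.map ιy) (by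
    rw [← Category.assoc, ← Spec.map_comp, hφ]
    simp only [ιx, ιy, Scheme.SpecMap_stalkSpecializes_fromSpecStalk])
  have hy : y ∈ Set.range (X.fromSpecStalk x) := ⟨Spec.map φ (IsLocalRing.closedPoint (X.presheaf.stalk y)), by
    rw [← Scheme.Hom.comp_apply, hg, Scheme.fromSpecStalk_closedPoint]⟩
  rw [Scheme.range_fromSpecStalk] at hy
  exact h ((specializes_iff_closure_subset (x := y) (y := x)).1 hy)

end Groth.Agent.S2123
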