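import Groth.Statements.S2131
import Mathlib.Algebra.Module.FinitePresentation
import Mathlib.RingTheory.Spectrum.Prime.Topology

set_option autoImplicit false
universe u
open CAlg

namespace Groth.Agent.S2131

theorem mk_eq_zero {R M : Type u} [CommRing R] [AddCommGroup M] [Module R M] {S : Submonoid R} {m : M}
    {s : S} : LocalizedModule.mk m s = 0 ↔ ∃ t : S, t • m = 0 := by
  rw [← LocalizedModule.zero_mk s, LocalizedModule.mk_eq]
  exact ⟨fun ⟨t, ht⟩ => ⟨t * s, by simpa [mul_smul] using ht⟩,
    fun ⟨t, ht⟩ => ⟨t, by rw [smul_comm t s m, ht]; simp⟩⟩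

/-- For an `R`-linear map from a finite module to a finitely presented module, the primes at which its
localization is bijective form an open subset of `Spec R`. -/
theorem result {R M N : Type u} [CommRing R] [AddCommGroup M] [Module R M] [Module.Finite R M]
    [AddCommGroup N] [Module R N] [Module.FinitePresentation R N] (φ : M →ₗ[R] N) :
    IsOpen {p : PrimeSpectrum R | Function.Bijective (LocalizedModule.map p.asIdeal.primeCompl φ)} := by
  rw [isOpen_iff_forall_mem_open]
  intro p hp
  obtain ⟨g, hg, hbij⟩ := Module.FinitePresentation.exists_notMem_bijective φ p.asIdeal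
    (LocalizedModule.mkLinearMap p.asIdeal.primeCompl M) (LocalizedModule.mkLinearMap _ N) hp
  refine ⟨PrimeSpectrum.basicOpen g, fun q hq => ?_, PrimeSpectrum.isOpen_basicOpen, hg⟩
  have hq : g ∉ q.asIdeal := hq
  have hpow : ∀ n, g ^ n ∈ q.asIdeal.primeCompl := fun n => pow_mem (show g ∈ q.asIdeal.primeCompl from hq) n
  refine ⟨(injective_iff_map_eq_zero _).2 fun z => LocalizedModule.induction_on (fun m s hz => ?_) z,
    fun z => LocalizedModule.induction_on (fun y s => ?_) z⟩
  · rw [LocalizedModule.map_mk, mk_eq_zero] at hz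
    obtain ⟨t, ht⟩ := hz
    have h1 : LocalizedModule.map (.powers g) φ (LocalizedModule.mk (t.1 • m) 1) = 0 := by
      rw [LocalizedModule.map_mk, map_smul, ← Submonoid.smul_def, ht, LocalizedModule.zero_mk]
    have h2 := hbij.1 (h1.trans (map_zero _).symm)
    rw [mk_eq_zero] at h2
    obtain ⟨⟨_, n, rfl⟩, hn⟩ := h2
    rw [mk_eq_zero]
    exact ⟨⟨g ^ n * t.1, mul_mem (hpow n) t.2⟩, by simpa [mul_smul, Submonoid.smul_def] using hn⟩
  · obtain ⟨w, hw⟩ := hbij.2 (LocalizedModule.mk y 1)
    induction w using LocalizedModule.induction_on with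
    | h x r =>
      obtain ⟨_, n, rfl⟩ := r
      rw [LocalizedModule.map_mk, LocalizedModule.mk_eq] at hw
      obtain ⟨⟨_, k, rfl⟩, hk⟩ := hw
      refine ⟨LocalizedModule.mk x ⟨g ^ n * s.1, mul_mem (hpow n) s.2⟩, ?_⟩
      rw [LocalizedModule.map_mk, LocalizedModule.mk_eq]
      refine ⟨⟨g ^ k, hpow k⟩, ?_⟩
      simp only [Submonoid.smul_def, one_smul] at hk ⊢
      rw [smul_comm (g ^ k) s.1 (φ x), hk, mul_comm (g ^ n) s.1, mul_smul, smul_comm (g ^ k) s.1]

end Groth.Agent.S2131
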