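import Groth.Statements.S2132
import Mathlib
-- import your own Groth.Agent.* helpers here

set_option autoImplicit false
universe u
open CategoryTheory
open CAlg

namespace Groth.Agent.S2132

/-- Let `F : J ⥤ CommRingCat` be a filtered diagram of henselian local rings with local transition maps
and `c` a colimit cocone. Then the colimit is a henselian local ring. -/
theorem result {J : Type u} [SmallCategory J] [IsFiltered J] (F : J ⥤ CommRingCat.{u})
    (hF : ∀ j, HenselianLocalRing (F.obj j)) (hloc : ∀ (i j : J) (a : i ⟶ j), IsLocalHom (F.map a).hom)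
    (c : Limits.Cocone F) (hc : Limits.IsColimit c) : HenselianLocalRing c.pt := by
  classical
  haveI : ∀ j, IsLocalRing (F.obj j) := fun j => (hF j).toIsLocalRing
  have hrep : ∀ x : c.pt, ∃ (j : J) (y : F.obj j), c.ι.app j y = x := fun x =>
    Limits.Concrete.isColimit_exists_rep F hc x
  have heq : ∀ (i j : J) (x : F.obj i) (y : F.obj j), c.ι.app i x = c.ι.app j y →
      ∃ (k : J) (f : i ⟶ k) (g : j ⟶ k), F.map f x = F.map g y := fun i j x y h =>
    Limits.Concrete.isColimit_exists_of_rep_eq F hc x y h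
  have hw : ∀ {i j : J} (f : i ⟶ j) (x : F.obj i), c.ι.app j (F.map f x) = c.ι.app i x := fun f x => by
    rw [← ConcreteCategory.comp_apply, c.w]
  have hloc' : ∀ j, IsLocalHom (c.ι.app j).hom := fun j => ⟨fun x hx => by
    obtain ⟨u, hu⟩ := hx.exists_right_inv
    obtain ⟨i, y, rfl⟩ := hrep u
    let k := IsFiltered.max j i
    have h1 : c.ι.app k (F.map (IsFiltered.leftToMax j i) x * F.map (IsFiltered.rightToMax j i) y) =
        c.ι.app k 1 := by
      rw [map_mul, hw, hw, map_one]; exact hu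
    obtain ⟨l, f, g, hl⟩ := heq k k _ _ h1
    rw [map_mul, map_one] at hl
    have hunit : IsUnit (F.map f (F.map (IsFiltered.leftToMax j i) x)) := IsUnit.of_mul_eq_one _ hl
    haveI := hloc _ _ f
    haveI := hloc _ _ (IsFiltered.leftToMax j i)
    exact (isUnit_map_iff (F.map (IsFiltered.leftToMax j i)).hom x).1
      ((isUnit_map_iff (F.map f).hom _).1 hunit)⟩
  obtain ⟨j₀⟩ := IsFiltered.nonempty (C := J)
  haveI : Nontrivial c.pt := by
    refine ⟨⟨0, 1, fun h => ?_⟩⟩
    obtain ⟨k, f, g, hk⟩ := heq j₀ j₀ 0 1 (by rw [map_zero, map_one]; exact h)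
    rw [map_zero, map_one] at hk
    exact zero_ne_one hk
  haveI : IsLocalRing c.pt := IsLocalRing.of_isUnit_or_isUnit_one_sub_self fun a => by
    obtain ⟨j, y, rfl⟩ := hrep a
    rcases IsLocalRing.isUnit_or_isUnit_one_sub_self y with h | h
    · exact Or.inl (h.map (c.ι.app j).hom)
    · exact Or.inr (by simpa using h.map (c.ι.app j).hom)
  have hcommon : ∀ s : Finset c.pt, ∃ j : J, ∀ x ∈ s, ∃ y : F.obj j, c.ι.app j y = x := by
    intro s
    induction s using Finset.induction with
    | empty => exact ⟨j₀, by simp⟩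
    | insert a s _ ih =>
      obtain ⟨j, hj⟩ := ih
      obtain ⟨i, y, rfl⟩ := hrep a
      refine ⟨IsFiltered.max i j, fun x hx => ?_⟩
      rcases Finset.mem_insert.1 hx with rfl | hx
      · exact ⟨F.map (IsFiltered.leftToMax i j) y, hw _ _⟩
      · obtain ⟨z, hz⟩ := hj x hx
        exact ⟨F.map (IsFiltered.rightToMax i j) z, (hw (IsFiltered.rightToMax i j) z).trans hz⟩
  refine { is_henselian := fun f hf a₀ h₁ h₂ => ?_ }
  obtain ⟨j, hj⟩ := hcommon (insert a₀ ((Finset.range (f.natDegree + 1)).image f.coeff))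
  obtain ⟨a', rfl⟩ := hj a₀ (Finset.mem_insert_self _ _)
  have hlifts : f ∈ Polynomial.lifts (c.ι.app j).hom := by
    rw [Polynomial.lifts_iff_coeff_lifts]
    intro n
    by_cases hn : n ≤ f.natDegree
    · obtain ⟨y, hy⟩ := hj (f.coeff n)
        (Finset.mem_insert_of_mem (Finset.mem_image_of_mem _ (Finset.mem_range.2 (by omega))))
      exact ⟨y, hy⟩
    · exact ⟨0, by rw [map_zero, Polynomial.coeff_eq_zero_of_natDegree_lt (by omega)]⟩
  obtain ⟨f', rfl, -, hf'⟩ := Polynomial.lifts_and_natDegree_eq_and_monic hlifts hf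
  haveI := hloc' j
  rw [Polynomial.eval_map_apply] at h₁
  rw [Polynomial.derivative_map, Polynomial.eval_map_apply] at h₂
  have h₁' : f'.eval a' ∈ IsLocalRing.maximalIdeal (F.obj j) := fun hu => h₁ (hu.map (c.ι.app j).hom)
  obtain ⟨a, ha, haa⟩ := (hF j).is_henselian f' hf' a' h₁' ((isUnit_map_iff (c.ι.app j).hom _).1 h₂)
  refine ⟨c.ι.app j a, ?_, ?_⟩
  · show Polynomial.eval _ _ = 0
    rw [Polynomial.eval_map_apply, show f'.eval a = 0 from ha, map_zero]
  · intro hu
    rw [← map_sub] at hu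
    exact haa ((isUnit_map_iff (c.ι.app j).hom _).1 hu)

end Groth.Agent.S2132
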