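import Groth.Statements.S2133
import Mathlib.RingTheory.Derivation.Basic
import Mathlib.RingTheory.FiniteType
import Mathlib.Tactic.Abel
import Mathlib.Tactic.LinearCombination
-- import your own Groth.Agent.* helpers here

set_option autoImplicit false
universe u
open CAlg

namespace Groth.Agent.S2133

/-- Let `R → R'` be an injective ring map of finite type and `g ∈ R` a nonzerodivisor on `R'` such that
every element of `R'` lands in `R` after multiplication by a power of `g` (so `R_g = R'_g`). Then
for every derivation `D` of `R` there is `N` such that `g^N D` extends to a derivation of `R'`. -/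
theorem result {R R' : Type u} [CommRing R] [CommRing R'] [Algebra R R'] [Algebra.FiniteType R R']
    (hinj : Function.Injective (algebraMap R R')) (g : R) (hg : IsSMulRegular R' (algebraMap R R' g))
    (hloc : ∀ x : R', ∃ n : ℕ, (algebraMap R R' g) ^ n * x ∈ Set.range (algebraMap R R')) (D : Derivation ℤ R R) :
    ∃ (N : ℕ) (D' : Derivation ℤ R' R'), ∀ r : R, D' (algebraMap R R' r) = algebraMap R R' (g ^ N * D r) := by
  classical
  let al := algebraMap R R'
  have hcan : ∀ (n : ℕ) {x y : R'}, al g ^ n * x = al g ^ n * y → x = y := fun n x y h => (hg.pow n) (by simpa [smul_eq_mul] using h)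
  let Rel : ℕ → R' → R' → Prop := fun N x y =>
    ∀ (n : ℕ) (r : R), al g ^ n * x = al r → al g ^ n * y = al (g ^ N * D r) - al (g ^ N * D (g ^ n)) * x
  have hindep : ∀ (N : ℕ) (x y : R') (n : ℕ) (r : R), al g ^ n * x = al r →
      al g ^ n * y = al (g ^ N * D r) - al (g ^ N * D (g ^ n)) * x → Rel N x y := by
    intro N x y n r hr hy m s hs
    have h1 : g ^ n * s = g ^ m * r := hinj (by
      show al (g ^ n * s) = al (g ^ m * r)
      rw [map_mul, map_mul, map_pow, map_pow, ← hr, ← hs]; ring)
    have h2 : al g ^ n * al (D s) + al s * al (D (g ^ n)) = al g ^ m * al (D r) + al r * al (D (g ^ m)) := by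
      have := congrArg al (congrArg D h1)
      simpa only [Derivation.leibniz, smul_eq_mul, map_add, map_mul, map_pow] using this
    apply hcan n
    rw [mul_left_comm, hy]
    simp only [map_mul, map_pow] at *
    rw [← hs, ← hr] at h2
    linear_combination (-(al g ^ N)) * h2
  have huniq : ∀ N x y y', Rel N x y → Rel N x y' → y = y' := fun N x y y' h h' => by
    obtain ⟨n, r, hr⟩ := hloc x
    exact hcan n ((h n r hr.symm).trans (h' n r hr.symm).symm)
  have hal : ∀ N r, Rel N (al r) (al (g ^ N * D r)) := fun N r =>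
    hindep N _ _ 0 r (by simp) (by simp)
  have hadd : ∀ N x x' y y', Rel N x y → Rel N x' y' → Rel N (x + x') (y + y') := by
    intro N x x' y y' h h'
    obtain ⟨n, r, hr⟩ := hloc x
    obtain ⟨m, s, hs⟩ := hloc x'
    have e1 : al g ^ (n + m) * x = al (g ^ m * r) := by rw [map_mul, map_pow, hr, pow_add]; ring
    have e2 : al g ^ (n + m) * x' = al (g ^ n * s) := by rw [map_mul, map_pow, hs, pow_add]; ring
    refine hindep N _ _ (n + m) (g ^ m * r + g ^ n * s) (by rw [mul_add, e1, e2, map_add]) ?_
    rw [mul_add (al g ^ (n + m)) y y', h _ _ e1, h' _ _ e2, map_add D, mul_add (g ^ N), map_add al]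
    ring
  have hmul : ∀ N x x' y y', Rel N x y → Rel N x' y' → Rel N (x * x') (x * y' + x' * y) := by
    intro N x x' y y' h h'
    obtain ⟨n, r, hr⟩ := hloc x
    obtain ⟨m, s, hs⟩ := hloc x'
    refine hindep N _ _ (n + m) (r * s) (by rw [map_mul, hr, hs, pow_add]; ring) ?_
    have hy := h n r hr.symm
    have hy' := h' m s hs.symm
    have hr' : al r = al g ^ n * x := hr
    have hs' : al s = al g ^ m * x' := hs
    simp only [pow_add, Derivation.leibniz, smul_eq_mul, map_add, map_mul, map_pow] at *
    linear_combination (al g ^ n * x) * hy' + (al g ^ m * x') * hy - (al g ^ N * al (D s)) * hr' - (al g ^ N * al (D r)) * hs'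
  obtain ⟨S, hS⟩ := (inferInstance : Algebra.FiniteType R R').out
  choose nn rr hrr using hloc
  let N₀ := S.sup nn
  have hex : ∀ x : R', ∃ y, Rel N₀ x y := by
    intro x
    have hx : x ∈ Algebra.adjoin R (S : Set R') := by rw [hS]; trivial
    induction hx using Algebra.adjoin_induction with
    | mem t ht =>
      obtain ⟨d, hd⟩ := Nat.exists_eq_add_of_le (Finset.le_sup (f := nn) ht : nn t ≤ N₀)
      refine ⟨al g ^ d * (al (D (rr t)) - al (D (g ^ nn t)) * t), hindep N₀ t _ (nn t) (rr t) (hrr t).symm ?_⟩
      rw [show N₀ = nn t + d from hd]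
      simp only [map_mul, map_pow, pow_add]
      ring
    | algebraMap r => exact ⟨_, hal N₀ r⟩
    | add a b _ _ ha hb => exact ⟨_, hadd N₀ _ _ _ _ ha.choose_spec hb.choose_spec⟩
    | mul a b _ _ ha hb => exact ⟨_, hmul N₀ _ _ _ _ ha.choose_spec hb.choose_spec⟩
  choose Df hDf using hex
  let L : R' →+ R' := AddMonoidHom.mk' Df fun a b => huniq N₀ _ _ _ (hDf _) (hadd N₀ _ _ _ _ (hDf a) (hDf b))
  refine ⟨N₀, Derivation.mk' L.toIntLinearMap fun a b => huniq N₀ _ _ _ (hDf _) ?_, fun r => huniq N₀ _ _ _ (hDf _) (hal N₀ r)⟩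
  simp only [smul_eq_mul]
  exact hmul N₀ _ _ _ _ (hDf a) (hDf b)

end Groth.Agent.S2133
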