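import Groth.Statements.S2134
import Mathlib.FieldTheory.IntermediateField.Basic
import Mathlib.LinearAlgebra.Dimension.Finrank
import Mathlib.LinearAlgebra.Projection
import Mathlib.LinearAlgebra.FiniteDimensional.Basic
import Mathlib.FieldTheory.IntermediateField.Adjoin.Basic
-- import your own Groth.Agent.* helpers here

set_option autoImplicit false
universe u
open CAlg

namespace Groth.Agent.S2134

/-- Let `K/k` be a field extension and `(K_α)` a nonempty family of intermediate fields, directed
downwards, with intersection `k`. For a `K`-subspace `V` of `K^n` (`n ≥ 1`), `V` contains a nonzero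
vector with all coordinates in `k` if and only if for every `α` it contains a nonzero vector with
all coordinates in `K_α`. -/
theorem result {k K : Type u} [Field k] [Field K] [Algebra k K] {ι : Type u} [Nonempty ι]
    (F : ι → IntermediateField k K) (hdir : ∀ a b : ι, ∃ c, F c ≤ F a ⊓ F b) (hinf : ⨅ a, F a = ⊥) (n : ℕ) (hn : 1 ≤ n)
    (V : Submodule K (Fin n → K)) :
    (∃ v ∈ V, v ≠ 0 ∧ ∀ i, v i ∈ Set.range (algebraMap k K)) ↔
      ∀ a, ∃ v ∈ V, v ≠ 0 ∧ ∀ i, v i ∈ F a := by
  classical
  constructor
  · rintro ⟨v, hv, hv0, hc⟩ a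
    exact ⟨v, hv, hv0, fun i => by obtain ⟨c, hc⟩ := hc i; rw [← hc]; exact (F a).algebraMap_mem c⟩
  intro h
  let W : ι → Submodule K (Fin n → K) := fun a => Submodule.span K {v | v ∈ V ∧ ∀ i, v i ∈ F a}
  obtain ⟨a, ha⟩ : ∃ a, ∀ b, Module.finrank K (W a) ≤ Module.finrank K (W b) := by
    obtain ⟨a, ha⟩ := Nat.sInf_mem (Set.range_nonempty fun a => Module.finrank K (W a))
    refine ⟨a, fun b => ?_⟩
    have h1 : Module.finrank K (W a) = sInf (Set.range fun a => Module.finrank K (W a)) := ha
    rw [h1]
    exact Nat.sInf_le ⟨b, rfl⟩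
  have hmono : ∀ {c b}, F c ≤ F b → W c ≤ W b := fun hcb => Submodule.span_mono fun v hv => ⟨hv.1, fun i => hcb (hv.2 i)⟩
  have hspan : ∀ b, W a ≤ W b := fun b => by
    obtain ⟨c, hc⟩ := hdir a b
    have he : W c = W a := Submodule.eq_of_le_of_finrank_le (hmono (hc.trans inf_le_left)) (ha c)
    exact he ▸ hmono (hc.trans inf_le_right)
  let supp : (Fin n → K) → Finset (Fin n) := fun v => Finset.univ.filter fun i => v i ≠ 0
  obtain ⟨v₁, hv₁, hv₁0, hv₁F⟩ := h a
  have hne : {c | ∃ v ∈ W a, v ≠ 0 ∧ (supp v).card = c}.Nonempty :=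
    ⟨_, v₁, Submodule.subset_span ⟨hv₁, hv₁F⟩, hv₁0, rfl⟩
  obtain ⟨v, hv, hv0, hcard⟩ := Nat.sInf_mem hne
  obtain ⟨i₀, hi₀⟩ : ∃ i, v i ≠ 0 := Function.ne_iff.1 hv0
  let w := (v i₀)⁻¹ • v
  have hwi : w i₀ = 1 := by simp [w, inv_mul_cancel₀ hi₀]
  have hwW : w ∈ W a := Submodule.smul_mem _ _ hv
  have huniq : ∀ x ∈ W a, x i₀ = 1 → (∀ i, w i = 0 → x i = 0) → x = w := fun x hx hxi hxs => by
    by_contra hne'
    have hd : x - w ≠ 0 := sub_ne_zero.2 hne'
    have hlt : (supp (x - w)).card < (supp v).card := by
      refine Finset.card_lt_card ((Finset.ssubset_iff_of_subset ?_).2 ⟨i₀, by simp [supp, hi₀], by simp [supp, hxi, hwi]⟩)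
      intro i hi
      simp only [supp, Finset.mem_filter, Finset.mem_univ, true_and] at hi ⊢
      intro hvi
      apply hi
      have hw0 : w i = 0 := by simp [w, hvi]
      simp [hxs i hw0, hw0]
    exact absurd hlt (not_lt.2 (hcard ▸ Nat.sInf_le ⟨x - w, Submodule.sub_mem _ hx hwW, hd, rfl⟩))
  refine ⟨w, ?_, ?_, fun i => ?_⟩
  · exact (Submodule.span_le.2 fun x hx => hx.1 : W a ≤ V) hwW
  · intro hw
    rw [hw] at hwi
    exact zero_ne_one hwi
  · have hall : ∀ b, w i ∈ F b := by
      intro b
      obtain ⟨c, hc⟩ := hdir a b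
      have hWc : W c = W a := Submodule.eq_of_le_of_finrank_le (hmono (hc.trans inf_le_left)) (ha c)
      obtain ⟨lam', hlam'⟩ := LinearMap.exists_leftInverse_of_injective (Algebra.linearMap (F c) K)
        (LinearMap.ker_eq_bot.2 (algebraMap (F c) K).injective)
      have hl' : ∀ e : F c, lam' (e : K) = e := fun e => LinearMap.congr_fun hlam' e
      let Λ' : (Fin n → K) → (Fin n → K) := fun x j => (lam' (x j) : K)
      have hΛ' : ∀ (x : Fin n → K), x ∈ W c → ∀ e : K, Λ' (e • x) ∈ W c := by
        intro x hx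
        induction hx using Submodule.span_induction with
        | mem x hx =>
          intro e
          have : Λ' (e • x) = (lam' e : K) • x := funext fun j => by
            show (lam' (e * x j) : K) = (lam' e : K) * x j
            rw [mul_comm e (x j), show x j * e = (⟨x j, hx.2 j⟩ : F c) • e from rfl, map_smul]
            show ((⟨x j, hx.2 j⟩ : F c) * lam' e : F c).1 = _
            rw [mul_comm]; rfl
          rw [this]
          exact Submodule.smul_mem _ _ (Submodule.subset_span hx)
        | zero =>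
          intro e
          convert (W c).zero_mem using 1
          funext j; simp [Λ']
        | add x y _ _ hx hy =>
          intro e
          convert add_mem (hx e) (hy e) using 1
          funext j; simp [Λ', mul_add]
        | smul d x _ hx => intro e; rw [smul_smul]; exact hx _
      have hw' : Λ' w ∈ W a := by
        rw [← hWc]
        simpa using hΛ' w (hWc.symm ▸ hwW) 1
      have heq : Λ' w = w := huniq _ hw' (by
          show (lam' (w i₀) : K) = 1
          rw [hwi]; exact congrArg Subtype.val (hl' 1)) (fun j hj => by show (lam' (w j) : K) = 0; simp [hj])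
      exact (hc.trans inf_le_right) (congrFun heq i ▸ (lam' (w i)).2)
    have hmem : w i ∈ (⨅ b, F b : IntermediateField k K) := by
      rw [← SetLike.mem_coe, IntermediateField.coe_iInf]
      exact Set.mem_iInter.2 hall
    rw [hinf] at hmem
    exact IntermediateField.mem_bot.1 hmem

end Groth.Agent.S2134
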