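import Groth.Statements.S2137
import Groth.Agent.DRingLib.Basic

set_option autoImplicit false
universe u
open CategoryTheory
attribute [local instance] HasDerivedCategory.standard
open CAlg

namespace Groth.Agent.S2137

/-- Let `A → B` be a ring map and `K` an `m`-pseudo-coherent object of `D(A)`. Then `K ⊗^L_A B` is
`m`-pseudo-coherent in `D(B)`. (Stated assuming the total left derived functor of base change exists
on `D(A)`, a fact not available as a library result here.) -/
theorem result {A B : Type u} [CommRing A] [CommRing B] (φ : A →+* B) [DRing.HasLBaseChange φ]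
    (K : Dual.D A) (m : ℤ) (hK : DRing.IsPseudoCoherent A m K) :
    DRing.IsPseudoCoherent B m ((DRing.LBaseChange φ).obj K) := by
  obtain ⟨E, a, b, α, hab, hfree, hα⟩ := hK
  obtain ⟨P, hP, ⟨e⟩⟩ := DRingLib.exists_good_rep K
  have hEb : ∀ i, b < i → Limits.IsZero (E.X i) := fun i hi => hab i (Or.inr hi)
  have := DRingLib.isKProjective_of_free E b hEb fun i => (hfree i).2
  have hEflat := DRingLib.isKFlat_of_free E b hEb fun i => (hfree i).2
  obtain ⟨f, hf⟩ := DRingLib.Q_map_surjective E P (α ≫ e.inv)
  have hfm : (∀ i, m < i → IsIso ((DRingLib.Hn A i).map (DerivedCategory.Q.map f))) ∧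
      Epi ((DRingLib.Hn A m).map (DerivedCategory.Q.map f)) := by
    rw [hf]
    refine ⟨fun i hi => ?_, ?_⟩
    · have := hα.1 i hi
      rw [Functor.map_comp]
      infer_instance
    · have := hα.2
      rw [Functor.map_comp]
      infer_instance
  obtain ⟨h1, h2⟩ := DRingLib.isoAboveEpiAt_extCx φ f hEflat hP.1 m hfm
  refine ⟨(DRingLib.extCx φ).obj E, a, b, DerivedCategory.Q.map ((DRingLib.extCx φ).map f) ≫
    (DRingLib.lBaseChangeObjIso φ P hP.1).inv ≫ (DRing.LBaseChange φ).map e.hom,
    fun i hi => (ModuleCat.extendScalars.{u, u, u} φ).map_isZero (hab i hi),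
    fun i => ⟨DRingLib.finite_extCx φ i (hfree i).1, DRingLib.free_extCx φ i (hfree i).2⟩,
    fun i hi => ?_, ?_⟩
  · have := h1 i hi
    rw [Functor.map_comp]
    infer_instance
  · have := h2
    rw [Functor.map_comp]
    infer_instance

end Groth.Agent.S2137
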