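import Groth.Statements.S2138
import Mathlib.RingTheory.Flat.Stability
import Mathlib.RingTheory.Flat.Localization
import Mathlib.RingTheory.LocalRing.ResidueField.Ideal
import Mathlib.Algebra.Module.Torsion.Basic
import Mathlib.LinearAlgebra.TensorProduct.Quotient
import Mathlib.LinearAlgebra.DirectSum.Finsupp
import Mathlib.LinearAlgebra.FreeModule.Basic
import Mathlib.LinearAlgebra.Basis.VectorSpace
import Mathlib.RingTheory.Localization.AtPrime.Basic
import Mathlib.RingTheory.TensorProduct.Basic

set_option autoImplicit false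
universe u
open CAlg
open scoped TensorProduct

namespace Groth.Agent.S2138
variable {R S : Type u} [CommRing R] [CommRing S] [Algebra R S]

/-- `t` is injective on `M ⊗ S`. -/
def Cls (t : S) (M : Type u) [AddCommGroup M] [Module R M] : Prop :=
  Function.Injective ((Algebra.lsmul R R S t).lTensor M)

theorem comm_t (t : S) {M N : Type u} [AddCommGroup M] [Module R M] [AddCommGroup N] [Module R N]
    (g : M →ₗ[R] N) (z : M ⊗[R] S) :
    g.rTensor S ((Algebra.lsmul R R S t).lTensor M z) = (Algebra.lsmul R R S t).lTensor N (g.rTensor S z) := by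
  rw [← LinearMap.comp_apply, ← LinearMap.comp_apply, LinearMap.rTensor_comp_lTensor, LinearMap.lTensor_comp_rTensor]

theorem cls_of_injective [Module.Flat R S] (t : S) {M N : Type u} [AddCommGroup M] [Module R M]
    [AddCommGroup N] [Module R N] (g : M →ₗ[R] N) (hg : Function.Injective g) (h : Cls (R := R) t N) : Cls (R := R) t M := by
  intro x y hxy
  refine Module.Flat.rTensor_preserves_injective_linearMap (M := S) g hg (h ?_)
  rw [← comm_t, ← comm_t, hxy]

theorem cls_of_exact [Module.Flat R S] (t : S) {A B C : Type u} [AddCommGroup A] [Module R A]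
    [AddCommGroup B] [Module R B] [AddCommGroup C] [Module R C] (f : A →ₗ[R] B) (g : B →ₗ[R] C)
    (hf : Function.Injective f) (hex : Function.Exact f g) (hg : Function.Surjective g)
    (hA : Cls (R := R) t A) (hC : Cls (R := R) t C) : Cls (R := R) t B := by
  rw [Cls, injective_iff_map_eq_zero]
  intro z hz
  have hgz : g.rTensor S z = 0 := hC (by rw [← comm_t, hz, map_zero, map_zero])
  obtain ⟨w, rfl⟩ := (rTensor_exact S hex hg z).1 hgz
  rw [← comm_t] at hz
  have h0 : (Algebra.lsmul R R S t).lTensor A w = 0 :=
    Module.Flat.rTensor_preserves_injective_linearMap (M := S) f hf (hz.trans (map_zero _).symm)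
  rw [hA (h0.trans (map_zero _).symm), map_zero]

theorem cls_finsupp (t : S) {M : Type u} [AddCommGroup M] [Module R M] (ι : Type u) (h : Cls (R := R) t M) :
    Cls (R := R) t (ι →₀ M) := by
  classical
  let e := TensorProduct.finsuppLeft R R M S ι
  have he : ∀ z i, e ((Algebra.lsmul R R S t).lTensor (ι →₀ M) z) i = (Algebra.lsmul R R S t).lTensor M (e z i) := by
    intro z i
    induction z using TensorProduct.induction_on with
    | zero => simp
    | add a b ha hb => simp only [map_add, Finsupp.add_apply, ha, hb]
    | tmul f s => simp [e]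
  intro x y hxy
  refine e.injective (Finsupp.ext fun i => h ?_)
  rw [← he, ← he, hxy]

variable (p : Ideal R) [p.IsPrime] [hP : (p.map (algebraMap R S)).IsPrime] [Module.Flat R S]

theorem quot_smul (y s : S) (P : Ideal R) :
    TensorProduct.quotTensorEquivQuotSMul S P ((Algebra.lsmul R R S y).lTensor (R ⧸ P)
      ((TensorProduct.quotTensorEquivQuotSMul S P).symm (Submodule.Quotient.mk s))) =
      Submodule.Quotient.mk (y * s) := by
  rw [TensorProduct.quotTensorEquivQuotSMul_symm_mk, LinearMap.lTensor_tmul]
  change TensorProduct.quotTensorEquivQuotSMul S P ((1 : R ⧸ P) ⊗ₜ[R] (y * s)) = _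
  rw [← TensorProduct.quotTensorEquivQuotSMul_symm_mk, LinearEquiv.apply_symm_apply]

theorem cls_quot {t : S} (ht : t ∉ p.map (algebraMap R S)) : Cls (R := R) t (R ⧸ p) := by
  rw [Cls, injective_iff_map_eq_zero]
  intro z hz
  obtain ⟨s, hs⟩ := Submodule.Quotient.mk_surjective _ (TensorProduct.quotTensorEquivQuotSMul S p z)
  have h := congrArg (TensorProduct.quotTensorEquivQuotSMul S p) hz
  rw [← (TensorProduct.quotTensorEquivQuotSMul S p).symm_apply_apply z, ← hs, quot_smul, map_zero,
    Submodule.Quotient.mk_eq_zero, Ideal.smul_top_eq_map, Submodule.restrictScalars_mem] at h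
  refine (TensorProduct.quotTensorEquivQuotSMul S p).injective ?_
  rw [← hs, map_zero, Submodule.Quotient.mk_eq_zero, Ideal.smul_top_eq_map, Submodule.restrictScalars_mem]
  exact (hP.mem_or_mem h).resolve_left ht

theorem cls_flat {t : S} (ht : t ∉ p.map (algebraMap R S)) (V : Type u) [AddCommGroup V] [Module R V]
    [Module (R ⧸ p) V] [IsScalarTower R (R ⧸ p) V] [Module.Flat (R ⧸ p) V] : Cls (R := R) t V := by
  let e := TensorProduct.AlgebraTensorModule.cancelBaseChange R (R ⧸ p) (R ⧸ p) V S
  let m : (R ⧸ p) ⊗[R] S →ₗ[R ⧸ p] (R ⧸ p) ⊗[R] S := (Algebra.lsmul R R S t).baseChange (R ⧸ p)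
  have hm : Function.Injective (m.lTensor V) := Module.Flat.lTensor_preserves_injective_linearMap _ (cls_quot p ht)
  have he : ∀ z, e (m.lTensor V z) = (Algebra.lsmul R R S t).lTensor V (e z) := by
    intro z
    induction z using TensorProduct.induction_on with
    | zero => simp
    | add a b ha hb => simp only [map_add, ha, hb]
    | tmul v w =>
      induction w using TensorProduct.induction_on with
      | zero => simp
      | add a b ha hb => simp only [TensorProduct.tmul_add, map_add, ha, hb]
      | tmul a s => simp [e, m]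
  intro x y hxy
  refine e.symm.injective (hm (e.injective ?_))
  rw [he, he, LinearEquiv.apply_symm_apply, LinearEquiv.apply_symm_apply, hxy]

theorem cls_layer {t : S} (ht : t ∉ p.map (algebraMap R S)) (V : Type u) [AddCommGroup V]
    [Module R V] [Module (Localization.AtPrime p) V] [IsScalarTower R (Localization.AtPrime p) V]
    (hV : Module.IsTorsionBySet (Localization.AtPrime p) V (IsLocalRing.maximalIdeal (Localization.AtPrime p))) :
    Cls (R := R) t V := by
  letI := Ideal.Quotient.field (IsLocalRing.maximalIdeal (Localization.AtPrime p))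
  letI := hV.module
  have : IsScalarTower R (Localization.AtPrime p ⧸ IsLocalRing.maximalIdeal (Localization.AtPrime p)) V :=
    Module.IsTorsionBySet.isScalarTower hV
  have : Module.Flat (R ⧸ p) p.ResidueField := IsLocalization.flat p.ResidueField (nonZeroDivisors (R ⧸ p))
  have hκ : Cls (R := R) t p.ResidueField := cls_flat p ht _
  have hF : Cls (R := R) t (Localization.AtPrime p ⧸ IsLocalRing.maximalIdeal (Localization.AtPrime p)) := hκ
  let b := Module.Free.chooseBasis (Localization.AtPrime p ⧸ IsLocalRing.maximalIdeal (Localization.AtPrime p)) V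
  exact cls_of_injective t (b.repr.toLinearMap.restrictScalars R) b.repr.injective (cls_finsupp t _ hF)

theorem cls_pow {t : S} (ht : t ∉ p.map (algebraMap R S)) : ∀ n : ℕ,
    Cls (R := R) t (Localization.AtPrime p ⧸ IsLocalRing.maximalIdeal (Localization.AtPrime p) ^ n)
  | 0 => by
    have : Subsingleton (Localization.AtPrime p ⧸ IsLocalRing.maximalIdeal (Localization.AtPrime p) ^ 0) := by
      rw [pow_zero, Ideal.one_eq_top]
      exact Ideal.Quotient.subsingleton_iff.2 rfl
    intro x y _
    exact Subsingleton.elim _ _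
  | n + 1 => by
    let m := IsLocalRing.maximalIdeal (Localization.AtPrime p)
    let g : (Localization.AtPrime p ⧸ m ^ (n + 1)) →ₗ[Localization.AtPrime p] (Localization.AtPrime p ⧸ m ^ n) :=
      (Submodule.liftQ (m ^ (n + 1)) (Submodule.mkQ (m ^ n)) (by
        rw [Submodule.ker_mkQ]; exact Ideal.pow_le_pow_right n.le_succ))
    have hker : Module.IsTorsionBySet (Localization.AtPrime p) (LinearMap.ker g) m := by
      rintro ⟨x, hx⟩ ⟨a, ha⟩
      obtain ⟨r, rfl⟩ := Submodule.Quotient.mk_surjective _ x
      have hr : r ∈ m ^ n := (Submodule.Quotient.mk_eq_zero _).1 hx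
      refine Subtype.ext ((Submodule.Quotient.mk_eq_zero _).2 ?_)
      rw [pow_succ']
      exact Ideal.mul_mem_mul ha hr
    refine cls_of_exact t ((LinearMap.ker g).subtype.restrictScalars R) (g.restrictScalars R)
      Subtype.val_injective ?_ ?_ (cls_layer p ht _ hker) (cls_pow ht n)
    · exact LinearMap.exact_subtype_ker_map g
    · intro y
      obtain ⟨r, rfl⟩ := Submodule.Quotient.mk_surjective _ y
      exact ⟨Submodule.Quotient.mk r, rfl⟩

/-- An element outside `pS` is regular modulo the extension of a symbolic power. -/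
theorem mem_of_mul_mem {t : S} (ht : t ∉ p.map (algebraMap R S)) (n : ℕ) {y : S}
    (hy : t * y ∈ (((p ^ n).map (algebraMap R (Localization.AtPrime p))).comap
      (algebraMap R (Localization.AtPrime p))).map (algebraMap R S)) :
    y ∈ (((p ^ n).map (algebraMap R (Localization.AtPrime p))).comap
      (algebraMap R (Localization.AtPrime p))).map (algebraMap R S) := by
  set P := ((p ^ n).map (algebraMap R (Localization.AtPrime p))).comap (algebraMap R (Localization.AtPrime p))
  let m := IsLocalRing.maximalIdeal (Localization.AtPrime p)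
  have hPk : P = LinearMap.ker ((Submodule.mkQ (m ^ n)).restrictScalars R ∘ₗ Algebra.linearMap R (Localization.AtPrime p)) := by
    ext r
    simp only [P, m, Ideal.mem_comap, Ideal.map_pow, Localization.AtPrime.map_eq_maximalIdeal, LinearMap.mem_ker]
    exact (Submodule.Quotient.mk_eq_zero _).symm
  let g : (R ⧸ P) →ₗ[R] (Localization.AtPrime p ⧸ m ^ n) :=
    Submodule.liftQ P _ hPk.le
  have hg : Function.Injective g := by
    rw [← LinearMap.ker_eq_bot]
    exact Submodule.ker_liftQ_eq_bot _ _ _ hPk.ge
  have hcls : Cls (R := R) t (R ⧸ P) := cls_of_injective t g hg (cls_pow p ht n)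
  let e := TensorProduct.quotTensorEquivQuotSMul S P
  have h1 : e ((Algebra.lsmul R R S t).lTensor (R ⧸ P) (e.symm (Submodule.Quotient.mk y))) = 0 := by
    rw [quot_smul, Submodule.Quotient.mk_eq_zero, Ideal.smul_top_eq_map, Submodule.restrictScalars_mem]
    exact hy
  have h2 : e.symm (Submodule.Quotient.mk y) = 0 := by
    refine hcls (e.injective ?_)
    rw [h1, map_zero, map_zero]
  rwa [LinearEquiv.map_eq_zero_iff, Submodule.Quotient.mk_eq_zero, Ideal.smul_top_eq_map,
    Submodule.restrictScalars_mem] at h2

theorem notMem_map {s : R} (hs : s ∉ p) : algebraMap R S s ∉ p.map (algebraMap R S) := by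
  intro h
  let μ : (R ⧸ p) →ₗ[R] (R ⧸ p) := LinearMap.lsmul R (R ⧸ p) s
  have hμ : Function.Injective μ := by
    rw [injective_iff_map_eq_zero]
    intro a ha
    obtain ⟨r, rfl⟩ := Ideal.Quotient.mk_surjective a
    have ha' : Ideal.Quotient.mk p (s * r) = 0 := ha
    rw [Ideal.Quotient.eq_zero_iff_mem] at ha' ⊢
    exact (‹p.IsPrime›.mem_or_mem ha').resolve_left hs
  let e := TensorProduct.quotTensorEquivQuotSMul S p
  have h0 : e (μ.rTensor S (e.symm (Submodule.Quotient.mk 1))) = 0 := by
    have hcomm : ∀ z, e (μ.rTensor S z) = s • e z := fun z => by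
      induction z using TensorProduct.induction_on with
      | zero => simp
      | add a b ha hb => simp only [map_add, smul_add, ha, hb]
      | tmul a x => rw [LinearMap.rTensor_tmul, LinearMap.lsmul_apply, ← map_smul, TensorProduct.smul_tmul']
    rw [hcomm, LinearEquiv.apply_symm_apply, ← Submodule.Quotient.mk_smul, Submodule.Quotient.mk_eq_zero,
      Ideal.smul_top_eq_map, Submodule.restrictScalars_mem, Algebra.smul_def, mul_one]
    exact h
  have h2 : e.symm (Submodule.Quotient.mk 1) = 0 := by
    refine Module.Flat.rTensor_preserves_injective_linearMap (M := S) μ hμ (e.injective ?_)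
    rw [h0, map_zero, map_zero]
  rw [LinearEquiv.map_eq_zero_iff, Submodule.Quotient.mk_eq_zero, Ideal.smul_top_eq_map,
    Submodule.restrictScalars_mem] at h2
  exact hP.ne_top ((Ideal.eq_top_iff_one _).2 h2)

/-- Let `R → S` be flat and `𝔭` a prime of `R` whose extension `𝔮 = 𝔭S` is prime. Then for every `n` the
extension to `S` of the symbolic power `𝔭^{(n)}` (the contraction of `𝔭ⁿR_𝔭`) equals the symbolic
power `𝔮^{(n)}`. -/
theorem result {R S : Type u} [CommRing R] [CommRing S] [Algebra R S] [Module.Flat R S]
    (p : Ideal R) [p.IsPrime] [(p.map (algebraMap R S)).IsPrime] (n : ℕ) :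
    (((p ^ n).map (algebraMap R (Localization.AtPrime p))).comap (algebraMap R (Localization.AtPrime p))).map
        (algebraMap R S) =
      (((p.map (algebraMap R S)) ^ n).map (algebraMap S (Localization.AtPrime (p.map (algebraMap R S))))).comap
        (algebraMap S (Localization.AtPrime (p.map (algebraMap R S)))) := by
  set φ := algebraMap R S
  set q := p.map φ
  refine le_antisymm (Ideal.map_le_iff_le_comap.2 fun r hr => ?_) fun y hy => ?_
  · rw [Ideal.mem_comap, IsLocalization.algebraMap_mem_map_algebraMap_iff p.primeCompl] at hr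
    obtain ⟨s, hs, hsr⟩ := hr
    rw [Ideal.mem_comap, Ideal.mem_comap, IsLocalization.algebraMap_mem_map_algebraMap_iff q.primeCompl]
    refine ⟨φ s, notMem_map p hs, ?_⟩
    rw [← map_mul, ← Ideal.map_pow]
    exact Ideal.mem_map_of_mem _ hsr
  · rw [Ideal.mem_comap, IsLocalization.algebraMap_mem_map_algebraMap_iff q.primeCompl] at hy
    obtain ⟨t, ht, hty⟩ := hy
    refine mem_of_mul_mem p ht n ?_
    rw [← Ideal.map_pow] at hty
    exact Ideal.map_mono Ideal.le_comap_map hty

end Groth.Agent.S2138
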