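import Groth.Statements.S2140
import Mathlib
-- import your own Groth.Agent.* helpers here

set_option autoImplicit false
universe u
open CAlg

namespace Groth.Agent.S2140

set_option maxHeartbeats 400000
universe v

open Polynomial

variable {R L : Type v} [CommRing R] [Field L] [Algebra R L]

lemma range_aeval_le {C T : Subalgebra R L} (x : L) (hC : C ≤ T) (hx : x ∈ T) (r : (C : Type v)[X]) :
    r.eval₂ C.val.toRingHom x ∈ T := by
  induction r using Polynomial.induction_on' with
  | add a b ha hb => rw [eval₂_add]; exact add_mem ha hb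
  | monomial n c => rw [eval₂_monomial]; exact mul_mem (hC c.2) (pow_mem hx n)

lemma step (t : Set L) (x g : L) (hg : g ∈ Algebra.adjoin R t) (hg0 : g ≠ 0)
    (hfp : Algebra.FinitePresentation R (Algebra.adjoin R (insert g⁻¹ t))) :
    ∃ g' ∈ Algebra.adjoin R t, g' ≠ 0 ∧
      Algebra.FinitePresentation R (Algebra.adjoin R (insert g'⁻¹ (insert x t))) := by
  classical
  set C := Algebra.adjoin R (insert g⁻¹ t) with hC
  by_cases halg : ∀ r : (C : Type v)[X], r.eval₂ C.val.toRingHom x = 0 → r = 0
  · refine ⟨g, hg, hg0, ?_⟩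
    set T := Algebra.adjoin R (insert g⁻¹ (insert x t))
    let φ : (C : Type v)[X] →ₐ[R] L :=
      { Polynomial.eval₂RingHom C.val.toRingHom x with commutes' := fun r => by simp }
    have hinj : Function.Injective φ := (injective_iff_map_eq_zero φ).mpr halg
    have hCT : C ≤ T := Algebra.adjoin_mono (Set.insert_subset_insert (Set.subset_insert _ _))
    have hrange : φ.range = T := by
      refine le_antisymm ?_ (Algebra.adjoin_le ?_)
      · rintro _ ⟨r, rfl⟩
        exact range_aeval_le x hCT (Algebra.subset_adjoin (by simp)) r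
      · have hCmem : ∀ c : C, (c : L) ∈ φ.range := fun c => ⟨Polynomial.C c, by simp [φ]⟩
        rintro y (rfl | rfl | hy)
        · exact hCmem ⟨g⁻¹, Algebra.subset_adjoin (by simp)⟩
        · exact ⟨X, by simp [φ]⟩
        · exact hCmem ⟨y, Algebra.subset_adjoin (by simp [hy])⟩
    haveI : Algebra.FinitePresentation R (C : Type v)[X] := Algebra.FinitePresentation.trans R C _
    exact Algebra.FinitePresentation.equiv
      ((AlgEquiv.ofInjective φ hinj).trans (Subalgebra.equivOfEq _ _ hrange))
  push Not at halg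
  obtain ⟨r0, hr0, hr00⟩ := halg
  have hex : ∃ n, ∃ p : (C : Type v)[X], p.eval₂ C.val.toRingHom x = 0 ∧ p ≠ 0 ∧ p.natDegree = n :=
    ⟨_, r0, hr0, hr00, rfl⟩
  obtain ⟨p, hpx, hp0, hpd⟩ := Nat.find_spec hex
  have hmin : ∀ r : (C : Type v)[X], r.eval₂ C.val.toRingHom x = 0 → r.natDegree < p.natDegree → r = 0 :=
    fun r hr hlt => by_contra fun h => Nat.find_min hex (hpd ▸ hlt) ⟨r, hr, h, rfl⟩
  let a : C := p.leadingCoeff
  have ha : a ≠ 0 := leadingCoeff_ne_zero.mpr hp0
  have haL : (a : L) ≠ 0 := fun h => ha (Subtype.ext h)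
  have hpow : ∀ c ∈ C, ∃ k : ℕ, c * g ^ k ∈ Algebra.adjoin R t := by
    intro c hc
    induction hc using Algebra.adjoin_induction with
    | mem y hy =>
      rcases hy with rfl | hy
      · exact ⟨1, by rw [pow_one, inv_mul_cancel₀ hg0]; exact one_mem _⟩
      · exact ⟨0, by simpa using Algebra.subset_adjoin hy⟩
    | algebraMap r => exact ⟨0, by simp⟩
    | add y z _ _ hy hz =>
      obtain ⟨k, hk⟩ := hy; obtain ⟨l, hl⟩ := hz
      refine ⟨k + l, ?_⟩
      rw [show (y + z) * g ^ (k + l) = y * g ^ k * g ^ l + z * g ^ l * g ^ k by rw [pow_add]; ring]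
      exact add_mem (mul_mem hk (pow_mem hg _)) (mul_mem hl (pow_mem hg _))
    | mul y z _ _ hy hz =>
      obtain ⟨k, hk⟩ := hy; obtain ⟨l, hl⟩ := hz
      refine ⟨k + l, ?_⟩
      rw [show y * z * g ^ (k + l) = (y * g ^ k) * (z * g ^ l) by rw [pow_add]; ring]
      exact mul_mem hk hl
  obtain ⟨k, hk⟩ := hpow a a.2
  refine ⟨g * ((a : L) * g ^ k), mul_mem hg hk,
    mul_ne_zero hg0 (mul_ne_zero haL (pow_ne_zero _ hg0)), ?_⟩
  set g' := g * ((a : L) * g ^ k) with hg'
  set T := Algebra.adjoin R (insert g'⁻¹ (insert x t)) with hT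
  have htT : Algebra.adjoin R t ≤ T :=
    Algebra.adjoin_mono ((Set.subset_insert _ _).trans (Set.subset_insert _ _))
  have hg'T : g'⁻¹ ∈ T := Algebra.subset_adjoin (by simp)
  have hgiT : g⁻¹ ∈ T := by
    rw [show g⁻¹ = g'⁻¹ * ((a : L) * g ^ k) by rw [hg']; field_simp]
    exact mul_mem hg'T (htT hk)
  have hCT : C ≤ T := Algebra.adjoin_le (by
    rintro y (rfl | hy)
    · exact hgiT
    · exact htT (Algebra.subset_adjoin hy))
  have haiT : (a : L)⁻¹ ∈ T := by
    rw [show (a : L)⁻¹ = g'⁻¹ * (g * g ^ k) by rw [hg']; field_simp]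
    exact mul_mem hg'T (htT (mul_mem hg (pow_mem hg _)))
  let C1 := Localization.Away a
  have hu : ∀ y : Submonoid.powers a, IsUnit (C.val y) := by
    rintro ⟨_, n, rfl⟩
    exact isUnit_iff_ne_zero.mpr (by simpa using pow_ne_zero n haL)
  let j : C1 →+* L := IsLocalization.lift (g := C.val.toRingHom) hu
  have hj : ∀ c : C, j (algebraMap C C1 c) = c := fun c => IsLocalization.lift_eq hu c
  let ai : C1 := IsLocalization.mk' C1 (1 : C) ⟨a, Submonoid.mem_powers a⟩
  have hai : algebraMap C C1 a * ai = 1 := by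
    rw [mul_comm]; exact (IsLocalization.mk'_spec C1 (1 : C) ⟨a, _⟩).trans (map_one _)
  have hjai : j ai = (a : L)⁻¹ := by
    have := congrArg j hai
    rw [map_mul, map_one, hj] at this
    exact eq_inv_of_mul_eq_one_right this
  have hjinj : Function.Injective j := (IsLocalization.lift_injective_iff hu).mpr fun c d =>
    ⟨fun h => by
      have h' := congrArg j h
      rw [hj, hj] at h'
      exact h', fun h => congrArg _ (Subtype.ext h)⟩
  let q : C1[X] := Polynomial.C ai * p.map (algebraMap C C1)
  have hq : q.Monic := by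
    refine monic_C_mul_of_mul_leadingCoeff_eq_one ?_
    rw [leadingCoeff_map_of_leadingCoeff_ne_zero _ ?_]
    · exact (mul_comm _ _).trans hai
    · intro h
      have h1 := congrArg j h
      rw [hj, map_zero] at h1
      exact haL h1
  have hqd : q.natDegree = p.natDegree := by
    have hai0 : ai ≠ 0 := fun h => by
      rw [h, map_zero] at hjai
      exact inv_ne_zero haL hjai.symm
    haveI : IsDomain C1 := Function.Injective.isDomain j hjinj
    rw [natDegree_C_mul hai0, natDegree_map_eq_of_injective]
    exact fun c d h => Subtype.ext (by rw [← hj c, ← hj d, h])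
  have hqx : q.eval₂ j x = 0 := by
    rw [eval₂_mul, eval₂_map, show j.comp (algebraMap C C1) = C.val.toRingHom from RingHom.ext hj, hpx, mul_zero]
  let E := AdjoinRoot q
  let φ : E →+* L := AdjoinRoot.lift j x hqx
  have hφinj : Function.Injective φ := by
    refine (injective_iff_map_eq_zero _).mpr fun z hz => ?_
    obtain ⟨r, rfl⟩ := AdjoinRoot.mk_surjective z
    rw [AdjoinRoot.lift_mk] at hz
    rw [AdjoinRoot.mk_eq_zero, ← modByMonic_eq_zero_iff_dvd hq]
    haveI : IsDomain C1 := Function.Injective.isDomain j hjinj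
    by_contra hne
    have hlt := natDegree_modByMonic_lt r hq (fun h1 => by
      rw [h1, eval₂_one] at hqx; exact one_ne_zero hqx)
    have hr' : (r %ₘ q).eval₂ j x = 0 := by
      have h1 := congrArg (Polynomial.eval₂ j x) (modByMonic_add_div r q)
      rwa [eval₂_add, eval₂_mul, hqx, zero_mul, add_zero, hz] at h1
    obtain ⟨b, hb⟩ := IsLocalization.integerNormalization_map_to_map (Submonoid.powers a) (r %ₘ q)
    set s := IsLocalization.integerNormalization (Submonoid.powers a) (r %ₘ q)
    have hinjC : Function.Injective (algebraMap C C1) := fun c d h =>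
      Subtype.ext (by rw [← hj c, ← hj d, h])
    have hb0 : algebraMap C C1 (b : C) ≠ 0 :=
      (IsLocalization.map_units C1 b).ne_zero
    have hs : s = 0 := by
      refine hmin s ?_ ?_
      · rw [← show j.comp (algebraMap C C1) = C.val.toRingHom from RingHom.ext hj, ← eval₂_map, hb,
          algebra_compatible_smul C1, eval₂_smul, hr', mul_zero]
      · rw [← natDegree_map_eq_of_injective hinjC, hb, algebra_compatible_smul C1, natDegree_smul _ hb0]
        exact hqd ▸ hlt
    rw [hs, Polynomial.map_zero, algebra_compatible_smul C1] at hb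
    exact hne ((smul_eq_zero.mp hb.symm).resolve_left hb0)
  letI : Algebra R C1 := OreLocalization.instAlgebra
  haveI : Algebra.FinitePresentation R C1 := Algebra.FinitePresentation.trans R C C1
  haveI : Algebra.FinitePresentation C1 E := Algebra.FinitePresentation.quotient
    (Submodule.fg_span_singleton q)
  haveI : Algebra.FinitePresentation R E := Algebra.FinitePresentation.trans R C1 E
  let ψ : E →ₐ[R] L :=
    { φ with
      commutes' := fun r => by
        show φ (AdjoinRoot.of q (algebraMap R C1 r)) = _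
        rw [AdjoinRoot.lift_of, IsScalarTower.algebraMap_apply R C C1, hj]
        rfl }
  have hrange : ψ.range = T := by
    refine le_antisymm ?_ (Algebra.adjoin_le ?_)
    · rintro _ ⟨z, rfl⟩
      obtain ⟨r, rfl⟩ := AdjoinRoot.mk_surjective z
      show φ (AdjoinRoot.mk q r) ∈ T
      rw [AdjoinRoot.lift_mk]
      induction r using Polynomial.induction_on' with
      | add u v hu' hv => rw [eval₂_add]; exact add_mem hu' hv
      | monomial n c =>
        rw [eval₂_monomial]
        refine mul_mem ?_ (pow_mem (Algebra.subset_adjoin (by simp)) n)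
        obtain ⟨⟨c0, _, m, rfl⟩, hc⟩ := IsLocalization.surj (Submonoid.powers a) c
        have h1 := congrArg j hc
        rw [map_mul, hj, hj] at h1
        have : j c = (c0 : L) * ((a : L)⁻¹) ^ m := by
          rw [← h1, inv_pow, mul_assoc]
          simp [mul_inv_cancel₀ (pow_ne_zero m haL)]
        rw [this]
        exact mul_mem (hCT c0.2) (pow_mem haiT m)
    · have hCmem : ∀ c : C, (c : L) ∈ ψ.range := fun c =>
        ⟨AdjoinRoot.of q (algebraMap C C1 c), (AdjoinRoot.lift_of hqx).trans (hj c)⟩
      rintro y (rfl | rfl | hy)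
      · have hgi : g⁻¹ ∈ ψ.range := hCmem ⟨g⁻¹, Algebra.subset_adjoin (by simp)⟩
        have hai' : (a : L)⁻¹ ∈ ψ.range := ⟨AdjoinRoot.of q ai, (AdjoinRoot.lift_of hqx).trans hjai⟩
        rw [hg', mul_inv, mul_inv, ← inv_pow]
        exact mul_mem hgi (mul_mem hai' (pow_mem hgi k))
      · exact ⟨AdjoinRoot.root q, AdjoinRoot.lift_root hqx⟩
      · exact hCmem ⟨y, Algebra.subset_adjoin (by simp [hy])⟩
  exact Algebra.FinitePresentation.equiv
    ((AlgEquiv.ofInjective ψ hφinj).trans (Subalgebra.equivOfEq _ _ hrange))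

lemma exists_fp (hinj : Function.Injective (algebraMap R L)) (t : Finset L) :
    ∃ g ∈ Algebra.adjoin R (t : Set L), g ≠ 0 ∧
      Algebra.FinitePresentation R (Algebra.adjoin R (insert g⁻¹ (t : Set L))) := by
  classical
  induction t using Finset.induction_on with
  | empty =>
    refine ⟨1, one_mem _, one_ne_zero, ?_⟩
    have h : Algebra.adjoin R (insert (1 : L)⁻¹ ((∅ : Finset L) : Set L)) = ⊥ :=
      le_bot_iff.mp (Algebra.adjoin_le fun y hy => by
        rcases hy with rfl | hy
        · rw [inv_one]; exact one_mem _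
        · simp at hy)
    rw [h]
    exact Algebra.FinitePresentation.equiv (Algebra.botEquivOfInjective hinj).symm
  | insert x t _ ih =>
    obtain ⟨g, hg, hg0, hfp⟩ := ih
    obtain ⟨g', hg', hg'0, hfp'⟩ := step (t : Set L) x g hg hg0 hfp
    rw [Finset.coe_insert]
    exact ⟨g', Algebra.adjoin_mono (Set.subset_insert _ _) hg', hg'0, hfp'⟩


/-- Let `R → S` be an injective ring map of finite type between domains. Then there are nonzero `f ∈ R`
and `g ∈ S` such that `S_{fg}` is a finitely presented `R_f`-algebra. -/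
theorem result {R S : Type u} [CommRing R] [IsDomain R] [CommRing S] [IsDomain S]
    [Algebra R S] [Algebra.FiniteType R S] (hinj : Function.Injective (algebraMap R S)) :
    ∃ (f : R) (g : S), f ≠ 0 ∧ g ≠ 0 ∧
      ∀ (Rf Sfg : Type u) [CommRing Rf] [CommRing Sfg] [Algebra R Rf] [IsLocalization.Away f Rf]
        [Algebra S Sfg] [IsLocalization.Away (algebraMap R S f * g) Sfg] [Algebra Rf Sfg] [Algebra R Sfg]
        [IsScalarTower R S Sfg] [IsScalarTower R Rf Sfg], Algebra.FinitePresentation Rf Sfg := by
  classical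
  let L := FractionRing S
  haveI : FaithfulSMul R S := (faithfulSMul_iff_algebraMap_injective R S).mpr hinj
  have hSL : Function.Injective (algebraMap S L) := IsFractionRing.injective S L
  have hinjL : Function.Injective (algebraMap R L) := by
    rw [IsScalarTower.algebraMap_eq R S L]; exact hSL.comp hinj
  obtain ⟨t, ht⟩ := (inferInstance : Algebra.FiniteType R S).out
  let ι : S →ₐ[R] L := IsScalarTower.toAlgHom R S L
  obtain ⟨gL, hgL, hgL0, hfp⟩ := exists_fp hinjL (t.image ι)
  have himg : Algebra.adjoin R ((t.image ι : Finset L) : Set L) = ι.range := by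
    rw [Finset.coe_image, ← AlgHom.map_adjoin, ht, Algebra.map_top]
  obtain ⟨g, rfl⟩ : gL ∈ ι.range := himg ▸ hgL
  have hg0 : g ≠ 0 := fun h => hgL0 (by rw [h]; exact map_zero ι)
  refine ⟨1, g, one_ne_zero, hg0, ?_⟩
  intro Rf Sfg _ _ _ _ _ _ _ _ _ _
  rw [map_one, one_mul] at *
  haveI : IsLocalization.Away g Sfg := ‹_›
  have hu : ∀ y : Submonoid.powers g, IsUnit (ι y) := by
    rintro ⟨_, n, rfl⟩
    exact isUnit_iff_ne_zero.mpr (by rw [map_pow]; exact pow_ne_zero n hgL0)
  let l : Sfg →+* L := IsLocalization.lift (g := ι.toRingHom) hu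
  have hl : ∀ s, l (algebraMap S Sfg s) = ι s := fun s => IsLocalization.lift_eq hu s
  have hinjSfg : Function.Injective (algebraMap S Sfg) := fun a b h =>
    hSL (show ι a = ι b by rw [← hl a, ← hl b, h])
  have hlinj : Function.Injective l := (IsLocalization.lift_injective_iff hu).mpr fun c d =>
    ⟨fun h => congrArg ι (hinjSfg h), fun h => congrArg _ (hSL h)⟩
  let lA : Sfg →ₐ[R] L :=
    { l with
      commutes' := fun r => by
        show l (algebraMap R Sfg r) = _
        rw [IsScalarTower.algebraMap_apply R S Sfg, hl]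
        exact ι.commutes r }
  have hrange : Algebra.adjoin R (insert (ι g)⁻¹ ((t.image ι : Finset L) : Set L)) = lA.range := by
    refine le_antisymm (Algebra.adjoin_le ?_) ?_
    · rintro y (rfl | hy)
      · refine ⟨IsLocalization.mk' Sfg (1 : S) ⟨g, Submonoid.mem_powers g⟩, ?_⟩
        show l _ = _
        refine eq_inv_of_mul_eq_one_left ?_
        rw [← hl, ← map_mul, IsLocalization.mk'_spec, map_one, map_one]
      · obtain ⟨s, hs⟩ : y ∈ ι.range := himg ▸ Algebra.subset_adjoin hy
        exact ⟨algebraMap S Sfg s, (hl s).trans hs⟩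
    · rintro _ ⟨z, rfl⟩
      obtain ⟨s, ⟨_, n, rfl⟩, rfl⟩ := IsLocalization.exists_mk'_eq (Submonoid.powers g) z
      have : l (IsLocalization.mk' Sfg s (⟨g ^ n, n, rfl⟩ : Submonoid.powers g)) = ι s * ((ι g)⁻¹) ^ n := by
        rw [inv_pow, ← map_pow, eq_mul_inv_iff_mul_eq₀ (by rw [map_pow]; exact pow_ne_zero n hgL0),
          ← hl, ← map_mul, IsLocalization.mk'_spec, hl]
      show l _ ∈ _
      rw [this]
      refine mul_mem (Algebra.adjoin_mono (Set.subset_insert _ _) ?_) (pow_mem (Algebra.subset_adjoin (by simp)) n)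
      rw [himg]; exact ⟨s, rfl⟩
  haveI : Algebra.FinitePresentation R Sfg := Algebra.FinitePresentation.equiv
    ((Subalgebra.equivOfEq _ _ hrange).trans (AlgEquiv.ofInjective lA hlinj).symm)
  have hb : Function.Bijective (algebraMap R Rf) :=
    (IsLocalization.atUnits R (Submonoid.powers (1 : R)) (S := Rf) (by
      rintro _ ⟨n, rfl⟩; simp)).bijective
  haveI : Algebra.FiniteType R Rf := Algebra.FiniteType.of_surjective (Algebra.ofId R Rf) hb.2
  exact Algebra.FinitePresentation.of_restrict_scalars_finitePresentation R Rf Sfg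

end Groth.Agent.S2140
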