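import Groth.Statements.S2146
import Mathlib

-- import your own Groth.Agent.* helpers here

set_option autoImplicit false
universe u
open CAlg

namespace Groth.Agent.S2146

/-- Let `S` be a finitely presented `R`-algebra and `𝔮` a prime of `S` over `𝔭` such that the induced
map `R_𝔭 → S_𝔮` is bijective. Then for some `f ∉ 𝔭` there is an `R_f`-algebra `C` with `S_f ≅ R_f ×
C` as `R_f`-algebras. -/
theorem result {R S : Type u} [CommRing R] [CommRing S] [Algebra R S]
    [Algebra.FinitePresentation R S] (q : Ideal S) [q.IsPrime] (p : Ideal R) [p.IsPrime] [q.LiesOver p]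
    (h : Function.Bijective (Localization.localRingHom p q (algebraMap R S) (q.over_def p))) :
    ∃ f : R, f ∉ p ∧ ∀ (Rf Sf : Type u) [CommRing Rf] [CommRing Sf] [Algebra R Rf] [IsLocalization.Away f Rf]
      [Algebra S Sf] [IsLocalization.Away (algebraMap R S f) Sf] [Algebra Rf Sf] [Algebra R Sf] [IsScalarTower R S Sf]
      [IsScalarTower R Rf Sf],
      ∃ (C : Type u) (_ : CommRing C) (_ : Algebra Rf C), Nonempty (Sf ≃ₐ[Rf] (Rf × C)) := by
  classical
  let φ := Localization.localRingHom p q (algebraMap R S) (q.over_def p)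
  let e := RingEquiv.ofBijective φ h
  let Rp := Localization.AtPrime p
  let Sq := Localization.AtPrime q
  let ρ : S →ₐ[R] Rp :=
    { e.symm.toRingHom.comp (algebraMap S Sq) with
      commutes' := fun r => by
        show e.symm (algebraMap S Sq (algebraMap R S r)) = algebraMap R Rp r
        rw [RingEquiv.symm_apply_eq]
        exact (Localization.localRingHom_to_map p q _ (q.over_def p) r).symm }
  have hρ : ∀ s, φ (ρ s) = algebraMap S Sq s := fun s => e.apply_symm_apply _
  obtain ⟨n, π0, hπ0, hker⟩ := ‹Algebra.FinitePresentation R S›.out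
  obtain ⟨rels, hrels⟩ := hker
  let x : Fin n → S := fun i => π0 (MvPolynomial.X i)
  have hi : ∀ i, ∃ a b : R, ∃ c : S, b ∉ p ∧ c ∉ q ∧ c * (x i * algebraMap R S b) = c * algebraMap R S a ∧
      ρ (x i) * algebraMap R Rp b = algebraMap R Rp a := by
    intro i
    obtain ⟨⟨a, b⟩, hab⟩ := IsLocalization.surj p.primeCompl (ρ (x i))
    have h2 := congrArg φ hab
    rw [map_mul, hρ, Localization.localRingHom_to_map, Localization.localRingHom_to_map, ← map_mul,
      IsLocalization.eq_iff_exists q.primeCompl] at h2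
    obtain ⟨c, hc⟩ := h2
    exact ⟨a, b, c, b.2, c.2, hc, hab⟩
  choose a b c hbp hcq hcx hρx using hi
  let f1 := ∏ i, b i
  have hf1 : f1 ∉ p := fun hm => by
    obtain ⟨i, -, hi⟩ := (Ideal.IsPrime.prod_mem_iff.1 hm)
    exact hbp i hi
  let c0 := ∏ i, c i
  have hc0 : c0 ∉ q := fun hm => by
    obtain ⟨i, -, hi⟩ := (Ideal.IsPrime.prod_mem_iff.1 hm)
    exact hcq i hi
  let L1 := Localization.Away f1
  have hu1 : ∀ i, IsUnit (algebraMap R L1 (b i)) := fun i =>
    isUnit_of_dvd_unit (map_dvd _ (Finset.dvd_prod_of_mem b (Finset.mem_univ i))) (IsLocalization.Away.algebraMap_isUnit f1)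
  let v : Fin n → L1 := fun i => algebraMap R L1 (a i) * ((hu1 i).unit⁻¹ : L1ˣ)
  have hv : ∀ i, v i * algebraMap R L1 (b i) = algebraMap R L1 (a i) := fun i => by
    rw [mul_assoc, IsUnit.val_inv_mul, mul_one]
  let π1 : MvPolynomial (Fin n) R →ₐ[R] L1 := MvPolynomial.aeval v
  let to_p : L1 →ₐ[R] Rp := IsLocalization.liftAlgHom (M := Submonoid.powers f1) (f := Algebra.ofId R Rp) (by
    rintro ⟨_, k, rfl⟩
    exact (IsLocalization.map_units Rp (⟨f1, hf1⟩ : p.primeCompl)).pow k |> fun h => by simpa using h)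
  have hcomm : ∀ P, to_p (π1 P) = ρ (π0 P) := by
    intro P
    refine AlgHom.congr_fun (φ₁ := to_p.comp π1) (φ₂ := ρ.comp π0) (MvPolynomial.algHom_ext fun i => ?_) P
    show to_p (π1 (MvPolynomial.X i)) = ρ (x i)
    rw [show π1 (MvPolynomial.X i) = v i from MvPolynomial.aeval_X v i]
    apply (IsLocalization.map_units Rp (⟨b i, hbp i⟩ : p.primeCompl)).mul_right_cancel
    show to_p (v i) * algebraMap R Rp (b i) = _
    rw [hρx, ← to_p.commutes (b i), ← map_mul, hv, to_p.commutes]
  -- clearing denominators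
  have hclear : ∀ z : L1, ∃ r : R, ∃ k : ℕ, z * algebraMap R L1 f1 ^ k = algebraMap R L1 r ∧
      to_p z * algebraMap R Rp f1 ^ k = algebraMap R Rp r := by
    intro z
    obtain ⟨⟨r, ⟨_, k, rfl⟩⟩, hz⟩ := IsLocalization.surj (Submonoid.powers f1) z
    have hz' : z * algebraMap R L1 f1 ^ k = algebraMap R L1 r := by rw [← map_pow]; exact hz
    refine ⟨r, k, hz', ?_⟩
    rw [← to_p.commutes f1, ← map_pow, ← map_mul, hz', to_p.commutes]
  have hrel : ∀ P : rels, ∃ t : R, t ∉ p ∧ algebraMap R L1 t * π1 P = 0 := by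
    intro P
    obtain ⟨r, k, h1, h2⟩ := hclear (π1 P)
    have hP : π0 (P : MvPolynomial (Fin n) R) = 0 := by
      have : (P : MvPolynomial (Fin n) R) ∈ RingHom.ker π0.toRingHom := hrels ▸ Submodule.subset_span P.2
      exact this
    rw [hcomm, hP, map_zero, zero_mul, eq_comm, IsLocalization.map_eq_zero_iff p.primeCompl] at h2
    obtain ⟨t, ht⟩ := h2
    refine ⟨t, t.2, (IsLocalization.Away.algebraMap_isUnit (S := L1) f1).pow k |>.mul_left_cancel ?_⟩
    rw [mul_zero, ← mul_assoc, mul_comm (algebraMap R L1 f1 ^ k), mul_assoc, mul_comm (algebraMap R L1 f1 ^ k), h1, ← map_mul, ht, map_zero]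
  choose t htp htP using hrel
  obtain ⟨C0, hC0⟩ := hπ0 c0
  obtain ⟨rc, kc, hrc1, hrc2⟩ := hclear (π1 C0)
  have hrc : rc ∉ p := by
    intro hm
    have h3 : IsUnit (to_p (π1 C0) * algebraMap R Rp f1 ^ kc) := by
      refine IsUnit.mul ?_ ((IsLocalization.map_units Rp (⟨f1, hf1⟩ : p.primeCompl)).pow kc)
      rw [hcomm, hC0]
      exact (IsLocalization.map_units Sq (⟨c0, hc0⟩ : q.primeCompl)).map e.symm
    rw [hrc2] at h3
    exact ((IsLocalization.AtPrime.isUnit_to_map_iff Rp p rc).1 h3) hm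
  refine ⟨f1 * (∏ P : rels, t P) * rc, ?_, ?_⟩
  · intro hm
    rcases (inferInstance : p.IsPrime).mem_or_mem hm with hm | hm
    · rcases (inferInstance : p.IsPrime).mem_or_mem hm with hm | hm
      · exact hf1 hm
      · obtain ⟨P, -, hP⟩ := (Ideal.IsPrime.prod_mem_iff.1 hm)
        exact htp P hP
    · exact hrc hm
  intro Rf Sf _ _ _ _ _ _ _ _ _ _
  set f := f1 * (∏ P : rels, t P) * rc with hf
  have hfu : IsUnit (algebraMap R Rf f) := IsLocalization.Away.algebraMap_isUnit f
  have hdvd : ∀ d, d ∣ f → IsUnit (algebraMap R Rf d) := fun d hd => isUnit_of_dvd_unit (map_dvd _ hd) hfu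
  let toF : L1 →ₐ[R] Rf := IsLocalization.liftAlgHom (M := Submonoid.powers f1) (f := Algebra.ofId R Rf) (by
    rintro ⟨_, k, rfl⟩
    have := (hdvd f1 ((dvd_mul_right _ _).mul_right _)).pow k
    simpa using this)
  let π2 : MvPolynomial (Fin n) R →ₐ[R] Rf := toF.comp π1
  have hkill : RingHom.ker π0.toRingHom ≤ RingHom.ker π2.toRingHom := by
    rw [← hrels]
    refine Submodule.span_le.2 fun P hP => ?_
    show π2 P = 0
    have h4 := congrArg toF (htP ⟨P, hP⟩)
    rw [map_mul, toF.commutes, map_zero] at h4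
    exact (hdvd (t ⟨P, hP⟩) (((Finset.dvd_prod_of_mem t (Finset.mem_univ _)).mul_left f1).mul_right rc)).mul_right_eq_zero.1 h4
  let π3 : S →ₐ[R] Rf := AlgHom.liftOfSurjective π0 hπ0 π2 hkill
  have hπ3 : ∀ P, π3 (π0 P) = π2 P := fun P => AlgHom.liftOfSurjective_apply π0 hπ0 π2 hkill P
  have hc0u : IsUnit (π3 c0) := by
    rw [← hC0, hπ3]
    have h5 := congrArg toF hrc1
    rw [map_mul, map_pow, toF.commutes, toF.commutes] at h5
    exact isUnit_of_mul_isUnit_left (h5.symm ▸ hdvd rc (dvd_mul_left _ _))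
  have hfS : ∀ y : Submonoid.powers (algebraMap R S f), IsUnit (π3 y) := by
    rintro ⟨_, k, rfl⟩
    show IsUnit (π3 (algebraMap R S f ^ k))
    rw [map_pow, π3.commutes]; exact hfu.pow k
  let π : Sf →+* Rf := IsLocalization.lift (g := π3.toRingHom) hfS
  have hπS : ∀ s, π (algebraMap S Sf s) = π3 s := fun s => IsLocalization.lift_eq _ s
  have hπR : ∀ r : Rf, π (algebraMap Rf Sf r) = r := by
    intro r
    refine RingHom.congr_fun (f := π.comp (algebraMap Rf Sf)) (g := RingHom.id Rf)
      (IsLocalization.ringHom_ext (Submonoid.powers f) (RingHom.ext fun a => ?_)) r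
    show π (algebraMap Rf Sf (algebraMap R Rf a)) = algebraMap R Rf a
    rw [← IsScalarTower.algebraMap_apply R Rf Sf, IsScalarTower.algebraMap_apply R S Sf, hπS, π3.commutes]
  let c' := algebraMap S Sf c0
  have hgen : ∀ z : Sf, c' * z = c' * algebraMap Rf Sf (π z) := by
    have hS : ∀ P, c' * algebraMap S Sf (π0 P) = c' * algebraMap Rf Sf (π (algebraMap S Sf (π0 P))) := by
      intro P
      induction P using MvPolynomial.induction_on with
      | C r =>
        rw [← MvPolynomial.algebraMap_eq, π0.commutes, hπS, π3.commutes, ← IsScalarTower.algebraMap_apply, ← IsScalarTower.algebraMap_apply]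
      | add P Q hP hQ => simp only [map_add, mul_add, hP, hQ]
      | mul_X P i hP =>
        simp only [map_mul]
        have hX : c' * algebraMap S Sf (x i) = c' * algebraMap Rf Sf (π (algebraMap S Sf (x i))) := by
          have h6 : IsUnit (algebraMap R Sf (b i)) := by
            rw [IsScalarTower.algebraMap_apply R Rf Sf]
            exact (hdvd _ (((Finset.dvd_prod_of_mem b (Finset.mem_univ i)).mul_right _).mul_right _)).map _
          apply h6.mul_right_cancel
          have hl : c' * algebraMap S Sf (x i) * algebraMap R Sf (b i) = c' * algebraMap R Sf (a i) := by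
            rw [IsScalarTower.algebraMap_apply R S Sf, IsScalarTower.algebraMap_apply R S Sf, ← map_mul, ← map_mul, ← map_mul]
            congr 1
            show (∏ j, c j) * x i * algebraMap R S (b i) = (∏ j, c j) * algebraMap R S (a i)
            rw [← Finset.prod_erase_mul _ _ (Finset.mem_univ i), mul_assoc, mul_assoc, hcx i, mul_assoc]
          rw [hl, mul_assoc, IsScalarTower.algebraMap_apply R Rf Sf, IsScalarTower.algebraMap_apply R Rf Sf, ← map_mul]
          congr 2
          rw [hπS, show x i = π0 (MvPolynomial.X i) from rfl, hπ3]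
          show _ = toF (π1 (MvPolynomial.X i)) * _
          rw [show π1 (MvPolynomial.X i) = v i from MvPolynomial.aeval_X v i, ← toF.commutes (b i), ← map_mul, hv, toF.commutes]
        calc c' * (algebraMap S Sf (π0 P) * algebraMap S Sf (x i))
            = (c' * algebraMap S Sf (π0 P)) * algebraMap S Sf (x i) := by ring
          _ = algebraMap Rf Sf (π (algebraMap S Sf (π0 P))) * (c' * algebraMap S Sf (x i)) := by rw [hP]; ring
          _ = _ := by rw [hX]; ring
    intro z
    obtain ⟨⟨s, ⟨_, k, rfl⟩⟩, hz⟩ := IsLocalization.surj (Submonoid.powers (algebraMap R S f)) z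
    obtain ⟨P, rfl⟩ := hπ0 s
    have hu : IsUnit (algebraMap R Sf f ^ k) := by
      rw [IsScalarTower.algebraMap_apply R Rf Sf]; exact (hfu.map _).pow k
    apply hu.mul_right_cancel
    have hz' : z * algebraMap R Sf f ^ k = algebraMap S Sf (π0 P) := by
      rw [IsScalarTower.algebraMap_apply R S Sf, ← map_pow]; exact hz
    rw [mul_assoc, hz', hS, mul_assoc, ← hz', map_mul π, map_mul (algebraMap Rf Sf)]
    congr 2
    rw [map_pow, map_pow, IsScalarTower.algebraMap_apply R Rf Sf, hπR]
  have hπc : IsUnit (π c') := by rw [hπS]; exact hc0u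
  let u := c' * algebraMap Rf Sf (hπc.unit⁻¹ : Rfˣ)
  have hπu : π u = 1 := by rw [map_mul, hπR, IsUnit.mul_val_inv]
  have hu : ∀ z, u * z = u * algebraMap Rf Sf (π z) := fun z => by
    show c' * _ * z = c' * _ * _
    linear_combination (algebraMap Rf Sf (hπc.unit⁻¹ : Rfˣ)) * hgen z
  let K : Ideal Sf := Ideal.span {u}
  let πA : Sf →ₐ[Rf] Rf := { π with commutes' := fun r => hπR r }
  let Ψ : Sf →ₐ[Rf] Rf × (Sf ⧸ K) := AlgHom.prod πA (Ideal.Quotient.mkₐ Rf K)
  refine ⟨Sf ⧸ K, inferInstance, inferInstance, ⟨AlgEquiv.ofBijective Ψ ⟨?_, ?_⟩⟩⟩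
  · rw [injective_iff_map_eq_zero]
    intro z hz
    obtain ⟨hz1, hz2⟩ := Prod.ext_iff.1 hz
    have hz1' : π z = 0 := hz1
    obtain ⟨w, hw⟩ := Ideal.mem_span_singleton'.1 (Ideal.Quotient.eq_zero_iff_mem.1 hz2)
    have h8 : u * z = 0 := by rw [hu, hz1', map_zero, mul_zero]
    have h7 : u * u = u := by rw [hu u, hπu, map_one, mul_one]
    rw [← hw, ← h7]
    rw [← hw] at h8
    linear_combination h8
  · rintro ⟨r, w⟩
    obtain ⟨w, rfl⟩ := Ideal.Quotient.mk_surjective w
    refine ⟨u * algebraMap Rf Sf r + (1 - u) * w, Prod.ext ?_ ?_⟩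
    · show π (u * algebraMap Rf Sf r + (1 - u) * w) = r
      rw [map_add, map_mul π u, map_mul π (1 - u), map_sub, map_one, hπu, hπR]; ring
    · show Ideal.Quotient.mk K (u * algebraMap Rf Sf r + (1 - u) * w) = Ideal.Quotient.mk K w
      rw [Ideal.Quotient.eq]
      exact Ideal.mem_span_singleton'.2 ⟨algebraMap Rf Sf r - w, by ring⟩

end Groth.Agent.S2146
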