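import Groth.Statements.S2148
import Mathlib.Algebra.CharP.Algebra
import Mathlib.Algebra.Field.Subfield.Basic
import Mathlib.FieldTheory.IntermediateField.Adjoin.Basic
import Mathlib.FieldTheory.Perfect
import Mathlib.Order.Zorn
import Mathlib.RingTheory.Kaehler.Basic
import Mathlib.FieldTheory.KummerPolynomial


-- import your own Groth.Agent.* helpers here

set_option autoImplicit false
universe u
open CAlg

open Polynomial
namespace Groth.Agent.S2148

/-- Let `k` be a perfect field of characteristic `p > 0` and `K` an extension field of `k`. For `a ∈ K`,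
the differential `da` vanishes in `Ω_{K/k}` if and only if `a` is a `p`-th power in `K`. -/
theorem result {k K : Type u} [Field k] [Field K] [Algebra k K] (p : ℕ) [Fact p.Prime]
    [CharP k p] [PerfectRing k p] (a : K) :
    KaehlerDifferential.D k K a = 0 ↔ ∃ b : K, b ^ p = a := by
  classical
  have hp : p.Prime := Fact.out
  have : CharP K p := (RingHom.charP_iff (algebraMap k K) (RingHom.injective _) p).1 inferInstance
  constructor
  · intro h0
    by_contra hne
    push Not at hne
    -- a maximal subfield containing `K^p` and not `a`
    let P := (frobenius K p).fieldRange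
    have hk : ∀ c : k, algebraMap k K c ∈ P := fun c => by
      obtain ⟨d, hd⟩ := (PerfectRing.bijective_frobenius (R := k) (p := p)).2 c
      refine ⟨algebraMap k K d, ?_⟩
      rw [← hd, frobenius_def]
      exact (map_pow (algebraMap k K) d p).symm
    have haP : a ∉ P := fun ⟨b, hb⟩ => hne b hb
    obtain ⟨M, hPM, hMmax⟩ := zorn_le_nonempty₀ {M : Subfield K | P ≤ M ∧ a ∉ M} (fun c hc hchain y hy => by
      refine ⟨sSup c, ⟨(hc hy).1.trans (le_sSup hy), fun ha => ?_⟩, fun z hz => le_sSup hz⟩
      obtain ⟨z, hz, haz⟩ := (Subfield.mem_sSup_of_directedOn ⟨y, hy⟩ hchain.directedOn).1 ha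
      exact (hc hz).2 haz) P ⟨le_rfl, haP⟩
    obtain ⟨hP, haM⟩ := hMmax.prop
    let b : M := ⟨a ^ p, hP ⟨a, frobenius_def p a⟩⟩
    have hroot : ∀ z : K, IsIntegral M z := fun z => by
      refine IsIntegral.of_pow hp.pos ?_
      exact (isIntegral_algebraMap (x := (⟨z ^ p, hP ⟨z, frobenius_def p z⟩⟩ : M)))
    have hirr : ∀ z : K, z ∉ M → Module.finrank M (IntermediateField.adjoin M ({z} : Set K)) = p := fun z hz => by
      let c : M := ⟨z ^ p, hP ⟨z, frobenius_def p z⟩⟩
      have hi : Irreducible (X ^ p - C c : M[X]) := X_pow_sub_C_irreducible_of_prime hp fun d hd => by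
        have h1 : (d : K) ^ p = z ^ p := congrArg Subtype.val hd
        exact hz (frobenius_inj K p h1 ▸ d.2)
      have hz0 : aeval z (X ^ p - C c : M[X]) = 0 := by
        rw [map_sub, map_pow, aeval_X, aeval_C]; exact sub_self _
      rw [IntermediateField.adjoin.finrank (hroot z),
        ← minpoly.eq_of_irreducible_of_monic hi hz0 (monic_X_pow_sub_C c hp.ne_zero), natDegree_X_pow_sub_C]
    have htop : IntermediateField.adjoin M ({a} : Set K) = ⊤ := by
      rw [eq_top_iff]
      intro z _
      by_cases hz : z ∈ M
      · exact IntermediateField.algebraMap_mem _ (⟨z, hz⟩ : M)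
      have hle : IntermediateField.adjoin M ({a} : Set K) ≤ IntermediateField.adjoin M ({z} : Set K) := by
        rw [IntermediateField.adjoin_simple_le_iff]
        by_contra hna
        have hsub : M ≤ (IntermediateField.adjoin M ({z} : Set K)).toSubfield := fun w hw =>
          IntermediateField.algebraMap_mem _ (⟨w, hw⟩ : M)
        exact hz (hMmax.le_of_ge ⟨hP.trans hsub, hna⟩ hsub (IntermediateField.mem_adjoin_simple_self M z))
      have := IntermediateField.adjoin.finiteDimensional (hroot z)
      rw [IntermediateField.eq_of_le_of_finrank_eq hle ((hirr a haM).trans (hirr z hz).symm)]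
      exact IntermediateField.mem_adjoin_simple_self M z
    set g : M[X] := X ^ p - C b with hg
    have hga : aeval a g = 0 := by rw [hg, map_sub, map_pow, aeval_X, aeval_C]; exact sub_self _
    have hsurj : ∀ z : K, ∃ q : M[X], aeval a q = z := fun z => by
      have h1 : z ∈ Algebra.adjoin M ({a} : Set K) := by
        rw [← IntermediateField.adjoin_simple_toSubalgebra_of_isAlgebraic (hroot a).isAlgebraic, htop]; trivial
      rwa [Algebra.adjoin_singleton_eq_range_aeval, AlgHom.mem_range] at h1
    choose lift hlift using hsurj
    have hmin : minpoly M a = g := by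
      refine (minpoly.eq_of_irreducible_of_monic ?_ hga (monic_X_pow_sub_C b hp.ne_zero)).symm
      exact X_pow_sub_C_irreducible_of_prime hp fun d hd => haM (frobenius_inj K p (congrArg Subtype.val hd) ▸ d.2)
    have hder : ∀ q : M[X], aeval a q = 0 → aeval a q.derivative = 0 := fun q hq => by
      obtain ⟨r, rfl⟩ := hmin ▸ minpoly.dvd M a hq
      have hg' : g.derivative = 0 := by
        rw [hg, derivative_sub, derivative_X_pow, derivative_C, sub_zero]
        have : (p : M) = 0 := by
          apply Subtype.val_injective
          show ((p : M) : K) = 0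
          push_cast
          exact CharP.cast_eq_zero K p
        rw [this, map_zero, zero_mul]
      rw [derivative_mul, hg', zero_mul, zero_add, map_mul, hga, zero_mul]
    have hwd : ∀ q : M[X], aeval a (lift (aeval a q)).derivative = aeval a q.derivative := fun q => by
      rw [← sub_eq_zero, ← map_sub, ← derivative_sub]
      exact hder _ (by rw [map_sub, hlift, sub_self])
    let D : Derivation k K K :=
      { toFun := fun z => aeval a (lift z).derivative
        map_add' := fun x y => by
          conv_lhs => rw [← hlift x, ← hlift y, ← map_add, hwd, derivative_add, map_add]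
        map_smul' := fun c x => by
          obtain ⟨d, hd⟩ : ∃ d : M, (d : K) = algebraMap k K c := ⟨⟨_, hP (hk c)⟩, rfl⟩
          have h1 : c • x = aeval a (C d * lift x) := by
            rw [map_mul, aeval_C, hlift, Algebra.smul_def, ← hd]; rfl
          show aeval a (lift (c • x)).derivative = c • aeval a (lift x).derivative
          rw [h1, hwd, derivative_C_mul, map_mul, aeval_C, Algebra.smul_def, ← hd]; rfl
        map_one_eq_zero' := by
          show aeval a (lift 1).derivative = 0
          rw [show (1 : K) = aeval a (1 : M[X]) from (map_one _).symm, hwd, derivative_one, map_zero]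
        leibniz' := fun x y => by
          show aeval a (lift (x * y)).derivative = x • aeval a (lift y).derivative + y • aeval a (lift x).derivative
          conv_lhs => rw [← hlift x, ← hlift y, ← map_mul, hwd, derivative_mul, map_add, map_mul, map_mul, hlift, hlift]
          simp only [smul_eq_mul]; ring }
    have h1 : D a = 1 := by
      show aeval a (lift a).derivative = 1
      have := hwd X
      rw [aeval_X, derivative_X, map_one] at this
      exact this
    have h2 : D a = D.liftKaehlerDifferential (KaehlerDifferential.D k K a) := (D.liftKaehlerDifferential_comp_D a).symm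
    rw [h1, h0, map_zero] at h2
    exact one_ne_zero h2
  · rintro ⟨b, rfl⟩
    rw [Derivation.leibniz_pow, ← Nat.cast_smul_eq_nsmul K, CharP.cast_eq_zero, zero_smul]

end Groth.Agent.S2148
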