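import Groth.Statements.S2154
import Groth.Agent.NoethApproxLib.Restrict
-- import your own Groth.Agent.* helpers here

set_option autoImplicit false
universe u
open CategoryTheory AlgebraicGeometry
open Lim

namespace Groth.Agent.S2154

/-- Let `S` be quasi-compact and quasi-separated and `X = lim X_i` a cofiltered limit of quasi-compact
quasi-separated `S`-schemes locally of finite type over `S`, with finite transition morphisms. If `X
→ S` is integral then `X_i → S` is finite for all `i` beyond some index. -/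
theorem result {I : Type u} [SmallCategory I] [IsCofiltered I] (S : Scheme.{u}) [CompactSpace S]
    [QuasiSeparatedSpace S] (D : I ⥤ Over S) (c : Limits.Cone D) (hc : Limits.IsLimit c)
    [∀ (i j : I) (f : i ⟶ j), IsFinite (D.map f).left] [∀ i, CompactSpace (D.obj i).left]
    [∀ i, QuasiSeparatedSpace (D.obj i).left] [∀ i, LocallyOfFiniteType (D.obj i).hom] [IsIntegralHom c.pt.hom] :
    ∃ i₀ : I, ∀ (i : I) (_ : i ⟶ i₀), IsFinite (D.obj i).hom := by
  obtain ⟨i₀⟩ := IsCofiltered.nonempty (C := I)
  haveI : IsConnected I := IsCofiltered.isConnected I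
  haveI : ∀ (i j : I) (a : i ⟶ j), IsAffineHom ((D ⋙ Over.forget S).map a) := fun i j a ↦
    show IsAffineHom (D.map a).left from inferInstance
  haveI : ∀ i, CompactSpace ((D ⋙ Over.forget S).obj i) := fun i ↦ ‹∀ i, CompactSpace (D.obj i).left› i
  haveI : ∀ i, QuasiSeparatedSpace ((D ⋙ Over.forget S).obj i) := fun i ↦
    ‹∀ i, QuasiSeparatedSpace (D.obj i).left› i
  let t : D ⋙ Over.forget S ⟶ (Functor.const I).obj S :=
    { app := fun i ↦ (D.obj i).hom
      naturality := fun i j a ↦ (Over.w (D.map a)).trans (Category.comp_id _).symm }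
  let c' : Limits.Cone (D ⋙ Over.forget S) := (Over.forget S).mapCone c
  have hc' : Limits.IsLimit c' := Limits.isLimitOfPreserves (Over.forget S) hc
  haveI hint : IsIntegralHom (c'.π.app i₀ ≫ t.app i₀) := by
    show IsIntegralHom ((c.π.app i₀).left ≫ (D.obj i₀).hom)
    rw [Over.w]; exact (inferInstance : IsIntegralHom c.pt.hom)
  obtain ⟨i₁, h⟩ := Groth.Agent.S9200.result S (D ⋙ Over.forget S) t c' hc' i₀
  let F := Over.forget i₁
  haveI : F.Initial := inferInstance
  obtain ⟨m, hm⟩ := NoethApproxLib.exists_isFinite_of_isIntegral (S := S)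
    (F ⋙ D ⋙ Over.forget S) (fun k ↦ (D.obj k.left).hom) (fun a ↦ Over.w (D.map a.left))
    (c'.whisker F) ((Functor.Initial.isLimitWhiskerEquiv F c').symm hc')
    (fun a ↦ show IsFinite (D.map a.left).left from inferInstance)
    (fun k ↦ h k.left k.hom) (fun k ↦ ‹∀ i, LocallyOfFiniteType (D.obj i).hom› k.left) (Over.mk (𝟙 i₁)) (by
      show IsIntegralHom ((c.π.app i₁).left ≫ (D.obj i₁).hom)
      rw [Over.w]; exact (inferInstance : IsIntegralHom c.pt.hom))
  refine ⟨m.left, fun i a ↦ ?_⟩
  exact hm (Over.mk (a ≫ m.hom)) (Over.homMk a)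

end Groth.Agent.S2154
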