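import Groth.Statements.S2161
import Mathlib.FieldTheory.PurelyInseparable.PerfectClosure
import Mathlib.RingTheory.LocalRing.ResidueField.Ideal
import Mathlib.Algebra.Polynomial.Lifts
import Mathlib.RingTheory.Spectrum.Prime.Topology
import Mathlib.RingTheory.IntegralClosure.IntegrallyClosed
import Mathlib.RingTheory.Ideal.GoingUp
import Mathlib.FieldTheory.IsAlgClosed.AlgebraicClosure
import Mathlib.Topology.Homeomorph.Lemmas
-- import your own Groth.Agent.* helpers here

set_option autoImplicit false
universe u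
open CAlg

namespace Groth.Agent.S2161

/-- Let R → S be a ring map whose kernel consists of nilpotent elements, and suppose S is generated as
an R-algebra by elements x for which some power (T − x)ⁿ, n > 0, is the image of a polynomial over
R. Then Spec S → Spec R is a homeomorphism, and for every prime 𝔮 of S over 𝔭 the extension
κ(𝔮)/κ(𝔭) is purely inseparable. -/
theorem result {R S : Type u} [CommRing R] [CommRing S] [Algebra R S]
    (hker : ∀ r : R, algebraMap R S r = 0 → IsNilpotent r) (G : Set S) (hG : Algebra.adjoin R G = ⊤)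
    (hpow : ∀ x ∈ G, ∃ (n : ℕ) (P : Polynomial R), 0 < n ∧
      Polynomial.map (algebraMap R S) P = (Polynomial.X - Polynomial.C x) ^ n) :
    IsHomeomorph (PrimeSpectrum.comap (algebraMap R S)) ∧
      ∀ (q : Ideal S) [q.IsPrime] (p : Ideal R) [p.IsPrime] [q.LiesOver p],
        @IsPurelyInseparable p.ResidueField q.ResidueField _ _
          (Ideal.ResidueField.mapₐ p q (Algebra.ofId R S) (q.over_def p)).toRingHom.toAlgebra := by
  classical
  have hmon : ∀ x ∈ G, ∃ (n : ℕ) (P : Polynomial R), 0 < n ∧
      Polynomial.map (algebraMap R S) P = (Polynomial.X - Polynomial.C x) ^ n ∧ IsIntegral R x := by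
    intro x hx
    obtain ⟨n, P, hn, hP⟩ := hpow x hx
    refine ⟨n, P, hn, hP, ?_⟩
    rcases subsingleton_or_nontrivial S with h | h
    · exact ⟨1, Polynomial.monic_one, Subsingleton.elim _ _⟩
    obtain ⟨Q, hQ, -, hQm⟩ := Polynomial.lifts_and_degree_eq_and_monic
      (show (Polynomial.X - Polynomial.C x) ^ n ∈ Polynomial.lifts (algebraMap R S) from ⟨P, hP⟩) ((Polynomial.monic_X_sub_C x).pow n)
    refine ⟨Q, hQm, ?_⟩
    rw [← Polynomial.eval_map, hQ]
    simp [Nat.pos_iff_ne_zero.1 hn]
  haveI : Algebra.IsIntegral R S := ⟨fun x => by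
    have : Algebra.adjoin R G ≤ integralClosure R S := Algebra.adjoin_le fun y hy => by
      obtain ⟨n, P, hn, hP, hi⟩ := hmon y hy
      exact hi
    exact this (hG ▸ Algebra.mem_top)⟩
  have hpi : ∀ (q : Ideal S) [q.IsPrime] (p : Ideal R) [p.IsPrime] [q.LiesOver p],
      @IsPurelyInseparable p.ResidueField q.ResidueField _ _
        (Ideal.ResidueField.mapₐ p q (Algebra.ofId R S) (q.over_def p)).toRingHom.toAlgebra := by
    intro q _ p _ _
    letI := (Ideal.ResidueField.mapₐ p q (Algebra.ofId R S) (q.over_def p)).toRingHom.toAlgebra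
    haveI : IsScalarTower R p.ResidueField q.ResidueField :=
      IsScalarTower.of_algebraMap_eq fun r => ((Ideal.ResidueField.mapₐ p q (Algebra.ofId R S) (q.over_def p)).commutes r).symm
    let PC := perfectClosure p.ResidueField q.ResidueField
    have hx : ∀ x ∈ G, algebraMap S q.ResidueField x ∈ PC := by
      intro x hx
      obtain ⟨n, P, hn, hP, hi⟩ := hmon x hx
      let y := algebraMap S q.ResidueField x
      have hy : IsIntegral p.ResidueField y := (hi.map (IsScalarTower.toAlgHom R S q.ResidueField)).tower_top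
      have h1 : (P.map (algebraMap R p.ResidueField)).map (algebraMap p.ResidueField q.ResidueField) = (Polynomial.X - Polynomial.C y) ^ n := by
        rw [Polynomial.map_map, ← IsScalarTower.algebraMap_eq, IsScalarTower.algebraMap_eq R S q.ResidueField, ← Polynomial.map_map, hP]
        simp [y]
      have h2 : minpoly p.ResidueField y ∣ P.map (algebraMap R p.ResidueField) := by
        refine minpoly.dvd _ _ ?_
        rw [← Polynomial.eval_map_algebraMap, h1]
        simp [Nat.pos_iff_ne_zero.1 hn]
      have h3 : P.map (algebraMap R p.ResidueField) ≠ 0 := fun h => by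
        rw [h, Polynomial.map_zero] at h1
        exact pow_ne_zero n (Polynomial.X_sub_C_ne_zero y) h1.symm
      rw [mem_perfectClosure_iff_natSepDegree_eq_one]
      have h4 := Polynomial.natSepDegree_le_of_dvd _ _ h2 h3
      rw [← Polynomial.natSepDegree_map _ (P.map (algebraMap R p.ResidueField)) (algebraMap p.ResidueField q.ResidueField), h1,
        Polynomial.natSepDegree_X_sub_C_pow, if_neg (Nat.pos_iff_ne_zero.1 hn)] at h4
      have h5 : (minpoly p.ResidueField y).natSepDegree ≠ 0 :=
        (Polynomial.natSepDegree_ne_zero_iff _).2 (minpoly.natDegree_pos hy).ne'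
      show (minpoly p.ResidueField y).natSepDegree = 1
      omega
    have hS : ∀ x : S, algebraMap S q.ResidueField x ∈ PC := by
      intro x
      have : Algebra.adjoin R G ≤ (PC.toSubalgebra.restrictScalars R).comap (IsScalarTower.toAlgHom R S q.ResidueField) :=
        Algebra.adjoin_le fun y hy => hx y hy
      exact this (hG ▸ Algebra.mem_top)
    refine ⟨⟨fun z => ?_⟩, fun z _ => ?_⟩
    · obtain ⟨a, b, -, rfl⟩ := IsFractionRing.div_surjective (A := S ⧸ q) z
      obtain ⟨a, rfl⟩ := Ideal.Quotient.mk_surjective a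
      obtain ⟨b, rfl⟩ := Ideal.Quotient.mk_surjective b
      haveI := perfectClosure.isPurelyInseparable p.ResidueField q.ResidueField
      exact ((IsPurelyInseparable.isIntegral' p.ResidueField (⟨_, div_mem (hS a) (hS b)⟩ : PC)).map PC.val)
    · obtain ⟨a, b, -, rfl⟩ := IsFractionRing.div_surjective (A := S ⧸ q) z
      obtain ⟨a, rfl⟩ := Ideal.Quotient.mk_surjective a
      obtain ⟨b, rfl⟩ := Ideal.Quotient.mk_surjective b
      rename_i hsep
      haveI := perfectClosure.isPurelyInseparable p.ResidueField q.ResidueField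
      obtain ⟨w, hw⟩ := IsPurelyInseparable.inseparable' (F := p.ResidueField) (⟨_, div_mem (hS a) (hS b)⟩ : PC) (by
        rw [IsSeparable, ← minpoly.algHom_eq PC.val PC.val.injective]; exact hsep)
      exact ⟨w, congrArg Subtype.val hw⟩
  refine ⟨?_, hpi⟩
  have hinjc : Function.Injective (PrimeSpectrum.comap (algebraMap R S)) := by
    intro q₁ q₂ hq
    let p := (PrimeSpectrum.comap (algebraMap R S) q₁).asIdeal
    haveI : q₁.asIdeal.LiesOver p := ⟨rfl⟩
    haveI : q₂.asIdeal.LiesOver p := ⟨congrArg PrimeSpectrum.asIdeal hq⟩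
    let Ω := AlgebraicClosure p.ResidueField
    have hemb : ∀ q : PrimeSpectrum S, q.asIdeal.LiesOver p → ∃ g : S →ₐ[R] Ω, RingHom.ker g.toRingHom = q.asIdeal := by
      intro q hlo
      letI := (Ideal.ResidueField.mapₐ p q.asIdeal (Algebra.ofId R S) (q.asIdeal.over_def p)).toRingHom.toAlgebra
      haveI : IsScalarTower R p.ResidueField q.asIdeal.ResidueField :=
        IsScalarTower.of_algebraMap_eq fun r => ((Ideal.ResidueField.mapₐ p q.asIdeal (Algebra.ofId R S) (q.asIdeal.over_def p)).commutes r).symm
      haveI := hpi q.asIdeal p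
      haveI : Algebra.IsAlgebraic p.ResidueField q.asIdeal.ResidueField := Algebra.IsIntegral.isAlgebraic
      let ι : q.asIdeal.ResidueField →ₐ[p.ResidueField] Ω := IsAlgClosed.lift
      refine ⟨(ι.restrictScalars R).comp (IsScalarTower.toAlgHom R S q.asIdeal.ResidueField), ?_⟩
      ext x
      rw [RingHom.mem_ker]
      show ι (algebraMap S q.asIdeal.ResidueField x) = 0 ↔ _
      rw [map_eq_zero, Ideal.algebraMap_residueField_eq_zero]
    obtain ⟨g₁, hg₁⟩ := hemb q₁ inferInstance
    obtain ⟨g₂, hg₂⟩ := hemb q₂ inferInstance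
    have hg : g₁ = g₂ := by
      refine AlgHom.ext_of_adjoin_eq_top hG fun x hx => ?_
      obtain ⟨n, P, hn, hP, -⟩ := hmon x hx
      have h1 : ∀ g : S →ₐ[R] Ω, P.map (algebraMap R Ω) = (Polynomial.X - Polynomial.C (g x)) ^ n := fun g => by
        rw [← g.comp_algebraMap, ← Polynomial.map_map, hP]
        simp
      have h2 := congrArg (Polynomial.eval (g₁ x)) ((h1 g₁).symm.trans (h1 g₂))
      simp only [Polynomial.eval_pow, Polynomial.eval_sub, Polynomial.eval_X, Polynomial.eval_C, sub_self, zero_pow (Nat.pos_iff_ne_zero.1 hn)] at h2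
      exact sub_eq_zero.1 (pow_eq_zero_iff (Nat.pos_iff_ne_zero.1 hn) |>.1 h2.symm)
    exact PrimeSpectrum.ext (by rw [← hg₁, ← hg₂, hg])
  have hsurj : Function.Surjective (PrimeSpectrum.comap (algebraMap R S)) := by
    intro p
    obtain ⟨Q, -, hQp, hQc⟩ := Ideal.exists_ideal_over_prime_of_isIntegral p.asIdeal (⊥ : Ideal S) (fun r hr => by
      obtain ⟨k, hk⟩ := hker r hr
      exact p.isPrime.mem_of_pow_mem k (by rw [hk]; exact p.asIdeal.zero_mem))
    exact ⟨⟨Q, hQp⟩, PrimeSpectrum.ext hQc⟩
  refine isHomeomorph_iff_continuous_isClosedMap_bijective.2 ⟨PrimeSpectrum.continuous_comap _, ?_, hinjc, hsurj⟩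
  exact PrimeSpectrum.isClosedMap_comap_of_isIntegral _ (algebraMap_isIntegral_iff.2 inferInstance)

end Groth.Agent.S2161
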