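import Groth.Statements.S2163
import Mathlib
-- import your own Groth.Agent.* helpers here

set_option autoImplicit false
universe u
open CAlg

namespace Groth.Agent.S2163

/-- A ring `R` is coherent — every finitely generated ideal is a finitely presented module — if and only
if for every index set `A` (in the same universe) the product module `R^A` is flat. -/
theorem result {R : Type u} [CommRing R] :
    (∀ I : Ideal R, I.FG → Module.FinitePresentation R I) ↔ ∀ (A : Type u), Module.Flat R (A → R) := by
  classical
  constructor
  · intro h A
    refine Module.Flat.of_forall_isTrivialRelation fun {l f x} hfx => ?_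
    let φ : (Fin l → R) →ₗ[R] R := Fintype.linearCombination R f
    haveI := h (LinearMap.range φ) (LinearMap.range_eq_map φ ▸ Submodule.FG.map φ Module.Finite.fg_top)
    have hK : (LinearMap.ker φ).FG := by
      rw [← LinearMap.ker_rangeRestrict]
      exact Module.FinitePresentation.fg_ker φ.rangeRestrict φ.surjective_rangeRestrict
    obtain ⟨m, k, hk⟩ := Submodule.fg_iff_exists_fin_generating_family.1 hK
    have hmem : ∀ a, (fun i => x i a) ∈ Submodule.span R (Set.range k) := by
      intro a
      rw [hk, LinearMap.mem_ker]
      have := congrFun hfx a
      simp only [Finset.sum_apply, Pi.smul_apply, smul_eq_mul, Pi.zero_apply] at this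
      simpa [φ, Fintype.linearCombination_apply, mul_comm] using this
    choose c hc using fun a => (Submodule.mem_span_range_iff_exists_fun R).1 (hmem a)
    refine ⟨m, fun i j => k j i, fun j a => c a j, fun i => funext fun a => ?_, fun j => ?_⟩
    · have := congrFun (hc a) i
      simp only [Finset.sum_apply, Pi.smul_apply, smul_eq_mul] at this ⊢
      rw [← this]
      simp [mul_comm]
    · have : k j ∈ LinearMap.ker φ := hk ▸ Submodule.subset_span ⟨j, rfl⟩
      simpa [φ, Fintype.linearCombination_apply, mul_comm] using this
  · intro h I hI
    obtain ⟨l, f, hf⟩ := Submodule.fg_iff_exists_fin_generating_family.1 hI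
    let φ : (Fin l → R) →ₗ[R] R := Fintype.linearCombination R f
    haveI := h ↥(LinearMap.ker φ)
    let x : Fin l → (↥(LinearMap.ker φ) → R) := fun i k => k.1 i
    have hfx : ∑ i, f i • x i = 0 := by
      funext k
      have hk2 : ∑ i, k.1 i • f i = 0 := (Fintype.linearCombination_apply R f k.1).symm.trans k.2
      simp only [x, Finset.sum_apply, Pi.smul_apply, smul_eq_mul, Pi.zero_apply] at hk2 ⊢
      exact (Finset.sum_congr rfl fun i _ => mul_comm _ _).trans hk2
    obtain ⟨m, a, y, hxy, hay⟩ := Module.Flat.isTrivialRelation_of_sum_smul_eq_zero hfx
    have hK : LinearMap.ker φ = Submodule.span R (Set.range fun j : Fin m => fun i => a i j) := by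
      refine le_antisymm (fun k hk => ?_) (Submodule.span_le.2 ?_)
      · refine (Submodule.mem_span_range_iff_exists_fun R).2 ⟨fun j => y j ⟨k, hk⟩, funext fun i => ?_⟩
        have := congrFun (hxy i) ⟨k, hk⟩
        simp only [x, Finset.sum_apply, Pi.smul_apply, smul_eq_mul] at this ⊢
        rw [this]
        simp [mul_comm]
      · rintro _ ⟨j, rfl⟩
        simpa [φ, Fintype.linearCombination_apply, mul_comm] using hay j
    have hrange : LinearMap.range φ = I := by
      rw [← hf]; exact Fintype.range_linearCombination R (v := f)
    haveI : Module.FinitePresentation R ↥(LinearMap.range φ) :=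
      Module.finitePresentation_of_surjective φ.rangeRestrict φ.surjective_rangeRestrict
        (by rw [LinearMap.ker_rangeRestrict, hK]; exact Submodule.fg_span (Set.finite_range _))
    exact Module.FinitePresentation.of_equiv (LinearEquiv.ofEq _ _ hrange)

end Groth.Agent.S2163
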