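import Groth.Statements.S2167
import Groth.Agent.CIRingLib.Completion
import Groth.Agent.CIRingLib.Avramov

set_option autoImplicit false
universe u
open LCI

namespace Groth.Agent.S2167

/-- Equivalence of (2) and (3), special case with R already a regular local ring: for a regular local
ring R and a proper ideal I, the ideal I is generated by a regular sequence if and only if the
conormal module I/I^2 can be generated by (dim R - dim R/I) elements, the inequality below being the
additive form of that count. -/
theorem result {R : Type u} [CommRing R] [IsRegularLocalRing R]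
    (I : Ideal R) (hI : I ≠ ⊤) :
    (∃ rs : List R, Ideal.ofList rs = I ∧ RingTheory.Sequence.IsRegular R rs) ↔
      (((⊤ : Submodule (R ⧸ I) I.Cotangent).spanFinrank : WithBot ℕ∞) + ringKrullDim (R ⧸ I)
        ≤ ringKrullDim R) := by
  classical
  have hle : I ≤ IsLocalRing.maximalIdeal R := IsLocalRing.le_maximalIdeal hI
  have hμ : (⊤ : Submodule (R ⧸ I) I.Cotangent).spanFinrank = I.spanFinrank := by
    refine le_antisymm ?_ ?_
    · obtain ⟨x, hx⟩ := CIRingLib.exists_range_eq I
      have hxI : ∀ i, x i ∈ I := fun i => hx.le (Ideal.subset_span ⟨i, rfl⟩)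
      have htop : (⊤ : Submodule (R ⧸ I) I.Cotangent) =
          Submodule.span (R ⧸ I) (Set.range fun i => I.toCotangent ⟨x i, hxI i⟩) := by
        refine (eq_top_iff.2 fun w _ => ?_).symm
        obtain ⟨v, rfl⟩ := I.toCotangent_surjective w
        obtain ⟨c, hc⟩ := (Ideal.mem_span_range_iff_exists_fun (R := R)).1 (hx.ge v.2)
        have hv : v = ∑ i, c i • (⟨x i, hxI i⟩ : I) := Subtype.ext (by simp [← hc])
        rw [hv, map_sum]
        refine sum_mem fun i _ => ?_
        rw [map_smul, ← IsScalarTower.algebraMap_smul (R ⧸ I) (c i) (I.toCotangent ⟨x i, hxI i⟩)]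
        exact Submodule.smul_mem _ _ (Submodule.subset_span ⟨i, rfl⟩)
      rw [htop]
      refine (Submodule.spanFinrank_span_le_ncard_of_finite (Set.finite_range _)).trans ?_
      rw [← Set.image_univ]
      exact (Set.ncard_image_le (Set.toFinite _)).trans (by simp)
    · have hfg : (⊤ : Submodule (R ⧸ I) I.Cotangent).FG := by
        haveI : Module.Finite R I.Cotangent := Module.Finite.of_surjective I.toCotangent I.toCotangent_surjective
        exact (Module.Finite.of_restrictScalars_finite R (R ⧸ I) I.Cotangent).fg_top
      have hfin := Submodule.FG.finite_generators hfg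
      have := hfin.fintype
      let s := Function.surjInv I.toCotangent_surjective
      let T : Set R := (fun w => ((s w : I) : R)) '' Submodule.generators (⊤ : Submodule (R ⧸ I) I.Cotangent)
      have hT : I = Ideal.span T := by
        refine le_antisymm ?_ (Ideal.span_le.2 ?_)
        · refine Submodule.le_of_le_smul_of_le_jacobson_bot (I := I) (IsNoetherian.noetherian _)
            (hle.trans (IsLocalRing.jacobson_eq_maximalIdeal ⊥ bot_ne_top).ge) fun z hz => ?_
          have hw : I.toCotangent ⟨z, hz⟩ ∈ (⊤ : Submodule (R ⧸ I) I.Cotangent) := trivial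
          rw [← Submodule.span_generators (⊤ : Submodule (R ⧸ I) I.Cotangent)] at hw
          have key : ∀ w ∈ Submodule.span (R ⧸ I) (Submodule.generators (⊤ : Submodule (R ⧸ I) I.Cotangent)),
              ∃ v : I, (v : R) ∈ Ideal.span T ∧ I.toCotangent v = w := by
            intro w hw
            induction hw using Submodule.span_induction with
            | mem w hw => exact ⟨s w, Ideal.subset_span ⟨w, hw, rfl⟩, Function.surjInv_eq _ w⟩
            | zero => exact ⟨0, zero_mem _, map_zero _⟩
            | add a b _ _ ha hb =>
              obtain ⟨v, hv, hv'⟩ := ha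
              obtain ⟨v', hv1, hv1'⟩ := hb
              exact ⟨v + v', add_mem hv hv1, by rw [map_add, hv', hv1']⟩
            | smul c a _ ha =>
              obtain ⟨v, hv, hv'⟩ := ha
              obtain ⟨c, rfl⟩ := Ideal.Quotient.mk_surjective c
              refine ⟨c • v, Ideal.mul_mem_left _ _ hv, ?_⟩
              rw [map_smul, hv', ← Ideal.Quotient.algebraMap_eq, IsScalarTower.algebraMap_smul]
          obtain ⟨v, hv, hv'⟩ := key _ hw
          rw [show z = (v : R) + (z - v) by ring]
          refine Submodule.add_mem_sup hv ?_
          rw [smul_eq_mul, ← pow_two]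
          exact (Ideal.toCotangent_eq I).1 hv'.symm
        · rintro _ ⟨w, -, rfl⟩
          exact (s w).2
      conv_lhs => rw [hT]
      refine (Submodule.spanFinrank_span_le_ncard_of_finite (hfin.image _)).trans
        ((Set.ncard_image_le hfin).trans ?_)
      rw [Submodule.FG.generators_ncard hfg]
  rw [hμ, add_comm]
  haveI := CIRingLib.isLocalRing_quotient hI
  have h := TransLib.hasRegKer_iff (π := Ideal.Quotient.mk I) Ideal.Quotient.mk_surjective
  rw [Ideal.mk_ker] at h
  refine Iff.trans ⟨fun ⟨rs, h1, h2⟩ => ⟨rs, h2, h1.trans Ideal.mk_ker.symm⟩,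
    fun ⟨rs, h1, h2⟩ => ⟨rs, h2.trans Ideal.mk_ker, h1⟩⟩ h

end Groth.Agent.S2167
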