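import Groth.Statements.S2170
import Mathlib.Tactic.Linarith
import Mathlib.Tactic.Positivity
import Mathlib.Tactic.Ring
-- import your own Groth.Agent.* helpers here

set_option autoImplicit false
open Finset
open Models

namespace Groth.Agent.S2170

/-- Let A be a symmetric real n × n matrix with non-negative off-diagonal entries and m a vector with
positive entries such that for every i, ∑_{j ≠ i} A_{ij} m_j ≤ −A_{ii} m_i. Then the kernel of A is
the span of the vectors equal to m on an index set I and zero off I, for those I such that A_{ij} =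
0 whenever i ∈ I and j ∉ I and such that equality holds in the above inequality for every i ∈ I. The
published statement omits the symmetry of A (without which it fails) and applies it only to
symmetric matrices; stated here with A symmetric. -/
theorem result {n : ℕ} (A : Matrix (Fin n) (Fin n) ℝ) (m : Fin n → ℝ)
    (hsymm : A.IsSymm) (hA : ∀ i j, i ≠ j → 0 ≤ A i j) (hm : ∀ i, 0 < m i)
    (hle : ∀ i, ∑ j ∈ univ.erase i, A i j * m j ≤ -(A i i * m i)) :
    LinearMap.ker (Matrix.mulVecLin A) = Submodule.span ℝ
      {x : Fin n → ℝ | ∃ I : Finset (Fin n), (∀ i ∈ I, ∀ j ∉ I, A i j = 0) ∧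
        (∀ i ∈ I, ∑ j ∈ univ.erase i, A i j * m j = -(A i i * m i)) ∧
        x = fun i => if i ∈ I then m i else 0} := by
  have hrow : ∀ i, ∑ j, A i j * m j ≤ 0 := by
    intro i
    rw [← Finset.add_sum_erase univ (fun j => A i j * m j) (mem_univ i)]
    linarith [hle i]
  have hrow_eq : ∀ i, (∑ j, A i j * m j = 0 ↔
      ∑ j ∈ univ.erase i, A i j * m j = -(A i i * m i)) := by
    intro i
    rw [← Finset.add_sum_erase univ (fun j => A i j * m j) (mem_univ i)]
    constructor <;> intro h <;> linarith
  apply le_antisymm
  · intro x hx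
    have hAx : ∀ i, ∑ j, A i j * x j = 0 := by
      intro i
      have := congrFun (LinearMap.mem_ker.mp hx) i
      simpa [Matrix.mulVec, dotProduct] using this
    let y : Fin n → ℝ := fun i => x i / m i
    have hy : ∀ i, y i * m i = x i := fun i => div_mul_cancel₀ _ (hm i).ne'
    have hcross : ∑ i, ∑ j, A i j * (m i * m j) * (y i * y j) = 0 := by
      apply Finset.sum_eq_zero
      intro i _
      have : ∀ j, A i j * (m i * m j) * (y i * y j) = x i * (A i j * x j) := by
        intro j
        rw [← hy i, ← hy j]
        ring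
      rw [Finset.sum_congr rfl (fun j _ => this j), ← Finset.mul_sum, hAx i, mul_zero]
    have hsq : ∑ i, ∑ j, A i j * (m i * m j) * (y j) ^ 2 =
        ∑ i, ∑ j, A i j * (m i * m j) * (y i) ^ 2 := by
      rw [Finset.sum_comm]
      refine Finset.sum_congr rfl fun i _ => Finset.sum_congr rfl fun j _ => ?_
      rw [hsymm.apply i j]
      ring
    have hmain : ∑ i, ∑ j, A i j * (m i * m j) * (y i - y j) ^ 2 =
        2 * ∑ i, (y i) ^ 2 * (m i * ∑ j, A i j * m j) := by
      have e1 : ∀ i j, A i j * (m i * m j) * (y i - y j) ^ 2 =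
          A i j * (m i * m j) * (y i) ^ 2 + A i j * (m i * m j) * (y j) ^ 2
            - 2 * (A i j * (m i * m j) * (y i * y j)) := fun i j => by ring
      simp only [e1, Finset.sum_sub_distrib, Finset.sum_add_distrib, ← Finset.mul_sum]
      rw [hsq, hcross]
      have e2 : ∀ i, ∑ j, A i j * (m i * m j) * (y i) ^ 2 =
          (y i) ^ 2 * (m i * ∑ j, A i j * m j) := by
        intro i
        rw [Finset.mul_sum, Finset.mul_sum]
        exact Finset.sum_congr rfl fun j _ => by ring
      rw [Finset.sum_congr rfl (fun i _ => e2 i)]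
      ring
    have hnn : ∀ i j, 0 ≤ A i j * (m i * m j) * (y i - y j) ^ 2 := by
      intro i j
      rcases eq_or_ne i j with rfl | hij
      · simp
      · have := hA i j hij
        have := hm i
        have := hm j
        positivity
    have hnp : ∀ i, (y i) ^ 2 * (m i * ∑ j, A i j * m j) ≤ 0 := fun i =>
      mul_nonpos_of_nonneg_of_nonpos (sq_nonneg _)
        (mul_nonpos_of_nonneg_of_nonpos (hm i).le (hrow i))
    have hS1 : ∑ i, ∑ j, A i j * (m i * m j) * (y i - y j) ^ 2 = 0 := by
      refine le_antisymm ?_ (Finset.sum_nonneg fun i _ => Finset.sum_nonneg fun j _ => hnn i j)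
      rw [hmain]
      linarith [Finset.sum_nonpos (fun i (_ : i ∈ univ) => hnp i)]
    have hedge : ∀ i j, i ≠ j → A i j ≠ 0 → y i = y j := by
      intro i j _ hne
      have h1 := (Finset.sum_eq_zero_iff_of_nonneg
        (fun i _ => Finset.sum_nonneg fun j _ => hnn i j)).1 hS1 i (mem_univ i)
      have h2 := (Finset.sum_eq_zero_iff_of_nonneg (fun j _ => hnn i j)).1 h1 j (mem_univ j)
      simpa [hne, (hm i).ne', (hm j).ne', sub_eq_zero] using h2
    have hzero : ∀ i, y i ≠ 0 → ∑ j, A i j * m j = 0 := by
      intro i hyi
      have h0 : ∑ i, (y i) ^ 2 * (m i * ∑ j, A i j * m j) = 0 := by linarith [hS1, hmain]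
      have h1 := (Finset.sum_eq_zero_iff_of_nonpos (fun i _ => hnp i)).1 h0 i (mem_univ i)
      simpa [hyi, (hm i).ne'] using h1
    have hx' : x = ∑ c ∈ (univ.image y).erase 0,
        c • (fun i => if i ∈ univ.filter (fun i => y i = c) then m i else 0) := by
      funext i
      rw [Finset.sum_apply]
      simp only [Finset.mem_filter, mem_univ, true_and, Pi.smul_apply, smul_eq_mul, mul_ite,
        mul_zero, Finset.sum_ite_eq]
      by_cases hyi : y i = 0
      · have := hy i
        simp [hyi] at this ⊢
        exact this.symm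
      · rw [if_pos (by simp [hyi])]
        exact (hy i).symm
    rw [hx']
    refine Submodule.sum_mem _ fun c hc => Submodule.smul_mem _ _ (Submodule.subset_span ?_)
    refine ⟨univ.filter (fun i => y i = c), ?_, ?_, rfl⟩
    · intro i hi j hj
      simp only [Finset.mem_filter, mem_univ, true_and] at hi hj
      by_contra hne
      exact hj ((hedge i j (fun h => hj (h ▸ hi)) hne) ▸ hi)
    · intro i hi
      simp only [Finset.mem_filter, mem_univ, true_and] at hi
      exact (hrow_eq i).1 (hzero i (hi ▸ (Finset.mem_erase.1 hc).1))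
  · rw [Submodule.span_le]
    rintro _ ⟨I, hI1, hI2, rfl⟩
    rw [SetLike.mem_coe, LinearMap.mem_ker]
    funext i
    simp only [Matrix.mulVecLin_apply, Matrix.mulVec, dotProduct, Pi.zero_apply, mul_ite, mul_zero]
    by_cases hi : i ∈ I
    · refine Eq.trans ?_ ((hrow_eq i).2 (hI2 i hi))
      refine Finset.sum_congr rfl fun j _ => ?_
      split_ifs with hj
      · rfl
      · rw [hI1 i hi j hj, zero_mul]
    · refine Finset.sum_eq_zero fun j _ => ?_
      split_ifs with hj
      · rw [← hsymm.apply, hI1 j hj i hi, zero_mul]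
      · rfl

end Groth.Agent.S2170
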