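import Groth.Statements.S2171
import Mathlib.Tactic.Linarith
import Mathlib.Tactic.Positivity
import Mathlib.Tactic.Ring
-- import your own Groth.Agent.* helpers here

set_option autoImplicit false
open Finset
open Models

namespace Groth.Agent.S2171

/-- Let A be a symmetric real n by n matrix with non-negative off-diagonal entries, m a vector with
positive entries such that A m = 0, and assume no proper non-empty index set I has A i j = 0 for all
i in I and j outside I. Then x^t A x is at most 0 for every real vector x, with equality exactly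
when x is a real multiple of m. -/
theorem result {n : ℕ} (A : Matrix (Fin n) (Fin n) ℝ)
    (m : Fin n → ℝ) (hsymm : A.IsSymm) (hA : ∀ i j, i ≠ j → 0 ≤ A i j) (hm : ∀ i, 0 < m i)
    (hAm : A.mulVec m = 0)
    (hconn : ∀ I : Finset (Fin n), I.Nonempty → I ≠ univ → ∃ i ∈ I, ∃ j ∉ I, A i j ≠ 0)
    (x : Fin n → ℝ) :
    dotProduct x (A.mulVec x) ≤ 0 ∧ (dotProduct x (A.mulVec x) = 0 ↔ ∃ q : ℝ, x = q • m) := by
  have hrow : ∀ i, ∑ j, A i j * m j = 0 := fun i => by
    simpa [Matrix.mulVec, dotProduct] using congrFun hAm i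
  let y : Fin n → ℝ := fun i => x i / m i
  have hy : ∀ i, y i * m i = x i := fun i => div_mul_cancel₀ _ (hm i).ne'
  have hcross : ∑ i, ∑ j, A i j * (m i * m j) * (y i * y j) = dotProduct x (A.mulVec x) := by
    simp only [dotProduct, Matrix.mulVec, Finset.mul_sum]
    refine Finset.sum_congr rfl fun i _ => Finset.sum_congr rfl fun j _ => ?_
    rw [← hy i, ← hy j]; ring
  have hmain : ∑ i, ∑ j, A i j * (m i * m j) * (y i - y j) ^ 2 =
      -2 * dotProduct x (A.mulVec x) := by
    have e1 : ∀ i j, A i j * (m i * m j) * (y i - y j) ^ 2 =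
        A i j * m j * (m i * (y i) ^ 2) + A i j * m i * (m j * (y j) ^ 2)
          - 2 * (A i j * (m i * m j) * (y i * y j)) := fun i j => by ring
    simp only [e1, Finset.sum_sub_distrib, Finset.sum_add_distrib, ← Finset.mul_sum]
    rw [hcross]
    have h1 : ∑ i, ∑ j, A i j * m j * (m i * (y i) ^ 2) = 0 :=
      Finset.sum_eq_zero fun i _ => by rw [← Finset.sum_mul, hrow i, zero_mul]
    have h2 : ∑ i, ∑ j, A i j * m i * (m j * (y j) ^ 2) = 0 := by
      rw [Finset.sum_comm]
      refine Finset.sum_eq_zero fun j _ => ?_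
      rw [← Finset.sum_mul, Finset.sum_congr rfl fun i _ => by rw [← hsymm.apply i j], hrow j,
        zero_mul]
    rw [h1, h2]; ring
  have hnn : ∀ i j, 0 ≤ A i j * (m i * m j) * (y i - y j) ^ 2 := by
    intro i j
    rcases eq_or_ne i j with rfl | hij
    · simp
    · exact mul_nonneg (mul_nonneg (hA i j hij) (mul_pos (hm i) (hm j)).le) (sq_nonneg _)
  have hpos : 0 ≤ -2 * dotProduct x (A.mulVec x) :=
    hmain ▸ Finset.sum_nonneg fun i _ => Finset.sum_nonneg fun j _ => hnn i j
  refine ⟨by linarith, fun h0 => ?_, fun ⟨q, hq⟩ => ?_⟩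
  · rcases Nat.eq_zero_or_pos n with rfl | hn
    · exact ⟨0, funext fun i => i.elim0⟩
    let i₀ : Fin n := ⟨0, hn⟩
    refine ⟨y i₀, ?_⟩
    classical
    let I : Finset (Fin n) := univ.filter fun j => y j = y i₀
    have hI : I = univ := by
      by_contra hne
      obtain ⟨i, hi, j, hj, hij⟩ := hconn I ⟨i₀, by simp [I]⟩ hne
      simp only [I, mem_filter, mem_univ, true_and] at hi hj
      have hz : ∑ i, ∑ j, A i j * (m i * m j) * (y i - y j) ^ 2 = 0 := by
        rw [hmain, h0, mul_zero]
      have h1 := (Finset.sum_eq_zero_iff_of_nonneg fun i _ => Finset.sum_nonneg fun j _ => hnn i j).mp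
        hz i (mem_univ i)
      have h2 := (Finset.sum_eq_zero_iff_of_nonneg fun j _ => hnn i j).mp h1 j (mem_univ j)
      have h3 : y i - y j ≠ 0 := sub_ne_zero.mpr fun h => hj (by rw [← h, hi])
      exact hij (by simpa [(hm i).ne', (hm j).ne', h3] using h2)
    funext j
    have : j ∈ I := hI ▸ mem_univ j
    simp only [I, mem_filter, mem_univ, true_and] at this
    rw [Pi.smul_apply, smul_eq_mul, ← hy j, this]
  · rw [hq, Matrix.mulVec_smul, hAm, smul_zero, dotProduct_zero]

end Groth.Agent.S2171
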