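import Groth.Statements.S2177
import Groth.Agent.NumType.Graph
-- import your own Groth.Agent.* helpers here

set_option autoImplicit false
open Finset
open Models Models.NumericalType

namespace Groth.Agent.S2177
open NumTypeLib

/-- If a numerical type is minimal and has at least two indices, its genus is bounded below by the
topological genus 1 - n + e, e being the number of pairs i < j with a i j > 0. -/
theorem result {n : ℕ} (T : Models.NumericalType n) (hmin : T.IsMinimal) (hn : 1 < n) : T.topGenus ≤ T.genus := by
  have h1 := excess_le_contrib T hn hmin
  have h2 := two_mul_genus T
  rw [excess_univ] at h1
  omega

end Groth.Agent.S2177
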