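import Groth.Statements.S2178
import Mathlib


-- import your own Groth.Agent.* helpers here

set_option autoImplicit false
open Finset
open Models Models.NumericalType

namespace Groth.Agent.S2178

/-- The Picard group of a numerical type (the cokernel of the matrix (a i j / w i) acting on Z^n) has
free rank one: its rank as a Z-module is 1. -/
theorem result {n : ℕ} (T : Models.NumericalType n) : Module.finrank ℤ T.Pic = 1 := by
  classical
  set P := Matrix.mulVecLin T.picMatrix with hP
  have hPa : ∀ x i, T.w i * P x i = T.a.mulVec x i := fun x i => by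
    show T.w i * (T.picMatrix.mulVec x) i = _
    simp only [Matrix.mulVec, dotProduct, Models.NumericalType.picMatrix, Finset.mul_sum]
    exact Finset.sum_congr rfl fun j _ => by rw [← mul_assoc, Int.mul_ediv_cancel' (T.w_dvd i j)]
  have hmq : ∀ i, (0 : ℚ) < T.m i := fun i => by exact_mod_cast T.m_pos i
  have hle : ∀ x : Fin n → ℤ, P x = 0 → ∀ i, (x i : ℚ) / T.m i ≤ (x ⟨0, T.pos⟩ : ℚ) / T.m ⟨0, T.pos⟩ := by
    intro x hx i
    haveI : Nonempty (Fin n) := ⟨⟨0, T.pos⟩⟩
    set y : Fin n → ℚ := fun j => (x j : ℚ) / T.m j with hy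
    obtain ⟨i₀, -, hi₀⟩ := Finset.exists_max_image Finset.univ y Finset.univ_nonempty
    let I : Finset (Fin n) := Finset.univ.filter fun j => y j = y i₀
    have hI : I = Finset.univ := by
      by_contra hne
      obtain ⟨p, hp, q, hq, hpq⟩ := T.connected I ⟨i₀, by simp [I]⟩ hne
      have hp' : y p = y i₀ := (Finset.mem_filter.1 hp).2
      have hq' : y q ≠ y i₀ := fun h => hq (Finset.mem_filter.2 ⟨Finset.mem_univ _, h⟩)
      have h1 : ∑ j, (T.a p j : ℚ) * (x j : ℚ) = 0 := by
        have := hPa x p
        rw [hx, Pi.zero_apply, mul_zero] at this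
        have h := congrArg (fun z : ℤ => (z : ℚ)) this.symm
        simpa [Matrix.mulVec, dotProduct] using h
      have h2 : ∑ j, (T.a p j : ℚ) * (T.m j : ℚ) = 0 := by
        have h := congrArg (fun z : ℤ => (z : ℚ)) (congrFun T.mulVec_m p)
        simpa [Matrix.mulVec, dotProduct] using h
      have h3 : ∑ j, (T.a p j : ℚ) * T.m j * (y i₀ - y j) = 0 := by
        have e : ∀ j, (T.a p j : ℚ) * T.m j * (y i₀ - y j)
            = y i₀ * ((T.a p j : ℚ) * T.m j) - (T.a p j : ℚ) * x j := fun j => by
          rw [hy]; field_simp [(hmq j).ne']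
        simp only [e, Finset.sum_sub_distrib, ← Finset.mul_sum, h1, h2, mul_zero, sub_zero]
      have h4 := (Finset.sum_eq_zero_iff_of_nonneg (fun j _ => ?_)).1 h3 q (Finset.mem_univ q)
      · rcases mul_eq_zero.1 h4 with h | h
        · exact hpq (by exact_mod_cast (mul_eq_zero.1 h).resolve_right (hmq q).ne')
        · exact hq' (sub_eq_zero.1 h).symm
      · rcases eq_or_ne p j with rfl | hpj
        · rw [hp', sub_self, mul_zero]
        · exact mul_nonneg (mul_nonneg (by exact_mod_cast T.offDiag_nonneg p j hpj) (hmq j).le)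
            (sub_nonneg.2 (hi₀ j (Finset.mem_univ j)))
    have e1 : y i = y i₀ := (Finset.mem_filter.1 (hI ▸ Finset.mem_univ i : i ∈ I)).2
    have e2 : y ⟨0, T.pos⟩ = y i₀ :=
      (Finset.mem_filter.1 (hI ▸ Finset.mem_univ _ : (⟨0, T.pos⟩ : Fin n) ∈ I)).2
    exact le_of_eq (e1.trans e2.symm)
  let ev : LinearMap.ker P →ₗ[ℤ] ℤ := LinearMap.proj ⟨0, T.pos⟩ ∘ₗ (LinearMap.ker P).subtype
  have hev : Function.Injective ev := by
    rw [injective_iff_map_eq_zero]
    rintro ⟨x, hx⟩ h0
    have h0' : x ⟨0, T.pos⟩ = 0 := h0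
    apply Subtype.ext
    funext i
    have a1 := hle x hx i
    have a2 := hle (-x) (by rw [map_neg, LinearMap.mem_ker.1 hx, neg_zero]) i
    simp only [Pi.neg_apply, h0', neg_zero, Int.cast_neg, Int.cast_zero, zero_div, neg_div,
      neg_nonpos] at a1 a2
    have := (div_eq_zero_iff.1 (le_antisymm a1 a2)).resolve_right (hmq i).ne'
    show x i = 0
    exact_mod_cast this
  have hker : Module.finrank ℤ (LinearMap.ker P) = 1 := by
    refine le_antisymm ?_ ?_
    · simpa using LinearMap.finrank_le_finrank_of_injective hev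
    · have hm : T.m ∈ LinearMap.ker P := by
        rw [LinearMap.mem_ker]
        funext i
        have := hPa T.m i
        rw [T.mulVec_m, Pi.zero_apply] at this
        exact (mul_eq_zero.1 this).resolve_left (T.w_pos i).ne'
      refine Module.finrank_pos_iff_exists_ne_zero.2 ⟨⟨T.m, hm⟩, fun h => ?_⟩
      have := congrArg (fun z : LinearMap.ker P => (z : Fin n → ℤ) ⟨0, T.pos⟩) h
      exact (T.m_pos ⟨0, T.pos⟩).ne' this
  have h1 := Submodule.finrank_quotient_add_finrank (LinearMap.range P)
  have h2 := Submodule.finrank_quotient_add_finrank (LinearMap.ker P)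
  have h3 := LinearEquiv.finrank_eq P.quotKerEquivRange
  show Module.finrank ℤ ((Fin n → ℤ) ⧸ LinearMap.range P) = 1
  omega

end Groth.Agent.S2178
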