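import Groth.Statements.S2182
import Groth.Agent.NumType.Graph
-- import your own Groth.Agent.* helpers here

set_option autoImplicit false
open Finset
open Models Models.NumericalType

namespace Groth.Agent.S2182
open NumTypeLib

/-- In a numerical type, whenever a i j > 0 one has m i * a i j at most m j * |a j j| and m i * w i at
most m j * |a j j|. -/
theorem result {n : ℕ} (T : Models.NumericalType n) (i j : Fin n) (hij : 0 < T.a i j) :
    T.m i * T.a i j ≤ T.m j * |T.a j j| ∧ T.m i * T.w i ≤ T.m j * |T.a j j| := by
  have hne : i ≠ j := fun h => by
    subst h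
    exact absurd hij (not_lt.mpr (diag_nonpos T i))
  have h := row_le T j {i} (by simpa using hne.symm)
  rw [sum_singleton, a_symm T j i] at h
  have hm := T.m_pos i
  have habs : |T.a j j| = -T.a j j := abs_of_nonpos (diag_nonpos T j)
  rw [habs]
  have h1 : T.m i * T.w i ≤ T.m i * T.a i j :=
    mul_le_mul_of_nonneg_left (w_le_of_pos T hij) hm.le
  constructor <;> linarith

end Groth.Agent.S2182
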