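import Groth.Statements.S2183
import Groth.Agent.NumType.Graph
-- import your own Groth.Agent.* helpers here

set_option autoImplicit false
open Finset
open Models Models.NumericalType

namespace Groth.Agent.S2183
open NumTypeLib

open Classical in
/-- Let T be a minimal numerical type with n > 1 indices and genus g at least 2, and let J be the set of
indices which are not (-2)-indices. Then J has at most 2g - 2 elements, and for j in J one has g j <
g, m j * |a j j| at most 6g - 6, and m i * a i j at most 6g - 6 for every index i. -/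
theorem result {n : ℕ} (T : Models.NumericalType n) (hmin : T.IsMinimal) (hn : 1 < n) (hg : 2 ≤ T.genus) :
    ((univ.filter fun j => ¬T.IsMinusTwo j).card : ℤ) ≤ 2 * T.genus - 2 ∧
      ∀ j, ¬T.IsMinusTwo j →
        T.g j < T.genus ∧ T.m j * |T.a j j| ≤ 6 * T.genus - 6 ∧
          ∀ i, T.m i * T.a i j ≤ 6 * T.genus - 6 := by
  have hsum := two_mul_genus T
  have hnn : ∀ i, 0 ≤ contrib T i := fun i => contrib_nonneg T hn (hmin i)
  have hone : ∀ j, ¬ T.IsMinusTwo j → 1 ≤ contrib T j := by
    intro j hj
    have := hnn j
    by_contra hc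
    exact hj (isMinusTwo_of_contrib_zero T hn (by omega))
  constructor
  · have h1 : ((univ.filter fun j => ¬T.IsMinusTwo j).card : ℤ) ≤ ∑ i, contrib T i := by
      classical
      refine le_trans ?_ (sum_le_sum_of_subset_of_nonneg (subset_univ (univ.filter fun j => ¬T.IsMinusTwo j)) fun i _ _ => hnn i)
      rw [card_eq_sum_ones, Nat.cast_sum]
      exact sum_le_sum fun j hj => by simpa using hone j (mem_filter.mp hj).2
    omega
  intro j hj
  have hle : contrib T j ≤ 2 * T.genus - 2 := by
    have := single_le_sum (fun i _ => hnn i) (mem_univ j)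
    omega
  obtain ⟨k, hk, hkj⟩ := exists_diag T hn j
  have hmw : 1 ≤ T.m j * T.w j := mul_pos (T.m_pos j) (T.w_pos j)
  have hc : contrib T j = T.m j * T.w j * (2 * (T.g j - 1) + k) := by rw [contrib, hkj]; ring
  have hg0 := T.g_nonneg j
  have hpos : 1 ≤ 2 * (T.g j - 1) + k := by
    by_contra hcon
    have := mul_nonpos_of_nonneg_of_nonpos (zero_le_one.trans hmw)
      (show 2 * (T.g j - 1) + k ≤ 0 by omega)
    have := hone j hj
    omega
  have h1 : 2 * (T.g j - 1) + k ≤ contrib T j :=
    hc ▸ le_mul_of_one_le_left (by omega) hmw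
  have hk3 : k ≤ 3 * (2 * (T.g j - 1) + k) := by omega
  have h2 : T.m j * |T.a j j| ≤ 6 * T.genus - 6 := by
    have habs : |T.a j j| = k * T.w j := by
      rw [hkj, abs_neg, abs_of_nonneg (mul_nonneg (by omega) (T.w_pos j).le)]
    have := mul_le_mul_of_nonneg_left hk3 (zero_le_one.trans hmw)
    rw [habs]
    linarith
  refine ⟨by omega, h2, fun i => ?_⟩
  rcases eq_or_ne i j with rfl | hne
  · have := mul_nonneg (T.m_pos i).le (abs_nonneg (T.a i i))
    have := mul_le_mul_of_nonneg_left (le_abs_self (T.a i i)) (T.m_pos i).le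
    linarith
  · have h := row_le T j {i} (by simpa using hne.symm)
    rw [sum_singleton, a_symm T j i] at h
    rw [abs_of_nonpos (diag_nonpos T j)] at h2
    linarith

end Groth.Agent.S2183
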