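import Groth.Statements.S2184
import Groth.Agent.NumType.Bound
import Groth.Agent.S2183
-- import your own Groth.Agent.* helpers here

set_option autoImplicit false
open Finset
open Models Models.NumericalType

namespace Groth.Agent.S2184
open NumTypeLib

/-- For a minimal numerical type of genus g at least 2 one has m i * |a i j| at most 768 g for all
indices i, j. -/
theorem result {n : ℕ} (T : Models.NumericalType n) (hmin : T.IsMinimal) (hg : 2 ≤ T.genus) (i j : Fin n) :
    T.m i * |T.a i j| ≤ 768 * T.genus := by
  classical
  rcases Nat.lt_or_ge 1 n with hn | hn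
  · obtain ⟨-, hJb⟩ := Groth.Agent.S2183.result T hmin hn hg
    have hJ : ∃ j, ¬ T.IsMinusTwo j := by
      by_contra h
      push Not at h
      have h2 := two_mul_genus T
      rw [Finset.sum_eq_zero fun i _ => by rw [contrib, (h i).1, (h i).2]; ring] at h2
      omega
    have hB := fun j hj => (hJb j hj).2.2
    have hμ := fun {x} hx => mw_le_of_minusTwo T hJ (6 * T.genus - 6) (by omega) hB (i := x) hx
    rcases eq_or_ne i j with rfl | hne
    · by_cases h : T.IsMinusTwo i
      · have := hμ h
        rw [h.2, abs_of_nonpos (by linarith [T.w_pos i])]
        linarith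
      · have := (hJb i h).2.1
        linarith
    · rw [abs_of_nonneg (T.offDiag_nonneg i j hne)]
      rcases eq_or_ne (T.a i j) 0 with h0 | h0
      · rw [h0, mul_zero]; linarith
      by_cases h : T.IsMinusTwo j
      · have := mul_offDiag_le T (adj_of_ne_zero T hne h0) h
        have := hμ h
        linarith
      · have := (hJb j h).2.2 i
        linarith
  · obtain rfl : n = 1 := by have := T.pos; omega
    have h0 := row_sum T i
    rw [Fin.sum_univ_one, Subsingleton.elim (0 : Fin 1) j] at h0
    rw [(mul_eq_zero.1 h0).resolve_right (T.m_pos j).ne', abs_zero, mul_zero]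
    linarith

end Groth.Agent.S2184
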