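import Groth.Statements.S2185
import Groth.Agent.NumType.TorsionPic
import Groth.Agent.S2184
import Groth.Agent.S2177
import Groth.Agent.S7318
-- import your own Groth.Agent.* helpers here

set_option autoImplicit false
open Finset
open Models Models.NumericalType

namespace Groth.Agent.S2185

theorem top_le {n : ℕ} (T : Models.NumericalType n) (hmin : T.IsMinimal) (hg : 2 ≤ T.genus) :
    T.topGenus ≤ T.genus := by
  rcases Nat.lt_or_ge 1 n with hn | hn
  · exact Groth.Agent.S2177.result T hmin hn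
  · obtain rfl : n = 1 := by have := T.pos; omega
    have : T.edgeCount = 0 := by
      rw [Models.NumericalType.edgeCount, Finset.card_eq_zero, Finset.filter_eq_empty_iff]
      intro p _ h
      exact absurd h.1 (by rw [Subsingleton.elim p.1 p.2]; exact lt_irrefl _)
    rw [Models.NumericalType.topGenus, this]
    omega

/-- The minimal case. -/
theorem minimal_case {n : ℕ} (T : Models.NumericalType n) (hmin : T.IsMinimal) (hg : 2 ≤ T.genus) (ℓ : ℕ)
    (hℓ : ℓ.Prime) (hℓg : 768 * T.genus < ℓ) (S : Type) [AddCommGroup S] (f : S →+ T.Pic)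
    (hf : Function.Injective f) (hS : ∀ s : S, (ℓ : ℤ) • s = 0) :
    Finite S ∧ Nat.card S ≤ ℓ ^ T.topGenus.toNat := by
  haveI := Fact.mk hℓ
  obtain ⟨e, he, -⟩ := Groth.Agent.S2179.result T
  rcases Nat.lt_or_ge 1 n with hn | hn
  · have hb := fun i j => (Groth.Agent.S2184.result T hmin hg i j).trans_lt hℓg
    have h1 : ∀ i j, 0 < T.a i j → T.m i < ℓ ∧ T.a i j < ℓ := fun i j h => by
      have h2 := hb i j
      rw [abs_of_pos h] at h2
      exact ⟨lt_of_le_of_lt (le_mul_of_one_le_right (T.m_pos i).le h) h2,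
        lt_of_le_of_lt (le_mul_of_one_le_left h.le (T.m_pos i)) h2⟩
    refine NumTypeLib.card_torsion_cokerA T ℓ (fun i hd => ?_) (fun i j h hd => ?_) S (e.comp f) (he.comp hf) hS
    · obtain ⟨j, -, hj⟩ := NumTypeLib.exists_adj T hn i
      exact absurd (Int.le_of_dvd (T.m_pos i) hd) (not_le.2 (h1 i j hj).1)
    · exact absurd (Int.le_of_dvd h hd) (not_le.2 (h1 i j h).2)
  · obtain rfl : n = 1 := by have := T.pos; omega
    have h0 := NumTypeLib.row_sum T 0
    rw [Fin.sum_univ_one] at h0
    have ha := (mul_eq_zero.1 h0).resolve_right (T.m_pos 0).ne'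
    have hzero : ∀ s, (e.comp f) s = 0 := fun s => by
      obtain ⟨x, hx⟩ := Submodule.Quotient.mk_surjective _ ((e.comp f) s)
      have h : Submodule.Quotient.mk (p := LinearMap.range T.a.mulVecLin) ((ℓ : ℤ) • x) = 0 := by
        rw [Submodule.Quotient.mk_smul, hx, ← map_zsmul, hS, map_zero]
      obtain ⟨y, hy⟩ := (Submodule.Quotient.mk_eq_zero _).1 h
      have h2 : (ℓ : ℤ) * x 0 = 0 := by
        have := congrFun hy 0
        simp [Matrix.mulVec, dotProduct, ha, hℓ.ne_zero] at this
        rw [this, mul_zero]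
      have hx0 : x = 0 := funext fun i => by
        rw [Subsingleton.elim i 0, Pi.zero_apply]
        exact (mul_eq_zero.1 h2).resolve_left (by exact_mod_cast hℓ.ne_zero)
      rw [← hx, hx0, Submodule.Quotient.mk_zero]
    haveI : Subsingleton S := ⟨fun a b => (he.comp hf) (by
      show (e.comp f) a = (e.comp f) b
      rw [hzero, hzero])⟩
    refine ⟨inferInstance, ?_⟩
    rw [Nat.card_of_subsingleton (0 : S)]
    exact Nat.one_le_pow _ _ hℓ.pos

/-- Let T be a numerical type of genus g at least 2 and l a prime bigger than 768 g. Then the l-torsion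
subgroup of Pic(T) has at most l^g elements (F_l-dimension at most g); if T is minimal it has at
most l^(g_top) elements where g_top is the topological genus, itself at most g. -/
theorem result {n : ℕ} (T : Models.NumericalType n) (hg : 2 ≤ T.genus) (ℓ : ℕ) (hℓ : ℓ.Prime)
    (hℓg : 768 * T.genus < ℓ) :
    Nat.card (Submodule.torsionBy ℤ T.Pic (ℓ : ℤ)) ≤ ℓ ^ T.genus.toNat ∧
      (T.IsMinimal → Nat.card (Submodule.torsionBy ℤ T.Pic (ℓ : ℤ)) ≤ ℓ ^ T.topGenus.toNat ∧
        T.topGenus ≤ T.genus) := by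
  obtain ⟨k, T', hmin', hgen, f, hf⟩ := NumTypeLib.exists_minimal n T
  let S := Submodule.torsionBy ℤ T.Pic (ℓ : ℤ)
  have hS : ∀ s : S, (ℓ : ℤ) • s = 0 := fun s => Subtype.ext s.2
  let i : S →+ T.Pic := S.subtype.toAddMonoidHom
  have hi : Function.Injective i := Subtype.val_injective
  refine ⟨?_, fun hmin => ⟨(minimal_case T hmin hg ℓ hℓ hℓg S i hi hS).2, top_le T hmin hg⟩⟩
  have h := (minimal_case T' hmin' (hgen ▸ hg) ℓ hℓ (hgen ▸ hℓg) S (f.comp i) (hf.comp hi) hS).2
  refine h.trans (Nat.pow_le_pow_right hℓ.pos ?_)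
  have h1 := top_le T' hmin' (hgen ▸ hg)
  omega

end Groth.Agent.S2185
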