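import Groth.Statements.S2187
import Groth.Agent.FVLib.Basic

set_option autoImplicit false
universe u
open CategoryTheory
open LCI

namespace Groth.Agent.S2187

/-- Let R be a Noetherian local ring and I an ideal of finite projective dimension as an R-module. If F
is a direct summand of the conormal module I/I^2 which is isomorphic to R/I, then there is a
nonzerodivisor x in I whose class in I/I^2 generates F. -/
theorem result {R : Type u} [CommRing R]
    [IsNoetherianRing R] [IsLocalRing R] (I : Ideal R) (n : ℕ)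
    (hpd : HasProjectiveDimensionLT (ModuleCat.of R I) n)
    (F G : Submodule (R ⧸ I) I.Cotangent) (hFG : IsCompl F G) (e : F ≃ₗ[R ⧸ I] (R ⧸ I)) :
    ∃ (x : R) (hx : x ∈ I), x ∈ nonZeroDivisors R ∧
      Submodule.span (R ⧸ I) {I.toCotangent ⟨x, hx⟩} = F := by
  rcases eq_or_ne I ⊤ with rfl | hI
  · haveI : Subsingleton (R ⧸ (⊤ : Ideal R)) := Ideal.Quotient.subsingleton_iff.2 rfl
    haveI : Subsingleton (⊤ : Ideal R).Cotangent := Module.subsingleton (R ⧸ (⊤ : Ideal R)) _
    exact ⟨1, trivial, one_mem _, Subsingleton.elim _ _⟩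
  · let e' : F ≃ₗ[R ⧸ I] (Fin 1 → R ⧸ I) := e ≪≫ₗ (LinearEquiv.funUnique (Fin 1) (R ⧸ I) (R ⧸ I)).symm
    let φ : I →ₗ[R] (Fin 1 → R ⧸ I) :=
      ((e'.toLinearMap ∘ₗ F.projectionOnto G hFG).restrictScalars R) ∘ₗ I.toCotangent
    choose a ha using fun i => I.toCotangent_surjective (e'.symm (Pi.single i 1) : I.Cotangent)
    have hφ : ∀ i, φ (a i) = Pi.single i 1 := fun i => by
      show e' (F.projectionOnto G hFG (I.toCotangent (a i))) = _
      rw [ha, Submodule.projectionOnto_apply_left, e'.apply_symm_apply]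
    obtain ⟨x, hx, hreg⟩ := FVLib.exists_regular_lift 1 R I hI n
      (CommAlgDim.PDLT.mono (Nat.le_succ n) hpd) φ a hφ
    refine ⟨(x 0 : R), (x 0).2, ?_, ?_⟩
    · rw [List.ofFn_succ, List.ofFn_zero] at hreg
      have h1 := ((CommAlgDim.isRegular_cons_ring (rs := [])).1 hreg).1
      exact mem_nonZeroDivisors_iff_right.2 fun z hz => h1 (show (x 0 : R) • z = (x 0 : R) • 0 by rw [smul_eq_mul, smul_zero, mul_comm, hz])
    · rw [show I.toCotangent ⟨(x 0 : R), (x 0).2⟩ = (e'.symm (Pi.single 0 1) : I.Cotangent) by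
        rw [← ha, Ideal.toCotangent_eq]; exact hx 0]
      refine le_antisymm (Submodule.span_le.2 (Set.singleton_subset_iff.2 (e'.symm _).2)) fun v hv => ?_
      refine Submodule.mem_span_singleton.2 ⟨e' ⟨v, hv⟩ 0, ?_⟩
      rw [← Submodule.coe_smul, ← map_smul, show e' ⟨v, hv⟩ 0 • (Pi.single 0 1 : Fin 1 → R ⧸ I) = e' ⟨v, hv⟩ from
        funext fun i => by rw [Fin.fin_one_eq_zero i]; simp, e'.symm_apply_apply]

end Groth.Agent.S2187
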