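import Groth.Statements.S2188
import Groth.Agent.FVLib.Global

set_option autoImplicit false
universe u
open CategoryTheory
open LCI

namespace Groth.Agent.S2188

/-- Let R be a Noetherian local ring and I an ideal of finite projective dimension as an R-module. If F
is a direct summand of I/I^2 which is free of rank r over R/I, then there is a regular sequence x_1,
..., x_r of R inside I whose classes in I/I^2 generate F. -/
theorem result {R : Type u} [CommRing R]
    [IsNoetherianRing R] [IsLocalRing R] (I : Ideal R) (hI : I ≠ ⊤) (n : ℕ)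
    (hpd : HasProjectiveDimensionLT (ModuleCat.of R I) n)
    (F G : Submodule (R ⧸ I) I.Cotangent) (hFG : IsCompl F G) (r : ℕ)
    (e : F ≃ₗ[R ⧸ I] (Fin r → R ⧸ I)) :
    ∃ (x : Fin r → R) (hx : ∀ i, x i ∈ I), RingTheory.Sequence.IsRegular R (List.ofFn x) ∧
      Submodule.span (R ⧸ I) (Set.range fun i => I.toCotangent ⟨x i, hx i⟩) = F := by
  classical
  let φ : I →ₗ[R] (Fin r → R ⧸ I) :=
    ((e.toLinearMap ∘ₗ F.projectionOnto G hFG).restrictScalars R) ∘ₗ I.toCotangent
  choose a ha using fun i => I.toCotangent_surjective (e.symm (Pi.single i 1) : I.Cotangent)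
  have hφ : ∀ i, φ (a i) = Pi.single i 1 := fun i => by
    show e (F.projectionOnto G hFG (I.toCotangent (a i))) = _
    rw [ha, Submodule.projectionOnto_apply_left, e.apply_symm_apply]
  obtain ⟨x, hx, hreg⟩ := FVLib.exists_regular_lift r R I hI n
    (CommAlgDim.PDLT.mono (Nat.le_succ n) hpd) φ a hφ
  refine ⟨fun i => (x i : R), fun i => (x i).2, hreg, ?_⟩
  have hcl : ∀ i, I.toCotangent ⟨(x i : R), (x i).2⟩ = (e.symm (Pi.single i 1) : I.Cotangent) := fun i => by
    rw [← ha, Ideal.toCotangent_eq]
    exact hx i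
  simp only [hcl]
  refine le_antisymm (Submodule.span_le.2 ?_) fun v hv => ?_
  · rintro _ ⟨i, rfl⟩
    exact (e.symm (Pi.single i 1)).2
  · have h1 : v = (F.subtype ∘ₗ e.symm.toLinearMap) (e ⟨v, hv⟩) := by simp
    rw [h1, pi_eq_sum_univ' (e ⟨v, hv⟩), map_sum]
    exact sum_mem fun i _ => by
      rw [map_smul]
      exact Submodule.smul_mem _ _ (Submodule.subset_span ⟨i, rfl⟩)

end Groth.Agent.S2188
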