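import Groth.Statements.S2190
import Groth.Agent.NumType.Graph
-- import your own Groth.Agent.* helpers here

set_option autoImplicit false
open Finset
open Models Models.NumericalType

namespace Groth.Agent.S2190
open NumTypeLib

/-- A minimal numerical type of genus zero has a single index, with m = 1, a = 0, w = 1 and g = 0. -/
theorem result {n : ℕ} (T : Models.NumericalType n) (hmin : T.IsMinimal) (hg : T.genus = 0) :
    n = 1 ∧ ∀ i, T.m i = 1 ∧ T.a i i = 0 ∧ T.w i = 1 ∧ T.g i = 0 := by
  have hn : n = 1 := by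
    by_contra hc
    have := one_le_genus T (by have := T.pos; omega) hmin
    omega
  subst hn
  refine ⟨rfl, fun i => ?_⟩
  obtain rfl : i = 0 := Fin.ext (by omega)
  have h0 := row_sum T 0
  rw [Fin.sum_univ_one] at h0
  have ha : T.a 0 0 = 0 := (mul_eq_zero.mp h0).resolve_right (T.m_pos 0).ne'
  simp [Models.NumericalType.genus, Fin.sum_univ_one, ha] at hg
  have hm := T.m_pos 0
  have hw := T.w_pos 0
  have hmw : 0 < T.m 0 * T.w 0 := mul_pos hm hw
  have hz : T.g 0 = 0 := by
    by_contra hc
    have : 0 ≤ T.m 0 * T.w 0 * (T.g 0 - 1) := mul_nonneg hmw.le (by have := T.g_nonneg 0; omega)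
    linarith
  rw [hz] at hg
  have h2 : T.m 0 ≤ T.m 0 * T.w 0 := le_mul_of_one_le_right hm.le hw
  have h3 : T.w 0 ≤ T.m 0 * T.w 0 := le_mul_of_one_le_left hw.le hm
  exact ⟨by linarith, ha, by linarith, hz⟩

end Groth.Agent.S2190
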