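import Groth.Statements.S2191
import Groth.Agent.DPExtLib.Sup
-- import your own Groth.Agent.* helpers here

set_option autoImplicit false
universe u v
open DPow

namespace Groth.Agent.S2191

/-- Part (2): if two ideals I and J of a ring carry divided power structures agreeing on their
intersection, then exactly one divided power structure on the ideal I + J restricts to the given
ones on I and on J. -/
theorem result {A : Type u} [CommRing A] {I J : Ideal A} (γ : DividedPowers I)
    (δ : DividedPowers J) (h : ∀ (n : ℕ) (x : A), x ∈ I ⊓ J → γ.dpow n x = δ.dpow n x) :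
    ∃! ε : DividedPowers (I ⊔ J),
      (∀ (n : ℕ) (x : A), x ∈ I → ε.dpow n x = γ.dpow n x) ∧
        (∀ (n : ℕ) (x : A), x ∈ J → ε.dpow n x = δ.dpow n x) := by
  obtain ⟨ε, h1, h2⟩ := DPExtLib.exists_sup γ δ h
  refine ⟨ε, ⟨h1, h2⟩, fun ε' h' => DividedPowers.dpow_eq_from_gens ε ε' (S := (I : Set A) ∪ J)
    (by rw [Ideal.span_union, Ideal.span_eq, Ideal.span_eq]) ?_⟩
  rintro n z (hz | hz)
  · rw [h1 n z hz, h'.1 n z hz]
  · rw [h2 n z hz, h'.2 n z hz]


end Groth.Agent.S2191
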