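import Groth.Statements.S2194
import Groth.Agent.DPExtLib.Sup
-- import your own Groth.Agent.* helpers here

set_option autoImplicit false
universe u
open DPow

namespace Groth.Agent.S2194

theorem exists_model (R : Type u) [CommRing R] (σ : Type u) :
    ∃ (P : Type u) (_ : CommRing P) (_ : Algebra R P) (x : σ → ℕ → P) (b : Module.Basis (σ →₀ ℕ) R P),
      DPPolyLib.IsModel x b := by
  let inc : DPPolyLib.Model ℤ σ →ₐ[ℤ] TensorProduct ℤ R (DPPolyLib.Model ℤ σ) :=
    Algebra.TensorProduct.includeRight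
  refine ⟨TensorProduct ℤ R (DPPolyLib.Model ℤ σ), inferInstance, inferInstance,
    fun l n => inc (DPPolyLib.xM ℤ σ l n), Algebra.TensorProduct.basis R (DPPolyLib.basisM ℤ σ),
    ⟨fun l => ?_, fun l n m => ?_⟩, fun e => ?_⟩
  · rw [(DPPolyLib.rules_xM ℤ σ).zero, map_one]
  · rw [← map_mul, (DPPolyLib.rules_xM ℤ σ).mul, map_mul, map_natCast]
  · rw [Algebra.TensorProduct.basis_apply, (DPPolyLib.isModel_model ℤ σ).eq]
    exact map_finsuppProd inc e _


/-- Let (A, I) be a ring with a divided power structure on I, B an A-algebra and J an ideal of B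
containing I B. Then there is a divided power ring (D, J') with a ring map B -> D carrying J into J'
whose composite with A -> B is a homomorphism of divided power rings, universal for such data: for
every divided power ring (C, K) with a divided power homomorphism A -> C and every A-algebra map B
-> C carrying J into K there is exactly one divided power homomorphism D -> C compatible with the
maps from B. -/
theorem result {A B : Type u} [CommRing A] [CommRing B] [Algebra A B] {I : Ideal A}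
    (γ : DividedPowers I) (J : Ideal B) (hIJ : I.map (algebraMap A B) ≤ J) :
    ∃ (D : Type u) (_ : CommRing D) (_ : Algebra B D) (JD : Ideal D) (γD : DividedPowers JD),
      J.map (algebraMap B D) ≤ JD ∧
      γ.IsDPMorphism γD ((algebraMap B D).comp (algebraMap A B)) ∧
      ∀ (C : Type u) [CommRing C] [Algebra A C] (K : Ideal C) (δ : DividedPowers K),
        γ.IsDPMorphism δ (algebraMap A C) →
        ∀ ψ : B →ₐ[A] C, J.map ψ ≤ K →
          ∃! χ : D →+* C, χ.comp (algebraMap B D) = ψ ∧ γD.IsDPMorphism δ χ := by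
  classical
  let B0 := MvPolynomial B A
  obtain ⟨δ0, hδ0⟩ := DPExtLib.exists_ext_flat (B := B0) γ
  obtain ⟨P, _, _, x, b, hM⟩ := exists_model B0 J
  obtain ⟨δP, hm, hx⟩ := DPPolyLib.exists_dp δ0 hM
  let ev : B0 →ₐ[A] B := MvPolynomial.aeval id
  have hev : Function.Surjective ev.toRingHom := fun c => ⟨MvPolynomial.X c, MvPolynomial.aeval_X _ c⟩
  have hmem : ∀ l, x l 1 ∈ (I.map (algebraMap A B0)).map (algebraMap B0 P) ⊔ DPPolyLib.aug x :=
    fun l => Ideal.mem_sup_right (DPPolyLib.IsModel.x_mem_aug one_ne_zero)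
  let R0 : Set P := {y | ∃ k : B0, ev k = 0 ∧ y = algebraMap B0 P k} ∪
    {y | ∃ j : J, y = x j 1 - algebraMap B0 P (MvPolynomial.X (j : B))}
  let JP := (I.map (algebraMap A B0)).map (algebraMap B0 P) ⊔ DPPolyLib.aug x
  let K : Ideal P := sInf {K : Ideal P | R0 ⊆ K ∧ ∀ n : ℕ, n ≠ 0 → ∀ y ∈ JP, y ∈ K → δP.dpow n y ∈ K}
  have hK0 : ∀ y ∈ R0, y ∈ K := fun y hy => Submodule.mem_sInf.2 fun K' hK' => hK'.1 hy
  have hKdp : δP.IsSubDPIdeal (K ⊓ JP) := by
    refine ⟨inf_le_right, fun n hn y hy => ⟨Submodule.mem_sInf.2 fun K' hK' => ?_, δP.dpow_mem hn hy.2⟩⟩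
    exact hK'.2 n hn y hy.2 ((sInf_le hK' : K ≤ K') hy.1)
  let q := Ideal.Quotient.mk K
  let γD := DividedPowers.Quotient.dividedPowers δP hKdp
  have hq : δP.IsDPMorphism γD q := DividedPowers.Quotient.isDPMorphism δP hKdp
  have hker : RingHom.ker ev.toRingHom ≤ RingHom.ker (q.comp (algebraMap B0 P)) := fun k hk =>
    Ideal.Quotient.eq_zero_iff_mem.2 (hK0 _ (Or.inl ⟨k, hk, rfl⟩))
  obtain ⟨fBD, hfBD⟩ : ∃ f : B →+* P ⧸ K, ∀ k, f (ev k) = q (algebraMap B0 P k) :=
    ⟨RingHom.liftOfSurjective ev.toRingHom hev ⟨q.comp (algebraMap B0 P), hker⟩, fun k =>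
      RingHom.congr_fun (RingHom.liftOfSurjective_comp ev.toRingHom hev ⟨q.comp (algebraMap B0 P), hker⟩) k⟩
  have hevX : ∀ c : B, ev (MvPolynomial.X c) = c := fun c => MvPolynomial.aeval_X _ c
  have hXj : ∀ j : J, fBD j = q (x j 1) := fun j => by
    have h2 : q (x j 1 - algebraMap B0 P (MvPolynomial.X (j : B))) = 0 :=
      Ideal.Quotient.eq_zero_iff_mem.2 (hK0 _ (Or.inr ⟨j, rfl⟩))
    rw [map_sub, sub_eq_zero] at h2
    rw [h2, ← hfBD]
    rw [hevX]
  refine ⟨P ⧸ K, inferInstance, fBD.toAlgebra, JP.map q, γD, ?_, ?_, ?_⟩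
  · refine Ideal.map_le_iff_le_comap.2 fun j hj => ?_
    show fBD j ∈ JP.map q
    rw [hXj ⟨j, hj⟩]
    exact Ideal.mem_map_of_mem q (hmem _)
  · have hc : fBD.comp (algebraMap A B) = (q.comp (algebraMap B0 P)).comp (algebraMap A B0) := RingHom.ext fun a => by
      simp only [RingHom.comp_apply]
      rw [← hfBD, AlgHom.commutes]
    show γ.IsDPMorphism γD (fBD.comp (algebraMap A B))
    rw [hc]
    exact DividedPowers.IsDPMorphism.comp γD (DividedPowers.IsDPMorphism.comp γD hq hm) hδ0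
  intro C _ _ K' δ hδ ψ hψ
  letI : Algebra B0 C := (ψ.comp ev).toRingHom.toAlgebra
  have hψJ : ∀ j : J, ψ (j : B) ∈ K' := fun j => hψ (Ideal.mem_map_of_mem _ j.2)
  have hg := DPPolyLib.rules_dpow δ (fun j : J => ψ (j : B)) hψJ
  let φ := hM.lift hg
  have hφx : ∀ l n, φ (x l n) = δ.dpow n (ψ (l : B)) := fun l n => hM.lift_x hg l n
  have hφa : ∀ k, φ (algebraMap B0 P k) = ψ (ev k) := fun k => φ.commutes k
  have hφ0 : δ0.IsDPMorphism δ (φ.toRingHom.comp (algebraMap B0 P)) := by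
    refine DividedPowers.IsDPMorphism.of_comp γ δ0 δ (algebraMap A B0) _ rfl hδ0 ?_
    have hc : (φ.toRingHom.comp (algebraMap B0 P)).comp (algebraMap A B0) = algebraMap A C := RingHom.ext fun a => by
      show φ (algebraMap B0 P (algebraMap A B0 a)) = _
      rw [hφa, AlgHom.commutes, AlgHom.commutes]
    rw [hc]
    exact hδ
  have hφdp : δP.IsDPMorphism δ φ.toRingHom :=
    DPPolyLib.isDPMorphism_of_x rfl δP hm hx δ φ.toRingHom hφ0 _ hψJ hφx
  have hKker : K ≤ RingHom.ker φ.toRingHom := sInf_le ⟨by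
    rintro y (⟨k, hk, rfl⟩ | ⟨j, rfl⟩)
    · show φ _ = 0
      rw [hφa, hk, map_zero]
    · show φ _ = 0
      rw [map_sub, hφx, hφa, δ.dpow_one (hψJ j), hevX, sub_self],
    fun n hn y hy hy0 => by
      show φ.toRingHom _ = 0
      rw [← hφdp.dpow_comp y hy, show φ.toRingHom y = 0 from hy0, δ.dpow_eval_zero hn]⟩
  refine ⟨Ideal.Quotient.lift K φ.toRingHom fun y hy => hKker hy, ⟨?_, ?_⟩, fun χ hχ => ?_⟩
  · refine RingHom.ext fun c => ?_
    obtain ⟨k, rfl⟩ := hev c
    show Ideal.Quotient.lift K φ.toRingHom (fun y hy => hKker hy) (fBD (ev k)) = ψ (ev k)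
    rw [hfBD]
    exact hφa k
  · exact DividedPowers.IsDPMorphism.of_comp δP γD δ q (Ideal.Quotient.lift K φ.toRingHom fun y hy => hKker hy) rfl hq (by
      rw [Ideal.Quotient.lift_comp_mk]; exact hφdp)
  · refine Ideal.Quotient.ringHom_ext ?_
    rw [Ideal.Quotient.lift_comp_mk]
    have hχa : ∀ k, χ (q (algebraMap B0 P k)) = ψ (ev k) := fun k => by
      rw [← hfBD]
      exact RingHom.congr_fun hχ.1 (ev k)
    let φ' : P →ₐ[B0] C := { χ.comp q with commutes' := hχa }
    have : φ' = φ := hM.algHom_ext fun l n => by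
      show χ (q (x l n)) = _
      rw [hφx, ← hx l n, ← hq.dpow_comp _ (hmem l), ← hχ.2.dpow_comp _ (Ideal.mem_map_of_mem q (hmem l)), ← hXj]
      exact congrArg (δ.dpow n) (RingHom.congr_fun hχ.1 (l : B))
    exact congrArg AlgHom.toRingHom this


end Groth.Agent.S2194
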