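import Groth.Statements.S2196
import Groth.Agent.QFDualLib.Noether

set_option autoImplicit false
universe u v
open Disc

namespace Groth.Agent.S2196

/-- Let A -> B be a ring map of finite type and D its Noether different (the image in B of the
annihilator of the kernel of B tensor_A B -> B). Then a prime q of B contains D exactly when A -> B
is not unramified at q. -/
theorem result {A : Type u} {B : Type v}
    [CommRing A] [CommRing B] [Algebra A B] [Algebra.FiniteType A B] :
    {q : PrimeSpectrum B | Disc.noetherDifferent A B ≤ q.asIdeal} =
      (Algebra.unramifiedLocus A B)ᶜ := by
  ext q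
  rw [Set.mem_ofPred_eq, Set.mem_compl_iff]
  exact QFDualLib.noether_le_iff_not_unramifiedAt A B q.asIdeal

end Groth.Agent.S2196
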