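import Groth.Statements.S2197
import Groth.Agent.QFDualLib.BaseChange

open TensorProduct
set_option autoImplicit false
universe u
open Disc

namespace Groth.Agent.S2197

/-- Part (2): let A -> B be a ring map of finite type and A -> A' a flat ring map, and let B' = B
tensor_A A'. Then the Noether different of B' over A' is the extension to B' of the Noether
different of B over A. -/
theorem result {A B A' B' : Type u} [CommRing A] [CommRing B]
    [CommRing A'] [CommRing B'] [Algebra A B] [Algebra A A'] [Algebra A B'] [Algebra B B']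
    [Algebra A' B'] [IsScalarTower A B B'] [IsScalarTower A A' B']
    [Algebra.IsPushout A B A' B'] [Algebra.FiniteType A B] [Module.Flat A A'] :
    Disc.noetherDifferent A' B' = (Disc.noetherDifferent A B).map (algebraMap B B') := by
  let h : Algebra.IsPushout A A' B B' := (inferInstance : Algebra.IsPushout A B A' B').symm
  let σ : B →ₐ[A] B' := IsScalarTower.toAlgHom A B B'
  let i1 : B →ₐ[A] B' ⊗[A'] B' :=
    (((Algebra.TensorProduct.includeLeft : B' →ₐ[A'] B' ⊗[A'] B')).restrictScalars A).comp σ
  let i2 : B →ₐ[A] B' ⊗[A'] B' :=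
    (((Algebra.TensorProduct.includeRight : B' →ₐ[A'] B' ⊗[A'] B')).restrictScalars A).comp σ
  let ρ : B ⊗[A] B →ₐ[A] B' ⊗[A'] B' := Algebra.TensorProduct.lift i1 i2 (fun x y => Commute.all _ _)
  have hρ : ∀ x y, ρ (x ⊗ₜ y) = σ x ⊗ₜ[A'] σ y := fun x y => by
    simp [ρ, i1, i2, Algebra.TensorProduct.tmul_mul_tmul]
  have hflat : ρ.toRingHom.Flat := by
    let e : A' ⊗[A] (B ⊗[A] B) ≃ₗ[A'] B' ⊗[A'] B' :=
      TensorProduct.AlgebraTensorModule.distribBaseChange A A' B B ≪≫ₗ
        TensorProduct.congr h.out.equiv h.out.equiv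
    have hbc : IsBaseChange A' ρ.toLinearMap := by
      refine IsBaseChange.of_equiv e fun z => ?_
      induction z using TensorProduct.induction_on with
      | zero => simp
      | add u v hu hv => simp only [tmul_add, map_add, hu, hv]
      | tmul x y =>
        simp only [e, LinearEquiv.trans_apply, TensorProduct.AlgebraTensorModule.distribBaseChange_tmul,
          TensorProduct.congr_tmul, IsBaseChange.equiv_tmul, one_smul]
        exact (hρ x y).symm
    let := ρ.toRingHom.toAlgebra
    have : IsScalarTower A (B ⊗[A] B) (B' ⊗[A'] B') :=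
      IsScalarTower.of_algebraMap_eq fun a => (ρ.commutes a).symm
    have hp : Algebra.IsPushout A A' (B ⊗[A] B) (B' ⊗[A'] B') := ⟨hbc⟩
    exact Module.Flat.isBaseChange A (B ⊗[A] B) A' (B' ⊗[A'] B') hp.symm.out
  refine QFDualLib.noether_map (A := A) (B := B) (A' := A') (B' := B') ρ.toRingHom (algebraMap B B') hflat
    (fun x => ?_) ?_
  · induction x using TensorProduct.induction_on with
    | zero => simp
    | add u v hu hv => simp only [map_add, hu, hv]
    | tmul x y => simp [hρ, σ]
  · refine le_antisymm (Ideal.map_le_iff_le_comap.2 fun x hx => ?_) ?_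
    · rw [Ideal.mem_comap, RingHom.mem_ker]
      have h2 : ∀ z, Algebra.TensorProduct.lmul' A' (ρ z) =
          algebraMap B B' (Algebra.TensorProduct.lmul' A z) := by
        intro z
        induction z using TensorProduct.induction_on with
        | zero => simp
        | add u v hu hv => simp only [map_add, hu, hv]
        | tmul x y => simp [hρ, σ]
      rw [AlgHom.toRingHom_eq_coe, RingHom.coe_coe, h2, RingHom.mem_ker.1 hx, map_zero]
    · have hspan : RingHom.ker (Algebra.TensorProduct.lmul' (S := B') A') =
          Submodule.span (B' ⊗[A'] B') (Set.range fun s : B' => (1 : B') ⊗ₜ[A'] s - s ⊗ₜ[A'] (1 : B')) :=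
        (KaehlerDifferential.span_range_eq_ideal A' B').symm
      rw [hspan, Submodule.span_le]
      rintro _ ⟨s, rfl⟩
      rw [SetLike.mem_coe]
      show (1 : B') ⊗ₜ[A'] s - s ⊗ₜ[A'] (1 : B') ∈ _
      induction s using QFDualLib.mul_induction h with
      | h0 => simp
      | hadd u v hu hv =>
        rw [tmul_add, add_tmul, add_sub_add_comm]
        exact add_mem hu hv
      | h a b =>
        rw [← Algebra.smul_def, tmul_smul, ← smul_tmul', ← smul_sub, Algebra.smul_def]
        refine Ideal.mul_mem_left _ _ ?_
        have hmem : (1 : B) ⊗ₜ[A] b - b ⊗ₜ[A] (1 : B) ∈ RingHom.ker (Algebra.TensorProduct.lmul' (S := B) A) := by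
          simp
        convert! Ideal.mem_map_of_mem ρ.toRingHom hmem using 1
        simp [hρ, σ]

end Groth.Agent.S2197
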