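import Groth.Statements.S2201
import Groth.Agent.CIRingLib.TorRel
import Groth.Agent.S2836

set_option autoImplicit false
universe u
open LCI

namespace Groth.Agent.S2201

/-- Let R -> S be a flat local homomorphism of Noetherian local rings with S/m_R S regular, and let I in
R and J in S be proper ideals with I S inside J; give S/J its canonical R/I-algebra structure.
Equivalent: (1) J is cut out by a regular sequence while S/J, as an R/I-module, has finite
Tor-dimension; (2) the same with only finitely many nonzero Tor_p^{R/I}(S/J, k), k the residue field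
of R/I; (3) I and J/IS are each cut out by regular sequences (in R, resp. S/IS). Stated as (1) iff
(3) and (2) iff (3). -/
theorem result {R S : Type u} [CommRing R] [CommRing S] [IsNoetherianRing R]
    [IsNoetherianRing S] [IsLocalRing R] [IsLocalRing S] [Algebra R S] [IsLocalHom (algebraMap R S)]
    [Module.Flat R S]
    [IsRegularLocalRing (S ⧸ Ideal.map (algebraMap R S) (IsLocalRing.maximalIdeal R))]
    (I : Ideal R) (J : Ideal S) (hI : I ≠ ⊤) (hJ : J ≠ ⊤) (hIJ : I.map (algebraMap R S) ≤ J)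
    [Algebra (R ⧸ I) (S ⧸ J)] [IsScalarTower R (R ⧸ I) (S ⧸ J)] :
    let P3 := (∃ rs : List R, Ideal.ofList rs = I ∧ RingTheory.Sequence.IsRegular R rs) ∧
      ∃ rs' : List (S ⧸ I.map (algebraMap R S)),
        Ideal.ofList rs' = J.map (Ideal.Quotient.mk (I.map (algebraMap R S))) ∧
          RingTheory.Sequence.IsRegular (S ⧸ I.map (algebraMap R S)) rs'
    let Jreg := ∃ rs : List S, Ideal.ofList rs = J ∧ RingTheory.Sequence.IsRegular S rs
    ((Jreg ∧ DRing.HasFiniteTorDim (R ⧸ I) (S ⧸ J)) ↔ P3) ∧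
      ((Jreg ∧ Set.Finite {p : ℕ | ¬Subsingleton (DRing.Tor (R ⧸ I) p (S ⧸ J)
        ((R ⧸ I) ⧸ (IsLocalRing.maximalIdeal R).map (Ideal.Quotient.mk I)))}) ↔ P3) := by
  classical
  intro P3 Jreg

  haveI := CIRingLib.isLocalRing_quotient hI
  let IS := I.map (algebraMap R S)
  haveI := CIRingLib.isLocalRing_quotient (ne_top_of_le_ne_top hJ hIJ : IS ≠ ⊤)
  haveI : Module.Flat (R ⧸ I) (S ⧸ IS) := CatLib.flat_quotient I
  letI : Algebra (S ⧸ IS) (S ⧸ J) := (Ideal.Quotient.factor hIJ).toAlgebra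
  haveI : IsScalarTower S (S ⧸ IS) (S ⧸ J) := IsScalarTower.of_algebraMap_eq fun s => rfl
  haveI : Module.Finite (S ⧸ IS) (S ⧸ J) := Module.Finite.of_restrictScalars_finite S _ _
  haveI : IsScalarTower (R ⧸ I) (S ⧸ IS) (S ⧸ J) := IsScalarTower.of_algebraMap_eq fun x => by
    obtain ⟨r, rfl⟩ := Ideal.Quotient.mk_surjective x
    show algebraMap (R ⧸ I) (S ⧸ J) (algebraMap R (R ⧸ I) r) = Ideal.Quotient.factor hIJ (Ideal.Quotient.mk IS _)
    rw [← IsScalarTower.algebraMap_apply, Ideal.Quotient.factor_mk, IsScalarTower.algebraMap_apply R S (S ⧸ J)]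
    rfl
  let M₀ := (IsLocalRing.maximalIdeal R).map (algebraMap R S)
  let K := (IsLocalRing.maximalIdeal (R ⧸ I)).map (algebraMap (R ⧸ I) (S ⧸ IS))
  have hm : M₀ ≤ IsLocalRing.maximalIdeal S := ((IsLocalRing.local_hom_TFAE (algebraMap R S)).out 0 2).1 ‹_›
  have hle : IS ≤ M₀ := Ideal.map_mono (IsLocalRing.le_maximalIdeal hI)
  have hmI := IsLocalRing.map_maximalIdeal_of_surjective (Ideal.Quotient.mk I) Ideal.Quotient.mk_surjective
  have hK : K = M₀.map (Ideal.Quotient.mk IS) := by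
    show ((IsLocalRing.maximalIdeal (R ⧸ I))).map _ = _
    rw [← hmI, Ideal.map_map, Ideal.map_map]
    rfl
  haveI : IsLocalHom (algebraMap (R ⧸ I) (S ⧸ IS)) := ((IsLocalRing.local_hom_TFAE _).out 2 0).1 (by
    show K ≤ _
    rw [hK, ← IsLocalRing.map_maximalIdeal_of_surjective (Ideal.Quotient.mk IS) Ideal.Quotient.mk_surjective]
    exact Ideal.map_mono hm)
  haveI : IsRegularLocalRing ((S ⧸ IS) ⧸ K) := IsRegularLocalRing.of_ringEquiv
    (((Ideal.quotEquivOfEq hK).trans (DoubleQuot.quotQuotEquivQuotSup IS _)).trans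
      (Ideal.quotEquivOfEq (sup_eq_right.2 hle))).symm
  let J₀ := (IsLocalRing.maximalIdeal R).map (Ideal.Quotient.mk I)
  obtain ⟨P⟩ := (inferInstance : CategoryTheory.HasProjectiveResolution (ModuleCat.of (R ⧸ I) ((R ⧸ I) ⧸ J₀))).out
  -- vanishing in high degrees
  let Van := ∃ n, ∀ p, n ≤ p → TorDimLib.ExactAtSucc (S ⧸ J) P p
  have h13 : Jreg → Van → P3 := fun hreg ⟨n, hn⟩ => by
    obtain ⟨N, hN⟩ := CIRingLib.exists_pdlt_of_exactAtSucc (B := S ⧸ IS) J₀ hmI P n (S ⧸ J) hn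
    obtain ⟨h1, h2⟩ := CILib.exists_regular_of_finiteTorDim IS J hIJ hJ
      (CILib.hasFiniteTorDim_of_FD (CILib.FD_of_pdlt _ hN)) hreg
    obtain ⟨rs, hrs, hreg'⟩ := h1
    obtain ⟨rs₀, h3, h4⟩ := (CIRingLib.isRegularIdeal_map_flat_iff (S := S) I).1 ⟨rs, hreg', hrs⟩
    exact ⟨⟨rs₀, h4, h3⟩, h2⟩
  have h31 : P3 → Jreg ∧ DRing.HasFiniteTorDim (R ⧸ I) (S ⧸ J) := fun ⟨⟨rs, hrs, hreg⟩, rs', hrs', hreg'⟩ => by
    refine ⟨?_, ?_⟩
    · obtain ⟨l, h3, h4⟩ := Groth.Agent.S2836.result S IS J hIJ (IsLocalRing.le_maximalIdeal hJ)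
        ((CIRingLib.isRegularIdeal_map_flat_iff I).2 ⟨rs, hreg, hrs⟩) ⟨rs', hreg', hrs'⟩
      exact ⟨l, h4, h3⟩
    · have h1 := CIRingLib.pdlt_quot_ofList rs' (S ⧸ IS) 0 hreg'.toIsWeaklyRegular
        (CommAlgDim.pdlt_one_iff.2 inferInstance)
      have hker : (Ideal.ofList rs' • ⊤ : Submodule (S ⧸ IS) (S ⧸ IS)) =
          LinearMap.ker (Algebra.linearMap (S ⧸ IS) (S ⧸ J)) := by
        rw [hrs', smul_eq_mul, Ideal.mul_top]
        ext x
        obtain ⟨s, rfl⟩ := Ideal.Quotient.mk_surjective x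
        rw [LinearMap.mem_ker, Algebra.linearMap_apply]
        show _ ↔ Ideal.Quotient.factor hIJ (Ideal.Quotient.mk IS s) = 0
        rw [Ideal.Quotient.factor_mk, Ideal.Quotient.eq_zero_iff_mem, Ideal.mem_quotient_iff_mem hIJ]
      have e := (Submodule.quotEquivOfEq _ _ hker).trans
        (LinearMap.quotKerEquivOfSurjective (Algebra.linearMap (S ⧸ IS) (S ⧸ J))
          (Ideal.Quotient.factor_surjective hIJ))
      rw [show 0 + 1 + rs'.length = rs'.length + 1 by omega] at h1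
      exact CILib.hasFiniteTorDim_of_FD
        (DiagLib.FD.restrict _ (CILib.FD_of_pdlt _ (CommAlgDim.PDLT.of_equiv e h1)))
  refine ⟨⟨fun ⟨hr, n, hn⟩ => h13 hr ⟨n, fun p hp =>
      TorDimLib.exactAtSucc_of_subsingleton_tor P p (hn _ (p + 1) (by omega))⟩, h31⟩,
    ⟨fun ⟨hr, hfin⟩ => ?_, fun h => ?_⟩⟩
  · obtain ⟨n, hn⟩ := hfin.bddAbove
    refine h13 hr ⟨n, fun p hp => TorDimLib.exactAtSucc_of_subsingleton_tor P p ?_⟩
    by_contra hns
    exact absurd (hn hns) (by omega)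
  · obtain ⟨hr, n, hn⟩ := h31 h
    refine ⟨hr, (Set.finite_Iic n).subset fun p hp => ?_⟩
    by_contra hpn
    exact hp (hn _ p (by simpa using hpn))

end Groth.Agent.S2201
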