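import Groth.Statements.S2202
import Groth.Agent.CIRingLib.GoodFact
import Groth.Agent.CIRingLib.TorRel

set_option autoImplicit false
universe u
open LCI

namespace Groth.Agent.S2202

/-- Special case: A and B complete. For a local homomorphism A -> B of complete Noetherian local rings,
the following are equivalent: B is a complete intersection with only finitely many nonzero
Tor^A_p(B, k_A); A is a complete intersection and A -> B factors as A -> S -> B with S Noetherian
local, A -> S flat with regular closed fibre S/m_A S, and S -> B surjective with kernel cut out by a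
regular sequence (a complete intersection homomorphism). -/
theorem result {A B : Type u} [CommRing A] [CommRing B] [IsNoetherianRing A]
    [IsNoetherianRing B] [IsLocalRing A] [IsLocalRing B]
    [IsAdicComplete (IsLocalRing.maximalIdeal A) A] [IsAdicComplete (IsLocalRing.maximalIdeal B) B]
    [Algebra A B] [IsLocalHom (algebraMap A B)] :
    (Pi1.IsCompleteIntersection B ∧
        Set.Finite {p : ℕ | ¬Subsingleton (DRing.Tor A p B (IsLocalRing.ResidueField A))}) ↔
      (Pi1.IsCompleteIntersection A ∧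
        ∃ (S : Type u) (_ : CommRing S) (_ : IsNoetherianRing S) (_ : IsLocalRing S) (_ : Algebra A S)
          (_ : Module.Flat A S)
          (_ : IsRegularLocalRing (S ⧸ Ideal.map (algebraMap A S) (IsLocalRing.maximalIdeal A)))
          (g : S →ₐ[A] B), Function.Surjective g ∧
            ∃ rs : List S, Ideal.ofList rs = RingHom.ker g ∧ RingTheory.Sequence.IsRegular S rs) := by
  classical
  obtain ⟨Λ, Λ', _, _, _, _, n₀, N₀, ρ, σ, τ, -, hρ, hσ, hcomp, hflat, hτ, hP, hQ, hfib⟩ :=
    CIRingLib.exists_presentation (algebraMap A B)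
  let P := MvPowerSeries (Fin n₀) Λ
  let Q := MvPowerSeries (Fin N₀) Λ'
  letI : Algebra P Q := τ.toAlgebra
  haveI : Module.Flat P Q := hflat
  haveI : IsLocalHom (algebraMap P Q) := hτ
  let I₀ := (RingHom.ker ρ).map (algebraMap P Q)
  let J := RingHom.ker σ
  let e := RingHom.quotientKerEquivOfSurjective hρ
  let φ : A →+* Q ⧸ I₀ := (algebraMap (P ⧸ RingHom.ker ρ) (Q ⧸ I₀)).comp e.symm.toRingHom
  have hI₀ : I₀ ≤ J := Ideal.map_le_iff_le_comap.2 fun r hr => by
    rw [Ideal.mem_comap, RingHom.mem_ker, show σ (algebraMap P Q r) = algebraMap A B (ρ r) from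
      RingHom.congr_fun hcomp r, RingHom.mem_ker.1 hr, map_zero]
  let h : Q ⧸ I₀ →+* B := Ideal.Quotient.lift I₀ σ fun a ha => hI₀ ha
  have hh : Function.Surjective h := Ideal.Quotient.lift_surjective_of_surjective _ _ hσ
  have hφρ : ∀ r, φ (ρ r) = Ideal.Quotient.mk I₀ (τ r) := fun r => by
    show algebraMap (P ⧸ RingHom.ker ρ) (Q ⧸ I₀) (e.symm (ρ r)) = _
    rw [show e.symm (ρ r) = Ideal.Quotient.mk _ r from (RingEquiv.symm_apply_eq _).2 rfl]
    rfl
  have hφ : h.comp φ = algebraMap A B := RingHom.ext fun a => by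
    obtain ⟨r, rfl⟩ := hρ a
    rw [RingHom.comp_apply, hφρ, Ideal.Quotient.lift_mk]
    exact RingHom.congr_fun hcomp r
  letI : Algebra A (Q ⧸ I₀) := φ.toAlgebra
  haveI : Nontrivial (Q ⧸ I₀) := h.domain_nontrivial
  haveI : IsLocalRing (Q ⧸ I₀) := IsLocalRing.of_surjective' (Ideal.Quotient.mk I₀) Ideal.Quotient.mk_surjective
  haveI : IsLocalHom (algebraMap A (Q ⧸ I₀)) := ⟨fun a ha => isUnit_of_map_unit (algebraMap A B) a (by
    rw [← hφ]; exact ha.map h)⟩
  haveI : Module.Flat A (Q ⧸ I₀) := by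
    have h1 : (algebraMap (P ⧸ RingHom.ker ρ) (Q ⧸ I₀)).Flat :=
      RingHom.flat_algebraMap_iff.2 (CatLib.flat_quotient (RingHom.ker ρ))
    exact (RingHom.Flat.of_bijective e.symm.bijective).comp h1
  haveI : IsRegularLocalRing ((Q ⧸ I₀) ⧸ (IsLocalRing.maximalIdeal A).map (algebraMap A (Q ⧸ I₀))) := by
    have hM : (IsLocalRing.maximalIdeal A).map (algebraMap A (Q ⧸ I₀)) =
        ((IsLocalRing.maximalIdeal P).map τ).map (Ideal.Quotient.mk I₀) := by
      rw [← IsLocalRing.map_maximalIdeal_of_surjective ρ hρ, Ideal.map_map, Ideal.map_map]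
      exact congrArg (Ideal.map · _) (RingHom.ext hφρ)
    have hle : I₀ ≤ (IsLocalRing.maximalIdeal P).map τ :=
      Ideal.map_mono (IsLocalRing.le_maximalIdeal (RingHom.ker_ne_top ρ))
    exact IsRegularLocalRing.of_ringEquiv (((Ideal.quotEquivOfEq hM).trans
      (DoubleQuot.quotQuotEquivQuotSup I₀ ((IsLocalRing.maximalIdeal P).map τ))).trans
      (Ideal.quotEquivOfEq (sup_eq_right.2 hle))).symm
  let g₀ : Q ⧸ I₀ →ₐ[A] B := { h with commutes' := fun a => RingHom.congr_fun hφ a }
  have hJK : J.map (Ideal.Quotient.mk I₀) = RingHom.ker g₀.toRingHom := by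
    refine le_antisymm (Ideal.map_le_iff_le_comap.2 fun a ha => ha) fun a ha => ?_
    obtain ⟨b, rfl⟩ := Ideal.Quotient.mk_surjective a
    exact Ideal.mem_map_of_mem _ ha
  have hA : Pi1.IsCompleteIntersection A ↔ CInt.IsRegularIdeal (RingHom.ker ρ) :=
    CIRingLib.isCompleteIntersection_iff ρ hρ
  have hB : Pi1.IsCompleteIntersection B ↔ CInt.IsRegularIdeal J := CIRingLib.isCompleteIntersection_iff σ hσ
  constructor
  · rintro ⟨hci, hfin⟩
    letI : Algebra (Q ⧸ I₀) B := h.toAlgebra
    haveI : IsScalarTower A (Q ⧸ I₀) B := IsScalarTower.of_algebraMap_eq fun a => (RingHom.congr_fun hφ a).symm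
    haveI : Module.Finite (Q ⧸ I₀) B := Module.Finite.of_surjective (Algebra.linearMap (Q ⧸ I₀) B) hh
    obtain ⟨R⟩ := (inferInstance : CategoryTheory.HasProjectiveResolution
      (ModuleCat.of A (A ⧸ IsLocalRing.maximalIdeal A))).out
    obtain ⟨n, hn⟩ := hfin.bddAbove
    obtain ⟨N, hN⟩ := CIRingLib.exists_pdlt_of_exactAtSucc (B := Q ⧸ I₀) _ rfl R n B (fun p hp => by
      refine TorDimLib.exactAtSucc_of_subsingleton_tor R p ?_
      by_contra hns
      exact absurd (hn hns) (by omega))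
    letI : Algebra (Q ⧸ I₀) (Q ⧸ J) := (Ideal.Quotient.factor hI₀).toAlgebra
    haveI : IsScalarTower Q (Q ⧸ I₀) (Q ⧸ J) :=
      @IsScalarTower.of_algebraMap_eq Q (Q ⧸ I₀) (Q ⧸ J) _ _ _ (Ideal.Quotient.algebra Q) _ (Ideal.Quotient.algebra Q) fun s => rfl
    let eB : B ≃ₗ[Q ⧸ I₀] (Q ⧸ J) :=
      ({ (RingHom.quotientKerEquivOfSurjective hσ) with
        commutes' := fun a => by
          obtain ⟨b, rfl⟩ := Ideal.Quotient.mk_surjective a
          rfl } : (Q ⧸ J) ≃ₐ[Q ⧸ I₀] B).toLinearEquiv.symm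
    obtain ⟨⟨rs, hrs, hreg⟩, rs', hrs', hreg'⟩ := CILib.exists_regular_of_finiteTorDim I₀ J hI₀
      (RingHom.ker_ne_top σ) (CILib.hasFiniteTorDim_of_equiv eB (CILib.hasFiniteTorDim_of_FD (CILib.FD_of_pdlt _ hN)))
      ((CIRingLib.isRegularIdeal_iff_exists J).1 (hB.1 hci))
    refine ⟨hA.2 ((CIRingLib.isRegularIdeal_map_flat_iff _).1 ⟨rs, hreg, hrs⟩),
      Q ⧸ I₀, inferInstance, inferInstance, inferInstance, inferInstance, inferInstance, inferInstance,
      g₀, hh, rs', hrs'.trans hJK, hreg'⟩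
  · rintro ⟨hci, S, _, _, _, _, _, _, g, hg, rs, hrs, hreg⟩
    constructor
    · obtain ⟨T, _, _, _, _, _, _, _, k, hk, hiff⟩ := CIRingLib.exists_complete_factorisation g hg
      obtain ⟨T', _, _, _, _, _, _, _, k', hk', hiff'⟩ := CIRingLib.exists_complete_factorisation g₀ hh
      have h0 : CInt.IsRegularIdeal (RingHom.ker g₀.toRingHom) := hiff'.1
        ((CIRingLib.isRegularIdeal_ker_iff_of_complete k k' hk hk').1 (hiff.2 ⟨rs, hreg, hrs⟩))
      rw [← hJK] at h0
      exact hB.2 (Groth.Agent.S2836.result Q I₀ J hI₀ (IsLocalRing.le_maximalIdeal (RingHom.ker_ne_top σ))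
        ((CIRingLib.isRegularIdeal_map_flat_iff _).2 (hA.1 hci)) h0)
    · letI : Algebra S B := g.toRingHom.toAlgebra
      haveI : IsScalarTower A S B := IsScalarTower.of_algebraMap_eq fun a => (g.commutes a).symm
      have h1 := CIRingLib.pdlt_quot_ofList rs S 0 hreg.toIsWeaklyRegular
        (CommAlgDim.pdlt_one_iff.2 inferInstance)
      have hker : (Ideal.ofList rs • ⊤ : Submodule S S) = LinearMap.ker (Algebra.linearMap S B) := by
        rw [hrs, smul_eq_mul, Ideal.mul_top]
        rfl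
      have eS := (Submodule.quotEquivOfEq _ _ hker).trans
        (LinearMap.quotKerEquivOfSurjective (Algebra.linearMap S B) hg)
      rw [show 0 + 1 + rs.length = rs.length + 1 by omega] at h1
      obtain ⟨n, hn⟩ := CILib.hasFiniteTorDim_of_FD
        (DiagLib.FD.restrict (C := A) _ (CILib.FD_of_pdlt _ (CommAlgDim.PDLT.of_equiv eS h1)))
      refine (Set.finite_Iic n).subset fun p hp => ?_
      by_contra hpn
      exact hp (hn _ p (by simpa using hpn))

end Groth.Agent.S2202
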