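import Groth.Statements.S2203
import Mathlib.CategoryTheory.Center.Preadditive
import Mathlib.Algebra.Category.ModuleCat.Basic
import Mathlib.CategoryTheory.Adjunction.Limits
import Mathlib.Algebra.Category.ModuleCat.Abelian
-- import your own Groth.Agent.* helpers here

set_option autoImplicit false
universe u
open CategoryTheory
open QCohCat

namespace Groth.Agent.S2203

/-- Ring-isomorphism part of the statement: let A and B be commutative rings whose categories of modules
are equivalent. Then A and B are isomorphic as rings. (The source moreover describes the equivalence
as base change followed by tensoring with an invertible module.) -/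
theorem result (A B : Type u) [CommRing A] [CommRing B]
    (F : ModuleCat.{u} A ≌ ModuleCat.{u} B) : Nonempty (A ≃+* B) := by
  have toC : ∀ (R : Type u) [CommRing R], Nonempty (R ≃+* CatCenter (ModuleCat.{u} R)) := by
    intro R _
    let f : R →+* CatCenter (ModuleCat.{u} R) :=
      { toFun := fun a =>
          { app := fun M => ModuleCat.ofHom (a • LinearMap.id : M →ₗ[R] M)
            naturality := fun {M N} g => by ext m; exact (g.hom.map_smul a m).symm }
        map_one' := by ext M m; exact one_smul R m
        map_mul' := fun a b => by ext M m; exact mul_smul a b m
        map_zero' := by ext M m; exact zero_smul R m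
        map_add' := fun a b => by ext M m; exact add_smul a b m }
    refine ⟨RingEquiv.ofBijective f ⟨fun a b h => ?_, fun z => ?_⟩⟩
    · have := congr($(congrArg (fun w => CatCenter.app w (ModuleCat.of R R)) h) (1 : R))
      simpa [f, CatCenter.app] using this
    · refine ⟨z.app (ModuleCat.of R R) (1 : R), ?_⟩
      ext M m
      have := congr($(CatCenter.naturality z
        (ModuleCat.ofHom (LinearMap.toSpanSingleton R M m) : ModuleCat.of R R ⟶ M)) (1 : R))
      exact this.symm.trans (congrArg (z.app M).hom (one_smul R m))
  have : F.functor.Additive := F.functor.additive_of_preserves_binary_products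
  obtain ⟨eA⟩ := toC A
  obtain ⟨eB⟩ := toC B
  let Φ : CatCenter (ModuleCat.{u} A) →+* CatCenter (ModuleCat.{u} B) :=
    { toFun := fun z =>
        { app := fun Y => F.counitIso.inv.app Y ≫ F.functor.map (z.app (F.inverse.obj Y)) ≫
            F.counitIso.hom.app Y
          naturality := fun {Y Y'} g => by
            dsimp
            erw [F.counitIso.inv.naturality_assoc]
            simp only [Category.assoc]
            congr 1
            dsimp
            rw [← Functor.map_comp_assoc, CatCenter.naturality, Functor.map_comp_assoc]
            exact congrArg (_ ≫ ·) (F.counitIso.hom.naturality g) }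
      map_one' := by ext Y : 1; simp [CatCenter.app]
      map_mul' := fun z w => by ext Y : 1; simp [CatCenter.app, CatCenter.mul_app']
      map_zero' := by ext Y : 1; simp [CatCenter.app]
      map_add' := fun z w => by ext Y : 1; simp [CatCenter.app, Preadditive.add_comp, Preadditive.comp_add] }
  have hΦ : ∀ z X, (Φ z).app (F.functor.obj X) = F.functor.map (CatCenter.app z X) := fun z X => by
    change F.counitIso.inv.app (F.functor.obj X) ≫ F.functor.map (z.app (F.inverse.obj (F.functor.obj X))) ≫
      F.counitIso.hom.app (F.functor.obj X) = _
    rw [F.counit_app_functor, F.counitInv_app_functor, ← Functor.map_comp, ← Functor.map_comp]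
    congr 1
    exact (reassoc_of% (CatCenter.naturality z (F.unitIso.hom.app X))) _ |>.trans (by simp)
  refine ⟨eA.trans ((RingEquiv.ofBijective Φ ⟨fun z w h => ?_, fun w => ?_⟩).trans eB.symm)⟩
  · ext X : 1
    exact F.functor.map_injective (by rw [← hΦ, ← hΦ, h])
  · refine ⟨{ app := fun X => F.functor.preimage (CatCenter.app w (F.functor.obj X))
              naturality := fun {X X'} g => F.functor.map_injective (by
                simp only [Functor.map_comp, Functor.id_map, Functor.map_preimage]
                exact CatCenter.naturality w _) }, ?_⟩
    ext Y : 1
    refine (cancel_epi (F.counitIso.hom.app Y)).mp ?_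
    refine (CatCenter.naturality (Φ _) (F.counitIso.hom.app Y)).trans (Eq.trans ?_
      (CatCenter.naturality w (F.counitIso.hom.app Y)).symm)
    exact congrArg (· ≫ F.counitIso.hom.app Y) ((hΦ _ (F.inverse.obj Y)).trans (F.functor.map_preimage _))

end Groth.Agent.S2203
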