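import Groth.Statements.S2204
import Mathlib.LinearAlgebra.TensorProduct.RightExactness
import Mathlib.Algebra.Category.ModuleCat.Products
import Mathlib.Algebra.Homology.ShortComplex.ExactFunctor
import Mathlib.Algebra.Homology.ShortComplex.ModuleCat
-- import your own Groth.Agent.* helpers here

set_option autoImplicit false
universe u
open CategoryTheory CategoryTheory.Limits TensorProduct
open QCohCat

namespace Groth.Agent.S2204

/-- The implication (2) to (1): for commutative rings A and B, any functor from A-modules to B-modules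
preserving finite colimits and arbitrary direct sums is given by tensoring: there is a module K over
both A and B with commuting actions and B-linear isomorphisms K tensor_A M = F(M), natural in the
A-module M. -/
theorem result (A B : Type u) [CommRing A]
    [CommRing B] (F : ModuleCat.{u} A ⥤ ModuleCat.{u} B) [PreservesFiniteColimits F]
    (hsum : ∀ J : Type u, PreservesColimitsOfShape (Discrete J) F) :
    ∃ (K : Type u) (_ : AddCommGroup K) (_ : Module A K) (_ : Module B K) (_ : SMulCommClass A B K)
      (η : ∀ M : ModuleCat.{u} A, (K ⊗[A] M) ≃ₗ[B] F.obj M),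
      ∀ (M N : ModuleCat.{u} A) (f : M ⟶ N) (x : K ⊗[A] M),
        η N (LinearMap.lTensor K f.hom x) = F.map f (η M x) := by
  classical
  haveI : PreservesBinaryBiproducts F := preservesBinaryBiproducts_of_preservesBinaryCoproducts F
  haveI : F.Additive := Functor.additive_of_preservesBinaryBiproducts F
  let A₁ : ModuleCat.{u} A := ModuleCat.of A A
  let sp : ∀ {M : ModuleCat.{u} A}, M → (A₁ ⟶ M) := fun {M} m => ModuleCat.ofHom (LinearMap.toSpanSingleton A M m)
  have sp_add : ∀ {M : ModuleCat.{u} A} (m n : M), sp (m + n) = sp m + sp n := by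
    intro M m n; ext; simp [sp]
  have sp_zero : ∀ {M : ModuleCat.{u} A}, sp (0 : M) = 0 := by
    intro M; ext; simp [sp]
  have sp_comp : ∀ {M N : ModuleCat.{u} A} (f : M ⟶ N) (m : M), sp m ≫ f = sp (f m) := by
    intro M N f m; ext; simp [sp]
  have sp_mul : ∀ {M : ModuleCat.{u} A} (m : M) (a : A), sp (M := A₁) a ≫ sp m = sp (a • m) := by
    intro M m a; ext; simp [sp]; rfl
  have sp_one : sp (M := A₁) (1 : A) = 𝟙 A₁ := by ext; simp [sp, A₁]
  letI modK : Module A (F.obj A₁) :=
    { smul := fun a k => F.map (sp (M := A₁) a) k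
      one_smul := fun k => by
        change F.map (sp (M := A₁) (1 : A)) k = k
        rw [sp_one, F.map_id]; rfl
      mul_smul := fun a b k => by
        change F.map (sp (M := A₁) (a * b)) k = F.map (sp (M := A₁) a) (F.map (sp (M := A₁) b) k)
        rw [← ModuleCat.comp_apply, ← F.map_comp, sp_mul, show ((b • (show A₁ from a)) : A₁) = (a * b : A) from mul_comm b a]
      smul_zero := fun a => map_zero _
      smul_add := fun a k l => map_add _ k l
      add_smul := fun a b k => by
        change F.map (sp (M := A₁) (a + b)) k = _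
        rw [sp_add (M := A₁) a b, F.map_add]; rfl
      zero_smul := fun k => by
        change F.map (sp (M := A₁) (0 : A)) k = 0
        rw [sp_zero (M := A₁), F.map_zero]; rfl }
  haveI scc : SMulCommClass A B (F.obj A₁) := ⟨fun a b k => map_smul (F.map (sp (M := A₁) a)).hom b k⟩
  let ev : ∀ M : ModuleCat.{u} A, F.obj A₁ →+ M →+ F.obj M := fun M =>
    { toFun := fun k =>
        { toFun := fun m => F.map (sp m) k
          map_zero' := by rw [sp_zero, F.map_zero]; rfl
          map_add' := fun m n => by rw [sp_add, F.map_add]; rfl }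
      map_zero' := by ext m; exact map_zero (F.map (sp m)).hom
      map_add' := fun k l => by ext m; exact map_add (F.map (sp m)).hom k l }
  let η₀ : ∀ M : ModuleCat.{u} A, (F.obj A₁) ⊗[A] M →+ F.obj M := fun M =>
    TensorProduct.liftAddHom (ev M) fun a k m => by
      change F.map (sp m) (F.map (sp (M := A₁) a) k) = F.map (sp (a • m)) k
      rw [← ModuleCat.comp_apply, ← F.map_comp, sp_mul]
  let η : ∀ M : ModuleCat.{u} A, (F.obj A₁) ⊗[A] M →ₗ[B] F.obj M := fun M =>
    { toFun := η₀ M
      map_add' := map_add _
      map_smul' := fun b x => by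
        induction x using TensorProduct.induction_on with
        | zero => simp
        | tmul k m => exact map_smul (F.map (sp m)).hom b k
        | add x y hx hy => rw [smul_add, map_add, map_add, hx, hy, smul_add] }
  have hη : ∀ (M : ModuleCat.{u} A) (k : F.obj A₁) (m : M), η M (k ⊗ₜ m) = F.map (sp m) k := fun _ _ _ => rfl
  have nat : ∀ (M N : ModuleCat.{u} A) (f : M ⟶ N) (x : (F.obj A₁) ⊗[A] M),
      η N (LinearMap.lTensor (F.obj A₁) f.hom x) = F.map f (η M x) := by
    intro M N f x
    induction x using TensorProduct.induction_on with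
    | zero => simp
    | tmul k m =>
      rw [LinearMap.lTensor_tmul, hη, hη, ← ModuleCat.comp_apply, ← F.map_comp, sp_comp]
    | add x y hx hy => simp only [map_add, hx, hy]
  have free : ∀ ι : Type u, Function.Bijective (η (ModuleCat.of A (DirectSum ι fun _ => A))) := by
    intro ι
    haveI := hsum ι
    let Z : ι → ModuleCat.{u} A := fun _ => A₁
    let D : ModuleCat.{u} A := ModuleCat.of A (DirectSum ι fun _ => A)
    let e : ι → D := fun i => DirectSum.lof A ι (fun _ => A) i (1 : A)
    have hC : IsColimit (Cofan.mk D (fun i => sp (e i)) : Cofan Z) := by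
      refine (ModuleCat.coproductCoconeIsColimit Z).ofIsoColimit (Cofan.ext (Iso.refl _) fun i => ?_)
      refine ModuleCat.hom_ext (LinearMap.ext_ring ?_)
      simp [sp, e, ModuleCat.coproductCocone, Z, A₁]
    let hc : IsColimit (Cofan.mk (F.obj D) fun i => F.map (sp (e i)) : Cofan fun _ : ι => F.obj A₁) :=
      isColimitCofanMkObjOfIsColimit F Z (fun i => sp (e i)) hC
    let T := (F.obj A₁) ⊗[A] D
    let comp : ι → (F.obj A₁ ⟶ ModuleCat.of B T) := fun i =>
      ModuleCat.ofHom
        { toFun := fun k => (k ⊗ₜ e i : T)
          map_add' := fun k l => TensorProduct.add_tmul k l _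
          map_smul' := fun b k => (TensorProduct.smul_tmul' b k _).symm }
    let g : F.obj D ⟶ ModuleCat.of B T := Cofan.IsColimit.desc hc comp
    have hfac : ∀ i, F.map (sp (e i)) ≫ g = comp i := fun i => Cofan.IsColimit.fac hc comp i
    have hg : ∀ i k, g (F.map (sp (e i)) k) = (k ⊗ₜ e i : T) := fun i k =>
      congrArg (fun φ : F.obj A₁ ⟶ ModuleCat.of B T => φ k) (hfac i)
    have left : ∀ x : T, g.hom (η D x) = x := by
      intro x
      induction x using TensorProduct.induction_on with
      | zero => exact (congrArg g.hom (map_zero (η D))).trans (map_zero _)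
      | add x y hx hy =>
        exact (congrArg g.hom (map_add (η D) x y)).trans ((map_add g.hom _ _).trans (congrArg₂ (· + ·) hx hy))
      | tmul k m =>
        revert k
        refine DirectSum.induction_on (m : DirectSum ι fun _ => A) ?_ (fun i a => ?_) fun m n hm hn => ?_
        · intro k; rw [TensorProduct.tmul_zero]; simp
        · intro k
          have : (DirectSum.of (fun _ : ι => A) i a : D) = a • e i := by
            change DirectSum.lof A ι (fun _ => A) i a = a • DirectSum.lof A ι (fun _ => A) i 1
            rw [← map_smul, smul_eq_mul, mul_one]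
          rw [show ((k ⊗ₜ[A] (DirectSum.of (fun _ : ι => A) i a)) : T) = k ⊗ₜ[A] (a • e i) from congrArg _ this,
            ← TensorProduct.smul_tmul, hη]
          exact hg i _
        · intro k
          rw [TensorProduct.tmul_add, map_add, map_add, hm k, hn k]
    have right : g ≫ ModuleCat.ofHom (η D) = 𝟙 (F.obj D) := by
      refine Cofan.IsColimit.hom_ext hc _ _ fun i => ?_
      change F.map (sp (e i)) ≫ g ≫ ModuleCat.ofHom (η D) = F.map (sp (e i)) ≫ 𝟙 _
      rw [← Category.assoc, hfac, Category.comp_id]
      ext k
      exact hη D k (e i)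
    exact ⟨Function.LeftInverse.injective left, fun y => ⟨g y, congrArg (fun φ => φ y) right⟩⟩
  have bij : ∀ M : ModuleCat.{u} A, Function.Bijective (η M) := by
    intro M
    let p : DirectSum M (fun _ => A) →ₗ[A] M := DirectSum.toModule A M M fun m => LinearMap.toSpanSingleton A M m
    have hp : Function.Surjective p := fun m => ⟨DirectSum.lof A M (fun _ => A) m 1, by simp [p]⟩
    let κ : Type u := LinearMap.ker p
    let q : DirectSum κ (fun _ => A) →ₗ[A] DirectSum M (fun _ => A) :=
      DirectSum.toModule A κ _ fun x => LinearMap.toSpanSingleton A _ (x : DirectSum M (fun _ => A))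
    have hqp : Function.Exact q p := by
      rw [LinearMap.exact_iff]
      refine le_antisymm (fun x hx => ⟨DirectSum.lof A κ (fun _ => A) ⟨x, hx⟩ 1, by simp [q]⟩) ?_
      rw [LinearMap.range_le_ker_iff]
      refine DirectSum.linearMap_ext A fun i => LinearMap.ext_ring ?_
      simp [q]
    let S : ShortComplex (ModuleCat.{u} A) := ShortComplex.mk (ModuleCat.ofHom q) (ModuleCat.ofHom p)
      (by ext1; exact LinearMap.ext fun x => hqp.apply_apply_eq_zero x)
    have hS : S.Exact := by
      rw [ShortComplex.ShortExact.moduleCat_exact_iff_function_exact]; exact hqp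
    haveI : Epi S.g := (ModuleCat.epi_iff_surjective _).mpr hp
    have hFS : (S.map F).Exact := hS.map_of_epi_of_preservesCokernel F inferInstance inferInstance
    rw [ShortComplex.ShortExact.moduleCat_exact_iff_function_exact] at hFS
    have hFp : Function.Surjective (F.map S.g) := (ModuleCat.epi_iff_surjective _).mp inferInstance
    have hT := lTensor_exact (F.obj A₁) hqp hp
    have hTp := LinearMap.lTensor_surjective (F.obj A₁) hp
    obtain ⟨hb₁, hb₁'⟩ := free κ
    obtain ⟨hb₂, hb₂'⟩ := free M
    constructor
    · rw [injective_iff_map_eq_zero]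
      intro x hx
      obtain ⟨y, rfl⟩ := hTp x
      have : F.map S.g (η _ y) = 0 := (nat _ _ S.g y).symm.trans hx
      obtain ⟨z, hz⟩ := (hFS (η _ y)).mp this
      obtain ⟨w, rfl⟩ := hb₁' z
      have : η S.X₂ (LinearMap.lTensor (F.obj A₁) S.f.hom w) = η S.X₂ y := (nat _ _ S.f w).trans hz
      exact (hT y).mpr ⟨w, hb₂ this⟩
    · intro y
      obtain ⟨z, rfl⟩ := hFp y
      obtain ⟨w, rfl⟩ := hb₂' z
      exact ⟨LinearMap.lTensor (F.obj A₁) p w, nat _ _ S.g w⟩
  exact ⟨F.obj A₁, inferInstance, modK, inferInstance, scc, fun M => LinearEquiv.ofBijective (η M) (bij M), nat⟩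

end Groth.Agent.S2204
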