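import Groth.Statements.S2209
import Groth.Agent.MiscFlat6.ProperSections
import Groth.Agent.S2431

set_option autoImplicit false
set_option backward.isDefEq.respectTransparency false
set_option maxHeartbeats 1000000
universe u
open CategoryTheory AlgebraicGeometry
open Models

namespace Groth.Agent.S2209

/-- Let R be a discrete valuation ring with fraction field K, C a smooth proper curve over K whose ring
of global functions is K (the map K -> H^0(C, O_C) is an isomorphism), and X a regular proper model
of C over R. Then the special fibre of X is connected. -/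
theorem result (R : Type u) [CommRing R] [IsDomain R]
    [IsDiscreteValuationRing R] (C X : Scheme.{u})
    (f : C ⟶ Spec (CommRingCat.of (FractionRing R))) (p : X ⟶ Spec (CommRingCat.of R))
    (hC : Curve.IsSmoothProperCurve (FractionRing R) C f) (hH0 : IsIso f.appTop)
    (hX : Models.IsRegularProperModel R X p C f) :
    ConnectedSpace ↥(Models.specialFibre R X p) := by
  obtain ⟨⟨hflat, hlft, hqc, g, hg⟩, hprop, -⟩ := hX
  have : IsLocallyNoetherian X := LocallyOfFiniteType.isLocallyNoetherian p
  obtain ⟨ϖ, hϖ⟩ := IsDiscreteValuationRing.exists_irreducible R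
  let s := Spec.map (CommRingCat.ofHom (algebraMap R (FractionRing R)))
  haveI : IsLocalization.Away ϖ (FractionRing R) := IsLocalization.Away.mk ϖ
    ((IsUnit.mk0 _ (by simpa using hϖ.ne_zero)))
    (fun z => by
      obtain ⟨⟨a, s⟩, hz⟩ := IsLocalization.surj (nonZeroDivisors R) z
      obtain ⟨m, w, hw⟩ := IsDiscreteValuationRing.eq_unit_mul_pow_irreducible (nonZeroDivisors.coe_ne_zero s) hϖ
      refine ⟨m, a * ↑w⁻¹, ?_⟩
      rw [map_mul, ← hz, mul_assoc, ← map_mul, hw, mul_right_comm, Units.mul_inv, one_mul, map_pow])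
    (fun a b h => ⟨0, by simpa using IsFractionRing.injective R (FractionRing R) h⟩)
  haveI : IsOpenImmersion s := IsOpenImmersion.of_isLocalization ϖ
  haveI : IsOpenImmersion g := MorphismProperty.of_isPullback hg.flip ‹IsOpenImmersion s›
  let φ : R →+* Γ(X, ⊤) := p.appTop.hom.comp (Scheme.ΓSpecIso (CommRingCat.of R)).inv.hom
  have hrange : g.opensRange = X.basicOpen (φ ϖ) := by
    refine (show g.opensRange = p ⁻¹ᵁ (Spec (CommRingCat.of R)).basicOpen
      ((Scheme.ΓSpecIso (CommRingCat.of R)).inv ϖ) from ?_).trans (Scheme.preimage_basicOpen p _)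
    rw [basicOpen_eq_of_affine]
    refine TopologicalSpace.Opens.ext ?_
    show Set.range g = p ⁻¹' (PrimeSpectrum.basicOpen ϖ : Set (PrimeSpectrum R))
    rw [← PrimeSpectrum.localization_away_comap_range (FractionRing R) ϖ]
    rw [← hg.isoPullback_hom_fst, Scheme.Hom.comp_base, TopCat.coe_comp, Set.range_comp,
      (hg.isoPullback.hom.surjective).range_eq, Set.image_univ, Scheme.Pullback.range_fst]
    rfl
  have htors : ∀ a : Γ(X, ⊤), φ ϖ * a = 0 → a = 0 := by
    intro a ha
    refine X.sheaf.eq_of_locally_eq' (fun U : X.affineOpens => (U : X.Opens)) ⊤ (fun U => homOfLE le_top)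
      (le_of_eq (iSup_affineOpens_eq_top X).symm) a 0 fun U => ?_
    have hfl := p.flat_appLE (U := ⊤) (isAffineOpen_top _) U.2 (by simp)
    let ψ : R →+* Γ(X, U.1) := (p.appLE ⊤ U.1 (by simp)).hom.comp (Scheme.ΓSpecIso (CommRingCat.of R)).inv.hom
    have hψ : ψ.Flat := (RingHom.Flat.of_bijective
      (Scheme.ΓSpecIso (CommRingCat.of R)).symm.commRingCatIsoToRingEquiv.bijective).comp hfl
    letI := ψ.toAlgebra
    haveI : Module.Flat R Γ(X, U.1) := hψ
    rw [map_zero]
    let b : Γ(X, U.1) := X.presheaf.map (homOfLE (le_top : U.1 ≤ ⊤)).op a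
    have hb : ϖ • b = 0 := by
      have h1 := congrArg (X.presheaf.map (homOfLE (le_top : U.1 ≤ ⊤)).op).hom ha
      rw [map_mul, map_zero] at h1
      rw [Algebra.smul_def]
      exact h1
    have hreg : IsSMulRegular Γ(X, U.1) ϖ := by
      have : IsSMulRegular R ϖ := fun x y h => mul_left_cancel₀ hϖ.ne_zero h
      exact Module.Flat.isSMulRegular_of_isRegular (IsRegular.of_ne_zero hϖ.ne_zero)
    exact hreg (show ϖ • b = ϖ • (0 : Γ(X, U.1)) by rw [hb, smul_zero])
  have hginj : Function.Injective g.appTop := by
    rw [injective_iff_map_eq_zero]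
    intro a ha
    have h2 : g.opensRange.ι.appTop a = 0 := by
      rw [← g.isoOpensRange_hom_ι] at ha
      have := (ConcreteCategory.bijective_of_isIso g.isoOpensRange.hom.appTop).1
      apply this
      rw [map_zero]
      rw [Scheme.Hom.comp_appTop] at ha
      exact ha
    have h3 : TopCat.Presheaf.restrictOpen a g.opensRange le_top = 0 := by
      have h4 := congrArg g.opensRange.topIso.hom h2
      rw [map_zero] at h4
      rw [← h4, Scheme.Opens.ι_appTop]
      simp [TopCat.Presheaf.restrictOpen, TopCat.Presheaf.restrict, ← Functor.map_comp, ← CommRingCat.comp_apply,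
        Scheme.Opens.topIso_hom]
    haveI : CompactSpace X := QuasiCompact.compactSpace_of_compactSpace p
    have h5 : TopCat.Presheaf.restrictOpen a (X.basicOpen (φ ϖ)) le_top = 0 := by
      revert h3; rw [hrange]; exact id
    obtain ⟨n, hn⟩ := exists_pow_mul_eq_zero_of_res_basicOpen_eq_zero_of_isCompact X
      (U := ⊤) isCompact_univ a (φ ϖ) h5
    clear h2 h3 h5 ha
    induction n with
    | zero => simpa using hn
    | succ n ih => exact ih (htors _ (by rw [← mul_assoc, ← pow_succ']; exact hn))
  let eK : FractionRing R →+* Γ(C, ⊤) :=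
    f.appTop.hom.comp (Scheme.ΓSpecIso (CommRingCat.of (FractionRing R))).inv.hom
  have heK : Function.Bijective eK := (ConcreteCategory.bijective_of_isIso f.appTop).comp
    (Scheme.ΓSpecIso (CommRingCat.of (FractionRing R))).symm.commRingCatIsoToRingEquiv.bijective
  let e := RingEquiv.ofBijective eK heK
  have hsq : g.appTop.hom.comp φ = eK.comp (algebraMap R (FractionRing R)) := by
    have h1 : p.appTop ≫ g.appTop = s.appTop ≫ f.appTop := by
      rw [← Scheme.Hom.comp_appTop, ← Scheme.Hom.comp_appTop, hg.w]
    ext r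
    have h2 := congrArg (fun m => m ((Scheme.ΓSpecIso (CommRingCat.of R)).inv r)) h1
    refine h2.trans ?_
    show f.appTop (s.appTop ((Scheme.ΓSpecIso (CommRingCat.of R)).inv r)) = f.appTop _
    congr 1
    exact congr($(Scheme.ΓSpecIso_inv_naturality (CommRingCat.ofHom (algebraMap R (FractionRing R)))) r).symm
  have hbij : Function.Bijective φ := by
    refine ⟨fun r r' h => IsFractionRing.injective R (FractionRing R) (heK.1 ?_), fun a => ?_⟩
    · show (eK.comp (algebraMap R (FractionRing R))) r = (eK.comp (algebraMap R (FractionRing R))) r'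
      rw [← hsq]
      show g.appTop.hom (φ r) = g.appTop.hom (φ r')
      rw [h]
    · have hfin : φ.Finite := MiscFlat6.toGlobal_finite p
      have hint : (algebraMap R (FractionRing R)).IsIntegralElem (e.symm (g.appTop a)) := by
        obtain ⟨P, hP, hPa⟩ := hfin.to_isIntegral a
        refine ⟨P, hP, e.injective ?_⟩
        rw [map_zero]
        show eK (Polynomial.eval₂ _ _ P) = 0
        rw [Polynomial.hom_eval₂, ← hsq, show eK (e.symm (g.appTop a)) = g.appTop.hom a from e.apply_symm_apply _,
          ← Polynomial.hom_eval₂, hPa, map_zero]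
      obtain ⟨r, hr⟩ := IsIntegrallyClosed.isIntegral_iff.mp hint
      refine ⟨r, hginj ?_⟩
      show (g.appTop.hom.comp φ) r = _
      rw [hsq, RingHom.comp_apply, hr]
      exact e.apply_symm_apply _
  have htop : Function.Bijective (p.app ⊤) := by
    have h : ⇑p.appTop.hom = φ ∘ (Scheme.ΓSpecIso (CommRingCat.of R)).hom.hom := by
      funext z
      show _ = p.appTop.hom _
      congr 1
      exact (Iso.hom_inv_id_apply (Scheme.ΓSpecIso (CommRingCat.of R)) z).symm
    show Function.Bijective p.appTop.hom
    rw [h]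
    exact hbij.comp (Scheme.ΓSpecIso (CommRingCat.of R)).commRingCatIsoToRingEquiv.bijective
  have hall : ∀ U : (Spec (CommRingCat.of R)).Opens, IsIso (p.app U) := by
    intro U
    obtain ⟨I, hI⟩ := (PrimeSpectrum.isClosed_iff_zeroLocus_ideal (R := R) _).mp U.isOpen.isClosed_compl
    obtain ⟨r, rfl⟩ := (IsPrincipalIdealRing.principal I).principal
    let z := (Scheme.ΓSpecIso (CommRingCat.of R)).inv r
    have hU : U = (Spec (CommRingCat.of R)).basicOpen z := by
      rw [basicOpen_eq_of_affine]
      refine TopologicalSpace.Opens.ext ?_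
      rw [← compl_inj_iff, hI]
      simp only [PrimeSpectrum.zeroLocus_span]
      rw [PrimeSpectrum.basicOpen_eq_zeroLocus_compl]
      exact (compl_compl _).symm
    subst hU
    haveI : CompactSpace X := QuasiCompact.compactSpace_of_compactSpace p
    haveI : IsLocalization.Away z Γ(Spec (CommRingCat.of R), (Spec (CommRingCat.of R)).basicOpen z) :=
      (isAffineOpen_top _).isLocalization_basicOpen z
    have hq : IsLocalization.Away (p.app ⊤ z) Γ(X, X.basicOpen (p.app ⊤ z)) :=
      isLocalization_basicOpen_of_qcqs (U := ⊤) isCompact_univ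
        (by haveI := quasiSeparatedSpace_of_quasiSeparated p; exact isQuasiSeparated_univ) _
    rw [ConcreteCategory.isIso_iff_bijective]
    have hpre : p ⁻¹ᵁ (Spec (CommRingCat.of R)).basicOpen z = X.basicOpen (p.app ⊤ z) :=
      Scheme.preimage_basicOpen p z
    let h := p.appLE ((Spec (CommRingCat.of R)).basicOpen z) (X.basicOpen (p.app ⊤ z)) hpre.ge
    have hh : Function.Bijective h := by
      let E := RingEquiv.ofBijective (p.app ⊤).hom htop
      have hmap : h.hom = IsLocalization.map _ (E : Γ(Spec (CommRingCat.of R), ⊤) →+* Γ(X, p ⁻¹ᵁ ⊤))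
          (show Submonoid.powers z ≤ (Submonoid.powers (p.app ⊤ z)).comap _ by
            rintro _ ⟨n, rfl⟩; exact ⟨n, by simp [E]⟩) := by
        refine IsLocalization.ringHom_ext (Submonoid.powers z) ?_
        rw [IsLocalization.map_comp]
        show ((Spec (CommRingCat.of R)).presheaf.map _ ≫ h).hom = (p.app ⊤ ≫ X.presheaf.map _).hom
        simp [h, Scheme.Hom.appLE, ← Functor.map_comp]
        rfl
      rw [show (⇑h : _ → _) = ⇑h.hom from rfl, hmap]
      exact (IsLocalization.ringEquivOfRingEquiv (M := Submonoid.powers z) (T := Submonoid.powers (p.app ⊤ z)) _ _ E (Submonoid.map_powers _ _)).bijective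
    revert hh
    rw [show (⇑h : _ → _) = _ ∘ ⇑(p.app ((Spec (CommRingCat.of R)).basicOpen z)).hom from rfl]
    haveI hi : IsIso (homOfLE hpre.ge) := ⟨⟨homOfLE hpre.le, Subsingleton.elim _ _, Subsingleton.elim _ _⟩⟩
    exact fun hh => (Function.Bijective.of_comp_iff' (ConcreteCategory.bijective_of_isIso
      (X.presheaf.map (homOfLE hpre.ge).op)) _).mp hh
  have := (Groth.Agent.S2431.result p hall).1 (IsLocalRing.closedPoint R)
  let i := Spec.map (CommRingCat.ofHom (algebraMap R (IsLocalRing.ResidueField R)))
  haveI : IsClosedImmersion i := IsClosedImmersion.spec_of_surjective _ IsLocalRing.residue_surjective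
  show ConnectedSpace ↥(Limits.pullback p i)
  refine (Limits.pullback.fst p i).isEmbedding.toHomeomorph.connectedSpace_iff.mpr ?_
  refine isConnected_iff_connectedSpace.mp ?_
  rw [Scheme.Pullback.range_fst]
  have hri : Set.range i = {IsLocalRing.closedPoint R} := by
    show Set.range (PrimeSpectrum.comap (IsLocalRing.residue R)) =
      ({IsLocalRing.closedPoint R} : Set (PrimeSpectrum R))
    rw [range_comap_of_surjective _ _ IsLocalRing.residue_surjective]
    ext x
    rw [Set.mem_singleton_iff, PrimeSpectrum.mem_zeroLocus]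
    show (RingHom.ker (IsLocalRing.residue R) : Set R) ⊆ x.asIdeal ↔ _
    rw [IsLocalRing.ker_residue, SetLike.coe_subset_coe]
    exact ⟨fun h => PrimeSpectrum.ext ((IsLocalRing.maximalIdeal.isMaximal R).eq_of_le x.2.ne_top h).symm,
      fun h => h ▸ le_rfl⟩
  rw [hri, ← Scheme.Hom.range_fiberι]
  exact isConnected_range (p.fiberι _).continuous

end Groth.Agent.S2209
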