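import Groth.Statements.S2211
import Mathlib


-- import your own Groth.Agent.* helpers here

set_option autoImplicit false
universe u
open DPow

namespace Groth.Agent.S2211

/-- First part: let p be a prime and A a ring in which every integer prime to p is invertible, I an
ideal of A. Two divided power structures on I coincide exactly when their p-th divided power maps
agree on I. -/
theorem result {A : Type u} [CommRing A] (p : ℕ) (hp : p.Prime)
    (hA : ∀ n : ℕ, ¬ p ∣ n → IsUnit (n : A)) {I : Ideal A} (γ γ' : DividedPowers I) :
    γ = γ' ↔ ∀ x ∈ I, γ.dpow p x = γ'.dpow p x := by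
  refine ⟨fun h x _ => by rw [h], fun h => ?_⟩
  haveI := Fact.mk hp
  have hchoose : ∀ m r, r < p → m % p = r → ¬ p ∣ m.choose r := by
    intro m r hr hm hd
    have h1 := Choose.choose_modEq_choose_mod_mul_choose_div_nat (n := m) (k := r) (p := p)
    rw [hm, Nat.mod_eq_of_lt hr, Nat.choose_self, Nat.div_eq_of_lt hr, Nat.choose_zero_right, one_mul] at h1
    have h2 : 1 % p = 0 := h1 ▸ Nat.mod_eq_zero_of_dvd hd
    rw [Nat.mod_eq_of_lt hp.one_lt] at h2
    omega
  refine DividedPowers.ext γ γ' fun n => ?_
  induction n using Nat.strong_induction_on with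
  | _ n ih =>
    intro x hx
    rcases Nat.lt_or_ge n p with hn | hn
    · apply (hA n.factorial (fun hd => absurd ((hp.dvd_factorial).1 hd) (by omega))).mul_left_cancel
      rw [γ.factorial_mul_dpow_eq_pow hx, γ'.factorial_mul_dpow_eq_pow hx]
    · have hp0 := hp.pos
      have hd := Nat.div_add_mod' n p
      have hq : 0 < n / p := Nat.div_pos hn hp0
      have hr : n % p < p := Nat.mod_lt _ hp0
      by_cases hr0 : n % p = 0
      · have hlt : n / p < n := Nat.div_lt_self (by omega) hp.one_lt
        have e : n / p * p = n := by omega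
        have h1 := γ.dpow_comp (m := n / p) hp.ne_zero hx
        have h2 := γ'.dpow_comp (m := n / p) hp.ne_zero hx
        rw [e] at h1 h2
        rw [h x hx, ih _ hlt (γ'.dpow_mem hp.ne_zero hx), h2] at h1
        refine (hA _ ?_).mul_left_cancel h1.symm
        rw [Nat.uniformBell_eq]
        intro hdd
        obtain ⟨i, -, hi⟩ := (Nat.prime_iff.1 hp).exists_mem_finset_dvd hdd
        refine hchoose _ (p - 1) (by omega) ?_ hi
        rw [show i * p + p - 1 = p - 1 + i * p by omega, Nat.add_mul_mod_self_right, Nat.mod_eq_of_lt (by omega)]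
      · have h1 := γ.mul_dpow (m := n % p) (n := n / p * p) hx
        have h2 := γ'.mul_dpow (m := n % p) (n := n / p * p) hx
        rw [ih _ (by omega) hx, ih (n / p * p) (by omega) hx, h2, show n % p + n / p * p = n by omega] at h1
        exact ((hA _ (hchoose n _ hr rfl)).mul_left_cancel h1).symm

end Groth.Agent.S2211
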