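import Groth.Statements.S2213
import Groth.Agent.DPPolyLib.Exist
-- import your own Groth.Agent.* helpers here

set_option autoImplicit false
universe u
open DPow

namespace Groth.Agent.S2213

/-- Let (A, I) be a ring with divided powers and t a natural number. There is a divided power ring (D,
J) with an A-algebra structure making A -> D a divided power homomorphism and elements x_1, ..., x_t
of J, such that for every divided power ring (C, K) with a divided power homomorphism A -> C and
every choice of k_1, ..., k_t in K there is exactly one divided power homomorphism D -> C over A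
sending x_i to k_i (the divided power polynomial algebra). -/
theorem result {A : Type u} [CommRing A] {I : Ideal A} (γ : DividedPowers I) (t : ℕ) :
    ∃ (D : Type u) (_ : CommRing D) (_ : Algebra A D) (J : Ideal D) (δ : DividedPowers J)
      (x : Fin t → D), (∀ i, x i ∈ J) ∧ γ.IsDPMorphism δ (algebraMap A D) ∧
      ∀ (C : Type u) [CommRing C] [Algebra A C] (K : Ideal C) (ε : DividedPowers K),
        γ.IsDPMorphism ε (algebraMap A C) → ∀ k : Fin t → C, (∀ i, k i ∈ K) →
          ∃! φ : D →ₐ[A] C, (∀ i, φ (x i) = k i) ∧ δ.IsDPMorphism ε φ.toRingHom := by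
  classical
  let x : Fin t → ℕ → TensorProduct ℤ A (DPPolyLib.Model ℤ (Fin t)) :=
    fun l n => (1 : A) ⊗ₜ[ℤ] DPPolyLib.xM ℤ (Fin t) l n
  have hM : DPPolyLib.IsModel x (Algebra.TensorProduct.basis A (DPPolyLib.basisM ℤ (Fin t))) := by
    let inc : DPPolyLib.Model ℤ (Fin t) →ₐ[ℤ] TensorProduct ℤ A (DPPolyLib.Model ℤ (Fin t)) :=
      Algebra.TensorProduct.includeRight
    have hx : ∀ l n, x l n = inc (DPPolyLib.xM ℤ (Fin t) l n) := fun _ _ => rfl
    refine ⟨⟨fun l => ?_, fun l n m => ?_⟩, fun e => ?_⟩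
    · rw [hx, (DPPolyLib.rules_xM ℤ (Fin t)).zero, map_one]
    · rw [hx, hx, hx, ← map_mul, (DPPolyLib.rules_xM ℤ (Fin t)).mul, map_mul, map_natCast]
    · rw [Algebra.TensorProduct.basis_apply, (DPPolyLib.isModel_model ℤ (Fin t)).eq]
      exact map_finsuppProd inc e _
  obtain ⟨δ, hm, hδ⟩ := DPPolyLib.exists_dp γ hM
  have hmem : ∀ l, x l 1 ∈ I.map (algebraMap A _) ⊔ DPPolyLib.aug x :=
    fun l => Ideal.mem_sup_right (DPPolyLib.IsModel.x_mem_aug one_ne_zero)
  refine ⟨_, inferInstance, inferInstance, _, δ, fun l => x l 1, hmem, hm, fun C _ _ K ε hε k hk => ?_⟩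
  have hg := DPPolyLib.rules_dpow ε k hk
  have hφ : ∀ l n, hM.lift hg (x l n) = ε.dpow n (k l) := fun l n => hM.lift_x hg l n
  refine ⟨hM.lift hg, ⟨fun i => by rw [hφ, ε.dpow_one (hk i)],
    DPPolyLib.isDPMorphism_of_x rfl δ hm hδ ε _ ?_ k hk hφ⟩, fun ψ hψ => ?_⟩
  · have hc : (hM.lift hg).toRingHom.comp (algebraMap A _) = algebraMap A C := (hM.lift hg).comp_algebraMap
    rw [hc]
    exact hε
  · refine hM.algHom_ext fun l n => ?_
    rw [hφ, ← hδ l n, ← hψ.1 l]
    exact (hψ.2.dpow_comp _ (hmem l)).symm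


end Groth.Agent.S2213
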