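import Groth.Statements.S2214
import Groth.Agent.S2128
import Groth.Agent.S6840
import Groth.Agent.LimHomLib.FPColim
import Groth.Agent.FlatFunLimLib.Main
import Groth.Agent.PerfLib.FiniteType
import Mathlib.CategoryTheory.Presentable.Directed
import Mathlib.CategoryTheory.Presentable.Finite
-- import your own Groth.Agent.* helpers here

set_option autoImplicit false
set_option backward.isDefEq.respectTransparency false
set_option linter.all false
universe u
open CategoryTheory AlgebraicGeometry
open QCohCat

namespace Groth.Agent.S2214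

open CategoryTheory CategoryTheory.Limits AlgebraicGeometry TopologicalSpace Opposite

variable {X : Scheme.{u}}

theorem refine_cover [CompactSpace X] [QuasiSeparatedSpace X] (ι : Type u) (V : ι → X.Opens) (hV : iSup V = ⊤) :
    ∃ (J : Type u) (_ : Finite J) (U : J → X.Opens), iSup U = ⊤ ∧ (∀ j, ∃ i, U j ≤ V i) ∧
      ∀ j j', IsCompact ((U j ⊓ U j' : X.Opens) : Set X) := by
  have h : ∀ x : X, ∃ (W : X.Opens), IsAffineOpen W ∧ x ∈ W ∧ ∃ i, W ≤ V i := fun x => by
    obtain ⟨i, hi⟩ := Opens.mem_iSup.mp (hV.ge (trivial : x ∈ (⊤ : X.Opens)))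
    obtain ⟨W, hW, hxW, hle⟩ := exists_isAffineOpen_mem_and_subset (X := X) (x := x) (U := V i) hi
    exact ⟨W, hW, hxW, i, fun _ h => hle h⟩
  choose W hW hxW hle using h
  obtain ⟨t, ht⟩ := isCompact_univ.elim_finite_subcover (fun x => (W x : Set X)) (fun x => (W x).2)
    (fun x _ => Set.mem_iUnion.mpr ⟨x, hxW x⟩)
  refine ⟨{x // x ∈ t}, inferInstance, fun x => W x.1, eq_top_iff.2 fun x _ => ?_, fun x => hle x.1, fun a b => ?_⟩
  · obtain ⟨y, hy, hxy⟩ := Set.mem_iUnion₂.mp (ht (Set.mem_univ x))
    exact Opens.mem_iSup.2 ⟨⟨y, hy⟩, hxy⟩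
  · exact QuasiSeparatedSpace.inter_isCompact _ _ (W a.1).2 (hW a.1).isCompact (W b.1).2 (hW b.1).isCompact

theorem preservesColimit_coyoneda [CompactSpace X] [QuasiSeparatedSpace X] (F : X.Modules)
    (hF : SheafOfModules.IsFinitePresentation (R := X.ringCatSheaf) F) {Λ : Type u} [SmallCategory Λ] [IsFiltered Λ]
    (D : Λ ⥤ X.Modules) : PreservesColimit D (coyoneda.obj (op F)) := by
  obtain ⟨α, _, _, _, G, hG⟩ := IsFiltered.exists_directed Λ
  haveI := hG
  haveI : PreservesColimit (G ⋙ D) (coyoneda.obj (op F)) :=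
    @Groth.Agent.S6840.result X.toTopCat X.sheaf (fun ι V hV => refine_cover ι V hV) α _ _ _ (G ⋙ D) F hF
  exact Functor.Final.preservesColimit_of_comp G

theorem preservesColimit_inclusion {Λ : Type u} [SmallCategory Λ] (D : Λ ⥤ QCohCat.QCoh X) :
    PreservesColimit D (QCohCat.isQCoh X).ι := by
  let E := D ⋙ (QCohCat.isQCoh X).ι
  have hq : Coh.IsQCoh (colimit E) := QCohLib.isQCoh_colimit E (fun k => (D.obj k).property)
  let c : Cocone D :=
    { pt := ⟨colimit E, hq⟩
      ι := { app := fun k => ObjectProperty.homMk (colimit.ι E k)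
             naturality := fun {a b} f => ObjectProperty.hom_ext _ (by
               show (QCohCat.isQCoh X).ι.map (D.map f) ≫ colimit.ι E b = colimit.ι E a ≫ 𝟙 _
               rw [Category.comp_id]
               exact colimit.w E f) } }
  have hc' : IsColimit ((QCohCat.isQCoh X).ι.mapCocone c) :=
    IsColimit.ofIsoColimit (colimit.isColimit E) (Cocone.ext (Iso.refl _) (fun k => Category.comp_id _))
  exact preservesColimit_of_preserves_colimit_cocone (isColimitOfReflects (QCohCat.isQCoh X).ι hc') hc'

/-- For a qcqs scheme X and a quasi-coherent O_X-module F: Hom(F, -) on QCoh(O_X) commutes with filtered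
colimits (F is categorically compact) if and only if F is an O_X-module of finite presentation. -/
theorem result (X : Scheme.{u}) [CompactSpace X]
    [QuasiSeparatedSpace X] (F : QCohCat.QCoh X) :
    IsFinitelyPresentable.{u} F ↔ SheafOfModules.IsFinitePresentation F.obj := by
  constructor
  · intro hF
    obtain ⟨I, _, _, D, c, hc, hfp, hpt⟩ := Groth.Agent.S2128.result X F.obj F.property
    have hq : ∀ i, Coh.IsQCoh (D.obj i) := fun i => by
      haveI : SheafOfModules.IsFinitePresentation (R := X.ringCatSheaf) (D.obj i) := hfp i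
      exact (inferInstance : SheafOfModules.IsQuasicoherent (R := X.ringCatSheaf) (D.obj i))
    let D' : I ⥤ QCohCat.QCoh X := ObjectProperty.lift _ D hq
    let c' : Cocone D' :=
      { pt := F
        ι := { app := fun i => ObjectProperty.homMk (c.ι.app i ≫ eqToHom hpt)
               naturality := fun {a b} f => ObjectProperty.hom_ext _ (by
                 show D.map f ≫ c.ι.app b ≫ eqToHom hpt = (c.ι.app a ≫ eqToHom hpt) ≫ 𝟙 _
                 rw [Category.comp_id, c.w_assoc]) } }
    have hm : IsColimit ((QCohCat.isQCoh X).ι.mapCocone c') :=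
      IsColimit.ofIsoColimit hc (Cocone.ext (eqToIso hpt) (fun i => rfl))
    have hc' : IsColimit c' := isColimitOfReflects (QCohCat.isQCoh X).ι hm
    haveI := hF
    obtain ⟨i, p, hp⟩ := IsFinitelyPresentable.exists_hom_of_isColimit hc' (𝟙 F)
    let r : D.obj i ⟶ F.obj := c.ι.app i ≫ eqToHom hpt
    let p' : F.obj ⟶ D.obj i := p.hom
    have hpr : p' ≫ r = 𝟙 _ := congrArg (fun φ => φ.hom) hp
    haveI := hq i
    haveI : Coh.IsQCoh F.obj := F.property
    have hfg : CohB1.IsFP (cokernel (𝟙 (D.obj i) - r ≫ p')) := LimHomLib.isFP_cokernel'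
      (FlatFunLimLib.isFT_of_isFP' (hfp i)) (hfp i) _
    have hrz : (𝟙 (D.obj i) - r ≫ p') ≫ r = 0 := by
      rw [Preadditive.sub_comp, Category.assoc, hpr, Category.comp_id, Category.id_comp, sub_self]
    let e : cokernel (𝟙 (D.obj i) - r ≫ p') ≅ F.obj :=
      { hom := cokernel.desc _ r hrz
        inv := p' ≫ cokernel.π _
        hom_inv_id := coequalizer.hom_ext (by
          rw [cokernel.π_desc_assoc, Category.comp_id]
          have h0 := cokernel.condition (𝟙 (D.obj i) - r ≫ p')
          rw [Preadditive.sub_comp, Category.id_comp, sub_eq_zero, Category.assoc] at h0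
          exact h0.symm)
        inv_hom_id := by rw [Category.assoc, cokernel.π_desc, hpr] }
    exact Groth.Agent.PerfLib.isFP_of_iso' e hfg
  · intro hF
    rw [isFinitelyPresentable_iff_preservesFilteredColimitsOfSize]
    refine ⟨fun Λ _ _ => ⟨fun {D} => ?_⟩⟩
    haveI := preservesColimit_inclusion D
    haveI := preservesColimit_coyoneda F.obj hF (D ⋙ (QCohCat.isQCoh X).ι)
    haveI : PreservesColimit D ((QCohCat.isQCoh X).ι ⋙ coyoneda.obj (op F.obj)) := comp_preservesColimit _ _
    let e : (QCohCat.isQCoh X).ι ⋙ coyoneda.obj (op F.obj) ≅ coyoneda.obj (op F) :=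
      NatIso.ofComponents
        (fun G => ((ObjectProperty.fullyFaithfulι (QCohCat.isQCoh X)).homEquiv (X := F) (Y := G)).symm.toIso)
        (fun {G G'} g => by ext φ; rfl)
    exact preservesColimit_of_natIso D e

end Groth.Agent.S2214
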