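import Groth.Statements.S2218
import Mathlib.RingTheory.Ideal.AssociatedPrime.Basic
import Mathlib.RingTheory.Localization.FractionRing
import Mathlib.RingTheory.Localization.Integer
import Mathlib.RingTheory.IntegralClosure.Algebra.Basic
import Mathlib.RingTheory.Algebraic.Integral
import Mathlib.Algebra.Module.LocalizedModule.Basic
import Mathlib.RingTheory.Finiteness.Basic
import Mathlib.LinearAlgebra.Dual.Lemmas

set_option autoImplicit false
universe u v
open Disc

namespace Groth.Agent.S2218

/-- Special case: A -> B finite (the source allows quasi-finite maps). For a finite map of Noetherian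
rings and omega = Hom_A(B, A) with its B-module structure through the argument, the associated
primes of the B-module omega are exactly the primes of B whose contraction to A is an associated
prime of A. -/
theorem result {A : Type u} {B : Type v} [CommRing A] [CommRing B]
    [Algebra A B] [IsNoetherianRing A] [IsNoetherianRing B] [Module.Finite A B] :
    associatedPrimes B (Disc.Omega A B) =
      {q : Ideal B | q.IsPrime ∧ q.comap (algebraMap A B) ∈ associatedPrimes A A} := by
  classical
  ext q
  simp only [Set.mem_ofPred_eq, AssociatedPrimes.mem_iff, isAssociatedPrime_iff]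
  constructor
  · rintro ⟨hq, φ, hφ⟩
    have hp : (q.comap (algebraMap A B)).IsPrime := inferInstance
    refine ⟨hq, hp, ?_⟩
    obtain ⟨s, hs⟩ := Module.finite_def.1 ‹Module.Finite A B›
    have hmem : ∀ a : A, a ∈ q.comap (algebraMap A B) ↔ ∀ y ∈ s, a * φ.toLinearMap y = 0 := by
      intro a
      rw [Ideal.mem_comap, hφ, Submodule.mem_colon_singleton, Submodule.mem_bot]
      constructor
      · intro h y _
        rw [← smul_eq_mul, ← map_smul, Algebra.smul_def, ← Disc.Omega.smul_toLinearMap_apply, h]
        rfl
      · intro h
        refine Disc.Omega.toLinearMap_injective (LinearMap.ext_on hs fun y hy => ?_)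
        show φ.toLinearMap (algebraMap A B a * y) = 0
        rw [← Algebra.smul_def, map_smul, smul_eq_mul, h y hy]
    have heq : q.comap (algebraMap A B) = s.inf fun y => (⊥ : Submodule A A).colon {φ.toLinearMap y} := by
      ext a
      simp [hmem a, Submodule.mem_finsetInf, Submodule.mem_colon_singleton]
    obtain ⟨y, hy, hle⟩ := (Ideal.IsPrime.inf_le' hp).1 heq.ge
    refine ⟨φ.toLinearMap y, le_antisymm ?_ hle⟩
    rw [heq]
    exact Finset.inf_le hy
  · rintro ⟨hq, hp, c, hc⟩
    refine ⟨hq, ?_⟩
    set p := q.comap (algebraMap A B) with hpdef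
    let D := A ⧸ p
    haveI : IsDomain D := Ideal.Quotient.isDomain p
    let E := B ⧸ q
    let algDE : Algebra D E := Ideal.Quotient.algebraQuotientOfLEComap le_rfl
    haveI : IsScalarTower A D E := IsScalarTower.of_algebraMap_eq' rfl
    let K := FractionRing E
    have hinj : Function.Injective (algebraMap D E) :=
      Ideal.quotientMap_injective' le_rfl
    haveI : FaithfulSMul D E := (faithfulSMul_iff_algebraMap_injective D E).2 hinj
    haveI : Module.Finite D E := Module.Finite.of_restrictScalars_finite A D E
    -- a nonzero functional on B ⧸ q with values in A ⧸ p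
    obtain ⟨ψ, hψ⟩ : ∃ ψ : E →ₗ[D] D, ψ ≠ 0 := by
      let F := FractionRing D
      obtain ⟨s, hs⟩ := Module.finite_def.1 ‹Module.Finite D E›
      let L := LocalizedModule (nonZeroDivisors D) E
      let mk := LocalizedModule.mkLinearMap (nonZeroDivisors D) E
      have h1 : mk 1 ≠ 0 := by
        intro h0
        obtain ⟨d, hd⟩ := (IsLocalizedModule.eq_zero_iff (nonZeroDivisors D) mk).1 h0
        rw [Submonoid.smul_def, Algebra.smul_def, mul_one] at hd
        exact nonZeroDivisors.coe_ne_zero d (hinj (by rw [hd, map_zero]))
      obtain ⟨θ, hθ⟩ : ∃ θ : Module.Dual F L, θ (mk 1) ≠ 0 := by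
        by_contra hne
        push_neg at hne
        exact h1 ((Module.forall_dual_apply_eq_zero_iff F _).1 hne)
      obtain ⟨⟨d, hd⟩, hint⟩ := IsLocalization.exist_integer_multiples (nonZeroDivisors D) (insert (1 : E) s)
        (fun y => θ (mk y))
      let g : E →ₗ[D] F := d • (θ.restrictScalars D ∘ₗ mk)
      have hg : ∀ y : E, g y ∈ LinearMap.range (Algebra.linearMap D F) := by
        intro y
        have hy : y ∈ Submodule.span D (s : Set E) := hs ▸ trivial
        have : Submodule.span D (s : Set E) ≤ (LinearMap.range (Algebra.linearMap D F)).comap g :=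
          Submodule.span_le.2 fun z hz => by
            obtain ⟨w, hw⟩ := hint z (Finset.mem_insert_of_mem hz)
            exact ⟨w, hw⟩
        exact this hy
      refine ⟨(LinearEquiv.ofInjective _ (IsFractionRing.injective D F)).symm.toLinearMap ∘ₗ
        g.codRestrict _ hg, fun h => hθ ?_⟩
      have h2 := LinearMap.congr_fun h 1
      simp only [LinearMap.comp_apply, LinearMap.zero_apply, LinearEquiv.coe_coe,
        LinearEquiv.map_eq_zero_iff] at h2
      have h3 : d • θ (mk 1) = 0 := congrArg Subtype.val h2
      exact (smul_eq_zero.1 h3).resolve_left (nonZeroDivisors.ne_zero hd)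
    -- push it into A along a ↦ a * c
    have hker : p ≤ LinearMap.ker (LinearMap.toSpanSingleton A A c) := fun a ha => by
      rw [hc, Submodule.mem_colon_singleton, Submodule.mem_bot] at ha
      exact ha
    let ι : D →ₗ[A] A := Submodule.liftQ p (LinearMap.toSpanSingleton A A c) hker
    have hι : Function.Injective ι := by
      rw [← LinearMap.ker_eq_bot, Submodule.ker_liftQ_eq_bot]
      intro a ha
      rw [hc, Submodule.mem_colon_singleton, Submodule.mem_bot]
      exact ha
    let φ : B →ₗ[A] A := ι ∘ₗ ψ.restrictScalars A ∘ₗ (Ideal.Quotient.mkₐ A q).toLinearMap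
    refine ⟨⟨φ⟩, ?_⟩
    ext b
    rw [Submodule.mem_colon_singleton, Submodule.mem_bot]
    constructor
    · intro hb
      refine Disc.Omega.toLinearMap_injective (LinearMap.ext fun x => ?_)
      show ι (ψ (Ideal.Quotient.mk q (b * x))) = 0
      rw [Ideal.Quotient.eq_zero_iff_mem.2 (q.mul_mem_right x hb), map_zero, map_zero]
    · intro hb
      by_contra hbq
      have hvan : ∀ y : E, ψ (Ideal.Quotient.mk q b * y) = 0 := fun y => by
        obtain ⟨x, rfl⟩ := Ideal.Quotient.mk_surjective y
        refine hι ?_
        rw [map_zero, ← map_mul]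
        exact congrArg (fun w : Disc.Omega A B => w.toLinearMap x) hb
      have hne : Ideal.Quotient.mk q b ≠ 0 := fun h => hbq (Ideal.Quotient.eq_zero_iff_mem.1 h)
      have halg : IsAlgebraic D (Ideal.Quotient.mk q b) :=
        (IsIntegral.of_finite D _).isAlgebraic
      obtain ⟨d, hd0, hd⟩ := halg.exists_nonzero_dvd (mem_nonZeroDivisors_of_ne_zero hne)
      obtain ⟨e, he⟩ := hd
      refine hψ (LinearMap.ext fun y => ?_)
      have : d • ψ y = 0 := by
        rw [← map_smul, Algebra.smul_def, he, mul_assoc]
        exact hvan _
      exact (smul_eq_zero.1 this).resolve_left hd0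

end Groth.Agent.S2218
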