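import Groth.Statements.S2220
import Groth.Agent.QFDualLib.BaseChange

set_option autoImplicit false
universe u
open AlgebraicGeometry CategoryTheory TensorProduct
open Disc

namespace Groth.Agent.S2220

/-- Part (2): for ring maps A -> B' -> B with B' of finite type over A and Spec B -> Spec B' an open
immersion, the Noether different of B over A is the ideal generated by the image of that of B'. -/
theorem result {A B' B : Type u} [CommRing A] [CommRing B']
    [CommRing B] [Algebra A B'] [Algebra A B] [Algebra B' B] [IsScalarTower A B' B]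
    [Algebra.FiniteType A B']
    (h : IsOpenImmersion (Spec.map (CommRingCat.ofHom (algebraMap B' B)))) :
    Disc.noetherDifferent A B = (Disc.noetherDifferent A B').map (algebraMap B' B) := by
  have hmono : Mono (Spec.map (CommRingCat.ofHom (algebraMap B' B))) := inferInstance
  let g : B' →ₐ[A] B := IsScalarTower.toAlgHom A B' B
  let ρ := Algebra.TensorProduct.map g g
  have hgflat : g.Flat := by
    have : Flat (Spec.map (CommRingCat.ofHom (algebraMap B' B))) := inferInstance
    exact (HasRingHomProperty.Spec_iff (P := @Flat)).1 this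
  refine QFDualLib.noether_map (A := A) (B := B') (A' := A) (B' := B) ρ.toRingHom (algebraMap B' B)
    (RingHom.Flat.tensorProductMap hgflat hgflat) (fun x => ?_) ?_
  · induction x using TensorProduct.induction_on with
    | zero => simp
    | add u v hu hv => simp only [map_add, hu, hv]
    | tmul x y => simp [ρ, g]
  · let μ' := Algebra.TensorProduct.lmul' (S := B') A
    let J := (RingHom.ker μ').map ρ.toRingHom
    refine le_antisymm (Ideal.map_le_iff_le_comap.2 fun x hx => ?_) ?_
    · rw [Ideal.mem_comap, RingHom.mem_ker]
      have h2 : ∀ z, Algebra.TensorProduct.lmul' A (ρ z) = algebraMap B' B (μ' z) := by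
        intro z
        induction z using TensorProduct.induction_on with
        | zero => simp
        | add u v hu hv => simp only [map_add, hu, hv]
        | tmul x y => simp [ρ, g, μ']
      rw [AlgHom.toRingHom_eq_coe, RingHom.coe_coe, h2, RingHom.mem_ker.1 hx, map_zero]
    · let π := Ideal.Quotient.mk J
      let i1 : CommRingCat.of B ⟶ CommRingCat.of ((B ⊗[A] B) ⧸ J) :=
        CommRingCat.ofHom (π.comp (Algebra.TensorProduct.includeLeft : B →ₐ[A] B ⊗[A] B).toRingHom)
      let i2 : CommRingCat.of B ⟶ CommRingCat.of ((B ⊗[A] B) ⧸ J) :=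
        CommRingCat.ofHom (π.comp (Algebra.TensorProduct.includeRight : B →ₐ[A] B ⊗[A] B).toRingHom)
      have h12 : CommRingCat.ofHom (algebraMap B' B) ≫ i1 = CommRingCat.ofHom (algebraMap B' B) ≫ i2 := by
        ext s
        refine (Ideal.Quotient.mk_eq_mk_iff_sub_mem _ _).2 ?_
        have hmem : s ⊗ₜ[A] (1 : B') - (1 : B') ⊗ₜ[A] s ∈ RingHom.ker μ' := by simp [μ']
        convert! Ideal.mem_map_of_mem ρ.toRingHom hmem using 1
        simp [ρ, g]
        rfl
      have heq : i1 = i2 := by
        refine Spec.map_injective ((cancel_mono (Spec.map (CommRingCat.ofHom (algebraMap B' B)))).1 ?_)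
        rw [← Spec.map_comp, ← Spec.map_comp, h12]
      have hspan : RingHom.ker (Algebra.TensorProduct.lmul' (S := B) A) =
          Submodule.span (B ⊗[A] B) (Set.range fun s : B => (1 : B) ⊗ₜ[A] s - s ⊗ₜ[A] (1 : B)) :=
        (KaehlerDifferential.span_range_eq_ideal A B).symm
      rw [hspan, Submodule.span_le]
      rintro _ ⟨s, rfl⟩
      rw [SetLike.mem_coe]
      exact (Ideal.Quotient.mk_eq_mk_iff_sub_mem _ _).1 (ConcreteCategory.congr_hom heq s).symm

end Groth.Agent.S2220
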