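import Groth.Statements.S2222
import Groth.Agent.Dual3Lib.ExtInjDim

set_option autoImplicit false
set_option backward.isDefEq.respectTransparency false
set_option backward.isDefEq.respectTransparency.types false
universe u
open CategoryTheory AlgebraicGeometry
attribute [local instance] HasDerivedCategory.standard
open QCohCat

namespace Groth.Agent.S2222

/-- Let X be a Noetherian scheme all of whose local rings are regular and whose underlying space has
Krull dimension d. (1) For coherent O_X-modules F and G, every morphism F -> G[n] in the derived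
category D(O_X) is zero when n > d (Ext^n_X(F, G) = 0). (2) For bounded objects K and L of D(O_X)
with coherent cohomology sheaves, if the cohomology sheaves of K vanish below degree a + d and those
of L vanish from degree a upward, every morphism K -> L is zero. -/
theorem result (X : Scheme.{u}) [IsNoetherian X]
    (hreg : Models.IsRegularScheme X) (d : ℕ) (hd : topologicalKrullDim X = d) :
    (∀ (F G : X.Modules), Coh.IsCoh F → Coh.IsCoh G → ∀ n : ℤ, (d : ℤ) < n →
        ∀ φ : DCoh.inD X F ⟶ (shiftFunctor (DCoh.D X) n).obj (DCoh.inD X G), φ = 0) ∧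
      ∀ (K L : DCoh.D X) (a cK bL : ℤ), DCoh.IsCohD K → DCoh.IsCohD L →
        DerivedCategory.IsGE K (a + d) → DerivedCategory.IsLE K cK →
        DerivedCategory.IsGE L bL → DerivedCategory.IsLE L (a - 1) →
        ∀ φ : K ⟶ L, φ = 0 := by
  refine ⟨fun F G _ hG n hn φ => ?_, fun K L a cK bL _ hL _ _ _ _ φ => ?_⟩
  · obtain ⟨m, rfl⟩ := Int.eq_ofNat_of_zero_le (show 0 ≤ n by omega)
    haveI : Coh.IsQCoh G := hG.1
    haveI := Groth.Agent.Dual3Lib.hasInjectiveDimensionLT_of_isRegularScheme hreg d hd.le G
    haveI := HasInjectiveDimensionLT.subsingleton G (d + 1) m (by omega) F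
    haveI : Subsingleton (DCoh.inD X F ⟶ (shiftFunctor (DCoh.D X) (m : ℤ)).obj (DCoh.inD X G)) :=
      (Abelian.Ext.homEquiv (C := X.Modules) (X := F) (Y := G) (n := m)).symm.subsingleton
    exact Subsingleton.elim _ _
  · exact Groth.Agent.Dual3Lib.hom_eq_zero_of_gap hreg d hd.le (fun i => (hL i).1) a cK bL φ

end Groth.Agent.S2222
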