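import Groth.Statements.S2225
import Groth.Agent.CycGysLib.ZeroScheme
import Groth.Agent.DualCxLib.QuotDual
import Groth.Agent.GorLib.Basic

set_option autoImplicit false
set_option backward.isDefEq.respectTransparency false
set_option maxHeartbeats 1000000
universe u
open CategoryTheory AlgebraicGeometry
open Models

namespace Groth.Agent.S2225

/-- Part (1), for the closed fibre: let R be a discrete valuation ring with fraction field K, C a smooth
proper curve over K and X a regular model of C over R (flat, of finite type, all local rings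
regular). Then every local ring of the special fibre X_k is a Gorenstein local ring; together with
flatness and regularity of the generic fibre this says X -> Spec R is a Gorenstein morphism. -/
theorem result (R : Type u) [CommRing R] [IsDomain R]
    [IsDiscreteValuationRing R] (C X : Scheme.{u})
    (f : C ⟶ Spec (CommRingCat.of (FractionRing R))) (p : X ⟶ Spec (CommRingCat.of R))
    (hC : Curve.IsSmoothProperCurve (FractionRing R) C f) (hX : Models.IsModel R X p C f)
    (hreg : Models.IsRegularScheme X) (x : ↥(Models.specialFibre R X p)) :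
    LocCoh.IsGorensteinLocalRing ((Models.specialFibre R X p).presheaf.stalk x) := by
  obtain ⟨hflat, -, -, -⟩ := hX
  obtain ⟨ϖ, hϖ⟩ := IsDiscreteValuationRing.exists_irreducible R
  let κ := IsLocalRing.ResidueField R
  let i : Spec (CommRingCat.of κ) ⟶ Spec (CommRingCat.of R) :=
    Spec.map (CommRingCat.ofHom (algebraMap R κ))
  haveI : IsClosedImmersion i := IsClosedImmersion.spec_of_surjective _ IsLocalRing.residue_surjective
  let y := Limits.pullback.snd p i x
  let a₀ := (Scheme.ΓSpecIso (CommRingCat.of R)).inv ϖ
  have hiy : i y = IsLocalRing.closedPoint R := by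
    refine PrimeSpectrum.ext ?_
    show Ideal.comap (IsLocalRing.residue R) (y : PrimeSpectrum κ).asIdeal = IsLocalRing.maximalIdeal R
    rw [show (y : PrimeSpectrum κ).asIdeal = ⊥ from Ideal.eq_bot_of_prime _]
    exact IsLocalRing.ker_residue
  let S := Localization.AtPrime (i y).asIdeal
  let e := (StructureSheaf.stalkIso R (i y))
  let g₀ := (Spec (CommRingCat.of R)).presheaf.germ ⊤ (i y) trivial a₀
  have hmax : IsLocalRing.maximalIdeal ((Spec (CommRingCat.of R)).presheaf.stalk (i y)) = Ideal.span {g₀} := by
    letI : Algebra R ((Spec (CommRingCat.of R)).presheaf.stalk (i y)) :=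
      StructureSheaf.stalkAlgebra R (i y)
    haveI : IsLocalization.AtPrime ((Spec (CommRingCat.of R)).presheaf.stalk (i y)) (i y).asIdeal :=
      StructureSheaf.IsLocalization.to_stalk R (i y)
    rw [← IsLocalization.AtPrime.map_eq_maximalIdeal (i y).asIdeal,
      show (i y).asIdeal = IsLocalRing.maximalIdeal R from congrArg PrimeSpectrum.asIdeal hiy,
      hϖ.maximalIdeal_eq, Ideal.map_span, Set.image_singleton]
    rfl
  have hfield : IsField ((Spec (CommRingCat.of κ)).presheaf.stalk y) := by
    letI : Algebra κ ((Spec (CommRingCat.of κ)).presheaf.stalk y) := StructureSheaf.stalkAlgebra κ y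
    haveI : IsLocalization.AtPrime ((Spec (CommRingCat.of κ)).presheaf.stalk y) (y : PrimeSpectrum κ).asIdeal :=
      StructureSheaf.IsLocalization.to_stalk κ y
    rw [IsLocalRing.isField_iff_maximalIdeal_eq, ← IsLocalization.AtPrime.map_eq_maximalIdeal (y : PrimeSpectrum κ).asIdeal,
      show (y : PrimeSpectrum κ).asIdeal = ⊥ from Ideal.eq_bot_of_prime _, Ideal.map_bot]
  have hker : RingHom.ker (i.stalkMap y).hom = Ideal.span {g₀} := by
    rw [← hmax]
    have hsurj : Function.Surjective (i.stalkMap y).hom := i.stalkMap_surjective y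
    letI := hfield.toField
    exact IsLocalRing.eq_maximalIdeal (RingHom.ker_isMaximal_of_surjective _ hsurj)
  have hk := CycGysLib.ker_stalkMap_fst p i x (U := ⊤) trivial trivial a₀ hker
  let x' := Limits.pullback.fst p i x
  let ρ := p.stalkMap x' ((Spec (CommRingCat.of R)).presheaf.germ ⊤ (p x') trivial a₀)
  have hpx : p x' = i y := by
    show p _ = i _
    rw [← Scheme.Hom.comp_apply, ← Scheme.Hom.comp_apply, Limits.pullback.condition]
  haveI : IsRegularLocalRing (X.presheaf.stalk x') := hreg x'
  have hg : IsSMulRegular ((Spec (CommRingCat.of R)).presheaf.stalk (p x'))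
      ((Spec (CommRingCat.of R)).presheaf.germ ⊤ (p x') trivial a₀) ∧
      ¬ IsUnit ((Spec (CommRingCat.of R)).presheaf.germ ⊤ (p x') trivial a₀) := by
    letI : Algebra R ((Spec (CommRingCat.of R)).presheaf.stalk (p x')) := StructureSheaf.stalkAlgebra R (p x')
    haveI : IsLocalization.AtPrime ((Spec (CommRingCat.of R)).presheaf.stalk (p x')) (p x').asIdeal :=
      StructureSheaf.IsLocalization.to_stalk R (p x')
    haveI := IsLocalization.flat ((Spec (CommRingCat.of R)).presheaf.stalk (p x')) (p x').asIdeal.primeCompl
    refine ⟨?_, fun h => ?_⟩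
    · intro a b hab
      refine (Module.Flat.isSMulRegular_of_isRegular (IsRegular.of_ne_zero hϖ.ne_zero) :
        IsSMulRegular ((Spec (CommRingCat.of R)).presheaf.stalk (p x')) ϖ) ?_
      simp only [Algebra.smul_def]
      exact hab
    · have h1 : IsUnit (algebraMap R ((Spec (CommRingCat.of R)).presheaf.stalk (p x')) ϖ) := h
      rw [IsLocalization.AtPrime.isUnit_to_map_iff _ (p x').asIdeal] at h1
      apply h1
      rw [hpx, show (i y).asIdeal = IsLocalRing.maximalIdeal R from congrArg PrimeSpectrum.asIdeal hiy]
      exact hϖ.not_isUnit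
  have key : ∀ {A : Type u} [CommRing A] {z : A}, IsSMulRegular A z → IsRegular z := fun {A} _ {z} h =>
    ⟨h, fun a b hab => h (by
      show z * a = z * b
      rw [mul_comm z a, mul_comm z b]
      exact hab)⟩
  have hgr := key hg.1
  have hρ : IsSMulRegular (X.presheaf.stalk x') ρ := by
    letI := (p.stalkMap x').hom.toAlgebra
    haveI : Module.Flat ((Spec (CommRingCat.of R)).presheaf.stalk (p x')) (X.presheaf.stalk x') :=
      Flat.stalkMap p x'
    intro a b hab
    refine (Module.Flat.isSMulRegular_of_isRegular hgr :
      IsSMulRegular (X.presheaf.stalk x') ((Spec (CommRingCat.of R)).presheaf.germ ⊤ (p x') trivial a₀)) ?_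
    simp only [Algebra.smul_def]
    exact hab
  have hρm : ρ ∈ IsLocalRing.maximalIdeal (X.presheaf.stalk x') :=
    (IsLocalRing.mem_maximalIdeal _).mpr fun h => hg.2 ((isUnit_map_iff (p.stalkMap x').hom _).mp h)
  have h1 := (GorLib.gorenstein_quotient_iff hρ hρm).mp
    (Groth.Agent.DualCxLib.gorenstein_of_regular (X.presheaf.stalk x'))
  exact GorLib.gorenstein_of_ringEquiv ((Ideal.quotEquivOfEq hk.symm).trans
    (RingHom.quotientKerEquivOfSurjective ((Limits.pullback.fst p i).stalkMap_surjective x))).symm h1

end Groth.Agent.S2225
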