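import Groth.Statements.S2234
import Groth.Agent.NLConvLib.Fibre

set_option autoImplicit false
universe u
attribute [local instance] HasDerivedCategory.standard
open LCI

namespace Groth.Agent.S2234

/-- Equivalence of (1) and (4): take a ring map A -> B that is flat and of finite presentation. The
naive cotangent complex NL_{B/A} has tor-amplitude in [-1, 0] (it is isomorphic in D(B) to a
two-term complex of flat modules in those degrees) if and only if A -> B is a local complete
intersection homomorphism (some presentation has Koszul-regular kernel ideal). -/
theorem result {A B : Type u} [CommRing A] [CommRing B] [Algebra A B]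
    [Module.Flat A B] [Algebra.FinitePresentation A B] :
    DRing.HasTorAmplitudeIn B (-1) 0 (LCI.NL A B) ↔ LCI.IsLCI A B := by
  refine ⟨fun h => TransLib.isLCI_of_isSyntomic (NLConvLib.isSyntomic_of_amplitude h), fun h => ?_⟩
  obtain ⟨E, hE, hP, he⟩ := NLPerfLib.exists_model h
  exact ⟨E, hE, fun i => haveI := (hP i).2; inferInstance, he⟩

end Groth.Agent.S2234
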