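import Groth.Statements.S2235
import Groth.Agent.KoszDetLib.Cone

set_option autoImplicit false
universe u
open TensorProduct
open Disc

namespace Groth.Agent.S2235

/-- Let A -> P be a ring map, f_1, ..., f_n a Koszul-regular sequence in P with B = P/(f_1, ..., f_n)
flat over A, and g_1, ..., g_n a Koszul-regular sequence in P tensor_A B generating the kernel of
the multiplication map P tensor_A B -> B. Write f_i tensor 1 = sum_j c_ij g_j. Then the annihilator
of the kernel of B tensor_A B -> B is the principal ideal generated by the image of det(c_ij). -/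
theorem result {A P : Type u} [CommRing A] [CommRing P] [Algebra A P]
    {n : ℕ} (f : Fin n → P) (hf : LCI.IsKoszulRegularSeq P (List.ofFn f))
    [Module.Flat A (P ⧸ Ideal.span (Set.range f))]
    (g : Fin n → P ⊗[A] (P ⧸ Ideal.span (Set.range f)))
    (hg : LCI.IsKoszulRegularSeq (P ⊗[A] (P ⧸ Ideal.span (Set.range f))) (List.ofFn g))
    (hgker : Ideal.span (Set.range g) = RingHom.ker (Algebra.TensorProduct.productMap
      (Ideal.Quotient.mkₐ A (Ideal.span (Set.range f))) (AlgHom.id A (P ⧸ Ideal.span (Set.range f)))))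
    (c : Matrix (Fin n) (Fin n) (P ⊗[A] (P ⧸ Ideal.span (Set.range f))))
    (hc : ∀ i, f i ⊗ₜ[A] (1 : P ⧸ Ideal.span (Set.range f)) = ∑ j, c i j * g j) :
    Submodule.annihilator (RingHom.ker
        (Algebra.TensorProduct.lmul' (S := P ⧸ Ideal.span (Set.range f)) A)) =
      Ideal.span {Algebra.TensorProduct.map (Ideal.Quotient.mkₐ A (Ideal.span (Set.range f)))
        (AlgHom.id A (P ⧸ Ideal.span (Set.range f))) (Matrix.det c)} := by
  classical
  let B := P ⧸ Ideal.span (Set.range f)
  let F : Fin n → P ⊗[A] B := KoszDetLib.bcF f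
  have hF : KoszDetLib.IsExactK F :=
    KoszDetLib.isExactK_baseChange f (KoszDetLib.isExactK_of_isKoszulRegularSeq f hf)
  let q : P ⊗[A] B →ₐ[A] B ⊗[A] B := Algebra.TensorProduct.map (Ideal.Quotient.mkₐ A (Ideal.span (Set.range f))) (AlgHom.id A B)
  have hqs : Function.Surjective q := TensorProduct.map_surjective (Ideal.Quotient.mkₐ_surjective A _) Function.surjective_id
  have hkerq : RingHom.ker q.toRingHom = Ideal.span (Set.range F) := by
    refine le_antisymm ?_ ?_
    · intro t ht
      have h := Algebra.TensorProduct.rTensor_ker (R := A) (S := A) (C := B)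
        (Ideal.Quotient.mkₐ A (Ideal.span (Set.range f))) (Ideal.Quotient.mkₐ_surjective A _)
      have ht' : t ∈ RingHom.ker q := ht
      rw [h] at ht'
      refine (show Ideal.map _ (RingHom.ker _) ≤ Ideal.span (Set.range F) from ?_) ht'
      rw [Ideal.map_le_iff_le_comap, AlgHom.ker_coe, Ideal.Quotient.mkₐ_ker, Ideal.span_le]
      rintro _ ⟨i, rfl⟩
      exact Ideal.subset_span ⟨i, rfl⟩
    · rw [Ideal.span_le]
      rintro _ ⟨i, rfl⟩
      show q (f i ⊗ₜ[A] (1 : B)) = 0
      rw [Algebra.TensorProduct.map_tmul]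
      have : Ideal.Quotient.mkₐ A (Ideal.span (Set.range f)) (f i) = 0 :=
        Ideal.Quotient.eq_zero_iff_mem.2 (Ideal.subset_span ⟨i, rfl⟩)
      rw [this, TensorProduct.zero_tmul]
  have hkerμ : RingHom.ker (Algebra.TensorProduct.lmul' (S := B) A) = (Ideal.span (Set.range g)).map q := by
    rw [hgker]
    refine le_antisymm (fun z hz => ?_) ?_
    · obtain ⟨t, rfl⟩ := hqs z
      refine Ideal.mem_map_of_mem _ ?_
      rw [RingHom.mem_ker] at hz ⊢
      rw [← hz]
      clear hz
      induction t using TensorProduct.induction_on with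
      | zero => simp
      | tmul x b => simp [q, Ideal.Quotient.mkₐ_eq_mk, B]
      | add x y hx hy => simp only [map_add, hx, hy]
    · rw [Ideal.map_le_iff_le_comap]
      intro t ht
      rw [Ideal.mem_comap, RingHom.mem_ker]
      rw [RingHom.mem_ker] at ht
      rw [← ht]
      clear ht
      induction t using TensorProduct.induction_on with
      | zero => simp
      | tmul x b => simp [q, Ideal.Quotient.mkₐ_eq_mk, B]
      | add x y hx hy => simp only [map_add, hx, hy]
  show Submodule.annihilator (RingHom.ker (Algebra.TensorProduct.lmul' (S := B) A)) = Ideal.span {q c.det}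
  rw [hkerμ]
  have hann : ∀ y, q y ∈ Submodule.annihilator ((Ideal.span (Set.range g)).map q) ↔
      ∀ x ∈ Ideal.span (Set.range g), y * x ∈ Ideal.span (Set.range F) := by
    intro y
    rw [Submodule.mem_annihilator]
    constructor
    · intro h x hx
      rw [← hkerq, RingHom.mem_ker]
      have := h (q x) (Ideal.mem_map_of_mem _ hx)
      rw [smul_eq_mul, ← map_mul] at this
      exact this
    · intro h z hz
      obtain ⟨x, hx, rfl⟩ := (Ideal.mem_map_iff_of_surjective q hqs).1 hz
      rw [smul_eq_mul, ← map_mul]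
      exact RingHom.mem_ker.1 (show y * x ∈ RingHom.ker q.toRingHom from hkerq ▸ h x hx)
  refine le_antisymm (fun z hz => ?_) ?_
  · obtain ⟨y, rfl⟩ := hqs z
    obtain ⟨a, ha⟩ := KoszDetLib.exists_det_mul_sub_mem hF c hc y ((hann y).1 hz)
    rw [← hkerq, RingHom.mem_ker] at ha
    refine Ideal.mem_span_singleton'.2 ⟨q a, ?_⟩
    rw [← map_mul, ← sub_eq_zero, ← map_sub]
    exact ha
  · rw [Ideal.span_singleton_le_iff_mem, hann]
    intro x hx
    induction hx using Submodule.span_induction with
    | mem x hx =>
      obtain ⟨j, rfl⟩ := hx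
      have h : c.det * g j = ∑ i, c.adjugate j i * F i := by
        have h1 : (c.adjugate.mulVec (c.mulVec g)) j = c.det * g j := by
          rw [Matrix.mulVec_mulVec, Matrix.adjugate_mul, Matrix.smul_mulVec, Matrix.one_mulVec]
          rfl
        rw [← h1]
        simp only [Matrix.mulVec, dotProduct]
        refine Finset.sum_congr rfl fun i _ => ?_
        show _ = _ * (f i ⊗ₜ[A] (1 : B))
        rw [hc i]
      rw [h]
      exact Submodule.sum_mem _ fun i _ => Ideal.mul_mem_left _ _ (Ideal.subset_span ⟨i, rfl⟩)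
    | zero => simp
    | add x y _ _ hx hy => rw [mul_add]; exact Ideal.add_mem _ hx hy
    | smul a x _ hx => rw [smul_eq_mul, mul_left_comm]; exact Ideal.mul_mem_left _ _ hx

end Groth.Agent.S2235
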