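import Groth.Statements.S2237
import Groth.Agent.TransLib.SyntLCI
import Groth.Agent.TransLib.SyntBC
import Mathlib

set_option autoImplicit false
universe u
attribute [local instance] HasDerivedCategory.standard
open LCI

namespace Groth.Agent.S2237

/-- Implication (2) to (5), affine form: let A -> B be flat, quasi-finite and a local complete
intersection homomorphism (finite type with a Koszul-regular presentation). Then for every prime q
of B there are g in B outside q, a natural number n and polynomials f_1, ..., f_n in A[x_1, ...,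
x_n] such that B_g is isomorphic as an A-algebra to A[x_1, ..., x_n]/(f_1, ..., f_n). -/
theorem result {A B : Type u} [CommRing A]
    [CommRing B] [Algebra A B] [Module.Flat A B] [Algebra.QuasiFinite A B] (hlci : LCI.IsLCI A B)
    (q : Ideal B) [q.IsPrime] :
    ∃ g : B, g ∉ q ∧ ∃ (n : ℕ) (f : Fin n → MvPolynomial (Fin n) A),
      Nonempty (Localization.Away g ≃ₐ[A]
        (MvPolynomial (Fin n) A ⧸ Ideal.span (Set.range f))) := by
  have hs : Synt.IsSyntomic A B := TransLib.isSyntomic_of_flat_isLCI ‹_› hlci
  obtain ⟨g, hg, n, c, F, hF, ⟨e⟩⟩ := TransLib.exists_relGCI_of_isSyntomic hs q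
  refine ⟨g, hg, ?_⟩
  have hne : Nontrivial (Localization.Away g) := by
    rw [← not_subsingleton_iff_nontrivial, IsLocalization.subsingleton_iff (M := Submonoid.powers g)]
    rintro ⟨k, hk⟩
    exact hg ((inferInstance : q.IsPrime).mem_of_pow_mem k (by
      rw [show g ^ k = 0 from hk]; exact zero_mem _))
  have : Nontrivial (Synt.RelGCIRing A n c F) := e.toEquiv.symm.nontrivial
  have hqf : Algebra.QuasiFinite B (Localization.Away g) := inferInstance
  have : Algebra.QuasiFinite A (Localization.Away g) := Algebra.QuasiFinite.trans A B _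
  have : Algebra.QuasiFinite A (Synt.RelGCIRing A n c F) :=
    Algebra.QuasiFinite.of_surjective_algHom e.toAlgHom e.surjective
  obtain ⟨P, hP⟩ := Ideal.exists_maximal (Synt.RelGCIRing A n c F)
  let p : PrimeSpectrum A := PrimeSpectrum.comap (algebraMap A _) ⟨P, hP.isPrime⟩
  have : Nontrivial (p.asIdeal.Fiber (Synt.RelGCIRing A n c F)) :=
    (PrimeSpectrum.preimageEquivFiber A (Synt.RelGCIRing A n c F) p ⟨⟨P, hP.isPrime⟩, rfl⟩).nontrivial
  obtain ⟨hcn, hd⟩ := hF p inferInstance
  have : IsArtinianRing (p.asIdeal.Fiber (Synt.RelGCIRing A n c F)) :=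
    isArtinian_of_tower p.asIdeal.ResidueField inferInstance
  have := ((isArtinianRing_iff_isNoetherianRing_krullDimLE_zero (R := p.asIdeal.Fiber (Synt.RelGCIRing A n c F))).1 (isArtinian_of_tower p.asIdeal.ResidueField inferInstance)).2
  have h0 : ringKrullDim (p.asIdeal.Fiber (Synt.RelGCIRing A n c F)) ≤ 0 :=
    Ring.krullDimLE_iff.1 inferInstance
  rw [hd] at h0
  have hcn' : n - c = 0 := by exact_mod_cast le_antisymm h0 (by exact_mod_cast Nat.zero_le _)
  obtain rfl : c = n := by omega
  exact ⟨c, F, ⟨e⟩⟩

end Groth.Agent.S2237
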