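import Groth.Statements.S4342
import Groth.Agent.DevissLib.Basic

-- import your own Groth.Agent.* helpers here

set_option autoImplicit false
universe u
open QCohSup

namespace Groth.Agent.S4342

open AlgebraicGeometry in
theorem isCompact_inter {X : Scheme.{u}} (hX : ∀ x : X, ∃ U : X.Opens, x ∈ U ∧ TopologicalSpace.NoetherianSpace (U : Set X))
    (W O : X.Opens) (hW : IsAffineOpen W) : IsCompact ((W ⊓ O : X.Opens) : Set X) := by
  choose U hx hU using hX
  obtain ⟨t, ht⟩ := hW.isCompact.elim_finite_subcover (fun x => ((U x : X.Opens) : Set X)) (fun x => (U x).isOpen)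
    (fun x _ => Set.mem_iUnion.2 ⟨x, hx x⟩)
  have : ((W ⊓ O : X.Opens) : Set X) = ⋃ x ∈ t, ((W ⊓ O : X.Opens) : Set X) ∩ (U x : Set X) := by
    refine Set.Subset.antisymm (fun y hy => ?_) (Set.iUnion₂_subset fun x _ => Set.inter_subset_left)
    obtain ⟨x, hxt, hyx⟩ := Set.mem_iUnion₂.1 (ht hy.1)
    exact Set.mem_iUnion₂.2 ⟨x, hxt, hy, hyx⟩
  rw [this]
  refine t.finite_toSet.isCompact_biUnion fun x _ => ?_
  haveI := hU x
  have hc := TopologicalSpace.NoetherianSpace.isCompact (α := (U x : Set X)) (Subtype.val ⁻¹' ((W ⊓ O : X.Opens) : Set X))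
  rw [Subtype.isCompact_iff, Subtype.image_preimage_coe, Set.inter_comm] at hc
  exact hc


open AlgebraicGeometry in
open CategoryTheory in
open Opposite in
/-- In the sectionwise form its proof gives. Let X be a scheme whose underlying space is locally
Noetherian and F a quasi-coherent O_X-module. For every affine open U and every section s of F over
U there is a quasi-coherent sub-O_X-module of finite type of F having s among its sections over U;
hence F is the inductive limit of its quasi-coherent submodules of finite type. -/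
theorem result
    {X : Scheme.{u}}
    (hX : ∀ x : X, ∃ U : X.Opens, x ∈ U ∧ TopologicalSpace.NoetherianSpace (U : Set X))
    (F : X.Modules) [Coh.IsQCoh F]
    (U : X.affineOpens) (s : F.val.obj (op (U : X.Opens))) :
    ∃ (G' : X.Modules) (i' : G' ⟶ F), Mono i' ∧ Coh.IsQCoh G' ∧ CohB1.IsFT G' ∧
      ∃ g : G'.val.obj (op (U : X.Opens)), (i'.val.app (op (U : X.Opens))).hom g = s := by
  have hcanon : QCohLib.LocSub.Canon (QCohLib.LocSub.span F U fun _ : ULift.{u} (Fin 1) => s) U := by
    intro W a ha p hp hpU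
    obtain ⟨O, hO, hOU, hpO, c, hc⟩ := ha p ⟨hp, hpU⟩ hpU
    rw [QCohLib.map_map'] at hc
    exact ⟨O, hO.trans inf_le_left, hOU, hpO, c, hc⟩
  have hft : QCohLib.LocSub.FTBelow
      (QCohLib.LocSub.span F U fun _ : ULift.{u} (Fin 1) => s) U := fun p hp =>
    ⟨U.1, le_rfl, hp, 1, fun _ => s, fun i => QCohLib.LocSub.span_self _ i, fun W _ a ha => ha⟩
  obtain ⟨S, hS, hagree⟩ := QCohLib.LocSub.exists_ftExtension (isCompact_inter hX · · ·) U.1 _ hcanon hft
  have hs : S.mem U.1 s := (hagree U.1 le_rfl s).mpr (QCohLib.LocSub.span_self _ ⟨0⟩)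
  exact ⟨S.toModules, S.ι, inferInstance, QCohLib.LocSub.isQCoh_toModules S hS, QCohLib.LocSub.isFT_toModules S hS,
    S.lift s hs, S.ι_lift s hs⟩


end Groth.Agent.S4342
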