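import Groth.Statements.S2326
import Groth.Agent.MiscFlat6.CounitIdealAmple
-- import your own Groth.Agent.* helpers here

set_option autoImplicit false
universe u
open CategoryTheory CategoryTheory.Limits AlgebraicGeometry
open EGA2

namespace Groth.Agent.S2326

/-- Let X be a quasi-compact separated scheme (the source also allows a prescheme with Noetherian
underlying space) and L an invertible module. Suppose that for every quasi-coherent ideal sheaf I of
finite type there are n > 0 and k > 0 with I ⊗ L^{⊗n} a quotient of O_X^k. Then L is ample. -/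
theorem result (X : Scheme.{u}) [CompactSpace X] [X.IsSeparated] (L : X.Modules) (hL : PicF.IsInvertible L)
    (h : ∀ I : X.IdealSheafData, BlowUp.IsFiniteTypeIdeal I →
      ∃ (n k : ℕ) (p : FlatMod.freeMod X k ⟶ CohB1.tensorMod (ClSub.idealMod I) (CohB1.tensorPow L (n + 1))), 0 < k ∧ Epi p) :
    CohB1.IsAmple L := by
  refine MiscFlat6.isAmple_of_gg_ideal_twist L hL fun I hI => ?_
  obtain ⟨n, k, p, -, hp⟩ := h I hI
  refine ⟨n + 1, Nat.succ_pos n, MiscFlat6.isGloballyGenerated_of_cancel _ fun N q hq => ?_⟩
  refine (cancel_epi p).mp (Eq.trans ?_ comp_zero.symm)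
  refine Sigma.hom_ext _ _ fun j => ?_
  apply Scheme.Modules.hom_ext
  intro O
  refine ConcreteCategory.hom_ext _ _ fun c => ?_
  let m : Coh.structureModule X ⟶ _ := Sigma.ι (fun _ : Fin k => Coh.structureModule X) j ≫ p
  change q.app O (m.app O c) = 0
  have hr : m.app O c = (show Γ(X, O) from c) •
      (CohB1.tensorMod (ClSub.idealMod I) (CohB1.tensorPow L (n + 1))).presheaf.map
        (homOfLE (le_top : O ≤ ⊤)).op (m.app ⊤ (OmegaSh.strSect X ⊤ 1)) := by
    rw [← QCohLib.app_map, ← QCohLib.app_smul, ← OmegaSh.strSect_map, ← OmegaSh.strSect_mul, map_one, mul_one]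
    rfl
  rw [hr, QCohLib.app_smul, QCohLib.app_map, hq, map_zero, smul_zero]

end Groth.Agent.S2326
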