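import Groth.Statements.S2335
import Groth.Agent.DvrDom.Criteria

set_option autoImplicit false
universe u
open CategoryTheory CategoryTheory.Limits AlgebraicGeometry
open EGA2

namespace Groth.Agent.S2335

/-- Let Y be locally Noetherian and f : X → Y of finite type. Then f is proper if and only if for every
discrete valuation ring A with fraction field K and every commutative square Spec K → X, Spec A → Y,
there is exactly one morphism Spec A → X making both triangles commute. -/
theorem result {X Y : Scheme.{u}} [IsLocallyNoetherian Y] (f : X ⟶ Y) [LocallyOfFiniteType f] [QuasiCompact f] :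
    IsProper f ↔ ∀ (A : Type u) [CommRing A] [IsDomain A] [IsDiscreteValuationRing A] (x : (Spec (CommRingCat.of (FractionRing A))) ⟶ X) (y : (Spec (CommRingCat.of A)) ⟶ Y),
      x ≫ f = (Spec.map (CommRingCat.ofHom (algebraMap A (FractionRing A)))) ≫ y → ∃! l : (Spec (CommRingCat.of A)) ⟶ X, l ≫ f = y ∧ (Spec.map (CommRingCat.ofHom (algebraMap A (FractionRing A)))) ≫ l = x := by
  rw [DvrDomLib.isProper_iff_dvr]
  constructor
  · rintro ⟨he, hu⟩ A _ _ _ x y w
    obtain ⟨l, hl⟩ := he A x y w
    exact ⟨l, hl, fun l' hl' ↦ hu A l' l (hl'.1.trans hl.1.symm) (hl'.2.trans hl.2.symm)⟩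
  · intro H
    refine ⟨fun A _ _ _ x y w ↦ (H A x y w).exists, fun A _ _ _ l₁ l₂ h₁ h₂ ↦ ?_⟩
    exact (H A _ (l₁ ≫ f) (Category.assoc _ _ _)).unique ⟨rfl, rfl⟩ ⟨h₁.symm, h₂.symm⟩

end Groth.Agent.S2335
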