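import Groth.Statements.S4439
import Groth.Agent.DvrDom.Points
import Mathlib.AlgebraicGeometry.ValuativeCriterion

set_option autoImplicit false
universe u
open CategoryTheory CategoryTheory.Limits AlgebraicGeometry
open EGA2

namespace Groth.Agent.S4439

/-- Let A be a valuation ring with field of fractions K and f : X ⟶ Spec A a separated morphism whose
underlying map is closed. Then restriction to the generic point is a bijection from sections of f to
K-rational points of the generic fibre: every morphism Spec K ⟶ X over Spec A extends to exactly one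
section of f. -/
theorem result (A : Type u) [CommRing A] [IsDomain A]
    [ValuationRing A] (K : Type u) [Field K] [Algebra A K] [IsFractionRing A K] (X : Scheme.{u})
    (f : X ⟶ Spec (CommRingCat.of A)) [IsSeparated f] (hf : IsClosedMap f.base)
    (x : Spec (CommRingCat.of K) ⟶ X) (hx : x ≫ f = Spec.map (CommRingCat.ofHom (algebraMap A K))) :
    ∃! s : Spec (CommRingCat.of A) ⟶ X, s ≫ f = 𝟙 _ ∧ Spec.map (CommRingCat.ofHom (algebraMap A K)) ≫ s = x := by
  have hinjA : Function.Injective (algebraMap A K) := IsFractionRing.injective A K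
  -- a point of the closed fibre in the closure of the rational point
  let xpt := x (IsLocalRing.closedPoint K)
  have hsp : f xpt ⤳ (IsLocalRing.closedPoint A : PrimeSpectrum A) :=
    IsLocalRing.specializes_closedPoint _
  obtain ⟨z, hz, hzf⟩ := hf.specializingMap hsp
  obtain ⟨_, ⟨W, hW, rfl⟩, hzW, -⟩ :=
    X.isBasis_affineOpens.exists_subset_of_mem_open (Set.mem_univ z) isOpen_univ
  have hW : IsAffineOpen W := hW
  obtain ⟨γ, hγ⟩ := DvrDomLib.exists_specMap_fromSpec x hW (hz.mem_open W.isOpen hzW)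
  let a : CommRingCat.of A ⟶ Γ(X, W) := Spec.preimage (hW.fromSpec ≫ f)
  have ha : a ≫ γ = CommRingCat.ofHom (algebraMap A K) := by
    apply Spec.map_injective
    rw [Spec.map_comp, Spec.map_preimage, ← Category.assoc, hγ, hx]
  obtain ⟨z₀, hz₀⟩ : z ∈ Set.range hW.fromSpec := by rw [hW.range_fromSpec]; exact hzW
  have hker : ∀ w, γ.hom w = 0 → w ∈ z₀.asIdeal := by
    intro w hw
    have h1 : Spec.map γ (IsLocalRing.closedPoint K) ⤳ z₀ := by
      rw [← hW.fromSpec.isOpenEmbedding.isInducing.specializes_iff, hz₀]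
      have : hW.fromSpec (Spec.map γ (IsLocalRing.closedPoint K)) = xpt := by
        erw [← Scheme.Hom.comp_apply, hγ]
      rw [this]
      exact hz
    refine (PrimeSpectrum.le_iff_specializes _ _).mpr h1 ?_
    show γ.hom w ∈ IsLocalRing.maximalIdeal K
    rw [hw]
    exact Ideal.zero_mem _
  have hmax : ∀ m ∈ IsLocalRing.maximalIdeal A, a.hom m ∈ z₀.asIdeal := by
    intro m hm
    have h1 : Spec.map a z₀ = (IsLocalRing.closedPoint A : PrimeSpectrum A) := by
      rw [← hzf, ← hz₀, Spec.map_preimage, Scheme.Hom.comp_apply]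
    have h2 : m ∈ (Spec.map a z₀).asIdeal := by rw [h1]; exact hm
    exact h2
  have hmem : ∀ w, γ.hom w ∈ (algebraMap A K).range := by
    intro w
    by_contra hw
    rcases ValuationRing.isInteger_or_isInteger A (γ.hom w) with h | ⟨m, hm⟩
    · exact hw h
    · have hne : γ.hom w ≠ 0 := fun h0 ↦ hw (h0 ▸ Subring.zero_mem _)
      have hmM : m ∈ IsLocalRing.maximalIdeal A := by
        rw [IsLocalRing.mem_maximalIdeal]
        intro hu
        obtain ⟨n, hn⟩ := isUnit_iff_exists_inv.mp hu
        refine hw ⟨n, ?_⟩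
        have h1 : (γ.hom w)⁻¹ * algebraMap A K n = 1 := by rw [← hm, ← map_mul, hn, map_one]
        exact ((inv_mul_eq_one₀ hne).mp h1).symm
      have hγm : γ.hom (w * a.hom m - 1) = 0 := by
        rw [map_sub, map_mul, map_one, sub_eq_zero]
        have h2 : γ.hom (a.hom m) = algebraMap A K m :=
          DFunLike.congr_fun (congrArg CommRingCat.Hom.hom ha) m
        rw [h2, hm, mul_inv_cancel₀ hne]
      have h3 := z₀.asIdeal.sub_mem (z₀.asIdeal.mul_mem_left w (hmax m hmM)) (hker _ hγm)
      rw [sub_sub_cancel] at h3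
      exact (z₀ : PrimeSpectrum Γ(X, W)).isPrime.ne_top ((Ideal.eq_top_iff_one _).mpr h3)
  choose ε hε using hmem
  let εh : Γ(X, W) ⟶ CommRingCat.of A := CommRingCat.ofHom
    { toFun := ε
      map_one' := hinjA (by rw [hε, map_one, map_one])
      map_mul' := fun p q ↦ hinjA (by rw [hε, map_mul, map_mul, hε, hε])
      map_zero' := hinjA (by rw [hε, map_zero, map_zero])
      map_add' := fun p q ↦ hinjA (by rw [hε, map_add, map_add, hε, hε]) }
  have hεγ : εh ≫ CommRingCat.ofHom (algebraMap A K) = γ := by ext w; exact hε w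
  refine ⟨Spec.map εh ≫ hW.fromSpec, ⟨?_, ?_⟩, ?_⟩
  · rw [Category.assoc, ← Spec.map_preimage (hW.fromSpec ≫ f), ← Spec.map_comp, ← Spec.map_id]
    congr 1
    ext r
    exact hinjA ((hε _).trans (DFunLike.congr_fun (congrArg CommRingCat.Hom.hom ha) r))
  · rw [← Category.assoc, ← Spec.map_comp, hεγ, hγ]
  · rintro l ⟨hl₁, hl₂⟩
    let S : ValuativeCommSq f :=
      { R := A, K := K, i₁ := x, i₂ := 𝟙 _, commSq := ⟨by rw [hx, Category.comp_id]⟩ }
    have := IsSeparated.valuativeCriterion f S
    refine congrArg CommSq.LiftStruct.l (Subsingleton.elim (α := S.commSq.LiftStruct)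
      ⟨l, hl₂, hl₁⟩ ⟨Spec.map εh ≫ hW.fromSpec, ?_, ?_⟩)
    · show Spec.map (CommRingCat.ofHom (algebraMap A K)) ≫ _ = x
      rw [← Category.assoc, ← Spec.map_comp, hεγ, hγ]
    · show (Spec.map εh ≫ hW.fromSpec) ≫ f = 𝟙 _
      rw [Category.assoc, ← Spec.map_preimage (hW.fromSpec ≫ f), ← Spec.map_comp, ← Spec.map_id]
      congr 1
      ext r
      exact hinjA ((hε _).trans (DFunLike.congr_fun (congrArg CommRingCat.Hom.hom ha) r))

end Groth.Agent.S4439
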