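import Groth.Statements.S2342
import Groth.Agent.S4439
import Mathlib.AlgebraicGeometry.FunctionField

set_option autoImplicit false
universe u
open CategoryTheory CategoryTheory.Limits AlgebraicGeometry
open EGA2

namespace Groth.Agent.S2342

/-- Let A be a valuation ring with Y = Spec A, X an integral separated scheme and f : X → Y a morphism
which is closed as a map of topological spaces, such that the fibre over the generic point of Y
consists of exactly one point x and the induced map from the residue field of the generic point of Y
to that of x is bijective. Then f is an isomorphism. -/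
theorem result (A : Type u) [CommRing A] [IsDomain A] [ValuationRing A]
    (X : Scheme.{u}) [IsIntegral X] [X.IsSeparated] (f : X ⟶ Spec (CommRingCat.of A)) (hf : IsClosedMap f.base)
    (x : X) (hx : f.base ⁻¹' {genericPoint (Spec (CommRingCat.of A))} = {x})
    (hres : Function.Bijective (f.residueFieldMap x).hom) : IsIso f := by
  let K := FractionRing A
  let y₀ : Spec (CommRingCat.of K) ⟶ Spec (CommRingCat.of A) :=
    Spec.map (CommRingCat.ofHom (algebraMap A K))
  have hy₀ : y₀ (IsLocalRing.closedPoint K) = f x := by
    have h1 : f x = genericPoint (Spec (CommRingCat.of A)) := by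
      have : x ∈ f.base ⁻¹' {genericPoint (Spec (CommRingCat.of A))} := by rw [hx]; rfl
      exact this
    rw [h1, genericPoint_eq_bot_of_affine]
    apply PrimeSpectrum.ext
    show (IsLocalRing.maximalIdeal K).comap (algebraMap A K) = ⊥
    rw [IsLocalRing.maximalIdeal_eq_bot, ← RingHom.ker_eq_comap_bot,
      (RingHom.injective_iff_ker_eq_bot _).mp (IsFractionRing.injective A K)]
  have : IsIso (f.residueFieldMap x) := (ConcreteCategory.isIso_iff_bijective _).mpr hres
  let φ : X.residueField x ⟶ CommRingCat.of K :=
    inv (f.residueFieldMap x) ≫
      ((Spec (CommRingCat.of A)).residueFieldCongr hy₀.symm).hom ≫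
      (Spec (CommRingCat.of A)).descResidueField (Scheme.stalkClosedPointTo y₀)
  let xK : Spec (CommRingCat.of K) ⟶ X := Spec.map φ ≫ X.fromSpecResidueField x
  have hxK : xK ≫ f = y₀ := by
    have hdesc := (Spec (CommRingCat.of A)).descResidueField_stalkClosedPointTo_fromSpecResidueField K y₀
    rw [← Scheme.residueFieldCongr_fromSpecResidueField hy₀.symm] at hdesc
    rw [Category.assoc, ← Scheme.Hom.SpecMap_residueFieldMap_fromSpecResidueField,
      ← Spec.map_comp_assoc]
    simp only [φ, IsIso.hom_inv_id_assoc]
    rw [Spec.map_comp, Category.assoc]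
    exact hdesc
  obtain ⟨s, ⟨hs₁, hs₂⟩, -⟩ := Groth.Agent.S4439.result A K X f hf xK hxK
  have : IsClosedImmersion (s ≫ f) := by rw [hs₁]; infer_instance
  have : IsClosedImmersion s := IsClosedImmersion.of_comp s f
  have hgen : x = genericPoint X := by
    have h1 : genericPoint X ⤳ x := (genericPoint_spec X).specializes trivial
    have h2 : f x = genericPoint (Spec (CommRingCat.of A)) := by
      have : x ∈ f.base ⁻¹' {genericPoint (Spec (CommRingCat.of A))} := by rw [hx]; rfl
      exact this
    have h3 : genericPoint X ∈ f.base ⁻¹' {genericPoint (Spec (CommRingCat.of A))} := by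
      show f (genericPoint X) = genericPoint (Spec (CommRingCat.of A))
      refine (((genericPoint_spec _).specializes trivial).antisymm ?_).eq.symm
      rw [← h2]
      exact h1.map f.continuous
    rw [hx] at h3
    exact h3.symm
  have : Surjective s := by
    refine ⟨fun y ↦ ?_⟩
    have hclosed := s.isClosedEmbedding.isClosed_range
    have hx' : x ∈ Set.range s := by
      refine ⟨y₀ (IsLocalRing.closedPoint K), ?_⟩
      erw [← Scheme.Hom.comp_apply, hs₂]
      show (Spec.map φ ≫ X.fromSpecResidueField x) _ = x
      erw [Scheme.Hom.comp_apply, Scheme.fromSpecResidueField_apply]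
    exact hclosed.closure_subset_iff.mpr (Set.singleton_subset_iff.mpr hx')
      (hgen ▸ ((genericPoint_spec X).def.symm ▸ trivial))
  have : IsIso s := isIso_of_isClosedImmersion_of_surjective s
  have : f = inv s := by rw [← IsIso.inv_hom_id_assoc s f, hs₁, Category.comp_id]
  rw [this]
  infer_instance

end Groth.Agent.S2342
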