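import Groth.Statements.S2343
import Groth.Agent.EtLocLib.Henselian
-- import your own Groth.Agent.* helpers here

set_option autoImplicit false
universe u
open CategoryTheory CategoryTheory.Limits AlgebraicGeometry
open EGA2

namespace Groth.Agent.S2343

/-- Let A be a complete Noetherian local ring, X a separated scheme locally of finite type over Spec A,
and x a point of X over the closed point which is isolated in its fibre. Then the local ring of X at
x is a finite A-module and the canonical morphism Spec O_{X,x} → X is both an open and a closed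
immersion (X is the disjoint sum of Spec O_{X,x} and another open subscheme). -/
theorem result (A : Type u) [CommRing A] [IsLocalRing A] [IsNoetherianRing A]
    [IsAdicComplete (IsLocalRing.maximalIdeal A) A] (X : Scheme.{u}) (f : X ⟶ Spec (CommRingCat.of A)) [LocallyOfFiniteType f] [IsSeparated f]
    (x : X) (hx : f.base x = IsLocalRing.closedPoint A)
    (hisol : IsOpen ((Subtype.val : (f.base ⁻¹' {IsLocalRing.closedPoint A}) → X) ⁻¹' {x})) :
    ((Scheme.ΓSpecIso (CommRingCat.of A)).inv ≫ f.appTop ≫ X.presheaf.germ ⊤ x trivial).hom.Finite ∧ IsOpenImmersion (X.fromSpecStalk x) ∧ IsClosedImmersion (X.fromSpecStalk x) := by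
  classical
  haveI := EtLocLib.henselianLocalRing_of_isAdicComplete A
  have hq : f.QuasiFiniteAt x := by
    rw [Scheme.Hom.quasiFiniteAt_iff_isOpen_singleton_asFiber, ← (f.fiberHomeo (f x)).isOpen_image,
      Set.image_singleton]
    simp only [Scheme.Hom.asFiber, Homeomorph.apply_symm_apply]
    have : ∀ s₀, f.base x = s₀ → IsOpen ((Subtype.val : (f.base ⁻¹' {s₀}) → X) ⁻¹' {x}) →
        IsOpen ({(⟨x, rfl⟩ : f.base ⁻¹' {f.base x})} : Set (f.base ⁻¹' {f.base x})) := by
      rintro _ rfl h
      convert h using 1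
      ext a
      simp [Subtype.ext_iff]
    exact this _ hx hisol
  obtain ⟨n, W, hW, hcov⟩ := EtLocLib.exists_finite_opens_henselian f {x}
    (fun y hy => by rw [Finset.mem_singleton.mp hy]; exact ⟨hx, hq⟩)
  obtain ⟨i, hxi, huniq⟩ := hcov x (Finset.mem_singleton_self x)
  haveI := hW i
  have hcl := EtLocLib.isClosed_of_isFinite f (hW i)
  have hWa : IsAffineOpen (W i) := isAffine_of_isAffineHom ((W i).ι ≫ f)
  let P := hWa.primeIdealOf ⟨x, hxi⟩
  have hmax : ∀ Q : Ideal Γ(X, W i), Q.IsMaximal → Q = P.asIdeal := by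
    intro Q hQ
    let q : Spec Γ(X, W i) := ⟨Q, hQ.isPrime⟩
    haveI : IsFinite (hWa.fromSpec ≫ f) := by
      rw [show hWa.fromSpec ≫ f = hWa.isoSpec.inv ≫ (W i).ι ≫ f by rw [IsAffineOpen.fromSpec, Category.assoc]]
      infer_instance
    have hqc : IsClosed ({q} : Set ↥(Spec Γ(X, W i))) :=
      (PrimeSpectrum.isClosed_singleton_iff_isMaximal q).mpr hQ
    have hfc := (hWa.fromSpec ≫ f).isClosedMap _ hqc
    rw [Set.image_singleton] at hfc
    have hfq : (hWa.fromSpec ≫ f).base q = IsLocalRing.closedPoint A :=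
      ((IsLocalRing.specializes_closedPoint (R := A) _).mem_closed hfc rfl).symm
    have hmem : hWa.fromSpec.base q ∈ W i := by
      rw [← SetLike.mem_coe, ← hWa.range_fromSpec]; exact ⟨q, rfl⟩
    have h1 : hWa.fromSpec.base q = x := huniq _ hmem hfq
    have h2 : q = P := hWa.fromSpec.isOpenEmbedding.injective
      (h1.trans (hWa.fromSpec_primeIdealOf ⟨x, hxi⟩).symm)
    exact congrArg PrimeSpectrum.asIdeal h2
  letI : Algebra Γ(X, W i) (X.presheaf.stalk x) := X.presheaf.algebra_section_stalk ⟨x, hxi⟩
  haveI hloc : IsLocalization.AtPrime (X.presheaf.stalk x) P.asIdeal := hWa.isLocalization_stalk ⟨x, hxi⟩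
  have hunits : P.asIdeal.primeCompl ≤ IsUnit.submonoid Γ(X, W i) := by
    intro a ha
    by_contra hna
    obtain ⟨M, hM, haM⟩ := exists_max_ideal_of_mem_nonunits (mem_nonunits_iff.mpr hna)
    exact ha (hmax M hM ▸ haM)
  have hbij : Function.Bijective (X.presheaf.germ (W i) x hxi).hom :=
    (IsLocalization.atUnits Γ(X, W i) P.asIdeal.primeCompl (S := X.presheaf.stalk x) hunits).bijective
  haveI : IsIso (X.presheaf.germ (W i) x hxi) := (ConcreteCategory.isIso_iff_bijective _).mpr hbij
  have hfs : X.fromSpecStalk x = Spec.map (X.presheaf.germ (W i) x hxi) ≫ hWa.fromSpec :=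
    (hWa.fromSpecStalk_eq_fromSpecStalk hxi).symm
  have ho : IsOpenImmersion (X.fromSpecStalk x) := by rw [hfs]; infer_instance
  refine ⟨?_, ho, IsClosedImmersion.of_isPreimmersion _ ?_⟩
  · have h1 : Spec.map ((Scheme.ΓSpecIso (CommRingCat.of A)).inv ≫ f.appTop ≫ X.presheaf.germ ⊤ x trivial) =
        X.fromSpecStalk x ≫ f := by
      rw [← Scheme.SpecMap_stalkMap_fromSpecStalk, Spec.fromSpecStalk_eq, ← Spec.map_comp,
        Category.assoc, Scheme.Hom.germ_stalkMap]
      rfl
    apply (IsFinite.SpecMap_iff _).mp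
    rw [h1, hfs, Category.assoc, IsAffineOpen.fromSpec, Category.assoc]
    infer_instance
  · rw [hfs, Scheme.Hom.comp_base, TopCat.coe_comp, Set.range_comp,
      (Spec.map (X.presheaf.germ (W i) x hxi)).surjective.range_eq,
      Set.image_univ, hWa.range_fromSpec]
    exact hcl

end Groth.Agent.S2343
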