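import Groth.Statements.S2347
import Groth.Agent.SweepSix.NormSect
import Mathlib.RingTheory.Ideal.GoingUp

set_option autoImplicit false
universe u
open CategoryTheory CategoryTheory.Limits AlgebraicGeometry
open EGA2

namespace Groth.Agent.S2347

/-- Let X be an integral normal scheme, X' an integral scheme and g : X' → X an integral morphism. If g
has a rational section (a morphism s from a dense open U of X to X' with g ∘ s the inclusion of U),
then g is an isomorphism. -/
theorem result {X X' : Scheme.{u}} [IsIntegral X] [IsIntegral X'] (hX : Pi1.IsNormalScheme X)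
    (g : X' ⟶ X) [IsIntegralHom g] (U : X.Opens) (hU : Dense (U : Set X)) (s : (U : Scheme.{u}) ⟶ X') (hs : s ≫ g = U.ι) :
    IsIso g := by
  haveI : IsSeparated g := inferInstance
  obtain ⟨σ, hσ, -⟩ := SweepSix.NormSect.exists_section hX g U hU s hs
  refine (HasAffineProperty.iff_of_iSup_eq_top (P := MorphismProperty.isomorphisms Scheme) (f := g)
    (fun V : X.affineOpens => V) (iSup_affineOpens_eq_top X)).mpr fun V => ?_
  obtain ⟨V, hV⟩ := V
  refine ⟨hV.preimage g, ?_⟩
  suffices h : ∀ W : X.Opens, IsAffineOpen W → IsIso (g.app W) by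
    haveI := h _ (V.ι.isAffineOpen_iff_of_isOpenImmersion (U := ⊤) |>.mpr (by
      haveI : IsAffine V.toScheme := hV
      exact isAffineOpen_top _))
    simp only [morphismRestrict_appTop]
    exact IsIso.comp_isIso' this (Functor.map_isIso _ _)
  intro W hW
  have hσW : σ ⁻¹ᵁ (g ⁻¹ᵁ W) = W := by rw [← Scheme.Hom.comp_preimage, hσ]; simp
  let q : Γ(X', g ⁻¹ᵁ W) ⟶ Γ(X, W) := σ.app (g ⁻¹ᵁ W) ≫ X.presheaf.map (eqToHom hσW.symm).op
  have hq : g.app W ≫ q = 𝟙 _ := by
    have h := Scheme.Hom.congr_app hσ W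
    rw [Scheme.Hom.comp_app, Scheme.Hom.id_app] at h
    simp only [q]
    rw [← Category.assoc, h]
    refine (Category.assoc _ _ _).trans ((Category.id_comp _).trans ?_)
    exact (X.presheaf.map_comp _ _).symm.trans
      ((congrArg X.presheaf.map (Subsingleton.elim _ (𝟙 _))).trans (X.presheaf.map_id _))
  have hq' : ∀ a, q (g.app W a) = a := fun a => DFunLike.congr_fun (congrArg CommRingCat.Hom.hom hq) a
  have hqinj : Function.Injective q.hom := by
    rcases (g ⁻¹ᵁ W : Set X').eq_empty_or_nonempty with he | hn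
    · haveI : Subsingleton Γ(X', g ⁻¹ᵁ W) := CommRingCat.subsingleton_of_isTerminal
        (X'.sheaf.isTerminalOfEqEmpty (TopologicalSpace.Opens.ext he))
      exact fun a b _ => Subsingleton.elim a b
    · haveI : Nonempty (g ⁻¹ᵁ W : X'.Opens) := hn.to_subtype
      haveI : IsDomain Γ(X', g ⁻¹ᵁ W) := IsIntegral.component_integral _
      haveI : Nonempty W := ⟨⟨g hn.some, hn.some_mem⟩⟩
      letI := (g.app W).hom.toAlgebra
      haveI : Algebra.IsIntegral Γ(X, W) Γ(X', g ⁻¹ᵁ W) := ⟨g.isIntegral_app W hW⟩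
      rw [RingHom.injective_iff_ker_eq_bot]
      refine Ideal.eq_bot_of_comap_eq_bot (R := Γ(X, W)) ?_
      rw [eq_bot_iff]
      intro a ha
      exact Ideal.mem_bot.mpr ((hq' a).symm.trans ha)
  refine (ConcreteCategory.isIso_iff_bijective _).mpr ⟨fun a b h => ?_, fun b => ⟨q b, hqinj (hq' _)⟩⟩
  rw [← hq' a, ← hq' b]
  exact congrArg q.hom h

end Groth.Agent.S2347
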