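import Groth.Statements.S2349
-- import your own Groth.Agent.* helpers here

set_option autoImplicit false
universe u
open CategoryTheory CategoryTheory.Limits AlgebraicGeometry
open EGA2

namespace Groth.Agent.S2349

/-- Let f : X → Y be separated and of finite type, and let j_i : X_i → X and h_i : Y_i → Y (i in a
finite index type) be closed immersions with morphisms f_i : X_i → Y_i satisfying j_i ≫ f = f_i ≫
h_i, such that the images of the j_i cover X. Then f is proper if and only if every f_i is proper. -/
theorem result {X Y : Scheme.{u}} (f : X ⟶ Y) [IsSeparated f] [LocallyOfFiniteType f] [QuasiCompact f]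
    (ι : Type u) [Finite ι] (Xi Yi : ι → Scheme.{u}) (j : ∀ i, Xi i ⟶ X) (h : ∀ i, Yi i ⟶ Y) (fi : ∀ i, Xi i ⟶ Yi i)
    [∀ i, IsClosedImmersion (j i)] [∀ i, IsClosedImmersion (h i)] (hcomm : ∀ i, j i ≫ f = fi i ≫ h i)
    (hcov : ∀ x : X, ∃ i, x ∈ Set.range (j i).base) : IsProper f ↔ ∀ i, IsProper (fi i) := by
  constructor
  · intro _ i
    have : IsProper (fi i ≫ h i) := by rw [← hcomm i]; infer_instance
    exact IsProper.of_comp (fi i) (h i)
  · intro H
    have hUC : UniversallyClosed f := by
      rw [universallyClosed_iff]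
      intro X' Y' i₁ i₂ f' hP Z hZ
      have key : ∀ i, IsClosed ((pullback.fst i₁ (j i) ≫ f') '' (pullback.fst i₁ (j i) ⁻¹' Z)) := by
        intro i
        have := H i
        have huc : UniversallyClosed (j i ≫ f) := by rw [hcomm i]; infer_instance
        exact huc.universally_isClosedMap _ _ _
          ((IsPullback.of_hasPullback i₁ (j i)).paste_horiz hP) _
          (hZ.preimage (pullback.fst i₁ (j i)).continuous)
      have heq : f' '' Z = ⋃ i, (pullback.fst i₁ (j i) ≫ f') '' (pullback.fst i₁ (j i) ⁻¹' Z) := by
        ext y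
        simp only [Set.mem_image, Set.mem_iUnion, Set.mem_preimage, Scheme.Hom.comp_apply]
        constructor
        · rintro ⟨z, hz, rfl⟩
          obtain ⟨i, x, hx⟩ := hcov (i₁ z)
          obtain ⟨t, ht, -⟩ := Scheme.Pullback.exists_preimage_pullback z x hx.symm
          exact ⟨i, t, by rw [ht]; exact hz, by rw [ht]⟩
        · rintro ⟨i, t, ht, rfl⟩
          exact ⟨_, ht, rfl⟩
      rw [heq]
      exact isClosed_iUnion_of_finite key
    exact { }

end Groth.Agent.S2349
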