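import Groth.Statements.S2350
import Groth.Agent.AmpleThLib.Locus

set_option autoImplicit false
universe u
open CategoryTheory CategoryTheory.Limits AlgebraicGeometry
open EGA2

namespace Groth.Agent.S2350

/-- Let X be a scheme, L an invertible O_X-module and s a global section of L. Then the inclusion of the
open X_s (where s generates L) into X is an affine morphism. -/
theorem result (X : Scheme.{u}) (L : X.Modules) (hL : PicF.IsInvertible L) (s : Coh.structureModule X ⟶ L) :
    IsAffineHom (CohB1.genLocus L s).ι := by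
  rw [AmpleThLib.genLocus_hom hL s]
  refine isAffineHom_of_forall_exists_isAffineOpen _ fun x => ?_
  obtain ⟨U, e, hxU, he⟩ := TwistLib.exists_genOn hL x
  obtain ⟨V, hV, hxV, hVU⟩ := exists_isAffineOpen_mem_and_subset hxU
  refine ⟨V, hxV, hV, ?_⟩
  have he' : AmpleLib.GenOn L (AmpleLib.res L hVU e) := he.res hVU
  obtain ⟨r, hr⟩ := AmpleThLib.exists_coeff (s.app ⊤ (1 : Γ(X, ⊤))) he'
  have h := AmpleThLib.mem_genSet_coeff hL (s.app ⊤ (1 : Γ(X, ⊤))) he' hr
  refine (Scheme.Hom.isAffineOpen_iff_of_isOpenImmersion (TwistLib.genSet hL _).ι).mp ?_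
  rw [Scheme.Hom.image_preimage_eq_opensRange_inf, Scheme.Opens.opensRange_ι, h]
  exact hV.basicOpen r

end Groth.Agent.S2350
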