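import Groth.Statements.S2353
import Groth.Agent.DvrDom.Dense
-- import your own Groth.Agent.* helpers here

set_option autoImplicit false
universe u
open CategoryTheory CategoryTheory.Limits AlgebraicGeometry
open EGA2

namespace Groth.Agent.S2353

/-- Let Y be an integral separated locally Noetherian scheme, X an integral separated scheme and f : X →
Y dominant and of finite type, with generic point ξ of X. Suppose that for every discrete valuation
subring R of the function field K(X) and every point y of Y such that R dominates the local ring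
O_{Y,y} (through O_{Y,y} → O_{Y,f(ξ)} → K(X): the image lies in R and the maximal ideal maps into
the maximal ideal of R), there is a point x of X whose local ring is dominated by R (through O_{X,x}
→ K(X)). Then f is proper. -/
theorem result {X Y : Scheme.{u}} [IsIntegral X] [IsIntegral Y] [X.IsSeparated] [Y.IsSeparated]
    [IsLocallyNoetherian Y] (f : X ⟶ Y) [IsDominant f] [LocallyOfFiniteType f] [QuasiCompact f]
    (h : ∀ (R : ValuationSubring X.functionField), IsDiscreteValuationRing R →
      ∀ (y : Y) (hy : f.base (genericPoint X) ⤳ y), ((∀ a : (Y.presheaf.stalk y), (Y.presheaf.stalkSpecializes hy ≫ f.stalkMap (genericPoint X)).hom a ∈ R) ∧ ∀ a ∈ IsLocalRing.maximalIdeal (Y.presheaf.stalk y), R.valuation ((Y.presheaf.stalkSpecializes hy ≫ f.stalkMap (genericPoint X)).hom a) < 1) →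
        ∃ x : X, ((∀ a : (X.presheaf.stalk x), algebraMap (X.presheaf.stalk x) X.functionField a ∈ R) ∧ ∀ a ∈ IsLocalRing.maximalIdeal (X.presheaf.stalk x), R.valuation (algebraMap (X.presheaf.stalk x) X.functionField a) < 1)) :
    IsProper f := by
  let η := genericPoint X
  have : UniversallyClosed f := by
    refine DvrDomLib.universallyClosed_of_points f (𝟙 X) {η}
      (fun x ↦ ⟨η, rfl, by simpa using (genericPoint_spec X).specializes trivial⟩) ?_
    rintro v rfl V hV y hy
    rw [Category.id_comp] at hy
    have hfield : IsField (X.presheaf.stalk η) := Field.toIsField X.functionField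
    have hbij : Function.Bijective (X.residue η).hom := by
      refine ⟨?_, X.residue_surjective η⟩
      let := hfield.toField
      exact RingHom.injective _
    let e : X.functionField →+* X.residueField η := (X.residue η).hom
    let R : ValuationSubring X.functionField :=
      ValuationSubring.ofSubring (V.toSubring.comap e) fun z ↦ by
        rcases V.mem_or_inv_mem (e z) with hz | hz
        · exact Or.inl hz
        · refine Or.inr ?_
          show e z⁻¹ ∈ V
          rwa [map_inv₀]
    have hres : ∀ z : X.functionField, R.valuation z < 1 ↔ V.valuation (e z) < 1 := by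
      intro z
      rw [← ValuationSubring.mem_nonunits_iff, ← ValuationSubring.mem_nonunits_iff,
        ValuationSubring.mem_nonunits_iff_or, ValuationSubring.mem_nonunits_iff_or]
      refine or_congr ⟨fun h0 ↦ by rw [h0, map_zero], fun h0 ↦ hbij.1 (h0.trans (map_zero e).symm)⟩
        (not_congr ?_)
      show e z⁻¹ ∈ V ↔ _
      rw [map_inv₀]
    let eR : R →+* V := (e.comp R.subtype).codRestrict V.toSubring fun a ↦ a.2
    have heR : Function.Bijective eR := by
      refine ⟨fun a b hab ↦ Subtype.ext (hbij.1 (congrArg Subtype.val hab)), fun b ↦ ?_⟩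
      obtain ⟨z, hz⟩ := hbij.2 b.1
      exact ⟨⟨z, by show e z ∈ V; exact hz ▸ b.2⟩, Subtype.ext hz⟩
    have hR : IsDiscreteValuationRing R :=
      IsDiscreteValuationRing.RingEquivClass.isDiscreteValuationRing (RingEquiv.ofBijective eR heR).symm
    let y' := y (IsLocalRing.closedPoint V)
    have hsp : f η ⤳ y' := by
      have h1 : (Spec.map (CommRingCat.ofHom V.subtype) ≫ y) (IsLocalRing.closedPoint _) = f η := by
        rw [hy]
        erw [Scheme.Hom.comp_apply, Scheme.fromSpecResidueField_apply]
      rw [← h1]
      erw [Scheme.Hom.comp_apply]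
      exact (IsLocalRing.specializes_closedPoint (R := V) _).map y.continuous
    let γ : Y.presheaf.stalk y' ⟶ CommRingCat.of V := Scheme.stalkClosedPointTo y
    let ψ : Y.presheaf.stalk y' ⟶ X.functionField :=
      Y.presheaf.stalkSpecializes hsp ≫ f.stalkMap η
    have hγ : γ ≫ CommRingCat.ofHom V.subtype = ψ ≫ X.residue η := by
      apply Spec.map_injective
      rw [← cancel_mono (Y.fromSpecStalk y')]
      have h0 : Spec.map γ ≫ Y.fromSpecStalk y' = y :=
        Scheme.Spec_stalkClosedPointTo_fromSpecStalk y
      rw [Spec.map_comp, Category.assoc, h0]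
      refine hy.trans ?_
      rw [Spec.map_comp, Category.assoc]
      show (Spec.map (X.residue η) ≫ X.fromSpecStalk η) ≫ f = _
      rw [Category.assoc]
      refine congrArg (Spec.map (X.residue η) ≫ ·) ?_
      rw [Spec.map_comp, Category.assoc, Scheme.SpecMap_stalkSpecializes_fromSpecStalk,
        Scheme.SpecMap_stalkMap_fromSpecStalk]
    have hval : ∀ a, e (ψ.hom a) = (γ a).1 := fun a ↦
      (DFunLike.congr_fun (congrArg CommRingCat.Hom.hom hγ) a).symm
    have : IsLocalHom γ.hom := inferInstanceAs (IsLocalHom (Scheme.stalkClosedPointTo y).hom)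
    obtain ⟨x, hx₁, hx₂⟩ := h R hR y' hsp ⟨fun a ↦ by
        show e (ψ.hom a) ∈ V
        rw [hval]; exact (γ a).2,
      fun a ha ↦ by
        refine (hres _).mpr ?_
        show V.valuation (e (ψ.hom a)) < 1
        rw [hval]
        exact (V.valuation_lt_one_iff (γ a)).mp (map_nonunit γ.hom a ha)⟩
    let δ : X.presheaf.stalk x →+* V :=
      (e.comp (algebraMap (X.presheaf.stalk x) X.functionField)).codRestrict V.toSubring hx₁
    have : IsLocalHom δ := by
      refine ⟨fun a ha ↦ ?_⟩
      by_contra hna
      exact ((hres _).mp (hx₂ a hna)).ne ((V.valuation_eq_one_iff (δ a)).mp ha)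
    refine ⟨Spec.map (CommRingCat.ofHom δ) ≫ X.fromSpecStalk x, ?_, ?_⟩
    · have : IsDominant (Spec.map (CommRingCat.ofHom V.subtype)) :=
        ⟨(PrimeSpectrum.denseRange_comap_iff_ker_le_nilRadical _).mpr (by
          have h0 : RingHom.ker V.subtype = ⊥ :=
            (RingHom.injective_iff_ker_eq_bot _).mp Subtype.val_injective
          exact h0.le.trans bot_le)⟩
      refine ext_of_isDominant (Spec.map (CommRingCat.ofHom V.subtype)) ?_
      rw [hy, ← Category.assoc, ← Category.assoc, ← Spec.map_comp]
      congr 1
      show Spec.map (X.presheaf.stalkSpecializes _ ≫ X.residue η) ≫ X.fromSpecStalk x = _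
      rw [Spec.map_comp, Category.assoc, Scheme.SpecMap_stalkSpecializes_fromSpecStalk]
      rfl
    · rw [← Category.assoc, ← Spec.map_comp, Category.comp_id]
      show Spec.map (X.presheaf.stalkSpecializes _ ≫ X.residue η) ≫ X.fromSpecStalk x = _
      rw [Spec.map_comp, Category.assoc, Scheme.SpecMap_stalkSpecializes_fromSpecStalk]
      rfl
  exact { }

end Groth.Agent.S2353
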