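import Groth.Statements.S2356
import Groth.Agent.SemiLocFreeLib.Basic
import Groth.Agent.CurvLib.StalkSum
import Groth.Agent.PerfHomLib.Retract
-- import your own Groth.Agent.* helpers here

set_option autoImplicit false
universe u
open CategoryTheory CategoryTheory.Limits AlgebraicGeometry
open EGA2

namespace Groth.Agent.S2356

/-- Let Y be a scheme, E a locally free O_Y-module of rank r, and Z a finite set of points of Y
contained in an affine open V. Then there is an open neighbourhood U ⊆ V of Z on which E is free of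
rank r. -/
theorem result (Y : Scheme.{u}) (r : ℕ) (E : Y.Modules) (hE : FlatMod.IsFinLocFreeOfRank r E)
    (Z : Set Y) (hZ : Z.Finite) (V : Y.Opens) (hV : IsAffineOpen V) (hZV : Z ⊆ V) :
    ∃ U : Y.Opens, Z ⊆ U ∧ U ≤ V ∧ Nonempty (E.restrict U.ι ≅ FlatMod.freeMod (U : Scheme.{u}) r) := by
  classical
  have hfl : FlatMod.IsFinLocFree E := fun y => by
    obtain ⟨U, hy, h⟩ := hE y
    exact ⟨U, r, hy, h⟩
  haveI : Coh.IsQCoh E := FinLFAnn.isQCoh_of_isFinLocFree hfl
  obtain ⟨f, hf, e, he⟩ := SemiLocFreeLib.exists_frame_basicOpen hfl hV (hZ.toFinset.subtype (· ∈ V))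
    fun y => CurvLib.nonempty_stalk_pi_of_locFree hE y
  obtain ⟨φ⟩ := CohCmpLib.exists_iso_freeMod_of_frame
    (CohCmpLib.isFrame_puSecLE (Y.basicOpen f).ι he (V := (⊤ : (Y.basicOpen f : Scheme.{u}).Opens))
      (fun z _ => z.2))
  exact ⟨Y.basicOpen f, fun z hz => hf ⟨z, hZV hz⟩ (Finset.mem_subtype.mpr (hZ.mem_toFinset.mpr hz)), Y.basicOpen_le f,
    ⟨(Scheme.Modules.restrictFunctorIsoPullback (Y.basicOpen f).ι).app E ≪≫ φ⟩⟩

end Groth.Agent.S2356
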