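import Groth.Statements.S2455
import Groth.Agent.CohenLib.CohenAlgebra
import Mathlib.RingTheory.AdicCompletion.AsTensorProduct
import Mathlib.RingTheory.AdicCompletion.LocalRing

set_option autoImplicit false
universe u
open EGA41

namespace Groth.Agent.S2455

open IsLocalRing in
/-- Let A be a Noetherian local ring with residue field k and K a separable extension field of k. Then
there is a Cohen A-algebra B whose residue field is k-isomorphic to K; and two Cohen A-algebras
whose residue fields are k-isomorphic to K are isomorphic as A-algebras. -/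
theorem result {A : Type u} [CommRing A] [IsLocalRing A] [IsNoetherianRing A]
    (K : Type u) [Field K] [Algebra (ResidueField A) K] [Algebra.IsGeometricallyReduced (ResidueField A) K] :
    (∃ (B : Type u) (_ : CommRing B) (_ : IsLocalRing B) (_ : Algebra A B) (_ : IsLocalHom (algebraMap A B)),
      EGA41.IsCohenAlgebra A B ∧ Nonempty (ResidueField B ≃ₐ[ResidueField A] K)) ∧
    ∀ (B B' : Type u) [CommRing B] [IsLocalRing B] [Algebra A B] [IsLocalHom (algebraMap A B)]
      [CommRing B'] [IsLocalRing B'] [Algebra A B'] [IsLocalHom (algebraMap A B')],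
      EGA41.IsCohenAlgebra A B → EGA41.IsCohenAlgebra A B' →
      Nonempty (ResidueField B ≃ₐ[ResidueField A] K) → Nonempty (ResidueField B' ≃ₐ[ResidueField A] K) →
      Nonempty (B ≃ₐ[A] B') := by
  refine ⟨?_, fun B B' _ _ _ _ _ _ _ _ hB hB' ⟨e⟩ ⟨e'⟩ =>
    CohenLib.cohenAlgebra_unique hB hB' (e.trans e'.symm)⟩
  obtain ⟨B₀, _, _, _, _, hflat, hmap, hN, e, he⟩ :=
    GonfLib.exists_local_extension_residueField (A := A) K
  have := hN inferInstance
  let Bh := AdicCompletion (maximalIdeal B₀) B₀
  have hmax : maximalIdeal Bh = (maximalIdeal A).map (algebraMap A Bh) := by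
    rw [AdicCompletion.maximalIdeal_eq_map, IsScalarTower.algebraMap_eq A B₀ Bh, ← Ideal.map_map]
    exact congrArg (Ideal.map (algebraMap B₀ Bh)) hmap.symm
  have hc : IsAdicComplete (maximalIdeal Bh) Bh := by
    rw [AdicCompletion.maximalIdeal_eq_map]
    exact (IsAdicComplete.map_algebraMap_iff _ _).2
      (AdicCompletion.isAdicComplete (M := B₀) (IsNoetherian.noetherian _))
  have hloc : IsLocalHom (algebraMap A Bh) := ⟨fun a ha => by
    by_contra hu
    have h1 : algebraMap A Bh a ∈ maximalIdeal Bh := hmax ▸ Ideal.mem_map_of_mem _ hu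
    exact h1 ha⟩
  have hk : RingHom.ker (AdicCompletion.evalOneₐ (maximalIdeal B₀)).toRingHom = maximalIdeal Bh := by
    rw [AdicCompletion.ker_evalOneₐ_eq_map _ (IsNoetherian.noetherian _),
      AdicCompletion.maximalIdeal_eq_map]
  let f : ResidueField Bh ≃+* K := (Ideal.quotEquivOfEq hk.symm).trans
    ((RingHom.quotientKerEquivOfSurjective
      (AdicCompletion.evalOneₐ_surjective (maximalIdeal B₀))).trans e)
  let f' : ResidueField Bh ≃ₐ[ResidueField A] K := AlgEquiv.ofRingEquiv (f := f) fun z => by
    obtain ⟨a, rfl⟩ := IsLocalRing.residue_surjective z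
    refine Eq.trans ?_ (he a)
    show e (AdicCompletion.evalOneₐ (maximalIdeal B₀) (algebraMap A Bh a)) = _
    rw [IsScalarTower.algebraMap_apply A B₀ Bh, AlgHom.commutes]
    rfl
  have : IsNoetherianRing Bh := by
    let _ : Field (B₀ ⧸ maximalIdeal B₀) := Ideal.Quotient.field _
    have : IsNoetherianRing (Bh ⧸ maximalIdeal Bh) := isNoetherianRing_of_ringEquiv (B₀ ⧸ maximalIdeal B₀)
      ((Ideal.quotEquivOfEq hk.symm).trans (RingHom.quotientKerEquivOfSurjective
        (AdicCompletion.evalOneₐ_surjective (maximalIdeal B₀)))).symm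
    exact CompleteLib.isNoetherianRing_of_isAdicComplete (maximalIdeal Bh)
      (hmax ▸ Ideal.FG.map (IsNoetherian.noetherian _) _)
  have : Module.Flat B₀ Bh := AdicCompletion.flat_of_isNoetherian _
  exact ⟨Bh, inferInstance, inferInstance, inferInstance, hloc,
    ⟨inferInstance, inferInstance, hc, Module.Flat.trans A B₀ Bh, hmax.symm,
      Algebra.IsGeometricallyReduced.of_injective f'.toAlgHom f'.injective⟩, ⟨f'⟩⟩

end Groth.Agent.S2455
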