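import Groth.Statements.S2457
import Groth.Agent.CohenLib.Structure

set_option autoImplicit false
universe u
open EGA41

namespace Groth.Agent.S2457

open IsLocalRing in
/-- Let W and W' be Cohen rings with residue fields K and K' and u : K ≅ K' an isomorphism. Then u is
induced by some isomorphism v : W ≅ W'. -/
theorem result {W W' : Type u} [CommRing W] [IsLocalRing W] [CommRing W'] [IsLocalRing W']
    (hW : EGA41.IsCohenRingEGA W) (hW' : EGA41.IsCohenRingEGA W') (u : ResidueField W ≃+* ResidueField W') :
    ∃ v : W ≃+* W', ∀ x : W, residue W' (v x) = u (residue W x) := by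
  have hchar : ∀ (V : Type u) [CommRing V] [IsLocalRing V], CAlg.IsCohenRing V →
      ¬ CharZero (ResidueField V) := fun V _ _ hV h0 => by
    obtain ⟨p, hp, -, -, -, -, -, hres, -⟩ := CohenLib.cohen_props hV
    exact hp.out.ne_zero (CharP.eq (ResidueField V) hres (CharP.ofCharZero _))
  have hfield : ∀ (V : Type u) [CommRing V] [IsLocalRing V], IsField V →
      Function.Bijective (residue V) := fun V _ _ hV => by
    refine ⟨?_, residue_surjective⟩
    rw [injective_iff_map_eq_zero]
    intro x hx
    rwa [residue_eq_zero_iff, IsLocalRing.isField_iff_maximalIdeal_eq.1 hV] at hx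
  rcases hW with ⟨hWf, hW0⟩ | hW
  · have h0 : CharZero (ResidueField W) := charZero_of_injective_ringHom (hfield W hWf).1
    have h0' : CharZero (ResidueField W') := charZero_of_injective_ringHom (f := u.toRingHom) u.injective
    rcases hW' with ⟨hWf', -⟩ | hW'
    · refine ⟨(RingEquiv.ofBijective _ (hfield W hWf)).trans (u.trans
        (RingEquiv.ofBijective _ (hfield W' hWf')).symm), fun x => ?_⟩
      exact (RingEquiv.ofBijective _ (hfield W' hWf')).apply_symm_apply _
    · exact absurd h0' (hchar W' hW')
  · rcases hW' with ⟨hWf', hW0'⟩ | hW'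
    · have h0' : CharZero (ResidueField W') := charZero_of_injective_ringHom (hfield W' hWf').1
      exact absurd (charZero_of_injective_ringHom (f := u.symm.toRingHom) u.symm.injective) (hchar W hW)
    · exact CohenLib.exists_equiv_of_residue hW hW' u

end Groth.Agent.S2457
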