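import Groth.Statements.S2459
import Groth.Agent.CohenLib.Structure
import Mathlib.RingTheory.HopkinsLevitzki

set_option autoImplicit false
universe u
open EGA41

namespace Groth.Agent.S2459

open IsLocalRing in
/-- Let A be an Artinian local ring with maximal ideal 𝔪 and residue field of characteristic p (p = 0
allowed). Then A is isomorphic to a quotient of a Cohen ring if and only if 𝔪 is generated by p·1. -/
theorem result {A : Type u} [CommRing A] [IsLocalRing A] [IsArtinianRing A]
    (p : ℕ) [CharP (ResidueField A) p] :
    (∃ (W : Type u) (_ : CommRing W) (I : Ideal W), EGA41.IsCohenRingEGA W ∧ Nonempty (A ≃+* W ⧸ I)) ↔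
      maximalIdeal A = Ideal.span {(p : A)} := by
  constructor
  · rintro ⟨W, _, I, hW, ⟨e⟩⟩
    have : Nontrivial (W ⧸ I) := e.symm.toEquiv.nontrivial
    let f : W →+* A := e.symm.toRingHom.comp (Ideal.Quotient.mk I)
    have hf : Function.Surjective f := e.symm.surjective.comp Ideal.Quotient.mk_surjective
    rcases hW with ⟨hWf, hW0⟩ | hW
    · let _ : Field W := hWf.toField
      have h0 : CharZero (ResidueField A) := charZero_of_injective_ringHom ((residue A).comp f).injective
      have hp : p = 0 := CharP.eq (ResidueField A) inferInstance (CharP.ofCharZero _)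
      subst hp
      rw [Nat.cast_zero, Ideal.span_singleton_eq_bot.2 rfl, eq_bot_iff]
      intro a ha
      obtain ⟨w, rfl⟩ := hf a
      by_contra hne
      have hw : w ≠ 0 := fun h => hne (by rw [h, map_zero]; exact Submodule.zero_mem _)
      exact ha ((IsUnit.mk0 w hw).map f)
    · obtain ⟨hdom, hdvr, hc, q, hq, hm⟩ := hW
      have hloc : IsLocalHom f := Function.Surjective.isLocalHom f hf
      have hmap : (maximalIdeal W).map f = maximalIdeal A := by
        refine le_antisymm (((IsLocalRing.local_hom_TFAE f).out 0 2).1 hloc) fun a ha => ?_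
        obtain ⟨w, rfl⟩ := hf a
        refine Ideal.mem_map_of_mem _ ?_
        exact fun hu => ha (hu.map f)
      rw [hm, Ideal.map_span, Set.image_singleton, map_natCast] at hmap
      have hq0 : (q : ResidueField A) = 0 := by
        rw [← map_natCast (residue A), residue_eq_zero_iff, ← hmap]
        exact Ideal.mem_span_singleton_self _
      have hpq : p ∣ q := (CharP.cast_eq_zero_iff (ResidueField A) p q).1 hq0
      rcases (Nat.dvd_prime hq).1 hpq with h1 | h1
      · exact absurd h1 (CharP.char_ne_one (ResidueField A) p)
      · rw [h1, hmap]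
  · intro hm
    have hnil : IsNilpotent (maximalIdeal A) := by
      have := IsArtinianRing.isNilpotent_jacobson_bot (R := A)
      rwa [IsLocalRing.jacobson_eq_maximalIdeal ⊥ bot_ne_top] at this
    have : IsAdicComplete (maximalIdeal A) A := CohenLib.isAdicComplete_of_isNilpotent _ hnil
    obtain ⟨Λ, _, _, g, hg, hcase, hc, -, hgm⟩ := CohenLib.exists_coefficient_ring A
    have hsurj : Function.Surjective g := by
      have hmap : (Ideal.span {(p : Λ)}).map g = maximalIdeal A := by
        rw [Ideal.map_span, Set.image_singleton, map_natCast, hm]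
      have : IsPrecomplete (Ideal.span {(p : Λ)}) Λ := by
        rcases hcase with ⟨hΛ, h0⟩ | ⟨hΛ, hn0⟩
        · have hp : p = 0 := CharP.eq (ResidueField A) inferInstance (CharP.ofCharZero _)
          rw [hp, Nat.cast_zero, Ideal.span_singleton_eq_bot.2 rfl]
          exact (CohenLib.isAdicComplete_of_isNilpotent (⊥ : Ideal Λ) ⟨1, pow_one _⟩).toIsPrecomplete
        · obtain ⟨q, hq, hmq, hcq, -, -, -, hres, -⟩ := CohenLib.cohen_props hΛ
          have hq0 : (q : ResidueField A) = 0 := by
            rw [← map_natCast (residue A), residue_eq_zero_iff, ← map_natCast g]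
            exact hgm (Ideal.mem_map_of_mem g (hmq ▸ Ideal.mem_span_singleton_self _))
          rw [CharP.eq (ResidueField A) inferInstance ((CharP.charP_iff_prime_eq_zero hq.out).2 hq0)]
          exact hmq ▸ hcq.toIsPrecomplete
      exact CohenLib.surjective_of_complete (maximalIdeal A) (Ideal.span {(p : Λ)}) g hmap fun r => by
        obtain ⟨c, hc⟩ := hg (residue A r)
        exact ⟨c, by rw [← residue_eq_zero_iff, map_sub, ← hc, RingHom.comp_apply, sub_self]⟩
    refine ⟨Λ, inferInstance, RingHom.ker g, ?_,
      ⟨(RingHom.quotientKerEquivOfSurjective hsurj).symm⟩⟩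
    rcases hcase with ⟨hΛ, h0⟩ | ⟨hΛ, -⟩
    · refine .inl ⟨hΛ, ?_⟩
      refine ⟨fun a b hab => Nat.cast_injective (R := ResidueField A) ?_⟩
      rw [← map_natCast ((residue A).comp g) a, hab, map_natCast]
    · exact .inr hΛ

end Groth.Agent.S2459
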