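import Groth.Statements.S2460
import Groth.Agent.CKaehlerLib.Normalize
-- import your own Groth.Agent.* helpers here

set_option autoImplicit false
universe u
open EGA41

namespace Groth.Agent.S2460

open IsLocalRing in
/-- Let A be a complete Noetherian local domain containing a field k₀ such that the residue field of A
is a finite extension of k₀. Then there are n and an injective local k₀-algebra homomorphism from
the power series ring k₀[[T_1, …, T_n]] into A making A a finite module over it. -/
theorem result {k₀ A : Type u} [Field k₀] [CommRing A] [IsDomain A] [IsLocalRing A] [IsNoetherianRing A]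
    [IsAdicComplete (maximalIdeal A) A] [Algebra k₀ A] [Module.Finite k₀ (ResidueField A)] :
    ∃ (n : ℕ) (w : MvPowerSeries (Fin n) k₀ →ₐ[k₀] A), Function.Injective w ∧ IsLocalHom w.toRingHom ∧ w.toRingHom.Finite := by
  obtain ⟨n, hn⟩ : ∃ n : ℕ, ringKrullDim A = n := CommAlgDim.exists_ringKrullDim_eq
  obtain ⟨w, hinj, hfin, hX⟩ := CKaehlerLib.exists_finite_injective k₀ A n hn
  refine ⟨n, w, hinj, ⟨fun g hg => ?_⟩, hfin⟩
  haveI := CohenLib.isRegularLocalRing_mvPowerSeries k₀ n
  by_contra h
  have hmem : g ∈ maximalIdeal (MvPowerSeries (Fin n) k₀) := h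
  rw [CohenLib.maximalIdeal_mvPowerSeries_field, CohenLib.varsIdeal] at hmem
  have hle : (Ideal.span (Set.range (MvPowerSeries.X (σ := Fin n) (R := k₀)))).map w.toRingHom ≤ maximalIdeal A := by
    rw [Ideal.map_span, Ideal.span_le]
    rintro _ ⟨_, ⟨i, rfl⟩, rfl⟩
    exact hX i
  exact hle (Ideal.mem_map_of_mem w.toRingHom hmem) hg

end Groth.Agent.S2460
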