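import Groth.Statements.S2463
import Groth.Agent.JacFSLib.Criterion

set_option autoImplicit false
universe u
open EGA41

namespace Groth.Agent.S2463

open TensorProduct KaehlerDifferential in
/-- Let B be a formally smooth A-algebra (discrete topologies), B → C a surjection with kernel J such
that J/J² is a finitely generated module (over B, equivalently over C), and p a prime of C. The
following are equivalent: the local ring C_p is formally smooth over A; the map κ(p) ⊗ J/J² → κ(p) ⊗
(C ⊗_B Ω_{B/A}) induced by d is injective (tensor products over B, which agree with those over C =
B/J); there is f ∈ C outside p with C_f formally smooth over A. -/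
theorem result {A B C : Type u} [CommRing A] [CommRing B] [CommRing C] [Algebra A B] [Algebra B C] [Algebra A C]
    [IsScalarTower A B C] [Algebra.FormallySmooth A B] (hsurj : Function.Surjective (algebraMap B C))
    [Module.Finite B (RingHom.ker (algebraMap B C)).Cotangent] (p : Ideal C) [p.IsPrime] :
    [Algebra.FormallySmooth A (Localization.AtPrime p),
     Function.Injective ((kerCotangentToTensor A B C).lTensor p.ResidueField),
     ∃ f : C, f ∉ p ∧ Algebra.FormallySmooth A (Localization.Away f)].TFAE := by
  have hiff := JacFSLib.formallySmooth_atPrime_iff (A := A) hsurj p
  tfae_have 1 ↔ 2 := hiff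
  tfae_have 2 → 3 := fun h => by
    obtain ⟨g, hg, hg', -⟩ := JacFSLib.exists_away_of_injective hsurj p h
    exact ⟨g, hg, hg'⟩
  tfae_have 3 → 1 := by
    rintro ⟨f, hf, hfs⟩
    let P := IsLocalization.Away.lift (S := Localization.Away f) f
      (g := algebraMap C (Localization.AtPrime p)) (IsLocalization.map_units _ (⟨f, hf⟩ : p.primeCompl))
    let _ : Algebra (Localization.Away f) (Localization.AtPrime p) := P.toAlgebra
    have : IsScalarTower C (Localization.Away f) (Localization.AtPrime p) :=
      IsScalarTower.of_algebraMap_eq fun x => (IsLocalization.Away.lift_eq f _ x).symm
    have : IsScalarTower A (Localization.Away f) (Localization.AtPrime p) :=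
      IsScalarTower.to₁₃₄ A C (Localization.Away f) (Localization.AtPrime p)
    have : IsLocalization (p.primeCompl.map (algebraMap C (Localization.Away f))) (Localization.AtPrime p) :=
      IsLocalization.isLocalization_of_submonoid_le (Localization.Away f) (Localization.AtPrime p)
        (Submonoid.powers f) p.primeCompl ((Submonoid.powers_le).2 hf)
    have : Algebra.FormallySmooth (Localization.Away f) (Localization.AtPrime p) :=
      Algebra.FormallySmooth.of_isLocalization (p.primeCompl.map (algebraMap C (Localization.Away f)))
    exact Algebra.FormallySmooth.comp A (Localization.Away f) (Localization.AtPrime p)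
  tfae_finish

end Groth.Agent.S2463
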