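import Groth.Statements.S2464
import Mathlib
import Groth.Agent.PBasisLib.Root

set_option autoImplicit false
universe u
open EGA41

namespace Groth.Agent.S2464

/-- Let p be a prime, B a ring of characteristic p and A → B an injective ring map whose image contains
every p-th power, and (x_α) a p-basis of B over A. Let E be an A-algebra and q : E → B a surjective
A-algebra homomorphism whose kernel K has K^p = 0. (i) q admits an A-algebra right inverse if and
only if, for all z ∈ E and a ∈ A with a ↦ q(z)^p in B, the image of a in E is z^p. (ii) When this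
holds, for every family (z_α) in E with q(z_α) = x_α there is a unique A-algebra homomorphism v : B
→ E with v(x_α) = z_α for all α, and q ∘ v is the identity. -/
theorem result (p : ℕ) [Fact p.Prime] {A B : Type u} [CommRing A] [CommRing B] [Algebra A B] [CharP B p]
    (hinj : Function.Injective (algebraMap A B)) (hpow : ∀ b : B, b ^ p ∈ Set.range (algebraMap A B))
    {ι : Type u} (x : ι → B) (hx : EGA41.IsPBasis p A x)
    {E : Type u} [CommRing E] [Algebra A E] (q : E →ₐ[A] B) (hq : Function.Surjective q) (hK : RingHom.ker q.toRingHom ^ p = ⊥) :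
    ((∃ v : B →ₐ[A] E, q.comp v = AlgHom.id A B) ↔ ∀ (z : E) (a : A), algebraMap A B a = q z ^ p → algebraMap A E a = z ^ p) ∧
    ((∀ (z : E) (a : A), algebraMap A B a = q z ^ p → algebraMap A E a = z ^ p) →
      ∀ z : ι → E, (∀ i, q (z i) = x i) →
        (∃! v : B →ₐ[A] E, ∀ i, v (x i) = z i) ∧ ∀ v : B →ₐ[A] E, (∀ i, v (x i) = z i) → q.comp v = AlgHom.id A B) := by
  have hp : p.Prime := Fact.out
  have hpE : (p : E) = 0 := by
    have h0 : (p : A) = 0 := hinj (by rw [map_natCast, map_zero, CharP.cast_eq_zero])
    rw [← map_natCast (algebraMap A E), h0, map_zero]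
  have hsub : ∀ (R : Type u) [CommRing R], (p : R) = 0 → ∀ x y : R, (x - y) ^ p = x ^ p - y ^ p := by
    intro R _ hR x y
    rcases subsingleton_or_nontrivial R with h | h
    · exact Subsingleton.elim _ _
    · have := ((CharP.charP_iff_prime_eq_zero hp).mpr hR : CharP R p)
      exact sub_pow_char (R := R) (p := p) x y
  refine ⟨⟨fun ⟨v, hv⟩ z a ha => ?_, fun h => ?_⟩, fun h z hz => ?_⟩
  · have h1 : z - v (q z) ∈ RingHom.ker q.toRingHom := by
      rw [RingHom.mem_ker, map_sub, sub_eq_zero]
      exact (AlgHom.congr_fun hv (q z)).symm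
    have h2 : (z - v (q z)) ^ p = 0 := by
      have h3 := Ideal.pow_mem_pow h1 p
      rwa [hK, Ideal.mem_bot] at h3
    rw [hsub E hpE, sub_eq_zero] at h2
    rw [h2, ← map_pow, ← ha, AlgHom.commutes]
  · choose z hz using fun i => hq (x i)
    obtain ⟨v, hv, -⟩ := PBasisLib.existsUnique_algHom p hinj hpow hx z
      (fun i a ha => h (z i) a (by rw [hz i]; exact ha))
    obtain ⟨w, -, huniq⟩ := PBasisLib.existsUnique_algHom p hinj hpow hx (E := B) x (fun i a ha => ha)
    exact ⟨v, (huniq _ fun i => by simp [hv, hz]).trans (huniq _ fun i => rfl).symm⟩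
  · refine ⟨PBasisLib.existsUnique_algHom p hinj hpow hx z (fun i a ha => h (z i) a (by rw [hz i]; exact ha)),
      fun v hv => ?_⟩
    obtain ⟨w, -, huniq⟩ := PBasisLib.existsUnique_algHom p hinj hpow hx (E := B) x (fun i a ha => ha)
    exact (huniq _ fun i => by simp [hv, hz]).trans (huniq _ fun i => rfl).symm

end Groth.Agent.S2464
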