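import Groth.Statements.S2465
import Mathlib
import Groth.Agent.PBasisLib.Root

set_option autoImplicit false
universe u
open EGA41

namespace Groth.Agent.S2465

/-- Let p be a prime, B a ring of characteristic p, A → B injective with image containing all p-th
powers, (x_α) a p-basis of B over A, and L a B-module. (i) An additive derivation D : A → L extends
to a derivation of B if and only if D vanishes on the elements of A mapping to p-th powers. (ii) In
that case, for every family (y_α) in L there is a unique derivation D' of B into L extending D with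
D'(x_α) = y_α for all α. -/
theorem result (p : ℕ) [Fact p.Prime] {A B : Type u} [CommRing A] [CommRing B] [Algebra A B] [CharP B p]
    (hinj : Function.Injective (algebraMap A B)) (hpow : ∀ b : B, b ^ p ∈ Set.range (algebraMap A B))
    {ι : Type u} (x : ι → B) (hx : EGA41.IsPBasis p A x)
    (L : Type u) [AddCommGroup L] [Module B L] [Module A L] [IsScalarTower A B L] (D : Derivation ℤ A L) :
    ((∃ D' : Derivation ℤ B L, ∀ a : A, D' (algebraMap A B a) = D a) ↔ ∀ (a : A) (b : B), algebraMap A B a = b ^ p → D a = 0) ∧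
    ((∀ (a : A) (b : B), algebraMap A B a = b ^ p → D a = 0) →
      ∀ y : ι → L, ∃! D' : Derivation ℤ B L, (∀ a : A, D' (algebraMap A B a) = D a) ∧ ∀ i, D' (x i) = y i) := by
  have hback : (∃ D' : Derivation ℤ B L, ∀ a : A, D' (algebraMap A B a) = D a) →
      ∀ (a : A) (b : B), algebraMap A B a = b ^ p → D a = 0 := by
    rintro ⟨D', hD'⟩ a b hab
    rw [← hD', hab]
    exact PBasisLib.derivation_pow p D' b
  have hex : (∀ (a : A) (b : B), algebraMap A B a = b ^ p → D a = 0) → ∀ y : ι → L,
      ∃! D' : Derivation ℤ B L, (∀ a : A, D' (algebraMap A B a) = D a) ∧ ∀ i, D' (x i) = y i := by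
    intro h y
    let e := PBasisLib.preHom p hinj hpow
    have he : ∀ c, algebraMap A B (e c) = c := PBasisLib.algebraMap_preHom p hinj hpow
    obtain ⟨D', hD'c, hD'x⟩ := PBasisLib.exists_derivation p hx (D.toLinearMap.toAddMonoidHom.comp e.toAddMonoidHom)
      (fun c d => by
        show D (e (c * d)) = (c : B) • D (e d) + (d : B) • D (e c)
        rw [map_mul, Derivation.leibniz, ← he c, ← he d, algebraMap_smul, algebraMap_smul])
      (fun i => h _ (x i) (he _)) y
    have hD'a : ∀ a : A, D' (algebraMap A B a) = D a := fun a => by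
      rw [hD'c ⟨_, Subalgebra.algebraMap_mem _ a⟩]
      show D (e _) = D a
      rw [show e _ = a from PBasisLib.preHom_algebraMap p hinj hpow a]
    refine ⟨D', ⟨hD'a, hD'x⟩, fun D'' hD'' => PBasisLib.derivation_ext p hx.2 (fun c => ?_) fun i => ?_⟩
    · rw [← he c, hD''.1, hD'a]
    · rw [hD''.2, hD'x]
  refine ⟨⟨hback, fun h => ?_⟩, hex⟩
  obtain ⟨D', ⟨hD', -⟩, -⟩ := hex h (fun _ => 0)
  exact ⟨D', hD'⟩

end Groth.Agent.S2465
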