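import Groth.Statements.S2470
import Groth.Agent.RegLocHomLib.Basic
import Groth.Agent.S0565
import Groth.Agent.CohenLib.RegularField

set_option autoImplicit false
universe u
open EGA41

namespace Groth.Agent.S2470

open IsLocalRing in
/-- Let A → B be a local homomorphism of Noetherian local rings with maximal ideals 𝔪, 𝔫 and residue
fields k, k', and let B₀ = B/𝔪B be the closed fibre. The following are equivalent: (a) B is regular
and the canonical map (𝔪/𝔪²) ⊗_k k' → 𝔫/𝔫² is injective — stated here through dimensions, as
rank_{k'} 𝔫/𝔫² = rank_k 𝔪/𝔪² + rank_{k'} of the cotangent space of B₀, which is equivalent since the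
cokernel of that map is the cotangent space of B₀; (c) B and B₀ are regular and B is flat over A;
(d) A and B₀ are regular and B is flat over A; (e) A and B₀ are regular and dim B = dim A + dim B₀.
(Condition (b) of the source, on regular systems of parameters, is not stated.) -/
theorem result {A B : Type u} [CommRing A] [IsLocalRing A] [IsNoetherianRing A] [CommRing B] [IsLocalRing B] [IsNoetherianRing B]
    [Algebra A B] [IsLocalHom (algebraMap A B)] [IsLocalRing (B ⧸ (maximalIdeal A).map (algebraMap A B))] :
    [IsRegularLocalRing B ∧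
       Module.finrank (ResidueField B) (CotangentSpace B) =
         Module.finrank (ResidueField A) (CotangentSpace A) +
           Module.finrank (ResidueField (B ⧸ (maximalIdeal A).map (algebraMap A B))) (CotangentSpace (B ⧸ (maximalIdeal A).map (algebraMap A B))),
     IsRegularLocalRing B ∧ IsRegularLocalRing (B ⧸ (maximalIdeal A).map (algebraMap A B)) ∧ Module.Flat A B,
     IsRegularLocalRing A ∧ IsRegularLocalRing (B ⧸ (maximalIdeal A).map (algebraMap A B)) ∧ Module.Flat A B,
     IsRegularLocalRing A ∧ IsRegularLocalRing (B ⧸ (maximalIdeal A).map (algebraMap A B)) ∧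
       ringKrullDim B = ringKrullDim A + ringKrullDim (B ⧸ (maximalIdeal A).map (algebraMap A B))].TFAE := by
  set F := B ⧸ (IsLocalRing.maximalIdeal A).map (algebraMap A B)
  haveI : IsNoetherianRing F := inferInstance
  obtain ⟨a, ha, hae⟩ := RegLocHomLib.exists_nat_dim A
  obtain ⟨b, hb, hbe⟩ := RegLocHomLib.exists_nat_dim B
  obtain ⟨c, hc, hce⟩ := RegLocHomLib.exists_nat_dim F
  have hle : b ≤ a + c := by
    have h : ringKrullDim B ≤ ringKrullDim A + ringKrullDim F := RegLocHomLib.dim_le A B
    rw [ha, hb, hc] at h
    exact_mod_cast h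
  have hse : (IsLocalRing.maximalIdeal B).spanFinrank ≤ (IsLocalRing.maximalIdeal A).spanFinrank + (IsLocalRing.maximalIdeal F).spanFinrank :=
    RegLocHomLib.spanFinrank_le A B
  have hcot : (Module.finrank (ResidueField B) (CotangentSpace B) =
         Module.finrank (ResidueField A) (CotangentSpace A) + Module.finrank (ResidueField F) (CotangentSpace F)) ↔
      (IsLocalRing.maximalIdeal B).spanFinrank = (IsLocalRing.maximalIdeal A).spanFinrank + (IsLocalRing.maximalIdeal F).spanFinrank := by
    simp only [← spanFinrank_maximalIdeal_eq_finrank_cotangentSpace]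
  have hdimeq : ∀ [Module.Flat A B], b = a + c := by
    intro _
    have h : ringKrullDim B = ringKrullDim A + ringKrullDim F := RegLocHomLib.dim_eq_of_flat A B
    rw [ha, hb, hc] at h
    exact_mod_cast h
  tfae_have 1 → 4 := by
    rintro ⟨hB, he⟩
    rw [RegLocHomLib.regular_iff_nat B hb] at hB
    rw [hcot] at he
    refine ⟨(RegLocHomLib.regular_iff_nat A ha).2 (by omega), (RegLocHomLib.regular_iff_nat F hc).2 (by omega), ?_⟩
    rw [ha, hb, hc]
    exact_mod_cast (show b = a + c by omega)
  tfae_have 4 → 2 := by
    rintro ⟨hA, hF, hd⟩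
    have hA' := (RegLocHomLib.regular_iff_nat A ha).1 hA
    have hF' := (RegLocHomLib.regular_iff_nat F hc).1 hF
    have hbac : b = a + c := by
      have h : ringKrullDim B = ringKrullDim A + ringKrullDim F := hd
      rw [ha, hb, hc] at h
      exact_mod_cast h
    haveI := hA
    haveI hB : IsRegularLocalRing B := (RegLocHomLib.regular_iff_nat B hb).2 (by omega)
    exact ⟨hB, hF, RegLocHomLib.flat_of_dim A B hd⟩
  tfae_have 2 → 3 := by
    rintro ⟨hB, hF, hfl⟩
    haveI := hB
    haveI := hfl
    exact ⟨Groth.Agent.S0565.result A B, hF, hfl⟩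
  tfae_have 3 → 1 := by
    rintro ⟨hA, hF, hfl⟩
    haveI := hA
    haveI := hF
    haveI := hfl
    have hB : IsRegularLocalRing B := CohenLib.isRegularLocalRing_of_flat_of_regular_fibre A B
    refine ⟨hB, hcot.2 ?_⟩
    rw [(RegLocHomLib.regular_iff_nat B hb).1 hB, (RegLocHomLib.regular_iff_nat A ha).1 hA,
      (RegLocHomLib.regular_iff_nat F hc).1 hF]
    exact hdimeq
  tfae_finish

end Groth.Agent.S2470
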