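import Groth.Statements.S2475
import Groth.Agent.SubfieldSepLib.Main
-- import your own Groth.Agent.* helpers here

set_option autoImplicit false
universe u
open EGA41

namespace Groth.Agent.S2475

/-- Let K be a field of characteristic p > 0, k₀ ⊆ K a subfield and (k_α) a decreasing filtered family
of subfields of K containing k₀. Then ⋂_α k_α(K^p) = k₀(K^p) if and only if the canonical map
Ω_{K/k₀} → lim_α Ω_{K/k_α} is injective (an element of Ω_{K/k₀} whose image in every Ω_{K/k_α}
vanishes is zero). (Conditions (b), (b') of the source, on admissible subfields, are not stated.) -/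
theorem result (p : ℕ) [Fact p.Prime] {k₀ K : Type u} [Field k₀] [Field K] [Algebra k₀ K] [CharP K p]
    {ι : Type u} [Preorder ι] [IsDirected ι (· ≤ ·)] [Nonempty ι] (k : ι → IntermediateField k₀ K) (hk : Antitone k) :
    (⨅ i, k i ⊔ IntermediateField.adjoin k₀ (Set.range fun y : K => y ^ p)) = IntermediateField.adjoin k₀ (Set.range fun y : K => y ^ p) ↔
      ∀ ω : Ω[K⁄k₀], (∀ i, KaehlerDifferential.map k₀ (k i) K K ω = 0) → ω = 0 := by
  classical
  let P := EGA41.pPowerSubalgebra p k₀ K
  let Q : IntermediateField k₀ K :=
    { P with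
      inv_mem' := fun y hy => by
        show y⁻¹ ∈ P
        rcases eq_or_ne y 0 with rfl | h0
        · rw [inv_zero]
          exact P.zero_mem
        · have h1 : y⁻¹ = y ^ (p - 1) * (y⁻¹) ^ p := by
            have hp := (Fact.out : p.Prime).pos
            rw [inv_pow, ← div_eq_mul_inv, eq_div_iff (pow_ne_zero p h0)]
            obtain ⟨q, rfl⟩ : ∃ q, p = q + 1 := ⟨p - 1, by omega⟩
            simp [pow_succ']
            field_simp
          rw [h1]
          exact P.mul_mem (P.pow_mem hy _) (Algebra.subset_adjoin ⟨_, rfl⟩) }
  have hQ : IntermediateField.adjoin k₀ (Set.range fun y : K => y ^ p) = Q :=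
    le_antisymm (IntermediateField.adjoin_le_iff.2 Algebra.subset_adjoin)
      fun y hy => IntermediateField.algebra_adjoin_le_adjoin k₀ _ hy
  rw [hQ]
  constructor
  · intro hint ω hω
    obtain ⟨T, -, -, hT⟩ := PBasisLib.exists_pBasis_between (A := k₀) (K := K) p Set.univ ∅ (Set.empty_subset _)
      (PBasisLib.isPGenerating_univ (K := K) p) (PBasisLib.setIndep_empty (K := K) p)
    obtain ⟨b, hb⟩ := PBasisLib.exists_basis_D p hT
    refine b.ext_elem fun t => ?_
    rw [map_zero, Finsupp.zero_apply]
    by_contra hne
    let s := (b.repr ω).support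
    have hxs : EGA41.IsPIndependent p k₀ (fun j : s => (j.1 : K)) := by
      rw [PBasisLib.isPIndependent_iff]
      have h1 := b.linearIndependent.comp (Subtype.val : s → T) Subtype.val_injective
      have h2 : (b ∘ (Subtype.val : s → T)) = fun j : s => KaehlerDifferential.D k₀ K (j.1 : K) :=
        funext fun j => hb j.1
      rwa [h2] at h1
    haveI : Finite {e : s →₀ ℕ // ∀ i, e i < p} :=
      Finite.of_injective (fun e i => (⟨e.1 i, e.2 i⟩ : Fin p)) fun e e' h =>
        Subtype.ext (Finsupp.ext fun i => congrArg Fin.val (congrFun h i))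
    haveI : Fintype {e : s →₀ ℕ // ∀ i, e i < p} := Fintype.ofFinite _
    let F : ι → Subfield K := fun i => (k i ⊔ Q).toSubfield
    have hF : Antitone F := fun i j hij => sup_le_sup_right (hk hij) Q
    obtain ⟨i, -, hi⟩ := SubfieldSepLib.exists_linearIndependent F hF
      (fun e : {e : s →₀ ℕ // ∀ i, e i < p} => EGA41.pMonomial (fun j : s => (j.1 : K)) e.1) Finset.univ
      (fun g hg hsum e _ => by
        have hg' : ∀ e, g e ∈ P := fun e => by
          have h1 : g e ∈ ⨅ i, F i := hg e (Finset.mem_univ e)
          have h2 : g e ∈ (⨅ i, k i ⊔ Q : IntermediateField k₀ K) := by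
            rw [← SetLike.mem_coe, IntermediateField.coe_iInf, Set.mem_iInter]
            exact fun i => Subfield.mem_iInf.1 h1 i
          rw [hint] at h2
          exact h2
        exact congrArg Subtype.val ((Fintype.linearIndependent_iff.1 hxs) (fun e => ⟨g e, hg' e⟩) hsum e))
      (Classical.arbitrary ι)
    have hind : EGA41.IsPIndependent p (k i) (fun j : s => (j.1 : K)) := by
      refine Fintype.linearIndependent_iff.2 fun g hsum e => ?_
      have hle : ∀ y ∈ EGA41.pPowerSubalgebra p (k i) K, y ∈ k i ⊔ Q := fun y hy => by
        induction hy using Algebra.adjoin_induction with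
        | mem z hz => exact SetLike.le_def.1 (le_sup_right (a := k i)) (Algebra.subset_adjoin hz)
        | algebraMap a => exact SetLike.le_def.1 (le_sup_left (b := Q)) a.2
        | add _ _ _ _ ha hb => exact add_mem ha hb
        | mul _ _ _ _ ha hb => exact mul_mem ha hb
      exact Subtype.ext (hi (fun e => (g e).1) (fun e _ => hle _ (g e).2) hsum e (Finset.mem_univ e))
    rw [PBasisLib.isPIndependent_iff] at hind
    have h0 := hω i
    rw [← b.linearCombination_repr ω, Finsupp.linearCombination_apply, map_finsuppSum, Finsupp.sum,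
      ← Finset.sum_coe_sort] at h0
    simp only [map_smul, hb, KaehlerDifferential.map_D, Algebra.algebraMap_self, RingHom.id_apply] at h0
    exact hne ((Fintype.linearIndependent_iff.1 hind) (fun j => b.repr ω j.1) h0 ⟨t, Finsupp.mem_support_iff.2 hne⟩)
  · intro h
    refine le_antisymm (fun x hx => ?_) (le_iInf fun i => le_sup_right)
    have hD : KaehlerDifferential.D k₀ K x = 0 := by
      refine h _ fun i => ?_
      rw [KaehlerDifferential.map_D, Algebra.algebraMap_self, RingHom.id_apply]
      let Z : IntermediateField k₀ K :=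
        { carrier := {y | KaehlerDifferential.D (k i) K y = 0}
          mul_mem' := fun {a b} (ha : _ = 0) (hb : _ = 0) => by
            show KaehlerDifferential.D (k i) K (a * b) = 0
            rw [Derivation.leibniz, ha, hb, smul_zero, smul_zero, add_zero]
          add_mem' := fun {a b} (ha : _ = 0) (hb : _ = 0) => by
            show KaehlerDifferential.D (k i) K (a + b) = 0
            rw [map_add, ha, hb, add_zero]
          algebraMap_mem' := fun c => by
            show KaehlerDifferential.D (k i) K (algebraMap k₀ K c) = 0
            rw [IsScalarTower.algebraMap_apply k₀ (k i) K, Derivation.map_algebraMap]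
          inv_mem' := fun a (ha : _ = 0) => by
            show KaehlerDifferential.D (k i) K a⁻¹ = 0
            rw [Derivation.leibniz_inv, ha, smul_zero] }
      have hle : k i ⊔ Q ≤ Z := by
        refine sup_le (fun y hy => ?_) (hQ ▸ IntermediateField.adjoin_le_iff.2 ?_)
        · exact Derivation.map_algebraMap (KaehlerDifferential.D (k i) K) (⟨y, hy⟩ : k i)
        · rintro _ ⟨y, rfl⟩
          show KaehlerDifferential.D (k i) K (y ^ p) = 0
          rw [Derivation.leibniz_pow, ← Nat.cast_smul_eq_nsmul K, CharP.cast_eq_zero, zero_smul]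
      exact hle ((iInf_le (fun j => k j ⊔ Q) i) hx)
    have h1 := PBasisLib.mem_adjoin_of_D_mem_span (A := k₀) p (∅ : Set K) (a := x) (by
      rw [hD]; exact Submodule.zero_mem _)
    rw [Algebra.adjoin_empty, Algebra.mem_bot] at h1
    obtain ⟨c, rfl⟩ := h1
    exact c.2

end Groth.Agent.S2475
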