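import Groth.Statements.S2477
import Groth.Agent.S2476
import Groth.Agent.CohenLib.DerExt
import Groth.Agent.ImperfLib.Section
import Mathlib.RingTheory.AlgebraicIndependent.Transcendental
-- import your own Groth.Agent.* helpers here

set_option autoImplicit false
universe u
open EGA41

namespace Groth.Agent.S2477

open IsLocalRing in
/-- Let k be a field and A = k[[T_1, …, T_r]] with its usual k-algebra structure. Then the adic
completion Ω̂_{A/k} of Ω_{A/k} is a free A-module of rank r. -/
theorem result (k : Type u) [Field k] (r : ℕ) :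
    Module.Finite (MvPowerSeries (Fin r) k) (AdicCompletion (maximalIdeal (MvPowerSeries (Fin r) k)) (Ω[MvPowerSeries (Fin r) k⁄k])) ∧
    Module.Free (MvPowerSeries (Fin r) k) (AdicCompletion (maximalIdeal (MvPowerSeries (Fin r) k)) (Ω[MvPowerSeries (Fin r) k⁄k])) ∧
      Module.finrank (MvPowerSeries (Fin r) k) (AdicCompletion (maximalIdeal (MvPowerSeries (Fin r) k)) (Ω[MvPowerSeries (Fin r) k⁄k])) = r := by
  haveI := CohenLib.isRegularLocalRing_mvPowerSeries k r
  have hres : ∀ f : MvPowerSeries (Fin r) k,
      residue (MvPowerSeries (Fin r) k) f = algebraMap k (ResidueField (MvPowerSeries (Fin r) k))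
        (MvPowerSeries.constantCoeff f) := fun f => by
    rw [IsScalarTower.algebraMap_apply k (MvPowerSeries (Fin r) k) (ResidueField (MvPowerSeries (Fin r) k))]
    refine Ideal.Quotient.eq.2 ((mem_maximalIdeal _).2 fun h => ?_)
    have h0 := (MvPowerSeries.isUnit_iff_constantCoeff).1 h
    rw [map_sub, MvPowerSeries.algebraMap_apply, MvPowerSeries.constantCoeff_C, Algebra.algebraMap_self,
      RingHom.id_apply, sub_self] at h0
    exact not_isUnit_zero h0
  have hfs := ImperfLib.adicFS_of_retraction (k := k) (A := MvPowerSeries (Fin r) k) MvPowerSeries.constantCoeff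
    (fun x => by rw [MvPowerSeries.algebraMap_apply, MvPowerSeries.constantCoeff_C]; rfl) hres
  have hsurj : Function.Surjective (algebraMap k (ResidueField (MvPowerSeries (Fin r) k))) := fun z => by
    obtain ⟨f, rfl⟩ := residue_surjective z
    exact ⟨_, (hres f).symm⟩
  haveI : Algebra.FiniteType k (ResidueField (MvPowerSeries (Fin r) k)) :=
    Algebra.FiniteType.of_surjective (Algebra.ofId k (ResidueField (MvPowerSeries (Fin r) k))) hsurj
  haveI : IsAdicComplete (maximalIdeal (MvPowerSeries (Fin r) k)) (MvPowerSeries (Fin r) k) := by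
    rw [CohenLib.maximalIdeal_mvPowerSeries_field]
    exact CohenLib.isAdicComplete_varsIdeal k (n := r)
  obtain ⟨h1, h2, h3⟩ := Groth.Agent.S2476.result hfs
  refine ⟨h1, h2, ?_⟩
  haveI : Algebra.IsAlgebraic k (ResidueField (MvPowerSeries (Fin r) k)) := ⟨fun z => by
    obtain ⟨c, rfl⟩ := hsurj z
    exact isAlgebraic_algebraMap c⟩
  rw [trdeg_eq_zero (R := k) (A := ResidueField (MvPowerSeries (Fin r) k)), map_zero,
    CohenLib.ringKrullDim_mvPowerSeries_field] at h3
  exact_mod_cast h3

end Groth.Agent.S2477
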