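import Groth.Statements.S2479
import Groth.Agent.ProConsLib.Range


-- import your own Groth.Agent.* helpers here

set_option autoImplicit false
universe u
open EGA41

namespace Groth.Agent.S2479

open AlgebraicGeometry CategoryTheory Topology in
/-- Let X be a quasi-compact and quasi-separated scheme and E ⊆ X. Then E = f(X') for some quasi-compact
morphism f : X' → X if and only if E is an intersection of a family of constructible subsets of X. -/
theorem result {X : Scheme.{u}} [CompactSpace X] [QuasiSeparatedSpace X] (E : Set X) :
    (∃ (X' : Scheme.{u}) (f : X' ⟶ X), QuasiCompact f ∧ Set.range f.base = E) ↔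
      ∃ S : Set (Set X), (∀ s ∈ S, IsConstructible s) ∧ E = ⋂₀ S := by
  open Groth.Agent.ProConsLib in
  focus
    constructor
    · rintro ⟨X', f, _, rfl⟩
      have h := isProConstructible_image f (E := Set.univ)
        (isProConstructible_of_isLocallyConstructible Topology.IsConstructible.univ.isLocallyConstructible)
      rw [Set.image_univ] at h
      exact ⟨_, fun s hs => hs.1, eq_sInter_of_isClosed_cons (isProConstructible_iff_isClosed_cons.1 h)⟩
    · rintro ⟨S, hS, rfl⟩
      obtain ⟨X', f, hX', hf⟩ := exists_range_eq_of_isProConstructible X (isProConstructible_iff_isClosed_cons.2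
        (@isClosed_sInter _ (constructibleTopology _) S fun s hs => (isClopen_cons_of_isConstructible (hS s hs)).1))
      exact ⟨X', f, inferInstance, hf⟩

end Groth.Agent.S2479
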