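import Groth.Statements.S2481
import Groth.Agent.AdicFSLib.LiftTests
import Groth.Agent.AdicFSLib.LiftUnique
-- import your own Groth.Agent.* helpers here

set_option autoImplicit false
universe u
open EGA41

namespace Groth.Agent.S2481

open IsLocalRing in
/-- Let A → B be a local homomorphism of Noetherian local rings with the adic topologies, K the residue
field of B. Then B is formally smooth over A if and only if: for every Artinian local ring C with a
local homomorphism A → C, every nilpotent ideal J of C and every local A-algebra homomorphism u : B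
→ C/J inducing a bijection of residue fields (so that C has residue field K and u induces the
identity on it), u is induced by a local A-algebra homomorphism B → C. -/
theorem result {A B : Type u} [CommRing A] [IsLocalRing A] [IsNoetherianRing A] [CommRing B] [IsLocalRing B] [IsNoetherianRing B]
    [Algebra A B] [IsLocalHom (algebraMap A B)] :
    EGA41.IsFormallySmoothAdic A (maximalIdeal A) B (maximalIdeal B) ↔
      ∀ (C : Type u) [CommRing C] [IsLocalRing C] [IsArtinianRing C] [Algebra A C] [IsLocalHom (algebraMap A C)]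
        (J : Ideal C), IsNilpotent J → ∀ [IsLocalRing (C ⧸ J)] (u : B →ₐ[A] C ⧸ J) [IsLocalHom u.toRingHom],
        Function.Bijective (ResidueField.map u.toRingHom) →
        ∃ f : B →ₐ[A] C, IsLocalHom f.toRingHom ∧ (Ideal.Quotient.mkₐ A J).comp f = u := by
  refine ⟨fun h C _ _ _ _ _ J hJ _ u _ _ => ?_, fun H => ?_⟩
  · have hn : ∃ n : ℕ, IsLocalRing.maximalIdeal C ^ n = ⊥ := ((isArtinianRing_iff_isNilpotent_maximalIdeal _).1 inferInstance)
    obtain ⟨k, hk⟩ := hn
    have hA : (IsLocalRing.maximalIdeal A).map (algebraMap A C) ≤ IsLocalRing.maximalIdeal C :=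
      IsLocalRing.map_maximalIdeal_le _
    obtain ⟨v, hv⟩ := h C J hJ ⟨k, by rw [Ideal.map_pow, eq_bot_iff, ← hk]; exact Ideal.pow_right_mono hA k⟩
      u (AdicFSLib.exists_pow_kill J ⟨k, hk⟩ u)
    refine ⟨v, ⟨fun b hb => ?_⟩, hv⟩
    refine isUnit_of_map_unit u.toRingHom b ?_
    have h1 : IsUnit (Ideal.Quotient.mk J (v b)) := hb.map _
    rwa [show Ideal.Quotient.mk J (v b) = u b from AlgHom.congr_fun hv b] at h1
  · refine (AdicFSLib.formallySmoothAdic_iff (A := A) (B := B)).2 (AdicFSLib.adicFS_of_smallLift ?_)
    refine AdicFSLib.smallLift_of_localLift fun C _ _ _ _ _ J hJ _ _ u _ hu => ?_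
    obtain ⟨f, -, hf⟩ := H C J ⟨2, hJ⟩ u hu
    exact ⟨f, hf⟩

end Groth.Agent.S2481
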