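import Groth.Statements.S2482
import Groth.Agent.CohenLib.CohenAlgebra
-- import your own Groth.Agent.* helpers here

set_option autoImplicit false
universe u
open EGA41

namespace Groth.Agent.S2482

open IsLocalRing in
/-- (a) ⟹ (b): let A, B be complete discrete valuation rings and u : A → B a ring homomorphism with
u(𝔪_A)B = 𝔪_B, such that the residue field L of B is separable over the residue field K of A. Then
for every complete discrete valuation ring B', every homomorphism u' : A → B' with u'(𝔪_A)B' =
𝔪_{B'} and every isomorphism σ of residue fields L ≅ L' compatible with the maps from K, there is an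
isomorphism w : B ≅ B' with u' = w ∘ u inducing σ on residue fields. -/
theorem result {A B B' : Type u} [CommRing A] [IsDomain A] [IsDiscreteValuationRing A] [IsAdicComplete (maximalIdeal A) A]
    [CommRing B] [IsDomain B] [IsDiscreteValuationRing B] [IsAdicComplete (maximalIdeal B) B]
    [CommRing B'] [IsDomain B'] [IsDiscreteValuationRing B'] [IsAdicComplete (maximalIdeal B') B']
    (u : A →+* B) [IsLocalHom u] (hu : (maximalIdeal A).map u = maximalIdeal B)
    (hsep : letI := (ResidueField.map u).toAlgebra; Algebra.IsGeometricallyReduced (ResidueField A) (ResidueField B))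
    (u' : A →+* B') [IsLocalHom u'] (hu' : (maximalIdeal A).map u' = maximalIdeal B')
    (σ : ResidueField B ≃+* ResidueField B') (hσ : (σ : ResidueField B →+* ResidueField B').comp (ResidueField.map u) = ResidueField.map u') :
    ∃ w : B ≃+* B', (w : B →+* B').comp u = u' ∧ ∀ b : B, residue B' (w b) = σ (residue B b) := by
  letI := u.toAlgebra
  letI := u'.toAlgebra
  haveI : IsLocalHom (algebraMap A B) := ‹IsLocalHom u›
  haveI : IsLocalHom (algebraMap A B') := ‹IsLocalHom u'›
  haveI : Algebra.IsGeometricallyReduced (ResidueField A) (ResidueField B) := by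
    convert hsep using 1
    exact Algebra.algebra_ext _ _ fun x => by
      obtain ⟨a, rfl⟩ := residue_surjective x
      rfl
  have huinj : Function.Injective u := by
    rw [injective_iff_map_eq_zero]
    intro a ha
    obtain ⟨π, hπ⟩ := IsDiscreteValuationRing.exists_irreducible A
    by_contra ha0
    obtain ⟨n, c, rfl⟩ := IsDiscreteValuationRing.eq_unit_mul_pow_irreducible ha0 hπ
    rw [map_mul, map_pow] at ha
    have h1 : u π = 0 := pow_eq_zero_iff'.1 ((mul_eq_zero.1 ha).resolve_left (c.isUnit.map u).ne_zero) |>.1
    refine IsDiscreteValuationRing.not_a_field B ?_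
    rw [← hu, hπ.maximalIdeal_eq, Ideal.map_span, Set.image_singleton, h1, Ideal.span_singleton_zero]
  have hflat : Module.Flat A B := by
    haveI : IsDedekindDomain A := inferInstance
    rw [IsDedekindDomain.flat_iff_torsion_eq_bot, eq_bot_iff]
    rintro b ⟨⟨a, ha⟩, hb⟩
    refine (mul_eq_zero.1 ((Algebra.smul_def a b).symm.trans hb)).resolve_left ?_
    exact (map_ne_zero_iff u huinj).2 (nonZeroDivisors.ne_zero ha)
  let eA : ResidueField B →ₐ[A] ResidueField B' :=
    { (σ : ResidueField B →+* ResidueField B') with
      commutes' := fun a => RingHom.congr_fun hσ (residue A a) }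
  let r : B →ₐ[A] ResidueField B := { residue B with commutes' := fun a => rfl }
  obtain ⟨v, hv⟩ := CohenLib.exists_lift_of_formallySmoothAdic (B' := B')
    (CohenLib.isFormallySmoothAdic_of_cohen (A := A) (B := B) hflat hu) (eA.comp r) fun x hx => by
      show σ (residue B x) = 0
      rw [(residue_eq_zero_iff _).2 hx, map_zero]
  have hvs : Function.Surjective v := by
    refine CohenLib.surjective_of_complete (maximalIdeal B') (maximalIdeal B) v.toRingHom ?_ fun x => ?_
    · rw [← hu, Ideal.map_map, show v.toRingHom.comp u = u' from RingHom.ext v.commutes, hu']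
    · obtain ⟨y, hy⟩ := residue_surjective (σ.symm (residue B' x))
      refine ⟨y, ?_⟩
      rw [← residue_eq_zero_iff, map_sub, show residue B' (v.toRingHom y) = σ (residue B y) from hv y, hy,
        σ.apply_symm_apply, sub_self]
  have hvi : Function.Injective v := by
    rw [injective_iff_map_eq_zero]
    intro b hb
    by_contra hb0
    obtain ⟨p, hp⟩ := IsDiscreteValuationRing.exists_irreducible B
    obtain ⟨n, c, rfl⟩ := IsDiscreteValuationRing.eq_unit_mul_pow_irreducible hb0 hp
    rw [map_mul, map_pow] at hb
    have h1 : v p = 0 := pow_eq_zero_iff'.1 ((mul_eq_zero.1 hb).resolve_left (c.isUnit.map v).ne_zero) |>.1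
    refine IsDiscreteValuationRing.not_a_field B' ?_
    rw [← hu', ← show v.toRingHom.comp u = u' from RingHom.ext v.commutes, ← Ideal.map_map, hu, hp.maximalIdeal_eq,
      Ideal.map_span, Set.image_singleton, show v.toRingHom p = 0 from h1, Ideal.span_singleton_zero]
  exact ⟨RingEquiv.ofBijective v.toRingHom ⟨hvi, hvs⟩, RingHom.ext v.commutes, fun b => hv b⟩

end Groth.Agent.S2482
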