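import Groth.Statements.S2486
import Mathlib
import Groth.Agent.PBasisLib.Root

set_option autoImplicit false
universe u
open EGA41

namespace Groth.Agent.S2486

/-- Let p be a prime, B an A-algebra of characteristic p and (x_α) a family of elements of B. Then (a) B
is generated as an A[B^p]-algebra by the x_α if and only if (b) (x_α) is a system of p-generators of
B over A; these imply (c) Ω_{B/A} is generated by the d x_α; and if B is an A[B^p]-algebra of finite
type, (c) implies (a). -/
theorem result (p : ℕ) [Fact p.Prime] {A B : Type u} [CommRing A] [CommRing B] [Algebra A B] [CharP B p]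
    {ι : Type u} (x : ι → B) :
    (Algebra.adjoin (EGA41.pPowerSubalgebra p A B) (Set.range x) = ⊤ ↔ EGA41.IsPGenerating p A x) ∧
    (EGA41.IsPGenerating p A x → Submodule.span B (Set.range fun i => KaehlerDifferential.D A B (x i)) = ⊤) ∧
    (Algebra.FiniteType (EGA41.pPowerSubalgebra p A B) B →
      Submodule.span B (Set.range fun i => KaehlerDifferential.D A B (x i)) = ⊤ → EGA41.IsPGenerating p A x) := by
  refine ⟨(PBasisLib.isPGenerating_iff p x).symm, PBasisLib.span_D_eq_top p, fun hft hspan => ?_⟩
  rw [PBasisLib.isPGenerating_iff]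
  let P := EGA41.pPowerSubalgebra p A B
  let C := Algebra.adjoin P (Set.range x)
  have hsub : ∀ b : B, KaehlerDifferential.D C B b = 0 := by
    intro b
    let φ : Ω[B⁄A] →ₗ[B] Ω[B⁄C] := ((KaehlerDifferential.D C B).restrictScalars A).liftKaehlerDifferential
    have hφ : φ = 0 := by
      refine LinearMap.ext_on hspan ?_
      rintro _ ⟨i, rfl⟩
      rw [Derivation.liftKaehlerDifferential_comp_D, LinearMap.zero_apply]
      exact (KaehlerDifferential.D C B).map_algebraMap ⟨x i, Algebra.subset_adjoin ⟨i, rfl⟩⟩
    have h := ((KaehlerDifferential.D C B).restrictScalars A).liftKaehlerDifferential_comp_D b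
    change φ _ = _ at h
    rw [hφ] at h
    exact h.symm
  have : Subsingleton Ω[B⁄C] := by
    refine subsingleton_of_forall_eq 0 fun w => ?_
    have hw : w ∈ Submodule.span B (Set.range (KaehlerDifferential.D C B)) := by
      rw [KaehlerDifferential.span_range_derivation]; trivial
    refine (Submodule.mem_bot B).mp (Submodule.span_le.mpr ?_ hw)
    rintro _ ⟨b, rfl⟩
    exact (Submodule.mem_bot B).mpr (hsub b)
  have : Algebra.FormallyUnramified C B := ⟨this⟩
  have : Algebra.FiniteType C B := Algebra.FiniteType.of_restrictScalars_finiteType P C B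
  refine eq_top_iff.mpr fun b _ => ?_
  obtain ⟨c, hc⟩ := PBasisLib.surjective_of_formallyUnramified p (A := C) (B := B) 1
    (fun b => ⟨algebraMap P C ⟨_, PBasisLib.pow_mem_pPow p b⟩, by
      rw [← IsScalarTower.algebraMap_apply, pow_one]; rfl⟩) b
  exact hc ▸ c.2

end Groth.Agent.S2486
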