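import Groth.Statements.S2487
import Groth.Agent.AdicFSLib.LiftUnique
-- import your own Groth.Agent.* helpers here

set_option autoImplicit false
universe u
open EGA41

namespace Groth.Agent.S2487

open IsLocalRing TensorProduct in
/-- Let A be a Noetherian local ring, J an ideal contained in the maximal ideal, A₀ = A/J, and B₀ a
complete Noetherian local ring with a local homomorphism A₀ → B₀ making B₀ formally smooth over A₀
(adic topologies). Then (existence) there are a complete Noetherian local ring B, a local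
homomorphism A → B making B a flat A-module, and an A₀-algebra isomorphism u : A₀ ⊗_A B ≅ B₀;
(uniqueness) if (B', u') is another such pair, there is an A-algebra isomorphism v : B ≅ B' with u'
∘ (1 ⊗ v) = u. -/
theorem result {A : Type u} [CommRing A] [IsLocalRing A] [IsNoetherianRing A]
    (J : Ideal A) (hJ : J ≤ maximalIdeal A) [IsLocalRing (A ⧸ J)]
    (B₀ : Type u) [CommRing B₀] [IsLocalRing B₀] [IsNoetherianRing B₀] [IsAdicComplete (maximalIdeal B₀) B₀]
    [Algebra (A ⧸ J) B₀] [IsLocalHom (algebraMap (A ⧸ J) B₀)]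
    (hfs : EGA41.IsFormallySmoothAdic (A ⧸ J) (maximalIdeal (A ⧸ J)) B₀ (maximalIdeal B₀)) :
    (∃ (B : Type u) (_ : CommRing B) (_ : IsLocalRing B) (_ : IsNoetherianRing B) (_ : Algebra A B) (_ : IsLocalHom (algebraMap A B)),
      IsAdicComplete (maximalIdeal B) B ∧ Module.Flat A B ∧ Nonempty ((A ⧸ J) ⊗[A] B ≃ₐ[A ⧸ J] B₀)) ∧
    ∀ (B B' : Type u) [CommRing B] [IsLocalRing B] [IsNoetherianRing B] [Algebra A B] [IsLocalHom (algebraMap A B)]
      [CommRing B'] [IsLocalRing B'] [IsNoetherianRing B'] [Algebra A B'] [IsLocalHom (algebraMap A B')],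
      IsAdicComplete (maximalIdeal B) B → Module.Flat A B → IsAdicComplete (maximalIdeal B') B' → Module.Flat A B' →
      ∀ (u : (A ⧸ J) ⊗[A] B ≃ₐ[A ⧸ J] B₀) (u' : (A ⧸ J) ⊗[A] B' ≃ₐ[A ⧸ J] B₀),
      ∃ v : B ≃ₐ[A] B', (u' : (A ⧸ J) ⊗[A] B' →ₐ[A ⧸ J] B₀).comp
          (Algebra.TensorProduct.map (AlgHom.id (A ⧸ J) (A ⧸ J)) (v : B →ₐ[A] B')) = (u : (A ⧸ J) ⊗[A] B →ₐ[A ⧸ J] B₀) := by
  have h0 := AdicFSLib.formallySmoothAdic_iff.1 hfs
  have hgeo := AdicFSLib.isGeometricallyRegular_fibre_of_adicFS h0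
  constructor
  · -- existence
    obtain ⟨K, _, d, ⟨e⟩⟩ := AdicFSLib.exists_fibre_powerSeries h0
    let F := (maximalIdeal (A ⧸ J)).Fiber B₀
    let Ah := GeomRedFibLib.Hat A
    haveI := GeomRedFibLib.isNoetherianRing_cpl A
    haveI := GeomRedFibLib.faithfullyFlat_hat A
    haveI := AdicFSLib.isLocalRing_fibre (A ⧸ J) B₀
    let m := maximalIdeal A
    have hmJ : ∀ a ∈ m, Ideal.Quotient.mk J a ∈ maximalIdeal (A ⧸ J) := fun a ha => by
      rw [← IsLocalRing.map_maximalIdeal_of_surjective (Ideal.Quotient.mk J) Ideal.Quotient.mk_surjective]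
      exact Ideal.mem_map_of_mem _ ha
    let θ₀ : A →+* MvPowerSeries (Fin d) K := e.toRingHom.comp ((algebraMap (A ⧸ J) F).comp (Ideal.Quotient.mk J))
    have hθ₀ : ∀ a ∈ m, θ₀ a = 0 := fun a ha => by
      show e (algebraMap (A ⧸ J) F (Ideal.Quotient.mk J a)) = 0
      rw [IsScalarTower.algebraMap_apply (A ⧸ J) (maximalIdeal (A ⧸ J)).ResidueField,
        Ideal.algebraMap_residueField_eq_zero.2 (hmJ a ha), map_zero, map_zero]
    let θ : Ah →+* MvPowerSeries (Fin d) K :=
      (Ideal.Quotient.lift m θ₀ hθ₀).comp (AdicCompletion.evalOneₐ m).toRingHom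
    have hθA : ∀ a, θ (algebraMap A Ah a) = θ₀ a := fun a => by
      show Ideal.Quotient.lift m θ₀ hθ₀ (AdicCompletion.evalOneₐ m (algebraMap A Ah a)) = _
      rw [AlgHom.commutes]
      exact Ideal.Quotient.lift_mk _ _ _
    have hθ : ∀ x ∈ maximalIdeal Ah, θ x = 0 := fun x hx => by
      rw [AdicCompletion.maximalIdeal_eq_map] at hx
      have h1 : x ∈ RingHom.ker θ := (Ideal.map_le_iff_le_comap.2 fun a ha => by
        show θ (algebraMap A Ah a) = 0
        rw [hθA, hθ₀ a ha]) hx
      exact h1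
    obtain ⟨C, _, _, _, g, hNC, hcC, hflat, hloc, hg, hgθ, hkg⟩ := AdicFSLib.exists_flat_lift θ hθ
    haveI := hflat
    haveI := hloc
    letI : Algebra A C := ((algebraMap Ah C).comp (algebraMap A Ah)).toAlgebra
    haveI : IsScalarTower A Ah C := .of_algebraMap_eq fun _ => rfl
    haveI : Module.Flat A C := Module.Flat.trans A Ah C
    haveI : IsLocalHom (algebraMap A C) := RingHom.isLocalHom_comp (algebraMap Ah C) (algebraMap A Ah)
    haveI := hcC
    let C₀ := TensorProduct A (A ⧸ J) C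
    obtain ⟨q, hq, hkq, hqb⟩ := AdicFSLib.exists_toQuotientBaseChange (B := C) J
    have hJC : J.map (algebraMap A C) ≤ maximalIdeal C :=
      (Ideal.map_mono hJ).trans (IsLocalRing.map_maximalIdeal_le _)
    haveI : Nontrivial (C ⧸ J.map (algebraMap A C)) :=
      Ideal.Quotient.nontrivial_iff.2 (ne_top_of_le_ne_top (maximalIdeal.isMaximal C).ne_top hJC)
    haveI : IsLocalRing (C ⧸ J.map (algebraMap A C)) := IsLocalRing.of_surjective' _ Ideal.Quotient.mk_surjective
    let ε : (C ⧸ J.map (algebraMap A C)) ≃+* C₀ :=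
      (Algebra.TensorProduct.quotIdealMapEquivQuotTensor C J).toRingEquiv
    haveI : IsLocalRing C₀ := ε.isLocalRing
    haveI : IsNoetherianRing C₀ := isNoetherianRing_of_surjective C C₀ q.toRingHom hq
    haveI : IsAdicComplete (maximalIdeal C₀) C₀ := by
      have h1 := NormalLib.isAdicComplete_quotient_local (R := C) (J.map (algebraMap A C))
      rw [← IsAdicComplete.congr_ringEquiv _ ε] at h1
      rwa [IsLocalRing.map_ringEquiv_maximalIdeal] at h1
    haveI : IsLocalHom (algebraMap (A ⧸ J) C₀) := ⟨fun x hx => by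
      obtain ⟨x, rfl⟩ := Ideal.Quotient.mk_surjective x
      haveI : IsLocalHom q.toRingHom := IsLocalHom.of_surjective _ hq
      have h1 : algebraMap (A ⧸ J) C₀ (Ideal.Quotient.mk J x) = q.toRingHom (algebraMap A C x) :=
        (q.commutes x).symm
      rw [h1] at hx
      exact (((isUnit_map_iff (algebraMap A C) x).1 ((isUnit_map_iff q.toRingHom _).1 hx))).map _⟩
    let gA : C →ₐ[A] F :=
      { e.symm.toRingHom.comp g with
        commutes' := fun a => by
          show e.symm (g (algebraMap Ah C (algebraMap A Ah a))) = _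
          rw [← RingHom.comp_apply g, hgθ, hθA]
          exact e.symm_apply_apply _ }
    let gC : C₀ →ₐ[A ⧸ J] F := Algebra.TensorProduct.lift (Algebra.ofId (A ⧸ J) F) gA fun _ _ => Commute.all _ _
    have hgC1 : ∀ c, gC (q c) = e.symm (g c) := fun c => by
      rw [hqb]
      refine (Algebra.TensorProduct.lift_tmul (Algebra.ofId (A ⧸ J) F) gA (fun _ _ => Commute.all _ _) 1 c).trans ?_
      rw [map_one, one_mul]
      rfl
    have hgC : Function.Surjective gC := fun z => by
      obtain ⟨c, hc⟩ := (e.symm.surjective.comp hg) z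
      exact ⟨q c, (hgC1 c).trans hc⟩
    have hkC : RingHom.ker gC = (maximalIdeal (A ⧸ J)).map (algebraMap (A ⧸ J) C₀) := by
      refine le_antisymm (fun z hz => ?_) (Ideal.map_le_iff_le_comap.2 fun x hx => ?_)
      · obtain ⟨c, rfl⟩ := hq z
        have h1 : g c = 0 := e.symm.injective (((hgC1 c).symm.trans (RingHom.mem_ker.1 hz)).trans (map_zero e.symm).symm)
        have h2 : c ∈ m.map (algebraMap A C) := by
          have h3 : c ∈ (maximalIdeal Ah).map (algebraMap Ah C) := hkg ▸ RingHom.mem_ker.2 h1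
          rwa [AdicCompletion.maximalIdeal_eq_map, Ideal.map_map] at h3
        have h4 := Ideal.mem_map_of_mem q.toRingHom h2
        rw [Ideal.map_map, show q.toRingHom.comp (algebraMap A C) =
          (algebraMap (A ⧸ J) C₀).comp (Ideal.Quotient.mk J) from RingHom.ext fun a => q.commutes a,
          ← Ideal.map_map, IsLocalRing.map_maximalIdeal_of_surjective _ Ideal.Quotient.mk_surjective] at h4
        exact h4
      · show gC (algebraMap (A ⧸ J) C₀ x) = 0
        rw [gC.commutes, IsScalarTower.algebraMap_apply (A ⧸ J) (maximalIdeal (A ⧸ J)).ResidueField,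
          Ideal.algebraMap_residueField_eq_zero.2 hx, map_zero]
    obtain ⟨E, -⟩ := AdicFSLib.exists_equiv_of_adicFS h0 (AdicFSLib.toFibre (A ⧸ J) B₀)
      (AdicFSLib.toFibre_surjective _ _) (AdicFSLib.ker_toFibre _ _) gC hgC hkC
    exact ⟨C, inferInstance, inferInstance, hNC, inferInstance, inferInstance, hcC, inferInstance, ⟨E.symm⟩⟩
  · -- uniqueness
    intro B B' _ _ _ _ _ _ _ _ _ _ hcB hflB hcB' hflB' u u'
    haveI := hcB
    haveI := hflB
    haveI := hcB'
    haveI := hflB'
    have hfsB : CAlgX.IsAdicFormallySmooth A B (maximalIdeal B) := by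
      refine AdicFSLib.adicFS_of_flat ((GeomRedFibLib.isGeometricallyRegular_fiber_iff u (maximalIdeal A)
        (maximalIdeal (A ⧸ J)) (RingHom.surjectiveOnStalks_of_surjective Ideal.Quotient.mk_surjective) ?_).1 hgeo)
      exact (IsLocalRing.eq_maximalIdeal
        (Ideal.comap_isMaximal_of_surjective (algebraMap A (A ⧸ J)) Ideal.Quotient.mk_surjective)).symm
    obtain ⟨q, hq, hkq, hqb⟩ := AdicFSLib.exists_toQuotientBaseChange (B := B) J
    obtain ⟨q', hq', hkq', hqb'⟩ := AdicFSLib.exists_toQuotientBaseChange (B := B') J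
    letI : Algebra A B₀ := ((algebraMap (A ⧸ J) B₀).comp (algebraMap A (A ⧸ J))).toAlgebra
    haveI : IsScalarTower A (A ⧸ J) B₀ := .of_algebraMap_eq fun _ => rfl
    let gB : B →ₐ[A] B₀ := (u.restrictScalars A).toAlgHom.comp q
    let gB' : B' →ₐ[A] B₀ := (u'.restrictScalars A).toAlgHom.comp q'
    have hgB : Function.Surjective gB := u.surjective.comp hq
    have hgB' : Function.Surjective gB' := u'.surjective.comp hq'
    have hkB : RingHom.ker gB = J.map (algebraMap A B) := by
      rw [← hkq]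
      exact Ideal.ext fun x => by
        rw [RingHom.mem_ker, RingHom.mem_ker]
        exact u.map_eq_zero_iff
    have hkB' : RingHom.ker gB' = J.map (algebraMap A B') := by
      rw [← hkq']
      exact Ideal.ext fun x => by
        rw [RingHom.mem_ker, RingHom.mem_ker]
        exact u'.map_eq_zero_iff
    haveI : Nontrivial (B' ⧸ RingHom.ker gB') := Ideal.Quotient.nontrivial_iff.2 (RingHom.ker_ne_top gB')
    haveI : IsLocalRing (B' ⧸ RingHom.ker gB') := IsLocalRing.of_surjective' _ Ideal.Quotient.mk_surjective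
    let w : B →ₐ[A] B' ⧸ RingHom.ker gB' := (Ideal.quotientKerAlgEquivOfSurjective hgB').symm.toAlgHom.comp gB
    have hw : Function.Surjective w := (Ideal.quotientKerAlgEquivOfSurjective hgB').symm.surjective.comp hgB
    obtain ⟨v, hv, hvw⟩ := Groth.Agent.S2462.result ⊥ (maximalIdeal B)
      ((CohenLib.isFormallySmoothAdic_bot_iff _).1 hfsB) (C := B') (by simp) (RingHom.ker gB')
      (RingHom.ker_ne_top gB') w
      (by rw [IsLocalRing.map_maximalIdeal_of_surjective _ hw,
        IsLocalRing.map_maximalIdeal_of_surjective _ Ideal.Quotient.mk_surjective])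
    have hgv : ∀ x, gB' (v x) = gB x := fun x => by
      have h1 := congrArg (Ideal.quotientKerAlgEquivOfSurjective hgB') (AlgHom.congr_fun hvw x)
      exact h1.trans ((Ideal.quotientKerAlgEquivOfSurjective hgB').apply_symm_apply _)
    let V : B ≃ₐ[A] B' := AlgEquiv.ofBijective v
      (AdicFSLib.bijective_of_mod_bijective J hJ gB hgB hkB gB' hgB' hkB' v hv hgv)
    refine ⟨V, Algebra.TensorProduct.ext' fun x b => ?_⟩
    show u' (x ⊗ₜ v b) = u (x ⊗ₜ b)
    have h1 : u' (1 ⊗ₜ v b) = u (1 ⊗ₜ b) := by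
      rw [← hqb, ← hqb']
      exact hgv b
    rw [show x ⊗ₜ[A] v b = x • ((1 : A ⧸ J) ⊗ₜ[A] v b) by rw [TensorProduct.smul_tmul', smul_eq_mul, mul_one],
      show x ⊗ₜ[A] b = x • ((1 : A ⧸ J) ⊗ₜ[A] b) by rw [TensorProduct.smul_tmul', smul_eq_mul, mul_one],
      map_smul, map_smul, h1]

end Groth.Agent.S2487
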