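import Groth.Statements.S2553
import Groth.Agent.GeomPtIntLib.Open
import Groth.Agent.S5935
import Groth.Agent.S2280

set_option autoImplicit false
set_option backward.isDefEq.respectTransparency false
set_option backward.isDefEq.respectTransparency.types false
open CategoryTheory AlgebraicGeometry
universe u
open EGA43

namespace Groth.Agent.S2553
theorem isOpen_all {X Y : Scheme.{u}} (f : X ⟶ Y) [IsProper f] [Flat f] [LocallyOfFinitePresentation f] :
    IsOpen {y : Y | ∀ x : ↥(f.fiber y), FBase.IsGeomPtIntegralAt (f.fiberToSpecResidueField y) x} := by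
  have hset : {y : Y | ∀ x : ↥(f.fiber y), FBase.IsGeomPtIntegralAt (f.fiberToSpecResidueField y) x} =
      (f '' {x : X | GeomPtIntLib.GP f x}ᶜ)ᶜ := by
    ext y
    constructor
    · rintro h ⟨x, hx, rfl⟩
      exact hx (h (f.asFiber x))
    · intro h b
      refine (GeomPtIntLib.gp_iff_fiber f y b).1 ?_
      by_contra hb
      exact h ⟨f.fiberι y b, hb, (f.range_fiberι y).le ⟨b, rfl⟩⟩
  rw [hset]
  exact (f.isClosedMap _ (GeomPtIntLib.isOpen_gp f).isClosed_compl).isOpen_compl

theorem gi_fiber {X Y : Scheme.{u}} (f : X ⟶ Y) [LocallyOfFiniteType f] (y : Y)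
    (hn : MoreMor.nGeomConnComp f y = 1)
    (hgp : ∀ x : ↥(f.fiber y), FBase.IsGeomPtIntegralAt (f.fiberToSpecResidueField y) x) :
    GeometricallyIntegral (f.fiberToSpecResidueField y) := by
  haveI : ObjectProperty.IsClosedUnderIsomorphisms (IsIntegral : ObjectProperty Scheme.{u}) := ⟨fun e h => by
    haveI : IsIntegral _ := h
    haveI : Nonempty _ := e.inv.homeomorph.toEquiv.nonempty
    exact isIntegral_of_isOpenImmersion e.inv⟩
  let fk : f.fiber y ⟶ Spec (CommRingCat.of (Y.residueField y)) := f.fiberToSpecResidueField y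
  haveI : LocallyOfFiniteType fk := MorphismProperty.pullback_snd _ _ inferInstance
  suffices GeometricallyIntegral fk from this
  refine ⟨geometrically_iff_of_commRing_of_isClosedUnderIsomorphisms.mpr fun K _ _ => ?_⟩
  let sK := Spec.map (CommRingCat.ofHom (algebraMap (Y.residueField y) K))
  letI : Algebra (IsLocalRing.ResidueField ↑(Y.presheaf.stalk y)) K := ‹Algebra (Y.residueField y) K›
  haveI : IsLocallyNoetherian (Limits.pullback fk sK) := LocallyOfFiniteType.isLocallyNoetherian (Limits.pullback.snd fk sK)
  refine (Groth.Agent.S2280.result (Limits.pullback fk sK)).2.2 ⟨?_, fun x' => hgp _ K x' rfl⟩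
  let Ω := AlgebraicClosure K
  let t := Spec.map (CommRingCat.ofHom (algebraMap K Ω))
  let p : Spec (CommRingCat.of Ω) ⟶ Y := t ≫ sK ≫ Y.fromSpecResidueField y
  have hp : p (IsLocalRing.closedPoint Ω) = y := by
    show Y.fromSpecResidueField y _ = y
    exact Scheme.fromSpecResidueField_apply _ _
  have hc := (GISpreadLib.sameComp_geomFiber f Ω p y hp).2
  let e : Limits.pullback f p ≅ Limits.pullback fk (t ≫ sK) :=
    Limits.pullback.congrHom rfl (Category.assoc _ _ _).symm ≪≫ (Limits.pullbackLeftPullbackSndIso f (Y.fromSpecResidueField y) (t ≫ sK)).symm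
  have h1 : ENat.card (_root_.ConnectedComponents ↥(Limits.pullback f p)) = 1 := hc.trans hn
  rw [ENat.card_eq_one_iff_unique] at h1
  obtain ⟨hu⟩ := h1
  have hsub : Subsingleton (_root_.ConnectedComponents ↥(Limits.pullback f p)) := @Unique.instSubsingleton _ hu
  let c := hu.default
  revert hsub
  generalize c = c
  intro hsub
  obtain ⟨a, rfl⟩ := ConnectedComponents.surjective_coe c
  have : PreconnectedSpace ↥(Limits.pullback f p) := ⟨by
    rw [show (Set.univ : Set ↥(Limits.pullback f p)) = connectedComponent a from
      (Set.eq_univ_of_forall fun b => ConnectedComponents.coe_eq_coe'.1 (hsub.elim _ _)).symm]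
    exact isPreconnected_connectedComponent⟩
  haveI : ConnectedSpace ↥(Limits.pullback f p) := { toNonempty := ⟨a⟩ }
  let m : Limits.pullback fk (t ≫ sK) ⟶ Limits.pullback fk sK :=
    Limits.pullback.map _ _ _ _ (𝟙 _) t (𝟙 _) (by simp) (by simp)
  have hm : IsPullback m (Limits.pullback.snd fk (t ≫ sK)) (Limits.pullback.snd fk sK) t := by
    refine IsPullback.of_right ?_ (Limits.pullback.lift_snd _ _ _) (IsPullback.of_hasPullback fk sK)
    rw [show m ≫ Limits.pullback.fst fk sK = Limits.pullback.fst fk (t ≫ sK) from
      (Limits.pullback.lift_fst _ _ _).trans (Category.comp_id _)]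
    exact IsPullback.of_hasPullback fk _
  haveI : Surjective m := MorphismProperty.of_isPullback hm.flip inferInstance
  exact Function.Surjective.connectedSpace (f := (e.hom ≫ m)) (e.hom ≫ m).surjective (e.hom ≫ m).continuous

/-- Let f : X ⟶ Y be proper, flat and locally of finite presentation. The set of points y of Y whose
fibre is geometrically integral over the residue field of y is open in Y. -/
theorem result {X Y : Scheme.{u}} (f : X ⟶ Y) [IsProper f]
    [Flat f] [LocallyOfFinitePresentation f] :
    IsOpen {y : Y | GeometricallyIntegral (f.fiberToSpecResidueField y)} := by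
  have heq : {y : Y | GeometricallyIntegral (f.fiberToSpecResidueField y)} =
      {y : Y | GeometricallyReduced (f.fiberToSpecResidueField y) ∧ MoreMor.nGeomConnComp f y = ((1 : ℕ) : ℕ∞)} ∩
        {y : Y | ∀ x : ↥(f.fiber y), FBase.IsGeomPtIntegralAt (f.fiberToSpecResidueField y) x} := by
    ext y
    constructor
    · intro h
      haveI : GeometricallyIntegral (f.fiberToSpecResidueField y) := h
      refine ⟨⟨inferInstance, ?_⟩, fun x K _ _ x' _ => ?_⟩
      · haveI : IsIntegral (MoreMor.geomFiber f y) :=
          GeometricallyIntegral.geometrically_isIntegral (f := f.fiberToSpecResidueField y) _ _ _ (IsPullback.of_hasPullback _ _)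
        show ENat.card (_root_.ConnectedComponents ↥(MoreMor.geomFiber f y)) = _
        rw [Nat.cast_one, ENat.card_eq_one_iff_unique]
        exact ⟨uniqueOfSubsingleton (ConnectedComponents.mk (genericPoint ↥(MoreMor.geomFiber f y)))⟩
      · haveI : IsIntegral (FBase.bc (f.fiberToSpecResidueField y) K) :=
          GeometricallyIntegral.geometrically_isIntegral (f := f.fiberToSpecResidueField y) _ _ _ (IsPullback.of_hasPullback _ _)
        infer_instance
    · rintro ⟨⟨-, hn⟩, hgp⟩
      exact gi_fiber f y (by simpa using hn) hgp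
  rw [heq]
  exact (Groth.Agent.S5935.result f 1 le_rfl).inter (isOpen_all f)

end Groth.Agent.S2553
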