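import Groth.Statements.S2555
import Mathlib
import Groth.Agent.DepthLib.SkOpen
-- import your own Groth.Agent.* helpers here

set_option autoImplicit false
open CategoryTheory AlgebraicGeometry
universe u
open EGA43

namespace Groth.Agent.S2555

/-- Let f : X ⟶ Y be proper, flat and locally of finite presentation and k ≥ 1. The set of points y of Y
such that every local ring of the fibre X_y satisfies Serre's condition (S_k) is open in Y. -/
theorem result {X Y : Scheme.{u}} (f : X ⟶ Y) [IsProper f]
    [Flat f] [LocallyOfFinitePresentation f] (k : ℕ) (hk : 1 ≤ k) :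
    IsOpen {y : Y | ∀ x : ↥(f.fiber y), LocCoh.HasSk k ((f.fiber y).presheaf.stalk x) ((f.fiber y).presheaf.stalk x)} := by
  let E : Set X := {x : X | (f.stalkMap x).hom.Flat ∧
    LocCoh.HasSk k ((f.fiber (f.base x)).presheaf.stalk (f.asFiber x))
      ((f.fiber (f.base x)).presheaf.stalk (f.asFiber x))}
  have hE : IsOpen E := DepthLib.isOpen_flat_hasSk_fibre f k
  have key : ∀ (s : Y) (z : f.fiber s), f.fiberι s z ∈ E ↔
      LocCoh.HasSk k ((f.fiber s).presheaf.stalk z) ((f.fiber s).presheaf.stalk z) := by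
    intro s z
    have hs : f (f.fiberι s z) = s := (f.range_fiberι s).le ⟨z, rfl⟩
    generalize hx : f.fiberι s z = x at hs ⊢
    subst hs
    obtain rfl : z = f.asFiber x := (f.fiberι (f x)).isEmbedding.injective (by rw [hx, f.fiberι_asFiber])
    exact ⟨fun h => h.2, fun h => ⟨Flat.stalkMap f x, h⟩⟩
  have heq : {y : Y | ∀ x : ↥(f.fiber y), LocCoh.HasSk k ((f.fiber y).presheaf.stalk x) ((f.fiber y).presheaf.stalk x)} =
      (f '' Eᶜ)ᶜ := by
    ext s
    simp only [Set.mem_setOf_eq, Set.mem_compl_iff, Set.mem_image, not_exists, not_and]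
    refine ⟨fun h x hx hxs => ?_, fun h z => ?_⟩
    · obtain ⟨z, rfl⟩ : x ∈ Set.range (f.fiberι s) := by rw [f.range_fiberι]; exact hxs
      exact hx ((key s z).2 (h z))
    · exact (key s z).1 (by_contra fun hz => h _ hz ((f.range_fiberι s).le ⟨z, rfl⟩))
  rw [heq]
  exact (f.isClosedMap _ hE.isClosed_compl).isOpen_compl

end Groth.Agent.S2555
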