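import Groth.Statements.S4938
import Mathlib
import Groth.Agent.UOpenLib.Chevalley
import Groth.Agent.S3404

set_option autoImplicit false
open CategoryTheory AlgebraicGeometry
universe u v w
open EGA43

namespace Groth.Agent.S4938

/-- Let Y be a locally Noetherian scheme, f : X ⟶ Y a morphism locally of finite type, and y a
geometrically unibranch point of Y, lying on the unique irreducible component Y₀ of Y with generic
point η. The following are equivalent: a) f is universally open at every point of X_y; b) every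
point x of X_y lies on an irreducible component Z of X dominating Y₀ with dim_x(Z ∩ X_y) = dim(Z ∩
X_η); b'') for every open subset U of X, dim(U ∩ X_η) ≥ dim(U ∩ X_y); c) f is open at every point of
X_y. (The published statement assumes Y locally Noetherian only for c) and also lists b′), the
pointwise form of b″) (for every x in X_y and every open U ∋ x, dim(U ∩ X_η) ≥ dim_x(U ∩ X_y)); over
the spectrum of an infinite product of copies of a field, the inclusion of a non-open closed point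
satisfies b) and b″) but not a), so this row takes Y locally Noetherian throughout, and b′) is not
listed.) -/
theorem result {X Y : Scheme.{u}} [IsLocallyNoetherian Y] (f : X ⟶ Y)
    [LocallyOfFiniteType f] (y : Y) (hy : CAlg2.IsGeomUnibranch (Y.presheaf.stalk y)) :
    List.TFAE [∀ x : X, f.base x = y → EGA43.IsUnivOpenAt f x,
      ∀ x : X, f.base x = y → ∀ Y₀ ∈ irreducibleComponents (Y : Type u), y ∈ Y₀ →
        ∃ Z ∈ irreducibleComponents (X : Type u), ∃ hx : x ∈ Z, closure (f.base '' Z) = Y₀ ∧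
          ∀ η : Y, closure ({η} : Set Y) = Y₀ →
            FlatMor.localDim ↥(Z ∩ f.base ⁻¹' {f.base x}) ⟨x, ⟨hx, rfl⟩⟩ = topologicalKrullDim ↥(Z ∩ f.base ⁻¹' {η}),
      ∀ U : X.Opens, ∀ Y₀ ∈ irreducibleComponents (Y : Type u), y ∈ Y₀ → ∀ η : Y, closure ({η} : Set Y) = Y₀ →
        topologicalKrullDim ↥((U : Set X) ∩ f.base ⁻¹' {y}) ≤ topologicalKrullDim ↥((U : Set X) ∩ f.base ⁻¹' {η}),
      ∀ x : X, f.base x = y → EGA43.IsOpenAt f.base x] := by
  have hgenY : ∀ Y₀ ∈ irreducibleComponents (Y : Type u), ∃ η : Y, IsGenericPoint η Y₀ := fun Y₀ hY₀ => by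
    have hgen := (hY₀.1 : IsIrreducible Y₀).isGenericPoint_genericPoint_closure
    rw [closure_eq_iff_isClosed.mpr (isClosed_of_mem_irreducibleComponents _ hY₀)] at hgen
    exact ⟨_, hgen⟩
  tfae_have 1 → 4 := fun h x hx => by
    exact UOpenLib.IsUnivOpenAt.isOpenAt (h x hx) (CategoryTheory.IsPullback.id_horiz f).flip.flip x rfl
  tfae_have 4 → 2 := fun h x hx Y₀ hY₀ hyY₀ => by
    subst hx
    obtain ⟨η₀, hgen⟩ := hgenY Y₀ hY₀
    obtain ⟨x₀, hx₀g, hx₀, hmax, hx₀d⟩ := UOpenLib.exists_max_fibreDimAt f x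
    obtain ⟨ζ, hζ, hζη, hd⟩ := UOpenLib.exists_generization_of_lift f hmax
      (hx₀g.symm ▸ hgen.specializes hyY₀)
      (fun z _ hz => (Groth.Agent.S3404.result f x₀).1 (h x₀ hx₀g) z hz)
    have hc : closure {f.base ζ} = Y₀ := by rw [hζη]; exact hgen.def
    rw [UOpenLib.fibreDimAt_eq_of_max f hmax, hx₀d] at hd
    obtain ⟨Z, hZ, hxZ, hdom, hdims⟩ := UOpenLib.exists_component_of_generization f hx₀ hx₀g hx₀d
      hζ (hc.symm ▸ hY₀) hd
    exact ⟨Z, hZ, hxZ, hdom.trans hc, fun η hη => (hdims η (hη.trans hc.symm)).2⟩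
  tfae_have 2 → 1 := fun h x hx => by
    subst hx
    obtain ⟨x₀, hx₀g, hx₀, hmax, -⟩ := UOpenLib.exists_max_fibreDimAt f x
    refine UOpenLib.isUnivOpenAt_of_specializes f hx₀ hx₀g ?_
    exact UOpenLib.isUnivOpenAt_of_component f x₀ hmax (hx₀g.symm ▸ hy)
      (fun Y₀ hY₀ hy₀ => h x₀ hx₀g Y₀ hY₀ (hx₀g ▸ hy₀))
  tfae_have 1 → 3 := fun h U Y₀ hY₀ hyY₀ η hη => by
    refine UOpenLib.le_of_forall_nat_le fun n hn => ?_
    obtain ⟨x₀, hx₀U, hx₀y, hmax, hd⟩ := UOpenLib.exists_max_of_le_dim_inter f U y hn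
    obtain ⟨ζ, hζ, hζη, hd'⟩ := UOpenLib.exists_generization_of_isUnivOpenAt f hmax (h x₀ hx₀y) (y₁ := η)
      (specializes_iff_mem_closure.mpr (by rw [hη, hx₀y]; exact hyY₀))
    rw [UOpenLib.fibreDimAt_eq_of_max f hmax] at hd'
    subst hζη
    exact UOpenLib.le_dim_inter_of_le_fibreClosureDim f U (hζ.mem_open U.isOpen hx₀U) (hd.trans hd')
  tfae_have 3 → 2 := fun h x hx Y₀ hY₀ hyY₀ => by
    subst hx
    obtain ⟨η₀, hgen⟩ := hgenY Y₀ hY₀
    obtain ⟨x₀, hx₀g, hx₀, hmax, hx₀d⟩ := UOpenLib.exists_max_fibreDimAt f x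
    obtain ⟨n, hn⟩ := UOpenLib.exists_fibreDimAt_eq_nat f x
    obtain ⟨ζ, hζ, hζη, hd⟩ := UOpenLib.exists_generization_of_dim f x₀ (η := η₀) (n := n)
      (fun U hU => by
        refine le_trans ?_ (h U Y₀ hY₀ hyY₀ η₀ hgen.def)
        have := UOpenLib.le_dim_inter_of_le_fibreClosureDim f U hU (hx₀d.trans hn).ge
        rwa [hx₀g] at this)
    have hc : closure {f.base ζ} = Y₀ := by rw [hζη]; exact hgen.def
    obtain ⟨Z, hZ, hxZ, hdom, hdims⟩ := UOpenLib.exists_component_of_generization f hx₀ hx₀g hx₀d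
      hζ (hc.symm ▸ hY₀) (hn.symm ▸ hd)
    exact ⟨Z, hZ, hxZ, hdom.trans hc, fun η hη => (hdims η (hη.trans hc.symm)).2⟩
  tfae_finish

end Groth.Agent.S4938
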