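import Groth.Statements.S2556
import Mathlib
import Groth.Agent.S4938
import Groth.Agent.UOpenLib.Basic

set_option autoImplicit false
open CategoryTheory AlgebraicGeometry
universe u
open EGA43

namespace Groth.Agent.S2556

/-- Suppose Y is a locally Noetherian scheme whose local rings are all geometrically unibranch, and f :
X ⟶ Y is locally of finite type. Then f is universally open exactly when its underlying map of
spaces is open. -/
theorem result {X Y : Scheme.{u}} [IsLocallyNoetherian Y]
    (hY : ∀ y : Y, CAlg2.IsGeomUnibranch (Y.presheaf.stalk y)) (f : X ⟶ Y) [LocallyOfFiniteType f] :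
    UniversallyOpen f ↔ IsOpenMap f.base := by
  refine ⟨fun h => f.isOpenMap, fun h => ⟨fun P Y' i₁ g f' sq => ?_⟩⟩
  show IsOpenMap f'.base
  intro U hU
  rw [isOpen_iff_mem_nhds]
  rintro _ ⟨w, hw, rfl⟩
  have hu : EGA43.IsUnivOpenAt f (i₁ w) :=
    ((Groth.Agent.S4938.result f (f (i₁ w)) (hY _)).out 3 0 rfl rfl).mp
      (fun x _ V hV => h.image_mem_nhds hV) _ rfl
  exact UOpenLib.IsUnivOpenAt.isOpenAt hu sq.flip w rfl U (hU.mem_nhds hw)

end Groth.Agent.S2556
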