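import Groth.Statements.S2557
import Mathlib
import Groth.Agent.UOpenLib.FiniteCriterion
import Groth.Agent.UOpenLib.Chevalley

set_option autoImplicit false
open CategoryTheory AlgebraicGeometry
universe u
open EGA43

namespace Groth.Agent.S2557

open CategoryTheory.Limits in
/-- Let Y be a Noetherian scheme and f : X ⟶ Y locally of finite type. Then f is universally open if and
only if, for every finite morphism Y₁ ⟶ Y, the base change X ×_Y Y₁ ⟶ Y₁ is an open map. -/
theorem result {X Y : Scheme.{u}} [IsNoetherian Y] (f : X ⟶ Y)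
    [LocallyOfFiniteType f] :
    UniversallyOpen f ↔
      ∀ (Y₁ : Scheme.{u}) (g : Y₁ ⟶ Y) [IsFinite g], IsOpenMap (pullback.snd f g).base := by
  constructor
  · intro h Y₁ g _
    have : UniversallyOpen (pullback.snd f g) := MorphismProperty.pullback_snd _ _ h
    exact (pullback.snd f g).isOpenMap
  · intro h
    refine ⟨fun P Y' i₁ k f' sq W hW ↦ isOpen_iff_mem_nhds.mpr ?_⟩
    rintro _ ⟨w, hw, rfl⟩
    refine UOpenLib.IsUnivOpenAt.isOpenAt (f := f) (x := i₁.base w) ?_ sq.flip w rfl W (hW.mem_nhds hw)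
    generalize i₁.base w = x
    obtain ⟨x₀, hx₀, hsp, hmax, -⟩ := UOpenLib.exists_max_fibreDimAt f x
    exact UOpenLib.isUnivOpenAt_of_specializes f hsp hx₀ (UOpenLib.isUnivOpenAt_of_finite f x₀ hmax
      fun Y' g _ x' _ U hU ↦ (h Y' g).image_mem_nhds hU)

end Groth.Agent.S2557
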