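import Groth.Statements.S2558
import Groth.Agent.MiscFlat6.OpenAffineSpace

set_option autoImplicit false
open CategoryTheory AlgebraicGeometry
universe u
open EGA43

namespace Groth.Agent.S2558

open CategoryTheory.Limits in
/-- If components of base changes along finite type irreducible schemes dominate, base changes to affine
spaces are open. -/
theorem isOpenMap_affineSpaceMap {X Y : Scheme.{u}} (f : X ⟶ Y) [LocallyOfFinitePresentation f]
    (h : ∀ (Y' : Scheme.{u}) (g : Y' ⟶ Y) [IrreducibleSpace Y'] [LocallyOfFiniteType g] [QuasiCompact g],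
      ∀ Z ∈ irreducibleComponents (↥(pullback f g) : Type u), Dense ((pullback.snd f g).base '' Z))
    (n : ℕ) : IsOpenMap ⇑(AffineSpace.map (ULift.{u} (Fin n)) f) := by
  have hsq := AffineSpace.isPullback_map (n := ULift.{u} (Fin n)) f
  set F := AffineSpace.map (ULift.{u} (Fin n)) f with hF
  haveI : LocallyOfFinitePresentation F := MorphismProperty.of_isPullback hsq.flip inferInstance
  refine isOpenMap_of_generalizingMap F ?_
  intro x y' hy'
  let W := 𝔸(ULift.{u} (Fin n); Y)
  let C : TopologicalSpace.Closeds W := ⟨closure {y'}, isClosed_closure⟩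
  let I := Scheme.IdealSheafData.vanishingIdeal C
  have hrange : Set.range I.subschemeι = closure {y'} := by
    rw [Scheme.IdealSheafData.range_subschemeι, Scheme.IdealSheafData.coe_support_vanishingIdeal]
    rfl
  obtain ⟨η, hη⟩ : y' ∈ Set.range I.subschemeι := hrange ▸ subset_closure rfl
  haveI : IrreducibleSpace I.subscheme := by
    haveI : Nonempty I.subscheme := ⟨η⟩
    have hgen : closure ({η} : Set I.subscheme) = Set.univ := by
      rw [I.subschemeι.isClosedEmbedding.isEmbedding.closure_eq_preimage_closure_image, Set.image_singleton, hη,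
        ← hrange, Set.preimage_range]
    exact { toNonempty := ⟨η⟩, toPreirreducibleSpace := ⟨hgen ▸ isPreirreducible_singleton.closure⟩ }
  let g : I.subscheme ⟶ Y := I.subschemeι ≫ (W ↘ Y)
  have hbig : IsPullback (pullback.fst F I.subschemeι ≫ (𝔸(ULift.{u} (Fin n); X) ↘ X))
      (pullback.snd F I.subschemeι) f g :=
    (IsPullback.of_hasPullback F I.subschemeι).paste_horiz hsq.flip
  let p := hbig.isoPullback.inv ≫ pullback.fst F I.subschemeι
  have hp : p ≫ F = pullback.snd f g ≫ I.subschemeι := by
    rw [Category.assoc, pullback.condition, hbig.isoPullback_inv_snd_assoc]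
  obtain ⟨z, hz⟩ : F x ∈ Set.range I.subschemeι := hrange ▸ specializes_iff_mem_closure.mp hy'
  obtain ⟨w₀, hw₀, -⟩ := Scheme.exists_preimage_of_isPullback (IsPullback.of_hasPullback F I.subschemeι) x z hz.symm
  let w := hbig.isoPullback.hom.base w₀
  have hw : p w = x := by
    show (hbig.isoPullback.hom ≫ hbig.isoPullback.inv ≫ pullback.fst F I.subschemeι).base w₀ = x
    rw [Iso.hom_inv_id_assoc]; exact hw₀
  let ξ := (isIrreducible_irreducibleComponent (x := w)).genericPoint
  have hξ : IsGenericPoint ξ (irreducibleComponent w) :=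
    isIrreducible_irreducibleComponent.isGenericPoint_genericPoint isClosed_irreducibleComponent
  have hd := h I.subscheme g _ (irreducibleComponent_mem_irreducibleComponents w)
  refine ⟨p ξ, ?_, ?_⟩
  · rw [← hw]
    exact (hξ.specializes mem_irreducibleComponent).map p.continuous
  · have h1 : (pullback.snd f g).base ξ ⤳ η := by
      have hs : (pullback.snd f g).base '' irreducibleComponent w ⊆ closure {(pullback.snd f g).base ξ} := by
        rw [← hξ.def]
        exact (image_closure_subset_closure_image (pullback.snd f g).continuous).trans (by rw [Set.image_singleton])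
      exact specializes_iff_mem_closure.mpr (closure_minimal hs isClosed_closure (hd η))
    have h2 := h1.map I.subschemeι.continuous
    rw [hη, ← Scheme.Hom.comp_apply, ← hp, Scheme.Hom.comp_apply] at h2
    have h3 : y' ⤳ F (p ξ) := by
      rw [specializes_iff_mem_closure, ← hrange, ← Scheme.Hom.comp_apply, hp]
      exact ⟨_, rfl⟩
    exact (h2.antisymm h3).eq

open CategoryTheory.Limits in
/-- Let f : X ⟶ Y be locally of finite presentation. Suppose that for every irreducible scheme Y' and
every morphism of finite type g : Y' ⟶ Y, each irreducible component of X ×_Y Y' has dense image in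
Y'. Then f is universally open. -/
theorem result {X Y : Scheme.{u}} (f : X ⟶ Y) [LocallyOfFinitePresentation f]
    (h : ∀ (Y' : Scheme.{u}) (g : Y' ⟶ Y) [IrreducibleSpace Y'] [LocallyOfFiniteType g] [QuasiCompact g],
      ∀ Z ∈ irreducibleComponents (↥(pullback f g) : Type u), Dense ((pullback.snd f g).base '' Z)) :
    UniversallyOpen f := by
  refine (IsZariskiLocalAtTarget.iff_of_iSup_eq_top (P := @UniversallyOpen) _ (iSup_affineOpens_eq_top Y)).mpr
    fun V => ?_
  refine (IsZariskiLocalAtSource.iff_of_iSup_eq_top (P := @UniversallyOpen) _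
    (iSup_affineOpens_eq_top (f ⁻¹ᵁ V.1).toScheme)).mpr fun U => ?_
  let j : U.1.toScheme ⟶ X := U.1.ι ≫ (f ⁻¹ᵁ V.1).ι
  have hj : j ≫ f = (U.1.ι ≫ (f ∣_ V.1)) ≫ V.1.ι := by
    rw [Category.assoc, Category.assoc, morphismRestrict_ι]
  haveI : IsAffine U.1.toScheme := U.2
  haveI : IsAffine V.1.toScheme := V.2
  let m := U.1.ι ≫ (f ∣_ V.1)
  have e : Arrow.mk m ≅ Arrow.mk (Spec.map m.appTop) :=
    Arrow.isoMk U.1.toScheme.isoSpec V.1.toScheme.isoSpec (Scheme.isoSpec_hom_naturality m)
  refine (MorphismProperty.arrow_mk_iso_iff @UniversallyOpen e).mpr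
    (MiscFlat6.universallyOpen_SpecMap _ fun n => ?_)
  let σ := ULift.{u} (Fin n)
  have hm : IsOpenMap ⇑(AffineSpace.map σ m) := by
    have h1 : IsOpenMap ⇑(AffineSpace.map σ j ≫ AffineSpace.map σ f) := by
      haveI : IsOpenImmersion (AffineSpace.map σ j) :=
        MorphismProperty.of_isPullback (AffineSpace.isPullback_map j).flip inferInstance
      exact (isOpenMap_affineSpaceMap f h n).comp (AffineSpace.map σ j).isOpenEmbedding.isOpenMap
    rw [← AffineSpace.map_comp, hj, AffineSpace.map_comp] at h1
    haveI : IsOpenImmersion (AffineSpace.map σ V.1.ι) :=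
      MorphismProperty.of_isPullback (AffineSpace.isPullback_map V.1.ι).flip inferInstance
    intro O hO
    have h2 := h1 O hO
    rw [Scheme.Hom.comp_base, TopCat.coe_comp, Set.image_comp] at h2
    exact (AffineSpace.map σ V.1.ι).isOpenEmbedding.isOpen_iff_image_isOpen.mpr h2
  haveI : ∀ {S T : Scheme.{u}} (g : S ⟶ T) [IsIso g], IsIso (AffineSpace.map σ g) := fun g _ =>
    MorphismProperty.of_isPullback (P := MorphismProperty.isomorphisms Scheme.{u}) (AffineSpace.isPullback_map g).flip
      (MorphismProperty.isomorphisms.infer_property g)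
  have e' : Arrow.mk (AffineSpace.map σ m) ≅ Arrow.mk (AffineSpace.map σ (Spec.map m.appTop)) :=
    Arrow.isoMk (asIso (AffineSpace.map σ U.1.toScheme.isoSpec.hom)) (asIso (AffineSpace.map σ V.1.toScheme.isoSpec.hom))
      (by show AffineSpace.map σ _ ≫ AffineSpace.map σ _ = AffineSpace.map σ _ ≫ AffineSpace.map σ _
          rw [← AffineSpace.map_comp, ← AffineSpace.map_comp, Scheme.isoSpec_hom_naturality])
  exact ((topologically IsOpenMap).arrow_mk_iso_iff e').mp hm

end Groth.Agent.S2558
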