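import Groth.Statements.S2559
import Groth.Agent.EquidimLib.DimBetween
import Groth.Agent.S3404
import Groth.Agent.S9501
import Mathlib
-- import your own Groth.Agent.* helpers here

set_option autoImplicit false
open CategoryTheory AlgebraicGeometry
universe u
open EGA43

namespace Groth.Agent.S2559

open IsLocalRing EquidimLib

theorem dim_stalk_eq_add {X Y : Scheme.{u}} [IsLocallyNoetherian X] [IsLocallyNoetherian Y] (f : X ⟶ Y) (s : Y)
    (w : f.fiber s)
    (h : ∀ z : X, f.base z = f.base (f.fiberι s w) → z ⤳ f.fiberι s w → IsFibreMax f z →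
      ∀ y' : Y, y' ⤳ f.base z → ∃ z' : X, z' ⤳ z ∧ f.base z' = y') :
    ringKrullDim (X.presheaf.stalk (f.fiberι s w)) =
      ringKrullDim (Y.presheaf.stalk (f (f.fiberι s w))) + ringKrullDim ((f.fiber s).presheaf.stalk w) := by
  obtain ⟨hsurj, hker⟩ := Groth.Agent.S9501.result f s w
  let x := f.fiberι s w
  let A := Y.presheaf.stalk (f x)
  let B := X.presheaf.stalk x
  let φ : A →+* B := (f.stalkMap x).hom
  let J : Ideal B := (maximalIdeal A).map φ
  let e := (RingHom.quotientKerEquivOfSurjective hsurj).symm.trans (Ideal.quotEquivOfEq hker)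
  rw [ringKrullDim_eq_of_ringEquiv e]
  change ringKrullDim B = ringKrullDim A + ringKrullDim (B ⧸ J)
  letI : Algebra A B := φ.toAlgebra
  have hloc : (maximalIdeal B).comap φ = maximalIdeal A :=
    ((IsLocalRing.local_hom_TFAE φ).out 0 4 rfl rfl).mp (inferInstanceAs (IsLocalHom (f.stalkMap x).hom))
  haveI : (maximalIdeal B).LiesOver (maximalIdeal A) := ⟨hloc.symm⟩
  have hJ : J ≤ maximalIdeal B := Ideal.map_le_iff_le_comap.mpr hloc.ge
  refine le_antisymm ?_ ?_
  · have h1 := WithBot.coe_le_coe.mpr (Ideal.height_le_height_add_of_liesOver (maximalIdeal A) (maximalIdeal B))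
    rw [WithBot.coe_add, IsLocalRing.maximalIdeal_height_eq_ringKrullDim,
      IsLocalRing.maximalIdeal_height_eq_ringKrullDim] at h1
    refine h1.trans (add_le_add le_rfl (Ideal.height_le_ringKrullDim_of_ne_top ?_))
    exact (Ideal.map_isPrime_of_surjective Ideal.Quotient.mk_surjective (by rwa [Ideal.mk_ker])).ne_top
  · haveI : Nontrivial (B ⧸ J) := Ideal.Quotient.nontrivial_iff.mpr fun e =>
      (maximalIdeal.isMaximal B).ne_top (top_le_iff.mp (e.ge.trans hJ))
    haveI : IsLocalRing (B ⧸ J) := IsLocalRing.of_surjective' _ Ideal.Quotient.mk_surjective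
    obtain ⟨P, hPmin, hPle, hP⟩ := FibDimLib.exists_minimal_height_eq (S := B ⧸ J) (closedPoint _)
    let q : PrimeSpectrum B := PrimeSpectrum.comap (Ideal.Quotient.mk J) P
    let z := stalkPt x q
    have hjk : ∀ p : PrimeSpectrum B, f.base (stalkPt x p) = (Y.fromSpecStalk (f x)) (PrimeSpectrum.comap φ p) :=
      fun p => (congrArg (fun m : Spec B ⟶ Y => m.base p) (Scheme.SpecMap_stalkMap_fromSpecStalk f (x := x))).symm
    have hzf : ∀ p : PrimeSpectrum B, J ≤ p.asIdeal → f.base (stalkPt x p) = f.base x := fun p hp => by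
      have hc : PrimeSpectrum.comap φ p = closedPoint A := PrimeSpectrum.ext
        (le_antisymm (le_maximalIdeal (p.isPrime.comap _).ne_top) (Ideal.map_le_iff_le_comap.mp hp))
      refine (hjk p).trans ?_
      rw [hc]
      exact Scheme.fromSpecStalk_closedPoint
    have hqJ : J ≤ q.asIdeal := fun b hb => by
      show Ideal.Quotient.mk J b ∈ P.asIdeal
      rw [Ideal.Quotient.eq_zero_iff_mem.mpr hb]
      exact P.asIdeal.zero_mem
    have hzx : z ⤳ x := stalkPt_specializes x q
    have hmax : IsFibreMax f z := fun z' hz' hsp => by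
      have hsp' : z' ⤳ z := specializes_iff_mem_closure.mpr hsp
      obtain ⟨p, rfl⟩ := exists_stalkPt (hsp'.trans hzx)
      have hpq : p ≤ q := le_of_stalkPt hsp'
      have hpJ : J ≤ p.asIdeal := Ideal.map_le_iff_le_comap.mpr fun a ha => by
        have hfp : (Y.fromSpecStalk (f x)) (PrimeSpectrum.comap φ p) = (Y.fromSpecStalk (f x)) (closedPoint A) := by
          refine Eq.trans ?_ (((hz'.trans (hzf q hqJ))).trans Scheme.fromSpecStalk_closedPoint.symm)
          exact (hjk p).symm
        exact (congrArg PrimeSpectrum.asIdeal ((Y.fromSpecStalk (f x)).isEmbedding.injective hfp)).ge ha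
      let p' : PrimeSpectrum (B ⧸ J) := ⟨p.asIdeal.map (Ideal.Quotient.mk J),
        Ideal.map_isPrime_of_surjective Ideal.Quotient.mk_surjective (by rwa [Ideal.mk_ker])⟩
      have hp' : PrimeSpectrum.comap (Ideal.Quotient.mk J) p' = p := PrimeSpectrum.ext (by
        show (p.asIdeal.map _).comap _ = _
        rw [Ideal.comap_map_of_surjective _ Ideal.Quotient.mk_surjective, ← RingHom.ker_eq_comap_bot,
          Ideal.mk_ker, sup_eq_left.mpr hpJ])
      have hle : p' ≤ P := by
        have h2 := Ideal.map_mono (f := Ideal.Quotient.mk J) (show p.asIdeal ≤ q.asIdeal from hpq)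
        rwa [show q.asIdeal.map (Ideal.Quotient.mk J) = P.asIdeal from
          Ideal.map_comap_of_surjective _ Ideal.Quotient.mk_surjective _] at h2
      rw [← hp', le_antisymm hle (hPmin hle)]
    have h1 := dim_base_le_stalk f z hmax (h z (hzf q hqJ) hzx hmax)
    rw [hzf q hqJ] at h1
    refine le_trans (add_le_add h1 ?_) (stalk_dim_add_le hzx)
    have hdim : ringKrullDim ((B ⧸ J) ⧸ P.asIdeal) ≤ dimBetween z x := by
      rw [← stalk_quotient_dim_eq x q]
      let π : B ⧸ q.asIdeal →+* (B ⧸ J) ⧸ P.asIdeal := Ideal.quotientMap P.asIdeal (Ideal.Quotient.mk J) le_rfl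
      refine ringKrullDim_le_of_surjective π fun b => ?_
      obtain ⟨b, rfl⟩ := Ideal.Quotient.mk_surjective b
      obtain ⟨b, rfl⟩ := Ideal.Quotient.mk_surjective b
      exact ⟨Ideal.Quotient.mk _ b, rfl⟩
    refine le_trans ?_ hdim
    rw [← IsLocalRing.maximalIdeal_height_eq_ringKrullDim]
    have hpr : ((maximalIdeal (B ⧸ J)).map (Ideal.Quotient.mk P.asIdeal)).IsPrime :=
      Ideal.map_isPrime_of_surjective Ideal.Quotient.mk_surjective (by rw [Ideal.mk_ker]; exact hPle)
    exact (WithBot.coe_le_coe.mpr (hP hpr)).trans (Ideal.height_le_ringKrullDim_of_ne_top hpr.ne_top)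

/-- Let f : X ⟶ Y be a morphism of locally Noetherian schemes, x a point of X and y = f x. Suppose f is
open at the generic point of every irreducible component of the fibre over y passing through x. Then
dim O_{X,x} = dim O_{Y,y} + dim O_{X_y,x}. -/
theorem result {X Y : Scheme.{u}} [IsLocallyNoetherian X] [IsLocallyNoetherian Y]
    (f : X ⟶ Y) (x : X)
    (h : ∀ z : ↥(f.fiber (f.base x)), f.asFiber x ∈ closure {z} →
      (∀ z' : ↥(f.fiber (f.base x)), z ∈ closure {z'} → z' = z) →
      EGA43.IsOpenAt f.base ((f.fiberι (f.base x)).base z)) :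
    ringKrullDim (X.presheaf.stalk x) =
      ringKrullDim (Y.presheaf.stalk (f.base x)) +
        ringKrullDim ((f.fiber (f.base x)).presheaf.stalk (f.asFiber x)) := by
  have := dim_stalk_eq_add f (f.base x) (f.asFiber x) (fun z hz hzx hmax => by
    rw [f.fiberι_asFiber] at hz hzx
    refine (Groth.Agent.S3404.result f z).1 ?_
    obtain ⟨w, hw1, hw2, hw3⟩ : ∃ w : ↥(f.fiber (f.base x)), (f.fiberι (f.base x)).base w = z ∧
        f.asFiber x ∈ closure {w} ∧ ∀ w', w ∈ closure {w'} → w' = w := by
      refine ⟨(f.fiberHomeo (f.base x)).symm ⟨z, hz⟩, f.fiberι_fiberHomeo_symm _ _, ?_, fun w' hw' ↦ ?_⟩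
      · refine ((f.fiberι (f.base x)).isEmbedding.isInducing.specializes_iff.mp ?_).mem_closure
        rw [f.fiberι_fiberHomeo_symm, f.fiberι_asFiber]
        exact hzx
      · refine (f.fiberι (f.base x)).isEmbedding.injective ?_
        rw [f.fiberι_fiberHomeo_symm]
        refine hmax _ ?_ ?_
        · have h := Set.mem_range_self (f := (f.fiberι (f.base x)).base) w'
          rw [f.range_fiberι] at h
          exact h.trans hz.symm
        · have := (specializes_iff_mem_closure.mpr hw').map (f.fiberι (f.base x)).continuous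
          rw [f.fiberι_fiberHomeo_symm] at this
          exact this.mem_closure
    exact hw1 ▸ h w hw2 (fun w' hw' => hw3 w' hw'))
  rw [f.fiberι_asFiber] at this
  exact this

end Groth.Agent.S2559
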