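import Groth.Statements.S2563
import Mathlib.RingTheory.TensorProduct.Free
import Mathlib.LinearAlgebra.TensorProduct.RightExactness
import Mathlib.LinearAlgebra.TensorProduct.Quotient
import Mathlib.RingTheory.Flat.Basic
import Mathlib.Algebra.Module.Projective
-- import your own Groth.Agent.* helpers here

set_option autoImplicit false
open TensorProduct
universe u
open EGA43

namespace Groth.Agent.S2563

/-- Let A be a commutative ring, J a nilpotent ideal of A, and (B_i) a family of commutative A-algebras
such that an element of A vanishing in every B_i is zero. Let M be an A-module such that each B_i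
⊗_A M is a free B_i-module and (A/J) ⊗_A M is a free (A/J)-module. Then M is a free A-module. -/
theorem result {A : Type u} [CommRing A] (J : Ideal A) (hJ : IsNilpotent J)
    {ι : Type u} (B : ι → Type u) [∀ i, CommRing (B i)] [∀ i, Algebra A (B i)]
    (hB : ∀ a : A, (∀ i, algebraMap A (B i) a = 0) → a = 0)
    (M : Type u) [AddCommGroup M] [Module A M]
    (hfree : ∀ i, Module.Free (B i) (B i ⊗[A] M)) (hfreeJ : Module.Free (A ⧸ J) ((A ⧸ J) ⊗[A] M)) :
    Module.Free A M := by
  classical
  obtain ⟨N, hN⟩ := hJ
  -- nilpotent Nakayama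
  have nak : ∀ {P : Type u} [AddCommGroup P] [Module A P] (S : Submodule A P), ⊤ ≤ S ⊔ J • (⊤ : Submodule A P) → S = ⊤ := fun {P} _ _ S h => by
    have key : ∀ j, ⊤ ≤ S ⊔ J ^ j • (⊤ : Submodule A P) := by
      intro j
      induction j with
      | zero => simp
      | succ j ih =>
        refine ih.trans (sup_le le_sup_left ?_)
        calc J ^ j • (⊤ : Submodule A P) ≤ J ^ j • (S ⊔ J • ⊤) := Submodule.smul_mono le_rfl h
          _ ≤ _ := by
            rw [Submodule.smul_sup, ← Submodule.mul_smul, ← pow_succ]
            exact sup_le_sup_right Submodule.smul_le_right _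
    have := key N
    rw [hN, Submodule.zero_eq_bot, Submodule.bot_smul, sup_bot_eq, top_le_iff] at this
    exact this
  -- lift a basis of `M / J M`
  obtain ⟨⟨κ, b⟩⟩ := Module.Free.exists_basis (R := A ⧸ J) (M := (A ⧸ J) ⊗[A] M)
  choose m hm using fun c => TensorProduct.mk_surjective A M (A ⧸ J) Ideal.Quotient.mk_surjective (b c)
  let φ : (κ →₀ A) →ₗ[A] M := Finsupp.linearCombination A m
  let T := TensorProduct.finsuppScalarRight A (A ⧸ J) (A ⧸ J) κ
  have hbij : Function.Bijective (φ.baseChange (A ⧸ J)) := by
    have e : (φ.baseChange (A ⧸ J)) = (b.repr.symm.toLinearMap ∘ₗ T.toLinearMap) := by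
      refine TensorProduct.AlgebraTensorModule.ext fun r f => ?_
      induction f using Finsupp.induction_linear with
      | zero => simp
      | add f g hf hg => rw [TensorProduct.tmul_add, map_add, hf, hg, map_add]
      | single c a =>
        have hm' : b c = (1 : A ⧸ J) ⊗ₜ[A] m c := (hm c).symm
        have hT : T (r ⊗ₜ[A] Finsupp.single c a) = Finsupp.single c (a • r) := by
          ext c'
          rw [TensorProduct.finsuppScalarRight_apply_tmul_apply, Finsupp.single_apply, Finsupp.single_apply]
          split_ifs <;> simp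
        rw [LinearMap.comp_apply, LinearEquiv.coe_coe, LinearEquiv.coe_coe, hT, b.repr_symm_single, hm', LinearMap.baseChange_tmul]
        simp [φ, TensorProduct.smul_tmul', TensorProduct.tmul_smul, smul_eq_mul, Algebra.smul_def]
    rw [e]
    exact b.repr.symm.bijective.comp T.bijective
  have hsurj : Function.Surjective φ := by
    rw [← LinearMap.range_eq_top]
    refine nak _ fun x _ => ?_
    obtain ⟨z, hz⟩ := hbij.2 ((1 : A ⧸ J) ⊗ₜ[A] x)
    obtain ⟨f, rfl⟩ := TensorProduct.mk_surjective A (κ →₀ A) (A ⧸ J) Ideal.Quotient.mk_surjective z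
    rw [TensorProduct.mk_apply, LinearMap.baseChange_tmul] at hz
    have h1 : (1 : A ⧸ J) ⊗ₜ[A] (x - φ f) = 0 := by rw [TensorProduct.tmul_sub, hz, sub_self]
    have h2 := congrArg (TensorProduct.quotTensorEquivQuotSMul M J) h1
    rw [map_zero, show (1 : A ⧸ J) = Ideal.Quotient.mk J 1 from rfl, TensorProduct.quotTensorEquivQuotSMul_mk_tmul, one_smul] at h2
    exact Submodule.mem_sup.mpr ⟨φ f, ⟨f, rfl⟩, x - φ f, (Submodule.Quotient.mk_eq_zero _).mp h2, add_sub_cancel _ _⟩
  -- every element of the kernel dies in each `B i`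
  have hkill : ∀ i, ∀ f, φ f = 0 → ∀ c, algebraMap A (B i) (f c) = 0 := by
    intro i f hf c
    let Φ := φ.baseChange (B i)
    haveI := hfree i
    obtain ⟨σ, hσ⟩ := Module.projective_lifting_property Φ LinearMap.id (LinearMap.lTensor_surjective (B i) hsurj)
    let π : B i ⊗[A] (κ →₀ A) →ₗ[B i] B i ⊗[A] (κ →₀ A) := LinearMap.id - σ ∘ₗ Φ
    have hπΦ : ∀ x, Φ (π x) = 0 := fun x => by
      have := LinearMap.congr_fun hσ (Φ x)
      simp only [π, LinearMap.sub_apply, LinearMap.id_apply, LinearMap.comp_apply, map_sub] at this ⊢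
      rw [this, sub_self]
    have hin : ∀ x, Φ x = 0 → x ∈ J • (⊤ : Submodule A (B i ⊗[A] (κ →₀ A))) := by
      intro x hx
      -- reduce modulo `J`
      have h1 : (TensorProduct.mk A (A ⧸ J) (B i ⊗[A] (κ →₀ A)) 1) x = 0 := by
        refine (TensorProduct.leftComm A (A ⧸ J) (B i) (κ →₀ A)).injective ?_
        have hinj : Function.Injective ((φ.baseChange (A ⧸ J)).restrictScalars A |>.lTensor (B i)) :=
          ((LinearEquiv.ofBijective ((φ.baseChange (A ⧸ J)).restrictScalars A) hbij).lTensor (B i)).injective
        refine hinj ?_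
        rw [map_zero, map_zero]
        have : ∀ w, ((φ.baseChange (A ⧸ J)).restrictScalars A |>.lTensor (B i))
            (TensorProduct.leftComm A (A ⧸ J) (B i) (κ →₀ A) ((1 : A ⧸ J) ⊗ₜ[A] w)) =
            TensorProduct.leftComm A (A ⧸ J) (B i) M ((1 : A ⧸ J) ⊗ₜ[A] Φ w) := fun w => by
          induction w using TensorProduct.induction_on with
          | zero => simp
          | add u v hu hv => simp only [TensorProduct.tmul_add, map_add, hu, hv]
          | tmul r f => simp [Φ]
        rw [TensorProduct.mk_apply, this, hx, TensorProduct.tmul_zero, map_zero]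
      have h2 := congrArg (TensorProduct.quotTensorEquivQuotSMul (B i ⊗[A] (κ →₀ A)) J) h1
      rw [map_zero, TensorProduct.mk_apply, show (1 : A ⧸ J) = Ideal.Quotient.mk J 1 from rfl, TensorProduct.quotTensorEquivQuotSMul_mk_tmul, one_smul] at h2
      exact (Submodule.Quotient.mk_eq_zero _).mp h2
    have hπJ : ∀ x, π x ∈ J • LinearMap.range (π.restrictScalars A) := fun x => by
      have hx := hin _ (hπΦ x)
      have hππ : π (π x) = π x := by
        show π x - σ (Φ (π x)) = π x
        rw [hπΦ, map_zero, sub_zero]
      have := Submodule.mem_map_of_mem (f := π.restrictScalars A) hx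
      rw [Submodule.map_smul'', Submodule.map_top] at this
      rwa [show (π.restrictScalars A) (π x) = π x from hππ] at this
    have hπ0 : ∀ j, LinearMap.range (π.restrictScalars A) ≤ J ^ j • LinearMap.range (π.restrictScalars A) := by
      intro j
      induction j with
      | zero => simp
      | succ j ih =>
        refine ih.trans ?_
        rw [pow_succ, Submodule.mul_smul]
        refine Submodule.smul_mono le_rfl ?_
        rintro _ ⟨x, rfl⟩
        exact hπJ x
    have hΦf : Φ ((1 : B i) ⊗ₜ[A] f) = 0 := by rw [LinearMap.baseChange_tmul, hf, TensorProduct.tmul_zero]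
    have hz : π ((1 : B i) ⊗ₜ[A] f) = 0 := by
      have h3 := hπ0 N ⟨(1 : B i) ⊗ₜ[A] f, rfl⟩
      rw [hN, Submodule.zero_eq_bot, Submodule.bot_smul] at h3
      exact h3
    simp only [π, LinearMap.sub_apply, LinearMap.id_apply, LinearMap.comp_apply, hΦf, map_zero, sub_zero] at hz
    have h4 := congrArg (fun z => TensorProduct.finsuppScalarRight A (B i) (B i) κ z c) hz
    simpa [TensorProduct.finsuppScalarRight_apply_tmul_apply, Algebra.smul_def] using h4
  refine Module.Free.of_equiv (LinearEquiv.ofBijective φ ⟨(injective_iff_map_eq_zero φ).mpr fun f hf => ?_, hsurj⟩)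
  exact Finsupp.ext fun c => hB _ fun i => hkill i f hf c

end Groth.Agent.S2563
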