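import Groth.Statements.S2564
import Groth.Agent.ProperFlatLib.Main
import Groth.Agent.DepthLib.SkOpen
import Groth.Agent.MiscFlat6.FreeStalks
import Groth.Agent.S7382
import Groth.Agent.RichLib.LimTop
import Groth.Agent.ConsLib.General

set_option autoImplicit false
set_option backward.isDefEq.respectTransparency false
set_option backward.isDefEq.respectTransparency.types false
set_option maxHeartbeats 1000000
open CategoryTheory AlgebraicGeometry
universe u
open EGA43

namespace Groth.Agent.S2564

open CategoryTheory.Limits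
section Helpers

open TopologicalSpace RichLib.LimBC Opposite
open CategoryTheory.Limits
open ProperFlatLib (pbIso)

theorem flat_of_injective_integral {A A' : Type u} [CommRing A] [CommRing A'] [Algebra A A']
    [Algebra.IsIntegral A A'] (hinj : Function.Injective (algebraMap A A')) {V : Scheme.{u}} [IsAffine V]
    (f : V ⟶ Spec (CommRingCat.of A)) [LocallyOfFinitePresentation f] (x : V)
    (h : ∀ z : ↥(pullback f (Spec.map (CommRingCat.ofHom (algebraMap A A')))), pullback.fst f _ z = x →
      FlatMod.IsFlatOverAt (pullback.snd f (Spec.map (CommRingCat.ofHom (algebraMap A A'))))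
        ((Scheme.Modules.pullback (pullback.fst f (Spec.map (CommRingCat.ofHom (algebraMap A A'))))).obj
          (Coh.structureModule V)) z) :
    FlatMod.IsFlatOverAt f (Coh.structureModule V) x := by
  let T := Spec (CommRingCat.of A)
  let g : Spec (CommRingCat.of A') ⟶ T := Spec.map (CommRingCat.ofHom (algebraMap A A'))
  haveI : IsIntegralHom g :=
    IsIntegralHom.SpecMap_iff.2 (fun z => (inferInstance : Algebra.IsIntegral A A').isIntegral z)
  haveI : Coh.IsQCoh (Coh.structureModule V) := QCohLib.isQCoh_unit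
  let M := Coh.structureModule V
  have hM : CohB1.IsFP M := (MiscFlat6.isFlat_and_isFP_iff.2 (fun y => ⟨⊤, 1, trivial,
    (RankLocusLib.freeAlong_restrict_iff _ _).1
      ⟨KFlatLib.pullUnitIso _ ≪≫ (coproductUniqueIso fun _ : Fin 1 => Coh.structureModule _).symm⟩⟩)).2
  obtain ⟨I, _, _, _, D, c, hc, hD, ⟨e⟩⟩ := Groth.Agent.S7382.result g
  haveI : IsConnected Iᵒᵖ := IsCofiltered.isConnected _
  let Z : RichLib.LimBC.Sys Iᵒᵖ T :=
    { D := D ⋙ Over.forget T
      t := fun i => (D.obj i).hom
      w := fun a => Over.w (D.map a)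
      c := (Over.forget T).mapCone c
      hc := isLimitOfPreserves (Over.forget T) hc
      affine := fun i => by haveI := (hD i).1; infer_instance
      s := c.pt.hom
      hs := fun i => Over.w (c.π.app i) }
  let eA : Z.c.pt ≅ Spec (CommRingCat.of A') := (Over.forget T).mapIso e
  have heA : eA.hom ≫ g = Z.s := Over.w e.hom
  let P := pullback f Z.s
  have hlim : ∀ z : P, pullback.fst f Z.s z = x →
      FlatMod.IsFlatOverAt (pullback.snd f Z.s) ((Scheme.Modules.pullback (pullback.fst f Z.s)).obj M) z := by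
    intro z hz
    have hsq : IsPullback (pullback.fst f Z.s) (pullback.snd f Z.s ≫ eA.hom) f g :=
      (IsPullback.of_hasPullback f Z.s).of_iso (Iso.refl _) (Iso.refl _) eA (Iso.refl _) (by simp) (by simp)
        (by simp) (by simp [heA])
    have hz' : pullback.fst f g (hsq.isoPullback.hom z) = x := by
      rw [← Scheme.Hom.comp_apply, IsPullback.isoPullback_hom_fst]
      exact hz
    exact (RichLib.ModFlat.isFlatOverAt_congr hsq.isoPullback.hom eA.hom hsq.isoPullback_hom_snd.symm
      (pbIso hsq.isoPullback_hom_fst M).symm z).2 (h _ hz')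
  let W : Iᵒᵖ → Set P := fun i => (pbπ Z f i) ⁻¹' {w | FlatMod.IsFlatOverAt (pullback.snd f (Z.t i))
    ((Scheme.Modules.pullback (pullback.fst f (Z.t i))).obj M) w}
  have hopen : ∀ i, IsOpen {w : ↥(pullback f (Z.t i)) | FlatMod.IsFlatOverAt (pullback.snd f (Z.t i))
      ((Scheme.Modules.pullback (pullback.fst f (Z.t i))).obj M) w} := fun i => by
    haveI : LocallyOfFinitePresentation (pullback.snd f (Z.t i)) := MorphismProperty.pullback_snd _ _ ‹_›
    haveI := KFlatLib.isQCoh_pullback (pullback.fst f (Z.t i)) M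
    exact RichLib.FlatLoci.isOpen_setOf_isFlatOverAt _ _ (RichLib.ModFlat.isFP_pullback _ hM)
  have hmono : ∀ {i i' : Iᵒᵖ} (a : i' ⟶ i) (w : ↥(pullback f (Z.t i'))),
      FlatMod.IsFlatOverAt (pullback.snd f (Z.t i)) ((Scheme.Modules.pullback (pullback.fst f (Z.t i))).obj M)
        (pbMap Z f a w) →
      FlatMod.IsFlatOverAt (pullback.snd f (Z.t i')) ((Scheme.Modules.pullback (pullback.fst f (Z.t i'))).obj M) w :=
    fun {i i'} a w hw => (RichLib.ModFlat.isFlatOverAt_iso _ (pbIso (pbMap_fst Z f a) M) _).1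
      (FDescTensLib.isFlatOverAt_baseChange (isPullback_map Z f a) _ _ hw)
  haveI : IsAffineHom (pullback.fst f Z.s) := by
    haveI : IsAffineHom Z.s := by
      rw [← heA]
      exact MorphismProperty.comp_mem _ _ _ inferInstance inferInstance
    infer_instance
  have hcov : (pullback.fst f Z.s) ⁻¹' {x} ⊆ ⋃ i, W i := fun z hz => by
    obtain ⟨i, hi⟩ := (RichLib.ModFlat.isFlatOverAt_iff_exists_stage Z f M hM z).1 (hlim z hz)
    exact Set.mem_iUnion.2 ⟨i, hi⟩
  obtain ⟨J, hJ⟩ := ((pullback.fst f Z.s).isCompact_preimage_singleton x).elim_finite_subcover W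
    (fun i => (hopen i).preimage (pbπ Z f i).continuous) hcov
  classical
  obtain ⟨i₀, hi₀⟩ := IsCofiltered.inf_objs_exists J
  let C := pb Z f
  haveI : ∀ k l (b : k ⟶ l), IsAffineHom (C.D.map b) := fun _ _ b => C.affine_map b
  haveI := C.compactSpace_obj
  let E : Set (C.D.obj i₀) := ((pullback.fst f (Z.t i₀)) ⁻¹' {x})ᶜ ∪ {w | FlatMod.IsFlatOverAt
    (pullback.snd f (Z.t i₀)) ((Scheme.Modules.pullback (pullback.fst f (Z.t i₀))).obj M) w}
  have hE : ProCons.IsIndConstructible E := by
    refine RichLib.LimTop.isIndConstructible_union ?_ (RichLib.LimTop.isIndConstructible_of_isOpen (hopen i₀))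
    rw [ProConsLib.isIndConstructible_compl_iff]
    refine ProConsLib.isProConstructible_preimage (pullback.fst f (Z.t i₀)) ?_
    rw [← Scheme.range_fromSpecResidueField x, ← Set.image_univ]
    exact ProConsLib.isProConstructible_image _
      (ProConsLib.isProConstructible_of_isLocallyConstructible .univ)
  obtain ⟨j, a, ha⟩ := ConsLib.exists_stage_subset C.D C.c C.hc i₀ hE fun z => by
    by_cases hz : pullback.fst f Z.s z = x
    · obtain ⟨i, hi, hzi⟩ := Set.mem_iUnion₂.1 (hJ hz)
      refine Or.inr (hmono (hi₀ hi).some _ ?_)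
      show FlatMod.IsFlatOverAt _ _ ((pbπ Z f i₀ ≫ pbMap Z f (hi₀ hi).some) z)
      rw [pbπ_map]
      exact hzi
    · refine Or.inl fun h0 => hz ?_
      exact congr($((pbπ_fst Z f i₀).symm) z).trans h0
  haveI := (hD j).1
  haveI : LocallyOfFinitePresentation (Z.t j) := (hD j).2
  haveI : IsProper (Z.t j) := inferInstanceAs (IsProper (D.obj j).hom)
  refine ProperFlatLib.flat_descent f M hM x (Z.t j) (fun U s hU hs => ?_) fun z hz => ?_
  · have hg : g.app U s = 0 := by
      have hj : g = (eA.inv ≫ Z.c.π.app j) ≫ Z.t j := by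
        rw [Category.assoc, Z.hs, ← heA, Iso.inv_hom_id_assoc]
      have key : ∀ k, k = (eA.inv ≫ Z.c.π.app j) ≫ Z.t j → k.app U s = 0 := by
        rintro _ rfl
        show (eA.inv ≫ Z.c.π.app j).app _ ((Z.t j).app U s) = 0
        rw [hs, map_zero]
      exact key g hj
    obtain ⟨b, hbU, hb⟩ := (isAffineOpen_top T).exists_basicOpen_le (V := U) ⟨f x, hU⟩ trivial
    refine ⟨T.basicOpen b, hb, hbU, ?_⟩
    letI := T.presheaf.map (homOfLE (le_top : T.basicOpen b ≤ ⊤)).op |>.hom.toAlgebra
    haveI := (isAffineOpen_top T).isLocalization_basicOpen b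
    obtain ⟨n, c₀, hc₀⟩ := IsLocalization.Away.surj b (T.presheaf.map (homOfLE hbU).op s)
    have h1 : g.app (T.basicOpen b) (T.presheaf.map (homOfLE hbU).op s) = 0 := by
      rw [QCohLib.app_res g hbU, hg, map_zero]
    have h2 : g.app (T.basicOpen b) (T.presheaf.map (homOfLE (le_top : T.basicOpen b ≤ ⊤)).op c₀) = 0 := by
      have h3 := congrArg (g.app (T.basicOpen b)) hc₀
      rw [map_mul, h1, zero_mul] at h3
      exact h3.symm
    rw [QCohLib.app_res g (le_top : T.basicOpen b ≤ ⊤)] at h2
    let G : Γ(Spec (CommRingCat.of A'), ⊤) := g.appTop b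
    letI := (Spec (CommRingCat.of A')).presheaf.map
      (homOfLE (le_top : (Spec (CommRingCat.of A')).basicOpen G ≤ ⊤)).op |>.hom.toAlgebra
    haveI := (isAffineOpen_top (Spec (CommRingCat.of A'))).isLocalization_basicOpen G
    have h4 : algebraMap Γ(Spec (CommRingCat.of A'), ⊤)
        Γ(Spec (CommRingCat.of A'), (Spec (CommRingCat.of A')).basicOpen G) (g.appTop c₀) = 0 := by
      have h5 := congrArg ((Spec (CommRingCat.of A')).presheaf.map
        (homOfLE (Scheme.preimage_basicOpen_top g b).ge).op) h2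
      rw [map_zero] at h5
      refine Eq.trans ?_ h5
      refine Eq.trans ?_ (congr($((Spec (CommRingCat.of A')).presheaf.map_comp _ _) (g.appTop c₀)))
      exact congrArg (fun i => (Spec (CommRingCat.of A')).presheaf.map i (g.appTop c₀)) (Subsingleton.elim _ _)
    obtain ⟨⟨_, m, rfl⟩, hm⟩ := (IsLocalization.map_eq_zero_iff (Submonoid.powers G) _ _).1 h4
    have hginj : Function.Injective g.appTop := by
      intro u v huv
      let eT := Scheme.ΓSpecIso (CommRingCat.of A)
      have e1 : ∀ t, (Scheme.ΓSpecIso (CommRingCat.of A')).hom (g.appTop t) = algebraMap A A' (eT.hom t) :=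
        fun t => congr($(Scheme.ΓSpecIso_naturality (CommRingCat.ofHom (algebraMap A A'))) t)
      have h6 := hinj ((e1 u).symm.trans ((congrArg _ huv).trans (e1 v)))
      exact eT.commRingCatIsoToRingEquiv.injective h6
    have h7 : b ^ m * c₀ = 0 := hginj (by rw [map_mul, map_pow, map_zero]; exact hm)
    have h8 : algebraMap Γ(T, ⊤) Γ(T, T.basicOpen b) c₀ = 0 :=
      (IsLocalization.map_eq_zero_iff (Submonoid.powers b) _ _).2 ⟨⟨_, m, rfl⟩, h7⟩
    rw [h8] at hc₀
    exact ((IsLocalization.Away.algebraMap_isUnit b).pow n).mul_left_eq_zero.1 hc₀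
  · rcases ha z with h0 | h0
    · refine absurd ?_ h0
      show (pbMap Z f a ≫ pullback.fst f (Z.t i₀)) z = x
      rw [pbMap_fst]
      exact hz
    · exact hmono a z h0

end Helpers

open CategoryTheory.Limits in
/-- Let A ⟶ A' be an injective ring homomorphism making A' integral over A, f : X ⟶ Spec A locally of
finite presentation, x a point of X, and X' = X ×_{Spec A} Spec A'. If X' ⟶ Spec A' is flat at every
point of X' lying over x, then f is flat at x. -/
theorem result {A A' : Type u} [CommRing A] [CommRing A']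
    [Algebra A A'] [Algebra.IsIntegral A A'] (hinj : Function.Injective (algebraMap A A'))
    {X : Scheme.{u}} (f : X ⟶ Spec (CommRingCat.of A)) [LocallyOfFinitePresentation f] (x : X)
    (h : ∀ x' : ↥(pullback f (Spec.map (CommRingCat.ofHom (algebraMap A A')))),
      (pullback.fst f _).base x' = x →
      ((pullback.snd f (Spec.map (CommRingCat.ofHom (algebraMap A A')))).stalkMap x').hom.Flat) :
    (f.stalkMap x).hom.Flat := by
  obtain ⟨V, hV, hxV, -⟩ := exists_isAffineOpen_mem_and_subset (x := x) (U := ⊤) trivial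
  haveI : IsAffine V.toScheme := hV
  haveI : LocallyOfFinitePresentation (V.ι ≫ f) := MorphismProperty.comp_mem _ _ _ inferInstance ‹_›
  let g := Spec.map (CommRingCat.ofHom (algebraMap A A'))
  have h1 := flat_of_injective_integral hinj (V.ι ≫ f) ⟨x, hxV⟩ fun z hz => by
    let j : pullback (V.ι ≫ f) g ⟶ pullback f g :=
      pullback.lift (pullback.fst _ _ ≫ V.ι) (pullback.snd _ _) (by rw [Category.assoc, pullback.condition])
    have sqj : IsPullback j (pullback.fst (V.ι ≫ f) g) (pullback.fst f g) V.ι :=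
      IsPullback.of_right (by rw [pullback.lift_snd]; exact (IsPullback.of_hasPullback (V.ι ≫ f) g).flip)
        (pullback.lift_fst _ _ _) (IsPullback.of_hasPullback f g).flip
    haveI : IsOpenImmersion j := MorphismProperty.of_isPullback sqj.flip inferInstance
    have hz' : (pullback.fst f g).base (j z) = x := by
      refine congr($((pullback.lift_fst _ _ _ : j ≫ pullback.fst f g = _)) z).trans ?_
      exact congrArg V.ι hz
    have h2 := (DepthLib.isFlatOverAt_structureModule_iff (pullback.snd f g) (j z)).2 (h _ hz')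
    exact (RichLib.ModFlat.isFlatOverAt_congr j (𝟙 _) ((Category.comp_id _).trans (pullback.lift_snd _ _ _).symm)
      (KFlatLib.pullUnitIso _ ≪≫ (KFlatLib.pullUnitIso j).symm) z).2 h2
  have h3 := (RichLib.ModFlat.isFlatOverAt_comp_source V.ι f (Coh.structureModule X) ⟨x, hxV⟩).1
    ((RichLib.ModFlat.isFlatOverAt_iso _ (KFlatLib.pullUnitIso V.ι) _).2 h1)
  exact (DepthLib.isFlatOverAt_structureModule_iff f x).1 h3

end Groth.Agent.S2564
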