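import Groth.Statements.S2565
import Groth.Agent.UnibFlatLib.Reduce
import Groth.Agent.S2564

set_option autoImplicit false
set_option backward.isDefEq.respectTransparency false
set_option backward.isDefEq.respectTransparency.types false
set_option maxHeartbeats 1000000
open CategoryTheory AlgebraicGeometry
universe u
open EGA43

namespace Groth.Agent.S2565

open CategoryTheory.Limits in
/-- Let A be a local domain which is geometrically unibranch, A' a local ring and A ⟶ A' an injective
local homomorphism. Let f : X ⟶ Spec A be locally of finite presentation, x a point of X over the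
closed point, and X' = X ×_{Spec A} Spec A'. If there is a point x' of X' lying over x and over the
closed point of Spec A' at which X' ⟶ Spec A' is flat, then f is flat at x. -/
theorem result {A A' : Type u} [CommRing A] [IsDomain A] [IsLocalRing A]
    (hA : CAlg2.IsGeomUnibranch A) [CommRing A'] [IsLocalRing A'] [Algebra A A'] [IsLocalHom (algebraMap A A')]
    (hinj : Function.Injective (algebraMap A A'))
    {X : Scheme.{u}} (f : X ⟶ Spec (CommRingCat.of A)) [LocallyOfFinitePresentation f] (x : X)
    (hx : f.base x = IsLocalRing.closedPoint A)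
    (h : ∃ x' : ↥(pullback f (Spec.map (CommRingCat.ofHom (algebraMap A A')))),
      (pullback.fst f _).base x' = x ∧
      (pullback.snd f (Spec.map (CommRingCat.ofHom (algebraMap A A')))).base x' = IsLocalRing.closedPoint A' ∧
      ((pullback.snd f (Spec.map (CommRingCat.ofHom (algebraMap A A')))).stalkMap x').hom.Flat) :
    (f.stalkMap x).hom.Flat := by
  obtain ⟨x', hx'x, hx'c, hx'f⟩ := h
  haveI := hA.1.1
  haveI := hA.1.2
  letI := (UnibFlatLib.toNorm A).toAlgebra
  haveI : Algebra.IsIntegral A (CAlg2.normRed A) := ⟨UnibFlatLib.toNorm_isIntegral A⟩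
  refine Groth.Agent.S2564.result (A' := CAlg2.normRed A) (UnibFlatLib.toNorm_injective A hA.1.1) f x fun x₁ hx₁ => ?_
  obtain ⟨P, p₁, p', hcomm, -, h2⟩ := UnibFlatLib.exists_flat_over A hA.1 hinj f
  obtain ⟨z, hz, hzc, hzf⟩ := h2 x' hx'c ((UnibFlatLib.flatAt_iff _ _).2 hx'f)
  have hx₁c := UnibFlatLib.snd_eq_closedPoint A f x₁ ((congrArg f hx₁).trans hx)
  have he : p₁ z = x₁ := UnibFlatLib.eq_of_purelyInseparable A hA f _ _ hzc hx₁c (by
    refine Eq.trans ?_ hx₁.symm
    exact (congr($hcomm z)).trans (by rw [Scheme.Hom.comp_apply, hz]; exact hx'x))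
  exact (UnibFlatLib.flatAt_iff _ _).1 (he ▸ hzf)

end Groth.Agent.S2565
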