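import Groth.Statements.S2566
import Groth.Agent.UnibFlatLib.Reduce
import Groth.Agent.S2564

set_option autoImplicit false
set_option backward.isDefEq.respectTransparency false
set_option backward.isDefEq.respectTransparency.types false
set_option maxHeartbeats 1000000
open CategoryTheory AlgebraicGeometry
universe u
open EGA43

namespace Groth.Agent.S2566

open CategoryTheory.Limits in
/-- Let A be a local domain which is unibranch, A' a local ring and A ⟶ A' an injective local
homomorphism. Let f : X ⟶ Spec A be locally of finite presentation, x a point of X over the closed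
point, and X' = X ×_{Spec A} Spec A'. If X' ⟶ Spec A' is flat at every point of X' lying over x and
over the closed point of Spec A', then f is flat at x. -/
theorem result {A A' : Type u} [CommRing A] [IsDomain A] [IsLocalRing A]
    (hA : CAlg2.IsUnibranch A) [CommRing A'] [IsLocalRing A'] [Algebra A A'] [IsLocalHom (algebraMap A A')]
    (hinj : Function.Injective (algebraMap A A'))
    {X : Scheme.{u}} (f : X ⟶ Spec (CommRingCat.of A)) [LocallyOfFinitePresentation f] (x : X)
    (hx : f.base x = IsLocalRing.closedPoint A)
    (h : ∀ x' : ↥(pullback f (Spec.map (CommRingCat.ofHom (algebraMap A A')))),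
      (pullback.fst f _).base x' = x →
      (pullback.snd f (Spec.map (CommRingCat.ofHom (algebraMap A A')))).base x' = IsLocalRing.closedPoint A' →
      ((pullback.snd f (Spec.map (CommRingCat.ofHom (algebraMap A A')))).stalkMap x').hom.Flat) :
    (f.stalkMap x).hom.Flat := by
  haveI := hA.1
  haveI := hA.2
  letI := (UnibFlatLib.toNorm A).toAlgebra
  haveI : Algebra.IsIntegral A (CAlg2.normRed A) := ⟨UnibFlatLib.toNorm_isIntegral A⟩
  refine Groth.Agent.S2564.result (A' := CAlg2.normRed A) (UnibFlatLib.toNorm_injective A hA.1) f x fun x₁ hx₁ => ?_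
  obtain ⟨P, p₁, p', hcomm, h1, -⟩ := UnibFlatLib.exists_flat_over A hA hinj f
  obtain ⟨z, hz, hzc, hzf⟩ := h1 x₁ (UnibFlatLib.snd_eq_closedPoint A f x₁ ((congrArg f hx₁).trans hx))
  refine (UnibFlatLib.flatAt_iff _ _).1 (hzf ((UnibFlatLib.flatAt_iff _ _).2 (h _ ?_ hzc)))
  refine (congr($hcomm z)).symm.trans ?_
  rw [Scheme.Hom.comp_apply, hz]
  exact hx₁

end Groth.Agent.S2566
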