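import Groth.Statements.S2569
import Groth.Agent.NeronProperLib.Basic

set_option autoImplicit false
set_option backward.isDefEq.respectTransparency false
open CategoryTheory CategoryTheory.Limits AlgebraicGeometry
universe u
open EGA43

namespace Groth.Agent.S2569

/-- Let Y be locally Noetherian and f : X ⟶ Y separated, of finite type and universally submersive
(every base change is a topological quotient map onto its target), with all fibres geometrically
connected. If the fibre over a point y is proper over the residue field of y, then f is proper over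
some open neighbourhood of y. -/
theorem result {X Y : Scheme.{u}} [IsLocallyNoetherian Y] (f : X ⟶ Y)
    [IsSeparated f] [LocallyOfFiniteType f] [QuasiCompact f]
    (hsub : MorphismProperty.universally (topologically fun g => Topology.IsQuotientMap g) f)
    (hconn : ∀ y : Y, GeometricallyConnected (f.fiberToSpecResidueField y))
    (y : Y) (hy : IsProper (f.fiberToSpecResidueField y)) :
    ∃ U : Y.Opens, y ∈ U ∧ IsProper (f ∣_ U) := by
  haveI := hy
  have hq : ∀ {Y' : Scheme.{u}} (h : Y' ⟶ Y), Topology.IsQuotientMap (pullback.snd f h).base :=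
    fun {Y'} h => hsub _ _ _ (IsPullback.of_hasPullback f h).flip
  have hsurj : Function.Surjective f.base :=
    (hsub (𝟙 X) (𝟙 Y) f (IsPullback.of_horiz_isIso ⟨by simp⟩).flip).surjective
  have hpre : ∀ y' : Y, _root_.IsPreconnected (f.base ⁻¹' {y'}) := by
    intro y'
    haveI : ConnectedSpace ↥(f.fiber y') :=
      (hconn y').geometrically_connectedSpace (𝟙 _) (𝟙 _) (f.fiberToSpecResidueField y')
        (IsPullback.of_horiz_isIso ⟨by simp⟩)
    rw [← Scheme.Hom.range_fiberι]
    exact isPreconnected_range (f.fiberι y').base.hom.continuous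
  have hop : IsOpen ((f.fiberι y).base ⁻¹' (Set.univ : Set X)) := isOpen_univ
  have h2 : IsProper (Scheme.Opens.ι (⟨(f.fiberι y).base ⁻¹' Set.univ, hop⟩ : (f.fiber y).Opens) ≫
      f.fiberToSpecResidueField y) := by
    haveI : IsClosedImmersion (Scheme.Opens.ι (⟨(f.fiberι y).base ⁻¹' Set.univ, hop⟩ : (f.fiber y).Opens)) :=
      IsClosedImmersion.of_isPreimmersion _ (by rw [Scheme.Opens.range_ι]; exact isClosed_univ)
    infer_instance
  obtain ⟨U, hyU, hC, hP⟩ := DvrProperLib.exists_proper_component y f Set.univ (by
      intro x
      exact ⟨Set.univ, Filter.univ_mem, isOpen_univ, by simp⟩)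
    (fun y' _ => by
      obtain ⟨x, hx⟩ := hsurj y'
      refine ⟨⟨x, trivial, hx, ?_⟩, fun K _ alg => ?_⟩
      · rw [Set.univ_inter]
        exact ((hpre y').connectedComponentIn hx).symm
      · letI : Algebra (Y.residueField y') K := alg
        haveI : ConnectedSpace ↥(FBase.bc (f.fiberToSpecResidueField y') K) := (hconn y').geometrically_connectedSpace _ _ _
          (IsPullback.of_hasPullback (f.fiberToSpecResidueField y')
            (Spec.map (CommRingCat.ofHom (algebraMap (Y.residueField y') K))))
        rw [Set.preimage_univ]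
        exact isPreconnected_univ)
    hop h2 (fun Y' h E _ ⟨W, hW, hWE⟩ => by
      rw [Set.preimage_univ, Set.inter_univ, Set.inter_univ] at hWE
      refine ⟨E, (hq h).isOpen_preimage.1 (hWE ▸ hW), Set.inter_eq_left.2 fun e _ => ?_⟩
      rw [Set.image_univ, hsurj.range_eq]
      trivial)
  exact ⟨U, hyU, NeronProperLib.isProper_of_univ _ ⟨_, hC⟩ (Set.preimage_univ (f := (f ⁻¹ᵁ U).ι.base)) hP⟩

end Groth.Agent.S2569
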