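import Groth.Statements.S2571
import Mathlib
import Groth.Agent.S2570
import Groth.Agent.S0021

set_option autoImplicit false
open CategoryTheory AlgebraicGeometry
universe u
open EGA43

namespace Groth.Agent.S2571

open CategoryTheory CategoryTheory.Limits AlgebraicGeometry

theorem affine_over_noetherian {X Y Y' : Scheme.{u}} [IsNoetherian Y] [IsAffine Y]
    (f : X ⟶ Y) [LocallyOfFiniteType f] (g : Y' ⟶ Y) [LocallyOfFiniteType g] [UniversallyOpen g] [Surjective g]
    [IsAffineHom (pullback.snd f g)] : IsAffine X := by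
  obtain ⟨Z, π, hπ, hπs, H⟩ := Groth.Agent.S2570.result g
  haveI := hπ; haveI := hπs
  choose U hU s hs using H
  haveI : IsAffineHom (pullback.snd f π) := by
    refine IsZariskiLocalAtTarget.of_iSup_eq_top (P := @IsAffineHom) U
      (top_le_iff.mp fun z _ => TopologicalSpace.Opens.mem_iSup.mpr ⟨z, hU z⟩) fun z => ?_
    let v := s z ≫ pullback.fst g π
    have hv : v ≫ g = (U z).ι ≫ π := by
      show (s z ≫ pullback.fst g π) ≫ g = _
      rw [Category.assoc, pullback.condition, reassoc_of% (hs z)]
    have sq := (isPullback_morphismRestrict (pullback.snd f π) (U z)).flip.paste_horiz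
      (IsPullback.of_hasPullback f π)
    rw [← hv] at sq
    have sq' := IsPullback.of_right (h₁₁ := pullback.lift (((pullback.snd f π ⁻¹ᵁ U z).ι) ≫ pullback.fst f π)
      ((pullback.snd f π ∣_ U z) ≫ v) (by rw [Category.assoc]; exact sq.w))
      (by rw [pullback.lift_fst]; exact sq) (by rw [pullback.lift_snd]) (IsPullback.of_hasPullback f g)
    exact MorphismProperty.of_isPullback (P := @IsAffineHom) sq' inferInstance
  haveI : IsAffine Z := isAffine_of_isAffineHom π
  haveI : IsAffine (pullback f π) := isAffine_of_isAffineHom (pullback.snd f π)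
  haveI : IsLocallyNoetherian X := LocallyOfFiniteType.isLocallyNoetherian f
  haveI : CompactSpace ↥X := (pullback.fst f π).surjective.compactSpace (pullback.fst f π).continuous
  haveI : IsNoetherian X := {}
  exact Groth.Agent.S0021.result (pullback.fst f π)

end Groth.Agent.S2571

namespace Groth.Agent.S2571

open CategoryTheory.Limits in
/-- Let Y be locally Noetherian, f : X ⟶ Y locally of finite type, and g : Y' ⟶ Y locally of finite
type, universally open and surjective. If the base change X ×_Y Y' ⟶ Y' is an affine morphism, then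
f is affine. -/
theorem result {X Y Y' : Scheme.{u}} [IsLocallyNoetherian Y]
    (f : X ⟶ Y) [LocallyOfFiniteType f] (g : Y' ⟶ Y) [LocallyOfFiniteType g] [UniversallyOpen g] [Surjective g]
    [IsAffineHom (pullback.snd f g)] : IsAffineHom f := by
  refine IsZariskiLocalAtTarget.of_iSup_eq_top (P := @IsAffineHom) (fun U : Y.affineOpens => (U : Y.Opens))
    (iSup_affineOpens_eq_top Y) fun U => ?_
  haveI : IsAffine ((U : Y.Opens) : Scheme.{u}) := U.2
  haveI : IsNoetherian ((U : Y.Opens) : Scheme.{u}) := {}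
  haveI : LocallyOfFiniteType (g ∣_ U.1) := IsZariskiLocalAtTarget.restrict ‹_› _
  haveI : UniversallyOpen (g ∣_ U.1) := IsZariskiLocalAtTarget.restrict ‹_› _
  haveI : Surjective (g ∣_ U.1) := IsZariskiLocalAtTarget.restrict ‹_› _
  haveI : LocallyOfFiniteType (f ∣_ U.1) := IsZariskiLocalAtTarget.restrict ‹_› _
  have sq := (IsPullback.of_hasPullback (f ∣_ U.1) (g ∣_ U.1)).paste_horiz (isPullback_morphismRestrict f U.1).flip
  have hgU : (g ∣_ U.1) ≫ (U : Y.Opens).ι = (g ⁻¹ᵁ U.1).ι ≫ g := morphismRestrict_ι g U.1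
  rw [hgU] at sq
  have sq' := IsPullback.of_right (h₁₁ := pullback.lift (pullback.fst (f ∣_ U.1) (g ∣_ U.1) ≫ (f ⁻¹ᵁ U.1).ι)
      (pullback.snd (f ∣_ U.1) (g ∣_ U.1) ≫ (g ⁻¹ᵁ U.1).ι) (by rw [Category.assoc, Category.assoc]; simpa using sq.w))
    (by rw [pullback.lift_fst]; exact sq) (by rw [pullback.lift_snd]) (IsPullback.of_hasPullback f g)
  haveI : IsAffineHom (pullback.snd (f ∣_ U.1) (g ∣_ U.1)) :=
    MorphismProperty.of_isPullback (P := @IsAffineHom) sq' inferInstance
  haveI : IsAffine (↑(f ⁻¹ᵁ U.1) : Scheme.{u}) := affine_over_noetherian (f ∣_ U.1) (g ∣_ U.1)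
  infer_instance


end Groth.Agent.S2571
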