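import Groth.Statements.S4930
import Mathlib
import Groth.Agent.UOpenLib.Criterion
import Groth.Agent.DvrDom.Points

set_option autoImplicit false
open CategoryTheory AlgebraicGeometry
universe u v w
open EGA43

namespace Groth.Agent.S4930

open CategoryTheory.Limits in
/-- Let Y be a locally Noetherian scheme, f : X ⟶ Y a morphism locally of finite type and y a point of
Y. Then f is universally open at all points of the fibre over y if and only if, for every discrete
valuation ring A and every morphism g : Spec A ⟶ Y mapping the closed point to y, every irreducible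
component of X ×_Y Spec A dominates Spec A. -/
theorem result {X Y : Scheme.{u}} [IsLocallyNoetherian Y] (f : X ⟶ Y)
    [LocallyOfFiniteType f] (y : Y) :
    (∀ x : X, f.base x = y → EGA43.IsUnivOpenAt f x) ↔
      ∀ (A : Type u) [CommRing A] [IsDomain A] [IsDiscreteValuationRing A] (g : Spec (CommRingCat.of A) ⟶ Y),
        g.base (IsLocalRing.closedPoint A) = y →
        ∀ Z ∈ irreducibleComponents (↥(pullback f g) : Type u), Dense ((pullback.snd f g).base '' Z) := by
  constructor
  · intro h A _ _ _ g hg Z hZ
    obtain ⟨ζ, hζ⟩ := QuasiSober.sober hZ.1 (isClosed_of_mem_irreducibleComponents Z hZ)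
    by_cases hcl : (pullback.snd f g).base ζ = IsLocalRing.closedPoint A
    · exfalso
      have hfx : f.base ((pullback.fst f g).base ζ) = y := by
        rw [← Scheme.Hom.comp_apply, pullback.condition, Scheme.Hom.comp_apply, hcl, hg]
      obtain ⟨z, hz, hzne⟩ := (UOpenLib.isUnivOpenAt_iff_dvr f _).mp (h _ hfx) A g
        (by rw [hg, hfx]) ζ rfl hcl
      have hle : Z ⊆ closure {z} := by
        rw [← hζ.def]
        exact specializes_iff_closure_subset.mp hz
      have hzZ : z ∈ Z :=
        hZ.2 (IsIrreducible.closure isIrreducible_singleton) hle (subset_closure rfl)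
      exact hzne (((hζ.specializes hzZ).antisymm hz).eq ▸ hcl)
    · have hbot := (UOpenLib.eq_closedPoint_or_eq_bot _).resolve_left hcl
      intro p
      refine closure_mono (s := {(⟨⊥, Ideal.isPrime_bot⟩ : PrimeSpectrum A)}) ?_ ?_
      · rintro _ rfl
        exact ⟨ζ, hζ.mem, hbot⟩
      · exact ((PrimeSpectrum.le_iff_specializes (⟨⊥, Ideal.isPrime_bot⟩ : PrimeSpectrum A) p).mp
          bot_le).mem_closure
  · intro H x hx
    refine (UOpenLib.isUnivOpenAt_iff_dvr f x).mpr ?_
    intro A _ _ _ g hg x' _ hcl
    obtain ⟨ζ, hζ, hζx⟩ := DvrDomLib.exists_generic_specializes x'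
    refine ⟨ζ, hζx, fun he ↦ ?_⟩
    have hd := H A g (hg.trans hx) _ hζ
    have hsub : (pullback.snd f g).base '' closure {ζ} ⊆ closure {IsLocalRing.closedPoint A} := by
      refine (image_closure_subset_closure_image (pullback.snd f g).continuous).trans
        (closure_mono ?_)
      rintro _ ⟨w, hw, rfl⟩
      rw [Set.mem_singleton_iff.mp hw]
      exact he
    have hall := closure_minimal hsub isClosed_closure
      (hd ((⟨⊥, Ideal.isPrime_bot⟩ : PrimeSpectrum A)))
    replace hall := (IsLocalRing.isClosed_singleton_closedPoint A).closure_subset hall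
    exact IsDiscreteValuationRing.not_a_field A
      (congrArg PrimeSpectrum.asIdeal (Set.mem_singleton_iff.mp hall)).symm

end Groth.Agent.S4930
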