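import Groth.Statements.S4931
import Groth.Agent.S4930
import Groth.Agent.UOpenLib.Normal
-- import your own Groth.Agent.* helpers here

set_option autoImplicit false
open CategoryTheory AlgebraicGeometry
universe u v w
open EGA43

namespace Groth.Agent.S4931

/-- A morphism universally open at every point is universally open. -/
theorem universallyOpen_of_forall {X Y : Scheme.{u}} (f : X ⟶ Y) (h : ∀ x, EGA43.IsUnivOpenAt f x) :
    UniversallyOpen f := by
  refine ⟨fun X' Y' i₁ i₂ f' sq => IsOpenMap.of_nhds_le fun x U hU => ?_⟩
  exact Filter.mem_of_superset (UOpenLib.IsUnivOpenAt.isOpenAt (h (i₁.base x)) sq.flip x rfl _ hU)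
    (Set.image_preimage_subset _ _)

open CategoryTheory.Limits in
/-- Suppose Y is a locally Noetherian scheme and the morphism f : X ⟶ Y is locally of finite type. The
morphism f is universally open exactly when the following holds: given any discrete valuation ring A
together with any morphism g : Spec A ⟶ Y, each irreducible component of the fibre product X ×_Y
Spec A dominates Spec A (i.e. its image under the second projection is dense). -/
theorem result {X Y : Scheme.{u}} [IsLocallyNoetherian Y] (f : X ⟶ Y)
    [LocallyOfFiniteType f] :
    UniversallyOpen f ↔
      ∀ (A : Type u) [CommRing A] [IsDomain A] [IsDiscreteValuationRing A] (g : Spec (CommRingCat.of A) ⟶ Y),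
        ∀ Z ∈ irreducibleComponents (↥(pullback f g) : Type u), Dense ((pullback.snd f g).base '' Z) := by
  constructor
  · intro h A _ _ _ g
    exact (Groth.Agent.S4930.result f _).mp (fun x _ => UOpenLib.isUnivOpenAt_of_universallyOpen' f x) A g rfl
  · intro h
    exact universallyOpen_of_forall f fun x =>
      (Groth.Agent.S4930.result f _).mpr (fun A _ _ _ g _ => h A g) x rfl

end Groth.Agent.S4931
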