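import Groth.Statements.S2572
import Groth.Agent.UOpenLib.DimOne
import Groth.Agent.UOpenLib.Normal
import Groth.Agent.UOpenLib.Criterion
import Groth.Agent.EquidimLib.Points
import Groth.Agent.DevissLib.ClosedImm
import Groth.Agent.S4931
-- import your own Groth.Agent.* helpers here

set_option autoImplicit false
open CategoryTheory AlgebraicGeometry
universe u
open EGA43

namespace Groth.Agent.S2572

/-- Let Y be an irreducible locally Noetherian scheme whose local rings are regular of dimension at most
one, f : X ⟶ Y locally of finite type, and y a point of Y. If every irreducible component of X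
meeting the fibre over y has dense image in Y, then there is an open subset U of X containing that
fibre such that the restriction of f to U is universally open. -/
theorem result {X Y : Scheme.{u}} [IsLocallyNoetherian Y]
    [IrreducibleSpace Y]
    (hY : ∀ y : Y, IsRegularLocalRing (Y.presheaf.stalk y) ∧ ringKrullDim (Y.presheaf.stalk y) ≤ 1)
    (f : X ⟶ Y) [LocallyOfFiniteType f] (y : Y)
    (h : ∀ Z ∈ irreducibleComponents (X : Type u), (Z ∩ f.base ⁻¹' {y}).Nonempty → Dense (f.base '' Z)) :
    ∃ U : X.Opens, f.base ⁻¹' {y} ⊆ (U : Set X) ∧ UniversallyOpen (U.ι ≫ f) := by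
  haveI : IsLocallyNoetherian X := LocallyOfFiniteType.isLocallyNoetherian f
  let S : Set X := {x | ∀ ζ : X, closure {ζ} ∈ irreducibleComponents (X : Type u) → ζ ⤳ x →
    Dense (f.base '' closure {ζ})}
  have hS : IsOpen S := isOpen_iff_forall_mem_open.mpr fun x hx => by
    obtain ⟨U, hxU, -, hU⟩ := EquidimLib.exists_open_max_through x ⊤ trivial
    exact ⟨U, fun z hz ζ hζ hζz => hx ζ hζ (hU ζ (hζz.mem_open U.isOpen hz) hζ), U.isOpen, hxU⟩
  have key : ∀ x ∈ S, EGA43.IsUnivOpenAt f x := fun x hx => by
    obtain ⟨ζ, hζ, hζx⟩ := DvrDomLib.exists_generic_specializes x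
    obtain ⟨W, j, hj, hW, hr⟩ := DevissLib.exists_integral_closed (isClosed_closure (s := ({ζ} : Set X)))
      isIrreducible_singleton.closure
    haveI := hj
    haveI := hW
    obtain ⟨w, rfl⟩ : x ∈ Set.range j.base := by rw [hr]; exact hζx.mem_closure
    have hd : DenseRange (j ≫ f).base := by
      show Dense (Set.range (j ≫ f).base)
      rw [show Set.range (j ≫ f).base = f.base '' Set.range j.base from Set.range_comp f.base j.base, hr]
      exact hx ζ hζ hζx
    haveI : Flat (j ≫ f) := UOpenLib.flat_of_dominant_regular_dim_one (j ≫ f) hY hd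
    haveI : LocallyOfFinitePresentation (j ≫ f) := UOpenLib.locallyOfFinitePresentation_of_isLocallyNoetherian _
    exact UOpenLib.IsUnivOpenAt.of_comp (UOpenLib.isUnivOpenAt_of_universallyOpen' (j ≫ f) w)
  refine ⟨⟨S, hS⟩, fun x hx ζ hζ hζx => h _ hζ ⟨x, hζx.mem_closure, hx⟩, ?_⟩
  refine Groth.Agent.S4931.universallyOpen_of_forall _ fun a => ?_
  exact UOpenLib.IsUnivOpenAt.comp (UOpenLib.isUnivOpenAt_of_universallyOpen' (Scheme.Opens.ι ⟨S, hS⟩) a) (key _ a.2)

end Groth.Agent.S2572
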