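import Groth.Statements.S2593
import Mathlib
import Groth.Agent.UOpenLib.AffineSpace
import Groth.Agent.FibDimLib.Pure
import Groth.Agent.FibDimLib.QFGeneric
import Groth.Agent.FibDimLib.QFScheme
import Groth.Agent.S4928
import Groth.Agent.DvrDom.Points

set_option autoImplicit false
open CategoryTheory AlgebraicGeometry
universe u
open EGA43

namespace Groth.Agent.S2593

open CategoryTheory.Limits MvPolynomial in
/-- The criterion at one point. -/
theorem aux {X Y : Scheme.{u}} [IsLocallyNoetherian Y]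
    (hY : ∀ y : Y, CAlg2.IsGeomUnibranch (Y.presheaf.stalk y)) (g : X ⟶ Y) [LocallyOfFiniteType g]
    (x : X) (e : ℕ)
    (hdom : ∀ Z ∈ irreducibleComponents (X : Type u),
      ∃ W ∈ irreducibleComponents (Y : Type u), g.base x ∈ W ∧ closure (g.base '' Z) = W)
    (hfib : ∀ x' : X, FibDimLib.IsPureDim (g.fiber (g.base x')) e) : EGA43.IsUnivOpenAt g x := by
  have hlft : ∀ y, LocallyOfFiniteType (g.fiberToSpecResidueField y) :=
    fun y ↦ MorphismProperty.pullback_snd _ _ inferInstance
  have hd : FlatMor.fibreDimAt g x = e :=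
    @FibDimLib.IsPureDim.localDim_eq _ _ _ _ (hlft _) _ (hfib x) _
  obtain ⟨_, ⟨V, hV, rfl⟩, hxV, -⟩ :=
    Y.isBasis_affineOpens.exists_subset_of_mem_open (Set.mem_univ (g.base x)) isOpen_univ
  have hV : IsAffineOpen V := hV
  obtain ⟨U, hU, hxU, eUV, φ, hφ, hft, hqf⟩ := FibDimLib.exists_qf_affine_nhd g x hV hxV e hd
  -- the generization over a generic point
  obtain ⟨ζ, hζ, hζx⟩ := DvrDomLib.exists_generic_specializes x
  have hζU : ζ ∈ U := hζx.mem_open U.isOpen hxU
  have hζV : g.base ζ ∈ V := eUV hζU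
  obtain ⟨W, hW, hxW, hgen⟩ := hdom _ hζ
  rw [closure_image_closure g.continuous, Set.image_singleton] at hgen
  -- it is generic in its fibre
  let ι := g.fiberι (g.base ζ)
  let ξ := g.asFiber ζ
  have hξ : ι.base ξ = ζ := g.fiberι_asFiber ζ
  have hξc : closure {ξ} ∈ irreducibleComponents (g.fiber (g.base ζ) : Type u) := by
    let Z := irreducibleComponent ξ
    have hZ : IsIrreducible Z := isIrreducible_irreducibleComponent
    have hg := hZ.isGenericPoint_genericPoint_closure
    rw [closure_eq_iff_isClosed.mpr isClosed_irreducibleComponent] at hg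
    have h1 : ι.base hZ.genericPoint ⤳ ζ := by
      have h0 := (hg.specializes mem_irreducibleComponent).map ι.continuous
      rwa [hξ] at h0
    have h2 : ζ ⤳ ι.base hZ.genericPoint := specializes_iff_mem_closure.mpr
      (hζ.2 isIrreducible_singleton.closure h1.closure_subset (subset_closure rfl))
    have h3 : hZ.genericPoint = ξ :=
      ι.isEmbedding.injective ((h1.antisymm h2).eq.trans hξ.symm)
    rw [← h3, hg.def]
    exact irreducibleComponent_mem_irreducibleComponents ξ
  obtain ⟨c, hc, hcU⟩ := @FibDimLib.IsPureDim.exists_chain _ _ _ _ (hlft _) _ (hfib ζ) _ hξc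
    (ι ⁻¹ᵁ U) (show ι.base ξ ∈ U by rw [hξ]; exact hζU)
  have hgz : ∀ i, g.base (ι.base (c i)) = g.base ζ := fun i ↦ by
    have h := Set.mem_range_self (f := ι.base) (c i)
    rw [g.range_fiberι] at h
    exact h
  let Q (i : Fin (e + 1)) : PrimeSpectrum Γ(X, U) := hU.primeIdealOf ⟨ι.base (c i), (hcU i).1⟩
  let qζ : PrimeSpectrum Γ(X, U) := hU.primeIdealOf ⟨ζ, hζU⟩
  let p : PrimeSpectrum Γ(Y, V) := hV.primeIdealOf ⟨g.base ζ, hζV⟩
  have hmono : ∀ {a b : X} (ha : a ∈ U) (hb : b ∈ U), a ⤳ b →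
      hU.primeIdealOf ⟨a, ha⟩ ≤ hU.primeIdealOf ⟨b, hb⟩ := fun {a b} ha hb h ↦ by
    refine (PrimeSpectrum.le_iff_specializes _ _).mpr
      (hU.fromSpec.isOpenEmbedding.isInducing.specializes_iff.mp ?_)
    rw [hU.fromSpec_primeIdealOf, hU.fromSpec_primeIdealOf]
    exact h
  have hQ : StrictMono Q := Monotone.strictMono_of_injective
    (fun i j hij ↦ hmono _ _ ((hc.2 i j hij).map ι.continuous))
    (fun i j hij ↦ hc.1 (ι.isEmbedding.injective (by
      have := congrArg hU.fromSpec.base hij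
      simpa only [Q, hU.fromSpec_primeIdealOf] using this)))
  have hover : ∀ (z : X) (hz : z ∈ U), g.base z = g.base ζ →
      PrimeSpectrum.comap (φ.comp C) (hU.primeIdealOf ⟨z, hz⟩) = p := fun z hz hgz ↦ by
    rw [hφ]
    refine (IsAffineOpen.comap_primeIdealOf_appLE V hV U hU eUV hz).trans ?_
    exact congrArg hV.primeIdealOf (Subtype.ext hgz)
  have hq : qζ.asIdeal.comap φ = p.asIdeal.map C :=
    FibDimLib.comap_eq_map_C_of_chain φ hqf p Q hQ (fun i ↦ hover _ _ (hgz i)) qζ
      (hmono _ _ (by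
        have := ((hcU 0).2).map ι.continuous
        rwa [hξ] at this)) (hover _ _ rfl)
  -- pass to the spectrum of the affine open
  let g₁ := hU.fromSpec ≫ g
  let x' : ↥(Spec Γ(X, U)) := hU.primeIdealOf ⟨x, hxU⟩
  have hx' : hU.fromSpec.base x' = x := hU.fromSpec_primeIdealOf ⟨x, hxU⟩
  suffices H : EGA43.IsUnivOpenAt g₁ x' from hx' ▸ UOpenLib.IsUnivOpenAt.of_comp H
  let y := g₁.base x'
  have hy : y = g.base x := by
    show g₁.base x' = _
    rw [Scheme.Hom.comp_apply, hx']
  have hyV : y ∈ V := hy ▸ hxV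
  let O := Y.presheaf.stalk y
  let ψ : Γ(Y, V) →+* O := (Y.presheaf.germ V y hyV).hom
  let a := Y.fromSpecStalk y
  let aR : Spec O ⟶ Spec Γ(Y, V) := Spec.map (CommRingCat.ofHom ψ)
  have haR : aR ≫ hV.fromSpec = a := hV.fromSpecStalk_eq_fromSpecStalk hyV
  let uR : Spec Γ(X, U) ⟶ Spec (CommRingCat.of (MvPolynomial (Fin e) Γ(Y, V))) :=
    Spec.map (CommRingCat.ofHom φ)
  let gR := uR ≫ UOpenLib.polyProj Γ(Y, V) e
  have hgR : gR ≫ hV.fromSpec = g₁ := by
    simp only [gR, uR, UOpenLib.polyProj, ← Spec.map_comp, ← CommRingCat.ofHom_comp, hφ,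
      CommRingCat.ofHom_hom]
    exact IsAffineOpen.SpecMap_appLE_fromSpec g hV hU eUV
  have : LocallyOfFinitePresentation g₁ :=
    UOpenLib.locallyOfFinitePresentation_of_isLocallyNoetherian g₁
  obtain ⟨x₁, hx₁, hx₁c⟩ := Scheme.Pullback.exists_preimage_pullback (f := g₁) (g := a) x'
    (IsLocalRing.closedPoint O) (Scheme.fromSpecStalk_closedPoint).symm
  refine (Groth.Agent.S4928.result g₁ x' x₁ hx₁).mpr ?_
  let b := pullback.fst g₁ a
  let f₁ := pullback.snd g₁ a
  have sq₀ : IsPullback b f₁ gR aR := by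
    have hw : b ≫ gR = f₁ ≫ aR := by
      refine (cancel_mono hV.fromSpec).mp ?_
      exact (Category.assoc b gR hV.fromSpec).trans ((congrArg (fun m ↦ b ≫ m) hgR).trans
        (pullback.condition.trans ((congrArg (fun m ↦ f₁ ≫ m) haR).symm.trans
          (Category.assoc f₁ aR hV.fromSpec).symm)))
    refine ⟨⟨hw⟩, ⟨PullbackCone.IsLimit.mk _ (fun s ↦ pullback.lift s.fst s.snd ?_)
      (fun s ↦ pullback.lift_fst _ _ _) (fun s ↦ pullback.lift_snd _ _ _)
      fun s m h1 h2 ↦ pullback.hom_ext (by rw [pullback.lift_fst]; exact h1)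
        (by rw [pullback.lift_snd]; exact h2)⟩⟩
    exact (congrArg (fun m ↦ s.fst ≫ m) hgR).symm.trans
      ((Category.assoc s.fst gR hV.fromSpec).symm.trans
        ((congrArg (fun m ↦ m ≫ hV.fromSpec) s.condition).trans
          ((Category.assoc s.snd aR hV.fromSpec).trans (congrArg (fun m ↦ s.snd ≫ m) haR))))
  have sqP := UOpenLib.isPullback_polyProj ψ e
  let u₁ := sqP.lift (b ≫ uR) f₁ (by rw [Category.assoc]; exact sq₀.w)
  have hu₁ : u₁ ≫ UOpenLib.polyProj O e = f₁ := sqP.lift_snd _ _ _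
  have squ : IsPullback b u₁ uR _ :=
    IsPullback.of_bot (hu₁.symm ▸ sq₀) (sqP.lift_fst _ _ _).symm sqP
  have : LocallyOfFiniteType uR := HasRingHomProperty.Spec_iff.mpr hft
  have : LocallyQuasiFinite uR := HasRingHomProperty.Spec_iff.mpr hqf
  have : LocallyOfFiniteType u₁ := MorphismProperty.of_isPullback squ ‹_›
  have : LocallyQuasiFinite u₁ := MorphismProperty.of_isPullback squ ‹_›
  have hu := hY y
  have hnil : (nilradical O).IsPrime := (Ideal.Quotient.isDomain_iff_prime _).mp hu.1.1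
  let n : ↥(Spec O) := (⟨nilradical O, hnil⟩ : PrimeSpectrum O)
  -- the generic point of the local scheme
  obtain ⟨r, hr⟩ : g.base ζ ∈ Set.range a.base := by
    rw [Scheme.range_fromSpecStalk]
    exact hy ▸ hζx.map g.continuous
  have hn : n ⤳ r :=
    (PrimeSpectrum.le_iff_specializes _ _).mp
      (show nilradical O ≤ (r : PrimeSpectrum O).asIdeal from nilradical_le_prime _)
  have han : a.base n = g.base ζ := by
    have h1 : a.base n ⤳ g.base ζ := hr ▸ hn.map a.continuous
    refine (h1.antisymm (specializes_iff_mem_closure.mpr ?_)).eq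
    rw [hgen]
    exact hW.2 isIrreducible_singleton.closure (hgen ▸ h1.closure_subset) (subset_closure rfl)
  have hnp : PrimeSpectrum.comap ψ n = p := by
    refine hV.fromSpec.isOpenEmbedding.injective ?_
    refine Eq.trans ?_ (hV.fromSpec_primeIdealOf ⟨g.base ζ, hζV⟩).symm
    show hV.fromSpec.base (aR.base n) = g.base ζ
    rw [← Scheme.Hom.comp_apply, haR, han]
  have hprime : ((nilradical O).map (C (σ := Fin e))).IsPrime := by
    have := MvPolynomial.ker_map (σ := Fin e) (Ideal.Quotient.mk (nilradical O))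
    rw [Ideal.mk_ker] at this
    rw [← this]
    exact RingHom.ker_isPrime _
  obtain ⟨ζ₁, hζ₁, hζ₁u⟩ := UOpenLib.image_fst_snd squ qζ
    (⟨_, hprime⟩ : PrimeSpectrum (MvPolynomial (Fin e) O)) (by
      apply PrimeSpectrum.ext
      show qζ.asIdeal.comap φ = ((nilradical O).map C).comap (MvPolynomial.map ψ)
      rw [hq, ← hnp]
      ext P
      simp only [Ideal.mem_comap, MvPolynomial.mem_map_C_iff, MvPolynomial.coeff_map]
      rfl)
  have hsp : ζ₁ ⤳ x₁ := by
    rw [← b.isEmbedding.isInducing.specializes_iff, hζ₁, hx₁]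
    exact (PrimeSpectrum.le_iff_specializes _ _).mp (hmono hζU hxU hζx)
  have := UOpenLib.isUnivOpenAt_of_quasiFinite_polyProj O hu e u₁ x₁
    (by rw [hu₁]; exact hx₁c) ζ₁ hsp (congrArg PrimeSpectrum.asIdeal hζ₁u)
  rwa [hu₁] at this

/-- Chevalley's criterion for universal openness: let Y be a locally Noetherian scheme all of whose
local rings are geometrically unibranch and f : X ⟶ Y a morphism locally of finite type which is
equidimensional at every point of X. Then f is universally open. (The published statement has an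
arbitrary base; a locally Noetherian base is assumed here, and without it the statement fails, e.g.
for the inclusion of a non-open closed point of the spectrum of an infinite product of copies of
𝔽₂.) -/
theorem result {X Y : Scheme.{u}} [IsLocallyNoetherian Y]
    (hY : ∀ y : Y, CAlg2.IsGeomUnibranch (Y.presheaf.stalk y)) (f : X ⟶ Y) [LocallyOfFiniteType f]
    (h : ∀ x : X, EGA43.IsEquidimAt f x) : UniversallyOpen f := by
  refine ⟨fun P Y' i₁ g f' sq => ?_⟩
  show IsOpenMap f'.base
  suffices H : ∀ x : X, EGA43.IsUnivOpenAt f x by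
    intro U hU
    rw [isOpen_iff_mem_nhds]
    rintro _ ⟨w, hw, rfl⟩
    exact UOpenLib.IsUnivOpenAt.isOpenAt (H _) sq.flip w rfl U (hU.mem_nhds hw)
  intro x
  obtain ⟨e, U, hxU, hdom, hfib⟩ := h x
  exact UOpenLib.IsUnivOpenAt.of_comp (f := U.ι) (x := (⟨x, hxU⟩ : U))
    (aux hY (U.ι ≫ f) ⟨x, hxU⟩ e hdom hfib)

end Groth.Agent.S2593
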