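import Groth.Statements.S2594
import Mathlib
import Groth.Agent.EquidimLib.Points
import Groth.Agent.FibDimLib.SchemeInv
import Groth.Agent.UOpenLib.AffineSpaceOpen

set_option autoImplicit false
open CategoryTheory AlgebraicGeometry
universe u
open EGA43

namespace Groth.Agent.S2594

open CategoryTheory.Limits in
/-- Let f : X ⟶ Y be locally of finite type and equidimensional at a point x, and g : Y' ⟶ Y a flat
morphism with Y' locally Noetherian (the source states this for arbitrary Y', but its proof reduces
to the case where every irreducible component passes through the point, which needs the irreducible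
components to be locally finite). Then the base change X ×_Y Y' ⟶ Y' is equidimensional at every
point lying over x. -/
theorem result {X Y Y' : Scheme.{u}} (f : X ⟶ Y) [LocallyOfFiniteType f] (g : Y' ⟶ Y) [Flat g] [IsLocallyNoetherian Y']
    (x : X) (h : EGA43.IsEquidimAt f x) (x' : ↥(pullback f g)) (hx' : (pullback.fst f g).base x' = x) :
    EGA43.IsEquidimAt (pullback.snd f g) x' := by
  obtain ⟨e, U, hU⟩ := (EquidimLib.isEquidimAt_iff f x).mp h
  let a := pullback.fst f g
  let b := pullback.snd f g
  have : IsLocallyNoetherian (pullback f g) := LocallyOfFiniteType.isLocallyNoetherian b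
  have hdimU : ∀ z ∈ a ⁻¹ᵁ U, FlatMor.fibreDimAt b z = e := fun z hz ↦ by
    rw [FibDimLib.fibreDimAt_baseChange (IsPullback.of_hasPullback f g) z]
    exact hU.fibreDimAt_eq f hz
  refine EquidimLib.isEquidimAt_of_bounds b x' e (a ⁻¹ᵁ U) (show a.base x' ∈ U from hx' ▸ hU.mem)
    (fun z hz ↦ hdimU z hz ▸ UOpenLib.fibreClosureDim_le_fibreDimAt b specializes_rfl) fun ζ hζU hζ ↦ ?_
  refine ⟨?_, ?_⟩
  · -- the image of a maximal point is maximal
    have hfl : Flat a := MorphismProperty.pullback_fst _ _ inferInstance
    have hzmax : closure {a.base ζ} ∈ irreducibleComponents (X : Type u) :=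
      FibDimLib.closure_mem_irreducibleComponents_of_max fun w hw ↦ by
        obtain ⟨ζ', hζ', rfl⟩ := Flat.generalizingMap a hw
        rw [FibDimLib.eq_of_specializes_of_closure_mem hζ hζ']
    have hfmax := (hU.max (a.base ζ) hζU hzmax).1
    refine FibDimLib.closure_mem_irreducibleComponents_of_max fun η hη ↦ ?_
    have hgη : g.base η = g.base (b.base ζ) := by
      have h1 : g.base (b.base ζ) = f.base (a.base ζ) := by
        rw [← Scheme.Hom.comp_apply, ← pullback.condition, Scheme.Hom.comp_apply]
      rw [h1]
      exact FibDimLib.eq_of_specializes_of_closure_mem hfmax (h1 ▸ hη.map g.continuous)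
    obtain ⟨p₀, hp₀, hpη, -⟩ := UOpenLib.exists_specializes_snd (IsPullback.of_hasPullback f g) ζ hη hgη
    rw [← hpη, FibDimLib.eq_of_specializes_of_closure_mem hζ hp₀]
  · rw [← UOpenLib.fibreDimAt_eq_of_max b (EquidimLib.isFibreMax_of_max b hζ), hdimU ζ hζU]

end Groth.Agent.S2594
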