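import Groth.Statements.S5153
import Groth.Agent.HartConnLib.Local
import Groth.Agent.NormalExtLib.Dvr
import Groth.Agent.ProperConnLib.Core

set_option autoImplicit false
universe u
open AlgebraicGeometry
open LocCoh

namespace Groth.Agent.S5153

open TopologicalSpace CategoryTheory

variable {X : Scheme.{u}} [IsLocallyNoetherian X]

theorem exists_gen_of_mem_closure (W : Set X) (hW : IsOpen W) {x : X} (hx : x ∈ closure W) :
    ∃ d ∈ W, d ⤳ x := by
  obtain ⟨_, ⟨V, hV, rfl⟩, hxV, -⟩ :=
    X.isBasis_affineOpens.exists_subset_of_mem_open (Set.mem_univ x) isOpen_univ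
  haveI : IsNoetherianRing Γ(X, V) := IsLocallyNoetherian.component_noetherian ⟨V, hV⟩
  haveI : NoetherianSpace (V : Set X) := noetherianSpace_of_isAffineOpen V hV
  haveI : NoetherianSpace ↥((W ∩ (V : Set X)) ∩ Set.univ) :=
    (Topology.IsInducing.noetherianSpace (α := (V : Set X))
      (Topology.IsEmbedding.inclusion (fun y hy => hy.1.2)).isInducing)
  obtain ⟨d, ⟨⟨hd, -⟩, -⟩, hdx⟩ := NormalExtLib.exists_specializes_of_mem_closure (O := W ∩ (V : Set X))
    (C := Set.univ) (hW.inter V.2) isClosed_univ (x := x) (by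
      rw [Set.inter_univ, Set.inter_comm]
      exact V.2.inter_closure ⟨hxV, hx⟩)
  exact ⟨d, hd, hdx⟩

variable {U : X.Opens} (h : ∀ x : X, x ∉ (U : Set X) → (2 : ℕ∞) ≤ LocCoh.depth (X.presheaf.stalk x) (X.presheaf.stalk x))

include h in
theorem exists_gen_ne {x : X} (hx : x ∉ (U : Set X)) : ∃ y, y ⤳ x ∧ y ≠ x := by
  obtain ⟨p, hp⟩ := HartConnLib.exists_ne_maximalIdeal (le_trans one_le_two (h x hx))
  refine ⟨X.fromSpecStalk x p, Scheme.range_fromSpecStalk.le ⟨p, rfl⟩, fun he => hp ?_⟩
  exact congrArg PrimeSpectrum.asIdeal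
    ((X.fromSpecStalk x).isEmbedding.injective (he.trans Scheme.fromSpecStalk_closedPoint.symm))

theorem exists_maximal_in (B : Set X) (hB : IsClosed B) {x : X} (hx : x ∈ B) :
    ∃ η ∈ B, η ⤳ x ∧ ∀ y ∈ B, y ⤳ η → y = η := by
  let f := X.fromSpecStalk x
  have hpre : IsClosed (f ⁻¹' B : Set (PrimeSpectrum (X.presheaf.stalk x))) := hB.preimage f.continuous
  obtain ⟨a, ha⟩ := (PrimeSpectrum.isClosed_iff_zeroLocus_ideal _).1 hpre
  have hc : (IsLocalRing.closedPoint (X.presheaf.stalk x)) ∈ PrimeSpectrum.zeroLocus (a : Set (X.presheaf.stalk x)) := by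
    rw [← ha]
    show f _ ∈ B
    rw [Scheme.fromSpecStalk_closedPoint]
    exact hx
  obtain ⟨P, hP, -⟩ := Ideal.exists_minimalPrimes_le (I := a)
    (J := (IsLocalRing.closedPoint (X.presheaf.stalk x)).asIdeal) hc
  haveI := hP.1.1
  let p : PrimeSpectrum (X.presheaf.stalk x) := ⟨P, hP.1.1⟩
  have hpB : f p ∈ B := (ha.ge (show p ∈ PrimeSpectrum.zeroLocus (a : Set _) from hP.1.2) :)
  refine ⟨f p, hpB, Scheme.range_fromSpecStalk.le ⟨p, rfl⟩, fun y hy hyp => ?_⟩
  obtain ⟨q, rfl⟩ : y ∈ Set.range f :=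
    Scheme.range_fromSpecStalk.ge (hyp.trans (Scheme.range_fromSpecStalk.le ⟨p, rfl⟩))
  let q' : PrimeSpectrum (X.presheaf.stalk x) := q
  have hqp : q'.asIdeal ≤ P :=
    (PrimeSpectrum.le_iff_specializes q' p).2 (f.isEmbedding.isInducing.specializes_iff.1 hyp)
  have hqa : a ≤ q'.asIdeal := (ha.le hy : q' ∈ PrimeSpectrum.zeroLocus (a : Set _))
  exact congrArg f (PrimeSpectrum.ext (le_antisymm hqp (hP.2 ⟨q'.isPrime, hqa⟩ hqp)) : q' = p)

include h in
theorem dense_U : Dense (U : Set X) := by
  intro x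
  by_cases hx : x ∈ (U : Set X)
  · exact subset_closure hx
  obtain ⟨η, hη, hηx, hmax⟩ := exists_maximal_in (U : Set X)ᶜ U.2.isClosed_compl hx
  obtain ⟨y, hy, hne⟩ := exists_gen_ne h hη
  have hyU : y ∈ (U : Set X) := by
    by_contra hyU
    exact hne (hmax y hyU hy)
  exact (hy.trans hηx).mem_closed isClosed_closure (subset_closure hyU)

include h in
theorem disjoint_closure {W W' : Set X} (hW : IsOpen W) (hW' : IsOpen W') (hdis : Disjoint W W')
    (hU : (U : Set X) = W ∪ W') : Disjoint (closure W) (closure W') := by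
  rw [Set.disjoint_left]
  intro x₀ hx₀ hx₀'
  obtain ⟨x, hx, -, hmax⟩ := exists_maximal_in (closure W ∩ closure W') (isClosed_closure.inter isClosed_closure)
    (⟨hx₀, hx₀'⟩ : x₀ ∈ closure W ∩ closure W')
  have hxU : x ∉ (U : Set X) := by
    rw [hU]
    rintro (hxW | hxW)
    · exact (hdis.closure_right hW).le_bot ⟨hxW, hx.2⟩
    · exact (hdis.closure_left hW').le_bot ⟨hx.1, hxW⟩
  let f := X.fromSpecStalk x
  let P : Set (PrimeSpectrum (X.presheaf.stalk x)) := {p | p.asIdeal ≠ IsLocalRing.maximalIdeal (X.presheaf.stalk x)}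
  have hconn : _root_.IsConnected P := HartConnLib.isConnected_punctured (h x hxU)
  have hin : ∀ {d : X}, d ∈ (U : Set X) → d ⤳ x → ∃ p ∈ P, f p = d := fun {d} hd hdx => by
    obtain ⟨p, rfl⟩ : d ∈ Set.range f := Scheme.range_fromSpecStalk.ge hdx
    refine ⟨p, fun he => hxU ?_, rfl⟩
    have hp : p = IsLocalRing.closedPoint (X.presheaf.stalk x) := PrimeSpectrum.ext he
    rw [hp, Scheme.fromSpecStalk_closedPoint] at hd
    exact hd
  obtain ⟨d, hd, hdx⟩ := exists_gen_of_mem_closure W hW hx.1
  obtain ⟨d', hd', hdx'⟩ := exists_gen_of_mem_closure W' hW' hx.2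
  obtain ⟨p, hp, rfl⟩ := hin (hU ▸ Or.inl hd) hdx
  obtain ⟨p', hp', rfl⟩ := hin (hU ▸ Or.inr hd') hdx'
  obtain ⟨r, hr, hr1, hr2⟩ := isPreconnected_closed_iff.1 hconn.2 (f ⁻¹' closure W) (f ⁻¹' closure W')
    (isClosed_closure.preimage f.continuous) (isClosed_closure.preimage f.continuous)
    (fun q _ => by
      have hq := dense_U h (f q)
      rw [hU, closure_union] at hq
      exact hq)
    ⟨p, hp, subset_closure hd⟩ ⟨p', hp', subset_closure hd'⟩
  refine hr ?_
  have := hmax (f r) ⟨hr1, hr2⟩ (Scheme.range_fromSpecStalk.le ⟨r, rfl⟩)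
  exact congrArg PrimeSpectrum.asIdeal (f.isEmbedding.injective (this.trans Scheme.fromSpecStalk_closedPoint.symm))

/-- Let X be a locally Noetherian scheme and Y = X − U a closed subset such that depth O_{X,x} ≥ 2 for
every x ∈ Y. Then the inclusion U → X induces a bijection on sets of connected components. -/
theorem result (X : Scheme.{u}) [IsLocallyNoetherian X] (U : X.Opens) (h : ∀ x : X, x ∉ (U : Set X) → (2 : ℕ∞) ≤ LocCoh.depth (X.presheaf.stalk x) (X.presheaf.stalk x)) : Function.Bijective (Continuous.connectedComponentsMap (continuous_subtype_val : Continuous (fun x : U => (x : X)))) := by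
  haveI := ProperConnLib.locallyConnectedSpace X
  haveI : LocallyConnectedSpace {x // x ∈ U.carrier} := U.2.locallyConnectedSpace
  refine ⟨fun a b hab => ?_, fun c => ?_⟩
  · obtain ⟨a, rfl⟩ := ConnectedComponents.surjective_coe a
    obtain ⟨b, rfl⟩ := ConnectedComponents.surjective_coe b
    have hab' : connectedComponent (a : X) = connectedComponent (b : X) := ConnectedComponents.coe_eq_coe.1 hab
    let W : Set X := Subtype.val '' connectedComponent a
    let W' : Set X := Subtype.val '' (connectedComponent a)ᶜ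
    have hW : IsOpen W := U.2.isOpenMap_subtype_val _ isOpen_connectedComponent
    have hW' : IsOpen W' := U.2.isOpenMap_subtype_val _ isClosed_connectedComponent.isOpen_compl
    have hUW : (U : Set X) = W ∪ W' := by
      rw [← Set.image_union, Set.union_compl_self, Set.image_univ, Subtype.range_coe]
    have hdisW : Disjoint W W' := (Set.disjoint_image_iff Subtype.val_injective).2 disjoint_compl_right
    have hdis := disjoint_closure h hW hW' hdisW hUW
    have hclop : IsClopen (closure W) := by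
      refine ⟨isClosed_closure, ?_⟩
      have : closure W = (closure W')ᶜ := by
        refine Set.Subset.antisymm hdis.subset_compl_right fun y hy => ?_
        have hy' := dense_U h y
        rw [hUW, closure_union] at hy'
        exact hy'.resolve_right hy
      rw [this]
      exact isClosed_closure.isOpen_compl
    have hb : (b : X) ∈ closure W :=
      hclop.connectedComponent_subset (subset_closure ⟨a, mem_connectedComponent, rfl⟩)
        (hab'.symm ▸ mem_connectedComponent : (b : X) ∈ connectedComponent (a : X))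
    refine ConnectedComponents.coe_eq_coe'.2 ?_
    by_contra hb'
    refine hdis.le_bot ⟨hb, subset_closure ⟨b, fun hmem => hb' ?_, rfl⟩⟩
    rw [← connectedComponent_eq hmem]
    exact mem_connectedComponent
  · obtain ⟨x, rfl⟩ := ConnectedComponents.surjective_coe c
    obtain ⟨y, hy, hyU⟩ := (dense_U h).inter_open_nonempty _ isOpen_connectedComponent ⟨x, mem_connectedComponent⟩
    refine ⟨ConnectedComponents.mk ⟨y, hyU⟩, ?_⟩
    exact ConnectedComponents.coe_eq_coe'.2 hy

end Groth.Agent.S5153
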