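import Groth.Statements.S5040
import Groth.Agent.CatLib.CplEquiv
import Groth.Agent.S0507
import Groth.Agent.S0509
import Groth.Agent.S0510
import Groth.Agent.S0511

set_option autoImplicit false
universe u
open Hensel

namespace Groth.Agent.S5040

/-- Let R be a Noetherian local ring with henselization S. If R is formally catenary (the completion of
R/p is equidimensional for every prime ideal p), then S is formally catenary. -/
theorem result (R S : Type u) [CommRing R] [IsLocalRing R] [IsNoetherianRing R]
    [CommRing S] [IsLocalRing S] [Algebra R S] [IsLocalHom (algebraMap R S)] [Hensel.IsHenselization R S]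
    (h : EGA4.IsFormallyCatenary R) : EGA4.IsFormallyCatenary S := by
  haveI : Module.FaithfullyFlat R S := Groth.Agent.S0509.result R S
  haveI : IsNoetherianRing S := (Groth.Agent.S0511.result R S).1 inferInstance
  refine CatLib.isFormallyCatenary_of_faithfullyFlat R S (Groth.Agent.S0507.result R S) (fun n b => ?_) h
  obtain ⟨x, hx⟩ := (Groth.Agent.S0510.result R S n).2 (Ideal.Quotient.mk _ b)
  obtain ⟨a, rfl⟩ := Ideal.Quotient.mk_surjective x
  rw [Ideal.quotientMap_mk, Ideal.Quotient.eq, Ideal.map_pow, Groth.Agent.S0507.result R S] at hx
  exact ⟨a, by simpa using neg_mem hx⟩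

end Groth.Agent.S5040
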