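import Groth.Statements.S2911
import Groth.Agent.EtQuotLib.Main
import Groth.Agent.AlgSpLib.EtLocProp
import Groth.Agent.S2909
import Groth.Agent.S2908
import Mathlib.AlgebraicGeometry.Morphisms.Proper
import Mathlib.AlgebraicGeometry.Morphisms.Etale
import Mathlib.AlgebraicGeometry.Noetherian
-- import your own Groth.Agent.* helpers here

set_option autoImplicit false
open CategoryTheory CategoryTheory.Limits AlgebraicGeometry
universe u
open SGA1

namespace Groth.Agent.S2911

/-- With the existence of the quotient taken as a hypothesis: Let Y be locally Noetherian, f : X ⟶ Y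
etale, separated and quasi-compact, G a finite group acting on X by Y-automorphisms, p : X ⟶ X' a
quotient of X by G and q : X' ⟶ Y the induced morphism. Then p and q are etale, and if f is finite
then q is finite. -/
theorem result {X X' Y : Scheme.{u}} {G : Type u} [Group G] [Finite G] (ρ : G →* Aut X)
    [IsLocallyNoetherian Y] (f : X ⟶ Y) [Etale f] [IsSeparated f] [QuasiCompact f] (hρ : ∀ g : G, (ρ g).hom ≫ f = f)
    (p : X ⟶ X') (hp : SGA1.IsQuot ρ p) (q : X' ⟶ Y) (hq : p ≫ q = f) :
    Etale p ∧ Etale q ∧ (IsFinite f → IsFinite q) := by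
  subst hq
  haveI := hp.affine
  obtain ⟨haff, hsep, hfin, hft⟩ := S2909.result ρ p hp (p ≫ q) q rfl hρ
  haveI : IsFinite p := hfin inferInstance
  obtain ⟨hlft, hqc⟩ := hft inferInstance inferInstance inferInstance
  haveI := hlft
  haveI : IsSeparated q := hsep.1 inferInstance
  haveI : IsLocallyNoetherian X' := LocallyOfFiniteType.isLocallyNoetherian q
  haveI : LocallyOfFinitePresentation p :=
    LocallyOfFinitePresentation.iff_locallyOfFiniteType.2 inferInstance
  haveI : FormallyUnramified p := FormallyUnramified.of_comp p q
  haveI : Flat p := EtQuotLib.flat_of_isQuot hp q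
  haveI hep : Etale p := Etale.of_formallyUnramified_of_flat p
  haveI : Surjective p := ⟨(S2908.result ρ p hp).1⟩
  have heq : Etale q := AlgSpLib.EtLocProp.srcDescent (P := (@Etale : MorphismProperty Scheme.{u})) p q ‹_›
  refine ⟨hep, heq, fun hf => ?_⟩
  haveI : UniversallyClosed q := UniversallyClosed.of_comp_surjective p q
  rw [IsFinite.iff_isProper_and_isAffineHom]
  haveI : IsAffineHom q := haff.1 inferInstance
  exact ⟨{}, inferInstance⟩

end Groth.Agent.S2911
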