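import Groth.Statements.S2915
import Groth.Agent.FEtSplitLib.Descend
import Groth.Agent.FEtSplitLib.Exists

set_option autoImplicit false
set_option backward.isDefEq.respectTransparency false
set_option backward.isDefEq.respectTransparency.types false
set_option maxRecDepth 8000
set_option maxHeartbeats 1000000
universe u
open SGA1

namespace Groth.Agent.S2915

open AlgebraicGeometry CategoryTheory CategoryTheory.Limits in
/-- Let f : X ⟶ S be proper, surjective and locally of finite presentation, with geometrically connected
fibres: the base change of X along any point of S with values in an algebraically closed field is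
connected. Let X′ be a finite étale cover of X such that for every such geometric point of S the
pullback of X′ to the corresponding geometric fibre is split (isomorphic over the fibre to a finite
disjoint union of copies of it). Then X′ is isomorphic to the pullback along f of some finite étale
cover of S. -/
theorem result {X S : Scheme.{u}} (f : X ⟶ S) [IsProper f] [Surjective f]
    [LocallyOfFinitePresentation f]
    (hconn : ∀ (K : Type u) [Field K] [IsAlgClosed K] (ξ : Spec (CommRingCat.of K) ⟶ S), ConnectedSpace ↑(pullback f ξ))
    (X' : FEt.Cat X)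
    (hsplit : ∀ (K : Type u) [Field K] [IsAlgClosed K] (ξ : Spec (CommRingCat.of K) ⟶ S),
      Pi1.IsSplit ((FEt.restrict (pullback.fst f ξ)).obj X')) :
    ∃ S' : FEt.Cat S, Nonempty ((FEt.restrict f).obj S' ≅ X') := by
  let V : Scheme.{u} := X'.left
  let w : V ⟶ X := X'.hom
  haveI : IsFinite w := X'.prop.1
  haveI : Etale w := X'.prop.2
  have hS : FEtSplit.GeoSplit w f := fun K _ _ ξ => by
    obtain ⟨ι, hι, h⟩ := FEtSplit.exists_splits_of_isSplit (hsplit K ξ)
    let v : pullback w (pullback.fst f ξ) ⟶ pullback f ξ := pullback.snd _ _
    have hv : FEtSplit.Splits ι v := h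
    refine ⟨ι, hι, hv.of_isPullback (q := (FEtSplit.isPullback_mW w f ξ).isoPullback.hom) (g := 𝟙 _) ?_⟩
    exact IsPullback.of_horiz_isIso ⟨by
      rw [Category.comp_id]; exact (FEtSplit.isPullback_mW w f ξ).isoPullback_hom_snd⟩
  obtain ⟨U, hU, hU', e, he⟩ := FEtSplit.exists_descent hS hconn (fun s => FEtSplit.nonempty_chart hS s)
  exact ⟨MorphismProperty.Over.mk ⊤ U.hom ⟨hU, hU'⟩, ⟨MorphismProperty.Over.isoMk e he⟩⟩

end Groth.Agent.S2915
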