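import Groth.Statements.S2916
import Groth.Agent.SubmDescLib.Etale
import Groth.Agent.DescLib.QAff
-- import your own Groth.Agent.* helpers here

set_option autoImplicit false
open CategoryTheory CategoryTheory.Limits AlgebraicGeometry Opposite
universe u
open SGA1

set_option backward.isDefEq.respectTransparency false
set_option backward.isDefEq.respectTransparency.types false

namespace Groth.Agent.S2916

/-- Let g : S' ⟶ S be universally submersive with geometrically connected fibres (the base change of S'
to any algebraically closed field valued point of S is connected). Then S' is connected whenever S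
is, and for schemes X, Y etale over S every S'-morphism between their base changes comes from
exactly one S-morphism X ⟶ Y. -/
theorem result {S' S : Scheme.{u}} (g : S' ⟶ S)
    (hg : SGA1.UnivSubmersive g)
    (hconn : ∀ (K : Type u) [Field K] [IsAlgClosed K] (ξ : Spec (CommRingCat.of K) ⟶ S), ConnectedSpace ↑(pullback g ξ)) :
    (ConnectedSpace S → ConnectedSpace S') ∧
    ∀ (X Y : Over S) [Etale X.hom] [Etale Y.hom], Function.Bijective ((Over.pullback g).map : (X ⟶ Y) → _) := by
  have key : ∀ x : S, _root_.IsConnected (g ⁻¹' {x}) := by
    intro x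
    let K := AlgebraicClosure (S.residueField x)
    let ξ : Spec (CommRingCat.of K) ⟶ S :=
      Spec.map (CommRingCat.ofHom (algebraMap (S.residueField x) K)) ≫ S.fromSpecResidueField x
    haveI := hconn K ξ
    have hr : g ⁻¹' {x} = pullback.fst g ξ '' Set.univ := by
      rw [Set.image_univ, Scheme.Pullback.range_fst]
      congr 1
      have : Set.range ξ = {x} := by
        refine Set.eq_singleton_iff_unique_mem.2 ⟨?_, ?_⟩
        · obtain ⟨z⟩ := (inferInstance : Nonempty ↑(Spec (CommRingCat.of K)))
          exact ⟨z, by rw [Scheme.Hom.comp_apply]; exact S.fromSpecResidueField_apply x _⟩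
        · rintro _ ⟨z, rfl⟩
          rw [Scheme.Hom.comp_apply]; exact S.fromSpecResidueField_apply x _
      exact this.symm
    rw [hr]
    exact isConnected_univ.image _ (pullback.fst g ξ).continuous.continuousOn
  have hq := FFDescLib.isQuotientMap_of_univSubmersive hg
  refine ⟨fun _ => ?_, fun X Y _ _ => ⟨fun a b e => ?_, fun f => ?_⟩⟩
  · rw [connectedSpace_iff_univ, ← Set.preimage_univ (f := g)]
    exact Topology.IsCoinducing.isConnected_preimage_of_isClosed key hq.isCoinducing isClosed_univ isConnected_univ
  · have hh : SGA1.UnivSubmersive (pullback.fst X.hom g) := MorphismProperty.pullback_fst X.hom g hg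
    haveI := SubmDescLib.surjective_of_univSubmersive hh
    have e' := congrArg (fun z => z.left ≫ pullback.fst Y.hom g) e
    simp at e'
    exact Over.OverMorphism.ext (SubmDescLib.hom_ext (pullback.fst X.hom g) Y.hom
      ((Over.w a).trans (Over.w b).symm) e')
  · let h := pullback.fst X.hom g
    have hh : SGA1.UnivSubmersive h := MorphismProperty.pullback_fst X.hom g hg
    let y : pullback X.hom g ⟶ Y.left := f.left ≫ pullback.fst Y.hom g
    have hfw : f.left ≫ pullback.snd Y.hom g = pullback.snd X.hom g := Over.w f
    have w : y ≫ Y.hom = h ≫ X.hom := by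
      simp only [y, h, Category.assoc, pullback.condition]
      rw [reassoc_of% hfw]
    have w' : (pullback.fst h h ≫ y) ≫ Y.hom = (pullback.snd h h ≫ y) ≫ Y.hom := by
      rw [Category.assoc (pullback.fst h h) y, Category.assoc (pullback.snd h h) y, w, pullback.condition_assoc]
    have hcoc : pullback.fst h h ≫ y = pullback.snd h h ≫ y := by
      let P := pullback (pullback.diagonal Y.hom) (pullback.lift _ _ w')
      haveI : IsOpenImmersion (pullback.snd (pullback.diagonal Y.hom) (pullback.lift _ _ w')) :=
        MorphismProperty.pullback_snd (P := @IsOpenImmersion) _ _ inferInstance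
      haveI : Surjective (pullback.snd (pullback.diagonal Y.hom) (pullback.lift _ _ w')) := ⟨fun z => by
        let K := AlgebraicClosure ((pullback h h).residueField z)
        let τ : Spec (CommRingCat.of K) ⟶ pullback h h :=
          Spec.map (CommRingCat.ofHom (algebraMap ((pullback h h).residueField z) K)) ≫
            (pullback h h).fromSpecResidueField z
        let ξ : Spec (CommRingCat.of K) ⟶ X.left := τ ≫ pullback.fst h h ≫ h
        let Z := pullback h ξ
        let E := pullback Y.hom (ξ ≫ X.hom)
        let φ : Z ⟶ E := pullback.lift (pullback.fst h ξ ≫ y) (pullback.snd h ξ)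
          (by rw [Category.assoc, w, pullback.condition_assoc])
        let s₁ : Spec (CommRingCat.of K) ⟶ Z := pullback.lift (τ ≫ pullback.fst h h) (𝟙 _)
          (by rw [Category.id_comp, Category.assoc])
        let s₂ : Spec (CommRingCat.of K) ⟶ Z := pullback.lift (τ ≫ pullback.snd h h) (𝟙 _)
          (by rw [Category.id_comp, Category.assoc, ← pullback.condition])
        haveI : ConnectedSpace Z := by
          haveI := hconn K (ξ ≫ X.hom)
          exact ((IsPullback.of_hasPullback h ξ).paste_horiz
            (IsPullback.of_hasPullback X.hom g).flip).isoPullback.hom.homeomorph.connectedSpace_iff.2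
              inferInstance
        let p₂ : E ⟶ Spec (CommRingCat.of K) := pullback.snd _ _
        haveI : Etale p₂ := MorphismProperty.pullback_snd (P := @Etale) _ _ inferInstance
        haveI : LocallyQuasiFinite p₂ := DescLib.lqf_of_unramified p₂
        haveI : DiscreteTopology E := by
          obtain ⟨k⟩ := (inferInstance : Nonempty ↑(Spec (CommRingCat.of K)))
          have := Scheme.Hom.isDiscrete_preimage_singleton p₂ k
          have e : p₂ ⁻¹' {k} = Set.univ := Set.eq_univ_of_forall fun _ => Subsingleton.elim _ _
          rw [e] at this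
          exact isDiscrete_univ_iff.mp this
        obtain ⟨k⟩ := (inferInstance : Nonempty ↑(Spec (CommRingCat.of K)))
        have hk : (s₁ ≫ φ) k = (s₂ ≫ φ) k :=
          PreconnectedSpace.constant inferInstance φ.continuous
        have hsec : ∀ s : Spec (CommRingCat.of K) ⟶ Z, s ≫ pullback.snd h ξ = 𝟙 _ → (s ≫ φ) ≫ p₂ = 𝟙 _ := by
          intro s hs
          rw [Category.assoc, pullback.lift_snd, hs]
        haveI := FFDescLib.isOpenImmersion_of_section p₂ (s₁ ≫ φ) (hsec _ (pullback.lift_snd _ _ _))
        haveI := FFDescLib.isOpenImmersion_of_section p₂ (s₂ ≫ φ) (hsec _ (pullback.lift_snd _ _ _))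
        have hrange : Set.range (s₁ ≫ φ) = Set.range (s₂ ≫ φ) := by
          ext e
          constructor <;> rintro ⟨k', rfl⟩ <;> rw [Subsingleton.elim k' k]
          · exact ⟨k, hk.symm⟩
          · exact ⟨k, hk⟩
        have hfac := IsOpenImmersion.isoOfRangeEq_hom_fac (s₁ ≫ φ) (s₂ ≫ φ) hrange
        have hid := congrArg (· ≫ p₂) hfac
        simp only [Category.assoc] at hid
        rw [← Category.assoc s₂, hsec _ (pullback.lift_snd _ _ _), ← Category.assoc s₁,
          hsec _ (pullback.lift_snd _ _ _), Category.comp_id] at hid
        rw [hid, Category.id_comp] at hfac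
        have he : τ ≫ pullback.fst h h ≫ y = τ ≫ pullback.snd h h ≫ y := by
          have := congrArg (· ≫ pullback.fst Y.hom (ξ ≫ X.hom)) hfac
          simpa [φ, s₁, s₂] using this.symm
        refine ⟨(pullback.lift (f := pullback.diagonal Y.hom) (g := pullback.lift _ _ w') (τ ≫ pullback.fst h h ≫ y) τ ?_) k, ?_⟩
        · apply pullback.hom_ext
          · simp
          · simp [he]
        · rw [← Scheme.Hom.comp_apply, pullback.lift_snd, Scheme.Hom.comp_apply]
          exact (pullback h h).fromSpecResidueField_apply z _⟩
      haveI : IsIso (pullback.snd (pullback.diagonal Y.hom) (pullback.lift _ _ w')) :=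
        (isIso_iff_isOpenImmersion_and_surjective _).2 ⟨inferInstance, inferInstance⟩
      rw [← cancel_epi (pullback.snd (pullback.diagonal Y.hom) (pullback.lift _ _ w'))]
      have c := pullback.condition (f := pullback.diagonal Y.hom) (g := pullback.lift _ _ w')
      have c₁ := congrArg (· ≫ pullback.fst Y.hom Y.hom) c
      have c₂ := congrArg (· ≫ pullback.snd Y.hom Y.hom) c
      simp only [Category.assoc, pullback.diagonal_fst, pullback.diagonal_snd, pullback.lift_fst,
        pullback.lift_snd, Category.comp_id] at c₁ c₂
      rw [← c₁, ← c₂]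
    obtain ⟨u, hu₁, hu₂⟩ := SubmDescLib.exists_desc h hh Y.hom X.hom y w hcoc
    refine ⟨Over.homMk u hu₁, ?_⟩
    ext
    apply pullback.hom_ext
    · simpa [h, y] using hu₂
    · simpa using hfw.symm

end Groth.Agent.S2916
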