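import Groth.Statements.S2917
import Groth.Agent.FFDescLib.Submersive

set_option autoImplicit false
open CategoryTheory CategoryTheory.Limits AlgebraicGeometry Opposite
universe u
open SGA1

namespace Groth.Agent.S2917

/-- Let g : S' ⟶ S be universally submersive, f : X ⟶ Y a morphism of S-schemes (Y ⟶ S the structure
map) and f' its base change along S' ⟶ S, realised as X ×_S S' ⟶ Y ×_S S'. If f' is open (resp.
closed) then so is f; if f' is universally open (resp. universally closed, resp. separated) then so
is f; and if moreover g is quasi-compact and f locally of finite type, then f is proper as soon as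
f' is. -/
theorem result {S' S X Y : Scheme.{u}} (g : S' ⟶ S) (hg : SGA1.UnivSubmersive g)
    (f : X ⟶ Y) (q : Y ⟶ S) :
    (IsOpenMap (pullback.map (f ≫ q) g q g f (𝟙 S') (𝟙 S) (Category.comp_id _) ((Category.comp_id _).trans (Category.id_comp _).symm)).base → IsOpenMap f.base) ∧
    (IsClosedMap (pullback.map (f ≫ q) g q g f (𝟙 S') (𝟙 S) (Category.comp_id _) ((Category.comp_id _).trans (Category.id_comp _).symm)).base → IsClosedMap f.base) ∧
    (UniversallyOpen (pullback.map (f ≫ q) g q g f (𝟙 S') (𝟙 S) (Category.comp_id _) ((Category.comp_id _).trans (Category.id_comp _).symm)) → UniversallyOpen f) ∧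
    (UniversallyClosed (pullback.map (f ≫ q) g q g f (𝟙 S') (𝟙 S) (Category.comp_id _) ((Category.comp_id _).trans (Category.id_comp _).symm)) → UniversallyClosed f) ∧
    (IsSeparated (pullback.map (f ≫ q) g q g f (𝟙 S') (𝟙 S) (Category.comp_id _) ((Category.comp_id _).trans (Category.id_comp _).symm)) → IsSeparated f) ∧
    (QuasiCompact g → LocallyOfFiniteType f →
      IsProper (pullback.map (f ≫ q) g q g f (𝟙 S') (𝟙 S) (Category.comp_id _) ((Category.comp_id _).trans (Category.id_comp _).symm)) → IsProper f) := by
  have sq := FFDescLib.isPullback_map g f q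
  have hY : SGA1.UnivSubmersive (pullback.fst q g) := MorphismProperty.pullback_fst q g hg
  have hu := FFDescLib.isQuotientMap_of_univSubmersive hY
  refine ⟨FFDescLib.isOpenMap_of_isPullback sq hu, FFDescLib.isClosedMap_of_isPullback sq hu,
    MorphismProperty.of_isPullback_of_descendsAlong sq hY,
    MorphismProperty.of_isPullback_of_descendsAlong sq hY,
    fun _ => FFDescLib.isSeparated_of_isPullback sq hY, fun _ _ h => ?_⟩
  have : IsSeparated f := @FFDescLib.isSeparated_of_isPullback _ _ _ _ _ _ _ _ sq hY h.toIsSeparated
  have : UniversallyClosed f := MorphismProperty.of_isPullback_of_descendsAlong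
    (P := (@UniversallyClosed : MorphismProperty Scheme.{u})) sq hY h.toUniversallyClosed
  exact {}

end Groth.Agent.S2917
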