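import Groth.Statements.S2918
import Groth.Agent.FEtExtLib.Equiv

set_option autoImplicit false
set_option backward.isDefEq.respectTransparency false
set_option backward.isDefEq.respectTransparency.types false
set_option maxRecDepth 8000
set_option maxHeartbeats 1000000
universe u
open SGA1

namespace Groth.Agent.S2918

open AlgebraicGeometry CategoryTheory CategoryTheory.Limits in
/-- Birational invariance of the fundamental group, in terms of finite etale covers: Let X and Y be
proper over a field k, locally Noetherian with all local rings regular, and birational over k: some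
dense open of X is k-isomorphic to some dense open of Y. Then the categories of finite etale covers
of X and of Y are equivalent compatibly with restriction to the common dense open. -/
theorem result (k : Type u) [Field k] {X Y : Scheme.{u}}
    (f : X ⟶ Spec (CommRingCat.of k)) (g : Y ⟶ Spec (CommRingCat.of k)) [IsProper f] [IsProper g]
    [IsLocallyNoetherian X] [IsLocallyNoetherian Y]
    (hX : ∀ x : X, IsRegularLocalRing (X.presheaf.stalk x)) (hY : ∀ y : Y, IsRegularLocalRing (Y.presheaf.stalk y))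
    (U : X.Opens) (V : Y.Opens) (hU : Dense (U : Set X)) (hV : Dense (V : Set Y))
    (e : (U : Scheme.{u}) ≅ (V : Scheme.{u})) (he : e.hom ≫ V.ι ≫ g = U.ι ≫ f) :
    ∃ Φ : FEt.Cat X ≌ FEt.Cat Y, Nonempty (FEt.restrict U.ι ≅ Φ.functor ⋙ FEt.restrict V.ι ⋙ FEt.restrict e.hom) := by
  have hU' : FEtExt.DenseReg U := ⟨hU, fun x _ => hX x⟩
  have hV' : FEtExt.DenseReg V := ⟨hV, fun y _ => hY y⟩
  haveI : (FEt.restrict e.hom).IsEquivalence := Groth.Agent.S0289.result _
  obtain ⟨hVf, hVi⟩ := FEtExt.full_faithful hV'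
  obtain ⟨hUf, hUi⟩ := FEtExt.full_faithful hU'
  refine FEtExt.exists_equiv_of_essImage (FEt.restrict U.ι) (FEt.restrict V.ι ⋙ FEt.restrict e.hom) (fun Z => ?_) fun Z => ?_
  · obtain ⟨Z', ⟨ε⟩⟩ := FEtExt.exists_cover_of_proper f g hV' (e.inv ≫ U.ι)
      (by rw [Category.assoc, ← he, e.inv_hom_id_assoc]) Z
    exact ⟨Z', ⟨(FEt.restrict e.hom).mapIso ε ≪≫ (FEtExt.restrictCompIso (e.hom_inv_id_assoc U.ι)).app Z⟩⟩
  · obtain ⟨Z', ⟨ε⟩⟩ := FEtExt.exists_cover_of_proper g f hU' (e.hom ≫ V.ι) (by rw [Category.assoc, he]) Z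
    exact ⟨Z', ⟨ε ≪≫ (FEtExt.restrictCompIso rfl).symm.app Z⟩⟩

end Groth.Agent.S2918
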