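import Groth.Statements.S2921
import Groth.Agent.CommAlgDim.Regular
import Groth.Agent.CommAlgDim.Integral

set_option backward.isDefEq.respectTransparency false
set_option backward.isDefEq.respectTransparency.types false
set_option maxHeartbeats 1000000

set_option autoImplicit false
universe u
open IsLocalRing
open SGA1

namespace Groth.Agent.S2921

theorem sumExtend_inl' {ι K V : Type*} [DivisionRing K] [AddCommGroup V] [Module K V] {v : ι → V}
    (hs : LinearIndependent K v) (i : ι) : Module.Basis.sumExtend hs (Sum.inl i) = v i := by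
  simp only [Module.Basis.sumExtend, Module.Basis.reindex_apply, Module.Basis.extend_apply_self]
  rfl

open Algebra in
theorem isRegular_kummer (A : Type u) [CommRing A] [IsRegularLocalRing A] (r : ℕ) (f : Fin r → A)
    (hm : ∀ i, f i ∈ maximalIdeal A)
    (hf : LinearIndependent (ResidueField A) (fun i => (maximalIdeal A).toCotangent ⟨f i, hm i⟩))
    (n : Fin r → ℕ) (hn : ∀ i, 1 ≤ n i) : IsRegularLocalRing (SGA1.kummerAlg A f n) := by
  classical
  haveI := CommAlgDim.isDomain_of_isRegularLocalRing A
  let B := SGA1.kummerAlg A f n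
  let q : MvPolynomial (Fin r) A →ₐ[A] B := Ideal.Quotient.mkₐ A _
  let T : Fin r → B := fun i => q (MvPolynomial.X i)
  have hT : ∀ i, T i ^ n i = algebraMap A B (f i) := fun i => by
    rw [← sub_eq_zero, ← q.commutes, ← map_pow, ← map_sub]
    exact Ideal.Quotient.eq_zero_iff_mem.2 (Ideal.subset_span ⟨i, rfl⟩)
  have hgen : Algebra.adjoin A (Set.range T) = ⊤ := by
    rw [Set.range_comp', ← AlgHom.map_adjoin, MvPolynomial.adjoin_range_X, Algebra.map_top,
      AlgHom.range_eq_top]
    exact Ideal.Quotient.mkₐ_surjective A _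
  haveI : Algebra.IsIntegral A B := ⟨fun x => by
    have hle : Algebra.adjoin A (Set.range T) ≤ integralClosure A B := Algebra.adjoin_le (by
      rintro _ ⟨i, rfl⟩
      exact IsIntegral.of_pow (hn i) (hT i ▸ isIntegral_algebraMap))
    exact hle (hgen ▸ Algebra.mem_top)⟩
  -- injectivity
  let K := AlgebraicClosure (FractionRing A)
  have hroot : ∀ i, ∃ t : K, t ^ n i = algebraMap A K (f i) := fun i => IsAlgClosed.exists_pow_nat_eq _ (hn i)
  choose t ht using hroot
  let ev : B →ₐ[A] K := Ideal.Quotient.liftₐ _ (MvPolynomial.aeval t) (fun x hx => by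
    refine (show _ ≤ RingHom.ker (MvPolynomial.aeval (R := A) t) from Ideal.span_le.2 ?_) hx
    rintro _ ⟨i, rfl⟩
    simp [ht i])
  have hinj : Function.Injective (algebraMap A B) := fun a b h => by
    have hK : Function.Injective (algebraMap A K) := by
      rw [IsScalarTower.algebraMap_eq A (FractionRing A) K, RingHom.coe_comp]
      exact (algebraMap (FractionRing A) K).injective.comp (IsFractionRing.injective A (FractionRing A))
    refine hK ?_
    rw [← ev.commutes a, ← ev.commutes b, h]
  haveI : IsNoetherianRing B := inferInstance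
  -- local
  let φ₀ : B →ₐ[A] ResidueField A := Ideal.Quotient.liftₐ _ (MvPolynomial.aeval fun _ => (0 : ResidueField A))
    (fun x hx => by
      refine (show _ ≤ RingHom.ker (MvPolynomial.aeval (R := A) fun _ : Fin r => (0 : ResidueField A)) from Ideal.span_le.2 ?_) hx
      rintro _ ⟨i, rfl⟩
      have h0 : algebraMap A (ResidueField A) (f i) = 0 := (residue_eq_zero_iff _).2 (hm i)
      show MvPolynomial.aeval (R := A) (fun _ : Fin r => (0 : ResidueField A)) (MvPolynomial.X i ^ n i - MvPolynomial.C (f i)) = 0
      rw [map_sub, map_pow, MvPolynomial.aeval_X, MvPolynomial.aeval_C, h0,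
        zero_pow (show n i ≠ 0 by have := hn i; omega), sub_zero])
  have hφ₀ : Function.Surjective φ₀ := fun y => by
    obtain ⟨a, rfl⟩ := residue_surjective y
    exact ⟨algebraMap A B a, φ₀.commutes a⟩
  let M : Ideal B := RingHom.ker φ₀
  haveI hM : M.IsMaximal := RingHom.ker_isMaximal_of_surjective φ₀ hφ₀
  let G : Ideal B := (maximalIdeal A).map (algebraMap A B) ⊔ Ideal.span (Set.range T)
  have hMG : M ≤ G := fun x hx => by
    have key : ∀ y ∈ Algebra.adjoin A (Set.range T), ∃ a : A, y - algebraMap A B a ∈ G := fun y hy => by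
      induction hy using Algebra.adjoin_induction with
      | mem y hy => exact ⟨0, by rw [map_zero, sub_zero]; exact le_sup_right (a := (maximalIdeal A).map (algebraMap A B)) (Ideal.subset_span hy)⟩
      | algebraMap a => exact ⟨a, by rw [sub_self]; exact zero_mem _⟩
      | add y z _ _ hy hz =>
        obtain ⟨a, ha⟩ := hy; obtain ⟨b, hb⟩ := hz
        exact ⟨a + b, by rw [map_add, add_sub_add_comm]; exact add_mem ha hb⟩
      | mul y z _ _ hy hz =>
        obtain ⟨a, ha⟩ := hy; obtain ⟨b, hb⟩ := hz
        refine ⟨a * b, ?_⟩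
        have : y * z - algebraMap A B (a * b) =
            (y - algebraMap A B a) * z + algebraMap A B a * (z - algebraMap A B b) := by rw [map_mul]; ring
        rw [this]
        exact add_mem (Ideal.mul_mem_right _ _ ha) (Ideal.mul_mem_left _ _ hb)
    obtain ⟨a, ha⟩ := key x (hgen ▸ Algebra.mem_top)
    have hG : G ≤ M := by
      refine sup_le (Ideal.map_le_iff_le_comap.2 fun a ha => ?_) (Ideal.span_le.2 ?_)
      · show φ₀ (algebraMap A B a) = 0
        rw [φ₀.commutes]; exact (residue_eq_zero_iff _).2 ha
      · rintro _ ⟨i, rfl⟩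
        show φ₀ (T i) = 0
        exact (show MvPolynomial.aeval (R := A) (fun _ : Fin r => (0 : ResidueField A)) (MvPolynomial.X i) = 0 by simp)
    have ha' : residue A a = 0 := by
      have := hG ha
      rw [RingHom.mem_ker, map_sub, RingHom.mem_ker.1 hx, φ₀.commutes, zero_sub, neg_eq_zero] at this
      exact this
    rw [← sub_add_cancel x (algebraMap A B a)]
    exact add_mem ha (le_sup_left (b := Ideal.span (Set.range T)) (Ideal.mem_map_of_mem _ ((residue_eq_zero_iff _).1 ha')))
  haveI : IsLocalRing B := IsLocalRing.of_unique_max_ideal ⟨M, hM, fun N hN => by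
    haveI := hN
    have hcomap : N.comap (algebraMap A B) = maximalIdeal A := IsLocalRing.eq_maximalIdeal
      (Ideal.isMaximal_comap_of_isIntegral_of_isMaximal N)
    refine (hM.eq_of_le hN.ne_top (hMG.trans (sup_le (Ideal.map_le_iff_le_comap.2 hcomap.ge) (Ideal.span_le.2 ?_)))).symm
    rintro _ ⟨i, rfl⟩
    refine hN.isPrime.mem_of_pow_mem (n i) ?_
    rw [hT]
    exact hcomap.ge (hm i)⟩
  have hMm : maximalIdeal B = M := (IsLocalRing.eq_maximalIdeal hM).symm
  -- generators
  let b := Module.Basis.sumExtend hf
  haveI : Finite (Fin r ⊕ Module.Basis.sumExtendIndex hf) := Module.Finite.finite_basis b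
  haveI : Finite (Module.Basis.sumExtendIndex hf) := Finite.of_injective (β := Fin r ⊕ Module.Basis.sumExtendIndex hf) Sum.inr Sum.inr_injective
  haveI := Fintype.ofFinite (Module.Basis.sumExtendIndex hf)
  let g : Fin r ⊕ Module.Basis.sumExtendIndex hf → maximalIdeal A := fun x =>
    Sum.elim (fun i => ⟨f i, hm i⟩) (fun j => ((maximalIdeal A).toCotangent_surjective (b (Sum.inr j))).choose) x
  have hg : ∀ x, (maximalIdeal A).toCotangent (g x) = b x := fun x => by
    cases x with
    | inl i => exact (sumExtend_inl' hf i).symm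
    | inr j => exact ((maximalIdeal A).toCotangent_surjective (b (Sum.inr j))).choose_spec
  let J : Ideal A := Ideal.span (Set.range fun x => (g x : A))
  have hJ : maximalIdeal A ≤ J := by
    refine Submodule.le_of_le_smul_of_le_jacobson_bot (IsNoetherian.noetherian _)
      (IsLocalRing.maximalIdeal_le_jacobson _) fun a ha => ?_
    have hcr := b.sum_repr ((maximalIdeal A).toCotangent ⟨a, ha⟩)
    choose c hc using fun x => residue_surjective (b.repr ((maximalIdeal A).toCotangent ⟨a, ha⟩) x)
    let s : maximalIdeal A := ∑ x, c x • g x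
    have hs : (maximalIdeal A).toCotangent s = (maximalIdeal A).toCotangent ⟨a, ha⟩ := by
      conv_rhs => rw [← hcr]
      rw [map_sum]
      refine Finset.sum_congr rfl fun x _ => ?_
      rw [map_smul, hg, ← hc x]
      rfl
    rw [Ideal.toCotangent_eq] at hs
    refine Submodule.mem_sup.2 ⟨(s : A), ?_, a - (s : A), ?_, add_sub_cancel _ _⟩
    · simp only [s, Submodule.coe_sum, SetLike.val_smul, smul_eq_mul]
      exact Submodule.sum_mem _ fun x _ => Ideal.mul_mem_left _ _ (Ideal.subset_span ⟨x, rfl⟩)
    · rw [Ideal.smul_eq_mul, ← pow_two, ← neg_sub]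
      exact neg_mem hs
  let h : Fin r ⊕ Module.Basis.sumExtendIndex hf → B := Sum.elim T fun j => algebraMap A B (g (Sum.inr j))
  have hMh : M ≤ Ideal.span (Set.range h) := hMG.trans <| by
    refine sup_le (Ideal.map_le_iff_le_comap.2 (hJ.trans (Ideal.span_le.2 ?_))) (Ideal.span_le.2 ?_)
    · intro a ha
      obtain ⟨x, rfl⟩ := ha
      show algebraMap A B (g x) ∈ Ideal.span (Set.range h)
      cases x with
      | inl i =>
        show algebraMap A B (f i) ∈ _
        rw [← hT]
        exact Ideal.pow_mem_of_mem _ (show T i ∈ Ideal.span (Set.range h) from Ideal.subset_span ⟨Sum.inl i, rfl⟩) _ (hn i)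
      | inr j => exact Ideal.subset_span ⟨Sum.inr j, rfl⟩
    · rintro _ ⟨i, rfl⟩
      exact Ideal.subset_span ⟨Sum.inl i, rfl⟩
  have hge : Ideal.span (Set.range h) ≤ M := by
    rw [Ideal.span_le]
    rintro _ ⟨x, rfl⟩
    cases x with
    | inl i => show φ₀ (T i) = 0; exact (show MvPolynomial.aeval (R := A) (fun _ : Fin r => (0 : ResidueField A)) (MvPolynomial.X i) = 0 by simp)
    | inr j => show φ₀ (algebraMap A B _) = 0; rw [φ₀.commutes]; exact (residue_eq_zero_iff _).2 (g (Sum.inr j)).2
  refine IsRegularLocalRing.of_spanFinrank_maximalIdeal_le _ ?_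
  have hdim : ringKrullDim B = ringKrullDim A :=
    CommAlgDim.ringKrullDim_eq_of_integral A B hinj
  have hd := IsRegularLocalRing.spanFinrank_maximalIdeal (R := A)
  rw [hdim, ← hd, hMm, le_antisymm hMh hge]
  refine Nat.cast_le.2 ((Submodule.spanFinrank_span_le_ncard_of_finite (Set.finite_range h)).trans ?_)
  rw [← Set.image_univ]
  refine (Set.ncard_image_le Set.finite_univ).trans (le_of_eq ?_)
  rw [Set.ncard_univ, Nat.card_eq_fintype_card, ← Module.finrank_eq_card_basis b,
    IsLocalRing.spanFinrank_maximalIdeal_eq_finrank_cotangentSpace]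

theorem etale_kummer (A : Type u) [CommRing A] (r : ℕ) (f : Fin r → A) (n : Fin r → ℕ) (hn : ∀ i, 1 ≤ n i)
    (hu : ∀ i, IsUnit ((n i : ℕ) : A)) :
    Algebra.Etale A (Localization.Away (algebraMap A (SGA1.kummerAlg A f n) (∏ i, f i))) := by
  classical
  let B := SGA1.kummerAlg A f n
  let q : MvPolynomial (Fin r) A →ₐ[A] B := Ideal.Quotient.mkₐ A _
  let T : Fin r → B := fun i => q (MvPolynomial.X i)
  let F : B := algebraMap A B (∏ i, f i)
  let L := Localization.Away F
  have hT : ∀ i, T i ^ n i = algebraMap A B (f i) := fun i => by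
    rw [← sub_eq_zero, ← q.commutes, ← map_pow, ← map_sub]
    exact Ideal.Quotient.eq_zero_iff_mem.2 (Ideal.subset_span ⟨i, rfl⟩)
  have hTu : ∀ i, IsUnit (algebraMap B L (T i)) := fun i => by
    refine (isUnit_pow_iff (show n i ≠ 0 by have := hn i; omega)).1 ?_
    rw [← map_pow, hT]
    have hF : IsUnit (algebraMap B L F) := IsLocalization.Away.algebraMap_isUnit F
    simp only [F, map_prod] at hF
    exact IsUnit.prod_univ_iff.1 hF i
  haveI : Algebra.FinitePresentation A B := Algebra.FinitePresentation.quotient (Submodule.fg_span (Set.finite_range _))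
  haveI : Algebra.FinitePresentation B L := IsLocalization.Away.finitePresentation F
  haveI : Algebra.FinitePresentation A L := Algebra.FinitePresentation.trans A B L
  refine ⟨?_, inferInstance⟩
  rw [Algebra.FormallyEtale.iff_comp_bijective]
  intro C _ _ I hI
  have hI2 : ∀ x ∈ I, ∀ y ∈ I, x * y = (0 : C) := fun x hx y hy => by
    have := Ideal.mul_mem_mul hx hy
    rwa [← pow_two, hI, Ideal.mem_bot] at this
  have hexp : ∀ (t δ : C), δ * δ = 0 → ∀ m : ℕ, (t + δ) ^ m = t ^ m + (m : C) * t ^ (m - 1) * δ := fun t δ hδ m => by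
    induction m with
    | zero => simp
    | succ m ih =>
      rw [pow_succ, ih]
      rcases Nat.eq_zero_or_pos m with rfl | hm0
      · simp
      · have e : t ^ m = t ^ (m - 1) * t := by rw [← pow_succ, Nat.sub_add_cancel hm0]
        rw [Nat.add_sub_cancel, Nat.cast_succ, pow_succ]
        linear_combination (m : C) * t ^ (m - 1) * hδ - (m : C) * δ * e
  have hunit : ∀ x : C, IsUnit (Ideal.Quotient.mk I x) → IsUnit x := fun x hx => by
    obtain ⟨y, hy⟩ := Ideal.Quotient.mk_surjective (↑hx.unit⁻¹ : C ⧸ I)
    have h1 : x * y - 1 ∈ I := by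
      rw [← Ideal.Quotient.eq_zero_iff_mem, map_sub, map_mul, hy, map_one, IsUnit.mul_val_inv, sub_self]
    refine IsUnit.of_mul_eq_one (y * (2 - x * y)) ?_
    linear_combination -(hI2 _ h1 _ h1)
  refine ⟨fun g₁ g₂ hg => ?_, fun g => ?_⟩
  · refine IsLocalization.algHom_ext (Submonoid.powers F) (Ideal.Quotient.algHom_ext A (MvPolynomial.algHom_ext fun i => ?_))
    show g₁ (algebraMap B L (T i)) = g₂ (algebraMap B L (T i))
    let a := g₁ (algebraMap B L (T i))
    let δ := g₂ (algebraMap B L (T i)) - a
    have hδ : δ ∈ I := by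
      rw [← Ideal.Quotient.eq_zero_iff_mem, map_sub]
      exact sub_eq_zero.2 (AlgHom.congr_fun hg (algebraMap B L (T i))).symm
    have e : ∀ g' : L →ₐ[A] C, g' (algebraMap B L (T i)) ^ n i = algebraMap A C (f i) := fun g' => by
      rw [← map_pow, ← map_pow, hT, ← IsScalarTower.algebraMap_apply, AlgHom.commutes]
    have h2 := e g₂
    rw [show g₂ (algebraMap B L (T i)) = a + δ from (add_sub_cancel a _).symm, hexp a δ (hI2 δ hδ δ hδ), e g₁,
      add_eq_left] at h2
    have hua : IsUnit ((n i : C) * a ^ (n i - 1)) := by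
      refine IsUnit.mul ?_ (((hTu i).map g₁).pow _)
      have := (hu i).map (algebraMap A C)
      rwa [map_natCast] at this
    exact (sub_eq_zero.1 ((hua.mul_right_eq_zero).1 h2)).symm
  · have hlift : ∀ i, ∃ t : C, t ^ n i = algebraMap A C (f i) ∧ Ideal.Quotient.mk I t = g (algebraMap B L (T i)) := fun i => by
      obtain ⟨t, ht⟩ := Ideal.Quotient.mk_surjective (g (algebraMap B L (T i)))
      have htu : IsUnit t := hunit t (ht ▸ (hTu i).map g)
      have hz : t ^ n i - algebraMap A C (f i) ∈ I := by
        rw [← Ideal.Quotient.eq_zero_iff_mem, map_sub, map_pow, ht, ← map_pow, ← map_pow, hT,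
          ← IsScalarTower.algebraMap_apply, AlgHom.commutes, sub_eq_zero]
        rfl
      have hua : IsUnit ((n i : C) * t ^ (n i - 1)) := by
        refine IsUnit.mul ?_ (htu.pow _)
        have := (hu i).map (algebraMap A C)
        rwa [map_natCast] at this
      let δ : C := -(↑hua.unit⁻¹ * (t ^ n i - algebraMap A C (f i)))
      have hδ : δ ∈ I := neg_mem (Ideal.mul_mem_left _ _ hz)
      refine ⟨t + δ, ?_, by rw [map_add, Ideal.Quotient.eq_zero_iff_mem.2 hδ, add_zero, ht]⟩
      rw [hexp t δ (hI2 δ hδ δ hδ)]
      have h1 := hua.mul_val_inv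
      show t ^ n i + (n i : C) * t ^ (n i - 1) * -(↑hua.unit⁻¹ * (t ^ n i - algebraMap A C (f i))) = _
      linear_combination -(t ^ n i - algebraMap A C (f i)) * h1
    choose t ht ht' using hlift
    let e : B →ₐ[A] C := Ideal.Quotient.liftₐ _ (MvPolynomial.aeval t) (fun x hx => by
      refine (show _ ≤ RingHom.ker (MvPolynomial.aeval (R := A) t) from Ideal.span_le.2 ?_) hx
      rintro _ ⟨i, rfl⟩
      simp [ht i])
    have heq : (Ideal.Quotient.mkₐ A I).comp e = g.comp (IsScalarTower.toAlgHom A B L) :=
      Ideal.Quotient.algHom_ext A (MvPolynomial.algHom_ext fun i => by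
        show Ideal.Quotient.mk I (e (T i)) = g (algebraMap B L (T i))
        rw [← ht' i]
        exact congrArg (Ideal.Quotient.mk I) (show MvPolynomial.aeval (R := A) t (MvPolynomial.X i) = t i by simp))
    have heF : IsUnit (e F) := hunit _ (by
      rw [show Ideal.Quotient.mk I (e F) = g (algebraMap B L F) from AlgHom.congr_fun heq F]
      exact (IsLocalization.Away.algebraMap_isUnit F).map g)
    let g' : L →ₐ[A] C := IsLocalization.liftAlgHom (M := Submonoid.powers F) (f := e) (fun y => by
      obtain ⟨_, k, rfl⟩ := y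
      rw [map_pow]
      exact heF.pow k)
    refine ⟨g', IsLocalization.algHom_ext (Submonoid.powers F) ?_⟩
    refine AlgHom.ext fun x => Eq.trans ?_ (AlgHom.congr_fun heq x)
    show Ideal.Quotient.mk I (g' (algebraMap B L x)) = Ideal.Quotient.mk I (e x)
    congr 1
    exact IsLocalization.lift_eq _ x

/-- Regularity and etaleness; the tameness assertion is not stated: Let A be a regular local ring, f_1,
…, f_r elements of the maximal ideal whose images in the cotangent space are linearly independent
(part of a regular system of parameters), and n_1, …, n_r ≥ 1. Then A' = A[T_1, …, T_r]/(T_i^{n_i} −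
f_i) is a regular local ring; and if each n_i is invertible in the residue field of A, then A'
becomes etale over A after inverting f_1 ⋯ f_r. -/
theorem result (A : Type u) [CommRing A] [IsRegularLocalRing A] (r : ℕ) (f : Fin r → A)
    (hm : ∀ i, f i ∈ maximalIdeal A)
    (hf : LinearIndependent (ResidueField A) (fun i => (maximalIdeal A).toCotangent ⟨f i, hm i⟩))
    (n : Fin r → ℕ) (hn : ∀ i, 1 ≤ n i) :
    IsRegularLocalRing (SGA1.kummerAlg A f n) ∧
    ((∀ i, IsUnit ((n i : ℕ) : ResidueField A)) →
      letI := (Localization.awayMap (algebraMap A (SGA1.kummerAlg A f n)) (∏ i, f i)).toAlgebra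
      Algebra.Etale (Localization.Away (∏ i, f i)) (Localization.Away (algebraMap A (SGA1.kummerAlg A f n) (∏ i, f i)))) := by
  refine ⟨isRegular_kummer A r f hm hf n hn, fun hu => ?_⟩
  have hu' : ∀ i, IsUnit ((n i : ℕ) : A) := fun i => by
    have := hu i
    rw [← map_natCast (residue A)] at this
    exact (isUnit_map_iff (residue A) _).1 this
  let B := SGA1.kummerAlg A f n
  letI := (Localization.awayMap (algebraMap A B) (∏ i, f i)).toAlgebra
  haveI : IsScalarTower A (Localization.Away (∏ i, f i)) (Localization.Away (algebraMap A B (∏ i, f i))) :=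
    IsScalarTower.of_algebraMap_eq fun a => by
      show algebraMap A _ a = Localization.awayMap (algebraMap A B) (∏ i, f i) (algebraMap A _ a)
      rw [IsScalarTower.algebraMap_apply A B (Localization.Away (algebraMap A B (∏ i, f i)))]
      exact (IsLocalization.map_eq _ a).symm
  haveI : Algebra.Etale A (Localization.Away (∏ i, f i)) := Algebra.Etale.of_isLocalizationAway (∏ i, f i)
  haveI := etale_kummer A r f n hn hu'
  exact Algebra.Etale.of_restrictScalars A _ _

end Groth.Agent.S2921
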