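import Groth.Statements.S2922
import Groth.Agent.AbhyLib.Exponents
import Groth.Agent.AbhyLib.Scheme

set_option maxHeartbeats 2000000
set_option linter.style.haveILetI false

set_option autoImplicit false
universe u
open IsLocalRing
open SGA1

namespace Groth.Agent.S2922

open AlgebraicGeometry CategoryTheory CategoryTheory.Limits in
/-- Absolute Abhyankar lemma, in the form that suitable exponents exist. Let A be a regular local ring,
f_1, …, f_r elements of the maximal ideal that are part of a regular system of parameters (each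
generating a prime ideal), X = Spec A, U the open subset where f_1 ⋯ f_r is invertible, and V a
finite étale cover of U which is tamely ramified along each f_i (at every point of its generic
fibre, with respect to the discrete valuation rings A_{(f_i)}). Then there are exponents n_i ≥ 1,
invertible in the residue field of A, such that the pullback of V to the Kummer covering X' = Spec
A[T_1, …, T_r]/(T_i^{n_i} − f_i) extends to a finite étale cover of X'. The published statement
takes n_i to be the least common multiple of the inertia orders along f_i = 0; here only the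
existence of suitable exponents is asserted. -/
theorem result (A : Type u) [CommRing A] [IsRegularLocalRing A] [IsDomain A] (r : ℕ) (f : Fin r → A)
    (hm : ∀ i, f i ∈ maximalIdeal A)
    (hf : LinearIndependent (ResidueField A) (fun i => (maximalIdeal A).toCotangent ⟨f i, hm i⟩))
    [∀ i, (Ideal.span {f i}).IsPrime]
    (V : FEt.Cat ((SGA1.specBasicOpen A (∏ i, f i)) : Scheme.{u})) (htame : SGA1.IsTameAlong f (((V.hom ≫ ((SGA1.specBasicOpen A (∏ i, f i))).ι).appTop).hom.comp (Scheme.ΓSpecIso (CommRingCat.of A)).inv.hom)) :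
    ∃ n : Fin r → ℕ, (∀ i, 1 ≤ n i) ∧ (∀ i, IsUnit ((n i : ℕ) : ResidueField A)) ∧
      ∃ W : FEt.Cat (Spec (CommRingCat.of (SGA1.kummerAlg A f n))),
        Nonempty ((FEt.restrict ((Spec.map (CommRingCat.ofHom (algebraMap A (SGA1.kummerAlg A f n)))) ⁻¹ᵁ (SGA1.specBasicOpen A (∏ i, f i))).ι).obj W ≅ (FEt.restrict ((Spec.map (CommRingCat.ofHom (algebraMap A (SGA1.kummerAlg A f n)))) ∣_ (SGA1.specBasicOpen A (∏ i, f i)))).obj V) := by
  classical
  obtain ⟨E, v, ψ, hfin, het, hψ, htr⟩ := AbhyLib.exists_algebra (∏ i, f i) V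
  letI : Algebra (Localization.Away (∏ i, f i)) E := ψ.toAlgebra
  letI : Algebra A E := (ψ.comp (algebraMap A _)).toAlgebra
  haveI : IsScalarTower A (Localization.Away (∏ i, f i)) E := IsScalarTower.of_algebraMap_eq fun _ => rfl
  haveI : Module.Finite (Localization.Away (∏ i, f i)) E := hfin
  haveI : Algebra.Etale (Localization.Away (∏ i, f i)) E := het
  obtain ⟨n, hn, hu, B, _, _, hBfin, hBet, ⟨e⟩⟩ := AbhyLib.exists_exponents ⟨hm, hf⟩ (htr f htame)
  haveI := hBfin
  haveI := hBet
  letI : Algebra (Localization.Away (∏ i, f i))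
      (Localization.Away (algebraMap A (SGA1.kummerAlg A f n) (∏ i, f i))) := (AbhyLib.kummerAway f n).toAlgebra
  refine ⟨n, hn, hu, AbhyLib.ofAlgebra (SGA1.kummerAlg A f n) B, ?_⟩
  have sq1 := AbhyLib.isPullback_chart (S := Localization.Away (algebraMap A (SGA1.kummerAlg A f n) (∏ i, f i)))
    (p := (AbhyLib.ofAlgebra (SGA1.kummerAlg A f n) B).hom)
    (q := ((Spec.map (CommRingCat.ofHom (algebraMap A (SGA1.kummerAlg A f n)))) ⁻¹ᵁ (SGA1.specBasicOpen A (∏ i, f i))).ι)
    (Iso.refl (Spec (CommRingCat.of B))) (Iso.refl (Spec (CommRingCat.of (SGA1.kummerAlg A f n))))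
    (AbhyLib.preimageIso (algebraMap A (SGA1.kummerAlg A f n)) (∏ i, f i))
    ((Category.comp_id _).trans (Category.id_comp _).symm)
    ((Category.comp_id _).trans ((Iso.inv_comp_eq _).1 (AbhyLib.preimageIso_inv_ι _ _)))
  have sq2 := AbhyLib.isPullback_chart (S := Localization.Away (algebraMap A (SGA1.kummerAlg A f n) (∏ i, f i)))
    (p := V.hom) (q := (Spec.map (CommRingCat.ofHom (algebraMap A (SGA1.kummerAlg A f n)))) ∣_ (SGA1.specBasicOpen A (∏ i, f i)))
    v (AbhyLib.basicIso A (∏ i, f i))
    (AbhyLib.preimageIso (algebraMap A (SGA1.kummerAlg A f n)) (∏ i, f i))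
    ((Iso.inv_comp_eq v).1 hψ)
    ((Iso.eq_comp_inv _).1 (((Iso.inv_comp_eq _).1 (AbhyLib.preimageIso_inv_restrict _ _ (AbhyLib.kummerAway f n)
      (RingHom.ext fun a => AbhyLib.kummerAway_algebraMap n a))).trans (Category.assoc _ _ _).symm))
  let m := Scheme.Spec.mapIso e.toRingEquiv.toCommRingCatIso.op
  refine ⟨MorphismProperty.Over.isoMk (sq1.isoPullback.symm ≪≫ m.symm ≪≫ sq2.isoPullback) ?_⟩
  show (sq1.isoPullback.inv ≫ m.inv ≫ sq2.isoPullback.hom) ≫ pullback.snd _ _ = pullback.snd _ _
  rw [Category.assoc, Category.assoc, sq2.isoPullback_hom_snd, Iso.inv_comp_eq, sq1.isoPullback_hom_snd, ← Category.assoc]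
  congr 1
  show Spec.map _ ≫ Spec.map _ = Spec.map _
  rw [← Spec.map_comp]
  congr 1
  ext x
  exact e.symm.commutes x

end Groth.Agent.S2922
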