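import Groth.Statements.S2923
import Groth.Agent.AbhyLib.Exponents
import Groth.Agent.AbhyLib.Scheme
import Groth.Agent.S2921

set_option maxHeartbeats 2000000
set_option linter.style.haveILetI false

set_option autoImplicit false
universe u
open IsLocalRing
open SGA1

namespace Groth.Agent.S2923

open AlgebraicGeometry CategoryTheory CategoryTheory.Limits in
/-- The Kummer coverings are cofinal among tame covers: let A be a strictly henselian regular local ring
(henselian with separably closed residue field), f_1, …, f_r part of a regular system of parameters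
with each (f_i) a prime ideal, U ⊆ X = Spec A the open where f_1 ⋯ f_r is invertible, and V a
connected finite etale cover of U tamely ramified along each f_i. Then for some exponents n_i ≥ 1
invertible in the residue field there is a surjective U-morphism from the restriction to U of the
Kummer covering Spec A[T_1, …, T_r]/(T_i^{n_i} − f_i) onto V. -/
theorem result (A : Type u) [CommRing A] [IsRegularLocalRing A] [IsDomain A] (r : ℕ) (f : Fin r → A)
    (hm : ∀ i, f i ∈ maximalIdeal A)
    (hf : LinearIndependent (ResidueField A) (fun i => (maximalIdeal A).toCotangent ⟨f i, hm i⟩))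
    [∀ i, (Ideal.span {f i}).IsPrime]
    [HenselianLocalRing A] [IsSepClosed (ResidueField A)]
    (V : FEt.Cat ((SGA1.specBasicOpen A (∏ i, f i)) : Scheme.{u})) [ConnectedSpace V.left] (htame : SGA1.IsTameAlong f (((V.hom ≫ ((SGA1.specBasicOpen A (∏ i, f i))).ι).appTop).hom.comp (Scheme.ΓSpecIso (CommRingCat.of A)).inv.hom)) :
    ∃ n : Fin r → ℕ, (∀ i, 1 ≤ n i) ∧ (∀ i, IsUnit ((n i : ℕ) : ResidueField A)) ∧
      ∃ φ : (↑((Spec.map (CommRingCat.ofHom (algebraMap A (SGA1.kummerAlg A f n)))) ⁻¹ᵁ (SGA1.specBasicOpen A (∏ i, f i))) : Scheme.{u}) ⟶ V.left, φ ≫ V.hom = (Spec.map (CommRingCat.ofHom (algebraMap A (SGA1.kummerAlg A f n)))) ∣_ (SGA1.specBasicOpen A (∏ i, f i)) ∧ Surjective φ := by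
  classical
  obtain ⟨E, v, ψ, hfin, het, hψ, htr⟩ := AbhyLib.exists_algebra (∏ i, f i) V
  letI : Algebra (Localization.Away (∏ i, f i)) E := ψ.toAlgebra
  letI : Algebra A E := (ψ.comp (algebraMap A _)).toAlgebra
  haveI : IsScalarTower A (Localization.Away (∏ i, f i)) E := IsScalarTower.of_algebraMap_eq fun _ => rfl
  haveI : Module.Finite (Localization.Away (∏ i, f i)) E := hfin
  haveI : Algebra.Etale (Localization.Away (∏ i, f i)) E := het
  obtain ⟨n, hn, hu, B, _, _, hBfin, hBet, ⟨e⟩⟩ := AbhyLib.exists_exponents ⟨hm, hf⟩ (htr f htame)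
  haveI := hBfin
  haveI := hBet
  letI : Algebra (Localization.Away (∏ i, f i))
      (Localization.Away (algebraMap A (SGA1.kummerAlg A f n) (∏ i, f i))) := (AbhyLib.kummerAway f n).toAlgebra
  obtain ⟨hreg, hfinA', hinj, -⟩ := AbhyLib.kummer_facts A r f hm hf n hn
  haveI := hreg
  haveI := hfinA'
  haveI := CommAlgDim.isDomain_of_isRegularLocalRing (SGA1.kummerAlg A f n)
  haveI : Algebra.IsIntegral A (SGA1.kummerAlg A f n) := Algebra.IsIntegral.of_finite A _
  obtain ⟨hhens, hloc⟩ := HensFormalLib.henselian_of_integral_domain A (SGA1.kummerAlg A f n)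
  haveI := hhens
  haveI := hloc
  haveI := (HensFormalLib.sepClosed_residue A (SGA1.kummerAlg A f n)).1
  haveI hetS : Algebra.Etale (Localization.Away (∏ i, f i))
      (Localization.Away (algebraMap A (SGA1.kummerAlg A f n) (∏ i, f i))) := (S2921.result A r f hm hf n hn).2 hu
  refine ⟨n, hn, hu, ?_⟩
  let S := Localization.Away (algebraMap A (SGA1.kummerAlg A f n) (∏ i, f i))
  let AF := Localization.Away (∏ i, f i)
  haveI : Nonempty V.left := ConnectedSpace.toNonempty
  haveI : Nontrivial E := by
    rw [← PrimeSpectrum.nonempty_iff_nontrivial]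
    exact ⟨v.hom (Classical.arbitrary V.left)⟩
  -- a point of the extension
  obtain ⟨I, hI, Ψ, hΨ⟩ := PurityLib.exists_split (SGA1.kummerAlg A f n) B
  have hinjS : Function.Injective (algebraMap AF S) := Localization.awayMap_injective_iff.2 fun a ha =>
    ⟨0, by rw [hinj (ha.trans (map_zero _).symm), mul_zero]⟩
  haveI : Nontrivial (TensorProduct AF S E) :=
    (Algebra.TensorProduct.includeRight_injective (R := AF) (A := S) (B := E) hinjS).nontrivial
  obtain ⟨i₀⟩ : Nonempty I := by
    by_contra hI'
    haveI := not_nonempty_iff.1 hI'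
    haveI : Subsingleton B := hΨ.1.subsingleton
    haveI : Subsingleton (TensorProduct (SGA1.kummerAlg A f n) S B) := 
      subsingleton_of_forall_eq 0 fun z => by
        induction z using TensorProduct.induction_on with
        | zero => rfl
        | add y z hy hz => rw [hy, hz, add_zero]
        | tmul s b => rw [Subsingleton.elim b 0, TensorProduct.tmul_zero]
    exact not_subsingleton (TensorProduct AF S E) e.symm.toEquiv.subsingleton
  let σB : TensorProduct (SGA1.kummerAlg A f n) S B →ₐ[S] S := Algebra.TensorProduct.lift (AlgHom.id S S)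
    ((Algebra.ofId (SGA1.kummerAlg A f n) S).comp ((Pi.evalAlgHom _ (fun _ : I => SGA1.kummerAlg A f n) i₀).comp Ψ))
    fun _ _ => Commute.all _ _
  let s : E →ₐ[AF] S := ((σB.comp e.symm.toAlgHom).restrictScalars AF).comp Algebra.TensorProduct.includeRight
  let π := (Spec.map (CommRingCat.ofHom (algebraMap A (SGA1.kummerAlg A f n)))) ∣_ (SGA1.specBasicOpen A (∏ i, f i))
  let z := AbhyLib.preimageIso (algebraMap A (SGA1.kummerAlg A f n)) (∏ i, f i)
  have hπ : π = z.hom ≫ Spec.map (CommRingCat.ofHom (algebraMap AF S)) ≫ (AbhyLib.basicIso A (∏ i, f i)).inv :=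
    (Iso.inv_comp_eq z).1 (AbhyLib.preimageIso_inv_restrict _ _ (AbhyLib.kummerAway f n)
      (RingHom.ext fun a => AbhyLib.kummerAway_algebraMap n a))
  let φ := z.hom ≫ Spec.map (CommRingCat.ofHom s.toRingHom) ≫ v.inv
  let q : V.left ⟶ (SGA1.specBasicOpen A (∏ i, f i) : Scheme.{u}) := V.hom
  have hw : φ ≫ q = π := by
    rw [hπ, ← cancel_mono (AbhyLib.basicIso A (∏ i, f i)).hom]
    simp only [φ, Category.assoc, Iso.inv_hom_id, Category.comp_id]
    rw [show v.inv ≫ q ≫ (AbhyLib.basicIso A (∏ i, f i)).hom = Spec.map (CommRingCat.ofHom ψ) from hψ, ← Spec.map_comp]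
    congr 2
    ext x
    exact s.commutes x
  refine ⟨φ, hw, ?_⟩
  haveI : IsFinite q := V.prop.1
  haveI : Etale q := V.prop.2
  haveI : IsFinite (φ ≫ q) := by
    haveI : IsFinite (Spec.map (CommRingCat.ofHom (algebraMap A (SGA1.kummerAlg A f n)))) :=
      (IsFinite.SpecMap_iff _).2 (RingHom.finite_algebraMap.2 hfinA')
    rw [hw]
    exact MorphismProperty.of_isPullback (P := @IsFinite) (isPullback_morphismRestrict _ _).flip inferInstance
  haveI : Etale (φ ≫ q) := by
    haveI : Etale (Spec.map (CommRingCat.ofHom (algebraMap AF S))) :=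
      (HasRingHomProperty.Spec_iff (P := @Etale)).2 (RingHom.etale_algebraMap.2 hetS)
    rw [hw, hπ]
    infer_instance
  haveI : IsFinite φ := IsFinite.of_comp φ q
  haveI : Etale φ := Etale.of_comp φ q
  have hne : (Set.range φ).Nonempty := by
    haveI : Nontrivial AF := (algebraMap AF E).domain_nontrivial
    haveI : Nontrivial S := hinjS.nontrivial
    exact ⟨_, ⟨z.inv (Classical.arbitrary (PrimeSpectrum S)), rfl⟩⟩
  refine ⟨Set.range_eq_univ.1 (IsClopen.eq_univ ⟨?_, ?_⟩ hne)⟩
  · exact φ.isClosedMap.isClosed_range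
  · exact φ.isOpenMap.isOpen_range

end Groth.Agent.S2923
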