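import Groth.Statements.S2924
import Groth.Agent.TameKummerLib.Core
-- import your own Groth.Agent.* helpers here

set_option autoImplicit false
universe u
open IsLocalRing
open SGA1

namespace Groth.Agent.S2924

/-- Let A be a regular local ring, f_1, …, f_r part of a regular system of parameters and n_i ≥ 1
invertible in the residue field. Then the Kummer algebra A[T_1, …, T_r]/(T_i^{n_i} − f_i) is tamely
ramified along each f_i (at every point of its generic fibre, with respect to the discrete valuation
rings A_{(f_i)}). -/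
theorem result (A : Type u) [CommRing A] [IsRegularLocalRing A] [IsDomain A] (r : ℕ) (f : Fin r → A)
    (hm : ∀ i, f i ∈ maximalIdeal A)
    (hf : LinearIndependent (ResidueField A) (fun i => (maximalIdeal A).toCotangent ⟨f i, hm i⟩))
    [∀ i, (Ideal.span {f i}).IsPrime] (n : Fin r → ℕ) (hn : ∀ i, 1 ≤ n i) (hu : ∀ i, IsUnit ((n i : ℕ) : ResidueField A)) :
    SGA1.IsTameAlong f (algebraMap A (SGA1.kummerAlg A f n)) := by
  classical
  intro i q _ hq
  have hv : ∀ j, (maximalIdeal A).toCotangent ⟨f j, hm j⟩ ≠ 0 := fun j => hf.ne_zero j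
  have hf0 : f i ≠ 0 := fun h => hv i (by
    rw [show (⟨f i, hm i⟩ : maximalIdeal A) = 0 from Subtype.ext h, map_zero])
  have hnd : ∀ j, j ≠ i → f j ∉ Ideal.span {f i} := fun j hj h => by
    obtain ⟨c, hc⟩ := Ideal.mem_span_singleton'.1 h
    have h1 : (maximalIdeal A).toCotangent ⟨f j, hm j⟩ =
        residue A c • (maximalIdeal A).toCotangent ⟨f i, hm i⟩ := by
      rw [show (⟨f j, hm j⟩ : maximalIdeal A) = c • ⟨f i, hm i⟩ from Subtype.ext hc.symm, map_smul]
      rfl
    have h2 := hf.notMem_span_image (s := {i}) (x := j) (by simpa using hj)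
    refine h2 ?_
    rw [Set.image_singleton, Submodule.mem_span_singleton]
    exact ⟨_, h1.symm⟩
  have hnA : ∀ j, IsUnit ((n j : ℕ) : A) := fun j => by
    have h := hu j
    rw [← map_natCast (residue A)] at h
    exact (isUnit_map_iff (residue A) _).1 h
  let P := Ideal.span {f i}
  let R := Localization.AtPrime P
  have hmR : maximalIdeal R = Ideal.span {algebraMap A R (f i)} := by
    rw [← Localization.AtPrime.map_eq_maximalIdeal, Ideal.map_span, Set.image_singleton]
  have hinjR : Function.Injective (algebraMap A R) :=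
    IsLocalization.injective R P.primeCompl_le_nonZeroDivisors
  haveI : IsDomain R := IsLocalization.isDomain_localization P.primeCompl_le_nonZeroDivisors
  haveI : IsNoetherianRing R := IsLocalization.isNoetherianRing P.primeCompl R inferInstance
  have hfR0 : algebraMap A R (f i) ≠ 0 := fun h => hf0 (hinjR (by rw [h, map_zero]))
  have hnf : ¬ IsField R := fun h => hfR0 (by
    have h' := (IsLocalRing.isField_iff_maximalIdeal_eq).1 h
    rw [hmR, Ideal.span_singleton_eq_bot] at h'
    exact h')
  haveI hdvr : IsDiscreteValuationRing R :=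
    by
      have hp : (maximalIdeal R).IsPrincipal := ⟨⟨_, hmR⟩⟩
      exact ((IsDiscreteValuationRing.TFAE R hnf).out 4 0).1 hp
  have hunit : ∀ x : A, x ∉ P → IsUnit (algebraMap A R x) := fun x hx =>
    IsLocalization.map_units R (⟨x, hx⟩ : P.primeCompl)
  let B := SGA1.kummerAlg A f n
  let g := SGA1.genericResidueMap (algebraMap A B) P q hq
  have hg : ∀ a : A, g (algebraMap A R a) = algebraMap B q.ResidueField (algebraMap A B a) := fun a =>
    IsLocalization.lift_eq _ a
  have hginj : Function.Injective g := by
    rw [injective_iff_map_eq_zero]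
    intro x hx
    obtain ⟨a, s, rfl⟩ := IsLocalization.exists_mk'_eq P.primeCompl x
    have h1 : g (algebraMap A R a) = 0 := by
      rw [← IsLocalization.mk'_spec R a s, map_mul, hx, zero_mul]
    rw [hg, ← RingHom.mem_ker, Ideal.ker_algebraMap_residueField] at h1
    have h2 : a ∈ Ideal.comap (algebraMap A B) q := h1
    rw [hq, Ideal.mem_bot] at h2
    rw [h2, IsLocalization.mk'_zero]
  let T : Fin r → B := fun j => Ideal.Quotient.mk _ (MvPolynomial.X j)
  refine TameKummerLib.isTamelyRamified_of_radical g hginj i n (fun j => ?_) (fun j => algebraMap A R (f j))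
    ?_ (fun j hj => hunit _ (hnd j hj)) (fun j => algebraMap B q.ResidueField (T j)) (fun j => ?_) fun x => ?_
  · rw [← map_natCast (algebraMap A R)]
    exact (hnA j).map _
  · exact IsDiscreteValuationRing.irreducible_of_span_eq_maximalIdeal _ hfR0 hmR
  · rw [hg, ← map_pow]
    congr 1
    rw [← map_pow, ← sub_eq_zero, ← Ideal.Quotient.mk_algebraMap, ← map_sub, Ideal.Quotient.eq_zero_iff_mem]
    exact Ideal.subset_span ⟨j, rfl⟩
  · let S := Subring.closure (Set.range g ∪ Set.range fun j => algebraMap B q.ResidueField (T j))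
    have hB : ∀ p : MvPolynomial (Fin r) A, algebraMap B q.ResidueField (Ideal.Quotient.mk _ p) ∈ S := fun p => by
      induction p using MvPolynomial.induction_on with
      | C a => exact Subring.subset_closure (Or.inl ⟨algebraMap A R a, hg a⟩)
      | add p p' hp hp' => rw [map_add, map_add]; exact add_mem hp hp'
      | mul_X p j hp => rw [map_mul, map_mul]; exact mul_mem hp (Subring.subset_closure (Or.inr ⟨j, rfl⟩))
    obtain ⟨b, c, hc, rfl⟩ := IsFractionRing.div_surjective (B ⧸ q) x
    obtain ⟨b, rfl⟩ := Ideal.Quotient.mk_surjective b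
    obtain ⟨c, rfl⟩ := Ideal.Quotient.mk_surjective c
    obtain ⟨pb, rfl⟩ := Ideal.Quotient.mk_surjective b
    obtain ⟨pc, rfl⟩ := Ideal.Quotient.mk_surjective c
    exact ⟨_, _, hB pb, hB pc, fun h => (mem_nonZeroDivisors_iff_ne_zero.1 hc)
      (IsFractionRing.injective (B ⧸ q) q.ResidueField (by rw [map_zero]; exact h)), rfl⟩

end Groth.Agent.S2924
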