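import Groth.Statements.S2932
import Groth.Agent.PicLiftLib.CIPic
import Groth.Agent.S2823

set_option autoImplicit false
universe u
open ParaF

namespace Groth.Agent.S2932
open IsLocalRing RingTheory.Sequence CommAlgDim AlgebraicGeometry in
/-- Factoriality of complete intersections, by induction on the dimension. -/
theorem ufd_ci : ∀ (n : ℕ) (R : Type u) [CommRing R] [IsRegularLocalRing R] (rs : List R),
    IsRegular R rs → ∀ (A : Type u) [CommRing A] [IsLocalRing A] [IsNoetherianRing A],
      (A ≃+* R ⧸ Ideal.ofList rs) → ringKrullDim A ≤ (n : WithBot ℕ∞) →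
      (∀ p : PrimeSpectrum A, ringKrullDim (Localization.AtPrime p.asIdeal) ≤ 3 →
        IsDomain (Localization.AtPrime p.asIdeal) ∧ UniqueFactorizationMonoid (Localization.AtPrime p.asIdeal)) →
      IsDomain A ∧ UniqueFactorizationMonoid A := by
  intro n
  induction n using Nat.strong_induction_on with
  | _ n ih =>
  intro R _ _ rs hreg A _ _ _ e hn h
  by_cases h3 : ringKrullDim A ≤ 3
  · let ψ := (IsLocalization.atUnits A (maximalIdeal A).primeCompl
      (S := Localization.AtPrime (maximalIdeal A)) fun x hx => notMem_maximalIdeal.1 hx).toRingEquiv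
    obtain ⟨hd, hu⟩ := h ⟨maximalIdeal A, inferInstance⟩ (by
      exact (ringKrullDim_eq_of_ringEquiv ψ).ge.trans h3)
    haveI : IsDomain (Localization.AtPrime (maximalIdeal A)) := hd
    haveI : UniqueFactorizationMonoid (Localization.AtPrime (maximalIdeal A)) := hu
    haveI : IsDomain A := ψ.toMulEquiv.isDomain
    exact ⟨inferInstance, ψ.symm.toMulEquiv.uniqueFactorizationMonoid inferInstance⟩
  obtain ⟨d, hd⟩ := CommAlgDim.exists_ringKrullDim_eq (R := A)
  rw [hd] at hn h3
  have h4 : 4 ≤ d := by
    by_contra h4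
    exact h3 (by exact_mod_cast (by omega : d ≤ 3))
  have hdn : d ≤ n := by exact_mod_cast hn
  haveI : IsLocalRing (R ⧸ Ideal.ofList rs) := e.isLocalRing
  have hC : IsCM A := CatLib.isCM_of_ringEquiv e.symm
    (PicLiftLib.isCM_quot _ R rs rfl (isCM_of_isRegularLocalRing R) hreg)
  have hdim : (4 : WithBot ℕ∞) ≤ ringKrullDim A := by rw [hd]; exact_mod_cast h4
  refine (Groth.Agent.S2823.result A (le_trans (by norm_num) hdim)).2
    ⟨PicLiftLib.picTrivial_ci rs.length R rs rfl hreg A e hdim, PicLiftLib.two_le_depth_of_isCM hC hdim,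
      fun y hy => ?_⟩
  let p : Ideal A := y.asIdeal
  let T := Localization.AtPrime p
  haveI : IsNoetherianRing T := IsLocalization.isNoetherianRing p.primeCompl _ inferInstance
  have hlt : p < maximalIdeal A := lt_of_le_of_ne (le_maximalIdeal y.isPrime.ne_top) fun he =>
    hy (PrimeSpectrum.ext he)
  have hT : ringKrullDim T ≤ ((d - 1 : ℕ) : WithBot ℕ∞) := by
    rw [IsLocalization.AtPrime.ringKrullDim_eq_height p]
    have h1 := Ideal.height_strict_mono_of_isPrime hlt
    have h2 : (maximalIdeal A).height = (d : ℕ∞) :=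
      WithBot.coe_injective (IsLocalRing.maximalIdeal_height_eq_ringKrullDim.trans hd)
    rw [h2, show d = (d - 1) + 1 by omega, Nat.cast_add, Nat.cast_one] at h1
    exact WithBot.coe_le_coe.2 (Order.le_of_lt_add_one h1)
  let π : R →+* A := e.symm.toRingHom.comp (Ideal.Quotient.mk _)
  have hπ : Function.Surjective π := e.symm.surjective.comp Ideal.Quotient.mk_surjective
  let Q := p.comap π
  haveI : IsRegularLocalRing (Localization.AtPrime Q) := isRegularLocalRing_localization R Q
  have hk : RingHom.ker π = Ideal.ofList rs := by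
    ext x; simp [π, RingHom.mem_ker, Ideal.Quotient.eq_zero_iff_mem]
  have hregQ : IsRegular (Localization.AtPrime Q) (rs.map (algebraMap R (Localization.AtPrime Q))) := by
    refine IsRegular.of_isWeaklyRegular_of_mem_maximalIdeal _ (fun x hx => ?_) hreg.toIsWeaklyRegular.of_flat
    obtain ⟨z, hz, rfl⟩ := List.mem_map.1 hx
    refine (IsLocalization.AtPrime.to_map_mem_maximal_iff _ Q z).2 (Ideal.mem_comap.2 ?_)
    rw [RingHom.mem_ker.1 (hk.ge (Ideal.subset_span hz))]
    exact zero_mem _
  let eQ : T ≃+* Localization.AtPrime Q ⧸ Ideal.ofList (rs.map (algebraMap R (Localization.AtPrime Q))) :=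
    (RingHom.quotientKerEquivOfSurjective (RingHom.surjective_localRingHom_of_surjective π hπ p)).symm.trans
      (Ideal.quotEquivOfEq (by rw [CIRingLib.ker_localRingHom π hπ p, hk, Ideal.map_ofList]))
  obtain ⟨hd', hu'⟩ := ih (d - 1) (by omega) _ _ hregQ T eQ hT fun P hP => by
    let P' := P.asIdeal.comap (algebraMap A T)
    let ι : Localization.AtPrime P' ≃+* Localization.AtPrime P.asIdeal :=
      (IsLocalization.localizationLocalizationAtPrimeIsoLocalization p.primeCompl P.asIdeal).toRingEquiv
    obtain ⟨h1, h2⟩ := h ⟨P', inferInstance⟩ ((ringKrullDim_eq_of_ringEquiv ι).le.trans hP)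
    haveI : IsDomain (Localization.AtPrime P') := h1
    haveI : UniqueFactorizationMonoid (Localization.AtPrime P') := h2
    haveI : IsDomain (Localization.AtPrime P.asIdeal) := ι.symm.toMulEquiv.isDomain
    exact ⟨inferInstance, ι.toMulEquiv.uniqueFactorizationMonoid inferInstance⟩
  let S := (Spec (CommRingCat.of A)).presheaf.stalk y
  let κ : T ≃+* S := (Spec.stalkIso (CommRingCat.of A) y).symm.commRingCatIsoToRingEquiv
  haveI : IsDomain T := hd'
  haveI : UniqueFactorizationMonoid T := hu'
  haveI : IsDomain S := κ.symm.toMulEquiv.isDomain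
  exact ⟨inferInstance, κ.toMulEquiv.uniqueFactorizationMonoid inferInstance⟩
/-- Let A be a Noetherian local ring which is a complete intersection (a quotient of a regular local
ring by a regular sequence) and which is factorial in codimension ≤ 3: for every prime p with dim
A_p ≤ 3 the local ring A_p is a factorial domain. Then A is a factorial domain. -/
theorem result (A : Type u) [CommRing A] [IsLocalRing A] [IsNoetherianRing A] (hA : SGA2.IsAbsCompleteIntersection A) (h : ∀ p : PrimeSpectrum A, ringKrullDim (Localization.AtPrime p.asIdeal) ≤ 3 → IsDomain (Localization.AtPrime p.asIdeal) ∧ UniqueFactorizationMonoid (Localization.AtPrime p.asIdeal)) : IsDomain A ∧ UniqueFactorizationMonoid A := by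
  obtain ⟨B, _, _, rs, -, hreg, ⟨e⟩⟩ := hA
  change A ≃+* B ⧸ Ideal.ofList rs at e
  obtain ⟨n, hn⟩ := CommAlgDim.exists_ringKrullDim_eq (R := A)
  exact ufd_ci n B rs hreg A e hn.le h
end Groth.Agent.S2932
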