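import Groth.Statements.S2955
import Groth.Agent.RootSys.BaseR
-- import your own Groth.Agent.* helpers here

set_option autoImplicit false
open RootPairing
open scoped Pointwise Classical
universe u
open RootD

namespace Groth.Agent.S2955

open RootSysLib.BaseR RootBasicLib RootPairing

/-- Let P be a finite crystallographic reduced root pairing over a domain of characteristic zero, with a
base b, and write 2ρ for the sum of the positive roots with respect to b. Then for every simple root
β (an index in the support of b) the reflection in β sends 2ρ to 2ρ − 2β (equivalently, the coroot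
of β pairs to 1 with ρ; only the reflection identity is asserted). -/
theorem result {ι R M N : Type*} [CommRing R] [CharZero R] [IsDomain R] [AddCommGroup M] [Module R M]
    [AddCommGroup N] [Module R N] (P : RootPairing ι R M N) [Finite ι] [P.IsCrystallographic] [P.IsReduced]
    [Fintype ι] (b : P.Base) (j : ι) (hj : j ∈ b.support) :
    P.reflection j (∑ i, if b.IsPos i then P.root i else 0) =
      (∑ i, if b.IsPos i then P.root i else 0) - (2 : R) • P.root j := by
  classical
  rw [map_sum]
  have h1 : ∀ i, P.reflection j (if b.IsPos i then P.root i else 0) =
      if b.IsPos i then P.root (P.reflectionPerm j i) else 0 := fun i => by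
    split <;> simp [P.root_reflectionPerm]
  rw [Finset.sum_congr rfl fun i _ => h1 i]
  rw [← Equiv.sum_comp (P.reflectionPerm j)]
  simp only [P.reflectionPerm_self]
  have hjp := Base.isPos_of_mem_support hj
  have hne : P.reflectionPerm j j ≠ j := fun e => neg_simple b hj (e.symm ▸ hjp)
  rw [← Finset.sum_erase_add _ _ (Finset.mem_univ j), ← Finset.sum_erase_add _ _ (Finset.mem_univ j),
    ← Finset.sum_erase_add _ _ (Finset.mem_erase.2 ⟨hne, Finset.mem_univ (P.reflectionPerm j j)⟩),
    ← Finset.sum_erase_add _ _ (Finset.mem_erase.2 ⟨hne, Finset.mem_univ (P.reflectionPerm j j)⟩)]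
  have hrest : ∀ i ∈ (Finset.univ.erase j).erase (P.reflectionPerm j j),
      (if b.IsPos (P.reflectionPerm j i) then P.root i else 0) = if b.IsPos i then P.root i else 0 := by
    intro i hi
    simp only [Finset.mem_erase, Finset.mem_univ, and_true] at hi
    have hiff : b.IsPos (P.reflectionPerm j i) ↔ b.IsPos i := by
      refine ⟨fun h => ?_, fun h => h.reflectionPerm hj hi.2⟩
      have := h.reflectionPerm hj fun e => hi.1 (by
        apply (P.reflectionPerm j).injective
        rw [e, P.reflectionPerm_self])
      rwa [P.reflectionPerm_self] at this
    simp only [hiff]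
  simp only [P.reflectionPerm_self]
  rw [Finset.sum_congr rfl hrest]
  simp [hjp, neg_simple b hj]
  module


end Groth.Agent.S2955
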