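import Groth.Statements.S2956
import Mathlib
import Groth.Agent.CoxPresLib.Main

set_option autoImplicit false
set_option backward.isDefEq.respectTransparency false
set_option backward.isDefEq.respectTransparency.types false
set_option maxHeartbeats 1000000
set_option synthInstance.maxHeartbeats 400000
open RootPairing
open scoped Pointwise
universe u
open RootD

namespace Groth.Agent.S2956

/-- For a finite crystallographic reduced root pairing with a base b: the Weyl group is presented by the
simple reflections s_i (i in the base) subject to the relations (s_i s_j)^{n_{ij}} = 1, where n_{ij}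
is the order of s_i s_j; i.e. it carries a Coxeter system whose simple reflections are the s_i and
whose Coxeter matrix is (n_{ij}). -/
theorem result {ι R M N : Type*} [CommRing R] [CharZero R] [IsDomain R] [AddCommGroup M] [Module R M]
    [AddCommGroup N] [Module R N] (P : RootPairing ι R M N) [Finite ι] [P.IsCrystallographic] [P.IsReduced]
    (b : P.Base) :
    ∃ (C : CoxeterMatrix ↥b.support) (cs : CoxeterSystem C P.weylGroup),
      (∀ j : ↥b.support, ((cs.simple j : P.weylGroup) : P.Aut) = Equiv.reflection P (j : ι)) ∧
      ∀ j k : ↥b.support, C.M j k = orderOf (Equiv.reflection P (j : ι) * Equiv.reflection P (k : ι)) := by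
  classical
  let W := P.weylGroup
  have hwinj : Function.Injective (Equiv.weightHom P) := Equiv.weightHom_injective P
  have hwr : ∀ i, Equiv.weightHom P (Equiv.reflection P i) = P.reflection i := fun i => by
    simp
  have hrefl : ∀ i j, Equiv.reflection P (P.reflectionPerm i j) =
      Equiv.reflection P i * Equiv.reflection P j * Equiv.reflection P i := by
    intro i j
    apply hwinj
    rw [map_mul, map_mul, hwr, hwr, hwr, reflection_reflectionPerm]
  have hsm : ∀ i j, (Equiv.reflection P i : P.Aut) • j = P.reflectionPerm i j := fun i j => rfl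
  have hconj : ∀ w ∈ W, ∀ i, w * Equiv.reflection P i * w⁻¹ = Equiv.reflection P (w • i) := by
    intro w hw
    induction hw using RootPairing.weylGroup.induction with
    | mem j => intro i; rw [hsm, hrefl, Equiv.reflection_inv]
    | one => intro i; simp
    | mul x y hx hy hxi hyi =>
      intro i
      rw [mul_smul, ← hxi, ← hyi]; group
  letI := P.indexNeg
  have hinv : ∀ i, Equiv.reflection P i * Equiv.reflection P i = 1 := fun i => by
    rw [mul_eq_one_iff_inv_eq, Equiv.reflection_inv]
  have hneg : ∀ i : ι, -i = P.reflectionPerm i i := fun i => rfl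
  have hall : ∀ i, Equiv.reflection P i ∈
      Subgroup.closure (Set.range fun j : ↥b.support => (Equiv.reflection P (j : ι) : P.Aut)) := by
    intro i
    refine b.induction_reflect i ?_ (fun i hi => Subgroup.subset_closure (Set.mem_range_self (⟨i, hi⟩ : ↥b.support))) ?_
    · intro i hi; rw [hrefl, hinv, one_mul]; exact hi
    · intro i j hi hj
      rw [hrefl]
      exact mul_mem (mul_mem (Subgroup.subset_closure (Set.mem_range_self (⟨j, hj⟩ : ↥b.support))) hi)
        (Subgroup.subset_closure (Set.mem_range_self (⟨j, hj⟩ : ↥b.support)))
  let s : ↥b.support → W := fun j => ⟨Equiv.reflection P (j : ι), P.reflection_mem_weylGroup _⟩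
  have hgen : Subgroup.closure (Set.range s) = ⊤ := by
    rw [eq_top_iff]
    rintro ⟨w, hw⟩ -
    refine (Subgroup.mem_map_iff_mem (f := W.subtype) W.subtype_injective).1 ?_
    rw [MonoidHom.map_closure, ← Set.range_comp]
    refine (Subgroup.closure_le _).2 ?_ (show w ∈ Subgroup.closure (Set.range (Equiv.reflection P)) from hw)
    rintro _ ⟨i, rfl⟩; exact hall i
  let D : CoxPresLib.Data ↥b.support W ι :=
    { s := s
      α := fun j => (j : ι)
      Pos := b.IsPos
      gen := hgen
      invol := fun a => Subtype.ext (hinv _)
      pos_simple := fun a => b.isPos_of_mem_support a.2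
      flip := fun a x hx hne => hx.reflectionPerm a.2 hne
      neg := fun w a h => by
        have e : w • s a • (a : ι) = -(w • (a : ι)) := by
          show w.1 • (s a).1 • (a : ι) = -(w.1 • (a : ι))
          rw [hneg, ← hsm, ← hconj w.1 w.2 (a : ι), ← mul_smul, ← mul_smul, inv_mul_cancel_right]
        rw [e, Base.IsPos.neg_iff_not b (w • (a : ι))]
        exact not_not_intro h
      conj := fun w a c h => Subtype.ext (by
        show w.1 * Equiv.reflection P (a : ι) * (w.1)⁻¹ = Equiv.reflection P (c : ι)
        rw [hconj w.1 w.2]; exact congrArg _ h) }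
  have hne : ∀ a c : ↥b.support, a ≠ c → D.s a * D.s c ≠ 1 := by
    intro a c hac h
    have h1 : Equiv.reflection P (a : ι) = Equiv.reflection P (c : ι) := by
      have h' : Equiv.reflection P (a : ι) * Equiv.reflection P (c : ι) = 1 := congrArg Subtype.val h
      rw [mul_eq_one_iff_eq_inv, Equiv.reflection_inv] at h'
      exact h'
    have hpos := (b.isPos_of_mem_support a.2).reflectionPerm c.2 (fun e => hac (Subtype.ext e))
    rw [← hsm, ← h1, hsm, ← hneg, Base.IsPos.neg_iff_not] at hpos
    exact hpos (b.isPos_of_mem_support a.2)
  obtain ⟨C, cs, h1, h2⟩ := D.exists_coxeterSystem hne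
  refine ⟨C, cs, fun j => congrArg Subtype.val (h1 j), fun j l => ?_⟩
  rw [h2, ← orderOf_injective W.subtype W.subtype_injective]
  rfl

end Groth.Agent.S2956
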