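import Groth.Statements.S2957
import Groth.Agent.RootSys.BaseR
-- import your own Groth.Agent.* helpers here

set_option autoImplicit false
open RootPairing
open scoped Pointwise
universe u
open RootD

namespace Groth.Agent.S2957

open RootSysLib.BaseR RootBasicLib RootPairing

open RootPairing in
theorem step {ι R M N : Type*} [CommRing R] [CharZero R] [IsDomain R] [AddCommGroup M] [Module R M]
    [AddCommGroup N] [Module R N] {P : RootPairing ι R M N} [Finite ι] [P.IsCrystallographic] [P.IsReduced]
    (b : P.Base) {g : P.Aut} {a : ι} (ha : a ∈ b.support) (hga : ¬ b.IsPos (g • a)) :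
    {i | b.IsPos i ∧ ¬ b.IsPos ((g * RootPairing.Equiv.reflection P a) • i)}.ncard <
      {i | b.IsPos i ∧ ¬ b.IsPos (g • i)}.ncard := by
  refine lt_of_le_of_lt ?_ (Set.ncard_sdiff_singleton_lt_of_mem (a := a)
    ⟨Base.isPos_of_mem_support ha, hga⟩ (Set.toFinite _))
  refine Set.ncard_le_ncard_of_injOn (fun i => P.reflectionPerm a i) ?_
    (fun x _ y _ e => (P.reflectionPerm a).injective e) (Set.toFinite _)
  rintro i ⟨hi, hgi⟩
  rw [mul_smul, reflection_smul_idx] at hgi
  have hia : i ≠ a := by
    rintro rfl
    rw [smul_neg_idx, isPos_neg_iff, not_not] at hgi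
    exact hga hgi
  refine ⟨⟨hi.reflectionPerm ha hia, hgi⟩, fun e : P.reflectionPerm a i = a => ?_⟩
  have hi' : i = P.reflectionPerm a a := by
    apply (P.reflectionPerm a).injective
    rw [e, P.reflectionPerm_self]
  exact neg_simple b ha (hi' ▸ hi)

theorem plane {ι R M N : Type*} [CommRing R] [CharZero R] [IsDomain R] [AddCommGroup M] [Module R M]
    [AddCommGroup N] [Module R N] {P : RootPairing ι R M N} [Finite ι] [P.IsCrystallographic]
    {α γ : ι} {u : P.Aut}
    (hu : u ∈ Subgroup.closure {RootPairing.Equiv.reflection P α, RootPairing.Equiv.reflection P γ}) :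
    ∀ k, (∃ x y : ℤ, P.root k = x • P.root α + y • P.root γ) →
      ∃ x y : ℤ, P.root (u • k) = x • P.root α + y • P.root γ := by
  induction hu using Subgroup.closure_induction'' with
  | one => intro k hk; rwa [one_smul]
  | mul u v _ _ hu hv => intro k hk; rw [mul_smul]; exact hu _ (hv k hk)
  | mem u hu =>
    rintro k ⟨x, y, he⟩
    rcases hu with rfl | rfl
    · refine ⟨x - P.pairingIn ℤ k α, y, ?_⟩
      rw [reflection_smul_idx, P.root_reflectionPerm, P.reflection_apply_root' ℤ, he, sub_smul]
      abel
    · refine ⟨x, y - P.pairingIn ℤ k γ, ?_⟩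
      rw [reflection_smul_idx, P.root_reflectionPerm, P.reflection_apply_root' ℤ, he, sub_smul]
      abel
  | inv_mem u hu =>
    rintro k ⟨x, y, he⟩
    rcases hu with rfl | rfl <;> rw [RootPairing.Equiv.reflection_inv]
    · refine ⟨x - P.pairingIn ℤ k α, y, ?_⟩
      rw [reflection_smul_idx, P.root_reflectionPerm, P.reflection_apply_root' ℤ, he, sub_smul]
      abel
    · refine ⟨x, y - P.pairingIn ℤ k γ, ?_⟩
      rw [reflection_smul_idx, P.root_reflectionPerm, P.reflection_apply_root' ℤ, he, sub_smul]
      abel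

/-- For a finite crystallographic reduced root pairing with a base b: let α, β be simple roots and w an
element of the Weyl group with w(α) = β. Then there are simple roots α = α_0, ..., α_m = β and Weyl
group elements w_0, ..., w_{m-1} with w = w_{m-1} ... w_0, w_i(α_i) = α_{i+1}, and each w_i lying in
the subgroup generated by the reflections in α_i and in a simple root γ_i, where γ_i = α_{i+1}
whenever α_i ≠ α_{i+1}. -/
theorem result {ι R M N : Type*} [CommRing R] [CharZero R] [IsDomain R] [AddCommGroup M] [Module R M]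
    [AddCommGroup N] [Module R N] (P : RootPairing ι R M N) [Finite ι] [P.IsCrystallographic] [P.IsReduced]
    (b : P.Base) (α β : ι) (hα : α ∈ b.support) (hβ : β ∈ b.support) (w : P.Aut) (hw : w ∈ P.weylGroup)
    (hwα : w • α = β) :
    ∃ (m : ℕ) (a : Fin (m + 1) → ι) (ws : Fin m → P.Aut),
      (∀ i, a i ∈ b.support) ∧ a 0 = α ∧ a (Fin.last m) = β ∧
      (∀ i, ws i ∈ P.weylGroup) ∧
      w = (List.ofFn fun i : Fin m => ws (Fin.rev i)).prod ∧
      (∀ i : Fin m, ws i • a (Fin.castSucc i) = a (Fin.succ i)) ∧
      ∀ i : Fin m, ∃ γ ∈ b.support,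
        ws i ∈ Subgroup.closure {Equiv.reflection P (a (Fin.castSucc i)), Equiv.reflection P γ} ∧
        (a (Fin.castSucc i) ≠ a (Fin.succ i) → γ = a (Fin.succ i)) := by
  classical
  induction hn : {i | b.IsPos i ∧ ¬ b.IsPos (w • i)}.ncard using Nat.strong_induction_on generalizing α w with
  | _ n ih =>
    by_cases hall : ∀ a ∈ b.support, b.IsPos (w • a)
    · have hw1 := eq_one_of_preserves b hw hall
      subst hw1
      rw [one_smul] at hwα
      subst hwα
      exact ⟨0, fun _ => α, Fin.elim0, fun _ => hα, rfl, rfl, fun i => i.elim0, rfl, fun i => i.elim0,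
        fun i => i.elim0⟩
    push Not at hall
    obtain ⟨γ, hγ, hwγ⟩ := hall
    have hαγ : α ≠ γ := by
      rintro rfl
      exact hwγ (hwα ▸ Base.isPos_of_mem_support hβ)
    set W' := Subgroup.closure {RootPairing.Equiv.reflection P α, RootPairing.Equiv.reflection P γ}
    have hsα : RootPairing.Equiv.reflection P α ∈ W' := Subgroup.subset_closure (Set.mem_insert _ _)
    have hsγ : RootPairing.Equiv.reflection P γ ∈ W' := Subgroup.subset_closure (Set.mem_insert_of_mem _ rfl)
    have hW' : ∀ u ∈ W', u ∈ P.weylGroup := fun u hu => (Subgroup.closure_le _).2 (by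
      rintro _ (rfl | rfl) <;> exact reflection_mem _) hu
    let cnt : P.Aut → ℕ := fun g => {i | b.IsPos i ∧ ¬ b.IsPos (g • i)}.ncard
    have hex : ∃ m, ∃ u ∈ W', cnt (w * u⁻¹) = m := ⟨_, 1, one_mem _, rfl⟩
    obtain ⟨u, hu, hcnt⟩ := Nat.find_spec hex
    set v := w * u⁻¹
    have hmin : ∀ u' ∈ W', cnt v ≤ cnt (w * u'⁻¹) := fun u' hu' => by
      rw [hcnt]
      exact Nat.find_min' hex ⟨u', hu', rfl⟩
    have hvpos : ∀ a, a ∈ b.support → RootPairing.Equiv.reflection P a ∈ W' → b.IsPos (v • a) := by
      intro a ha haW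
      by_contra hva
      have h1 := hmin (RootPairing.Equiv.reflection P a * u) (mul_mem haW hu)
      rw [mul_inv_rev, RootPairing.Equiv.reflection_inv, ← mul_assoc] at h1
      exact (step b ha hva).not_ge h1
    have hvα := hvpos α hα hsα
    have hvγ := hvpos γ hγ hsγ
    have hlt : cnt v < n := by
      rw [← hn]
      refine lt_of_le_of_lt (hmin (RootPairing.Equiv.reflection P γ) hsγ) ?_
      rw [RootPairing.Equiv.reflection_inv]
      exact step b hγ hwγ
    obtain ⟨x, y, hxy⟩ := plane hu α ⟨1, 0, by rw [one_smul, zero_smul, add_zero]⟩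
    have hvu : v • u • α = β := by rw [← mul_smul, inv_mul_cancel_right, hwα]
    have hvlin : P.root β = x • P.root (v • α) + y • P.root (v • γ) := by
      rw [← hvu, root_smul_index v, hxy, root_smul_index, root_smul_index, smul_add]
      congr 1
      · exact map_zsmul (RootPairing.Equiv.weightHom P v : M →ₗ[R] M) x _
      · exact map_zsmul (RootPairing.Equiv.weightHom P v : M →ₗ[R] M) y _
    obtain ⟨f, hfs, hsign, hf⟩ := b.exists_root_eq_sum_int (u • α)
    let g : ι → ℤ := fun i => (if i = α then x else 0) + if i = γ then y else 0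
    have hg : ∑ i ∈ b.support, g i • P.root i = P.root (u • α) := by
      simp only [g, add_smul, ite_smul, zero_smul, Finset.sum_add_distrib, Finset.sum_ite_eq', hα, hγ, if_true]
      exact hxy.symm
    have hfg : ∀ i ∈ b.support, f i = g i := by
      have h2 := linearIndepOn_iff'.1 (b.linearIndepOn_root.restrict_scalars' ℤ) b.support (fun i => f i - g i)
        (fun _ h => h) (by simp only [sub_smul, Finset.sum_sub_distrib, hg, ← hf, sub_self])
      exact fun i hi => sub_eq_zero.1 (h2 i hi)
    have hxf : f α = x := by rw [hfg α hα]; simp [g, hαγ]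
    have hyf : f γ = y := by rw [hfg γ hγ]; simp [g, Ne.symm hαγ]
    have hht : b.height β = x * b.height (v • α) + y * b.height (v • γ) := by
      obtain ⟨f1, -, -, h1⟩ := b.exists_root_eq_sum_int (v • α)
      obtain ⟨f2, -, -, h2⟩ := b.exists_root_eq_sum_int (v • γ)
      have h3 : P.root β = ∑ i ∈ b.support, (x * f1 i + y * f2 i) • P.root i := by
        simp only [add_smul, mul_smul, Finset.sum_add_distrib, ← Finset.smul_sum, ← h1, ← h2]
        exact hvlin
      rw [Base.height_eq_sum h3, Base.height_eq_sum h1, Base.height_eq_sum h2, Finset.mul_sum,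
        Finset.mul_sum, Finset.sum_add_distrib]
    rw [Base.height_one_of_mem_support hβ] at hht
    rw [Base.isPos_iff] at hvα hvγ
    have hxy01 : (x = 1 ∧ y = 0) ∨ (x = 0 ∧ y = 1) := by
      rcases hsign with h | h
      · have hx0 : 0 ≤ x := hxf ▸ h.le α
        have hy0 : 0 ≤ y := hyf ▸ h.le γ
        have hx1 : x ≤ 1 := by nlinarith
        have hy1 : y ≤ 1 := by nlinarith
        rcases (show (x = 0 ∨ x = 1) by omega) with rfl | rfl <;>
          rcases (show (y = 0 ∨ y = 1) by omega) with rfl | rfl
        · exfalso; omega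
        · exact Or.inr ⟨rfl, rfl⟩
        · exact Or.inl ⟨rfl, rfl⟩
        · exfalso; omega
      · have hx0 : x ≤ 0 := hxf ▸ h.le α
        have hy0 : y ≤ 0 := hyf ▸ h.le γ
        exfalso
        nlinarith
    have hua : u • α ∈ b.support ∧ (α ≠ u • α → γ = u • α) := by
      rcases hxy01 with ⟨rfl, rfl⟩ | ⟨rfl, rfl⟩
      · have : u • α = α := P.root.injective (by rw [hxy, one_smul, zero_smul, add_zero])
        rw [this]
        exact ⟨hα, fun h => absurd rfl h⟩
      · have : u • α = γ := P.root.injective (by rw [hxy, one_smul, zero_smul, zero_add])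
        rw [this]
        exact ⟨hγ, fun _ => rfl⟩
    obtain ⟨m, a, ws, ha, ha0, hal, hwsW, hprod, hstep, hlast⟩ :=
      ih (cnt v) hlt (u • α) hua.1 v (mul_mem hw (inv_mem (hW' u hu))) hvu rfl
    refine ⟨m + 1, Fin.cons α a, Fin.cons u ws, ?_, rfl, ?_, ?_, ?_, ?_, ?_⟩
    · intro i
      induction i using Fin.cases with
      | zero => exact hα
      | succ i => exact ha i
    · rw [← Fin.succ_last, Fin.cons_succ, hal]
    · intro i
      induction i using Fin.cases with
      | zero => exact hW' u hu
      | succ i => exact hwsW i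
    · have hh : (fun i : Fin m => (Fin.cons u ws : Fin (m + 1) → P.Aut) (Fin.rev i.castSucc)) =
          fun i => ws (Fin.rev i) := funext fun i => by rw [Fin.rev_castSucc, Fin.cons_succ]
      rw [List.ofFn_succ', List.prod_concat, hh, ← hprod, Fin.rev_last, Fin.cons_zero, inv_mul_cancel_right]
    · intro i
      induction i using Fin.cases with
      | zero => rw [Fin.castSucc_zero, Fin.cons_zero, Fin.cons_zero, Fin.cons_succ, ha0]
      | succ i => rw [Fin.cons_succ, Fin.castSucc_succ, Fin.cons_succ, Fin.cons_succ]; exact hstep i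
    · intro i
      induction i using Fin.cases with
      | zero =>
        simp only [Fin.castSucc_zero, Fin.cons_zero, Fin.cons_succ, ha0]
        exact ⟨γ, hγ, hu, hua.2⟩
      | succ i =>
        simp only [Fin.castSucc_succ, Fin.cons_succ]
        exact hlast i


end Groth.Agent.S2957
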