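import Groth.Statements.S2961
import Groth.Agent.BorelLib.SelfNormRel
import Groth.Agent.BorelLib.Parab
import Groth.Agent.BorelLib.NormOpen
-- import your own Groth.Agent.* helpers here

set_option linter.style.haveILetI false
set_option backward.isDefEq.respectTransparency false
set_option maxHeartbeats 4000000
set_option synthInstance.maxHeartbeats 400000

set_option autoImplicit false
open CategoryTheory MonoidalCategory CartesianMonoidalCategory MonObj GrpObj AlgebraicGeometry
universe u
open RedX

attribute [-instance] CategoryTheory.Hom.commGroup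

namespace Groth.Agent.S2961

open Groth.Agent.BorelLib
attribute [local instance] BorelLib.pTop BorelLib.pTopTensor

/-- Let G be a reductive group scheme over an arbitrary base scheme S and i : P → G a parabolic subgroup
(a smooth closed subgroup scheme whose geometric fibres contain a Borel subgroup). Then P is its own
normalizer in G: a point of G normalises P (after every base change) if and only if it lies in P.
The algebraically-closed-field case is carried as the hypothesis hNormAlgClosed: over an
algebraically closed field K, a K-point of a reductive group which normalises a parabolic subgroup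
scheme lies in it. -/
theorem result
    (hNormAlgClosed : ∀ (K : Type u) [Field K] [IsAlgClosed K] (H Q : Over (Spec (CommRingCat.of K))) [GrpObj H] [GrpObj Q]
      (j : Q ⟶ H), Red.IsReductive H → Red.IsParabolic j → ∀ g : 𝟙_ (Over (Spec (CommRingCat.of K))) ⟶ H,
        (∀ (Y : Over (Spec (CommRingCat.of K))) (q : Y ⟶ Q), ∃ q' : Y ⟶ Q,
          (toUnit Y ≫ g) * (q ≫ j) * (toUnit Y ≫ g)⁻¹ = q' ≫ j) →
        ∃ q : 𝟙_ (Over (Spec (CommRingCat.of K))) ⟶ Q, q ≫ j = g)
    {S : Scheme.{u}} {G P : Over S} [GrpObj G] [GrpObj P] (hG : Red.IsReductive G)
    (i : P ⟶ G) (hP : Red.IsParabolic i) : Red.IsNormalizerOf i i := by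
  obtain ⟨him, hic, hPs, hPg⟩ := hP
  haveI := him; haveI := hic; haveI := hPs
  haveI := hG.1; haveI := hG.2.1
  haveI : Mono i := (Over.forget S).mono_of_mono_map (inferInstanceAs (Mono i.left))
  haveI : QuasiCompact P.hom := by rw [← Over.w i]; infer_instance
  haveI : QuasiSeparated P.hom := by rw [← Over.w i]; infer_instance
  have h : ∀ s : S, ConnectedSpace ↥(Red.geomFibre s P).left ∧
      Red.IsNormalizerOf (G := Red.geomFibre s G) (H := Red.geomFibre s P) (Z := Red.geomFibre s P)
        ((Over.pullback (Red.geomPt s)).map i) ((Over.pullback (Red.geomPt s)).map i) := by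
    intro s
    obtain ⟨ha, hs, hc, -⟩ := hG.2.2 s
    haveI := ha; haveI := hs; haveI := hc
    obtain ⟨hm, hcl, hsm, B, _, b, hB⟩ := hPg s
    haveI := hm; haveI := hcl; haveI := hsm
    exact isNormalizerOf_parabolic hB
  exact (isNormalizerOf_self_of_geomFibres (i := i) (fun s => (h s).1) fun s => (h s).2).1

end Groth.Agent.S2961
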