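import Groth.Statements.S2964
import Groth.Agent.CartanRelLib.Reduced

set_option autoImplicit false
universe u
open scoped TensorProduct
open SGA3t2b

set_option linter.style.haveILetI false
set_option maxHeartbeats 1000000
open TensorProduct LieAlgebra Module CartanRelLib
attribute [local instance 100] LieRing.ofAssociativeRing

namespace Groth.Agent.S2964

/-- (i) ⇒ (iii): let d be a Lie algebra over a commutative ring A which is finitely presented as an
A-module. If for every prime p of A the fibre Lie algebra κ(p) ⊗_A d is nilpotent, then d is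
nilpotent (its lower central series vanishes, i.e. there is N with ad(x_1) ⋯ ad(x_N) = 0 for all
x_i); and the same conclusion holds if ad(x) is nilpotent for every x in d. -/
theorem result {A : Type u} [CommRing A] {L : Type u} [LieRing L] [LieAlgebra A L]
    [Module.FinitePresentation A L] :
    ((∀ p : PrimeSpectrum A, LieRing.IsNilpotent (p.asIdeal.ResidueField ⊗[A] L)) → LieRing.IsNilpotent L) ∧
    ((∀ x : L, IsNilpotent (LieAlgebra.ad A L x)) → LieRing.IsNilpotent L) := by
  classical
  obtain ⟨s, hs⟩ := Module.Finite.fg_top (R := A) (M := L)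
  let T : s → Module.End A L := fun v => ad A L (v : L)
  have part1 : (∀ p : PrimeSpectrum A, LieRing.IsNilpotent (p.asIdeal.ResidueField ⊗[A] L)) →
      LieRing.IsNilpotent L := by
    intro h
    obtain ⟨k, hk⟩ := exists_wordRange_eq_bot T fun p => by
      obtain ⟨k, hk⟩ := (LieModule.isNilpotent_iff p.asIdeal.ResidueField (p.asIdeal.ResidueField ⊗[A] L)
        (p.asIdeal.ResidueField ⊗[A] L)).1 (h p)
      refine ⟨k, fun v hv => ?_⟩
      suffices h2 : ∀ j, ∀ v ∈ wordRange T j, (1 : p.asIdeal.ResidueField) ⊗ₜ[A] v ∈
          LieModule.lowerCentralSeries p.asIdeal.ResidueField (p.asIdeal.ResidueField ⊗[A] L)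
            (p.asIdeal.ResidueField ⊗[A] L) j by
        have h3 := h2 k v hv
        rw [hk] at h3
        exact (LieSubmodule.mem_bot _).1 h3
      intro j
      induction j with
      | zero => intro v _; rw [LieModule.lowerCentralSeries_zero]; exact LieSubmodule.mem_top _
      | succ j ih =>
        intro v hv
        induction hv using Submodule.iSup_induction' with
        | mem i x hx =>
          obtain ⟨w, hw, rfl⟩ := hx
          rw [LieModule.lowerCentralSeries_succ,
            show (1 : p.asIdeal.ResidueField) ⊗ₜ[A] T i w =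
              ⁅(1 : p.asIdeal.ResidueField) ⊗ₜ[A] (i : L), (1 : p.asIdeal.ResidueField) ⊗ₜ[A] w⁆ by
              rw [ExtendScalars.bracket_tmul, one_mul]; rfl]
          exact LieSubmodule.lie_mem_lie (LieSubmodule.mem_top _) (ih w hw)
        | zero => rw [tmul_zero]; exact zero_mem _
        | add x y _ _ hx hy => rw [tmul_add]; exact add_mem hx hy
    refine (LieModule.isNilpotent_iff A L L).2 ⟨k, ?_⟩
    suffices h2 : ∀ j, (LieModule.lowerCentralSeries A L L j).toSubmodule ≤ wordRange T j by
      rw [← LieSubmodule.toSubmodule_eq_bot, eq_bot_iff, ← hk]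
      exact h2 k
    intro j
    induction j with
    | zero => exact le_top
    | succ j ih =>
      rw [LieModule.lowerCentralSeries_succ, LieSubmodule.lieIdeal_oper_eq_linear_span', Submodule.span_le]
      rintro _ ⟨x, -, w, hw, rfl⟩
      have hx : x ∈ Submodule.span A (s : Set L) := hs ▸ Submodule.mem_top
      change ⁅x, w⁆ ∈ wordRange T (j + 1)
      induction hx using Submodule.span_induction with
      | mem g hg => exact Submodule.mem_iSup_of_mem (⟨g, hg⟩ : s) ⟨w, ih hw, rfl⟩
      | zero => rw [zero_lie]; exact zero_mem _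
      | add x y _ _ hx hy => rw [add_lie]; exact add_mem hx hy
      | smul c x _ hx => rw [smul_lie]; exact Submodule.smul_mem _ _ hx
  refine ⟨part1, fun h => part1 fun p => ?_⟩
  rw [LieAlgebra.isNilpotent_iff_forall (R := p.asIdeal.ResidueField)]
  intro y
  obtain ⟨c, hc, x, hx⟩ := exists_smul_eq_tmul p.asIdeal y
  obtain ⟨n, hn⟩ := h x
  refine ⟨n, ?_⟩
  have h1 : (ad p.asIdeal.ResidueField _ ((1 : p.asIdeal.ResidueField) ⊗ₜ[A] x)) ^ n = 0 := by
    rw [ad_one_tmul, ← LinearMap.baseChange_pow, hn, LinearMap.baseChange_zero]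
  rw [← hx, smul_tmul_eq, map_smul, smul_pow] at h1
  exact (smul_eq_zero.1 h1).resolve_left (pow_ne_zero n (isUnit_algebraMap_residueField p.asIdeal hc).ne_zero)

end Groth.Agent.S2964
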