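import Groth.Statements.S2965
import Mathlib


-- import your own Groth.Agent.* helpers here

set_option autoImplicit false
universe u
open SGA3t2b

namespace Groth.Agent.S2965

open Polynomial in
/-- Implication (iv) ⇒ (i) (global form, finite free module): let u be an endomorphism of a finite free
module M over a commutative ring A whose characteristic polynomial is X^r · Q with Q(0) invertible.
Then M is the direct sum of two u-stable submodules M', M'' such that u is nilpotent on M' and
bijective on M''. -/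
theorem result {A : Type u} [CommRing A] {M : Type u} [AddCommGroup M] [Module A M]
    [Module.Free A M] [Module.Finite A M] (u : M →ₗ[A] M) (r : ℕ) (Q : A[X]) (hQ : IsUnit (Q.coeff 0))
    (h : u.charpoly = X ^ r * Q) :
    ∃ M' M'' : Submodule A M, IsCompl M' M'' ∧ (∀ x ∈ M', u x ∈ M') ∧ (∀ x ∈ M'', u x ∈ M'') ∧
      (∃ n : ℕ, ∀ x ∈ M', (u ^ n) x = 0) ∧ Set.BijOn u M'' M'' := by
  obtain ⟨q, hq⟩ := hQ
  have hco : IsCoprime ((X : A[X]) ^ r) Q := by
    refine IsCoprime.pow_left ⟨-(C ((↑q⁻¹ : A)) * Q.divX), C ((↑q⁻¹ : A)), ?_⟩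
    have e := Q.X_mul_divX_add
    have hq' : C ((↑q⁻¹ : A)) * C (Q.coeff 0) = 1 := by rw [← map_mul, ← hq, Units.inv_mul, map_one]
    linear_combination hq' - C ((↑q⁻¹ : A)) * e
  have hCH : aeval u (X ^ r * Q) = 0 := by rw [← h]; exact LinearMap.aeval_self_charpoly u
  have hcomm : ∀ (P : A[X]) x, aeval u P (u x) = u (aeval u P x) := fun P x => by
    have := LinearMap.congr_fun (congrArg (aeval u) (mul_comm P X)) x
    rw [map_mul, map_mul, aeval_X] at this
    exact this
  refine ⟨LinearMap.ker (aeval u (X ^ r : A[X])), LinearMap.ker (aeval u Q), ⟨Polynomial.disjoint_ker_aeval_of_isCoprime u hco, codisjoint_iff.2 ?_⟩, fun x hx => ?_, fun x hx => ?_, ⟨r, fun x hx => ?_⟩, fun x hx => ?_, ?_, fun y hy => ?_⟩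
  · rw [Polynomial.sup_ker_aeval_eq_ker_aeval_mul_of_coprime u hco, hCH, LinearMap.ker_zero]
  · rw [LinearMap.mem_ker] at hx ⊢; rw [hcomm, hx, map_zero]
  · rw [LinearMap.mem_ker] at hx ⊢; rw [hcomm, hx, map_zero]
  · simpa using hx
  · change aeval u Q (u x) = 0
    rw [hcomm, show aeval u Q x = 0 from hx, map_zero]
  · intro x hx y hy hxy
    have hs : x - y ∈ LinearMap.ker (aeval u (X : A[X])) := by simp [sub_eq_zero, hxy]
    have hs' : x - y ∈ LinearMap.ker (aeval u Q) := sub_mem hx hy
    have hco1 : IsCoprime (X : A[X]) Q := by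
      refine ⟨-(C ((↑q⁻¹ : A)) * Q.divX), C ((↑q⁻¹ : A)), ?_⟩
      have e := Q.X_mul_divX_add
      have hq' : C ((↑q⁻¹ : A)) * C (Q.coeff 0) = 1 := by rw [← map_mul, ← hq, Units.inv_mul, map_one]
      linear_combination hq' - C ((↑q⁻¹ : A)) * e
    exact sub_eq_zero.1 ((Submodule.mem_bot A).1 ((Polynomial.disjoint_ker_aeval_of_isCoprime u hco1).le_bot ⟨hs, hs'⟩))
  · refine ⟨aeval u (-(C ((↑q⁻¹ : A)) * Q.divX)) y, ?_, ?_⟩
    · change aeval u Q (aeval u _ y) = 0
      rw [← Module.End.mul_apply, ← map_mul, mul_comm, map_mul, Module.End.mul_apply, show aeval u Q y = 0 from hy, map_zero]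
    · have e : X * (-(C ((↑q⁻¹ : A)) * Q.divX)) = 1 - C ((↑q⁻¹ : A)) * Q := by
        have e := Q.X_mul_divX_add
        have hq' : C ((↑q⁻¹ : A)) * C (Q.coeff 0) = 1 := by rw [← map_mul, ← hq, Units.inv_mul, map_one]
        linear_combination hq' - C ((↑q⁻¹ : A)) * e
      have := LinearMap.congr_fun (congrArg (aeval u) e) y
      rw [map_mul, aeval_X, map_sub, map_one, map_mul, LinearMap.sub_apply, Module.End.mul_apply, Module.End.mul_apply, show aeval u Q y = 0 from hy, map_zero, sub_zero] at this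
      exact this

end Groth.Agent.S2965
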