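import Groth.Statements.S2967
import Mathlib


-- import your own Groth.Agent.* helpers here

set_option autoImplicit false
universe u
open SGA3t2b

namespace Groth.Agent.S2967

/-- A commutative p-Lie algebra over a field k of characteristic p is recorded as a k-vector space g
together with its p-th power map φ, which is additive and Frobenius-semilinear. Let g be
finite-dimensional and non-zero, and assume every element of g is killed by some iterate of φ (g is
unipotent). Then the k-subspace of g spanned by the image φ(g) is a proper subspace. -/
theorem result {k : Type u} [Field k] (p : ℕ) [Fact p.Prime] [CharP k p]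
    {V : Type u} [AddCommGroup V] [Module k V] [FiniteDimensional k V] [Nontrivial V]
    (φ : V →ₛₗ[frobenius k p] V) (hφ : ∀ x : V, ∃ n : ℕ, φ^[n] x = 0) :
    Submodule.span k (Set.range φ) ≠ ⊤ := by
  intro htop
  have key : ∀ n : ℕ, Submodule.span k (Set.range (φ^[n])) = ⊤ := by
    intro n
    induction n with
    | zero => simp
    | succ n ih =>
      refine eq_top_iff.mpr (htop ▸ Submodule.span_le.mpr ?_)
      rintro _ ⟨x, rfl⟩
      have hx : x ∈ Submodule.span k (Set.range (φ^[n])) := ih ▸ Submodule.mem_top
      induction hx using Submodule.span_induction with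
      | mem y hy =>
        obtain ⟨z, rfl⟩ := hy
        exact Submodule.subset_span ⟨z, Function.iterate_succ_apply' φ n z⟩
      | zero => rw [map_zero]; exact Submodule.zero_mem _
      | add y z _ _ hy hz => rw [map_add]; exact Submodule.add_mem _ hy hz
      | smul c y _ hy => rw [map_smulₛₗ]; exact Submodule.smul_mem _ _ hy
  let b := Module.finBasis k V
  choose n hn using fun i => hφ (b i)
  let N := Finset.univ.sup n
  have hz : ∀ x : V, φ^[N] x = 0 := by
    have hlin : ∀ (m : ℕ) (x y : V), φ^[m] (x + y) = φ^[m] x + φ^[m] y := by
      intro m
      induction m with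
      | zero => intro x y; rfl
      | succ m ih => intro x y; simp only [Function.iterate_succ_apply, map_add, ih]
    have hsm : ∀ (m : ℕ) (c : k) (x : V), φ^[m] (c • x) = c ^ p ^ m • φ^[m] x := by
      intro m
      induction m with
      | zero => intro c x; simp
      | succ m ih =>
        intro c x
        rw [Function.iterate_succ_apply, Function.iterate_succ_apply, map_smulₛₗ, ih, frobenius_def, ← pow_mul, ← pow_succ']
    have h0 : ∀ (m : ℕ), φ^[m] (0 : V) = 0 := fun m => Function.iterate_fixed (map_zero φ) m
    intro x
    induction (b.mem_span x) using Submodule.span_induction with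
    | mem y hy =>
      obtain ⟨i, rfl⟩ := hy
      obtain ⟨j, hj⟩ := Nat.exists_eq_add_of_le (Finset.le_sup (Finset.mem_univ i) : n i ≤ N)
      rw [show N = j + n i by omega, Function.iterate_add_apply, hn, h0]
    | zero => exact h0 N
    | add y z _ _ hy hz => rw [hlin, hy, hz, add_zero]
    | smul c y _ hy => rw [hsm, hy, smul_zero]
  have h := key N
  have hr : Set.range (φ^[N]) ⊆ {0} := fun z ⟨x, hx⟩ => by rw [← hx, hz]; rfl
  have : (⊤ : Submodule k V) = ⊥ := by
    rw [← h, Submodule.span_eq_bot]
    exact fun z hz => hr hz
  exact top_ne_bot this

end Groth.Agent.S2967
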