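import Groth.Statements.S2968
import Mathlib
import Groth.Agent.UnipHopfLib.Points
import Groth.Agent.ComodLib.Coeff
-- import your own Groth.Agent.* helpers here

set_option autoImplicit false
universe u
open SGA3t2b

open scoped ComodLib TensorProduct

namespace Groth.Agent.S2968

/-- In characteristic p, in Hopf-algebra form (with unipotent in the representation-theoretic sense
`HopfRep.IsUnipotent`): let k be a field of characteristic p > 0 and A a finite-type commutative
Hopf algebra over k (the coordinate Hopf algebra of an affine algebraic k-group) which is unipotent.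
Then the Lie algebra of the group is a unipotent p-Lie algebra: for every ε-derivation D : A -> k
there is n > 0 such that the iterated p-operation of D, computed here as the p^n-fold convolution
power of D (this is how the p-operation is rendered in this statement; its axioms are not proved
here), vanishes. -/
theorem result {k : Type u} [Field k] (p : ℕ) [Fact p.Prime] [CharP k p] {A : Type u} [CommRing A]
    [HopfAlgebra k A] [Algebra.FiniteType k A] (hU : HopfRep.IsUnipotent k A) (D : LieHopf.Lie k A) :
    ∃ n : ℕ, 0 < n ∧ LieHopf.convPow (D.toLinearMap.restrictScalars k ∘ₗ LinearMap.id) (p ^ n) = 0 := by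
  classical
  open Groth.Agent.UnipHopf in
  · let f₀ : A →ₗ[k] k := D.toLinearMap.restrictScalars k ∘ₗ LinearMap.id
    let x : ComodLib.Dual' k A := WithConv.toConv f₀
    have hpow : ∀ m, LieHopf.convPow f₀ m = (x ^ m).ofConv := by
      intro m
      induction m with
      | zero => refine LinearMap.ext fun a => ?_; simp [LieHopf.convPow, pow_zero]
      | succ m ih =>
        rw [LieHopf.convPow, ih, pow_succ]
        refine LinearMap.ext fun a => ?_
        rfl
    have hD : ∀ a b : A, f₀ (a * b) =
        CoalgebraStruct.counit (R := k) a * f₀ b + CoalgebraStruct.counit (R := k) b * f₀ a := fun a b => D.leibniz a b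
    have h1 : x (1 : A) = 0 := D.map_one_eq_zero
    -- the convolution by a derivation is a derivation of A
    let E : A →ₗ[k] A := ComodLib.actAlgHom k A A x
    have hE : ∀ a b : A, E (a * b) = E a * b + a * E b := by
      intro a b
      show ComodLib.slice f₀ (CoalgebraStruct.comul (R := k) (a * b)) =
        ComodLib.slice f₀ (CoalgebraStruct.comul (R := k) a) * b + a * ComodLib.slice f₀ (CoalgebraStruct.comul (R := k) b)
      rw [show CoalgebraStruct.comul (R := k) (a * b) =
        CoalgebraStruct.comul (R := k) a * CoalgebraStruct.comul (R := k) b from map_mul (Bialgebra.comulAlgHom k A) a b]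
      have ha := ComodLib.slice_counit (k := k) (A := A) (V := A) a
      have hb := ComodLib.slice_counit (k := k) (A := A) (V := A) b
      conv_rhs => rw [← ha, ← hb]
      show _ = ComodLib.slice f₀ (CoalgebraStruct.comul (R := k) _) * _ + _ * ComodLib.slice f₀ (CoalgebraStruct.comul (R := k) _)
      rw [ha, hb]
      conv_rhs => arg 1; arg 2; rw [← hb]
      conv_rhs => arg 2; arg 1; rw [← ha]
      show _ = _ * ComodLib.slice (CoalgebraStruct.counit (R := k)) (CoalgebraStruct.comul (R := k) b) +
        ComodLib.slice (CoalgebraStruct.counit (R := k)) (CoalgebraStruct.comul (R := k) a) * _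
      generalize CoalgebraStruct.comul (R := k) a = z
      generalize CoalgebraStruct.comul (R := k) b = w
      induction z using TensorProduct.induction_on with
      | zero => simp
      | add z z' hz hz' => simp only [add_mul, map_add, hz, hz']; abel
      | tmul p q =>
        induction w using TensorProduct.induction_on with
        | zero => simp
        | add w w' hw hw' => simp only [mul_add, map_add, hw, hw']; abel
        | tmul r s =>
          rw [Algebra.TensorProduct.tmul_mul_tmul]
          simp only [ComodLib.slice_tmul, hD, smul_mul_smul_comm, add_smul, mul_comm (CoalgebraStruct.counit (R := k) s)]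
          abel
    haveI : Nontrivial A := (Bialgebra.counitAlgHom k A).toRingHom.domain_nontrivial
    haveI : Nontrivial (A ⊗[k] A) := ⟨⟨1, 0, fun h => by
      have := congrArg (LinearMap.mul' k A) h
      rw [Algebra.TensorProduct.one_def, LinearMap.mul'_apply, map_zero, one_mul] at this
      exact one_ne_zero this⟩⟩
    haveI : CharP (Module.End k (A ⊗[k] A)) p := charP_of_injective_algebraMap
      (algebraMap k (Module.End k (A ⊗[k] A))).injective p
    have hEn : ∀ (n : ℕ) (a b : A), (E ^ p ^ n) (a * b) = (E ^ p ^ n) a * b + a * (E ^ p ^ n) b := by
      intro n a b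
      let L₁ : Module.End k (A ⊗[k] A) := LinearMap.rTensor A E
      let L₂ : Module.End k (A ⊗[k] A) := LinearMap.lTensor A E
      have hc : Commute L₁ L₂ := LinearMap.ext fun z => by
        induction z using TensorProduct.induction_on with
        | zero => simp
        | add z z' hz hz' => simp only [map_add, hz, hz']
        | tmul p q => rfl
      have hμ : ∀ m z, (E ^ m) (LinearMap.mul' k A z) = LinearMap.mul' k A (((L₁ + L₂) ^ m) z) := by
        intro m
        induction m with
        | zero => intro z; rfl
        | succ m ih =>
          intro z
          rw [pow_succ', Module.End.mul_apply, ih, pow_succ', Module.End.mul_apply]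
          generalize ((L₁ + L₂) ^ m) z = w
          induction w using TensorProduct.induction_on with
          | zero => simp
          | add z z' hz hz' => simp only [map_add, hz, hz']
          | tmul p q => simp [L₁, L₂, hE]
      have := hμ (p ^ n) (a ⊗ₜ[k] b)
      rw [add_pow_char_pow_of_commute (p := p) (h := hc)] at this
      simpa [L₁, L₂, LinearMap.rTensor_pow, LinearMap.lTensor_pow] using this
    obtain ⟨s, hs⟩ := Algebra.FiniteType.out (R := k) (A := A)
    choose d hd using fun a : A => exhaustive_of_isUnipotent hU a
    refine ⟨s.sup d + 1, Nat.succ_pos _, ?_⟩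
    set n := s.sup d + 1
    have hEx : ∀ m (a : A), (E ^ m) a = x ^ m • a := fun m a => by
      show ((ComodLib.actAlgHom k A A x) ^ m) a = _
      rw [← map_pow]
      rfl
    have hgen : ∀ a : A, a ∈ Algebra.adjoin k (s : Set A) → (E ^ p ^ n) a = 0 := by
      intro a ha
      induction ha using Algebra.adjoin_induction with
      | mem a ha =>
        rw [hEx]
        have hle : d a ≤ p ^ n := (Finset.le_sup (f := d) ha).trans
          ((Nat.le_succ _).trans (Nat.lt_pow_self (Fact.out : p.Prime).one_lt).le)
        have h := pow_smul_mem_K x h1 (p ^ n) 0 a (by simpa using K_mono hle (hd a))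
        rwa [K_zero, Submodule.mem_bot] at h
      | algebraMap c =>
        have h := hEn n 1 1
        simp only [mul_one, one_mul] at h
        have : (E ^ p ^ n) (1 : A) = 0 := by simpa using h
        rw [Algebra.algebraMap_eq_smul_one, map_smul, this, smul_zero]
      | add a b _ _ ha hb => rw [map_add, ha, hb, add_zero]
      | mul a b _ _ ha hb => rw [hEn, ha, hb, zero_mul, mul_zero, add_zero]
    refine LinearMap.ext fun a => ?_
    have h := congrArg (CoalgebraStruct.counit (R := k)) (hgen a (hs ▸ Algebra.mem_top))
    rw [hEx, ComodLib.counit_smul, map_zero] at h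
    rw [show LieHopf.convPow f₀ (p ^ n) = _ from hpow _]
    exact h

end Groth.Agent.S2968
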