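import Groth.Statements.S2978


set_option autoImplicit false
universe u
open SGA3b

namespace Groth.Agent.S2978

/-- Let A be a Noetherian ring, M a set and a : M × M → A a family vanishing off the diagonal which is a
finite sum of decomposable families: a(m, m') = Σ_i b_i(m) c_i(m') for finitely many b_i, c_i : M →
A. Then a has finite support. -/
theorem result (A : Type u) [CommRing A] [IsNoetherianRing A] (M : Type u)
    (a : M × M → A) (hdiag : ∀ m m', m ≠ m' → a (m, m') = 0)
    (ι : Type u) [Fintype ι] (b c : ι → M → A) (hdec : ∀ m m', a (m, m') = ∑ i, b i m * c i m') :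
    Set.Finite {p : M × M | a p ≠ 0} := by
  classical
  let v : M → (ι → A) := fun m i => b i m
  let f : (ι → A) → M → A := fun x m' => ∑ i, x i * c i m'
  obtain ⟨T, hT⟩ : ∃ T : Finset M, Submodule.span A (Set.range v) ≤ Submodule.span A (v '' ↑T) := by
    obtain ⟨s, hs⟩ := IsNoetherian.noetherian (Submodule.span A (Set.range v))
    have hs' : ∀ x ∈ s, ∃ T : Finset M, x ∈ Submodule.span A (v '' ↑T) := by
      intro x hx
      have hx' : x ∈ Submodule.span A (Set.range v) := hs ▸ Submodule.subset_span hx
      obtain ⟨l, hl⟩ := (Finsupp.mem_span_range_iff_exists_finsupp).1 hx'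
      refine ⟨l.support, hl ▸ ?_⟩
      exact Submodule.sum_mem _ fun m hm =>
        Submodule.smul_mem _ _ (Submodule.subset_span ⟨m, hm, rfl⟩)
    choose T hT using hs'
    refine ⟨s.attach.biUnion fun x => T x.1 x.2, ?_⟩
    rw [← hs, Submodule.span_le]
    intro x hx
    refine Submodule.span_mono ?_ (hT x hx)
    exact Set.image_mono fun m hm => Finset.mem_biUnion.2 ⟨⟨x, hx⟩, Finset.mem_attach _ _, hm⟩
  refine ((T.finite_toSet).image fun m => (m, m)).subset ?_
  rintro ⟨m, m'⟩ hp
  obtain rfl : m = m' := by
    by_contra hne; exact hp (hdiag m m' hne)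
  refine ⟨m, ?_, rfl⟩
  by_contra hm
  refine hp ?_
  have key : ∀ x ∈ Submodule.span A (v '' ↑T), f x m = 0 := by
    intro x hx
    induction hx using Submodule.span_induction with
    | mem x hx =>
      obtain ⟨t, ht, rfl⟩ := hx
      show ∑ i, b i t * c i m = 0
      rw [← hdec]
      exact hdiag t m fun h => hm (h ▸ ht)
    | zero => simp [f]
    | add x y _ _ ihx ihy =>
      simp only [f, Pi.add_apply, add_mul, Finset.sum_add_distrib] at *
      rw [ihx, ihy, add_zero]
    | smul r x _ ih =>
      simp only [f, Pi.smul_apply, smul_eq_mul, mul_assoc, ← Finset.mul_sum] at *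
      rw [ih, mul_zero]
  rw [hdec]
  exact key (v m) (hT (Submodule.subset_span ⟨m, rfl⟩))

end Groth.Agent.S2978
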