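import Groth.Statements.S2984
import Groth.Agent.DiagHopfLib.Torsion
import Groth.Agent.DiagHopfLib.Family
-- import your own Groth.Agent.* helpers here

set_option autoImplicit false
universe u
open TensorProduct SGA3b
open SGA3b

open scoped TensorProduct

namespace Groth.Agent.S2984

/-- Let R be a ring and G = Spec A an R-group scheme of multiplicative type and of finite type, with A a
Hopf algebra over R. Then A is finite over R if and only if the n-th power map of G is trivial for
some n > 0 (the kernel ₙG is all of G). (Affine group schemes over an affine base are taken in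
Hopf-algebra form; base change is the tensor product.) -/
theorem result (R : Type u) [CommRing R] (A : Type u) [CommRing A] [HopfAlgebra R A] (hft : Algebra.FiniteType R A) (h : IsMultType R A) :
    Module.Finite R A ↔ ∃ n : ℕ, 0 < n ∧ torsionIdeal R A n = ⊥ := by
  classical
  obtain ⟨s, hs, H⟩ := Groth.Agent.DiagHopf.exists_cover_split h
  have hpowe : ∀ (S : Type u) [CommRing S] [Algebra R S] (M : Type u) [AddCommGroup M]
      (E : Groth.Agent.TorusField.Split R A M S) (m : M) (j : ℕ), E.e m ^ j = E.e (j • m) := by
    intro S _ _ M _ E m j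
    induction j with
    | zero => rw [pow_zero, zero_smul, E.e_zero]
    | succ j ih => rw [pow_succ, ih, succ_nsmul, E.e_add]
  constructor
  · intro hfin
    obtain ⟨t, hts, ht⟩ := (Ideal.span_eq_top_iff_finite s).1 hs
    have hd : ∀ f : (t : Set R), ∃ c : ℕ, 0 < c ∧ ∃ (S : Type u) (_ : CommRing S) (_ : Algebra R S)
        (_ : Algebra (Localization.Away f.1) S) (_ : IsScalarTower R (Localization.Away f.1) S),
        Module.FaithfullyFlat (Localization.Away f.1) S ∧
          ∀ j, c ∣ j → ∀ a : A, (1 : S) ⊗ₜ[R] (powConv R A j a - algebraMap R A (Bialgebra.counitAlgHom R A a)) = 0 := by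
      intro f
      obtain ⟨S, _, _, _, _, N, _, hff, ⟨E⟩⟩ := H f.1 (hts f.2)
      rcases subsingleton_or_nontrivial S with hS | hS
      · haveI : Subsingleton (S ⊗[R] A) := Module.subsingleton S _
        exact ⟨1, one_pos, S, inferInstance, inferInstance, inferInstance, inferInstance, hff,
          fun j _ a => Subsingleton.elim _ _⟩
      haveI : Module.Finite S (S ⊗[R] A) := inferInstance
      haveI : Finite (Additive N) := Module.Finite.finite_basis E.e
      refine ⟨Nat.card (Additive N), Nat.card_pos, S, inferInstance, inferInstance, inferInstance, inferInstance, hff,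
        fun j hj a => ?_⟩
      let P := Algebra.TensorProduct.map (AlgHom.id S S) (powConv R A j)
      have hlin : ∀ w, P w = algebraMap S (S ⊗[R] A) (Groth.Agent.TorusField.ev1 R A S w) := fun w => by
        refine LinearMap.congr_fun (f := P.toLinearMap)
          (g := (Algebra.linearMap S (S ⊗[R] A)) ∘ₗ (Groth.Agent.TorusField.ev1 R A S).toLinearMap)
          (E.e.ext fun m => ?_) w
        simp only [LinearMap.comp_apply, AlgHom.toLinearMap_apply, Algebra.linearMap_apply]
        rw [show P (E.e m) = E.e m ^ j from Groth.Agent.DiagHopf.map_powConv_gl j (E.gl m), hpowe, (E.gl m).2,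
          map_one]
        obtain ⟨c, rfl⟩ := hj
        rw [mul_comm, mul_nsmul', card_nsmul_eq_zero', smul_zero, E.e_zero]
      have h1 := hlin ((1 : S) ⊗ₜ[R] a)
      rw [show P ((1 : S) ⊗ₜ[R] a) = (1 : S) ⊗ₜ[R] powConv R A j a by simp [P]] at h1
      rw [TensorProduct.tmul_sub, h1, sub_eq_zero]
      simp [Groth.Agent.TorusField.ev1, Algebra.TensorProduct.algebraMap_apply, Algebra.algebraMap_eq_smul_one,
        Algebra.TensorProduct.one_def, TensorProduct.smul_tmul', TensorProduct.tmul_smul]
    choose c hc S i1 i2 i3 i4 hff hzero using hd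
    refine ⟨∏ f, c f, Finset.prod_pos fun f _ => hc f, (Submodule.eq_bot_iff _).2 fun x hx => ?_⟩
    have hle : torsionIdeal R A (∏ f, c f) ≤ ⊥ := by
      rw [torsionIdeal, Ideal.map_le_iff_le_comap]
      intro a ha
      rw [Ideal.mem_comap, Ideal.mem_bot]
      refine Groth.Agent.DiagHopf.eq_zero_of_cover ht _ fun f hf => ?_
      letI := i1 ⟨f, hf⟩; letI := i2 ⟨f, hf⟩; letI := i3 ⟨f, hf⟩; haveI := i4 ⟨f, hf⟩
      refine ⟨S ⟨f, hf⟩, inferInstance, inferInstance, inferInstance, inferInstance, hff ⟨f, hf⟩, ?_⟩
      have := hzero ⟨f, hf⟩ _ (Finset.dvd_prod_of_mem c (Finset.mem_univ _)) a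
      rwa [show Bialgebra.counitAlgHom R A a = 0 from ha, map_zero, sub_zero] at this
    exact (Ideal.mem_bot).1 (hle hx)
  · rintro ⟨n, hn, hbot⟩
    have hpow : ∀ a : A, powConv R A n a = algebraMap R A (Bialgebra.counitAlgHom R A a) := fun a => by
      have hmem : a - algebraMap R A (Bialgebra.counitAlgHom R A a) ∈ RingHom.ker (Bialgebra.counitAlgHom R A) := by
        rw [RingHom.mem_ker, map_sub, AlgHom.commutes]; exact sub_self _
      have : powConv R A n (a - algebraMap R A (Bialgebra.counitAlgHom R A a)) ∈ torsionIdeal R A n :=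
        Ideal.mem_map_of_mem _ hmem
      rwa [hbot, Ideal.mem_bot, map_sub, AlgHom.commutes, sub_eq_zero] at this
    haveI := hft
    refine Module.Finite.of_localizationSpan' s hs (Rₚ := fun g : s => Localization.Away g.1)
      (Mₚ := fun g : s => Localization.Away g.1 ⊗[R] A)
      (fun g : s => TensorProduct.mk R (Localization.Away g.1) A 1) fun g => ?_
    obtain ⟨S, _, _, _, _, N, _, hff, ⟨E⟩⟩ := H g.1 g.2
    haveI := hff
    haveI : Module.Finite S (S ⊗[R] A) := by
      rcases subsingleton_or_nontrivial S with hS | hS
      · haveI : Subsingleton (S ⊗[R] A) := Module.subsingleton S _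
        infer_instance
      haveI := Groth.Agent.DiagHopf.fg_of_split' E
      haveI : AddGroup.FG (Additive N) := AddGroup.fg_iff_addMonoid_fg.2 inferInstance
      have htors : AddMonoid.IsTorsion (Additive N) := fun m => by
        refine isOfFinAddOrder_iff_nsmul_eq_zero.2 ⟨n, hn, E.e.injective ?_⟩
        let P := Algebra.TensorProduct.map (AlgHom.id S S) (powConv R A n)
        have hP : ∀ w, P w = algebraMap S (S ⊗[R] A) (Groth.Agent.TorusField.ev1 R A S w) := fun w => by
          induction w using TensorProduct.induction_on with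
          | zero => simp
          | add w w' hw hw' => simp only [map_add, hw, hw']
          | tmul x a =>
            simp [P, hpow, Groth.Agent.TorusField.ev1, Algebra.TensorProduct.algebraMap_apply,
              Algebra.algebraMap_eq_smul_one, Algebra.TensorProduct.one_def, TensorProduct.tmul_smul, TensorProduct.smul_tmul']
        rw [← hpowe, ← Groth.Agent.DiagHopf.map_powConv_gl n (E.gl m), E.e_zero]
        exact (hP _).trans (by rw [(E.gl m).2, map_one])
      haveI : Finite (Additive N) := AddCommGroup.finite_of_fg_torsion (Additive N) htors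
      exact Module.Finite.of_basis E.e
    haveI : Module.Finite S (S ⊗[Localization.Away g.1] (Localization.Away g.1 ⊗[R] A)) :=
      Module.Finite.equiv (TensorProduct.AlgebraTensorModule.cancelBaseChange R (Localization.Away g.1) S S A).symm
    exact Module.Finite.of_finite_tensorProduct_of_faithfullyFlat S

end Groth.Agent.S2984
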