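import Groth.Statements.S2986
import Groth.Agent.WeilResLib.Closed
import Groth.Agent.WeilResLib.GeomConn
-- import your own Groth.Agent.* helpers here

set_option autoImplicit false
universe u
open TensorProduct
open SGA3b CategoryTheory AlgebraicGeometry

namespace Groth.Agent.S2986

/-- Let R be a ring, B a smooth R-algebra whose geometric fibres are connected (for every algebraically
closed field K under R, Spec (K ⊗_R B) is connected), e : B → R an R-algebra section with kernel 𝔪,
and J a finitely generated ideal of B (a finitely presented closed subscheme Y of X = Spec B). Then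
there is n ≥ 0 such that for every R-algebra R': the base change of X to R' lies in Y (every element
of J becomes zero in R' ⊗_R B) if and only if the base change of the n-th infinitesimal
neighbourhood Spec (B/𝔪^(n+1)) of the section lies in Y. (The published statement is for a general
base and X; this is the affine case.) -/
theorem result (R B : Type u) [CommRing R] [CommRing B] [Algebra R B]
    [Algebra.Smooth R B]
    (hconn : ∀ (K : Type u) [Field K] [IsAlgClosed K] [Algebra R K], ConnectedSpace (PrimeSpectrum (K ⊗[R] B)))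
    (e : B →ₐ[R] R) (J : Ideal B) (hJ : J.FG) :
    ∃ n : ℕ, ∀ (R' : Type u) [CommRing R'] [Algebra R R'],
      (∀ x ∈ J, (1 : R') ⊗ₜ[R] x = (0 : R' ⊗[R] B)) ↔
        (∀ x ∈ J, (1 : R') ⊗ₜ[R] (Ideal.Quotient.mk (RingHom.ker e ^ (n + 1)) x) = (0 : R' ⊗[R] (B ⧸ RingHom.ker e ^ (n + 1)))) := by
  let fB : Spec (CommRingCat.of B) ⟶ Spec (CommRingCat.of R) := Groth.Agent.WeilRes.sp (algebraMap R B)
  haveI : Smooth fB := (HasRingHomProperty.Spec_iff (P := @Smooth)).2 (RingHom.smooth_algebraMap.2 inferInstance)
  haveI : GeometricallyConnected fB := Groth.Agent.WeilRes.geometricallyConnected_of_geomPt fB fun s => by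
    obtain ⟨φ, hφ⟩ := Spec.map_surjective (Red.geomPt s)
    letI := φ.hom.toAlgebra
    have h1 : ConnectedSpace ↥(Spec (CommRingCat.of (AlgebraicClosure ((Spec (CommRingCat.of R)).residueField s) ⊗[R] B))) :=
      hconn _
    rw [← hφ]
    exact ((Limits.pullbackSymmetry fB (Spec.map φ)).hom.homeomorph.connectedSpace_iff).2
      ((pullbackSpecIso R (AlgebraicClosure ((Spec (CommRingCat.of R)).residueField s)) B).hom.homeomorph.connectedSpace_iff.2 h1)
  have hdom : ∀ (R' : Type u) [CommRing R'] [Algebra R R'] (p : Ideal R') [p.IsPrime],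
      NoZeroDivisors (p.ResidueField ⊗[R'] (R' ⊗[R] B)) := fun R' _ _ p _ => by
    obtain ⟨m, hm, hm₂, -⟩ :=
      Groth.Agent.WeilRes.isOpenImmersion_chart_baseChange fB (𝟙 _) (Category.id_comp _) R'
    haveI : Smooth (Limits.pullback.snd fB (Groth.Agent.WeilRes.sp (algebraMap R R'))) :=
      MorphismProperty.pullback_snd _ _ inferInstance
    exact Groth.Agent.WeilRes.noZeroDivisors_fibre _ (𝟙 _) m (hm₂.trans (Category.comp_id _).symm) _
  obtain ⟨s, hs⟩ := hJ
  obtain ⟨N, hN⟩ := Groth.Agent.WeilRes.exists_uniform e s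
  refine ⟨N, fun R' _ _ => ⟨fun h x hx => ?_, fun h => ?_⟩⟩
  · refine (Groth.Agent.WeilRes.van_iff_tmul e R' (N + 1) x).1 ?_
    show _ ∈ _
    rw [h x hx]
    exact zero_mem _
  · have hall : ∀ n, ∀ y ∈ s, Groth.Agent.WeilRes.Van e R' n y := hN R' fun y hy =>
      ((Groth.Agent.WeilRes.van_iff_tmul e R' (N + 1) y).2 (h y (hs ▸ Ideal.subset_span hy))).anti e N.le_succ
    intro x hx
    have hle : J ≤ RingHom.ker (Algebra.TensorProduct.includeRight : B →ₐ[R] R' ⊗[R] B) :=
      hs ▸ Ideal.span_le.2 fun y hy => Groth.Agent.WeilRes.vanishes_of_van hdom e y R' fun n => hall n y hy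
    exact hle hx
end Groth.Agent.S2986
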