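import Groth.Statements.S2989
import Groth.Agent.BorelLib.RedGeom
-- import your own Groth.Agent.* helpers here

set_option autoImplicit false
set_option maxHeartbeats 4000000
set_option synthInstance.maxHeartbeats 400000
set_option backward.isDefEq.respectTransparency false
open CategoryTheory MonoidalCategory CartesianMonoidalCategory MonObj GrpObj AlgebraicGeometry
universe u
open Red

attribute [-instance] CategoryTheory.Hom.commGroup

namespace Groth.Agent.S2989

open Groth.Agent.BorelLib
attribute [local instance] BorelLib.pTop BorelLib.pTopTensor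

/-- First assertion (H¹(G, k) = 0 for k with trivial action). Let k be a field and G a reductive
k-group. Then every homomorphism of k-groups from G to the additive group is trivial. -/
theorem result (k : Type u) [Field k] (G : Over (Spec (CommRingCat.of k))) [GrpObj G]
    (hG : Red.IsReductive G) (φ : G ⟶ Red.Ga (Spec (CommRingCat.of k))) [IsMonHom φ] :
    φ = toUnit G ≫ η[Red.Ga (Spec (CommRingCat.of k))] := by
  let s : ↥(Spec (CommRingCat.of k)) := IsLocalRing.closedPoint k
  obtain ⟨haff, hsm, hcon, A, _, _, v, hv, hA, hAr, hred⟩ := reductive_data s hG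
  haveI := haff; haveI := hsm; haveI := hcon; haveI := hv; haveI := hA; haveI := hAr
  haveI := (geom_facts s G).2.2
  have hconn := isPreconnected_univ_of_connected v
  let t₀ := Red.geomPt s
  obtain ⟨f, hf, hfg⟩ := exists_reg_of_fn s v (Red.gaFn φ)
  have hadd : ∀ x y, f (x * y) = f x + f y := by
    intro x y
    obtain ⟨a, rfl⟩ := (FF.toPt t₀ v).surjective x
    obtain ⟨b, rfl⟩ := (FF.toPt t₀ v).surjective y
    rw [← map_mul, hfg, hfg, hfg, ← map_add, ← GaPts.gaFn_comp, ← GaPts.gaFn_comp,
      ← GaPts.gaFn_comp, MonObj.mul_comp, GaPts.gaFn_mul]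
  rw [← Hom.one_def]
  haveI : IsAffine G.left := haff
  haveI : LocallyOfFiniteType (Red.Ga (Spec (CommRingCat.of k))).hom := by
    haveI : LocallyOfFiniteType Red.GaZ.{u}.hom := by
      haveI : Algebra.FiniteType (ULift.{u} ℤ) (SymmetricAlgebra (ULift.{u} ℤ) (ULift.{u} ℤ)) :=
        Algebra.FiniteType.equiv inferInstance
          (SymmetricAlgebra.equivMvPolynomial (Module.Basis.singleton Unit (ULift.{u} ℤ))).symm
      exact (HasRingHomProperty.Spec_iff (P := @LocallyOfFiniteType)).2 (RingHom.finiteType_algebraMap.2 this)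
    exact MorphismProperty.pullback_snd (P := @LocallyOfFiniteType) _ _ inferInstance
  refine eq_of_geom_points s fun g => GaPts.gaFn_injective ?_
  show Red.gaFn (g ≫ φ) = Red.gaFn (g ≫ 1)
  rw [MonObj.comp_one, GaPts.gaFn_one, GaPts.gaFn_comp]
  apply (Scheme.ΓSpecIso (CommRingCat.of (AlgebraicClosure ((Spec (CommRingCat.of k)).residueField s)))).commRingCatIsoToRingEquiv.injective
  rw [map_zero]
  exact (hfg g).symm.trans (hred.additive_eq_zero hconn hf hadd _)

end Groth.Agent.S2989
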