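import Groth.Statements.S5520
import Groth.Agent.BruhatLib.Apply

set_option autoImplicit false
set_option backward.isDefEq.respectTransparency false
open CategoryTheory MonoidalCategory CartesianMonoidalCategory MonObj GrpObj AlgebraicGeometry
universe u
open RedSub

namespace Groth.Agent.S5520

/-- Let G be a split pinned reductive S-group (pinning D), Ω ⟶ G the big cell map of its system of
positive roots, and for each simple root a let x_a be an S-point of G_a with unit coordinate. Let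
U_1 be the submonoid of G(S) generated by the sections u_a(x_a), a simple. Then the open sets u Ω, u
∈ U_1, cover G. -/
theorem result {S : Scheme.{u}} {G : Over S} [GrpObj G] (D : Red.Pinning G)
    {n m : ℕ} (eneg : Fin n → D.idx) (epos : Fin m → D.idx)
    (hneg : RedSub.Enumerates (RedSub.negRoots D.P D.base) eneg) (hpos : RedSub.Enumerates (RedSub.posRoots D.P D.base) epos)
    (x : D.idx → (𝟙_ (Over S) ⟶ Red.Ga S)) (hx : ∀ a ∈ D.base.support, IsUnit (Red.gaFn (x a))) (p : ↥G.left) :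
    ∃ w ∈ Submonoid.closure {g : 𝟙_ (Over S) ⟶ G | ∃ a ∈ D.base.support, g = x a ≫ D.u a},
      p ∈ Set.range ((toUnit _ ≫ w) * RedSub.cellMap D.toSplitRed eneg epos).left.base := by
  haveI : Nonempty S := ⟨G.hom p⟩
  obtain ⟨K, _, _, ξ, g, hg⟩ := Bruhat.exists_geom p
  let W₀ := Submonoid.closure {g : 𝟙_ (Over S) ⟶ G | ∃ a ∈ D.base.support, g = x a ≫ D.u a}
  let φ : (𝟙_ (Over S) ⟶ G) →* (SplitCell.aP ξ K ⟶ G) :=
    MonoidHom.mk' (fun w => toUnit _ ≫ w) fun w w' => MonObj.comp_mul _ _ _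
  obtain ⟨w, ⟨w₀, hw₀, rfl⟩, h⟩ := Bruhat.exists_mem_translate ξ D.base (W₀.map φ) (fun a ha => by
    obtain ⟨r, hr, hr0⟩ := Bruhat.exists_el_of_section D.toSplitRed ξ a (x a)
    exact ⟨r, hr0 (hx a ha), x a ≫ D.u a, Submonoid.subset_closure ⟨a, ha, rfl⟩, hr⟩) g
  exact ⟨w₀, hw₀, Bruhat.mem_range_translate ξ (SplitCell.sidesOfBase D.P D.base) hneg hpos hg w₀ h⟩

end Groth.Agent.S5520
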