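import Groth.Statements.S2990
import Groth.Agent.BruhatLib.Weyl
import Groth.Agent.BruhatLib.Local
import Groth.Agent.S5520

set_option autoImplicit false
set_option backward.isDefEq.respectTransparency false
set_option maxHeartbeats 2000000
set_option synthInstance.maxHeartbeats 400000
open CategoryTheory MonoidalCategory CartesianMonoidalCategory MonObj GrpObj AlgebraicGeometry
universe u
open Red RedSub

namespace Groth.Agent.S2990

/-- Let G be a reductive S-group scheme with a pinning (a split maximal torus T, a root datum with a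
chosen base, and root homomorphisms u_a), and let g be an S-point of G such that the inner
automorphism int(g) normalises T and commutes with the root homomorphism u_a of every simple root a.
Then int(g) is the identity: g centralises every point of G with values in any S-scheme. (This is
the case of an inner automorphism respecting the pinning without permuting the simple roots.) -/
theorem result {S : Scheme.{u}} {G : Over S} [GrpObj G] (D : Red.Pinning G)
    (g : 𝟙_ (Over S) ⟶ G)
    (hT : ∀ (X : Over S) (t : X ⟶ D.T), ∃ t' : X ⟶ D.T, (toUnit X ≫ g) * (t ≫ D.i) * (toUnit X ≫ g)⁻¹ = t' ≫ D.i)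
    (hu : ∀ a ∈ D.base.support, ∀ (X : Over S) (x : X ⟶ Red.Ga S),
      (toUnit X ≫ g) * (x ≫ D.u a) * (toUnit X ≫ g)⁻¹ = x ≫ D.u a) :
    ∀ (X : Over S) (y : X ⟶ G), (toUnit X ≫ g) * y * (toUnit X ≫ g)⁻¹ = y := by
  intro X y
  by_cases hne : Nonempty S
  swap
  · exact Bruhat.eq_of_opens _ _ fun z => absurd ⟨X.hom z⟩ hne
  haveI : ∀ k, IsMonHom (D.u k) := SplitCell.isMonHom_u D.toSplitRed
  haveI : ∀ k, Mono (D.u k) := SplitCell.mono_u D.toSplitRed
  haveI := SplitCell.isMonHom_i D.toSplitRed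
  obtain ⟨nr, hnr⟩ := Bruhat.exists_nr D.toSplitRed
  let σ := SplitCell.sidesOfBase D.P D.base
  obtain ⟨n, m, eneg, epos, hneg, hpos⟩ := SplitCell.exists_enum D.toSplitRed σ
  haveI := SplitCell.isOpenImmersion_cellMap D.toSplitRed σ hneg hpos
  have hg : Bruhat.Normalises D.toSplitRed g := fun X' y t => by
    rw [Subsingleton.elim y (toUnit X')]
    exact hT X' t
  -- on every geometric fibre g lies in the torus
  have hmem : ∀ s : S, g.left s ∈ Set.range (RedSub.cellMap D.toSplitRed eneg epos).left := fun s => by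
    let K := AlgebraicClosure (S.residueField s)
    let ξ := Red.geomPt s
    let g₀ : SplitCell.aP ξ K ⟶ G := toUnit _ ≫ g
    obtain ⟨l, τ, hl⟩ := Bruhat.exists_word_of_normalises hnr ξ D.base (g := g₀)
      fun X' y t => by rw [← Category.assoc]; exact hg X' _ t
    have hfix : ∀ a ∈ D.base.support, wordPerm D.P l a = a := fun a ha => by
      obtain ⟨w, hw, -⟩ := (D.rootHom a).2.2 _ τ (GaPts.ptOf (SplitCell.cst ξ K 1))
      obtain ⟨z, hz⟩ := Bruhat.conj_u_word hnr l a w
      obtain ⟨r, rfl⟩ := Bruhat.ga_cases ξ z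
      refine (Bruhat.eq_of_el_eq (D := D.toSplitRed) ξ (one_ne_zero (α := K)) (?_ :
        SplitCell.el ξ (D.u a) 1 = SplitCell.el ξ (D.u (wordPerm D.P l a)) r)).symm
      refine ((hu a ha _ (GaPts.ptOf (SplitCell.cst ξ K 1))).symm.trans ?_)
      refine Eq.trans ?_ hz
      rw [hw, show toUnit _ ≫ g = g₀ from rfl, hl]
      group
    have hall : ∀ k, wordPerm D.P l k = k := fun k => by
      have h1 : (Bruhat.wordLin D.toSplitRed l) (D.P.root k) = D.P.root k := by
        have hk : D.P.root k ∈ Submodule.span ℤ (D.P.root '' (D.base.support : Set D.idx)) := by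
          rw [D.base.span_int_root_support]
          exact Submodule.subset_span ⟨k, rfl⟩
        refine Submodule.span_induction (p := fun m _ => Bruhat.wordLin D.toSplitRed l m = m) ?_ ?_ ?_ ?_ hk
        · rintro _ ⟨a, ha, rfl⟩
          rw [Bruhat.wordLin_root, show (wordPerm D.P l).symm a = a from (Equiv.symm_apply_eq _).2 (hfix a ha).symm]
        · exact map_zero _
        · intro p q _ _ hp hq; rw [map_add, hp, hq]
        · intro c p _ hp; rw [map_zsmul, hp]
      rw [Bruhat.wordLin_root] at h1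
      exact ((Equiv.symm_apply_eq _).1 (D.P.root.injective h1)).symm
    have hlin := Bruhat.wordLin_congr D.toSplitRed (l := l) (l' := [])
      (Equiv.ext fun k => by rw [hall k]; rfl)
    obtain ⟨t₀, ht₀⟩ := Bruhat.exists_torus_of_commute (D := D.toSplitRed) s g₀ fun t => by
      have h := Bruhat.conj_torus_word_eq hnr l t
      rw [show Bruhat.tWord l t = t from Bruhat.torus_ext (by
        rw [Bruhat.chars_tWord, hlin]; exact MonoidHom.ext fun _ => rfl)] at h
      rw [← eq_mul_inv_iff_mul_eq]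
      calc g₀ = Bruhat.nX nr _ l * (τ ≫ D.i) := hl
        _ = Bruhat.nX nr _ l * (t ≫ D.i) * (Bruhat.nX nr _ l)⁻¹ * Bruhat.nX nr _ l *
              ((t ≫ D.i)⁻¹ * (τ ≫ D.i)) := by group; first | rfl | skip
        _ = (t ≫ D.i) * (Bruhat.nX nr _ l * (τ ≫ D.i)) * (t ≫ D.i)⁻¹ := by
          rw [h, ← GrpObj.inv_comp, ← MonObj.mul_comp, SplitCell.torus_comm D.toSplitRed t⁻¹ τ, MonObj.mul_comp,
            GrpObj.inv_comp]
          group
          first | rfl | skip
        _ = (t ≫ D.i) * g₀ * (t ≫ D.i)⁻¹ := by rw [← hl]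
    exact Bruhat.mem_range_of_torus_pt s eneg epos t₀ g ht₀
  let x : 𝟙_ (Over S) ⟶ _ := Over.homMk
    (IsOpenImmersion.lift (RedSub.cellMap D.toSplitRed eneg epos).left g.left (by rintro _ ⟨s, rfl⟩; exact hmem s))
    (by rw [← Over.w (RedSub.cellMap D.toSplitRed eneg epos), IsOpenImmersion.lift_fac_assoc]; exact Over.w _)
  have hx : x ≫ RedSub.cellMap D.toSplitRed eneg epos = g := Over.OverMorphism.ext (IsOpenImmersion.lift_fac _ _ _)
  have hgτ := SplitCell.factors_torus D.toSplitRed σ hneg hpos _ x fun X' y t => by rw [hx]; exact hg X' y t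
  rw [hx] at hgτ
  set τ := x ≫ snd _ _ ≫ fst _ _
  -- the roots are trivial on the torus point
  let χ := (MultSubLib.chars (τ ≫ D.split.hom.hom.hom)).toHomUnits
  have hsimple : ∀ a ∈ D.base.support, χ (Multiplicative.ofAdd (D.P.root a)) = 1 := fun a ha => by
    obtain ⟨w, hw, hwf⟩ := (D.rootHom a).2.2 _ τ (GaPts.ptOf 1)
    have h := hu a ha (𝟙_ (Over S)) (GaPts.ptOf 1)
    rw [Subsingleton.elim (toUnit (𝟙_ (Over S))) (𝟙 _), Category.id_comp, hgτ, ← hw, cancel_mono] at h
    rw [h, GaPts.gaFn_ptOf, _root_.mul_one, ← Category.assoc, SplitCell.gmFn_chi] at hwf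
    exact Units.ext hwf.symm
  have hroots : ∀ k, χ (Multiplicative.ofAdd (D.P.root k)) = 1 := fun k => by
    have hk : D.P.root k ∈ Submodule.span ℤ (D.P.root '' (D.base.support : Set D.idx)) := by
      rw [D.base.span_int_root_support]
      exact Submodule.subset_span ⟨k, rfl⟩
    refine Submodule.span_induction (p := fun m _ => χ (Multiplicative.ofAdd m) = 1) ?_ ?_ ?_ ?_ hk
    · rintro _ ⟨a, ha, rfl⟩; exact hsimple a ha
    · exact map_one χ
    · intro p q _ _ hp hq; rw [ofAdd_add, map_mul, hp, hq, _root_.one_mul]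
    · intro c p _ hp; rw [ofAdd_zsmul, map_zpow, hp, one_zpow]
  -- so it commutes with the root groups and the torus
  let C : ∀ Y : Over S, Subgroup (Y ⟶ G) := fun Y => Subgroup.centralizer {toUnit Y ≫ g}
  have hC : ∀ {Y : Over S} {h : Y ⟶ G}, h ∈ C Y ↔ (toUnit Y ≫ g) * h = h * (toUnit Y ≫ g) := fun {Y} {h} => by
    simp only [C, Subgroup.mem_centralizer_iff, Set.mem_singleton_iff, forall_eq]
  have hgY : ∀ Y : Over S, toUnit Y ≫ g = (toUnit Y ≫ τ) ≫ D.i := fun Y =>
    (congrArg (toUnit Y ≫ ·) hgτ).trans (Category.assoc _ _ _).symm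
  have hu' : ∀ (Y : Over S) (k : D.idx) (z : Y ⟶ Red.Ga S), z ≫ D.u k ∈ C Y := fun Y k z => by
    obtain ⟨w, hw, hwf⟩ := (D.rootHom k).2.2 _ (toUnit Y ≫ τ) z
    rw [show w = z from GaPts.gaFn_injective (by
      show Red.gaFn w = Red.gaFn z
      rw [hwf, Category.assoc, GmPts.gmFn_comp, ← Category.assoc τ, SplitCell.gmFn_chi,
        show MultSubLib.chars (τ ≫ D.split.hom.hom.hom) (Multiplicative.ofAdd (D.P.root k)) = 1 from
          congrArg Units.val (hroots k), map_one, _root_.one_mul])] at hw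
    rw [hC, hgY]
    exact eq_mul_inv_iff_mul_eq.1 hw |>.symm
  have hT' : ∀ (Y : Over S) (t : Y ⟶ D.T), t ≫ D.i ∈ C Y := fun Y t => by
    rw [hC, hgY, ← MonObj.mul_comp, SplitCell.torus_comm D.toSplitRed, MonObj.mul_comp]
  -- the translates of the cell cover
  refine Bruhat.eq_of_opens _ _ fun z => ?_
  obtain ⟨w, hw, hzw⟩ := Groth.Agent.S5520.result D eneg epos hneg hpos (fun _ => GaPts.ptOf 1)
    (fun a _ => by rw [GaPts.gaFn_ptOf]; exact isUnit_one) (y.left z)
  haveI := Bruhat.isOpenImmersion_translate w (RedSub.cellMap D.toSplitRed eneg epos)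
  let F := (toUnit _ ≫ w) * RedSub.cellMap D.toSplitRed eneg epos
  let U : X.left.Opens := y.left ⁻¹ᵁ F.left.opensRange
  refine ⟨U, hzw, ?_⟩
  let XU : Over S := Over.mk (U.ι ≫ X.hom)
  let e : XU ⟶ X := Over.homMk U.ι
  have hsub : Set.range (e ≫ y).left ⊆ Set.range F.left := by
    rintro _ ⟨p, rfl⟩
    exact p.2
  let r : XU ⟶ _ := Over.homMk (IsOpenImmersion.lift F.left (e ≫ y).left hsub)
    (by rw [← Over.w F, IsOpenImmersion.lift_fac_assoc]; exact Over.w _)
  have hr : r ≫ F = e ≫ y := Over.OverMorphism.ext (IsOpenImmersion.lift_fac _ _ _)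
  have hy : e ≫ y ∈ C XU := by
    rw [← hr, MonObj.comp_mul, ← Category.assoc, Subsingleton.elim (r ≫ toUnit _) (toUnit XU)]
    refine Subgroup.mul_mem _ ?_ ?_
    · suffices h : w ∈ {v : 𝟙_ (Over S) ⟶ G | toUnit XU ≫ v ∈ C XU} from h
      refine Submonoid.closure_induction (motive := fun v _ => toUnit XU ≫ v ∈ C XU) ?_ ?_ ?_ hw
      · rintro _ ⟨a, -, rfl⟩
        rw [← Category.assoc]
        exact hu' XU a _
      · show toUnit XU ≫ 1 ∈ C XU
        rw [MonObj.comp_one]
        exact Subgroup.one_mem _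
      · intro p q _ _ hp hq
        show toUnit XU ≫ (p * q) ∈ C XU
        rw [MonObj.comp_mul]
        exact Subgroup.mul_mem _ hp hq
    · obtain ⟨p, hp, t, c, hc, he⟩ := Bruhat.cell_mem_omega (σ := σ) hneg hpos r
      rw [he]
      exact Subgroup.mul_mem _ (Bruhat.ux_le (fun k _ => hu' XU k) hp)
        (Subgroup.mul_mem _ (hT' XU t) (Bruhat.ux_le (fun k _ => hu' XU k) hc))
  suffices h : e ≫ ((toUnit X ≫ g) * y * (toUnit X ≫ g)⁻¹) = e ≫ y from congrArg CommaMorphism.left h
  rw [MonObj.comp_mul, MonObj.comp_mul, GrpObj.comp_inv, ← Category.assoc, Subsingleton.elim (e ≫ toUnit X) (toUnit XU),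
    mul_inv_eq_iff_eq_mul]
  exact hC.1 hy

end Groth.Agent.S2990
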