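import Groth.Statements.S3004
import Groth.Agent.BruhatLib.PinIsoData

set_option autoImplicit false
set_option backward.isDefEq.respectTransparency false
set_option maxHeartbeats 1000000
set_option synthInstance.maxHeartbeats 400000
universe u
open CategoryTheory MonoidalCategory CartesianMonoidalCategory MonObj GrpObj AlgebraicGeometry
open Red



namespace Groth.Agent.S3004

/-- Let S be a non-empty scheme and G, G' two pinned reductive S-groups (this prelude's `Red.Pinning`: a
split maximal torus T ≅ D_S(M), the root datum, root homomorphisms u_a : 𝔾_a → G for all roots, and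
a system of simple roots). Let h be an isomorphism from the root datum of G' to that of G (Mathlib
`RootPairing.Equiv`, lattice map M' → M) carrying simple roots to simple roots. Then there is a
unique isomorphism of S-group schemes f : G ≅ G' which induces D_S(h) on the tori (through the
splittings) and satisfies f ∘ u_{h(a')} = u'_{a'} for every simple root a' of G'. -/
theorem result (S : Scheme.{u}) [Nonempty S] (G G' : Over S) [GrpObj G] [GrpObj G'] (D : Red.Pinning G) (D' : Red.Pinning G') (h : RootPairing.Equiv D'.P D.P) (hΔ : ∀ a' : D'.idx, a' ∈ D'.base.support ↔ h.indexEquiv a' ∈ D.base.support) : ∃! f : G ≅ G', IsMonHom f.hom ∧ D.i ≫ f.hom = D.split.hom.hom.hom ≫ Red.DSmap S h.weightMap.toAddMonoidHom ≫ D'.split.inv.hom.hom ≫ D'.i ∧ ∀ a' : D'.idx, a' ∈ D'.base.support → D.u (h.indexEquiv a') ≫ f.hom = D'.u a' := by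
  let hB : Bruhat.BIso D.toSplitRed D'.toSplitRed D.base D'.base :=
    { hM := RootPairing.Equiv.weightEquiv D'.P D.P h
      d := h.toHom.indexEquiv.symm
      hroot := fun a => by
        show h.toHom.weightMap (D'.P.root (h.toHom.indexEquiv.symm a)) = D.P.root a
        rw [RootPairing.Hom.root_weightMap_apply, Equiv.apply_symm_apply]
      hcoroot := fun a => LinearMap.ext fun x => by
        have e := Bruhat.coroot_eval h (h.toHom.indexEquiv.symm a) x
        rw [Equiv.apply_symm_apply, D.pairing_eq] at e
        exact e.symm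
      hΔ := fun a => by
        rw [hΔ]
        exact iff_of_eq (congrArg (· ∈ D.base.support) (Equiv.apply_symm_apply _ _).symm) }
  obtain ⟨f, ⟨hf, hT, hU⟩, huniq⟩ := Bruhat.existsUnique_iso D D' hB
  refine ⟨f, ⟨hf, hT, fun a' ha' => ?_⟩, fun g ⟨hg, hgT, hgU⟩ => huniq g ⟨hg, hgT, fun a ha => ?_⟩⟩
  · have := hU _ ((hΔ a').1 ha')
    rwa [show hB.d (h.indexEquiv a') = a' from Equiv.symm_apply_apply _ _] at this
  · have := hgU (hB.d a) ((hB.hΔ a).1 ha)
    rwa [show h.indexEquiv (hB.d a) = a from Equiv.apply_symm_apply _ _] at this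

end Groth.Agent.S3004
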