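import Groth.Statements.S3005
import Groth.Agent.BruhatLib.PinIsoData

set_option autoImplicit false
set_option backward.isDefEq.respectTransparency false
set_option maxHeartbeats 1000000
set_option synthInstance.maxHeartbeats 400000
universe u
open CategoryTheory MonoidalCategory CartesianMonoidalCategory MonObj GrpObj AlgebraicGeometry
open Red



namespace Groth.Agent.S3005

/-- Let S be a scheme and G, G' two reductive S-groups each admitting a splitting (this prelude's
`Red.SplitRed`) whose root datum is isomorphic to a given root datum Q. Then G and G' are isomorphic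
as S-group schemes. -/
theorem result (S : Scheme.{u}) {ι' M' N' : Type} [AddCommGroup M'] [Module ℤ M'] [AddCommGroup N'] [Module ℤ N'] (Q : RootPairing ι' ℤ M' N') (G G' : Over S) [GrpObj G] [GrpObj G'] (hG : Red.IsSplitOfType Q G) (hG' : Red.IsSplitOfType Q G') : Nonempty (Grp.mk G ≅ Grp.mk G') := by
  by_cases hS : Nonempty S
  swap
  · let f : G ≅ G' := ⟨1, 1, Bruhat.over_hom_eq hS _ _, Bruhat.over_hom_eq hS _ _⟩
    haveI : IsMonHom f.hom := ⟨Bruhat.over_hom_eq hS _ _, Bruhat.over_hom_eq hS _ _⟩
    exact ⟨Grp.mkIso' f⟩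
  haveI := hS
  obtain ⟨D, ⟨e⟩⟩ := hG
  obtain ⟨D', ⟨e'⟩⟩ := hG'
  refine Bruhat.nonempty_grp_iso D D' ((RootPairing.Equiv.weightEquiv D'.P Q e').trans (RootPairing.Equiv.weightEquiv D.P Q e).symm)
    (e.toHom.indexEquiv.trans e'.toHom.indexEquiv.symm) (fun a => ?_) fun a => LinearMap.ext fun x => ?_
  · rw [LinearEquiv.trans_apply, LinearEquiv.symm_apply_eq, RootPairing.Equiv.weightEquiv_apply,
      RootPairing.Equiv.weightEquiv_apply, RootPairing.Hom.root_weightMap_apply, RootPairing.Hom.root_weightMap_apply,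
      Equiv.trans_apply, Equiv.apply_symm_apply]
  · show Bruhat.coF D a ((RootPairing.Equiv.weightEquiv D.P Q e).symm (RootPairing.Equiv.weightEquiv D'.P Q e' x)) =
      Bruhat.coF D' (e'.toHom.indexEquiv.symm (e.toHom.indexEquiv a)) x
    rw [Bruhat.coroot_eval e, Bruhat.coroot_eval e', Equiv.apply_symm_apply,
      RootPairing.Equiv.weightMap_weightEquiv_symm, RootPairing.Equiv.weightEquiv_apply]

end Groth.Agent.S3005
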