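import Groth.Statements.S3014
import Groth.Agent.GrpIsoDescLib.Main

set_option autoImplicit false
set_option backward.isDefEq.respectTransparency false
universe u
open CategoryTheory MonoidalCategory CartesianMonoidalCategory MonObj GrpObj AlgebraicGeometry
open Red

namespace Groth.Agent.S3014

/-- (i)⇒(ii): Let G and G' be reductive S-groups and f : S' → S a surjective morphism such that the base
changes of G and G' to S' are isomorphic as group schemes. Then for every s ∈ S the geometric fibres
G_{s̄} and G'_{s̄} are isomorphic. -/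
theorem result (S : Scheme.{u}) (G G' : Over S) [GrpObj G] [GrpObj G'] (hG : Red.IsReductive G) (hG' : Red.IsReductive G') (S' : Scheme.{u}) (f : S' ⟶ S) [Surjective f] (hiso : Nonempty (Grp.mk (Red.bc f G) ≅ Grp.mk (Red.bc f G'))) (s : S) : Nonempty (Grp.mk (Red.geomFibre s G) ≅ Grp.mk (Red.geomFibre s G')) := by
  obtain ⟨E⟩ := hiso
  obtain ⟨s', rfl⟩ := f.surjective s
  letI : Algebra (S.residueField (f s')) (AlgebraicClosure (S'.residueField s')) :=
    ((algebraMap (S'.residueField s') (AlgebraicClosure (S'.residueField s'))).comp (f.residueFieldMap s').hom).toAlgebra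
  let j : AlgebraicClosure (S.residueField (f s')) →ₐ[S.residueField (f s')] AlgebraicClosure (S'.residueField s') :=
    IsAlgClosed.lift
  letI : Algebra (AlgebraicClosure (S.residueField (f s'))) (AlgebraicClosure (S'.residueField s')) :=
    j.toRingHom.toAlgebra
  have hj : Spec.map (CommRingCat.ofHom j.toRingHom) ≫ Red.geomPt (f s') = Red.geomPt s' ≫ f := by
    rw [Red.geomPt, Red.geomPt, Category.assoc, ← Scheme.Hom.SpecMap_residueFieldMap_fromSpecResidueField,
      ← Category.assoc, ← Category.assoc, ← Spec.map_comp, ← Spec.map_comp, ← CommRingCat.ofHom_comp,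
      show j.toRingHom.comp (algebraMap (S.residueField (f s')) (AlgebraicClosure (S.residueField (f s')))) =
        (algebraMap (S'.residueField s') (AlgebraicClosure (S'.residueField s'))).comp (f.residueFieldMap s').hom
        from RingHom.ext j.commutes]
    rfl
  let c := Spec.map (CommRingCat.ofHom j.toRingHom)
  haveI := hG.2.1
  haveI := hG'.2.1
  haveI : IsAffine (Red.geomFibre (f s') G).left := (hG.2.2 (f s')).1
  haveI : IsAffine (Red.geomFibre (f s') G').left := (hG'.2.2 (f s')).1
  haveI : LocallyOfFiniteType (Red.geomFibre (f s') G).hom :=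
    MorphismProperty.pullback_snd _ _ (inferInstance : LocallyOfFiniteType G.hom)
  haveI : LocallyOfFiniteType (Red.geomFibre (f s') G').hom :=
    MorphismProperty.pullback_snd _ _ (inferInstance : LocallyOfFiniteType G'.hom)
  refine GrpIsoDesc.nonempty_iso_of_bc (L := AlgebraicClosure (S'.residueField s')) _ _ ?_
  exact ⟨Grp.mkIso' (ActBC.bcCompIso c (Red.geomPt (f s')) G hj) ≪≫
    (Grp.mkIso' (ActBC.bcCompIso (Red.geomPt s') f G rfl)).symm ≪≫
    (Over.pullback (Red.geomPt s')).mapGrp.mapIso E ≪≫
    Grp.mkIso' (ActBC.bcCompIso (Red.geomPt s') f G' rfl) ≪≫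
    (Grp.mkIso' (ActBC.bcCompIso c (Red.geomPt (f s')) G' hj)).symm⟩

end Groth.Agent.S3014
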