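import Groth.Statements.S3015
import Groth.Agent.GrpFieldLib.Extra
open Groth.Agent.GrpField Groth.Agent.HomogDense
-- import your own Groth.Agent.* helpers here

set_option autoImplicit false
universe u
open CategoryTheory MonoidalCategory CartesianMonoidalCategory MonObj GrpObj AlgebraicGeometry TensorProduct
open SGA3

namespace Groth.Agent.S3015

/-- Let A be a local artinian ring, G a group scheme over A, and U, V dense open subsets of G. Then U ·
V, the image of U ×_A V under the multiplication, is the whole underlying space of G: every point of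
G is the product of a point of G ×_A G whose two projections lie in U and V. -/
theorem result (A : Type u) [CommRing A] [IsArtinianRing A] [IsLocalRing A]
    (G : Over (Spec (CommRingCat.of A))) [GrpObj G] (U V : G.left.Opens)
    (hU : Dense (U : Set G.left)) (hV : Dense (V : Set G.left)) (g : G.left) :
    ∃ z : ↥(G ⊗ G).left, (fst G G).left.base z ∈ U ∧ (snd G G).left.base z ∈ V ∧ μ[G].left.base z = g := by
  refine exists_mul_mem_of_dense_base (fun K _ t => ?_) U.2 hU V.2 hV g
  let i : Spec (CommRingCat.of (IsLocalRing.ResidueField A)) ⟶ Spec (CommRingCat.of A) :=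
    Spec.map (CommRingCat.ofHom (IsLocalRing.residue A))
  haveI : IsClosedImmersion i := IsClosedImmersion.spec_of_surjective _ IsLocalRing.residue_surjective
  haveI : Subsingleton ↥(Spec (CommRingCat.of A)) := inferInstanceAs (Subsingleton (PrimeSpectrum A))
  haveI : Nonempty ↥(Spec (CommRingCat.of (IsLocalRing.ResidueField A))) :=
    inferInstanceAs (Nonempty (PrimeSpectrum (IsLocalRing.ResidueField A)))
  haveI : Surjective i := ⟨Function.surjective_to_subsingleton _⟩
  haveI := universallyOpen_of_surjective_closedImmersion i
  obtain ⟨φ, rfl⟩ := Spec.map_surjective t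
  obtain ⟨ψ, hψ⟩ : ∃ ψ : IsLocalRing.ResidueField A →+* K, ψ.comp (IsLocalRing.residue A) = φ.hom := by
    refine ⟨Ideal.Quotient.lift _ φ.hom fun x hx => ?_, Ideal.Quotient.lift_comp_mk _ _ _⟩
    exact (IsArtinianRing.isNilpotent_jacobson_bot (R := A)).recOn fun n hn => by
      have h1 : x ^ n = 0 := by
        have := Ideal.pow_mem_pow (show x ∈ Ideal.jacobson (⊥ : Ideal A) by
          rwa [IsLocalRing.jacobson_eq_maximalIdeal _ bot_ne_top]) n
        rwa [hn] at this
      exact eq_zero_of_pow_eq_zero (n := n) (by rw [← map_pow, h1, map_zero])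
  haveI : UniversallyOpen (Spec.map φ) := by
    rw [show φ = CommRingCat.ofHom (IsLocalRing.residue A) ≫ CommRingCat.ofHom ψ from CommRingCat.hom_ext hψ.symm,
      Spec.map_comp]
    haveI := universallyOpen_field (k := IsLocalRing.ResidueField A) (Spec.map (CommRingCat.ofHom ψ))
    exact inferInstanceAs (UniversallyOpen (_ ≫ i))
  exact (CategoryTheory.Limits.pullback.fst G.hom (Spec.map φ)).isOpenMap
end Groth.Agent.S3015
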