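import Groth.Statements.S3021
import Mathlib
import Groth.Agent.GLinFinLib.Trig
-- import your own Groth.Agent.* helpers here

set_option autoImplicit false
universe u
open CategoryTheory MonoidalCategory CartesianMonoidalCategory MonObj GrpObj AlgebraicGeometry TensorProduct
open SGA3

open scoped TensorProduct
namespace Groth.Agent.S3021

/-- Let A be a commutative ring, C an A-coalgebra which is projective as an A-module, V a C-comodule and
M an A-submodule of V. Then there is a smallest subcomodule of V containing M, and it is finitely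
generated over A when M is. -/
theorem result (A : Type u) [CommRing A] (C : Type u) [AddCommGroup C] [Module A C]
    [Coalgebra A C] [Module.Projective A C] (V : Type u) [AddCommGroup V] [Module A V] [HopfRep.Comod A C V]
    (M : Submodule A V) :
    ∃ W : Submodule A V, HopfRep.IsSubcomod (k := A) (A := C) W ∧ M ≤ W ∧
      (∀ W' : Submodule A V, HopfRep.IsSubcomod (k := A) (A := C) W' → M ≤ W' → W ≤ W') ∧
      (M.FG → W.FG) := by
  classical
  obtain ⟨s, hs⟩ := Module.projective_def'.1 (inferInstance : Module.Projective A C)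
  let π : C → (C →ₗ[A] A) := fun c => Finsupp.lapply c ∘ₗ s
  have hexp : ∀ z : V ⊗[A] C, ∃ t : Finset C, z = ∑ c ∈ t, ComodLib.slice (π c) z ⊗ₜ[A] c := fun z => by
    suffices h : ∃ t : Finset C, ∀ t', t ⊆ t' → z = ∑ c ∈ t', ComodLib.slice (π c) z ⊗ₜ[A] c by
      obtain ⟨t, ht⟩ := h; exact ⟨t, ht t subset_rfl⟩
    induction z with
    | zero => exact ⟨∅, fun t' _ => by simp⟩
    | add x y hx hy =>
      obtain ⟨t₁, h₁⟩ := hx; obtain ⟨t₂, h₂⟩ := hy
      refine ⟨t₁ ∪ t₂, fun t' ht => ?_⟩
      conv_lhs => rw [h₁ t' (Finset.union_subset_left ht), h₂ t' (Finset.union_subset_right ht)]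
      rw [← Finset.sum_add_distrib]
      exact Finset.sum_congr rfl fun c _ => by rw [map_add, TensorProduct.add_tmul]
    | tmul v a =>
      refine ⟨(s a).support, fun t' ht => ?_⟩
      have ha : a = ∑ c ∈ t', s a c • c := by
        rw [← Finset.sum_subset ht (fun c _ hc => by rw [Finsupp.notMem_support_iff.1 hc, zero_smul])]
        exact (LinearMap.congr_fun hs a).symm.trans (Finsupp.linearCombination_apply A (s a))
      conv_lhs => rw [ha, TensorProduct.tmul_sum]
      exact Finset.sum_congr rfl fun c _ => by
        rw [ComodLib.slice_tmul, TensorProduct.smul_tmul]; rfl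
  set ρ := HopfRep.Comod.coact (k := A) (A := C) (V := V)
  let W : Submodule A V := Submodule.span A {x | ∃ (f : C →ₗ[A] A) (m : V), m ∈ M ∧ x = ComodLib.slice f (ρ m)}
  have hcounit : ∀ v, ComodLib.slice (CoalgebraStruct.counit (R := A) (A := C)) (ρ v) = v := fun v => by
    have h := LinearMap.congr_fun (HopfRep.Comod.counit_comp (k := A) (A := C) (V := V)) v
    rw [LinearMap.comp_apply] at h
    rw [ComodLib.slice, LinearMap.comp_apply, show ρ v = HopfRep.Comod.coact (k := A) (A := C) v from rfl, h]
    simp
  have hrange : ∀ (N : Submodule A V) (z : V ⊗[A] C), (∀ f, ComodLib.slice f z ∈ N) →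
      z ∈ LinearMap.range (N.subtype.rTensor C) := fun N z hz => by
    obtain ⟨t, ht⟩ := hexp z
    rw [ht]
    exact Submodule.sum_mem _ fun c _ => ⟨⟨_, hz (π c)⟩ ⊗ₜ c, rfl⟩
  have hmul : ∀ (f g : C →ₗ[A] A) (v : V), ComodLib.slice f (ρ (ComodLib.slice g (ρ v))) =
      ComodLib.slice (LinearMap.mul' A A ∘ₗ TensorProduct.map f g ∘ₗ CoalgebraStruct.comul) (ρ v) := fun f g v => by
    have h := LinearMap.congr_fun (HopfRep.Comod.coassoc (k := A) (A := C) (V := V)) v
    simp only [LinearMap.comp_apply, LinearEquiv.coe_coe] at h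
    have e : ∀ y : (V ⊗[A] C) ⊗[A] C, ComodLib.slice f (ComodLib.slice g y) =
        ComodLib.slice (LinearMap.mul' A A ∘ₗ TensorProduct.map f g) (TensorProduct.assoc A V C C y) := fun y => by
      induction y with
      | zero => simp
      | add x y hx hy => simp only [map_add, hx, hy]
      | tmul z a =>
        induction z with
        | zero => simp [TensorProduct.zero_tmul]
        | add x y hx hy => simp only [TensorProduct.add_tmul, map_add, hx, hy]
        | tmul x b => simp [smul_smul, mul_comm]
    rw [← ComodLib.slice_rTensor, e, show TensorProduct.assoc A V C C (ρ.rTensor C (ρ v)) =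
      (CoalgebraStruct.comul (R := A) (A := C)).lTensor V (ρ v) from h, ComodLib.slice_lTensor]
    rfl
  refine ⟨W, fun v hv => hrange W _ fun f => ?_, fun m hm => ?_, fun W' hW' hM => ?_, fun hfg => ?_⟩
  · induction hv using Submodule.span_induction with
    | mem x hx =>
      obtain ⟨g, m, hm, rfl⟩ := hx
      rw [hmul]
      exact Submodule.subset_span ⟨_, m, hm, rfl⟩
    | zero => simp
    | add x y _ _ hx hy => rw [map_add, map_add]; exact add_mem hx hy
    | smul c x _ hx => rw [map_smul, map_smul]; exact Submodule.smul_mem _ c hx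
  · exact Submodule.subset_span ⟨CoalgebraStruct.counit (R := A), m, hm, (hcounit m).symm⟩
  · refine Submodule.span_le.2 ?_
    rintro _ ⟨f, m, hm, rfl⟩
    exact ComodLib.slice_mem_of_mem_range W' f (hW' m (hM hm))
  · obtain ⟨gens, hgens⟩ := hfg
    choose t ht using fun m => hexp (ρ m)
    refine ⟨gens.biUnion fun m => (t m).image fun c => ComodLib.slice (π c) (ρ m), le_antisymm ?_ (Submodule.span_le.2 ?_)⟩
    · refine Submodule.span_le.2 fun x hx => ?_
      simp only [Finset.mem_coe, Finset.mem_biUnion, Finset.mem_image] at hx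
      obtain ⟨m, hm, c, -, rfl⟩ := hx
      exact Submodule.subset_span ⟨π c, m, hgens ▸ Submodule.subset_span hm, rfl⟩
    · rintro _ ⟨f, m, hm, rfl⟩
      rw [← hgens] at hm
      refine Submodule.span_induction (p := fun m _ => ComodLib.slice f (ρ m) ∈ Submodule.span A
        ((gens.biUnion fun m => (t m).image fun c => ComodLib.slice (π c) (ρ m) : Finset V) : Set V))
        (fun m hm => ?_) (by simp) (fun x y _ _ hx hy => by rw [map_add, map_add]; exact add_mem hx hy)
        (fun c x _ hx => by rw [map_smul, map_smul]; exact Submodule.smul_mem _ c hx) hm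
      rw [ht m, map_sum]
      refine Submodule.sum_mem _ fun c hc => ?_
      rw [ComodLib.slice_tmul]
      exact Submodule.smul_mem _ _ (Submodule.subset_span (Finset.mem_coe.2 (Finset.mem_biUnion.2
        ⟨m, hm, Finset.mem_image.2 ⟨c, hc, rfl⟩⟩)))

end Groth.Agent.S3021
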