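import Groth.Statements.S3033
import Groth.Agent.QuasiSecLib.HomogDim
import Groth.Agent.NeutralSchLib.ActionBC
import Groth.Agent.NeutralSchLib.Artin
open Groth.Agent
-- import your own Groth.Agent.* helpers here

set_option autoImplicit false
universe u
open CategoryTheory MonoidalCategory CartesianMonoidalCategory MonObj GrpObj AlgebraicGeometry TensorProduct
open SGA3

namespace Groth.Agent.S3033

/-- Let A be a local artinian ring and G a group scheme locally of finite type over A acting on a
nonempty A-scheme X locally of finite type, such that the morphism G ×_A X → X ×_A X, (g, x) ↦ (g·x,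
x), is surjective. Then all connected components of X have the same dimension. The published
statement also asserts that the connected components are irreducible; that is not asserted here (it
is stated separately). -/
theorem result (A : Type u) [CommRing A] [IsArtinianRing A] [IsLocalRing A]
    (G X : Over (Spec (CommRingCat.of A))) [GrpObj G] [LocallyOfFiniteType G.hom] [LocallyOfFiniteType X.hom] [Nonempty X.left]
    (a : AlgGrp.Action G X) (hΦ : Surjective (lift a.act (snd G X)).left) (x y : X.left) :
    topologicalKrullDim ↥(connectedComponent x) = topologicalKrullDim ↥(connectedComponent y) := by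
  haveI := NeutralSch.subsingleton_spec A
  let j : Spec (CommRingCat.of (IsLocalRing.ResidueField A)) ⟶ Spec (CommRingCat.of A) :=
    Spec.map (CommRingCat.ofHom (IsLocalRing.residue A))
  haveI : IsClosedImmersion j := IsClosedImmersion.spec_of_surjective _ IsLocalRing.residue_surjective
  haveI : Nonempty ↥(Spec (CommRingCat.of (IsLocalRing.ResidueField A))) :=
    ⟨(IsLocalRing.closedPoint (IsLocalRing.ResidueField A) : PrimeSpectrum _)⟩
  haveI : Surjective j := ⟨Function.surjective_to_subsingleton _⟩
  haveI : IsClosedImmersion (Limits.pullback.fst X.hom j) := MorphismProperty.pullback_fst _ _ inferInstance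
  haveI : Surjective (Limits.pullback.fst X.hom j) := MorphismProperty.pullback_fst _ _ inferInstance
  let X' := Red.bc j X
  haveI : LocallyOfFiniteType X'.hom := inferInstanceAs (LocallyOfFiniteType (Limits.pullback.snd X.hom j))
  haveI : LocallyOfFiniteType (Red.bc j G).hom := inferInstanceAs (LocallyOfFiniteType (Limits.pullback.snd G.hom j))
  let m : X'.left ⟶ X.left := Limits.pullback.fst X.hom j
  let e : X'.left ≃ₜ X.left :=
    m.isClosedEmbedding.isEmbedding.toHomeomorphOfSurjective m.surjective
  have hcc : ∀ z, topologicalKrullDim ↥(connectedComponent (e.symm z)) = topologicalKrullDim ↥(connectedComponent z) := fun z => by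
    have h1 : e '' connectedComponent (e.symm z) = connectedComponent z := by
      rw [← connectedComponentIn_univ, Homeomorph.image_connectedComponentIn _ (Set.mem_univ _), Set.image_univ,
        e.surjective.range_eq, connectedComponentIn_univ, e.apply_symm_apply]
    rw [← h1]
    exact IsHomeomorph.topologicalKrullDim_eq _ (e.image (connectedComponent (e.symm z))).isHomeomorph
  rw [← hcc x, ← hcc y]
  exact HomogDim.krullDim_connectedComponent_eq (NeutralSch.actBC j a)
    (NeutralSch.surjective_shear_bc j a hΦ) (e.symm x) (e.symm y)
end Groth.Agent.S3033
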