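import Groth.Statements.S3035
import Mathlib
import Groth.Agent.GrpHomLib.FlatImage
import Groth.Agent.GrpFieldLib.Comps
import Groth.Agent.MiscFlat6.FpqcDesc
-- import your own Groth.Agent.* helpers here

set_option autoImplicit false
set_option backward.isDefEq.respectTransparency false
universe u
open CategoryTheory MonoidalCategory CartesianMonoidalCategory MonObj GrpObj AlgebraicGeometry TensorProduct
open SGA3 CategoryTheory.Limits

attribute [-instance] CategoryTheory.Hom.commGroup

namespace Groth.Agent.S3035

theorem proper_kernelPair {S : Scheme.{u}} {G H : Over S} [GrpObj G] [GrpObj H] (u : G ⟶ H) [IsMonHom u]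
    (hN : IsProper (pullback.snd u.left (η[H] : 𝟙_ (Over S) ⟶ H).left)) : IsProper (pullback.snd u.left u.left) := by
  let N : Over S := pullback u (η[H] : 𝟙_ (Over S) ⟶ H)
  let jN : N ⟶ G := pullback.fst _ _
  haveI : IsProper N.hom := by
    have hk : IsPullback jN.left (pullback.snd u (η[H] : 𝟙_ (Over S) ⟶ H)).left u.left
        (η[H] : 𝟙_ (Over S) ⟶ H).left :=
      (IsPullback.of_hasPullback u (η[H] : 𝟙_ (Over S) ⟶ H)).map (Over.forget S)
    have h : IsProper (pullback.snd u (η[H] : 𝟙_ (Over S) ⟶ H)).left := by
      rw [← hk.isoPullback_hom_snd]; infer_instance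
    have e : (pullback.snd u (η[H] : 𝟙_ (Over S) ⟶ H)).left = N.hom :=
      (Category.comp_id _).symm.trans (Over.w (pullback.snd u (η[H] : 𝟙_ (Over S) ⟶ H)))
    rwa [e] at h
  let a : N ⊗ G ⟶ G := (fst N G ≫ jN) * snd N G
  let b : N ⊗ G ⟶ G := snd N G
  have hj : jN ≫ u = toUnit N ≫ η[H] := by
    rw [pullback.condition, toUnit_unique (toUnit N) (pullback.snd u (η[H] : 𝟙_ (Over S) ⟶ H))]
  have hw : a ≫ u = b ≫ u := by
    rw [MonObj.mul_comp, Category.assoc, hj, ← Hom.one_def, MonObj.comp_one, _root_.one_mul]
  have sq : IsPullback a b u u := by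
    refine IsPullback.of_isLimit' ⟨hw⟩ (PullbackCone.IsLimit.mk _ (fun c =>
      lift (pullback.lift (c.fst * c.snd⁻¹) (toUnit _) (by
        rw [MonObj.mul_comp, GrpObj.inv_comp, c.condition, mul_inv_cancel, Hom.one_def])) c.snd)
      (fun c => ?_) (fun c => ?_) (fun c m hm₁ hm₂ => ?_))
    · simp [a, jN, MonObj.comp_mul]
    · simp [b]
    · refine CartesianMonoidalCategory.hom_ext _ _ ?_ (by simpa [b] using hm₂)
      rw [lift_fst]
      refine pullback.hom_ext ?_ (toUnit_unique _ _)
      rw [pullback.lift_fst, ← hm₁, ← hm₂]
      simp [a, b, jN, MonObj.comp_mul]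
  have hS : IsPullback a.left b.left u.left u.left := sq.map (Over.forget S)
  haveI : IsProper b.left := MorphismProperty.pullback_snd (P := @IsProper) N.hom G.hom inferInstance
  rw [← hS.isoPullback_inv_snd]
  infer_instance

/-- Over a field properness is detected by the kernel pair. -/
theorem proper_field {k : Type u} [Field k] {G H : Over (Spec (CommRingCat.of k))} [GrpObj G] [GrpObj H]
    [LocallyOfFiniteType G.hom] [LocallyOfFiniteType H.hom] (u : G ⟶ H) [IsMonHom u] [QuasiCompact u.left]
    (h : IsProper (pullback.snd u.left u.left)) : IsProper u.left := by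
  haveI : Flat G.hom := Groth.Agent.GrpField.flat_field _
  obtain ⟨C, _, p, i, _, _, hpi, hf, hs, _, hi⟩ := GrpHom.exists_fppf_image u (Groth.Agent.GrpField.flat_field _)
  haveI := hi
  haveI : QuasiCompact p.left := by
    haveI : QuasiCompact (p.left ≫ i.left) := by rw [← Over.comp_left, hpi]; infer_instance
    exact QuasiCompact.of_comp p.left i.left
  have e : u.left = p.left ≫ i.left := by rw [← Over.comp_left, hpi]
  have sq : IsPullback (pullback.fst p.left p.left) (pullback.snd p.left p.left) u.left u.left := by
    refine IsPullback.of_isLimit' ⟨by rw [e, pullback.condition_assoc]⟩ (PullbackCone.IsLimit.mk _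
      (fun c => pullback.lift c.fst c.snd ((cancel_mono i.left).1 (by rw [Category.assoc, Category.assoc, ← e, c.condition])))
      (fun c => pullback.lift_fst _ _ _) (fun c => pullback.lift_snd _ _ _) (fun c m h1 h2 => ?_))
    refine pullback.hom_ext ?_ ?_
    · rw [pullback.lift_fst, ← h1]
    · rw [pullback.lift_snd, ← h2]
  haveI : IsProper (pullback.snd p.left p.left) := by
    rw [← sq.isoPullback_hom_snd]
    infer_instance
  haveI := MiscFlat6.desc_isProper.{u}
  have kpFst : IsProper (pullback.fst p.left p.left) := by
    rw [← pullbackSymmetry_hom_comp_snd]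
    infer_instance
  haveI : IsProper p.left := MorphismProperty.of_isPullback_of_descendsAlong (P := @IsProper)
    (Q := @Surjective ⊓ @Flat ⊓ @QuasiCompact) (IsPullback.of_hasPullback p.left p.left) ⟨⟨hs, hf⟩, ‹_›⟩
    kpFst
  rw [e]
  infer_instance

/-- (i) ⟺ (iii): let A be a local artinian ring and u : G → H a quasi-compact homomorphism between group
schemes locally of finite type over A. Then u is proper if and only if the kernel of u (the fibre of
u over the unit section) is proper over A. -/
theorem result (A : Type u) [CommRing A] [IsArtinianRing A] [IsLocalRing A]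
    (G H : Over (Spec (CommRingCat.of A))) [GrpObj G] [GrpObj H] [LocallyOfFiniteType G.hom] [LocallyOfFiniteType H.hom]
    (u : G ⟶ H) [IsMonHom u] [QuasiCompact u.left] :
    IsProper u.left ↔ IsProper (Limits.pullback.snd u.left (η[H] : 𝟙_ (Over (Spec (CommRingCat.of A))) ⟶ H).left) := by
  constructor
  · intro h
    exact MorphismProperty.pullback_snd (P := @IsProper) _ _ h
  · intro h
    haveI hK : IsProper (pullback.snd u.left u.left) := proper_kernelPair u h
    haveI := GrpHom.lft_left' u
    let ur := GrpHom.redHom u
    haveI : IsProper ur.left := by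
      refine proper_field ur ?_
      have sr := GrpHom.isPullback_red u
      have s2 := (IsPullback.of_hasPullback ur.left ur.left).paste_horiz sr
      let m : pullback ur.left ur.left ⟶ pullback u.left u.left :=
        pullback.lift (pullback.fst ur.left ur.left ≫ pullback.fst G.hom (GrpFTOpen.closedPt A))
          (pullback.snd ur.left ur.left ≫ pullback.fst G.hom (GrpFTOpen.closedPt A))
          (by rw [Category.assoc, Category.assoc, sr.w, pullback.condition_assoc])
      have s3 : IsPullback m (pullback.snd ur.left ur.left) (pullback.snd u.left u.left)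
          (pullback.fst G.hom (GrpFTOpen.closedPt A)) := by
        refine IsPullback.of_right ?_ (pullback.lift_snd _ _ _) (IsPullback.of_hasPullback u.left u.left)
        rw [pullback.lift_fst, sr.w]
        exact s2
      exact MorphismProperty.of_isPullback s3 hK
    haveI : UniversallyClosed u.left := FComplLib.universallyClosed_of_thickening (GrpHom.isPullback_red u)
    haveI : IsSeparated u.left := FComplLib.isSeparated_of_thickening (GrpHom.isPullback_red u)
    exact {}


end Groth.Agent.S3035
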