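import Groth.Statements.S3045
import Mathlib.Tactic

set_option autoImplicit false
universe u
open TensorProduct
open SGA3

namespace Groth.Agent.S3045

/-- Let A be a commutative Hopf algebra over a commutative ring k (the coordinate ring of an affine
group G = Spec A) and φ, ψ two k[ε]-valued points of G reducing to the unit point modulo ε (tangent
vectors at the identity). Then for every a ∈ A the ε-component of the product point φ · ψ at a — the
product of points being convolution, formed here as the triple convolution of φ, ψ and the unit
point — is the sum of the ε-components of φ(a) and ψ(a): on tangent vectors at the identity the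
group law of G induces addition. -/
theorem result (k : Type u) [CommRing k] (A : Type u) [CommRing A] [HopfAlgebra k A]
    (φ ψ : LieHopf.LiePts k A) (a : A) :
    TrivSqZeroExt.snd (Dyn.conv3 k A φ.1 ψ.1 ((Algebra.ofId k (DualNumber k)).comp (Bialgebra.counitAlgHom k A)) a) =
      LieHopf.LiePts.tangent k A φ a + LieHopf.LiePts.tangent k A ψ a := by
  let η : A →ₐ[k] DualNumber k := (Algebra.ofId k (DualNumber k)).comp (Bialgebra.counitAlgHom k A)
  let L : A ⊗[k] A →ₐ[k] DualNumber k :=
    (Algebra.TensorProduct.lmul' (S := DualNumber k) k).comp (Algebra.TensorProduct.map φ.1 ψ.1)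
  let g : A →ₐ[k] DualNumber k := L.comp (Bialgebra.comulAlgHom k A)
  have e1 : Dyn.conv3 k A φ.1 ψ.1 η a = g a := by
    show Algebra.TensorProduct.lmul' (S := DualNumber k) k (Algebra.TensorProduct.map L η
      (Algebra.TensorProduct.map (Bialgebra.comulAlgHom k A) (AlgHom.id k A) (CoalgebraStruct.comul (R := k) a))) = _
    have e : ∀ z : A ⊗[k] A, Algebra.TensorProduct.lmul' (S := DualNumber k) k (Algebra.TensorProduct.map L η
        (Algebra.TensorProduct.map (Bialgebra.comulAlgHom k A) (AlgHom.id k A) z)) =
        g (TensorProduct.rid k A ((CoalgebraStruct.counit (R := k) (A := A)).lTensor A z)) := by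
      intro z
      induction z using TensorProduct.induction_on with
      | zero => simp
      | add x y hx hy => simp only [map_add, hx, hy]
      | tmul p q =>
        simp only [LinearMap.lTensor_tmul, TensorProduct.rid_tmul, map_smul]
        rw [Algebra.smul_def]
        simp [g, η, mul_comm]
    rw [e]; simp
  rw [e1]
  have e2 : ∀ z : A ⊗[k] A, TrivSqZeroExt.snd (L z) =
      TrivSqZeroExt.snd (φ.1 (TensorProduct.rid k A ((CoalgebraStruct.counit (R := k) (A := A)).lTensor A z))) +
      TrivSqZeroExt.snd (ψ.1 (TensorProduct.lid k A ((CoalgebraStruct.counit (R := k) (A := A)).rTensor A z))) := by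
    intro z
    induction z using TensorProduct.induction_on with
    | zero => simp
    | add x y hx hy => simp only [map_add, TrivSqZeroExt.snd_add, hx, hy]; abel
    | tmul p q =>
      simp [L, TrivSqZeroExt.snd_mul, φ.2, ψ.2, mul_comm, add_comm]
  show TrivSqZeroExt.snd (L (CoalgebraStruct.comul (R := k) a)) = _
  rw [e2]
  simp [LieHopf.LiePts.tangent]

end Groth.Agent.S3045
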