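import Groth.Statements.S3046
import Groth.Agent.DynLib.Basic
import Mathlib.Tactic
-- import your own Groth.Agent.* helpers here

set_option autoImplicit false
universe u
open TensorProduct
open SGA3

open TensorProduct

namespace Groth.Agent.S3046

/-- Let A be a commutative Hopf algebra over a commutative ring k, D and E two ε-derivations A → k
(tangent vectors at the identity of G = Spec A), R a commutative k-algebra and t, t' ∈ R with t² = 0
= t'². Let x = e + tD and y = e + t'E be the corresponding R-points of G. Then the commutator x y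
x⁻¹ y⁻¹ (product of points; the inverse of a point is its composite with the antipode) is the point
a ↦ ε(a) + [D, E](a) · t t', where [D, E] = D ⋆ E − E ⋆ D is the convolution commutator. -/
theorem result (k : Type u) [CommRing k] (A : Type u) [CommRing A] [HopfAlgebra k A]
    (D E : LieHopf.Lie k A) (R : Type u) [CommRing R] [Algebra k R] (t t' : R) (ht : t * t = 0) (ht' : t' * t' = 0)
    (a : A) :
    Dyn.conv3 k A
        (Dyn.conv3 k A (LieHopf.ptOfLie D R t ht) (LieHopf.ptOfLie E R t' ht')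
          ((LieHopf.ptOfLie D R t ht).comp (HopfAlgebra.antipodeAlgHom k A)))
        ((LieHopf.ptOfLie E R t' ht').comp (HopfAlgebra.antipodeAlgHom k A))
        ((Algebra.ofId k R).comp (Bialgebra.counitAlgHom k A)) a =
      algebraMap k R (Bialgebra.counitAlgHom k A a) + algebraMap k R (LieHopf.bracketLin D E a) * (t * t') := by
  
  letI := DynLib.pointsGroup (k := k) (A := A) (R := R)
  let Λ : (A →ₐ[k] R) → WithConv (A →ₗ[k] R) := fun f => WithConv.toConv f.toLinearMap
  let M : R → (A →ₗ[k] k) → WithConv (A →ₗ[k] R) := fun r F =>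
    WithConv.toConv ((LinearMap.mulLeft k r).comp ((Algebra.linearMap k R).comp F))
  have hM : ∀ (r : R) F a, (M r F).ofConv a = r * algebraMap k R (F a) := fun r F a => rfl
  have hMM : ∀ (r s : R) F G, M r F * M s G = M (r * s) (LieHopf.conv F G) := by
    intro r s F G
    refine WithConv.ext (LinearMap.ext fun b => ?_)
    show (M r F * M s G) b = _
    rw [LinearMap.convMul_apply, hM]
    simp only [LieHopf.conv, LinearMap.comp_apply]
    generalize CoalgebraStruct.comul (R := k) b = z
    induction z using TensorProduct.induction_on with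
    | zero => simp
    | add x y hx hy => simp only [map_add, hx, hy]; ring
    | tmul x y => simp [M, map_mul]; ring
  have hM0 : ∀ F, M 0 F = 0 := fun F => WithConv.ext (LinearMap.ext fun b => by simp [M])
  have hpt : ∀ (X : LieHopf.Lie k A) (s : R) (hs : s * s = 0),
      Λ (LieHopf.ptOfLie X R s hs) = 1 + M s (LieHopf.dlin X) := by
    intro X s hs
    refine WithConv.ext (LinearMap.ext fun b => ?_)
    show algebraMap k R (Bialgebra.counitAlgHom k A b) + algebraMap k R (LieHopf.dlin X b) * s = _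
    rw [WithConv.ofConv_add, LinearMap.add_apply, hM, LinearMap.convOne_apply, mul_comm s]
    rfl
  have hΛmul : ∀ f g : A →ₐ[k] R, Λ (WithConv.toConv f * WithConv.toConv g).ofConv = Λ f * Λ g := fun f g =>
    AlgHom.toLinearMap_convMul _ _
  have hΛone : Λ (1 : WithConv (A →ₐ[k] R)).ofConv = 1 := AlgHom.toLinearMap_convOne
  have hinv : ∀ (X : LieHopf.Lie k A) (s : R) (hs : s * s = 0),
      Λ ((LieHopf.ptOfLie X R s hs).comp (HopfAlgebra.antipodeAlgHom k A)) = 1 - M s (LieHopf.dlin X) := by
    intro X s hs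
    have h1 : (1 - M s (LieHopf.dlin X)) * Λ (LieHopf.ptOfLie X R s hs) = 1 := by
      rw [hpt, sub_mul, _root_.one_mul, mul_add, _root_.mul_one, hMM, hs, hM0]
      abel
    have h2 : Λ (LieHopf.ptOfLie X R s hs) * Λ ((LieHopf.ptOfLie X R s hs).comp (HopfAlgebra.antipodeAlgHom k A)) = 1 := by
      rw [← hΛmul]
      show Λ (WithConv.toConv (LieHopf.ptOfLie X R s hs) * (WithConv.toConv (LieHopf.ptOfLie X R s hs))⁻¹).ofConv = _
      rw [mul_inv_cancel, hΛone]
    exact (left_inv_eq_right_inv h1 h2).symm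
  have hkey : ∀ f g : A →ₐ[k] R, Λ (Dyn.conv3 k A f g ((Algebra.ofId k R).comp (Bialgebra.counitAlgHom k A))) =
      Λ f * Λ g := by
    intro f g
    rw [DynLib.conv3_eq, show WithConv.toConv ((Algebra.ofId k R).comp (Bialgebra.counitAlgHom k A)) =
      (1 : WithConv (A →ₐ[k] R)) from rfl, _root_.mul_one, hΛmul]
  have h3 : ∀ f g h : A →ₐ[k] R, Λ (Dyn.conv3 k A f g h) = Λ f * Λ g * Λ h := by
    intro f g h
    rw [DynLib.conv3_eq, ← hΛmul, ← hΛmul, WithConv.toConv_ofConv]
  let a0 := M t (LieHopf.dlin D)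
  let b0 := M t' (LieHopf.dlin E)
  have haa : a0 * a0 = 0 := by rw [hMM, ht, hM0]
  have hbb : b0 * b0 = 0 := by rw [hMM, ht', hM0]
  have haba : a0 * b0 * a0 = 0 := by
    rw [hMM, hMM, show t * t' * t = 0 by linear_combination t' * ht, hM0]
  have hbab : b0 * a0 * b0 = 0 := by
    rw [hMM, hMM, show t' * t * t' = 0 by linear_combination t * ht', hM0]
  have e1 : (1 + a0) * (1 + b0) * (1 - a0) = 1 + b0 + (a0 * b0 - b0 * a0) := by
    have : (1 + a0) * (1 + b0) * (1 - a0) = 1 + b0 + (a0 * b0 - b0 * a0) - a0 * a0 - a0 * b0 * a0 := by noncomm_ring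
    rw [this, haa, haba, sub_zero, sub_zero]
  have e2 : (1 + b0 + (a0 * b0 - b0 * a0)) * (1 - b0) = 1 + (a0 * b0 - b0 * a0) := by
    have : (1 + b0 + (a0 * b0 - b0 * a0)) * (1 - b0) =
        1 + (a0 * b0 - b0 * a0) - b0 * b0 - a0 * (b0 * b0) + b0 * a0 * b0 := by noncomm_ring
    rw [this, hbb, hbab, mul_zero, sub_zero, sub_zero, add_zero]
  have etot := hkey (Dyn.conv3 k A (LieHopf.ptOfLie D R t ht) (LieHopf.ptOfLie E R t' ht')
      ((LieHopf.ptOfLie D R t ht).comp (HopfAlgebra.antipodeAlgHom k A)))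
    ((LieHopf.ptOfLie E R t' ht').comp (HopfAlgebra.antipodeAlgHom k A))
  have einner : Λ (Dyn.conv3 k A (LieHopf.ptOfLie D R t ht) (LieHopf.ptOfLie E R t' ht')
      ((LieHopf.ptOfLie D R t ht).comp (HopfAlgebra.antipodeAlgHom k A))) = 1 + b0 + (a0 * b0 - b0 * a0) := by
    rw [h3, hpt, hpt, hinv, e1]
  rw [einner, hinv, e2] at etot
  refine (congrArg (fun z : WithConv (A →ₗ[k] R) => z.ofConv a) etot).trans ?_
  show ((1 : WithConv (A →ₗ[k] R)) + (a0 * b0 - b0 * a0)).ofConv a = _
  rw [hMM, hMM, WithConv.ofConv_add, LinearMap.add_apply, WithConv.ofConv_sub, LinearMap.sub_apply,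
    LinearMap.convOne_apply, hM, hM]
  rw [show LieHopf.bracketLin D E a = LieHopf.conv (LieHopf.dlin D) (LieHopf.dlin E) a -
    LieHopf.conv (LieHopf.dlin E) (LieHopf.dlin D) a from rfl, map_sub]
  rw [show Bialgebra.counitAlgHom k A a = CoalgebraStruct.counit (R := k) a from rfl]
  ring


end Groth.Agent.S3046
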