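import Groth.Statements.S3055
import Groth.Agent.EtShLib.Const
import Groth.Agent.EtShLib.Stalk
import Groth.Agent.FFDescLib.EtaleGraph
import Groth.Prelude.Def_EtCore

set_option backward.isDefEq.respectTransparency false
set_option backward.isDefEq.respectTransparency.types false
set_option maxHeartbeats 1000000
set_option synthInstance.maxHeartbeats 400000

set_option autoImplicit false
open CategoryTheory CategoryTheory.Limits AlgebraicGeometry Opposite
universe u
open EtDesc

namespace Groth.Agent.S3055

open Groth.Agent.EtShLib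

theorem isIso_germ_top (k : Type u) [Field k] [IsSepClosed k]
    (F : Sheaf (Spec (CommRingCat.of k)).smallEtaleTopology (Type (u + 1))) {Ω : Type u} [Field Ω] [IsSepClosed Ω]
    (ξ : Spec (CommRingCat.of Ω) ⟶ Spec (CommRingCat.of k))
    (u₀ : Fib ξ (EtCoh.top (Spec (CommRingCat.of k)))) :
    IsIso (germ ξ F (EtCoh.top (Spec (CommRingCat.of k))) u₀) := by
  let X := Spec (CommRingCat.of k)
  have hσ : ∀ (V : X.Etale) (v : Fib ξ V), ∃ σ : EtCoh.top X ⟶ V, ∀ a : Fib ξ (EtCoh.top X), a.map σ = v := by
    intro V v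
    haveI : AlgebraicGeometry.Etale V.hom := V.prop
    obtain ⟨l, hl, hl'⟩ := Scheme.exists_fac_of_etale_of_isSepClosed V.hom (𝟙 X) v.pt (Subsingleton.elim (α := PrimeSpectrum k) _ _)
    haveI : IsOpenImmersion l := FFDescLib.isOpenImmersion_of_section V.hom l hl
    refine ⟨MorphismProperty.Over.homMk l hl, fun a => ?_⟩
    have hsub : Set.range v.hom.base ⊆ Set.range l.base := by
      rintro _ ⟨z, rfl⟩
      exact ⟨default, by rw [Subsingleton.elim z default]; exact hl'⟩
    have hv := IsOpenImmersion.lift_fac l v.hom hsub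
    have hb : IsOpenImmersion.lift l v.hom hsub = ξ := by
      have h2 := v.w
      rw [← hv, Category.assoc, hl, Category.comp_id] at h2
      exact h2
    have ha : a.hom = ξ := (Category.comp_id _).symm.trans a.w
    refine Fib.ext ((Fib.map_hom _ a).trans ?_)
    exact (congrArg (· ≫ l) (ha.trans hb.symm)).trans hv
  rw [isIso_iff_bijective]
  constructor
  · intro x y e
    obtain ⟨V, g, v, hv, he⟩ := (germ_eq_iff (F := F) ξ (EtCoh.top X) u₀ x y).1 e
    obtain ⟨σ, -⟩ := hσ V v
    have h := congrArg (F.obj.map σ.op) he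
    rw [← ConcreteCategory.comp_apply, ← ConcreteCategory.comp_apply, ← F.obj.map_comp, ← op_comp,
      show σ ≫ g = 𝟙 _ from (EtCore.topIsTerminal X).hom_ext _ _, op_id, F.obj.map_id] at h
    exact h
  · intro p
    obtain ⟨V, v, x, rfl⟩ := exists_germ (F := F) ξ p
    obtain ⟨σ, hσ'⟩ := hσ V v
    exact ⟨F.obj.map σ.op x, (germ_res_apply ξ F σ u₀ x).trans (by rw [hσ'])⟩

theorem isIso_unit (k : Type u) [Field k] [IsSepClosed k] (M : Type (u + 1)) :
    IsIso ((toSheafify (Spec (CommRingCat.of k)).smallEtaleTopology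
      ((Functor.const ((Spec (CommRingCat.of k)).Etale)ᵒᵖ).obj M)).app (op (EtCoh.top _))) := by
  let X := Spec (CommRingCat.of k)
  let P := (Functor.const (X.Etale)ᵒᵖ).obj M
  let ψ := toSheafify X.smallEtaleTopology P
  let F := (constantSheaf X.smallEtaleTopology (Type (u + 1))).obj M
  have key : ∀ {Z : X.Etale} (q : Z ⟶ EtCoh.top X) (m : M),
      ψ.app (op Z) m = F.obj.map q.op (ψ.app (op (EtCoh.top X)) m) := fun q m =>
    NatTrans.naturality_apply ψ q.op m
  obtain ⟨u₀, -⟩ := exists_fib (𝟙 X) (EtCoh.top X) (IsLocalRing.closedPoint k) (Subsingleton.elim (α := PrimeSpectrum k) _ _)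
  haveI := isIso_germ_top k F (𝟙 X) u₀
  haveI : IsIso (ψ.app (op (EtCoh.top X)) ≫ germ (𝟙 X) F (EtCoh.top X) u₀) := by
    rw [isIso_iff_bijective]
    constructor
    · intro m m' e
      obtain ⟨V, g, v, hv, he⟩ := (germ_eq_iff (F := F) (𝟙 X) (EtCoh.top X) u₀ _ _).1 e
      have hs := Presheaf.equalizerSieve_mem X.smallEtaleTopology ψ (X := op V) m m'
        ((key g m).trans (he.trans (key g m').symm))
      obtain ⟨W, q, hq, w, hw⟩ := (pt (𝟙 X)).jointly_surjective _ hs v
      exact hq
    · intro p
      obtain ⟨V, g, v, x, hv, rfl⟩ := exists_germ_below (F := F) (𝟙 X) p (EtCoh.top X) u₀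
      have hs := Presheaf.imageSieve_mem X.smallEtaleTopology ψ (U := op V) x
      obtain ⟨W, q, hq, w, hw⟩ := (pt (𝟙 X)).jointly_surjective _ hs v
      obtain ⟨m, hm⟩ := hq
      refine ⟨m, ?_⟩
      show germ (𝟙 X) F (EtCoh.top X) u₀ (ψ.app (op (EtCoh.top X)) m) = _
      rw [← hv, ← (show Fib.map q w = v from hw), ← germ_res_apply, ← germ_res_apply, ← germ_res_apply]
      refine congrArg (germ (𝟙 X) F W w) ?_
      rw [← ConcreteCategory.comp_apply (F.obj.map g.op), ← F.obj.map_comp, ← op_comp]
      exact (key _ m).symm.trans hm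
  exact IsIso.of_isIso_comp_right _ (germ (𝟙 X) F (EtCoh.top X) u₀)

/-- For a separably closed field k and X = Spec k, the global sections functor from sheaves of sets on
X_et (valued one universe up) to sets is an equivalence of categories. -/
theorem result (k : Type u) [Field k] [IsSepClosed k] :
    ((sheafSections (Spec (CommRingCat.of k)).smallEtaleTopology (Type (u + 1))).obj
      (op (EtCoh.top (Spec (CommRingCat.of k))))).IsEquivalence := by
  let X := Spec (CommRingCat.of k)
  let G := (sheafSections X.smallEtaleTopology (Type (u + 1))).obj (op (EtCoh.top X))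
  let adj : constantSheaf X.smallEtaleTopology (Type (u + 1)) ⊣ G :=
    constantSheafAdj X.smallEtaleTopology (Type (u + 1)) (EtCore.topIsTerminal X)
  haveI : ∀ M, IsIso (adj.unit.app M) := fun M => by
    haveI := isIso_unit k M
    have h : adj.unit.app M = (toSheafify X.smallEtaleTopology
        ((Functor.const (X.Etale)ᵒᵖ).obj M)).app (op (EtCoh.top X)) := by
      simp [adj, constantSheafAdj, constantPresheafAdj]
    rw [h]
    infer_instance
  haveI : ∀ F, IsIso (adj.counit.app F) := fun F => by
    refine isIso_of_stalks _ fun Ω _ _ ξ => ?_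
    haveI : IsIso (G.map (adj.counit.app F)) := by
      haveI : IsIso (adj.unit.app (G.obj F) ≫ G.map (adj.counit.app F)) := by
        rw [adj.right_triangle_components]
        exact ⟨⟨𝟙 _, Category.id_comp _, Category.id_comp _⟩⟩
      exact IsIso.of_isIso_comp_left (adj.unit.app (G.obj F)) _
    haveI : IsIso ((adj.counit.app F).hom.app (op (EtCoh.top X))) := ‹IsIso (G.map (adj.counit.app F))›
    obtain ⟨u₀, -⟩ := exists_fib ξ (EtCoh.top X) (ξ.base default) rfl
    haveI := isIso_germ_top k ((G ⋙ constantSheaf X.smallEtaleTopology (Type (u + 1))).obj F) ξ u₀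
    haveI := isIso_germ_top k ((𝟭 (Sheaf X.smallEtaleTopology (Type (u + 1)))).obj F) ξ u₀
    haveI : IsIso (germ ξ ((G ⋙ constantSheaf X.smallEtaleTopology (Type (u + 1))).obj F) (EtCoh.top X) u₀ ≫
        (stk ξ).map (adj.counit.app F)) := by
      rw [germ_natural]
      infer_instance
    exact IsIso.of_isIso_comp_left
      (germ ξ ((G ⋙ constantSheaf X.smallEtaleTopology (Type (u + 1))).obj F) (EtCoh.top X) u₀) _
  exact adj.toEquivalence.isEquivalence_inverse

end Groth.Agent.S3055
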