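import Groth.Statements.S3058
import Groth.Agent.ToposFinLib.Basic
-- import your own Groth.Agent.* helpers here

set_option autoImplicit false
set_option linter.style.haveILetI false
open CategoryTheory CategoryTheory.Limits Opposite
universe u
open ToposFin

namespace Groth.Agent.S3058

/-- For a topos of sheaves of sets on a small site: the coproduct of a small family of objects is
quasi-compact if and only if every member is quasi-compact and all but finitely many members are
initial (empty) objects. -/
theorem result {C : Type u} [SmallCategory C] {J : GrothendieckTopology C} {ι : Type u}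
    (F : ι → ToposFin.Sh J) :
    ToposFin.IsQC (∐ F) ↔ (∀ i, ToposFin.IsQC (F i)) ∧ {i | IsEmpty (F i ≅ ⊥_ (ToposFin.Sh J))}.Finite := by
  classical
  let hc := coproductIsCoproduct F
  obtain ⟨he, hm, hd⟩ := ToposFinLib.coprod_props hc
  constructor
  · intro h
    have hi : ∀ i, ToposFin.IsQC (F i) := fun i => ToposFinLib.isQC_summand h he hm hd i
    obtain ⟨s, hs⟩ := ToposFinLib.exists_finset_component hc h (𝟙 _)
    refine ⟨hi, s.finite_toSet.subset fun i hiU => ?_⟩
    by_contra hnot
    refine hiU.false (IsInitial.uniqueUpToIso ?_ initialIsInitial)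
    refine (ToposFinLib.isInitial_of_ef (ι := PEmpty.{1}) (F := fun _ => F i) (π := fun k => k.elim)
      fun W a b _ => (hs.base' (Sigma.ι F i)) W a b fun k => ?_).some
    obtain ⟨h0⟩ := hd i k.1 fun e => hnot (e ▸ k.2)
    refine (ToposFinLib.isInitial_of_hom h0 (pullback.lift (pullback.fst _ _)
      (pullback.snd (Sigma.ι F i) _ ≫ pullback.snd (𝟙 (∐ F)) _) ?_)).some.hom_ext _ _
    refine (pullback.condition (f := Sigma.ι F i)).trans ?_
    rw [Category.assoc, ← pullback.condition (f := 𝟙 (∐ F)), Category.comp_id]
  · rintro ⟨h, hfin⟩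
    haveI := hfin.to_subtype
    refine ToposFinLib.isQC_of_finite (κ := {i | IsEmpty (F i ≅ ⊥_ (ToposFin.Sh J))})
      (fun i => Sigma.ι F i.1) (fun W a b e => Sigma.hom_ext _ _ fun i => ?_) fun i => h i.1
    by_cases hi : IsEmpty (F i ≅ ⊥_ (ToposFin.Sh J))
    · exact e ⟨i, hi⟩
    · obtain ⟨φ⟩ := not_isEmpty_iff.1 hi
      exact (initialIsInitial.ofIso φ.symm).hom_ext _ _

end Groth.Agent.S3058
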