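import Groth.Statements.S3063
import Groth.Agent.ToposFinLib.Basic
-- import your own Groth.Agent.* helpers here

set_option autoImplicit false
set_option linter.style.haveILetI false
open CategoryTheory CategoryTheory.Limits Opposite
universe u
open ToposFin

namespace Groth.Agent.S3063

/-- For a topos of sheaves of sets on a small site: suppose given a family of quasi-compact objects G_a
which is generating (every object receives a jointly epimorphic family from the G_a). Then f : X ->
Y is quasi-compact if and only if X x_Y G_a is quasi-compact for every a and every morphism G_a ->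
Y. -/
theorem result {C : Type u} [SmallCategory C] {J : GrothendieckTopology C} {α : Type u} (G : α → ToposFin.Sh J)
    (hG : ∀ a, ToposFin.IsQC (G a))
    (hgen : ∀ X : ToposFin.Sh J, ∃ (ι : Type u) (a : ι → α) (π : ∀ i, G (a i) ⟶ X), Epi (Sigma.desc π))
    {X Y : ToposFin.Sh J} (f : X ⟶ Y) :
    ToposFin.IsQCHom f ↔ ∀ (a : α) (s : G a ⟶ Y), ToposFin.IsQC (pullback f s) := by
  refine ⟨fun h a s => h (G a) s (hG a), fun h T g hT => ?_⟩
  obtain ⟨ι, a, π, hπ⟩ := hgen T
  obtain ⟨s, hs⟩ := (ToposFinLib.isQC_iff T).1 hT _ _ _ ((ToposFinLib.epi_desc_iff π).1 hπ)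
  refine ToposFinLib.isQC_of_finite _ (ToposFinLib.EF.base' hs (pullback.snd f g)) fun i => ?_
  exact ToposFinLib.isQC_of_isPullback
    ((IsPullback.of_hasPullback (pullback.snd f g) (π i)).paste_horiz (IsPullback.of_hasPullback f g)) (h (a i) (π i ≫ g))

end Groth.Agent.S3063
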