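import Groth.Statements.S3064
import Groth.Agent.ToposFinLib.Basic
-- import your own Groth.Agent.* helpers here

set_option autoImplicit false
set_option linter.style.haveILetI false
open CategoryTheory CategoryTheory.Limits Opposite
universe u
open ToposFin

namespace Groth.Agent.S3064

/-- For a topos of sheaves of sets on a small site admitting a generating family of quasi-compact
objects: for a jointly epimorphic family (Y_i -> Y), a morphism f : X -> Y is quasi-compact (resp.
quasi-separated) if and only if all its base changes X x_Y Y_i -> Y_i are. -/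
theorem result {C : Type u} [SmallCategory C] {J : GrothendieckTopology C} (hE : ToposFin.HasQCGenerators J) {X Y : ToposFin.Sh J}
    (f : X ⟶ Y) {ι : Type u} (Yi : ι → ToposFin.Sh J) (g : ∀ i, Yi i ⟶ Y) (hg : Epi (Sigma.desc g)) :
    (ToposFin.IsQCHom f ↔ ∀ i, ToposFin.IsQCHom (pullback.snd f (g i))) ∧
    (ToposFin.IsQSHom f ↔ ∀ i, ToposFin.IsQSHom (pullback.snd f (g i))) := by
  have hg' := (ToposFinLib.epi_desc_iff g).1 hg
  refine ⟨⟨fun h i => ToposFinLib.IsQCHom.of_isPullback (IsPullback.of_hasPullback f (g i)) h,
    fun h => ToposFinLib.IsQCHom.of_local hE f hg' _ _ (fun i => IsPullback.of_hasPullback f (g i)) h⟩,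
    ⟨fun h i => ToposFinLib.IsQSHom.of_isPullback (IsPullback.of_hasPullback f (g i)) h, fun h => ?_⟩⟩
  let m := fun i => pullback.map (pullback.snd f (g i)) (pullback.snd f (g i)) f f (pullback.fst f (g i)) (pullback.fst f (g i)) (g i)
    pullback.condition.symm pullback.condition.symm
  refine ToposFinLib.IsQCHom.of_local hE (pullback.diagonal f) (g := m) ?_ _ _
    (fun i => ToposFinLib.isPullback_diagonal (IsPullback.of_hasPullback f (g i))) h
  refine (hg'.base' (pullback.fst f f ≫ f)).of_factor fun i => ⟨i, ?_⟩
  refine ⟨pullback.lift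
    (pullback.lift (pullback.fst (pullback.fst f f ≫ f) (g i) ≫ pullback.fst f f) (pullback.snd _ (g i)) ?_)
    (pullback.lift (pullback.fst (pullback.fst f f ≫ f) (g i) ≫ pullback.snd f f) (pullback.snd _ (g i)) ?_) ?_, ?_⟩
  · rw [Category.assoc]; exact pullback.condition
  · rw [Category.assoc, ← pullback.condition (f := f) (g := f)]; exact pullback.condition
  · rw [pullback.lift_snd, pullback.lift_snd]
  · apply pullback.hom_ext <;> simp [m, pullback.map, pullback.lift_fst, pullback.lift_snd, pullback.lift_fst_assoc, pullback.lift_snd_assoc]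

end Groth.Agent.S3064
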