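import Groth.Statements.S3066
import Groth.Agent.ToposFinLib.Basic
-- import your own Groth.Agent.* helpers here

set_option autoImplicit false
set_option linter.style.haveILetI false
open CategoryTheory CategoryTheory.Limits Opposite
universe u
open ToposFin

namespace Groth.Agent.S3066

/-- Quasi-separated case, for a topos of sheaves of sets on a small site: if f : X -> Y is a
quasi-separated morphism and Y is a quasi-separated object, then X is quasi-separated. -/
theorem result {C : Type u} [SmallCategory C] {J : GrothendieckTopology C} {X Y : ToposFin.Sh J} (f : X ⟶ Y) (hf : ToposFin.IsQSHom f)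
    (hY : ToposFin.IsQS Y) : ToposFin.IsQS X := by
  intro A B a b hA hB
  let j : pullback a b ⟶ pullback (a ≫ f) (b ≫ f) :=
    pullback.map a b (a ≫ f) (b ≫ f) (𝟙 A) (𝟙 B) f (by simp) (by simp)
  have hp : IsPullback (pullback.fst a b ≫ a) j (pullback.diagonal f)
      (pullback.map (a ≫ f) (b ≫ f) f f a b (𝟙 Y) (by simp) (by simp)) := by
    refine ⟨⟨by apply pullback.hom_ext <;> simp [j, pullback.map, pullback.lift_fst, pullback.lift_snd, pullback.lift_fst_assoc, pullback.lift_snd_assoc, pullback.condition]⟩,
      ⟨PullbackCone.IsLimit.mk _ (fun c => pullback.lift (c.snd ≫ pullback.fst _ _) (c.snd ≫ pullback.snd _ _) ?_)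
        (fun c => ?_) (fun c => ?_) (fun c m h₁ h₂ => ?_)⟩⟩
    · have h₁ := c.condition =≫ pullback.fst f f
      have h₂ := c.condition =≫ pullback.snd f f
      simp [pullback.map, pullback.lift_fst, pullback.lift_snd] at h₁ h₂
      simpa using h₁.symm.trans h₂
    · have h₁ := c.condition =≫ pullback.fst f f
      simp [pullback.map, pullback.lift_fst] at h₁
      simpa [pullback.lift_fst, pullback.lift_fst_assoc] using h₁.symm
    · apply pullback.hom_ext <;> simp [j, pullback.map, pullback.lift_fst, pullback.lift_snd, pullback.lift_fst_assoc, pullback.lift_snd_assoc]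
    · apply pullback.hom_ext
      · simpa [j, pullback.map, pullback.lift_fst] using h₂ =≫ pullback.fst _ _
      · simpa [j, pullback.map, pullback.lift_snd] using h₂ =≫ pullback.snd _ _
  exact ToposFinLib.IsQCHom.isQC hf hp (hY A B (a ≫ f) (b ≫ f) hA hB)

end Groth.Agent.S3066
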