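import Groth.Statements.S3068
import Groth.Agent.ToposFinLib.Basic
-- import your own Groth.Agent.* helpers here

set_option autoImplicit false
set_option linter.style.haveILetI false
open CategoryTheory CategoryTheory.Limits Opposite
universe u
open ToposFin

namespace Groth.Agent.S3068

/-- For a topos of sheaves of sets on a small site: given a generating family of quasi-compact objects
G_a, an object Y is quasi-separated if and only if every morphism G_a -> Y is quasi-compact. -/
theorem result {C : Type u} [SmallCategory C] {J : GrothendieckTopology C} {α : Type u} (G : α → ToposFin.Sh J) (hG : ∀ a, ToposFin.IsQC (G a))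
    (hgen : ∀ X : ToposFin.Sh J, ∃ (ι : Type u) (a : ι → α) (π : ∀ i, G (a i) ⟶ X), Epi (Sigma.desc π))
    (Y : ToposFin.Sh J) :
    ToposFin.IsQS Y ↔ ∀ (a : α) (s : G a ⟶ Y), ToposFin.IsQCHom s := by
  refine ⟨fun h a s T b hT => h (G a) T s b (hG a) hT, fun h A B a b hA hB => ?_⟩
  obtain ⟨ι, al, π, hπ⟩ := hgen A
  obtain ⟨s, hs⟩ := (ToposFinLib.isQC_iff A).1 hA _ _ _ ((ToposFinLib.epi_desc_iff π).1 hπ)
  refine ToposFinLib.isQC_of_finite _ (ToposFinLib.EF.base' hs (pullback.fst a b)) fun i => ?_
  exact ToposFinLib.isQC_of_isPullback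
    ((IsPullback.of_hasPullback (pullback.fst a b) (π i)).flip.paste_vert (IsPullback.of_hasPullback a b)) (h (al i) (π i ≫ a) B b hB)

end Groth.Agent.S3068
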