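import Groth.Statements.S3071
import Groth.Agent.ToposFinLib.Criteria
-- import your own Groth.Agent.* helpers here

set_option autoImplicit false
set_option linter.style.haveILetI false
open CategoryTheory CategoryTheory.Limits Opposite
universe u
open ToposFin

namespace Groth.Agent.S3071

/-- Implication (ii bis) => (i bis), for a topos of sheaves of sets on a small site: suppose given a
generating family of coherent objects G_a such that every product G_a x G_b is quasi-separated. Then
for every morphism f : X -> Y with X quasi-separated, f is quasi-separated. -/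
theorem result {C : Type u} [SmallCategory C] {J : GrothendieckTopology C} {α : Type u} (G : α → ToposFin.Sh J)
    (hG : ∀ a, ToposFin.IsCoherent (G a))
    (hgen : ∀ X : ToposFin.Sh J, ∃ (ι : Type u) (a : ι → α) (π : ∀ i, G (a i) ⟶ X), Epi (Sigma.desc π))
    (hprod : ∀ a b, ToposFin.IsQS (G a ⨯ G b)) {X Y : ToposFin.Sh J} (f : X ⟶ Y) (hX : ToposFin.IsQS X) :
    ToposFin.IsQSHom f := by
  have hE : ToposFin.HasQCGenerators J := fun Z => by
    obtain ⟨ι, a, π, hπ⟩ := hgen Z
    exact ⟨ι, fun i => G (a i), π, fun i => (hG _).1, hπ⟩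
  obtain ⟨ι, a, π, hπ⟩ := hgen X
  refine ToposFinLib.isQSHom_of_qs_products hE f ((ToposFinLib.epi_desc_iff π).1 hπ) (fun i => (hG _).1)
    (fun i j => ?_) hX
  haveI : Mono (prod.lift (pullback.fst (π i ≫ f) (π j ≫ f)) (pullback.snd (π i ≫ f) (π j ≫ f))) :=
    ⟨fun u v e => pullback.hom_ext (by simpa [prod.lift_fst] using e =≫ Limits.prod.fst)
      (by simpa [prod.lift_snd] using e =≫ Limits.prod.snd)⟩
  exact ToposFinLib.IsQS.of_hom _ (ToposFinLib.IsQSHom.of_mono
    (prod.lift (pullback.fst (π i ≫ f) (π j ≫ f)) (pullback.snd (π i ≫ f) (π j ≫ f)))) (hprod (a i) (a j))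

end Groth.Agent.S3071
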