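import Groth.Statements.S3074
import Groth.Agent.ToposFinLib.Basic
-- import your own Groth.Agent.* helpers here

set_option autoImplicit false
set_option linter.style.haveILetI false
open CategoryTheory CategoryTheory.Limits Opposite
universe u
open ToposFin

namespace Groth.Agent.S3074

/-- For a topos of sheaves of sets on a small site: (1) a subobject of a quasi-separated object is
quasi-separated; (2) the coproduct of a small family (X_i) is quasi-separated if and only if every
X_i is. -/
theorem result {C : Type u} [SmallCategory C] {J : GrothendieckTopology C} :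
    (∀ {X Y : ToposFin.Sh J} (i : X ⟶ Y) [Mono i], ToposFin.IsQS Y → ToposFin.IsQS X) ∧
    ∀ {ι : Type u} (F : ι → ToposFin.Sh J), ToposFin.IsQS (∐ F) ↔ ∀ i, ToposFin.IsQS (F i) := by
  refine ⟨fun i _ hY => ToposFinLib.IsQS.of_hom i (ToposFinLib.IsQSHom.of_mono i) hY, fun {ι} F => ?_⟩
  let hc := coproductIsCoproduct F
  refine ⟨fun h i => ?_, fun h A B a b hA hB => ?_⟩
  · haveI := (ToposFinLib.coprod_props hc).2.1 i
    exact ToposFinLib.IsQS.of_hom _ (ToposFinLib.IsQSHom.of_mono ((Cofan.mk (∐ F) (Sigma.ι F)).inj i)) h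
  · obtain ⟨s, hs⟩ := ToposFinLib.exists_finset_component hc hA a
    refine ToposFinLib.isQC_of_finite _ (hs.base' (pullback.fst a b)) fun i => ?_
    have hA' := ToposFinLib.isQC_component hc hA a i.1
    have hB' := ToposFinLib.isQC_component hc hB b i.1
    refine ToposFinLib.isQC_of_iso ?_ (h i.1 _ _ (pullback.snd a (Sigma.ι F i.1)) (pullback.snd b (Sigma.ι F i.1)) hA' hB')
    have h₁ := (IsPullback.of_hasPullback (pullback.fst a b) (pullback.fst a (Sigma.ι F i.1))).flip.paste_vert (IsPullback.of_hasPullback a b)
    have h₂ := (IsPullback.of_hasPullback (pullback.snd a (Sigma.ι F i.1)) (pullback.snd b (Sigma.ι F i.1))).paste_vert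
      (IsPullback.of_hasPullback b (Sigma.ι F i.1)).flip
    rw [← pullback.condition] at h₂
    exact (h₂.isoIsPullback _ _ h₁)

end Groth.Agent.S3074
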