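import Groth.Statements.S3075
import Groth.Agent.ToposFinLib.Basic
-- import your own Groth.Agent.* helpers here

set_option autoImplicit false
set_option linter.style.haveILetI false
open CategoryTheory CategoryTheory.Limits Opposite
universe u
open ToposFin

namespace Groth.Agent.S3075

/-- For a topos of sheaves of sets on a small site admitting a generating family of quasi-compact
objects: if (g_i : Y_i -> Y) is a jointly epimorphic family with every Y_i quasi-separated and every
g_i quasi-compact, then Y is quasi-separated. -/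
theorem result {C : Type u} [SmallCategory C] {J : GrothendieckTopology C} (hE : ToposFin.HasQCGenerators J) {Y : ToposFin.Sh J}
    {ι : Type u} (Yi : ι → ToposFin.Sh J) (g : ∀ i, Yi i ⟶ Y) (hg : Epi (Sigma.desc g))
    (hqs : ∀ i, ToposFin.IsQS (Yi i)) (hqc : ∀ i, ToposFin.IsQCHom (g i)) : ToposFin.IsQS Y := by
  intro A B a b hA hB
  obtain ⟨κ, _, W, w, hw, hW⟩ := ToposFinLib.exists_finite_cover hE hA (((ToposFinLib.epi_desc_iff g).1 hg).base a)
  refine ToposFinLib.isQC_of_finite _ (hw.base' (pullback.fst a b)) fun k => ?_
  obtain ⟨hWk, i, m, hm⟩ := hW k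
  have hB' : ToposFin.IsQC (pullback (g i) b) := hqc i B b hB
  refine ToposFinLib.isQC_of_iso ?_ (hqs i _ _ (m ≫ pullback.fst (g i) a) (pullback.fst (g i) b) hWk hB')
  have e : (m ≫ pullback.fst (g i) a) ≫ g i = w k ≫ a := by rw [← hm]; simp [pullback.condition]
  have h₁ := (IsPullback.of_hasPullback (pullback.fst a b) (w k)).flip.paste_vert (IsPullback.of_hasPullback a b)
  have h₂ := (IsPullback.of_hasPullback (m ≫ pullback.fst (g i) a) (pullback.fst (g i) b)).paste_vert
    (IsPullback.of_hasPullback (g i) b)
  rw [e] at h₂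
  exact h₂.isoIsPullback _ _ h₁

end Groth.Agent.S3075
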