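import Groth.Statements.S3076
import Groth.Agent.ToposFinLib.Basic
-- import your own Groth.Agent.* helpers here

set_option autoImplicit false
set_option linter.style.haveILetI false
open CategoryTheory CategoryTheory.Limits Opposite
universe u
open ToposFin

namespace Groth.Agent.S3076

/-- For a topos of sheaves of sets on a small site admitting a generating family of quasi-compact
objects: let g : Y -> Z and let (f_i : X_i -> Y) be a jointly epimorphic family of quasi-compact
morphisms. If every g o f_i is quasi-separated then g is quasi-separated; if moreover the family is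
finite and every g o f_i is coherent, then g is coherent. -/
theorem result {C : Type u} [SmallCategory C] {J : GrothendieckTopology C} (hE : ToposFin.HasQCGenerators J) {Y Z : ToposFin.Sh J}
    (g : Y ⟶ Z) :
    (∀ {ι : Type u} (X : ι → ToposFin.Sh J) (f : ∀ i, X i ⟶ Y), Epi (Sigma.desc f) →
      (∀ i, ToposFin.IsQCHom (f i)) → (∀ i, ToposFin.IsQSHom (f i ≫ g)) → ToposFin.IsQSHom g) ∧
    (∀ {n : ℕ} (X : Fin n → ToposFin.Sh J) (f : ∀ k, X k ⟶ Y), Epi (Sigma.desc f) →
      (∀ k, ToposFin.IsQCHom (f k)) → (∀ k, ToposFin.IsCohHom (f k ≫ g)) → ToposFin.IsCohHom g) := by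
  have part : ∀ {ι : Type u} (X : ι → ToposFin.Sh J) (f : ∀ i, X i ⟶ Y), ToposFinLib.EF f →
      (∀ i, ToposFin.IsQCHom (f i)) → (∀ i, ToposFin.IsQSHom (f i ≫ g)) → ToposFin.IsQSHom g := by
    intro ι X f hf hqc hqs
    let m := fun p : ι × ι => pullback.map (f p.1 ≫ g) (f p.2 ≫ g) g g (f p.1) (f p.2) (𝟙 Z) (by simp) (by simp)
    have hm : ToposFinLib.EF m := by
      refine ((hf.base' (pullback.fst g g)).bind (σ := fun i j => pullback.fst (pullback.fst (pullback.fst g g) (f i) ≫ pullback.snd g g) (f j))
        (fun i => hf.base' (pullback.fst (pullback.fst g g) (f i) ≫ pullback.snd g g))).of_factor fun p => ⟨(p.1, p.2), ?_⟩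
      refine ⟨pullback.lift (pullback.fst _ _ ≫ pullback.snd (pullback.fst g g) (f p.1))
        (pullback.snd _ (f p.2)) ?_, ?_⟩
      · simp only [Category.assoc]
        rw [← pullback.condition_assoc (f := pullback.fst g g) (g := f p.1), ← pullback.condition_assoc (f := pullback.fst (pullback.fst g g) (f p.1) ≫ pullback.snd g g) (g := f p.2)]
        simp only [Category.assoc, pullback.condition]
      · apply pullback.hom_ext
        · simp [m, pullback.map, pullback.lift_fst, pullback.lift_fst_assoc, ← pullback.condition]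
        · simp [m, pullback.map, pullback.lift_snd, pullback.lift_snd_assoc, ← pullback.condition]
    refine ToposFinLib.IsQCHom.of_local hE (pullback.diagonal g) hm
      (P := fun p => pullback (f p.1) (f p.2)) (fun p => pullback.fst (f p.1) (f p.2) ≫ f p.1)
      (fun p => pullback.map (f p.1) (f p.2) (f p.1 ≫ g) (f p.2 ≫ g) (𝟙 _) (𝟙 _) g (by simp) (by simp))
      (fun p => ?_) (fun p => ?_)
    · refine ⟨⟨by apply pullback.hom_ext <;> simp [m, pullback.map, pullback.lift_fst, pullback.lift_snd, pullback.lift_fst_assoc, pullback.lift_snd_assoc, pullback.condition]⟩,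
        ⟨PullbackCone.IsLimit.mk _ (fun c => pullback.lift (c.snd ≫ pullback.fst _ _) (c.snd ≫ pullback.snd _ _) ?_)
          (fun c => ?_) (fun c => ?_) (fun c k h₁ h₂ => ?_)⟩⟩
      · have h₁ := c.condition =≫ pullback.fst g g
        have h₂ := c.condition =≫ pullback.snd g g
        simp [m, pullback.map, pullback.lift_fst, pullback.lift_snd] at h₁ h₂
        simpa using h₁.symm.trans h₂
      · have h₁ := c.condition =≫ pullback.fst g g
        simp [m, pullback.map, pullback.lift_fst] at h₁
        simpa [pullback.lift_fst, pullback.lift_fst_assoc] using h₁.symm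
      · apply pullback.hom_ext <;> simp [pullback.map, pullback.lift_fst, pullback.lift_snd, pullback.lift_fst_assoc, pullback.lift_snd_assoc]
      · apply pullback.hom_ext
        · simpa [pullback.map, pullback.lift_fst] using h₂ =≫ pullback.fst _ _
        · simpa [pullback.map, pullback.lift_snd] using h₂ =≫ pullback.snd _ _
    · refine ToposFinLib.IsQCHom.of_comp _ (pullback.fst (f p.1 ≫ g) (f p.2 ≫ g)) ?_
        (ToposFinLib.IsQSHom.of_isPullback (IsPullback.of_hasPullback (f p.1 ≫ g) (f p.2 ≫ g)).flip (hqs p.2))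
      have e : pullback.map (f p.1) (f p.2) (f p.1 ≫ g) (f p.2 ≫ g) (𝟙 _) (𝟙 _) g (by simp) (by simp) ≫
          pullback.fst (f p.1 ≫ g) (f p.2 ≫ g) = pullback.fst (f p.1) (f p.2) := by
        simp [pullback.map, pullback.lift_fst]
      rw [e]
      exact ToposFinLib.IsQCHom.of_isPullback (IsPullback.of_hasPullback (f p.1) (f p.2)).flip (hqc p.2)
  refine ⟨fun X f hf => part X f ((ToposFinLib.epi_desc_iff f).1 hf), fun {n} X f hf hqc hcoh => ?_⟩
  have hf' := (ToposFinLib.epi_desc_iff f).1 hf
  refine ⟨fun T b hT => ToposFinLib.isQC_of_finite _ (hf'.base' (pullback.fst g b)) fun k => ?_,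
    part (fun k : ULift.{u} (Fin n) => X k.down) (fun k => f k.down) (fun W a b e => hf' W a b fun k => e ⟨k⟩)
      (fun k => hqc k.down) fun k => (hcoh k.down).2⟩
  exact ToposFinLib.isQC_of_isPullback
    ((IsPullback.of_hasPullback (pullback.fst g b) (f k)).flip.paste_vert (IsPullback.of_hasPullback g b)) ((hcoh k).1 T b hT)

end Groth.Agent.S3076
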