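import Groth.Statements.S3085
import Groth.Agent.TopLib.ClosedCompl
import Groth.Agent.TopLib.OpenClosed
-- import your own Groth.Agent.* helpers here

set_option autoImplicit false
set_option linter.style.haveILetI false
universe u
open CategoryTheory
open SGA4

namespace Groth.Agent.S3085

open CategoryTheory.Limits in
/-- Gluing a topos from an open subtopos and its closed complement, for sheaves of sets on a small site:
let E be the category of sheaves of sets on a small site, U an open of E (a subobject of the final
object) with restriction functor j^* : E → E/U, X ↦ U × X; assume j^* has a right adjoint j_* (true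
in any topos; taken as an instance hypothesis), and let i^* be a left adjoint of the inclusion of
the closed complement F of U. With ρ = i^* ∘ j_* : E/U → F, the category E is equivalent to the
glued category of triples (Y in F, X in E/U, Y → ρX). (Only the existence of an equivalence is
asserted; the published statement gives it explicitly as X ↦ (i^*X, j^*X, i^*(X → j_*j^*X)).) -/
theorem result {C : Type u} [SmallCategory C] (J : GrothendieckTopology C)
    (U : Sheaf J (Type u)) (hU : SGA4.IsOpen U) [(Over.star U).IsLeftAdjoint]
    (L : Sheaf J (Type u) ⥤ (SGA4.closedCompl U).FullSubcategory) (adj : L ⊣ (SGA4.closedCompl U).ι) :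
    Nonempty (Sheaf J (Type u) ≌
      Comma (𝟭 (SGA4.closedCompl U).FullSubcategory) ((Over.star U).rightAdjoint ⋙ L)) := by
  haveI : Mono (terminal.from U) := hU
  haveI : (Over.forget U).Full := ⟨fun {A B} f => ⟨Over.homMk f
    ((cancel_mono (terminal.from U)).1 (terminal.hom_ext _ _)), rfl⟩⟩
  let adj' := Adjunction.ofIsLeftAdjoint (Over.star U)
  let t : Adjunction.Triple (Over.forget U) (Over.star U) (Over.star U).rightAdjoint :=
    ⟨Over.forgetAdjStar U, adj'⟩
  let hff := t.fullyFaithfulEquiv (Functor.FullyFaithful.ofFullyFaithful _)
  haveI := hff.full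
  haveI := hff.faithful
  haveI := TopLib.preservesFiniteLimits_reflector L adj
  haveI : PreservesLimitsOfSize.{0, 0} (Over.star U) := (Over.forgetAdjStar U).rightAdjoint_preservesLimits
  haveI hY : ∀ Y : (SGA4.closedCompl U).FullSubcategory, IsIso (prod.fst : U ⨯ Y.obj ⟶ U) :=
    fun Y => Y.property
  have hS : ∀ {Y Y' : (SGA4.closedCompl U).FullSubcategory} (g : Y ⟶ Y'),
      IsIso ((Over.star U).map ((SGA4.closedCompl U).ι.map g)) := fun {Y Y'} g => by
    haveI : IsIso (prod.map (𝟙 U) g.hom) :=
      IsIso.of_isIso_fac_right (g := prod.map (𝟙 U) g.hom) (f := (prod.fst : U ⨯ Y'.obj ⟶ U))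
        (h := (prod.fst : U ⨯ Y.obj ⟶ U)) (by simp)
    haveI : IsIso ((Over.forget U).map ((Over.star U).map ((SGA4.closedCompl U).ι.map g))) := by
      simp
      exact this
    exact isIso_of_reflects_iso _ (Over.forget U)
  haveI := TopLib.glueFun_isEquivalence adj adj' hS (fun m h₁ h₂ => TopLib.isIso_of_open_closed L adj m h₁ h₂)
  exact ⟨(TopLib.glueFun (L := L) adj').asEquivalence⟩

end Groth.Agent.S3085
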