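import Groth.Statements.S3086
import Groth.Agent.TopLib.GiraudRep
import Groth.Agent.TopLib.SheafGiraud
import Groth.Agent.TopLib.CommaGiraud
import Groth.Agent.TopLib.Access
-- import your own Groth.Agent.* helpers here

set_option autoImplicit false
set_option linter.style.haveILetI false
universe u
open CategoryTheory
open SGA4

namespace Groth.Agent.S3086

open CategoryTheory.Limits in
/-- For sheaf topoi on small sites): let ρ be a functor from sheaves of sets on (C, J) to sheaves of
sets on (D, K) which preserves finite limits and is accessible. Then the glued category of triples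
(Y, X, Y -> ρ X) is a topos. -/
theorem result {C D : Type u} [SmallCategory C] [SmallCategory D] (J : GrothendieckTopology C)
    (K : GrothendieckTopology D) (ρ : Sheaf J (Type u) ⥤ Sheaf K (Type u)) [PreservesFiniteLimits ρ]
    [ρ.IsAccessible.{u}] :
    SGA4.IsTopos.{u + 1, u} (Comma (𝟭 (Sheaf K (Type u))) ρ) := by
  obtain ⟨genA⟩ := TopLib.sheaf_gen K
  obtain ⟨genB⟩ := TopLib.sheaf_gen J
  obtain ⟨S, P, hP⟩ := TopLib.exists_small_cover J ρ
  obtain ⟨gen⟩ := TopLib.glue_gen (ρ := ρ) (TopLib.sheaf_axioms K) genA genB
    (initialIsInitial (C := Sheaf K (Type u))) P hP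
  exact TopLib.isTopos_of_gen (TopLib.glue_axioms (TopLib.sheaf_axioms K) (TopLib.sheaf_axioms J)) gen

end Groth.Agent.S3086
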