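import Groth.Statements.S3092
import Groth.Agent.HypercovLib.Special
import Groth.Agent.HypercovLib.CoskDet

set_option autoImplicit false
universe u
open CategoryTheory
open Hyper

namespace Groth.Agent.S3092

open Opposite CategoryTheory.Limits in
/-- In the topos of sheaves of sets on a small site; coskeleta assumed to exist: let v : K -> L be a
morphism of simplicial sheaves of sets and n ≥ 0 such that v_p is an isomorphism for p < n, v_n is
an epimorphism, and K, L are n-coskeletal (the units K -> cosk_n K, L -> cosk_n L are isomorphisms).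
Then every v_p is an epimorphism and v induces a quasi-isomorphism between the chain complexes of
free abelian sheaves Z[K] -> Z[L]. -/
theorem result {C : Type u} [SmallCategory C] (J : GrothendieckTopology C)
    [∀ (n : ℕ) (F : (SimplexCategory.Truncated n)ᵒᵖ ⥤ Sheaf J (Type u)),
      (SimplexCategory.Truncated.inclusion n).op.HasRightKanExtension F]
    {K L : SimplicialObject (Sheaf J (Type u))} (v : K ⟶ L) (n : ℕ)
    (h1 : ∀ p : ℕ, p < n → IsIso (v.app (op (SimplexCategory.mk p))))
    (h2 : Epi (v.app (op (SimplexCategory.mk n))))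
    (h3 : IsIso ((SimplicialObject.coskAdj n).unit.app K) ∧ IsIso ((SimplicialObject.coskAdj n).unit.app L)) :
    (∀ p : ℕ, Epi (v.app (op (SimplexCategory.mk p)))) ∧
    QuasiIso ((AlgebraicTopology.alternatingFaceMapComplex _).map
      (Functor.whiskerRight v (Sheaf.composeAndSheafify J AddCommGrpCat.free.{u}))) := by
  let φ := Functor.whiskerRight v (sheafToPresheaf J (Type u))
  have hL : ∀ U : C, HypercovLib.Det (HypercovLib.sect (K ⋙ sheafToPresheaf J (Type u)) U) n := fun U =>
    HypercovLib.det_of_isIso K h3.1 (sheafToPresheaf J (Type u) ⋙ (evaluation Cᵒᵖ (Type u)).obj (op U))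
  have hK : ∀ U : C, HypercovLib.Det (HypercovLib.sect (L ⋙ sheafToPresheaf J (Type u)) U) n := fun U =>
    HypercovLib.det_of_isIso L h3.2 (sheafToPresheaf J (Type u) ⋙ (evaluation Cᵒᵖ (Type u)).obj (op U))
  have hbij : ∀ (U : C) (a : SimplexCategory), a.len < n →
      Function.Bijective ((HypercovLib.sectMap φ U).app (op a)) := fun U a ha => by
    haveI := h1 a.len ha
    haveI : IsIso ((HypercovLib.sectMap φ U).app (op (SimplexCategory.mk a.len))) :=
      inferInstanceAs (IsIso ((sheafToPresheaf J (Type u) ⋙ (evaluation Cᵒᵖ (Type u)).obj (op U)).map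
        (v.app (op (SimplexCategory.mk a.len)))))
    exact (ConcreteCategory.isIso_iff_bijective ((HypercovLib.sectMap φ U).app (op (SimplexCategory.mk a.len)))).1 inferInstance
  have hn : Presheaf.IsLocallySurjective J (φ.app (op (SimplexCategory.mk n))) :=
    (Sheaf.isLocallySurjective_iff_epi (v.app (op (SimplexCategory.mk n)))).2 h2
  refine ⟨fun p => (Sheaf.isLocallySurjective_iff_epi (v.app (op (SimplexCategory.mk p)))).1
    (HypercovLib.isLocallySurjective_app φ J hL hK hbij hn (SimplexCategory.mk p)), ?_⟩
  rw [quasiIso_iff]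
  intro k
  rw [quasiIsoAt_iff_isIso_homologyMap]
  exact HypercovLib.isIso_homologyMap_sheafify J φ hL hK hbij hn k

end Groth.Agent.S3092
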