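import Groth.Statements.S3093
import Mathlib


-- import your own Groth.Agent.* helpers here

set_option autoImplicit false
universe u
open CohTop

namespace Groth.Agent.S3093

/-- Let X be a topological space and K ⊆ X a compact subset such that any two distinct points of K have
disjoint open neighbourhoods in X. If A and B are subsets of K that are closed in K and W is an open
subset of X containing A ∩ B, then there are open subsets U ⊇ A and V ⊇ B of X with U ∩ V ⊆ W. -/
theorem result {X : Type u} [TopologicalSpace X] {K : Set X} (hK : IsCompact K)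
    (hsep : ∀ x ∈ K, ∀ y ∈ K, x ≠ y → ∃ U V : Set X, IsOpen U ∧ IsOpen V ∧ x ∈ U ∧ y ∈ V ∧ Disjoint U V)
    {A B W : Set X} (hA : A ⊆ K) (hB : B ⊆ K) (hAc : IsClosed (Subtype.val ⁻¹' A : Set K))
    (hBc : IsClosed (Subtype.val ⁻¹' B : Set K)) (hW : IsOpen W) (hABW : A ∩ B ⊆ W) :
    ∃ U V : Set X, IsOpen U ∧ IsOpen V ∧ A ⊆ U ∧ B ⊆ V ∧ U ∩ V ⊆ W := by
  classical
  have hcl : ∀ S : Set X, S ⊆ K → IsClosed (Subtype.val ⁻¹' S : Set K) → IsCompact S := by
    intro S hS hc
    haveI := isCompact_iff_compactSpace.1 hK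
    have := hc.isCompact.image continuous_subtype_val
    rwa [Subtype.image_preimage_coe, Set.inter_eq_right.2 hS] at this
  have hA' : IsCompact (A \ W) := (hcl A hA hAc).diff hW
  have hB' : IsCompact (B \ W) := (hcl B hB hBc).diff hW
  have hpt : ∀ a ∈ A \ W, SeparatedNhds ({a} : Set X) (B \ W) := by
    intro a ha
    refine (hB'.induction_on (p := fun S => SeparatedNhds ({a} : Set X) S) ⟨Set.univ, ∅, isOpen_univ, isOpen_empty, Set.subset_univ _, subset_rfl, Set.disjoint_empty _⟩ ?_ ?_ ?_)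
    · exact fun S T hST h => h.mono subset_rfl hST
    · exact fun S T hS hT => hS.union_right hT
    · intro b hb
      obtain ⟨U, V, hU, hV, haU, hbV, hd⟩ := hsep a (hA ha.1) b (hB hb.1) (by rintro rfl; exact ha.2 (hABW ⟨ha.1, hb.1⟩))
      exact ⟨V, mem_nhdsWithin_of_mem_nhds (hV.mem_nhds hbV), U, V, hU, hV, Set.singleton_subset_iff.2 haU, subset_rfl, hd⟩
  have hall : SeparatedNhds (A \ W) (B \ W) := by
    refine hA'.induction_on (p := fun S => SeparatedNhds S (B \ W)) ⟨∅, Set.univ, isOpen_empty, isOpen_univ, subset_rfl, Set.subset_univ _, Set.empty_disjoint _⟩ ?_ ?_ ?_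
    · exact fun S T hST h => h.mono hST subset_rfl
    · exact fun S T hS hT => hS.union_left hT
    · intro a ha
      obtain ⟨U, V, hU, hV, haU, hBV, hd⟩ := hpt a ha
      exact ⟨U, mem_nhdsWithin_of_mem_nhds (hU.mem_nhds (haU rfl)), U, V, hU, hV, subset_rfl, hBV, hd⟩
  obtain ⟨U, V, hU, hV, hAU, hBV, hd⟩ := hall
  refine ⟨U ∪ W, V ∪ W, hU.union hW, hV.union hW, fun a ha => ?_, fun b hb => ?_, ?_⟩
  · exact (em (a ∈ W)).elim Or.inr fun h => Or.inl (hAU ⟨ha, h⟩)
  · exact (em (b ∈ W)).elim Or.inr fun h => Or.inl (hBV ⟨hb, h⟩)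
  · rintro z ⟨hzU | hzW, hzV | hzW'⟩
    · exact absurd hzV (Set.disjoint_left.1 hd hzU)
    all_goals assumption

end Groth.Agent.S3093
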