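import Groth.Statements.S3097
import Groth.Agent.EtSmAcycLib.Apps
import Groth.Agent.EtProperConsLib.Spec

set_option autoImplicit false
set_option backward.isDefEq.respectTransparency false
set_option backward.isDefEq.respectTransparency.types false
set_option maxHeartbeats 1000000
set_option synthInstance.maxHeartbeats 400000
universe u
open CategoryTheory CategoryTheory.Limits AlgebraicGeometry Opposite
open EtPBC

namespace Groth.Agent.S3097

/-- Specialization of cohomology groups, abelian case: let f : X → Y be proper and smooth, n a natural
number invertible on Y, and F a finite locally constant abelian sheaf on the small étale site of X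
killed by n (that is, locally constant constructible). Then for every q the higher direct image R^q
f_* F is finite locally constant on Y. (The published statement says only 'constructible', with the
locally constant hypothesis given in the surrounding text; that hypothesis is needed, as a
skyscraper sheaf shows. The published statement also allows any torsion prime to the residue
characteristics; killed by an invertible n is the basic case.) -/
theorem result {X Y : Scheme.{u}} (f : X ⟶ Y) [IsProper f] [Smooth f]
    [EtCoh.BCCont f] (n : ℕ) (hn : IsUnit (n : Γ(Y, ⊤)))
    (F : EtCoh.Ab X) (hF : EtCoh.IsFiniteLocallyConstant F) (hFn : EtCoh.KilledBy n F) (q : ℕ) :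
    EtCoh.IsFiniteLocallyConstant ((EtCoh.Rpush f q).obj F) := by
  exact EtProperConsLib.isFLC_Rpush f (EtAcyc.primesInvertibleOn X) q (EtSmAcycLib.isLocAcyclic_of_smooth f q) F
    (EtSmAcycLib.isLTorsion_of_killedBy f hn hFn) hF q le_rfl

end Groth.Agent.S3097
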