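import Groth.Statements.S3098
import Groth.Agent.EtSmAcycLib.Apps
import Groth.Agent.EtProperConsLib.Spec
import Groth.Agent.EtPBCProperLib.Stalk
import Groth.Agent.EtShLib.Locus

set_option autoImplicit false
set_option backward.isDefEq.respectTransparency false
set_option backward.isDefEq.respectTransparency.types false
set_option maxHeartbeats 1000000
set_option synthInstance.maxHeartbeats 400000
universe u
open CategoryTheory CategoryTheory.Limits AlgebraicGeometry Opposite
open EtPBC

namespace Groth.Agent.S3098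

/-- Let f : X -> Y be proper and smooth with Y connected, n invertible on Y, F a finite locally constant
abelian sheaf on the small etale site of X killed by n, and let a, b be two geometric points of Y
(spectra of separably closed fields). Then for every q the cohomology groups of the two geometric
fibres with coefficients in the restrictions of F are isomorphic. -/
theorem result {X Y : Scheme.{u}} (f : X ⟶ Y) [IsProper f] [Smooth f]
    [EtCoh.BCCont f] (hY : ConnectedSpace Y) (n : ℕ) (hn : IsUnit (n : Γ(Y, ⊤)))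
    (F : EtCoh.Ab X) (hF : EtCoh.IsFiniteLocallyConstant F) (hFn : EtCoh.KilledBy n F)
    {Ω Ω' : Type u} [Field Ω] [IsSepClosed Ω] [Field Ω'] [IsSepClosed Ω']
    (a : Spec (CommRingCat.of Ω) ⟶ Y) (b : Spec (CommRingCat.of Ω') ⟶ Y)
    [EtCoh.BCCont (pullback.fst f a)] [EtCoh.BCCont (pullback.fst f b)] (q : ℕ) :
    Nonempty (EtCoh.H (pullback f a) ((EtCoh.pull (pullback.fst f a)).obj F) q ≃+
      EtCoh.H (pullback f b) ((EtCoh.pull (pullback.fst f b)).obj F) q) := by
  haveI := hY
  have hT := EtSmAcycLib.isLTorsion_of_killedBy f hn hFn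
  have hlc := EtProperConsLib.isFLC_Rpush f (EtAcyc.primesInvertibleOn X) q (EtSmAcycLib.isLocAcyclic_of_smooth f q) F
    hT hF q le_rfl
  obtain ⟨M₀, -, hM⟩ := Groth.Agent.EtShLib.LC.exists_value_of_connected ((Groth.Agent.EtShLib.isFLC_iff _).1 hlc)
  have key : ∀ {K : Type u} [Field K] [IsSepClosed K] (c : Spec (CommRingCat.of K) ⟶ Y),
      Nonempty ((M₀ : Type (u + 1)) ≃+ EtCoh.H (pullback f c) ((EtCoh.pull (pullback.fst f c)).obj F) q) := by
    intro K _ _ c
    obtain ⟨U, y, η, hy, hη⟩ := hM (c.base default)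
    obtain ⟨v, -⟩ := Groth.Agent.EtShLib.exists_fib c U y hy
    haveI := hη K c v
    obtain ⟨e⟩ := EtPBCProperLib.nonempty_stalk_iso f c F (EtProperConsLib.isTorsion_of_isLTorsion hT) q
    exact ⟨(asIso (η ≫ Groth.Agent.EtShLib.germ c _ U v)).addCommGroupIsoToAddEquiv.trans
      e.addCommGroupIsoToAddEquiv⟩
  obtain ⟨ea⟩ := key a
  obtain ⟨eb⟩ := key b
  exact ⟨ea.symm.trans eb⟩

end Groth.Agent.S3098
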