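import Groth.Statements.S3103
import Groth.Agent.EtPunctLib.Sheaf
import Groth.Agent.RegUFDLib.Basic
import Groth.Agent.S14625

set_option backward.isDefEq.respectTransparency false
set_option backward.isDefEq.respectTransparency.types false
set_option maxHeartbeats 2000000

set_option autoImplicit false
universe u
open CategoryTheory CategoryTheory.Limits AlgebraicGeometry Opposite
open EtDual

namespace Groth.Agent.S3103

theorem prime_of_notMem_sq {A : Type u} [CommRing A] [IsLocalRing A] [IsDomain A] [UniqueFactorizationMonoid A]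
    {x : A} (hx : x ∈ IsLocalRing.maximalIdeal A) (hx2 : x ∉ (IsLocalRing.maximalIdeal A) ^ 2) : Prime x := by
  rw [← UniqueFactorizationMonoid.irreducible_iff_prime]
  refine ⟨(IsLocalRing.mem_maximalIdeal _).1 hx, fun {a b} hab => ?_⟩
  by_contra h
  push Not at h
  refine hx2 ?_
  rw [hab, pow_two]
  exact Ideal.mul_mem_mul ((IsLocalRing.mem_maximalIdeal _).2 h.1) ((IsLocalRing.mem_maximalIdeal _).2 h.2)

theorem exists_root_unit {A : Type u} [CommRing A] (hA : EtCoh.IsStrictlyHenselianLocalRing A) {n : ℕ}
    (hn : IsUnit (n : A)) (h0 : 1 ≤ n) (v : Aˣ) : ∃ w : A, w ^ n = v := by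
  obtain ⟨hH, hsep⟩ := hA
  haveI := hH
  let k := IsLocalRing.ResidueField A
  haveI : IsSepClosed k := hsep
  let g : Polynomial A := Polynomial.X ^ n - Polynomial.C (v : A)
  have hu : IsUnit (IsLocalRing.residue A (v : A)) := v.isUnit.map _
  have hs : (Polynomial.X ^ n - Polynomial.C (IsLocalRing.residue A (v : A))).Separable :=
    Polynomial.separable_X_pow_sub_C_unit hu.unit (by simpa using hn.map (IsLocalRing.residue A))
  obtain ⟨r, hr⟩ := IsSepClosed.exists_root _
    (by rw [Polynomial.degree_X_pow_sub_C (by omega)]; exact_mod_cast (by omega : n ≠ 0)) hs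
  obtain ⟨a₀, rfl⟩ := IsLocalRing.residue_surjective r
  have hr' : IsLocalRing.residue A a₀ ^ n = IsLocalRing.residue A (v : A) := by
    simpa [sub_eq_zero] using hr
  have h1 : IsLocalRing.residue A (g.eval a₀) = 0 := by simp [g, hr']
  have ha₀ : IsUnit a₀ := by
    refine (IsLocalRing.notMem_maximalIdeal).1 fun hm => hu.ne_zero ?_
    rw [← hr', (IsLocalRing.residue_eq_zero_iff _).2 hm, zero_pow (by omega)]
  have h2 : IsUnit (g.derivative.eval a₀) := by
    simp only [g, Polynomial.derivative_sub, Polynomial.derivative_X_pow, Polynomial.derivative_C, sub_zero,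
      Polynomial.eval_mul, Polynomial.eval_C, Polynomial.eval_pow, Polynomial.eval_X]
    exact hn.mul (ha₀.pow (n - 1))
  obtain ⟨a, ha, -⟩ := HenselianLocalRing.is_henselian g (Polynomial.monic_X_pow_sub_C _ (by omega)) a₀
    ((IsLocalRing.residue_eq_zero_iff _).1 h1) h2
  exact ⟨a, by simpa [g, sub_eq_zero] using ha⟩

/-- Let A be a regular local ring which is strictly henselian, x an element of the maximal ideal not in
its square, n an integer invertible in A, and U = Spec A[1/x]. Then H^1(U, mu_n) is isomorphic to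
Z/n. (The source also computes H^0(U, mu_n) = mu_n(A) and gives a canonical isomorphism; only the
existence of an isomorphism is stated here.) -/
theorem result (A : Type u) [CommRing A] [IsRegularLocalRing A]
    (hA : EtCoh.IsStrictlyHenselianLocalRing A) (x : A) (hx : x ∈ IsLocalRing.maximalIdeal A)
    (hx2 : x ∉ (IsLocalRing.maximalIdeal A) ^ 2) (n : ℕ) (hn : IsUnit (n : A)) :
    Nonempty (EtCoh.H (Spec (CommRingCat.of (Localization.Away x)))
      (EtCoh.mu (Spec (CommRingCat.of (Localization.Away x))) n) 1 ≃+ ZMod n) := by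
  haveI : IsDomain A := CommAlgDim.isDomain_of_isRegularLocalRing A
  haveI : UniqueFactorizationMonoid A := RegUFDLib.uniqueFactorizationMonoid A
  have hxp : Prime x := prime_of_notMem_sq hx hx2
  have h0 : 1 ≤ n := Nat.one_le_iff_ne_zero.2 fun h => not_isUnit_zero (M₀ := A) (by simpa [h] using hn)
  let R := Localization.Away x
  have hM : Submonoid.powers x ≤ nonZeroDivisors A := powers_le_nonZeroDivisors_of_noZeroDivisors hxp.ne_zero
  haveI : IsDomain R := IsLocalization.isDomain_localization hM
  haveI : IsNoetherianRing R := IsLocalization.isNoetherianRing (Submonoid.powers x) R inferInstance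
  haveI : IsIntegrallyClosed R := isIntegrallyClosed_of_isLocalization R (Submonoid.powers x) hM
  let L := FractionRing A
  have hu : ∀ y : Submonoid.powers x, IsUnit (algebraMap A L y) := fun y =>
    IsLocalization.map_units L (⟨y, hM y.2⟩ : nonZeroDivisors A)
  letI : Algebra R L := (IsLocalization.lift (M := Submonoid.powers x) (S := R) hu).toAlgebra
  haveI : IsScalarTower A R L := IsScalarTower.of_algebraMap_eq fun z => (IsLocalization.lift_eq hu z).symm
  haveI : IsFractionRing R L := IsFractionRing.isFractionRing_of_isDomain_of_isLocalization (Submonoid.powers x) R L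
  have hnR : IsUnit (n : R) := by simpa using hn.map (algebraMap A R)
  have hU := Groth.Agent.S14625.result A hA n h0 hn (Spec (CommRingCat.of R))
    (Spec.map (CommRingCat.ofHom (algebraMap A R)))
  have hL := Groth.Agent.S14625.result A hA n h0 hn (Spec (CommRingCat.of L))
    (Spec.map (CommRingCat.ofHom (algebraMap A L)))
  have hN : Pi1.IsNormalScheme (Spec (CommRingCat.of R)) := fun y => by
    let S := (Spec (CommRingCat.of R)).presheaf.stalk y
    letI : Algebra R S := (StructureSheaf.toStalk R y).hom.toAlgebra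
    haveI : IsLocalization.AtPrime S y.asIdeal := StructureSheaf.IsLocalization.to_stalk R y
    haveI : IsDomain S := IsLocalization.isDomain_of_atPrime S y.asIdeal
    exact ⟨inferInstance, isIntegrallyClosed_of_isLocalization S y.asIdeal.primeCompl
      (Ideal.primeCompl_le_nonZeroDivisors _)⟩
  obtain ⟨e⟩ := EtPunctLib.nonempty_kernel_iso_mu R L n hU hL hN
  have hxR : IsUnit (algebraMap A R x) := IsLocalization.Away.algebraMap_isUnit x
  let xL : Lˣ := Units.map (algebraMap R L).toMonoidHom hxR.unit
  have hxL : (xL : L) = algebraMap A L x := by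
    rw [IsScalarTower.algebraMap_apply A R L]
    rfl
  have hxB : xL ∈ EtPunctLib.inB R L n := EtPunctLib.mem_inB_unit R L n h0 hnR hxR.unit
  refine EtPunctLib.nonempty_H1_addEquiv R L n _ e xL hxB (fun a ha => ?_) fun k b hkb => ?_
  · refine EtPunctLib.exists_pow_mul_pow (A := A) hxp h0 (exists_root_unit hA hn h0) (EtPunctLib.inB R L n)
      (fun b => ?_) xL hxL hxB (fun π w e a hπ hπx hπw hae haB => ?_) a ha
    · refine EtPunctLib.mem_inB_of_local R L n fun u => ⟨EtCoh.top _, 𝟙 _, u, rfl, EtPunctLib.secV R L _ b, ?_⟩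
      rw [EtPunctLib.secV_res]
      exact (map_nsmul (AddMonoidHom.mk' (fun c : Additive Lˣ => EtPunctLib.secV R L _ c.toMul)
        fun c d => EtPunctLib.secV_mul R L _ c.toMul d.toMul) n (Additive.ofMul b)).symm
    · haveI hπP : (Ideal.span {π}).IsPrime := (Ideal.span_singleton_prime hπ.ne_zero).2 hπ
      have hdisj : Disjoint (Submonoid.powers x : Set A) (Ideal.span {π} : Set A) := by
        rw [Set.disjoint_left]
        rintro _ ⟨i, rfl⟩ hmem
        exact hπx (hπ.dvd_of_dvd_pow (Ideal.mem_span_singleton.1 hmem))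
      have hpR := IsLocalization.isPrime_of_isPrime_disjoint (Submonoid.powers x) R _ hπP hdisj
      have hcm := IsLocalization.under_map_of_isPrime_disjoint (Submonoid.powers x) R hπP hdisj
      rw [Ideal.map_span, Set.image_singleton] at hpR hcm
      have hπ0 : algebraMap A R π ≠ 0 :=
        (map_ne_zero_iff _ (IsLocalization.injective R hM)).2 hπ.ne_zero
      refine EtPunctLib.dvd_of_mem_inB R L n (algebraMap A R π) (algebraMap A R w) e
        ((Ideal.span_singleton_prime hπ0).1 hpR) (fun hd => hπw ?_) ?_ haB
      · exact Ideal.mem_span_singleton.1 (hcm.le (Ideal.mem_span_singleton.2 hd))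
      · rw [hae, IsScalarTower.algebraMap_apply A R L, map_mul (algebraMap A R), map_pow (algebraMap A R)]
  · rcases Int.eq_nat_or_neg k with ⟨m, rfl | rfl⟩
    · rw [zpow_natCast] at hkb
      exact Int.natCast_dvd_natCast.2 (EtPunctLib.not_pow_eq_pow hxp h0 m (b : L)
        (by rw [← hxL, ← Units.val_pow_eq_pow_val, ← Units.val_pow_eq_pow_val, hkb]))
    · rw [zpow_neg, zpow_natCast, inv_eq_iff_eq_inv, ← inv_pow] at hkb
      exact dvd_neg.2 (Int.natCast_dvd_natCast.2 (EtPunctLib.not_pow_eq_pow hxp h0 m ((b⁻¹ : Lˣ) : L)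
        (by rw [← hxL, ← Units.val_pow_eq_pow_val, ← Units.val_pow_eq_pow_val, hkb])))

end Groth.Agent.S3103
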