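import Groth.Statements.S3109
import Groth.Agent.EtPurEqLib.Zero
import Groth.Agent.EtPurEqLib.Restr
import Groth.Agent.CplExcLib.J2

set_option backward.isDefEq.respectTransparency false
set_option backward.isDefEq.respectTransparency.types false
set_option synthInstance.maxHeartbeats 400000
set_option maxHeartbeats 1600000

set_option autoImplicit false
universe u
open CategoryTheory CategoryTheory.Limits AlgebraicGeometry Opposite
open EtDual

namespace Groth.Agent.S3109

/-- Let k be a perfect field, X a regular scheme locally of finite type over k, Y a regular closed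
subscheme of X (i : Y -> X) of codimension c at every point of Y (dim O_{X,i(y)} = dim O_{Y,y} + c),
j : U -> X the open immersion of the complement, and n nonzero in k. Then the local cohomology
sheaves H^q_Y(X, Z/n) vanish for q ≠ 2c and H^{2c}_Y(X, Z/n) is, on the members of an etale covering
of X, isomorphic to i_* of the constant sheaf Z/n on Y. -/
theorem result (k : Type u) [Field k] [PerfectField k]
    {X Y U : Scheme.{u}} (f : X ⟶ Spec (CommRingCat.of k)) [LocallyOfFiniteType f] (i : Y ⟶ X)
    [IsClosedImmersion i] (c : ℕ)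
    (hXreg : ∀ x : X, IsRegularLocalRing (X.presheaf.stalk x))
    (hYreg : ∀ y : Y, IsRegularLocalRing (Y.presheaf.stalk y))
    (hcodim : ∀ y : Y, ringKrullDim (X.presheaf.stalk (i.base y)) = ringKrullDim (Y.presheaf.stalk y) + c)
    (j : U ⟶ X) [IsOpenImmersion j]
    (hU : Set.range j = (Set.range i)ᶜ) [EtCoh.BCCont j] [EtCoh.BCCont i]
    (n : ℕ) (hn : (n : k) ≠ 0) :
    (∀ q : ℕ, q ≠ 2 * c → IsZero ((EtDual.locCoh j q).obj (EtCoh.const X (ZMod n)))) ∧
      ∃ (ι : Type u) (V : ι → X.Etale), EtCoh.Covers V ∧ ∀ a : ι,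
        Nonempty (EtCoh.restr ((EtDual.locCoh j (2 * c)).obj (EtCoh.const X (ZMod n))) (V a) ≅
          EtCoh.restr ((EtCoh.push i).obj (EtCoh.const Y (ZMod n))) (V a)) := by
  haveI : IsLocallyNoetherian (Spec (CommRingCat.of k)) := inferInstance
  haveI : IsLocallyNoetherian X := LocallyOfFiniteType.isLocallyNoetherian f
  haveI : IsAdicComplete (IsLocalRing.maximalIdeal k) k := by
    rw [IsLocalRing.maximalIdeal_eq_bot]; infer_instance
  have hJ2 : ∀ V : X.affineOpens, EGA4.IsJ2 Γ(X, V.1) := fun V => by
    let φ := Spec.preimage (V.2.fromSpec ≫ f)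
    letI : Algebra k Γ(X, V.1) := φ.hom.toAlgebra
    haveI : Algebra.FiniteType k Γ(X, V.1) := by
      show φ.hom.FiniteType
      refine (HasRingHomProperty.Spec_iff (P := @LocallyOfFiniteType)).1 ?_
      rw [Spec.map_preimage]
      infer_instance
    exact GRingLib.isJ2_of_finiteType k _ (CplExcLib.isJ2_of_complete k)
  refine ⟨fun q hq => ?_, ?_⟩
  · rcases Nat.eq_zero_or_pos c with rfl | hc
    · obtain ⟨p, rfl⟩ : ∃ p, q = p + 1 := ⟨q - 1, by omega⟩
      exact EtPurEqLib.isZero_locCoh_zero i hXreg hYreg j hU (fun y => by simpa using hcodim y) _ p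
    · exact EtPurEqLib.isZero_locCoh k f hXreg i hYreg j hU c hcodim hc n hn q hq
  · choose X' g hg x' hx' e using EtPurEqLib.local_top k f hXreg hJ2 i hYreg j hU c hcodim n hn
    refine ⟨X, fun x => MorphismProperty.Over.mk ⊤ (g x) (hg x), fun x => ⟨x, x' x, hx' x⟩, fun x => ?_⟩
    haveI : AlgebraicGeometry.Etale (MorphismProperty.Over.mk ⊤ (g x) (hg x) : X.Etale).hom := hg x
    exact EtPurEqLib.nonempty_restr_iso _ (e x)

end Groth.Agent.S3109
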