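import Groth.Statements.S3111
import Groth.Agent.S0185
import Groth.Agent.EtShLib.ExtComp
import Groth.Agent.EtShLib.JContAll

set_option linter.style.haveILetI false
set_option backward.isDefEq.respectTransparency false
set_option backward.isDefEq.respectTransparency.types false
set_option maxHeartbeats 1000000

set_option autoImplicit false
universe u
open CategoryTheory CategoryTheory.Limits AlgebraicGeometry Opposite
open EtDual

namespace Groth.Agent.S3111

/-- Let k be a separably closed field, P proper over k, j : X -> P an open immersion (so X is separated
of finite type over k and compactifiable), and F a constructible abelian sheaf on the small etale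
site of X killed by some n > 0. Then for every q the group H^q(P, j_! F), which is the cohomology
with proper support H^q_c(X, F), is finite. -/
theorem result {k : Type u} [Field k] [IsSepClosed k] {X P : Scheme.{u}}
    (a : P ⟶ Spec (CommRingCat.of k)) [IsProper a] (j : X ⟶ P) [IsOpenImmersion j]
    (n : ℕ) (hn : 0 < n) (F : EtCoh.Ab X) (hF : EtPBC.IsConstructible F) (hFn : EtCoh.KilledBy n F) (q : ℕ) :
    Finite (EtCoh.H P ((EtShriek.extZero j).obj F) q) := by
  haveI : CompactSpace P := QuasiCompact.compactSpace_of_compactSpace a
  haveI : IsLocallyNoetherian P := LocallyOfFiniteType.isLocallyNoetherian a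
  haveI : AlgebraicGeometry.IsNoetherian P := { }
  haveI : IsLocallyNoetherian X := LocallyOfFiniteType.isLocallyNoetherian j
  haveI : TopologicalSpace.NoetherianSpace X := j.isOpenEmbedding.isInducing.noetherianSpace
  haveI : CompactSpace X := TopologicalSpace.NoetherianSpace.compactSpace X
  haveI : QuasiSeparatedSpace X := inferInstance
  haveI : (EtShriek.restrAlong j).Additive := { }
  haveI := (EtShriek.extZeroAdj j).left_adjoint_additive
  refine Groth.Agent.S0185.result P a n hn ((EtShriek.extZero j).obj F) ?_ ?_ q
  · exact (Groth.Agent.EtShLib.isConstructible_iff _).2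
      (Groth.Agent.EtShLib.isCons_extZero_cons (f := j) ((Groth.Agent.EtShLib.isConstructible_iff F).1 hF))
  · refine (ConsFiniteLib.killedBy_iff n _).2 ?_
    rw [← CategoryTheory.Functor.map_id, ← Functor.map_nsmul, (ConsFiniteLib.killedBy_iff n F).1 hFn,
      Functor.map_zero]

end Groth.Agent.S3111
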