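import Groth.Statements.S3117
import Groth.Agent.EtSmAcycLib.AffSpace

set_option autoImplicit false
set_option backward.isDefEq.respectTransparency false
set_option backward.isDefEq.respectTransparency.types false
set_option maxHeartbeats 1000000
set_option synthInstance.maxHeartbeats 400000
universe u
open CategoryTheory CategoryTheory.Limits AlgebraicGeometry Opposite
open EtPBC

namespace Groth.Agent.S3117

/-- Acyclicity of affine space, abelian form: let Y be a scheme, g : 𝔸^m_Y → Y the structure morphism of
affine m-space, n an integer invertible on Y and F an abelian sheaf on the small étale site of Y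
killed by n. Then the unit F → g_* g^* F is an isomorphism and R^q g_* (g^* F) = 0 for every q > 0.
(The published statement gives acyclicity for all torsion sheaves of orders prime to the residue
characteristics, and also 1-asphericity for sheaves of groups; only the form above is stated here.) -/
theorem result (Y : Scheme.{u}) (m : ℕ) [EtCoh.BCCont (𝔸(ULift.{u} (Fin m); Y) ↘ Y)]
    (n : ℕ) (hn : IsUnit (n : Γ(Y, ⊤))) (F : EtCoh.Ab Y) (hF : EtCoh.KilledBy n F) :
    IsIso ((EtCoh.pullPushAdj (𝔸(ULift.{u} (Fin m); Y) ↘ Y)).unit.app F) ∧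
      ∀ q : ℕ, 0 < q → IsZero ((EtCoh.Rpush (𝔸(ULift.{u} (Fin m); Y) ↘ Y) q).obj ((EtCoh.pull (𝔸(ULift.{u} (Fin m); Y) ↘ Y)).obj F)) := by
  let g := 𝔸(ULift.{u} (Fin m); Y) ↘ Y
  rcases Nat.lt_or_ge 1 n with hn1 | hn1
  · have hn0 : 0 < n := by omega
    have hL : LocAcycPointLib.primesOf n ⊆ EtAcyc.primesInvertibleOn Y := fun p hp =>
      (EtSmAcycLib.primesIn_invertible (𝟙 Y) hn hn0).2 p hp.1 hp.2
    have hne := LocAcycPointLib.exists_prime hn1
    have hF' : EtAcyc.IsLTorsion (LocAcycPointLib.primesOf n) F := fun U s x =>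
      ⟨U, 𝟙 U, n, ⟨x, rfl⟩, LocAcycPointLib.primesIn_self hn0, hF U _⟩
    have hacyc := fun k => EtSmAcycLib.isAcyclicN_affineSpace Y (ULift.{u} (Fin m)) _ hL hne k
    exact ⟨(LocAcycPointLib.unit_iso_and_Rpush_vanish g (hacyc 0) hF').1,
      fun q hq => (LocAcycPointLib.unit_iso_and_Rpush_vanish g (hacyc q) hF').2 q hq le_rfl⟩
  · have h0 : IsZero F := by
      have hs : ∀ (U : Y.Etale) (s : EtCoh.sect F U), s = 0 := fun U s => by
        rcases Nat.le_one_iff_eq_zero_or_eq_one.1 hn1 with h | h
        · subst h
          haveI : IsEmpty U.left := ⟨fun x =>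
            EtSmAcycLib.natCast_residueField_ne_zero' hn (U.hom.base x) Nat.cast_zero⟩
          haveI := Groth.Agent.EtShLib.subsingleton_sect_of_isEmpty F U
          exact Subsingleton.elim _ _
        · subst h
          exact (one_nsmul s).symm.trans (hF U s)
      rw [IsZero.iff_id_eq_zero]
      refine Sheaf.hom_ext (NatTrans.ext (funext fun U => ?_))
      ext s
      exact hs U.unop s
    haveI : (EtCoh.pull g).Additive := (EtCoh.pullPushAdj g).left_adjoint_additive
    haveI : (EtCoh.push g).Additive := { }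
    exact ⟨⟨0, h0.eq_of_src _ _, (Functor.map_isZero (EtCoh.push g) (Functor.map_isZero (EtCoh.pull g) h0)).eq_of_src _ _⟩,
      fun q _ => Functor.map_isZero (EtCoh.Rpush g q) (Functor.map_isZero (EtCoh.pull g) h0)⟩

end Groth.Agent.S3117
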