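import Groth.Statements.S3121
import Groth.Agent.PunctHensLib.Main
import Groth.Agent.MuConstLib.Main
import Groth.Agent.AzInvLib.Local
import Groth.Agent.EtPBCProperLib.Surj2
-- import your own Groth.Agent.* helpers here

set_option autoImplicit false
universe u
open CategoryTheory CategoryTheory.Limits AlgebraicGeometry Opposite
open EtDual

namespace Groth.Agent.S3121

/-- Let A be a strictly henselian local ring, P the ideal of A[x] generated by the maximal ideal of A
and x, B a henselization of the local ring A[x]_P (equivalently a strict henselization, the residue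
field being separably closed), y the image of x in B, U = Spec B[1/y], and n an integer invertible
in A. Then H^1(U, mu_n) is isomorphic to Z/n and H^q(U, mu_n) = 0 for all q ≥ 2. (The source also
gives H^0(U, mu_n) = mu_n(A).) -/
theorem result (A : Type u) [CommRing A] [IsLocalRing A]
    (hA : EtCoh.IsStrictlyHenselianLocalRing A) (P : Ideal (Polynomial A)) [P.IsMaximal]
    (hP : P = (IsLocalRing.maximalIdeal A).map Polynomial.C ⊔ Ideal.span {Polynomial.X})
    (B : Type u) [CommRing B] [IsLocalRing B] [Algebra (Localization.AtPrime P) B]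
    [IsLocalHom (algebraMap (Localization.AtPrime P) B)] [Hensel.IsHenselization (Localization.AtPrime P) B]
    (n : ℕ) (hn : IsUnit (n : A)) :
    Nonempty (EtCoh.H (Spec (CommRingCat.of (Localization.Away
        (algebraMap (Localization.AtPrime P) B (algebraMap (Polynomial A) (Localization.AtPrime P) Polynomial.X)))))
      (EtCoh.mu (Spec (CommRingCat.of (Localization.Away
        (algebraMap (Localization.AtPrime P) B (algebraMap (Polynomial A) (Localization.AtPrime P) Polynomial.X))))) n) 1 ≃+
      ZMod n) ∧
    ∀ q : ℕ, 2 ≤ q → Subsingleton (EtCoh.H (Spec (CommRingCat.of (Localization.Away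
        (algebraMap (Localization.AtPrime P) B (algebraMap (Polynomial A) (Localization.AtPrime P) Polynomial.X)))))
      (EtCoh.mu (Spec (CommRingCat.of (Localization.Away
        (algebraMap (Localization.AtPrime P) B (algebraMap (Polynomial A) (Localization.AtPrime P) Polynomial.X))))) n) q) := by
  obtain ⟨hA1, hA2⟩ := hA
  haveI := hA1
  haveI := hA2
  let L := Localization.AtPrime P
  haveI : HenselianLocalRing B := Hensel.IsHenselization.henselian (R := L)
  letI : Algebra (Polynomial A) B := ((algebraMap L B).comp (algebraMap (Polynomial A) L)).toAlgebra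
  haveI : IsScalarTower (Polynomial A) L B := IsScalarTower.of_algebraMap_eq' rfl
  haveI : Algebra.WeaklyEtale (Polynomial A) L := EtRpushStalkLib.weaklyEtale_localization P.primeCompl L
  haveI : Algebra.WeaklyEtale L B := Groth.Agent.S0736.result L B (Groth.Agent.S12236.result L B)
  haveI : Algebra.WeaklyEtale (Polynomial A) B := Algebra.WeaklyEtale.trans (Polynomial A) L B
  have hP' : P = (IsLocalRing.maximalIdeal A).comap (Polynomial.evalRingHom (0 : A)) := by
    refine Ideal.IsMaximal.eq_of_le inferInstance (Ideal.IsPrime.comap _).ne_top ?_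
    rw [hP, sup_le_iff, Ideal.map_le_iff_le_comap, Ideal.span_le, Set.singleton_subset_iff]
    exact ⟨fun a ha => by simpa using ha, by simp⟩
  have hB : (IsLocalRing.maximalIdeal B).comap (algebraMap (Polynomial A) B) =
      (IsLocalRing.maximalIdeal A).comap (Polynomial.evalRingHom (0 : A)) := by
    rw [← hP']
    show (IsLocalRing.maximalIdeal B).comap ((algebraMap L B).comp (algebraMap (Polynomial A) L)) = P
    rw [← Ideal.comap_comap, IsLocalRing.maximalIdeal_comap]
    exact IsLocalization.AtPrime.comap_maximalIdeal _ P
  -- the residue fields agree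
  have hsurj : Function.Surjective
      (((IsLocalRing.residue B).comp (algebraMap (Polynomial A) B)).comp Polynomial.C) := by
    intro z
    obtain ⟨l, rfl⟩ := PunctHensLib.residue_surjective_henselization L B z
    obtain ⟨f, s, rfl⟩ := IsLocalization.exists_mk'_eq P.primeCompl l
    have hs : (Polynomial.eval 0 (s : Polynomial A)) ∉ IsLocalRing.maximalIdeal A := fun h =>
      s.2 (hP'.ge h)
    obtain ⟨u, hu⟩ := IsLocalRing.notMem_maximalIdeal.1 hs
    let φ := (IsLocalRing.residue B).comp (algebraMap (Polynomial A) B)
    have key : ∀ g : Polynomial A, φ g = φ (Polynomial.C (Polynomial.eval 0 g)) := fun g => by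
      rw [← sub_eq_zero, ← map_sub]
      show IsLocalRing.residue B (algebraMap _ B _) = 0
      rw [IsLocalRing.residue_eq_zero_iff, ← Ideal.mem_comap, hB, Ideal.mem_comap]
      simp
    refine ⟨Polynomial.eval 0 f * ↑u⁻¹, ?_⟩
    have h1 : ((IsLocalRing.residue B).comp (algebraMap L B)) (IsLocalization.mk' L f s) * φ (s : Polynomial A) = φ f := by
      show IsLocalRing.residue B (algebraMap L B _) *
        IsLocalRing.residue B (algebraMap L B (algebraMap (Polynomial A) L _)) =
        IsLocalRing.residue B (algebraMap L B (algebraMap (Polynomial A) L f))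
      rw [← map_mul, ← map_mul, IsLocalization.mk'_spec]
    have h2 : IsUnit (φ (Polynomial.C (Polynomial.eval 0 (s : Polynomial A)))) := by
      rw [← hu]; exact (u.isUnit.map Polynomial.C).map φ
    apply h2.mul_right_cancel
    rw [key f, key (s : Polynomial A)] at h1
    show φ (Polynomial.C (Polynomial.eval 0 f * ↑u⁻¹)) * φ (Polynomial.C (Polynomial.eval 0 (s : Polynomial A))) = _
    rw [← map_mul, ← Polynomial.C_mul, ← hu, mul_assoc, Units.inv_mul, mul_one]
    rw [← hu] at h1
    exact h1.symm
  haveI : IsSepClosed (IsLocalRing.ResidueField B) := by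
    haveI : IsLocalHom ((algebraMap (Polynomial A) B).comp Polynomial.C) := ⟨fun a ha => by
      rw [← IsLocalRing.notMem_maximalIdeal] at ha ⊢
      intro h
      refine ha ?_
      show algebraMap (Polynomial A) B (Polynomial.C a) ∈ IsLocalRing.maximalIdeal B
      rw [← Ideal.mem_comap, hB, Ideal.mem_comap]
      simpa using h⟩
    have hb : Function.Bijective (IsLocalRing.ResidueField.map ((algebraMap (Polynomial A) B).comp Polynomial.C)) :=
      ⟨RingHom.injective _, fun z => by
        obtain ⟨a, rfl⟩ := hsurj z
        exact ⟨IsLocalRing.residue A a, rfl⟩⟩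
    exact AzInvLib.isSepClosed_of_ringEquiv (RingEquiv.ofBijective _ hb)
  have hn0 := PunctHensLib.pos A n hn
  haveI : NeZero n := ⟨hn0.ne'⟩
  obtain ⟨ζ, hζ⟩ := EtPBCProperLib.exists_root_cyclotomic A n hn
  let By := Localization.Away (algebraMap (Localization.AtPrime P) B (algebraMap (Polynomial A) (Localization.AtPrime P) Polynomial.X))
  let g : A →+* Γ(Spec (CommRingCat.of By), ⊤) :=
    (Scheme.ΓSpecIso (CommRingCat.of By)).inv.hom.comp
      ((algebraMap B By).comp ((algebraMap (Polynomial A) B).comp Polynomial.C))
  obtain ⟨eμ⟩ := MuConstLib.mu_iso_const (Spec (CommRingCat.of By)) n hn0 (by simpa using hn.map g) (g ζ)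
    (MuConstLib.aeval_map g hζ)
  let E : ∀ q, EtCoh.H (Spec (CommRingCat.of By)) (EtCoh.mu (Spec (CommRingCat.of By)) n) q ≃+
      EtCoh.H (Spec (CommRingCat.of By)) (EtCoh.const (Spec (CommRingCat.of By)) (ZMod n)) q := fun q =>
    ((EtCoh.HF _ q).mapIso eμ).addCommGroupIsoToAddEquiv
  obtain ⟨⟨e1⟩, h2⟩ := PunctHensLib.cohomology_punct A n hn B hB
  exact ⟨⟨(E 1).trans e1⟩, fun q hq => @Function.Injective.subsingleton _ _ _ (E q).injective (h2 q hq)⟩

end Groth.Agent.S3121
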