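import Groth.Statements.S3126
import Groth.Agent.LocAcycPointLib.Main
import Groth.Agent.LocAcycPointLib.Unit

set_option autoImplicit false
universe u
open CategoryTheory CategoryTheory.Limits AlgebraicGeometry
open SGA4h

namespace Groth.Agent.S3126

/-- Let A be a strictly henselian Noetherian local ring, S = Spec A, n an integer invertible in A and f
: X → S a morphism which is locally acyclic (in the sense of vanishing cycles for ℤ/n-coefficients
prime to the residue characteristics), quasi-compact and quasi-separated (the last two are assumed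
here in addition to the published hypotheses). Assume that every geometric fibre X_t of f has
H^0(X_t, ℤ/n) ≅ ℤ/n and H^q(X_t, ℤ/n) = 0 for q > 0. Then the unit ℤ/n → f_* f^* ℤ/n is an
isomorphism and R^q f_* (ℤ/n) = 0 for q > 0. (Local acyclicity and the fibre hypothesis are stated
for all separably closed fields Ω, a priori more than algebraic geometric points; as hypotheses this
only weakens the statement.) -/
theorem result {X : Scheme.{u}} (A : Type u) [CommRing A] [IsNoetherianRing A]
    (hA : EtCoh.IsStrictlyHenselianLocalRing A) (n : ℕ) (hn : IsUnit (n : A)) (f : X ⟶ Spec (CommRingCat.of A))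
    [QuasiCompact f] [QuasiSeparated f] (hf : EtRest.IsLocallyAcyclic f)
    (hfib : ∀ (Ω : Type u) [Field Ω] [IsSepClosed Ω] (t : Spec (CommRingCat.of Ω) ⟶ Spec (CommRingCat.of A)),
      Nonempty (EtCoh.H (pullback f t) (EtCoh.const (pullback f t) (ZMod n)) 0 ≃+ ZMod n) ∧
      ∀ q : ℕ, 0 < q → Subsingleton (EtCoh.H (pullback f t) (EtCoh.const (pullback f t) (ZMod n)) q)) :
    IsIso ((EtCoh.pullPushAdj f).unit.app (EtCoh.const (Spec (CommRingCat.of A)) (ZMod n))) ∧
    ∀ q : ℕ, 0 < q → IsZero ((EtCoh.Rpush f q).obj (EtCoh.const X (ZMod n))) := by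
  obtain ⟨hh, -⟩ := hA
  haveI := hh
  have hu : IsUnit (n : Γ(Spec (CommRingCat.of A), ⊤)) := by
    have h := hn.map (Scheme.ΓSpecIso (CommRingCat.of A)).inv.hom
    rwa [map_natCast] at h
  let F := EtCoh.const (Spec (CommRingCat.of A)) (ZMod n)
  let ε := EtCore.pullConst f (ZMod n)
  haveI : (EtCoh.pull f).Additive := (EtCoh.pullPushAdj f).left_adjoint_additive
  suffices key : IsIso ((EtCoh.pullPushAdj f).unit.app F) ∧
      ∀ q : ℕ, 0 < q → IsZero ((EtCoh.Rpush f q).obj ((EtCoh.pull f).obj F)) by
    exact ⟨key.1, fun q hq => (key.2 q hq).of_iso ((EtCoh.Rpush f q).mapIso ε.symm)⟩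
  rcases Nat.lt_or_ge 1 n with hn1 | hn1
  · have hacyc : ∀ k, EtAcyc.IsAcyclicN f (LocAcycPointLib.primesOf n) k := fun k =>
      LocAcycPointLib.bijective_Hpull_of_acyclic f hn1
        (fun j => LocAcycPointLib.isLocAcyclicN_of_isLocallyAcyclic hf hn1
          (LocAcycPointLib.natCast_residueField_ne_zero f hu) j)
        (fun j y Ω _ _ _ _ => by
          obtain ⟨⟨e⟩, hq⟩ := hfib Ω (EtAcyc.geomPt _ y Ω)
          exact LocAcycPointLib.acyclicScheme_of_modulus n _ hn1 e hq j) k
    have hF : EtAcyc.IsLTorsion (LocAcycPointLib.primesOf n) F :=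
      LocAcycPointLib.isLTorsion_const (LocAcycPointLib.primesIn_self (by omega))
    exact ⟨(LocAcycPointLib.unit_iso_and_Rpush_vanish f (hacyc 0) hF).1,
      fun q hq => (LocAcycPointLib.unit_iso_and_Rpush_vanish f (hacyc q) hF).2 q hq le_rfl⟩
  · have hn' : n = 1 := by
      rcases Nat.le_one_iff_eq_zero_or_eq_one.1 hn1 with h | h
      · exact absurd (h ▸ hn : IsUnit ((0 : ℕ) : A)) (by simp)
      · exact h
    subst hn'
    have hz : IsZero F := by
      refine (ConstHLib.cS _).map_isZero ?_
      haveI : Subsingleton (ZMod 1) := inferInstance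
      exact AddCommGrpCat.isZero_of_subsingleton _
    haveI : (EtCoh.push f).Additive := (EtCoh.pullPushAdj f).right_adjoint_additive
    exact ⟨⟨0, hz.eq_of_src _ _, ((EtCoh.push f).map_isZero ((EtCoh.pull f).map_isZero hz)).eq_of_src _ _⟩,
      fun q _ => (EtCoh.Rpush f q).map_isZero ((EtCoh.pull f).map_isZero hz)⟩

end Groth.Agent.S3126
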