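import Groth.Statements.S3127
import Groth.Agent.EtLimSmoothLib.Rest

set_option autoImplicit false
universe u
open CategoryTheory CategoryTheory.Limits AlgebraicGeometry
open SGA4h

namespace Groth.Agent.S3127

/-- Let f : X -> Y and g : Y -> Z be morphisms of locally noetherian schemes. If f and g are locally
acyclic (for ℤ/n-coefficients prime to the residue characteristics) then so is g ∘ f. (The notion of
local acyclicity used here quantifies over all separably closed fields Ω, not only over algebraic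
geometric points; the published statement is phrased for geometric points.) -/
theorem result {X Y Z : Scheme.{u}} [IsLocallyNoetherian X] [IsLocallyNoetherian Y] [IsLocallyNoetherian Z]
    (f : X ⟶ Y) (g : Y ⟶ Z) (hf : EtRest.IsLocallyAcyclic f) (hg : EtRest.IsLocallyAcyclic g) :
    EtRest.IsLocallyAcyclic (f ≫ g) := by
  intro x RZ RX _ _ _ _ _ _ hZ _ _ hX _ _ hc Ω _ _ _ n hn
  have hn0 : n ≠ 0 := fun h => hn (by rw [h, Nat.cast_zero])
  by_cases hn1 : n = 1
  · subst hn1
    have h0 : ∀ q, Subsingleton (EtCoh.H (Spec (CommRingCat.of (EtRest.vcRing RZ RX Ω)))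
        (EtCoh.const (Spec (CommRingCat.of (EtRest.vcRing RZ RX Ω))) (ZMod 1)) q) := fun q =>
      EtLimSmoothLib.subsingleton_H_of_primes q 1 one_pos fun l hl hd => absurd hd hl.not_dvd_one
    haveI := h0 0
    haveI : Subsingleton (ZMod 1) := inferInstanceAs (Subsingleton (Fin 1))
    exact ⟨fun q _ => h0 q, ⟨AddEquiv.mk ⟨fun _ => 0, fun _ => 0, fun a => Subsingleton.elim _ _, fun a => Subsingleton.elim _ _⟩
      (fun _ _ => Subsingleton.elim _ _)⟩⟩
  have hn' : 1 < n := by omega
  let U : Z.Opens := Z.basicOpen (n : Γ(Z, ⊤))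
  have hkey : (n : Z.residueField ((f ≫ g).base x)) ≠ 0 := fun h => hn (by
    have h' := congrArg ((f ≫ g).residueFieldMap x).hom h
    rwa [map_natCast, map_zero] at h')
  have hmem : (f ≫ g).base x ∈ U :=
    (Scheme.evaluation_ne_zero_iff_mem_basicOpen Z (U := ⊤) ((f ≫ g).base x) trivial (n : Γ(Z, ⊤))).1 (by
      rw [map_natCast]; exact hkey)
  have hUu : IsUnit (n : Γ(U.toScheme, ⊤)) := by
    have h1 := RingedSpace.isUnit_res_basicOpen Z.toRingedSpace (n : Γ(Z, ⊤))
    rw [map_natCast] at h1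
    have h2 := h1.map U.topIso.inv.hom
    rwa [map_natCast] at h2
  let g' := pullback.snd g U.ι
  let f' := pullback.snd f (pullback.fst g U.ι)
  have hg' : EtRest.IsLocallyAcyclic g' := Groth.Agent.S0761.result g U.ι hg
  have hf' : EtRest.IsLocallyAcyclic f' := Groth.Agent.S0761.result f (pullback.fst g U.ι) hf
  let L := LocAcycPointLib.primesOf n
  have hA : ∀ k, EtAcyc.IsLocAcyclicN (pullback.fst f (pullback.fst g U.ι) ≫ f ≫ g) L k := fun k => by
    have hι : EtAcyc.IsLocAcyclicN U.ι L k := by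
      refine EtSmAcycLib.isLocAcyclicN_mono U.ι (L' := EtAcyc.primesInvertibleOn U.toScheme) (fun l hl => ⟨hl.1, fun u hu => ?_⟩) k
        (EtSmAcycLib.isLocAcyclic_of_smooth U.ι k)
      obtain ⟨c, hc⟩ := hl.2
      refine LocAcycPointLib.natCast_residueField_ne_zero (𝟙 U.toScheme) hUu u ?_
      rw [hc, Nat.cast_mul, hu, zero_mul]
    rw [pullback.condition_assoc, pullback.condition]
    exact EtSmAcycLib.isLocAcyclicN_comp _ _ L k
      (LocAcycPointLib.isLocAcyclicN_of_isLocallyAcyclic hf' hn'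
        (LocAcycPointLib.natCast_residueField_ne_zero (f' ≫ g') hUu) k)
      (EtSmAcycLib.isLocAcyclicN_comp _ _ L k
        (LocAcycPointLib.isLocAcyclicN_of_isLocallyAcyclic hg' hn'
          (LocAcycPointLib.natCast_residueField_ne_zero g' hUu) k) hι)
  obtain ⟨t, ht⟩ : ∃ t, (pullback.fst f (pullback.fst g U.ι)).base t = x := by
    obtain ⟨y, hy1, -⟩ := Scheme.Pullback.exists_preimage_pullback (f := g) (g := U.ι) (f.base x) ⟨_, hmem⟩ rfl
    obtain ⟨t, ht, -⟩ := Scheme.Pullback.exists_preimage_pullback (f := f) (g := pullback.fst g U.ι) x y hy1.symm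
    exact ⟨t, ht⟩
  subst ht
  have hu : IsUnit (n : RZ) := by
    have hres : (n : IsLocalRing.ResidueField (Z.presheaf.stalk ((f ≫ g).base _))) ≠ 0 := hkey
    rw [← map_natCast (IsLocalRing.residue _)] at hres
    have h1 := (IsLocalRing.residue_ne_zero_iff_isUnit _).1 hres
    have h2 := h1.map (algebraMap (Z.presheaf.stalk _) RZ)
    erw [map_natCast] at h2
    exact h2
  have h := fun q => EtLimSmoothLib.point_of_acyclic hn'
    (fun k => EtLimSmoothLib.acyclicN_at_of_open (pullback.fst f (pullback.fst g U.ι)) (f ≫ g) (hA k) t RZ RX hc) hu Ω q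
  exact ⟨fun q hq => by obtain ⟨j, rfl⟩ : ∃ j, q = j + 1 := ⟨q - 1, by omega⟩; exact (h j).1, (h 0).2⟩

end Groth.Agent.S3127
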