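import Groth.Statements.S3129
import Mathlib.NumberTheory.GaussSum
import Mathlib.Data.Fintype.BigOperators

set_option autoImplicit false
open BigOperators
open SGA4h

namespace Groth.Agent.S3129

/-- Let F be a finite field with q elements, N ≥ 1, χ₀, …, χ_N multiplicative characters of F with
values in a domain, not all trivial and with product 1, and Ψ a nontrivial additive character of F.
Put τ(χ, Ψ) = −Σ_{x ∈ F} Ψ(x) χ⁻¹(x) and J(χ) = (−1)^{N−1} Σ χ₁⁻¹(x₁) ⋯ χ_N⁻¹(x_N), the sum over x₁,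
…, x_N ∈ F^* with x₁ + ⋯ + x_N = −1. Then q · J(χ) = τ(χ₀, Ψ) ⋯ τ(χ_N, Ψ). -/
theorem result (F : Type) [Field F] [Fintype F] [DecidableEq F] (R : Type) [CommRing R] [IsDomain R]
    (N : ℕ) (hN : 1 ≤ N) (χ : Fin (N + 1) → MulChar F R) (hprod : ∏ i, χ i = 1) (hnt : ∃ i, χ i ≠ 1)
    (Ψ : AddChar F R) (hΨ : Ψ ≠ 1) :
    (Fintype.card F : R) * ((-1) ^ (N - 1) *
        ∑ x ∈ (Finset.univ : Finset (Fin N → Fˣ)).filter (fun x => ∑ i, ((x i : Fˣ) : F) = -1),
          ∏ i : Fin N, (χ i.succ)⁻¹ ((x i : Fˣ) : F)) =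
      ∏ i : Fin (N + 1), (-(∑ y : F, Ψ y * (χ i)⁻¹ y)) := by
  classical
  let P : (Fin N → Fˣ) → R := fun x => ∏ i : Fin N, (χ i.succ)⁻¹ ((x i : Fˣ) : F)
  have hunits : ∀ i, (∑ y : F, Ψ y * (χ i)⁻¹ y) = ∑ u : Fˣ, Ψ (u : F) * (χ i)⁻¹ (u : F) := fun i => by
    refine (Finset.sum_of_injOn (fun u : Fˣ => (u : F)) Units.val_injective.injOn (by simp) ?_ (fun u _ => rfl)).symm
    intro y _ hy
    rw [MulChar.map_nonunit _ (fun hu => hy ⟨hu.unit, by simp⟩), mul_zero]
  have hsum0 : ∑ x : Fin N → Fˣ, P x = 0 := by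
    have h1 : ∑ x : Fin N → Fˣ, P x = ∏ i : Fin N, ∑ u : Fˣ, (χ i.succ)⁻¹ (u : F) := by
      rw [Finset.prod_univ_sum, Fintype.piFinset_univ]
    obtain ⟨i, hi⟩ : ∃ i : Fin N, χ i.succ ≠ 1 := by
      by_contra hne
      push_neg at hne
      obtain ⟨i, hi⟩ := hnt
      rw [Fin.prod_univ_succ, Finset.prod_eq_one (fun j _ => hne j), mul_one] at hprod
      rcases Fin.eq_zero_or_eq_succ i with rfl | ⟨j, rfl⟩
      · exact hi hprod
      · exact hi (hne j)
    rw [h1]
    refine Finset.prod_eq_zero (Finset.mem_univ i) ?_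
    have h2 : ∑ y : F, (χ i.succ)⁻¹ y = 0 := MulChar.sum_eq_zero_of_ne_one (inv_ne_one.2 hi)
    rw [← h2]
    refine Finset.sum_of_injOn (fun u : Fˣ => (u : F)) Units.val_injective.injOn (by simp) ?_ (fun u _ => rfl)
    intro y _ hy
    exact MulChar.map_nonunit _ (fun hu => hy ⟨hu.unit, by simp⟩)
  have hinner : ∀ s : F, ∑ t : Fˣ, Ψ ((t : F) * s) = (if s = 0 then (Fintype.card F : R) else 0) - 1 := fun s => by
    have h1 : ∑ y : F, Ψ (y * s) = if s = 0 then (Fintype.card F : R) else 0 := by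
      split_ifs with h
      · simp [h]
      · rw [← AddChar.sum_eq_zero_of_ne_one hΨ]
        exact Fintype.sum_equiv (Equiv.mulRight₀ s h) _ _ (fun y => rfl)
    rw [← h1, ← Finset.add_sum_erase _ _ (Finset.mem_univ (0 : F)), zero_mul, AddChar.map_zero_eq_one,
      add_sub_cancel_left]
    refine Finset.sum_of_injOn (fun u : Fˣ => (u : F)) Units.val_injective.injOn
      (fun u _ => Finset.mem_coe.2 (Finset.mem_erase.2 ⟨u.ne_zero, Finset.mem_univ _⟩)) ?_ (fun u _ => rfl)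
    intro y hy hy'
    exact absurd ⟨Units.mk0 y (Finset.ne_of_mem_erase hy), by simp⟩ hy'
  have hchi : ∀ t : Fˣ, ∏ i, (χ i)⁻¹ (t : F) = 1 := fun t => by
    have : ∀ s : Finset (Fin (N + 1)), (∏ i ∈ s, χ i) ((t⁻¹ : Fˣ) : F) = ∏ i ∈ s, χ i ((t⁻¹ : Fˣ) : F) := fun s => by
      induction s using Finset.induction with
      | empty => rw [Finset.prod_empty, Finset.prod_empty, MulChar.one_apply_coe]
      | insert a s ha ih => rw [Finset.prod_insert ha, Finset.prod_insert ha, MulChar.mul_apply, ih]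
    have h1 := this Finset.univ
    rw [hprod, MulChar.one_apply_coe] at h1
    rw [h1]
    refine Finset.prod_congr rfl fun i _ => ?_
    rw [MulChar.inv_apply, Ring.inverse_unit]
  have hΨsum : ∀ (f : Fin (N + 1) → F), Ψ (∑ i, f i) = ∏ i, Ψ (f i) := fun f =>
    map_prod Ψ.toMonoidHom (fun i => Multiplicative.ofAdd (f i)) Finset.univ
  have hmain : ∏ i, ∑ u : Fˣ, Ψ (u : F) * (χ i)⁻¹ (u : F) =
      (Fintype.card F : R) * ∑ x ∈ (Finset.univ : Finset (Fin N → Fˣ)).filter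
        (fun x => ∑ i, ((x i : Fˣ) : F) = -1), P x := by
    rw [Fintype.prod_sum]
    let e : (Fˣ × (Fin N → Fˣ)) ≃ (Fin (N + 1) → Fˣ) :=
      { toFun := fun p => Fin.cons p.1 fun i => p.1 * p.2 i
        invFun := fun y => (y 0, fun i => (y 0)⁻¹ * y i.succ)
        left_inv := fun p => by simp
        right_inv := fun y => by
          funext i
          refine Fin.cases ?_ ?_ i <;> simp }
    rw [← Fintype.sum_equiv e (fun p => P p.2 * Ψ ((p.1 : F) * (1 + ∑ i, ((p.2 i : Fˣ) : F)))) _ ?_,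
      Fintype.sum_prod_type, Finset.sum_comm]
    · simp only [← Finset.mul_sum, hinner, mul_sub, mul_one, Finset.sum_sub_distrib, hsum0, sub_zero]
      rw [Finset.mul_sum, Finset.sum_filter]
      refine Finset.sum_congr rfl fun x _ => ?_
      by_cases hx : ∑ i, ((x i : Fˣ) : F) = -1
      · rw [if_pos hx, if_pos (by rw [hx]; ring), mul_comm]
      · rw [if_neg hx, if_neg (fun h => hx (eq_neg_of_add_eq_zero_right h)), mul_zero]
    · rintro ⟨t, x⟩
      rw [Finset.prod_mul_distrib]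
      have h1 : ∏ i, Ψ ((e (t, x) i : Fˣ) : F) = Ψ ((t : F) * (1 + ∑ i, ((x i : Fˣ) : F))) := by
        rw [← hΨsum, Fin.sum_univ_succ]
        simp [e, mul_add, Finset.mul_sum]
      have h2 : ∏ i, (χ i)⁻¹ ((e (t, x) i : Fˣ) : F) = P x := by
        rw [← mul_one (P x), ← hchi t, Fin.prod_univ_succ, Fin.prod_univ_succ]
        simp [e, P, Finset.prod_mul_distrib]
        ring
      rw [h1, h2, mul_comm]
  simp only [hunits, Finset.prod_neg, Finset.card_univ, Fintype.card_fin, hmain]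
  rw [show (-1 : R) ^ (N + 1) = (-1) ^ (N - 1) by
    rw [show N + 1 = N - 1 + 2 by omega, pow_add, neg_one_sq, mul_one]]
  ring

end Groth.Agent.S3129
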