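import Groth.Statements.S3133
import Mathlib.LinearAlgebra.Matrix.Charpoly.Coeff
import Mathlib.LinearAlgebra.Matrix.Block
import Mathlib.Algebra.Polynomial.Expand

set_option autoImplicit false
open Polynomial
open SGA4h

namespace Groth.Agent.S3133

/-- Let A be a square matrix over a commutative ring and n ≥ 1, and let B be the matrix on n blocks of
the endomorphism (x_1, …, x_n) ↦ (A x_n, x_1, …, x_{n-1}). Then det(1 − B·T) = det(1 − A·Tⁿ), i.e.
the reverse characteristic polynomial of B is that of A expanded by n. -/
theorem result (R : Type) [CommRing R] (m : Type) [Fintype m] [DecidableEq m]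
    (A : Matrix m m R) (n : ℕ) (hn : 1 ≤ n) :
    (Matrix.of fun (p q : Fin n × m) =>
        if p.1.val = 0 then (if q.1.val = n - 1 then A p.2 q.2 else 0)
        else (if q.1.val + 1 = p.1.val ∧ p.2 = q.2 then 1 else 0)).charpolyRev =
      Polynomial.expand R n A.charpolyRev := by
  classical
  set B := (Matrix.of fun (p q : Fin n × m) => if p.1.val = 0 then (if q.1.val = n - 1 then A p.2 q.2 else 0)
    else (if q.1.val + 1 = p.1.val ∧ p.2 = q.2 then (1 : R) else 0)) with hB
  let last : Fin n := ⟨n - 1, by omega⟩
  let M : Matrix (Fin n × m) (Fin n × m) R[X] := 1 - (X : R[X]) • B.map C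
  let U : Matrix (Fin n × m) (Fin n × m) R[X] := 1 + Matrix.of fun p q =>
    if q.1 = last ∧ p.1 ≠ last then (X : R[X]) ^ (p.1.val + 1) * C (A p.2 q.2) else 0
  let lo : Fin n × m → (Fin n)ᵒᵈ := fun p => OrderDual.toDual p.1
  have hU : U.det = 1 := by
    rw [Matrix.BlockTriangular.det (b := fun p : Fin n × m => p.1)]
    · refine Finset.prod_eq_one fun i _ => ?_
      rw [show U.toSquareBlock (fun p : Fin n × m => p.1) i = 1 from ?_, Matrix.det_one]
      refine Matrix.ext fun ⟨p, hp⟩ ⟨q, hq⟩ => ?_
      simp only [Matrix.toSquareBlock_def, Matrix.of_apply, U, Matrix.add_apply]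
      rw [if_neg (fun h => h.2 (by rw [hp, ← hq]; exact h.1)), add_zero]
      simp [Matrix.one_apply, Subtype.ext_iff]
    · intro p q hqp
      change q.1 < p.1 at hqp
      simp only [U, Matrix.add_apply, Matrix.of_apply]
      rw [if_neg (fun (h : q.1 = last ∧ p.1 ≠ last) => absurd (h.1 ▸ hqp : last < p.1) (by
          show ¬ (n - 1 < p.1.val)
          omega)), add_zero, Matrix.one_apply_ne (fun h => hqp.ne (by rw [h]))]
  have hMU : ∀ p q, (M * U) p q = if q.1 = last
      then (if p.1 = last then (1 - (X : R[X]) ^ n • A.map C) p.2 q.2 else 0) else M p q := by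
    intro p q
    simp only [U, mul_add, mul_one, Matrix.add_apply]
    by_cases hq : q.1 = last
    · rw [if_pos hq]
      have hq' : q.1.val = n - 1 := congrArg Fin.val hq
      have hsum : (M * Matrix.of fun p q : Fin n × m =>
          if q.1 = last ∧ p.1 ≠ last then (X : R[X]) ^ (p.1.val + 1) * C (A p.2 q.2) else 0) p q =
          (if p.1 = last then 0 else (X : R[X]) ^ (p.1.val + 1) * C (A p.2 q.2)) -
            X * (if p.1.val = 0 then 0 else X ^ p.1.val * C (A p.2 q.2)) := by
        simp only [M, sub_mul, one_mul, Matrix.smul_mul, Matrix.sub_apply, Matrix.smul_apply, smul_eq_mul,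
          Matrix.of_apply, hq, true_and, ne_eq, ite_not]
        congr 2
        rw [Matrix.mul_apply]
        by_cases hp0 : p.1.val = 0
        · rw [if_pos hp0]
          refine Finset.sum_eq_zero fun s _ => ?_
          simp only [Matrix.map_apply, hB, Matrix.of_apply, if_pos hp0, hq, true_and]
          by_cases hs : s.1 = last
          · rw [if_neg (not_not.2 hs), mul_zero]
          · rw [if_neg (fun h => hs (Fin.ext h)), map_zero, zero_mul]
        · rw [if_neg hp0, Finset.sum_eq_single (⟨⟨p.1.val - 1, by omega⟩, p.2⟩ : Fin n × m) (fun s _ hs => ?_)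
            (fun h => absurd (Finset.mem_univ _) h)]
          · simp only [Matrix.map_apply, hB, Matrix.of_apply, if_neg hp0, hq, true_and]
            have hlast : (⟨p.1.val - 1, by omega⟩ : Fin n) ≠ last := fun h => by
              have h1 : p.1.val - 1 = n - 1 := congrArg Fin.val h
              have h2 := p.1.2
              omega
            simp [hlast, show p.1.val - 1 + 1 = p.1.val by omega]
          · simp only [Matrix.map_apply, hB, Matrix.of_apply, if_neg hp0]
            rw [if_neg (fun h => hs (Prod.ext (Fin.ext (by
              show s.1.val = p.1.val - 1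
              omega)) h.2.symm)), map_zero, zero_mul]
      rw [hsum]
      simp only [M, Matrix.sub_apply, Matrix.smul_apply, Matrix.map_apply, hB, Matrix.of_apply, hq', smul_eq_mul]
      by_cases hp : p.1 = last
      · have hp' : p.1.val = n - 1 := congrArg Fin.val hp
        rw [if_pos hp, if_pos hp, show (1 : Matrix (Fin n × m) (Fin n × m) R[X]) p q = (1 : Matrix m m R[X]) p.2 q.2 by
          simp [Matrix.one_apply, Prod.ext_iff, hp.trans hq.symm]]
        by_cases hn1 : p.1.val = 0
        · rw [if_pos hn1, if_pos hn1, if_pos trivial]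
          simp [show n = 1 by omega]
        · rw [if_neg hn1, if_neg hn1, if_neg (fun h => by omega), map_zero, mul_zero, sub_zero, ← mul_assoc,
            ← pow_succ', hp', show n - 1 + 1 = n by omega]
          ring
      · rw [if_neg hp, if_neg hp, Matrix.one_apply_ne (fun h => hp ((congrArg Prod.fst h).trans hq))]
        by_cases hn1 : p.1.val = 0
        · rw [if_pos hn1, if_pos hn1, if_pos trivial, hn1]
          ring
        · rw [if_neg hn1, if_neg hn1, if_neg (fun h => by omega), map_zero, mul_zero, ← mul_assoc, ← pow_succ']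
          ring
    · rw [if_neg hq, Matrix.mul_apply, Finset.sum_eq_zero (fun s _ => ?_), add_zero]
      rw [Matrix.of_apply, if_neg (fun h => hq h.1), mul_zero]
  have hdet : (M * U).det = (1 - (X : R[X]) ^ n • A.map C).det := by
    rw [Matrix.BlockTriangular.det_fintype (b := lo)]
    · rw [Finset.prod_eq_single (OrderDual.toDual last) (fun i _ hi => ?_) (fun h => absurd (Finset.mem_univ _) h)]
      · let e : m ≃ {p : Fin n × m // lo p = OrderDual.toDual last} :=
          { toFun := fun j => ⟨(last, j), rfl⟩
            invFun := fun p => p.1.2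
            left_inv := fun _ => rfl
            right_inv := fun p => Subtype.ext (Prod.ext (OrderDual.toDual.injective p.2).symm rfl) }
        rw [← Matrix.det_submatrix_equiv_self e]
        congr 1
        refine Matrix.ext fun j k => ?_
        simp [Matrix.toSquareBlock_def, hMU, e]
      · rw [show (M * U).toSquareBlock lo i = 1 from ?_, Matrix.det_one]
        refine Matrix.ext fun ⟨p, hp⟩ ⟨q, hq⟩ => ?_
        have hne : q.1 ≠ last := fun h => hi (by rw [← hq]; exact congrArg OrderDual.toDual h)
        have hpq : p.1 = q.1 := OrderDual.toDual.injective (hp.trans hq.symm)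
        simp only [Matrix.toSquareBlock_def, Matrix.of_apply]
        rw [hMU, if_neg hne]
        simp only [M, Matrix.sub_apply, Matrix.smul_apply, Matrix.map_apply, hB, Matrix.of_apply]
        by_cases hp0 : p.1.val = 0
        · rw [if_pos hp0, if_neg (fun h => hne (Fin.ext h)), map_zero, smul_zero, sub_zero]
          simp [Matrix.one_apply, Subtype.ext_iff]
        · rw [if_neg hp0, if_neg (fun h => by rw [hpq] at h; omega), map_zero, smul_zero, sub_zero]
          simp [Matrix.one_apply, Subtype.ext_iff]
    · intro p q hqp
      have hlt : p.1 < q.1 := OrderDual.toDual_lt_toDual.1 hqp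
      rw [hMU]
      by_cases hq : q.1 = last
      · rw [if_pos hq, if_neg (fun h => hlt.ne (h.trans hq.symm))]
      · rw [if_neg hq]
        simp only [M, Matrix.sub_apply, Matrix.smul_apply, Matrix.map_apply, hB, Matrix.of_apply]
        rw [Matrix.one_apply_ne (fun h => hlt.ne (by rw [h])), zero_sub, neg_eq_zero]
        by_cases hp0 : p.1.val = 0
        · rw [if_pos hp0, if_neg (fun h => hq (Fin.ext h)), map_zero, smul_zero]
        · rw [if_neg hp0, if_neg (fun h => by have := Fin.lt_def.1 hlt; omega), map_zero, smul_zero]
  rw [Matrix.det_mul, hU, mul_one] at hdet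
  show M.det = _
  rw [hdet, Matrix.charpolyRev, AlgHom.map_det]
  congr 1
  refine Matrix.ext fun i j => ?_
  simp [Matrix.one_apply, apply_ite (Polynomial.expand R n)]

end Groth.Agent.S3133
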