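import Groth.Statements.S3139
import Groth.Agent.EulerDetLib.Basic
import Groth.Agent.DRingLib.Basic

set_option autoImplicit false
universe u
open CategoryTheory
attribute [local instance] HasDerivedCategory.standard
open SGA4h

namespace Groth.Agent.S3139

/-- Let A be a commutative ring, K and K' bounded cochain complexes of finite free A-modules with
endomorphisms u and u', and suppose (K, u) and (K', u') are isomorphic in the derived category D(A):
there is an isomorphism K ≅ K' in D(A) intertwining the images of u and u'. Then det(1 - u t, K) =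
det(1 - u' t, K'), where det(1 - u t, K) = ∏ᵢ det(1 - u t, Kⁱ)^{(-1)^i}; the equality is stated
cross-multiplied, as ∏_{i even} det(1 - u t, Kⁱ) · ∏_{i odd} det(1 - u' t, K'ⁱ) = ∏_{i odd} det(1 -
u t, Kⁱ) · ∏_{i even} det(1 - u' t, K'ⁱ) in A[t]. (The source works with finite projective modules;
finite free is the special case stated here.) -/
theorem result (A : Type u) [CommRing A]
    (K K' : CochainComplex (ModuleCat.{u} A) ℤ) (a b : ℤ) [K.IsStrictlyGE a] [K.IsStrictlyLE b] [K'.IsStrictlyGE a] [K'.IsStrictlyLE b]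
    (hK : ∀ i : ℤ, Module.Finite A (K.X i) ∧ Module.Free A (K.X i)) (hK' : ∀ i : ℤ, Module.Finite A (K'.X i) ∧ Module.Free A (K'.X i))
    (u : K ⟶ K) (u' : K' ⟶ K') (φ : DerivedCategory.Q.obj K ≅ DerivedCategory.Q.obj K')
    (hφ : DerivedCategory.Q.map u ≫ φ.hom = φ.hom ≫ DerivedCategory.Q.map u') :
    SGA4h.detEven K u * SGA4h.detOdd K' u' = SGA4h.detOdd K u * SGA4h.detEven K' u' := by
  haveI := fun i => (hK i).1
  haveI := fun i => (hK i).2
  haveI := fun i => (hK' i).1
  haveI := fun i => (hK' i).2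
  have hz : ∀ i, i < a ∨ b < i → Limits.IsZero (K.X i) := fun i hi => by
    rcases hi with hi | hi
    · exact K.isZero_of_isStrictlyGE a i hi
    · exact K.isZero_of_isStrictlyLE b i hi
  have hz' : ∀ i, i < a ∨ b < i → Limits.IsZero (K'.X i) := fun i hi => by
    rcases hi with hi | hi
    · exact K'.isZero_of_isStrictlyGE a i hi
    · exact K'.isZero_of_isStrictlyLE b i hi
  haveI : K.IsKProjective := DRingLib.isKProjective_of_free K b
    (fun i hi => hz i (Or.inr hi)) fun i => (hK i).2
  haveI : K'.IsKProjective := DRingLib.isKProjective_of_free K' b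
    (fun i hi => hz' i (Or.inr hi)) fun i => (hK' i).2
  have hom : ∀ {P Q : CochainComplex (ModuleCat.{u} A) ℤ} [P.IsKProjective] (x y : P ⟶ Q),
      DerivedCategory.Q.map x = DerivedCategory.Q.map y → Nonempty (Homotopy x y) :=
    fun {P Q} _ x y hxy => by
      have hinj := (CochainComplex.IsKProjective.Qh_map_bijective P
        ((HomotopyCategory.quotient _ (ComplexShape.up ℤ)).obj Q)).1
      exact ⟨HomotopyCategory.homotopyOfEq x y (hinj hxy)⟩
  obtain ⟨v, hv⟩ := DRingLib.Q_map_surjective K K' φ.hom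
  obtain ⟨w, hw⟩ := DRingLib.Q_map_surjective K' K φ.inv
  obtain ⟨H1⟩ := hom ((v ≫ w) ≫ u) u (by
    rw [Functor.map_comp, Functor.map_comp, hv, hw, φ.hom_inv_id, Category.id_comp])
  obtain ⟨H2⟩ := hom ((w ≫ u) ≫ v) u' (by
    rw [Functor.map_comp, Functor.map_comp, hv, hw, Category.assoc, hφ, φ.inv_hom_id_assoc])
  -- compare modulo every power of `X`
  suffices key : ∀ N : ℕ, (Polynomial.X : Polynomial A) ^ N ∣
      SGA4h.detEven K u * SGA4h.detOdd K' u' - SGA4h.detOdd K u * SGA4h.detEven K' u' by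
    rw [← sub_eq_zero]
    refine Polynomial.ext fun n => ?_
    rw [Polynomial.coeff_zero]
    exact Polynomial.X_pow_dvd_iff.mp (key (n + 1)) n (Nat.lt_succ_self n)
  intro N
  let S : Type u := Polynomial A ⧸ Ideal.span {(Polynomial.X : Polynomial A) ^ N}
  let π : Polynomial A →ₐ[A] S := Ideal.Quotient.mkₐ A _
  rw [← Ideal.mem_span_singleton, ← Ideal.Quotient.eq_zero_iff_mem, map_sub, sub_eq_zero,
    map_mul, map_mul]
  have hs : π Polynomial.X ^ N = 0 := by
    rw [← map_pow]; exact Ideal.Quotient.eq_zero_iff_mem.mpr (Ideal.mem_span_singleton_self _)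
  have hone : ∀ {P : CochainComplex (ModuleCat.{u} A) ℤ} (x : P ⟶ P),
      (∀ i, i < a ∨ b < i → Limits.IsZero (P.X i)) →
      ∀ i, i < a ∨ b < i → SGA4h.detOneSub (P.X i) (x.f i) = 1 :=
    fun x hP i hi => EulerDetLib.dS_of_isZero (Polynomial A) Polynomial.X (hP i hi) (x.f i)
  have hmap : ∀ {P : CochainComplex (ModuleCat.{u} A) ℤ} (x : P ⟶ P),
      (∀ i, i < a ∨ b < i → Limits.IsZero (P.X i)) →
      (∀ i, Module.Finite A (P.X i) ∧ Module.Free A (P.X i)) →
      π (SGA4h.detEven P x) = EulerDetLib.pE (fun i => EulerDetLib.dS S (π Polynomial.X) (P.X i) (x.f i)) ∧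
      π (SGA4h.detOdd P x) = EulerDetLib.pO (fun i => EulerDetLib.dS S (π Polynomial.X) (P.X i) (x.f i)) := by
    intro P x hP hF
    haveI := fun i => (hF i).1
    haveI := fun i => (hF i).2
    refine ⟨(EulerDetLib.map_pE π.toMonoidHom (hone x hP)).trans ?_,
      (EulerDetLib.map_pO π.toMonoidHom (hone x hP)).trans ?_⟩
    · exact congrArg EulerDetLib.pE (funext fun i => EulerDetLib.map_detOneSub S π _ _)
    · exact congrArg EulerDetLib.pO (funext fun i => EulerDetLib.map_detOneSub S π _ _)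
  show π _ * π _ = π _ * π _
  rw [(hmap u hz hK).1, (hmap u hz hK).2, (hmap u' hz' hK').1, (hmap u' hz' hK').2]
  obtain ⟨c1, hc1⟩ := EulerDetLib.homotopy_dS S (π Polynomial.X) H1 hz hK hs
  obtain ⟨c2, hc2⟩ := EulerDetLib.homotopy_dS S (π Polynomial.X) H2 hz' hK' hs
  have hcyc : (fun i => EulerDetLib.dS S (π Polynomial.X) (K.X i) (((v ≫ w) ≫ u).f i))
      = fun i => EulerDetLib.dS S (π Polynomial.X) (K'.X i) (((w ≫ u) ≫ v).f i) := funext fun i => by
    rw [HomologicalComplex.comp_f, HomologicalComplex.comp_f, HomologicalComplex.comp_f,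
      HomologicalComplex.comp_f, Category.assoc, EulerDetLib.dS_comm]
  rw [hc1.1, hc1.2, hc2.1, hc2.2, hcyc]
  ring

end Groth.Agent.S3139
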