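import Groth.Statements.S3143
import Groth.Agent.EtTateLib.Depth
import Groth.Agent.EtTateLib.Restr
import Groth.Agent.EtLocCohLib.Triple

set_option backward.isDefEq.respectTransparency false
set_option backward.isDefEq.respectTransparency.types false

set_option autoImplicit false
universe u
open CategoryTheory CategoryTheory.Limits AlgebraicGeometry Opposite
open EtDual

namespace Groth.Agent.S3143

/-- Let X be a Noetherian separated scheme, n a natural number invertible on X, c a natural number, Y ⊆
X a closed subset with open complement j : U → X, and Z ⊆ Y a closed subset of X with open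
complement k' : X' → X, so that U ⊆ X' through an open immersion j' : U → X' with k' ∘ j' = j, and V
= Y ∩ X' is closed in X' with complement U. If the local cohomology sheaves H^p_Z(ℤ/n) on X vanish
for all p ≤ 2c + 1, then H^{2c}_Y(X, ℤ/n(c)) and H^{2c}_V(X', ℤ/n(c)) are isomorphic. Only the
existence of an isomorphism is asserted; the published statement is that the restriction map is an
isomorphism (and that it is injective under vanishing for p ≤ 2c only). -/
theorem result {X X' U : Scheme.{u}} [IsNoetherian X] [X.IsSeparated]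
    (n : ℕ) (hn : IsUnit (n : Γ(X, ⊤))) (c : ℕ)
    (j : U ⟶ X) [IsOpenImmersion j] (k' : X' ⟶ X) [IsOpenImmersion k'] (j' : U ⟶ X') [IsOpenImmersion j']
    (hfac : j' ≫ k' = j) [EtCoh.BCCont j] [EtCoh.BCCont k'] [EtCoh.BCCont j']
    (hZ : ∀ p : ℕ, p ≤ 2 * c + 1 → IsZero ((EtDual.locCoh k' p).obj (EtCoh.const X (ZMod n)))) :
    Nonempty ((EtDual.HY j (2 * c)).obj (EtDual.tate X n c) ≅ (EtDual.HY j' (2 * c)).obj (EtDual.tate X' n c)) := by
  haveI := Groth.Agent.EtShLib.jCont k'
  haveI : IsIso (Groth.Agent.EtShLib.restrTheta k') := Groth.Agent.EtShLib.isIso_restrTheta k'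
  haveI : IsIso ((Groth.Agent.EtShLib.restrTheta k').app (EtDual.tate X n c)) :=
    NatIso.isIso_app_of_isIso (Groth.Agent.EtShLib.restrTheta k') _
  obtain ⟨e⟩ := EtTateLib.nonempty_pull_tate_iso k' n c
  have hd : EtDepth.DepthGE k' (EtDual.tate X n c) (2 * c + 2) :=
    EtTateLib.depthGE_tate k' hn (fun p hp => hZ p (by omega)) c
  obtain ⟨φ⟩ := EtLocCohLib.nonempty_HY_iso_of_depth k' j j' hfac (EtDual.tate X n c) (2 * c) hd
  exact ⟨φ ≪≫ (EtDual.HY j' (2 * c)).mapIso
    (asIso ((Groth.Agent.EtShLib.restrTheta k').app (EtDual.tate X n c)) ≪≫ e)⟩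

end Groth.Agent.S3143
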