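import Groth.Statements.S3192
import Groth.Agent.CohGenLib.Localization

set_option autoImplicit false
universe u
open CategoryTheory CategoryTheory.Limits AlgebraicGeometry
attribute [local instance] HasDerivedCategory.standard
open SGA6

namespace Groth.Agent.S3192

/-- Let X be a Noetherian scheme, i : X' ⟶ X a closed immersion and j : U ⟶ X the open immersion of the
complement. With K_•(−) = K₀ of coherent modules, i_* (exact; carried as instance hypotheses, and
sending coherent modules to coherent modules — hypothesis hi) and j^* (exact, preserving coherence —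
hypothesis hj) induce homomorphisms K_•(X') ⟶ K_•(X) ⟶ K_•(U); then j^* is surjective and its kernel
is the image of i_*. -/
theorem result {X X' U : Scheme.{u}} [IsNoetherian X] (i : X' ⟶ X) [IsClosedImmersion i]
    (j : U ⟶ X) [IsOpenImmersion j] (hU : Set.range j = (Set.range i)ᶜ)
    [(Scheme.Modules.pushforward i).Additive] [PreservesFiniteLimits (Scheme.Modules.pushforward i)] [PreservesFiniteColimits (Scheme.Modules.pushforward i)]
    [PreservesFiniteLimits (Scheme.Modules.restrictFunctor j)]
    (hi : ∀ M : X'.Modules, Coh.IsCoh M → Coh.IsCoh ((Scheme.Modules.pushforward i).obj M))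
    (hj : ∀ M : X.Modules, Coh.IsCoh M → Coh.IsCoh ((Scheme.Modules.restrictFunctor j).obj M)) :
    Function.Surjective (SGA6.mapSub (Scheme.Modules.restrictFunctor j) (fun M : (X).Modules => Coh.IsCoh M) (fun M : (U).Modules => Coh.IsCoh M) hj) ∧
      (SGA6.mapSub (Scheme.Modules.restrictFunctor j) (fun M : (X).Modules => Coh.IsCoh M) (fun M : (U).Modules => Coh.IsCoh M) hj).ker =
        (SGA6.mapSub (Scheme.Modules.pushforward i) (fun M : (X').Modules => Coh.IsCoh M) (fun M : (X).Modules => Coh.IsCoh M) hi).range := by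
  haveI : IsLocallyNoetherian U := LocallyOfFiniteType.isLocallyNoetherian j
  refine ⟨fun a => ?_, le_antisymm (fun a ha => ?_) ?_⟩
  · have hall : (⊤ : AddSubgroup (SGA6.Kcoh U)) ≤ (SGA6.mapSub (Scheme.Modules.restrictFunctor j)
        (fun M : (X).Modules => Coh.IsCoh M) (fun M : (U).Modules => Coh.IsCoh M) hj).range := by
      rw [← Groth.Agent.KHeartLib.clSub_closure_eq_top, AddSubgroup.closure_le]
      rintro _ ⟨G, hG, rfl⟩
      obtain ⟨F, hF, ⟨e⟩⟩ := CohGenLib.exists_extension j hG
      exact ⟨CohGenLib.cl F, (VBResLib.mapSub_clSub _ _ _ hj hF).trans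
        ((CohGenLib.addOn_cl (fun _ : U => True)).iso e (CohGenLib.mem_top (CohGenLib.isCoh_restrict j hF)))⟩
    exact hall (show a ∈ (⊤ : AddSubgroup (SGA6.Kcoh U)) from trivial)
  · obtain ⟨ψ, hψ⟩ := CohGenLib.exists_localized i j hi hU
    obtain ⟨F, G, hF, hG, rfl⟩ := CohGenLib.exists_diff a
    have h := congrArg ψ (show SGA6.mapSub (Scheme.Modules.restrictFunctor j) (fun M : (X).Modules => Coh.IsCoh M)
      (fun M : (U).Modules => Coh.IsCoh M) hj (CohGenLib.cl F - CohGenLib.cl G) = 0 from ha)
    rw [map_sub, map_sub, map_zero] at h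
    erw [VBResLib.mapSub_clSub _ _ _ hj hF, VBResLib.mapSub_clSub _ _ _ hj hG] at h
    rw [hψ F hF, hψ G hG, ← QuotientAddGroup.mk_sub, QuotientAddGroup.eq_zero_iff] at h
    exact h
  · rintro _ ⟨b, rfl⟩
    haveI := LocallyOfFiniteType.isLocallyNoetherian i
    obtain ⟨F, G, hF, hG, rfl⟩ := CohGenLib.exists_diff b
    have hz : ∀ H : X'.Modules, Coh.IsCoh H → SGA6.mapSub (Scheme.Modules.restrictFunctor j)
        (fun M : (X).Modules => Coh.IsCoh M) (fun M : (U).Modules => Coh.IsCoh M) hj
        (SGA6.mapSub (Scheme.Modules.pushforward i) (fun M : (X').Modules => Coh.IsCoh M)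
          (fun M : (X).Modules => Coh.IsCoh M) hi (CohGenLib.cl H)) = 0 := fun H hH => by
      erw [VBResLib.mapSub_clSub _ _ _ hi hH, VBResLib.mapSub_clSub _ _ _ hj (hi H hH)]
      refine (CohGenLib.addOn_cl (fun _ : U => True)).zero (DevissLib.isZero_of_support_empty
        (Set.eq_empty_iff_forall_notMem.2 fun u hu => ?_))
      have h1 := DevissLib.support_push_subset i H ((CohGenLib.mem_support_restrict j _ u).1 hu)
      exact (hU ▸ (⟨u, rfl⟩ : j u ∈ Set.range ⇑j) : j u ∈ (Set.range ⇑i)ᶜ) h1
    rw [AddMonoidHom.mem_ker, map_sub, map_sub, hz F hF, hz G hG, sub_zero]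

end Groth.Agent.S3192
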