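import Groth.Statements.S3194
import Groth.Agent.KHeartLib.Classes
import Mathlib


-- import your own Groth.Agent.* helpers here

set_option autoImplicit false
universe u
open CategoryTheory
open SGA6

namespace Groth.Agent.S3194

/-- Let A be a principal ideal domain and K_•(Spec A) = K₀ of the category of finitely generated
A-modules (free abelian group on finitely generated modules modulo short exact sequences). The
homomorphism ℤ ⟶ K_•(Spec A) sending k to k·[A] is bijective. -/
theorem result (A : Type u) [CommRing A] [IsDomain A] [IsPrincipalIdealRing A] :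
    Function.Bijective (fun k : ℤ => k • KZero.clSub (fun M : ModuleCat.{u} A => Module.Finite A M) (ModuleCat.of A A)) := by
  classical
  let P : ObjectProperty (ModuleCat.{u} A) := fun M => Module.Finite A M
  have hadd : ∀ {X Y Z : Type u} [AddCommGroup X] [Module A X] [AddCommGroup Y] [Module A Y] [AddCommGroup Z] [Module A Z]
      (f : X →ₗ[A] Y) (g : Y →ₗ[A] Z), Function.Injective f → Function.Exact f g → Function.Surjective g →
      Module.Finite A X → Module.Finite A Y → Module.Finite A Z →
      KZero.clSub P (ModuleCat.of A Y) = KZero.clSub P (ModuleCat.of A X) + KZero.clSub P (ModuleCat.of A Z) := by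
    intro X Y Z _ _ _ _ _ _ f g hf hex hg h1 h2 h3
    let S : ShortComplex (ModuleCat.{u} A) := ShortComplex.mk (ModuleCat.ofHom f) (ModuleCat.ofHom g) (ModuleCat.hom_ext hex.linearMap_comp_eq_zero)
    haveI : Mono S.f := (ModuleCat.mono_iff_injective _).2 hf
    haveI : Epi S.g := (ModuleCat.epi_iff_surjective _).2 hg
    exact KHeartLib.clSub_add P S { exact := (ShortComplex.ShortExact.moduleCat_exact_iff_function_exact S).2 hex } h1 h2 h3
  let a := KZero.clSub P (ModuleCat.of A A)
  have hfree : ∀ n : ℕ, KZero.clSub P (ModuleCat.of A (Fin n → A)) ∈ AddSubgroup.zmultiples a := by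
    intro n
    induction n with
    | zero =>
      rw [KHeartLib.clSub_eq_zero P (show Module.Finite A (Fin 0 → A) from inferInstance) (ModuleCat.isZero_of_subsingleton _)]
      exact zero_mem _
    | succ n ih =>
      rw [hadd (LinearMap.single A (fun _ : Fin (n + 1) => A) 0) (LinearMap.funLeft A A Fin.succ) (fun p q h => Pi.single_injective (0 : Fin (n + 1)) h) ?_ ?_ inferInstance inferInstance inferInstance]
      · exact add_mem (AddSubgroup.mem_zmultiples a) ih
      · intro v
        constructor
        · intro h
          refine ⟨v 0, funext fun i => ?_⟩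
          cases i using Fin.cases with
          | zero => simp
          | succ i => simpa [Pi.single_eq_of_ne (Fin.succ_ne_zero i)] using (congrFun h i).symm
        · rintro ⟨r, rfl⟩; funext i
          simp [LinearMap.funLeft_apply, Pi.single_eq_of_ne (Fin.succ_ne_zero i)]
      · exact fun w => ⟨Fin.cons 0 w, funext fun i => by simp [LinearMap.funLeft_apply]⟩
  have hall : ∀ M : ModuleCat.{u} A, P M → KZero.clSub P M ∈ AddSubgroup.zmultiples a := by
    intro M hM
    haveI : Module.Finite A M := hM
    obtain ⟨n, g, hg⟩ := Module.Finite.exists_fin' A M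
    obtain ⟨m, b⟩ := Submodule.basisOfPid (Pi.basisFun A (Fin n)) (LinearMap.ker g)
    have h := hadd ((LinearMap.ker g).subtype ∘ₗ b.equivFun.symm.toLinearMap) g ((LinearMap.ker g).injective_subtype.comp b.equivFun.symm.injective)
      (by rw [LinearMap.exact_iff, LinearMap.range_comp_of_range_eq_top _ (LinearEquiv.range _), Submodule.range_subtype]) hg inferInstance inferInstance hM
    have e : KZero.clSub P M = KZero.clSub P (ModuleCat.of A (Fin n → A)) - KZero.clSub P (ModuleCat.of A (Fin m → A)) := by
      rw [h]; exact (add_sub_cancel_left _ _).symm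
    rw [e]; exact sub_mem (hfree n) (hfree m)
  obtain ⟨φ, hφ⟩ := KHeartLib.exists_lift_sub P (fun M => (Module.finrank A M : ℤ)) (fun S hS h₁ h₂ h₃ => by
    haveI : Module.Finite A S.X₂ := h₂
    have hex := (ShortComplex.ShortExact.moduleCat_exact_iff_function_exact S).1 hS.exact
    have h := Submodule.finrank_quotient_add_finrank (LinearMap.ker S.g.hom)
    rw [(S.g.hom.quotKerEquivOfSurjective ((ModuleCat.epi_iff_surjective _).1 hS.epi_g)).finrank_eq, LinearMap.exact_iff.1 hex,
      LinearMap.finrank_range_of_inj ((ModuleCat.mono_iff_injective _).1 hS.mono_f)] at h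
    rw [← h]; push_cast; ring)
  have ha : φ a = 1 := by rw [hφ _ (show Module.Finite A A from inferInstance)]; simp
  refine ⟨fun k l h => ?_, fun x => ?_⟩
  · have := congrArg φ h
    simpa [map_zsmul, show φ (KZero.clSub (fun M : ModuleCat.{u} A => Module.Finite A M) (ModuleCat.of A A)) = 1 from ha] using this
  · have hx : x ∈ AddSubgroup.closure {x | ∃ X : ModuleCat.{u} A, P X ∧ KZero.clSub P X = x} := by
      rw [KHeartLib.clSub_closure_eq_top]; exact AddSubgroup.mem_top x
    exact AddSubgroup.mem_zmultiples_iff.1 ((AddSubgroup.closure_le (AddSubgroup.zmultiples a)).2 (by rintro _ ⟨X, hX, rfl⟩; exact hall X hX) hx)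

end Groth.Agent.S3194
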