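import Groth.Statements.S3198
import Groth.Agent.CohGenLib.Fibre
import Groth.Agent.VBResLib.Res

set_option autoImplicit false
universe u
open CategoryTheory CategoryTheory.Limits AlgebraicGeometry
attribute [local instance] HasDerivedCategory.standard
open SGA6

namespace Groth.Agent.S3198

/-- Let f : X ⟶ S be a flat morphism of Noetherian schemes such that for every point s of S the map ℤ ⟶
K₀(Coh X_s), k ↦ k·[O_{X_s}], is bijective. Pullback along f is exact (instance hypotheses) and
preserves coherence (hypothesis hf); the induced homomorphism f^* : K₀(Coh S) ⟶ K₀(Coh X) is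
surjective. (The source adds that f^* is bijective when f has a section of finite tor-dimension.) -/
theorem result {X S : Scheme.{u}} [IsNoetherian X] [IsNoetherian S] (f : X ⟶ S) [Flat f]
    [(Scheme.Modules.pullback f).Additive] [PreservesFiniteLimits (Scheme.Modules.pullback f)] [PreservesFiniteColimits (Scheme.Modules.pullback f)]
    (hf : ∀ M : S.Modules, Coh.IsCoh M → Coh.IsCoh ((Scheme.Modules.pullback f).obj M))
    (hfib : ∀ s : S, Function.Bijective (fun k : ℤ => k • KZero.clSub (fun M : (f.fiber s).Modules => Coh.IsCoh M) (Coh.structureModule (f.fiber s)))) :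
    Function.Surjective (SGA6.mapSub (Scheme.Modules.pullback f) (fun M : (S).Modules => Coh.IsCoh M) (fun M : (X).Modules => Coh.IsCoh M) hf) := by
  intro a
  suffices h : a ∈ (SGA6.mapSub (Scheme.Modules.pullback f) (fun M : (S).Modules => Coh.IsCoh M)
      (fun M : (X).Modules => Coh.IsCoh M) hf).range from h
  set H := (SGA6.mapSub (Scheme.Modules.pullback f) (fun M : (S).Modules => Coh.IsCoh M)
      (fun M : (X).Modules => Coh.IsCoh M) hf).range with hH
  have hO : Coh.IsCoh (Coh.structureModule X) := DevissLib.isCoh_structureModule _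
  have key : ∀ (T : TopologicalSpace.Closeds S) (x : X), closure ({f x} : Set S) = (T : Set S) →
      CohGenLib.cl (Cyc.closureStructureSheaf x) ∈ H := by
    intro T
    induction T using WellFoundedLT.induction with
    | _ T ih =>
    intro x hT
    have hs : Coh.IsCoh (Cyc.closureStructureSheaf (f x)) :=
      (CohGenLib.closure_mem (D := fun _ : S => True) (fun _ _ _ _ => trivial) trivial).coh
    refine CohGenLib.cl_mem_of_fibre f (fun _ : Fin 1 => Coh.structureModule X) (fun _ => hO) (f x) ?_ H
      (fun _ => ?_) (fun y hy hne => ?_) x rfl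
    · haveI := CohGenLib.isNoetherian_fiber f (f x)
      rw [eq_top_iff]
      rintro c -
      obtain ⟨k, rfl⟩ := (hfib (f x)).2 c
      refine zsmul_mem ?_ k
      refine AddSubgroup.subset_closure ⟨0, ?_⟩
      exact (CohGenLib.addOn_cl (fun _ : f.fiber (f x) => True)).iso (KFlatLib.pullUnitIso (f.fiberι (f x)))
        (CohGenLib.mem_top (QCohLib.isCoh_of_iso (KFlatLib.pullUnitIso (f.fiberι (f x))).symm
          (DevissLib.isCoh_structureModule _)))
    · refine ⟨CohGenLib.cl (Cyc.closureStructureSheaf (f x)), ?_⟩
      erw [VBResLib.mapSub_clSub _ _ _ hf hs]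
      exact ((CohGenLib.addOn_cl (fun _ : X => True)).iso
        (KFlatLib.tensUnitIso ((Scheme.Modules.pullback f).obj (Cyc.closureStructureSheaf (f x))))
        (CohGenLib.mem_top (QCohLib.isCoh_of_iso (KFlatLib.tensUnitIso _).symm (hf _ hs)))).symm
    · refine ih ⟨_, isClosed_closure⟩ (lt_of_le_of_ne ?_ fun e => hne ?_) y rfl
      · exact fun v hv => hT.le (closure_minimal (Set.singleton_subset_iff.2 hy) isClosed_closure hv)
      · have h1 : f x ∈ closure ({f y} : Set S) := by
          rw [show closure ({f y} : Set S) = (T : Set S) from congrArg SetLike.coe e, ← hT]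
          exact subset_closure rfl
        exact ((specializes_iff_mem_closure.2 hy).antisymm (specializes_iff_mem_closure.2 h1)).eq.symm
  obtain ⟨F, G, hF, hG, rfl⟩ := CohGenLib.exists_diff a
  refine sub_mem ?_ ?_
  · refine (AddSubgroup.closure_le _).2 ?_ (CohGenLib.cl_mem_closures hF)
    rintro _ ⟨x, -, rfl⟩
    exact key ⟨_, isClosed_closure⟩ x rfl
  · refine (AddSubgroup.closure_le _).2 ?_ (CohGenLib.cl_mem_closures hG)
    rintro _ ⟨x, -, rfl⟩
    exact key ⟨_, isClosed_closure⟩ x rfl

end Groth.Agent.S3198
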