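import Groth.Statements.S3206
import Groth.Agent.MorseLib.Hessian

set_option autoImplicit false
open SGA7

namespace Groth.Agent.S3206

/-- Let k be a field and f a formal power series in n variables over k without constant term whose
partial derivatives ∂f/∂x_1, …, ∂f/∂x_n generate the maximal ideal of k[[x_1, …, x_n]]. Then there
are power series ε_1, …, ε_n with no terms of degree < 2 and a quadratic form q such that f = q(x_1
+ ε_1, …, x_n + ε_n). -/
theorem result (k : Type) [Field k] (n : ℕ) (f : MvPowerSeries (Fin n) k)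
    (hf0 : MvPowerSeries.constantCoeff f = 0)
    (hJ : Ideal.span (Set.range fun i : Fin n => MvPowerSeries.pderiv k i f) = IsLocalRing.maximalIdeal (MvPowerSeries (Fin n) k)) :
    ∃ (ε : Fin n → MvPowerSeries (Fin n) k) (_ : ∀ i (m : Fin n →₀ ℕ), m.degree < 2 → MvPowerSeries.coeff m (ε i) = 0)
      (q : MvPolynomial (Fin n) k) (_ : q.IsHomogeneous 2)
      (_ : MvPowerSeries.HasSubst (fun i : Fin n => MvPowerSeries.X i + ε i)),
      f = MvPowerSeries.subst (fun i : Fin n => MvPowerSeries.X i + ε i) (q : MvPowerSeries (Fin n) k) := by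
  classical
  set q := VanCyc.quadPart f
  have hq : VanCyc.QuadNondeg q := MorseLib.quadNondeg_quadPart hJ
  set G := f - ((VanCyc.quadPoly q + MvPolynomial.C 0 : MvPolynomial (Fin n) k) : MvPowerSeries (Fin n) k) with hGdef
  have hG : G ∈ MorseLib.Low (⊥ : Ideal k) (2 + 1) := MorseLib.sub_mem_Low_bot fun e he => by
    rw [map_zero, add_zero]
    exact MorseLib.coeff_eq_quadPart hf0 hJ e he
  have hG0 : MvPowerSeries.constantCoeff G = 0 := by
    rw [← MvPowerSeries.coeff_zero_eq_constantCoeff]
    exact MorseLib.mem_Low_bot.1 hG 0 (by simp)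
  obtain ⟨ε, c, hε1, hε, hc, heq⟩ := MorseLib.exists_eps q hq (0 : k) le_rfl G hG hG0
  obtain rfl : c = 0 := by
    rwa [pow_succ, Ideal.mul_bot, Ideal.mem_bot] at hc
  rw [hGdef, add_sub_cancel, sub_zero, map_zero, add_zero] at heq
  obtain ⟨hs, hsubst⟩ := MorseLib.Ev_eq_subst _ hε1
  exact ⟨ε, fun i => MorseLib.mem_Low_bot.1 (hε i), VanCyc.quadPoly q,
    MorseLib.isHomogeneous_quadPoly q, hs, heq.trans (hsubst _)⟩

end Groth.Agent.S3206
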