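import Groth.Statements.S3208
import Mathlib.GroupTheory.OrderOfElement
import Mathlib.LinearAlgebra.FreeModule.PID
import Mathlib.Algebra.EuclideanDomain.Int
import Mathlib.Data.Nat.Choose.Dvd
import Mathlib.Tactic.LinearCombination
import Mathlib.Algebra.Ring.GeomSum
import Mathlib.RingTheory.Coprime.Lemmas
import Mathlib.Data.Int.GCD

set_option autoImplicit false
open SGA7

namespace Groth.Agent.S3208

/-- Let E be a commutative ring which is finitely generated and torsion-free as an additive group, u an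
element of E of finite multiplicative order (u^m = 1 for some m > 0), and n ≥ 2 an integer with u ≡
1 modulo nE (i.e. 1 - u = n·v for some v ∈ E). Then u² = 1, and if n ≥ 3 then u = 1. -/
theorem result (E : Type) [CommRing E] [NoZeroSMulDivisors ℤ E] [Module.Finite ℤ E] (u : E) (m : ℕ) (hm : 0 < m)
    (hu : u ^ m = 1) (n : ℕ) (hn : 2 ≤ n) (hcong : ∃ v : E, 1 - u = (n : E) * v) :
    u ^ 2 = 1 ∧ (3 ≤ n → u = 1) := by
  classical
  haveI : Module.Free ℤ E := Module.free_of_finite_type_torsion_free'
  have hcancel : ∀ (k : ℤ) (x : E), k ≠ 0 → (k : E) * x = 0 → x = 0 := fun k x hk h => by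
    rw [← zsmul_eq_mul] at h
    exact (smul_eq_zero.1 h).resolve_left hk
  -- divisible by all powers of a prime implies zero
  have hsep : ∀ (p : ℕ), 2 ≤ p → ∀ x : E, (∀ j : ℕ, ∃ y : E, x = ((p : ℤ) ^ j) • y) → x = 0 := by
    intro p hp x hx
    let b := Module.Free.chooseBasis ℤ E
    refine b.repr.map_eq_zero_iff.1 (Finsupp.ext fun i => ?_)
    rw [Finsupp.zero_apply]
    by_contra hi
    obtain ⟨y, hy⟩ := hx ((b.repr x i).natAbs + 1)
    have hdvd : ((p : ℤ) ^ ((b.repr x i).natAbs + 1)) ∣ b.repr x i := ⟨b.repr y i, by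
      have h9 := congrArg (fun z => b.repr z i) hy
      simp only [map_smul, Finsupp.smul_apply, smul_eq_mul] at h9
      exact h9⟩
    have h1 := Int.natAbs_dvd_natAbs.2 hdvd
    rw [Int.natAbs_pow, Int.natAbs_natCast] at h1
    have h2 := Nat.le_of_dvd (Int.natAbs_pos.2 hi) h1
    have h3 : (b.repr x i).natAbs + 1 < p ^ ((b.repr x i).natAbs + 1) := Nat.lt_pow_self hp
    omega
  -- v (k + p s) = 0 with k prime to p
  have hkill : ∀ (p : ℕ), 2 ≤ p → ∀ (k : ℤ), IsCoprime k (p : ℤ) → ∀ (v s : E),
      v * ((k : E) + (p : E) * s) = 0 → v = 0 := by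
    intro p hp k hk v s h
    refine hsep p hp v fun j => ?_
    obtain ⟨a, c, hac⟩ := hk
    have hv : v = (p : E) * (v * ((c : E) - (a : E) * s)) := by
      have h1 : ((a : E) * (k : E) + (c : E) * (p : E)) = 1 := by
        rw [← Int.cast_natCast (R := E) p, ← Int.cast_mul, ← Int.cast_mul, ← Int.cast_add, hac, Int.cast_one]
      linear_combination (a : E) * h - v * h1
    have hpow : ∀ j : ℕ, ∃ t : E, v = (p : E) ^ j * (v * t) := by
      intro j
      induction j with
      | zero => exact ⟨1, by simp⟩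
      | succ j ih =>
        obtain ⟨t, ht⟩ := ih
        refine ⟨((c : E) - (a : E) * s) * t, ?_⟩
        calc v = (p : E) * (v * ((c : E) - (a : E) * s)) := hv
          _ = _ := by
            conv_lhs => rw [ht]
            ring
    obtain ⟨t, ht⟩ := hpow j
    exact ⟨v * t, by rw [zsmul_eq_mul, Int.cast_pow, Int.cast_natCast]; exact ht⟩
  have key : ∀ (N : ℕ), 3 ≤ N → ∀ (w v : E) (q : ℕ), q.Prime → w ^ q = 1 → 1 - w = (N : E) * v → w = 1 := by
    intro N hN w v q hq hwq hwv
    have hgeom : v * ∑ i ∈ Finset.range q, w ^ i = 0 := by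
      refine hcancel (N : ℤ) _ (by omega) ?_
      have := geom_sum_mul w q
      rw [hwq, sub_self] at this
      rw [Int.cast_natCast]
      linear_combination (-(∑ i ∈ Finset.range q, w ^ i)) * hwv - this
    have hexp : ∀ r : ℕ, ∃ t : E, w ^ r = 1 - (r : E) * ((N : E) * v) + (N : E) ^ 2 * t := by
      intro r
      induction r with
      | zero => exact ⟨0, by simp⟩
      | succ r ih =>
        obtain ⟨t, ht⟩ := ih
        refine ⟨(r : E) * v ^ 2 + t * w, ?_⟩
        rw [pow_succ, ht, show w = 1 - (N : E) * v by linear_combination -hwv]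
        push_cast
        ring
    choose t ht using hexp
    have hsum : ∀ r : ℕ, ∑ i ∈ Finset.range r, w ^ i =
        (r : E) - ((∑ i ∈ Finset.range r, i : ℕ) : E) * ((N : E) * v) + (N : E) ^ 2 * ∑ i ∈ Finset.range r, t i := by
      intro r
      rw [Finset.sum_congr rfl fun i _ => ht i, Finset.sum_add_distrib, Finset.sum_sub_distrib, Finset.mul_sum,
        ← Finset.sum_mul, Nat.cast_sum, Finset.sum_const, Finset.card_range, nsmul_one]
    rw [hsum] at hgeom
    have hv : v = 0 := by
      by_cases hp : ∃ p : ℕ, p.Prime ∧ p ∣ N ∧ p ≠ q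
      · obtain ⟨p, hp, ⟨e, he⟩, hpq⟩ := hp
        refine hkill p hp.two_le q ?_ v
          (-((∑ i ∈ Finset.range q, i : ℕ) : E) * ((e : E) * v) + (N : E) * (e : E) * ∑ i ∈ Finset.range q, t i) ?_
        · rw [Int.isCoprime_iff_gcd_eq_one, Int.gcd_natCast_natCast]
          exact (Nat.coprime_primes hq hp).2 hpq.symm
        · rw [he] at hgeom ⊢
          push_cast at hgeom ⊢
          linear_combination hgeom
      · push_neg at hp
        obtain ⟨p, hp', hpN⟩ := Nat.exists_prime_and_dvd (show N ≠ 1 by omega)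
        obtain rfl := hp p hp' hpN
        obtain ⟨e, he⟩ := hpN
        have hC : p ∣ (∑ i ∈ Finset.range p, i) * e := by
          rcases hp'.eq_two_or_odd' with rfl | hodd
          · by_contra hne
            obtain ⟨r, hr, hre⟩ := Nat.exists_prime_and_dvd (show e ≠ 1 by omega)
            have hr2 : r = 2 := hp r hr (dvd_trans hre ⟨2, by rw [he, mul_comm]⟩)
            exact hne (dvd_mul_of_dvd_right (hr2 ▸ hre) _)
          · refine dvd_mul_of_dvd_left ?_ _
            have h2 : p ∣ (∑ i ∈ Finset.range p, i) * 2 := by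
              rw [Finset.sum_range_id_mul_two]; exact dvd_mul_right _ _
            exact ((Nat.coprime_primes hp' Nat.prime_two).2 (fun h => by rw [h] at hodd; exact absurd hodd (by decide))).dvd_of_dvd_mul_right h2
        obtain ⟨c, hc⟩ := hC
        refine hkill p hp'.two_le 1 isCoprime_one_left v (-(c : E) * v + (e : E) ^ 2 * ∑ i ∈ Finset.range p, t i) ?_
        have hc' : ((∑ i ∈ Finset.range p, i : ℕ) : E) * (e : E) = (p : E) * (c : E) := by exact_mod_cast congrArg (Nat.cast (R := E)) hc
        have hgeom' : ((p : ℤ) : E) * (v * (((1 : ℤ) : E) + (p : E) * (-(c : E) * v + (e : E) ^ 2 * ∑ i ∈ Finset.range p, t i))) = 0 := by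
          rw [he] at hgeom
          push_cast at hgeom hc' ⊢
          linear_combination hgeom + (p : E) * v ^ 2 * hc'
        exact hcancel _ _ (by exact_mod_cast hp'.ne_zero) hgeom'
    rw [hv, mul_zero, sub_eq_zero] at hwv
    exact hwv.symm
  have h3 : ∀ (N : ℕ), 3 ≤ N → ∀ (w : E) (M : ℕ), 0 < M → w ^ M = 1 → (∃ v, 1 - w = (N : E) * v) → w = 1 := by
    intro N hN w M
    induction M using Nat.strong_induction_on generalizing w with
    | _ M ih =>
      intro hM hw hv
      by_cases hM1 : M = 1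
      · rw [hM1, pow_one] at hw; exact hw
      obtain ⟨q, hq, ⟨M', rfl⟩⟩ := Nat.exists_prime_and_dvd hM1
      have hM'0 : 0 < M' := Nat.pos_of_mul_pos_left hM
      obtain ⟨v, hv'⟩ := hv
      have hdiv : ∃ v', 1 - w ^ q = (N : E) * v' := by
        refine ⟨v * ∑ i ∈ Finset.range q, w ^ i, ?_⟩
        have := geom_sum_mul w q
        linear_combination (∑ i ∈ Finset.range q, w ^ i) * hv' + this
      have h1 := ih M' (by have := hq.two_le; nlinarith) (w ^ q) hM'0 (by rw [← pow_mul]; exact hw) hdiv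
      exact key N hN w v q hq h1 hv'
  obtain ⟨v, hv⟩ := hcong
  refine ⟨?_, fun h => h3 n h u m hm hu ⟨v, hv⟩⟩
  by_cases hn3 : 3 ≤ n
  · rw [h3 n hn3 u m hm hu ⟨v, hv⟩, one_pow]
  · obtain rfl : n = 2 := by omega
    refine h3 4 (by omega) (u ^ 2) m hm (by rw [← pow_mul, mul_comm, pow_mul, hu, one_pow]) ⟨v - v ^ 2, ?_⟩
    push_cast at hv ⊢
    linear_combination (1 + u - 2 * v) * hv

end Groth.Agent.S3208
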