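import Groth.Statements.S3209
import Mathlib.RingTheory.TensorProduct.Maps
import Mathlib.LinearAlgebra.TensorProduct.RightExactness

set_option autoImplicit false
universe u
open TensorProduct
open SGA7

namespace Groth.Agent.S3209

/-- Let f : B' → B be a surjective map of R-algebras with kernel J, g : C → B a map of R-algebras, P =
B' ×_B C their fibre product (the equalizer of f ∘ pr₁ and g ∘ pr₂ in B' × C) and S an R-algebra
such that S ⊗_R J → S ⊗_R B' is injective (this holds when Tor_1^R(B, S) = 0, the published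
hypothesis, and in particular when S is flat). Then the canonical map S ⊗_R P → (S ⊗_R B') ×_{S ⊗_R
B} (S ⊗_R C) is bijective: it is injective, and every pair with the same image in S ⊗_R B comes from
S ⊗_R P. -/
theorem result (R B' B C S : Type u) [CommRing R] [CommRing B'] [CommRing B] [CommRing C]
    [CommRing S] [Algebra R B'] [Algebra R B] [Algebra R C] [Algebra R S]
    (f : B' →ₐ[R] B) (hf : Function.Surjective f) (g : C →ₐ[R] B)
    (hJ : Function.Injective (LinearMap.lTensor S (LinearMap.ker f.toLinearMap).subtype)) :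
    letI P := AlgHom.equalizer (f.comp (AlgHom.fst R B' C)) (g.comp (AlgHom.snd R B' C))
    letI φ₁ := Algebra.TensorProduct.map (AlgHom.id R S) ((AlgHom.fst R B' C).comp P.val)
    letI φ₂ := Algebra.TensorProduct.map (AlgHom.id R S) ((AlgHom.snd R B' C).comp P.val)
    Function.Injective (fun z : S ⊗[R] ↥P => (φ₁ z, φ₂ z)) ∧
    ∀ (x : S ⊗[R] B') (y : S ⊗[R] C),
      Algebra.TensorProduct.map (AlgHom.id R S) f x = Algebra.TensorProduct.map (AlgHom.id R S) g y →
        ∃ z : S ⊗[R] ↥P, φ₁ z = x ∧ φ₂ z = y := by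
  let P := AlgHom.equalizer (f.comp (AlgHom.fst R B' C)) (g.comp (AlgHom.snd R B' C))
  let φ₁ := Algebra.TensorProduct.map (AlgHom.id R S) ((AlgHom.fst R B' C).comp P.val)
  let φ₂ := Algebra.TensorProduct.map (AlgHom.id R S) ((AlgHom.snd R B' C).comp P.val)
  show Function.Injective (fun z : S ⊗[R] ↥P => (φ₁ z, φ₂ z)) ∧
    ∀ (x : S ⊗[R] B') (y : S ⊗[R] C),
      Algebra.TensorProduct.map (AlgHom.id R S) f x = Algebra.TensorProduct.map (AlgHom.id R S) g y →
        ∃ z : S ⊗[R] ↥P, φ₁ z = x ∧ φ₂ z = y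
  let p₁ : P →ₗ[R] B' := ((AlgHom.fst R B' C).comp P.val).toLinearMap
  let p₂ : P →ₗ[R] C := ((AlgHom.snd R B' C).comp P.val).toLinearMap
  have h1 : ∀ z, φ₁ z = LinearMap.lTensor S p₁ z := fun z => rfl
  have h2 : ∀ z, φ₂ z = LinearMap.lTensor S p₂ z := fun z => rfl
  have hmem : ∀ (b : B') (c : C), f b = g c → (b, c) ∈ P := fun b c h => h
  have hp₂ : Function.Surjective p₂ := fun c => by
    obtain ⟨b, hb⟩ := hf (g c)
    exact ⟨⟨(b, c), hmem b c hb⟩, rfl⟩
  let incl : LinearMap.ker f.toLinearMap →ₗ[R] P :=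
    LinearMap.codRestrict (Subalgebra.toSubmodule P) ((LinearMap.inl R B' C) ∘ₗ (LinearMap.ker f.toLinearMap).subtype)
      (fun j => hmem j.1 0 (by
        rw [show f j.1 = 0 from j.2, map_zero]))
  have hex : Function.Exact incl p₂ := by
    intro y
    constructor
    · intro hy
      have hP : f y.1.1 = g y.1.2 := y.2
      have hy' : y.1.2 = 0 := hy
      rw [hy', map_zero] at hP
      exact ⟨⟨y.1.1, hP⟩, Subtype.ext (Prod.ext rfl hy'.symm)⟩
    · rintro ⟨j, rfl⟩
      rfl
  have hcomp : p₁ ∘ₗ incl = (LinearMap.ker f.toLinearMap).subtype := rfl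
  have hexT := lTensor_exact S hex hp₂
  refine ⟨fun z w hzw => sub_eq_zero.1 ?_, fun x y hxy => ?_⟩
  · have hd1 : φ₁ (z - w) = 0 := by rw [map_sub, sub_eq_zero]; exact congrArg Prod.fst hzw
    have hd2 : φ₂ (z - w) = 0 := by rw [map_sub, sub_eq_zero]; exact congrArg Prod.snd hzw
    obtain ⟨j, hj⟩ := (hexT (z - w)).1 ((h2 _).symm.trans hd2)
    rw [h1, ← hj, ← LinearMap.comp_apply, ← LinearMap.lTensor_comp, hcomp] at hd1
    rw [← hj, hJ (hd1.trans (map_zero _).symm), map_zero]
  · obtain ⟨z₀, hz₀⟩ := LinearMap.lTensor_surjective S hp₂ y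
    have hexf : Function.Exact (LinearMap.ker f.toLinearMap).subtype f.toLinearMap :=
      f.toLinearMap.exact_subtype_ker_map
    have hexfT := lTensor_exact S hexf hf
    have hgp : g.toLinearMap ∘ₗ p₂ = f.toLinearMap ∘ₗ p₁ := LinearMap.ext fun q => (q.2 : f q.1.1 = g q.1.2).symm
    have hk : LinearMap.lTensor S f.toLinearMap (x - φ₁ z₀) = 0 := by
      rw [map_sub, h1, ← LinearMap.comp_apply, ← LinearMap.lTensor_comp, ← hgp, LinearMap.lTensor_comp,
        LinearMap.comp_apply, hz₀, sub_eq_zero]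
      exact hxy
    obtain ⟨j, hj⟩ := (hexfT _).1 hk
    refine ⟨z₀ + LinearMap.lTensor S incl j, ?_, ?_⟩
    · rw [map_add, h1 (LinearMap.lTensor S incl j), ← LinearMap.comp_apply, ← LinearMap.lTensor_comp, hcomp, hj]
      exact add_sub_cancel _ _
    · rw [map_add, h2, h2, hz₀, hexT.apply_apply_eq_zero, add_zero]

end Groth.Agent.S3209
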