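import Groth.Statements.S3210
import Groth.Agent.TorsLiftLib.Basic
import Groth.Agent.AlbLib.AVBasic
import Groth.Agent.S7785

set_option autoImplicit false
set_option backward.isDefEq.respectTransparency false
set_option linter.style.haveILetI false
set_option maxHeartbeats 1000000
universe u
open CategoryTheory CategoryTheory.Limits AlgebraicGeometry MonObj
open SGA7
open MonoidalCategory CartesianMonoidalCategory Groth.Agent

namespace Groth.Agent.S3210

/-- Points with values in a local scheme of an unramified scheme agree when they agree on the closed point. -/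
theorem eq_of_unramified_local {Z S : Scheme.{u}} (π : Z ⟶ S) [FormallyUnramified π] [LocallyOfFiniteType π]
    {W : Type u} [CommRing W] [IsLocalRing W] (a b : Spec (CommRingCat.of W) ⟶ Z) (hπ : a ≫ π = b ≫ π)
    (h : Spec.map (CommRingCat.ofHom (IsLocalRing.residue W)) ≫ a =
      Spec.map (CommRingCat.ofHom (IsLocalRing.residue W)) ≫ b) : a = b := by
  let w := pullback.lift a b hπ
  let q := Spec.map (CommRingCat.ofHom (IsLocalRing.residue W))
  have hw : q ≫ w = (q ≫ a) ≫ pullback.diagonal π := by
    apply pullback.hom_ext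
    · simp only [w, Category.assoc, pullback.lift_fst, pullback.diagonal_fst, Category.comp_id]
    · simp only [w, q, Category.assoc, pullback.lift_snd, pullback.diagonal_snd, Category.comp_id]; exact h.symm
  have hr : Set.range w.base ⊆ Set.range (pullback.diagonal π).base := by
    rintro _ ⟨z, rfl⟩
    refine (IsLocalRing.specializes_closedPoint z).map w.base.hom.continuous |>.mem_open
      (pullback.diagonal π).opensRange.2 ?_
    rw [← SubmDescLib.closedPoint_map (IsLocalRing.residue W) IsLocalRing.residue_surjective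
      (IsLocalRing.closedPoint (IsLocalRing.ResidueField W)), ← Scheme.Hom.comp_apply]
    erw [hw, Scheme.Hom.comp_apply]
    exact ⟨_, rfl⟩
  have hl := IsOpenImmersion.lift_fac (pullback.diagonal π) w hr
  have h1 := congrArg (· ≫ pullback.fst π π) hl
  have h2 := congrArg (· ≫ pullback.snd π π) hl
  simp only [Category.assoc, pullback.diagonal_fst, pullback.diagonal_snd, Category.comp_id] at h1 h2
  rw [pullback.lift_fst] at h1
  rw [pullback.lift_snd] at h2
  exact h1.symm.trans h2


/-- Direction (i) ⇒ (v bis) of the Néron–Ogg–Chafarévitch criterion (only this direction of the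
criterion is stated): let R be a discrete valuation ring with fraction field K and residue
characteristic different from the prime ℓ, Ω a separable closure of K, W a valuation subring of Ω
lying over R, and A an abelian variety over K (a proper, geometrically integral group scheme). If A
extends to an abelian scheme over R (a proper smooth group scheme over Spec R with connected
geometric fibres whose generic fibre is K-isomorphic to A), then for every ν every element of the
inertia group at W fixes all the ℓ^ν-torsion Ω-points of A. -/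
theorem result (R K Ω : Type u) [CommRing R] [IsDomain R] [IsDiscreteValuationRing R] [Field K]
    [Algebra R K] [IsFractionRing R K] [Field Ω] [Algebra K Ω] [IsSepClosure K Ω]
    (W : ValuationSubring Ω) (hW : SGA7.LiesOver K R W) (ℓ : ℕ) (hℓ : ℓ.Prime) (hℓp : (ℓ : IsLocalRing.ResidueField R) ≠ 0)
    (A : Over (Spec (CommRingCat.of K))) [GrpObj A] [IsProper A.hom] [GeometricallyIntegral A.hom]
    (hgood : (∃ (B : Over (Spec (CommRingCat.of R))) (_ : GrpObj B), IsProper B.hom ∧ Smooth B.hom ∧
        (∀ (k' : Type u) [Field k'] (t : Spec (CommRingCat.of k') ⟶ Spec (CommRingCat.of R)), ConnectedSpace ↑(pullback B.hom t)) ∧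
        Nonempty ((Over.pullback (Spec.map (CommRingCat.ofHom (algebraMap R K)))).obj B ≅ A))) :
    ∀ (ν : ℕ) (σ : Ω ≃ₐ[K] Ω), SGA7.IsInertia W σ → ∀ x : SGA7.Pts Ω A, x ^ (ℓ ^ ν) = 1 → SGA7.galAct σ x = x := by
  obtain ⟨B, _, hBp, hBs, hBc, ⟨e⟩⟩ := hgood
  haveI := hBp
  haveI := hBs
  intro ν σ hσ x hx
  -- commutativity of `B`
  haveI : GeometricallyReduced B.hom := AbSchLib.geometricallyReduced_of_smooth B.hom
  haveI : GeometricallyConnected B.hom :=
    ⟨fun L _ t Z fst snd h => by
      haveI := hBc L t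
      exact (Scheme.homeoOfIso h.isoPullback).symm.surjective.connectedSpace (Scheme.homeoOfIso h.isoPullback).symm.continuous⟩
  haveI : IsCommMonObj B := Groth.Agent.S7785.result B
  -- a homomorphic isomorphism between the generic fibre and `A`
  let gK := Spec.map (CommRingCat.ofHom (algebraMap R K))
  let BK := (Over.pullback gK).obj B
  letI : GrpObj BK := Functor.grpObjObj
  haveI : IsProper BK.hom := inferInstanceAs (IsProper (pullback.snd B.hom gK))
  haveI : Smooth BK.hom := inferInstanceAs (Smooth (pullback.snd B.hom gK))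
  haveI : ConnectedSpace BK.left := hBc K gK
  haveI : GeometricallyIntegral BK.hom := AlbLib.geometricallyIntegral_grp BK
  let a : 𝟙_ _ ⟶ A := η[BK] ≫ e.hom
  let φ : BK ⟶ A := e.hom * (toUnit BK ≫ a)⁻¹
  haveI : IsMonHom φ := AlbLib.isMonHom_of_pointed φ (by
    show η[BK] ≫ (e.hom * (toUnit BK ≫ a)⁻¹) = η[A]
    rw [MonObj.comp_mul, GrpObj.comp_inv, ← Category.assoc, toUnit_unique (η[BK] ≫ toUnit BK) (𝟙 _),
      Category.id_comp, mul_inv_cancel, MonObj.one_eq_one])
  have hu2 : ∀ {T : Over (Spec (CommRingCat.of K))} (g : T ⟶ BK), g ≫ toUnit BK ≫ a = toUnit T ≫ a :=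
    fun {T} g => by rw [← Category.assoc, toUnit_unique (g ≫ toUnit BK) (toUnit T)]
  have hu3 : φ ≫ toUnit A ≫ a = toUnit BK ≫ a := by
    rw [← Category.assoc, toUnit_unique (φ ≫ toUnit A) (toUnit BK)]
  haveI : IsIso φ := ⟨(𝟙 A * (toUnit A ≫ a)) ≫ e.inv, by
      rw [← Category.assoc, MonObj.comp_mul, Category.comp_id, hu3, inv_mul_cancel_right, e.hom_inv_id], by
      show _ ≫ (e.hom * (toUnit BK ≫ a)⁻¹) = _
      rw [MonObj.comp_mul, GrpObj.comp_inv, hu2, Category.assoc, e.inv_hom_id, Category.comp_id,
        mul_inv_cancel_right]⟩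
  haveI : IsMonHom (inv φ) := inferInstanceAs (IsMonHom (asIso φ).inv)
  let y : pt Ω ⟶ BK := x ≫ inv φ
  have hy : y ^ (ℓ ^ ν) = 1 := by
    show (x ≫ inv φ) ^ _ = 1
    rw [← MonObj.pow_comp, hx, MonObj.one_comp]
  suffices h : specAut σ ≫ y = y by
    show specAut σ ≫ x = x
    rw [show x = y ≫ φ by simp [y], ← Category.assoc, h]
  -- the kernel of `ℓ ^ ν`
  let f : B.left ⟶ B.left := ((𝟙 B : B ⟶ B) ^ (ℓ ^ ν)).left
  let η0 : Spec (CommRingCat.of R) ⟶ B.left := (η[B] : 𝟙_ _ ⟶ B).left
  have hu : IsUnit ((ℓ ^ ν : ℕ) : R) := by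
    rw [Nat.cast_pow]
    refine IsUnit.pow ν ?_
    by_contra hc
    exact hℓp (by rw [← map_natCast (IsLocalRing.residue R)]; exact (IsLocalRing.residue_eq_zero_iff _).2 hc)
  haveI : Etale f := TorsLiftLib.etale_pow B _ hu
  haveI : IsProper f := by
    haveI : IsProper (f ≫ B.hom) := by rw [Over.w]; infer_instance
    exact IsProper.of_comp f B.hom
  let π : pullback f η0 ⟶ Spec (CommRingCat.of R) := pullback.snd f η0
  haveI : Etale π := MorphismProperty.pullback_snd _ _ inferInstance
  haveI : IsProper π := MorphismProperty.pullback_snd _ _ inferInstance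
  let gR := Spec.map (CommRingCat.ofHom ((algebraMap K Ω).comp (algebraMap R K)))
  have hgR : Spec.map (CommRingCat.ofHom (algebraMap K Ω)) ≫ gK = gR := by
    rw [← Spec.map_comp, ← CommRingCat.ofHom_comp]
  let yB : Spec (CommRingCat.of Ω) ⟶ B.left := y.left ≫ pullback.fst B.hom gK
  have hyB : yB ≫ B.hom = gR := by
    rw [Category.assoc, pullback.condition, ← Category.assoc, ← hgR]
    exact congrArg (· ≫ gK) (Over.w y)
  have hyf : yB ≫ f = gR ≫ η0 := by
    have h1 : y ≫ (Over.pullback gK).map ((𝟙 B : B ⟶ B) ^ (ℓ ^ ν)) = y ≫ (Over.pullback gK).map (1 : B ⟶ B) := by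
      rw [show (Over.pullback gK).map ((𝟙 B : B ⟶ B) ^ (ℓ ^ ν)) = ((Over.pullback gK).map (𝟙 B)) ^ (ℓ ^ ν) from
          map_pow (Functor.homMonoidHom (Over.pullback gK) : (B ⟶ B) →* _) (𝟙 B) _,
        show (Over.pullback gK).map (1 : B ⟶ B) = 1 from
          map_one (Functor.homMonoidHom (Over.pullback gK) : (B ⟶ B) →* _),
        CategoryTheory.Functor.map_id, MonObj.comp_pow, Category.comp_id, hy, MonObj.comp_one]
    have h2 := congrArg (fun m => CommaMorphism.left m ≫ pullback.fst B.hom gK) h1
    simp only [Over.comp_left, Category.assoc, Over.pullback_map_left, pullback.lift_fst] at h2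
    rw [Category.assoc]
    refine h2.trans ?_
    simp only [Hom.one_def, Over.comp_left, Over.toUnit_left, ← hyB]
    simp only [yB, η0, Category.assoc]
  let z : Spec (CommRingCat.of Ω) ⟶ pullback f η0 := pullback.lift yB gR hyf
  let jW : R →+* W := ((algebraMap K Ω).comp (algebraMap R K)).codRestrict W.toSubring hW.1
  have hι : gR = Spec.map (CommRingCat.ofHom (algebraMap W Ω)) ≫ Spec.map (CommRingCat.ofHom jW) := by
    rw [← Spec.map_comp, ← CommRingCat.ofHom_comp]; rfl
  have hex : ValuativeCriterion.Existence π := by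
    have h : UniversallyClosed π := inferInstance
    rw [UniversallyClosed.eq_valuativeCriterion] at h
    exact h.1
  obtain ⟨⟨⟨zW, hz1, hz2⟩⟩⟩ := hex
    { R := W, K := Ω, i₁ := z, i₂ := Spec.map (CommRingCat.ofHom jW),
      commSq := ⟨(pullback.lift_snd _ _ _).trans hι⟩ }
  dsimp at hz1 hz2
  let σW : W →+* W := ((σ : Ω →+* Ω).comp W.subtype).codRestrict W.toSubring fun w => (hσ w.1 w.2).1
  have hσι : σW.comp jW = jW := by
    ext r
    exact σ.commutes (algebraMap R K r)
  have hσres : (IsLocalRing.residue W).comp σW = IsLocalRing.residue W := by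
    ext w
    show IsLocalRing.residue W (σW w) = IsLocalRing.residue W w
    rw [← sub_eq_zero, ← map_sub, IsLocalRing.residue_eq_zero_iff, W.valuation_lt_one_iff]
    exact (hσ w.1 w.2).2
  have hσz : Spec.map (CommRingCat.ofHom σW) ≫ zW = zW := by
    refine eq_of_unramified_local π _ _ ?_ ?_
    · rw [Category.assoc, hz2, ← Spec.map_comp, ← CommRingCat.ofHom_comp, hσι]
    · rw [← Category.assoc, ← Spec.map_comp, ← CommRingCat.ofHom_comp, hσres]
  have hσz' : Spec.map (CommRingCat.ofHom (σ : Ω →+* Ω)) ≫ z = z := by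
    have hc : Spec.map (CommRingCat.ofHom (σ : Ω →+* Ω)) ≫ Spec.map (CommRingCat.ofHom (algebraMap W Ω)) =
        Spec.map (CommRingCat.ofHom (algebraMap W Ω)) ≫ Spec.map (CommRingCat.ofHom σW) := by
      rw [← Spec.map_comp, ← Spec.map_comp, ← CommRingCat.ofHom_comp, ← CommRingCat.ofHom_comp]
      exact congrArg (fun g : W →+* Ω => Spec.map (CommRingCat.ofHom g)) (RingHom.ext fun w => rfl)
    rw [← hz1, reassoc_of% hc, hσz]
  refine Over.OverMorphism.ext (pullback.hom_ext ?_ ?_)
  · have := congrArg (· ≫ pullback.fst f η0) hσz'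
    simp only [Category.assoc, z, pullback.lift_fst] at this
    simpa [specAut, yB] using this
  · exact (Over.w (specAut σ ≫ y)).trans (Over.w y).symm

end Groth.Agent.S3210
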