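import Groth.Statements.S3211
import Groth.Agent.S18483
import Groth.Agent.S11098
import Groth.Agent.NeronProperLib.GroupLaw
import Groth.Agent.DvrProperLib.GeomConnApps
import Groth.Agent.H0Lib.Apply

set_option autoImplicit false
set_option backward.isDefEq.respectTransparency false
universe u
open CategoryTheory CategoryTheory.Limits AlgebraicGeometry MonObj
open SGA7
open MonoidalCategory CartesianMonoidalCategory

namespace Groth.Agent.S3211

/-- (i) ⟺ (iv): let R be a discrete valuation ring with fraction field K, A an abelian variety over K (a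
proper, geometrically integral group scheme) and N a Néron model of A over Spec R. Then A extends to
an abelian scheme over R (a proper smooth group scheme with connected geometric fibres and generic
fibre K-isomorphic to A) if and only if N is proper over Spec R. -/
theorem result (R : Type u) [CommRing R] [IsDomain R] [IsDiscreteValuationRing R]
    (A : Over (Spec (CommRingCat.of (FractionRing R)))) [GrpObj A] [IsProper A.hom] [GeometricallyIntegral A.hom]
    (N : Over (Spec (CommRingCat.of R))) (e : (Neron.genericFibre R).obj N ≅ A) (hN : Neron.IsNeronModelOf R N A e) :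
    (∃ (B : Over (Spec (CommRingCat.of R))) (_ : GrpObj B), IsProper B.hom ∧ Smooth B.hom ∧
        (∀ (k' : Type u) [Field k'] (t : Spec (CommRingCat.of k') ⟶ Spec (CommRingCat.of R)), ConnectedSpace ↑(pullback B.hom t)) ∧
        Nonempty ((Over.pullback (Spec.map (CommRingCat.ofHom (algebraMap R (FractionRing R))))).obj B ≅ A)) ↔ IsProper N.hom := by
  refine ⟨fun ⟨B, _, hBp, hBs, _, ⟨eB⟩⟩ => ?_, fun hp => ?_⟩
  · haveI := hBp
    haveI := hBs
    obtain ⟨h1, h2, h3, h4, h5⟩ := Groth.Agent.S18483.result R B
    have hB : Neron.IsNeronModelOf R B A eB := ⟨h1, h2, h3, h4, fun Y hY => by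
      have hb := h5 Y hY
      have : (fun g : Y ⟶ B => (Neron.genericFibre R).map g ≫ eB.hom) =
          (fun m => m ≫ eB.hom) ∘ (fun g : Y ⟶ B => (Neron.genericFibre R).map g ≫ (Iso.refl _).hom) := by
        funext g; simp
      rw [this]
      exact Function.Bijective.comp ⟨fun a b hab => (cancel_mono eB.hom).1 hab,
        fun m => ⟨m ≫ eB.inv, by simp⟩⟩ hb⟩
    obtain ⟨⟨ψ, hψ, -⟩, hiso⟩ := Groth.Agent.S11098.result R A N B e eB hN hB
    haveI := hiso ψ hψ
    haveI : IsIso ψ.left := inferInstanceAs (IsIso ((Over.forget _).map ψ))
    rw [← Over.w ψ]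
    infer_instance
  · haveI := hp
    obtain ⟨hs, -, -, -, hmap⟩ := hN
    haveI := hs
    obtain ⟨G⟩ := NeronProperLib.nonempty_grpObj (Neron.genericFibre R) (fun Y => Smooth Y.hom)
      (inferInstanceAs (Smooth (𝟙 (Spec (CommRingCat.of R)))))
      (fun X Y hX hY => by
        haveI := hX; haveI := hY
        show Smooth (pullback.fst X.hom Y.hom ≫ X.hom)
        infer_instance) N hs A e.hom hmap
    refine ⟨N, G, hp, hs, fun k' _ t => ?_, ⟨e⟩⟩
    haveI : GeometricallyConnected A.hom := H0Lib.geometricallyConnected_of_integral A.hom
    haveI : GeometricallyConnected ((Neron.genericFibre R).obj N).hom :=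
      MorphismProperty.of_isPullback (P := @GeometricallyConnected)
        (IsPullback.of_horiz_isIso (fst := e.hom.left) (snd := ((Neron.genericFibre R).obj N).hom)
          (f := A.hom) (g := 𝟙 _) ⟨by rw [Category.comp_id]; exact Over.w e.hom⟩) inferInstance
    haveI : GeometricallyConnected (pullback.snd N.hom (Neron.genPt R)) :=
      ‹GeometricallyConnected ((Neron.genericFibre R).obj N).hom›
    refine DvrProperLib.connectedSpace_pullback_of_maximal N.hom (fun ξ hξ => ?_) k' t
      ⟨(G.one.left) (t (IsLocalRing.closedPoint k')), ?_⟩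
    · refine DvrProperLib.geometricallyConnected_fiber N.hom ξ fun L _ y hy => ?_
      have hξ0 : ξ = (⟨⊥, Ideal.isPrime_bot⟩ : PrimeSpectrum R) :=
        (hξ _ ((PrimeSpectrum.le_iff_specializes _ _).1 bot_le)).symm
      let φ := Spec.preimage y
      have hinj : Function.Injective φ.hom := by
        have h3 : (IsLocalRing.maximalIdeal L).comap φ.hom = ⊥ := by
          have h4 : Spec.map φ (IsLocalRing.closedPoint L) = ξ := by rw [Spec.map_preimage]; exact hy
          exact congrArg PrimeSpectrum.asIdeal (h4.trans hξ0)
        rw [IsLocalRing.maximalIdeal_eq_bot] at h3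
        exact (RingHom.injective_iff_ker_eq_bot φ.hom).2 h3
      let v : Spec (CommRingCat.of L) ⟶ Spec (CommRingCat.of (FractionRing R)) :=
        Spec.map (CommRingCat.ofHom (IsFractionRing.lift (K := FractionRing R) hinj))
      have hv : v ≫ Neron.genPt R = y := by
        rw [← Spec.map_preimage y]
        show Spec.map _ ≫ Spec.map _ = Spec.map φ
        rw [← Spec.map_comp]
        congr 1
        ext r
        exact IsFractionRing.lift_algebraMap hinj r
      rw [← hv]
      haveI : ConnectedSpace ↥(pullback (pullback.snd N.hom (Neron.genPt R)) v) :=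
        GeometricallyConnected.geometrically_connectedSpace (f := pullback.snd N.hom (Neron.genPt R)) v _ _
          (IsPullback.of_hasPullback _ _)
      let i := Scheme.homeoOfIso (pullbackLeftPullbackSndIso N.hom (Neron.genPt R) v)
      exact i.surjective.connectedSpace i.continuous
    · rw [← Scheme.Hom.comp_apply]
      erw [Over.w G.one]
      rfl

end Groth.Agent.S3211
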