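import Groth.Statements.S3214
import Mathlib
import Mathlib
-- import your own Groth.Agent.* helpers here

set_option autoImplicit false
open Polynomial
universe u
open SGA7II

namespace Groth.Agent.S3214

/-- In the recursive form established in its proof: let A = Z[X_1, ..., X_a] (a >= 1), P = prod_i (T -
X_i) in A[T] and S_i the i-th elementary symmetric function. Writing a_j for the coefficient of
T^{a-1} in the remainder of T^{a-1+j} modulo P, one has a_0 = 1 and sum_{i=0}^{a} (-1)^i S_i a_{j-i}
= 0 for every j > 0 (with a_m = 0 for m < 0); equivalently sum_j (-1)^j a_j is the inverse of sum_i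
S_i. (The source works in formal power series; the identity involves only polynomials.) -/
theorem result (a : ℕ) (ha : 0 < a) :
    let P : (MvPolynomial (Fin a) ℤ)[X] := ∏ i : Fin a, (X - C (MvPolynomial.X i))
    let coef : ℤ → MvPolynomial (Fin a) ℤ := fun j =>
      if j < 0 then 0 else ((X : (MvPolynomial (Fin a) ℤ)[X]) ^ (a - 1 + j.toNat) %ₘ P).coeff (a - 1)
    coef 0 = 1 ∧ ∀ j : ℕ, 0 < j →
      (∑ i ∈ Finset.range (a + 1), (-1 : MvPolynomial (Fin a) ℤ) ^ i * MvPolynomial.esymm (Fin a) ℤ i *
        coef ((j : ℤ) - i)) = 0 := by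
  intro P coef
  classical
  have hP : P.Monic := monic_prod_of_monic _ _ fun i _ => monic_X_sub_C _
  have hdeg : P.natDegree = a := by
    rw [natDegree_prod_of_monic _ _ fun i _ => monic_X_sub_C _]
    simp
  have hlow : ∀ m, m < a → ((X : (MvPolynomial (Fin a) ℤ)[X]) ^ m %ₘ P) = X ^ m := fun m hm => by
    rw [Polynomial.modByMonic_eq_self_iff hP, degree_X_pow, degree_eq_natDegree hP.ne_zero, hdeg]
    exact_mod_cast hm
  refine ⟨?_, fun j hj => ?_⟩
  · show (if (0 : ℤ) < 0 then _ else _) = _
    rw [if_neg (lt_irrefl _)]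
    simp [hlow _ (show a - 1 < a by omega)]
  have hcoef : ∀ i ≤ a, coef ((j : ℤ) - i) = ((X : (MvPolynomial (Fin a) ℤ)[X]) ^ (a - i + (j - 1)) %ₘ P).coeff (a - 1) := by
    intro i hi
    simp only [coef]
    split_ifs with h
    · rw [hlow _ (show a - i + (j - 1) < a by omega), coeff_X_pow, if_neg (by omega)]
    · rw [show a - 1 + ((j : ℤ) - i).toNat = a - i + (j - 1) by omega]
  have hexp : P * X ^ (j - 1) = ∑ i ∈ Finset.range (a + 1),
      C ((-1 : MvPolynomial (Fin a) ℤ) ^ i * MvPolynomial.esymm (Fin a) ℤ i) * X ^ (a - i + (j - 1)) := by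
    have h := Multiset.prod_X_sub_X_eq_sum_esymm ((Finset.univ : Finset (Fin a)).val.map (MvPolynomial.X : Fin a → MvPolynomial (Fin a) ℤ))
    rw [Multiset.map_map, Multiset.card_map] at h
    simp only [Finset.card_val, Finset.card_univ, Fintype.card_fin] at h
    show (∏ i : Fin a, (X - C (MvPolynomial.X i))) * X ^ (j - 1) = _
    rw [Finset.prod_eq_multiset_prod]
    erw [h]
    rw [Finset.sum_mul]
    refine Finset.sum_congr rfl fun i _ => ?_
    rw [← MvPolynomial.esymm_eq_multiset_esymm, pow_add, C_mul, C_pow, C_neg, C_1]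
    ring
  have h0 := congrArg (fun q => (Polynomial.modByMonicHom P q).coeff (a - 1)) hexp
  simp only [map_sum, Polynomial.modByMonicHom_apply, finsetSum_coeff] at h0
  rw [(Polynomial.modByMonic_eq_zero_iff_dvd hP).2 (dvd_mul_right _ _), coeff_zero] at h0
  rw [h0]
  refine Finset.sum_congr rfl fun i hi => ?_
  rw [hcoef i (by have := Finset.mem_range.1 hi; omega), ← smul_eq_C_mul, Polynomial.smul_modByMonic, coeff_smul, smul_eq_mul]

end Groth.Agent.S3214
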