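import Groth.Statements.S3241
import Groth.Agent.DivSeqLib.Main
-- import your own Groth.Agent.* helpers here

set_option maxHeartbeats 1000000
set_option backward.isDefEq.respectTransparency false
set_option backward.isDefEq.respectTransparency.types false

set_option autoImplicit false
universe u
open CategoryTheory AlgebraicGeometry
open Dix

namespace Groth.Agent.S3241

/-- Let X be a noetherian scheme such that for every X' étale over X all local rings of X' are
factorial. Then the groups H^q(X_ét, G_m) are torsion for every q ≥ 2; in particular the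
cohomological Brauer group H²(X_ét, G_m) is torsion. -/
theorem result (X : Scheme.{u}) [IsNoetherian X] (hfact : ∀ (U : X.Etale) (u : U.left), IsDomain (U.left.presheaf.stalk u) ∧ UniqueFactorizationMonoid (U.left.presheaf.stalk u)) (q : ℕ) (hq : 2 ≤ q) : IsAddTorsion (EtCoh.H X (EtCoh.Gm X) q) := by
  obtain ⟨p, rfl⟩ : ∃ p, q = p + 2 := ⟨q - 2, by omega⟩
  intro ξ
  classical
  have hfact' : DivSeqLib.Factorial X := hfact
  have hd := DivSeqLib.isDomain_stalk hfact'
  haveI : Fintype {z : X // DivSeqLib.IsMaxPt z} := (DivSeqLib.finite_maxPts (X := X)).fintype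
  let U : {z : X // DivSeqLib.IsMaxPt z} → X.Opens := fun z => DivSeqLib.compOpen hd z.1 z.2
  haveI hex : ∀ z, Limits.PreservesFiniteLimits (EtCoh.pull (U z).ι) := fun z => EtSliceLib.pullExact _
  have ht : ∀ z, ∃ n : ℕ, 0 < n ∧ n • EtLim.HGmPull (U z).ι (p + 2) ξ = 0 := fun z => by
    haveI := DivSeqLib.isIntegral_compOpen hd z.1 z.2
    haveI : IsLocallyNoetherian (U z).toScheme := isLocallyNoetherian_of_isOpenImmersion (U z).ι
    haveI : CompactSpace (U z).toScheme :=
      isCompact_iff_compactSpace.1 (TopologicalSpace.NoetherianSpace.isCompact (U z : Set X))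
    haveI : AlgebraicGeometry.IsNoetherian (U z).toScheme := ⟨⟩
    exact isOfFinAddOrder_iff_nsmul_eq_zero.1
      (DivSeqLib.isTorsion_H_Gm (DivSeqLib.factorial_open hfact' (U z)) p _)
  choose n hn hz using ht
  refine isOfFinAddOrder_iff_nsmul_eq_zero.2 ⟨∏ z, n z, Finset.prod_pos fun z _ => hn z, ?_⟩
  refine DivSeqLib.eq_zero_of_components hfact' _ _ fun z hz' _ => ?_
  obtain ⟨m, hm⟩ : n ⟨z, hz'⟩ ∣ ∏ z, n z := Finset.dvd_prod_of_mem _ (Finset.mem_univ _)
  rw [hm, mul_comm, mul_smul, map_nsmul, map_nsmul]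
  exact (congrArg (m • ·) (hz ⟨z, hz'⟩)).trans (smul_zero m)

end Groth.Agent.S3241
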