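import Groth.Statements.S3246
import Groth.Agent.EtKummerLib.Basic
-- import your own Groth.Agent.* helpers here

set_option maxHeartbeats 1000000
set_option backward.isDefEq.respectTransparency false
set_option backward.isDefEq.respectTransparency.types false
set_option autoImplicit false
universe u
open CategoryTheory AlgebraicGeometry
open Dix

namespace Groth.Agent.S3246

/-- Let X be a scheme, ℓ a prime and n an integer with cd_ℓ(X) ≤ n (étale cohomology of ℓ-primary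
torsion sheaves vanishes above degree n). Then the ℓ-primary torsion of H^i(X_ét, G_m) is zero for i
> n + 1; if moreover ℓ is invertible on X, it is zero for i > n. -/
theorem result (X : Scheme.{u}) (ℓ : ℕ) (hℓ : ℓ.Prime) (n : ℕ) (hcd : Dix.CohDimLEAt X ℓ n) : (∀ i : ℕ, n + 1 < i → ∀ ξ : EtCoh.H X (EtCoh.Gm X) i, (∃ k : ℕ, ℓ ^ k • ξ = 0) → ξ = 0) ∧ (Dix.InvertibleOn X ℓ → ∀ i : ℕ, n < i → ∀ ξ : EtCoh.H X (EtCoh.Gm X) i, (∃ k : ℕ, ℓ ^ k • ξ = 0) → ξ = 0) := by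
  refine ⟨fun i hi ξ ⟨k, hk⟩ => ?_, fun hl i hi ξ ⟨k, hk⟩ => ?_⟩
  · obtain ⟨q, rfl⟩ : ∃ q, i = q + 1 := ⟨i - 1, by omega⟩
    exact EtKummerLib.eq_zero_of_nsmul (ℓ ^ k) ξ hk
      (hcd _ (EtKummerLib.isPrimaryTorsion_of_nsmul_id ℓ k (EtKummerLib.nsmul_id_kernel _ _)) _ (by omega))
      (hcd _ (EtKummerLib.isPrimaryTorsion_of_nsmul_id ℓ k (EtKummerLib.nsmul_id_cokernel _ _)) _ (by omega))
  · have hl' : Dix.InvertibleOn X (ℓ ^ k) := fun x => by
      rw [Nat.cast_pow]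
      exact pow_ne_zero _ (hl x)
    obtain ⟨y, hy⟩ := Abelian.Ext.covariant_sequence_exact₂ _ (EtKummerLib.kummer_shortExact hl') ξ
      ((EtTransferLib.comp_mk₀_nsmul ξ (ℓ ^ k)).trans hk)
    haveI := hcd (EtCoh.mu X (ℓ ^ k)) (EtKummerLib.isPrimaryTorsion_of_nsmul_id ℓ k (EtKummerLib.nsmul_id_kernel _ _)) i hi
    rw [← hy, show y = 0 from Subsingleton.elim (α := EtCoh.H X (EtCoh.mu X (ℓ ^ k)) i) y 0, Abelian.Ext.zero_comp]

end Groth.Agent.S3246
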