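import Groth.Statements.S3248
import Groth.Agent.S7722
import Mathlib.LinearAlgebra.Matrix.ToLin
import Mathlib.RingTheory.TensorProduct.Maps
import Mathlib.LinearAlgebra.Dimension.Constructions
import Mathlib.RingTheory.Flat.Basic
-- import your own Groth.Agent.* helpers here

set_option autoImplicit false
universe u
open TensorProduct
open Dix

namespace Groth.Agent.S3248

/-- Stated for a commutative subalgebra: let A be a central simple algebra of dimension r² over a field
k and L a commutative k-algebra embedded in A by an injective k-algebra homomorphism ι, such that A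
is free of rank r for the right L-module structure a · l = a ι(l) (given here as a module structure
together with that compatibility). Then L ⊗_k A is isomorphic as an L-algebra to the matrix algebra
M_r(L). (Only the existence of an isomorphism is stated; the text names the map a ⊗ l ↦ (y ↦ a y
l).) -/
theorem result (k : Type u) [Field k] (A : Type u) [Ring A] [Algebra k A] [Algebra.IsCentral k A] [IsSimpleRing A] [FiniteDimensional k A] (L : Type u) [CommRing L] [Algebra k L] (ι : L →ₐ[k] A) (hι : Function.Injective ι) [Module L A] (hmod : ∀ (l : L) (a : A), l • a = a * ι l) [Module.Free L A] (r : ℕ) (hr : 0 < r) (hA : Module.finrank k A = r ^ 2) (hrank : Module.finrank L A = r) : Nonempty ((L ⊗[k] A) ≃ₐ[L] Matrix (Fin r) (Fin r) L) := by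
  classical
  haveI : IsScalarTower k L A := ⟨fun c l a => by rw [hmod, hmod, map_smul, mul_smul_comm]⟩
  haveI : SMulCommClass L k A := ⟨fun l c a => by rw [hmod, hmod, smul_mul_assoc]⟩
  haveI : SMulCommClass k L A := SMulCommClass.symm _ _ _
  haveI : Module.Finite L A := Module.Finite.of_restrictScalars_finite k L A
  haveI : FiniteDimensional k L := FiniteDimensional.of_injective ι.toLinearMap hι
  haveI : Nontrivial L := by
    by_contra h
    rw [not_nontrivial_iff_subsingleton] at h
    exact one_ne_zero (α := A) (by rw [← map_one ι, Subsingleton.elim (1 : L) 0, map_zero])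
  let ψ : A →ₐ[k] Module.End L A := AlgHom.ofLinearMap
    { toFun := fun a =>
        { toFun := fun b => a * b
          map_add' := fun b c => mul_add a b c
          map_smul' := fun l b => by simp only [hmod, RingHom.id_apply, mul_assoc] }
      map_add' := fun a b => LinearMap.ext fun c => add_mul a b c
      map_smul' := fun c a => LinearMap.ext fun b => smul_mul_assoc c a b }
    (LinearMap.ext fun b => one_mul b) (fun a b => LinearMap.ext fun c => mul_assoc a b c)
  let φ : L ⊗[k] A →ₐ[L] Module.End L A :=
    Algebra.TensorProduct.lift (Algebra.ofId L (Module.End L A)) ψ (fun l a => Algebra.commutes l (ψ a))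
  have hφ : ∀ (l : L) (a b : A), φ (l ⊗ₜ a) b = a * b * ι l := fun l a b => by
    simp only [φ, Algebra.TensorProduct.lift_tmul]
    show l • (a * b) = _
    rw [hmod]
  let g : L →ₐ[k] Aᵐᵒᵖ := ι.toOpposite (fun x y => by rw [Commute, SemiconjBy, ← map_mul, ← map_mul, mul_comm])
  let j : L ⊗[k] A →ₗ[k] A ⊗[k] Aᵐᵒᵖ := (TensorProduct.comm k Aᵐᵒᵖ A).toLinearMap ∘ₗ LinearMap.rTensor A g.toLinearMap
  have hj : Function.Injective j := (TensorProduct.comm k Aᵐᵒᵖ A).injective.comp
    (Module.Flat.rTensor_preserves_injective_linearMap g.toLinearMap (fun x y h => hι (MulOpposite.op_injective h)))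
  have hc : ∀ (z : L ⊗[k] A) (b : A), φ z b = AlgHom.mulLeftRight k A (j z) b := fun z b => by
    induction z using TensorProduct.induction_on with
    | zero => simp
    | add z w hz hw => simp only [map_add, LinearMap.add_apply, hz, hw]
    | tmul l a =>
      rw [hφ]
      exact (AlgHom.mulLeftRight_apply k A a (g l) b).symm
  have hinj : Function.Injective φ := fun z w h => hj ((Groth.Agent.S7722.result k A).1 (LinearMap.ext fun b => by rw [← hc, ← hc, h]))
  let bas := Module.finBasisOfFinrankEq L A hrank
  let e := algEquivMatrix bas
  have hdimL : Module.finrank k L = r := by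
    have h := Module.finrank_mul_finrank k L A
    rw [hA, hrank, pow_two] at h
    exact Nat.eq_of_mul_eq_mul_right hr h
  let F : L ⊗[k] A →ₐ[L] Matrix (Fin r) (Fin r) L := e.toAlgHom.comp φ
  have hF : Function.Injective F := e.injective.comp hinj
  have hdim : Module.finrank k (L ⊗[k] A) = Module.finrank k (Matrix (Fin r) (Fin r) L) := by
    rw [Module.finrank_tensorProduct, Module.finrank_matrix, hdimL, hA, Fintype.card_fin]
    ring
  exact ⟨AlgEquiv.ofBijective F ⟨hF,
    (LinearMap.injective_iff_surjective_of_finrank_eq_finrank (f := (F.restrictScalars k).toLinearMap) hdim).1 hF⟩⟩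

end Groth.Agent.S3248
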