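import Groth.Statements.S3252
import Mathlib


-- import your own Groth.Agent.* helpers here

set_option autoImplicit false
universe u
open Zeta

namespace Groth.Agent.S3252

/-- Let V and W be finite-dimensional vector spaces over a field L, B : V × W -> L a perfect pairing, F
an endomorphism of V and G an endomorphism of W with B(F v, G w) = c · B(v, w) for all v, w, where c
is a scalar (in the application, V = H^i, W = H^{2d-i}, F and G Frobenius, c = q^d). Then det F ·
det G = c ^ dim V. -/
theorem result (L : Type u) [Field L] (V W : Type u)
    [AddCommGroup V] [Module L V] [FiniteDimensional L V] [AddCommGroup W] [Module L W] [FiniteDimensional L W]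
    (B : V →ₗ[L] W →ₗ[L] L) [B.IsPerfPair] (F : V →ₗ[L] V) (G : W →ₗ[L] W) (c : L)
    (hFG : ∀ (v : V) (w : W), B (F v) (G w) = c * B v w) :
    LinearMap.det F * LinearMap.det G = c ^ Module.finrank L V := by
  classical
  have hrank : Module.finrank L V = Module.finrank L W := by
    rw [LinearEquiv.finrank_eq (LinearMap.toPerfPair B), Subspace.dual_finrank_eq]
  let bv := Module.finBasis L V
  let bw := (Module.finBasis L W).reindex (finCongr hrank.symm)
  let M := LinearMap.toMatrix₂ bv bw B
  have h1 : LinearMap.toMatrix₂ bv bw (B.compl₁₂ F G) = (LinearMap.toMatrix bv bv F).transpose * M * LinearMap.toMatrix bw bw G :=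
    LinearMap.toMatrix₂_compl₁₂ bv bw bv bw B F G
  have h2 : B.compl₁₂ F G = c • B := LinearMap.ext₂ fun v w => by simpa using hFG v w
  rw [h2, map_smul] at h1
  have h3 := congrArg Matrix.det h1
  rw [Matrix.det_smul, Matrix.det_mul, Matrix.det_mul, Matrix.det_transpose, LinearMap.det_toMatrix, LinearMap.det_toMatrix,
    Fintype.card_fin] at h3
  have hM : M.det ≠ 0 := by
    intro h0
    obtain ⟨x, hx, hxM⟩ := Matrix.exists_vecMul_eq_zero_iff.2 h0
    refine hx ?_
    have hz : bv.equivFun.symm x = 0 := by
      apply (LinearMap.toPerfPair B).injective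
      rw [map_zero]
      refine bw.ext fun j => ?_
      have := congrFun hxM j
      simpa [Matrix.vecMul, dotProduct, M, LinearMap.toMatrix₂_apply, Module.Basis.equivFun_symm_apply] using this
    rw [← bv.equivFun.apply_symm_apply x, hz, map_zero]
  refine mul_left_cancel₀ hM ?_
  linear_combination -h3

end Groth.Agent.S3252
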