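import Groth.Statements.S3259
import Groth.Agent.AlgSpRegLib.ImageScheme
import Groth.Agent.DepthLib.SmoothBCScheme
import Groth.Agent.RelMinSmLib.Main
import Groth.Agent.ChowLib.Embed

set_option backward.isDefEq.respectTransparency false
set_option linter.style.haveILetI false
open TopologicalSpace

set_option autoImplicit false
universe u
open AlgebraicGeometry CategoryTheory CategoryTheory.Limits
open ArSurf

namespace Groth.Agent.S3259

/-- Let R be a Dedekind domain with fraction field K and C a smooth projective curve over K (smooth,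
proper, of dimension 1, admitting a closed immersion into some P^n_K). Then there are a non-empty
open subscheme U of Spec R containing the generic point and a smooth proper morphism 𝒞 -> U whose
fibre over the generic point is K-isomorphic to C. In particular C has good reduction at every
closed point of U, that is, at all but finitely many closed points. (Stated in the form the
published proof gives.) -/
theorem result {R : Type u} [CommRing R] [IsDedekindDomain R]
    (C : Over (Spec (CommRingCat.of (FractionRing R)))) [Smooth C.hom] [IsProper C.hom]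
    (hdim : topologicalKrullDim C.left = 1) (hproj : Neron.IsProjectiveOver (FractionRing R) C) :
    ∃ (U : (Spec (CommRingCat.of R)).Opens) (ξ : Spec (CommRingCat.of (FractionRing R)) ⟶ (U : Scheme.{u}))
      (𝒞 : Scheme.{u}) (π : 𝒞 ⟶ (U : Scheme.{u})),
      ξ ≫ U.ι = Neron.genPt R ∧ Smooth π ∧ IsProper π ∧
      Nonempty (Over.mk (pullback.snd π ξ) ≅ C) := by
  obtain ⟨n, i, hi, hiw⟩ := hproj
  haveI := hi
  let K := FractionRing R
  let gR := Neron.genPt R
  let pR := CohB1.ProjSpaceOver.toBase n (Spec (CommRingCat.of R))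
  let pK := CohB1.ProjSpaceOver.toBase n (Spec (CommRingCat.of K))
  let j : CohB1.ProjSpaceOver n (Spec (CommRingCat.of K)) ⟶ CohB1.ProjSpaceOver n (Spec (CommRingCat.of R)) :=
    pullback.lift (pullback.fst _ _) (pK ≫ gR) (by
      simp only [pK, CohB1.ProjSpaceOver.toBase, pullback.condition, Category.assoc]
      congr 1
      exact specULiftZIsTerminal.hom_ext _ _)
  have sqj : IsPullback j pK pR gR := by
    refine IsPullback.of_right (h₁₂ := pullback.fst _ _) (h₂₂ := specULiftZIsTerminal.from _)
      (v₁₃ := CohB1.ProjSpace.toSpec n (ULift.{u} ℤ)) ?_ (pullback.lift_snd _ _ _) (IsPullback.of_hasPullback _ _)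
    have e1 : j ≫ pullback.fst _ _ = pullback.fst _ _ := pullback.lift_fst _ _ _
    have e2 : gR ≫ specULiftZIsTerminal.from _ =
        specULiftZIsTerminal.from (Spec (CommRingCat.of K)) := specULiftZIsTerminal.hom_ext _ _
    rw [e1, e2]
    exact IsPullback.of_hasPullback _ _
  haveI : Flat j := MorphismProperty.of_isPullback sqj.flip (inferInstance : Flat gR)
  haveI : IsPreimmersion j := MorphismProperty.of_isPullback sqj.flip (inferInstance : IsPreimmersion gR)
  haveI : QuasiCompact j := MorphismProperty.of_isPullback sqj.flip (inferInstance : QuasiCompact gR)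
  haveI : Mono j := inferInstance
  let c := i ≫ j
  have sqC : IsPullback (𝟙 C.left) i c j :=
    { w := by simp [c]
      isLimit' := ⟨PullbackCone.IsLimit.mk _ (fun s => s.fst) (fun s => Category.comp_id _)
        (fun s => by
          have h := s.condition
          simp only [c, ← Category.assoc] at h
          exact (cancel_mono j).1 h)
        (fun s m h1 _ => by simpa using h1)⟩ }
  have hker : c.imageι.ker.comap j = i.ker := by
    rw [Scheme.Hom.imageι, Scheme.IdealSheafData.ker_subschemeι]
    exact (AlgSpRegLib.ker_eq_comap_of_isPullback sqC).symm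
  have sqZ : IsPullback i c.toImage j c.imageι :=
    isPullback_of_isClosedImmersion i c.imageι c.toImage j c.toImage_imageι.symm hker
  let πZ : c.image ⟶ Spec (CommRingCat.of R) := c.imageι ≫ pR
  haveI := ChowLib.isProper_toBase n (Spec (CommRingCat.of R))
  haveI : IsProper πZ := inferInstanceAs (IsProper (c.imageι ≫ pR))
  haveI : LocallyOfFinitePresentation πZ := inferInstance
  have sqG : IsPullback c.toImage C.hom πZ gR := by
    rw [← hiw]
    exact sqZ.flip.paste_vert sqj
  haveI : LocallyOfFinitePresentation C.hom := inferInstance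
  have hsm : C.hom.smoothLocus = c.toImage ⁻¹ᵁ πZ.smoothLocus :=
    DepthLib.smoothLocus_eq_preimage πZ gR C.hom c.toImage sqG (Or.inr inferInstance)
  have hη : RelMinSmLib.eta (R := R) ∉ πZ '' (πZ.smoothLocus : Set c.image)ᶜ := by
    rintro ⟨z, hz, hzη⟩
    obtain ⟨x, rfl⟩ : z ∈ Set.range c.toImage := by
      rw [← sqG.isoPullback_hom_fst, Scheme.Hom.comp_base, TopCat.coe_comp, Set.range_comp,
        Set.range_eq_univ.2 sqG.isoPullback.hom.surjective, Set.image_univ, Scheme.Pullback.range_fst,
        RelMinSmLib.range_genPt]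
      exact hzη
    refine hz ?_
    have : x ∈ C.hom.smoothLocus := by rw [C.hom.smoothLocus_eq_top]; trivial
    rw [hsm] at this
    exact this
  let U : (Spec (CommRingCat.of R)).Opens :=
    ⟨(πZ '' (πZ.smoothLocus : Set c.image)ᶜ)ᶜ,
      (πZ.isClosedMap _ πZ.smoothLocus.isOpen.isClosed_compl).isOpen_compl⟩
  have hrg : Set.range gR ⊆ Set.range U.ι := by
    rw [RelMinSmLib.range_genPt, Scheme.Opens.range_ι]
    exact Set.singleton_subset_iff.2 hη
  let ξ : Spec (CommRingCat.of K) ⟶ (U : Scheme.{u}) := IsOpenImmersion.lift U.ι gR hrg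
  have hξ : ξ ≫ U.ι = gR := IsOpenImmersion.lift_fac _ _ _
  have hsmU : Smooth (πZ ∣_ U) := by
    rw [← Scheme.Hom.smoothLocus_eq_top_iff, eq_top_iff]
    intro z _
    have h1 : (πZ ⁻¹ᵁ U).ι z ∈ πZ.smoothLocus := by
      by_contra hh
      exact z.2 ⟨_, hh, rfl⟩
    rw [DepthLib.smoothLocus_eq_preimage πZ U.ι (πZ ∣_ U) (πZ ⁻¹ᵁ U).ι
      (isPullback_morphismRestrict πZ U).flip (Or.inr inferInstance)]
    exact h1
  refine ⟨U, ξ, (πZ ⁻¹ᵁ U).toScheme, πZ ∣_ U, hξ, hsmU,
    MorphismProperty.of_isPullback (isPullback_morphismRestrict πZ U).flip (inferInstance : IsProper πZ), ?_⟩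
  have big : IsPullback (pullback.fst (πZ ∣_ U) ξ ≫ (πZ ⁻¹ᵁ U).ι) (pullback.snd (πZ ∣_ U) ξ) πZ gR := by
    rw [← hξ]
    exact (IsPullback.of_hasPullback (πZ ∣_ U) ξ).paste_horiz (isPullback_morphismRestrict πZ U).flip
  exact ⟨Over.isoMk (big.isoIsPullback _ _ sqG) (IsPullback.isoIsPullback_hom_snd _ _ _ _)⟩

end Groth.Agent.S3259
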