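import Groth.Statements.S6073
import Groth.Agent.GenSubLib.Points
import Groth.Agent.GenSubLib.Baer
import Groth.Agent.S5324
-- import your own Groth.Agent.* helpers here

set_option autoImplicit false
set_option backward.isDefEq.respectTransparency false
universe u
open CategoryTheory CategoryTheory.Limits MonoidalCategory CartesianMonoidalCategory MonObj GrpObj AlgebraicGeometry
open SGA3
open scoped commutatorElement

attribute [-instance] CategoryTheory.Hom.commGroup

namespace Groth.Agent.S6073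

/-- Open subschemes of geometrically reduced schemes are geometrically reduced. -/
theorem gr_open_comp {V X S : Scheme.{u}} (j : V ⟶ X) [IsOpenImmersion j] (f : X ⟶ S) [GeometricallyReduced f] :
    GeometricallyReduced (j ≫ f) := by
  refine ⟨fun K _ z Z p q h => ?_⟩
  haveI : IsReduced (pullback f z) := GeometricallyReduced.geometrically_isReduced _ _ _ (.of_hasPullback f z)
  let m : Z ⟶ pullback f z := pullback.lift (p ≫ j) q (by rw [Category.assoc]; exact h.w)
  have hm : IsPullback p m j (pullback.fst f z) := by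
    refine IsPullback.of_bot ?_ (pullback.lift_fst _ _ _).symm (IsPullback.of_hasPullback f z)
    rw [pullback.lift_snd]
    exact h
  haveI : IsOpenImmersion m := MorphismProperty.of_isPullback hm ‹IsOpenImmersion j›
  exact isReduced_of_isOpenImmersion m

noncomputable section Helpers

open scoped commutatorElement

variable {k : Type u} [Field k] [IsAlgClosed k]

/-- The point under a rational point. -/
abbrev rpt {X : Over (Spec (CommRingCat.of k))} (x : 𝟙_ (Over (Spec (CommRingCat.of k))) ⟶ X) : X.left :=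
  x.left.base (IsLocalRing.closedPoint k)

/-- A rational point at a closed point. -/
theorem exists_rpt {X : Over (Spec (CommRingCat.of k))} [LocallyOfFiniteType X.hom] (c : X.left) (hc : IsClosed {c}) :
    ∃ x : 𝟙_ (Over (Spec (CommRingCat.of k))) ⟶ X, rpt x = c :=
  ⟨Over.homMk (pointOfClosedPoint X.hom c hc) (pointOfClosedPoint_comp _ c hc), pointOfClosedPoint_apply _ c hc _⟩

/-- Every point specialises to a rational point in any closed set containing it. -/
theorem exists_rpt_closure {X : Over (Spec (CommRingCat.of k))} [LocallyOfFiniteType X.hom] (p : X.left) :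
    ∃ x : 𝟙_ (Over (Spec (CommRingCat.of k))) ⟶ X, p ⤳ rpt x := by
  haveI : JacobsonSpace ↥X.left := LocallyOfFiniteType.jacobsonSpace X.hom
  obtain ⟨c, hc, hcc⟩ := nonempty_inter_closedPoints (Z := closure {p}) ⟨p, subset_closure rfl⟩
    isClosed_closure.isLocallyClosed
  obtain ⟨x, rfl⟩ := exists_rpt c hcc
  exact ⟨x, specializes_iff_mem_closure.2 hc⟩

variable {G A B : Over (Spec (CommRingCat.of k))} [GrpObj G] [GrpObj A] [GrpObj B]
  (a : A ⟶ G) [IsMonHom a] (b : B ⟶ G) [IsMonHom b]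

omit [IsAlgClosed k] [GrpObj A] [GrpObj B] [IsMonHom a] [IsMonHom b] in
/-- Rational values of the commutator morphism. -/
theorem comp_comm (z : 𝟙_ (Over (Spec (CommRingCat.of k))) ⟶ A ⊗ B) :
    z ≫ (((fst A B) ≫ a) * ((snd A B) ≫ b) * ((fst A B) ≫ a)⁻¹ * ((snd A B) ≫ b)⁻¹) =
      ⁅(z ≫ fst A B) ≫ a, (z ≫ snd A B) ≫ b⁆ := by
  simp only [MonObj.comp_mul, GrpObj.comp_inv, commutatorElement_def, Category.assoc]

omit [IsAlgClosed k] [GrpObj A] [IsMonHom a] in
/-- The closure of the rational points of a subgroup is itself. -/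
theorem closure_range_eq : ((Subgroup.closure (Set.range fun y : 𝟙_ (Over (Spec (CommRingCat.of k))) ⟶ B => y ≫ b) :
    Subgroup (𝟙_ (Over (Spec (CommRingCat.of k))) ⟶ G)) : Set _) =
      Set.range fun y : 𝟙_ (Over (Spec (CommRingCat.of k))) ⟶ B => y ≫ b := by
  refine Set.Subset.antisymm (fun g hg => ?_) Subgroup.subset_closure
  induction hg using Subgroup.closure_induction with
  | mem g hg => exact hg
  | one => exact ⟨1, MonObj.one_comp b⟩
  | mul u v _ _ hu hv =>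
    obtain ⟨x, rfl⟩ := hu
    obtain ⟨y, rfl⟩ := hv
    exact ⟨x * y, MonObj.mul_comp _ _ b⟩
  | inv u _ hu =>
    obtain ⟨x, rfl⟩ := hu
    exact ⟨x⁻¹, GrpObj.inv_comp _ b⟩

omit [IsAlgClosed k] in
/-- The group generated by the commutators. -/
theorem commutator_eq :
    ⁅Subgroup.closure (Set.range (fun x : 𝟙_ (Over (Spec (CommRingCat.of k))) ⟶ A => x ≫ a)),
      Subgroup.closure (Set.range (fun y : 𝟙_ (Over (Spec (CommRingCat.of k))) ⟶ B => y ≫ b))⁆ =
    Subgroup.closure (Set.range fun z : 𝟙_ (Over (Spec (CommRingCat.of k))) ⟶ A ⊗ B =>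
      z ≫ (((fst A B) ≫ a) * ((snd A B) ≫ b) * ((fst A B) ≫ a)⁻¹ * ((snd A B) ≫ b)⁻¹)) := by
  rw [Subgroup.commutator_def]
  congr 1
  ext g
  constructor
  · rintro ⟨g₁, h₁, g₂, h₂, rfl⟩
    obtain ⟨x, rfl⟩ := (closure_range_eq a).le h₁
    obtain ⟨y, rfl⟩ := (closure_range_eq b).le h₂
    exact ⟨lift x y, by simp only [comp_comm, lift_fst, lift_snd]⟩
  · rintro ⟨z, rfl⟩
    exact ⟨_, Subgroup.subset_closure ⟨_, rfl⟩, _, Subgroup.subset_closure ⟨_, rfl⟩, (comp_comm a b z).symm⟩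

omit [IsAlgClosed k] in
/-- Conjugation by a rational point of a normal subgroup preserves the neutral component. -/
theorem exists_conj (ha : AlgGrp.IsNormalHom a) [Mono a] (g : 𝟙_ (Over (Spec (CommRingCat.of k))) ⟶ G) :
    ∃ φ : A ⟶ A, (∀ x : 𝟙_ (Over (Spec (CommRingCat.of k))) ⟶ A, (x ≫ φ) ≫ a = g * (x ≫ a) * g⁻¹) ∧
      ∀ x : 𝟙_ (Over (Spec (CommRingCat.of k))) ⟶ A,
        rpt x ∈ connectedComponent (rpt (1 : 𝟙_ (Over (Spec (CommRingCat.of k))) ⟶ A)) →
        rpt (x ≫ φ) ∈ connectedComponent (rpt (1 : 𝟙_ (Over (Spec (CommRingCat.of k))) ⟶ A)) := by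
  obtain ⟨φ, hφ⟩ := ha A (toUnit A ≫ g) (𝟙 A)
  have h1 : ∀ x : 𝟙_ (Over (Spec (CommRingCat.of k))) ⟶ A, (x ≫ φ) ≫ a = g * (x ≫ a) * g⁻¹ := fun x => by
    rw [Category.assoc, ← hφ, MonObj.comp_mul, MonObj.comp_mul, GrpObj.comp_inv, Category.id_comp, comp_toUnit_assoc,
      toUnit_unique (toUnit _) (𝟙 _), Category.id_comp]
  refine ⟨φ, h1, fun x hx => ?_⟩
  have h2 : (1 : 𝟙_ (Over (Spec (CommRingCat.of k))) ⟶ A) ≫ φ = 1 := by
    rw [← cancel_mono a, h1, MonObj.one_comp, _root_.mul_one, mul_inv_cancel]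
  have h3 := φ.left.continuous.image_connectedComponent_subset (rpt (1 : 𝟙_ _ ⟶ A))
    ⟨rpt x, hx, rfl⟩
  rw [show φ.left.base (rpt (1 : 𝟙_ _ ⟶ A)) = rpt (1 : 𝟙_ _ ⟶ A) from congrArg rpt h2] at h3
  exact h3

omit [GrpObj G] [GrpObj B] [IsMonHom a] in
/-- Finitely many rational points represent the rational points modulo the neutral component. -/
theorem exists_reps [LocallyOfFiniteType A.hom] (hfin : (irreducibleComponents A.left).Finite) :
    ∃ F : Finset (𝟙_ (Over (Spec (CommRingCat.of k))) ⟶ A), ∀ u : 𝟙_ (Over (Spec (CommRingCat.of k))) ⟶ A,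
      ∃ u₀ ∈ F, rpt (u₀⁻¹ * u) ∈ connectedComponent (rpt (1 : 𝟙_ (Over (Spec (CommRingCat.of k))) ⟶ A)) := by
  classical
  have h : ∀ D : Set A.left, ∃ u₀ : 𝟙_ (Over (Spec (CommRingCat.of k))) ⟶ A,
      (∃ u : 𝟙_ (Over (Spec (CommRingCat.of k))) ⟶ A, rpt u ∈ D) → rpt u₀ ∈ D := fun D => by
    by_cases h : ∃ u : 𝟙_ (Over (Spec (CommRingCat.of k))) ⟶ A, rpt u ∈ D
    · exact ⟨h.choose, fun _ => h.choose_spec⟩
    · exact ⟨1, fun h' => absurd h' h⟩
  choose r hr using h
  refine ⟨hfin.toFinset.image r, fun u => ⟨r (irreducibleComponent (rpt u)), Finset.mem_image.2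
    ⟨_, hfin.mem_toFinset.2 (irreducibleComponent_mem_irreducibleComponents _), rfl⟩, ?_⟩⟩
  let u₀ := r (irreducibleComponent (rpt u))
  let t : A ⟶ A := (toUnit A ≫ u₀⁻¹) * 𝟙 A
  have ht : ∀ x : 𝟙_ (Over (Spec (CommRingCat.of k))) ⟶ A, x ≫ t = u₀⁻¹ * x := fun x => by
    rw [MonObj.comp_mul, comp_toUnit_assoc, Category.comp_id, toUnit_unique (toUnit _) (𝟙 _), Category.id_comp]
  have hmem : rpt u₀ ∈ irreducibleComponent (rpt u) := hr _ ⟨u, mem_irreducibleComponent⟩
  have hsub := ((isIrreducible_irreducibleComponent (x := rpt u)).isConnected.image t.left.base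
    t.left.continuous.continuousOn).isPreconnected
  have e : t.left.base (rpt u₀) = rpt (1 : 𝟙_ (Over (Spec (CommRingCat.of k))) ⟶ A) := by
    show rpt (u₀ ≫ t) = _
    rw [ht, inv_mul_cancel]
  have h3 := hsub.subset_connectedComponent ⟨_, hmem, e⟩ ⟨rpt u, mem_irreducibleComponent, rfl⟩
  rw [← ht]
  exact h3

omit [GrpObj G] in
/-- A rational pair, and the section through the second coordinate. -/
theorem section_connected (u : 𝟙_ (Over (Spec (CommRingCat.of k))) ⟶ A)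
    (v : 𝟙_ (Over (Spec (CommRingCat.of k))) ⟶ B) (W : Set (A ⊗ B).left)
    (hu : rpt u ∈ connectedComponent (rpt (1 : 𝟙_ (Over (Spec (CommRingCat.of k))) ⟶ A)))
    (hW : ∀ p, (fst A B).left.base p ∈ connectedComponent (rpt (1 : 𝟙_ (Over (Spec (CommRingCat.of k))) ⟶ A)) → p ∈ W) :
    ∃ S : Set (A ⊗ B).left, _root_.IsPreconnected S ∧ S ⊆ W ∧
      rpt (lift (1 : 𝟙_ (Over (Spec (CommRingCat.of k))) ⟶ A) v) ∈ S ∧ rpt (lift u v) ∈ S := by
  let s : A ⟶ A ⊗ B := lift (𝟙 A) (toUnit A ≫ v)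
  have hs : ∀ x : 𝟙_ (Over (Spec (CommRingCat.of k))) ⟶ A, x ≫ s = lift x v := fun x => by
    rw [comp_lift, Category.comp_id, comp_toUnit_assoc, toUnit_unique (toUnit _) (𝟙 _), Category.id_comp]
  refine ⟨s.left.base '' connectedComponent (rpt (1 : 𝟙_ _ ⟶ A)),
    isPreconnected_connectedComponent.image _ s.left.continuous.continuousOn, ?_,
    ⟨_, mem_connectedComponent, congrArg rpt (hs _)⟩, ⟨_, hu, congrArg rpt (hs u)⟩⟩
  rintro _ ⟨p, hp, rfl⟩
  refine hW _ ?_
  have e : s ≫ fst A B = 𝟙 A := lift_fst _ _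
  show (s ≫ fst A B).left.base p ∈ _
  rw [e]
  exact hp

omit [GrpObj G] in
theorem section_connected' (u : 𝟙_ (Over (Spec (CommRingCat.of k))) ⟶ A)
    (v : 𝟙_ (Over (Spec (CommRingCat.of k))) ⟶ B) (W : Set (A ⊗ B).left)
    (hv : rpt v ∈ connectedComponent (rpt (1 : 𝟙_ (Over (Spec (CommRingCat.of k))) ⟶ B)))
    (hW : ∀ p, (snd A B).left.base p ∈ connectedComponent (rpt (1 : 𝟙_ (Over (Spec (CommRingCat.of k))) ⟶ B)) → p ∈ W) :
    ∃ S : Set (A ⊗ B).left, _root_.IsPreconnected S ∧ S ⊆ W ∧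
      rpt (lift u (1 : 𝟙_ (Over (Spec (CommRingCat.of k))) ⟶ B)) ∈ S ∧ rpt (lift u v) ∈ S := by
  let s : B ⟶ A ⊗ B := lift (toUnit B ≫ u) (𝟙 B)
  have hs : ∀ x : 𝟙_ (Over (Spec (CommRingCat.of k))) ⟶ B, x ≫ s = lift u x := fun x => by
    rw [comp_lift, Category.comp_id, comp_toUnit_assoc, toUnit_unique (toUnit _) (𝟙 _), Category.id_comp]
  refine ⟨s.left.base '' connectedComponent (rpt (1 : 𝟙_ _ ⟶ B)),
    isPreconnected_connectedComponent.image _ s.left.continuous.continuousOn, ?_,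
    ⟨_, mem_connectedComponent, congrArg rpt (hs _)⟩, ⟨_, hv, congrArg rpt (hs v)⟩⟩
  rintro _ ⟨p, hp, rfl⟩
  refine hW _ ?_
  have e : s ≫ snd A B = 𝟙 B := lift_snd _ _
  show (s ≫ snd A B).left.base p ∈ _
  rw [e]
  exact hp

/-- Connected case: every component of the product meets the zero section. -/
theorem based_of_connected [LocallyOfFiniteType (A ⊗ B).hom] [ConnectedSpace A.left] :
    ∀ x : (A ⊗ B).left, ∃ y : 𝟙_ (Over (Spec (CommRingCat.of k))) ⟶ A ⊗ B,
      y ≫ (((fst A B) ≫ a) * ((snd A B) ≫ b) * ((fst A B) ≫ a)⁻¹ * ((snd A B) ≫ b)⁻¹) = 1 ∧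
        rpt y ∈ connectedComponent x := by
  intro x
  obtain ⟨c, hc⟩ := exists_rpt_closure x
  obtain ⟨S, hS, -, hS₀, hS₁⟩ := section_connected (c ≫ fst A B) (c ≫ snd A B) Set.univ
    (by rw [PreconnectedSpace.connectedComponent_eq_univ]; trivial) (fun p _ => trivial)
  refine ⟨lift 1 (c ≫ snd A B), ?_, ?_⟩
  · simp only [comp_comm, lift_fst, lift_snd, MonObj.one_comp]
    exact commutatorElement_one_left _
  · have h1 : rpt c ∈ connectedComponent x :=
      (isPreconnected_singleton.closure).subset_connectedComponent (subset_closure rfl)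
        (specializes_iff_mem_closure.1 hc)
    rw [connectedComponent_eq h1]
    refine hS.subset_connectedComponent ?_ hS₀
    rwa [← comp_lift, lift_fst_snd, Category.comp_id] at hS₁

end Helpers

/-- Let k be an algebraically closed field, G a group scheme locally of finite type over k, and a : A →
G, b : B → G two closed subgroup schemes which are geometrically reduced over k, such that either
(a) A and B are normal in G and of finite type over k, or (b) A is connected and B is of finite type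
over k. Let i : Γ → G be the commutator subgroup scheme (A, B): the smallest closed subgroup scheme
of G through which A ×_k B → G, (x, y) ↦ a(x) b(y) a(x)⁻¹ b(y)⁻¹, factors. Then the image of Γ(k) in
G(k) is the commutator subgroup of the images of A(k) and B(k): the subgroup of G(k) generated by
the commutators of a k-point of A with a k-point of B. -/
theorem result (k : Type u) [Field k] [IsAlgClosed k]
    (G A B : Over (Spec (CommRingCat.of k))) [GrpObj G] [GrpObj A] [GrpObj B] [LocallyOfFiniteType G.hom]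
    (a : A ⟶ G) [IsMonHom a] [IsClosedImmersion a.left] (b : B ⟶ G) [IsMonHom b] [IsClosedImmersion b.left]
    [GeometricallyReduced A.hom] [GeometricallyReduced B.hom] [QuasiCompact B.hom]
    (hcase : (AlgGrp.IsNormalHom a ∧ AlgGrp.IsNormalHom b ∧ QuasiCompact A.hom) ∨ ConnectedSpace A.left)
    (Γ : Over (Spec (CommRingCat.of k))) [GrpObj Γ] (i : Γ ⟶ G) [IsMonHom i] [IsClosedImmersion i.left]
    (hf : ∃ f' : A ⊗ B ⟶ Γ, f' ≫ i = (((fst A B) ≫ a) * ((snd A B) ≫ b) * ((fst A B) ≫ a)⁻¹ * ((snd A B) ≫ b)⁻¹))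
    (hmin : ∀ (Γ' : Over (Spec (CommRingCat.of k))) (_ : GrpObj Γ') (i' : Γ' ⟶ G), IsMonHom i' → IsClosedImmersion i'.left →
        (∃ f'' : A ⊗ B ⟶ Γ', f'' ≫ i' = (((fst A B) ≫ a) * ((snd A B) ≫ b) * ((fst A B) ≫ a)⁻¹ * ((snd A B) ≫ b)⁻¹)) → ∃ j : Γ ⟶ Γ', j ≫ i' = i) :
    Set.range (fun z : 𝟙_ (Over (Spec (CommRingCat.of k))) ⟶ Γ => z ≫ i) =
      ((⁅Subgroup.closure (Set.range (fun x : 𝟙_ (Over (Spec (CommRingCat.of k))) ⟶ A => x ≫ a)),
         Subgroup.closure (Set.range (fun y : 𝟙_ (Over (Spec (CommRingCat.of k))) ⟶ B => y ≫ b))⁆ : Subgroup (𝟙_ (Over (Spec (CommRingCat.of k))) ⟶ G)) :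
        Set (𝟙_ (Over (Spec (CommRingCat.of k))) ⟶ G)) := by
  classical
  haveI : LocallyOfFiniteType A.hom := by rw [← Over.w a]; infer_instance
  haveI : LocallyOfFiniteType B.hom := by rw [← Over.w b]; infer_instance
  haveI : Mono a := Over.mono_of_mono_left a
  haveI : Mono b := Over.mono_of_mono_left b
  haveI : Subsingleton ↥(Spec (CommRingCat.of k)) := inferInstanceAs (Subsingleton (PrimeSpectrum k))
  haveI : GeometricallyReduced (A ⊗ B).hom := GenSub.gr_prod A.hom B.hom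
  haveI : LocallyOfFiniteType (pullback.fst A.hom B.hom) := MorphismProperty.pullback_fst _ _ inferInstance
  haveI : LocallyOfFiniteType (A ⊗ B).hom :=
    inferInstanceAs (LocallyOfFiniteType (pullback.fst A.hom B.hom ≫ A.hom))
  haveI : QuasiCompact A.hom := by
    rcases hcase with ⟨-, -, h⟩ | h
    · exact h
    · refine Groth.Agent.S5324.result _ A (fun s =>
        inferInstanceAs (LocallyOfFiniteType (pullback.snd _ _))) fun s => ?_
      rw [show A.hom.base ⁻¹' {s} = Set.univ from Set.eq_univ_of_forall fun p => Subsingleton.elim _ _]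
      exact isConnected_univ
  haveI : QuasiCompact (pullback.fst A.hom B.hom) := MorphismProperty.pullback_fst _ _ inferInstance
  haveI : QuasiCompact (A ⊗ B).hom := inferInstanceAs (QuasiCompact (pullback.fst A.hom B.hom ≫ A.hom))
  rw [commutator_eq a b]
  obtain ⟨-, -, hr, hv⟩ := GenSub.smallest_props _ i hf hmin
  set c : A ⊗ B ⟶ G := (fst A B ≫ a) * (snd A B ≫ b) * (fst A B ≫ a)⁻¹ * (snd A B ≫ b)⁻¹ with hc_def
  rcases hcase with ⟨hna, hnb, -⟩ | hconn
  swap
  · haveI := hconn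
    exact GenSub.points_eq_closure c i hr hv hf (based_of_connected a b)
  refine Set.Subset.antisymm ?_ (GenSub.closure_le_points c i hf)
  -- the pairs with a coordinate in a neutral component
  have hfA : (irreducibleComponents A.left).Finite := by
    haveI : IsLocallyNoetherian A.left := LocallyOfFiniteType.isLocallyNoetherian A.hom
    haveI : CompactSpace A.left := QuasiCompact.compactSpace_of_compactSpace A.hom
    haveI : IsNoetherian A.left := { }
    exact TopologicalSpace.NoetherianSpace.finite_irreducibleComponents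
  have hfB : (irreducibleComponents B.left).Finite := by
    haveI : IsLocallyNoetherian B.left := LocallyOfFiniteType.isLocallyNoetherian B.hom
    haveI : CompactSpace B.left := QuasiCompact.compactSpace_of_compactSpace B.hom
    haveI : IsNoetherian B.left := { }
    exact TopologicalSpace.NoetherianSpace.finite_irreducibleComponents
  let eA : A.left := rpt (1 : 𝟙_ (Over (Spec (CommRingCat.of k))) ⟶ A)
  let eB : B.left := rpt (1 : 𝟙_ (Over (Spec (CommRingCat.of k))) ⟶ B)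
  let W : Set (A ⊗ B).left := (fst A B).left.base ⁻¹' connectedComponent eA ∪
    (snd A B).left.base ⁻¹' connectedComponent eB
  let U : (A ⊗ B).left.Opens := ⟨W,
    (((GenSub.isClopen_connectedComponent_of_finite hfA eA).2.preimage (fst A B).left.continuous).union
      ((GenSub.isClopen_connectedComponent_of_finite hfB eB).2.preimage (snd A B).left.continuous))⟩
  let X' : Over (Spec (CommRingCat.of k)) := Over.mk (U.ι ≫ (A ⊗ B).hom)
  let ι' : X' ⟶ A ⊗ B := Over.homMk U.ι rfl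
  haveI : LocallyOfFiniteType X'.hom := inferInstanceAs (LocallyOfFiniteType (U.ι ≫ (A ⊗ B).hom))
  haveI : QuasiCompact X'.hom := by
    haveI : IsLocallyNoetherian (A ⊗ B).left := LocallyOfFiniteType.isLocallyNoetherian (A ⊗ B).hom
    haveI : CompactSpace (A ⊗ B).left := QuasiCompact.compactSpace_of_compactSpace (A ⊗ B).hom
    haveI : IsNoetherian (A ⊗ B).left := { }
    haveI : CompactSpace U.toScheme := isCompact_iff_compactSpace.1 (TopologicalSpace.NoetherianSpace.isCompact _)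
    exact HasAffineProperty.iff_of_isAffine.2 (inferInstanceAs (CompactSpace U.toScheme))
  haveI : GeometricallyReduced X'.hom :=
    gr_open_comp U.ι (A ⊗ B).hom
  let c' : X' ⟶ G := ι' ≫ c
  have hrat : ∀ y : 𝟙_ (Over (Spec (CommRingCat.of k))) ⟶ A ⊗ B, rpt y ∈ W →
      ∃ y' : 𝟙_ (Over (Spec (CommRingCat.of k))) ⟶ X', y' ≫ ι' = y := fun y hy =>
    GenSub.exists_lift_rational ι' y (IsLocalRing.closedPoint k) ⟨rpt y, hy⟩ rfl
  obtain ⟨Γ', _, i', hm', hc', -, -, hr', hv', hf'⟩ := GenSub.exists_generated c'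
  haveI := hm'; haveI := hc'
  haveI : LocallyOfFiniteType Γ'.hom := by rw [← Over.w i']; infer_instance
  have hbase : ∀ x : X'.left, ∃ y : 𝟙_ (Over (Spec (CommRingCat.of k))) ⟶ X',
      y ≫ c' = 1 ∧ rpt y ∈ connectedComponent x := by
    intro x
    obtain ⟨q, hq⟩ := exists_rpt_closure x
    obtain ⟨y₀, hy₀, S, hS, hSW, hS₀, hS₁⟩ : ∃ y₀ : 𝟙_ (Over (Spec (CommRingCat.of k))) ⟶ A ⊗ B, y₀ ≫ c = 1 ∧
        ∃ S : Set (A ⊗ B).left, _root_.IsPreconnected S ∧ S ⊆ W ∧ rpt y₀ ∈ S ∧ rpt (q ≫ ι') ∈ S := by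
      have hmem : rpt (q ≫ ι') ∈ W := (rpt q).2
      have e : lift ((q ≫ ι') ≫ fst A B) ((q ≫ ι') ≫ snd A B) = q ≫ ι' := by
        rw [← comp_lift, lift_fst_snd, Category.comp_id]
      rcases hmem with h | h
      · obtain ⟨S, hS, hSW, h₀, h₁⟩ := section_connected ((q ≫ ι') ≫ fst A B) ((q ≫ ι') ≫ snd A B) W h
          (fun p hp => Or.inl hp)
        refine ⟨_, ?_, S, hS, hSW, h₀, e ▸ h₁⟩
        simp only [hc_def, comp_comm, lift_fst, lift_snd, MonObj.one_comp]
        exact commutatorElement_one_left _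
      · obtain ⟨S, hS, hSW, h₀, h₁⟩ := section_connected' ((q ≫ ι') ≫ fst A B) ((q ≫ ι') ≫ snd A B) W h
          (fun p hp => Or.inr hp)
        refine ⟨_, ?_, S, hS, hSW, h₀, e ▸ h₁⟩
        simp only [hc_def, comp_comm, lift_fst, lift_snd, MonObj.one_comp]
        exact commutatorElement_one_right _
    obtain ⟨y, hy⟩ := hrat y₀ (hSW hS₀)
    refine ⟨y, by show y ≫ ι' ≫ c = 1; rw [← Category.assoc, hy, hy₀], ?_⟩
    have h1 : rpt q ∈ connectedComponent x :=
      (isPreconnected_singleton.closure).subset_connectedComponent (subset_closure rfl)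
        (specializes_iff_mem_closure.1 hq)
    rw [connectedComponent_eq h1]
    have hS' : _root_.IsPreconnected (U.ι.base ⁻¹' S) := by
      rw [← U.ι.isOpenEmbedding.isEmbedding.isInducing.isPreconnected_image,
        Set.image_preimage_eq_of_subset (by rw [Scheme.Opens.range_ι]; exact hSW)]
      exact hS
    refine hS'.subset_connectedComponent hS₁ ?_
    show rpt (y ≫ ι') ∈ S
    rw [hy]; exact hS₀
  have hK := GenSub.points_eq_closure c' i' hr' hv' hf' hbase
  -- the group it generates is normal, of finite index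
  let K := Subgroup.closure (Set.range fun x : 𝟙_ (Over (Spec (CommRingCat.of k))) ⟶ X' => x ≫ c')
  let SA := Subgroup.closure (Set.range fun x : 𝟙_ (Over (Spec (CommRingCat.of k))) ⟶ A => x ≫ a)
  let SB := Subgroup.closure (Set.range fun x : 𝟙_ (Over (Spec (CommRingCat.of k))) ⟶ B => x ≫ b)
  haveI : SA.Normal := ⟨fun g hg h => by
    obtain ⟨x, rfl⟩ := (closure_range_eq a).le hg
    obtain ⟨φ, hφ, -⟩ := exists_conj a hna h
    exact Subgroup.subset_closure ⟨x ≫ φ, hφ x⟩⟩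
  haveI : SB.Normal := ⟨fun g hg h => by
    obtain ⟨x, rfl⟩ := (closure_range_eq b).le hg
    obtain ⟨φ, hφ, -⟩ := exists_conj b hnb h
    exact Subgroup.subset_closure ⟨x ≫ φ, hφ x⟩⟩
  have hKmem : ∀ (u : 𝟙_ (Over (Spec (CommRingCat.of k))) ⟶ A) (v : 𝟙_ (Over (Spec (CommRingCat.of k))) ⟶ B),
      (rpt u ∈ connectedComponent eA ∨ rpt v ∈ connectedComponent eB) → ⁅u ≫ a, v ≫ b⁆ ∈ K := by
    intro u v h
    obtain ⟨y, hy⟩ := hrat (lift u v) (by
      rcases h with h | h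
      · left
        show rpt (lift u v ≫ fst A B) ∈ connectedComponent eA
        rw [lift_fst]; exact h
      · right
        show rpt (lift u v ≫ snd A B) ∈ connectedComponent eB
        rw [lift_snd]; exact h)
    refine Subgroup.subset_closure ⟨y, ?_⟩
    show y ≫ ι' ≫ c = _
    rw [← Category.assoc, hy, hc_def, comp_comm, lift_fst, lift_snd]
  haveI : K.Normal := ⟨fun g hg h => by
    induction hg using Subgroup.closure_induction with
    | mem g hg =>
      obtain ⟨x, rfl⟩ := hg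
      obtain ⟨φ, hφ, hφ'⟩ := exists_conj a hna h
      obtain ⟨ψ, hψ, hψ'⟩ := exists_conj b hnb h
      have e : x ≫ c' = ⁅((x ≫ ι') ≫ fst A B) ≫ a, ((x ≫ ι') ≫ snd A B) ≫ b⁆ := by
        show x ≫ ι' ≫ c = _
        rw [← Category.assoc, hc_def, comp_comm]
      show h * (x ≫ c') * h⁻¹ ∈ K
      rw [e, conjugate_commutatorElement, ← hφ, ← hψ]
      refine hKmem _ _ ?_
      rcases (rpt x).2 with h1 | h1
      · exact Or.inl (hφ' _ h1)
      · exact Or.inr (hψ' _ h1)
    | one => simp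
    | mul u v _ _ hu hv =>
      rw [show h * (u * v) * h⁻¹ = h * u * h⁻¹ * (h * v * h⁻¹) by group]
      exact mul_mem hu hv
    | inv u _ hu =>
      rw [show h * u⁻¹ * h⁻¹ = (h * u * h⁻¹)⁻¹ by group]
      exact inv_mem hu⟩
  let π := QuotientGroup.mk' K
  haveI : (SA.map π).Normal := ‹SA.Normal›.map π (QuotientGroup.mk'_surjective K)
  haveI : (SB.map π).Normal := ‹SB.Normal›.map π (QuotientGroup.mk'_surjective K)
  obtain ⟨FA, hFA⟩ := exists_reps (A := A) hfA
  obtain ⟨FB, hFB⟩ := exists_reps (A := B) hfB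
  have hfinS : (GenSub.commSet (SA.map π) (SB.map π)).Finite := by
    refine Set.Finite.subset ((FA.product FB).finite_toSet.image
      fun p => ⁅π (p.1 ≫ a), π (p.2 ≫ b)⁆) ?_
    rintro _ ⟨_, ⟨g₁, h₁, rfl⟩, _, ⟨g₂, h₂, rfl⟩, rfl⟩
    obtain ⟨u, rfl⟩ := (closure_range_eq a).le h₁
    obtain ⟨v, rfl⟩ := (closure_range_eq b).le h₂
    obtain ⟨u₀, hu₀, hu⟩ := hFA u
    obtain ⟨v₀, hv₀, hv⟩ := hFB v
    refine ⟨(u₀, v₀), Finset.mem_product.2 ⟨hu₀, hv₀⟩, ?_⟩
    have h1 : π ⁅(u₀⁻¹ * u) ≫ a, v ≫ b⁆ = 1 := (QuotientGroup.eq_one_iff _).2 (hKmem _ _ (Or.inl hu))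
    have h2 : π ⁅u₀ ≫ a, (v₀⁻¹ * v) ≫ b⁆ = 1 := (QuotientGroup.eq_one_iff _).2 (hKmem _ _ (Or.inr hv))
    rw [map_commutatorElement, commutatorElement_eq_one_iff_mul_comm] at h1 h2
    rw [MonObj.mul_comp, GrpObj.inv_comp, map_mul, map_inv] at h1 h2
    show ⁅π (u₀ ≫ a), π (v₀ ≫ b)⁆ = ⁅π (u ≫ a), π (v ≫ b)⁆
    generalize π (u₀ ≫ a) = U₀, π (v₀ ≫ b) = V₀, π (u ≫ a) = U₁, π (v ≫ b) = V₁ at h1 h2 ⊢
    symm
    calc ⁅U₁, V₁⁆ = U₀ * (U₀⁻¹ * U₁ * V₁) * U₁⁻¹ * V₁⁻¹ := by simp only [commutatorElement_def]; group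
      _ = U₀ * (V₁ * (U₀⁻¹ * U₁)) * U₁⁻¹ * V₁⁻¹ := by rw [h1]
      _ = U₀ * V₀ * (V₀⁻¹ * V₁ * U₀⁻¹) * V₁⁻¹ := by group
      _ = U₀ * V₀ * (U₀⁻¹ * (V₀⁻¹ * V₁)) * V₁⁻¹ := by
        have h3 : V₀⁻¹ * V₁ * U₀⁻¹ = U₀⁻¹ * (V₀⁻¹ * V₁) := by
          apply mul_left_cancel (a := U₀)
          apply mul_right_cancel (b := U₀)
          calc U₀ * (V₀⁻¹ * V₁ * U₀⁻¹) * U₀ = U₀ * (V₀⁻¹ * V₁) := by group
            _ = (V₀⁻¹ * V₁) * U₀ := h2
            _ = U₀ * (U₀⁻¹ * (V₀⁻¹ * V₁)) * U₀ := by group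
        rw [h3]
      _ = ⁅U₀, V₀⁆ := by simp only [commutatorElement_def]; group
  have hQ := GenSub.finite_commutator _ _ hfinS
  rw [← Subgroup.map_commutator] at hQ
  have hclosure : (⁅SA, SB⁆ : Subgroup _) = Subgroup.closure (Set.range fun z : 𝟙_ _ ⟶ A ⊗ B => z ≫ c) := by
    rw [hc_def]; exact commutator_eq a b
  rw [hclosure] at hQ
  have hlift : ∀ q : (𝟙_ (Over (Spec (CommRingCat.of k))) ⟶ G) ⧸ K, ∃ g : 𝟙_ (Over (Spec (CommRingCat.of k))) ⟶ G,
      q ∈ (Subgroup.closure (Set.range fun z : 𝟙_ _ ⟶ A ⊗ B => z ≫ c)).map π →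
        g ∈ Subgroup.closure (Set.range fun z : 𝟙_ _ ⟶ A ⊗ B => z ≫ c) ∧ π g = q := fun q => by
    by_cases hq : q ∈ (Subgroup.closure (Set.range fun z : 𝟙_ _ ⟶ A ⊗ B => z ≫ c)).map π
    · obtain ⟨g, hg, rfl⟩ := hq
      exact ⟨g, fun _ => ⟨hg, rfl⟩⟩
    · exact ⟨1, fun h => absurd h hq⟩
  choose R hR using hlift
  rintro _ ⟨z, rfl⟩
  obtain ⟨g₀, hg₀, y, hy⟩ := GenSub.points_subset_translates c i hr i' (hQ.toFinset.image R) (fun g hg => by
    refine ⟨R (π g), Finset.mem_image.2 ⟨π g, hQ.mem_toFinset.2 (Subgroup.mem_map_of_mem π hg), rfl⟩, ?_⟩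
    obtain ⟨hR1, hR2⟩ := hR (π g) (Subgroup.mem_map_of_mem π hg)
    have hk : (R (π g))⁻¹ * g ∈ K := QuotientGroup.eq.1 hR2
    obtain ⟨y, hy⟩ := hK.ge hk
    exact ⟨y, by rw [show y ≫ i' = (R (π g))⁻¹ * g from hy, mul_inv_cancel_left]⟩) z
  show z ≫ i ∈ _
  rw [hy]
  obtain ⟨q, hq, rfl⟩ := Finset.mem_image.1 hg₀
  refine mul_mem (hR q (hQ.mem_toFinset.1 hq)).1 ?_
  refine (Subgroup.closure_le _).2 ?_ (hK.le ⟨y, rfl⟩)
  rintro _ ⟨x, rfl⟩
  exact Subgroup.subset_closure ⟨x ≫ ι', Category.assoc _ _ _⟩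

end Groth.Agent.S6073
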