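import Groth.Statements.S3290
import Groth.Agent.LambdaSpL.PosStr

set_option autoImplicit false
universe u
open Finset
open LambdaRing

namespace Groth.Agent.S3290

/-- For a positive element e of augmentation m in a λ-ring with positive structure, the polynomials
Σ_{i=0}^{m} γ^i(e − m) t^(m−i) and Σ_{i=0}^{m} λ^i(e) (t − 1)^(m−i) are equal. -/
theorem result (K : Type u) [CommRing K] [LambdaRing.LambdaOps K] (P : LambdaRing.PosStructure K) (e : K) (he : e ∈ P.pos) :
    (∑ i ∈ range ((P.aug e).toNat + 1),
        Polynomial.C (LambdaRing.gamma i (e - ((P.aug e).toNat : K))) * Polynomial.X ^ ((P.aug e).toNat - i)) =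
      ∑ i ∈ range ((P.aug e).toNat + 1),
        Polynomial.C (LambdaRing.LambdaOps.lam i e) * (Polynomial.X - 1) ^ ((P.aug e).toNat - i) := by
  set m := (P.aug e).toNat with hm
  have h1 := LambdaSpLib.lam_one_arg P
  have hg : ∀ i ≤ m, LambdaRing.gamma i (e - (m : K)) = ∑ a ∈ range (i + 1),
      LambdaRing.LambdaOps.lam a e * ((-1 : K) ^ (i - a) * ((m - a).choose (i - a) : K)) := by
    intro i hi
    rw [LambdaSpLib.gamma_eq_lam h1,
      show e - (m : K) + (i : K) - 1 = e + ((-((m : ℤ) + 1 - i) : ℤ) : K) by push_cast; ring,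
      LambdaRing.LambdaOps.lam_add]
    refine sum_congr rfl fun a ha => ?_
    simp only [mem_range] at ha
    congr 1
    rw [LambdaSpLib.lam_intCast h1, Ring.choose_neg,
      show ((m : ℤ) + 1 - i) + ((i - a : ℕ) : ℤ) - 1 = ((m - a : ℕ) : ℤ) by omega,
      Ring.choose_natCast, Units.smul_def, smul_eq_mul, Int.negOnePow_def, zpow_natCast]
    simp
  ext k
  simp only [Polynomial.finsetSum_coeff, Polynomial.coeff_C_mul, Polynomial.coeff_X_pow]
  have hb : ∀ a ∈ range (m + 1), ((Polynomial.X - 1 : Polynomial K) ^ (m - a)).coeff k =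
      (-1 : K) ^ (m - a - k) * ((m - a).choose k : K) := by
    intro a _
    rw [show (Polynomial.X - 1 : Polynomial K) = Polynomial.X + Polynomial.C (-1 : K) by
      simp [sub_eq_add_neg], Polynomial.coeff_X_add_C_pow]
  refine Eq.trans ?_ (sum_congr rfl fun a ha => by rw [hb a ha]).symm
  rcases le_or_gt k m with hk | hk
  · rw [sum_eq_single (m - k) (fun b hb hne => by
        simp only [mem_range] at hb
        rw [if_neg (by omega), mul_zero]) (fun h => absurd (mem_range.2 (by omega)) h),
      if_pos (by omega), mul_one, hg _ (by omega)]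
    refine sum_subset_zero_on_sdiff (range_mono (by omega)) (fun a ha => ?_) (fun a ha => ?_)
    · simp only [mem_sdiff, mem_range] at ha
      rw [Nat.choose_eq_zero_of_lt (show m - a < k by omega)]
      simp
    · simp only [mem_range] at ha
      rw [show m - k - a = m - a - k by omega, Nat.choose_symm (show k ≤ m - a by omega)]
  · rw [sum_eq_zero (fun b hb => by
        simp only [mem_range] at hb
        rw [if_neg (by omega), mul_zero])]
    refine (sum_eq_zero fun a ha => ?_).symm
    rw [Nat.choose_eq_zero_of_lt (show m - a < k by omega)]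
    simp

end Groth.Agent.S3290
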