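import Groth.Statements.S3313
import Groth.Agent.VertIntLib.Prod
import Groth.Agent.HopfFFLib.Nilradical
-- import your own Groth.Agent.* helpers here

set_option autoImplicit false
universe u
open CategoryTheory CategoryTheory.Limits AlgebraicGeometry
open Models

set_option backward.isDefEq.respectTransparency false
open TopologicalSpace Topology

namespace Groth.Agent.S3313

/-- Let R be a discrete valuation ring with fraction field K, C a smooth proper curve over K and X a
regular model of C over R (flat, of finite type, all local rings regular, generic fibre C). Let Γ_1,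
…, Γ_n be the irreducible components of the closed fibre, each an integral curve over the residue
field closed in X, with multiplicities m_i (length of O_{X,ξ_i}/𝔪_R O_{X,ξ_i} at the generic point).
Then each Γ_i is an effective Cartier divisor on X and the ideal sheaf 𝔪_R O_X of the closed fibre
is the product of the ideal sheaves of the Γ_i raised to the powers m_i (the closed fibre is the sum
Σ m_i Γ_i of effective Cartier divisors). -/
theorem result (R : Type u) [CommRing R] [IsDomain R] [IsDiscreteValuationRing R]
    (C X : Scheme.{u}) (f : C ⟶ Spec (CommRingCat.of (FractionRing R))) (p : X ⟶ Spec (CommRingCat.of R))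
    (hC : Curve.IsSmoothProperCurve (FractionRing R) C f) (hX : Models.IsModel R X p C f)
    (hreg : Models.IsRegularScheme X)
    {n : ℕ} (Γ : Fin n → ArSurf.VertComp R (Over.mk p)) (hΓ : Models.IsComponentList R (Over.mk p) Γ) :
    (∀ i, BlowUp.IsEffCartierIdeal (Γ i).ι.ker) ∧
      Models.specialFibreIdeal R (Over.mk p) = ∏ i, (Γ i).ι.ker ^ Models.mult R (Over.mk p) (Γ i) := by
  obtain ⟨hflat, hlft, -, g, hg⟩ := hX
  obtain ⟨-, -, hCint, -⟩ := hC
  haveI := hflat
  haveI := hlft
  haveI := hCint
  set η := RelMinSmLib.eta (R := R)
  have hrange : Set.range g = {x | p x = η} := by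
    rw [← hg.isoPullback_hom_fst, Scheme.Hom.comp_base, TopCat.coe_comp,
      Set.range_comp, Set.range_eq_univ.2 hg.isoPullback.hom.surjective, Set.image_univ,
      Scheme.Pullback.range_fst, RelMinSmLib.range_genPt]
    rfl
  set ξ := g (genericPoint C)
  have hξ : ∀ x, ξ ⤳ x := fun x => by
    obtain ⟨x', hx', hx'η⟩ := Flat.generalizingMap p (RelMinSmLib.eta_specializes (p x))
    obtain ⟨c, rfl⟩ := hrange.ge hx'η
    exact (((genericPoint_spec C).specializes trivial).map g.continuous).trans hx'
  have hgen' : IsGenericPoint ξ (Set.univ : Set X) :=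
    Set.eq_univ_of_forall fun y => specializes_iff_mem_closure.1 (hξ y)
  haveI : IrreducibleSpace X :=
    { toPreirreducibleSpace := ⟨hgen'.isIrreducible.2⟩, toNonempty := ⟨ξ⟩ }
  haveI : IsReduced X := by
    haveI : ∀ y : X, _root_.IsReduced (X.presheaf.stalk y) := fun y => by
      haveI := hreg y
      haveI := CommAlgDim.isDomain_of_isRegularLocalRing (X.presheaf.stalk y)
      infer_instance
    exact isReduced_of_isReduced_stalk X
  haveI : IsIntegral X := isIntegral_of_irreducibleSpace_of_isReduced X
  haveI : IsIntegral (Over.mk p).left := ‹IsIntegral X›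
  haveI : Flat (Over.mk p).hom := hflat
  haveI : LocallyOfFiniteType (Over.mk p).hom := hlft
  exact ⟨fun i => VertIntLib.isEffCartier_ker (X := Over.mk p) hreg (Γ i) (VertIntLib.isFibGen_of_list hΓ i),
    VertIntLib.specialFibreIdeal_eq (X := Over.mk p) hreg hΓ⟩

end Groth.Agent.S3313
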