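import Groth.Statements.S3322
import Groth.Agent.S3321
import Groth.Agent.VertChiLib.Chain
import Groth.Agent.VertChiLib.Div
import Groth.Agent.VertIntLib.Conn
-- import your own Groth.Agent.* helpers here

set_option autoImplicit false
universe u
open CategoryTheory CategoryTheory.Limits AlgebraicGeometry
open Models

set_option backward.isDefEq.respectTransparency false

namespace Groth.Agent.S3322

/-- In the following situation (R a discrete valuation ring with residue field k, C a smooth proper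
curve over its fraction field K with H^0(C, O_C) = K, X a regular proper model, Γ_1, …, Γ_n the
irreducible components of the closed fibre with multiplicities m_i, L_i ⊗ I(Γ_i) ≅ O_X) the data n,
m_i, a_ij = (Γ_i · Γ_j) = deg_k(L_j|Γ_i), w_i = dim_k H^0(Γ_i, O) and g_i with w_i g_i = dim_k
H^1(Γ_i, O) is a numerical type (n > 0, m_i > 0, (a_ij) symmetric with non-negative off-diagonal
entries, connected, killing m, w_i | a_ij, g_i ≥ 0), and its genus is the genus dim_K H^1(C, O_C) of
C. -/
theorem result (R : Type u) [CommRing R] [IsDomain R] [IsDiscreteValuationRing R]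
    (C X : Scheme.{u}) (f : C ⟶ Spec (CommRingCat.of (FractionRing R))) (p : X ⟶ Spec (CommRingCat.of R))
    (hC : Curve.IsSmoothProperCurve (FractionRing R) C f) (hH0 : IsIso f.appTop)
    (hX : Models.IsRegularProperModel R X p C f)
    {n : ℕ} (Γ : Fin n → ArSurf.VertComp R (Over.mk p)) (hΓ : Models.IsComponentList R (Over.mk p) Γ)
    (L : Fin n → X.Modules) (hL : ∀ i, ClSub.IsInverseOf (L i) (ClSub.idealMod (Γ i).ι.ker)) :
    ∃ T : Models.NumericalType n,
      (∀ i, T.m i = (Models.mult R (Over.mk p) (Γ i) : ℤ)) ∧ (∀ i j, T.a i j = ArSurf.inter R (Over.mk p) (L j) (Γ i)) ∧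
      (∀ i, T.w i = (Models.wdeg R (Over.mk p) (Γ i) : ℤ)) ∧
      (∀ i, T.w i * T.g i = (Models.h1 R (Over.mk p) (Γ i) : ℤ)) ∧
      T.genus = (Models.curveGenus (FractionRing R) C f : ℤ) := by
  classical
  have hgen := Groth.Agent.S3321.result R C X f p hC hH0 hX Γ hΓ L hL
  obtain ⟨hMod, hp, hreg⟩ := hX
  haveI := hp
  haveI : IsIntegral (Over.mk p).left := VertIntLib.isIntegral_of_model hC hMod hreg
  haveI : Flat (Over.mk p).hom := hMod.1
  haveI : IsProper (Over.mk p).hom := hp
  have hconn := VertIntLib.isPreconnected_fibre hC hH0 hMod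
  obtain ⟨i₀⟩ := VertChiLib.exists_index (X := Over.mk p) hΓ
  have hd := fun i => VertChiLib.dvd_inter (X := Over.mk p) (Γ i)
  let a : Matrix (Fin n) (Fin n) ℤ := fun i j => ArSurf.inter R (Over.mk p) (L j) (Γ i)
  let T : Models.NumericalType n :=
    { m := fun i => (Models.mult R (Over.mk p) (Γ i) : ℤ)
      a := a
      w := fun i => (Models.wdeg R (Over.mk p) (Γ i) : ℤ)
      g := fun i => ((Models.h1 R (Over.mk p) (Γ i) / Models.wdeg R (Over.mk p) (Γ i) : ℕ) : ℤ)
      pos := i₀.pos
      m_pos := fun i => Int.natCast_pos.2 (VertIntLib.mult_pos (X := Over.mk p) hreg hΓ i)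
      w_pos := fun i => Int.natCast_pos.2 (hd i).1
      g_nonneg := fun i => Int.natCast_nonneg _
      symm := Matrix.IsSymm.ext fun i j => VertIntLib.list_symm (X := Over.mk p) hreg hΓ hL j i
      offDiag_nonneg := fun i j hij => (VertIntLib.list_offdiag (X := Over.mk p) hreg hΓ hL hij).1
      connected := fun I h1 h2 => by
        obtain ⟨i, hi, j, hj, hne⟩ := VertIntLib.exists_meet (X := Over.mk p) hconn Γ
          (VertIntLib.cover_of_list (X := Over.mk p) hΓ) I h1 h2
        exact ⟨i, hi, j, hj, fun h0 =>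
          hne ((VertIntLib.list_offdiag (X := Over.mk p) hreg hΓ hL (fun (e : i = j) => hj (e ▸ hi))).2.1 h0)⟩
      mulVec_m := funext fun i => by
        refine Eq.trans ?_ (VertIntLib.list_row (X := Over.mk p) hreg hΓ hL i)
        simp only [Matrix.mulVec, dotProduct, a]
        exact Finset.sum_congr rfl fun j _ => mul_comm (ArSurf.inter R (Over.mk p) (L j) (Γ i)) (Models.mult R (Over.mk p) (Γ j) : ℤ)
      w_dvd := fun i j => (hd i).2.2 (L j) }
  have hwg : ∀ i, T.w i * T.g i = (Models.h1 R (Over.mk p) (Γ i) : ℤ) := fun i => by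
    show (Models.wdeg R (Over.mk p) (Γ i) : ℤ) * ((Models.h1 R (Over.mk p) (Γ i) / Models.wdeg R (Over.mk p) (Γ i) : ℕ) : ℤ) = _
    exact_mod_cast Nat.mul_div_cancel' (hd i).2.1
  refine ⟨T, fun i => rfl, fun i j => rfl, fun i => rfl, hwg, ?_⟩
  have h1 : ∑ i, T.m i * T.w i * (T.g i - 1) =
      ∑ i, T.m i * ((Models.h1 R (Over.mk p) (Γ i) : ℤ) - (Models.wdeg R (Over.mk p) (Γ i) : ℤ)) :=
    Finset.sum_congr rfl fun i _ => by rw [mul_assoc, mul_sub, mul_one, hwg]
  have h2 : 2 * (Models.curveGenus (FractionRing R) C f : ℤ) =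
      2 + 2 * ∑ i, T.m i * ((Models.h1 R (Over.mk p) (Γ i) : ℤ) - (Models.wdeg R (Over.mk p) (Γ i) : ℤ)) -
        ∑ i, T.m i * T.a i i := by
    rw [hgen, add_sub_assoc, Finset.mul_sum, ← Finset.sum_sub_distrib]
    congr 1
    exact Finset.sum_congr rfl fun i _ => by show _ = 2 * ((Models.mult R (Over.mk p) (Γ i) : ℤ) * _) - (Models.mult R (Over.mk p) (Γ i) : ℤ) * _; ring
  have key : ∀ (g S A : ℤ), 2 * g = 2 + 2 * S - A → 1 + S - A / 2 = g := fun g S A h => by
    obtain rfl : A = 2 * (1 + S - g) := by linarith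
    rw [Int.mul_ediv_cancel_left _ (two_ne_zero' ℤ)]
    ring
  rw [Models.NumericalType.genus, h1]
  exact key _ _ _ h2

end Groth.Agent.S3322
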