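import Groth.Statements.S3324
import Groth.Agent.VertChiLib.Chain
import Groth.Agent.VertChiLib.Fibre
import Groth.Agent.VertIntLib.Conn
-- import your own Groth.Agent.* helpers here

set_option autoImplicit false
universe u
open CategoryTheory CategoryTheory.Limits AlgebraicGeometry
open Models

set_option backward.isDefEq.respectTransparency false

namespace Groth.Agent.S3324

/-- In the following situation (R a discrete valuation ring with residue field k, C a smooth proper
curve over its fraction field K with H^0(C, O_C) = K, X a regular proper model, Γ_1, …, Γ_n the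
irreducible components of the closed fibre with multiplicities m_i) let d = gcd(m_1, …, m_n) and let
D be the closed subscheme Σ (m_i/d) Γ_i, with ideal sheaf Π I(Γ_i)^{m_i/d}. Then κ = H^0(D, O_D) is
a field and 1 - g_C = d [κ : k] (1 - g_D), where g_C = dim_K H^1(C, O_C) and g_D = dim_κ H^1(D,
O_D). Here the right hand side is written as d (dim_k H^0(D, O_D) - dim_k H^1(D, O_D)), the
k-dimensions being computed as R-lengths of the cohomology groups of O_D on X. -/
theorem result (R : Type u) [CommRing R] [IsDomain R] [IsDiscreteValuationRing R]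
    (C X : Scheme.{u}) (f : C ⟶ Spec (CommRingCat.of (FractionRing R))) (p : X ⟶ Spec (CommRingCat.of R))
    (hC : Curve.IsSmoothProperCurve (FractionRing R) C f) (hH0 : IsIso f.appTop)
    (hX : Models.IsRegularProperModel R X p C f)
    {n : ℕ} (Γ : Fin n → ArSurf.VertComp R (Over.mk p)) (hΓ : Models.IsComponentList R (Over.mk p) Γ) :
    IsField ↑(Γ((∏ i, (Γ i).ι.ker ^ (Models.mult R (Over.mk p) (Γ i) / Models.multGcd R (Over.mk p) Γ)).subscheme, ⊤)) ∧
      (1 : ℤ) - (Models.curveGenus (FractionRing R) C f : ℤ) =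
        (Models.multGcd R (Over.mk p) Γ : ℤ) * ((Models.lengthH R (Over.mk p) (ClSub.quotMod (∏ i, (Γ i).ι.ker ^ (Models.mult R (Over.mk p) (Γ i) / Models.multGcd R (Over.mk p) Γ))) 0 : ℤ) -
          (Models.lengthH R (Over.mk p) (ClSub.quotMod (∏ i, (Γ i).ι.ker ^ (Models.mult R (Over.mk p) (Γ i) / Models.multGcd R (Over.mk p) Γ))) 1 : ℤ)) := by
  classical
  obtain ⟨hMod, hp, hreg⟩ := hX
  haveI := hp
  haveI : IsIntegral (Over.mk p).left := VertIntLib.isIntegral_of_model hC hMod hreg
  haveI : Flat (Over.mk p).hom := hMod.1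
  haveI : IsProper (Over.mk p).hom := hp
  have hconn := VertIntLib.isPreconnected_fibre hC hH0 hMod
  obtain ⟨i₀⟩ := VertChiLib.exists_index (X := Over.mk p) hΓ
  obtain ⟨-, -, -, g, hg⟩ := hMod
  refine ⟨VertChiLib.isField_Dv (X := Over.mk p) hreg hΓ hconn i₀, ?_⟩
  have hC' := VertChiLib.isEffCartier_list (X := Over.mk p) hreg hΓ
  choose L hL using fun k => VertIntLib.exists_inverse (IntMultLib.isInvertible_idealMod _ (hC' k))
  have hm := VertChiLib.two_χ (X := Over.mk p) hreg hΓ hL (fun i => Models.mult R (Over.mk p) (Γ i))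
  rw [VertChiLib.χ_mult (X := Over.mk p) hreg hΓ hC hH0 hg] at hm
  have hd := VertChiLib.two_χ (X := Over.mk p) hreg hΓ hL (VertChiLib.Dv (X := Over.mk p) Γ)
  have hrow := fun i => VertIntLib.list_row (X := Over.mk p) hreg hΓ hL i
  obtain ⟨hgpos, -⟩ := VertChiLib.gcd_pos (X := Over.mk p) hreg hΓ i₀
  have hrow' : ∀ i, ∑ j, (VertChiLib.Dv (X := Over.mk p) Γ j : ℤ) *
      ArSurf.inter R (Over.mk p) (L j) (Γ i) = 0 := fun i => by
    have h := hrow i
    simp only [VertChiLib.mult_eq_mul_Dv (X := Over.mk p) (Γ := Γ), Nat.cast_mul, mul_assoc, ← Finset.mul_sum,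
      mul_eq_zero, Int.natCast_eq_zero, hgpos.ne', false_or] at h
    exact h
  simp only [hrow, mul_zero, Finset.sum_const_zero, neg_zero, zero_add] at hm
  simp only [hrow', mul_zero, Finset.sum_const_zero, neg_zero, zero_add] at hd
  simp only [VertChiLib.mult_eq_mul_Dv (X := Over.mk p) (Γ := Γ), Nat.cast_mul, mul_assoc, ← Finset.mul_sum] at hm
  rw [← hd] at hm
  change (1 : ℤ) - _ = (Models.multGcd R (Over.mk p) Γ : ℤ) *
    VertChiLib.χ R (ClSub.quotMod (VertChiLib.J (X := Over.mk p) Γ (VertChiLib.Dv (X := Over.mk p) Γ)))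
  linarith

end Groth.Agent.S3324
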