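import Groth.Statements.S3327
import Groth.Agent.VertChiLib.Meet
import Groth.Agent.VertChiLib.Exc
import Groth.Agent.VertChiLib.Fibre
import Groth.Agent.VertChiLib.Formula
import Groth.Agent.VertIntLib.Conn
import Groth.Agent.GenusZeroLib.Line
-- import your own Groth.Agent.* helpers here

set_option autoImplicit false
universe u
open CategoryTheory CategoryTheory.Limits AlgebraicGeometry
open Models

set_option backward.isDefEq.respectTransparency false

namespace Groth.Agent.S3327

/-- In the following situation (R a discrete valuation ring with residue field k, C a smooth proper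
curve over its fraction field K with H^0(C, O_C) = K, X a regular proper model, Γ_1, …, Γ_n the
irreducible components of the closed fibre with multiplicities m_l), suppose Γ_i and Γ_j (i ≠ j) are
exceptional curves of the first kind which meet. Then n = 2, all multiplicities are 1, every
component is k-isomorphic to the projective line over k, Γ_i and Γ_j meet in a single point x with
residue field k, scheme-theoretically (I(Γ_i) + I(Γ_j) is the ideal of the reduced point x), and C
has genus zero. -/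
theorem result (R : Type u) [CommRing R] [IsDomain R] [IsDiscreteValuationRing R]
    (C X : Scheme.{u}) (f : C ⟶ Spec (CommRingCat.of (FractionRing R))) (p : X ⟶ Spec (CommRingCat.of R))
    (hC : Curve.IsSmoothProperCurve (FractionRing R) C f) (hH0 : IsIso f.appTop)
    (hX : Models.IsRegularProperModel R X p C f)
    {n : ℕ} (Γ : Fin n → ArSurf.VertComp R (Over.mk p)) (hΓ : Models.IsComponentList R (Over.mk p) Γ)
    (i j : Fin n) (hij : i ≠ j) (hi : Models.IsExcCurve (Γ i).ι) (hj : Models.IsExcCurve (Γ j).ι)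
    (hmeet : ¬ Disjoint (Set.range ((Γ i).ι.base : (Γ i).curve.left → X))
      (Set.range ((Γ j).ι.base : (Γ j).curve.left → X))) :
    n = 2 ∧ (∀ l, Models.mult R (Over.mk p) (Γ l) = 1) ∧
      (∀ l, ∃ e : (Γ l).curve.left ≅ CohB1.ProjSpace 1 (IsLocalRing.ResidueField R),
        e.hom ≫ CohB1.ProjSpace.toSpec 1 (IsLocalRing.ResidueField R) = (Γ l).curve.hom) ∧
      (∃ x : X, Set.range ((Γ i).ι.base : (Γ i).curve.left → X) ∩ Set.range ((Γ j).ι.base : (Γ j).curve.left → X) = {x} ∧
        (Γ i).ι.ker ⊔ (Γ j).ι.ker =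
          Scheme.IdealSheafData.vanishingIdeal ⟨closure {x}, isClosed_closure⟩ ∧
        Function.Surjective ((X.residue x).hom.comp (Models.stalkHom R (Over.mk p) x))) ∧
      Models.curveGenus (FractionRing R) C f = 0 := by
  classical
  obtain ⟨hMod, hp, hreg⟩ := hX
  haveI := hp
  haveI : IsIntegral (Over.mk p).left := VertIntLib.isIntegral_of_model hC hMod hreg
  haveI : Flat (Over.mk p).hom := hMod.1
  haveI : IsProper (Over.mk p).hom := hp
  have hconn := VertIntLib.isPreconnected_fibre hC hH0 hMod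
  have hcov := VertIntLib.cover_of_list (X := Over.mk p) hΓ
  obtain ⟨-, -, -, g, hg⟩ := hMod
  have hCart := VertChiLib.isEffCartier_list (X := Over.mk p) hreg hΓ
  choose L hL using fun l => VertIntLib.exists_inverse (IntMultLib.isInvertible_idealMod _ (hCart l))
  have hwi := (VertChiLib.isExcCurve_iff (X := Over.mk p) (Γ i) (hCart i) (hL i)).1 hi
  have hwj := (VertChiLib.isExcCurve_iff (X := Over.mk p) (Γ j) (hCart j) (hL j)).1 hj
  have hdi := VertChiLib.dvd_inter (X := Over.mk p) (Γ i)
  have hdj := VertChiLib.dvd_inter (X := Over.mk p) (Γ j)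
  have hsym := VertIntLib.list_symm (X := Over.mk p) hreg hΓ hL i j
  have ha := VertIntLib.list_offdiag (X := Over.mk p) hreg hΓ hL hij
  have hapos : 0 < ArSurf.inter R (Over.mk p) (L j) (Γ i) :=
    lt_of_le_of_ne ha.1 fun h => hmeet (ha.2.1 h.symm)
  have hlei : (Models.wdeg R (Over.mk p) (Γ i) : ℤ) ≤ ArSurf.inter R (Over.mk p) (L j) (Γ i) :=
    Int.le_of_dvd hapos (hdi.2.2 _)
  have hlej : (Models.wdeg R (Over.mk p) (Γ j) : ℤ) ≤ ArSurf.inter R (Over.mk p) (L i) (Γ j) :=
    Int.le_of_dvd (lt_of_lt_of_eq hapos hsym) (hdj.2.2 _)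
  let e : Fin n → ℤ := Pi.single i 1 + Pi.single j 1
  have hquad : ∑ q : Fin n × Fin n, e q.1 * e q.2 * ArSurf.inter R (Over.mk p) (L q.2) (Γ q.1) =
      ArSurf.inter R (Over.mk p) (L i) (Γ i) + ArSurf.inter R (Over.mk p) (L j) (Γ i) +
        (ArSurf.inter R (Over.mk p) (L i) (Γ j) + ArSurf.inter R (Over.mk p) (L j) (Γ j)) := by
    rw [Fintype.sum_prod_type]
    simp only [e, Pi.add_apply, add_mul, mul_add, Finset.sum_add_distrib, Pi.single_apply, ite_mul, one_mul,
      zero_mul, mul_ite, mul_one, mul_zero, Finset.sum_ite_eq', Finset.mem_univ, if_true,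
      Finset.sum_ite_irrel, Finset.sum_const_zero]
    ring
  have hle := VertIntLib.list_quad_nonpos (X := Over.mk p) hreg hΓ hL e
  rw [hquad] at hle
  have hw : ArSurf.inter R (Over.mk p) (L j) (Γ i) = (Models.wdeg R (Over.mk p) (Γ i) : ℤ) ∧
      Models.wdeg R (Over.mk p) (Γ i) = Models.wdeg R (Over.mk p) (Γ j) := by
    have h1 := hwi.2; have h2 := hwj.2
    exact ⟨by linarith, by exact_mod_cast (show (Models.wdeg R (Over.mk p) (Γ i) : ℤ) =
      (Models.wdeg R (Over.mk p) (Γ j) : ℤ) by linarith)⟩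
  obtain ⟨c, hc⟩ := (VertIntLib.list_kernel (X := Over.mk p) hreg hΓ hL hconn hcov e).1 (by
    rw [hquad]; have h1 := hwi.2; have h2 := hwj.2; linarith)
  have hm := fun l => VertIntLib.mult_pos (X := Over.mk p) hreg hΓ l
  have hci := hc i
  have hcj := hc j
  simp only [e, Pi.add_apply, Pi.single_eq_same, Pi.single_eq_of_ne hij, Pi.single_eq_of_ne hij.symm,
    add_zero, zero_add, Int.cast_one] at hci hcj
  have hc0 : c ≠ 0 := fun h => by rw [h, zero_mul] at hci; exact one_ne_zero hci
  have hall : ∀ l, l = i ∨ l = j := by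
    intro l
    by_contra h
    rw [not_or] at h
    have := hc l
    simp only [e, Pi.add_apply, Pi.single_eq_of_ne h.1, Pi.single_eq_of_ne h.2, add_zero, Int.cast_zero] at this
    rcases mul_eq_zero.1 this.symm with h' | h'
    · exact hc0 h'
    · exact (hm l).ne' (by exact_mod_cast h')
  have huniv : (Finset.univ : Finset (Fin n)) = {i, j} :=
    Finset.ext fun l => by simpa using hall l
  have hn : n = 2 := by
    rw [← Fintype.card_fin n, ← Finset.card_univ, huniv, Finset.card_pair hij]
  have hmij : Models.mult R (Over.mk p) (Γ j) = Models.mult R (Over.mk p) (Γ i) := by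
    exact_mod_cast mul_left_cancel₀ hc0 (hcj.symm.trans hci)
  have hχ := VertChiLib.two_χ (X := Over.mk p) hreg hΓ hL fun l => Models.mult R (Over.mk p) (Γ l)
  rw [VertChiLib.χ_mult (X := Over.mk p) hreg hΓ hC hH0 hg,
    Finset.sum_congr rfl (fun l _ => by rw [VertIntLib.list_row (X := Over.mk p) hreg hΓ hL l, mul_zero]),
    Finset.sum_const_zero, huniv, Finset.sum_pair hij, hmij, VertChiLib.cst, VertChiLib.cst, hwi.1, hwi.2,
    hwj.1, hwj.2, ← hw.2] at hχ
  have hkey : (Models.mult R (Over.mk p) (Γ i) : ℤ) * (Models.wdeg R (Over.mk p) (Γ i) : ℤ) =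
      1 - (Models.curveGenus (FractionRing R) C f : ℤ) := by
    push_cast at hχ; linarith
  have h1le : (1 : ℤ) ≤ (Models.mult R (Over.mk p) (Γ i) : ℤ) * (Models.wdeg R (Over.mk p) (Γ i) : ℤ) := by
    exact_mod_cast Nat.mul_pos (hm i) hdi.1
  have hge : (0 : ℤ) ≤ (Models.curveGenus (FractionRing R) C f : ℤ) := Int.natCast_nonneg _
  have hg0 : Models.curveGenus (FractionRing R) C f = 0 := by
    exact_mod_cast (show (Models.curveGenus (FractionRing R) C f : ℤ) = 0 by linarith)
  have hmw : Models.mult R (Over.mk p) (Γ i) * Models.wdeg R (Over.mk p) (Γ i) = 1 := by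
    exact_mod_cast (show (Models.mult R (Over.mk p) (Γ i) : ℤ) * (Models.wdeg R (Over.mk p) (Γ i) : ℤ) = 1 by
      linarith)
  have hm1 := (mul_eq_one.1 hmw).1
  have hw1 := (mul_eq_one.1 hmw).2
  refine ⟨hn, fun l => ?_, fun l => ?_, ?_, hg0⟩
  · rcases hall l with rfl | rfl
    · exact hm1
    · exact hmij.trans hm1
  · have hl : Models.h1 R (Over.mk p) (Γ l) = 0 ∧ ArSurf.inter R (Over.mk p) (L l) (Γ l) = -1 := by
      rcases hall l with rfl | rfl
      · exact ⟨hwi.1, by rw [hwi.2, hw1, Nat.cast_one]⟩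
      · exact ⟨hwj.1, by rw [hwj.2, ← hw.2, hw1, Nat.cast_one]⟩
    haveI := VertIntLib.isProper_curve (X := Over.mk p) (Γ l)
    haveI : IsIntegral (Γ l).curve.left := (Γ l).isIntegral
    haveI : Module.Finite (IsLocalRing.ResidueField R)
        (Coh.HH (Γ l).curve.left (Coh.structureModule (Γ l).curve.left) 1) :=
      CurvLib.finite_HH (k := IsLocalRing.ResidueField R) (DevissLib.isCoh_structureModule _) 1
    have hneg := VertIntLib.inter_eq_neg (X := Over.mk p) (Γ l) (hCart l) (hL l)
    rw [hl.2, neg_inj] at hneg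
    exact GenusZeroLib.exists_iso_of_deg_one (IsLocalRing.ResidueField R) (Γ l).dim_eq
      ((Module.finrank_zero_iff (R := IsLocalRing.ResidueField R)).1 hl.1)
      (AmpleDevLib.isInvertible_pb (Γ l).ι (IntMultLib.isInvertible_idealMod _ (hCart l))) hneg.symm
  · have hfc := VertChiLib.finite_inter_range (X := Over.mk p) hΓ hij
    have hlen := VertIntLib.inter_eq_lengthH (X := Over.mk p) (Γ i) (hCart j)
      (VertIntLib.genPt_not_mem_of_isFibGen (X := Over.mk p) (Γ i)
        (VertIntLib.isFibGen_of_list (X := Over.mk p) hΓ i) (Γ j) fun h => hij (hΓ.1 h)) (hL j)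
    rw [hw.1, hw1, sup_comm] at hlen
    have hsupp : (((Γ i).ι.ker ⊔ (Γ j).ι.ker).support : Set (Over.mk p).left) =
        Set.range (Γ i).ι.base ∩ Set.range (Γ j).ι.base := by
      rw [Scheme.IdealSheafData.support_sup, TopologicalSpace.Closeds.coe_inf, Scheme.Hom.support_ker,
        Scheme.Hom.support_ker]
      exact congrArg₂ _ (Γ i).ι.isClosedEmbedding.isClosed_range.closure_eq
        (Γ j).ι.isClosedEmbedding.isClosed_range.closure_eq
    obtain ⟨x, hx, hI, hres⟩ := VertChiLib.point_of_len_one (X := Over.mk p) (hsupp ▸ hfc.1)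
      (hsupp ▸ hfc.2) (by exact_mod_cast hlen.symm)
    exact ⟨x, hsupp.symm.trans hx, hI, hres⟩

end Groth.Agent.S3327
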