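import Groth.Statements.S3329
import Groth.Agent.MinModLib.SeqOf
import Groth.Agent.ProjModLib.Dim
-- import your own Groth.Agent.* helpers here

set_option autoImplicit false
universe u
open CategoryTheory CategoryTheory.Limits AlgebraicGeometry
open Models

set_option backward.isDefEq.respectTransparency false
set_option backward.isDefEq.respectTransparency.types false

namespace Groth.Agent.S3329

/-- Let R be a discrete valuation ring with fraction field K, C a smooth proper curve over K with H^0(C,
O_C) = K, and Y a regular proper model of C with generic-fibre inclusion g_Y. Then there are a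
minimal model X of C, with generic-fibre inclusion g_X, and a morphism of models Y → X (an
R-morphism compatible with g_Y and g_X) which is a finite composite of contractions of exceptional
curves of the first kind. -/
theorem result (R : Type u) [CommRing R] [IsDomain R] [IsDiscreteValuationRing R]
    (C Y : Scheme.{u}) (f : C ⟶ Spec (CommRingCat.of (FractionRing R))) (q : Y ⟶ Spec (CommRingCat.of R))
    (hC : Curve.IsSmoothProperCurve (FractionRing R) C f) (hH0 : IsIso f.appTop)
    (hY : Models.IsRegularProperModel R Y q C f) (gY : C ⟶ Y) (hgY : IsPullback gY f q (Spec.map (CommRingCat.ofHom (algebraMap R (FractionRing R))))) :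
    ∃ (X : Scheme.{u}) (p : X ⟶ Spec (CommRingCat.of R)) (gX : C ⟶ X) (b : Y ⟶ X),
      Models.IsMinimalModel R X p C f ∧
      IsPullback gX f p (Spec.map (CommRingCat.ofHom (algebraMap R (FractionRing R)))) ∧
      b ≫ p = q ∧ gY ≫ b = gX ∧ Models.IsContractionSeq b := by
  have hYA := ProjModLib.isArithSurface_model hC hY
  obtain ⟨Z, g, hZ, hgi, hne⟩ := MinModLib.exists_no_exc_target _ hYA le_rfl
  haveI := hgi
  obtain ⟨hZi, hZp, hZn⟩ := PtBlowFactLib.surf_instances hZ
  haveI := hZp
  have hpb := MinModLib.isPullback_comp_generic (X := Over.mk q) g hgY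
  exact ⟨Z.left, Z.hom, gY ≫ g.left, g.left,
    ⟨⟨⟨hZ.2.2.2.1, inferInstance, inferInstance, _, hpb⟩, hZp, hZ.1⟩, hne⟩,
    hpb, Over.w g, rfl, MinModLib.isContractionSeq_of_birational _ hYA hZ g le_rfl⟩

end Groth.Agent.S3329
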