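import Groth.Statements.S3330
import Groth.Agent.MinModLib.Unique
import Groth.Agent.ProjModLib.Dim
import Groth.Agent.S7941
-- import your own Groth.Agent.* helpers here

set_option autoImplicit false
universe u
open CategoryTheory CategoryTheory.Limits AlgebraicGeometry
open Models

set_option backward.isDefEq.respectTransparency false
set_option backward.isDefEq.respectTransparency.types false

namespace Groth.Agent.S3330

/-- Let R be a discrete valuation ring with fraction field K and C a smooth proper curve over K with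
H^0(C, O_C) = K and positive genus dim_K H^1(C, O_C) > 0. If X₁ and X₂ are minimal models of C with
generic-fibre inclusions g₁, g₂, then there is a unique isomorphism X₁ ≅ X₂ of models (over R,
carrying g₁ to g₂). -/
theorem result (R : Type u) [CommRing R] [IsDomain R] [IsDiscreteValuationRing R]
    (C X₁ X₂ : Scheme.{u}) (f : C ⟶ Spec (CommRingCat.of (FractionRing R)))
    (p₁ : X₁ ⟶ Spec (CommRingCat.of R)) (p₂ : X₂ ⟶ Spec (CommRingCat.of R))
    (hC : Curve.IsSmoothProperCurve (FractionRing R) C f) (hH0 : IsIso f.appTop)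
    (hg : 0 < Models.curveGenus (FractionRing R) C f)
    (h₁ : Models.IsMinimalModel R X₁ p₁ C f) (h₂ : Models.IsMinimalModel R X₂ p₂ C f)
    (g₁ : C ⟶ X₁) (hg₁ : IsPullback g₁ f p₁ (Spec.map (CommRingCat.ofHom (algebraMap R (FractionRing R)))))
    (g₂ : C ⟶ X₂) (hg₂ : IsPullback g₂ f p₂ (Spec.map (CommRingCat.ofHom (algebraMap R (FractionRing R))))) :
    ∃! e : X₁ ≅ X₂, e.hom ≫ p₂ = p₁ ∧ g₁ ≫ e.hom = g₂ := by
  obtain ⟨hC1, hC2, hC3, hC4⟩ := id hC
  haveI := hC3
  have hA₁ := ProjModLib.isArithSurface_model hC h₁.1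
  have hA₂ := ProjModLib.isArithSurface_model hC h₂.1
  have hχ₁ := MinModLib.euler_generic_nonpos hA₁ (g := g₁) hg₁ hC hH0 hg
  have hχ₂ := MinModLib.euler_generic_nonpos hA₂ (g := g₂) hg₂ hC hH0 hg
  obtain ⟨a, ha⟩ := MinModLib.exists_model_map (Groth.Agent.S7941.result R) hA₁ hA₂ h₁.2 hχ₁ (g := g₁) hg₁ hg₂
  obtain ⟨b, hb⟩ := MinModLib.exists_model_map (Groth.Agent.S7941.result R) hA₂ hA₁ h₂.2 hχ₂ (g := g₂) hg₂ hg₁
  have e₁ : b ≫ a = 𝟙 _ := MinModLib.model_map_ext hA₁ hA₁ (g' := g₁) hg₁ (by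
    rw [Over.comp_left, reassoc_of% hb, ha, Over.id_left, Category.comp_id])
  have e₂ : a ≫ b = 𝟙 _ := MinModLib.model_map_ext hA₂ hA₂ (g' := g₂) hg₂ (by
    rw [Over.comp_left, reassoc_of% ha, hb, Over.id_left, Category.comp_id])
  refine ⟨⟨b.left, a.left, by rw [← Over.comp_left, e₁]; rfl, by rw [← Over.comp_left, e₂]; rfl⟩,
    ⟨Over.w b, hb⟩, fun e he => Iso.ext ?_⟩
  exact congrArg CommaMorphism.left (MinModLib.model_map_ext hA₂ hA₁ (g' := g₁) hg₁ (k := Over.homMk e.hom he.1)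
    (k' := b) (he.2.trans hb.symm))

end Groth.Agent.S3330
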