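import Groth.Statements.S3331
import Groth.Agent.MinModLib.Unique
import Groth.Agent.ProjModLib.Dim
import Groth.Agent.S7941
-- import your own Groth.Agent.* helpers here

set_option autoImplicit false
universe u
open CategoryTheory CategoryTheory.Limits AlgebraicGeometry
open Models

set_option backward.isDefEq.respectTransparency false
set_option backward.isDefEq.respectTransparency.types false

namespace Groth.Agent.S3331

/-- Let R be a discrete valuation ring with fraction field K, C a smooth proper curve over K with H^0(C,
O_C) = K and positive genus, X a minimal model of C and Y a regular proper model of C, with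
generic-fibre inclusions g_X, g_Y. Then there is exactly one morphism of models Y → X, and it is a
finite composite of contractions of exceptional curves of the first kind. -/
theorem result (R : Type u) [CommRing R] [IsDomain R] [IsDiscreteValuationRing R]
    (C X Y : Scheme.{u}) (f : C ⟶ Spec (CommRingCat.of (FractionRing R)))
    (p : X ⟶ Spec (CommRingCat.of R)) (q : Y ⟶ Spec (CommRingCat.of R))
    (hC : Curve.IsSmoothProperCurve (FractionRing R) C f) (hH0 : IsIso f.appTop)
    (hg : 0 < Models.curveGenus (FractionRing R) C f)
    (hX : Models.IsMinimalModel R X p C f) (hY : Models.IsRegularProperModel R Y q C f)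
    (gX : C ⟶ X) (hgX : IsPullback gX f p (Spec.map (CommRingCat.ofHom (algebraMap R (FractionRing R)))))
    (gY : C ⟶ Y) (hgY : IsPullback gY f q (Spec.map (CommRingCat.ofHom (algebraMap R (FractionRing R))))) :
    (∃! b : Y ⟶ X, b ≫ p = q ∧ gY ≫ b = gX) ∧
      ∀ b : Y ⟶ X, b ≫ p = q → gY ≫ b = gX → Models.IsContractionSeq b := by
  obtain ⟨hC1, hC2, hC3, hC4⟩ := id hC
  haveI := hC3
  have hXA := ProjModLib.isArithSurface_model hC hX.1
  have hYA := ProjModLib.isArithSurface_model hC hY
  have hχ := MinModLib.euler_generic_nonpos hXA (g := gX) hgX hC hH0 hg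
  obtain ⟨k, hk⟩ := MinModLib.exists_model_map (Groth.Agent.S7941.result R) hXA hYA hX.2 hχ (g := gX) hgX hgY
  have huniq : ∀ b : Y ⟶ X, b ≫ p = q → gY ≫ b = gX → b = k.left := fun b h1 h2 => by
    have h := MinModLib.model_map_ext hXA hYA (g' := gY) hgY (k := Over.homMk b h1) (k' := k) (h2.trans hk.symm)
    exact congrArg CommaMorphism.left h
  refine ⟨⟨k.left, ⟨Over.w k, hk⟩, fun b hb => huniq b hb.1 hb.2⟩, fun b h1 h2 => ?_⟩
  let B : Over.mk q ⟶ Over.mk p := Over.homMk b h1
  haveI : IsIso ((Neron.genericFibre R).map B) :=
    MinModLib.isIso_generic_of_comp B (g := gY) hgY (by rw [show gY ≫ B.left = gX from h2]; exact hgX)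
  exact MinModLib.isContractionSeq_of_birational _ hYA hXA B le_rfl

end Groth.Agent.S3331
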