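import Groth.Statements.S3332
import Groth.Agent.GenusZeroModLib.Dom
import Groth.Agent.ProjModLib.Dim
import Groth.Agent.S7941

set_option backward.isDefEq.respectTransparency false
set_option backward.isDefEq.respectTransparency.types false

set_option autoImplicit false
universe u
open CategoryTheory CategoryTheory.Limits AlgebraicGeometry
open Models

namespace Groth.Agent.S3332

/-- Let R be a discrete valuation ring with residue field k and fraction field K, and C a smooth proper
curve over K with H^0(C, O_C) = K and genus zero. Suppose C has two minimal models X₁, X₂ (with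
generic-fibre inclusions g₁, g₂) that are not isomorphic as models. Then the closed fibre of every
minimal model X of C is k-isomorphic to the projective line over k. -/
theorem result (R : Type u) [CommRing R] [IsDomain R] [IsDiscreteValuationRing R]
    (C X₁ X₂ X : Scheme.{u}) (f : C ⟶ Spec (CommRingCat.of (FractionRing R)))
    (p₁ : X₁ ⟶ Spec (CommRingCat.of R)) (p₂ : X₂ ⟶ Spec (CommRingCat.of R)) (p : X ⟶ Spec (CommRingCat.of R))
    (hC : Curve.IsSmoothProperCurve (FractionRing R) C f) (hH0 : IsIso f.appTop)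
    (hg : Models.curveGenus (FractionRing R) C f = 0)
    (h₁ : Models.IsMinimalModel R X₁ p₁ C f) (h₂ : Models.IsMinimalModel R X₂ p₂ C f)
    (hXm : Models.IsMinimalModel R X p C f)
    (g₁ : C ⟶ X₁) (hg₁ : IsPullback g₁ f p₁ (Spec.map (CommRingCat.ofHom (algebraMap R (FractionRing R)))))
    (g₂ : C ⟶ X₂) (hg₂ : IsPullback g₂ f p₂ (Spec.map (CommRingCat.ofHom (algebraMap R (FractionRing R)))))
    (hne : ∀ e : X₁ ≅ X₂, e.hom ≫ p₂ = p₁ → g₁ ≫ e.hom ≠ g₂) :
    ∃ e : Models.specialFibre R X p ≅ CohB1.ProjSpace 1 (IsLocalRing.ResidueField R),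
      e.hom ≫ CohB1.ProjSpace.toSpec 1 (IsLocalRing.ResidueField R) =
        pullback.snd p (Spec.map (CommRingCat.ofHom (algebraMap R (IsLocalRing.ResidueField R)))) := by
  obtain ⟨hC1, hC2, hC3, hC4⟩ := id hC
  haveI := hC3
  obtain ⟨-, -, -, g₀, hg₀⟩ := hXm.1.1
  have hA := ProjModLib.isArithSurface_model hC hXm.1
  have hA₁ := ProjModLib.isArithSurface_model hC h₁.1
  have hA₂ := ProjModLib.isArithSurface_model hC h₂.1
  rcases GenusZeroModLib.iso_or_line (Groth.Agent.S7941.result R) hA hA₁ (g := g₀) (g' := g₁) hg₀ hg₁ hC hH0 hg hXm.2 h₁.2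
    with ⟨k₁, hk₁⟩ | h
  · rcases GenusZeroModLib.iso_or_line (Groth.Agent.S7941.result R) hA hA₂ (g := g₀) (g' := g₂) hg₀ hg₂ hC hH0 hg hXm.2 h₂.2
      with ⟨k₂, hk₂⟩ | h
    · refine absurd ?_ (hne ((Over.forget _).mapIso (k₁ ≪≫ k₂.symm)) (Over.w (k₁.hom ≫ k₂.inv)))
      show g₁ ≫ k₁.hom.left ≫ k₂.inv.left = g₂
      have h2 : k₂.hom.left ≫ k₂.inv.left = 𝟙 _ := by rw [← Over.comp_left, k₂.hom_inv_id]; rfl
      rw [reassoc_of% hk₁, ← hk₂, Category.assoc, h2, Category.comp_id]
    · exact h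
  · exact h

end Groth.Agent.S3332
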