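import Groth.Statements.S3334
import Groth.Agent.CurveFFLib.SepPoint
import Groth.Agent.JacTorsLib.Point
import Groth.Agent.VeryAmpleLib.Bc
import Groth.Agent.VertChiLib.Fibre
import Groth.Agent.ConicCurveLib.Ruled
import Groth.Agent.GenusZeroLib.Apps
import Groth.Agent.HurwitzLib.SmoothCurve

set_option autoImplicit false
set_option backward.isDefEq.respectTransparency false
set_option backward.isDefEq.respectTransparency.types false
set_option maxHeartbeats 1000000
universe u
open CategoryTheory CategoryTheory.Limits AlgebraicGeometry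
open Models

namespace Groth.Agent.S3334


section Aux
open CategoryTheory CategoryTheory.Limits AlgebraicGeometry FunFld
attribute [local instance] Curv2.resAlgebra
attribute [local instance] CurveDualLib.algFF

variable {k : Type u} [Field k] {X : Scheme.{u}} [X.Over (Spec (CommRingCat.of k))] [IsIntegral X]
  [IsProper (X ↘ Spec (CommRingCat.of k))] [Smooth (X ↘ Spec (CommRingCat.of k))]
  (hdim : topologicalKrullDim X = 1)
  (h0 : Module.finrank k (Coh.HH X (Coh.structureModule X) 0) = 1)

include hdim h0 in
theorem differential_ne_zero (p : ℕ) [Fact p.Prime] [ExpChar k p]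
    {D : Divisor k X.functionField} (hD : 0 ≤ D) (hdeg : D.deg = 2)
    (hl : 3 ≤ ell D) :
    ∃ f ∈ L D, KaehlerDifferential.D k X.functionField f ≠ 0 := by
  classical
  by_contra hne
  push Not at hne
  obtain ⟨Y, _, _, _, _, hY, hY0, hYg, φ, ⟨hfin, hrk⟩, hker⟩ := CurveFFLib.exists_frobenius_subfield (k := k) hdim h0 p
  letI := φ.toRingHom.toAlgebra
  haveI := hfin
  haveI : IsScalarTower k Y.functionField X.functionField := IsScalarTower.of_algebraMap_eq fun c => (φ.commutes c).symm
  have hKY := CurveDualLib.isFunctionField' (k := k) hY hY0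
  have hKX := CurveDualLib.isFunctionField' (k := k) hdim h0
  haveI := Groth.Agent.S10976.result k X.functionField hKX D
  let b := Module.finBasis k (L D)
  choose a ha using fun i => hker (b i).1 (hne _ (b i).2)
  obtain ⟨E, hE0, hE, hEc⟩ := CurveFFLib.exists_divisor_below hKY hD Finset.univ a fun i _ => by
    rw [show algebraMap Y.functionField X.functionField (a i) = (b i).1 from ha i]
    exact (b i).2
  haveI := Groth.Agent.S10976.result k Y.functionField hKY E
  let v : Fin (Module.finrank k (L D)) → L E := fun i => ⟨a i, hE i (Finset.mem_univ _)⟩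
  have hv : LinearIndependent k v := by
    rw [Fintype.linearIndependent_iff]
    intro c hc
    refine Fintype.linearIndependent_iff.1 b.linearIndependent c (Subtype.ext ?_)
    have h := congrArg (fun z : L E => φ z.1) hc
    simpa [v, map_sum, Algebra.smul_def, ← ha] using h
  have h1 := hv.fintype_card_le_finrank
  rw [Fintype.card_fin] at h1
  replace h1 : ell D ≤ ell E := h1
  have h2 := Groth.Agent.FFLib.deg_mono hEc
  rw [Groth.Agent.FFLib.deg_conorm hKY.1, hdeg] at h2
  have hEd : 0 ≤ E.deg := Groth.Agent.FFLib.deg_nonneg hE0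
  have h3 : 2 * E.deg ≤ (2 : ℤ) := le_trans (mul_le_mul_of_nonneg_right (by exact_mod_cast hrk) hEd) h2
  have h4 := Groth.Agent.FFLib.ell_le_deg_add_one hKY hE0
  have h6 : ell E ≤ E.deg + 1 := h4
  omega

include hdim h0 in
/-- A conic has a separable point of degree at most two. -/
theorem exists_sep_point (hg : Curv2.genus k X = 0) :
    ∃ x : X, IsClosed ({x} : Set X) ∧ Algebra.IsSeparable k (X.residueField x) ∧
      Module.finrank k (X.residueField x) ≤ 2 ∧ FiniteDimensional k (X.residueField x) := by
  classical
  have hK := CurveDualLib.isFunctionField' (k := k) hdim h0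
  obtain ⟨C, hC⟩ := Groth.Agent.FFLib.exists_canonical hK
  obtain ⟨hlC, hdC⟩ := Groth.Agent.FFLib.canonical_ell_deg hK hC
  rw [CurveDualLib.genus_eq' hdim h0, hg] at hlC hdC
  set D₀ : Divisor k X.functionField := 0 - C
  have hd0 : D₀.deg = 2 := by rw [Groth.Agent.FFLib.deg_sub, Groth.Agent.FFLib.deg_zero, hdC]; simp
  have hrr := Groth.Agent.FFLib.riemann_roch hK hC D₀
  rw [CurveDualLib.genus_eq' hdim h0, hg, hd0] at hrr
  have hl0 : 3 ≤ ell D₀ := by omega
  obtain ⟨z, hz, hD⟩ := Groth.Agent.FFLib.exists_effective_of_ell_pos hK.1 (D := D₀) (by omega)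
  set D := D₀ + FunFld.div k z
  have hdeg : D.deg = 2 := by
    rw [Groth.Agent.FFLib.deg_add, Groth.Agent.FFLib.deg_div hK.1, hd0, add_zero]
  have hl : 3 ≤ FunFld.ell D := by rw [Groth.Agent.FFLib.ell_add_div hK.1 D₀ hz]; omega
  have key : ∀ (x : X) (hx : IsClosed ({x} : Set X)) (E : FunFld.Divisor k X.functionField), 0 ≤ E →
      E.deg ≤ (2 : ℤ) → 0 < E (CurveDualLib.ptPlace (k := k) hdim hx) →
      Module.finrank k (X.residueField x) ≤ 2 := by
    intro x hx E hE0 hEd hEx
    have hle : Finsupp.single (CurveDualLib.ptPlace (k := k) hdim hx) 1 ≤ E := fun P => by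
      rw [Finsupp.single_apply]
      split_ifs with h
      · subst h; omega
      · exact hE0 P
    have h1 := Groth.Agent.FFLib.deg_mono hle
    rw [Groth.Agent.FFLib.deg_single, one_mul] at h1
    rw [ZetaCurveLib.finrank_residueField hdim hx]
    omega
  by_cases hperf : PerfectField k
  · obtain ⟨P, hP⟩ : ∃ P, 0 < D P := by
      by_contra h
      push Not at h
      have := Groth.Agent.FFLib.deg_mono (show D ≤ 0 from fun P => h P)
      rw [Groth.Agent.FFLib.deg_zero] at this
      omega
    obtain ⟨x, hx, rfl⟩ := CurveDualLib.exists_point (k := k) hdim P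
    haveI : Module.Finite k (X.residueField x) := HurwitzLib.finite_residueField (k := k) hx
    exact ⟨x, hx, inferInstance, key x hx D hD hdeg.le hP, inferInstance⟩
  haveI : Infinite k := by
    by_contra h
    rw [not_infinite_iff_finite] at h
    exact hperf inferInstance
  obtain ⟨p, hpe⟩ := ExpChar.exists k
  haveI := hpe
  haveI : Fact p.Prime := ⟨by
    rcases hpe with _ | ⟨hq⟩
    · exact absurd (PerfectField.ofCharZero : PerfectField k) hperf
    · assumption⟩
  obtain ⟨f, hfD, hdf⟩ := differential_ne_zero hdim h0 p hD hdeg hl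
  haveI := AbSchLib.geometricallyReduced_of_smooth (X ↘ Spec (CommRingCat.of k))
  obtain ⟨x₁, b, hb⟩ := CurveFFLib.exists_basis_D (k := k) (X := X) 1 (by rw [hdim]; rfl)
  have hspan : ∀ ω : Ω[X.functionField⁄k], ∃ c : X.functionField, ω = c • KaehlerDifferential.D k X.functionField f := by
    intro ω
    have h1 : ∀ v : Ω[X.functionField⁄k], v = b.repr v ⟨0⟩ • b ⟨0⟩ := fun v => by
      conv_lhs => rw [← b.sum_repr v]
      rw [Fintype.sum_eq_single (⟨0⟩ : ULift (Fin 1)) fun i hi => absurd (Subsingleton.elim i _) hi]
    have ha : b.repr (KaehlerDifferential.D k X.functionField f) ⟨0⟩ ≠ 0 := fun h => hdf (by rw [h1 (KaehlerDifferential.D k _ f), h, zero_smul])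
    refine ⟨b.repr ω ⟨0⟩ / b.repr (KaehlerDifferential.D k X.functionField f) ⟨0⟩, ?_⟩
    generalize hv : KaehlerDifferential.D k X.functionField f = v at ha ⊢
    obtain ⟨e, he⟩ : ∃ e, b.repr v ⟨0⟩ = e := ⟨_, rfl⟩
    have hv' := h1 v
    rw [he] at hv' ha ⊢
    rw [hv', smul_smul, div_mul_cancel₀ _ ha]
    exact h1 ω
  obtain ⟨U, hηU, hU⟩ := CurveFFLib.exists_good_open (k := k) hdim hdf hspan
  haveI := CurvLib.isNoetherian k (X := X)
  have hfin : ((U : Set X)ᶜ).Finite :=
    (CurvLib.finite_isClosed_of_dim_le_zero U.isOpen.isClosed_compl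
      (CurvLib.topologicalKrullDim_le_zero_of_lt hdim U.isOpen.isClosed_compl
        fun h => (h.ge (Set.mem_univ (genericPoint X))) hηU)).1
  let bad : X → Set k := fun x => {c | ∃ hx : IsClosed ({x} : Set X),
    0 < (CurveDualLib.ptPlace (k := k) hdim hx).ord (f - algebraMap k X.functionField c)}
  have hbad : ∀ x, (bad x).Subsingleton := by
    rintro x a ⟨hx, ha⟩ c ⟨_, hc⟩
    by_contra hne
    have hne' : a - c ≠ 0 := sub_ne_zero.2 hne
    set P := CurveDualLib.ptPlace (k := k) hdim hx
    have ha0 : f - algebraMap k X.functionField a ≠ 0 := fun h => by rw [h] at ha; simp [FunFld.Place.ord] at ha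
    have hc0 : f - algebraMap k X.functionField c ≠ 0 := fun h => by rw [h] at hc; simp [FunFld.Place.ord] at hc
    have ha' := (Groth.Agent.FFLib.v_lt_one_iff P ha0).2 ha
    have hc' := (Groth.Agent.FFLib.v_lt_one_iff P hc0).2 hc
    have hlt := lt_of_le_of_lt (P.1.map_sub (f - algebraMap k X.functionField c) (f - algebraMap k X.functionField a))
      (max_lt hc' ha')
    rw [sub_sub_sub_cancel_left, ← map_sub, Groth.Agent.FFLib.v_const P hne'] at hlt
    exact lt_irrefl _ hlt
  obtain ⟨c, hc⟩ : ∃ c, c ∉ ⋃ x ∈ ((U : Set X)ᶜ), bad x :=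
    (Set.Finite.biUnion hfin fun x _ => (hbad x).finite).exists_notMem
  have hnc : f - algebraMap k X.functionField c ∉ Set.range (algebraMap k X.functionField) := by
    rintro ⟨e, he⟩
    refine hdf ?_
    rw [show f = algebraMap k X.functionField (e + c) by rw [map_add, he]; ring, Derivation.map_algebraMap]
  have htr := Groth.Agent.FFLib.transcendental_of_notMem hK hnc
  have htr' : Transcendental k (f - algebraMap k X.functionField c)⁻¹ := fun h => htr (inv_inv (f - _) ▸ h.inv)
  have hne : f - algebraMap k X.functionField c ≠ 0 := fun h => hnc (h ▸ ⟨0, map_zero _⟩)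
  have hfin' := Groth.Agent.FFLib.finite_adjoin hK.1 htr'
  have hpos : 0 < (Groth.Agent.FFLib.pole (k := k) (f - algebraMap k X.functionField c)⁻¹).deg := by
    rw [Groth.Agent.FFLib.deg_pole hK.1 htr']
    exact_mod_cast Module.finrank_pos
  obtain ⟨P, hP⟩ : ∃ P, 0 < Groth.Agent.FFLib.pole (k := k) (f - algebraMap k X.functionField c)⁻¹ P := by
    by_contra h
    push Not at h
    have := Groth.Agent.FFLib.deg_mono (E := 0) (fun P => h P)
    rw [Groth.Agent.FFLib.deg_zero] at this
    omega
  obtain ⟨x, hx, rfl⟩ := CurveDualLib.exists_point (k := k) hdim P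
  have hord : 0 < (CurveDualLib.ptPlace (k := k) hdim hx).ord (f - algebraMap k X.functionField c) := by
    rw [Groth.Agent.FFLib.pole_apply hK.1, Groth.Agent.FFLib.ord_inv] at hP
    omega
  have hxU : x ∈ U := by
    by_contra h
    exact hc (Set.mem_biUnion (show x ∈ ((U : Set X)ᶜ) from h) ⟨hx, hord⟩)
  have hmem : f - algebraMap k X.functionField c ∈ FunFld.L D := by
    refine sub_mem hfD fun Q => ?_
    rcases eq_or_ne c 0 with rfl | hc0
    · simp
    rw [Groth.Agent.FFLib.v_const Q hc0, ← WithZero.exp_zero, WithZero.exp_le_exp]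
    exact hD Q
  have hpole : (Groth.Agent.FFLib.pole (k := k) (f - algebraMap k X.functionField c)⁻¹).deg ≤
      (2 : ℤ) := by
    have h1 : (Groth.Agent.FFLib.pole (k := k) (f - algebraMap k X.functionField c)).deg ≤ D.deg :=
      Groth.Agent.FFLib.deg_mono fun Q => by
        have := (Groth.Agent.FFLib.mem_L_iff hne).1 hmem Q
        rw [Groth.Agent.FFLib.pole_apply hK.1]
        have h0' : (0 : ℤ) ≤ D Q := hD Q
        omega
    have h2 := Groth.Agent.FFLib.deg_div hK.1 (f - algebraMap k X.functionField c)
    rw [Groth.Agent.FFLib.div_eq_pole_sub hK.1, Groth.Agent.FFLib.deg_sub] at h2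
    omega
  exact ⟨x, hx, hU x hx hxU c hord, key x hx _ (Groth.Agent.FFLib.pole_nonneg _) hpole hP,
    HurwitzLib.finite_residueField (k := k) hx⟩


end Aux

/-- Let R be a discrete valuation ring with fraction field K and C a smooth proper curve over K with
H^0(C, O_C) = K and genus dim_K H^1(C, O_C) = 0. Then there is a finite separable field extension K
→ K' of degree at most 2 such that C_{K'} is K'-isomorphic to the projective line over K' (so that
C_{K'} is the generic fibre of the projective line over the integral closure of R in K'). The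
printed statement says degree 2; the argument produces an extension of degree at most 2, which is
what is asserted here. -/
theorem result (R : Type u) [CommRing R] [IsDomain R] [IsDiscreteValuationRing R]
    (C : Scheme.{u}) (f : C ⟶ Spec (CommRingCat.of (FractionRing R)))
    (hC : Curve.IsSmoothProperCurve (FractionRing R) C f) (hH0 : IsIso f.appTop)
    (hg : Models.curveGenus (FractionRing R) C f = 0) :
    ∃ (K' : Type u) (_ : Field K') (ψ : FractionRing R →+* K'),
      Models.IsFiniteSeparable ψ ∧ Models.homDegree ψ ≤ 2 ∧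
      ∃ e : (pullback f (Spec.map (CommRingCat.ofHom ψ))) ≅ CohB1.ProjSpace 1 K',
        e.hom ≫ CohB1.ProjSpace.toSpec 1 K' = (pullback.snd f (Spec.map (CommRingCat.ofHom ψ))) := by
  letI : C.Over (Spec (CommRingCat.of (FractionRing R))) := ⟨f⟩
  obtain ⟨hp, hs, hint, hdim⟩ := id hC
  haveI : IsProper (C ↘ Spec (CommRingCat.of (FractionRing R))) := hp
  haveI : Smooth (C ↘ Spec (CommRingCat.of (FractionRing R))) := hs
  haveI := hint
  have hg' : Curv2.genus (FractionRing R) C = 0 := hg
  haveI : IsNoetherian C := CurvLib.isNoetherian (FractionRing R) (X := C)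
  have h0 : Module.finrank (FractionRing R) (Coh.HH C (Coh.structureModule C) 0) = 1 := by
    have h1 := VertChiLib.euler_curve hC hH0
    rw [CurvLib.euler_eq_sub fun j hj => CurvLib.subsingleton_HH_of_dim_le _ (d := 1) hdim.le j (by omega), hg] at h1
    change (_ : ℤ) - (Curv2.genus (FractionRing R) C : ℤ) = _ at h1
    rw [hg'] at h1
    omega
  obtain ⟨x, -, hsep, hle, hfin⟩ := exists_sep_point hdim h0 hg'
  letI alg : Algebra (FractionRing R) (C.residueField x) := Curv2.resAlgebra (FractionRing R) C x
  obtain ⟨σ, hσ⟩ := JacTorsLib.exists_sec (FractionRing R) C x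
  refine ⟨C.residueField x, inferInstance, algebraMap (FractionRing R) (C.residueField x), ⟨?_, ?_⟩, ?_, ?_⟩
  · convert hfin using 1
  · convert hsep using 1
  · refine le_of_eq_of_le ?_ hle
    show @Module.finrank _ _ _ _ _ = _
    congr 1
  · letI := VeryAmpleLib.bcOver (FractionRing R) C (C.residueField x)
    haveI := VeryAmpleLib.isProper_bc (FractionRing R) C (C.residueField x)
    haveI : Smooth (Curv2.bc (FractionRing R) C (C.residueField x) ↘ Spec (CommRingCat.of (C.residueField x))) :=
      MorphismProperty.pullback_snd (C ↘ Spec (CommRingCat.of (FractionRing R))) _ inferInstance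
    have pt : Spec (CommRingCat.of (C.residueField x)) := Classical.arbitrary _
    haveI : Nonempty (Curv2.bc (FractionRing R) C (C.residueField x)) := ⟨σ pt⟩
    haveI : IsIntegral (Curv2.bc (FractionRing R) C (C.residueField x)) :=
      ConicCurveLib.isIntegral_of_h0 (C.residueField x) _ ((VeryAmpleLib.h0_bc _ C _).trans h0)
    have h1 : Subsingleton (Coh.HH (Curv2.bc (FractionRing R) C (C.residueField x))
        (Coh.structureModule (Curv2.bc (FractionRing R) C (C.residueField x))) 1) := by
      haveI := CurvLib.finite_HH (k := C.residueField x) (CurvLib.isCoh_of_isInvertible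
        (CurvLib.isInvertible_structureModule (X := Curv2.bc (FractionRing R) C (C.residueField x)))) 1
      refine (Module.finrank_zero_iff (R := C.residueField x)).1 ?_
      exact (VeryAmpleLib.genus_bc (FractionRing R) C (C.residueField x)).trans hg'
    exact GenusZeroLib.exists_iso_of_rational (k := C.residueField x) ((VeryAmpleLib.dim_bc (FractionRing R) C (C.residueField x)).trans hdim) h1 σ hσ pt
      (HurwitzLib.isNormalScheme_of_smooth (k := C.residueField x) _).2

end Groth.Agent.S3334
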