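import Groth.Statements.S3338
import Groth.Agent.RelMinSmLib.Main
import Groth.Agent.BlowUpLib.RegBlow
import Groth.Agent.AlgSpLib.RelDim2
import Groth.Agent.DescAppLib.LineData
import Groth.Agent.AmpleDevLib.Pull
import Groth.Agent.IntMultLib.Cartier
import Groth.Agent.SymSqLib.Descend
import Groth.Agent.KFlatLib.PerfectPull
import Groth.Agent.PicPnLib.Twist
import Groth.Agent.HopfFFLib.Nilradical
import Groth.Agent.CohenLib.RegularField

set_option backward.isDefEq.respectTransparency false
set_option linter.style.haveILetI false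
set_option maxHeartbeats 1000000
open TopologicalSpace Topology

set_option autoImplicit false
universe u
open CategoryTheory CategoryTheory.Limits AlgebraicGeometry
open Models

namespace Groth.Agent.S3338


theorem unitHom_one {W : Scheme.{u}} (M : W.Modules) (p : Γ(M, ⊤)) :
    (QCohLib.unitHom M p).app ⊤ (1 : Γ(W, ⊤)) = p := by
  rw [QCohLib.unitHom_app, one_smul]
  exact congr($(M.presheaf.map_id _) p)

theorem isIso_pullback_map_of_gen {Y Z : Scheme.{u}} (g : Y ⟶ Z) {L : Z.Modules} (hL : PicF.IsInvertible L)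
    (ε : Coh.structureModule Z ⟶ L)
    (h : ∀ y, g y ∈ TwistLib.genSet hL (ε.app ⊤ (1 : Γ(Z, ⊤)))) :
    IsIso ((Scheme.Modules.pullback g).map ε) := by
  have he : AmpleLib.GenOn (KFlatLib.pb g (Coh.structureModule Z))
      (KFlatLib.puSec g (show Γ(Coh.structureModule Z, ⊤) from (1 : Γ(Z, ⊤))) :
        Γ(KFlatLib.pb g (Coh.structureModule Z), ⊤)) :=
    AmpleDevLib.puSec_genOn g (AmpleLib.one_genOn ⊤)
  have hnat : ((Scheme.Modules.pullback g).map ε).app ⊤
      (KFlatLib.puSec g (show Γ(Coh.structureModule Z, ⊤) from (1 : Γ(Z, ⊤)))) =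
        KFlatLib.puSec g (ε.app ⊤ (1 : Γ(Z, ⊤))) :=
    KFlatLib.puSec_natural g ε (U := ⊤) _
  refine DescAppLib.isIso_of_gen he _ ?_
  rw [hnat]
  refine TwistLib.genOn_of_genAt fun y _ ↦ ?_
  exact (AmpleDevLib.genSet_puSec g hL (ε.app ⊤ (1 : Γ(Z, ⊤)))).ge (show y ∈ g ⁻¹ᵁ _ from h y)

/-- Modulo the maximal ideal of the base a smooth algebra is reduced. -/
theorem isReduced_quotient {R B : Type u} [CommRing R] [IsNoetherianRing R] [CommRing B] [Algebra R B]
    [Algebra.Smooth R B] (m : Ideal R) [m.IsMaximal] : _root_.IsReduced (B ⧸ m.map (algebraMap R B)) := by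
  haveI : IsNoetherianRing B := Algebra.FiniteType.isNoetherianRing R B
  haveI := CohenLib.formallySmooth_quotient R B m
  letI : Field (R ⧸ m) := Ideal.Quotient.field m
  haveI : IsRegularRing (B ⧸ m.map (algebraMap R B)) :=
    CohenLib.isRegularRing_of_formallySmooth (k := R ⧸ m)
  exact Groth.Agent.HopfFF.isReduced_of_isRegularRing _

/-- The step (1) implies (2) as proved there: let R be a discrete valuation ring with fraction field K,
C a smooth proper curve over K with H^0(C, O_C) = K, and X a proper smooth model of C over R. Then X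
is a minimal model (regular, proper, with no exceptional curve of the first kind in its closed
fibre). -/
theorem result (R : Type u) [CommRing R] [IsDomain R] [IsDiscreteValuationRing R]
    (C X : Scheme.{u}) (f : C ⟶ Spec (CommRingCat.of (FractionRing R))) (p : X ⟶ Spec (CommRingCat.of R))
    (hC : Curve.IsSmoothProperCurve (FractionRing R) C f) (hH0 : IsIso f.appTop)
    (hX : Models.IsModel R X p C f) [IsProper p] [Smooth p] :
    Models.IsMinimalModel R X p C f := by
  obtain ⟨hfp, hfs, hCint, hCdim⟩ := hC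
  have hX' := hX
  obtain ⟨hflat, -, -, g, hg⟩ := hX'
  haveI := hflat
  haveI := hCint
  haveI : IsLocallyNoetherian X := LocallyOfFiniteType.isLocallyNoetherian p
  have hreg : Models.IsRegularScheme X := fun x => by
    haveI : IsRegularLocalRing ((Spec (CommRingCat.of R)).presheaf.stalk (p x)) := by
      haveI : IsRegularLocalRing R := inferInstance
      haveI := CommAlgDim.isRegularLocalRing_localization R (p x).asIdeal
      exact IsRegularLocalRing.of_ringEquiv (AlgebraicGeometry.StructureSheaf.stalkIso R (p x)).toRingEquiv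
    exact BlowUpLib.isRegularLocalRing_stalk_of_smooth p x
  refine ⟨⟨hX, inferInstance, hreg⟩, fun Γc hexc => ?_⟩
  -- the generic point
  set η := RelMinSmLib.eta (R := R)
  have hrange : Set.range g = {x | p x = η} := by
    rw [← hg.isoPullback_hom_fst, Scheme.Hom.comp_base, TopCat.coe_comp,
      Set.range_comp, Set.range_eq_univ.2 hg.isoPullback.hom.surjective, Set.image_univ,
      Scheme.Pullback.range_fst, RelMinSmLib.range_genPt]
    rfl
  set ξ := g (genericPoint C)
  have hξ : ∀ x, ξ ⤳ x := fun x => by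
    obtain ⟨x', hx', hx'η⟩ := Flat.generalizingMap p (RelMinSmLib.eta_specializes (p x))
    obtain ⟨c, rfl⟩ := hrange.ge hx'η
    exact (((genericPoint_spec C).specializes trivial).map g.continuous).trans hx'
  have hgen' : IsGenericPoint ξ (Set.univ : Set X) :=
    Set.eq_univ_of_forall fun y => specializes_iff_mem_closure.1 (hξ y)
  haveI : IrreducibleSpace X :=
    { toPreirreducibleSpace := ⟨hgen'.isIrreducible.2⟩, toNonempty := ⟨ξ⟩ }
  haveI : IsReduced X := by
    haveI : ∀ y : X, _root_.IsReduced (X.presheaf.stalk y) := fun y => by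
      haveI := hreg y
      haveI := CommAlgDim.isDomain_of_isRegularLocalRing (X.presheaf.stalk y)
      infer_instance
    exact isReduced_of_isReduced_stalk X
  haveI : IsIntegral X := isIntegral_of_irreducibleSpace_of_isReduced X
  -- all fibres have dimension at most one
  have hη1 : topologicalKrullDim (p.fiber (p ξ)) ≤ 1 := by
    haveI : IsPreimmersion g := MorphismProperty.of_isPullback hg.flip inferInstance
    rw [(p.fiberHomeo (p ξ)).isHomeomorph.topologicalKrullDim_eq]
    have e : p ⁻¹' {p ξ} = Set.range g := by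
      rw [hrange, show p ξ = η from hrange.le ⟨_, rfl⟩]; rfl
    rw [e, ← g.isEmbedding.toHomeomorph.isHomeomorph.topologicalKrullDim_eq, hCdim]
  have hdim : ∀ s, topologicalKrullDim (p.fiber s) ≤ 1 := fun s =>
    (FibDimLib.topologicalKrullDim_fiber_le_iff p s 1).2 fun x _ => by
      obtain ⟨O, n, hxO, hn⟩ := AlgSpLib.exists_open_fibreDimAt_of_smooth p x
      rw [hn x hxO, ← hn ξ ((hξ x).mem_open O.isOpen hxO)]
      exact (FibDimLib.fibreDimAt_le_fiber p ξ).trans hη1
  -- the component
  set ι : Γc.curve.left ⟶ X := Γc.ι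
  haveI : IsClosedImmersion ι := Γc.isClosedImmersion
  haveI : IsIntegral Γc.curve.left := Γc.isIntegral
  set s : Spec (CommRingCat.of R) :=
    Spec.map (CommRingCat.ofHom (IsLocalRing.residue R)) (IsLocalRing.closedPoint (IsLocalRing.ResidueField R))
  haveI : Subsingleton ↥(Spec (CommRingCat.of (IsLocalRing.ResidueField R))) :=
    inferInstanceAs (Subsingleton (PrimeSpectrum (IsLocalRing.ResidueField R)))
  have hιs : ∀ c, p (ι c) = s := fun c => by
    show (ι ≫ p) c = s
    rw [show ι ≫ p = _ from Γc.w, Scheme.Hom.comp_apply]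
    exact congrArg _ (Subsingleton.elim _ _)
  have hscl : IsClosed ({s} : Set (Spec (CommRingCat.of R))) := by
    haveI : IsClosedImmersion (Spec.map (CommRingCat.ofHom (IsLocalRing.residue R))) :=
      IsClosedImmersion.spec_of_surjective _ IsLocalRing.residue_surjective
    have h := (Spec.map (CommRingCat.ofHom (IsLocalRing.residue R))).isClosedEmbedding.isClosed_range
    have : Set.range (Spec.map (CommRingCat.ofHom (IsLocalRing.residue R))) = {s} := by
      ext q
      exact ⟨fun ⟨a, ha⟩ => ha ▸ congrArg _ (Subsingleton.elim _ _), fun h => ⟨_, h.symm⟩⟩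
    rwa [this] at h
  haveI : IsNoetherian (p.fiber s) := by
    haveI : LocallyOfFiniteType (p.fiberToSpecResidueField s) :=
      MorphismProperty.pullback_snd _ _ (inferInstance : LocallyOfFiniteType p)
    haveI := LocallyOfFiniteType.isLocallyNoetherian (p.fiberToSpecResidueField s)
    exact ⟨⟩
  set ιs := p.fiberι s
  have hιp : ∀ a, p (ιs a) = s := fun a => (p.range_fiberι s).le ⟨a, rfl⟩
  set T : Set (p.fiber s) := ιs ⁻¹' Set.range ι
  have hTc : IsClosed T := ι.isClosedEmbedding.isClosed_range.preimage ιs.continuous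
  obtain ⟨γ, hγ⟩ : ι (genericPoint Γc.curve.left) ∈ Set.range ιs := (p.range_fiberι s).ge (hιs _)
  have hγmax : ∀ a, a ⤳ γ → a = γ := fun a ha => by
    by_contra hne
    obtain ⟨c, hc⟩ : ∃ c, c ≠ genericPoint Γc.curve.left := by
      by_contra! hall
      haveI : Subsingleton ↥Γc.curve.left := ⟨fun a b => (hall a).trans (hall b).symm⟩
      have := topologicalKrullDim_zero_of_discreteTopology (X := ↥Γc.curve.left)
      rw [Γc.dim_eq] at this
      exact (not_le.2 zero_lt_one) this
    obtain ⟨x, hx⟩ : ι c ∈ Set.range ιs := (p.range_fiberι s).ge (hιs c)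
    have hγx : γ ⤳ x := RelMinSmLib.specializes_fiber p s (by
      rw [hγ, hx]; exact ((genericPoint_spec _).specializes trivial).map ι.continuous)
    have hne' : γ ≠ x := fun e => hc (ι.isEmbedding.injective (by rw [← hγ, ← hx, e])).symm.symm
    have hne'' : a ≠ x := fun e => hne' ((hγx.antisymm (e ▸ ha)).eq)
    have hch : FibDimLib.IsSpecChain (n := 2) ![a, γ, x] := by
      constructor
      · intro i j
        fin_cases i <;> fin_cases j <;> simp [hne, Ne.symm hne, hne', hne'.symm, hne'', hne''.symm]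
      · intro i j hij
        fin_cases i <;> fin_cases j <;>
          first
            | exact absurd hij (by decide)
            | simp [specializes_rfl, ha, hγx, ha.trans hγx]
    exact absurd (hch.le_topologicalKrullDim.trans (hdim s)) (by decide)
  have hTo : IsOpen T := by
    refine RelMinSmLib.isOpen_of_isClosed_of_stable hTc fun a b hab hb => ?_
    obtain ⟨c, hc⟩ := hb
    have hγb : γ ⤳ b := RelMinSmLib.specializes_fiber p s (by
      rw [hγ, ← hc]; exact ((genericPoint_spec _).specializes trivial).map ι.continuous)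
    haveI : IsDomain ((p.fiber s).presheaf.stalk b) := by
      have h := StrictSSLib.isDomain_stalk_fibre p (ιs b)
        (by rw [p.smoothLocus_eq_top]; trivial)
      have aux : ∀ (x : X) (t : Spec (CommRingCat.of R)) (ht : p x = t) (c : p.fiber t),
          p.fiberι t c = x → IsDomain ((p.fiber (p x)).presheaf.stalk (p.asFiber x)) →
          IsDomain ((p.fiber t).presheaf.stalk c) := by
        rintro x _ rfl c hc hd'
        obtain rfl : c = p.asFiber x := (p.fiberι _).isEmbedding.injective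
          (hc.trans (p.fiberι_asFiber x).symm)
        exact hd'
      exact aux (ιs b) s (hιp b) b rfl h
    obtain ⟨pa, hpa⟩ : a ∈ Set.range ((p.fiber s).fromSpecStalk b) := by
      rw [Scheme.range_fromSpecStalk]; exact hab
    obtain ⟨pz, hpz⟩ : γ ∈ Set.range ((p.fiber s).fromSpecStalk b) := by
      rw [Scheme.range_fromSpecStalk]; exact hγb
    set p₀ := genericPoint ↥(Spec ((p.fiber s).presheaf.stalk b))
    have h0 : ∀ q, (p.fiber s).fromSpecStalk b p₀ ⤳ (p.fiber s).fromSpecStalk b q := fun q =>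
      ((genericPoint_spec _).specializes trivial).map ((p.fiber s).fromSpecStalk b).continuous
    have hz0 : (p.fiber s).fromSpecStalk b p₀ = γ := hγmax _ (hpz ▸ h0 pz)
    have hγa : γ ⤳ a := hz0 ▸ (hpa ▸ h0 pa)
    exact (hγa.map ιs.continuous).mem_closed ι.isClosedEmbedding.isClosed_range (hγ ▸ ⟨_, rfl⟩)
  have hιemb : IsClosedEmbedding ιs :=
    ⟨ιs.isEmbedding, by rw [p.range_fiberι]; exact hscl.preimage p.continuous⟩
  let U : X.Opens := ⟨(ιs '' Tᶜ)ᶜ, (hιemb.isClosedMap _ hTo.isClosed_compl).isOpen_compl⟩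
  have hιU : ∀ c, ι c ∈ U := fun c ⟨a, ha, he⟩ => ha ⟨c, he.symm⟩
  -- the section `π` of the ideal
  obtain ⟨ϖ, hϖ⟩ := IsDiscreteValuationRing.exists_irreducible R
  have hspan : IsLocalRing.maximalIdeal R = Ideal.span {ϖ} := hϖ.maximalIdeal_eq
  set P : Γ(X, ⊤) := p.appTop ((Scheme.ΓSpecIso (CommRingCat.of R)).inv ϖ)
  set I := ι.ker
  have hP0 : ι.appTop P = 0 := by
    show (p.appTop ≫ ι.appTop).hom _ = _
    rw [← Scheme.Hom.comp_appTop, show ι ≫ p = _ from Γc.w, Scheme.Hom.comp_appTop]
    show Γc.curve.hom.appTop ((Spec.map (CommRingCat.ofHom (IsLocalRing.residue R))).appTop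
      ((Scheme.ΓSpecIso (CommRingCat.of R)).inv ϖ)) = 0
    have h1 := ConcreteCategory.congr_hom
      (Scheme.ΓSpecIso_inv_naturality (CommRingCat.ofHom (IsLocalRing.residue R))) ϖ
    simp only [ConcreteCategory.comp_apply] at h1
    rw [← h1]
    have h2 : IsLocalRing.residue R ϖ = 0 :=
      Ideal.Quotient.eq_zero_iff_mem.2 (hspan ▸ Ideal.mem_span_singleton_self ϖ)
    show Γc.curve.hom.appTop ((Scheme.ΓSpecIso _).inv (IsLocalRing.residue R ϖ)) = 0
    rw [h2, map_zero, map_zero]
  have hPI : ∀ W : X.affineOpens, X.presheaf.map (homOfLE (le_top : W.1 ≤ ⊤)).op P ∈ I.ideal W := fun W => by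
    rw [Scheme.Hom.ker_apply, RingHom.mem_ker]
    show (X.presheaf.map (homOfLE (le_top : W.1 ≤ ⊤)).op ≫ ι.app W.1).hom P = 0
    rw [ι.naturality]
    show Γc.curve.left.presheaf.map _ (ι.appTop P) = 0
    rw [hP0, map_zero]
  have hI : BlowUp.IsEffCartierIdeal I := hexc.1
  let θ := QCohLib.unitHom (Coh.structureModule X) P
  have hθ : ∀ (V : X.Opens) (r : Γ(X, V)), (show Γ(X, V) from θ.app V r) =
      r * X.presheaf.map (homOfLE (le_top : V ≤ ⊤)).op P := fun V r => rfl
  have h0 : θ ≫ ClSub.toSubscheme I = 0 := by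
    have hcov : ∀ x : X, ∃ W : X.affineOpens, x ∈ W.1 := fun x => by
      obtain ⟨W, hW, hx, -⟩ := exists_isAffineOpen_mem_and_subset (X := X) (x := x) (U := ⊤) trivial
      exact ⟨⟨W, hW⟩, hx⟩
    refine AmpleThLib.hom_ext_gens (fun W : X.affineOpens => W.1) (fun W => (1 : Γ(X, W.1))) hcov
      (fun W => AmpleLib.one_genOn W.1) fun W => ?_
    show (ClSub.toSubscheme I).app W.1 (θ.app W.1 (1 : Γ(X, W.1))) = 0
    refine (IntMultLib.toSubscheme_app_eq_zero_iff I W _).2 ?_
    have h1 := (hθ W.1 1).trans (one_mul _)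
    exact (congrArg (fun z : Γ(X, W.1) => z ∈ I.ideal W) h1).mpr (hPI W)
  haveI : Mono (ClSub.idealModι I) := inferInstanceAs (Mono (kernel.ι _))
  let ε : Coh.structureModule X ⟶ ClSub.idealMod I := kernel.lift _ θ h0
  have hL := IntMultLib.isInvertible_idealMod I hI
  have hgenε : ∀ c, ι c ∈ TwistLib.genSet hL (ε.app ⊤ (1 : Γ(X, ⊤))) := by
    intro c
    obtain ⟨W, g₀, hxW, hg₀⟩ := TwistLib.exists_genOn hL (ι c)
    obtain ⟨W', hW'a, hxW', hW'le⟩ :=
      exists_isAffineOpen_mem_and_subset (U := W ⊓ U) (x := ι c) ⟨hxW, hιU c⟩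
    have hWW : W' ≤ W := fun z hz => (hW'le hz).1
    set τ := ε.app ⊤ (1 : Γ(X, ⊤))
    show AmpleLib.GenAt (ClSub.idealMod I) τ (x := ι c) _
    refine (AmpleLib.genAt_res (le_top : W' ≤ ⊤) τ hxW').1 ?_
    obtain ⟨d', hc'⟩ := (hg₀ W' hWW).2 (AmpleLib.res _ (le_top : W' ≤ ⊤) τ)
    dsimp only at hc'
    rw [← hc', AmpleLib.genAt_smul_iff _ _ hxW' ((hg₀.res hWW).genAt hxW')]
    let a' : Γ(X, W') := X.presheaf.map (homOfLE (le_top : W' ≤ ⊤)).op P
    have ea : (show Γ(X, W') from (ClSub.idealModι I).app W' (AmpleLib.res _ (le_top : W' ≤ ⊤) τ)) = a' := by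
      refine (QCohLib.app_map (ClSub.idealModι I) (homOfLE (le_top : W' ≤ ⊤)) τ).trans ?_
      refine congrArg _ ?_
      refine (ConcreteCategory.congr_hom (congrArg (fun φ : Coh.structureModule X ⟶ _ => φ.app ⊤)
        (kernel.lift_ι _ θ h0)) (1 : Γ(X, ⊤))).trans ?_
      exact unitHom_one (Coh.structureModule X) P
    let g' : Γ(X, W') := (ClSub.idealModι I).app W' (AmpleLib.res _ hWW g₀)
    have hg' : g' ∈ I.ideal ⟨W', hW'a⟩ := (IntMultLib.toSubscheme_app_eq_zero_iff I ⟨W', hW'a⟩ _).1
      (ConcreteCategory.congr_hom (congrArg (fun φ : ClSub.idealMod I ⟶ ClSub.quotMod I => φ.app W')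
        (kernel.condition (ClSub.toSubscheme I))) _)
    -- the ideal on `W'` is generated by `π`
    have hle : I.ideal ⟨W', hW'a⟩ ≤ Ideal.span {a'} := by
      letI := ((X.presheaf.map (homOfLE (le_top : W' ≤ ⊤)).op).hom.comp
        (p.appTop.hom.comp (Scheme.ΓSpecIso (CommRingCat.of R)).inv.hom)).toAlgebra
      haveI : Algebra.Smooth R Γ(X, W') := by
        have h := HasRingHomProperty.appLE @Smooth p inferInstance ⟨⊤, isAffineOpen_top _⟩ ⟨W', hW'a⟩ le_top
        exact (RingHom.Smooth.respectsIso.2 (p.appLE ⊤ W' le_top).hom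
          (Scheme.ΓSpecIso (CommRingCat.of R)).commRingCatIsoToRingEquiv.symm h : _)
      have hmap : (IsLocalRing.maximalIdeal R).map (algebraMap R Γ(X, W')) = Ideal.span {a'} := by
        rw [hspan, Ideal.map_span, Set.image_singleton]; rfl
      haveI := isReduced_quotient (B := Γ(X, W')) (IsLocalRing.maximalIdeal R)
      have hrad : (Ideal.span {a'}).IsRadical := by
        rw [← hmap]; exact (Ideal.isRadical_iff_quotient_reduced _).2 inferInstance
      intro b hb
      rw [← hrad.radical, Ideal.radical_eq_sInf, Ideal.mem_sInf]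
      rintro q ⟨hq, hqp⟩
      set z := hW'a.fromSpec ⟨q, hqp⟩
      have hzW : z ∈ W' := hW'a.range_fromSpec.le ⟨_, rfl⟩
      have hzm : ∀ e : Γ(X, W'), z ∉ X.basicOpen e ↔ e ∈ q := fun e => by
        have := hW'a.fromSpec_preimage_basicOpen e
        have h2 : z ∈ X.basicOpen e ↔ (⟨q, hqp⟩ : PrimeSpectrum Γ(X, W')) ∈ PrimeSpectrum.basicOpen e := by
          show (⟨q, hqp⟩ : PrimeSpectrum Γ(X, W')) ∈ hW'a.fromSpec ⁻¹ᵁ X.basicOpen e ↔ _
          rw [this]
        rw [h2]; exact not_not
      have hzP : z ∉ X.basicOpen P := fun h => by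
        refine (hzm a').2 (hq (Ideal.mem_span_singleton_self _)) ?_
        rw [show a' = X.presheaf.map (homOfLE (le_top : W' ≤ ⊤)).op P from rfl, Scheme.basicOpen_res]
        exact ⟨hzW, h⟩
      have hzs : p z = s := by
        rw [← Scheme.preimage_basicOpen_top] at hzP
        have : p z ∉ PrimeSpectrum.basicOpen ϖ := fun h => hzP (by
          show p z ∈ (Spec (CommRingCat.of R)).basicOpen _
          rw [basicOpen_eq_of_affine']
          simpa using h)
        have hmem : ϖ ∈ (p z : PrimeSpectrum R).asIdeal := not_not.1 this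
        apply PrimeSpectrum.ext
        have e1 : (s : PrimeSpectrum R).asIdeal = IsLocalRing.maximalIdeal R := by
          haveI : (s : PrimeSpectrum R).asIdeal.IsMaximal := (PrimeSpectrum.isClosed_singleton_iff_isMaximal _).1 hscl
          exact IsLocalRing.eq_maximalIdeal ‹_›
        rw [e1]
        exact ((IsLocalRing.maximalIdeal.isMaximal R).eq_of_le (p z : PrimeSpectrum R).isPrime.ne_top
          (hspan ▸ (Ideal.span_singleton_le_iff_mem _).2 hmem)).symm
      obtain ⟨a, ha⟩ : z ∈ Set.range ιs := (p.range_fiberι s).ge hzs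
      have haT : a ∈ T := by_contra fun h => (hW'le hzW).2 ⟨a, h, ha⟩
      obtain ⟨c₁, hc₁⟩ : z ∈ Set.range ι := ha ▸ haT
      refine (hzm b).1 fun h => ?_
      rw [Scheme.Hom.ker_apply, RingHom.mem_ker] at hb
      have h2 : c₁ ∈ ι ⁻¹ᵁ X.basicOpen b := show ι c₁ ∈ X.basicOpen b from hc₁ ▸ h
      rw [Scheme.preimage_basicOpen] at h2
      simp only [show ι.app W' b = 0 from hb, Scheme.basicOpen_zero] at h2
      exact h2
    obtain ⟨d, hd⟩ := Ideal.mem_span_singleton'.1 (hle hg')
    rw [← hc', IntMultLib.idealModι_smul] at ea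
    haveI : Nonempty W' := ⟨⟨ι c, hxW'⟩⟩
    have h1 : d' * d * a' = 1 * a' := by rw [mul_assoc, one_mul]; exact (congrArg (d' * ·) hd).trans ea
    have ha' : a' ≠ 0 := by
      intro h
      have hg0 : g' = 0 := by refine hd.symm.trans ?_; rw [h, mul_zero]
      have : AmpleLib.res (ClSub.idealMod I) hWW g₀ = 0 := QCohLib.app_injective_of_mono (ClSub.idealModι I) W'
        ((show (ClSub.idealModι I).app W' (AmpleLib.res _ hWW g₀) = 0 from hg0).trans (map_zero _).symm)
      have h10 : (1 : Γ(X, W')) = 0 := ((hg₀.res hWW) W' le_rfl).1 (by simp [this, AmpleLib.res_refl])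
      exact one_ne_zero h10
    exact (Scheme.mem_basicOpen _ _ _ hxW').2 ((IsUnit.of_mul_eq_one d (mul_right_cancel₀ ha' h1)).map _)
  -- contradiction
  obtain ⟨-, k, hk, e, ⟨φ⟩⟩ := hexc
  haveI : Mono (ClSub.idealModι I) := inferInstanceAs (Mono (kernel.ι _))
  haveI := isIso_pullback_map_of_gen (e.hom ≫ ι) hL ε (fun y => by
    rw [Scheme.Hom.comp_apply]; exact hgenε _)
  obtain ⟨t0⟩ := PicPnLib.twist_zero 1 k
  exact (PicPnLib.not_iso_twist_pos (n := 1) (R := k) le_rfl (e := 1) Nat.one_pos).false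
    (φ.symm ≪≫ (asIso ((Scheme.Modules.pullback (e.hom ≫ ι)).map ε)).symm ≪≫
      KFlatLib.pullUnitIso (e.hom ≫ ι) ≪≫ t0.symm)

end Groth.Agent.S3338
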