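import Groth.Statements.S3337
import Groth.Agent.GenusZeroModLib.Dom
import Groth.Agent.ProjModLib.Dim
import Groth.Agent.S7941
import Groth.Agent.S3330
import Groth.Agent.S3338

set_option backward.isDefEq.respectTransparency false
set_option backward.isDefEq.respectTransparency.types false

set_option autoImplicit false
universe u
open CategoryTheory CategoryTheory.Limits AlgebraicGeometry
open Models

namespace Groth.Agent.S3337

/-- Let R be a discrete valuation ring with fraction field K and C a smooth proper curve over K with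
H^0(C, O_C) = K. If C has a proper smooth model over R (good reduction), then every minimal model of
C is smooth over R. -/
theorem result (R : Type u) [CommRing R] [IsDomain R] [IsDiscreteValuationRing R]
    (C X : Scheme.{u}) (f : C ⟶ Spec (CommRingCat.of (FractionRing R))) (p : X ⟶ Spec (CommRingCat.of R))
    (hC : Curve.IsSmoothProperCurve (FractionRing R) C f) (hH0 : IsIso f.appTop)
    (hgood : Models.HasGoodReduction R C f) (hX : Models.IsMinimalModel R X p C f) :
    Smooth p := by
  obtain ⟨hC1, hC2, hC3, hC4⟩ := id hC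
  haveI := hC3
  obtain ⟨X₀, p₀, hm₀, hp₀, hs₀⟩ := hgood
  haveI := hp₀; haveI := hs₀
  have hmin₀ := Groth.Agent.S3338.result R C X₀ f p₀ hC hH0 hm₀
  obtain ⟨-, -, -, g₀, hg₀⟩ := id hm₀
  obtain ⟨-, -, -, g, hg⟩ := id hX.1.1
  rcases Nat.eq_zero_or_pos (Models.curveGenus (FractionRing R) C f) with hgen | hgen
  · have hA := ProjModLib.isArithSurface_model hC hX.1
    have hA₀ := ProjModLib.isArithSurface_model hC hmin₀.1
    rcases GenusZeroModLib.iso_or_line (Groth.Agent.S7941.result R) hA hA₀ (g := g) (g' := g₀) hg hg₀ hC hH0 hgen hX.2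
      hmin₀.2 with ⟨k, -⟩ | h
    · have hp : k.inv.left ≫ p₀ = p := Over.w k.inv
      rw [← hp]
      haveI : IsIso k.inv.left := inferInstanceAs (IsIso ((Over.forget _).map k.inv))
      infer_instance
    · haveI : Flat p := hX.1.1.1
      haveI : LocallyOfFiniteType p := hX.1.1.2.1
      haveI : LocallyOfFinitePresentation (Over.mk p).hom := inferInstanceAs (LocallyOfFinitePresentation p)
      haveI : Flat (Over.mk p).hom := inferInstanceAs (Flat p)
      exact GenusZeroModLib.smooth_of_fibreLine (X := Over.mk p) (g := g) hg hC2 h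
  · obtain ⟨e, ⟨he, -⟩, -⟩ := Groth.Agent.S3330.result R C X X₀ f p p₀ hC hH0 hgen hX hmin₀ g hg g₀ hg₀
    rw [← he]
    infer_instance

end Groth.Agent.S3337
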