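import Groth.Statements.S3341
import Groth.Agent.VertIntLib.PicApps
-- import your own Groth.Agent.* helpers here

set_option autoImplicit false
universe u
open CategoryTheory CategoryTheory.Limits AlgebraicGeometry
open Models

set_option backward.isDefEq.respectTransparency false
open CubeConsLib (cl cl_tensor cl_eq_iff cl_eq_one_iff pull)

namespace Groth.Agent.S3341

/-- In the following situation (R a discrete valuation ring, C a smooth proper curve over its fraction
field K with H^0(C, O_C) = K, X a regular proper model with generic-fibre inclusion g, Γ_1, …, Γ_n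
the irreducible components of the closed fibre with multiplicities m_i) let d = gcd(m_1, …, m_n) and
let h ≥ 1 be prime to d. If M is an invertible O_X-module with M^{⊗h} ≅ O_X whose pullback to C is
trivial, then M ≅ O_X: the map Pic(X)[h] → Pic(C)[h] is injective. -/
theorem result (R : Type u) [CommRing R] [IsDomain R] [IsDiscreteValuationRing R]
    (C X : Scheme.{u}) (f : C ⟶ Spec (CommRingCat.of (FractionRing R))) (p : X ⟶ Spec (CommRingCat.of R))
    (hC : Curve.IsSmoothProperCurve (FractionRing R) C f) (hH0 : IsIso f.appTop)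
    (hX : Models.IsRegularProperModel R X p C f)
    {n : ℕ} (Γ : Fin n → ArSurf.VertComp R (Over.mk p)) (hΓ : Models.IsComponentList R (Over.mk p) Γ)
    (g : C ⟶ X) (hg : IsPullback g f p (Spec.map (CommRingCat.ofHom (algebraMap R (FractionRing R))))) (h : ℕ) (hh : 0 < h) (hcop : Nat.Coprime h (Models.multGcd R (Over.mk p) Γ))
    (M : X.Modules) (hM : PicF.IsInvertible M)
    (htors : Nonempty (CohB1.tensorPow M h ≅ Coh.structureModule X))
    (htriv : Nonempty ((Scheme.Modules.pullback g).obj M ≅ Coh.structureModule C)) :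
    Nonempty (M ≅ Coh.structureModule X) := by
  obtain ⟨hMod, hp, hreg⟩ := hX
  haveI := hp
  haveI : IsIntegral (Over.mk p).left := VertIntLib.isIntegral_of_model hC hMod hreg
  haveI : Flat (Over.mk p).hom := hMod.1
  haveI : IsProper (Over.mk p).hom := hp
  haveI : IsIntegral C := hC.2.2.1
  have hR := VertIntLib.global_functions (X := Over.mk p) hH0 hg
  choose L hL using fun i => VertIntLib.exists_inverse
    (IntMultLib.isInvertible_idealMod _ (VertIntLib.isEffCartier_ker (X := Over.mk p) hreg (Γ i)
      (VertIntLib.isFibGen_of_list hΓ i)))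
  obtain ⟨a, b, hab⟩ := VertIntLib.exists_vt (X := Over.mk p) hL hreg hΓ hg hM htriv
  have h1 : cl (CohB1.tensorPow M h) = 1 := cl_eq_one_iff.2 htors
  rw [VertIntLib.cl_tensorPow, ← hab, ← Units.val_pow_eq_pow_val, Units.val_eq_one, ← zpow_natCast,
    ← VertIntLib.vt_smul, VertIntLib.vt_eq_one_iff hL hreg hΓ hR] at h1
  obtain ⟨c, hc⟩ := h1
  have hdvd : (h : ℤ) ∣ c := by
    have h2 : (h : ℤ) ∣ c * ((Models.multGcd R (Over.mk p) Γ : ℕ) : ℤ) :=
      VertIntLib.dvd_mul_gcd (fun i => Models.mult R (Over.mk p) (Γ i)) fun i => ⟨_, (hc i).symm⟩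
    exact Int.dvd_of_dvd_mul_left_of_gcd_one h2 hcop
  obtain ⟨c', rfl⟩ := hdvd
  refine cl_eq_one_iff.1 ?_
  rw [← hab, Units.val_eq_one, VertIntLib.vt_eq_one_iff hL hreg hΓ hR]
  refine ⟨c', fun i => mul_left_cancel₀ (show (h : ℤ) ≠ 0 by exact_mod_cast hh.ne') ?_⟩
  have h3 := hc i
  simp only [Pi.smul_apply, smul_eq_mul] at h3
  rw [h3]; ring

end Groth.Agent.S3341
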