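import Groth.Statements.S3344
import Groth.Agent.VertChiLib.RatPoint
import Groth.Agent.VertChiLib.Chain
import Groth.Agent.VertChiLib.Fibre
import Groth.Agent.VertIntLib.Conn
-- import your own Groth.Agent.* helpers here

set_option autoImplicit false
universe u
open CategoryTheory CategoryTheory.Limits AlgebraicGeometry
open Models

set_option backward.isDefEq.respectTransparency false

namespace Groth.Agent.S3344

/-- In the following situation (R a discrete valuation ring with residue field k, C a smooth proper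
curve over its fraction field K with H^0(C, O_C) = K, X a regular proper model, Γ_1, …, Γ_n the
irreducible components of the closed fibre X_k with multiplicities m_i) assume C has a K-rational
point. Then (1) some closed point x of X on the closed fibre has residue field k (R → κ(x)
surjective) and the local ring of X_k at x, namely O_{X,x}/𝔪_R O_{X,x}, is regular (x is a smooth
point of X_k over k); (2) the component Γ_i through x has H^0(Γ_i, O) = k and m_i = 1; (3) H^0(X_k,
O_{X_k}) = k and dim_k H^1(X_k, O_{X_k}) = dim_K H^1(C, O_C) (k-dimensions as R-lengths of the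
cohomology of O_{X_k} on X). -/
theorem result (R : Type u) [CommRing R] [IsDomain R] [IsDiscreteValuationRing R]
    (C X : Scheme.{u}) (f : C ⟶ Spec (CommRingCat.of (FractionRing R))) (p : X ⟶ Spec (CommRingCat.of R))
    (hC : Curve.IsSmoothProperCurve (FractionRing R) C f) (hH0 : IsIso f.appTop)
    (hX : Models.IsRegularProperModel R X p C f)
    {n : ℕ} (Γ : Fin n → ArSurf.VertComp R (Over.mk p)) (hΓ : Models.IsComponentList R (Over.mk p) Γ)
    (s : Spec (CommRingCat.of (FractionRing R)) ⟶ C) (hs : s ≫ f = 𝟙 _) :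
    (∃ (i : Fin n) (x : X), x ∈ Set.range ((Γ i).ι.base : (Γ i).curve.left → X) ∧ IsClosed ({x} : Set X) ∧
        Function.Surjective ((X.residue x).hom.comp (Models.stalkHom R (Over.mk p) x)) ∧
        IsRegularLocalRing (X.presheaf.stalk x ⧸
          Ideal.map (Models.stalkHom R (Over.mk p) x) (IsLocalRing.maximalIdeal R)) ∧
        Models.wdeg R (Over.mk p) (Γ i) = 1 ∧ Models.mult R (Over.mk p) (Γ i) = 1) ∧
      Models.lengthH R (Over.mk p) (ClSub.quotMod (Models.specialFibreIdeal R (Over.mk p))) 0 = 1 ∧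
      Models.lengthH R (Over.mk p) (ClSub.quotMod (Models.specialFibreIdeal R (Over.mk p))) 1 =
        Models.curveGenus (FractionRing R) C f := by
  classical
  obtain ⟨hMod, hp, hreg⟩ := hX
  haveI := hp
  haveI : IsIntegral (Over.mk p).left := VertIntLib.isIntegral_of_model hC hMod hreg
  haveI : Flat (Over.mk p).hom := hMod.1
  haveI : IsProper (Over.mk p).hom := hp
  haveI : IsLocallyNoetherian (Over.mk p).left := LocallyOfFiniteType.isLocallyNoetherian (Over.mk p).hom
  have hconn := VertIntLib.isPreconnected_fibre hC hH0 hMod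
  obtain ⟨-, -, -, g, hg⟩ := hMod
  have hC' := VertChiLib.isEffCartier_list (X := Over.mk p) hreg hΓ
  obtain ⟨ϖ, hϖi⟩ := IsDiscreteValuationRing.exists_irreducible R
  have hϖ : IsLocalRing.maximalIdeal R = Ideal.span {ϖ} := hϖi.maximalIdeal_eq
  obtain ⟨σ, hσ⟩ := VertChiLib.exists_section (X := Over.mk p) hg s hs
  obtain ⟨x, hx, hcl, hsurj, hmem, hmem2, hregx⟩ := VertChiLib.exists_point (X := Over.mk p) hreg σ hσ hϖ hϖi
  obtain ⟨i, hi⟩ := VertIntLib.cover_of_list (X := Over.mk p) hΓ x hx
  have hw := VertChiLib.wdeg_eq_one (X := Over.mk p) (Γ i)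
    (by have := VertChiLib.fin1_J hC' (Pi.single i 1); rwa [VertChiLib.J_single] at this) x hi hsurj
  have eJ : Models.specialFibreIdeal R (Over.mk p) =
      VertChiLib.J (X := Over.mk p) Γ (fun j => Models.mult R (Over.mk p) (Γ j)) :=
    VertIntLib.specialFibreIdeal_eq (X := Over.mk p) hreg hΓ
  have hxk : x ∈ (Γ i).ι.ker.support := by
    rw [← SetLike.mem_coe, Scheme.Hom.support_ker]
    exact subset_closure hi
  have hm : Models.mult R (Over.mk p) (Γ i) = 1 := by
    by_contra hne
    have h1 := VertIntLib.mult_pos (X := Over.mk p) hreg hΓ i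
    refine hmem2 ?_
    have h2 : IntMult.stalkIdeal (Γ i).ι.ker x ≤ IsLocalRing.maximalIdeal _ :=
      IsLocalRing.le_maximalIdeal ((SDivLib.mem_support_iff_stalk _ x).1 hxk)
    have h3 : IntMult.stalkIdeal (Models.specialFibreIdeal R (Over.mk p)) x ≤
        IntMult.stalkIdeal (Γ i).ι.ker x ^ Models.mult R (Over.mk p) (Γ i) := by
      rw [eJ, VertChiLib.J, SDivLib.stalkIdeal_prod, ← SDivLib.stalkIdeal_pow]
      exact Ideal.le_of_dvd (Finset.dvd_prod_of_mem
        (fun j => IntMult.stalkIdeal ((Γ j).ι.ker ^ Models.mult R (Over.mk p) (Γ j)) x) (Finset.mem_univ i))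
    rw [VertIntLib.stalkIdeal_fibre (X := Over.mk p) x hϖ, Ideal.span_singleton_le_iff_mem] at h3
    exact (Ideal.pow_le_pow_right (by omega)) (Ideal.pow_right_mono h2 _ h3)
  refine ⟨⟨i, x, hi, hcl, hsurj, hregx, hw, hm⟩, ?_⟩
  have hgcd : Models.multGcd R (Over.mk p) Γ = 1 :=
    Nat.dvd_one.1 (hm ▸ Finset.gcd_dvd (f := fun j => Models.mult R (Over.mk p) (Γ j)) (Finset.mem_univ i))
  have hDv : VertChiLib.Dv (X := Over.mk p) Γ = fun j => Models.mult R (Over.mk p) (Γ j) :=
    funext fun j => by rw [VertChiLib.Dv, hgcd, Nat.div_one]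
  have hK := VertChiLib.isField_Dv (X := Over.mk p) hreg hΓ hconn i
  rw [hDv, ← eJ] at hK
  obtain ⟨z, hz⟩ : x ∈ Set.range (Models.specialFibreIdeal R (Over.mk p)).subschemeι := by
    rw [Scheme.IdealSheafData.range_subschemeι]
    exact (VertIntLib.mem_support_fibre_iff (X := Over.mk p) x).2 hx
  subst hz
  have h0 := VertChiLib.len_eq_one (X := Over.mk p) hK z hsurj
  refine ⟨h0, ?_⟩
  have hχ := VertChiLib.χ_mult (X := Over.mk p) hreg hΓ hC hH0 hg
  rw [← eJ, VertChiLib.χ, h0] at hχ
  have h1 : (VertChiLib.len R (ClSub.quotMod (Models.specialFibreIdeal R (Over.mk p))) 1 : ℤ) =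
      (Models.curveGenus (FractionRing R) C f : ℤ) := by push_cast at hχ ⊢; linarith
  exact_mod_cast h1

end Groth.Agent.S3344
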