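import Groth.Statements.S3345
import Groth.Agent.VertChiLib.Mono
import Groth.Agent.VertIntLib.Conn
-- import your own Groth.Agent.* helpers here

set_option autoImplicit false
universe u
open CategoryTheory CategoryTheory.Limits AlgebraicGeometry
open Models

set_option backward.isDefEq.respectTransparency false

namespace Groth.Agent.S3345

/-- In the following situation (R a discrete valuation ring with residue field k, C a smooth proper
curve over its fraction field K with H^0(C, O_C) = K, X a regular proper model, Γ_1, …, Γ_n the
irreducible components of the closed fibre with multiplicities m_i) assume X is a minimal model,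
gcd(m_1, …, m_n) = 1 and H^0((X_k)_red, O) = k. Then dim_k H^1((X_k)_red, O) ≤ dim_k H^1(X_k, O),
and the inequality is strict when X_k is not reduced (k-dimensions computed as R-lengths of the
cohomology on X of the structure sheaves of the two closed subschemes). The published statement is
the stronger one that H^1(X_k, O_{X_k}) → H^1((X_k)_red, O) is surjective, with non-zero kernel when
X_k is not reduced; this is its form in terms of dimensions. -/
theorem result (R : Type u) [CommRing R] [IsDomain R] [IsDiscreteValuationRing R]
    (C X : Scheme.{u}) (f : C ⟶ Spec (CommRingCat.of (FractionRing R))) (p : X ⟶ Spec (CommRingCat.of R))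
    (hC : Curve.IsSmoothProperCurve (FractionRing R) C f) (hH0 : IsIso f.appTop)
    (hX : Models.IsRegularProperModel R X p C f)
    {n : ℕ} (Γ : Fin n → ArSurf.VertComp R (Over.mk p)) (hΓ : Models.IsComponentList R (Over.mk p) Γ)
    (hmin : Models.IsMinimalModel R X p C f) (hgcd : Models.multGcd R (Over.mk p) Γ = 1)
    (hH0k : Models.lengthH R (Over.mk p) (ClSub.quotMod (Models.redFibreIdeal R (Over.mk p))) 0 = 1) :
    Models.lengthH R (Over.mk p) (ClSub.quotMod (Models.redFibreIdeal R (Over.mk p))) 1 ≤
        Models.lengthH R (Over.mk p) (ClSub.quotMod (Models.specialFibreIdeal R (Over.mk p))) 1 ∧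
      (Models.specialFibreIdeal R (Over.mk p) ≠ Models.redFibreIdeal R (Over.mk p) →
        Models.lengthH R (Over.mk p) (ClSub.quotMod (Models.redFibreIdeal R (Over.mk p))) 1 <
          Models.lengthH R (Over.mk p) (ClSub.quotMod (Models.specialFibreIdeal R (Over.mk p))) 1) := by
  classical
  obtain ⟨hMod, hp, hreg⟩ := hX
  haveI := hp
  haveI : IsIntegral (Over.mk p).left := VertIntLib.isIntegral_of_model hC hMod hreg
  haveI : Flat (Over.mk p).hom := hMod.1
  haveI : IsProper (Over.mk p).hom := hp
  have hconn := VertIntLib.isPreconnected_fibre hC hH0 hMod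
  obtain ⟨i₀⟩ := VertChiLib.exists_index (X := Over.mk p) hΓ
  have hC' := VertChiLib.isEffCartier_list (X := Over.mk p) hreg hΓ
  choose L hL using fun k => VertIntLib.exists_inverse (IntMultLib.isInvertible_idealMod _ (hC' k))
  have e1 := VertChiLib.J_one_eq (X := Over.mk p) hreg hΓ
  have e2 : Models.specialFibreIdeal R (Over.mk p) =
      VertChiLib.J (X := Over.mk p) Γ (fun i => Models.mult R (Over.mk p) (Γ i)) :=
    VertIntLib.specialFibreIdeal_eq (X := Over.mk p) hreg hΓ
  rw [← e1] at hH0k ⊢
  rw [e2]
  obtain ⟨-, h1, h2⟩ := VertChiLib.h1_mono (X := Over.mk p) hreg hΓ hL hconn hgcd _ (1 : Fin n → ℕ) rfl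
    (fun j => VertIntLib.mult_pos (X := Over.mk p) hreg hΓ j) (fun h => by simpa using congrFun h i₀)
    (VertChiLib.isField_one (X := Over.mk p) hreg hΓ hL hconn i₀) hH0k
  exact ⟨h1, fun hne => h2 (fun h => hne (congrArg (VertChiLib.J (X := Over.mk p) Γ) h.symm)) (fun i => hmin.2 (Γ i))⟩

end Groth.Agent.S3345
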