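import Groth.Statements.S3346
import Groth.Agent.MinModLib.S3346Main

set_option autoImplicit false
universe u
open CategoryTheory CategoryTheory.Limits AlgebraicGeometry
open Models

namespace Groth.Agent.S3346

/-- In the following situation (R a discrete valuation ring with residue field k, C a smooth proper
curve over its fraction field K with H^0(C, O_C) = K, X a regular proper model with generic-fibre
inclusion g, Γ_0, …, Γ_n the irreducible components of the closed fibre with multiplicities m_i, L_j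
⊗ I(Γ_j) ≅ O_X, a_ij = deg_k(L_j|Γ_i)) assume the last component Γ_n is an exceptional curve of the
first kind and let b : X → X' be a contraction of Γ_n over R (X' Noetherian, p = b ≫ p'). Then X'
(with g ≫ b) is a regular proper model of C, the irreducible components of its closed fibre are
exactly the images Γ'_i = b(Γ_i), i < n, and for any enumeration Γ' of them with these images and
any L'_j ⊗ I(Γ'_j) ≅ O_{X'} one has m'_i = m_i and a'_ij · a_nn = a_ij · a_nn - a_in · a_jn (that
is, a'_ij = a_ij - a_in a_jn / a_nn, cleared of the denominator a_nn ≠ 0). -/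
theorem result (R : Type u) [CommRing R] [IsDomain R] [IsDiscreteValuationRing R]
    (C X X' : Scheme.{u}) (f : C ⟶ Spec (CommRingCat.of (FractionRing R))) (p : X ⟶ Spec (CommRingCat.of R))
    (p' : X' ⟶ Spec (CommRingCat.of R))
    (hC : Curve.IsSmoothProperCurve (FractionRing R) C f) (hH0 : IsIso f.appTop)
    (hX : Models.IsRegularProperModel R X p C f) (g : C ⟶ X) (hg : IsPullback g f p (Spec.map (CommRingCat.ofHom (algebraMap R (FractionRing R)))))
    {n : ℕ} (Γ : Fin (n + 1) → ArSurf.VertComp R (Over.mk p)) (hΓ : Models.IsComponentList R (Over.mk p) Γ)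
    (L : Fin (n + 1) → X.Modules) (hL : ∀ i, ClSub.IsInverseOf (L i) (ClSub.idealMod (Γ i).ι.ker))
    (hexc : Models.IsExcCurve (Γ (Fin.last n)).ι)
    (b : X ⟶ X') (hb : Models.IsContractionOf (Γ (Fin.last n)).ι b) (hcomm : b ≫ p' = p) :
    Models.IsRegularProperModel R X' p' C f ∧
      Models.fibreComponents R (Over.mk p') =
        Set.range (fun i : Fin n => b.base '' Set.range ((Γ i.castSucc).ι.base : (Γ i.castSucc).curve.left → X)) ∧
      ∀ (Γ' : Fin n → ArSurf.VertComp R (Over.mk p')),
        (∀ i, Set.range ((Γ' i).ι.base : (Γ' i).curve.left → X') =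
          b.base '' Set.range ((Γ i.castSucc).ι.base : (Γ i.castSucc).curve.left → X)) →
        (∀ i, Models.mult R (Over.mk p') (Γ' i) = Models.mult R (Over.mk p) (Γ i.castSucc)) ∧
        ∀ (L' : Fin n → X'.Modules), (∀ j, ClSub.IsInverseOf (L' j) (ClSub.idealMod (Γ' j).ι.ker)) →
          ∀ i j : Fin n,
            ArSurf.inter R (Over.mk p') (L' j) (Γ' i) * ArSurf.inter R (Over.mk p) (L (Fin.last n)) (Γ (Fin.last n)) =
              ArSurf.inter R (Over.mk p) (L j.castSucc) (Γ i.castSucc) * ArSurf.inter R (Over.mk p) (L (Fin.last n)) (Γ (Fin.last n)) -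
                ArSurf.inter R (Over.mk p) (L (Fin.last n)) (Γ i.castSucc) * ArSurf.inter R (Over.mk p) (L (Fin.last n)) (Γ j.castSucc) := by
  subst hcomm
  have hXa : ArSurf.IsArithSurface R (Over.mk (b ≫ p')) := ProjModLib.isArithSurface_model hC hX
  obtain ⟨y, hy, hX'a, hys, hpre, hbl, hiso, -, hgi⟩ :=
    MinModLib.isArithSurface_contraction b p' hXa (Γ (Fin.last n)) hexc hb
  haveI := hgi
  let bo : Over.mk (b ≫ p') ⟶ Over.mk p' := Over.homMk b rfl
  haveI : IsIso (bo.left ∣_ (⟨{y}ᶜ, hy.isOpen_compl⟩ : (Over.mk p').left.Opens)) := hiso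
  obtain ⟨-, hp', -⟩ := PtBlowFactLib.surf_instances hX'a
  haveI : IsProper p' := hp'
  have hne : ∀ i : Fin n, Set.range ((Γ i.castSucc).ι.base : (Γ i.castSucc).curve.left → X) ≠
      Set.range ((Γ (Fin.last n)).ι.base : (Γ (Fin.last n)).curve.left → X) := fun i h =>
    (Fin.castSucc_lt_last i).ne (hΓ.1 h)
  refine ⟨⟨⟨hX'a.2.2.2.1, inferInstance, inferInstance, g ≫ b, ?_⟩, hp', hX'a.1⟩, ?_, ?_⟩
  · exact MinModLib.isPullback_comp_generic bo (C := C) (f := f) (g := g) hg
  · exact MinModLib.fibreComponents_contraction hXa hX'a bo y hy hys Γ hΓ hpre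
  · intro Γ' hΓ'
    have hcomp := fun (i j : Fin n) (L' : X'.Modules) (hL' : ClSub.IsInverseOf L' (ClSub.idealMod (Γ' j).ι.ker)) =>
      MinModLib.inter_contraction b p' hXa hX'a y hy hys hbl (Γ (Fin.last n)) (Γ j.castSucc) (Γ i.castSucc) hpre
        (hne j) (hne i) (Γ' j) (Γ' i) (hΓ' j) (hΓ' i) (L (Fin.last n)) (L j.castSucc) (hL _) (hL _) L' hL'
    refine ⟨fun i => ?_, fun L' hL' i j => ?_⟩
    · obtain ⟨L₀, hL₀⟩ := MinModLib.exists_inverse_curve hX'a (Γ' i)
      exact MinModLib.mult_eq_of_isIso hXa hX'a bo (Γ i.castSucc) (Γ' i) (hcomp i i L₀ hL₀).2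
        (MinModLib.isIso_stalkMap_off bo.left hy
          (MinModLib.image_not_point hXa bo y hy (Γ (Fin.last n)) (Γ i.castSucc) hpre (hne i)).1)
    · exact (hcomp i j (L' j) (hL' j)).1

end Groth.Agent.S3346
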