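import Groth.Statements.S3347
import Groth.Agent.VertChiLib.MinModel
import Groth.Agent.VertChiLib.Formula
-- import your own Groth.Agent.* helpers here

set_option autoImplicit false
universe u
open CategoryTheory CategoryTheory.Limits AlgebraicGeometry
open Models

set_option backward.isDefEq.respectTransparency false

namespace Groth.Agent.S3347

/-- In the following situation (R a discrete valuation ring with residue field k, C a smooth proper
curve over its fraction field K with H^0(C, O_C) = K, X a regular proper model, Γ_1, …, Γ_n the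
irreducible components of the closed fibre, L_i ⊗ I(Γ_i) ≅ O_X) the following are equivalent: X is a
minimal model (no vertical prime divisor of X is an exceptional curve of the first kind); the
numerical type of X is minimal, i.e. there is no index i with g_i = 0 (H^1(Γ_i, O) = 0) and (Γ_i ·
Γ_i) = deg_k(L_i|Γ_i) = -[κ_i : k] = -dim_k H^0(Γ_i, O). -/
theorem result (R : Type u) [CommRing R] [IsDomain R] [IsDiscreteValuationRing R]
    (C X : Scheme.{u}) (f : C ⟶ Spec (CommRingCat.of (FractionRing R))) (p : X ⟶ Spec (CommRingCat.of R))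
    (hC : Curve.IsSmoothProperCurve (FractionRing R) C f) (hH0 : IsIso f.appTop)
    (hX : Models.IsRegularProperModel R X p C f)
    {n : ℕ} (Γ : Fin n → ArSurf.VertComp R (Over.mk p)) (hΓ : Models.IsComponentList R (Over.mk p) Γ)
    (L : Fin n → X.Modules) (hL : ∀ i, ClSub.IsInverseOf (L i) (ClSub.idealMod (Γ i).ι.ker)) :
    Models.IsMinimalModel R X p C f ↔
      ∀ i, ¬ (Models.h1 R (Over.mk p) (Γ i) = 0 ∧ ArSurf.inter R (Over.mk p) (L i) (Γ i) = -(Models.wdeg R (Over.mk p) (Γ i) : ℤ)) := by
  classical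
  have hX0 := hX
  obtain ⟨hMod, hp, hreg⟩ := hX
  haveI := hp
  haveI : IsIntegral (Over.mk p).left := VertIntLib.isIntegral_of_model hC hMod hreg
  haveI : Flat (Over.mk p).hom := hMod.1
  haveI : IsProper (Over.mk p).hom := hp
  have hCart := VertChiLib.isEffCartier_list (X := Over.mk p) hreg hΓ
  have hiff := fun i => VertChiLib.isExcCurve_iff (X := Over.mk p) (Γ i) (hCart i) (hL i)
  constructor
  · intro h i hi
    exact h.2 (Γ i) ((hiff i).2 hi)
  · intro h
    refine ⟨hX0, fun Δ hΔ => ?_⟩
    obtain ⟨s, hs⟩ := VertChiLib.exists_index_genPt (X := Over.mk p) hΓ Δ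
    have hk : Δ.ι.ker = (Γ s).ι.ker := VertIntLib.ker_eq_of_genPt (X := Over.mk p) Δ (Γ s) hs
    refine h s ((hiff s).1 ⟨hCart s, ?_⟩)
    obtain ⟨-, k, hk', e, ⟨t⟩⟩ := hΔ
    haveI := (Γ s).isClosedImmersion
    haveI := Δ.isClosedImmersion
    haveI := IsClosedImmersion.isIso_lift (Γ s).ι Δ.ι hk.symm
    let j := asIso (IsClosedImmersion.lift (Γ s).ι Δ.ι hk.symm.le)
    have hj : j.hom ≫ (Γ s).ι = Δ.ι := IsClosedImmersion.lift_fac _ _ _
    refine ⟨k, hk', e ≪≫ j, ⟨?_⟩⟩
    have e1 : (e ≪≫ j).hom ≫ (Γ s).ι = e.hom ≫ Δ.ι := by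
      rw [Iso.trans_hom, Category.assoc, hj]
    rw [e1, ← hk]
    exact t

end Groth.Agent.S3347
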