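import Groth.Statements.S3354
import Groth.Agent.GrDepthPicLib.Sheaf
import Groth.Prelude.Def_PicLoc

set_option autoImplicit false
universe u
open CategoryTheory CategoryTheory.Limits AlgebraicGeometry
open ParaF

namespace Groth.Agent.S3354

/-- Let A be a Noetherian local ring which is a quotient of a regular local ring, t an A-regular element
of the maximal ideal such that A is complete for the t-adic topology, X the punctured spectrum of A
and Y = V(t) ∩ X (the punctured spectrum of B = A/tA, as the closed subscheme of X cut out by t).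
Assume (a) A_p has depth ≥ 2 for every prime p with dim A/p = 1 (the closed points of X) and (b) B
has depth ≥ 3. Then the map Pic(X) → Pic(Y) has trivial kernel: an invertible O_X-module whose
pull-back to Y is trivial is trivial. In particular, if B is parafactorial then A is parafactorial. -/
theorem result (R : Type u) [CommRing R] [IsRegularLocalRing R] (A : Type u) [CommRing A] [IsLocalRing A] [IsNoetherianRing A] (π : R →+* A) (hπ : Function.Surjective π) (t : A) (ht : t ∈ IsLocalRing.maximalIdeal A) (hreg : IsSMulRegular A t) [IsAdicComplete (Ideal.span {t}) A] (ha : ∀ p : PrimeSpectrum A, ringKrullDim (A ⧸ p.asIdeal) = 1 → (2 : ℕ∞) ≤ LocCoh.depth (Localization.AtPrime p.asIdeal) (Localization.AtPrime p.asIdeal)) [IsLocalRing (A ⧸ Ideal.span {t})] (hb : (3 : ℕ∞) ≤ LocCoh.depth (A ⧸ Ideal.span {t}) (A ⧸ Ideal.span {t})) : Formal2.PicPullbackInjective (((Spec.map (CommRingCat.ofHom (Ideal.Quotient.mk (Ideal.span {t})))).ker.comap (FEt.puncturedSpec A).ι)).subschemeι ∧ (ParaF.IsParafactorialLocalRing (A ⧸ Ideal.span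 {t}) → ParaF.IsParafactorialLocalRing A) := by
  have hB : ∀ n, GrDepthPicLib.HasGrBasis (Ideal.span {t}) n := GrDepthPicLib.hasGrBasis_span_singleton hreg
  refine ⟨fun L hL hh => ?_, GrDepthPicLib.isParafactorialLocalRing_of_mod A _ hB hb⟩
  obtain ⟨e⟩ := hh
  refine GrDepthPicLib.picPullbackInjective_mod A (Ideal.span {t}) hB hb L hL ?_
  let g := Spec.map (CommRingCat.ofHom (Ideal.Quotient.mk (Ideal.span {t})))
  let U := FEt.puncturedSpec A
  let j : ↑(g ⁻¹ᵁ U) ⟶ (g.ker.comap U.ι).subscheme :=
    pullback.lift (g ∣_ U) ((g ⁻¹ᵁ U).ι ≫ g.toImage) (by rw [Category.assoc]; exact (morphismRestrict_ι g U).trans (congrArg ((g ⁻¹ᵁ U).ι ≫ ·) g.toImage_imageι.symm)) ≫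
      (g.ker.comapIso U.ι).inv
  have hj : j ≫ (g.ker.comap U.ι).subschemeι = g ∣_ U := by
    simp only [j, Category.assoc, Scheme.IdealSheafData.comapIso_inv_subschemeι]
    exact pullback.lift_fst _ _ _
  exact ⟨(Scheme.Modules.pullbackCongr hj.symm).app L ≪≫ ((Scheme.Modules.pullbackComp j _).app L).symm ≪≫
    (Scheme.Modules.pullback j).mapIso e ≪≫ PicLoc.pullbackStructureIso j⟩

end Groth.Agent.S3354
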