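import Groth.Statements.S3355
import Groth.Agent.PicLiftLib.CIPic
import Groth.Agent.GrDepthPicLib.Sheaf
import Groth.Prelude.Def_PicLoc

set_option autoImplicit false
universe u
open CategoryTheory CategoryTheory.Limits AlgebraicGeometry
open ParaF

namespace Groth.Agent.S3355

/-- Let A be a Noetherian local ring which is a quotient of a regular local ring, t an A-regular element
of the maximal ideal with A complete for the t-adic topology, X the punctured spectrum of A and Y =
V(t) ∩ X, and assume (a) depth A_p ≥ 2 for every prime p with dim A/p = 1. Assume moreover (c) depth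
A_p ≥ 3 for every prime p containing t with dim A/p = 1 (the closed points of Y), (d) depth A/tA ≥
4, and (e) A_p is parafactorial for every prime p not containing t with dim A/p = 1, i.e. at the
closed points of X outside Y (the published statement places this hypothesis at the points of Y;
here it is taken at the closed points of X outside Y; the letters (a), (c), (d), (e) match the names
of the hypotheses in the Lean statement). Then pull-back along Y → X induces a bijection Pic(X) →
Pic(Y) (trivial kernel and every invertible O_Y-module comes from an invertible O_X-module); in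
particular A is parafactorial if and only if A/tA is. -/
theorem result (R : Type u) [CommRing R] [IsRegularLocalRing R] (A : Type u) [CommRing A] [IsLocalRing A] [IsNoetherianRing A] (π : R →+* A) (hπ : Function.Surjective π) (t : A) (ht : t ∈ IsLocalRing.maximalIdeal A) (hreg : IsSMulRegular A t) [IsAdicComplete (Ideal.span {t}) A] (ha : ∀ p : PrimeSpectrum A, ringKrullDim (A ⧸ p.asIdeal) = 1 → (2 : ℕ∞) ≤ LocCoh.depth (Localization.AtPrime p.asIdeal) (Localization.AtPrime p.asIdeal)) (hc : ∀ p : PrimeSpectrum A, t ∈ p.asIdeal → ringKrullDim (A ⧸ p.asIdeal) = 1 → (3 : ℕ∞) ≤ LocCoh.depth (Localization.AtPrime p.asIdeal) (Localization.AtPrime p.asIdeal)) [IsLocalRing (A ⧸ Ideal.span {t})] (hd : (4 : ℕ∞) ≤ LocCoh.depth (A ⧸ Ideal.span {t}) (A ⧸ Ideal.span {t})) (he : ∀ p : PrimeSpectrum A, t ∉ p.asIdeal → ringKrullDim (A ⧸ p.asIdeal) = 1 → ParaF.IsParafactorialLocalRing (Localization.AtPrime p.asIdeal)) : (Formal2.PicPullbackInjective (((Spec.map (CommRingCat.ofHom (Ideal.Quotient.mk (Ideal.span {t})))).ker.comap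 (FEt.puncturedSpec A).ι)).subschemeι ∧ Formal2.PicPullbackSurjective (((Spec.map (CommRingCat.ofHom (Ideal.Quotient.mk (Ideal.span {t})))).ker.comap (FEt.puncturedSpec A).ι)).subschemeι) ∧ (ParaF.IsParafactorialLocalRing A ↔ ParaF.IsParafactorialLocalRing (A ⧸ Ideal.span {t})) := by
  have hB : ∀ n, GrDepthPicLib.HasGrBasis (Ideal.span {t}) n := GrDepthPicLib.hasGrBasis_span_singleton hreg
  have hb : (3 : ℕ∞) ≤ LocCoh.depth (A ⧸ Ideal.span {t}) (A ⧸ Ideal.span {t}) := le_trans (by norm_num) hd
  have hnzd : t ∈ nonZeroDivisors A := mem_nonZeroDivisors_iff_right.2 fun z hz =>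
    hreg.right_eq_zero_of_smul (by rwa [smul_eq_mul, mul_comm])
  have hmap : (IsLocalRing.maximalIdeal A).map (algebraMap A (A ⧸ Ideal.span {t})) =
      IsLocalRing.maximalIdeal (A ⧸ Ideal.span {t}) :=
    IsLocalRing.map_maximalIdeal_of_surjective _ Ideal.Quotient.mk_surjective
  have hH : ∀ i, i < 4 → Subsingleton (LocCoh.H (IsLocalRing.maximalIdeal A) i (A ⧸ Ideal.span {t})) := fun i hi => by
    haveI : Subsingleton (LocCoh.H ((IsLocalRing.maximalIdeal A).map (algebraMap A (A ⧸ Ideal.span {t}))) i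
        (A ⧸ Ideal.span {t})) := by
      rw [hmap]
      exact (LocCohLib.le_idealDepth_iff_subsingleton_H (I := IsLocalRing.maximalIdeal (A ⧸ Ideal.span {t}))
        (A ⧸ Ideal.span {t}) 4).1 hd i hi
    have hs : Subsingleton ((LocCohLib.resF A (A ⧸ Ideal.span {t})).obj
        (ModuleCat.of (A ⧸ Ideal.span {t}) (LocCoh.H ((IsLocalRing.maximalIdeal A).map
          (algebraMap A (A ⧸ Ideal.span {t}))) i (A ⧸ Ideal.span {t})))) :=
      (inferInstance : Subsingleton (LocCoh.H ((IsLocalRing.maximalIdeal A).map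
        (algebraMap A (A ⧸ Ideal.span {t}))) i (A ⧸ Ideal.span {t})))
    exact @Equiv.subsingleton _ _
      (LocCohLib.resLcEquiv (R' := A ⧸ Ideal.span {t}) (IsLocalRing.maximalIdeal A) (A ⧸ Ideal.span {t}) i).toEquiv.symm hs
  haveI := hH 1 (by omega)
  haveI := hH 2 (by omega)
  have hsurj := PicLiftLib.picPullbackSurjective_of A t ht hnzd inferInstance inferInstance (hH 3 (by omega))
    fun q _ htq hmax => by
      refine ((ParaFLib.isParafactorialLocalRing_iff _).1 (he ⟨q, inferInstance⟩ htq ?_)).2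
      haveI : IsLocalRing (A ⧸ q) := IsLocalRing.of_surjective' _ Ideal.Quotient.mk_surjective
      have hle : (IsLocalRing.maximalIdeal (A ⧸ q)).height ≤ 1 := by
        refine PicLiftLib.height_maximalIdeal_le_one (f := Ideal.Quotient.mk q t) ?_
          (fun e => htq (Ideal.Quotient.eq_zero_iff_mem.1 e)) fun P hP hfP => ?_
        · rw [← IsLocalRing.map_maximalIdeal_of_surjective _ Ideal.Quotient.mk_surjective]
          exact Ideal.mem_map_of_mem _ ht
        · have hqP : q ≤ P.comap (Ideal.Quotient.mk q) := fun x hx => Ideal.mem_comap.2 (by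
            rw [Ideal.Quotient.eq_zero_iff_mem.2 hx]; exact zero_mem _)
          rw [← Ideal.map_comap_of_surjective _ Ideal.Quotient.mk_surjective P,
            hmax _ (Ideal.comap_isPrime _ P) hqP hfP, Ideal.map_quotient_self]
      show ringKrullDim (A ⧸ q) = 1
      rw [← IsLocalRing.maximalIdeal_height_eq_ringKrullDim]
      refine WithBot.coe_inj.2 (le_antisymm hle (Order.one_le_iff_ne_zero.2 fun h0 => htq ?_))
      have hbot : IsLocalRing.maximalIdeal (A ⧸ q) = ⊥ := by
        by_contra hne
        haveI : (⊥ : Ideal (A ⧸ q)).IsPrime := Ideal.isPrime_bot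
        exact not_lt_zero (h0 ▸ Ideal.height_strict_mono_of_isPrime (bot_lt_iff_ne_bot.2 hne))
      rw [← Ideal.Quotient.eq_zero_iff_mem, ← Ideal.mem_bot, ← hbot,
        ← IsLocalRing.map_maximalIdeal_of_surjective _ Ideal.Quotient.mk_surjective]
      exact Ideal.mem_map_of_mem _ ht
  let g := Spec.map (CommRingCat.ofHom (Ideal.Quotient.mk (Ideal.span {t})))
  let U := FEt.puncturedSpec A
  haveI : IsClosedImmersion g := IsClosedImmersion.spec_of_surjective _ Ideal.Quotient.mk_surjective
  have hp : IsPullback (g ∣_ U) ((g ⁻¹ᵁ U).ι ≫ g.toImage) U.ι g.ker.subschemeι :=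
    (isPullback_morphismRestrict g U).of_iso (Iso.refl _) (Iso.refl _) (asIso g.toImage) (Iso.refl _)
      (by simp) (by simp) (by simp) (by simp [g.toImage_imageι])
  let j := hp.isoPullback ≪≫ (g.ker.comapIso U.ι).symm
  have hj : j.hom ≫ (g.ker.comap U.ι).subschemeι = g ∣_ U := by
    simp only [j, Iso.trans_hom, Iso.symm_hom, Category.assoc, Scheme.IdealSheafData.comapIso_inv_subschemeι]
    exact hp.isoPullback_hom_fst
  refine ⟨⟨fun L hL hh => ?_, fun L' hL' => ?_⟩, fun hA => ?_, GrDepthPicLib.isParafactorialLocalRing_of_mod A _ hB hb⟩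
  · obtain ⟨e⟩ := hh
    refine GrDepthPicLib.picPullbackInjective_mod A (Ideal.span {t}) hB hb L hL ?_
    exact ⟨(Scheme.Modules.pullbackCongr hj.symm).app L ≪≫ ((Scheme.Modules.pullbackComp j.hom _).app L).symm ≪≫
      (Scheme.Modules.pullback j.hom).mapIso e ≪≫ PicLoc.pullbackStructureIso j.hom⟩
  · obtain ⟨L, hL, ⟨e⟩⟩ := hsurj _ (AmpleDevLib.isInvertible_pb j.hom hL')
    obtain ⟨e'⟩ := PicPnLib.iso_of_pb_iso j.hom ((Scheme.Modules.pullbackComp j.hom _).app L ≪≫
      (Scheme.Modules.pullbackCongr hj).app L ≪≫ e)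
    exact ⟨L, hL, ⟨e'⟩⟩
  · rw [ParaFLib.isParafactorialLocalRing_iff, ← ParaFLib.h0_puncturedSpec_iff]
    refine ⟨(ParaFLib.h0_iff_depth _).2 (le_trans (by norm_num) hd), ?_⟩
    have hA' := ((ParaFLib.isParafactorialLocalRing_iff A).1 hA).2
    rw [← PicLiftLib.preimage_puncturedSpec_mk]
    intro L₀ hL₀
    obtain ⟨L, hL, ⟨e⟩⟩ := hsurj L₀ hL₀
    obtain ⟨s⟩ := hA' L hL
    exact ⟨e.symm ≪≫ (Scheme.Modules.pullback _).mapIso s ≪≫ KFlatLib.pullUnitIso _⟩
end Groth.Agent.S3355
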