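import Groth.Statements.S3357
import Mathlib
import Groth.Agent.LeffPicLib.Bij
import Groth.Agent.S2821
import Groth.Agent.S2834
import Groth.Agent.S3353
-- import your own Groth.Agent.* helpers here

set_option autoImplicit false
universe u
open CategoryTheory CategoryTheory.Limits AlgebraicGeometry
open LefX

namespace Groth.Agent.S3357

/-- Let X be a locally Noetherian scheme, 𝓘 a coherent ideal with Y = V(𝓘), Y_p the closed subscheme
defined by 𝓘^(p+1), and n ≥ 0. Assume: (i) Leff(X, Y) holds; (ii) H^i(X, 𝓘^(p+1)/𝓘^(p+2)) = 0 for i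
= 1, 2 and every p ≥ n; (iii) for every open U ⊇ Y and every x outside U, the local ring O_{X,x} is
either regular of dimension ≥ 2 or a complete intersection (quotient of a regular local ring by a
regular sequence) of dimension ≥ 4. Then for every open U ⊇ Y and every p ≥ n the pull-back maps
Pic(X) → Pic(U) and Pic(U) → Pic(Y_p) are bijective. -/
theorem result (X : Scheme.{u}) [IsLocallyNoetherian X] (𝓘 : X.IdealSheafData) (n : ℕ) (h1 : LefX.LeffCond X 𝓘) (h2 : (∀ q : ℕ, n ≤ q → ∀ i : ℕ, (i = 1 ∨ i = 2) → Subsingleton (Coh.HH X (kernel (Lef.quotMap (Lef.pow_succ_le 𝓘 q))) i))) (h3 : ∀ U : X.Opens, (𝓘.support : Set X) ⊆ (U : Set X) → ∀ x : X, x ∉ U → (IsRegularLocalRing (X.presheaf.stalk x) ∧ (2 : WithBot ℕ∞) ≤ ringKrullDim (X.presheaf.stalk x)) ∨ (SGA2.IsAbsCompleteIntersection (X.presheaf.stalk x) ∧ (4 : WithBot ℕ∞) ≤ ringKrullDim (X.presheaf.stalk x))) (U : X.Opens) (hU : (𝓘.support : Set X) ⊆ (U : Set X)) (p : ℕ) (hp : n ≤ p) : (Formal2.PicPullbackInjective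 U.ι ∧ Formal2.PicPullbackSurjective U.ι) ∧ (Formal2.PicPullbackInjective ((𝓘.comap U.ι) ^ (p + 1)).subschemeι ∧ Formal2.PicPullbackSurjective ((𝓘.comap U.ι) ^ (p + 1)).subschemeι) := by
  have hp_le : n ≤ p := hp
  have hpar : ∀ U : X.Opens, (𝓘.support : Set X) ⊆ (U : Set X) → ∀ x : X, x ∉ U →
      ParaF.IsParafactorialLocalRing (X.presheaf.stalk x) := by
    intro U hU x hx
    rcases h3 U hU x hx with ⟨hreg, hd⟩ | ⟨hci, hd⟩
    · haveI := hreg
      obtain ⟨hdom, hufd⟩ := Groth.Agent.S2821.result (X.presheaf.stalk x)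
      exact Groth.Agent.S2834.result _ hufd hd
    · exact Groth.Agent.S3353.result _ hci hd
  refine ⟨LeffPicLib.picBijective_of_parafactorial U (hpar U hU), fun L hL e => ?_, fun N hN => ?_⟩
  · exact LeffPicLib.nonempty_iso_of_thickening (𝓘.comap U.ι) (h1.1 U hU) p
      (fun m hm => LeffPicLib.goodStep_nhd 𝓘 U hU m (h2 m (hp_le.trans hm) 1 (Or.inl rfl))) hL e
  · haveI := LeffPicLib.isIso_fromNhd 𝓘 U hU p
    let σ := LeffPicLib.fromNhd 𝓘 U p
    obtain ⟨L, hL, ⟨eL⟩⟩ := (LeffPicLib.picBijective_thickening 𝓘 p h1 (fun m hm => h2 m (hp_le.trans hm)) hpar).2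
      ((Scheme.Modules.pullback (inv σ)).obj N) (AmpleDevLib.isInvertible_pb _ hN)
    refine ⟨(Scheme.Modules.pullback U.ι).obj L, AmpleDevLib.isInvertible_pb _ hL, ⟨?_⟩⟩
    exact (Scheme.Modules.pullbackComp _ U.ι).app L ≪≫
      (Scheme.Modules.pullbackCongr (LeffPicLib.fromNhd_ι 𝓘 U p).symm).app L ≪≫
      ((Scheme.Modules.pullbackComp σ (𝓘 ^ (p + 1)).subschemeι).app L).symm ≪≫
      (Scheme.Modules.pullback σ).mapIso eL ≪≫ (Scheme.Modules.pullbackComp σ (inv σ)).app N ≪≫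
      (Scheme.Modules.pullbackCongr (IsIso.hom_inv_id σ)).app N ≪≫ (Scheme.Modules.pullbackId _).app N

end Groth.Agent.S3357
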