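import Groth.Statements.S3372
import Mathlib
import Groth.Agent.LefFormalLib.Main
-- import your own Groth.Agent.* helpers here

set_option autoImplicit false
universe u
open CategoryTheory CategoryTheory.Limits AlgebraicGeometry
open Formal

namespace Groth.Agent.S3372

/-- Let A be a Noetherian local ring which is a quotient of a regular ring, and t a member of the
maximal ideal for which A is separated and complete in the t-adic topology; let X be the punctured
spectrum of A and F a coherent O_X-module on which multiplication by t is injective. Let n be a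
natural number and assume that for every closed point x of X (the primes p with dim A/p = 1) the
stalk F_x has depth ≥ n + 1 over O_{X,x}. Then the canonical map H^i(X, F) → lim_k H^i(X,
F/t^(k+1)F) is bijective for i < n and injective for i = n. -/
theorem result (R : Type u) [CommRing R] [IsRegularRing R] (A : Type u) [CommRing A] [IsLocalRing A] [IsNoetherianRing A] (π : R →+* A) (hπ : Function.Surjective π) (t : A) (ht : t ∈ IsLocalRing.maximalIdeal A) [IsAdicComplete (Ideal.span {t}) A] (F : (↑(FEt.puncturedSpec A) : Scheme.{u}).Modules) (hF : Coh.IsCoh F) (hreg : Mono (Formal.smulMod A F t)) (n : ℕ) (hdepth : ∀ x : (↑(FEt.puncturedSpec A) : Scheme.{u}), IsClosed ({x} : Set (↑(FEt.puncturedSpec A) : Scheme.{u})) → ((n + 1 : ℕ) : ℕ∞) ≤ LocCoh.depth ((↑(FEt.puncturedSpec A) : Scheme.{u}).presheaf.stalk x) (F.presheaf.stalk x)) (i : ℕ) : (i < n → Function.Bijective (Formal.toHHlim (Ideal.span {t}) F i)) ∧ (i = n → Function.Injective (Formal.toHHlim (Ideal.span {t}) F i)) := by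
  have hV : FEt.puncturedSpec A = LocCoh.puncturedOpen A (IsLocalRing.maximalIdeal A) := by
    refine TopologicalSpace.Opens.ext (Set.ext fun x => ?_)
    show x ≠ IsLocalRing.closedPoint A ↔ ¬ ((IsLocalRing.maximalIdeal A : Set A) ⊆ x.asIdeal)
    refine not_congr ⟨fun h => h ▸ le_refl _, fun h => PrimeSpectrum.ext ?_⟩
    exact le_antisymm (IsLocalRing.le_maximalIdeal x.isPrime.ne_top) h
  refine LefFormalLib.toHHlim_of_eq _ R π hπ hV F hF hreg n (fun y hy => hdepth y ?_) i
  obtain ⟨y, hyV⟩ := y
  let q : PrimeSpectrum A := IsLocalRing.closedPoint A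
  let y' : PrimeSpectrum A := y
  have hyq : y' ≤ q := IsLocalRing.le_maximalIdeal y'.isPrime.ne_top
  have hh : Order.height (⟨q, hyq⟩ : Set.Ici y') = 1 := by
    rw [← hy]
    change _ = SGA2.relCodim (IsLocalRing.maximalIdeal A) y'
    unfold SGA2.relCodim
    have hqq : IsLocalRing.maximalIdeal A ≤ q.asIdeal := le_refl _
    refine le_antisymm (le_iInf fun q' => le_of_eq ?_) (iInf_le_of_le ⟨q, hyq, hqq⟩ (le_refl _))
    congr 1
    exact Subtype.ext (PrimeSpectrum.ext (le_antisymm q'.2.2
      (IsLocalRing.le_maximalIdeal q'.1.isPrime.ne_top)))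
  rw [← closure_subset_iff_isClosed]
  rintro ⟨z, hzV⟩ hz
  let z' : PrimeSpectrum A := z
  have hle : y' ≤ z' := by
    have h1 := (specializes_iff_mem_closure.2 hz).map (FEt.puncturedSpec A).ι.continuous
    exact (PrimeSpectrum.le_iff_specializes _ _).2 h1
  by_contra hne
  have hzq : z' < q := lt_of_le_of_ne (IsLocalRing.le_maximalIdeal z'.isPrime.ne_top) hzV
  have hyz : y' < z' := lt_of_le_of_ne hle fun h => hne (Subtype.ext h.symm)
  have h1 : 1 ≤ Order.height (⟨z', hle⟩ : Set.Ici y') := by
    refine ENat.one_le_iff_ne_zero.2 fun h => ?_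
    exact absurd ((Order.height_eq_zero.1 h) (b := ⟨y', le_refl y'⟩) hle) (not_le_of_gt hyz)
  have h2 := (add_le_add h1 le_rfl).trans (Order.height_add_one_le (a := (⟨z', hle⟩ : Set.Ici y')) (b := ⟨q, hyq⟩) hzq)
  rw [hh] at h2
  norm_num at h2

end Groth.Agent.S3372
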