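import Groth.Statements.S3373
import Groth.Agent.RegAlgzLib.Main

set_option autoImplicit false
set_option backward.isDefEq.respectTransparency false
set_option backward.isDefEq.respectTransparency.types false
set_option linter.style.haveILetI false
set_option maxHeartbeats 1000000
universe u
open CategoryTheory CategoryTheory.Limits AlgebraicGeometry
open FSch

namespace Groth.Agent.S3373

/-- Let A be a Noetherian local ring which is a quotient of a regular ring, t a member of the maximal
ideal for which A is separated and complete in the t-adic topology, X the punctured spectrum of A,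
and 𝔉 a coherent module on the formal completion of X along V(t) ∩ X, given as a system (F_N) of
coherent modules on the closed subschemes X_N = V(t^(N+1)) ∩ X with F_{N+1}|_{X_N} ≅ F_N. Assume (1)
t is 𝔉-regular, expressed on the system by: for every N ≥ 1 the kernel of multiplication by t^N on
F_N equals the image of multiplication by t; and (2) for every closed point y of X_0 the stalk of
F_0 at y has depth ≥ 2 over O_{X_0,y}. Then there is a coherent O_X-module F whose completion along
V(t) ∩ X is isomorphic to 𝔉. -/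
theorem result (R : Type u) [CommRing R] [IsRegularRing R] (A : Type u) [CommRing A] [IsLocalRing A] [IsNoetherianRing A] (π : R →+* A) (hπ : Function.Surjective π) (t : A) (ht : t ∈ IsLocalRing.maximalIdeal A) [IsAdicComplete (Ideal.span {t}) A] (𝔐 : FSch.ModSys (FSch.completionAlong (↑(FEt.puncturedSpec A) : Scheme.{u}) ((Spec.map (CommRingCat.ofHom (Ideal.Quotient.mk (Ideal.span {t})))).ker.comap (FEt.puncturedSpec A).ι))) (hcoh : 𝔐.IsCoh) (hreg : ∀ N : ℕ, 1 ≤ N → kernelSubobject (Formal.smulModΓ (𝔐.F N) ((((FSch.completionToX (↑(FEt.puncturedSpec A) : Scheme.{u}) ((Spec.map (CommRingCat.ofHom (Ideal.Quotient.mk (Ideal.span {t})))).ker.comap (FEt.puncturedSpec A).ι) N) ≫ (FEt.puncturedSpec A).ι).appTop.hom ((Scheme.ΓSpecIso (CommRingCat.of A)).inv t)) ^ N)) = imageSubobject (Formal.smulModΓ (𝔐.F N) (((FSch.completionToX (↑(FEt.puncturedSpec A) : Scheme.{u}) ((Spec.map (CommRingCat.ofHom (Ideal.Quotient.mk (Ideal.span {t})))).ker.comap (FEt.puncturedSpec A).ι) N) ≫ (FEt.puncturedSpec A).ι).appTop.hom ((Scheme.ΓSpecIso (CommRingCat.of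 A)).inv t)))) (hdepth : ∀ y : ↥((FSch.completionAlong (↑(FEt.puncturedSpec A) : Scheme.{u}) ((Spec.map (CommRingCat.ofHom (Ideal.Quotient.mk (Ideal.span {t})))).ker.comap (FEt.puncturedSpec A).ι)).X 0), IsClosed ({y} : Set ↥((FSch.completionAlong (↑(FEt.puncturedSpec A) : Scheme.{u}) ((Spec.map (CommRingCat.ofHom (Ideal.Quotient.mk (Ideal.span {t})))).ker.comap (FEt.puncturedSpec A).ι)).X 0)) → (2 : ℕ∞) ≤ LocCoh.depth (((FSch.completionAlong (↑(FEt.puncturedSpec A) : Scheme.{u}) ((Spec.map (CommRingCat.ofHom (Ideal.Quotient.mk (Ideal.span {t})))).ker.comap (FEt.puncturedSpec A).ι)).X 0).presheaf.stalk y) ((𝔐.F 0).presheaf.stalk y)) : ∃ F : (↑(FEt.puncturedSpec A) : Scheme.{u}).Modules, Coh.IsCoh F ∧ Nonempty (FSch.completionMod ((Spec.map (CommRingCat.ofHom (Ideal.Quotient.mk (Ideal.span {t})))).ker.comap (FEt.puncturedSpec A).ι) F ≅ 𝔐) := by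
  refine RegAlgzLib.exists_algebraization π hπ (I := IsLocalRing.maximalIdeal A) _ (TopologicalSpace.Opens.ext ?_)
    𝔐 hcoh hreg fun y hy => hdepth y ?_
  · ext p
    show p ≠ IsLocalRing.closedPoint A ↔ ¬ IsLocalRing.maximalIdeal A ≤ p.asIdeal
    exact ⟨fun h hle => h (PrimeSpectrum.ext ((IsLocalRing.maximalIdeal.isMaximal A).eq_of_le p.isPrime.ne_top hle).symm),
      fun h e => h (e ▸ le_refl _)⟩
  · -- a point of codimension one for the closed point is closed
    let i := FSch.completionToX (↑(FEt.puncturedSpec A) : Scheme.{u})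
      ((Spec.map (CommRingCat.ofHom (Ideal.Quotient.mk (Ideal.span {t})))).ker.comap (FEt.puncturedSpec A).ι) 0
    haveI : IsClosedImmersion i := FComplLib.isClosedImmersion_completionToX _ _ 0
    let p : PrimeSpectrum A := (FEt.puncturedSpec A).ι.base (i.base y)
    let m : PrimeSpectrum A := IsLocalRing.closedPoint A
    have hpm : p ≠ m := (i.base y).2
    have hmax : ∀ q : PrimeSpectrum A, p ≤ q → q = p ∨ q = m := by
      intro q hpq
      by_contra hc
      push Not at hc
      have hqm : q ≤ m := fun a ha => IsLocalRing.le_maximalIdeal q.isPrime.ne_top ha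
      have h2 : (2 : ℕ∞) ≤ SGA2.relCodim (IsLocalRing.maximalIdeal A) p := by
        refine le_iInf fun q' => ?_
        have he : q'.1 = m := PrimeSpectrum.ext
          ((IsLocalRing.maximalIdeal.isMaximal A).eq_of_le q'.1.isPrime.ne_top q'.2.2).symm
        have h1 : (⟨p, le_refl p⟩ : Set.Ici p) < ⟨q, hpq⟩ := lt_of_le_of_ne hpq fun e => hc.1 (congrArg Subtype.val e).symm
        have h2 : (⟨q, hpq⟩ : Set.Ici p) < ⟨q'.1, q'.2.1⟩ :=
          lt_of_le_of_ne (show q ≤ q'.1 by rw [he]; exact hqm) fun e => hc.2 ((congrArg Subtype.val e).trans he)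
        calc (2 : ℕ∞) = 0 + 1 + 1 := by norm_num
          _ ≤ Order.height (⟨p, le_refl p⟩ : Set.Ici p) + 1 + 1 := by gcongr; exact bot_le
          _ ≤ Order.height (⟨q, hpq⟩ : Set.Ici p) + 1 := by gcongr; exact Order.height_add_one_le h1
          _ ≤ _ := Order.height_add_one_le h2
      have h3 : SGA2.relCodim (IsLocalRing.maximalIdeal A) p = 1 := hy
      rw [h3] at h2
      exact absurd h2 (by norm_num)
    have hcl : IsClosed ({i.base y} : Set ↥(↑(FEt.puncturedSpec A) : Scheme.{u})) := by
      refine isClosed_of_closure_subset fun w hw => ?_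
      have hs : p ⤳ (FEt.puncturedSpec A).ι.base w :=
        (specializes_iff_mem_closure.2 hw).map (FEt.puncturedSpec A).ι.base.hom.continuous
      rcases hmax _ ((PrimeSpectrum.le_iff_specializes _ _).2 hs) with e | e
      · exact (FEt.puncturedSpec A).ι.isOpenEmbedding.injective e
      · exact absurd e w.2
    refine cast (congrArg IsClosed ?_) (hcl.preimage i.base.hom.continuous)
    exact Set.ext fun w => ⟨fun hw => i.isClosedEmbedding.injective hw, fun hw => congrArg i.base hw⟩

end Groth.Agent.S3373
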