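import Groth.Statements.S3375
import Groth.Agent.EtTopDegLib.Main

set_option autoImplicit false
set_option linter.style.haveILetI false
set_option backward.isDefEq.respectTransparency false
set_option backward.isDefEq.respectTransparency.types false
set_option synthInstance.maxHeartbeats 400000
set_option maxHeartbeats 2000000
universe u
open CategoryTheory CategoryTheory.Limits AlgebraicGeometry Opposite
open EtDepth

namespace Groth.Agent.S3375

open Groth.Agent.EtShLib EtSliceLib EtTransferLib EtKummerLib _root_.CdOneLib EtHensGmLib EtTopDegLib CategoryTheory.Limits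
  CategoryTheory.Abelian Opposite in
theorem core (K : Type u) [Field K] (p : ℕ) [hp : Fact p.Prime] (F : EtCoh.Ab (Spec (CommRingCat.of K)))
    (hF : EtDepth.IsLTorsion p F) (hFc : EtPBC.IsConstructible F) (hF0 : ¬ IsZero F) (n : ℕ)
    (hcd : EtDepth.CohDimLLE (Spec (CommRingCat.of K)) p n)
    (hcd' : ∀ d : ℕ, d < n → ¬ EtDepth.CohDimLLE (Spec (CommRingCat.of K)) p d) :
    ∃ (L : Type u) (_ : Field L) (_ : Algebra K L) (_ : Module.Finite K L) (_ : Algebra.IsSeparable K L),
      Nontrivial (EtCoh.H (Spec (CommRingCat.of L)) ((EtCoh.pull (cL K L)).obj F) n) := by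
  obtain ⟨N, hN⟩ := exists_hasCard K ((isConstructible_iff F).1 hFc)
  have hprim : Prim p F := fun Ω _ _ ξ P => exists_pow_nsmul_stk hF ξ P
  have h0 : ∃ P : ToType ((stk (A := AddCommGrpCat.{u + 1}) (ξs K)).obj F), P ≠ 0 := by
    by_contra hc
    push Not at hc
    haveI : IsIso (0 : F ⟶ F) := isIso_of_stalks (A := AddCommGrpCat.{u + 1}) _ fun Ω _ _ ξ => by
      haveI : Subsingleton ↥(Spec (CommRingCat.of K)) := inferInstanceAs (Subsingleton (PrimeSpectrum K))
      obtain ⟨e⟩ := nonempty_stk_iso_of_eq (A := AddCommGrpCat.{u + 1}) (ξ := ξs K) (ξ' := ξ) (Subsingleton.elim _ _)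
      haveI : Subsingleton ((stk (A := AddCommGrpCat.{u + 1}) ξ).obj F) :=
        ⟨fun a b => (e.app F).addCommGroupIsoToAddEquiv.symm.injective ((hc _).trans (hc _).symm)⟩
      exact (ConcreteCategory.isIso_iff_bijective _).2
        ⟨fun a b _ => Subsingleton.elim (α := (stk (A := AddCommGrpCat.{u + 1}) ξ).obj F) _ _,
          fun b => ⟨b, Subsingleton.elim (α := (stk (A := AddCommGrpCat.{u + 1}) ξ).obj F) _ _⟩⟩
    exact hF0 ((IsZero.iff_id_eq_zero F).2 (by rw [← IsIso.hom_inv_id (0 : F ⟶ F), zero_comp]))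
  rcases Nat.eq_zero_or_pos n with rfl | hn
  · obtain ⟨M, _, _, _, _, t, ht, -⟩ := exists_section_of_ne_zero K p F hprim h0
    refine ⟨M, inferInstance, inferInstance, inferInstance, inferInstance, ?_⟩
    obtain ⟨e, he⟩ := EtContLib.sec_surjective t
    exact ⟨e, 0, fun h => ht (by rw [← he, h]; exact EtContLib.sec_zero)⟩
  obtain ⟨m, rfl⟩ : ∃ m, n = m + 1 := ⟨n - 1, by omega⟩
  obtain ⟨L₁, _, _, _, _, φ, hφ⟩ := exists_epi_const p N K F hN hprim h0
  haveI := hφ
  have key : ∃ (M : Type u) (_ : Field M) (_ : Algebra L₁ M) (_ : FiniteDimensional L₁ M)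
      (_ : Algebra.IsSeparable L₁ M), ¬ Subsingleton
        (EtCoh.H (Spec (CommRingCat.of M)) (EtCoh.const (Spec (CommRingCat.of M)) (ZMod p)) (m + 1)) := by
    by_contra hc
    refine hcd' m (by omega) (cohDimLLE_of_hypP p fun L' _ _ _ _ _ => ?_)
    let f' : L' →ₐ[K] SeparableClosure K := IsSepClosed.lift
    let f₁ : L₁ →ₐ[K] SeparableClosure K := IsSepClosed.lift
    haveI : FiniteDimensional K f'.fieldRange := Module.Finite.of_surjective f'.rangeRestrict.toLinearMap f'.rangeRestrict_surjective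
    haveI : FiniteDimensional K f₁.fieldRange := Module.Finite.of_surjective f₁.rangeRestrict.toLinearMap f₁.rangeRestrict_surjective
    let M : IntermediateField K (SeparableClosure K) := f'.fieldRange ⊔ f₁.fieldRange
    haveI : FiniteDimensional K M := IntermediateField.finiteDimensional_sup _ _
    haveI : Algebra.IsSeparable K M := Algebra.isSeparable_tower_bot_of_isSeparable K M (SeparableClosure K)
    let g' : L' →ₐ[K] M := f'.codRestrict M.toSubalgebra fun y => le_sup_left (a := f'.fieldRange) ⟨y, rfl⟩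
    let g₁ : L₁ →ₐ[K] M := f₁.codRestrict M.toSubalgebra fun y => le_sup_right (b := f₁.fieldRange) ⟨y, rfl⟩
    letI : Algebra L' M := g'.toRingHom.toAlgebra
    letI : Algebra L₁ M := g₁.toRingHom.toAlgebra
    haveI : IsScalarTower K L' M := IsScalarTower.of_algebraMap_eq fun x => (g'.commutes x).symm
    haveI : IsScalarTower K L₁ M := IsScalarTower.of_algebraMap_eq fun x => (g₁.commutes x).symm
    haveI : FiniteDimensional L' M := Module.Finite.of_restrictScalars_finite K L' M
    haveI : FiniteDimensional L₁ M := Module.Finite.of_restrictScalars_finite K L₁ M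
    haveI : Algebra.IsSeparable L' M := Algebra.isSeparable_tower_top_of_isSeparable K L' M
    haveI : Algebra.IsSeparable L₁ M := Algebra.isSeparable_tower_top_of_isSeparable K L₁ M
    refine subsingleton_descend K L' M p (m + 1) hcd fun M' _ _ _ _ _ => ?_
    by_contra hne
    letI : Algebra L₁ M' := ((algebraMap M M').comp (algebraMap L₁ M)).toAlgebra
    haveI : IsScalarTower L₁ M M' := IsScalarTower.of_algebraMap_eq fun _ => rfl
    exact hc ⟨M', inferInstance, inferInstance, FiniteDimensional.trans L₁ M M', Algebra.IsSeparable.trans L₁ M M', hne⟩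
  obtain ⟨M, _, _, _, _, hne⟩ := key
  letI : Algebra K M := ((algebraMap L₁ M).comp (algebraMap K L₁)).toAlgebra
  haveI : IsScalarTower K L₁ M := IsScalarTower.of_algebraMap_eq fun _ => rfl
  haveI : FiniteDimensional K M := FiniteDimensional.trans K L₁ M
  haveI : Algebra.IsSeparable K M := Algebra.IsSeparable.trans K L₁ M
  haveI := isIso_c (cL L₁ M) (cL K L₁) (cL K M) (cL_w K L₁ M) F
  haveI : (EtCoh.pull (cL L₁ M)).IsLeftAdjoint := (EtCoh.pullPushAdj (cL L₁ M)).isLeftAdjoint
  let A := AddCommGrpCat.of (ULift.{u + 1} (ZMod p))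
  let ψ : (EtCoh.pull (cL K M)).obj F ⟶ EtCoh.const (Spec (CommRingCat.of M)) (ZMod p) :=
    inv ((DescSecLib.etSys.c (cL L₁ M) (cL K L₁) (cL K M) (cL_w K L₁ M)).app F) ≫
      (EtCoh.pull (cL L₁ M)).map φ ≫ ((EtCore.pullConstIso (cL L₁ M)).app A).hom
  haveI : Epi ψ := epi_comp _ _
  refine ⟨M, inferInstance, inferInstance, inferInstance, inferInstance, ?_⟩
  by_contra hnt
  haveI := not_nontrivial_iff_subsingleton.1 hnt
  refine hne (subsingleton_of_forall_eq 0 fun y => ?_)
  obtain ⟨x, rfl⟩ := surjective_of_epi K M p (m + 1) hcd ψ N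
    (nsmul_id_of_hasCard hp.out (hasCard_pull K (cL K M) hN) (hprim.pull (cL K M))) y
  rw [show x = 0 from Subsingleton.elim _ _, Ext.zero_comp]

/-- Let K be a field, ℓ a prime number invertible in K, and F a nonzero constructible ℓ-torsion abelian
sheaf on the small étale site of Spec K. Suppose the ℓ-cohomological dimension of K is exactly n
(cohomology of ℓ-torsion sheaves vanishes above degree n, and not above any smaller degree). Then
there is a finite separable extension L of K such that H^n(Spec L, F|_L) is nonzero. -/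
theorem result (K : Type u) [Field K] (ℓ : ℕ) (hℓ : ℓ.Prime) (hℓK : (ℓ : K) ≠ 0) (F : EtCoh.Ab (Spec (CommRingCat.of K))) (hF : EtDepth.IsLTorsion ℓ F) (hFc : EtPBC.IsConstructible F) (hF0 : ¬ IsZero F) (n : ℕ) (hcd : EtDepth.CohDimLLE (Spec (CommRingCat.of K)) ℓ n) (hcd' : ∀ d : ℕ, d < n → ¬ EtDepth.CohDimLLE (Spec (CommRingCat.of K)) ℓ d) : ∃ (L : Type u) (_ : Field L) (_ : Algebra K L) (_ : Module.Finite K L) (_ : Algebra.IsSeparable K L), Nontrivial (EtCoh.H (Spec (CommRingCat.of L)) ((EtCoh.pull (Spec.map (CommRingCat.ofHom (algebraMap K L)))).obj F) n) := by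
  haveI : Fact ℓ.Prime := ⟨hℓ⟩
  exact core K ℓ F hF hFc hF0 n hcd hcd'

end Groth.Agent.S3375
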