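import Groth.Statements.S3378
import Groth.Agent.PunctLefLib.ExtendJ
import Groth.Agent.GrDepthPicLib.Sheaf
import Groth.Agent.HartConnLib.Local
import Groth.Agent.PurePairLib.Main
import Groth.Agent.KFlatLib.PerfectPull

set_option autoImplicit false
universe u
open CategoryTheory CategoryTheory.Limits AlgebraicGeometry
open LefX

namespace Groth.Agent.S3378
theorem picInj_comp {X Y Z : Scheme.{u}} {g : X ⟶ Y} (a : Z ⟶ X) [IsIso a] (h : Formal2.PicPullbackInjective g) :
    Formal2.PicPullbackInjective (a ≫ g) := fun L hL ⟨e⟩ => h L hL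
  ⟨(Scheme.Modules.pullbackCongr (show g = inv a ≫ a ≫ g by rw [IsIso.inv_hom_id_assoc])).app L ≪≫
    ((Scheme.Modules.pullbackComp (inv a) (a ≫ g)).app L).symm ≪≫
      (Scheme.Modules.pullback (inv a)).mapIso e ≪≫ KFlatLib.pullUnitIso (inv a)⟩

theorem ff_comp {X Y Z : Scheme.{u}} {g : X ⟶ Y} (a : Z ⟶ X) [IsIso a]
    (h : (FEt.restrict g).Full ∧ (FEt.restrict g).Faithful) :
    (FEt.restrict (a ≫ g)).Full ∧ (FEt.restrict (a ≫ g)).Faithful := by
  haveI := h.1
  haveI := h.2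
  haveI : (FEt.restrict a).IsEquivalence := Groth.Agent.PurePair.restrict_iso_isEquivalence (asIso a)
  let e : FEt.restrict g ⋙ FEt.restrict a ≅ FEt.restrict (a ≫ g) :=
    (MorphismProperty.Over.pullbackComp (P := FEt.prop.{u}) (Q := ⊤) a g).symm
  exact ⟨Functor.Full.of_iso e, Functor.Faithful.of_iso e⟩

theorem aux {A : Type u} [CommRing A] [IsLocalRing A] [IsNoetherianRing A] (J : Ideal A) (hJ : J ≠ ⊤)
    [IsLocalRing (A ⧸ J)] (hd : (3 : ℕ∞) ≤ LocCoh.depth (A ⧸ J) (A ⧸ J))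
    (hgr : ∀ n : ℕ, Module.Free (A ⧸ J) (↥(J ^ n) ⧸ (J • (⊤ : Submodule A ↥(J ^ n))))) [IsAdicComplete J A] :
    (FEt.restrict (pullback.fst (FEt.puncturedSpec A).ι (Spec.map (CommRingCat.ofHom (Ideal.Quotient.mk J))))).Full ∧
    (FEt.restrict (pullback.fst (FEt.puncturedSpec A).ι (Spec.map (CommRingCat.ofHom (Ideal.Quotient.mk J))))).Faithful := by
  obtain ⟨rs, hl, hm, hr, -⟩ := PunctLefLib.exists_regular_three hJ hd hgr
  obtain ⟨x, rs', rfl⟩ : ∃ x rs', rs = x :: rs' := by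
    cases rs with
    | nil => simp at hl
    | cons x rs' => exact ⟨x, rs', rfl⟩
  exact PunctLefLib.fullFaithfulJ (hm x List.mem_cons_self) ((RingTheory.Sequence.isWeaklyRegular_cons_iff _ _ _).1 hr).1
    (fun i hi => (LocCohLib.hasSeqIn_iff_subsingleton_H 3 A).1
      ((CommAlgDim.le_depth_iff 3).1 (PunctLefLib.depth_three hJ hd hgr)) i hi)
    (fun n i hi => PunctLefLib.subsingleton_H_pow hJ hd hgr n hi)

/-- Let A be a Noetherian local ring, J a proper ideal with (i) depth A/J ≥ 3, (ii) every J^n/J^(n+1)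
free over A/J, (iii) A separated and complete for the J-adic topology. Let U be the punctured
spectrum of A and U_0 = U ∩ V(J), the closed subscheme of U defined by J. Then (a) U and U_0 are
connected and restriction of finite étale covers from U to U_0 is fully faithful (π₁(U_0) → π₁(U) is
surjective), and (b) the pull-back map Pic(U) → Pic(U_0) has trivial kernel. -/
theorem result (A : Type u) [CommRing A] [IsLocalRing A] [IsNoetherianRing A] (J : Ideal A) (hJ : J ≠ ⊤) [IsLocalRing (A ⧸ J)] (hd : (3 : ℕ∞) ≤ LocCoh.depth (A ⧸ J) (A ⧸ J)) (hgr : ∀ n : ℕ, Module.Free (A ⧸ J) (↥(J ^ n) ⧸ (J • (⊤ : Submodule A ↥(J ^ n))))) [IsAdicComplete J A] : (ConnectedSpace ↥(FEt.puncturedSpec A) ∧ ConnectedSpace ↥(((Spec.map (CommRingCat.ofHom (Ideal.Quotient.mk J))).ker.comap (FEt.puncturedSpec A).ι).subscheme) ∧ (FEt.restrict ((Spec.map (CommRingCat.ofHom (Ideal.Quotient.mk J))).ker.comap (FEt.puncturedSpec A).ι).subschemeι).Full ∧ (FEt.restrict ((Spec.map (CommRingCat.ofHom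 (Ideal.Quotient.mk J))).ker.comap (FEt.puncturedSpec A).ι).subschemeι).Faithful) ∧ Formal2.PicPullbackInjective ((Spec.map (CommRingCat.ofHom (Ideal.Quotient.mk J))).ker.comap (FEt.puncturedSpec A).ι).subschemeι := by
  let i : Spec (CommRingCat.of (A ⧸ J)) ⟶ Spec (CommRingCat.of A) := Spec.map (CommRingCat.ofHom (Ideal.Quotient.mk J))
  haveI : IsClosedImmersion i := .spec_of_surjective _ Ideal.Quotient.mk_surjective
  let U := FEt.puncturedSpec A
  let p : pullback U.ι i ⟶ (U : Scheme.{u}) := pullback.fst U.ι i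
  haveI : IsClosedImmersion p := MorphismProperty.pullback_fst _ _ ‹_›
  rw [← Scheme.IdealSheafData.ker_fst_of_isClosedImmersion i U.ι]
  let a : p.ker.subscheme ≅ pullback U.ι i := (asIso p.toImage).symm
  have ha : a.hom ≫ p = p.ker.subschemeι := by
    show inv p.toImage ≫ p = _
    rw [IsIso.inv_comp_eq]
    exact p.toImage_imageι.symm
  let b : pullback U.ι i ≅ ((i ⁻¹ᵁ U : (Spec (CommRingCat.of (A ⧸ J))).Opens) : Scheme.{u}) :=
    (isPullback_morphismRestrict i U).isoPullback.symm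
  have hb : b.hom ≫ (i ∣_ U) = p := by
    rw [Iso.symm_hom, Iso.inv_comp_eq]
    exact (IsPullback.isoPullback_hom_fst _).symm
  have hB : ∀ n, GrDepthPicLib.HasGrBasis J n := fun n => GrDepthPicLib.hasGrBasis_of_free J n (hgr n)
  have h2 : (2 : ℕ∞) ≤ LocCoh.depth A A := le_trans (by norm_num) (PunctLefLib.depth_three hJ hd hgr)
  have h20 : (2 : ℕ∞) ≤ LocCoh.depth (A ⧸ J) (A ⧸ J) := le_trans (by norm_num) hd
  have hconn : ∀ (R : Type u) [CommRing R] [IsLocalRing R] [IsNoetherianRing R], (2 : ℕ∞) ≤ LocCoh.depth R R →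
      ConnectedSpace ↥(FEt.puncturedSpec R) := fun R _ _ _ h => by
    have hs : ((FEt.puncturedSpec R : (Spec (CommRingCat.of R)).Opens) : Set ↥(Spec (CommRingCat.of R))) =
        {x : PrimeSpectrum R | x.asIdeal ≠ IsLocalRing.maximalIdeal R} :=
      Set.ext fun x => not_congr PrimeSpectrum.ext_iff
    exact isConnected_iff_connectedSpace.1 (hs ▸ HartConnLib.isConnected_punctured h)
  refine ⟨⟨hconn A h2, ?_, ?_⟩, ?_⟩
  · haveI : ConnectedSpace ↥((i ⁻¹ᵁ U : (Spec (CommRingCat.of (A ⧸ J))).Opens) : Scheme.{u}) := by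
      rw [show i ⁻¹ᵁ U = FEt.puncturedSpec (A ⧸ J) from GrDepthPicLib.preimage_quot A J]
      exact hconn _ h20
    exact (Scheme.homeoOfIso (a ≪≫ b)).symm.surjective.connectedSpace (Scheme.homeoOfIso (a ≪≫ b)).symm.continuous
  · rw [← ha]
    exact ff_comp a.hom (aux J hJ hd hgr)
  · rw [← ha, show a.hom ≫ p = (a.hom ≫ b.hom) ≫ (i ∣_ U) by rw [Category.assoc, hb]]
    exact picInj_comp _ (GrDepthPicLib.picPullbackInjective_mod A J hB hd)

end Groth.Agent.S3378
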