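import Groth.Statements.S3386
import Mathlib
import Groth.Agent.EquidimLib.AffineChart

set_option autoImplicit false
open CategoryTheory AlgebraicGeometry
universe u
open EGA43

namespace Groth.Agent.S3386

open CategoryTheory.Limits in
/-- Conditions a) and b): let f : X ⟶ Y be locally of finite type and fix a point x of X. Condition a)
is equidimensionality of f at x (the definition used here); condition b): there are a natural number
e, an open neighbourhood U of x and a Y-morphism g from U to the affine space of dimension e over Y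
which is locally quasi-finite and sends the generic point of every irreducible component of U to the
generic point of an irreducible component of the affine space. Then a) implies b); and b) implies a)
when Y is locally Noetherian. (The source states the equivalence over an arbitrary base; the
implication b) ⟹ a) uses that irreducible components are locally finite and fails without some such
hypothesis.) -/
theorem result {X Y : Scheme.{u}}
    (f : X ⟶ Y) [LocallyOfFiniteType f] (x : X) :
    (EGA43.IsEquidimAt f x → (∃ (e : ℕ) (U : X.Opens) (g : (U : Scheme.{u}) ⟶ 𝔸(ULift.{u} (Fin e); Y)),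
        x ∈ U ∧ g ≫ (𝔸(ULift.{u} (Fin e); Y) ↘ Y) = U.ι ≫ f ∧ LocallyQuasiFinite g ∧
        ∀ Z ∈ irreducibleComponents (↥U : Type u),
          closure (g.base '' Z) ∈ irreducibleComponents (↥𝔸(ULift.{u} (Fin e); Y) : Type u))) ∧
    (IsLocallyNoetherian Y → (∃ (e : ℕ) (U : X.Opens) (g : (U : Scheme.{u}) ⟶ 𝔸(ULift.{u} (Fin e); Y)),
        x ∈ U ∧ g ≫ (𝔸(ULift.{u} (Fin e); Y) ↘ Y) = U.ι ≫ f ∧ LocallyQuasiFinite g ∧
        ∀ Z ∈ irreducibleComponents (↥U : Type u),
          closure (g.base '' Z) ∈ irreducibleComponents (↥𝔸(ULift.{u} (Fin e); Y) : Type u)) → EGA43.IsEquidimAt f x) := by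
  constructor
  · intro hf
    obtain ⟨e, U₀, hU₀⟩ := (EquidimLib.isEquidimAt_iff f x).mp hf
    obtain ⟨_, ⟨V, hV, rfl⟩, hxV, -⟩ :=
      Y.isBasis_affineOpens.exists_subset_of_mem_open (Set.mem_univ (f.base x)) isOpen_univ
    have hV : IsAffineOpen V := hV
    obtain ⟨U₁, hU₁, hxU₁, eUV₁, φ₁, hφ₁, -, hqf₁⟩ :=
      FibDimLib.exists_qf_affine_nhd f x hV hxV e (hU₀.fibreDimAt_eq f hU₀.mem)
    -- shrink to a basic open inside the equidimensional neighbourhood
    obtain ⟨r, hrU, hxr⟩ := hU₁.exists_basicOpen_le ⟨x, hU₀.mem⟩ hxU₁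
    have hU : IsAffineOpen (X.basicOpen r) := hU₁.basicOpen r
    have hrU₁ : X.basicOpen r ≤ U₁ := X.basicOpen_le r
    let res : Γ(X, U₁) →+* Γ(X, X.basicOpen r) := (X.presheaf.map (homOfLE hrU₁).op).hom
    let φ := res.comp φ₁
    have eUV : X.basicOpen r ≤ f ⁻¹ᵁ V := hrU₁.trans eUV₁
    have hφ : φ.comp MvPolynomial.C = (f.appLE V (X.basicOpen r) eUV).hom := by
      simp only [φ, RingHom.comp_assoc, hφ₁, res]
      exact congrArg CommRingCat.Hom.hom (f.appLE_map eUV₁ (homOfLE hrU₁).op)
    have hqf : φ.QuasiFinite := by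
      have : IsOpenImmersion (Spec.map (CommRingCat.ofHom res)) := by
        have := hU₁.isLocalization_basicOpen r
        exact IsOpenImmersion.of_isLocalization (R := Γ(X, U₁)) (S := Γ(X, X.basicOpen r)) r
      have : LocallyQuasiFinite (Spec.map (CommRingCat.ofHom φ₁)) := HasRingHomProperty.Spec_iff.mpr hqf₁
      have h : LocallyQuasiFinite (Spec.map (CommRingCat.ofHom φ)) := by
        rw [CommRingCat.ofHom_comp, Spec.map_comp]
        infer_instance
      exact HasRingHomProperty.Spec_iff.mp h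
    have : LocallyQuasiFinite (Spec.map (CommRingCat.ofHom φ)) := HasRingHomProperty.Spec_iff.mpr hqf
    have hUι : hU.isoSpec.hom ≫ hU.fromSpec = (X.basicOpen r).ι := hU.isoSpec_hom_fromSpec
    refine ⟨e, X.basicOpen r, hU.isoSpec.hom ≫ Spec.map (CommRingCat.ofHom φ) ≫ EquidimLib.chartA hV e,
      hxr, ?_, inferInstance, fun Z hZ ↦ ?_⟩
    · rw [Category.assoc, EquidimLib.chart_comp hV e f hU eUV φ hφ, ← Category.assoc, hUι]
    · have : QuasiSober (↥(X.basicOpen r) : Type u) :=
        inferInstanceAs (QuasiSober ↥(X.basicOpen r : Scheme.{u}))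
      obtain ⟨ζ, hζ⟩ := QuasiSober.sober (α := (↥(X.basicOpen r) : Type u)) hZ.1
        (isClosed_of_mem_irreducibleComponents _ hZ)
      obtain rfl : Z = closure {ζ} := hζ.def.symm
      have hmax := (EquidimLib.max_opens_iff (X.basicOpen r) ζ).mp hZ
      have hdim := hU₀.dim ζ.1 (hrU ζ.2) (EquidimLib.isFibreMax_of_max f hmax)
      have hfmax := (hU₀.max ζ.1 (hrU ζ.2) hmax).1
      let g := hU.isoSpec.hom ≫ Spec.map (CommRingCat.ofHom φ) ≫ EquidimLib.chartA hV e
      have h0 : closure (g.base '' closure {ζ}) = closure {g.base ζ} :=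
        (closure_image_closure g.continuous).trans (congrArg closure (Set.image_singleton ..))
      refine Set.mem_of_eq_of_mem h0 ?_
      let q := hU.primeIdealOf ⟨ζ.1, ζ.2⟩
      have hgζ : g.base ζ = (EquidimLib.chartA hV e).base (PrimeSpectrum.comap φ q) := by
        have h1 : hU.isoSpec.hom.base ζ = q := hU.fromSpec.isOpenEmbedding.injective (by
          rw [← Scheme.Hom.comp_apply, hUι]
          exact (hU.fromSpec_primeIdealOf ⟨ζ.1, ζ.2⟩).symm)
        simp only [g, Scheme.Hom.comp_apply, h1]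
        rfl
      rw [hgζ]
      refine (EquidimLib.max_iff_of_isOpenEmbedding (EquidimLib.chartA hV e).isOpenEmbedding _).mp
        ((EquidimLib.max_poly_iff _).mpr ⟨?_, ?_⟩)
      · rw [← PrimeSpectrum.comap_comp_apply, UOpenLib.comap_primeIdealOf f hV hU eUV φ hφ ζ.1 ζ.2]
        exact UOpenLib.comap_eq_of_le_fibreClosureDim f hV hU eUV φ hφ hqf ζ.2 hdim.ge
      · rw [← PrimeSpectrum.comap_comp_apply, UOpenLib.comap_primeIdealOf f hV hU eUV φ hφ ζ.1 ζ.2]
        refine (EquidimLib.max_iff_of_isOpenEmbedding hV.fromSpec.isOpenEmbedding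
          (hV.primeIdealOf ⟨f.base ζ.1, eUV ζ.2⟩)).mpr ?_
        rw [hV.fromSpec_primeIdealOf]
        exact hfmax
  · rintro hY ⟨e, U, g, hxU, hgf, hg, hcomp⟩
    haveI := hY; haveI := hg
    have : IsLocallyNoetherian X := LocallyOfFiniteType.isLocallyNoetherian f
    refine EquidimLib.isEquidimAt_of_bounds f x e U hxU
      (fun z hz ↦ (EquidimLib.fibreClosureDim_opens f U ⟨z, hz⟩) ▸
        (EquidimLib.max_of_qf_affineSpace e (U.ι ≫ f) g hgf ⟨z, hz⟩).1) fun ζ hζU hζ ↦ ?_
    have h1 := hcomp _ ((EquidimLib.max_opens_iff U ⟨ζ, hζU⟩).mpr hζ)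
    have h0 : closure (g.base '' closure {(⟨ζ, hζU⟩ : (U : Scheme.{u}))}) =
        closure {g.base (⟨ζ, hζU⟩ : (U : Scheme.{u}))} :=
      (closure_image_closure g.continuous).trans (congrArg closure (Set.image_singleton ..))
    obtain ⟨h2, h3⟩ := (EquidimLib.max_of_qf_affineSpace e (U.ι ≫ f) g hgf ⟨ζ, hζU⟩).2
      (Set.mem_of_eq_of_mem h0.symm h1)
    exact ⟨h2, h3.trans (EquidimLib.fibreClosureDim_opens f U ⟨ζ, hζU⟩).le⟩

end Groth.Agent.S3386
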