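import Groth.Statements.S3387
import Mathlib
import Groth.Agent.FibDimLib.Semicont
-- import your own Groth.Agent.* helpers here

set_option autoImplicit false
open CategoryTheory AlgebraicGeometry
universe u
open EGA43

namespace Groth.Agent.S3387

/-- Let f : X ⟶ Y be locally of finite type and closed (as a map of underlying spaces). Then for every
natural number n the set of points y of Y whose fibre has dimension at least n is closed; that is,
the dimension of the fibre is upper semicontinuous on Y. -/
theorem result {X Y : Scheme.{u}} (f : X ⟶ Y) [LocallyOfFiniteType f]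
    (hf : IsClosedMap f.base) (n : ℕ) :
    IsClosed {y : Y | (n : WithBot ℕ∞) ≤ topologicalKrullDim ↥(f.fiber y)} := by
  rcases n with _ | m
  · have h0 : {y : Y | ((0 : ℕ) : WithBot ℕ∞) ≤ topologicalKrullDim ↥(f.fiber y)} = Set.range f.base := by
      ext y
      constructor
      · intro h
        by_contra hy
        haveI : IsEmpty ↥(f.fiber y) := ⟨fun z => hy ⟨(f.fiberι y).base z, by
          have := Set.mem_range_self (f := (f.fiberι y).base) z
          rwa [f.range_fiberι] at this⟩⟩
        rw [Set.mem_ofPred_eq, topologicalKrullDim, Order.krullDim_eq_bot_iff.mpr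
          ⟨fun Z => IsEmpty.false Z.isIrreducible.nonempty.some⟩] at h
        exact absurd h (by simp)
      · rintro ⟨x, rfl⟩
        haveI : Nonempty (TopologicalSpace.IrreducibleCloseds ↥(f.fiber (f.base x))) :=
          ⟨⟨closure {f.asFiber x}, isIrreducible_singleton.closure, isClosed_closure⟩⟩
        rw [Set.mem_ofPred_eq, Nat.cast_zero]
        exact Order.krullDim_nonneg
    rw [h0, ← Set.image_univ]
    exact hf _ isClosed_univ
  · have h0 : {y : Y | ((m + 1 : ℕ) : WithBot ℕ∞) ≤ topologicalKrullDim ↥(f.fiber y)} =
        {y : Y | topologicalKrullDim ↥(f.fiber y) ≤ (m : WithBot ℕ∞)}ᶜ := by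
      ext y
      simp only [Set.mem_ofPred_eq, Set.mem_compl_iff]
      generalize topologicalKrullDim ↥(f.fiber y) = d
      induction d using WithBot.recBotCoe with
      | bot => simp
      | coe d =>
        rw [← WithBot.coe_natCast, ← WithBot.coe_natCast, WithBot.coe_le_coe, WithBot.coe_le_coe, not_le, Nat.cast_succ]
        exact ENat.add_one_le_iff (ENat.natCast_ne_top m)
    rw [h0]
    exact (FibDimLib.isOpen_fiber_dim_le f hf _).isClosed_compl

end Groth.Agent.S3387
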