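import Groth.Statements.S3390
import Groth.Agent.FibDimLib.GenIneq

set_option autoImplicit false
open CategoryTheory AlgebraicGeometry
universe u
open EGA43

namespace Groth.Agent.S3390

/-- Let Y be an irreducible locally Noetherian scheme with generic point η and X an irreducible scheme,
and let f : X ⟶ Y be dominant and locally of finite type. Take a point x of X and write y = f x.
Suppose dim O_{X,x} = dim O_{Y,y} + dim O_{X_y,x}. Then the local dimension of the fibre X_y at x
(FlatMor.fibreDimAt f x) equals the dimension of the generic fibre X_η (i.e. f is equidimensional at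
x). -/
theorem result {X Y : Scheme.{u}} [IrreducibleSpace X] [IrreducibleSpace Y]
    [IsLocallyNoetherian Y] (f : X ⟶ Y) [LocallyOfFiniteType f] [IsDominant f] (x : X)
    (h : ringKrullDim (X.presheaf.stalk x) =
        ringKrullDim (Y.presheaf.stalk (f.base x)) + ringKrullDim ((f.fiber (f.base x)).presheaf.stalk (f.asFiber x))) :
    FlatMor.fibreDimAt f x = topologicalKrullDim ↥(f.fiber (genericPoint Y)) := by
  refine le_antisymm ?_ (FibDimLib.generic_fiber_dim_le f x)
  obtain ⟨ξ, hξ, -, hineq⟩ := DimIneqLib.stalk_le f x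
  have hη : genericPoint X = ξ := hξ _ (specializes_iff_mem_closure.mpr (by
    rw [(genericPoint_spec X).def]; trivial))
  have hfη : f.base ξ = genericPoint Y := hη ▸ ((genericPoint_spec X).image f.continuous).eq (by
    rw [Set.image_univ, f.denseRange.closure_eq]; exact genericPoint_spec Y)
  rw [← DimIneqLib.fibreClosureDim_eq_trH, ← DimIneqLib.fibreClosureDim_eq_trH, h] at hineq
  haveI : LocallyOfFiniteType (f.fiberToSpecResidueField (f.base x)) := UOpenLib.lft_fiberToSpec f (f.base x)
  have hF : FlatMor.fibreDimAt f x = UOpenLib.fibreClosureDim f x +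
      ringKrullDim ((f.fiber (f.base x)).presheaf.stalk (f.asFiber x)) :=
    @FibDimLib.localDim_eq_closure_add_stalk _ _ _ (f.fiberToSpecResidueField (f.base x)) (UOpenLib.lft_fiberToSpec f _) (f.asFiber x)
  have h2 : FlatMor.fibreDimAt f x ≤ UOpenLib.fibreClosureDim f ξ := by
    rw [hF]
    obtain ⟨n, hn⟩ : ∃ n : ℕ, ringKrullDim (Y.presheaf.stalk (f.base x)) = n := by
      obtain ⟨a, ha⟩ := WithBot.ne_bot_iff_exists.mp
        (ringKrullDim_ne_bot (R := Y.presheaf.stalk (f.base x)))
      have : a ≠ ⊤ := fun e => ringKrullDim_ne_top (R := Y.presheaf.stalk (f.base x)) (by rw [← ha, e]; rfl)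
      lift a to ℕ using this
      exact ⟨a, ha.symm⟩
    rw [hn, add_assoc, add_comm (ringKrullDim ((f.fiber (f.base x)).presheaf.stalk (f.asFiber x)))] at hineq
    generalize UOpenLib.fibreClosureDim f x + ringKrullDim ((f.fiber (f.base x)).presheaf.stalk (f.asFiber x)) = a at hineq ⊢
    generalize UOpenLib.fibreClosureDim f ξ = b at hineq ⊢
    exact FibDimLib.le_of_nat_add_le hineq
  refine h2.trans ((FibDimLib.fibreClosureDim_le_fiber f ξ).trans (le_of_eq ?_))
  rw [hfη]

end Groth.Agent.S3390
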