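import Groth.Statements.S3391
import Groth.Agent.EquidimLib.DimIrreducible
-- import your own Groth.Agent.* helpers here

set_option autoImplicit false
open CategoryTheory AlgebraicGeometry
universe u
open EGA43

namespace Groth.Agent.S3391

/-- With X, Y, f, x, y as in the first assertion, suppose O_{Y,y} is universally catenary and the local
dimension at x of the fibre through x equals the dimension of the generic fibre. Then dim O_{X,x} =
dim O_{Y,y} + dim O_{X_y,x}. -/
theorem result {X Y : Scheme.{u}} [IrreducibleSpace X] [IrreducibleSpace Y]
    [IsLocallyNoetherian Y] (f : X ⟶ Y) [LocallyOfFiniteType f] [IsDominant f] (x : X)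
    (hcat : CAlg.IsUniversallyCatenary (Y.presheaf.stalk (f.base x)))
    (h : FlatMor.fibreDimAt f x = topologicalKrullDim ↥(f.fiber (genericPoint Y))) :
    ringKrullDim (X.presheaf.stalk x) =
        ringKrullDim (Y.presheaf.stalk (f.base x)) + ringKrullDim ((f.fiber (f.base x)).presheaf.stalk (f.asFiber x)) := by
  have : IsLocallyNoetherian X := LocallyOfFiniteType.isLocallyNoetherian f
  have hη : f.base (genericPoint X) = genericPoint Y :=
    ((genericPoint_spec X).image f.continuous).eq (by
      rw [Set.image_univ, f.denseRange.closure_eq]; exact genericPoint_spec Y)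
  obtain ⟨c, hc⟩ := UOpenLib.exists_fibreClosureDim_eq_nat f x
  have h1 := EquidimLib.dimBetween_add_fibreClosureDim_eq f (genericPoint_specializes x) hcat
  have hgen : UOpenLib.fibreClosureDim f (genericPoint X) = topologicalKrullDim ↥(f.fiber (genericPoint Y)) := by
    rw [UOpenLib.fibreClosureDim_eq_inter, (genericPoint_spec X).def, Set.univ_inter, hη]
    exact (IsHomeomorph.topologicalKrullDim_eq _ (f.fiberHomeo (genericPoint Y)).isHomeomorph).symm
  rw [hη, EquidimLib.dimBetween_genericPoint, EquidimLib.dimBetween_genericPoint, hgen, ← h,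
    EquidimLib.fibreDimAt_eq_add_stalk, hc, add_comm (c : WithBot ℕ∞) (ringKrullDim _), ← add_assoc] at h1
  exact EquidimLib.withBot_add_natCast_cancel h1

end Groth.Agent.S3391
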