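import Groth.Statements.S3395
import Groth.Agent.NoethFibLib.Main

set_option autoImplicit false
open CategoryTheory AlgebraicGeometry
universe u
open EGA43

namespace Groth.Agent.S3395

open CategoryTheory.Limits in
/-- Let X and Y be affine schemes, f : X ⟶ Y of finite type, y a point of f(X), e the dimension of the
fibre over y, and g a Y-morphism from X to the affine space of dimension e over Y whose base change
to the fibre of the affine space over y is finite. Then that base change is surjective, and g is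
locally quasi-finite on some open U ⊆ X that contains the fibre f⁻¹(y). -/
theorem result {X Y : Scheme.{u}} [IsAffine X] [IsAffine Y]
    (f : X ⟶ Y) [LocallyOfFiniteType f] (y : Y) (hy : y ∈ Set.range f.base) (e : ℕ)
    (he : topologicalKrullDim ↥(f.fiber y) = e) (g : X ⟶ 𝔸(ULift.{u} (Fin e); Y)) (hg : g ≫ (𝔸(ULift.{u} (Fin e); Y) ↘ Y) = f)
    (hfin : IsFinite (pullback.snd g ((𝔸(ULift.{u} (Fin e); Y) ↘ Y).fiberι y))) :
    Function.Surjective (pullback.snd g ((𝔸(ULift.{u} (Fin e); Y) ↘ Y).fiberι y)).base ∧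
      ∃ U : X.Opens, f.base ⁻¹' {y} ⊆ (U : Set X) ∧ LocallyQuasiFinite (U.ι ≫ g) := by
  obtain ⟨A, B, K, _, _, _, _, _, hK, hft, ⟨θ⟩, mk, hall, hmk⟩ := NoethFibLib.exists_fibre_model f y e
  have hdim : ringKrullDim (TensorProduct A K B) = e := by
    rw [← PrimeSpectrum.topologicalKrullDim_eq_ringKrullDim, ← he]
    exact IsHomeomorph.topologicalKrullDim_eq _ θ.hom.homeomorph.isHomeomorph
  obtain ⟨v, rfl⟩ := hall g hg
  obtain ⟨-, ⟨ι⟩⟩ := hmk v
  have hv := (IsFinite.SpecMap_iff _).mp ((MorphismProperty.arrow_mk_iso_iff @IsFinite ι).mp hfin)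
  haveI : LocallyOfFiniteType (mk v) := by
    haveI : LocallyOfFiniteType (mk v ≫ 𝔸(ULift.{u} (Fin e); Y) ↘ Y) := hg.symm ▸ ‹LocallyOfFiniteType f›
    exact locallyOfFiniteType_of_comp _ (𝔸(ULift.{u} (Fin e); Y) ↘ Y)
  refine ⟨?_, (mk v).quasiFiniteLocus, ?_, inferInstance⟩
  · haveI : Surjective (Spec.map (CommRingCat.ofHom
        (MvPolynomial.aeval (fun i => TensorProduct.tmul A (1 : K) (v i)) :
          MvPolynomial (ULift.{u} (Fin e)) K →ₐ[K] TensorProduct A K B).toRingHom)) :=
      ⟨NoethFibLib.comap_surjective_of_finite e hdim _ hv⟩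
    exact ((MorphismProperty.arrow_mk_iso_iff @Surjective ι).mpr inferInstance).surj
  · intro x hx
    have hrange : (mk v).base x ∈ Set.range ((𝔸(ULift.{u} (Fin e); Y) ↘ Y).fiberι y).base := by
      rw [Scheme.Hom.range_fiberι, Set.mem_preimage, Set.mem_singleton_iff, ← Scheme.Hom.comp_apply, hg]
      exact hx
    obtain ⟨z, hz⟩ := hrange
    obtain ⟨w, hw, -⟩ := Scheme.exists_preimage_of_isPullback
      (IsPullback.of_hasPullback (mk v) ((𝔸(ULift.{u} (Fin e); Y) ↘ Y).fiberι y)) x z hz.symm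
    show (mk v).QuasiFiniteAt x
    rw [← hw]
    haveI := hfin
    exact (RichLib.QFLocus.quasiFiniteAt_iff_of_isPullback
      (IsPullback.of_hasPullback (mk v) ((𝔸(ULift.{u} (Fin e); Y) ↘ Y).fiberι y)) w).mp
        (Scheme.Hom.quasiFiniteAt _ w)

end Groth.Agent.S3395
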