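import Groth.Statements.S3397
import Mathlib
import Groth.Agent.EquidimLib.DimCriteria

set_option autoImplicit false
open CategoryTheory AlgebraicGeometry
universe u
open EGA43

namespace Groth.Agent.S3397

/-- Let Y be locally Noetherian, f : X ⟶ Y locally of finite type, x a point of X with y = f x, and
suppose O_{Y,y} is equidimensional. If O_{X,x} is equidimensional and dim O_{X,x} = dim O_{Y,y} +
dim O_{X_y,x}, then f is equidimensional at x. -/
theorem result {X Y : Scheme.{u}} [IsLocallyNoetherian Y] (f : X ⟶ Y)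
    [LocallyOfFiniteType f] (x : X) (hY : EGA4.IsEquidim (Y.presheaf.stalk (f.base x)))
    (hX : EGA4.IsEquidim (X.presheaf.stalk x))
    (h : ringKrullDim (X.presheaf.stalk x) =
        ringKrullDim (Y.presheaf.stalk (f.base x)) + ringKrullDim ((f.fiber (f.base x)).presheaf.stalk (f.asFiber x))) :
    EGA43.IsEquidimAt f x := by
  refine EquidimLib.isEquidimAt_of_dim_ge f x hX hY fun z hz hzx hzmax ↦ ?_
  rw [← UOpenLib.fibreDimAt_eq_of_max f hzmax]
  obtain ⟨e, he⟩ := UOpenLib.exists_fibreDimAt_eq_nat f z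
  have h1 : FlatMor.fibreDimAt f z ≤ FlatMor.fibreDimAt f x := by
    rw [UOpenLib.fibreDimAt_eq_of_max f hzmax]
    exact UOpenLib.fibreClosureDim_le_fibreDimAt f hzx
  refine (add_le_add le_rfl h1).trans (le_of_eq ?_)
  rw [EquidimLib.fibreDimAt_eq_add_stalk f x, h, add_assoc]
  congr 1
  exact add_comm _ _

end Groth.Agent.S3397
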