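import Groth.Statements.S3406
import Groth.Agent.CommAlgDim.HilbertSamuel


-- import your own Groth.Agent.* helpers here

set_option autoImplicit false
universe u
open EGA41

namespace Groth.Agent.S3406

/-- The equality s(M) = dim(M): let A be a Noetherian ring with finitely many maximal ideals, r its
Jacobson radical and M a nonzero finitely generated A-module. Then the dimension of M (the Krull
dimension of its support) is the least n for which there are elements x_1, …, x_n of r such that
M/(x_1 M + ⋯ + x_n M) has finite length. -/
theorem result (A : Type u) [CommRing A] [IsNoetherianRing A]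
    [Finite (MaximalSpectrum A)] (M : Type u) [AddCommGroup M] [Module A M] [Module.Finite A M] [Nontrivial M] :
    Module.supportDim A M =
      sInf {k : WithBot ℕ∞ | ∃ (n : ℕ) (x : Fin n → A), k = n ∧ (∀ i, x i ∈ Ring.jacobson A) ∧
        IsFiniteLength A (M ⧸ (Ideal.span (Set.range x) • (⊤ : Submodule A M)))} := by
  obtain ⟨P, hP⟩ := CommAlgDim.exists_isHSPoly_jacobson (R := A) M
  have hdim := CommAlgDim.natDegree_eq_supportDim hP
  rw [← hdim]
  refine le_antisymm (le_sInf ?_) (sInf_le ?_)
  · rintro k ⟨n, x, rfl, hx, hfin⟩
    have h1 := Module.length_ne_top_iff.2 hfin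
    obtain ⟨P', hP', hdeg⟩ := CommAlgDim.exists_isHSPoly (M := M) h1 x rfl
    have hle := CommAlgDim.natDegree_le_of_eventually_le hP.nonneg (g := P') (by
      filter_upwards [hP, hP'] with n h2 h3
      rw [← h2, ← h3]
      exact_mod_cast CommAlgDim.chi_le_of_le (Ideal.span_le.2 (Set.range_subset_iff.2 hx)) h1 n)
    exact_mod_cast hle.trans hdeg
  · obtain ⟨x, hxJ, hx⟩ := CommAlgDim.exists_parameters P.natDegree M fun s q hq hmem => by
      have h2 := Order.LTSeries.length_le_krullDim
        (⟨s, fun i => ⟨q i, hmem i⟩, fun i => hq (Fin.castSucc_lt_succ (i := i))⟩ :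
          LTSeries (Module.support A M))
      rw [show Order.krullDim (Module.support A M) = Module.supportDim A M from rfl, ← hdim] at h2
      exact_mod_cast h2
    exact ⟨_, x, rfl, hxJ, Module.length_ne_top_iff.1 (CommAlgDim.length_quotient_smul_ne_top
      fun p hp hpa => hx p hp fun i => hpa (Ideal.subset_span ⟨i, rfl⟩))⟩

end Groth.Agent.S3406
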