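import Groth.Statements.S3407
import Groth.Agent.S2561
import Groth.Agent.DepthLib.GeomRedOpen
import Groth.Agent.EquidimLib.GeomReduced
import Groth.Agent.EquidimLib.DimCriteria
import Groth.Agent.SecNhdLib.FlatNhd
import Groth.Agent.DevissLib.ClosedImm
import Groth.Agent.UOpenLib.Criterion
import Groth.Agent.S4931
-- import your own Groth.Agent.* helpers here

set_option autoImplicit false
open CategoryTheory AlgebraicGeometry
universe u
open EGA43

namespace Groth.Agent.S3407

open CategoryTheory.Limits in
/-- A surjective closed immersion is universally open. -/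
theorem universallyOpen_of_closedImmersion {Y' Y : Scheme.{u}} (i : Y' ⟶ Y) [IsClosedImmersion i] [Surjective i] :
    UniversallyOpen i := by
  refine ⟨fun A B a b f' sq => ?_⟩
  haveI : IsClosedImmersion f' := MorphismProperty.of_isPullback sq.flip ‹_›
  haveI : Surjective f' := MorphismProperty.of_isPullback sq.flip ‹_›
  exact (f'.isClosedEmbedding.toHomeomorphOfSurjective f'.surjective).isOpenMap

/-- Let Y be locally Noetherian, f : X ⟶ Y locally of finite type, x a point of X and y = f x. Suppose f
is universally open at the generic point of every irreducible component of the fibre X_y passing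
through x, and X_y is geometrically reduced at x. Then there is an open neighbourhood U of x such
that the restriction of f to U is universally open and, for every point x' of U, the fibre of f
through x' is geometrically reduced at x'. -/
theorem result {X Y : Scheme.{u}} [IsLocallyNoetherian Y] (f : X ⟶ Y)
    [LocallyOfFiniteType f] (x : X)
    (hopen : ∀ z : ↥(f.fiber (f.base x)), f.asFiber x ∈ closure {z} →
      (∀ z' : ↥(f.fiber (f.base x)), z ∈ closure {z'} → z' = z) →
      EGA43.IsUnivOpenAt f ((f.fiberι (f.base x)).base z))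
    (hred : FBase.IsGeomReducedAt (f.fiberToSpecResidueField (f.base x)) (f.asFiber x)) :
    ∃ U : X.Opens, x ∈ U ∧ UniversallyOpen (U.ι ≫ f) ∧
      ∀ x' : X, x' ∈ U → FBase.IsGeomReducedAt (f.fiberToSpecResidueField (f.base x')) (f.asFiber x') := by
  let I := Scheme.IdealSheafData.vanishingIdeal (⊤ : TopologicalSpace.Closeds Y)
  let i := I.subschemeι
  haveI hI : IsReduced I.subscheme := DevissLib.isReduced_vanishingIdeal' (⊤ : TopologicalSpace.Closeds Y)
  haveI : Surjective i := ⟨fun y => by
    have h : Set.range i.base = Set.univ := I.range_subschemeι.trans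
      (Scheme.IdealSheafData.coe_support_vanishingIdeal (⊤ : TopologicalSpace.Closeds Y))
    exact h.ge trivial⟩
  haveI : IsLocallyNoetherian I.subscheme := LocallyOfFiniteType.isLocallyNoetherian i
  let p := Limits.pullback.fst f i
  let g := Limits.pullback.snd f i
  have sq : IsPullback p g f i := IsPullback.of_hasPullback f i
  haveI : IsClosedImmersion p := inferInstance
  haveI : Surjective p := MorphismProperty.of_isPullback sq.flip ‹_›
  haveI : LocallyOfFinitePresentation g := UOpenLib.locallyOfFinitePresentation_of_isLocallyNoetherian g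
  obtain ⟨x', hx'⟩ := p.surjective x
  have hinj : Function.Injective i.base := i.isEmbedding.injective
  have hsq : ∀ v, f.base (p.base v) = i.base (g.base v) := fun v => by
    rw [← Scheme.Hom.comp_apply, ← Scheme.Hom.comp_apply, sq.w]
  have hflat : (g.stalkMap x').hom.Flat := by
    refine Groth.Agent.S2561.result g x' (fun z hz hzmax => ?_)
      (EquidimLib.isGeomReducedAt_baseChange f x hred sq x' hx') inferInstance
    obtain ⟨hzf, hzx, hmax⟩ := EquidimLib.isFibreMax_of_fiber g x' z hz hzmax
    let v := (g.fiberι (g.base x')).base z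
    have hvf : f.base (p.base v) = f.base x := by rw [← hx', hsq, hsq, hzf]
    have hvmax : EquidimLib.IsFibreMax f (p.base v) := fun a ha hsp => by
      obtain ⟨a, rfl⟩ := p.surjective a
      refine congrArg p.base (hmax a (hinj ?_) ?_)
      · rw [← hsq, ← hsq]; exact ha
      · exact (p.isEmbedding.isInducing.specializes_iff.mp (specializes_iff_mem_closure.mpr hsp)).mem_closure
    obtain ⟨w, hw1, hw2, hw3⟩ := EquidimLib.exists_asFiber_of_specializes f x (p.base v) hvf
      (hx' ▸ hzx.map p.continuous) hvmax
    exact UOpenLib.IsUnivOpenAt.of_isPullback (hw1 ▸ hopen w hw2 fun w' hw' => hw3 w' hw') sq v rfl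
  let O : (Limits.pullback f i).Opens := ⟨_, DepthLib.isOpen_flat_geomReduced g⟩
  let U : X.Opens := ⟨p.base '' O, (p.isClosedEmbedding.toHomeomorphOfSurjective p.surjective).isOpenMap _ O.isOpen⟩
  refine ⟨U, ⟨x', ⟨hflat, EquidimLib.isGeomReducedAt_baseChange f x hred sq x' hx'⟩, hx'⟩, ?_, ?_⟩
  · haveI : Flat (O.ι ≫ g) := (Flat.iff_flat_stalkMap _).mpr fun w => by
      rw [Scheme.Hom.stalkMap_comp]
      exact RingHom.Flat.comp w.2.1 (Flat.iff_flat_stalkMap O.ι |>.mp inferInstance w)
    haveI : UniversallyOpen i := universallyOpen_of_closedImmersion i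
    haveI h1 : UniversallyOpen ((O.ι ≫ g) ≫ i) := inferInstance
    let q : O.toScheme ⟶ U.toScheme := IsOpenImmersion.lift U.ι (O.ι ≫ p) (by
      rw [U.range_ι]
      rintro _ ⟨w, rfl⟩
      exact ⟨w.1, w.2, rfl⟩)
    have hq : q ≫ U.ι = O.ι ≫ p := IsOpenImmersion.lift_fac _ _ _
    haveI : Surjective q := ⟨fun a => by
      obtain ⟨w, hw, hwa⟩ := a.2
      refine ⟨⟨w, hw⟩, U.ι.isEmbedding.injective ?_⟩
      rw [← Scheme.Hom.comp_apply, hq]
      exact hwa⟩
    have h2 : q ≫ U.ι ≫ f = (O.ι ≫ g) ≫ i := by rw [← Category.assoc, hq, Category.assoc, Category.assoc, sq.w]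
    haveI h3 : UniversallyOpen (q ≫ U.ι ≫ f) := h2 ▸ h1
    refine Groth.Agent.S4931.universallyOpen_of_forall _ fun a => ?_
    obtain ⟨w, rfl⟩ := q.surjective a
    exact UOpenLib.IsUnivOpenAt.of_comp (UOpenLib.isUnivOpenAt_of_universallyOpen' (q ≫ U.ι ≫ f) w)
  · rintro _ ⟨w, hw, rfl⟩
    exact SecNhdLib.isGeomReducedAt_of_baseChange sq w hw.2

end Groth.Agent.S3407
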