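import Groth.Statements.S3408
import Mathlib
import Groth.Agent.DvrFlatLib.ReducedScheme
import Groth.Agent.S2259
import Groth.Agent.FlatLib.FlatLocusScheme

set_option autoImplicit false
open CategoryTheory AlgebraicGeometry
universe u
open EGA43

namespace Groth.Agent.S3408

/-- Let Y be locally Noetherian, f : X ⟶ Y locally of finite type, x a point of X and y = f x. Suppose f
is universally open at the generic point of every irreducible component of X_y passing through x,
X_y is geometrically reduced at x, and the local ring O_{Y,y} is reduced. Then there is an open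
neighbourhood U of x such that the restriction of f to U is flat and U is a reduced scheme. -/
theorem result {X Y : Scheme.{u}} [IsLocallyNoetherian Y] (f : X ⟶ Y)
    [LocallyOfFiniteType f] (x : X)
    (hopen : ∀ z : ↥(f.fiber (f.base x)), f.asFiber x ∈ closure {z} →
      (∀ z' : ↥(f.fiber (f.base x)), z ∈ closure {z'} → z' = z) →
      EGA43.IsUnivOpenAt f ((f.fiberι (f.base x)).base z))
    (hred : FBase.IsGeomReducedAt (f.fiberToSpecResidueField (f.base x)) (f.asFiber x))
    (hy : _root_.IsReduced (Y.presheaf.stalk (f.base x))) :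
    ∃ U : X.Opens, x ∈ U ∧ Flat (U.ι ≫ f) ∧ IsReduced (U : Scheme.{u}) := by
  have hflat : (f.stalkMap x).hom.Flat := DvrFlatLib.flat_stalkMap_of_univOpen f x hopen hred hy
  haveI : LocallyOfFinitePresentation f := inferInstance
  haveI : IsLocallyNoetherian X := LocallyOfFiniteType.isLocallyNoetherian f
  obtain ⟨O, hO, hOflat⟩ := FlatLib.exists_open_flat f hflat
  haveI : _root_.IsReduced (X.presheaf.stalk x) :=
    DvrFlatLib.isReduced_stalk_of_flat_geomReduced f x hflat hred hy
  obtain ⟨U, hU, hUred⟩ := Groth.Agent.S2259.result X x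
  refine ⟨O ⊓ U, ⟨hO, hU⟩, ?_, ?_⟩
  · haveI := hOflat
    rw [← X.homOfLE_ι (inf_le_left : O ⊓ U ≤ O), Category.assoc]
    infer_instance
  · haveI := hUred
    exact isReduced_of_isOpenImmersion (X.homOfLE (inf_le_right : O ⊓ U ≤ U))

end Groth.Agent.S3408
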