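import Groth.Statements.S3410
import Mathlib
import Groth.Agent.GeomIntLib.Basic

set_option autoImplicit false
open CategoryTheory AlgebraicGeometry
universe u
open EGA43

namespace Groth.Agent.S3410

/-- Let Y be locally Noetherian, f : X ⟶ Y locally of finite type, x a point of X and y = f x. Suppose f
is universally open at the generic point of every irreducible component of X_y through x, X_y is
geometrically pointwise integral at x, and O_{Y,y} is geometrically unibranch. Then x lies on
exactly one irreducible component of X. If moreover O_{Y,y} is a domain, then O_{X,x} is a domain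
and O_{Y,y} ⟶ O_{X,x} is flat. -/
theorem result {X Y : Scheme.{u}} [IsLocallyNoetherian Y]
    (f : X ⟶ Y) [LocallyOfFiniteType f] (x : X)
    (hopen : ∀ z : ↥(f.fiber (f.base x)), f.asFiber x ∈ closure {z} →
      (∀ z' : ↥(f.fiber (f.base x)), z ∈ closure {z'} → z' = z) →
      EGA43.IsUnivOpenAt f ((f.fiberι (f.base x)).base z))
    (hint : FBase.IsGeomPtIntegralAt (f.fiberToSpecResidueField (f.base x)) (f.asFiber x))
    (hY : CAlg2.IsGeomUnibranch (Y.presheaf.stalk (f.base x))) :
    (∃! Z : Set X, Z ∈ irreducibleComponents (X : Type u) ∧ x ∈ Z) ∧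
      (IsDomain (Y.presheaf.stalk (f.base x)) → IsDomain (X.presheaf.stalk x) ∧ (f.stalkMap x).hom.Flat) := by
  haveI := GeomIntLib.isDomain_fiber_stalk f x hint
  have hred := GeomIntLib.isGeomReducedAt_of_integral f x hint
  have : IsLocallyNoetherian X := LocallyOfFiniteType.isLocallyNoetherian f
  have hequi : EGA43.IsEquidimAt f x := by
    refine Groth.Agent.S3409.result f x hopen hred ?_
    obtain ⟨z, hz, hzx, hzm, hzd⟩ := UOpenLib.exists_max_fibreDimAt f x
    obtain ⟨e, he⟩ := UOpenLib.exists_fibreClosureDim_eq_nat f z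
    refine ⟨e, fun Z hZ hxZ => ?_⟩
    obtain ⟨w, hw⟩ := QuasiSober.sober hZ.1 (isClosed_of_mem_irreducibleComponents _ hZ)
    obtain rfl : Z = closure {w} := hw.def.symm
    have hwm : ∀ w', w ∈ closure {w'} → w' = w := fun w' h =>
      FibDimLib.eq_of_specializes_of_closure_mem hZ (specializes_iff_mem_closure.mpr h)
    obtain ⟨h1, h2, h3⟩ := EquidimLib.isFibreMax_of_fiber f x w hxZ hwm
    have e1 := GeomIntLib.eq_of_fibreMax f x h1 h2 h3 hz hzx hzm
    rw [← UOpenLib.fibreClosureDim_fiberι, e1, he]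
  obtain ⟨ξ, hξ, hξx⟩ := DvrDomLib.exists_generic_specializes x
  have huniq : ∀ ζ : X, closure {ζ} ∈ irreducibleComponents (X : Type u) → ζ ⤳ x → ζ = ξ := fun ζ hζ hζx =>
    GeomIntLib.eq_of_components f x hopen hint hY hequi hζ hζx hξ hξx
  refine ⟨⟨closure {ξ}, ⟨hξ, hξx.mem_closure⟩, fun Z hZ => ?_⟩, fun hdom => ?_⟩
  · obtain ⟨ζ, hζ⟩ := QuasiSober.sober hZ.1.1 (isClosed_of_mem_irreducibleComponents _ hZ.1)
    obtain rfl : Z = closure {ζ} := hζ.def.symm
    rw [huniq ζ hZ.1 (specializes_iff_mem_closure.mpr hZ.2)]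
  · haveI := hdom
    have hflat := DvrFlatLib.flat_stalkMap_of_univOpen f x hopen hred inferInstance
    haveI := DvrFlatLib.isReduced_stalk_of_flat_geomReduced f x hflat hred inferInstance
    refine ⟨?_, hflat⟩
    obtain ⟨P, hP⟩ := EquidimLib.exists_stalkPt hξx
    have hle : ∀ q : PrimeSpectrum (X.presheaf.stalk x), P ≤ q := fun q => by
      obtain ⟨ζ, hζ, hζq⟩ := DvrDomLib.exists_generic_specializes (EquidimLib.stalkPt x q)
      have e := huniq ζ hζ (hζq.trans (EquidimLib.stalkPt_specializes x q))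
      exact EquidimLib.le_of_stalkPt (hP.symm ▸ e ▸ hζq)
    have hbot : P.asIdeal = ⊥ := by
      refine le_bot_iff.mp ((show P.asIdeal ≤ nilradical (X.presheaf.stalk x) from ?_).trans (nilradical_eq_zero _).le)
      rw [nilradical_eq_sInf]
      exact le_sInf fun q hq => hle ⟨q, hq⟩
    haveI : (⊥ : Ideal (X.presheaf.stalk x)).IsPrime := hbot ▸ P.isPrime
    exact IsDomain.of_bot_isPrime _

end Groth.Agent.S3410
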