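import Groth.Statements.S3417
import Groth.Agent.ProperConnLib.Core
import Mathlib

set_option autoImplicit false
open CategoryTheory AlgebraicGeometry
universe u
open EGA43

namespace Groth.Agent.S3417

/-- Let A be a discrete valuation ring, Y = Spec A with closed point a and generic point b, and f : X ⟶
Y a morphism locally of finite type which is open (as a map of spaces). If X is connected and the
fibre over a is a reduced scheme, then the fibre over b is connected. (Stated with 'preconnected',
which also covers the empty case; a is the closed point and b the point specialising to every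
point.) -/
theorem result (A : Type u) [CommRing A] [IsDomain A]
    [IsDiscreteValuationRing A] {X : Scheme.{u}} (f : X ⟶ Spec (CommRingCat.of A)) [LocallyOfFiniteType f]
    (hopen : IsOpenMap f.base) [PreconnectedSpace X]
    (a b : ↥(Spec (CommRingCat.of A))) (ha : IsClosed ({a} : Set ↥(Spec (CommRingCat.of A))))
    (hb : ∀ z : ↥(Spec (CommRingCat.of A)), b ⤳ z)
    (hred : AlgebraicGeometry.IsReduced (f.fiber a)) :
    PreconnectedSpace ↥(f.fiber b) := by
  haveI := hred
  have ha' : a = IsLocalRing.closedPoint A :=
    PrimeSpectrum.ext (IsLocalRing.eq_maximalIdeal ((PrimeSpectrum.isClosed_singleton_iff_isMaximal (R := A) a).mp ha))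
  have hb' : b = ProperConnLib.genPt A :=
    PrimeSpectrum.ext (eq_bot_iff.mpr ((PrimeSpectrum.le_iff_specializes (R := A) b (ProperConnLib.genPt A)).mpr (hb _)))
  have hgood : ∀ w, f w = IsLocalRing.closedPoint A → ProperConnLib.GoodAt f w := fun w hw => by
    haveI : AlgebraicGeometry.IsReduced (f.fiber (f w)) := by rw [hw, ← ha']; exact hred
    exact ProperConnLib.goodAt_of_openAt f hw (fun z _ _ U hU => hopen.image_mem_nhds hU) inferInstance
  have h1 : _root_.IsPreconnected (f ⁻¹' {b}) := by rw [hb']; exact ProperConnLib.isPreconnected_genPt f hgood
  haveI : PreconnectedSpace ↥(f ⁻¹' {b}) := isPreconnected_iff_preconnectedSpace.mp h1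
  exact (f.fiberHomeo b).symm.surjective.denseRange.preconnectedSpace (f.fiberHomeo b).symm.continuous

end Groth.Agent.S3417
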