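import Groth.Statements.S3420
import Mathlib
import Groth.Agent.SecNhdLib.Nhd

set_option autoImplicit false
open CategoryTheory AlgebraicGeometry
universe u
open EGA43

namespace Groth.Agent.S3420

/-- Let Y be locally Noetherian, f : X ⟶ Y locally of finite type, g a section of f, X⁰_y the connected
component of f⁻¹(y) containing g(y) and X⁰ the union of the X⁰_y. If y is a point such that the
fibre over y is geometrically reduced at every point of X⁰_y and f is universally open at every
point of X⁰_y, then X⁰ is a neighbourhood of X⁰_y in X. In particular, if f is universally open and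
every fibre is geometrically reduced at the points of X⁰, then X⁰ is open in X. -/
theorem result {X Y : Scheme.{u}} [IsLocallyNoetherian Y] (f : X ⟶ Y)
    [LocallyOfFiniteType f] (g : Y ⟶ X) (hg : g ≫ f = 𝟙 Y) :
    (∀ y : Y, (∀ x ∈ connectedComponentIn (f.base ⁻¹' {y}) (g.base y), EGA43.IsUnivOpenAt f x ∧
        FBase.IsGeomReducedAt (f.fiberToSpecResidueField (f.base x)) (f.asFiber x)) →
      connectedComponentIn (f.base ⁻¹' {y}) (g.base y) ⊆ interior (MoreMor.sectionComponents f g)) ∧
    (UniversallyOpen f → (∀ x ∈ MoreMor.sectionComponents f g,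
        FBase.IsGeomReducedAt (f.fiberToSpecResidueField (f.base x)) (f.asFiber x)) →
      IsOpen (MoreMor.sectionComponents f g)) := by
  have key : ∀ y : Y, (∀ x ∈ connectedComponentIn (f.base ⁻¹' {y}) (g.base y), EGA43.IsUnivOpenAt f x ∧
        FBase.IsGeomReducedAt (f.fiberToSpecResidueField (f.base x)) (f.asFiber x)) →
      connectedComponentIn (f.base ⁻¹' {y}) (g.base y) ⊆ interior (MoreMor.sectionComponents f g) := by
    intro y H
    refine SecNhdLib.connectedComponentIn_subset_interior f g hg y fun z hz =>
      SecNhdLib.dvrHyp_of_univOpen (fun v hv hvz => (H v ?_).1) (H z hz).2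
    have hzy : f.base z = y := (connectedComponentIn_subset _ _ hz :)
    have hvy : f.base v = y := hv.trans hzy
    rw [connectedComponentIn_eq hz]
    have hp : _root_.IsPreconnected (f.base ⁻¹' {y} ∩ closure {v}) :=
      isPreconnected_singleton.subset_closure (s := {v}) (by rintro a rfl; exact ⟨hvy, subset_closure rfl⟩)
        Set.inter_subset_right
    exact hp.subset_connectedComponentIn ⟨hzy, hvz.mem_closure⟩ Set.inter_subset_left ⟨hvy, subset_closure rfl⟩
  refine ⟨key, fun ho hr => isOpen_iff_mem_nhds.mpr fun x hx => mem_interior_iff_mem_nhds.mp ?_⟩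
  refine key (f.base x) (fun z hz => ⟨fun Y' h z' _ U hU => ?_, hr z ?_⟩) hx
  · exact (ho.out _ _ _ (CategoryTheory.IsPullback.of_hasPullback f h).flip).image_mem_nhds hU
  · show z ∈ connectedComponentIn (f.base ⁻¹' {f.base z}) (g.base (f.base z))
    rw [show f.base z = f.base x from (connectedComponentIn_subset _ _ hz :)]
    exact hz

end Groth.Agent.S3420
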