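import Groth.Statements.S3430
import Groth.Agent.DimNoetherLib.Basic

set_option autoImplicit false
set_option backward.isDefEq.respectTransparency false
set_option backward.isDefEq.respectTransparency.types false
open CategoryTheory AlgebraicGeometry
universe u
open EGA42

namespace Groth.Agent.S3430

/-- Let X be a scheme of finite type over a field k and n a natural number. Then: dim X ≥ n if and only
if there are a dense open subscheme U of X and a surjective k-morphism from U to affine n-space over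
k; dim X ≤ n if and only if there are such U and g with g finite; dim X = n if and only if there are
such U and g with g finite and surjective. -/
theorem result (k : Type u) [Field k] {X : Scheme.{u}}
    (f : X ⟶ Spec (CommRingCat.of k)) [LocallyOfFiniteType f] [QuasiCompact f] (n : ℕ) :
    ((n : WithBot ℕ∞) ≤ topologicalKrullDim (X : Type u) ↔
      ∃ (U : X.Opens) (g : (U : Scheme.{u}) ⟶ 𝔸(ULift.{u} (Fin n); Spec (CommRingCat.of k))),
        Dense (U : Set X) ∧ g ≫ (𝔸(ULift.{u} (Fin n); Spec (CommRingCat.of k)) ↘ Spec (CommRingCat.of k)) = U.ι ≫ f ∧ Function.Surjective g.base) ∧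
    (topologicalKrullDim (X : Type u) ≤ n ↔
      ∃ (U : X.Opens) (g : (U : Scheme.{u}) ⟶ 𝔸(ULift.{u} (Fin n); Spec (CommRingCat.of k))),
        Dense (U : Set X) ∧ g ≫ (𝔸(ULift.{u} (Fin n); Spec (CommRingCat.of k)) ↘ Spec (CommRingCat.of k)) = U.ι ≫ f ∧ IsFinite g) ∧
    (topologicalKrullDim (X : Type u) = n ↔
      ∃ (U : X.Opens) (g : (U : Scheme.{u}) ⟶ 𝔸(ULift.{u} (Fin n); Spec (CommRingCat.of k))),
        Dense (U : Set X) ∧ g ≫ (𝔸(ULift.{u} (Fin n); Spec (CommRingCat.of k)) ↘ Spec (CommRingCat.of k)) = U.ι ≫ f ∧ IsFinite g ∧ Function.Surjective g.base) := by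
  haveI : IsLocallyNoetherian X := LocallyOfFiniteType.isLocallyNoetherian f
  haveI : CompactSpace X := QuasiCompact.compactSpace_of_compactSpace f
  haveI : IsNoetherian X := ⟨⟩
  obtain ⟨U, hU, -, hUd⟩ := AffStratLib.exists_dense_affine X TopologicalSpace.NoetherianSpace.finite_irreducibleComponents
  haveI : IsAffine U := hU
  obtain ⟨c, hc⟩ := Spec.map_surjective ((U : Scheme.{u}).isoSpec.inv ≫ U.ι ≫ f)
  letI : Algebra k Γ((U : Scheme.{u}), ⊤) := c.hom.toAlgebra
  haveI : Algebra.FiniteType k Γ((U : Scheme.{u}), ⊤) := RingHom.finiteType_algebraMap.mp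
    ((HasRingHomProperty.Spec_iff (P := @LocallyOfFiniteType)).mp
      (hc ▸ (inferInstance : LocallyOfFiniteType ((U : Scheme.{u}).isoSpec.inv ≫ U.ι ≫ f))))
  let S := AffineSpace.SpecIso (ULift.{u} (Fin n)) (CommRingCat.of k)
  have hgover : ∀ φ : MvPolynomial (ULift.{u} (Fin n)) k →ₐ[k] Γ((U : Scheme.{u}), ⊤),
      ((U : Scheme.{u}).isoSpec.hom ≫ Spec.map (CommRingCat.ofHom φ.toRingHom) ≫ S.inv) ≫
        (𝔸(ULift.{u} (Fin n); Spec (CommRingCat.of k)) ↘ Spec (CommRingCat.of k)) = U.ι ≫ f := fun φ => by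
    rw [Category.assoc, Category.assoc, AffineSpace.SpecIso_inv_over, ← Spec.map_comp, ← Iso.eq_inv_comp, ← hc]
    exact congrArg Spec.map (CommRingCat.hom_ext φ.comp_algebraMap)
  have hfin : ∀ φ : MvPolynomial (ULift.{u} (Fin n)) k →ₐ[k] Γ((U : Scheme.{u}), ⊤), φ.Finite →
      IsFinite ((U : Scheme.{u}).isoSpec.hom ≫ Spec.map (CommRingCat.ofHom φ.toRingHom) ≫ S.inv) := fun φ hφ => by
    haveI : IsFinite (Spec.map (CommRingCat.ofHom φ.toRingHom)) := (IsFinite.SpecMap_iff _).2 hφ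
    infer_instance
  have hsur : ∀ φ : MvPolynomial (ULift.{u} (Fin n)) k →ₐ[k] Γ((U : Scheme.{u}), ⊤),
      Function.Surjective (PrimeSpectrum.comap φ.toRingHom) →
      Function.Surjective ((U : Scheme.{u}).isoSpec.hom ≫ Spec.map (CommRingCat.ofHom φ.toRingHom) ≫ S.inv).base := fun φ hφ => by
    haveI : Surjective (Spec.map (CommRingCat.ofHom φ.toRingHom)) := ⟨hφ⟩
    exact Scheme.Hom.surjective _
  have hd : ringKrullDim Γ((U : Scheme.{u}), ⊤) = topologicalKrullDim (X : Type u) := by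
    rw [← PrimeSpectrum.topologicalKrullDim_eq_ringKrullDim, ← DimNoetherLib.dim_dense_open f hUd]
    exact IsHomeomorph.topologicalKrullDim_eq _
      (TopCat.homeoOfIso (Scheme.forgetToTop.mapIso (U : Scheme.{u}).isoSpec.symm)).isHomeomorph
  obtain ⟨h1, h2, h3⟩ := DimNoetherLib.exists_hom (k := k) Γ((U : Scheme.{u}), ⊤) n
  rw [hd] at h1 h2 h3
  have hge : ∀ (V : X.Opens) (g : (V : Scheme.{u}) ⟶ 𝔸(ULift.{u} (Fin n); Spec (CommRingCat.of k))),
      Dense (V : Set X) → g ≫ (𝔸(ULift.{u} (Fin n); Spec (CommRingCat.of k)) ↘ Spec (CommRingCat.of k)) = V.ι ≫ f →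
      Function.Surjective g.base → (n : WithBot ℕ∞) ≤ topologicalKrullDim (X : Type u) := fun V g hV hg hgs => by
    haveI : LocallyOfFiniteType (g ≫ (𝔸(ULift.{u} (Fin n); Spec (CommRingCat.of k)) ↘ Spec (CommRingCat.of k))) := by
      rw [hg]; infer_instance
    haveI : LocallyOfFiniteType g :=
      locallyOfFiniteType_of_comp g (𝔸(ULift.{u} (Fin n); Spec (CommRingCat.of k)) ↘ Spec (CommRingCat.of k))
    rw [← DimNoetherLib.dim_dense_open f hV, ← DimNoetherLib.dim_affineSpace (k := k) n]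
    exact DimNoetherLib.dim_le_of_surjective
      (𝔸(ULift.{u} (Fin n); Spec (CommRingCat.of k)) ↘ Spec (CommRingCat.of k)) g hgs
  have hle : ∀ (V : X.Opens) (g : (V : Scheme.{u}) ⟶ 𝔸(ULift.{u} (Fin n); Spec (CommRingCat.of k))),
      Dense (V : Set X) → IsFinite g → topologicalKrullDim (X : Type u) ≤ n := fun V g hV hg => by
    rw [← DimNoetherLib.dim_dense_open f hV]
    exact DimNoetherLib.dim_le_of_finite g
  refine ⟨⟨fun h => ?_, ?_⟩, ⟨fun h => ?_, ?_⟩, ⟨fun h => ?_, ?_⟩⟩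
  · obtain ⟨φ, hφ⟩ := h1 h
    exact ⟨U, _, hUd, hgover φ, hsur φ hφ⟩
  · rintro ⟨V, g, hV, hg, hgs⟩
    exact hge V g hV hg hgs
  · obtain ⟨φ, hφ⟩ := h2 h
    exact ⟨U, _, hUd, hgover φ, hfin φ hφ⟩
  · rintro ⟨V, g, hV, -, hg⟩
    exact hle V g hV hg
  · obtain ⟨φ, hφ, hφs⟩ := h3 h
    exact ⟨U, _, hUd, hgover φ, hfin φ hφ, hsur φ hφs⟩
  · rintro ⟨V, g, hV, hg, hgf, hgs⟩
    exact le_antisymm (hle V g hV hgf) (hge V g hV hg hgs)

end Groth.Agent.S3430
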