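import Groth.Statements.S3431
import Groth.Agent.NoethJacLib
import Mathlib


-- import your own Groth.Agent.* helpers here

set_option autoImplicit false
universe u
open EGA43

namespace Groth.Agent.S3431

/-- Let A be a Noetherian ring. Then A is a Jacobson ring if and only if there is no prime ideal p of A
such that A/p is semi-local (finitely many maximal ideals) of Krull dimension 1. -/
theorem result (A : Type u) [CommRing A] [IsNoetherianRing A] :
    IsJacobsonRing A ↔
      ∀ (p : Ideal A) [p.IsPrime], ¬ (Finite (MaximalSpectrum (A ⧸ p)) ∧ ringKrullDim (A ⧸ p) = 1) := by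
  constructor
  · rintro hJ p _ ⟨hfin, hdim⟩
    haveI : IsJacobsonRing (A ⧸ p) := inferInstance
    have hb : (⊥ : Ideal (A ⧸ p)).jacobson = ⊥ := isJacobsonRing_iff_prime_eq.1 inferInstance ⊥ Ideal.isPrime_bot
    have hnf : ¬ IsField (A ⧸ p) := fun hf => by
      letI := hf.toField
      rw [ringKrullDim_eq_zero_of_field] at hdim
      exact zero_ne_one hdim
    classical
    haveI := Fintype.ofFinite (MaximalSpectrum (A ⧸ p))
    have hprod : ∀ m : MaximalSpectrum (A ⧸ p), ∃ x ∈ m.asIdeal, x ≠ 0 := fun m =>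
      Submodule.exists_mem_ne_zero_of_ne_bot (Ring.ne_bot_of_isMaximal_of_not_isField m.isMaximal hnf)
    choose x hxm hx0 using hprod
    have h2 : ∏ m, x m ∈ (⊥ : Ideal (A ⧸ p)).jacobson := Ideal.mem_sInf.2 fun J hJ' =>
      J.mem_of_dvd (Finset.dvd_prod_of_mem x (Finset.mem_univ (⟨J, hJ'.2⟩ : MaximalSpectrum (A ⧸ p)))) (hxm ⟨J, hJ'.2⟩)
    rw [hb, Ideal.mem_bot, Finset.prod_eq_zero_iff] at h2
    obtain ⟨m, -, hm⟩ := h2
    exact hx0 m hm
  · intro h
    rw [isJacobsonRing_iff_prime_eq]
    intro Q hQ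
    refine le_antisymm (fun g hg => ?_) Ideal.le_jacobson
    by_contra hgQ
    obtain ⟨q, hq, hle, hgq, hall⟩ := NoethJacLib.exists_max_avoid Q g hgQ
    haveI := hq
    have hg0 : Ideal.Quotient.mk q g ≠ 0 := by rwa [Ne, Ideal.Quotient.eq_zero_iff_mem]
    have hmax := fun P hP h0 => @NoethJacLib.isMaximal_of_mem_all (A ⧸ q) _ _ _ _ hg0 hall P hP h0
    have hgmem : ∀ m : Ideal (A ⧸ q), m.IsMaximal → Ideal.Quotient.mk q g ∈ m := fun m hm => by
      haveI := hm
      have := Ideal.mem_sInf.1 hg ⟨hle.trans (fun a ha => by simp [Ideal.Quotient.eq_zero_iff_mem.2 ha]),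
        Ideal.comap_isMaximal_of_surjective (Ideal.Quotient.mk q) Ideal.Quotient.mk_surjective (K := m)⟩
      exact this
    have hnf : ¬ IsField (A ⧸ q) := fun hf => by
      haveI : (⊥ : Ideal (A ⧸ q)).IsMaximal := Ring.isField_iff_maximal_bot.1 hf
      exact hg0 (by simpa using hgmem ⊥ this)
    refine h q ⟨?_, ?_⟩
    · have hfin : ((Ideal.span {Ideal.Quotient.mk q g}).minimalPrimes).Finite :=
        Ideal.finite_minimalPrimes_of_isNoetherianRing _ _
      haveI := hfin.to_subtype
      refine Finite.of_injective (β := ↥((Ideal.span {Ideal.Quotient.mk q g}).minimalPrimes))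
        (fun m => ⟨m.asIdeal, ⟨⟨m.isMaximal.isPrime, (Ideal.span_singleton_le_iff_mem _).2 (hgmem _ m.isMaximal)⟩, fun J hJ hJm => ?_⟩⟩) ?_
      · have hJ0 : J ≠ ⊥ := fun h0 => hg0 (by simpa [h0] using hJ.2 (Ideal.subset_span (Set.mem_singleton _)))
        exact ((hmax J hJ.1 hJ0).eq_of_le m.isMaximal.ne_top hJm).ge
      · intro a b hab
        exact MaximalSpectrum.ext (Subtype.ext_iff.1 hab)
    · haveI : Ring.KrullDimLE 1 (A ⧸ q) :=
        Ring.KrullDimLE.mk₁ fun P hP => (em (P = ⊥)).elim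
          (fun h0 => Or.inl (by rw [h0, IsDomain.minimalPrimes_eq_singleton_bot]; rfl)) (fun h0 => Or.inr (hmax P hP h0))
      refine le_antisymm (by exact_mod_cast (Ring.krullDimLE_iff (n := 1)).1 inferInstance) ?_
      by_contra hlt
      haveI : Ring.KrullDimLE 0 (A ⧸ q) := Ring.KrullDimLE.mk₀ fun P hP => by
        by_cases h0 : P = ⊥
        · subst h0
          obtain ⟨m, hm⟩ := Ideal.exists_maximal (A ⧸ q)
          by_contra hnm
          have hlt' : (⊥ : Ideal (A ⧸ q)) < m := bot_le.lt_of_ne fun he => hnm (he ▸ hm)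
          haveI := hm.isPrime
          apply hlt
          have h1 := Ideal.height_add_one_le_of_lt_of_isPrime hlt'
          rw [Ideal.height_bot, zero_add] at h1
          exact le_trans (by exact_mod_cast h1) (Ideal.height_le_ringKrullDim_of_ne_top hm.ne_top)
        · exact hmax P hP h0
      exact hnf Ring.KrullDimLE.isField_of_isDomain

end Groth.Agent.S3431
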