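import Groth.Statements.S3432
import Mathlib

-- import your own Groth.Agent.* helpers here

set_option autoImplicit false
open CategoryTheory AlgebraicGeometry
universe u
open EGA43

namespace Groth.Agent.S3432

open CategoryTheory AlgebraicGeometry TopologicalSpace Topology

theorem no_two_step {A : Type u} [CommRing A] [IsDomain A] [IsNoetherianRing A] (f : A) (hf : f ≠ 0)
    (hall : ∀ R : Ideal A, R.IsPrime → R ≠ ⊥ → f ∈ R)
    (Q M : Ideal A) [Q.IsPrime] [M.IsPrime] (hQ : Q ≠ ⊥) (hQM : Q < M) : False := by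
  classical
  have hfin : (Ideal.span {f}).minimalPrimes.Finite := Ideal.finite_minimalPrimes_of_isNoetherianRing A _
  have hle : ∀ R : Ideal A, ∀ g : A, R ∈ (Ideal.span {g}).minimalPrimes → R.height ≤ 1 := fun R g hR => by
    haveI := hR.1.1
    exact Ideal.height_le_one_of_isPrincipal_of_mem_minimalPrimes (Ideal.span {g}) R hR
  have hM : ∀ R ∈ hfin.toFinset, ¬ M ≤ R := fun R hR hMR => by
    have hR' := hfin.mem_toFinset.1 hR
    haveI := hR'.1.1
    have h1 : (⊥ : Ideal A).height < Q.height := Ideal.height_strict_mono_of_isPrime (bot_lt_iff_ne_bot.2 hQ)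
    have h2 : Q.height < M.height := Ideal.height_strict_mono_of_isPrime hQM
    have h3 : M.height ≤ 1 := (Ideal.height_mono hMR).trans (hle R f hR')
    have h4 : (1 : ℕ∞) ≤ Q.height := ENat.one_le_iff_ne_zero.2 (ne_bot_of_gt h1)
    exact absurd (h3.trans h4) (not_le.2 h2)
  obtain ⟨g, hgM, hg⟩ : ∃ g ∈ (M : Set A), g ∉ ⋃ R ∈ (↑hfin.toFinset : Set (Ideal A)), (R : Set A) :=
    Set.not_subset.1 fun h => by
      obtain ⟨R, hR, hMR⟩ := (Ideal.subset_union_prime (f := id) ⊥ ⊥ fun R hR _ _ => (hfin.mem_toFinset.1 hR).1.1).1 h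
      exact hM R hR hMR
  simp only [Set.Finite.coe_toFinset, Set.mem_iUnion, SetLike.mem_coe, not_exists] at hg
  obtain ⟨R, hR⟩ := Ideal.nonempty_minimalPrimes (I := Ideal.span {g}) fun h =>
    ‹M.IsPrime›.ne_top (top_le_iff.1 (h ▸ Ideal.span_le.2 (Set.singleton_subset_iff.2 hgM)))
  haveI := hR.1.1
  have hgR : g ∈ R := hR.1.2 (Ideal.subset_span rfl)
  have hfM : f ∈ M := hall M inferInstance (ne_bot_of_gt hQM)
  obtain ⟨R₁, hR₁, -⟩ := Ideal.exists_minimalPrimes_le (J := M) (I := Ideal.span {f})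
    (Ideal.span_le.2 (Set.singleton_subset_iff.2 hfM))
  have hg0 : g ≠ 0 := fun h => hg R₁ hR₁ (h ▸ R₁.zero_mem)
  have hR0 : R ≠ ⊥ := fun h => hg0 (by simpa [h] using hgR)
  obtain ⟨R', hR', hR'R⟩ := Ideal.exists_minimalPrimes_le (J := R) (I := Ideal.span {f})
    (Ideal.span_le.2 (Set.singleton_subset_iff.2 (hall R inferInstance hR0)))
  haveI := hR'.1.1
  rcases hR'R.lt_or_eq with hlt | rfl
  · have h1 : (⊥ : Ideal A).height < R'.height := Ideal.height_strict_mono_of_isPrime (bot_lt_iff_ne_bot.2 fun h => hf (by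
      simpa [h] using hR'.1.2 (Ideal.subset_span rfl : f ∈ Ideal.span {f})))
    have h2 : R'.height < R.height := Ideal.height_strict_mono_of_isPrime hlt
    exact absurd ((hle R g hR).trans (ENat.one_le_iff_ne_zero.2 (ne_bot_of_gt h1))) (not_le.2 h2)
  · exact hg R' hR' hgR

theorem closedPoint_of_locClosed (X : Scheme.{u}) [IsLocallyNoetherian X] (Y : Set X)
    (hmeet : ∀ Z : Set X, IsClosed Z → Z.Nonempty → (Z ∩ Y).Nonempty)
    (x y : X) (U : X.Opens) (hxU : x ∈ U) (hU : ∀ z ∈ U, x ⤳ z → z = x) (hy : y ∉ Y) (hxy : x ⤳ y) : y = x := by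
  by_contra hne
  obtain ⟨w, hw, hwY⟩ := hmeet (closure {y}) isClosed_closure ⟨y, subset_closure rfl⟩
  have hyw : y ⤳ w := specializes_iff_mem_closure.2 hw
  let O := X.presheaf.stalk w
  obtain ⟨P, hP⟩ : x ∈ Set.range (X.fromSpecStalk w) := by rw [Scheme.range_fromSpecStalk]; exact hxy.trans hyw
  obtain ⟨Q, hQ⟩ : y ∈ Set.range (X.fromSpecStalk w) := by rw [Scheme.range_fromSpecStalk]; exact hyw
  have hle : ∀ R R' : PrimeSpectrum O, R.asIdeal ≤ R'.asIdeal ↔ X.fromSpecStalk w R ⤳ X.fromSpecStalk w R' := fun R R' => by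
    rw [(X.fromSpecStalk w).isEmbedding.toIsInducing.specializes_iff]
    exact PrimeSpectrum.le_iff_specializes R R'
  obtain ⟨-, ⟨f, rfl⟩, hfP, hfV⟩ := (PrimeSpectrum.isTopologicalBasis_basic_opens (R := O)).exists_subset_of_mem_open
    (show (P : PrimeSpectrum O) ∈ (X.fromSpecStalk w) ⁻¹' U by rw [Set.mem_preimage, hP]; exact hxU)
    ((X.fromSpecStalk w).continuous.isOpen_preimage _ U.2)
  haveI := P.isPrime; haveI := Q.isPrime
  have hPQ : P.asIdeal ≤ Q.asIdeal := (hle P Q).2 (by rw [hP, hQ]; exact hxy)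
  have hPQne : P.asIdeal ≠ Q.asIdeal := fun h => hne (by rw [← hP, ← hQ, PrimeSpectrum.ext h])
  have hQm : Q.asIdeal < IsLocalRing.maximalIdeal O := lt_of_le_of_ne (IsLocalRing.le_maximalIdeal Q.isPrime.ne_top) fun h => by
    refine hy (?_ : y ∈ Y)
    rw [← hQ, show Q = IsLocalRing.closedPoint O from PrimeSpectrum.ext h, Scheme.fromSpecStalk_closedPoint]
    exact hwY
  let π := Ideal.Quotient.mk P.asIdeal
  have hker : ∀ J : Ideal O, P.asIdeal ≤ J → (J.map π).comap π = J := fun J hJ => by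
    rw [Ideal.comap_map_of_surjective π Ideal.Quotient.mk_surjective, ← RingHom.ker_eq_comap_bot, Ideal.mk_ker, sup_eq_left.2 hJ]
  haveI : (Q.asIdeal.map π).IsPrime := Ideal.map_isPrime_of_surjective Ideal.Quotient.mk_surjective (by rw [Ideal.mk_ker]; exact hPQ)
  haveI : ((IsLocalRing.maximalIdeal O).map π).IsPrime := Ideal.map_isPrime_of_surjective Ideal.Quotient.mk_surjective
    (by rw [Ideal.mk_ker]; exact hPQ.trans hQm.le)
  refine no_two_step (π f) (fun h => hfP (Ideal.Quotient.eq_zero_iff_mem.1 h)) ?_ (Q.asIdeal.map π) ((IsLocalRing.maximalIdeal O).map π) ?_ ?_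
  · intro R hR hR0
    by_contra hfR
    let R' : PrimeSpectrum O := ⟨R.comap π, inferInstance⟩
    have hPR : P.asIdeal ≤ R'.asIdeal := fun z hz => by
      show π z ∈ R; rw [Ideal.Quotient.eq_zero_iff_mem.2 hz]; exact R.zero_mem
    have h1 := hU _ (hfV (show R' ∈ _ from hfR)) (hP ▸ (hle P R').1 hPR)
    have h2 : R' = P := (X.fromSpecStalk w).isEmbedding.injective (h1.trans hP.symm)
    apply hR0
    rw [← Ideal.map_comap_of_surjective π Ideal.Quotient.mk_surjective R, show R.comap π = P.asIdeal from congrArg PrimeSpectrum.asIdeal h2,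
      Ideal.map_quotient_self]
  · intro h
    exact hPQne (le_antisymm hPQ (by rw [← hker _ hPQ, h]; intro z hz; exact Ideal.Quotient.eq_zero_iff_mem.1 hz))
  · refine lt_of_le_of_ne (Ideal.map_mono hQm.le) fun h => hQm.ne ?_
    rw [← hker _ hPQ, h, hker _ (hPQ.trans hQm.le)]



/-- Let X be a locally Noetherian scheme and Y a closed subset of X such that every nonempty closed
subset of X meets Y. Then the open subscheme X ∖ Y (equivalently, the subspace X ∖ Y) is a Jacobson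
space. -/
theorem result (X : Scheme.{u}) [IsLocallyNoetherian X] (Y : Set X)
    (hY : IsClosed Y) (hmeet : ∀ Z : Set X, IsClosed Z → Z.Nonempty → (Z ∩ Y).Nonempty) :
    JacobsonSpace ↥(Yᶜ) := by
  rw [jacobsonSpace_iff_locallyClosed]
  intro L hL hLc
  obtain ⟨O, C, hO, hC, hOC⟩ := hLc.image IsInducing.subtypeVal (by rw [Subtype.range_coe]; exact hY.isOpen_compl.isLocallyClosed)
  obtain ⟨p, hp⟩ := hL
  have hp' : (p : X) ∈ O ∩ C := hOC ▸ ⟨p, hp, rfl⟩
  obtain ⟨U, hU, hpU, hUO⟩ := exists_isAffineOpen_mem_and_subset (X := X) (x := (p : X)) (U := ⟨O, hO⟩) hp'.1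
  haveI : CompactSpace ↥(U : Set X) := isCompact_iff_compactSpace.1 hU.isCompact
  obtain ⟨x, hxC, hx⟩ := (hC.preimage (continuous_subtype_val (p := (· ∈ (U : Set X))))).exists_closed_singleton ⟨⟨p, hpU⟩, hp'.2⟩
  have hxL : (x : X) ∈ Subtype.val '' L := hOC ▸ ⟨hUO x.2, hxC⟩
  obtain ⟨x', hx'L, hx'⟩ := hxL
  refine ⟨x', hx'L, ?_⟩
  show IsClosed ({x'} : Set (Yᶜ : Set X))
  rw [← closure_subset_iff_isClosed]
  intro y hy
  have hxy : (x : X) ⤳ (y : X) := hx' ▸ (subtype_specializes_iff _ _).1 (specializes_iff_mem_closure.2 hy)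
  refine Subtype.ext ((closedPoint_of_locClosed X Y hmeet x y U x.2 (fun z hz hxz => ?_) y.2 hxy).trans hx'.symm)
  have h : x ⤳ (⟨z, hz⟩ : ↥(U : Set X)) := (subtype_specializes_iff _ _).2 hxz
  exact congrArg Subtype.val (show (⟨z, hz⟩ : ↥(U : Set X)) = x from (hx.closure_eq.subset (specializes_iff_mem_closure.1 h) :))

end Groth.Agent.S3432
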