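import Groth.Statements.S3434
import Groth.Agent.DvrProperLib.Core
import Groth.Agent.DvrProperLib.Lift

set_option autoImplicit false
open CategoryTheory AlgebraicGeometry
universe u
open EGA43

namespace Groth.Agent.S3434

/-- Let Y be an integral locally Noetherian scheme, X an integral scheme, f : X ⟶ Y separated, dominant
and of finite type, and y a point of Y; write K for the function field of X (the local ring at its
generic point ξ), into which O_{Y,y} maps through O_{Y,f ξ}. Then f is proper over some open
neighbourhood of y if and only if every discrete valuation ring of K which dominates (the image of)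
O_{Y,y} dominates (the image of) O_{X,x} for some point x of X; such an x lies over y. -/
theorem result {X Y : Scheme.{u}} [IsIntegral X] [IsIntegral Y] [IsLocallyNoetherian Y]
    (f : X ⟶ Y) [IsSeparated f] [IsDominant f] [LocallyOfFiniteType f] [QuasiCompact f] (y : Y)
    (hξ : f.base (genericPoint X) ⤳ y) :
    (∃ U : Y.Opens, y ∈ U ∧ IsProper (f ∣_ U)) ↔
      ∀ A : ValuationSubring X.functionField, IsDiscreteValuationRing A →
        (∀ r : Y.presheaf.stalk y, A.valuation ((Y.presheaf.stalkSpecializes hξ ≫ f.stalkMap (genericPoint X)) r) ≤ 1) →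
        (∀ r ∈ IsLocalRing.maximalIdeal (Y.presheaf.stalk y),
            A.valuation ((Y.presheaf.stalkSpecializes hξ ≫ f.stalkMap (genericPoint X)) r) < 1) →
        ∃ x : X, f.base x = y ∧
          (∀ r : X.presheaf.stalk x, A.valuation (X.presheaf.stalkSpecializes (genericPoint_specializes x) r) ≤ 1) ∧
          (∀ r ∈ IsLocalRing.maximalIdeal (X.presheaf.stalk x),
            A.valuation (X.presheaf.stalkSpecializes (genericPoint_specializes x) r) < 1) := by
  let η := genericPoint X
  have hfield : IsField (X.presheaf.stalk η) := Field.toIsField X.functionField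
  have hbij : Function.Bijective (X.residue η).hom := by
    refine ⟨?_, X.residue_surjective η⟩
    let := hfield.toField
    exact RingHom.injective _
  let ψ : Y.presheaf.stalk y ⟶ X.functionField := Y.presheaf.stalkSpecializes hξ ≫ f.stalkMap η
  constructor
  · rintro ⟨U, hyU, hU⟩ A hA h₁ h₂
    have hψA : ∀ r, ψ.hom r ∈ A := fun r ↦ (A.valuation_le_one_iff _).mp (h₁ r)
    let γ : Y.presheaf.stalk y →+* A := ψ.hom.codRestrict A.toSubring hψA
    have : IsLocalHom γ := by
      refine ⟨fun r hr ↦ ?_⟩
      by_contra hna
      exact (h₂ r hna).ne ((A.valuation_eq_one_iff (γ r)).mp hr)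
    let sA : CommRingCat.of A ⟶ X.functionField := CommRingCat.ofHom A.subtype
    let b : Spec (CommRingCat.of A) ⟶ Y := Spec.map (CommRingCat.ofHom γ) ≫ Y.fromSpecStalk y
    have hb : b (IsLocalRing.closedPoint A) = y := by
      show Y.fromSpecStalk y (PrimeSpectrum.comap γ (IsLocalRing.closedPoint A)) = y
      rw [IsLocalRing.comap_closedPoint]
      exact Y.fromSpecStalk_closedPoint
    have hw : X.fromSpecStalk η ≫ f = Spec.map sA ≫ b := by
      rw [← Category.assoc, ← Spec.map_comp]
      show _ = Spec.map ψ ≫ _
      rw [Spec.map_comp, Category.assoc, Scheme.SpecMap_stalkSpecializes_fromSpecStalk,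
        Scheme.SpecMap_stalkMap_fromSpecStalk]
    obtain ⟨l, hl₁, hl₂⟩ := DvrProperLib.exists_lift_of_isProper_restrict f U A X.functionField
      (X.fromSpecStalk η) b (hb ▸ hyU) hw
    replace hl₂ : Spec.map sA ≫ l = X.fromSpecStalk η := hl₂
    refine ⟨l (IsLocalRing.closedPoint A), (by show (l ≫ f) _ = y; rw [hl₁]; exact hb), ?_⟩
    let x := l (IsLocalRing.closedPoint A)
    let δ : X.presheaf.stalk x ⟶ CommRingCat.of A := Scheme.stalkClosedPointTo l
    have hδ : X.presheaf.stalkSpecializes (genericPoint_specializes x) = δ ≫ sA := by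
      apply Spec.map_injective
      rw [← cancel_mono (X.fromSpecStalk x), Scheme.SpecMap_stalkSpecializes_fromSpecStalk,
        Spec.map_comp, Category.assoc, Scheme.Spec_stalkClosedPointTo_fromSpecStalk, hl₂]
    have : IsLocalHom δ.hom := inferInstanceAs (IsLocalHom (Scheme.stalkClosedPointTo l).hom)
    refine ⟨fun r ↦ ?_, fun r hr ↦ ?_⟩
    · rw [hδ]
      exact (A.valuation_le_one_iff _).mpr (δ r).2
    · rw [hδ]
      exact (A.valuation_lt_one_iff (δ r)).mp (map_nonunit δ.hom r hr)
  · intro H
    refine DvrProperLib.exists_isProper_nhd f y ?_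
    intro A hA h hh hhy
    subst hhy
    let e : X.functionField →+* X.residueField η := (X.residue η).hom
    obtain ⟨ε, hε⟩ := DvrProperLib.exists_comap_equiv e hbij A
    have hDVR : IsDiscreteValuationRing (A.comap e) :=
      IsDiscreteValuationRing.RingEquivClass.isDiscreteValuationRing ε.symm
    have hval : ∀ a : A.comap e, e a.1 = (ε a).1 := fun a ↦ (DFunLike.congr_fun hε a).symm
    let sA : CommRingCat.of A ⟶ X.residueField η := CommRingCat.ofHom A.subtype
    replace hh : Spec.map sA ≫ h = X.fromSpecResidueField η ≫ f := hh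
    let γ : Y.presheaf.stalk (h (IsLocalRing.closedPoint A)) ⟶ CommRingCat.of A :=
      Scheme.stalkClosedPointTo h
    have hγ : γ ≫ sA = ψ ≫ X.residue η := by
      apply Spec.map_injective
      rw [← cancel_mono (Y.fromSpecStalk (h (IsLocalRing.closedPoint A)))]
      have h0 : Spec.map γ ≫ Y.fromSpecStalk _ = h :=
        Scheme.Spec_stalkClosedPointTo_fromSpecStalk h
      rw [Spec.map_comp, Category.assoc, h0]
      refine hh.trans ?_
      rw [Spec.map_comp, Category.assoc]
      show (Spec.map (X.residue η) ≫ X.fromSpecStalk η) ≫ f = _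
      rw [Category.assoc]
      refine congrArg (Spec.map (X.residue η) ≫ ·) ?_
      rw [Spec.map_comp, Category.assoc, Scheme.SpecMap_stalkSpecializes_fromSpecStalk,
        Scheme.SpecMap_stalkMap_fromSpecStalk]
    have hψval : ∀ a, e (ψ.hom a) = (γ a).1 := fun a ↦
      (DFunLike.congr_fun (congrArg CommRingCat.Hom.hom hγ) a).symm
    have : IsLocalHom γ.hom := inferInstanceAs (IsLocalHom (Scheme.stalkClosedPointTo h).hom)
    obtain ⟨x, hxy, hx₁, hx₂⟩ := H (A.comap e) hDVR (fun r ↦ by
        refine ((A.comap e).valuation_le_one_iff _).mpr ?_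
        show e (ψ.hom r) ∈ A
        rw [hψval]; exact (γ r).2)
      (fun r hr ↦ by
        let z : A.comap e := ⟨ψ.hom r, show e (ψ.hom r) ∈ A from hψval r ▸ (γ r).2⟩
        refine ((A.comap e).valuation_lt_one_iff z).mp ?_
        have hz : ε z = γ r := Subtype.ext ((hval z).symm.trans (hψval r))
        rw [IsLocalRing.mem_maximalIdeal, mem_nonunits_iff, ← isUnit_map_iff ε, hz]
        exact map_nonunit γ.hom r hr)
    let δ₀ : X.presheaf.stalk x →+* A.comap e :=
      (X.presheaf.stalkSpecializes (genericPoint_specializes x)).hom.codRestrict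
        (A.comap e).toSubring fun r ↦ ((A.comap e).valuation_le_one_iff _).mp (hx₁ r)
    let δ : X.presheaf.stalk x →+* A := ε.toRingHom.comp δ₀
    refine ⟨Spec.map (CommRingCat.ofHom δ) ≫ X.fromSpecStalk x, ?_, ?_⟩
    · have s : f x ⤳ h (IsLocalRing.closedPoint A) := specializes_of_eq hxy
      have hc : Y.presheaf.stalkSpecializes s ≫ f.stalkMap x ≫ CommRingCat.ofHom δ = γ := by
        ext r
        refine (congrArg Subtype.val rfl : (ε (δ₀ _)).1 = _).trans ?_
        rw [← hval]
        refine Eq.trans ?_ (hψval r)
        refine congrArg e ?_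
        show (Y.presheaf.stalkSpecializes s ≫ f.stalkMap x ≫
          X.presheaf.stalkSpecializes (genericPoint_specializes x)) r = ψ r
        rw [← Scheme.Hom.stalkSpecializes_stalkMap, TopCat.Presheaf.stalkSpecializes_comp_assoc]
      rw [Category.assoc, ← Scheme.SpecMap_stalkMap_fromSpecStalk,
        ← Scheme.SpecMap_stalkSpecializes_fromSpecStalk s, ← Category.assoc, ← Category.assoc,
        ← Spec.map_comp, ← Spec.map_comp]
      exact (congrArg (fun t ↦ Spec.map t ≫ Y.fromSpecStalk _) hc).trans
        (Scheme.Spec_stalkClosedPointTo_fromSpecStalk h)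
    · show Spec.map sA ≫ _ = _
      rw [← Category.assoc, ← Spec.map_comp]
      have hc : CommRingCat.ofHom δ ≫ sA =
          X.presheaf.stalkSpecializes (genericPoint_specializes x) ≫ X.residue η := by
        ext r
        exact (hval (δ₀ r)).symm
      rw [hc, Spec.map_comp, Category.assoc, Scheme.SpecMap_stalkSpecializes_fromSpecStalk]
      rfl

end Groth.Agent.S3434
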