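import Groth.Statements.S3435
import Mathlib
import Groth.Agent.ExalLib.Basic

set_option autoImplicit false
universe u
open EGA41

namespace Groth.Agent.S3435

open TensorProduct in
/-- Let Λ → A → B → C be ring homomorphisms. The homomorphism Ω_{B/Λ} ⊗_B C → Ω_{B/A} ⊗_B C maps the
imperfection module Υ_{C/B/Λ} (the kernel of Ω_{B/Λ} ⊗_B C → Ω_{C/Λ}) onto the imperfection module
Υ_{C/B/A} (the kernel of Ω_{B/A} ⊗_B C → Ω_{C/A}): every element of Υ_{C/B/A} is the image of some
element of Υ_{C/B/Λ}. -/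
theorem result (Λ A B C : Type u) [CommRing Λ] [CommRing A] [CommRing B] [CommRing C]
    [Algebra Λ A] [Algebra Λ B] [Algebra Λ C] [Algebra A B] [Algebra A C] [Algebra B C]
    [IsScalarTower Λ A B] [IsScalarTower Λ A C] [IsScalarTower Λ B C] [IsScalarTower A B C] :
    ∀ ω ∈ EGA41.imperfection A B C, ∃ η ∈ EGA41.imperfection Λ B C,
      (KaehlerDifferential.map Λ A B B).baseChange C η = ω := by
  intro ω hω
  classical
  -- right exactness pieces
  have hsurj : Function.Surjective ((KaehlerDifferential.map Λ A B B).baseChange C) := by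
    rw [LinearMap.baseChange_eq_ltensor]
    exact LinearMap.lTensor_surjective C (KaehlerDifferential.map_surjective Λ A B)
  obtain ⟨η₀, rfl⟩ := hsurj ω
  have hcomm : ∀ η : C ⊗[B] Ω[B⁄Λ],
      KaehlerDifferential.mapBaseChange A B C ((KaehlerDifferential.map Λ A B B).baseChange C η) =
        KaehlerDifferential.map Λ A C C (KaehlerDifferential.mapBaseChange Λ B C η) := by
    intro η
    refine DFunLike.congr_fun (ExalLib.addHom_ext_tmul_D
      (f := ((KaehlerDifferential.mapBaseChange A B C) ∘ₗ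
        (KaehlerDifferential.map Λ A B B).baseChange C).toAddMonoidHom)
      (g := ((KaehlerDifferential.map Λ A C C) ∘ₗ
        KaehlerDifferential.mapBaseChange Λ B C).toAddMonoidHom) fun c b => ?_) η
    show KaehlerDifferential.mapBaseChange A B C
        ((KaehlerDifferential.map Λ A B B).baseChange C (c ⊗ₜ[B] KaehlerDifferential.D Λ B b)) =
      KaehlerDifferential.map Λ A C C
        (KaehlerDifferential.mapBaseChange Λ B C (c ⊗ₜ[B] KaehlerDifferential.D Λ B b))
    rw [LinearMap.baseChange_tmul, KaehlerDifferential.map_D, KaehlerDifferential.mapBaseChange_tmul,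
      KaehlerDifferential.map_D, KaehlerDifferential.mapBaseChange_tmul, map_smul,
      KaehlerDifferential.map_D, KaehlerDifferential.map_D]
    rfl
  have h1 : KaehlerDifferential.map Λ A C C (KaehlerDifferential.mapBaseChange Λ B C η₀) = 0 := by
    rw [← hcomm]; exact LinearMap.mem_ker.mp hω
  obtain ⟨θ, hθ⟩ := (KaehlerDifferential.exact_mapBaseChange_map Λ A C _).1 h1
  let ι : C ⊗[A] Ω[A⁄Λ] →ₗ[C] C ⊗[B] Ω[B⁄Λ] :=
    ((KaehlerDifferential.mapBaseChange Λ A B).baseChange C) ∘ₗ
      (TensorProduct.AlgebraTensorModule.cancelBaseChange A B C C Ω[A⁄Λ]).symm.toLinearMap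
  have hι1 : KaehlerDifferential.mapBaseChange Λ B C (ι θ) =
      KaehlerDifferential.mapBaseChange Λ A C θ := by
    refine DFunLike.congr_fun (ExalLib.addHom_ext_tmul_D
      (f := ((KaehlerDifferential.mapBaseChange Λ B C) ∘ₗ ι).toAddMonoidHom)
      (g := (KaehlerDifferential.mapBaseChange Λ A C).toAddMonoidHom) fun c a => ?_) θ
    show KaehlerDifferential.mapBaseChange Λ B C (ι (c ⊗ₜ[A] KaehlerDifferential.D Λ A a)) =
      KaehlerDifferential.mapBaseChange Λ A C (c ⊗ₜ[A] KaehlerDifferential.D Λ A a)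
    simp [ι, ← IsScalarTower.algebraMap_apply]
  have hι2 : (KaehlerDifferential.map Λ A B B).baseChange C (ι θ) = 0 := by
    refine DFunLike.congr_fun (ExalLib.addHom_ext_tmul_D
      (f := (((KaehlerDifferential.map Λ A B B).baseChange C) ∘ₗ ι).toAddMonoidHom)
      (g := 0) fun c a => ?_) θ
    show (KaehlerDifferential.map Λ A B B).baseChange C (ι (c ⊗ₜ[A] KaehlerDifferential.D Λ A a)) = 0
    simp [ι]
  refine ⟨η₀ - ι θ, ?_, ?_⟩
  · rw [EGA41.imperfection, LinearMap.mem_ker, map_sub, hι1, hθ, sub_self]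
  · rw [map_sub, hι2, sub_zero]

end Groth.Agent.S3435
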