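import Groth.Statements.S3436
import Groth.Agent.JacFSLib.Adic

set_option autoImplicit false
open CategoryTheory AlgebraicGeometry
universe u
open EGA42

namespace Groth.Agent.S3436

/-- Let X and Y be locally Noetherian schemes, f : X ⟶ Y locally of finite type, x a point of X and y =
f x; give O_{X,x} the O_{Y,y}-algebra structure coming from f. Then O_{X,x} is formally smooth over
O_{Y,y} for the adic topologies of the two local rings (topologies defined by the maximal ideals) if
and only if it is formally smooth for the discrete topologies. -/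
theorem result {X Y : Scheme.{u}} [IsLocallyNoetherian X] [IsLocallyNoetherian Y]
    (f : X ⟶ Y) [LocallyOfFiniteType f] (x : X) :
    letI : Algebra (Y.presheaf.stalk (f.base x)) (X.presheaf.stalk x) := (f.stalkMap x).hom.toAlgebra
    EGA41.IsFormallySmoothAdic (Y.presheaf.stalk (f.base x)) (IsLocalRing.maximalIdeal (Y.presheaf.stalk (f.base x)))
        (X.presheaf.stalk x) (IsLocalRing.maximalIdeal (X.presheaf.stalk x)) ↔
      Algebra.FormallySmooth (Y.presheaf.stalk (f.base x)) (X.presheaf.stalk x) := by
  let R := Y.presheaf.stalk (f.base x)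
  let A := X.presheaf.stalk x
  let _ : Algebra R A := (f.stalkMap x).hom.toAlgebra
  have : Algebra.EssFiniteType R A := LocallyOfFiniteType.stalkMap f x
  have : IsLocalHom (algebraMap R A) := inferInstanceAs (IsLocalHom (f.stalkMap x).hom)
  constructor
  · intro h
    refine JacFSLib.formallySmooth_of_adic_essFiniteType ?_
    intro T _ _ J hJ ψ hψ
    obtain ⟨k, hk⟩ := hψ
    refine h T J ⟨2, hJ⟩ ⟨k * 2, ?_⟩ ψ ⟨k, hk⟩
    have h1 : ((IsLocalRing.maximalIdeal R) ^ k).map (algebraMap R T) ≤ J := by
      rw [Ideal.map_le_iff_le_comap]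
      intro r hr
      rw [Ideal.mem_comap, ← Ideal.Quotient.eq_zero_iff_mem,
        show Ideal.Quotient.mk J (algebraMap R T r) = algebraMap R (T ⧸ J) r from rfl, ← ψ.commutes r]
      refine hk _ ?_
      have h2 : (IsLocalRing.maximalIdeal R).map (algebraMap R A) ≤ IsLocalRing.maximalIdeal A :=
        Ideal.map_le_iff_le_comap.2 fun z hz => map_nonunit (algebraMap R A) z hz
      have h3 := Ideal.pow_right_mono h2 k
      rw [← Ideal.map_pow] at h3
      exact h3 (Ideal.mem_map_of_mem _ hr)
    rw [pow_mul, Ideal.map_pow]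
    exact le_antisymm ((Ideal.pow_right_mono h1 2).trans hJ.le) bot_le
  · intro _ C _ _ J hJ _ u _
    exact ⟨Algebra.FormallySmooth.lift J hJ u, Algebra.FormallySmooth.comp_lift J hJ u⟩

end Groth.Agent.S3436
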