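import Groth.Statements.S3437
import Mathlib
import Groth.Agent.CMFlatLib.FibreCons
-- import your own Groth.Agent.* helpers here

set_option autoImplicit false
open CategoryTheory AlgebraicGeometry
universe u
open EGA43

namespace Groth.Agent.S3437

/-- Let f : X ⟶ S be of finite presentation (locally of finite presentation, quasi-compact and
quasi-separated). Then the set of points s of S such that every local ring of the fibre X_s is
Cohen–Macaulay is locally constructible in S. -/
theorem result {X S : Scheme.{u}} (f : X ⟶ S)
    [LocallyOfFinitePresentation f] [QuasiCompact f] [QuasiSeparated f] :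
    Topology.IsLocallyConstructible {s : S |
      ∀ z : ↥(f.fiber s), LocCoh.IsCohenMacaulayLocalRing ((f.fiber s).presheaf.stalk z)} := by
  let E : Set X := {x : X |
    LocCoh.IsCohenMacaulayLocalRing ((f.fiber (f x)).presheaf.stalk (f.asFiber x))}
  have hE : Topology.IsLocallyConstructible E := CMFlatLib.isLocallyConstructible_cm_fibre f
  have key : ∀ (s : S) (z : f.fiber s), f.fiberι s z ∈ E ↔
      LocCoh.IsCohenMacaulayLocalRing ((f.fiber s).presheaf.stalk z) := by
    intro s z
    have hs : f (f.fiberι s z) = s := (f.range_fiberι s).le ⟨z, rfl⟩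
    generalize hx : f.fiberι s z = x at hs ⊢
    subst hs
    obtain rfl : z = f.asFiber x := (f.fiberι (f x)).isEmbedding.injective (by rw [hx, f.fiberι_asFiber])
    exact Iff.rfl
  have heq : {s : S | ∀ z : ↥(f.fiber s), LocCoh.IsCohenMacaulayLocalRing ((f.fiber s).presheaf.stalk z)} =
      (f '' Eᶜ)ᶜ := by
    ext s
    simp only [Set.mem_setOf_eq, Set.mem_compl_iff, Set.mem_image, not_exists, not_and]
    refine ⟨fun h x hx hxs => ?_, fun h z => ?_⟩
    · obtain ⟨z, rfl⟩ : x ∈ Set.range (f.fiberι s) := by rw [f.range_fiberι]; exact hxs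
      exact hx ((key s z).2 (h z))
    · refine (key s z).1 (by_contra fun hz => h _ hz ((f.range_fiberι s).le ⟨z, rfl⟩))
  rw [heq]
  have hcompl : ∀ {T : Scheme.{u}} {A : Set T}, Topology.IsLocallyConstructible A → Topology.IsLocallyConstructible Aᶜ := by
    intro T A hA t
    obtain ⟨W, hW, hWo, hc⟩ := hA t
    exact ⟨W, hW, hWo, hc.compl⟩
  exact hcompl (f.isLocallyConstructible_image (hcompl hE))

end Groth.Agent.S3437
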