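import Groth.Statements.S3440
import Groth.Agent.MiracleLib.DimLower
import Mathlib

set_option autoImplicit false
open CategoryTheory AlgebraicGeometry
universe u
open EGA43

namespace Groth.Agent.S3440

/-- Let Y be locally Noetherian, f : X ⟶ Y locally of finite type, x a point of X and y = f x; suppose
O_{Y,y} is regular and O_{X,x} is Cohen–Macaulay. The following are equivalent: a) O_{Y,y} ⟶ O_{X,x}
is flat and the local ring of X_y at x is Cohen–Macaulay; b) O_{Y,y} ⟶ O_{X,x} is flat; c) the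
restriction of f to some open neighbourhood of x is universally open; d) f is open at the generic
point of every irreducible component of X_y through x; e') dim O_{X,x} = dim O_{Y,y} + dim
O_{X_y,x}. -/
theorem result {X Y : Scheme.{u}} [IsLocallyNoetherian Y] (f : X ⟶ Y)
    [LocallyOfFiniteType f] (x : X) (hreg : IsRegularLocalRing (Y.presheaf.stalk (f.base x)))
    (hCM : LocCoh.IsCohenMacaulayLocalRing (X.presheaf.stalk x)) :
    List.TFAE [
      (f.stalkMap x).hom.Flat ∧ LocCoh.IsCohenMacaulayLocalRing ((f.fiber (f.base x)).presheaf.stalk (f.asFiber x)),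
      (f.stalkMap x).hom.Flat,
      ∃ U : X.Opens, x ∈ U ∧ UniversallyOpen (U.ι ≫ f),
      (∀ z : ↥(f.fiber (f.base x)), f.asFiber x ∈ closure {z} →
          (∀ z' : ↥(f.fiber (f.base x)), z ∈ closure {z'} → z' = z) →
          EGA43.IsOpenAt f.base ((f.fiberι (f.base x)).base z)),
      ringKrullDim (X.presheaf.stalk x) =
        ringKrullDim (Y.presheaf.stalk (f.base x)) + ringKrullDim ((f.fiber (f.base x)).presheaf.stalk (f.asFiber x)) ] := by
  haveI : IsLocallyNoetherian X := LocallyOfFiniteType.isLocallyNoetherian f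
  haveI := UOpenLib.locallyOfFinitePresentation_of_isLocallyNoetherian f
  haveI : IsRegularLocalRing (Y.presheaf.stalk (f x)) := hreg
  letI := (f.stalkMap x).hom.toAlgebra
  haveI : IsLocalHom (algebraMap (Y.presheaf.stalk (f x)) (X.presheaf.stalk x)) :=
    inferInstanceAs (IsLocalHom (f.stalkMap x).hom)
  have hB := (CMFlatLib.isCohenMacaulayLocalRing_iff_isCM _).mp hCM
  obtain ⟨e⟩ := CMFlatLib.nonempty_fibre_equiv f x
  tfae_have 1 → 2 := And.left
  tfae_have 2 → 1 := fun h => by
    haveI : Module.Flat (Y.presheaf.stalk (f x)) (X.presheaf.stalk x) := h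
    exact ⟨h, (CMFlatLib.isCohenMacaulayLocalRing_congr e).mpr ((CMFlatLib.isCohenMacaulayLocalRing_iff_isCM _).mpr
      ((CMFlatLib.isCM_flat_iff _ _).mp hB).2)⟩
  tfae_have 2 → 3 := fun h => by
    let U : X.Opens := ⟨_, FlatLib.isOpen_setOf_flat_stalkMap f⟩
    refine ⟨U, h, ?_⟩
    haveI : Flat (U.ι ≫ f) := Flat.iff_flat_stalkMap _ |>.mpr fun z => by
      rw [Scheme.Hom.stalkMap_comp]
      exact RingHom.Flat.comp z.2
        (RingHom.Flat.of_bijective (ConcreteCategory.bijective_of_isIso (U.ι.stalkMap z)))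
    infer_instance
  tfae_have 3 → 4 := fun ⟨U, hxU, hU⟩ z hz _ => by
    have hzx : f.fiberι (f x) z ⤳ x := by
      have := (specializes_iff_mem_closure.mpr hz).map (f.fiberι (f x)).continuous
      rwa [f.fiberι_asFiber] at this
    intro W hW
    obtain ⟨O, hOW, hO, hzO⟩ := mem_nhds_iff.mp hW
    refine Filter.mem_of_superset (((U.ι ≫ f).isOpenMap _ (hO.preimage U.ι.continuous)).mem_nhds
      ⟨⟨_, hzx.mem_open U.isOpen hxU⟩, hzO, rfl⟩) ?_
    rintro _ ⟨v, hv, rfl⟩
    exact ⟨U.ι v, hOW hv, rfl⟩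
  tfae_have 4 → 5 := fun h =>
    le_antisymm (DimIneqLib.ringKrullDim_stalk_le_add_fibre f x) (MiracleLib.add_le_stalk_dim f x h)
  tfae_have 5 → 2 := fun h => by
    rw [ringKrullDim_eq_of_ringEquiv e] at h
    exact CMFlatLib.flat_of_isCM_of_dim _ _ hB h
  tfae_finish

end Groth.Agent.S3440
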