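import Groth.Statements.S3441
import Mathlib
import Groth.Agent.ExalLib.Basic
import Groth.Prelude.Def_Exal2

set_option autoImplicit false
universe u
open EGA41

namespace Groth.Agent.S3441

open TensorProduct in
/-- Let A → B → C be ring homomorphisms. The canonical C-linear map Ω_{B/A} ⊗_B C → Ω_{C/A} is left
invertible (has a C-linear left inverse) if and only if C is a formally smooth B-algebra relative to
A for the discrete topologies: every B-algebra homomorphism from C to a quotient C'/J of a B-algebra
C' by an ideal J of square zero that lifts to C' as an A-algebra homomorphism also lifts to C' as a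
B-algebra homomorphism. (The published definition of relative formal smoothness tests every
nilpotent ideal J; its reduction to ideals of square zero does not carry over to the relative
setting, and the square-zero form, which is what the published proof of this statement uses, is the
one taken here.) -/
theorem result (A B C : Type u) [CommRing A] [CommRing B]
    [CommRing C] [Algebra A B] [Algebra B C] [Algebra A C] [IsScalarTower A B C] :
    (∃ l : Ω[C⁄A] →ₗ[C] C ⊗[B] Ω[B⁄A], l ∘ₗ KaehlerDifferential.mapBaseChange A B C = LinearMap.id) ↔
      EGA41.IsFormallySmoothRel A B C := by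
  constructor
  · rintro ⟨l, hl⟩
    intro C' _ _ _ _ J hJ u hv
    obtain ⟨v, hv⟩ := hv
    have hJ' : ∀ x y : C', x ∈ J → y ∈ J → x * y = 0 := fun x y hx hy => by
      have : x * y ∈ J ^ 2 := by rw [pow_two]; exact Ideal.mul_mem_mul hx hy
      rwa [hJ, Ideal.mem_bot] at this
    have hvm : ∀ c, Ideal.Quotient.mk J (v c) = u c := fun c => AlgHom.congr_fun hv c
    have hD : ∀ b : B, algebraMap B C' b - v (algebraMap B C b) ∈ J := fun b => by
      rw [← Ideal.Quotient.eq_zero_iff_mem, map_sub, hvm, AlgHom.commutes,
        ← Ideal.Quotient.algebraMap_eq, ← IsScalarTower.algebraMap_apply, sub_self]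
    letI : Module C J := Module.compHom J (v : C →+* C')
    haveI : IsScalarTower B C J := ⟨fun b c z => by
      apply Subtype.ext
      show v (b • c) * (z : C') = b • (v c * (z : C'))
      rw [Algebra.smul_def, map_mul, mul_assoc, Algebra.smul_def, ← sub_eq_zero, ← sub_mul]
      refine hJ' _ _ ?_ (J.mul_mem_left _ z.2)
      rw [← neg_sub]
      exact J.neg_mem (hD b)⟩
    let D : Derivation A B J := Derivation.mk'
      { toFun := fun b => ⟨algebraMap B C' b - v (algebraMap B C b), hD b⟩
        map_add' := fun x y => by
          apply Subtype.ext
          simp only [map_add, Submodule.coe_add]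
          abel
        map_smul' := fun a b => by
          apply Subtype.ext
          show _ = a • (algebraMap B C' b - v (algebraMap B C b))
          simp only [Algebra.smul_def, map_mul, ← IsScalarTower.algebraMap_apply, AlgHom.commutes,
            mul_sub] }
      (fun x y => by
        apply Subtype.ext
        show _ = x • (algebraMap B C' y - v (algebraMap B C y)) +
          y • (algebraMap B C' x - v (algebraMap B C x))
        have h0 := hJ' _ _ (hD x) (hD y)
        simp only [Algebra.smul_def, map_mul, LinearMap.coe_mk, AddHom.coe_mk]
        linear_combination (norm := ring) -h0)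
    let Φ : C ⊗[B] Ω[B⁄A] →ₗ[C] J := D.liftKaehlerDifferential.liftBaseChange C
    let ψ : Ω[C⁄A] →ₗ[C] J := Φ ∘ₗ l
    let e : C → J := fun c => ψ (KaehlerDifferential.D A C c)
    have hsm : ∀ (c : C) (z : J), ((c • z : J) : C') = v c * z := fun c z => rfl
    refine ⟨{ toFun := fun c => v c + e c
              map_one' := by simp [e]
              map_mul' := fun x y => ?_
              map_zero' := by simp [e]
              map_add' := fun x y => by simp only [e, map_add, Submodule.coe_add]; abel
              commutes' := fun b => ?_ }, ?_⟩
    · have hmul : e (x * y) = x • e y + y • e x := by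
        simp only [e, Derivation.leibniz, map_add, map_smul]
      rw [hmul, map_mul, Submodule.coe_add, hsm, hsm]
      have h0 := hJ' _ _ (e x).2 (e y).2
      linear_combination (norm := ring) -h0
    · have h1 : e (algebraMap B C b) = D b := by
        have h2 : KaehlerDifferential.D A C (algebraMap B C b) =
            KaehlerDifferential.mapBaseChange A B C
              ((1 : C) ⊗ₜ[B] KaehlerDifferential.D A B b) := by
          rw [KaehlerDifferential.mapBaseChange_tmul, one_smul, KaehlerDifferential.map_D]
        show Φ (l (KaehlerDifferential.D A C (algebraMap B C b))) = D b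
        rw [h2, show ∀ x, l (KaehlerDifferential.mapBaseChange A B C x) = x from LinearMap.congr_fun hl]
        simp [Φ]
      show v (algebraMap B C b) + (e (algebraMap B C b) : C') = algebraMap B C' b
      rw [h1]
      show _ + (algebraMap B C' b - v (algebraMap B C b)) = _
      abel
    · ext c
      show Ideal.Quotient.mk J (v c + e c) = u c
      rw [map_add, hvm, Ideal.Quotient.eq_zero_iff_mem.mpr (e c).2, add_zero]
  · intro h
    let M := C ⊗[B] Ω[B⁄A]
    let D : Derivation A B M :=
      ((TensorProduct.mk B C Ω[B⁄A]) 1).compDer (KaehlerDifferential.D A B)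
    let X := Exal.Ext.ofDerivation (C := C) D
    letI := Exal.opModule C M
    haveI := Exal.isCentralScalar_opModule C M
    let E := X.E
    letI : Algebra A E := ((algebraMap B E).comp (algebraMap A B)).toAlgebra
    haveI : IsScalarTower A B E := IsScalarTower.of_algebraMap_eq fun _ => rfl
    let p : E →+* C := X.proj
    let J : Ideal E := RingHom.ker p
    have hJ : J ^ 2 = ⊥ := by
      rw [pow_two, eq_bot_iff, Ideal.mul_le]
      intro x hx y hy
      obtain ⟨z, rfl⟩ := ExalLib.exists_incl_eq X hx
      obtain ⟨z', rfl⟩ := ExalLib.exists_incl_eq X hy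
      rw [Ideal.mem_bot, ExalLib.incl_mul_incl]
    let s : C →+* E := TrivSqZeroExt.inlHom C M
    have ha : ∀ a, s (algebraMap A C a) = algebraMap B E (algebraMap A B a) := by
      intro a
      show TrivSqZeroExt.inl _ = TrivSqZeroExt.inl (algebraMap B C (algebraMap A B a)) +
        TrivSqZeroExt.inr (D (algebraMap A B a))
      rw [Derivation.map_algebraMap, TrivSqZeroExt.inr_zero, add_zero,
        ← IsScalarTower.algebraMap_apply]
    let sA : C →ₐ[A] E := { s with commutes' := ha }
    let u : C →ₐ[B] E ⧸ J :=
      { (Ideal.Quotient.mk J).comp s with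
        commutes' := fun b => by
          show Ideal.Quotient.mk J (s (algebraMap B C b)) =
            Ideal.Quotient.mk J (algebraMap B E b)
          rw [Ideal.Quotient.eq, RingHom.mem_ker, map_sub]
          show algebraMap B C b - X.proj (algebraMap B X.E b) = 0
          rw [AlgHom.commutes, sub_self] }
    obtain ⟨w, hw⟩ := h E J hJ u ⟨sA, rfl⟩
    have hsec : ∀ c, X.proj (w c) = c := fun c => by
      have h1 : Ideal.Quotient.mk J (w c) = Ideal.Quotient.mk J (s c) := AlgHom.congr_fun hw c
      rw [Ideal.Quotient.eq, RingHom.mem_ker, map_sub, sub_eq_zero] at h1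
      exact h1
    have hs : ∀ c, X.proj (s c) = c := fun c => rfl
    let δ : Derivation A C M := Derivation.mk'
      { toFun := fun c => ExalLib.secComp X s hs (w c)
        map_add' := fun x y => by rw [map_add, map_add]
        map_smul' := fun a c => by
          have hwa : w (algebraMap A C a) = s (algebraMap A C a) := by
            rw [ha, IsScalarTower.algebraMap_apply A B C, AlgHom.commutes]
          rw [Algebra.smul_def, map_mul, ExalLib.secComp_mul X s hs, hsec, hsec, hwa,
            ExalLib.secComp_section X s hs, smul_zero, add_zero, algebraMap_smul, RingHom.id_apply] }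
      (fun x y => by
        show ExalLib.secComp X s hs (w (x * y)) = x • ExalLib.secComp X s hs (w y) +
          y • ExalLib.secComp X s hs (w x)
        rw [map_mul, ExalLib.secComp_mul X s hs, hsec, hsec])
    refine ⟨δ.liftKaehlerDifferential, ?_⟩
    apply LinearMap.toAddMonoidHom_injective
    refine ExalLib.addHom_ext_tmul_D fun c b => ?_
    show δ.liftKaehlerDifferential
      (KaehlerDifferential.mapBaseChange A B C (c ⊗ₜ[B] KaehlerDifferential.D A B b)) =
        c ⊗ₜ[B] KaehlerDifferential.D A B b
    rw [KaehlerDifferential.mapBaseChange_tmul, map_smul, KaehlerDifferential.map_D,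
      Derivation.liftKaehlerDifferential_comp_D]
    show c • ExalLib.secComp X s hs (w (algebraMap B C b)) = _
    rw [AlgHom.commutes]
    have hb : ExalLib.secComp X s hs (algebraMap B X.E b) = D b := by
      apply X.isExtension.incl_injective
      rw [ExalLib.incl_secComp, AlgHom.commutes]
      show (TrivSqZeroExt.inl (algebraMap B C b) + TrivSqZeroExt.inr (D b) : TrivSqZeroExt C M) -
        TrivSqZeroExt.inl (algebraMap B C b) = TrivSqZeroExt.inr (D b)
      abel
    show c • ExalLib.secComp X s hs (algebraMap B X.E b) = _
    rw [hb]
    show c • ((1 : C) ⊗ₜ[B] KaehlerDifferential.D A B b) = _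
    rw [TensorProduct.smul_tmul', smul_eq_mul, mul_one]

end Groth.Agent.S3441
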