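import Groth.Statements.S3442
import Mathlib.RingTheory.Kaehler.Basic
import Mathlib.Algebra.TrivSqZeroExt.Basic

set_option autoImplicit false
universe u
open EGA41

namespace Groth.Agent.S3442

/-- Formal smoothness relative to `Λ`, read on a square-zero extension of `B` with a section. -/
theorem exists_ringLift {Λ A B : Type u} [CommRing Λ] [CommRing A] [CommRing B] [Algebra Λ A]
    [Algebra Λ B] [Algebra A B] [IsScalarTower Λ A B] (h : EGA41.IsFormallySmoothRel Λ A B)
    {R : Type u} [CommRing R] (φ : A →+* R) (π : R →+* B) (s : B →+* R)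
    (hπs : π.comp s = RingHom.id B) (hπφ : π.comp φ = algebraMap A B)
    (hs : s.comp (algebraMap Λ B) = φ.comp (algebraMap Λ A)) (hJ : RingHom.ker π ^ 2 = ⊥) :
    ∃ v : B →+* R, (∀ b, π (v b) = b) ∧ ∀ a, v (algebraMap A B a) = φ a := by
  let _ : Algebra A R := φ.toAlgebra
  let _ : Algebra Λ R := (φ.comp (algebraMap Λ A)).toAlgebra
  have : IsScalarTower Λ A R := IsScalarTower.of_algebraMap_eq fun _ => rfl
  let J := RingHom.ker π
  let u₀ : B →ₐ[A] R ⧸ J :=
    { (Ideal.Quotient.mk J).comp s with
      commutes' := fun a => by
        show Ideal.Quotient.mk J (s (algebraMap A B a)) = Ideal.Quotient.mk J (φ a)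
        rw [Ideal.Quotient.eq, RingHom.mem_ker, map_sub, ← RingHom.comp_apply, hπs,
          ← RingHom.comp_apply π φ, hπφ]
        simp }
  obtain ⟨v, hv⟩ := h R J hJ u₀
    ⟨{ s with commutes' := fun c => RingHom.congr_fun hs c }, AlgHom.ext fun b => rfl⟩
  refine ⟨v, fun b => ?_, fun a => v.commutes a⟩
  have := Ideal.Quotient.eq.1 (show Ideal.Quotient.mk J (v b) = Ideal.Quotient.mk J (s b) from
    AlgHom.congr_fun hv b)
  rw [RingHom.mem_ker, map_sub, sub_eq_zero] at this
  exact this.trans (RingHom.congr_fun hπs b)

open TensorProduct in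
/-- Let Λ → A → B → C be ring homomorphisms and suppose B is a formally smooth A-algebra relative to Λ
(for the discrete topologies, tested on ideals of square zero). Then Υ^C_{B/A/Λ} = 0, i.e. the
C-linear map Ω_{A/Λ} ⊗_A C → Ω_{B/Λ} ⊗_B C is injective; it is written here as the base change to C
of the B-linear map Ω_{A/Λ} ⊗_A B → Ω_{B/Λ}, whose source C ⊗_B (B ⊗_A Ω_{A/Λ}) is canonically
Ω_{A/Λ} ⊗_A C. -/
theorem result (Λ A B C : Type u) [CommRing Λ] [CommRing A]
    [CommRing B] [CommRing C] [Algebra Λ A] [Algebra Λ B] [Algebra A B] [IsScalarTower Λ A B] [Algebra B C]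
    (h : EGA41.IsFormallySmoothRel Λ A B) :
    Function.Injective ((KaehlerDifferential.mapBaseChange Λ A B).baseChange C) := by
  let M := B ⊗[A] KaehlerDifferential Λ A
  haveI : IsCentralScalar B M := ⟨fun b x => by
    induction x using TensorProduct.induction_on with
    | zero => rw [smul_zero, smul_zero]
    | add x y hx hy => rw [smul_add, smul_add, hx, hy]
    | tmul c w => rw [TensorProduct.smul_tmul', TensorProduct.smul_tmul', op_smul_eq_smul]⟩
  letI : CommRing (TrivSqZeroExt B M) := TrivSqZeroExt.commRing
  let d : A → M := fun a => (1 : B) ⊗ₜ[A] KaehlerDifferential.D Λ A a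
  have dmul : ∀ a a', d (a * a') = algebraMap A B a • d a' + algebraMap A B a' • d a := fun a a' => by
    simp only [d, Derivation.leibniz, TensorProduct.tmul_add, TensorProduct.tmul_smul]
    rw [← algebraMap_smul B a ((1 : B) ⊗ₜ[A] KaehlerDifferential.D Λ A a'),
      ← algebraMap_smul B a' ((1 : B) ⊗ₜ[A] KaehlerDifferential.D Λ A a)]
  let φ : A →+* TrivSqZeroExt B M :=
    { toFun := fun a => TrivSqZeroExt.inl (algebraMap A B a) + TrivSqZeroExt.inr (d a)
      map_one' := by ext <;> simp [d]
      map_zero' := by ext <;> simp [d]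
      map_add' := fun a a' => by
        ext
        · simp [d, TensorProduct.tmul_add]
        · simp only [TrivSqZeroExt.snd_add, TrivSqZeroExt.snd_inl, TrivSqZeroExt.snd_inr, d, map_add,
            TensorProduct.tmul_add, zero_add]
      map_mul' := fun a a' => by
        ext
        · simp
        · simp [dmul, add_comm] }
  obtain ⟨v, hfst, hvA⟩ := exists_ringLift h φ (TrivSqZeroExt.fstHom B B M).toRingHom
    (TrivSqZeroExt.inlHom B M) (RingHom.ext fun b => rfl) (RingHom.ext fun a => by simp [φ])
    (RingHom.ext fun c => by
      ext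
      · simp [φ, ← IsScalarTower.algebraMap_apply]
      · simp [φ, d])
    (by
      rw [pow_two, eq_bot_iff, Ideal.mul_le]
      intro x hx y hy
      have hx' : x.fst = 0 := hx
      have hy' : y.fst = 0 := hy
      rw [Ideal.mem_bot]
      ext <;> simp [hx', hy'])
  replace hfst : ∀ b, (v b).fst = b := hfst
  have hsA : ∀ (a : A) (b : B), (v (a • b)).snd = algebraMap A B a • (v b).snd + b • d a := fun a b => by
    rw [Algebra.smul_def, map_mul, hvA]
    show (φ a * v b).snd = _
    simp [φ, hfst]
  let δ : Derivation Λ B M :=
    { toFun := fun b => (v b).snd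
      map_add' := fun b b' => by rw [map_add]; simp
      map_smul' := fun c b => by
        rw [RingHom.id_apply, ← IsScalarTower.algebraMap_smul A c b, hsA]
        simp [d, ← IsScalarTower.algebraMap_apply]
      map_one_eq_zero' := by
        show (v 1).snd = 0
        simp
      leibniz' := fun b b' => by
        show (v (b * b')).snd = b • (v b').snd + b' • (v b).snd
        rw [map_mul, TrivSqZeroExt.snd_mul, hfst, hfst]
        simp }
  have hr : δ.liftKaehlerDifferential ∘ₗ KaehlerDifferential.mapBaseChange Λ A B = LinearMap.id := by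
    refine LinearMap.ext fun z => ?_
    induction z using TensorProduct.induction_on with
    | zero => simp
    | add x y hx hy => rw [map_add, hx, hy]; rfl
    | tmul b w =>
      have key : ∀ w : KaehlerDifferential Λ A,
          δ.liftKaehlerDifferential (KaehlerDifferential.mapBaseChange Λ A B ((1 : B) ⊗ₜ[A] w)) =
            (1 : B) ⊗ₜ[A] w := by
        intro w
        have hw : w ∈ Submodule.span A (Set.range (KaehlerDifferential.D Λ A)) := by
          rw [KaehlerDifferential.span_range_derivation]; trivial
        induction hw using Submodule.span_induction with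
        | mem w hw =>
          obtain ⟨a, rfl⟩ := hw
          rw [KaehlerDifferential.mapBaseChange_tmul, one_smul, KaehlerDifferential.map_D,
            Derivation.liftKaehlerDifferential_comp_D]
          show (v (algebraMap A B a)).snd = d a
          rw [hvA]
          show (φ a).snd = d a
          simp [φ]
        | zero => simp
        | add x y _ _ hx hy => rw [TensorProduct.tmul_add, map_add, map_add, hx, hy]
        | smul a x _ hx =>
          rw [TensorProduct.tmul_smul, ← algebraMap_smul B a ((1 : B) ⊗ₜ[A] x), map_smul, map_smul, hx]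
      show δ.liftKaehlerDifferential _ = _
      rw [show b ⊗ₜ[A] w = b • ((1 : B) ⊗ₜ[A] w) by rw [TensorProduct.smul_tmul', smul_eq_mul, mul_one],
        map_smul, map_smul, key]
      rfl
  refine Function.LeftInverse.injective (g := δ.liftKaehlerDifferential.baseChange C) fun x => ?_
  rw [← LinearMap.comp_apply, ← LinearMap.baseChange_comp, hr, LinearMap.baseChange_id]
  rfl

end Groth.Agent.S3442
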