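import Groth.Statements.S3450
import Groth.Agent.DimOneDvr.Complete
import Groth.Agent.S17754

set_option autoImplicit false
universe u
open EGA43

namespace Groth.Agent.S3450

/-- Let A be a Noetherian local ring which is reduced, complete (for the topology defined by its maximal
ideal m) and not a field. Then for every n there are finitely many local homomorphisms φ_i : A → V_i
into discrete valuation rings, each making V_i a finite A-algebra, such that the intersection of
their kernels is contained in mⁿ. (Equivalently: such finite intersections form a base of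
neighbourhoods of 0 for the m-adic topology.) -/
theorem result (A : Type u) [CommRing A] [IsNoetherianRing A]
    [IsLocalRing A] [IsReduced A] [IsAdicComplete (IsLocalRing.maximalIdeal A) A] (hA : ¬ IsField A) (n : ℕ) :
    ∃ (k : ℕ) (V : Fin k → Type u) (_ : ∀ i, CommRing (V i)) (_ : ∀ i, IsDomain (V i))
      (_ : ∀ i, IsDiscreteValuationRing (V i)) (φ : ∀ i, A →+* V i),
      (∀ i, IsLocalHom (φ i) ∧ (φ i).Finite) ∧
        ⨅ i, RingHom.ker (φ i) ≤ IsLocalRing.maximalIdeal A ^ n := by
  classical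
  let m := IsLocalRing.maximalIdeal A
  let T : Set (Ideal A) := {P | P.IsPrime ∧ P ≠ m ∧ ∀ Q : Ideal A, Q.IsPrime → P < Q → Q = m}
  let K : Finset T → Ideal A := fun s => ⨅ P ∈ s, (P : Ideal A)
  have hK : ∀ s t : Finset T, s ⊆ t → K t ≤ K s := fun s t h =>
    le_iInf₂ fun P hP => iInf₂_le P (h hP)
  have hmin : ∀ j : ℕ, ∃ t : Finset T, ∀ s : Finset T, t ⊆ s → K s ⊔ m ^ j = K t ⊔ m ^ j := fun j => by
    have hart : IsArtinianRing (A ⧸ m ^ j) := by
      rcases Nat.eq_zero_or_pos j with rfl | hj
      · haveI : Subsingleton (A ⧸ m ^ 0) := Ideal.Quotient.subsingleton_iff.mpr (by rw [pow_zero, Ideal.one_eq_top])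
        infer_instance
      · refine isArtinianRing_iff_isNoetherianRing_krullDimLE_zero.2 ⟨inferInstance, ?_⟩
        refine Ring.KrullDimLE.mk₀ fun P hP => ?_
        have h2 : P.comap (Ideal.Quotient.mk (m ^ j)) = m := by
          refine le_antisymm (IsLocalRing.le_maximalIdeal (hP.comap _).ne_top) ((hP.comap _).le_of_pow_le (n := j) ?_)
          exact fun a ha => by rw [Ideal.mem_comap, Ideal.Quotient.eq_zero_iff_mem.mpr ha]; exact zero_mem _
        rw [← Ideal.map_comap_of_surjective _ Ideal.Quotient.mk_surjective P, h2]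
        refine (Ideal.map_eq_top_or_isMaximal_of_surjective _ Ideal.Quotient.mk_surjective
          (IsLocalRing.maximalIdeal.isMaximal A)).resolve_left fun ht => hP.ne_top ?_
        rw [← Ideal.map_comap_of_surjective _ Ideal.Quotient.mk_surjective P, h2, ht]
    obtain ⟨_, ⟨t, rfl⟩, htmin⟩ := IsArtinian.set_has_minimal
      (Set.range fun s : Finset T => (K s).map (Ideal.Quotient.mk (m ^ j))) ⟨_, ⟨∅, rfl⟩⟩
    refine ⟨t, fun s hts => le_antisymm (sup_le_sup_right (hK _ _ hts) _) ?_⟩
    have h := eq_of_le_of_not_lt (Ideal.map_mono (f := Ideal.Quotient.mk (m ^ j)) (hK _ _ hts)) (htmin _ ⟨s, rfl⟩)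
    have h' := congrArg (Ideal.comap (Ideal.Quotient.mk (m ^ j))) h
    simp only [Ideal.comap_map_of_surjective _ Ideal.Quotient.mk_surjective, ← RingHom.ker_eq_comap_bot,
      Ideal.mk_ker] at h'
    exact h'.ge
  choose t ht using hmin
  let s : ℕ → Finset T := fun j => (Finset.range (j + 1)).biUnion t
  have hts : ∀ j, t j ⊆ s j := fun j => Finset.subset_biUnion_of_mem t (Finset.self_mem_range_succ j)
  have hanti : Antitone fun j => K (s j) := fun i j hij =>
    hK _ _ (Finset.biUnion_subset_biUnion_of_subset_left t (Finset.range_mono (by omega)))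
  have hinf : ⨅ j, K (s j) = ⊥ := eq_bot_iff.mpr fun x hx => by
    rw [Submodule.mem_iInf] at hx
    have hxP : ∀ P : T, x ∈ P.1 := fun P => by
      haveI := P.2.1
      have hmem : ∀ j, x ∈ P.1 ⊔ m ^ j := fun j => by
        have h1 : x ∈ K (t j) ⊔ m ^ j := Submodule.mem_sup_left (hK _ _ (hts j) (hx j))
        rw [← ht j (insert P (t j)) (Finset.subset_insert _ _)] at h1
        have h2 : K (insert P (t j)) ≤ P.1 := iInf₂_le P (Finset.mem_insert_self _ _)
        exact sup_le_sup_right h2 _ h1
      haveI : IsLocalRing (A ⧸ P.1) :=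
        IsLocalRing.of_surjective' (Ideal.Quotient.mk P.1) Ideal.Quotient.mk_surjective
      have hne : m.map (Ideal.Quotient.mk P.1) ≠ ⊤ := fun h => by
        have h2 := congrArg (Ideal.comap (Ideal.Quotient.mk P.1)) h
        rw [Ideal.comap_map_of_surjective _ Ideal.Quotient.mk_surjective, ← RingHom.ker_eq_comap_bot,
          Ideal.mk_ker, sup_eq_left.mpr (IsLocalRing.le_maximalIdeal P.2.1.ne_top), Ideal.comap_top] at h2
        exact (IsLocalRing.maximalIdeal.isMaximal A).ne_top h2
      have h0 : Ideal.Quotient.mk P.1 x ∈ ⨅ j : ℕ, (m.map (Ideal.Quotient.mk P.1)) ^ j := by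
        rw [Submodule.mem_iInf]
        intro j
        have := Ideal.mem_map_of_mem (Ideal.Quotient.mk P.1) (hmem j)
        rwa [Ideal.map_sup, Ideal.map_quotient_self, bot_sup_eq, Ideal.map_pow] at this
      rw [Ideal.iInf_pow_eq_bot_of_isLocalRing _ hne] at h0
      exact Ideal.Quotient.eq_zero_iff_mem.mp h0
    by_contra hx0
    rw [Ideal.mem_bot] at hx0
    by_cases hxm : x ∈ m
    · obtain ⟨P, hP, hxP', hPmax⟩ := DimOneDvr.exists_coheightOne_notMem (b := x)
        (fun h => hx0 h.eq_zero) hxm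
      exact hxP' (hxP ⟨P, hP, fun h => hxP' (h ▸ hxm), hPmax⟩)
    · obtain ⟨a, ham, ha0⟩ : ∃ a ∈ m, a ≠ 0 := by
        by_contra! h
        exact hA (IsLocalRing.isField_iff_maximalIdeal_eq.mpr ((Submodule.eq_bot_iff _).mpr h))
      obtain ⟨P, hP, haP, hPmax⟩ := DimOneDvr.exists_coheightOne_notMem (b := a) (fun h => ha0 h.eq_zero) ham
      exact hxm (IsLocalRing.le_maximalIdeal hP.ne_top (hxP ⟨P, hP, fun h => haP (h ▸ ham), hPmax⟩))
  obtain ⟨j, hj⟩ := Groth.Agent.S17754.result A (fun j => K (s j)) hanti hinf n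
  let e := (s j).equivFin
  have key : ∀ i : Fin (s j).card, ∃ (V : Type u) (_ : CommRing V) (_ : IsDomain V)
      (_ : IsDiscreteValuationRing V) (φ : A →+* V), IsLocalHom φ ∧ φ.Finite ∧ RingHom.ker φ = (e.symm i).1.1 :=
    fun i => by
      haveI := (e.symm i).1.2.1
      exact DimOneDvr.exists_dvr_of_coheightOne _ (e.symm i).1.2.2.1 (e.symm i).1.2.2.2
  choose V iC iD iV φ hloc hfin hker using key
  refine ⟨(s j).card, V, iC, iD, iV, φ, fun i => ⟨hloc i, hfin i⟩, le_trans (le_iInf₂ fun P hP => ?_) hj⟩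
  exact iInf_le_of_le (e ⟨P, hP⟩) (by rw [hker, Equiv.symm_apply_apply])

end Groth.Agent.S3450
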