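import Groth.Statements.S3451
import Mathlib
import Groth.Agent.DepthLib.ModOpen
-- import your own Groth.Agent.* helpers here

set_option autoImplicit false
open CategoryTheory AlgebraicGeometry
universe u
open EGA43

namespace Groth.Agent.S3451

/-- Let f : X ⟶ S be locally of finite presentation. The set of points x of X such that the fibre of f
through x is equidimensional at x (all irreducible components of that fibre passing through x have
the same dimension) is locally constructible in X. -/
theorem result {X S : Scheme.{u}} (f : X ⟶ S)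
    [LocallyOfFinitePresentation f] :
    Topology.IsLocallyConstructible {x : X | ∃ e : ℕ,
      ∀ Z ∈ irreducibleComponents (↥(f.fiber (f.base x)) : Type u), f.asFiber x ∈ Z →
        topologicalKrullDim (↥Z : Type u) = e} := by
  haveI : Coh.IsQCoh (Coh.structureModule X) := QCohLib.isQCoh_unit
  let E : ℕ → Set X := fun e => {x | FlatMor.fibreDimAt f x = (e : WithBot ℕ∞)} ∩
    ⋃ a ∈ Finset.range e, DepthLib.fibWit f {z | FlatMor.fibreDimAt f z = (a : WithBot ℕ∞)} 0
  have hset : {x : X | ∃ e : ℕ, ∀ Z ∈ irreducibleComponents (↥(f.fiber (f.base x)) : Type u), f.asFiber x ∈ Z →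
        topologicalKrullDim (↥Z : Type u) = e} = (⋃ e, E e)ᶜ := by
    ext x
    let ι := f.fiberι (f.base x)
    have hdim : ∀ w : f.fiber (f.base x), UOpenLib.fibreClosureDim f (ι w) =
        topologicalKrullDim ↥(closure ({w} : Set ↥(f.fiber (f.base x)))) := by
      intro w
      have key : ∀ (s : S) (w : f.fiber s), UOpenLib.fibreClosureDim f (f.fiberι s w) =
          topologicalKrullDim ↥(closure ({w} : Set ↥(f.fiber s))) := by
        intro s w
        have hs : f (f.fiberι s w) = s := (f.range_fiberι s).le ⟨w, rfl⟩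
        generalize hx : f.fiberι s w = z at hs ⊢
        subst hs
        obtain rfl : w = f.asFiber z := (f.fiberι (f z)).isEmbedding.injective (by rw [hx, f.fiberι_asFiber])
        rfl
      exact key _ w
    constructor
    · rintro ⟨e, he⟩ hbad
      obtain ⟨a, ha⟩ := Set.mem_iUnion.1 hbad
      obtain ⟨b, hb, z, hz, hfz, hzx, -⟩ := Set.mem_iUnion₂.1 ha.2
      have hval : ∀ v : X, f.base v = f.base x → v ⤳ x → FlatMor.fibreDimAt f v = (e : WithBot ℕ∞) := by
        intro v hfv hvx
        obtain ⟨ζ, hfζ, hζv, hmax, hd⟩ := UOpenLib.exists_max_fibreDimAt f v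
        obtain ⟨w, rfl⟩ : ζ ∈ Set.range ι := by rw [f.range_fiberι]; exact hfζ.trans hfv
        have hw : w ⤳ f.asFiber x :=
          ι.isEmbedding.isInducing.specializes_iff.1 ((hζv.trans hvx).trans (specializes_of_eq (f.fiberι_asFiber x).symm))
        rw [← hd, hdim w]
        refine he _ (FibDimLib.closure_mem_irreducibleComponents_of_max fun u hu => ?_) hw.mem_closure
        refine ι.isEmbedding.injective (hmax (ι u) ?_ (hu.map ι.continuous).mem_closure)
        exact ((f.range_fiberι _).le ⟨u, rfl⟩).trans ((f.range_fiberι _).le ⟨w, rfl⟩).symm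
      have h1 : (e : WithBot ℕ∞) = (b : WithBot ℕ∞) := (hval z hfz hzx).symm.trans hz
      have h2 : (e : WithBot ℕ∞) = (a : WithBot ℕ∞) := (hval x rfl specializes_rfl).symm.trans ha.1
      have := Finset.mem_range.1 hb
      have e1 : e = b := Nat.cast_injective h1
      have e2 : e = a := Nat.cast_injective h2
      omega
    · intro h
      obtain ⟨e, he⟩ := UOpenLib.exists_fibreDimAt_eq_nat f x
      refine ⟨e, fun Z hZ hxZ => ?_⟩
      obtain ⟨w, hw⟩ := QuasiSober.sober hZ.1 (isClosed_of_mem_irreducibleComponents Z hZ)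
      have hwx : w ⤳ f.asFiber x := hw.specializes hxZ
      have hwx' : ι w ⤳ x := (hwx.map ι.continuous).trans (specializes_of_eq (f.fiberι_asFiber x))
      have hfw : f.base (ι w) = f.base x := (f.range_fiberι _).le ⟨w, rfl⟩
      obtain ⟨ζ, hfζ, hζw, -, hd⟩ := UOpenLib.exists_max_fibreDimAt f (ι w)
      obtain ⟨v, rfl⟩ : ζ ∈ Set.range ι := by rw [f.range_fiberι]; exact hfζ.trans hfw
      have hvw : v ⤳ w := ι.isEmbedding.isInducing.specializes_iff.1 hζw
      obtain rfl : v = w := FibDimLib.eq_of_specializes_of_closure_mem (by rw [hw.def]; exact hZ) hvw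
      rw [← hw.def, ← hdim, hd]
      obtain ⟨b, hb⟩ := UOpenLib.exists_fibreDimAt_eq_nat f (ι v)
      have hbe := FibDimLib.fibreDimAt_le_of_specializes f hwx'
      rw [hb, he, Nat.cast_le] at hbe
      rcases hbe.lt_or_eq with hlt | rfl
      · exfalso
        obtain ⟨r, hr⟩ := UOpenLib.exists_fibreClosureDim_eq_nat f (ι v)
        refine h (Set.mem_iUnion.2 ⟨e, he, Set.mem_iUnion₂.2 ⟨b, Finset.mem_range.2 hlt, ι v, hb, hfw, hwx', ?_⟩⟩)
        rw [hr]; exact Nat.cast_le.2 (Nat.zero_le _)
      · exact hb
  rw [hset]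
  refine DepthLib.isLocallyConstructible_compl (DepthLib.isLocallyConstructible_iUnion_of_bounded f E (fun e =>
    (DepthLib.isLocallyConstructible_fibreDimAt_eq f e).inter (DepthLib.isLocallyConstructible_biUnion _ _ fun a _ =>
      DepthLib.isLocallyConstructible_fibWit f (DepthLib.isLocallyConstructible_fibreDimAt_eq f a) 0)) fun y e hy => ?_)
  exact le_of_eq hy.1.symm

end Groth.Agent.S3451
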