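import Groth.Statements.S3455
import Mathlib
import Groth.Agent.DepthLib.GeomNormal
import Groth.Agent.DepthLib.SkCons
import Groth.Agent.DepthLib.GeomRkCons
-- import your own Groth.Agent.* helpers here

set_option autoImplicit false
open CategoryTheory AlgebraicGeometry
universe u
open EGA43

namespace Groth.Agent.S3455

/-- Let f : X ⟶ S be locally of finite presentation. The set of points x of X such that the fibre of f
through x is geometrically normal at x — for every field extension K of the residue field of f x and
every point x' above x in the base-changed fibre, the local ring at x' is an integrally closed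
domain — is locally constructible in X. -/
theorem result {X S : Scheme.{u}} (f : X ⟶ S)
    [LocallyOfFinitePresentation f] :
    Topology.IsLocallyConstructible {x : X |
      ∀ (K : Type u) [Field K] [Algebra (IsLocalRing.ResidueField (S.presheaf.stalk (f.base x))) K]
        (x' : ↥(FBase.bc (f.fiberToSpecResidueField (f.base x)) K)),
        (FBase.bcπ (f.fiberToSpecResidueField (f.base x)) K).base x' = f.asFiber x →
          (IsDomain ((FBase.bc (f.fiberToSpecResidueField (f.base x)) K).presheaf.stalk x') ∧ IsIntegrallyClosed ((FBase.bc (f.fiberToSpecResidueField (f.base x)) K).presheaf.stalk x'))} := by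
  haveI : ∀ s : S, LocallyOfFinitePresentation (f.fiberToSpecResidueField s) := fun s =>
    MorphismProperty.pullback_snd _ _ inferInstance
  have heq : {x : X |
      ∀ (K : Type u) [Field K] [Algebra (IsLocalRing.ResidueField (S.presheaf.stalk (f.base x))) K]
        (x' : ↥(FBase.bc (f.fiberToSpecResidueField (f.base x)) K)),
        (FBase.bcπ (f.fiberToSpecResidueField (f.base x)) K).base x' = f.asFiber x →
          (IsDomain ((FBase.bc (f.fiberToSpecResidueField (f.base x)) K).presheaf.stalk x') ∧ IsIntegrallyClosed ((FBase.bc (f.fiberToSpecResidueField (f.base x)) K).presheaf.stalk x'))} =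
    {x : X |
      ∀ (K : Type u) [Field K] [Algebra (IsLocalRing.ResidueField (S.presheaf.stalk (f.base x))) K]
        (x' : ↥(FBase.bc (f.fiberToSpecResidueField (f.base x)) K)),
        (FBase.bcπ (f.fiberToSpecResidueField (f.base x)) K).base x' = f.asFiber x →
          LocCoh.HasRk 1 ((FBase.bc (f.fiberToSpecResidueField (f.base x)) K).presheaf.stalk x')} ∩
    {x : X | LocCoh.HasSk 2 ((f.fiber (f.base x)).presheaf.stalk (f.asFiber x))
      ((f.fiber (f.base x)).presheaf.stalk (f.asFiber x))} := by
    ext x
    have h := @DepthLib.geomNormal_iff _ _ _ (f.fiberToSpecResidueField (f.base x))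
      (‹∀ s : S, LocallyOfFinitePresentation (f.fiberToSpecResidueField s)› (f.base x)) (f.asFiber x)
      (fun _ _ _ => True) trivial
    constructor
    · intro hx
      obtain ⟨h1, h2⟩ := h.1 (fun K _ _ _ y' hy' => hx K y' hy')
      exact ⟨fun K _ _ x' hx' => h1 K trivial x' hx', h2⟩
    · rintro ⟨h1, h2⟩ K _ _ x' hx'
      exact h.2 ⟨fun K _ _ _ y' hy' => h1 K y' hy', h2⟩ K trivial x' hx'
  rw [heq]
  exact (DepthLib.isLocallyConstructible_geomRk_fibre f 1).inter (DepthLib.isLocallyConstructible_hasSk_fibre f 2)

end Groth.Agent.S3455
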