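import Groth.Statements.S3456
import Mathlib
import Groth.Agent.EquidimLib.Subvariety

set_option autoImplicit false
open CategoryTheory AlgebraicGeometry
universe u
open EGA43

namespace Groth.Agent.S3456

/-- Let Y be locally Noetherian, f : X ⟶ Y locally of finite type and x a point of X; let X_j run over
the (finitely many) irreducible components of X containing x. Then f is equidimensional at x if and
only if there is a natural number e such that for every X_j: the closure Y_j of f(X_j) is an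
irreducible component of Y; for every point η of Y whose closure equals Y_j (i.e. the generic point
of Y_j), the fibre X_j ∩ f⁻¹(η) has topological Krull dimension e; and the local dimension at x of
X_j ∩ f⁻¹(f x) is e. All subsets of X carry the induced topology. -/
theorem result {X Y : Scheme.{u}} [IsLocallyNoetherian Y] (f : X ⟶ Y)
    [LocallyOfFiniteType f] (x : X) :
    EGA43.IsEquidimAt f x ↔
      ∃ e : ℕ, ∀ Xj ∈ irreducibleComponents (X : Type u), ∀ hx : x ∈ Xj,
        closure (f.base '' Xj) ∈ irreducibleComponents (Y : Type u) ∧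
        (∀ η : Y, closure ({η} : Set Y) = closure (f.base '' Xj) →
          topologicalKrullDim ↥(Xj ∩ f.base ⁻¹' {η}) = e) ∧
        FlatMor.localDim ↥(Xj ∩ f.base ⁻¹' {f.base x}) ⟨x, ⟨hx, Set.mem_singleton (f.base x)⟩⟩ = e := by
  have hX : IsLocallyNoetherian X := LocallyOfFiniteType.isLocallyNoetherian f
  have key : ∀ ξ : X, ∀ hx : x ∈ closure ({ξ} : Set X),
      UOpenLib.fibreClosureDim f ξ ≤
        FlatMor.localDim ↥(closure ({ξ} : Set X) ∩ f.base ⁻¹' {f.base x}) ⟨x, ⟨hx, rfl⟩⟩ ∧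
      FlatMor.localDim ↥(closure ({ξ} : Set X) ∩ f.base ⁻¹' {f.base x}) ⟨x, ⟨hx, rfl⟩⟩ ≤
        FlatMor.fibreDimAt f x ∧
      (∀ z : X, f.base z = f.base x → z ⤳ x → ξ ⤳ z → UOpenLib.fibreClosureDim f z ≤
        FlatMor.localDim ↥(closure ({ξ} : Set X) ∩ f.base ⁻¹' {f.base x}) ⟨x, ⟨hx, rfl⟩⟩) := by
    intro ξ hx
    let J := Scheme.IdealSheafData.vanishingIdeal (⟨closure {ξ}, isClosed_closure⟩ : TopologicalSpace.Closeds X)
    let j := J.subschemeι
    have hrange : Set.range j.base = closure {ξ} := by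
      rw [J.range_subschemeι, Scheme.IdealSheafData.coe_support_vanishingIdeal]
      rfl
    obtain ⟨x₀, hx₀⟩ : x ∈ Set.range j.base := hrange ▸ hx
    obtain ⟨ξ₀, hξ₀⟩ : ξ ∈ Set.range j.base := hrange ▸ subset_closure rfl
    rw [← EquidimLib.fibreDimAt_closedImmersion f j x₀ x hx₀ hrange hx]
    refine ⟨?_, ?_, fun z hz hzx hξz ↦ ?_⟩
    · have := UOpenLib.fibreClosureDim_le_fibreDimAt (j ≫ f)
        (j.isEmbedding.isInducing.specializes_iff.mp
          (hξ₀.symm ▸ hx₀.symm ▸ specializes_iff_mem_closure.mpr hx) : ξ₀ ⤳ x₀)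
      rwa [EquidimLib.fibreClosureDim_closedImmersion, hξ₀] at this
    · obtain ⟨z₀, -, hz₀x, -, hd⟩ := UOpenLib.exists_max_fibreDimAt (j ≫ f) x₀
      rw [← hd, EquidimLib.fibreClosureDim_closedImmersion]
      exact UOpenLib.fibreClosureDim_le_fibreDimAt f (hx₀ ▸ hz₀x.map j.continuous)
    · obtain ⟨z₀, rfl⟩ : z ∈ Set.range j.base := hrange ▸ hξz.mem_closure
      rw [← EquidimLib.fibreClosureDim_closedImmersion]
      exact UOpenLib.fibreClosureDim_le_fibreDimAt (j ≫ f)
        (j.isEmbedding.isInducing.specializes_iff.mp (hx₀.symm ▸ hzx))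
  constructor
  · intro hf
    obtain ⟨e, U, hU⟩ := (EquidimLib.isEquidimAt_iff f x).mp hf
    refine ⟨e, fun Xj hXj hx ↦ ?_⟩
    obtain ⟨ξ, hξ⟩ := QuasiSober.sober hXj.1 (isClosed_of_mem_irreducibleComponents _ hXj)
    obtain rfl : Xj = closure {ξ} := hξ.def.symm
    have hξx : ξ ⤳ x := specializes_iff_mem_closure.mpr hx
    have hξU := hξx.mem_open U.isOpen hU.mem
    have himg : closure (f.base '' closure {ξ}) = closure {f.base ξ} := by
      rw [closure_image_closure f.continuous, Set.image_singleton]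
    have hd := hU.dim ξ hξU (EquidimLib.isFibreMax_of_max f hXj)
    refine ⟨himg ▸ (hU.max ξ hξU hXj).1, fun η hη ↦ ?_, ?_⟩
    · rw [himg] at hη
      obtain rfl : η = f.base ξ := ((specializes_iff_mem_closure.mpr (hη ▸ subset_closure rfl)).antisymm
        (specializes_iff_mem_closure.mpr (hη.symm ▸ subset_closure rfl))).eq.symm
      rw [← hd, UOpenLib.fibreClosureDim_eq_inter]
    · obtain ⟨h1, h2, -⟩ := key ξ hx
      exact le_antisymm (h2.trans (hU.fibreDimAt_eq f hU.mem).le) (hd ▸ h1)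
  · rintro ⟨e, h⟩
    have hd : FlatMor.fibreDimAt f x ≤ e := by
      obtain ⟨z, hz, hzx, -, hzd⟩ := UOpenLib.exists_max_fibreDimAt f x
      obtain ⟨ξ, hξ, hξz⟩ := DvrDomLib.exists_generic_specializes z
      have hx : x ∈ closure ({ξ} : Set X) := (hξz.trans hzx).mem_closure
      rw [← hzd]
      exact ((key ξ hx).2.2 z hz hzx hξz).trans (h _ hξ hx).2.2.le
    obtain ⟨d, hd'⟩ := UOpenLib.exists_fibreDimAt_eq_nat f x
    obtain ⟨U₀, hxU₀, hle⟩ := EquidimLib.exists_nhd_fibreClosureDim_le f x hd'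
    obtain ⟨U, hxU, hUU₀, hUx⟩ := EquidimLib.exists_open_max_through x U₀ hxU₀
    refine EquidimLib.isEquidimAt_of_bounds f x e U hxU
      (fun v hv ↦ (hle v (hUU₀ hv)).trans (hd' ▸ hd)) fun ξ hξU hξ ↦ ?_
    have hξx := hUx ξ hξU hξ
    obtain ⟨h1, h2, -⟩ := h _ hξ hξx.mem_closure
    have himg : closure (f.base '' closure {ξ}) = closure {f.base ξ} := by
      rw [closure_image_closure f.continuous, Set.image_singleton]
    rw [himg] at h1
    refine ⟨h1, ?_⟩
    rw [UOpenLib.fibreClosureDim_eq_inter]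
    exact (h2 (f.base ξ) himg.symm).ge

end Groth.Agent.S3456
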