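import Groth.Statements.S3457
import Mathlib
import Groth.Agent.EquidimLib.DimEquidim

set_option autoImplicit false
open CategoryTheory AlgebraicGeometry
universe u
open EGA43

namespace Groth.Agent.S3457

/-- Let Y be locally Noetherian, f : X ⟶ Y locally of finite type, x a point of X with y = f x, and
suppose f is equidimensional at x and O_{Y,y} is universally catenary. Let e be the local dimension
at x of the fibre X_y. Then for every minimal prime 𝔭 of O_{X,x} (that is, for every irreducible
component X_j of X through x, with O_{X_j,x} = O_{X,x}/𝔭 and O_{Y_j,y} = O_{Y,y}/(𝔭 ∩ O_{Y,y})) one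
has dim(O_{X,x}/𝔭) + trdeg_{κ(y)} κ(x) = dim(O_{Y,y}/(𝔭 ∩ O_{Y,y})) + e. -/
theorem result {X Y : Scheme.{u}} [IsLocallyNoetherian Y] (f : X ⟶ Y)
    [LocallyOfFiniteType f] (x : X) (h : EGA43.IsEquidimAt f x)
    (hcat : CAlg.IsUniversallyCatenary (Y.presheaf.stalk (f.base x))) :
    letI : Algebra (Y.residueField (f.base x)) (X.residueField x) := (f.residueFieldMap x).hom.toAlgebra
    ∀ 𝔭 ∈ minimalPrimes (X.presheaf.stalk x),
      ringKrullDim (X.presheaf.stalk x ⧸ 𝔭) +
          (Cardinal.toNat (Algebra.trdeg (Y.residueField (f.base x)) (X.residueField x)) : WithBot ℕ∞) =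
        ringKrullDim (Y.presheaf.stalk (f.base x) ⧸ 𝔭.comap (f.stalkMap x).hom) + FlatMor.fibreDimAt f x := by
  letI : Algebra (Y.residueField (f.base x)) (X.residueField x) := (f.residueFieldMap x).hom.toAlgebra
  intro P hP
  have hp := hP.1.1
  have e := EquidimLib.quotient_minimalPrime_of_isEquidimAt f x h hcat ⟨P, hp⟩ hP
  obtain ⟨n, hn⟩ := UOpenLib.exists_fibreClosureDim_eq_nat f x
  have ht : (Cardinal.toNat (Algebra.trdeg (Y.residueField (f.base x)) (X.residueField x))) = n := by
    have h1 := DimIneqLib.fibreClosureDim_eq_trH f x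
    rw [hn] at h1
    have h2 : DimIneqLib.trH (f.residueFieldMap x).hom = (n : ℕ∞) := (WithBot.coe_injective h1).symm
    rw [← Cardinal.toNat_toENat]
    exact congrArg ENat.toNat h2 |>.trans (ENat.toNat_coe n)
  rw [ht, ← hn]
  exact e

end Groth.Agent.S3457
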