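import Groth.Statements.S3459
import Groth.Agent.EquidimLib.ComponentUnique
import Groth.Agent.DepthLib.GeomRedOpen
import Groth.Agent.SecNhdLib.Descent

set_option autoImplicit false
open CategoryTheory AlgebraicGeometry
universe u
open EGA43

namespace Groth.Agent.S3459

open Limits TopologicalSpace EquidimLib in
/-- The key consequence of admissibility, over the reduced base. -/
theorem key {X Y : Scheme.{u}} [IsLocallyNoetherian Y] (f : X ⟶ Y) [LocallyOfFiniteType f] (x : X)
    (h1 : ∃! Zc : Set ↥(f.fiber (f.base x)), Zc ∈ irreducibleComponents (↥(f.fiber (f.base x)) : Type u) ∧ f.asFiber x ∈ Zc)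
    (h2 : ∀ z : ↥(f.fiber (f.base x)), f.asFiber x ∈ closure {z} →
      (∀ z' : ↥(f.fiber (f.base x)), z ∈ closure {z'} → z' = z) →
      FBase.IsGeomReducedAt (f.fiberToSpecResidueField (f.base x)) z) :
    ∃ z : X, z ⤳ x ∧ ∀ X' : TopologicalSpace.Closeds X, ∀ hx : x ∈ X',
      FlatMor.localDim ↥((X' : Set X) ∩ f.base ⁻¹' {f.base x}) ⟨x, ⟨hx, Set.mem_singleton (f.base x)⟩⟩ =
          FlatMor.fibreDimAt f x →
      (∀ w : ↥(Scheme.IdealSheafData.vanishingIdeal X').subscheme,
          f.base ((Scheme.IdealSheafData.vanishingIdeal X').subschemeι.base w) = f.base x →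
          x ∈ closure {(Scheme.IdealSheafData.vanishingIdeal X').subschemeι.base w} →
          (∀ t : X, t ∈ (X' : Set X) → f.base t = f.base x →
              (Scheme.IdealSheafData.vanishingIdeal X').subschemeι.base w ∈ closure {t} →
              t = (Scheme.IdealSheafData.vanishingIdeal X').subschemeι.base w) →
          EGA43.IsUnivOpenAt ((Scheme.IdealSheafData.vanishingIdeal X').subschemeι ≫ f) w) →
      z ∈ X' ∧ (∀ ζ : X, ζ ⤳ z → ζ ∈ X') ∧
        ∀ (y : Y) (a : ↥(f.fiber y)), (f.fiberι y).base a ⤳ z →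
          FBase.IsGeomReducedAt (f.fiberToSpecResidueField y) a := by
  obtain ⟨z, hzy, hzx, hzmax, hzd⟩ := UOpenLib.exists_max_fibreDimAt f x
  have hrange : ∀ v : X, f.base v = f.base x → ∃ a : ↥(f.fiber (f.base x)), (f.fiberι (f.base x)).base a = v :=
    fun v hv ↦ by
      have : v ∈ Set.range (f.fiberι (f.base x)).base := by rw [f.range_fiberι]; exact hv
      exact this
  have hfy : ∀ c : ↥(f.fiber (f.base x)), f.base ((f.fiberι (f.base x)).base c) = f.base x := fun c ↦ by
    have h' := Set.mem_range_self (f := (f.fiberι (f.base x)).base) c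
    rw [f.range_fiberι] at h'
    exact h'
  have hind := (f.fiberι (f.base x)).isEmbedding.isInducing
  have hcomp : ∀ a : ↥(f.fiber (f.base x)), (f.fiberι (f.base x)).base a ⤳ x →
      IsFibreMax f ((f.fiberι (f.base x)).base a) →
      closure {a} ∈ irreducibleComponents (↥(f.fiber (f.base x)) : Type u) ∧ f.asFiber x ∈ closure {a} := by
    intro a hax hamax
    refine ⟨FibDimLib.closure_mem_irreducibleComponents_of_max fun b hb ↦ ?_, ?_⟩
    · exact (f.fiberι (f.base x)).isEmbedding.injective
        (hamax _ ((hfy b).trans (hfy a).symm) (hb.map (f.fiberι (f.base x)).continuous).mem_closure)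
    · rw [← specializes_iff_mem_closure, ← hind.specializes_iff, f.fiberι_asFiber]
      exact hax
  have huniq : ∀ v : X, f.base v = f.base x → v ⤳ x → IsFibreMax f v → v = z := by
    intro v hv hvx hvmax
    obtain ⟨a, rfl⟩ := hrange v hv
    obtain ⟨b, rfl⟩ := hrange z hzy
    have h := h1.unique (hcomp a hvx hvmax) (hcomp b hzx hzmax)
    have hab : a ⤳ b := specializes_iff_mem_closure.mpr (h.symm ▸ subset_closure rfl)
    have hba : b ⤳ a := specializes_iff_mem_closure.mpr (h ▸ subset_closure rfl)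
    rw [(hab.antisymm hba).eq]
  have hred : FBase.IsGeomReducedAt (f.fiberToSpecResidueField (f.base z)) (f.asFiber z) := by
    obtain ⟨a, ha⟩ := hrange z hzy
    refine isGeomReducedAt_congr f (ha.trans (f.fiberι_asFiber z).symm) (h2 a ?_ fun b hb ↦ ?_)
    · rw [← specializes_iff_mem_closure, ← hind.specializes_iff, f.fiberι_asFiber, ha]
      exact hzx
    · exact (FibDimLib.eq_of_specializes_of_closure_mem
        (hcomp a (ha.symm ▸ hzx) (ha.symm ▸ hzmax)).1 (specializes_iff_mem_closure.mpr hb))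
  refine ⟨z, hzx, fun X' hx hdim hopen ↦ ?_⟩
  -- the closed subscheme
  let I := Scheme.IdealSheafData.vanishingIdeal X'
  let ι := I.subschemeι
  have : IsReduced I.subscheme := DevissLib.isReduced_vanishingIdeal' X'
  have hι : Set.range ι.base = (X' : Set X) := by
    rw [I.range_subschemeι, Scheme.IdealSheafData.coe_support_vanishingIdeal]
  obtain ⟨w₀, hw₀⟩ : x ∈ Set.range ι.base := hι ▸ hx
  obtain ⟨v, hvy, hvw, -, hvd⟩ := UOpenLib.exists_max_fibreDimAt (ι ≫ f) w₀
  rw [fibreClosureDim_closedImmersion, fibreDimAt_closedImmersion f ι w₀ x hw₀ hι hx, hdim] at hvd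
  have hvy' : f.base (ι.base v) = f.base x := by
    rw [← hw₀]; exact hvy
  have hvx : ι.base v ⤳ x := hw₀ ▸ hvw.map ι.continuous
  obtain ⟨z', hz'y, hz'v, hz'max, -⟩ := UOpenLib.exists_max_fibreDimAt f (ι.base v)
  obtain rfl : z' = z := huniq z' (hz'y.trans hvy') (hz'v.trans hvx) hz'max
  have hvz : ι.base v = z' := by
    by_contra hne
    exact (FibDimLib.fibreClosureDim_lt f hz'v (Ne.symm hne) hz'y).ne (hvd.trans hzd.symm)
  have hvopen : EGA43.IsUnivOpenAt (ι ≫ f) v :=
    hopen v hvy' hvx.mem_closure fun t _ ht hts ↦ by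
      rw [hvz]
      exact hzmax t (ht.trans hzy.symm) (hvz ▸ hts)
  -- the reduced base
  let J := Scheme.IdealSheafData.vanishingIdeal (⊤ : Closeds Y)
  let r := J.subschemeι
  have : IsReduced J.subscheme := DevissLib.isReduced_vanishingIdeal' ⊤
  have hsurj : Surjective r := ⟨fun y ↦ by
    have h : y ∈ Set.range r.base := by
      rw [J.range_subschemeι, Scheme.IdealSheafData.coe_support_vanishingIdeal]
      trivial
    exact h⟩
  have : IsLocallyNoetherian J.subscheme := LocallyOfFiniteType.isLocallyNoetherian r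
  let a := pullback.fst f r
  let f₁ := pullback.snd f r
  have ha : IsClosedImmersion a := MorphismProperty.pullback_fst _ _ inferInstance
  have has : Surjective a := MorphismProperty.pullback_fst _ _ hsurj
  have hwa : ∀ v, f.base (a.base v) = r.base (f₁.base v) := fun v ↦ by
    rw [← Scheme.Hom.comp_apply, pullback.condition, Scheme.Hom.comp_apply]
  obtain ⟨z₁, hz₁⟩ := has.surj z'
  have hmax₁ : IsFibreMax f₁ z₁ := fun t ht hts ↦ a.isEmbedding.injective
    ((hzmax (a.base t) (by rw [← hz₁, hwa, hwa, ht])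
      (hz₁ ▸ ((specializes_iff_mem_closure.mpr hts).map a.continuous).mem_closure)).trans hz₁.symm)
  have hred₁ : FBase.IsGeomReducedAt (f₁.fiberToSpecResidueField (f₁.base z₁)) (f₁.asFiber z₁) := by
    subst hz₁
    exact isGeomReducedAt_baseChange f _ hred (IsPullback.of_hasPullback f r) z₁ rfl
  -- the lift of the closed subscheme
  have : IsClosedImmersion (pullback.fst ι a) := MorphismProperty.pullback_fst _ _ ha
  have : Surjective (pullback.fst ι a) := MorphismProperty.pullback_fst _ _ has
  have : IsIso (pullback.fst ι a) := isIso_of_isClosedImmersion_of_surjective _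
  let j := inv (pullback.fst ι a) ≫ pullback.snd ι a
  have hj : j ≫ a = ι := by
    rw [Category.assoc, ← pullback.condition, IsIso.inv_hom_id_assoc]
  have : IsClosedImmersion (pullback.snd ι a) := MorphismProperty.pullback_snd _ _ inferInstance
  have hg : (j ≫ f₁) ≫ r = ι ≫ f := by
    rw [Category.assoc, ← pullback.condition, reassoc_of% hj]
  have sq : IsPullback (𝟙 I.subscheme) (j ≫ f₁) (ι ≫ f) r :=
    ⟨⟨by rw [Category.id_comp, hg]⟩, ⟨PullbackCone.IsLimit.mk _ (fun s ↦ s.fst) (fun s ↦ Category.comp_id _)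
      (fun s ↦ by rw [← cancel_mono r, Category.assoc, hg]; exact s.condition)
      (fun s m h _ ↦ by rw [← h]; exact (Category.comp_id _).symm)⟩⟩
  have hopen₁ : EGA43.IsUnivOpenAt (j ≫ f₁) v := UOpenLib.IsUnivOpenAt.of_isPullback hvopen sq v rfl
  have hjv : j.base v = z₁ := a.isEmbedding.injective (by
    rw [← Scheme.Hom.comp_apply, hj, hz₁]; exact hvz)
  have hgen : ∀ ζ : X, ζ ⤳ z' → ζ ∈ X' := by
    intro ζ hζ
    obtain ⟨ζ₁, rfl⟩ := has.surj ζ
    have hs : ζ₁ ⤳ j.base v := by
      rw [hjv, ← a.isEmbedding.isInducing.specializes_iff, hz₁]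
      exact hζ
    obtain ⟨p, hp⟩ := mem_range_of_univOpen f₁ j v inferInstance (hjv.symm ▸ hmax₁) (hjv.symm ▸ hred₁) hopen₁ hs
    show a.base ζ₁ ∈ (X' : Set X)
    rw [← hι, ← hp, ← Scheme.Hom.comp_apply, hj]
    exact Set.mem_range_self p
  refine ⟨hgen z' (specializes_rfl), hgen, fun y b hb ↦ ?_⟩
  have hflat₁ : (f₁.stalkMap z₁).hom.Flat := flat_stalkMap_of_univOpen_max f₁ z₁ inferInstance hmax₁
    (hjv ▸ UOpenLib.IsUnivOpenAt.of_comp hopen₁) hred₁
  obtain ⟨ζ₁, hζ₁⟩ := has.surj ((f.fiberι y).base b)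
  have hs : ζ₁ ⤳ z₁ := by
    rw [← a.isEmbedding.isInducing.specializes_iff, hz₁, hζ₁]
    exact hb
  have hζred := (hs.mem_open (DepthLib.isOpen_flat_geomReduced f₁) ⟨hflat₁, hred₁⟩).2
  have hdesc := SecNhdLib.isGeomReducedAt_descend
    (isPullback_fiberToSpecResidueField_of_isPullback (IsPullback.of_hasPullback f r) (f₁.base ζ₁))
    (f₁.asFiber ζ₁) hζred
  refine isGeomReducedAt_congr f ?_ hdesc
  refine Eq.trans ?_ hζ₁
  refine (Scheme.Hom.comp_apply _ _ _).symm.trans ?_
  refine (congrArg (fun q : f₁.fiber (f₁.base ζ₁) ⟶ X ↦ q.base (f₁.asFiber ζ₁)) (pullback.lift_fst _ _ _)).trans ?_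
  exact (Scheme.Hom.comp_apply _ _ _).trans (congrArg a.base (f₁.fiberι_asFiber ζ₁))


/-- Let Y be an irreducible locally Noetherian scheme with generic point η, f : X ⟶ Y locally of finite
type, x a point of X and y = f x. Suppose (1) x lies on exactly one irreducible component Z of the
fibre X_y, and (2) X_y is geometrically reduced at the generic point of Z. Call an irreducible
component X' of X containing x admissible when the local dimension at x of X' ∩ f⁻¹(y) equals that
of f⁻¹(y) and the restriction of f to X' (with its reduced structure) is universally open at the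
generic points of the irreducible components of X' ∩ f⁻¹(y) containing x. Then there is at most one
admissible X'; and if X' is admissible, the fibre X_η is geometrically reduced at the generic point
of X'. -/
theorem result {X Y : Scheme.{u}} [IrreducibleSpace Y]
    [IsLocallyNoetherian Y] (f : X ⟶ Y) [LocallyOfFiniteType f] (x : X)
    (h1 : ∃! Zc : Set ↥(f.fiber (f.base x)), Zc ∈ irreducibleComponents (↥(f.fiber (f.base x)) : Type u) ∧ f.asFiber x ∈ Zc)
    (h2 : ∀ z : ↥(f.fiber (f.base x)), f.asFiber x ∈ closure {z} →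
      (∀ z' : ↥(f.fiber (f.base x)), z ∈ closure {z'} → z' = z) →
      FBase.IsGeomReducedAt (f.fiberToSpecResidueField (f.base x)) z) :
    letI adm : TopologicalSpace.Closeds X → Prop := fun X' =>
      (X' : Set X) ∈ irreducibleComponents (X : Type u) ∧ ∃ hx : x ∈ X',
        FlatMor.localDim ↥((X' : Set X) ∩ f.base ⁻¹' {f.base x}) ⟨x, ⟨hx, Set.mem_singleton (f.base x)⟩⟩ =
          FlatMor.fibreDimAt f x ∧
        ∀ w : ↥(Scheme.IdealSheafData.vanishingIdeal X').subscheme,
          f.base ((Scheme.IdealSheafData.vanishingIdeal X').subschemeι.base w) = f.base x →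
          x ∈ closure {(Scheme.IdealSheafData.vanishingIdeal X').subschemeι.base w} →
          (∀ t : X, t ∈ (X' : Set X) → f.base t = f.base x →
              (Scheme.IdealSheafData.vanishingIdeal X').subschemeι.base w ∈ closure {t} →
              t = (Scheme.IdealSheafData.vanishingIdeal X').subschemeι.base w) →
          EGA43.IsUnivOpenAt ((Scheme.IdealSheafData.vanishingIdeal X').subschemeι ≫ f) w
    {X' : TopologicalSpace.Closeds X | adm X'}.Subsingleton ∧
      ∀ X' : TopologicalSpace.Closeds X, adm X' →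
        ∀ ζ : ↥(f.fiber (genericPoint Y)), closure {(f.fiberι (genericPoint Y)).base ζ} = (X' : Set X) →
          FBase.IsGeomReducedAt (f.fiberToSpecResidueField (genericPoint Y)) ζ := by
  obtain ⟨z, -, hz⟩ := key f x h1 h2
  refine ⟨fun X' hX' X'' hX'' ↦ ?_, fun X' hX' ζ hζ ↦ ?_⟩
  · obtain ⟨hc', hx', hd', ho'⟩ := hX'
    obtain ⟨hc'', hx'', hd'', ho''⟩ := hX''
    obtain ⟨-, hgen', -⟩ := hz X' hx' hd' ho'
    obtain ⟨hz'', -, -⟩ := hz X'' hx'' hd'' ho''
    have hirr : IsIrreducible (X'' : Set X) := hc''.1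
    let ξ := hirr.genericPoint
    have hcl : closure {ξ} = (X'' : Set X) := by
      rw [hirr.closure_genericPoint X''.isClosed]
    have hξ : ξ ∈ X' := hgen' ξ (specializes_iff_mem_closure.mpr (hcl ▸ hz''))
    have hle : (X'' : Set X) ⊆ X' := hcl ▸ closure_minimal (Set.singleton_subset_iff.mpr hξ) X'.isClosed
    exact SetLike.coe_injective (le_antisymm (hc''.2 hc'.1 hle) hle)
  · obtain ⟨hc', hx', hd', ho'⟩ := hX'
    obtain ⟨hzX, -, hred⟩ := hz X' hx' hd' ho'
    exact hred _ ζ (specializes_iff_mem_closure.mpr (hζ ▸ hzX))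

end Groth.Agent.S3459
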