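import Groth.Statements.S3460
import Mathlib

set_option autoImplicit false
open CategoryTheory AlgebraicGeometry
universe u
open EGA43

namespace Groth.Agent.S3460

/-- Let Y be locally Noetherian and f : X ⟶ Y of finite type. Then there exist a scheme Z, a proper
morphism g : X ⟶ Z and an immersion h : Z ⟶ Y with f = g ≫ h if and only if f is proper at every
point of f(X), i.e. every point of f(X) has an open neighbourhood U in Y over which the restriction
of f is proper. -/
theorem result {X Y : Scheme.{u}} [IsLocallyNoetherian Y]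
    (f : X ⟶ Y) [LocallyOfFiniteType f] [QuasiCompact f] :
    (∃ (Z : Scheme.{u}) (g : X ⟶ Z) (h : Z ⟶ Y), IsProper g ∧ IsImmersion h ∧ g ≫ h = f) ↔
      ∀ x : X, ∃ U : Y.Opens, f.base x ∈ U ∧ IsProper (f ∣_ U) := by
  constructor
  · rintro ⟨Z, g, h, hg, hh, rfl⟩ x
    let W := h.coborderRange
    have hfac : (g ≫ h.liftCoborder) ≫ W.ι = g ≫ h := by
      rw [Category.assoc, Scheme.Hom.liftCoborder_ι]
    refine ⟨W, ?_, ?_⟩
    · rw [← hfac]
      exact (((g ≫ h.liftCoborder).base x : W.toScheme)).2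
    · rw [← hfac, morphismRestrict_comp]
      have hι : W.ι ∣_ W = (W.ι ⁻¹ᵁ W).ι := by
        rw [← cancel_mono W.ι, morphismRestrict_ι]
      have : IsIso (W.ι ∣_ W) := by
        rw [hι, W.ι_preimage_self]
        exact W.toScheme.topIso.isIso_hom
      have hgl : IsProper (g ≫ h.liftCoborder) := inferInstance
      have hres : IsProper ((g ≫ h.liftCoborder) ∣_ W.ι ⁻¹ᵁ W) :=
        IsZariskiLocalAtTarget.restrict hgl _
      exact MorphismProperty.comp_mem @IsProper _ _ hres inferInstance
  · intro H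
    choose U hxU hU using H
    let W : Y.Opens := ⨆ x, U x
    have hrange : Set.range f ⊆ Set.range W.ι := by
      rw [W.range_ι]
      rintro _ ⟨x, rfl⟩
      exact le_iSup U x (hxU x)
    let g : X ⟶ W.toScheme := IsOpenImmersion.lift W.ι f hrange
    have hg : g ≫ W.ι = f := IsOpenImmersion.lift_fac _ _ _
    refine ⟨W.toScheme, g, W.ι, ?_, inferInstance, hg⟩
    rw [IsZariskiLocalAtTarget.iff_of_iSup_eq_top (P := @IsProper) (U := fun x : X => W.ι ⁻¹ᵁ U x)]
    · intro x
      have heq : g ⁻¹ᵁ W.ι ⁻¹ᵁ U x = f ⁻¹ᵁ U x := by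
        change (g ≫ W.ι) ⁻¹ᵁ U x = _
        rw [hg]
      let e : Arrow.mk (g ∣_ W.ι ⁻¹ᵁ U x) ≅ Arrow.mk (f ∣_ U x) :=
        Arrow.isoMk (X.isoOfEq heq) (Scheme.Opens.isoOfLE (le_iSup U x)) <| by
          simp [← CategoryTheory.cancel_mono (U x).ι, hg]
      rw [MorphismProperty.arrow_mk_iso_iff @IsProper e]
      exact hU x
    apply W.ι.image_injective
    dsimp
    rw [Scheme.Hom.image_iSup, Scheme.Hom.image_top_eq_opensRange, Scheme.Opens.opensRange_ι]
    simp [Scheme.Hom.image_preimage_eq_opensRange_inf, W, le_iSup U]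

end Groth.Agent.S3460
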