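import Groth.Statements.S3465
import Groth.Agent.EtULABCLib.Main
import Groth.Agent.EtBcBridgeLib.Main
-- import your own Groth.Agent.* helpers here

set_option autoImplicit false
universe u
open CategoryTheory CategoryTheory.Limits AlgebraicGeometry Opposite
attribute [local instance] HasDerivedCategory.standard
open EtBC

namespace Groth.Agent.S3465

/-- Let X' = X ×_Y Y' be a cartesian square of schemes with f : X → Y quasi-compact and quasi-separated,
projections f' : X' → Y' and g' : X' → X over g : Y' → Y, let L be a set of primes and n a natural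
number, and suppose g is universally locally n-acyclic for L. Then for every abelian L-torsion sheaf
F on the small etale site of X the base change maps g⁻¹ R^q f_* F → R^q f'_* g'⁻¹ F are isomorphisms
for q ≤ n; stated as: the q-th cohomology sheaf of the base change morphism g⁻¹ Rf_* F → Rf'_* g'⁻¹
F in the derived category is an isomorphism for every integer q ≤ n. -/
theorem result {X Y X' Y' : Scheme.{u}} (f : X ⟶ Y) (g : Y' ⟶ Y)
    (f' : X' ⟶ Y') (g' : X' ⟶ X) (h : IsPullback g' f' f g) [QuasiCompact f] [QuasiSeparated f]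
    (L : Set ℕ) (n : ℕ) (hg : EtAcyc.IsULocAcyclicN g L n)
    [PreservesFiniteLimits (EtCoh.pull g)] [PreservesFiniteLimits (EtCoh.pull g')]
    [DCoh.HasRpushEt X f] [DCoh.HasRpushEt X' f'] [DCoh.HasRpushEt Y' g]
    (adj : EtBC.pullD g ⊣ DCoh.RpushEt Y' g) (F : EtCoh.Ab X) (hF : EtAcyc.IsLTorsion L F)
    (q : ℤ) (hq : q ≤ n) :
    IsIso ((DerivedCategory.homologyFunctor (EtCoh.Ab Y') q).map
      (EtBC.bcMap f g f' g' h.w adj (EtBC.single X F))) := by
  exact EtBcBridgeLib.isIso_of_bcQ f g f' g' h.w adj F n
    (fun k hk => EtULABCLib.isIso_bcQ_of_uloc f g f' g' h hg F hF k hk) q hq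

end Groth.Agent.S3465
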