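import Groth.Statements.S3472
import Groth.Agent.EtSmAcycLib.Apps

set_option autoImplicit false
set_option backward.isDefEq.respectTransparency false
set_option backward.isDefEq.respectTransparency.types false
set_option maxHeartbeats 1000000
set_option synthInstance.maxHeartbeats 400000
universe u
open CategoryTheory CategoryTheory.Limits AlgebraicGeometry Opposite
open EtAcyc

namespace Groth.Agent.S3472

/-- Let g : X → Y be a smooth morphism of schemes and L the set of primes invertible on X (the
complement of the set of residue characteristics of X). Then g is locally acyclic for L: for every
point x, all strict henselizations R_Y → R_X of the local rings at g x and x compatible with g,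
every etale V over Spec R_Y, and every abelian L-torsion sheaf F on V, pullback along (Spec R_X)
×_{Spec R_Y} V → V is bijective on etale cohomology in all degrees. -/
theorem result {X Y : Scheme.{u}} (g : X ⟶ Y) [Smooth g] :
    EtAcyc.IsLocAcyclic g (EtAcyc.primesInvertibleOn X) := by
  exact EtSmAcycLib.isLocAcyclic_of_smooth g

end Groth.Agent.S3472
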