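import Groth.Statements.S3483
import Groth.Agent.SerreCdLib.Origin
import Groth.Agent.SerreCdLib.Real
-- import your own Groth.Agent.* helpers here

set_option autoImplicit false
universe u
open CategoryTheory CategoryTheory.Limits AlgebraicGeometry Opposite
open EtCd

namespace Groth.Agent.S3483

/-- Let k'/k be a finitely generated field extension of transcendence degree t and ℓ a prime different
from the characteristic of k. If cd_ℓ(k') < cd_ℓ(k) + t, that is, if for some d the cohomology of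
ℓ-primary torsion sheaves on Spec k' vanishes above degree d while either d < t or cd_ℓ(k) ≤ d - t
fails, then ℓ = 2, k admits an ordering making it an ordered field, and k' admits none. -/
theorem result (k k' : Type u) [Field k] [Field k'] [Algebra k k']
    (hfg : ∃ s : Finset k', IntermediateField.adjoin k (s : Set k') = ⊤) (ℓ : ℕ) (hℓ : ℓ.Prime) (hℓk : (ℓ : k) ≠ 0)
    (t : ℕ) (ht : Algebra.trdeg k k' = t)
    (hlt : ∃ d : ℕ, Dix.CohDimLEAt (Spec (CommRingCat.of k')) ℓ d ∧
      (d < t ∨ ¬ Dix.CohDimLEAt (Spec (CommRingCat.of k)) ℓ (d - t))) :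
    ℓ = 2 ∧ (∃ _ : LinearOrder k, IsStrictOrderedRing k) ∧ ¬ (∃ _ : LinearOrder k', IsStrictOrderedRing k') := by
  obtain ⟨d, hd, hlt⟩ := hlt
  by_cases hgood : ℓ ≠ 2 ∨ ¬ ∃ _ : LinearOrder k, IsStrictOrderedRing k
  · obtain ⟨h1, h2⟩ := SerreCdLib.cdF_fg_extension t k' hfg ht hℓ hℓk hgood (CdFieldLib.cdK_of_at hd)
    rcases hlt with h | h
    · omega
    · exact absurd (CdFieldLib.cohDimLEAt_of_cdK hℓ h2) h
  push Not at hgood
  obtain ⟨rfl, hk⟩ := hgood
  refine ⟨rfl, hk, fun ⟨L, hL⟩ => ?_⟩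
  letI := L
  haveI := hL
  exact SerreCdLib.not_cdF_two k' d (CdFieldLib.cdK_of_at hd)

end Groth.Agent.S3483
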