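import Groth.Statements.S3484
import Groth.Agent.HensDvrCdLib.Upper
import Groth.Agent.HensDvrCdLib.WildLower
import Groth.Agent.HensDvrCdLib.Lower
import Groth.Agent.CdOneLib.CharP
-- import your own Groth.Agent.* helpers here

set_option autoImplicit false
universe u
open CategoryTheory CategoryTheory.Limits AlgebraicGeometry Opposite
open EtCd

namespace Groth.Agent.S3484

/-- Let R be a henselian discrete valuation ring with fraction field K and residue field k, and ℓ a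
prime. Assume either (i) ℓ is nonzero in k, or (ii) ℓ is nonzero in K, k is perfect and cd_ℓ(k) is
finite. Then cd_ℓ(K) = cd_ℓ(k) + 1: for every d, cd_ℓ(k) ≤ d if and only if cd_ℓ(K) ≤ d + 1, and
cd_ℓ(K) is not ≤ 0 (cd_ℓ meaning vanishing of etale cohomology of ℓ-primary torsion sheaves above
the given degree). -/
theorem result (R K : Type u) [CommRing R] [IsDomain R] [IsDiscreteValuationRing R]
    [HenselianLocalRing R] [Field K] [Algebra R K] [IsFractionRing R K] (ℓ : ℕ) (hℓ : ℓ.Prime)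
    (h : (ℓ : IsLocalRing.ResidueField R) ≠ 0 ∨
      ((ℓ : K) ≠ 0 ∧ PerfectField (IsLocalRing.ResidueField R) ∧
        ∃ d : ℕ, Dix.CohDimLEAt (Spec (CommRingCat.of (IsLocalRing.ResidueField R))) ℓ d)) :
    (∀ d : ℕ, Dix.CohDimLEAt (Spec (CommRingCat.of (IsLocalRing.ResidueField R))) ℓ d ↔
        Dix.CohDimLEAt (Spec (CommRingCat.of K)) ℓ (d + 1)) ∧
      ¬ Dix.CohDimLEAt (Spec (CommRingCat.of K)) ℓ 0 := by
  haveI : Fact ℓ.Prime := ⟨hℓ⟩
  obtain ⟨π, hπ⟩ := IsDiscreteValuationRing.exists_irreducible R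
  have hℓK : (ℓ : K) ≠ 0 := by
    rcases h with h | ⟨h, -⟩
    · have hu : IsUnit (ℓ : R) := (isUnit_map_iff (IsLocalRing.residue R) _).1 (by simpa using h)
      simpa using (hu.map (algebraMap R K)).ne_zero
    · exact h
  refine ⟨fun d => ?_, fun h0 => absurd (HensDvrCdLib.one_le_of_cdK R K hℓK 0 (CdFieldLib.cdK_of_at h0)) (by omega)⟩
  by_cases hk : (ℓ : IsLocalRing.ResidueField R) = 0
  · obtain ⟨-, hperf, -⟩ := h.resolve_left (not_not.2 hk)
    haveI : CharP (IsLocalRing.ResidueField R) ℓ := (CharP.charP_iff_prime_eq_zero hℓ).2 hk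
    refine ⟨fun hd => ?_, fun hd => ?_⟩
    · obtain ⟨R', _, _, _, _, _, φ, hφ, ⟨C⟩⟩ := HensDvrCdLib.exists_strict_perfect R π hπ
      obtain ⟨ψ, -, -⟩ := HensDvrCdLib.exists_square R K π hπ R' φ hφ
      have hℓ' : (ℓ : FractionRing R') ≠ 0 := by
        rw [← map_natCast ψ]; exact (map_ne_zero ψ).2 hℓK
      exact CdFieldLib.cohDimLEAt_of_cdK hℓ (HensDvrCdLib.cdK_generic_le R K hℓ.pos
        (fun G hG s => HensDvrCdLib.isZero_Rpush_two_of_cdK R K π hπ φ hφ C
          (HensDvrCdLib.cdK_frac_wild R' (FractionRing R') hℓ') G hG (s + 2) (by omega))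
        (CdFieldLib.cdK_of_at hd))
    · refine CdFieldLib.cohDimLEAt_of_cdK hℓ ?_
      rcases Nat.eq_zero_or_pos d with rfl | hd0
      · exact HensDvrCdLib.cdK_zero_residue R K hℓK (CdFieldLib.cdK_of_at hd)
      · intro F hF q hq
        refine subsingleton_of_forall_eq 0 fun x => ?_
        exact CdOneLib.eq_zero_of_hypP ℓ ((CdOneLib.hypP_two_of_charP _ ℓ).of_le (by omega) (by omega)) F
          (CdOneLib.isTorsion_of_nsmul_id ℓ hℓ.pos hF) x ⟨1, by rw [pow_one]; exact CdOneLib.nsmul_ext ℓ hF x⟩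
  · have hu : IsUnit (ℓ : R) := (isUnit_map_iff (IsLocalRing.residue R) _).1 (by simpa using hk)
    refine ⟨fun hd => ?_, fun hd => ?_⟩
    · obtain ⟨R', _, _, _, _, _, φ, hφ, ⟨C⟩⟩ := HensDvrCdLib.exists_strict R π hπ
      exact CdFieldLib.cohDimLEAt_of_cdK hℓ (HensDvrCdLib.cdK_generic_le R K hℓ.pos
        (fun G hG s => HensDvrCdLib.isZero_Rpush_two R K π hπ φ hφ C hℓ.pos hu G hG (s + 2) (by omega))
        (CdFieldLib.cdK_of_at hd))
    · exact CdFieldLib.cohDimLEAt_of_cdK hℓ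
        (HensDvrCdLib.cdK_residue R K hu (d + 1) (CdFieldLib.cdK_of_at hd)).2

end Groth.Agent.S3484
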