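import Groth.Statements.S3486
import Groth.Agent.SerreCdLib.Normal
import Groth.Agent.HensColimLib.Stage
-- import your own Groth.Agent.* helpers here

set_option autoImplicit false
universe u
open CategoryTheory CategoryTheory.Limits AlgebraicGeometry Opposite
open EtCd

namespace Groth.Agent.S3486

/-- Let A be a Noetherian henselian local ring of dimension 1 with residue field k, and ℓ a prime
invertible in A. The ring of rational functions of Spec A is the product of the local rings at the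
minimal primes P, whose ℓ-cohomological dimension is that of the fields Frac(A/P); the result: for
every minimal prime P, cd_ℓ(Frac(A/P)) ≤ cd_ℓ(k) + 1, and if ℓ ≠ 2 or k is not orderable then
cd_ℓ(Frac(A/P)) = cd_ℓ(k) + 1 exactly. -/
theorem result (A : Type u) [CommRing A] [IsNoetherianRing A] [HenselianLocalRing A]
    (hdim : ringKrullDim A = 1) (ℓ : ℕ) (hℓ : ℓ.Prime) (hℓA : IsUnit (ℓ : A))
    (P : Ideal A) (hP : P ∈ minimalPrimes A) :
    (∀ d : ℕ, Dix.CohDimLEAt (Spec (CommRingCat.of (IsLocalRing.ResidueField A))) ℓ d →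
        Dix.CohDimLEAt (Spec (CommRingCat.of (FractionRing (A ⧸ P)))) ℓ (d + 1)) ∧
    ((ℓ ≠ 2 ∨ ¬ ∃ _ : LinearOrder (IsLocalRing.ResidueField A), IsStrictOrderedRing (IsLocalRing.ResidueField A)) →
      (∀ d : ℕ, Dix.CohDimLEAt (Spec (CommRingCat.of (IsLocalRing.ResidueField A))) ℓ d ↔
          Dix.CohDimLEAt (Spec (CommRingCat.of (FractionRing (A ⧸ P)))) ℓ (d + 1)) ∧
        ¬ Dix.CohDimLEAt (Spec (CommRingCat.of (FractionRing (A ⧸ P)))) ℓ 0) := by
  haveI : Fact ℓ.Prime := ⟨hℓ⟩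
  haveI : P.IsPrime := hP.1.1
  haveI : HenselianLocalRing (A ⧸ P) :=
    HensColimLib.henselianLocalRing_of_surjective (Ideal.Quotient.mk P) Ideal.Quotient.mk_surjective
  haveI : IsLocalHom (Ideal.Quotient.mk P) := IsLocalHom.of_surjective _ Ideal.Quotient.mk_surjective
  have hsurj : Function.Surjective (IsLocalRing.ResidueField.map (Ideal.Quotient.mk P)) := fun y => by
    obtain ⟨b, rfl⟩ := IsLocalRing.residue_surjective y
    obtain ⟨a, rfl⟩ := Ideal.Quotient.mk_surjective b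
    exact ⟨IsLocalRing.residue A a, IsLocalRing.ResidueField.map_residue _ a⟩
  let er := RingEquiv.ofBijective (IsLocalRing.ResidueField.map (Ideal.Quotient.mk P))
    ⟨RingHom.injective _, hsurj⟩
  have hne : ¬ IsField (A ⧸ P) := fun h => by
    have hmax : P.IsMaximal := Ideal.Quotient.maximal_of_isField P h
    have he : P = IsLocalRing.maximalIdeal A := IsLocalRing.eq_maximalIdeal hmax
    have h0 := IsLocalRing.maximalIdeal_height_eq_ringKrullDim (R := A)
    rw [← he, Ideal.height_eq_zero_iff.2 hP, hdim] at h0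
    exact absurd h0 (by norm_num)
  have hlP : IsUnit (ℓ : A ⧸ P) := by simpa using hℓA.map (Ideal.Quotient.mk P)
  have hdimP : ringKrullDim (A ⧸ P) ≤ 1 :=
    hdim ▸ ringKrullDim_le_of_surjective _ Ideal.Quotient.mk_surjective
  refine ⟨fun d hd => CdFieldLib.cohDimLEAt_of_cdK hℓ (SerreCdLib.cdF_frac_dim_one (A ⧸ P) hdimP hne hℓ.pos hlP
    (SerreCdLib.cdF_of_ringEquiv er (CdFieldLib.cdK_of_at hd))), fun hord => ?_⟩
  have hge : ((1 : ℕ) : WithBot ℕ∞) ≤ ringKrullDim (A ⧸ P) := by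
    have hne' : IsLocalRing.maximalIdeal (A ⧸ P) ≠ ⊥ := fun h => hne ((IsLocalRing.isField_iff_maximalIdeal_eq).2 h)
    refine Order.le_krullDim_iff.2 ⟨RelSeries.cons (RelSeries.singleton _ (IsLocalRing.closedPoint (A ⧸ P)))
      ⟨⊥, Ideal.isPrime_bot⟩ ?_, rfl⟩
    exact (PrimeSpectrum.asIdeal_lt_asIdeal _ _).1 (bot_lt_iff_ne_bot.2 hne')
  have key : ∀ d, Dix.CohDimLEAt (Spec (CommRingCat.of (FractionRing (A ⧸ P)))) ℓ d →
      1 ≤ d ∧ SerreCdLib.CdF (IsLocalRing.ResidueField A) ℓ (d - 1) := fun d hd => by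
    obtain ⟨h1, h2⟩ := SerreCdLib.residue_domain (l := ℓ) d 1 (A ⧸ P) hlP
      (hord.imp id fun hn => SerreCdLib.not_orderable_of_algebra er.toRingHom hn) (FractionRing (A ⧸ P))
      (CdFieldLib.cdK_of_at hd) hge
    exact ⟨h1, SerreCdLib.cdF_of_ringEquiv er.symm h2⟩
  refine ⟨fun d => ⟨fun hd => CdFieldLib.cohDimLEAt_of_cdK hℓ (SerreCdLib.cdF_frac_dim_one (A ⧸ P) hdimP hne hℓ.pos hlP
    (SerreCdLib.cdF_of_ringEquiv er (CdFieldLib.cdK_of_at hd))), fun hd => ?_⟩, fun h0 => absurd (key 0 h0).1 (by norm_num)⟩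
  have h2 := (key (d + 1) hd).2
  rw [Nat.add_sub_cancel] at h2
  exact CdFieldLib.cohDimLEAt_of_cdK hℓ h2

end Groth.Agent.S3486
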