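import Groth.Statements.S3487
import Groth.Agent.SerreCdLib.Local
-- import your own Groth.Agent.* helpers here

set_option autoImplicit false
universe u
open CategoryTheory CategoryTheory.Limits AlgebraicGeometry Opposite
open EtCd

namespace Groth.Agent.S3487

/-- Let A be a Noetherian local ring with residue field k and ℓ a prime invertible in A; assume ℓ ≠ 2 or
that no residue field of Spec A is orderable. Then cd_ℓ(R(A)) ≥ cd_ℓ(k) + dim A, where R(A) is the
ring of rational functions of Spec A: if for some d the cohomology of ℓ-primary torsion sheaves on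
Spec Frac(A/P) vanishes above degree d for every minimal prime P, then dim A ≤ d and cd_ℓ(k) ≤ d -
dim A. -/
theorem result (A : Type u) [CommRing A] [IsNoetherianRing A] [IsLocalRing A]
    (ℓ : ℕ) (hℓ : ℓ.Prime) (hℓA : IsUnit (ℓ : A))
    (hord : ℓ ≠ 2 ∨ ∀ p : PrimeSpectrum A, ¬ ∃ _ : LinearOrder (FractionRing (A ⧸ p.asIdeal)),
      IsStrictOrderedRing (FractionRing (A ⧸ p.asIdeal)))
    (m : ℕ) (hm : ringKrullDim A = m) (d : ℕ)
    (hd : ∀ P ∈ minimalPrimes A, Dix.CohDimLEAt (Spec (CommRingCat.of (FractionRing (A ⧸ P)))) ℓ d) :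
    m ≤ d ∧ Dix.CohDimLEAt (Spec (CommRingCat.of (IsLocalRing.ResidueField A))) ℓ (d - m) := by
  haveI : Fact ℓ.Prime := ⟨hℓ⟩
  have hk : ℓ ≠ 2 ∨ ¬ ∃ _ : LinearOrder (IsLocalRing.ResidueField A), IsStrictOrderedRing (IsLocalRing.ResidueField A) := by
    refine hord.imp id fun h => ?_
    let p : PrimeSpectrum A := IsLocalRing.closedPoint A
    let g : A ⧸ p.asIdeal →+* IsLocalRing.ResidueField A := RingHom.id _
    exact SerreCdLib.not_orderable_of_algebra
      (IsFractionRing.lift (K := FractionRing (A ⧸ p.asIdeal)) (g := g) (fun a b e => e)) (h p)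
  obtain ⟨h1, h2⟩ := SerreCdLib.residue_local (l := ℓ) A hℓA hk m d hm.ge
    (fun P hP _ => CdFieldLib.cdK_of_at (hd P hP))
  exact ⟨h1, CdFieldLib.cohDimLEAt_of_cdK hℓ h2⟩

end Groth.Agent.S3487
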