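import Groth.Statements.S3489
import Groth.Agent.HensDvrCdLib.Scheme
import Groth.Agent.EtCdLocalLib.Main
import Groth.Agent.CdFieldLib.Field
-- import your own Groth.Agent.* helpers here

set_option autoImplicit false
universe u
open CategoryTheory CategoryTheory.Limits AlgebraicGeometry Opposite
open EtCd

namespace Groth.Agent.S3489

/-- Let X be a scheme of finite type over a field k, ℓ a prime nonzero in k, x a point of X and A a
strict henselization of the local ring of X at x. Then cd_ℓ(R(A)) = dim A, where R(A) is the product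
of the local rings of A at its minimal primes: for every d, the cohomology of ℓ-primary torsion
sheaves on Spec Frac(A/P) vanishes above degree d for all minimal primes P of A if and only if dim A
≤ d. -/
theorem result (k : Type u) [Field k] (X : Scheme.{u})
    (f : X ⟶ Spec (CommRingCat.of k)) [LocallyOfFiniteType f] [QuasiCompact f] (ℓ : ℕ) (hℓ : ℓ.Prime) (hℓk : (ℓ : k) ≠ 0)
    (x : X) (R : Type u) [CommRing R] [IsLocalRing R] [Algebra (X.presheaf.stalk x) R]
      [IsLocalHom (algebraMap (X.presheaf.stalk x) R)] [Hensel.IsStrictHenselization (X.presheaf.stalk x) R] (d : ℕ) :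
    (∀ P ∈ minimalPrimes R, Dix.CohDimLEAt (Spec (CommRingCat.of (FractionRing (R ⧸ P)))) ℓ d) ↔
      ringKrullDim R ≤ d := by
  haveI : Fact ℓ.Prime := ⟨hℓ⟩
  refine ⟨fun h => ?_, fun h P hP => ?_⟩
  · haveI : IsNoetherianRing (X.presheaf.stalk x) := by
      haveI : IsLocallyNoetherian X := LocallyOfFiniteType.isLocallyNoetherian f
      infer_instance
    haveI : IsNoetherianRing R := (Groth.Agent.S0540.result (X.presheaf.stalk x) R).1 inferInstance
    have h1 : IsUnit (ℓ : R) := by
      let φ : CommRingCat.of k ⟶ X.presheaf.stalk x :=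
        (Scheme.ΓSpecIso (CommRingCat.of k)).inv ≫ f.appTop ≫ X.presheaf.germ ⊤ x trivial
      have h2 := (IsUnit.mk0 _ hℓk).map ((algebraMap (X.presheaf.stalk x) R).comp φ.hom)
      simpa using h2
    exact HensDvrCdLib.ringKrullDim_le h1 d fun P hP _ => CdFieldLib.cdK_of_at (h P hP)
  · haveI : P.IsPrime := hP.1.1
    exact EtCdLocalLib.cohDimLEAt_frac
      (fun k' K _ _ _ _ n hn => CdFieldLib.cohDimLEAt_trdeg_sepClosed hℓ k' K hn) k f x R d h P

end Groth.Agent.S3489
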