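import Groth.Statements.S3490
import Groth.Agent.HensDvrCdLib.DvrBase
import Groth.Agent.HensDvrCdLib.Scheme
import Groth.Agent.LocAcycBCLib.Main
-- import your own Groth.Agent.* helpers here

set_option autoImplicit false
universe u
open CategoryTheory CategoryTheory.Limits AlgebraicGeometry Opposite
open EtCd

namespace Groth.Agent.S3490

/-- Case of a discrete valuation ring as base: let V be a discrete valuation ring, X a scheme of finite
type over Spec V, ℓ a prime invertible in V, x a point of X and A a strict henselization of the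
local ring of X at x. Then cd_ℓ(R(A)) = dim A in the sense of the field case: for every d, the
cohomology of ℓ-primary torsion sheaves on Spec Frac(A/P) vanishes above degree d for all minimal
primes P of A if and only if dim A ≤ d. -/
theorem result (V : Type u) [CommRing V] [IsDomain V] [IsDiscreteValuationRing V]
    (X : Scheme.{u}) (f : X ⟶ Spec (CommRingCat.of V)) [LocallyOfFiniteType f] [QuasiCompact f]
    (ℓ : ℕ) (hℓ : ℓ.Prime) (hℓV : IsUnit (ℓ : V))
    (x : X) (R : Type u) [CommRing R] [IsLocalRing R] [Algebra (X.presheaf.stalk x) R]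
      [IsLocalHom (algebraMap (X.presheaf.stalk x) R)] [Hensel.IsStrictHenselization (X.presheaf.stalk x) R] (d : ℕ) :
    (∀ P ∈ minimalPrimes R, Dix.CohDimLEAt (Spec (CommRingCat.of (FractionRing (R ⧸ P)))) ℓ d) ↔
      ringKrullDim R ≤ d := by
  haveI : Fact ℓ.Prime := ⟨hℓ⟩
  haveI hqcx : IsNoetherianRing (X.presheaf.stalk x) := by
    haveI : IsLocallyNoetherian X := LocallyOfFiniteType.isLocallyNoetherian f
    infer_instance
  haveI : IsNoetherianRing R := (Groth.Agent.S0540.result (X.presheaf.stalk x) R).1 inferInstance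
  have h1 : IsUnit (ℓ : R) := by
    let φ : CommRingCat.of V ⟶ X.presheaf.stalk x :=
      (Scheme.ΓSpecIso (CommRingCat.of V)).inv ≫ f.appTop ≫ X.presheaf.germ ⊤ x trivial
    have h2 := hℓV.map ((algebraMap (X.presheaf.stalk x) R).comp φ.hom)
    simpa using h2
  refine ⟨fun h => HensDvrCdLib.ringKrullDim_le h1 d fun P hP _ => CdFieldLib.cdK_of_at (h P hP), fun h P hP => ?_⟩
  haveI : P.IsPrime := hP.1.1
  by_cases hx : f.base x = ((IsLocalRing.closedPoint V : PrimeSpectrum V) : ↥(Spec (CommRingCat.of V)))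
  · obtain ⟨R', _, _, _, _, _, X', f', _, _, x', hcl, hx', algA, hlA, shA⟩ := Groth.Agent.S8543.result V f x hx R
    letI := algA
    haveI := hlA
    haveI := shA
    have hlR' : IsUnit (ℓ : R') := by
      let φ : CommRingCat.of R' ⟶ X'.presheaf.stalk x' :=
        (Scheme.ΓSpecIso (CommRingCat.of R')).inv ≫ f'.appTop ≫ X'.presheaf.germ ⊤ x' trivial
      have h2 : IsUnit (φ.hom (ℓ : R')) := by
        refine IsUnit.of_map (algebraMap (X'.presheaf.stalk x') R) _ ?_
        simpa using h1
      by_contra hnu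
      have h3 : x' ∈ X'.basicOpen (f'.appTop ((Scheme.ΓSpecIso (CommRingCat.of R')).inv (ℓ : R'))) :=
        (X'.mem_basicOpen_top (f'.appTop ((Scheme.ΓSpecIso (CommRingCat.of R')).inv (ℓ : R'))) x').2 h2
      rw [← Scheme.preimage_basicOpen_top, basicOpen_eq_of_affine] at h3
      have h4 : f'.base x' ∈ PrimeSpectrum.basicOpen (ℓ : R') := h3
      rw [hx'] at h4
      exact h4 ((IsLocalRing.mem_maximalIdeal _).2 hnu)
    exact CdFieldLib.cohDimLEAt_of_cdK hℓ (HensDvrCdLib.cdK_frac_closed R' hlR' f' x' hcl hx' R d h P)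
  · obtain ⟨ϖ, hϖ⟩ := IsDiscreteValuationRing.exists_irreducible V
    let K := FractionRing V
    haveI : IsLocalization.Away ϖ K := (IsLocalization.iff_of_le_of_exists_dvd (M := Submonoid.powers ϖ) (S := K)
      (nonZeroDivisors V) (powers_le_nonZeroDivisors_of_noZeroDivisors hϖ.ne_zero) fun n hn => by
        obtain ⟨k, u, rfl⟩ := IsDiscreteValuationRing.eq_unit_mul_pow_irreducible (nonZeroDivisors.ne_zero hn) hϖ
        exact ⟨ϖ ^ k, ⟨k, rfl⟩, (Units.mul_left_dvd).2 dvd_rfl⟩).2 inferInstance
    let g : Spec (CommRingCat.of K) ⟶ Spec (CommRingCat.of V) := Spec.map (CommRingCat.ofHom (algebraMap V K))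
    haveI : IsOpenImmersion g := IsOpenImmersion.of_isLocalization ϖ
    have hxr : f.base x ∈ Set.range g.base := by
      rw [show Set.range g.base = _ from PrimeSpectrum.localization_away_comap_range K ϖ]
      refine fun hm => hx (PrimeSpectrum.ext ?_)
      refine ((IsLocalRing.maximalIdeal.isMaximal V).eq_of_le (f.base x).isPrime.ne_top ?_).symm
      rw [hϖ.maximalIdeal_eq, Ideal.span_le, Set.singleton_subset_iff]
      exact hm
    obtain ⟨z, hz⟩ : x ∈ Set.range (pullback.fst f g).base := by
      rw [Scheme.Pullback.range_fst]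
      exact hxr
    subst hz
    let e : X.presheaf.stalk ((pullback.fst f g).base z) ≅ (pullback f g).presheaf.stalk z :=
      asIso ((pullback.fst f g).stalkMap z)
    obtain ⟨algz, hlz, shz, -⟩ := LocAcycBCLib.exists_sh_of_equiv e.symm.commRingCatIsoToRingEquiv R
    letI := algz
    haveI := hlz
    haveI := shz
    exact EtCdLocalLib.cohDimLEAt_frac
      (fun k' L _ _ _ _ n hn => CdFieldLib.cohDimLEAt_trdeg_sepClosed hℓ k' L hn) K (pullback.snd f g) z R d h P

end Groth.Agent.S3490
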