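import Groth.Statements.S3492
import Groth.Agent.EtCdPhiLib.Main
import Groth.Agent.TensorBranchLib.SHQuot
import Groth.Agent.S0541
import Groth.Agent.EquidimLib.DimBetween
-- import your own Groth.Agent.* helpers here

set_option autoImplicit false
universe u
open CategoryTheory CategoryTheory.Limits AlgebraicGeometry Opposite
open EtCd

namespace Groth.Agent.S3492
open CategoryTheory.Limits
theorem exists_dim {X : Scheme.{u}} [IsLocallyNoetherian X] {x y : X} (h : x ⤳ y) (R : Type u) [CommRing R] [IsLocalRing R]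
    [Algebra (X.presheaf.stalk y) R] [IsLocalHom (algebraMap (X.presheaf.stalk y) R)]
    [Hensel.IsStrictHenselization (X.presheaf.stalk y) R] :
    ringKrullDim (R ⧸ (RingHom.ker (Cyc.specMap y x h)).map (algebraMap (X.presheaf.stalk y) R)) =
      EquidimLib.dimBetween x y := by
  let I := RingHom.ker (Cyc.specMap y x h)
  let J := I.map (algebraMap (X.presheaf.stalk y) R)
  have hI : I ≠ ⊤ := RingHom.ker_ne_top _
  have hJ : J ≠ ⊤ := fun hJ => (IsLocalRing.maximalIdeal.isMaximal R).ne_top (top_le_iff.1 (hJ.ge.trans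
    ((Ideal.map_mono (IsLocalRing.le_maximalIdeal hI)).trans (IsLocalRing.map_maximalIdeal_le _))))
  haveI : Nontrivial (X.presheaf.stalk y ⧸ I) := Ideal.Quotient.nontrivial_iff.2 hI
  haveI : Nontrivial (R ⧸ J) := Ideal.Quotient.nontrivial_iff.2 hJ
  haveI : IsLocalRing (X.presheaf.stalk y ⧸ I) := IsLocalRing.of_surjective' (Ideal.Quotient.mk I) Ideal.Quotient.mk_surjective
  haveI : IsLocalRing (R ⧸ J) := IsLocalRing.of_surjective' (Ideal.Quotient.mk J) Ideal.Quotient.mk_surjective
  haveI : IsLocalHom (algebraMap (X.presheaf.stalk y ⧸ I) (R ⧸ J)) := ⟨fun a ha => by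
    obtain ⟨a, rfl⟩ := Ideal.Quotient.mk_surjective a
    refine IsUnit.map _ (IsUnit.of_map (algebraMap (X.presheaf.stalk y) R) a ?_)
    haveI : IsLocalHom (Ideal.Quotient.mk J) := IsLocalHom.of_surjective _ Ideal.Quotient.mk_surjective
    exact IsUnit.of_map (Ideal.Quotient.mk J) _ ha⟩
  haveI := TensorBranchLib.isStrictHenselization_quotient (A := X.presheaf.stalk y) (S := R) I
  rw [← CycDivLib.dim_locQuot h]
  exact Groth.Agent.S0541.result (X.presheaf.stalk y ⧸ I) (R ⧸ J)



/-- Let X be a Noetherian scheme, ℓ a prime and n a natural number such that (i) for every point y of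
codimension c (dimension of the local ring) one has 2c ≤ n and cd_ℓ(κ(y)) ≤ n - 2c, and (ii) for all
points x, y with y in the closure of x and every strict henselization R of the local ring at y,
putting A = R / p_x R (a strict localization of the closure of x with its reduced structure),
cd_ℓ(Frac(R/P)) ≤ dim A for every prime P of R minimal over p_x R. Then for every ℓ-primary torsion
abelian sheaf F whose geometric stalks vanish at all points of codimension < s, H^q(X, F) = 0 for q
> n - 2s; in particular (s = 0) cd_ℓ(X) ≤ n. -/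
theorem result (X : Scheme.{u}) [IsNoetherian X] (ℓ : ℕ) (hℓ : ℓ.Prime) (n : ℕ)
    (h1 : ∀ (y : X) (c : ℕ), ringKrullDim (X.presheaf.stalk y) = c →
      2 * c ≤ n ∧ Dix.CohDimLEAt (Spec (X.residueField y)) ℓ (n - 2 * c))
    (h2 : ∀ (x y : X) (hxy : x ⤳ y), ∀ (R : Type u) [CommRing R] [IsLocalRing R] [Algebra (X.presheaf.stalk y) R]
      [IsLocalHom (algebraMap (X.presheaf.stalk y) R)] [Hensel.IsStrictHenselization (X.presheaf.stalk y) R],
      ∀ P ∈ ((RingHom.ker (Cyc.specMap y x hxy)).map (algebraMap (X.presheaf.stalk y) R)).minimalPrimes,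
        ∀ e : ℕ, ringKrullDim (R ⧸ (RingHom.ker (Cyc.specMap y x hxy)).map (algebraMap (X.presheaf.stalk y) R)) = e →
          Dix.CohDimLEAt (Spec (CommRingCat.of (FractionRing (R ⧸ P)))) ℓ e)
    (s : ℕ) (F : EtCoh.Ab X) (hF : Dix.IsPrimaryTorsion ℓ F)
    (hs : ∀ y ∈ EtPBC.supp F, (s : WithBot ℕ∞) ≤ ringKrullDim (X.presheaf.stalk y))
    (q : ℕ) (hq : n < q + 2 * s) :
    Subsingleton (EtCoh.H X F q) := by
  choose c hc using fun x : X => EquidimLib.exists_stalk_dim_eq_nat x
  refine EtCdPhiLib.subsingleton_H (φ := fun x => n - 2 * c x) ⟨fun x => (h1 x (c x) (hc x)).2,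
    fun x y hxy hne R _ _ _ _ _ P hP => ?_⟩ hℓ F hF q fun y hy => ?_
  · obtain ⟨e, he⟩ := EquidimLib.exists_dimBetween_eq_nat hxy
    refine ⟨e, ?_, h2 x y hxy R P hP e ((exists_dim hxy R).trans he)⟩
    have h3 := EquidimLib.stalk_dim_add_le hxy
    rw [hc, hc, he] at h3
    have h4 := EquidimLib.one_le_dimBetween hxy hne
    rw [he] at h4
    have h3' : c x + e ≤ c y := by exact_mod_cast h3
    have h4' : 1 ≤ e := by exact_mod_cast h4
    have h5 := (h1 y (c y) (hc y)).1
    omega
  · have h6 := hs y hy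
    rw [hc] at h6
    have h6' : s ≤ c y := by exact_mod_cast h6
    have h5 := (h1 y (c y) (hc y)).1
    omega


end Groth.Agent.S3492
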