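import Groth.Statements.S3498
import Groth.Agent.EtArtinLib.Local
-- import your own Groth.Agent.* helpers here

set_option autoImplicit false
universe u
open CategoryTheory CategoryTheory.Limits AlgebraicGeometry Opposite
open EtCd

namespace Groth.Agent.S3498
open CategoryTheory.Limits


/-- Let Y be a scheme locally of finite type over a field k, y a point of Y, R a strict henselization of
the local ring of Y at y with dim R ≤ d, and U an affine open subscheme of Spec R. Then cd(U) ≤ d:
the etale cohomology of every torsion abelian sheaf on U vanishes above degree d. -/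
theorem result (k : Type u) [Field k] (Y : Scheme.{u})
    (g : Y ⟶ Spec (CommRingCat.of k)) [LocallyOfFiniteType g] (y : Y)
    (R : Type u) [CommRing R] [IsLocalRing R] [Algebra (Y.presheaf.stalk y) R]
    [IsLocalHom (algebraMap (Y.presheaf.stalk y) R)] [Hensel.IsStrictHenselization (Y.presheaf.stalk y) R]
    (d : ℕ) (hd : ringKrullDim R ≤ d) (U : (Spec (CommRingCat.of R)).Opens) (hU : IsAffineOpen U) :
    EtCoh.CohDimLE (U : Scheme.{u}) d := by
  intro F hF q hq
  have hS : Hensel.IsStrictHenselization (Y.presheaf.stalk y) R := inferInstance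
  haveI : IsLocallyNoetherian Y := LocallyOfFiniteType.isLocallyNoetherian g
  haveI : IsNoetherianRing R := (Groth.Agent.S0540.result (Y.presheaf.stalk y) R).1 inferInstance
  haveI : IsAffine (U : Scheme.{u}) := hU
  haveI : IsAffineHom U.ι := isAffineHom_of_isAffine _
  refine EtArtinLib.subsingleton_H_strictLocal g y R U.ι F hF d (fun x _ => ⟨d, 0, ?_, ?_, by omega⟩) q hq
  · exact (ringKrullDim_le_of_surjective (Ideal.Quotient.mk _) Ideal.Quotient.mk_surjective).trans hd
  · rw [CycPushLib.trdeg_preimmersion_left U.ι x, Nat.cast_zero]


end Groth.Agent.S3498
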