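import Groth.Statements.S3507
import Groth.Agent.EtSmAcycLib.LineHens

set_option autoImplicit false
set_option backward.isDefEq.respectTransparency false
set_option backward.isDefEq.respectTransparency.types false
set_option maxHeartbeats 1000000
set_option synthInstance.maxHeartbeats 400000
universe u
open CategoryTheory CategoryTheory.Limits AlgebraicGeometry Opposite
open EtAcyc

namespace Groth.Agent.S3507

open scoped TensorProduct in
theorem aux (A : Type u) [CommRing A] [HenselianLocalRing A] (B : Type u) [CommRing B] [HenselianLocalRing B]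
    [Algebra A B] [IsLocalHom (algebraMap A B)] [Algebra (Polynomial A) B] [IsScalarTower A (Polynomial A) B]
    [Algebra.WeaklyEtale (Polynomial A) B]
    (hres : Function.Surjective (IsLocalRing.ResidueField.map (algebraMap A B)))
    (Ω : Type u) [Field Ω] [IsSepClosed Ω] (g : Spec (CommRingCat.of Ω) ⟶ Spec (CommRingCat.of A)) :
    Nonempty ↥(pullback (Spec.map (CommRingCat.ofHom (algebraMap A B))) g) ∧
    ConnectedSpace ↥(pullback (Spec.map (CommRingCat.ofHom (algebraMap A B))) g) ∧
    ∀ ℓ : ℕ, ℓ.Prime → IsUnit (ℓ : A) → ∀ q : ℕ, 1 ≤ q →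
      Subsingleton (EtCoh.H (pullback (Spec.map (CommRingCat.ofHom (algebraMap A B))) g)
        (EtCoh.const (pullback (Spec.map (CommRingCat.ofHom (algebraMap A B))) g) (ZMod ℓ)) q) := by
  obtain ⟨A', cA', lA', aA', hlA', hA'⟩ := Groth.Agent.S0537.result A
  haveI := hlA'
  haveI := hA'
  haveI := hA'.henselian
  haveI := hA'.isSepClosure.sep_closed
  obtain ⟨hloc, hhens, hsep, hlh⟩ := EtSmAcycLib.baseChange_strict A A' B hres
  haveI := hloc
  letI : Algebra A' (B ⊗[A] A') := Algebra.TensorProduct.rightAlgebra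
  haveI := hhens
  haveI := hsep
  haveI := hlh
  haveI : Algebra.WeaklyEtale A A' := Groth.Agent.S0736.result _ _ (Groth.Agent.S12237.result A A')
  let RX := B ⊗[A] A'
  let ψ : Polynomial A' →+* RX :=
    Polynomial.eval₂RingHom (algebraMap A' RX) (algebraMap (Polynomial A) B Polynomial.X ⊗ₜ 1)
  letI : Algebra (Polynomial A') RX := ψ.toAlgebra
  haveI : IsScalarTower A' (Polynomial A') RX := IsScalarTower.of_algebraMap_eq fun r => (Polynomial.eval₂_C _ _).symm
  let inB : CommRingCat.of B ⟶ CommRingCat.of RX := CommRingCat.ofHom Algebra.TensorProduct.includeLeftRingHom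
  have hψ : CommRingCat.ofHom (Polynomial.mapRingHom (algebraMap A A')) ≫ CommRingCat.ofHom ψ =
      CommRingCat.ofHom (algebraMap (Polynomial A) B) ≫ inB := by
    ext1
    refine Polynomial.ringHom_ext (fun r => ?_) ?_
    · show ψ ((Polynomial.C r).map (algebraMap A A')) = algebraMap (Polynomial A) B (Polynomial.C r) ⊗ₜ[A] (1 : A')
      rw [Polynomial.map_C, show algebraMap (Polynomial A) B (Polynomial.C r) = algebraMap A B r from
        (IsScalarTower.algebraMap_apply A (Polynomial A) B r).symm, Algebra.TensorProduct.tmul_one_eq_one_tmul]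
      exact Polynomial.eval₂_C _ _
    · show ψ ((Polynomial.X : Polynomial A).map (algebraMap A A')) = _
      rw [Polynomial.map_X]
      exact Polynomial.eval₂_X _ _
  have sqB : IsPullback (Spec.map (CommRingCat.ofHom (algebraMap A' RX))) (Spec.map inB)
      (Spec.map (CommRingCat.ofHom (algebraMap A A'))) (Spec.map (CommRingCat.ofHom (algebraMap A B))) :=
    (isPullback_SpecMap_of_isPushout _ _ _ _ (CommRingCat.isPushout_tensorProduct A B A')).flip
  haveI : Algebra.WeaklyEtale (Polynomial A') RX := by
    refine EtAcycFibLib.weaklyEtale_ring ?_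
    haveI := EtProperH0Lib.weaklyEtale_spec A A'
    haveI := EtProperH0Lib.weaklyEtale_spec (Polynomial A) B
    haveI : WeaklyEtale (Spec.map inB) := MorphismProperty.of_isPullback sqB inferInstance
    haveI : WeaklyEtale (Spec.map (CommRingCat.ofHom (Polynomial.mapRingHom (algebraMap A A')))) :=
      MorphismProperty.of_isPullback
        (isPullback_SpecMap_of_isPushout _ _ _ _ (EtSmAcycLib.isPushout_mapPoly (algebraMap A A'))).flip inferInstance
    haveI : WeaklyEtale (Spec.map (CommRingCat.ofHom ψ) ≫
        Spec.map (CommRingCat.ofHom (Polynomial.mapRingHom (algebraMap A A')))) := by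
      rw [← Spec.map_comp, hψ, Spec.map_comp]; infer_instance
    exact WeaklyEtale.of_comp (Spec.map (CommRingCat.ofHom ψ))
      (Spec.map (CommRingCat.ofHom (Polynomial.mapRingHom (algebraMap A A'))))
  obtain ⟨φ₀, hφ₀⟩ : ∃ φ₀ : CommRingCat.of A ⟶ CommRingCat.of Ω, Spec.map φ₀ = g :=
    ⟨Spec.preimage g, Spec.map_preimage g⟩
  obtain ⟨φ', hφ'⟩ := EtSmAcycLib.exists_lift_sepClosed A' Ω φ₀.hom
  letI : Algebra A' Ω := φ'.toAlgebra
  have hg : Spec.map (CommRingCat.ofHom (algebraMap A' Ω)) ≫ Spec.map (CommRingCat.ofHom (algebraMap A A')) = g := by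
    rw [← Spec.map_comp, ← CommRingCat.ofHom_comp, ← hφ₀]
    exact congrArg Spec.map (CommRingCat.hom_ext hφ')
  have sq : IsPullback (EtSmAcycLib.qR A' RX Ω ≫ Spec.map inB) (EtSmAcycLib.qΩ A' RX Ω)
      (Spec.map (CommRingCat.ofHom (algebraMap A B))) g := by
    rw [← hg]
    exact (EtSmAcycLib.isPullback_gFib A' RX Ω).flip.paste_horiz sqB.flip
  let e := sq.isoPullback
  haveI := EtSmAcycLib.connectedSpace_gFib A' Ω RX
  haveI hc : ConnectedSpace ↥(pullback (Spec.map (CommRingCat.ofHom (algebraMap A B))) g) :=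
    e.hom.homeomorph.connectedSpace_iff.mp inferInstance
  refine ⟨inferInstance, hc, fun ℓ hℓp hℓ q hq => ?_⟩
  have hu : IsUnit (ℓ : A') := by simpa using hℓ.map (algebraMap A A')
  haveI := EtSmAcycLib.subsingleton_gFib A' Ω RX ℓ hℓp hu q hq
  haveI : Subsingleton (EtCoh.H (pullback (Spec.map (CommRingCat.ofHom (algebraMap A B))) g)
      ((EtCoh.pull e.inv).obj (EtCoh.const (EtSmAcycLib.gFib A' RX Ω) (ZMod ℓ))) q) := by
    haveI := EtSliceLib.pullExact e.inv
    exact (EtPBCProperLib.bijective_of_iso e.inv (EtCoh.const (EtSmAcycLib.gFib A' RX Ω) (ZMod ℓ)) q).2.subsingleton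
  exact (EtAcycLib.bijective_mk₀_iso_postcomp (EtCore.pullConst e.inv (ZMod ℓ)) q).2.subsingleton



/-- Let A be a henselian local ring with residue characteristic p, let P be the ideal of A[t] generated
by the maximal ideal of A and t, and let B = A{t} be a henselization of the local ring A[t]_P. Then
every geometric fibre of Spec A{t} → Spec A (at any separably closed field over a residue field of
Spec A) is an n-acyclic scheme for every n and for the set L of primes different from p: it is
nonempty, connected, and H^q(-, Z/ℓ) = 0 for all ℓ ∈ L and q ≥ 1. -/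
theorem result (A : Type u) [CommRing A] [HenselianLocalRing A]
    (P : Ideal (Polynomial A)) (hP : P = (IsLocalRing.maximalIdeal A).map Polynomial.C ⊔ Ideal.span {Polynomial.X})
    [P.IsPrime] (B : Type u) [CommRing B] [IsLocalRing B] [Algebra (Localization.AtPrime P) B]
    [IsLocalHom (algebraMap (Localization.AtPrime P) B)] [Hensel.IsHenselization (Localization.AtPrime P) B]
    (φ : A →+* B) (hφ : φ = (algebraMap (Localization.AtPrime P) B).comp
      ((algebraMap (Polynomial A) (Localization.AtPrime P)).comp Polynomial.C)) (n : ℕ)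
    (y : Spec (CommRingCat.of A)) (Ω : Type u) [Field Ω] [IsSepClosed Ω]
    [Algebra ((Spec (CommRingCat.of A)).residueField y) Ω] :
    EtAcyc.IsAcyclicSchemeN {ℓ | ℓ.Prime ∧ (ℓ : IsLocalRing.ResidueField A) ≠ 0} n
      (pullback (Spec.map (CommRingCat.ofHom φ)) (EtAcyc.geomPt (Spec (CommRingCat.of A)) y Ω)) := by
  let Loc := Localization.AtPrime P
  haveI hB : HenselianLocalRing B := Hensel.IsHenselization.henselian (R := Loc)
  letI : Algebra (Polynomial A) B := ((algebraMap Loc B).comp (algebraMap (Polynomial A) Loc)).toAlgebra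
  letI : Algebra A B := φ.toAlgebra
  haveI : IsScalarTower (Polynomial A) Loc B := IsScalarTower.of_algebraMap_eq fun _ => rfl
  haveI : IsScalarTower A (Polynomial A) B := IsScalarTower.of_algebraMap_eq fun r => by
    show φ r = _
    rw [hφ]
    rfl
  haveI : Algebra.WeaklyEtale (Polynomial A) B :=
    haveI : Algebra.WeaklyEtale (Polynomial A) Loc := EtRpushStalkLib.weaklyEtale_localization P.primeCompl Loc
    haveI : Algebra.WeaklyEtale Loc B := Groth.Agent.S0736.result _ _ (Groth.Agent.S12236.result Loc B)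
    Algebra.WeaklyEtale.trans (Polynomial A) Loc B
  have hCP : ∀ a ∈ IsLocalRing.maximalIdeal A, Polynomial.C a ∈ P := fun a ha =>
    hP ▸ Ideal.mem_sup_left (Ideal.mem_map_of_mem _ ha)
  have hXP : (Polynomial.X : Polynomial A) ∈ P := hP ▸ Ideal.mem_sup_right (Ideal.subset_span rfl)
  have hmem : ∀ p : Polynomial A, p - Polynomial.C (p.coeff 0) ∈ P := fun p => by
    refine Ideal.mem_of_dvd P ?_ hXP
    exact Polynomial.X_dvd_sub_C
  haveI : IsLocalHom (algebraMap A B) := ⟨fun a ha => by
    by_contra h
    have h1 : Polynomial.C a ∈ P := hCP a h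
    have h2 : IsUnit (algebraMap (Polynomial A) Loc (Polynomial.C a)) := by
      refine (isUnit_map_iff (algebraMap Loc B) _).1 ?_
      rwa [show φ.toAlgebra.algebraMap = φ from rfl, hφ] at ha
    exact (IsLocalization.AtPrime.isUnit_to_map_iff Loc P _).1 h2 h1⟩
  have key : ∀ p : Polynomial A, IsLocalRing.residue B (algebraMap (Polynomial A) B p) =
      IsLocalRing.residue B (algebraMap A B (p.coeff 0)) := fun p => by
    rw [IsScalarTower.algebraMap_apply A (Polynomial A) B (p.coeff 0), ← sub_eq_zero, ← map_sub, ← map_sub,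
      IsLocalRing.residue_eq_zero_iff]
    exact map_nonunit (algebraMap Loc B) _
      ((IsLocalization.AtPrime.to_map_mem_maximal_iff Loc P _).2 (hmem p))
  have hres : Function.Surjective (IsLocalRing.ResidueField.map (algebraMap A B)) := by
    intro z
    obtain ⟨z', rfl⟩ := (Groth.Agent.S0508.result Loc B).2 z
    obtain ⟨w, rfl⟩ := IsLocalRing.residue_surjective z'
    rw [IsLocalRing.ResidueField.map_residue]
    obtain ⟨p, s, rfl⟩ := IsLocalization.exists_mk'_eq P.primeCompl w
    have hs : IsUnit ((s : Polynomial A).coeff 0) := by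
      by_contra h
      refine s.2 ?_
      have := P.add_mem (hmem s) (hCP _ h)
      simpa using this
    refine ⟨IsLocalRing.residue A (p.coeff 0 * hs.unit⁻¹), ?_⟩
    rw [IsLocalRing.ResidueField.map_residue]
    have hmk := congrArg (fun t => IsLocalRing.residue B (algebraMap Loc B t)) (IsLocalization.mk'_spec Loc p s)
    simp only [map_mul, ← IsScalarTower.algebraMap_apply (Polynomial A) Loc B, key] at hmk
    have hu : IsLocalRing.residue B (algebraMap A B ((s : Polynomial A).coeff 0)) ≠ 0 :=
      ((hs.map (algebraMap A B)).map (IsLocalRing.residue B)).ne_zero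
    refine mul_right_cancel₀ hu (Eq.trans ?_ hmk.symm)
    rw [← map_mul, ← map_mul, mul_assoc, IsUnit.val_inv_mul, mul_one]
  obtain ⟨h1, h2, h3⟩ := aux A B hres Ω (EtAcyc.geomPt (Spec (CommRingCat.of A)) y Ω)
  refine ⟨h1, h2, fun ℓ hℓp hℓL q hq _ => h3 ℓ hℓp ?_ q hq⟩
  by_contra hu
  refine hℓL.2 ?_
  rw [← map_natCast (IsLocalRing.residue A), IsLocalRing.residue_eq_zero_iff]
  exact hu

end Groth.Agent.S3507
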