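import Groth.Statements.S3508
import Groth.Agent.EtShLib.GenerateKilled
-- import your own Groth.Agent.* helpers here

set_option autoImplicit false
universe u
open CategoryTheory CategoryTheory.Limits AlgebraicGeometry Opposite
set_option backward.isDefEq.respectTransparency false
open EtCd

namespace Groth.Agent.S3508

/-- Let X be a quasi-compact and quasi-separated scheme. An abelian sheaf F on the small etale site of X
is constructible if and only if it is isomorphic to the cokernel of a morphism ⨁_j j_{V_j !} Z/m_j →
⨁_i j_{U_i !} Z/n_i for finite families of affine etale X-schemes U_i, V_j (the source first states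
it with quasi-compact quasi-separated objects and then notes that U_i, V_j may even be taken affine)
and positive integers n_i, m_j (j_! the extension by zero of the constant sheaf). -/
theorem result (X : Scheme.{u}) [CompactSpace X] [QuasiSeparatedSpace X]
    (F : EtCoh.Ab X) :
    EtPBC.IsConstructible F ↔
      ∃ (a b : ℕ) (U : Fin a → X.Etale) (V : Fin b → X.Etale) (n : Fin a → ℕ) (m : Fin b → ℕ),
        (∀ i, 0 < n i ∧ IsAffine (U i).left) ∧ (∀ j, 0 < m j ∧ IsAffine (V j).left) ∧
        ∃ φ : (⨁ fun j => EtPBC.extZeroConst (V j) (ZMod (m j))) ⟶ (⨁ fun i => EtPBC.extZeroConst (U i) (ZMod (n i))),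
          Nonempty (F ≅ cokernel φ) := by
  constructor
  · intro hF
    have h := (Groth.Agent.EtShLib.isConstructible_iff F).1 hF
    refine Groth.Agent.EtShLib.exists_presentation h (Groth.Agent.EtShLib.torsionBy_of_isCons h) (fun m hm => hm) ?_
    intro a U n hn Ω _ _ ξ p
    refine ⟨∏ i, n i, Finset.prod_pos fun i _ => hn i, ?_⟩
    have h0 : (∏ i, n i) • 𝟙 (⨁ fun i => EtPBC.extZeroConst (U i) (ZMod (n i))) = 0 := by
      refine biproduct.hom_ext' _ _ fun i => ?_
      obtain ⟨k, hk⟩ := Finset.dvd_prod_of_mem n (Finset.mem_univ i)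
      rw [comp_zero, Preadditive.comp_nsmul, Category.comp_id, ← Category.id_comp (biproduct.ι _ i),
        ← Preadditive.nsmul_comp, hk, mul_comm, mul_nsmul', Groth.Agent.EtShLib.nsmul_id_extConst, smul_zero,
        zero_comp]
    have e : (Groth.Agent.EtShLib.stk (A := AddCommGrpCat.{u + 1}) ξ).map
        ((∏ i, n i) • 𝟙 (⨁ fun i => EtPBC.extZeroConst (U i) (ZMod (n i))))
        p = 0 := by
      rw [h0, Functor.map_zero]; rfl
    rw [Functor.map_nsmul, CategoryTheory.Functor.map_id] at e
    exact e
  · rintro ⟨a, b, U, V, n, m, hn, hm, φ, ⟨e⟩⟩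
    haveI : ∀ i, Finite (ZMod (n i)) := fun i => haveI : NeZero (n i) := ⟨(hn i).1.ne'⟩; inferInstance
    haveI : ∀ j, Finite (ZMod (m j)) := fun j => haveI : NeZero (m j) := ⟨(hm j).1.ne'⟩; inferInstance
    haveI : ∀ i, CompactSpace (U i).left := fun i => haveI := (hn i).2; inferInstance
    haveI : ∀ i, QuasiSeparatedSpace (U i).left := fun i => haveI := (hn i).2; inferInstance
    haveI : ∀ j, CompactSpace (V j).left := fun j => haveI := (hm j).2; inferInstance
    haveI : ∀ j, QuasiSeparatedSpace (V j).left := fun j => haveI := (hm j).2; inferInstance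
    refine (Groth.Agent.EtShLib.isConstructible_iff F).2 (Groth.Agent.EtShLib.IsCons.of_hom ?_ e.inv)
    exact Groth.Agent.EtShLib.cons_cokernel φ
      (Groth.Agent.EtShLib.isCons_biproduct _ fun j => Groth.Agent.EtShLib.isCons_extConst _ _)
      (Groth.Agent.EtShLib.isCons_biproduct _ fun i => Groth.Agent.EtShLib.isCons_extConst _ _)

end Groth.Agent.S3508
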