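import Groth.Statements.S3509
import Groth.Agent.SerreCdLib.Dim
-- import your own Groth.Agent.* helpers here

set_option autoImplicit false
universe u
open CategoryTheory CategoryTheory.Limits AlgebraicGeometry Opposite
open EtCd

namespace Groth.Agent.S3509

/-- Let X be a Noetherian scheme of dimension at most m and ℓ a prime invertible on X; assume that for
all points x, y with y in the closure of x, every strict henselization R of the local ring at y and
every prime P of R minimal over p_x R one has cd_ℓ(Frac(R/P)) ≤ dim(R/p_x R), and that ℓ ≠ 2 or no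
residue field of X is orderable. Then cd_ℓ(X) ≤ cd_ℓ(R(X)) + dim X: if cd_ℓ(κ(η)) ≤ c for every
maximal point η of X, then the etale cohomology of every ℓ-primary torsion abelian sheaf on X
vanishes above degree c + m. -/
theorem result (X : Scheme.{u}) [IsNoetherian X] (m : ℕ) (hm : topologicalKrullDim X ≤ m)
    (ℓ : ℕ) (hℓ : ℓ.Prime) (hℓX : Dix.InvertibleOn X ℓ)
    (h2 : ∀ (x y : X) (hxy : x ⤳ y), ∀ (R : Type u) [CommRing R] [IsLocalRing R] [Algebra (X.presheaf.stalk y) R]
    [IsLocalHom (algebraMap (X.presheaf.stalk y) R)] [Hensel.IsStrictHenselization (X.presheaf.stalk y) R],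
      ∀ P ∈ ((RingHom.ker (Cyc.specMap y x hxy)).map (algebraMap (X.presheaf.stalk y) R)).minimalPrimes,
        ∀ e : ℕ, ringKrullDim (R ⧸ (RingHom.ker (Cyc.specMap y x hxy)).map (algebraMap (X.presheaf.stalk y) R)) = e →
          Dix.CohDimLEAt (Spec (CommRingCat.of (FractionRing (R ⧸ P)))) ℓ e)
    (hord : ℓ ≠ 2 ∨ ∀ x : X, ¬ ∃ _ : LinearOrder (X.residueField x), IsStrictOrderedRing (X.residueField x))
    (c : ℕ) (hc : ∀ x : X, closure {x} ∈ irreducibleComponents (X : Type u) →
      Dix.CohDimLEAt (Spec (X.residueField x)) ℓ c) :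
    Dix.CohDimLEAt X ℓ (c + m) := by
  refine SerreCdLib.cohDimLEAt_generic_add_dim hℓ hℓX hm ?_
    (fun x => hord.imp id fun h => h x) c hc
  intro x y hxy δ hδ R _ _ _ _ _ P hP
  refine h2 x y hxy R P hP δ ?_
  let A := X.presheaf.stalk y
  let I₀ := RingHom.ker (Cyc.specMap y x hxy)
  let J := I₀.map (algebraMap A R)
  have hJ : J ≠ ⊤ := ne_top_of_le_ne_top hP.1.1.ne_top hP.1.2
  haveI : I₀.IsPrime := RingHom.ker_isPrime _
  haveI : Nontrivial (A ⧸ I₀) := Ideal.Quotient.nontrivial_iff.2 (Ideal.IsPrime.ne_top ‹_›)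
  haveI : Nontrivial (R ⧸ J) := Ideal.Quotient.nontrivial_iff.2 hJ
  haveI : IsLocalRing (A ⧸ I₀) := IsLocalRing.of_surjective' _ Ideal.Quotient.mk_surjective
  haveI : IsLocalRing (R ⧸ J) := IsLocalRing.of_surjective' _ Ideal.Quotient.mk_surjective
  haveI : IsLocalHom (algebraMap (A ⧸ I₀) (R ⧸ J)) := ⟨fun a ha => by
    obtain ⟨a, rfl⟩ := Ideal.Quotient.mk_surjective a
    haveI : IsLocalHom (Ideal.Quotient.mk J) := IsLocalHom.of_surjective _ Ideal.Quotient.mk_surjective
    have h1 : IsUnit (Ideal.Quotient.mk J (algebraMap A R a)) := ha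
    exact ((IsUnit.of_map (algebraMap A R) a (IsUnit.of_map (Ideal.Quotient.mk J) _ h1)).map (Ideal.Quotient.mk I₀))⟩
  haveI := TensorBranchLib.isStrictHenselization_quotient (A := A) (S := R) I₀
  show ringKrullDim (R ⧸ J) = (δ : WithBot ℕ∞)
  rw [Groth.Agent.S0541.result (A ⧸ I₀) (R ⧸ J)]
  exact (CycDivLib.dim_locQuot hxy).trans hδ

end Groth.Agent.S3509
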