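import Groth.Statements.S3511
import Groth.Agent.CovDevLib.Lqf
import Groth.Agent.S8534

set_option autoImplicit false
universe u
open CategoryTheory CategoryTheory.Limits AlgebraicGeometry Opposite
open EtAcyc

namespace Groth.Agent.S3511

/-- Let g : X → Y be quasi-compact and quasi-separated, L a set of primes containing at least one prime,
and n a natural number. (The published statement does not ask that L contain a prime; with L empty
the equivalence fails, e.g. for the empty scheme over a field, so that hypothesis is added here.)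
Then g is n-acyclic for L if and only if g is surjective and, for every locally quasi-finite
morphism (locally of finite type with discrete fibres) Y' → Y with base change g' : X' = X ×_Y Y' →
Y', every prime ℓ ∈ L and every ν ≥ 1, the pullback map H^q(Y', Z/ℓ^ν) → H^q(X', g'⁻¹(Z/ℓ^ν)) is
surjective for 0 ≤ q ≤ n. -/
theorem result {X Y : Scheme.{u}} (g : X ⟶ Y)
    [QuasiCompact g] [QuasiSeparated g] (L : Set ℕ) (hL : ∃ ℓ ∈ L, ℓ.Prime) (n : ℕ) :
    EtAcyc.IsAcyclicN g L n ↔
      Function.Surjective g.base ∧
        ∀ (Y' : Scheme.{u}) (i : Y' ⟶ Y) [LocallyQuasiFinite i] [LocallyOfFiniteType i] (ℓ : ℕ), ℓ.Prime → ℓ ∈ L →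
          ∀ (ν : ℕ), 1 ≤ ν → ∀ [PreservesFiniteLimits (EtCoh.pull (pullback.snd g i))] (q : ℕ), q ≤ n →
            Function.Surjective (EtCore.Hpull (pullback.snd g i) (EtCoh.const Y' (ZMod (ℓ ^ ν))) q) := by
  refine ⟨fun hg => ⟨fun y => ?_, ?_⟩, fun ⟨hs, H⟩ => ?_⟩
  · obtain ⟨⟨z⟩, -, -⟩ := Groth.Agent.S8534.result g L hL n hg y (SeparableClosure (Y.residueField y))
    refine ⟨(pullback.fst g (EtAcyc.geomPt Y y (SeparableClosure (Y.residueField y)))).base z, ?_⟩
    have h1 := congrArg (fun t : pullback g (EtAcyc.geomPt Y y (SeparableClosure (Y.residueField y))) ⟶ Y => t.base z)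
      (pullback.condition (f := g) (g := EtAcyc.geomPt Y y (SeparableClosure (Y.residueField y))))
    refine h1.trans ?_
    exact Scheme.fromSpecResidueField_apply y _
  · intro Y' i _ _ ℓ hℓ hL ν _ _ q hq
    exact (CovDevLib.bijective_const_of_acyclicN g hg i hℓ hL ν q hq).2
  · refine CovDevLib.isAcyclicN_of_const g hs L n fun Y' i h1 h2 ℓ hℓ hL ν hν q hq => ?_
    haveI := h1
    haveI := h2
    haveI : PreservesFiniteLimits (EtCoh.pull (pullback.snd g i)) := EtSliceLib.pullExact _
    exact H Y' i ℓ hℓ hL ν hν q hq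
end Groth.Agent.S3511
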