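import Groth.Statements.S3515
import Groth.Agent.EtBcBridgeLib.Criterion

set_option autoImplicit false
universe u
open CategoryTheory CategoryTheory.Limits AlgebraicGeometry Opposite
attribute [local instance] HasDerivedCategory.standard
open EtAcyc

namespace Groth.Agent.S3515

/-- (i) ⇔ (iv): let g : X → Y be a morphism of schemes, L a set of primes, n a natural number. Then g is
locally n-acyclic for L (every induced morphism of strict localizations is n-acyclic for L) if and
only if: for every locally quasi-finite i : Y' → Y (locally of finite type with discrete fibres)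
with base change g' : X' = X ×_Y Y' → Y', every quasi-compact open immersion i' : Y'' → Y' with base
change j' : X'' = X' ×_{Y'} Y'' → X' and g'' : X'' → Y'', and every abelian L-torsion sheaf F on
Y'', the base change maps g'⁻¹ R^q i'_* F → R^q j'_* g''⁻¹ F (cohomology sheaves of the derived base
change morphism) are isomorphisms for q ≤ n and a monomorphism for q = n + 1. -/
theorem result {X Y : Scheme.{u}} (g : X ⟶ Y) (L : Set ℕ) (n : ℕ) :
    EtAcyc.IsLocAcyclicN g L n ↔
      ∀ (Y' : Scheme.{u}) (i : Y' ⟶ Y) [LocallyQuasiFinite i] [LocallyOfFiniteType i]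
        (Y'' : Scheme.{u}) (i' : Y'' ⟶ Y') [IsOpenImmersion i'] [QuasiCompact i']
        [PreservesFiniteLimits (EtCoh.pull (pullback.snd g i))]
        [PreservesFiniteLimits (EtCoh.pull (pullback.snd (pullback.snd g i) i'))]
        [DCoh.HasRpushEt Y'' i'] [DCoh.HasRpushEt (pullback (pullback.snd g i) i') (pullback.fst (pullback.snd g i) i')]
        [DCoh.HasRpushEt (pullback g i) (pullback.snd g i)]
        (adj : EtBC.pullD (pullback.snd g i) ⊣ DCoh.RpushEt (pullback g i) (pullback.snd g i))
        (F : EtCoh.Ab Y''), EtAcyc.IsLTorsion L F →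
        (∀ q : ℤ, q ≤ n → IsIso ((DerivedCategory.homologyFunctor (EtCoh.Ab (pullback g i)) q).map
          (EtBC.bcMap i' (pullback.snd g i) (pullback.fst (pullback.snd g i) i') (pullback.snd (pullback.snd g i) i')
            pullback.condition.symm adj (EtBC.single Y'' F)))) ∧
        Mono ((DerivedCategory.homologyFunctor (EtCoh.Ab (pullback g i)) ((n : ℤ) + 1)).map
          (EtBC.bcMap i' (pullback.snd g i) (pullback.fst (pullback.snd g i) i') (pullback.snd (pullback.snd g i) i')
            pullback.condition.symm adj (EtBC.single Y'' F))) := by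
  refine ⟨fun hg Y' i _ _ Y'' i' _ _ _ _ _ _ _ adj F hF => ?_, fun hA => ?_⟩
  · have key : (∀ q : ℕ, q ≤ n → IsIso (EtBC.bcQ i' (pullback.snd g i) (pullback.fst (pullback.snd g i) i')
        (pullback.snd (pullback.snd g i) i') pullback.condition.symm q F)) ∧
        Mono (EtBC.bcQ i' (pullback.snd g i) (pullback.fst (pullback.snd g i) i')
          (pullback.snd (pullback.snd g i) i') pullback.condition.symm (n + 1) F) := by
      by_cases hL : ∃ ℓ ∈ L, ℓ.Prime
      · exact EtAcycFibLib.bcQ_of_isLocAcyclicN (pullback.snd g i) i' (pullback.fst (pullback.snd g i) i')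
          (pullback.snd (pullback.snd g i) i') (IsPullback.of_hasPullback (pullback.snd g i) i').flip hL
          (EtAcycFibLib.isLocAcyclicN_baseChange_lqf g i hL hg) hF
      · have h0 := EtBcBridgeLib.isZero_of_isLTorsion hL hF
        exact ⟨fun q _ => EtBcBridgeLib.isIso_bcQ_of_isZero _ _ _ _ _ h0 q,
          haveI := EtBcBridgeLib.isIso_bcQ_of_isZero i' (pullback.snd g i) (pullback.fst (pullback.snd g i) i')
            (pullback.snd (pullback.snd g i) i') pullback.condition.symm h0 (n + 1)
          inferInstance⟩
    refine ⟨fun q hq => EtBcBridgeLib.isIso_of_bcQ i' _ _ _ _ adj F n key.1 q hq, ?_⟩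
    have h := (EtBcBridgeLib.mono_iff i' (pullback.snd g i) (pullback.fst (pullback.snd g i) i')
      (pullback.snd (pullback.snd g i) i') pullback.condition.symm adj F (n + 1)).2 key.2
    rwa [Nat.cast_succ] at h
  · by_cases hL : ∃ ℓ ∈ L, ℓ.Prime
    · refine EtBcBridgeLib.isLocAcyclicN_of_openBC hL (EtBcBridgeLib.openBC_of_pullback g L n
        fun Y' i hi hi' T j hj hj' F hF q hq => ?_)
      haveI := hi
      haveI := hi'
      haveI := hj
      haveI := hj'
      haveI := EtSliceLib.pullExact (pullback.snd g i)
      haveI := EtSliceLib.pullExact (pullback.snd (pullback.snd g i) j)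
      haveI := EtBcBridgeLib.hasRpush j
      haveI := EtBcBridgeLib.hasRpush (pullback.fst (pullback.snd g i) j)
      haveI := EtBcBridgeLib.hasRpush (pullback.snd g i)
      exact (EtBcBridgeLib.isIso_iff j _ _ _ _ (EtBcDLib.canAdj (pullback.snd g i)) F q).1
        ((hA Y' i T j (EtBcDLib.canAdj (pullback.snd g i)) F hF).1 q (by exact_mod_cast hq))
    · exact EtBcBridgeLib.isLocAcyclicN_of_no_prime g hL n

end Groth.Agent.S3515
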