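import Groth.Statements.S3519
import Groth.Agent.CdCharPLib.Main
import Groth.Agent.S0469
-- import your own Groth.Agent.* helpers here

set_option autoImplicit false
set_option maxHeartbeats 2000000
set_option backward.isDefEq.respectTransparency false
universe u
open CategoryTheory CategoryTheory.Limits AlgebraicGeometry Opposite
open EtCd

namespace Groth.Agent.S3519

/-- Let k be a field of characteristic p > 0 and X a scheme of finite type over k of dimension at most
n. Then cd_p(X) ≤ n + 1: the etale cohomology of every p-primary torsion abelian sheaf on X vanishes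
above degree n + 1. -/
theorem result (k : Type u) [Field k] (p : ℕ) [Fact p.Prime] [CharP k p]
    (X : Scheme.{u}) (f : X ⟶ Spec (CommRingCat.of k)) [LocallyOfFiniteType f] [QuasiCompact f]
    (n : ℕ) (hn : topologicalKrullDim X ≤ n) : Dix.CohDimLEAt X p (n + 1) := by
  haveI : IsNoetherian X :=
    { toIsLocallyNoetherian := LocallyOfFiniteType.isLocallyNoetherian f
      toCompactSpace := QuasiCompact.compactSpace_of_compactSpace f }
  refine CdCharPLib.cohDimLEAt p (CdCharPLib.natCast_eq_zero_of_hom f p ?_) n fun M _ q hq => ?_
  · rw [← map_natCast (Scheme.ΓSpecIso (CommRingCat.of k)).inv.hom p, CharP.cast_eq_zero, map_zero]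
  · haveI : QuasiSeparatedSpace X := inferInstance
    haveI : SpectralSpace (X : Type u) := { }
    haveI : SpectralSpace X.toTopCat := ‹SpectralSpace (X : Type u)›
    exact Groth.Agent.S0469.result (X := X.toTopCat) n hn (Coh.toAb M) q hq

end Groth.Agent.S3519
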