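import Groth.Statements.S3532
import Groth.Agent.LimHomLib.Basic
-- import your own Groth.Agent.* helpers here

set_option autoImplicit false
set_option linter.style.haveILetI false
universe u
open HomAlg3

namespace Groth.Agent.S3532

open CategoryTheory in
/-- Category of abelian groups, system indexed by the natural numbers: Let (A_k)_{k ≥ 0} be an inverse
system of abelian groups. For p ≤ k write Im_k(A_p) for the image of A_k → A_p, and K_p for the
kernel of A_p → A_{p-1} (K_0 = A_0). Then (A_k) satisfies the Mittag-Leffler condition (for each p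
the subgroups Im_k(A_p) are eventually constant in k) if and only if for each p the subgroups
Im_k(A_p) ∩ K_p are eventually constant in k. -/
theorem result (F : ℕᵒᵖ ⥤ AddCommGrpCat.{u}) :
    (F ⋙ forget AddCommGrpCat).IsMittagLeffler ↔
      ((∃ k₀ : ℕ, ∀ (k : ℕ) (hk : k₀ ≤ k),
          (F.map (homOfLE (Nat.zero_le k)).op).hom.range = (F.map (homOfLE (Nat.zero_le k₀)).op).hom.range) ∧
        ∀ p : ℕ, ∃ k₀ : ℕ, ∃ h₀ : p + 1 ≤ k₀, ∀ (k : ℕ) (hk : k₀ ≤ k),
          (F.map (homOfLE (h₀.trans hk)).op).hom.range ⊓ (F.map (homOfLE (Nat.le_succ p)).op).hom.ker =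
            (F.map (homOfLE h₀).op).hom.range ⊓ (F.map (homOfLE (Nat.le_succ p)).op).hom.ker) := by
  rw [LimHomLib.isMittagLeffler_nat_iff]
  have hanti : ∀ {p k k' : ℕ} (h : p ≤ k) (hk : k ≤ k'),
      (F.map (homOfLE (h.trans hk)).op).hom.range ≤ (F.map (homOfLE h).op).hom.range := by
    intro p k k' h hk
    rintro _ ⟨x, rfl⟩
    refine ⟨F.map (homOfLE hk).op x, ?_⟩
    show F.map (homOfLE h).op (F.map (homOfLE hk).op x) = _
    rw [← Functor.map_comp_apply]
    exact congrArg (fun φ => F.map φ x) (Subsingleton.elim _ _)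
  constructor
  · intro h
    refine ⟨?_, fun p => ?_⟩
    · obtain ⟨k₀, h₀, hk₀⟩ := h 0
      exact ⟨k₀, fun k hk => le_antisymm (hanti h₀ hk) (hk₀ k hk)⟩
    · obtain ⟨k₀, h₀, hk₀⟩ := h (p + 1)
      exact ⟨k₀, h₀, fun k hk => le_antisymm (inf_le_inf_right _ (hanti h₀ hk))
        (inf_le_inf_right _ (hk₀ k hk))⟩
  · rintro ⟨⟨k₀, hk₀⟩, hgr⟩ p
    induction p with
    | zero => exact ⟨k₀, Nat.zero_le _, fun k hk => (hk₀ k hk).ge⟩
    | succ p ih =>
      obtain ⟨m₁, hm₁, h1⟩ := ih
      obtain ⟨m₂, hm₂, h2⟩ := hgr p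
      have hp : p + 1 ≤ max m₁ m₂ := hm₂.trans (le_max_right _ _)
      refine ⟨max m₁ m₂, hp, fun k hk => ?_⟩
      rintro x hx
      have h3 : F.map (homOfLE (Nat.le_succ p)).op x ∈ (F.map (homOfLE hm₁).op).hom.range := by
        obtain ⟨y, rfl⟩ := hx
        refine hanti hm₁ (le_max_left m₁ m₂) ⟨y, ?_⟩
        show F.map _ y = F.map (homOfLE (Nat.le_succ p)).op (F.map (homOfLE hp).op y)
        rw [← Functor.map_comp_apply]
        exact congrArg (fun φ => F.map φ y) (Subsingleton.elim _ _)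
      obtain ⟨y, hy⟩ := h1 k ((le_max_left _ _).trans hk) h3
      set x' := F.map (homOfLE (hp.trans hk)).op y with hx'
      have hy' : F.map (homOfLE (Nat.le_succ p)).op x' = F.map (homOfLE (Nat.le_succ p)).op x := by
        rw [hx', ← Functor.map_comp_apply]
        exact (congrArg (fun φ => F.map φ y) (Subsingleton.elim _ _)).trans hy
      have hmem : x - x' ∈ (F.map (homOfLE (hm₂.trans ((le_max_right m₁ m₂).trans hk))).op).hom.range ⊓
          (F.map (homOfLE (Nat.le_succ p)).op).hom.ker := by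
        rw [h2 k ((le_max_right _ _).trans hk)]
        refine ⟨AddSubgroup.sub_mem _ (hanti hm₂ (le_max_right m₁ m₂) hx)
          (hanti hm₂ ((le_max_right m₁ m₂).trans hk) ⟨y, rfl⟩), ?_⟩
        show F.map (homOfLE (Nat.le_succ p)).op (x - x') = 0
        rw [map_sub, hy', sub_self]
      have hsum := AddSubgroup.add_mem _ hmem.1 (show x' ∈
        (F.map (homOfLE (hm₂.trans ((le_max_right m₁ m₂).trans hk))).op).hom.range from ⟨y, rfl⟩)
      rw [sub_add_cancel] at hsum
      exact hsum

end Groth.Agent.S3532
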