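import Groth.Statements.S3534
import Groth.Agent.TorShiftLib.BaseChange
import Mathlib


-- import your own Groth.Agent.* helpers here

set_option autoImplicit false
universe u
open HTor

namespace Groth.Agent.S3534

/-- Let S be a multiplicative subset of a commutative ring A, A' = S⁻¹A, and P, Q two A'-modules, viewed
as A-modules by restriction of scalars. Then for every n there is a bijective map Tor_n^A(P, Q) →
Tor_n^{A'}(P, Q) which is semilinear over A → A' (so that, in particular, every s ∈ S acts
bijectively on Tor_n^A(P, Q)). (Tor is taken as the left derived functor of the tensor product in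
the second variable. The published statement gives a canonical isomorphism, for hyper-Tor of
complexes; this is the case of single modules.) -/
theorem result (A A' : Type u) [CommRing A] [CommRing A'] [Algebra A A']
    (S : Submonoid A) [IsLocalization S A'] (P Q : Type u) [AddCommGroup P] [Module A' P] [Module A P]
    [IsScalarTower A A' P] [AddCommGroup Q] [Module A' Q] [Module A Q] [IsScalarTower A A' Q] (n : ℕ) :
    ∃ φ : DRing.Tor A n P Q →ₛₗ[algebraMap A A'] DRing.Tor A' n P Q, Function.Bijective φ := by
  haveI : Module.Flat A A' := IsLocalization.flat A' S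
  obtain ⟨φ, hφ⟩ := TorShiftLib.nonempty_restrict_baseChange (A := A) (A' := A') Q n P
  let L : TensorProduct A A' Q →ₗ[A'] Q := (LinearMap.id : Q →ₗ[A] Q).liftBaseChange A'
  have hsurj : Function.Surjective L := fun q => ⟨1 ⊗ₜ q, by simp [L]⟩
  have key : ∀ z, (1 : A') ⊗ₜ[A] L z = z := by
    intro z
    induction z using TensorProduct.induction_on with
    | zero => simp
    | tmul a q =>
      obtain ⟨⟨r, s⟩, hrs⟩ := IsLocalization.surj S a
      refine (IsLocalization.map_units A' s).smul_left_cancel.1 ?_
      rw [algebraMap_smul, algebraMap_smul, ← TensorProduct.tmul_smul]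
      simp only [L, LinearMap.liftBaseChange_tmul, LinearMap.id_apply]
      have hsa : (s : A) • a = algebraMap A A' r := by rw [Algebra.smul_def, mul_comm, hrs]
      calc (1 : A') ⊗ₜ[A] ((s : A) • a • q) = (1 : A') ⊗ₜ[A] (r • q) := by
            rw [← smul_assoc, hsa, algebraMap_smul]
        _ = (s : A) • a ⊗ₜ[A] q := by
            rw [TensorProduct.tmul_smul, TensorProduct.smul_tmul', TensorProduct.smul_tmul', hsa,
              Algebra.smul_def, mul_one]
    | add x y hx hy => rw [map_add, TensorProduct.tmul_add, hx, hy]
  let eQ : TensorProduct A A' Q ≃ₗ[A'] Q := LinearEquiv.ofBijective L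
    ⟨fun x y h => by rw [← key x, ← key y, h], hsurj⟩
  let e := (((CategoryTheory.Tor (ModuleCat.{u} A') n).obj (ModuleCat.of A' P)).mapIso eQ.toModuleIso).toLinearEquiv
  exact ⟨e.toLinearMap.comp φ, e.bijective.comp hφ⟩

end Groth.Agent.S3534
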