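import Groth.Statements.S3541
import Mathlib
import Groth.Agent.RGammaBoundLib.Main
import Groth.Agent.RGammaBoundLib.ProjTrunc
-- import your own Groth.Agent.* helpers here

set_option autoImplicit false
universe u
attribute [local instance] HasDerivedCategory.standard
open HTor

namespace Groth.Agent.S3541

open CategoryTheory CategoryTheory.Limits AlgebraicGeometry in
/-- Let A be a ring all of whose modules have projective dimension ≤ d, X a scheme with a quasi-compact
separated morphism f : X → Spec A, covered by N + 1 affine opens, and P a complex of quasi-coherent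
O_X-modules with P^k = 0 unless a ≤ k ≤ b. Then RΓ(X, P) ∈ D(A) is represented by a complex L of
projective A-modules with L^k = 0 unless a - d ≤ k ≤ b + N. (The published statement gives a
canonical isomorphism, in a more general relative setting with several factors; here only one factor
over the base Spec A is treated and only the existence of an isomorphism in D(A) is asserted.) -/
theorem result (A : Type u) [CommRing A] (d : ℕ)
    (hA : ∀ M : ModuleCat.{u} A, HasProjectiveDimensionLT M (d + 1)) (X : Scheme.{u})
    (f : X ⟶ Spec (CommRingCat.of A)) [QuasiCompact f] [IsSeparated f] [HTor.HasRΓA f]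
    (N : ℕ) (U : Fin (N + 1) → X.Opens) (hU : ∀ i, IsAffineOpen (U i)) (hcov : ⨆ i, U i = ⊤)
    (P : CochainComplex X.Modules ℤ) (hq : ∀ i : ℤ, Coh.IsQCoh (P.X i)) (a b : ℤ)
    (hab : ∀ i : ℤ, i < a ∨ b < i → IsZero (P.X i)) :
    ∃ L : DRing.Cx A, (∀ i : ℤ, Module.Projective A (L.X i)) ∧ DRing.VanishesOutside L (a - d) (b + N) ∧
      HTor.Computes f L (DCoh.toD X P) := by
  haveI : EnoughInjectives X.Modules := IsGrothendieckAbelian.enoughInjectives.{u}
  haveI : (DCoh.toD X P).IsGE a := by
    rw [DerivedCategory.isGE_iff]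
    exact fun j hj => (ShortComplex.isZero_homology_of_isZero_X₂ (P.sc j) (hab j (Or.inl hj))).of_iso
      ((DerivedCategory.homologyFunctorFactors X.Modules j).app P)
  have hlow : ∀ i : ℤ, i < a → IsZero ((DerivedCategory.homologyFunctor (ModuleCat.{u} A) i).obj
      ((HTor.RΓA f).obj (DCoh.toD X P))) := fun i hi =>
    Groth.Agent.DerLib.Amplitude.leftBound_rightDerived (HTor.globalSectionsA f) (HTor.RΓA f)
      ((HTor.gammaAKh f).totalRightDerivedUnit DerivedCategory.Qh
        (HomotopyCategory.quasiIso X.Modules (ComplexShape.up ℤ)))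
      KFlatLib.enoughKInj_modules (DCoh.toD X P) a i ‹_› (by omega)
  obtain ⟨K, h1, h2, ⟨e⟩⟩ := DRingLib.exists_free_rep ((HTor.RΓA f).obj (DCoh.toD X P)) (b + N)
    (fun i hi => RGammaBoundLib.isZero_Hn_RΓA_above f N U hU hcov P hq b (fun j hj => hab j (Or.inr hj)) i hi)
  have hKlow : ∀ i : ℤ, i < a → IsZero (K.homology i) := fun i hi =>
    (hlow i hi).of_iso (((DerivedCategory.homologyFunctorFactors (ModuleCat.{u} A) i).app K).symm ≪≫
      (DerivedCategory.homologyFunctor (ModuleCat.{u} A) i).mapIso e)
  by_cases hab' : a ≤ b + N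
  · have hp : ∀ i, CategoryTheory.Projective (K.X i) := fun i => by
      haveI := h2 i
      haveI : Module.Projective A (K.X i) := Module.Projective.of_free
      exact (IsProjective.iff_projective (R := A) (P := (K.X i : Type u))).mp inferInstance
    obtain ⟨L, π, hπ, hLp, hLz⟩ := RGammaBoundLib.exists_projective_trunc K d hA hp a hKlow (b + N) h1 hab'
    exact ⟨L, fun i => (IsProjective.iff_projective (R := A) (P := (L.X i : Type u))).mpr (hLp i), hLz,
      ⟨(asIso (DerivedCategory.Q.map π)).symm ≪≫ e⟩⟩
  · let Z : DRing.Cx A := (HomologicalComplex.single (ModuleCat.{u} A) (ComplexShape.up ℤ) 0).obj (ModuleCat.of A PUnit.{u + 1})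
    have hZ : IsZero Z := Functor.map_isZero _ (ModuleCat.isZero_of_subsingleton (ModuleCat.of A PUnit.{u + 1}))
    have hZi : ∀ i, IsZero (Z.X i) := fun i => Functor.map_isZero (HomologicalComplex.eval _ _ i) hZ
    refine ⟨Z, fun i => ?_, fun i _ => hZi i, ⟨?_⟩⟩
    · haveI : Module.Free A (Z.X i) := DRingLib.free_of_isZero (hZi i)
      exact Module.Projective.of_free
    · refine (Functor.map_isZero DerivedCategory.Q hZ).iso ?_
      have hz : ∀ i : ℤ, IsZero ((DerivedCategory.homologyFunctor (ModuleCat.{u} A) i).obj
          ((HTor.RΓA f).obj (DCoh.toD X P))) := fun i => by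
        rcases lt_or_ge i a with hi | hi
        · exact hlow i hi
        · exact RGammaBoundLib.isZero_Hn_RΓA_above f N U hU hcov P hq b (fun j hj => hab j (Or.inr hj)) i (by omega)
      haveI : ((HTor.RΓA f).obj (DCoh.toD X P)).IsLE 0 := (DerivedCategory.isLE_iff _ _).2 fun j _ => hz j
      haveI : ((HTor.RΓA f).obj (DCoh.toD X P)).IsGE 1 := (DerivedCategory.isGE_iff _ _).2 fun j _ => hz j
      exact DerivedCategory.TStructure.t.isZero _ 0 1 (by omega)

end Groth.Agent.S3541
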