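import Groth.Statements.S3544
import Groth.Agent.EulerLib.Basic
-- import your own Groth.Agent.* helpers here

set_option autoImplicit false
set_option linter.style.haveILetI false
universe u
open HomAlg3

namespace Groth.Agent.S3544

open CategoryTheory CategoryTheory.Limits in
/-- Let E be a cohomological spectral sequence of modules over a ring A, starting at page 2, such that
the E₂ terms have finite length and only finitely many of them (all inside the finite set s of
bidegrees) are nonzero. Then for every r ≥ 2 the Euler–Poincaré characteristic of page r, the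
alternating sum over s of (-1)^{p+q} times the length of E_r^{pq}, equals that of page 2. -/
theorem result {A : Type u} [Ring A]
    (E : E₂CohomologicalSpectralSequence (ModuleCat.{u} A)) (s : Finset (ℤ × ℤ))
    (hs : ∀ pq : ℤ × ℤ, pq ∉ s → IsZero ((E.page 2).X pq))
    (hfl : ∀ pq : ℤ × ℤ, IsFiniteLength A ((E.page 2).X pq)) (r : ℤ) (hr : 2 ≤ r) :
    (s.sum fun pq => (((pq.1 + pq.2).negOnePow : ℤˣ) : ℤ) * ((Module.length A ((E.page r hr).X pq)).toNat : ℤ)) =
      s.sum fun pq => (((pq.1 + pq.2).negOnePow : ℤˣ) : ℤ) * ((Module.length A ((E.page 2).X pq)).toNat : ℤ) := by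
  have key : ∀ n : ℕ, (∀ pq, pq ∉ s → IsZero ((E.page (2 + n)).X pq)) ∧
      (∀ pq, IsFiniteLength A ((E.page (2 + n)).X pq)) ∧
      ∑ pq ∈ s, (((pq.1 + pq.2).negOnePow : ℤˣ) : ℤ) * Groth.Agent.EulerLib.len ((E.page (2 + n)).X pq) =
        ∑ pq ∈ s, (((pq.1 + pq.2).negOnePow : ℤˣ) : ℤ) * Groth.Agent.EulerLib.len ((E.page 2).X pq) := by
    intro n
    induction n with
    | zero => exact ⟨hs, hfl, rfl⟩
    | succ n ih =>
      obtain ⟨hz, hf, heq⟩ := ih
      have e : ∀ pq, (E.page (2 + n)).homology pq ≅ (E.page (2 + (n + 1 : ℕ))).X pq := fun pq =>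
        E.iso (2 + n) (2 + (n + 1 : ℕ)) pq
      have hzero : ∀ pq, IsZero ((E.page (2 + n)).X pq) → IsZero ((E.page (2 + n)).homology pq) :=
        fun pq h => ((HomologicalComplex.exactAt_iff _ pq).2
          (ShortComplex.exact_of_isZero_X₂ _ h)).isZero_homology
      refine ⟨fun pq hpq => (hzero pq (hz pq hpq)).of_iso (e pq).symm, fun pq => ?_, ?_⟩
      · have hc : IsFiniteLength A ((E.page (2 + n)).cycles pq) :=
          (hf pq).of_injective ((ModuleCat.mono_iff_injective ((E.page (2 + n)).iCycles pq)).1
            inferInstance)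
        have hh : IsFiniteLength A ((E.page (2 + n)).homology pq) :=
          hc.of_surjective ((ModuleCat.epi_iff_surjective ((E.page (2 + n)).homologyπ pq)).1
            inferInstance)
        exact hh.of_injective (f := (e pq).inv.hom)
          ((ModuleCat.mono_iff_injective _).1 inferInstance)
      · rw [← heq, Groth.Agent.EulerLib.euler_len (Equiv.addRight ((2 + (n : ℤ)), 1 - (2 + (n : ℤ))))
          (fun pq => rfl) (fun pq => (((pq.1 + pq.2).negOnePow : ℤˣ) : ℤ)) (fun pq => ?_)
          (E.page (2 + n)) s hz hf]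
        · refine Finset.sum_congr rfl fun pq _ => ?_
          congr 1
          simp only [Groth.Agent.EulerLib.len]
          rw [(e pq).toLinearEquiv.length_eq]
        · simp only [Equiv.coe_addRight, Prod.fst_add, Prod.snd_add]
          rw [show pq.1 + (2 + (n : ℤ)) + (pq.2 + (1 - (2 + (n : ℤ)))) = pq.1 + pq.2 + 1 by ring,
            Int.negOnePow_succ, Units.val_neg]
  obtain ⟨n, rfl⟩ : ∃ n : ℕ, r = 2 + n := ⟨(r - 2).toNat, by omega⟩
  exact (key n).2.2

end Groth.Agent.S3544
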