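import Groth.Statements.S3550
import Groth.Agent.GrTildeLib.Gamma
-- import your own Groth.Agent.* helpers here

set_option autoImplicit false
universe u
open CategoryTheory CategoryTheory.Limits AlgebraicGeometry
open EGA2

namespace Groth.Agent.S3550

/-- Let S be a graded ring whose irrelevant ideal S_+ is generated by finitely many elements of degree
one, and X = Proj S. Then every quasi-coherent O_X-module F is isomorphic to M~ for some graded
S-module M (graded in nonnegative degrees). -/
theorem result {R A : Type u} [CommRing R] [CommRing A] [Algebra R A] (𝒜 : ℕ → Submodule R A) [GradedAlgebra 𝒜]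
    (s : Finset A) (hs1 : ∀ f ∈ s, f ∈ 𝒜 1)
    (hs : (HomogeneousIdeal.irrelevant 𝒜).toIdeal = Ideal.span (s : Set A))
    (F : (Proj 𝒜).Modules) (hF : Coh.IsQCoh F) :
    ∃ (M : Type u) (_ : AddCommGroup M) (_ : Module R M) (_ : Module A M) (_ : IsScalarTower R A M)
      (ℳ : ℕ → Submodule R M) (_ : DirectSum.Decomposition ℳ) (_ : SetLike.GradedSMul 𝒜 ℳ),
      Nonempty (GrTilde.tilde 𝒜 ℳ 0 ≅ F) := by
  classical
  let g : {x // x ∈ s} → A := fun i => i.1
  have hg : ∀ i, g i ∈ 𝒜 1 := fun i => hs1 i.1 i.2
  have hcov : ∀ x : Proj 𝒜, ∃ i, x ∈ Proj.basicOpen 𝒜 (g i) := fun x => by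
    by_contra hne
    push Not at hne
    exact x.not_irrelevant_le fun a ha => (Ideal.span_le.mpr fun b hb => not_not.mp (hne ⟨b, hb⟩)) (hs.le ha)
  have := hF
  refine ⟨GrTildeLib.Gam hg F, inferInstance, inferInstance, inferInstance, inferInstance, GrTildeLib.gr hg F,
    inferInstance, inferInstance, GrTildeLib.exists_iso (GrTildeLib.data hg F) hcov
      (fun k z i h => GrTildeLib.exists_pow_smul_eq_zero' hg F i z h) fun i => ?_⟩
  exact eq_top_iff.mpr fun w _ => Submodule.subset_span (GrTildeLib.exists_of_nu hg F i w)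

end Groth.Agent.S3550
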