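import Groth.Statements.S3551
import Groth.Agent.GrTildeLib.Sub
-- import your own Groth.Agent.* helpers here

set_option autoImplicit false
universe u
open CategoryTheory CategoryTheory.Limits AlgebraicGeometry
open EGA2

namespace Groth.Agent.S3551

/-- Let S be a graded ring whose irrelevant ideal S_+ is generated by finitely many elements of degree
one, and X = Proj S. Then every quasi-coherent O_X-module of finite type is isomorphic to N~ for
some finitely generated graded S-module N (graded in nonnegative degrees). -/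
theorem result {R A : Type u} [CommRing R] [CommRing A] [Algebra R A] (𝒜 : ℕ → Submodule R A) [GradedAlgebra 𝒜]
    (s : Finset A) (hs1 : ∀ f ∈ s, f ∈ 𝒜 1)
    (hs : (HomogeneousIdeal.irrelevant 𝒜).toIdeal = Ideal.span (s : Set A))
    (F : (Proj 𝒜).Modules) (hF : Coh.IsQCoh F) (hFT : CohB1.IsFT F) :
    ∃ (N : Type u) (_ : AddCommGroup N) (_ : Module R N) (_ : Module A N) (_ : IsScalarTower R A N)
      (𝒩 : ℕ → Submodule R N) (_ : DirectSum.Decomposition 𝒩) (_ : SetLike.GradedSMul 𝒜 𝒩),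
      Module.Finite A N ∧ Nonempty (GrTilde.tilde 𝒜 𝒩 0 ≅ F) := by
  classical
  let g : {x // x ∈ s} → A := fun i => i.1
  have hg : ∀ i, g i ∈ 𝒜 1 := fun i => hs1 i.1 i.2
  have hcov : ∀ x : Proj 𝒜, ∃ i, x ∈ Proj.basicOpen 𝒜 (g i) := fun x => by
    by_contra hne
    push Not at hne
    exact x.not_irrelevant_le fun a ha => (Ideal.span_le.mpr fun b hb => not_not.mp (hne ⟨b, hb⟩)) (hs.le ha)
  have := hF
  have hfin : ∀ i, Module.Finite Γ(Proj 𝒜, Proj.basicOpen 𝒜 (g i)) Γ(F, Proj.basicOpen 𝒜 (g i)) :=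
    fun i => QCohLib.finite_of_isFT hFT (Proj.isAffineOpen_basicOpen 𝒜 _ (hg i) one_pos)
  choose T hT using fun i => Module.finite_def.mp (hfin i)
  choose kz z hz using fun (i : {x // x ∈ s}) (w : Γ(F, Proj.basicOpen 𝒜 (g i))) =>
    GrTildeLib.exists_of_nu hg F i w
  let Z : Finset (GrTildeLib.Gam hg F) :=
    Finset.univ.biUnion fun i => (T i).image fun w => (z i w : GrTildeLib.Gam hg F)
  let S : Submodule A (GrTildeLib.Gam hg F) := Submodule.span A (Z : Set _)
  have hZ : ∀ m ∈ (Z : Set (GrTildeLib.Gam hg F)), ∃ k, m ∈ GrTildeLib.gr hg F k := fun m hm => by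
    simp only [Z, Finset.coe_biUnion, Finset.coe_image, Set.mem_iUnion, Set.mem_image] at hm
    obtain ⟨i, -, w, -, rfl⟩ := hm
    exact ⟨_, (z i w).2⟩
  let := GrTildeLib.subDecomposition (GrTildeLib.gr hg F) S fun m hm k =>
    GrTildeLib.decompose_mem_span (𝒜 := 𝒜) (GrTildeLib.gr hg F) hZ hm k
  have : Module.Finite A S := Module.Finite.iff_fg.mpr ⟨Z, rfl⟩
  refine ⟨S, inferInstance, inferInstance, inferInstance, inferInstance, GrTildeLib.subGr (GrTildeLib.gr hg F) S,
    inferInstance, inferInstance, inferInstance, GrTildeLib.exists_iso ((GrTildeLib.data hg F).sub _ S) hcov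
      (fun k w i h => ?_) fun i => ?_⟩
  · obtain ⟨N, hN⟩ := GrTildeLib.exists_pow_smul_eq_zero' hg F i ⟨_, w.2⟩ h
    exact ⟨N, Subtype.ext hN⟩
  · refine eq_top_iff.mpr ((hT i).ge.trans (Submodule.span_mono fun w hw => ?_))
    exact ⟨kz i w, ⟨⟨(z i w : GrTildeLib.Gam hg F), Submodule.subset_span (Finset.mem_coe.mpr
      (Finset.mem_biUnion.mpr ⟨i, Finset.mem_univ _, Finset.mem_image_of_mem _ hw⟩))⟩, (z i w).2⟩, hz i w⟩

end Groth.Agent.S3551
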