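import Groth.Statements.S3555
import Groth.Agent.TwistLib.Basic

set_option autoImplicit false
universe u
open CategoryTheory CategoryTheory.Limits AlgebraicGeometry
open EGA2

namespace Groth.Agent.S3555

/-- Let S be a graded ring whose irrelevant ideal S_+ is generated by the degree-one elements, X = Proj
S, and f homogeneous of degree d > 0. Then D_+(f) is the set of points p of X at which the global
section f/1 of O_X(d) does not vanish, i.e. at which its value generates the module of degree-d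
fractions at p. -/
theorem result {R A : Type u} [CommRing R] [CommRing A] [Algebra R A] (𝒜 : ℕ → Submodule R A) [GradedAlgebra 𝒜]
    (hgen : (HomogeneousIdeal.irrelevant 𝒜).toIdeal = Ideal.span (𝒜 1 : Set A))
    {d : ℕ} (hd : 0 < d) (f : 𝒜 d) (p : ProjectiveSpectrum 𝒜) :
    p ∈ ProjectiveSpectrum.basicOpen 𝒜 (f : A) ↔
      Submodule.span (Twist.A0 𝒜 p) {(Twist.globalOf 𝒜 f).1 ⟨p, trivial⟩} = ⊤ := by
  classical
  let v : Twist.twistAt 𝒜 (d : ℤ) p := (Twist.globalOf 𝒜 f).1 ⟨p, trivial⟩
  change f.1 ∉ p.asHomogeneousIdeal ↔ Submodule.span (Twist.A0 𝒜 p) {v} = ⊤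
  have hv : (v : Twist.Loc 𝒜 p) = Localization.mk f.1 1 := rfl
  constructor
  · intro hf
    rw [eq_top_iff]
    rintro ⟨q, hq⟩ -
    obtain ⟨c, hc⟩ : ∃ c : Twist.A0 𝒜 p, c.val * (v : Twist.Loc 𝒜 p) = q := by
      induction hq using Submodule.span_induction with
      | mem x hx =>
        obtain ⟨i, j, a, s, hs, h, rfl⟩ := hx
        have hi : j + d = i := by omega
        refine ⟨HomogeneousLocalization.mk ⟨i, a, ⟨s.1 * f.1, hi ▸ SetLike.mul_mem_graded s.2 f.2⟩,
          p.asHomogeneousIdeal.toIdeal.primeCompl.mul_mem hs hf⟩, ?_⟩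
        rw [HomogeneousLocalization.val_mk, hv, Localization.mk_mul, Localization.mk_eq_mk_iff,
          Localization.r_iff_exists]
        exact ⟨1, by simp; ring⟩
      | zero => exact ⟨0, by simp⟩
      | add x y _ _ hx hy =>
        obtain ⟨a, ha⟩ := hx
        obtain ⟨b, hb⟩ := hy
        exact ⟨a + b, by rw [HomogeneousLocalization.val_add, add_mul, ha, hb]⟩
      | smul c x _ hx =>
        obtain ⟨a, ha⟩ := hx
        exact ⟨c * a, by rw [HomogeneousLocalization.val_mul, mul_assoc, ha, Algebra.smul_def]; rfl⟩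
    refine Submodule.mem_span_singleton.mpr ⟨c, Subtype.ext ?_⟩
    rw [Twist.coe_smul_val]
    exact hc
  · intro h hf
    obtain ⟨g, hg1, hgp⟩ : ∃ g ∈ (𝒜 1 : Set A), g ∉ p.asHomogeneousIdeal := by
      by_contra hne
      push_neg at hne
      refine p.not_irrelevant_le ?_
      have h1 : (HomogeneousIdeal.irrelevant 𝒜).toIdeal ≤ p.asHomogeneousIdeal.toIdeal :=
        hgen.le.trans (Ideal.span_le.mpr hne)
      exact h1
    let w : Twist.twistAt 𝒜 (d : ℤ) p := ⟨Localization.mk (g ^ d) 1, Submodule.subset_span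
      ⟨d, 0, ⟨g ^ d, by simpa using SetLike.pow_mem_graded d hg1⟩, ⟨1, SetLike.GradedOne.one_mem⟩,
        fun h => p.isPrime.ne_top ((Ideal.eq_top_iff_one _).mpr h), by simp, rfl⟩⟩
    obtain ⟨c, hc⟩ := Submodule.mem_span_singleton.mp (show w ∈ Submodule.span (Twist.A0 𝒜 p) {v} from h ▸ Submodule.mem_top)
    have e := congrArg (fun t : Twist.twistAt 𝒜 (d : ℤ) p => (t : Twist.Loc 𝒜 p)) hc
    simp only [Twist.coe_smul_val, hv, w] at e
    have hu : IsUnit (Localization.mk (g ^ d) (1 : p.asHomogeneousIdeal.toIdeal.primeCompl)) := by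
      rw [Localization.mk_one_eq_algebraMap, IsLocalization.AtPrime.isUnit_to_map_iff (Twist.Loc 𝒜 p)
        p.asHomogeneousIdeal.toIdeal]
      exact fun hm => hgp (p.isPrime.mem_of_pow_mem d hm)
    rw [← e] at hu
    have h2 := isUnit_of_mul_isUnit_right hu
    rw [Localization.mk_one_eq_algebraMap, IsLocalization.AtPrime.isUnit_to_map_iff (Twist.Loc 𝒜 p)
      p.asHomogeneousIdeal.toIdeal] at h2
    exact h2 hf

end Groth.Agent.S3555
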