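import Groth.Statements.S3558
import Groth.Agent.ProjTopLib.Basic
-- import your own Groth.Agent.* helpers here

set_option autoImplicit false
universe u
open CategoryTheory CategoryTheory.Limits AlgebraicGeometry
open EGA2

namespace Groth.Agent.S3558

/-- For a graded ring S, Proj S is empty if and only if every element of the irrelevant ideal S_+ is
nilpotent. -/
theorem result {R A : Type u} [CommRing R] [CommRing A] [Algebra R A] (𝒜 : ℕ → Submodule R A) [GradedAlgebra 𝒜] :
    IsEmpty (Proj 𝒜) ↔ ∀ f ∈ (HomogeneousIdeal.irrelevant 𝒜).toIdeal, IsNilpotent f := by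
  constructor
  · intro h f hf
    exact (ProjTopLib.isNilpotent_iff 𝒜 hf).mpr fun x => (h.false x).elim
  · intro h
    refine ⟨fun x => ?_⟩
    obtain ⟨d, f, hd, hf, hx⟩ := ProjTopLib.exists_pos_not_mem 𝒜 x
    have hf' := ProjTopLib.mem_irrelevant_of_mem 𝒜 hd hf
    exact hx ((ProjTopLib.isNilpotent_iff 𝒜 hf').mp (h f hf') x)

end Groth.Agent.S3558
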