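import Groth.Statements.S3559
import Groth.Agent.ProjTopLib.Basic
-- import your own Groth.Agent.* helpers here

set_option autoImplicit false
universe u
open CategoryTheory CategoryTheory.Limits AlgebraicGeometry
open EGA2

namespace Groth.Agent.S3559

/-- Let S be a graded ring and (f_i) a family of homogeneous elements of positive degree. The opens
D_+(f_i) cover Proj S if and only if every element of S_+ has a power in the ideal generated by the
f_i. -/
theorem result {R A : Type u} [CommRing R] [CommRing A] [Algebra R A] (𝒜 : ℕ → Submodule R A) [GradedAlgebra 𝒜]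
    {ι : Type u} (f : ι → A) (hf : ∀ i, ∃ d : ℕ, 0 < d ∧ f i ∈ 𝒜 d) :
    (⨆ i, Proj.basicOpen 𝒜 (f i)) = ⊤ ↔
      (HomogeneousIdeal.irrelevant 𝒜).toIdeal ≤ (Ideal.span (Set.range f)).radical := by
  have hI : (Ideal.span (Set.range f)).IsHomogeneous 𝒜 := by
    refine Ideal.homogeneous_span 𝒜 _ ?_
    rintro _ ⟨i, rfl⟩
    obtain ⟨d, -, hd⟩ := hf i
    exact ⟨d, hd⟩
  constructor
  · intro h a ha
    refine (ProjTopLib.mem_radical_iff 𝒜 hI ha).mpr fun x hx => ?_
    have hmem : x ∈ ⨆ i, Proj.basicOpen 𝒜 (f i) := h ▸ trivial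
    obtain ⟨i, hi⟩ := TopologicalSpace.Opens.mem_iSup.mp hmem
    exact absurd (hx (Ideal.subset_span ⟨i, rfl⟩)) hi
  · intro h
    refine eq_top_iff.mpr fun x _ => TopologicalSpace.Opens.mem_iSup.mpr ?_
    by_contra hx
    obtain ⟨d, a, hd, ha, hax⟩ := ProjTopLib.exists_pos_not_mem 𝒜 x
    refine hax ((ProjTopLib.mem_radical_iff 𝒜 hI (ProjTopLib.mem_irrelevant_of_mem 𝒜 hd ha)).mp
      (h (ProjTopLib.mem_irrelevant_of_mem 𝒜 hd ha)) x (Ideal.span_le.mpr ?_))
    rintro _ ⟨i, rfl⟩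
    by_contra hi
    exact hx ⟨i, hi⟩

end Groth.Agent.S3559
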