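import Groth.Statements.S3560
import Groth.Agent.ProjTopLib.FG
import Mathlib.RingTheory.Noetherian.Nilpotent
-- import your own Groth.Agent.* helpers here

set_option autoImplicit false
universe u
open CategoryTheory CategoryTheory.Limits AlgebraicGeometry
open EGA2

namespace Groth.Agent.S3560

/-- Let S be a graded ring whose irrelevant ideal S_+ is finitely generated. Then Proj S is empty if and
only if there is n such that S_k = 0 for all k ≥ n. -/
theorem result {R A : Type u} [CommRing R] [CommRing A] [Algebra R A] (𝒜 : ℕ → Submodule R A) [GradedAlgebra 𝒜]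
    (hfg : (HomogeneousIdeal.irrelevant 𝒜).toIdeal.FG) :
    IsEmpty (Proj 𝒜) ↔ ∃ n : ℕ, ∀ k : ℕ, n ≤ k → 𝒜 k = ⊥ := by
  constructor
  · intro h
    have hnil : (HomogeneousIdeal.irrelevant 𝒜).toIdeal ≤ nilradical A := fun f hf =>
      (ProjTopLib.isNilpotent_iff 𝒜 hf).mpr fun x => (h.false x).elim
    obtain ⟨N, hN⟩ := (Ideal.FG.isNilpotent_iff_le_nilradical hfg).mpr hnil
    obtain ⟨m₀, hm₀⟩ := ProjTopLib.exists_le_pow 𝒜 hfg N
    refine ⟨m₀, fun k hk => eq_bot_iff.mpr fun a ha => ?_⟩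
    have h' := hm₀ k hk ha
    rw [hN] at h'
    simpa using h'
  · rintro ⟨n, hn⟩
    refine ⟨fun x => ?_⟩
    obtain ⟨d, f, hd, hf, hx⟩ := ProjTopLib.exists_pos_not_mem 𝒜 x
    have h0 : f ^ (n + 1) ∈ 𝒜 ((n + 1) • d) := SetLike.pow_mem_graded _ hf
    have hle : n ≤ (n + 1) * d := le_trans (Nat.le_succ n) (Nat.le_mul_of_pos_right _ hd)
    rw [smul_eq_mul, hn _ hle, Submodule.mem_bot] at h0
    exact hx (x.isPrime.mem_of_pow_mem (n + 1) (h0 ▸ zero_mem _))

end Groth.Agent.S3560
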