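import Groth.Statements.S3566
import Groth.Agent.AmpleThLib.Ample

set_option autoImplicit false
universe u
open CategoryTheory CategoryTheory.Limits AlgebraicGeometry
open EGA2

namespace Groth.Agent.S3566

/-- Let X be a quasi-compact separated scheme (the published statement also allows a prescheme with
Noetherian underlying space) and L an invertible O_X-module. Then L is ample, i.e. the affine ones
among the opens X_s (s a global section of a positive tensor power of L, X_s the locus where s
generates) cover X, if and only if all the opens X_s form a base of the topology of X. -/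
theorem result (X : Scheme.{u}) [CompactSpace X] [X.IsSeparated]
    (L : X.Modules) (hL : PicF.IsInvertible L) :
    CohB1.IsAmple L ↔
      TopologicalSpace.IsTopologicalBasis
        {U : Set X | ∃ (n : ℕ) (s : Coh.structureModule X ⟶ CohB1.tensorPow L (n + 1)),
          U = (CohB1.genLocus (CohB1.tensorPow L (n + 1)) s : Set X)} := by
  refine ⟨fun h => AmpleThLib.isAmple_iff_isTopologicalBasis hL h, fun hb => ?_⟩
  refine (AmpleThLib.isAmple_iff (hL := hL)).mpr ⟨inferInstance, fun x => ?_⟩
  obtain ⟨U, e, hxU, he⟩ := TwistLib.exists_genOn hL x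
  obtain ⟨W, hW, hxW, hWU⟩ := exists_isAffineOpen_mem_and_subset hxU
  obtain ⟨_, ⟨n, s, rfl⟩, hxV, hVW⟩ := hb.exists_subset_of_mem_open (show x ∈ (W : Set X) from hxW) W.2
  rw [AmpleThLib.genLocus_hom (AmpleThLib.tensorPow_isInvertible hL (n + 1)) s] at hxV hVW
  refine ⟨n + 1, _, n.succ_pos, ⟨s.app ⊤ (1 : Γ(X, ⊤)), rfl⟩, hxV, ?_⟩
  have hg := AmpleThLib.pS_genOn (he.res hWU) (n + 1)
  obtain ⟨r, hr⟩ := AmpleThLib.exists_coeff (s.app ⊤ (1 : Γ(X, ⊤))) hg
  have h := AmpleThLib.mem_genSet_coeff (AmpleThLib.tensorPow_isInvertible hL (n + 1)) _ hg hr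
  rw [inf_eq_left.mpr (SetLike.coe_subset_coe.mp hVW)] at h
  exact h ▸ hW.basicOpen r

end Groth.Agent.S3566
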