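import Groth.Statements.S3570
import Mathlib
-- import your own Groth.Agent.* helpers here

set_option autoImplicit false
universe u
open CategoryTheory CategoryTheory.Limits AlgebraicGeometry
open EGA2

namespace Groth.Agent.S3570

theorem app_eq {X Y S : Scheme.{u}} (f : X ⟶ S) (g : Y ⟶ S) (h : Y ⟶ X) (w : h ≫ f = g) (U : S.Opens) :
    (AffAlg.algHom f g h w).app (Opposite.op U) = h.app (f ⁻¹ᵁ U) ≫ Y.presheaf.map (eqToHom (by subst w; rfl)) := by
  subst w
  simp [AffAlg.algHom]
  rfl

theorem iSup_preimage {X S : Scheme.{u}} (f : X ⟶ S) [IsAffineHom f] :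
    ⨆ U : S.affineOpens, (f ⁻¹ᵁ (U : S.Opens)) = ⊤ := by
  rw [← Scheme.Hom.preimage_iSup, iSup_affineOpens_eq_top]
  rfl

/-- Let f : X → S and g : Y → S be affine morphisms and h : Y → X an S-morphism. Then h is an
isomorphism if and only if A(h) : f_*O_X → g_*O_Y is an isomorphism (of presheaves of rings on S). -/
theorem result {X Y S : Scheme.{u}} (f : X ⟶ S) [IsAffineHom f] (g : Y ⟶ S)
    [IsAffineHom g] (h : Y ⟶ X) (w : h ≫ f = g) :
    IsIso h ↔ IsIso (AffAlg.algHom f g h w) := by
  have hh : IsAffineHom h := by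
    have : IsAffineHom (h ≫ f) := w ▸ inferInstance
    exact IsAffineHom.of_comp h f
  constructor
  · intro _
    have : ∀ U, IsIso ((AffAlg.algHom f g h w).app U) := fun U => by
      rw [show U = Opposite.op U.unop from rfl, app_eq]
      infer_instance
    exact NatIso.isIso_of_isIso_app _
  · intro hi
    refine (HasAffineProperty.iff_of_iSup_eq_top (P := MorphismProperty.isomorphisms Scheme.{u})
      (fun U : S.affineOpens => (⟨f ⁻¹ᵁ (U : S.Opens), U.2.preimage f⟩ : X.affineOpens))
      (iSup_preimage f)).2 fun U => ⟨(U.2.preimage f).preimage h, ?_⟩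
    have : IsIso ((AffAlg.algHom f g h w).app (Opposite.op (U : S.Opens))) := inferInstance
    rw [app_eq] at this
    have h3 : ∀ V, V = f ⁻¹ᵁ (U : S.Opens) → IsIso (h.app V) := by
      rintro V rfl
      exact @IsIso.of_isIso_comp_right _ _ _ _ _ (h.app (f ⁻¹ᵁ (U : S.Opens))) _ inferInstance this
    rw [morphismRestrict_appTop]
    refine (ConcreteCategory.isIso_iff_bijective (C := CommRingCat.{u}) _).2 ?_
    have hb := h3 ((f ⁻¹ᵁ (U : S.Opens)).ι ''ᵁ ⊤) (by simp)
    exact (ConcreteCategory.bijective_of_isIso (C := CommRingCat.{u}) (Y.presheaf.map (eqToHom _).op)).comp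
      (ConcreteCategory.bijective_of_isIso (C := CommRingCat.{u})
        (h.app ((f ⁻¹ᵁ (U : S.Opens)).ι ''ᵁ ⊤)))

end Groth.Agent.S3570
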