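import Groth.Statements.S3576
import Groth.Agent.ConeRetrLib.Cone
import Groth.Agent.ConeRetrLib.ChartRing
import Groth.Agent.ConeRetrLib.Fibre
-- import your own Groth.Agent.* helpers here

set_option autoImplicit false
universe u
open CategoryTheory CategoryTheory.Limits AlgebraicGeometry
open EGA2

namespace Groth.Agent.S3576

/-- Over an affine base Spec R: let S be a graded R-algebra whose irrelevant ideal is generated by its
degree-one elements, E the pointed affine cone of S and π : E → X = Proj S the canonical retraction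
(the morphism restricting on each chart D(f), f homogeneous of positive degree, to Spec S_f → Spec
S_(f) → Proj S). Then π is of finite type, and for every point x of X the fibre of π at x is
isomorphic over the residue field κ(x) to Spec κ(x)[T, T⁻¹]. -/
theorem result {R A : Type u} [CommRing R] [CommRing A] [Algebra R A] (𝒜 : ℕ → Submodule R A) [GradedAlgebra 𝒜]
    (hgen : (HomogeneousIdeal.irrelevant 𝒜).toIdeal = Ideal.span (𝒜 1 : Set A))
    (π : (Cone.pointed 𝒜 : Scheme.{u}) ⟶ Proj 𝒜)
    (hπ : ∀ (d : ℕ) (f : A) (hd : 0 < d) (hf : f ∈ 𝒜 d),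
        Cone.chart hf hd ≫ π =
          Spec.map (CommRingCat.ofHom (algebraMap (HomogeneousLocalization.Away 𝒜 f) (Localization.Away f))) ≫
            Proj.awayι 𝒜 f hf hd)
    (x : Proj 𝒜) :
    LocallyOfFiniteType π ∧ QuasiCompact π ∧
      ∃ e : pullback π ((Proj 𝒜).fromSpecResidueField x) ≅
          Spec (CommRingCat.of (LaurentPolynomial ((Proj 𝒜).residueField x))),
        e.hom ≫ Spec.map (CommRingCat.ofHom (algebraMap ((Proj 𝒜).residueField x)
          (LaurentPolynomial ((Proj 𝒜).residueField x)))) = pullback.snd π ((Proj 𝒜).fromSpecResidueField x) := by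

  have hp' : ∀ i : ConeRetrLib.Idx 𝒜, ConeRetrLib.cChart i ≫ π = ConeRetrLib.cTarget i :=
    fun i => hπ i.deg i.el i.pos i.mem
  have hdeg1 : ∀ y : Proj 𝒜, ∃ f : A, f ∈ 𝒜 1 ∧ y ∈ Proj.basicOpen 𝒜 f := by
    intro y
    by_contra hc
    push Not at hc
    refine y.not_irrelevant_le ?_
    show (HomogeneousIdeal.irrelevant 𝒜).toIdeal ≤ y.asHomogeneousIdeal.toIdeal
    rw [hgen, Ideal.span_le]
    intro f hf
    by_contra hfy
    exact hc f hf ((Proj.mem_basicOpen 𝒜 f y).mpr hfy)
  let ix : {f : A // f ∈ 𝒜 1} → ConeRetrLib.Idx 𝒜 := fun f => ⟨1, f.1, one_pos, f.2⟩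
  have hh : ∀ (f : A) (hf : f ∈ 𝒜 1), (ConeRetrLib.coneChart (𝒜 := 𝒜) (f := f)).comp LaurentPolynomial.C =
      algebraMap (HomogeneousLocalization.Away 𝒜 f) (Localization.Away f) := fun f hf =>
    RingHom.ext fun a => LaurentPolynomial.eval₂_C _ _ a
  have hcov : ∀ y : (Cone.pointed 𝒜 : Scheme.{u}), ∃ f : {f : A // f ∈ 𝒜 1},
      y ∈ (ConeRetrLib.cChart (ix f)).opensRange := by
    intro y
    obtain ⟨f, hf, hy⟩ := hdeg1 (π y)
    refine ⟨⟨f, hf⟩, ?_⟩
    rw [ConeRetrLib.cChart_opensRange, ← ConeRetrLib.cMap_preimage π hp' hf one_pos]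
    exact hy
  have hft : LocallyOfFiniteType π := by
    refine ConeRetrLib.locallyOfFiniteType_of_charts π (fun f => ConeRetrLib.cChart (ix f))
      (fun f => Proj.awayι 𝒜 (ix f).el (ix f).mem (ix f).pos)
      (fun f => CommRingCat.ofHom (algebraMap (HomogeneousLocalization.Away 𝒜 (ix f).el) (Localization.Away (ix f).el)))
      (fun f => hp' (ix f)) hcov fun f => ?_
    show (algebraMap (HomogeneousLocalization.Away 𝒜 f.1) (Localization.Away f.1)).FiniteType
    rw [← hh f.1 f.2]
    exact (RingHom.FiniteType.of_surjective _ (ConeRetrLib.coneChart_bijective f.2).2).comp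
      (RingHom.finiteType_algebraMap.mpr inferInstance)
  refine ⟨hft, ?_, ?_⟩
  · haveI := ConeRetrLib.isAffineHom_cMap π hp'
    infer_instance
  obtain ⟨f, hf, hx⟩ := hdeg1 x
  refine ConeRetrLib.exists_fibre_iso π (ConeRetrLib.cChart (ix ⟨f, hf⟩))
    (Proj.awayι 𝒜 f hf one_pos)
    (CommRingCat.ofHom (algebraMap (HomogeneousLocalization.Away 𝒜 f) (Localization.Away f))) (hp' (ix ⟨f, hf⟩)) ?_ x ?_
    (CommRingCat.ofHom (algebraMap ((Proj 𝒜).residueField x) (LaurentPolynomial ((Proj 𝒜).residueField x))))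
    fun ψ => ?_
  · rw [Proj.opensRange_awayι, ConeRetrLib.cChart_opensRange]
    exact ConeRetrLib.cMap_preimage π hp' hf one_pos
  · rw [Proj.opensRange_awayι]
    exact hx
  · exact ConeRetrLib.isPushout_of_bijective (ConeRetrLib.isPushout_laurent ψ.hom)
      (ConeRetrLib.coneChart (𝒜 := 𝒜) (f := f)) (ConeRetrLib.coneChart_bijective hf) _ (hh f hf)


end Groth.Agent.S3576
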