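import Groth.Statements.S3579
import Groth.Agent.S3551
import Groth.Agent.GrTildeLib.Quot
import Groth.Agent.GrTildeLib.Sub
-- import your own Groth.Agent.* helpers here

set_option autoImplicit false
universe u
open CategoryTheory CategoryTheory.Limits AlgebraicGeometry
open EGA2

namespace Groth.Agent.S3579

/-- Let S be a graded ring whose irrelevant ideal S_+ is generated by finitely many elements of degree
one, X = Proj S, and let F be an O_X-module that is quasi-coherent and of finite type. Then for some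
n₀ and all n ≥ n₀, the twist F(n) = F ⊗ O_X(n) is a quotient of a finite free module O_X^k (k
depending on n); in particular F(n) is generated by finitely many global sections. -/
theorem result {R A : Type u} [CommRing R] [CommRing A] [Algebra R A] (𝒜 : ℕ → Submodule R A) [GradedAlgebra 𝒜]
    (s : Finset A) (hs1 : ∀ f ∈ s, f ∈ 𝒜 1)
    (hs : (HomogeneousIdeal.irrelevant 𝒜).toIdeal = Ideal.span (s : Set A))
    (F : (Proj 𝒜).Modules) (hF : Coh.IsQCoh F) (hFT : CohB1.IsFT F) :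
    ∃ n₀ : ℕ, ∀ n : ℕ, n₀ ≤ n →
      ∃ (k : ℕ) (p : FlatMod.freeMod (Proj 𝒜) k ⟶ Twist.twistBy 𝒜 F (n : ℤ)), Epi p := by
  obtain ⟨N, i1, i2, i3, i4, 𝒩, i5, i6, hfin, ⟨e⟩⟩ := Groth.Agent.S3551.result 𝒜 s hs1 hs F hF hFT
  obtain ⟨n₀, h⟩ := GrTildeLib.exists_epi_free 𝒩 s hs1 hs
  refine ⟨n₀, fun n hn => ?_⟩
  obtain ⟨k, p, hp⟩ := h n hn
  obtain ⟨i⟩ := GrTildeLib.twistBy_iso (ℳ := 𝒩) (p := 0) (n := (n : ℤ)) (q := (n : ℤ)) (zero_add _) fun x => by
    obtain ⟨f, hf, hfx⟩ := GrTildeLib.cover_of_span s hs x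
    exact ⟨f, hs1 f hf, hfx⟩
  exact ⟨k, p ≫ i.inv ≫ (PicGrp.tensorModIso e (Iso.refl _)).hom, epi_comp _ _⟩

end Groth.Agent.S3579
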