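import Groth.Statements.S3583
import Mathlib
-- import your own Groth.Agent.* helpers here

set_option autoImplicit false
universe u
open CategoryTheory AlgebraicGeometry Opposite
open EGA2

namespace Groth.Agent.S3583

theorem app_eq {X Y S : Scheme.{u}} (f : X ⟶ S) (g : Y ⟶ S) (h : Y ⟶ X) (w : h ≫ f = g) (U : S.Opens) :
    (AffAlg.algHom f g h w).app (Opposite.op U) = h.app (f ⁻¹ᵁ U) ≫ Y.presheaf.map (eqToHom (by subst w; rfl)) := by
  subst w
  simp [AffAlg.algHom]
  rfl

theorem iSup_preimage {X S : Scheme.{u}} (f : X ⟶ S) [IsAffineHom f] :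
    ⨆ U : S.affineOpens, (f ⁻¹ᵁ (U : S.Opens)) = ⊤ := by
  rw [← Scheme.Hom.preimage_iSup, iSup_affineOpens_eq_top]
  rfl

/-- In the form stated after its proof: let f : X → S and f' : X' → S be affine morphisms and h : X' → X
an S-morphism such that the O_S-algebra homomorphism A(h) : f_*O_X → f'_*O_{X'} is surjective (as a
map of quasi-coherent O_S-modules, i.e. on sections over every affine open of S). Then h is a closed
immersion. -/
theorem result {X X' S : Scheme.{u}} (f : X ⟶ S) [IsAffineHom f]
    (f' : X' ⟶ S) [IsAffineHom f'] (h : X' ⟶ X) (w : h ≫ f = f')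
    (hsurj : ∀ U : S.affineOpens, Function.Surjective ((AffAlg.algHom f f' h w).app (Opposite.op U.1)).hom) :
    IsClosedImmersion h := by
  have hh : IsAffineHom h := by
    have : IsAffineHom (h ≫ f) := w ▸ inferInstance
    exact IsAffineHom.of_comp h f
  refine (IsZariskiLocalAtTarget.iff_of_iSup_eq_top (P := @IsClosedImmersion) _ (iSup_preimage f)).2 fun U => ?_
  have : IsAffine (f ⁻¹ᵁ (U : S.Opens) : X.Opens) := U.2.preimage f
  have : IsAffine (h ⁻¹ᵁ (f ⁻¹ᵁ (U : S.Opens)) : X'.Opens) := (U.2.preimage f).preimage h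
  refine IsClosedImmersion.of_surjective_of_isAffine _ ?_
  have hs := hsurj U
  rw [app_eq] at hs
  have h1 : ∀ V, V = f ⁻¹ᵁ (U : S.Opens) → Function.Surjective (h.app V).hom := by
    rintro V rfl y
    obtain ⟨x, hx⟩ := hs ((X'.presheaf.map (eqToHom (by subst w; rfl))).hom y)
    exact ⟨x, (ConcreteCategory.bijective_of_isIso (C := CommRingCat.{u})
      (X'.presheaf.map (eqToHom (by subst w; rfl)))).1 hx⟩
  rw [morphismRestrict_appTop]
  exact (ConcreteCategory.bijective_of_isIso (C := CommRingCat.{u})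
    (X'.presheaf.map (eqToHom _).op)).2.comp (h1 _ (by simp))

end Groth.Agent.S3583
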