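import Groth.Statements.S3585
import Groth.Agent.AmpleThLib.ProjA
import Groth.Agent.AmpleThLib.Restr
import Groth.Agent.ProjClosedLib.Quot
import Mathlib.RingTheory.MvPolynomial.Ideal

set_option autoImplicit false
universe u
open CategoryTheory CategoryTheory.Limits AlgebraicGeometry
open EGA2

namespace Groth.Agent.S3585

/-- Let A be a ring and f : X → Spec A a proper morphism, and suppose X carries an invertible O_X-module
which is ample relative to f (so f is quasi-projective). Then f is projective: X is isomorphic over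
Spec A to Proj S for some graded A-algebra S whose degree-zero part is the image of A and whose
irrelevant ideal is generated by finitely many elements of degree one. -/
theorem result {A : Type u} [CommRing A] {X : Scheme.{u}}
    (f : X ⟶ Spec (CommRingCat.of A)) [IsProper f]
    (L : X.Modules) (hL : PicF.IsInvertible L) (hamp : RelAmple.IsRelAmple f L) :
    ∃ (S : Type u) (_ : CommRing S) (_ : Algebra A S) (𝒮 : ℕ → Submodule A S) (_ : GradedAlgebra 𝒮) (s : Finset S),
      Function.Surjective (algebraMap A (𝒮 0)) ∧ (∀ g ∈ s, g ∈ 𝒮 1) ∧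
      (HomogeneousIdeal.irrelevant 𝒮).toIdeal = Ideal.span (s : Set S) ∧
      ∃ e : X ≅ Proj 𝒮, e.hom ≫ Proj.toSpecZero 𝒮 ≫ Spec.map (CommRingCat.ofHom (algebraMap A (𝒮 0))) = f := by
  classical
  have htop : IsIso (f ⁻¹ᵁ (⊤ : (Spec (CommRingCat.of A)).Opens)).ι := by
    change IsIso (⊤ : X.Opens).ι
    exact X.topIso.isIso_hom
  have hA : CohB1.IsAmple L := AmpleThLib.isAmple_of_restrict_iso hL _ (hamp.2 ⟨⊤, isAffineOpen_top _⟩)
  obtain ⟨m, r, hr, hrb⟩ := AmpleThLib.exists_closedImmersion f hL hA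
  let 𝒜 := CohB1.polyGrading m A
  let s : Finset (MvPolynomial (Fin (m + 1)) A) := Finset.univ.image MvPolynomial.X
  have hs1 : ∀ g ∈ s, g ∈ 𝒜 1 := fun g hg => by
    obtain ⟨j, -, rfl⟩ := Finset.mem_image.mp hg
    exact MvPolynomial.isHomogeneous_X A j
  have hspan : (HomogeneousIdeal.irrelevant 𝒜).toIdeal ≤ Ideal.span (s : Set (MvPolynomial (Fin (m + 1)) A)) := by
    intro p hp
    replace hp := (HomogeneousIdeal.mem_irrelevant_iff _ p).mp hp
    rw [GradedRing.proj_apply] at hp
    replace hp : MvPolynomial.homogeneousComponent 0 p = 0 :=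
      (MvPolynomial.decomposition.decompose'_apply p 0).symm.trans hp
    rw [show (s : Set (MvPolynomial (Fin (m + 1)) A)) = MvPolynomial.X '' Set.univ by simp [s],
      MvPolynomial.mem_ideal_span_X_image]
    intro k hk
    by_contra hne
    push Not at hne
    have hk0 : k = 0 := Finsupp.ext fun j => hne j (Set.mem_univ j)
    subst hk0
    apply MvPolynomial.mem_support_iff.mp hk
    have h0 := congrArg (MvPolynomial.coeff 0) hp
    simpa [MvPolynomial.coeff_homogeneousComponent] using h0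
  let I := ProjClosedLib.idealOf 𝒜 s hs1 r
  let _ : GradedAlgebra (ProjClosedLib.quotGr 𝒜 I) :=
    ProjClosedLib.gradedQuot 𝒜 I (ProjClosedLib.idealOf_isHomogeneous 𝒜 s hs1 r)
  have hsurj : Function.Surjective (ProjClosedLib.quotHom 𝒜 I) := Ideal.Quotient.mk_surjective
  have hφ := ProjClosedLib.irrelevant_le_map (ProjClosedLib.quotHom 𝒜 I) hsurj
  obtain ⟨e, he⟩ := ProjClosedLib.exists_iso 𝒜 s hs1 r (ProjClosedLib.quotHom 𝒜 I) hspan hsurj
    (fun k a ha => Ideal.Quotient.eq_zero_iff_mem.trans (ProjClosedLib.mem_idealOf_iff 𝒜 s hs1 r ha)) hφ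
  refine ⟨_, inferInstance, inferInstance, ProjClosedLib.quotGr 𝒜 I, inferInstance,
    s.image (Ideal.Quotient.mk I), ?_, ?_, ?_, e, ?_⟩
  · rintro ⟨z, x, hx, rfl⟩
    refine ⟨MvPolynomial.coeff 0 x, Subtype.ext ?_⟩
    change algebraMap A (_ ⧸ I) (MvPolynomial.coeff 0 x) = Ideal.Quotient.mk I x
    refine congrArg (Ideal.Quotient.mk I) (?_ : algebraMap A (MvPolynomial (Fin (m + 1)) A) _ = x)
    have h0 : MvPolynomial.homogeneousComponent 0 x = x := by
      rw [MvPolynomial.homogeneousComponent_of_mem hx, if_pos rfl]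
    conv_rhs => rw [← h0, MvPolynomial.homogeneousComponent_zero]
    rfl
  · intro g hg
    obtain ⟨x, hx, rfl⟩ := Finset.mem_image.mp hg
    exact ⟨x, hs1 x hx, rfl⟩
  · refine le_antisymm (fun z hz => ?_) (Ideal.span_le.mpr fun g hg => ?_)
    · rw [Finset.coe_image, ← Ideal.map_span]
      refine Ideal.map_mono hspan ?_
      exact hφ hz
    · obtain ⟨x, hx, rfl⟩ := Finset.mem_image.mp hg
      exact HomogeneousIdeal.mem_irrelevant_of_mem _ one_pos ⟨x, hs1 x hx, rfl⟩
  · change e.hom ≫ AmpleThLib.baseA (ProjClosedLib.quotGr 𝒜 I) = f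
    refine (congrArg (e.hom ≫ ·) (AmpleThLib.map_baseA (ProjClosedLib.quotHom 𝒜 I) hφ (fun c => rfl)).symm).trans ?_
    exact (Category.assoc _ _ _).symm.trans ((congrArg (· ≫ AmpleThLib.baseA 𝒜) he).trans hrb)

end Groth.Agent.S3585
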