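import Groth.Statements.S3588
import Groth.Agent.ProjTopLib.Maps
-- import your own Groth.Agent.* helpers here

set_option autoImplicit false
universe u
open CategoryTheory CategoryTheory.Limits AlgebraicGeometry
open EGA2

namespace Groth.Agent.S3588

/-- Let S be a graded ring, N_+ the set of nilpotent elements of S_+ (an ideal of S), and S → S/N_+ the
quotient (here: any surjective homomorphism of graded rings φ : S → S' whose kernel is N_+). Then
the induced morphism Proj S' → Proj S is a closed immersion which is a homeomorphism of the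
underlying spaces, and Proj S' is reduced; thus Proj S' is the reduced closed subscheme (Proj
S)_red. -/
theorem result {R A : Type u} [CommRing R] [CommRing A] [Algebra R A] (𝒜 : ℕ → Submodule R A) [GradedAlgebra 𝒜]
    {B : Type u} [CommRing B] [Algebra R B] (ℬ : ℕ → Submodule R B) [GradedAlgebra ℬ]
    (φ : 𝒜 →+*ᵍ ℬ) (hsurj : Function.Surjective φ)
    (hker : ∀ a : A, φ a = 0 ↔ a ∈ (HomogeneousIdeal.irrelevant 𝒜).toIdeal ∧ IsNilpotent a)
    (hφ : HomogeneousIdeal.irrelevant ℬ ≤ (HomogeneousIdeal.irrelevant 𝒜).map φ) :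
    IsClosedImmersion (Proj.map φ hφ) ∧ IsHomeomorph (Proj.map φ hφ).base ∧
      AlgebraicGeometry.IsReduced (Proj ℬ) := by
  classical
  have hci := ProjClosedLib.isClosedImmersion_map φ hsurj hφ
  have hd := ProjTopLib.denseRange_map 𝒜 ℬ φ hφ fun a ha => ((hker a).mp ha).2
  have he : Topology.IsClosedEmbedding (Proj.map φ hφ).base := (Proj.map φ hφ).isClosedEmbedding
  have hs : Function.Surjective (Proj.map φ hφ).base := by
    rw [← Set.range_eq_univ, ← he.isClosed_range.closure_eq]
    exact hd.closure_range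
  refine ⟨hci, isHomeomorph_iff_isEmbedding_surjective.mpr ⟨he.isEmbedding, hs⟩,
    ProjTopLib.isReduced_proj ℬ fun b hb hnb => ?_⟩
  obtain ⟨a, rfl⟩ := hsurj b
  have h0 : φ (DirectSum.decompose 𝒜 a 0 : A) = 0 := by
    rw [GradedRingHom.map_directSumDecompose]
    exact ProjTopLib.decompose_zero_of_mem_irrelevant ℬ hb
  have ha0 : (DirectSum.decompose 𝒜 a 0 : A) = 0 := by
    have h1 := ProjTopLib.decompose_zero_of_mem_irrelevant 𝒜 ((hker _).mp h0).1
    rwa [DirectSum.decompose_coe, DirectSum.of_eq_same] at h1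
  have hai : a ∈ (HomogeneousIdeal.irrelevant 𝒜).toIdeal :=
    (HomogeneousIdeal.mem_irrelevant_iff 𝒜 a).mpr (by rw [GradedRing.proj_apply]; exact ha0)
  obtain ⟨n, hn⟩ := hnb
  rw [← map_pow] at hn
  obtain ⟨m, hm⟩ := ((hker _).mp hn).2
  exact (hker a).mpr ⟨hai, ⟨n * m, by rw [pow_mul]; exact hm⟩⟩

end Groth.Agent.S3588
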