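import Groth.Statements.S3589
import Groth.Agent.TwistLib.CoordGen
-- import your own Groth.Agent.* helpers here

set_option autoImplicit false
universe u
open CategoryTheory CategoryTheory.Limits AlgebraicGeometry
open EGA2

namespace Groth.Agent.S3589

/-- For E = O_Y^{n+1} over an affine base Y = Spec R (injectivity of the correspondence): a section s of
projective n-space over R is determined by the submodule F(s) of R^{n+1} formed by the R-linear
relations among the pulled-back coordinates s^*T_0, …, s^*T_n in the global sections of s^*O(1). -/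
theorem result {R : Type u} [CommRing R] (n : ℕ)
    (s₁ s₂ : Spec (CommRingCat.of R) ⟶ CohB1.ProjSpace n R)
    (h₁ : s₁ ≫ CohB1.ProjSpace.toSpec n R = 𝟙 _) (h₂ : s₂ ≫ CohB1.ProjSpace.toSpec n R = 𝟙 _)
    (h : ProjUP.secKernel n R s₁ = ProjUP.secKernel n R s₂) :
    s₁ = s₂ := by
  classical
  let L₁ := (Scheme.Modules.pullback s₁).obj (Twist.twistProjSpace n R 1)
  let L₂ := (Scheme.Modules.pullback s₂).obj (Twist.twistProjSpace n R 1)
  obtain ⟨F₁, e₁, hF₁, he₁, -⟩ := TwistLib.exists_quot_iso (TwistLib.coord_isInvertible n R s₁)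
    (fun i => ProjUP.pullSec s₁ (Twist.twistProjSpace n R 1) (ProjUP.coord n R i))
    (TwistLib.exists_genAt_coord n R s₁)
  obtain ⟨F₂, e₂, hF₂, he₂, -⟩ := TwistLib.exists_quot_iso (TwistLib.coord_isInvertible n R s₂)
    (fun i => ProjUP.pullSec s₂ (Twist.twistProjSpace n R 1) (ProjUP.coord n R i))
    (TwistLib.exists_genAt_coord n R s₂)
  have hF : F₁ = F₂ := by
    ext c
    rw [hF₁, hF₂]
    have hc := SetLike.ext_iff.mp h c
    exact hc
  subst hF
  refine TwistLib.SymUP.ext_of_τ (CohB1.polyGrading n R) _ ?_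
    (SymmetricAlgebra.IsSymmetricAlgebra.mvPolynomial (Fin (n + 1)) (Pi.basisFun R (Fin (n + 1)))) s₁ s₂
    (h₁.trans h₂.symm) (Pi.basisFun R (Fin (n + 1))).span_eq (e₁.symm ≪≫ e₂) ?_
  · intro m
    rw [Module.Basis.constr_apply_fintype]
    exact sum_mem fun i _ => Submodule.smul_mem _ _ (MvPolynomial.isHomogeneous_X R i)
  rintro _ ⟨i, rfl⟩
  have e : ∀ hm, (⟨(Pi.basisFun R (Fin (n + 1))).constr R MvPolynomial.X (Pi.basisFun R (Fin (n + 1)) i), hm⟩ :
      CohB1.polyGrading n R 1) = ⟨MvPolynomial.X i, MvPolynomial.isHomogeneous_X R i⟩ := fun hm =>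
    Subtype.ext ((Pi.basisFun R (Fin (n + 1))).constr_basis R _ i)
  rw [e]
  have k1 : e₁.inv.app ⊤ (ProjUP.pullSec s₁ (Twist.twistProjSpace n R 1) (ProjUP.coord n R i)) =
      TwistLib.σT _ (F₁.mkQ (Pi.single i 1)) := by
    rw [← he₁ i, ← ConcreteCategory.comp_apply, ← Scheme.Modules.Hom.comp_app, Iso.hom_inv_id]
    rfl
  exact (congrArg (e₂.hom.app ⊤) k1).trans (he₂ i)

end Groth.Agent.S3589
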