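import Groth.Statements.S3590
import Groth.Agent.TwistLib.CoordGen
import Groth.Agent.S3572
import Groth.Agent.TwistLib.ProjSymUP
-- import your own Groth.Agent.* helpers here

set_option autoImplicit false
universe u
open CategoryTheory CategoryTheory.Limits AlgebraicGeometry
open EGA2

namespace Groth.Agent.S3590

/-- For E = O_Y^{n+1} over an affine base Y = Spec R (image of the correspondence): a submodule F of
R^{n+1} is the module of relations among the pulled-back coordinates of some section of projective
n-space over R if and only if the quotient R^{n+1}/F is an invertible R-module (projective, of rank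
one at every prime). -/
theorem result {R : Type u} [CommRing R] (n : ℕ)
    (F : Submodule R (Fin (n + 1) → R)) :
    (∃ s : Spec (CommRingCat.of R) ⟶ CohB1.ProjSpace n R,
        s ≫ CohB1.ProjSpace.toSpec n R = 𝟙 _ ∧ ProjUP.secKernel n R s = F) ↔
      (Module.Projective R ((Fin (n + 1) → R) ⧸ F) ∧
        ∀ p : PrimeSpectrum R, Module.finrank (Localization.AtPrime p.asIdeal)
          (LocalizedModule p.asIdeal.primeCompl ((Fin (n + 1) → R) ⧸ F)) = 1) := by
  classical
  let Q := (Fin (n + 1) → R) ⧸ F
  constructor
  · rintro ⟨s, hs, hF⟩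
    obtain ⟨F₁, e₁, hF₁, -, hlb⟩ := TwistLib.exists_quot_iso (TwistLib.coord_isInvertible n R s)
      (fun i => ProjUP.pullSec s (Twist.twistProjSpace n R 1) (ProjUP.coord n R i))
      (TwistLib.exists_genAt_coord n R s)
    have : F₁ = F := by
      ext c
      rw [hF₁, ← hF]
      exact Iff.rfl
    subst this
    exact TwistLib.projective_finrank_of_locBij (R := CommRingCat.of R) _ hlb
  · rintro ⟨hproj, hrank⟩
    have : Module.FinitePresentation R Q := Module.finitePresentation_of_projective R Q
    let P : ModuleCat.{u} (CommRingCat.of R) := ModuleCat.of R Q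
    let b : Fin (n + 1) → P := fun i => F.mkQ (Pi.single i 1)
    have hb : Submodule.span R (Set.range b) = ⊤ := by
      rw [show Set.range b = F.mkQ '' Set.range (Pi.basisFun R (Fin (n + 1))) by
        rw [← Set.range_comp]; congr 1; funext i; simp [b], ← Submodule.map_span,
        (Pi.basisFun R (Fin (n + 1))).span_eq, Submodule.map_top, Submodule.range_mkQ]
    choose k g hg hlb using fun x : Spec (CommRingCat.of R) => TwistLib.exists_genAt_of_free P b hb x
      (Module.free_of_flat_of_isLocalRing) (hrank x)
    have hgen : ∀ x, AmpleLib.GenAt (tilde P) (TwistLib.σT P (b (k x))) _ := fun x =>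
      TwistLib.genAt_σT P (b (k x)) (hlb x) (hg x)
    have hL : PicF.IsInvertible (tilde P) := TwistLib.isInvertible_of_genOn
      (fun x => PrimeSpectrum.basicOpen (g x)) (fun x => ⟨x, hg x⟩)
      (fun x => AmpleLib.res (tilde P) le_top (TwistLib.σT P (b (k x))))
      (fun x => TwistLib.genOn_of_genAt fun y hy =>
        (AmpleLib.genAt_res _ _ hy).mpr (TwistLib.genAt_σT P (b (k x)) (hlb x) hy))
    let t : Fin (n + 1) → ProjUP.Γm (tilde P) := fun i => TwistLib.σT P (b i)
    obtain ⟨r, hr, τ, hτ⟩ := Groth.Agent.S3572.result n (𝟙 (Spec (CommRingCat.of R))) (tilde P) hL t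
      (fun x => TwistLib.span_of_genAt _ t x (hgen x))
    refine ⟨r, hr, ?_⟩
    ext c
    have h1 : τ.hom.app ⊤ (TwistLib.secSum (fun i => ProjUP.pullSec r (Twist.twistProjSpace n R 1)
        (ProjUP.coord n R i)) c) = TwistLib.σT P (F.mkQ c) := by
      rw [show F.mkQ c = ∑ i, c i • b i by
        simp only [b, ← map_smul, ← map_sum]; congr 1; simp [← pi_eq_sum_univ' c]]
      refine (map_sum (τ.hom.app ⊤).hom _ _).trans ((Finset.sum_congr rfl fun i _ => ?_).trans
        (TwistLib.σT_app_sum (𝟙 (tilde P)) b c).symm)
      exact (Scheme.Modules.Hom.app_smul τ.hom _ _).trans (congrArg (_ • ·) (hτ i))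
    refine (show c ∈ ProjUP.secKernel n R r ↔ TwistLib.secSum (fun i => ProjUP.pullSec r
        (Twist.twistProjSpace n R 1) (ProjUP.coord n R i)) c = 0 from Iff.rfl).trans ?_
    rw [← Submodule.Quotient.mk_eq_zero F, ← Submodule.mkQ_apply]
    constructor
    · intro h0
      rw [h0, map_zero] at h1
      exact (TwistLib.σT_bijective P).1 (h1.symm.trans (TwistLib.σT_zero P).symm)
    · intro h0
      rw [h0, TwistLib.σT_zero] at h1
      exact (ConcreteCategory.bijective_of_isIso (τ.hom.app ⊤)).1 (h1.trans (map_zero _).symm)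

end Groth.Agent.S3590
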