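import Groth.Statements.S3593
import Groth.Agent.ConeRetrLib.Hat
-- import your own Groth.Agent.* helpers here

set_option autoImplicit false
universe u
open CategoryTheory CategoryTheory.Limits AlgebraicGeometry
open EGA2

namespace Groth.Agent.S3593

/-- Let S be a graded R-algebra, Ŝ a graded R-algebra with a graded homomorphism φ : S → Ŝ making Ŝ an
S-algebra, and z an element of Ŝ of degree one such that the S-algebra map S[X] → Ŝ, X ↦ z, is
bijective (so Ŝ = S[z] with z in degree one, the graded ring of the projective cone of S). Then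
there is a ring isomorphism S ≅ Ŝ_(z) onto the degree-zero localization at z, sending a homogeneous
a of degree n to φ(a)/z^n. (This is the isomorphism that identifies the affine cone Spec S with the
open D_+(z) of the projective cone Proj Ŝ; that identification itself is not asserted here.) -/
theorem result {R A : Type u} [CommRing R] [CommRing A] [Algebra R A] (𝒜 : ℕ → Submodule R A) [GradedAlgebra 𝒜]
    {B : Type u} [CommRing B] [Algebra R B] (ℬ : ℕ → Submodule R B) [GradedAlgebra ℬ]
    [Algebra A B] [IsScalarTower R A B] (φ : 𝒜 →+*ᵍ ℬ) (hφ : ∀ a : A, φ a = algebraMap A B a)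
    (z : B) (hz : z ∈ ℬ 1) (hhat : Function.Bijective (Polynomial.aeval (R := A) z)) :
    ∃ θ : A ≃+* HomogeneousLocalization.Away ℬ z,
      ∀ (n : ℕ) (a : A), a ∈ 𝒜 n → (θ a).val = Localization.mk (φ a) ⟨z ^ n, pow_mem (Submonoid.mem_powers z) n⟩ := by

  let e : HomogeneousLocalization.Away ℬ z ≃+* A :=
    RingEquiv.ofBijective (ConeRetrLib.deHom (ℬ := ℬ) z hhat) (ConeRetrLib.deHom_bijective φ hφ z hz hhat)
  refine ⟨e.symm, fun n a ha => ?_⟩
  have hm : φ a ∈ ℬ (n • 1) := by rw [smul_eq_mul, mul_one]; exact φ.2 ha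
  have h1 : e.symm a = HomogeneousLocalization.Away.mk ℬ hz n (φ a) hm :=
    e.symm_apply_eq.mpr ((ConeRetrLib.deHom_mk z hz hhat n _ hm).trans (ConeRetrLib.ev_phi φ hφ z hhat a)).symm
  rw [h1, HomogeneousLocalization.Away.val_mk]


end Groth.Agent.S3593
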