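import Groth.Statements.S3597
import Groth.Agent.ConeRetrLib.PCone
-- import your own Groth.Agent.* helpers here

set_option autoImplicit false
universe u
open CategoryTheory CategoryTheory.Limits AlgebraicGeometry
open EGA2

namespace Groth.Agent.S3597

/-- Let S be a graded algebra over a ring and Ŝ = S[z] the graded S-algebra obtained by adjoining a
variable z in degree 1 (an S-algebra with an element z of degree 1 such that S[T] → Ŝ, T ↦ z, is
bijective), with φ : S → Ŝ the graded structure map and ψ : Ŝ → S the graded retraction with ψ ∘ φ =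
id and ψ(z) = 0 (the irrelevant-ideal containment needed to define Proj(ψ) on all of X = Proj S
carried as a hypothesis). Let Ê ⊆ Ĉ = Proj Ŝ be the pointed projective cone, the open union of the
D_+(φ f) for f ∈ S homogeneous of positive degree, and p : Ê → X a morphism which on each chart
D_+(φ f) = Spec Ŝ_{(φ f)} is induced by S_{(f)} → Ŝ_{(φ f)} (the canonical retraction). Then p is
surjective, and the closed immersion j = Proj(ψ) : X → Ĉ factors through Ê with p ∘ j = id_X. -/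
theorem result {R A : Type u} [CommRing R] [CommRing A] [Algebra R A] (𝒜 : ℕ → Submodule R A) [GradedAlgebra 𝒜]
    {B : Type u} [CommRing B] [Algebra R B] (ℬ : ℕ → Submodule R B) [GradedAlgebra ℬ]
    [Algebra A B] [IsScalarTower R A B] (φ : 𝒜 →+*ᵍ ℬ) (hφ : ∀ a : A, φ a = algebraMap A B a)
    (z : B) (hz : z ∈ ℬ 1) (hhat : Function.Bijective (Polynomial.aeval (R := A) z))
    (ψ : ℬ →+*ᵍ 𝒜) (hψφ : ∀ a : A, ψ (φ a) = a) (hψz : ψ z = 0)
    (hψ : HomogeneousIdeal.irrelevant 𝒜 ≤ (HomogeneousIdeal.irrelevant ℬ).map ψ)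
    (p : (PCone.dom φ : Scheme.{u}) ⟶ Proj 𝒜) (hp : ∀ (d : ℕ) (f : A) (hd : 0 < d) (hf : f ∈ 𝒜 d),
        PCone.chart φ hf hd ≫ p =
          Spec.map (CommRingCat.ofHom (HomogeneousLocalization.Away.map φ f)) ≫ Proj.awayι 𝒜 f hf hd) :
    Surjective p ∧ ∃ j : Proj 𝒜 ⟶ (PCone.dom φ : Scheme.{u}), j ≫ (PCone.dom φ).ι = Proj.map ψ hψ ∧ j ≫ p = 𝟙 (Proj 𝒜) := by

  have hp' : ∀ i : ConeRetrLib.Idx 𝒜, ConeRetrLib.pChart φ i ≫ p = ConeRetrLib.pTarget φ i :=
    fun i => hp i.deg i.el i.pos i.mem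
  have hr : Set.range (Proj.map ψ hψ) ⊆ Set.range (PCone.dom φ).ι := by
    rw [Scheme.Opens.range_ι]
    rintro _ ⟨q, rfl⟩
    obtain ⟨i, hi⟩ := ConeRetrLib.exists_mem_basicOpen (𝒜 := 𝒜) q
    refine TopologicalSpace.Opens.mem_iSup.mpr ⟨⟨i.el, i.deg, i.pos, i.mem⟩, ?_⟩
    show q ∈ Proj.map ψ hψ ⁻¹ᵁ Proj.basicOpen ℬ (φ i.el)
    rw [Proj.map_preimage_basicOpen, hψφ]
    exact hi
  let j := IsOpenImmersion.lift (PCone.dom φ).ι (Proj.map ψ hψ) hr
  have hj : j ≫ (PCone.dom φ).ι = Proj.map ψ hψ := IsOpenImmersion.lift_fac _ _ _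
  have hjp : j ≫ p = 𝟙 (Proj 𝒜) := by
    have hcov : ∀ q : Proj 𝒜, ∃ i : ConeRetrLib.Idx 𝒜, q ∈ (Proj.awayι 𝒜 i.el i.mem i.pos).opensRange :=
      fun q => by
        obtain ⟨i, hi⟩ := ConeRetrLib.exists_mem_basicOpen (𝒜 := 𝒜) q
        exact ⟨i, (ConeRetrLib.awayι_opensRange i).ge hi⟩
    refine (Proj.affineOpenCover 𝒜).openCover.hom_ext _ _ fun s => ?_
    simp only [Scheme.AffineOpenCover.openCover_f, Proj.affineOpenCover_f, Category.comp_id]
    let i : ConeRetrLib.Idx 𝒜 := ⟨s.1.1, s.2.1, s.1.2, s.2.2⟩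
    show Proj.awayι 𝒜 i.el i.mem i.pos ≫ j ≫ p = Proj.awayι 𝒜 i.el i.mem i.pos
    have key : ∀ (e : A) (he : e ∈ 𝒜 i.deg), e = i.el → (Proj.awayι 𝒜 e he i.pos ≫ j ≫ p =
        Proj.awayι 𝒜 e he i.pos) → Proj.awayι 𝒜 i.el i.mem i.pos ≫ j ≫ p =
        Proj.awayι 𝒜 i.el i.mem i.pos := by
      rintro e he rfl h; exact h
    refine key (ψ (φ i.el)) (ψ.2 (φ.2 i.mem)) (hψφ _) ?_
    have h1 : Proj.awayι 𝒜 (ψ (φ i.el)) (ψ.2 (φ.2 i.mem)) i.pos ≫ j =
        Spec.map (CommRingCat.ofHom (HomogeneousLocalization.Away.map ψ (φ i.el))) ≫ ConeRetrLib.pChart φ i := by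
      rw [← cancel_mono (PCone.dom φ).ι, Category.assoc, Category.assoc, hj, ConeRetrLib.pChart_ι]
      exact Proj.awayι_comp_map ψ hψ i.pos (φ i.el) (φ.2 i.mem)
    rw [← Category.assoc, h1, Category.assoc, hp', ConeRetrLib.pTarget, ← Spec.map_comp_assoc,
      ← CommRingCat.ofHom_comp]
    have key2 : ∀ (e : A) (he : e ∈ 𝒜 i.deg) (_ : e = i.el)
        (k : HomogeneousLocalization.Away 𝒜 i.el →+* HomogeneousLocalization.Away 𝒜 e),
        (∀ (n : ℕ) (a : A) (ha : a ∈ 𝒜 (n • i.deg)),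
          k (HomogeneousLocalization.Away.mk 𝒜 i.mem n a ha) = HomogeneousLocalization.Away.mk 𝒜 he n a ha) →
        Spec.map (CommRingCat.ofHom k) ≫ Proj.awayι 𝒜 i.el i.mem i.pos = Proj.awayι 𝒜 e he i.pos := by
      rintro e he rfl k hk
      have : k = RingHom.id _ := RingHom.ext fun a => by
        obtain ⟨n, a, ha, rfl⟩ := a.mk_surjective _ i.mem
        rw [hk]; rfl
      rw [this]
      simp
    refine key2 _ _ (hψφ _) _ fun n a ha => ?_
    rw [RingHom.comp_apply, HomogeneousLocalization.Away.map_mk, HomogeneousLocalization.Away.map_mk]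
    exact HomogeneousLocalization.val_injective _ (by simp [HomogeneousLocalization.Away.val_mk, hψφ])
  refine ⟨⟨fun q => ⟨j q, ?_⟩⟩, j, hj, hjp⟩
  rw [← Scheme.Hom.comp_apply, hjp]
  rfl


end Groth.Agent.S3597
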