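import Groth.Statements.S3598
import Groth.Agent.ConeRetrLib.PCone
import Groth.Agent.ConeRetrLib.ChartRing
import Groth.Agent.ConeRetrLib.Fibre
-- import your own Groth.Agent.* helpers here

set_option autoImplicit false
universe u
open CategoryTheory CategoryTheory.Limits AlgebraicGeometry
open EGA2

namespace Groth.Agent.S3598

/-- Let S be a graded algebra over a ring (an affine base) whose irrelevant ideal is generated by its
degree-one elements, and let Ŝ = S[z] be the graded S-algebra obtained by adjoining a variable z of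
degree 1 (given as a graded S-algebra together with z of degree 1 such that S[T] → Ŝ, T ↦ z, is
bijective). Let Ê be the pointed projective cone, covered by the charts Spec Ŝ_(f) for f ∈ S
homogeneous of positive degree, and p : Ê → X = Proj S the canonical retraction, i.e. the morphism
which on each chart Spec Ŝ_(f) is induced by S_(f) → Ŝ_(f). Then p is of finite type (locally of
finite type and quasi-compact) and its fibre at every point x of X is isomorphic over k(x) to the
affine line Spec k(x)[T]. -/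
theorem result {R A : Type u} [CommRing R] [CommRing A] [Algebra R A] (𝒜 : ℕ → Submodule R A) [GradedAlgebra 𝒜]
    {B : Type u} [CommRing B] [Algebra R B] (ℬ : ℕ → Submodule R B) [GradedAlgebra ℬ]
    [Algebra A B] [IsScalarTower R A B] (φ : 𝒜 →+*ᵍ ℬ) (hφ : ∀ a : A, φ a = algebraMap A B a)
    (z : B) (hz : z ∈ ℬ 1) (hhat : Function.Bijective (Polynomial.aeval (R := A) z))
    (hgen : (HomogeneousIdeal.irrelevant 𝒜).toIdeal = Ideal.span (𝒜 1 : Set A))
    (p : (PCone.dom φ : Scheme.{u}) ⟶ Proj 𝒜) (hp : ∀ (d : ℕ) (f : A) (hd : 0 < d) (hf : f ∈ 𝒜 d),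
        PCone.chart φ hf hd ≫ p =
          Spec.map (CommRingCat.ofHom (HomogeneousLocalization.Away.map φ f)) ≫ Proj.awayι 𝒜 f hf hd) (x : Proj 𝒜) :
    LocallyOfFiniteType p ∧ QuasiCompact p ∧
      ∃ e : pullback p ((Proj 𝒜).fromSpecResidueField x) ≅
          Spec (CommRingCat.of (Polynomial ((Proj 𝒜).residueField x))),
        e.hom ≫ Spec.map (CommRingCat.ofHom (algebraMap ((Proj 𝒜).residueField x)
          (Polynomial ((Proj 𝒜).residueField x)))) = pullback.snd p ((Proj 𝒜).fromSpecResidueField x) := by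

  have hp' : ∀ i : ConeRetrLib.Idx 𝒜, ConeRetrLib.pChart φ i ≫ p = ConeRetrLib.pTarget φ i :=
    fun i => hp i.deg i.el i.pos i.mem
  have hdeg1 : ∀ y : Proj 𝒜, ∃ f : A, f ∈ 𝒜 1 ∧ y ∈ Proj.basicOpen 𝒜 f := by
    intro y
    by_contra hc
    push Not at hc
    refine y.not_irrelevant_le ?_
    show (HomogeneousIdeal.irrelevant 𝒜).toIdeal ≤ y.asHomogeneousIdeal.toIdeal
    rw [hgen, Ideal.span_le]
    intro f hf
    by_contra hfy
    exact hc f hf ((Proj.mem_basicOpen 𝒜 f y).mpr hfy)
  let ix : {f : A // f ∈ 𝒜 1} → ConeRetrLib.Idx 𝒜 := fun f => ⟨1, f.1, one_pos, f.2⟩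
  have hh : ∀ (f : A) (hf : f ∈ 𝒜 1),
      (ConeRetrLib.hatChart φ z hz hf).comp Polynomial.C = HomogeneousLocalization.Away.map φ f := fun f hf =>
    RingHom.ext fun a => Polynomial.eval₂_C _ _
  have hcov : ∀ y : (PCone.dom φ : Scheme.{u}), ∃ f : {f : A // f ∈ 𝒜 1},
      y ∈ (ConeRetrLib.pChart φ (ix f)).opensRange := by
    intro y
    obtain ⟨f, hf, hy⟩ := hdeg1 (p y)
    refine ⟨⟨f, hf⟩, ?_⟩
    rw [ConeRetrLib.pChart_opensRange, ← ConeRetrLib.pMap_preimage φ p hp' hf one_pos]
    exact hy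
  have hft : LocallyOfFiniteType p := by
    refine ConeRetrLib.locallyOfFiniteType_of_charts p (fun f => ConeRetrLib.pChart φ (ix f))
      (fun f => Proj.awayι 𝒜 (ix f).el (ix f).mem (ix f).pos)
      (fun f => CommRingCat.ofHom (HomogeneousLocalization.Away.map φ (ix f).el)) (fun f => hp' (ix f)) hcov
      fun f => ?_
    show (HomogeneousLocalization.Away.map φ f.1).FiniteType
    rw [← hh f.1 f.2]
    exact (RingHom.FiniteType.of_surjective _ (ConeRetrLib.hatChart_bijective φ hφ z hz hhat f.2).2).comp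
      (RingHom.finiteType_algebraMap.mpr inferInstance)
  refine ⟨hft, ?_, ?_⟩
  · haveI := ConeRetrLib.isAffineHom_pMap φ p hp'
    infer_instance
  obtain ⟨f, hf, hx⟩ := hdeg1 x
  refine ConeRetrLib.exists_fibre_iso p (ConeRetrLib.pChart φ (ix ⟨f, hf⟩))
    (Proj.awayι 𝒜 f hf one_pos) (CommRingCat.ofHom (HomogeneousLocalization.Away.map φ f)) (hp' (ix ⟨f, hf⟩)) ?_ x ?_
    (CommRingCat.ofHom (algebraMap ((Proj 𝒜).residueField x) (Polynomial ((Proj 𝒜).residueField x))))
    fun ψ => ?_
  · rw [Proj.opensRange_awayι, ConeRetrLib.pChart_opensRange]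
    exact ConeRetrLib.pMap_preimage φ p hp' hf one_pos
  · rw [Proj.opensRange_awayι]
    exact hx
  · exact ConeRetrLib.isPushout_of_bijective (ConeRetrLib.isPushout_polynomial ψ.hom)
      (ConeRetrLib.hatChart φ z hz hf) (ConeRetrLib.hatChart_bijective φ hφ z hz hhat hf) _ (hh f hf)


end Groth.Agent.S3598
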