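import Groth.Statements.S3602
import Groth.Agent.DerBCLib.Derived
import Groth.Agent.KFlatLib.QCohLpull
import Groth.Agent.KoszOrthLib.Adj
import Groth.Agent.S3527

set_option autoImplicit false
set_option backward.isDefEq.respectTransparency false
set_option backward.isDefEq.respectTransparency.types false
universe u
open CategoryTheory CategoryTheory.Limits AlgebraicGeometry
attribute [local instance] HasDerivedCategory.standard
open Dual3

namespace Groth.Agent.S3602

/-- In the cases g flat or f flat (both are Tor independent squares). Consider a cartesian square of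
quasi-compact quasi-separated schemes X' = Y' ×_Y X with maps f : X → Y, g : Y' → Y, f' : X' → Y',
g' : X' → X. Let the derived direct images on D_QCoh of all four maps be given (assumed to exist and
to preserve quasi-coherence of cohomology), with right adjoints a of Rf_* and a' of Rf'_*. Then
there is an identification e : Rf_* ∘ Rg'_* ≅ Rg_* ∘ Rf'_* of the two composite derived direct
images for which the induced transformation ξ : Rg'_* ∘ a' → a ∘ Rg_* (adjoint to Rf_* Rg'_* a' ≅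
Rg_* Rf'_* a' → Rg_*) is an isomorphism on every object. -/
theorem result (X Y X' Y' : Scheme.{u}) [CompactSpace X] [QuasiSeparatedSpace X] [CompactSpace Y] [QuasiSeparatedSpace Y] [CompactSpace X'] [QuasiSeparatedSpace X'] [CompactSpace Y'] [QuasiSeparatedSpace Y'] (f : X ⟶ Y) (g : Y' ⟶ Y) (f' : X' ⟶ Y') (g' : X' ⟶ X) (hsq : IsPullback g' f' f g) (hflat : Flat f ∨ Flat g) [DCoh.HasRpush f] [DCoh.HasRpush f'] [DCoh.HasRpush g] [DCoh.HasRpush g'] (hf : DCoh.RpushPreservesQCoh f) (hf' : DCoh.RpushPreservesQCoh f') (hg : DCoh.RpushPreservesQCoh g) (hg' : DCoh.RpushPreservesQCoh g') (a : DCoh.DQCoh Y ⥤ DCoh.DQCoh X) (a' : DCoh.DQCoh Y' ⥤ DCoh.DQCoh X') (adj : DCoh.RpushQ f hf ⊣ a) (adj' : DCoh.RpushQ f' hf' ⊣ a') : ∃ e : (DCoh.RpushQ g' hg' ⋙ DCoh.RpushQ f hf ≅ DCoh.RpushQ f' hf' ⋙ DCoh.RpushQ g hg), ∀ M : DCoh.DQCoh Y', IsIso (Dual3.xi adj adj' e M) := by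
  haveI : QuasiCompact f := quasiCompact_of_compactSpace f
  haveI : QuasiSeparated f := QuasiSeparated.of_comp f (terminal.from Y)
  haveI := KFlatLib.hasLpull g
  haveI := KFlatLib.hasLpull g'
  let adjg := KFlatLib.lpullRpushAdj g
  let adjg' := KFlatLib.lpullRpushAdj g'
  have hloc : ∀ T : CochainComplex X.Modules ℤ, DCoh.IsKFlat T → DCoh.IsQCohD (DerivedCategory.Q.obj T) →
      DerBCLib.HasLocModel f g g' T := fun T hT hTq => by
    rcases hflat with hF | hG
    · refine DerBCLib.hasLocModel_tor hT hTq fun U hU U' hU' hle V hV hle' i hi => ?_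
      letI := (g.appLE U U' hle).hom.toModule
      letI := (f.appLE U V hle').hom.toModule
      haveI : Module.Flat Γ(Y, U) Γ(X, V) :=
        HasRingHomProperty.appLE (P := @Flat) f hF ⟨U, hU⟩ ⟨V, hV⟩ hle'
      exact (Groth.Agent.S3527.result Γ(Y, U) Γ(X, V) Γ(Y', U') i hi).2
    · haveI := hG
      exact DerBCLib.hasLocModel_flat hT hTq
  let e₀ := DerBCLib.rpushSqIso (f := f) (g := g) (f' := f') (g' := g') hsq.w
  let e : DCoh.RpushQ g' hg' ⋙ DCoh.RpushQ f hf ≅ DCoh.RpushQ f' hf' ⋙ DCoh.RpushQ g hg :=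
    NatIso.ofComponents (fun T => ObjectProperty.isoMk _ (e₀.app T.obj))
      (fun {T T'} u => ObjectProperty.hom_ext _ (e₀.hom.naturality u.hom))
  refine ⟨e, fun M => ?_⟩
  let Z := (DCoh.RpushQ g hg).obj M
  suffices hb : ∀ T : DCoh.DQCoh X, Function.Bijective
      fun u : T ⟶ (DCoh.RpushQ g' hg').obj (a'.obj M) => u ≫ Dual3.xi adj adj' e M by
    obtain ⟨s, hs⟩ := (hb (a.obj Z)).2 (𝟙 _)
    refine ⟨s, (hb _).1 ?_, hs⟩
    show (Dual3.xi adj adj' e M ≫ s) ≫ _ = 𝟙 _ ≫ _
    rw [Category.assoc, show s ≫ Dual3.xi adj adj' e M = 𝟙 _ from hs, Category.comp_id, Category.id_comp]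
  intro T
  let T' : DCoh.DQCoh X' := ⟨(DCoh.Lpull g').obj T.obj, KFlatLib.isQCohD_lpull g' _ T.property⟩
  let β : (DCoh.Lpull g).obj ((DCoh.Rpush f).obj T.obj) ⟶ (DCoh.Rpush f').obj T'.obj :=
    DCoh.baseChangeApp adjg adjg' e₀ T.obj
  haveI : IsIso β := DerBCLib.isIso_baseChangeApp hsq adjg adjg' hloc T.obj T.property
  let push : (T' ⟶ a'.obj M) ≃ (T ⟶ (DCoh.RpushQ g' hg').obj (a'.obj M)) :=
    { toFun := fun v => ObjectProperty.homMk (adjg'.homEquiv _ _ v.hom)
      invFun := fun u => ObjectProperty.homMk ((adjg'.homEquiv _ _).symm u.hom)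
      left_inv := fun v => ObjectProperty.hom_ext _ ((adjg'.homEquiv _ _).symm_apply_apply v.hom)
      right_inv := fun u => ObjectProperty.hom_ext _ ((adjg'.homEquiv _ _).apply_symm_apply u.hom) }
  let push₀ : ((DCoh.RpushQ f' hf').obj T' ⟶ M) ≃ ((DCoh.RpushQ f hf).obj T ⟶ Z) :=
    { toFun := fun w => ObjectProperty.homMk (adjg.homEquiv _ _ (β ≫ w.hom))
      invFun := fun z => ObjectProperty.homMk (inv β ≫ (adjg.homEquiv _ _).symm z.hom)
      left_inv := fun w => ObjectProperty.hom_ext _ (by simp)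
      right_inv := fun z => ObjectProperty.hom_ext _ (by simp) }
  suffices h : (fun u : T ⟶ (DCoh.RpushQ g' hg').obj (a'.obj M) => u ≫ Dual3.xi adj adj' e M) =
      ((push.symm.trans (adj'.homEquiv T' M).symm).trans push₀).trans (adj.homEquiv T Z) by
    rw [h]
    exact Equiv.bijective _
  funext u
  obtain ⟨v, rfl⟩ := push.surjective u
  simp only [Equiv.trans_apply, Equiv.symm_apply_apply]
  rw [Dual3.xi, ← Adjunction.homEquiv_naturality_left]
  refine congrArg (adj.homEquiv T Z) (ObjectProperty.hom_ext _ ?_)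
  show (DCoh.Rpush f).map (adjg'.homEquiv _ _ v.hom) ≫ e₀.hom.app _ ≫
      (DCoh.Rpush g).map (adj'.counit.app M).hom =
    adjg.homEquiv _ _ (β ≫ ((adj'.homEquiv T' M).symm v).hom)
  rw [adjg.homEquiv_naturality_right, adjg'.homEquiv_unit, Functor.map_comp, Category.assoc,
    show adjg.homEquiv _ _ β = (DCoh.Rpush f).map (adjg'.unit.app T.obj) ≫ e₀.hom.app T'.obj from
      Equiv.apply_symm_apply _ _, Category.assoc, adj'.homEquiv_counit]
  refine congrArg (_ ≫ ·) ?_
  show _ = _ ≫ (DCoh.Rpush g).map ((DCoh.Rpush f').map v.hom ≫ (adj'.counit.app M).hom)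
  rw [Functor.map_comp, ← Category.assoc, ← Category.assoc]
  exact congrArg (· ≫ _) (e₀.hom.naturality v.hom)

end Groth.Agent.S3602
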