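import Groth.Statements.S3605
import Groth.Agent.S1002
import Groth.Agent.Dual3Lib.PushCoh
import Groth.Agent.DualFMLib.GorFib.Fibre
import Groth.Agent.DualFMLib.FlatHom.PC
import Groth.Agent.QRlimLib.Trunc
import Groth.Agent.ProjFormLib.QCohMain
import Groth.Agent.PerfBaseLib.FlatProper

set_option autoImplicit false
set_option backward.isDefEq.respectTransparency false
set_option backward.isDefEq.respectTransparency.types false
universe u
open CategoryTheory CategoryTheory.Limits AlgebraicGeometry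
attribute [local instance] HasDerivedCategory.standard
open Dual3

namespace Groth.Agent.S3605

/-- Let Y be a quasi-compact quasi-separated scheme and f : X → Y a morphism which is proper, flat and
of finite presentation. Assume the derived direct image Rf_* exists and preserves quasi-coherence of
cohomology sheaves (both known results), so that it restricts to a functor D_QCoh(O_X) →
D_QCoh(O_Y), and let a : D_QCoh(O_Y) → D_QCoh(O_X) be a right adjoint of this restricted functor.
Let O be an object of D_QCoh(O_Y) isomorphic to the structure sheaf placed in degree 0, so that a(O)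
is the relative dualizing complex of f. Then the cohomology sheaves of Rf_*a(O) vanish in all
positive degrees. (The published statement has further parts, which are not asserted here.) -/
theorem result (X Y : Scheme.{u}) [CompactSpace Y] [QuasiSeparatedSpace Y] (f : X ⟶ Y) [IsProper f] [Flat f] [LocallyOfFinitePresentation f] [DCoh.HasRpush f] (hf : DCoh.RpushPreservesQCoh f) (a : DCoh.DQCoh Y ⥤ DCoh.DQCoh X) (adj : DCoh.RpushQ f hf ⊣ a) (O : DCoh.DQCoh Y) (hO : Nonempty (O.obj ≅ DCoh.inD Y (Coh.structureModule Y))) (i : ℤ) (hi : 0 < i) : IsZero (DCoh.HD ((DCoh.RpushQ f hf).obj (a.obj O)).obj i) := by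
  haveI : CompactSpace X := QuasiCompact.compactSpace_of_compactSpace f
  haveI : QuasiSeparatedSpace X := quasiSeparatedSpace_of_quasiSeparated f
  haveI := KFlatLib.hasLpull f
  obtain ⟨eO⟩ := hO
  let eY : O.obj ≅ DerivedCategory.Q.obj (PerfDualLib.unitCx Y) :=
    eO ≪≫ (DerivedCategory.singleFunctorIsoCompQ Y.Modules 0).app (Coh.structureModule Y)
  have hUp : ∀ Z : Scheme.{u}, DCoh.IsPerfect (DerivedCategory.Q.obj (PerfDualLib.unitCx Z)) := fun Z =>
    PerfBaseLib.isPerfect_unitCx Z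
  -- a K-injective model of the structure sheaf of the source and a K-flat model of its direct image
  obtain ⟨I₀, hI₀, ⟨eI₀⟩⟩ := DerLib.KInjUse.exists_iso_Q_kInjective
    (DerivedCategory.Q.obj (PerfDualLib.unitCx X))
  haveI := hI₀
  haveI := KFlatLib.hasLTensorCx I₀
  haveI := BidualSchLib.hasRSheafHom I₀
  have hI₀p : DCoh.IsPerfect (DerivedCategory.Q.obj I₀) := PerfLib.isPerfect_of_iso eI₀ (hUp X)
  let A := (KFlatLib.resP Y).obj ((ProjFormLib.pushC f).obj I₀)
  let ψ : A ⟶ (ProjFormLib.pushC f).obj I₀ := (KFlatLib.resψ Y).app ((ProjFormLib.pushC f).obj I₀)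
  haveI : QuasiIso ψ := KFlatLib.quasiIso_resψ _
  have hA : DCoh.IsKFlat A := (KFlatLib.good_resP _).1
  haveI := KFlatLib.hasLTensorCx A
  haveI := BidualSchLib.hasRSheafHom A
  haveI := Dual3Lib.isIso_pushQ f I₀
  let eA : DerivedCategory.Q.obj A ≅ (DCoh.Rpush f).obj (DerivedCategory.Q.obj (PerfDualLib.unitCx X)) :=
    asIso (DerivedCategory.Q.map ψ) ≪≫ asIso (Dual3Lib.pushQ f I₀) ≪≫ (DCoh.Rpush f).mapIso eI₀.symm
  have hAp : DCoh.IsPerfect (DerivedCategory.Q.obj A) :=
    PerfLib.isPerfect_of_iso eA.symm (S1002.result f _ (hUp X))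
  obtain ⟨e₁⟩ := Dual3Lib.nonempty_pushHom f hf a adj O I₀ hI₀p A ψ hA
    (PerfDualLib.isQCohD_rSheafHom_of_isPerfect A hAp O.obj O.property)
  obtain ⟨J, hJ, ⟨eJ⟩⟩ := DerLib.KInjUse.exists_iso_Q_kInjective (a.obj O).obj
  haveI := hJ
  obtain ⟨g₁⟩ := PerfDualLib.nonempty_rSheafHom_iso I₀ J eJ.symm
  obtain ⟨g₂⟩ := PerfDualLib.nonempty_iG_congr eI₀.symm J
  let eM : (DCoh.RSheafHom I₀).obj (a.obj O).obj ≅ (a.obj O).obj :=
    g₁ ≪≫ g₂ ≪≫ DerivedCategory.Q.mapIso (PerfDualLib.gUnitIso.app J) ≪≫ eJ.symm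
  let eK : ((DCoh.RpushQ f hf).obj (a.obj O)).obj ≅
      (DCoh.RSheafHom A).obj (DerivedCategory.Q.obj (PerfDualLib.unitCx Y)) :=
    (DCoh.Rpush f).mapIso eM.symm ≪≫ e₁ ≪≫ (DCoh.RSheafHom A).mapIso eY
  obtain ⟨I, hI, ⟨eI⟩⟩ := DerLib.KInjUse.exists_iso_Q_kInjective
    ((DCoh.RSheafHom A).obj (DerivedCategory.Q.obj (PerfDualLib.unitCx Y)))
  haveI := KFlatLib.hasLTensorCx I
  haveI := BidualSchLib.hasRSheafHom I
  haveI := KFlatLib.hasLTensorCx (PerfDualLib.unitCx Y)
  haveI := BidualSchLib.hasRSheafHom (PerfDualLib.unitCx Y)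
  have hIp : DCoh.IsPerfect (DerivedCategory.Q.obj I) :=
    PerfLib.isPerfect_of_iso eI (PerfDualLib.isPerfect_dual A hAp)
  -- maps into objects in degrees `≥ 1` vanish
  have hvan : ∀ N : DCoh.D Y, DCoh.IsQCohD N → N.IsGE 1 →
      ∀ φ : DerivedCategory.Q.obj I ⟶ N, φ = 0 := by
    intro N hN hN1 φ
    obtain ⟨P, hP, ⟨eP⟩⟩ := PerfDualLib.exists_kFlat_model N
    haveI := KFlatLib.hasLTensorCx P
    haveI := KFlatLib.hasLTensorCx ((ProjFormLib.pullC f).obj P)
    obtain ⟨d⟩ := Dual3Lib.nonempty_rSheafHom_dual A I hAp hIp eI.symm (DerivedCategory.Q.obj P)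
    obtain ⟨t₁⟩ := KFlatLib.exists_lTensorCxObjIso A P hP
    obtain ⟨t₂⟩ := KFlatLib.exists_lTensorCxObjIso P A hA
    obtain ⟨pr⟩ := ProjFormLib.nonempty_projection_qcoh f P hP (KFlatLib.isQCohD_iso eP.symm hN)
      (DerivedCategory.Q.obj (PerfDualLib.unitCx X)) (KoszOrthLib.isQCohD_of_isPerfect (hUp X))
    obtain ⟨u⟩ := Dual3Lib.nonempty_lTensorCx_unit ((ProjFormLib.pullC f).obj P)
    let eR : (DCoh.RSheafHom I).obj (DerivedCategory.Q.obj P) ≅
        (DCoh.Rpush f).obj ((DCoh.Lpull f).obj (DerivedCategory.Q.obj P)) :=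
      d.symm ≪≫ t₁ ≪≫ DerivedCategory.Q.mapIso (KFlatLib.tCxFlip A P) ≪≫ t₂.symm ≪≫
        (DCoh.LTensorCx P).mapIso eA ≪≫ pr ≪≫
        (DCoh.Rpush f).mapIso (u ≪≫ (KFlatLib.lpullObjIso f P hP).symm)
    haveI : (DerivedCategory.Q.obj (PerfDualLib.unitCx Y)).IsLE 0 :=
      DerivedCategory.TStructure.t.isLE_of_iso
        ((DerivedCategory.singleFunctorIsoCompQ Y.Modules 0).app (Coh.structureModule Y)) 0
    haveI := DualFMLib.isLE_lpull_flat f (DerivedCategory.Q.obj (PerfDualLib.unitCx Y)) 0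
    haveI hP1 : (DerivedCategory.Q.obj P).IsGE 1 :=
      DerivedCategory.TStructure.t.isGE_of_iso eP.symm 1
    haveI := DualFMLib.isGE_lpull_flat f (DerivedCategory.Q.obj P) 1
    have hz : ∀ ρ : DerivedCategory.Q.obj (PerfDualLib.unitCx Y) ⟶
        (DCoh.RSheafHom I).obj (DerivedCategory.Q.obj P), ρ = 0 := fun ρ => by
      rw [← cancel_mono eR.hom, zero_comp]
      refine ((KFlatLib.lpullRpushAdj f).homEquiv _ _).symm.injective ?_
      exact (DerivedCategory.TStructure.t.zero _ 0 1).trans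
        (DerivedCategory.TStructure.t.zero _ 0 1).symm
    obtain ⟨w⟩ := Dual3Lib.nonempty_lTensorCx_unit I
    rw [← cancel_mono eP.inv, zero_comp, ← cancel_epi w.hom, comp_zero]
    apply ((DCoh.RSheafHomAdj I).homEquiv _ _).injective
    exact (hz _).trans (hz _).symm
  let K := ((DCoh.RpushQ f hf).obj (a.obj O)).obj
  have hK : DCoh.IsQCohD K := ((DCoh.RpushQ f hf).obj (a.obj O)).property
  suffices K.IsLE 0 from DerivedCategory.isZero_of_isLE K 0 i hi
  have hπ : (DerivedCategory.TStructure.t.truncGTπ 0).app K = 0 := by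
    rw [← cancel_epi (eI.symm ≪≫ eK.symm).hom, comp_zero]
    refine hvan _ (fun q => ?_) ?_ _
    · by_cases hq : 0 < q
      · have := DerLib.Devissage.isIso_homology_truncGTπ K 0 q hq
        exact @QCohLib.isQCoh_of_iso _ _ _ (asIso ((DerivedCategory.homologyFunctor Y.Modules q).map
          ((DerivedCategory.TStructure.t.truncGTπ 0).app K))) (hK q)
      · haveI : ((DerivedCategory.TStructure.t.truncGT 0).obj K).IsGE 1 :=
          inferInstanceAs (DerivedCategory.TStructure.t.IsGE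
            ((DerivedCategory.TStructure.t.truncGE (0 + 1)).obj K) (0 + 1))
        exact KFlatLib.isQCoh_zero (DerivedCategory.isZero_of_isGE _ 1 q (by omega))
    · exact inferInstanceAs (DerivedCategory.TStructure.t.IsGE
        ((DerivedCategory.TStructure.t.truncGE (0 + 1)).obj K) (0 + 1))
  refine (DerivedCategory.TStructure.t.isLE_iff_orthogonal 0 1 rfl K).2 fun Z h hZ => ?_
  obtain ⟨g, hg⟩ := Pretriangulated.Triangle.yoneda_exact₂ _
    (DerivedCategory.TStructure.t.triangleLEGT_distinguished 0 K) h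
    (DerivedCategory.TStructure.t.zero_of_isLE_of_isGE _ 0 1 (by omega)
      (inferInstanceAs (DerivedCategory.TStructure.t.IsLE ((DerivedCategory.TStructure.t.truncLE 0).obj K) 0)) hZ)
  exact hg.trans ((congrArg (fun x => x ≫ g) hπ).trans zero_comp)

end Groth.Agent.S3605
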