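import Groth.Statements.S3639
import Groth.Agent.RHomOLib.Ext
import Groth.Agent.IntMultLib.Cartier
import Groth.Agent.PicPnLib.BaseChange
import Groth.Agent.ExtShLib.Shriek

set_option autoImplicit false
set_option backward.isDefEq.respectTransparency false
set_option backward.isDefEq.respectTransparency.types false
set_option backward.isDefEq.respectTransparency false
set_option backward.isDefEq.respectTransparency.types false
set_option maxHeartbeats 1000000
set_option synthInstance.maxHeartbeats 200000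
set_option linter.style.haveILetI false
universe u
open CategoryTheory CategoryTheory.Limits AlgebraicGeometry
attribute [local instance] HasDerivedCategory.standard
open Dual3

namespace Groth.Agent.S3639

/-- `Hom(O, O) → Hom(I, O)` is injective for an invertible ideal. -/
theorem mono_preMap_f {X : Scheme.{u}} {S : ShortComplex X.Modules} (hS : S.ShortExact)
    (e : S.X₂ ≅ Coh.structureModule X) {L : X.Modules}
    (eL : CohB1.tensorMod L S.X₁ ≅ Coh.structureModule X) :
    Mono (PnDualLib.preMap S.f (Coh.structureModule X)) := by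
  haveI := hS.mono_f
  let ω := Coh.structureModule X
  let f : S.X₁ ⟶ Coh.structureModule X := S.f ≫ e.hom
  haveI : Mono f := mono_comp _ _
  obtain ⟨hev, ⟨u⟩⟩ := ExtShLib.isIso_evMod_of_inverse eL ω
  let H := CohCmpLib.homMod S.X₁ ω
  let T := (DCoh.tensorBi (X := X)).flip.obj H
  haveI : T.PreservesMonomorphisms :=
    haveI : ((DCoh.tensorBi (X := X)).obj L).IsEquivalence := VBP1Lib.isEquivalence_tensor eL
    let a : (DCoh.tensorBi (X := X)).flip.obj H ≅ (DCoh.tensorBi (X := X)).obj L :=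
      (DCoh.tensorBi (X := X)).flip.mapIso (u ≪≫ PicPnLib.unitRight L) ≪≫ ExtShLib.flipIso L
    Functor.preservesMonomorphisms.of_iso a.symm
  haveI hTf : Mono (T.map f) := inferInstance
  have hsq : T.map f ≫ ExtShLib.uL H = CohCmpLib.evMod S.X₁ ω ≫ ExtShLib.unitHom' ω ≫ PnDualLib.preMap f ω :=
    ExtShLib.divisor_square f ω
  haveI : Mono (CohCmpLib.evMod S.X₁ ω ≫ ExtShLib.unitHom' ω ≫ PnDualLib.preMap f ω) := hsq ▸ mono_comp _ _
  haveI : IsIso (PnDualLib.preMap e.hom ω) :=
    ⟨PnDualLib.preMap e.inv ω, by rw [ExtShLib.preMap_comp, Iso.inv_hom_id, ExtShLib.preMap_id],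
      by rw [ExtShLib.preMap_comp, Iso.hom_inv_id, ExtShLib.preMap_id]⟩
  have hfac : PnDualLib.preMap S.f ω = inv (CohCmpLib.evMod S.X₁ ω ≫ ExtShLib.unitHom' ω ≫ PnDualLib.preMap e.hom ω) ≫
      (CohCmpLib.evMod S.X₁ ω ≫ ExtShLib.unitHom' ω ≫ PnDualLib.preMap f ω) := by
    rw [IsIso.eq_inv_comp, Category.assoc, Category.assoc, ExtShLib.preMap_comp]
  exact hfac ▸ mono_comp _ _

/-- Isomorphic first arguments give the same Ext. -/
theorem nonempty_hcx_congr {X : Scheme.{u}} {A B G : X.Modules} (e : A ≅ B) (J : InjectiveResolution G) (k : ℕ) :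
    Nonempty ((ExtShLib.hcx B J).homology k ≅ (ExtShLib.hcx A J).homology k) :=
  ⟨(HomologicalComplex.homologyFunctor _ _ k).mapIso
    { hom := ExtShLib.preCx J e.hom
      inv := ExtShLib.preCx J e.inv
      hom_inv_id := HomologicalComplex.hom_ext _ _ fun n => by
        show PnDualLib.preMap e.hom _ ≫ PnDualLib.preMap e.inv _ = _
        rw [ExtShLib.preMap_comp, Iso.inv_hom_id, ExtShLib.preMap_id]
        rfl
      inv_hom_id := HomologicalComplex.hom_ext _ _ fun n => by
        show PnDualLib.preMap e.inv _ ≫ PnDualLib.preMap e.hom _ = _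
        rw [ExtShLib.preMap_comp, Iso.hom_inv_id, ExtShLib.preMap_id]
        rfl }⟩

/-- The sequence of an effective Cartier divisor. -/
theorem exists_seq {X : Scheme.{u}} (I : X.IdealSheafData) (hI : BlowUp.IsEffCartierIdeal I) (L : X.Modules)
    (hL : ClSub.IsInverseOf L (ClSub.idealMod I)) :
    ∃ (S : ShortComplex X.Modules) (_ : S.ShortExact) (_ : S.X₂ ≅ Coh.structureModule X),
      PicF.IsInvertible S.X₁ ∧ Nonempty (CohB1.tensorMod L S.X₁ ≅ Coh.structureModule X) ∧
      Nonempty (S.X₃ ≅ ExtShLib.pO I.subschemeι) := by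
  obtain ⟨q⟩ := ExtShLib.nonempty_push_iso_quotMod I.subschemeι
  exact ⟨CurvLib.idealSeq I, CurvLib.idealSeq_shortExact I, Iso.refl _, IntMultLib.isInvertible_idealMod I hI, hL,
    ⟨eqToIso (congrArg ClSub.quotMod I.ker_subschemeι).symm ≪≫ q⟩⟩

/-- Ext out of a divisor. -/
theorem hcx_divisor {X : Scheme.{u}} {S : ShortComplex X.Modules} (hS : S.ShortExact)
    (e : S.X₂ ≅ Coh.structureModule X) (hX : PicF.IsInvertible S.X₁) {L : X.Modules}
    (eL : CohB1.tensorMod L S.X₁ ≅ Coh.structureModule X) (J : InjectiveResolution (Coh.structureModule X)) :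
    (∀ k : ℕ, k ≠ 1 → IsZero ((ExtShLib.hcx S.X₃ J).homology k)) ∧
      Nonempty ((ExtShLib.hcx S.X₃ J).homology 1 ≅ CohB1.tensorMod S.X₃ L) := by
  have h1 : ∀ q, IsZero ((ExtShLib.hcx S.X₁ J).homology (q + 1)) := ExtShLib.isZero_hcx_of_isFinLocFree J
    (AmpleDevLib.isFinLocFree_of_isInvertible hX)
  have h2 : ∀ q, IsZero ((ExtShLib.hcx S.X₂ J).homology (q + 1)) := fun q => by
    obtain ⟨a⟩ := nonempty_hcx_congr e J (q + 1)
    exact (ExtShLib.isZero_hcx_of_isFinLocFree J (ExtShLib.isFinLocFree_structureModule X) q).of_iso a.symm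
  have hC := ExtShLib.seqCx_shortExact J hS
  haveI hm : Mono (PnDualLib.preMap S.f (Coh.structureModule X)) := mono_preMap_f hS e eL
  have hzero : IsZero (CohCmpLib.homMod S.X₃ (Coh.structureModule X)) := by
    haveI := hS.epi_g
    haveI := ExtShLib.mono_preMap S.g (Coh.structureModule X)
    refine IsZero.of_mono_eq_zero (PnDualLib.preMap S.g (Coh.structureModule X)) ?_
    rw [← cancel_mono (PnDualLib.preMap S.f (Coh.structureModule X)), Limits.zero_comp, ExtShLib.preMap_comp, S.zero,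
      ExtShLib.preMap_zero']
  refine ⟨?_, ?_⟩
  · rintro (_ | _ | k) hk
    · exact hzero.of_iso (asIso (ExtShLib.z0 J S.X₃)).symm
    · exact absurd rfl hk
    · exact ShortComplex.Exact.isZero_of_both_zeros (hC.homology_exact₁ (k + 1) (k + 2) (by simp))
        ((h1 k).eq_of_src _ _) ((h2 (k + 1)).eq_of_tgt _ _)
  · haveI hδ : Epi (hC.δ 0 1 (by simp)) :=
      (hC.homology_exact₁ 0 1 (by simp)).epi_f ((h2 0).eq_of_tgt _ _)
    let c : cokernel (HomologicalComplex.homologyMap (ExtShLib.preCx J S.f) 0) ≅ (ExtShLib.hcx S.X₃ J).homology 1 :=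
      (cokernelIsCokernel _).coconePointUniqueUpToIso
        (haveI : Epi (ShortComplex.mk _ _ (hC.comp_δ 0 1 (by simp))).g := hδ
         (hC.homology_exact₃ 0 1 rfl).gIsCokernel)
    let α : cokernel (PnDualLib.preMap S.f (Coh.structureModule X)) ≅
        cokernel (HomologicalComplex.homologyMap (ExtShLib.preCx J S.f) 0) :=
      cokernel.mapIso _ _ (asIso (ExtShLib.z0 J S.X₂)) (asIso (ExtShLib.z0 J S.X₁))
        (ExtShLib.z0_natural J S.f).symm
    obtain ⟨b⟩ := ExtShLib.nonempty_coker_preMap hS e eL (Coh.structureModule X)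
    exact ⟨c.symm ≪≫ α.symm ≪≫ b ≪≫ HilbPolyLib.congrRight _ (PicPnLib.unitRight L)⟩

/-- Let X be a scheme and D ⊆ X an effective Cartier divisor, given by its ideal sheaf I (locally
generated by one nonzerodivisor) with closed immersion i : D → X; let L be an O_X-module inverse to
I for the tensor product (the module O_X(D)) and N = i^*L the normal sheaf. Let R Hom(O_D, -) :
D^+(O_X) → D^+(O_D) be the right derived functor of the right adjoint of i_* (assumed to exist,
injective resolutions assumed) and O an object of D^+(O_X) isomorphic to the structure sheaf in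
degree 0. Then H^j(R Hom(O_D, O)) = 0 for j ≠ 1 and H^1(R Hom(O_D, O)) is isomorphic to N; that is,
R Hom(O_D, O_X) = N[-1]. -/
theorem result (X : Scheme.{u}) (I : X.IdealSheafData) (hI : BlowUp.IsEffCartierIdeal I) [Dual3.HasHomO I.subschemeι] [EnoughInjectives X.Modules] (L : X.Modules) (hL : ClSub.IsInverseOf L (ClSub.idealMod I)) (O : DerivedCategory.Plus X.Modules) (hO : Nonempty (O.obj ≅ DCoh.inD X (Coh.structureModule X))) : (∀ j : ℤ, j ≠ 1 → IsZero (DCoh.HD ((Dual3.RHomOPlus I.subschemeι).obj O).obj j)) ∧ Nonempty (DCoh.HD ((Dual3.RHomOPlus I.subschemeι).obj O).obj 1 ≅ (Scheme.Modules.pullback I.subschemeι).obj L) := by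
  obtain ⟨eO⟩ := hO
  obtain ⟨S, hS, e₂, hX₁, ⟨eL⟩, ⟨e₃⟩⟩ := exists_seq I hI L hL
  let J : InjectiveResolution (Coh.structureModule X) := injectiveResolution _
  obtain ⟨hneg, hpos⟩ := RHomOLib.nonempty_push_HD_RHomO I.subschemeι O eO J
  obtain ⟨hj, ⟨e1⟩⟩ := hcx_divisor hS e₂ hX₁ eL J
  refine ⟨fun j hj' => ?_, ?_⟩
  · rcases lt_or_ge j 0 with h | h
    · exact hneg j h
    · obtain ⟨k, rfl⟩ := Int.eq_ofNat_of_zero_le h
      obtain ⟨e⟩ := hpos k
      obtain ⟨e'⟩ := nonempty_hcx_congr e₃ J k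
      exact ImmPCLib.isZero_of_push _ ((hj k (by omega)).of_iso (e ≪≫ e'))
  · obtain ⟨e⟩ := hpos 1
    obtain ⟨e'⟩ := nonempty_hcx_congr e₃ J 1
    obtain ⟨ff⟩ := ExtShLib.push_fullyFaithful I.subschemeι
    exact ⟨ff.preimageIso (e ≪≫ e' ≪≫ e1 ≪≫
      (((DCoh.tensorBi (X := X)).mapIso e₃).app L : CohB1.tensorMod S.X₃ L ≅ CohB1.tensorMod (ExtShLib.pO I.subschemeι) L) ≪≫
      (ExtShLib.tensPushIso I.subschemeι).app L)⟩


end Groth.Agent.S3639
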