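import Groth.Statements.S3607
import Groth.Agent.ShriekLib.AffineLine

set_option autoImplicit false
set_option linter.style.haveILetI false
set_option backward.isDefEq.respectTransparency false
set_option backward.isDefEq.respectTransparency.types false
universe u
open CategoryTheory CategoryTheory.Limits AlgebraicGeometry
attribute [local instance] HasDerivedCategory.standard
open Dual3

namespace Groth.Agent.S3607

/-- Let S be a Noetherian scheme, Y separated and of finite type over S, and f : A^1_Y → Y the
projection from the affine line. Compute f^! through any compactification f = j ∘ p (j an open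
immersion, p proper, Rp_* on D_QCoh assumed to exist and to preserve quasi-coherence, a a right
adjoint of it, restriction to the open assumed exact) and let Lf^* be the derived pullback (assumed
to exist). Then there is an isomorphism of functors f^! ≅ Lf^*(-)[1] on D^+_QCoh(O_Y) (not asserted
to be canonical). -/
theorem result (S Y : Scheme.{u}) [IsNoetherian S] (q : Y ⟶ S) [Dual3.IsSepFT q] (c : DEt.Compactification (AffineSpace (ULift.{u} (Fin 1)) Y ↘ Y)) [DCoh.HasRpush c.fbar] (hc : DCoh.RpushPreservesQCoh c.fbar) (a : DCoh.DQCoh Y ⥤ DCoh.DQCoh c.Xbar) (adj : DCoh.RpushQ c.fbar hc ⊣ a) [PreservesFiniteLimits (Scheme.Modules.restrictFunctor c.j)] [DCoh.HasLpull (AffineSpace (ULift.{u} (Fin 1)) Y ↘ Y)] : Nonempty (Dual3.bddι Y ⋙ Dual3.shriekC c a ≅ Dual3.bddι Y ⋙ ObjectProperty.ι _ ⋙ DCoh.Lpull (AffineSpace (ULift.{u} (Fin 1)) Y ↘ Y) ⋙ shiftFunctor (DCoh.D (AffineSpace (ULift.{u} (Fin 1)) Y)) (1 : ℤ)) := by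
  let f := AffineSpace (ULift.{u} (Fin 1)) Y ↘ Y
  haveI : LocallyOfFiniteType q := Dual3.IsSepFT.locallyOfFiniteType
  haveI : QuasiCompact q := Dual3.IsSepFT.quasiCompact
  haveI : IsLocallyNoetherian Y := LocallyOfFiniteType.isLocallyNoetherian q
  haveI : CompactSpace Y := QuasiCompact.compactSpace_of_compactSpace q
  haveI : IsNoetherian Y := ⟨⟩
  haveI : SmoothOfRelativeDimension 1 f := ShriekLib.smoothRel_affineLine Y
  haveI : Smooth f := SmoothOfRelativeDimension.smooth 1 f
  haveI : IsSeparated f := by change IsSeparated (AffineSpace (ULift.{u} (Fin 1)) Y ↘ Y); rw [← c.fac]; infer_instance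
  let Δ := pullback.diagonal f
  let i := Δ.ker.subschemeι
  have hfac : Δ.toImage ≫ i = Δ := Δ.toImage_imageι
  haveI : IsClosedImmersion Δ := inferInstance
  haveI : IsIso Δ.toImage := inferInstance
  have he2 : i ≫ pullback.snd f f = CategoryTheory.inv Δ.toImage := by
    refine (IsIso.inv_eq_of_hom_inv_id ?_).symm
    rw [← Category.assoc, hfac, pullback.diagonal_snd]
  have he1 : i ≫ pullback.fst f f = CategoryTheory.inv Δ.toImage := by
    refine (IsIso.inv_eq_of_hom_inv_id ?_).symm
    rw [← Category.assoc, hfac, pullback.diagonal_fst]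
  haveI : IsIso (i ≫ pullback.snd f f) := by rw [he2]; infer_instance
  haveI : Smooth (pullback.snd f f) := MorphismProperty.pullback_snd (P := @Smooth) _ _ inferInstance
  have hperf : MoreMor.IsPerfectMor i :=
    PerfModLib.perfectMor_cancel_smooth i (pullback.snd f f) (PerfModLib.perfectMor_of_flat _)
  exact ShriekLib.nonempty_shriek_sect f c.j c.fbar c.fac hc a adj i (he1.trans he2.symm) hperf 1
    ShriekLib.nonempty_shriek_affineLine_diag
end Groth.Agent.S3607
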