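import Groth.Statements.S3610
import Groth.Agent.ShriekLib.PerfectMain
import Groth.Agent.ShriekLib.LCI
import Groth.Agent.KFlatLib.PerfectPull
import Groth.Agent.Dual3Lib.SerreMain

set_option autoImplicit false
set_option backward.isDefEq.respectTransparency false
set_option backward.isDefEq.respectTransparency.types false
universe u
open CategoryTheory CategoryTheory.Limits AlgebraicGeometry
attribute [local instance] HasDerivedCategory.standard
open Dual3
open Groth.Agent

namespace Groth.Agent.S3610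

/-- Let S be a Noetherian scheme, X and Y schemes separated and of finite type over S and f : X → Y a
morphism over S; compute f^! through a compactification f = j ∘ p (j : X → X' an open immersion, p :
X' → Y proper, Rp_* on D_QCoh assumed to exist and to preserve quasi-coherence of cohomology, a a
right adjoint of Rp_*, restriction of modules to opens assumed exact), so that f^!K = a(K)|_X. If f
is a local complete intersection morphism then for every bounded below K in D_QCoh(O_Y) which is
perfect, f^!K is a perfect object of D(O_X). -/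
theorem result (S X Y : Scheme.{u}) [IsNoetherian S] (p : X ⟶ S) (q : Y ⟶ S) [Dual3.IsSepFT p] [Dual3.IsSepFT q] (f : X ⟶ Y) (w : f ≫ q = p) (hf : Dual3.IsLCIMor f) (c : DEt.Compactification f) [DCoh.HasRpush c.fbar] (hc : DCoh.RpushPreservesQCoh c.fbar) (a : DCoh.DQCoh Y ⥤ DCoh.DQCoh c.Xbar) (adj : DCoh.RpushQ c.fbar hc ⊣ a) [∀ (U V : Scheme.{u}) (j : U ⟶ V) [IsOpenImmersion j], PreservesFiniteLimits (Scheme.Modules.restrictFunctor j)] (K : DCoh.DQCoh Y) (c₀ : ℤ) (hK : ∀ i : ℤ, i < c₀ → IsZero (DCoh.HD K.obj i)) (hP : DCoh.IsPerfect K.obj) : DCoh.IsPerfect ((Dual3.shriekC c a).obj K) := by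
  haveI : IsLocallyNoetherian Y := LocallyOfFiniteType.isLocallyNoetherian q
  haveI : CompactSpace Y := QuasiCompact.compactSpace_of_compactSpace q
  haveI : IsNoetherian Y := ⟨⟩
  let O : DCoh.DQCoh Y :=
    ⟨DCoh.inD Y (Coh.structureModule Y), PerfBaseLib.isQCohD_inD _ QCohLib.isQCoh_unit⟩
  have hperf := PerfModLib.perfectMor_of_lciMor f (ShriekLib.lciMor_of_isLCIMor f hf)
  obtain ⟨E, hE, ⟨eE⟩⟩ := PerfDualLib.exists_kFlat_model ((Dual3.shriekC c a).obj O)
  haveI := KFlatLib.hasLTensorCx E
  haveI := KFlatLib.hasLpull f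
  obtain ⟨e⟩ := ShriekLib.nonempty_shriek_perfect f hperf c.j c.fbar c.fac hc a adj O ⟨Iso.refl _⟩ E ⟨eE⟩
  have hb : Dual3.IsBddBelowQ Y K := ⟨c₀, (DerivedCategory.isGE_iff _ _).2 hK⟩
  refine PerfLib.isPerfect_of_iso (e.app ⟨K, hb⟩).symm ?_
  obtain ⟨t⟩ := Dual3Lib.ten_lTensor (A := (DCoh.Lpull f).obj K.obj) E eE
  refine PerfLib.isPerfect_of_iso t.symm (Dual3Lib.ten_isPerfect (KFlatLib.isPerfect_lpull f K.obj hP) ?_)
  exact Dual3Lib.Serre.isPerfect_of_isInvertibleD
    (ShriekLib.isInvertibleD_shriek_lci f hf c.j c.fbar c.fac hc a adj O ⟨Iso.refl _⟩)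
end Groth.Agent.S3610
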