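import Groth.Statements.S3611
import Groth.Agent.ShriekAffLib.Stalk
import Groth.Agent.S1785
import Groth.Agent.HensSchLib.Flat

set_option autoImplicit false
set_option backward.isDefEq.respectTransparency false
set_option backward.isDefEq.respectTransparency.types false
set_option linter.style.haveILetI false
set_option maxHeartbeats 1000000
universe u
open CategoryTheory CategoryTheory.Limits AlgebraicGeometry
attribute [local instance] HasDerivedCategory.standard
open Dual3

namespace Groth.Agent.S3611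

/-- Let S be a Noetherian scheme, X and Y schemes separated and of finite type over S and f : X → Y a
morphism over S; compute f^! through a compactification f = j ∘ p (j : X → X' an open immersion, p :
X' → Y proper, Rp_* on D_QCoh assumed to exist and to preserve quasi-coherence of cohomology, a a
right adjoint of Rp_*, restriction of modules to opens assumed exact), so that f^!K = a(K)|_X. Let O
be the structure sheaf of Y in degree 0, x a point of X and n a natural number with dim_x(X_{f(x)})
≤ n (local dimension of the fibre at x). If the stalk of H^i(f^!O) at x is nonzero then -n ≤ i. -/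
theorem result (S X Y : Scheme.{u}) [IsNoetherian S] (p : X ⟶ S) (q : Y ⟶ S) [Dual3.IsSepFT p] [Dual3.IsSepFT q] (f : X ⟶ Y) (w : f ≫ q = p) (c : DEt.Compactification f) [DCoh.HasRpush c.fbar] (hc : DCoh.RpushPreservesQCoh c.fbar) (a : DCoh.DQCoh Y ⥤ DCoh.DQCoh c.Xbar) (adj : DCoh.RpushQ c.fbar hc ⊣ a) [∀ (U V : Scheme.{u}) (j : U ⟶ V) [IsOpenImmersion j], PreservesFiniteLimits (Scheme.Modules.restrictFunctor j)] (O : DCoh.DQCoh Y) (hO : Nonempty (O.obj ≅ DCoh.inD Y (Coh.structureModule Y))) (x : X) (n : ℕ) (hn : Dual3.localFibreDim f x ≤ (n : WithBot ℕ∞)) (i : ℤ) (hi : Nontrivial ((DCoh.HD ((Dual3.shriekC c a).obj O) i).presheaf.stalk x)) : -(n : ℤ) ≤ i := by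
  haveI : IsLocallyNoetherian Y := LocallyOfFiniteType.isLocallyNoetherian q
  haveI : CompactSpace Y := QuasiCompact.compactSpace_of_compactSpace q
  haveI : IsNoetherian Y := ⟨⟩
  haveI : ∀ R : CommRingCat.{u}, PreservesFiniteLimits (tilde.functor R) :=
    fun R => HensSchLib.tilde_preservesFiniteLimits R
  haveI := ShriekAffLib.isNoetherian_source c.j c.fbar
  obtain ⟨W, hW, V, hV, hVW, hxV, -⟩ := ShriekAffLib.exists_charts f x ⊤ trivial
  obtain ⟨m, ψ, hψ, _, Rψ, adjψ, ⟨e⟩⟩ :=
    ShriekAffLib.exists_affine_model f c.j c.fbar c.fac hc a adj O hO W hW V hV hVW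
  haveI : IsNoetherianRing Γ(Y, W) := IsLocallyNoetherian.component_noetherian ⟨W, hW⟩
  haveI : IsNoetherianRing Γ(X, V) := IsLocallyNoetherian.component_noetherian ⟨V, hV⟩
  letI : Algebra Γ(Y, W) Γ(X, V) := (f.appLE W V hVW).hom.toAlgebra
  obtain ⟨P, rfl⟩ : ∃ P, hV.fromSpec P = x := ⟨_, hV.fromSpec_primeIdealOf ⟨x, hxV⟩⟩
  obtain ⟨d, hd, hdn⟩ := ShriekAffLib.exists_eq_of_le ((NodalLib.localFibreDim_eq f _).symm ▸ hn)
    (ShriekAffLib.fibreDimAt_ne_bot f _)
  have h := Groth.Agent.S1785.result Γ(Y, W) Γ(X, V) m ψ hψ Rψ adjψ P d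
    ((ShriekAffLib.fibreDimAt_fromSpec f hW hV hVW P).trans hd) i
    ((Groth.Agent.DualCxLib.stalkHD hV.fromSpec e P i).nontrivial_congr.1 hi)
  omega

end Groth.Agent.S3611
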