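import Groth.Statements.S3644
import Groth.Agent.ShriekLib.SelfPerfect
import Groth.Agent.ShriekLib.PerfectMain
import Groth.Agent.S11145
-- import your own Groth.Agent.* helpers here

set_option autoImplicit false
set_option backward.isDefEq.respectTransparency false
set_option backward.isDefEq.respectTransparency.types false
set_option maxHeartbeats 1000000
universe u
open CategoryTheory CategoryTheory.Limits AlgebraicGeometry
attribute [local instance] HasDerivedCategory.standard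
open Dual3

namespace Groth.Agent.S3644

/-- Let S be a Noetherian scheme, X and Y schemes separated and of finite type over S and f : X → Y a
morphism over S; compute f^! through a compactification f = f̄ ∘ j (j : X → X̄ an open immersion, f̄
: X̄ → Y proper, Rf̄_* on D_QCoh assumed to exist and to preserve quasi-coherence of cohomology, a a
right adjoint of Rf̄_*, and restriction of modules to opens assumed exact), so that f^!K = a(K)|_X.
Assume f is perfect (affine-locally given by perfect ring maps) and let O be the structure sheaf of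
Y placed in degree 0. Then: for every K in D_QCoh(O_Y) with bounded and coherent cohomology, f^!K
has bounded and coherent cohomology; and for any complex E representing f^!O, with − ⊗^L E ⊣ RHom(E,
−) assumed, and any identification υ : O_X ⊗^L E ≅ E, the map O_X → RHom(E, E) adjoint to υ is an
isomorphism. -/
theorem result (S X Y : Scheme.{u}) [IsNoetherian S] (p : X ⟶ S) (q : Y ⟶ S) [Dual3.IsSepFT p] [Dual3.IsSepFT q] (f : X ⟶ Y) (w : f ≫ q = p) (hf : MoreMor.IsPerfectMor f) (c : DEt.Compactification f) [DCoh.HasRpush c.fbar] (hc : DCoh.RpushPreservesQCoh c.fbar) (a : DCoh.DQCoh Y ⥤ DCoh.DQCoh c.Xbar) (adj : DCoh.RpushQ c.fbar hc ⊣ a) [∀ (U V : Scheme.{u}) (j : U ⟶ V) [IsOpenImmersion j], PreservesFiniteLimits (Scheme.Modules.restrictFunctor j)] (O : DCoh.DQCoh Y) (hO : Nonempty (O.obj ≅ DCoh.inD Y (Coh.structureModule Y))) : (∀ (K : DCoh.DQCoh Y) (lo hi : ℤ), (∀ i : ℤ, (i < lo ∨ hi < i) → IsZero (DCoh.HD K.obj i)) → (∀ i : ℤ, Coh.IsCoh (DCoh.HD K.obj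 i)) → (∃ lo' hi' : ℤ, ∀ i : ℤ, (i < lo' ∨ hi' < i) → IsZero (DCoh.HD ((Dual3.shriekC c a).obj K) i)) ∧ ∀ i : ℤ, Coh.IsCoh (DCoh.HD ((Dual3.shriekC c a).obj K) i)) ∧ ∀ (E : CochainComplex X.Modules ℤ) (hE : Nonempty (DCoh.toD X E ≅ (Dual3.shriekC c a).obj O)) [DCoh.HasLTensorCx E] [DCoh.HasRSheafHom E] (υ : (DCoh.LTensorCx E).obj (DCoh.inD X (Coh.structureModule X)) ≅ DCoh.toD X E), IsIso (((DCoh.RSheafHomAdj E).homEquiv (DCoh.inD X (Coh.structureModule X)) (DCoh.toD X E)) υ.hom) := by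
  haveI : IsLocallyNoetherian Y := LocallyOfFiniteType.isLocallyNoetherian q
  haveI : CompactSpace Y := QuasiCompact.compactSpace_of_compactSpace q
  haveI : IsNoetherian Y := ⟨⟩
  haveI := ShriekLib.isNoetherian_of_proper c.fbar
  haveI : CompactSpace X := QuasiCompact.compactSpace_of_compactSpace c.j
  haveI : IsLocallyNoetherian X := isLocallyNoetherian_of_isOpenImmersion c.j
  obtain ⟨eO⟩ := hO
  have hOz : ∀ i : ℤ, i ≠ 0 → IsZero (DCoh.HD O.obj i) := fun i hi => by
    haveI : O.obj.IsGE 0 := DerivedCategory.TStructure.t.isGE_of_iso eO.symm 0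
    haveI : O.obj.IsLE 0 := DerivedCategory.TStructure.t.isLE_of_iso eO.symm 0
    rcases lt_or_gt_of_ne hi with h | h
    · exact DerivedCategory.isZero_of_isGE O.obj 0 i h
    · exact DerivedCategory.isZero_of_isLE O.obj 0 i h
  have hOc : ∀ i : ℤ, Coh.IsCoh (DCoh.HD O.obj i) := fun i =>
    QCohLib.isCoh_of_iso ((DerivedCategory.homologyFunctor Y.Modules i).mapIso eO.symm)
      (KiehlLib.isCohD_single_noeth 0 (DevissLib.isCoh_structureModule Y) i)
  obtain ⟨⟨b₀, hb₀⟩, hc₀⟩ := Groth.Agent.S11145.result S X Y p q f w c hc a adj O 0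
    (fun i hi => hOz i (by omega)) hOc
  have hbd : ∀ (E : CochainComplex X.Modules ℤ) (_ : Nonempty (DCoh.toD X E ≅ (Dual3.shriekC c a).obj O))
      [DCoh.HasLTensorCx E] [DCoh.HasRSheafHom E],
      (∀ x : X, ∃ T : X.Opens, x ∈ T ∧ Nonempty ((DCoh.restrictD T.ι).obj
        ((DCoh.RSheafHom E).obj (DerivedCategory.Q.obj E)) ≅
          DCoh.inD _ (Coh.structureModule (T : Scheme.{u})))) ∧
      ∃ b : ℤ, (DerivedCategory.Q.obj E).IsLE b := by
    intro E hE _ _
    choose T hxT hT hA hR using fun x =>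
      ShriekLib.exists_selfHom_chart f hf c.j c.fbar c.fac hc a adj O ⟨eO⟩ E hE x
    choose b hb using hT
    refine ⟨fun x => ⟨T x, hxT x, hR x⟩, ?_⟩
    obtain ⟨t, ht⟩ := isCompact_univ.elim_finite_subcover (fun x => (T x : Set X)) (fun x => (T x).isOpen)
      (fun x _ => Set.mem_iUnion.2 ⟨x, hxT x⟩)
    obtain ⟨B, hB⟩ := (t.image b).bddAbove
    refine ⟨B, (DerivedCategory.isLE_iff _ _).2 fun i hi => ?_⟩
    refine (DCohRestrLib.isZero_iff_subsingleton_stalks _).2 fun x => ?_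
    obtain ⟨y, hy, hxy⟩ := Set.mem_iUnion₂.1 (ht (Set.mem_univ x))
    by_contra hs
    haveI := hb y
    have h1 : IsZero (DCoh.HD ((DCoh.restrictD (T y).ι).obj (DerivedCategory.Q.obj E)) i) :=
      DerivedCategory.isZero_of_isLE _ (b y) i (lt_of_le_of_lt (hB (Finset.mem_coe.2 (Finset.mem_image_of_mem b hy))) hi)
    exact hs ((DCohRestrLib.subsingleton_stalk_restrict (T y).ι _ ⟨x, hxy⟩).1
      ((DCohRestrLib.subsingleton_stalk_of_iso (DCohRestrLib.restrictHDIso (T y).ι _ i) ⟨x, hxy⟩).1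
        ((DCohRestrLib.isZero_iff_subsingleton_stalks _).1 h1 ⟨x, hxy⟩)))
  refine ⟨fun K lo hi hK hKc => ?_, fun E hE _ _ υ => ?_⟩
  · obtain ⟨⟨lo', hlo⟩, hc'⟩ := Groth.Agent.S11145.result S X Y p q f w c hc a adj K lo
      (fun i h => hK i (Or.inl h)) hKc
    obtain ⟨E, hE, ⟨eE⟩⟩ := Groth.Agent.PerfDualLib.exists_kFlat_model ((Dual3.shriekC c a).obj O)
    haveI := KFlatLib.hasLTensorCx E
    haveI := BidualSchLib.hasRSheafHom E
    obtain ⟨-, b, hb⟩ := hbd E ⟨eE⟩
    haveI := KFlatLib.hasLpull f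
    obtain ⟨e⟩ := ShriekLib.nonempty_shriek_perfect f hf c.j c.fbar c.fac hc a adj O ⟨eO⟩ E ⟨eE⟩
    haveI : K.obj.IsGE lo := (DerivedCategory.isGE_iff _ _).2 fun i h => hK i (Or.inl h)
    haveI : K.obj.IsLE hi := (DerivedCategory.isLE_iff _ _).2 fun i h => hK i (Or.inr h)
    have hKb : Dual3.IsBddBelowQ Y K := ⟨lo, inferInstance⟩
    haveI := hb
    haveI : DerivedCategory.TStructure.t.IsLE
        ((Dual3.bddι Y ⋙ DCoh.IsQCohD.ι ⋙ DCoh.Lpull f ⋙ DCoh.LTensorCx E).obj ⟨K, hKb⟩) (hi + b) := by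
      haveI := TensorPCLib.isLE_lpull f K.obj hi
      exact ShriekLib.isLE_lTensor_of_isLE E ((DCoh.Lpull f).obj K.obj) b hi
    haveI : ((Dual3.shriekC c a).obj K).IsLE (hi + b) :=
      DerivedCategory.TStructure.t.isLE_of_iso (e.app ⟨K, hKb⟩).symm _
    refine ⟨⟨lo', hi + b, fun i h => ?_⟩, hc'⟩
    rcases h with h | h
    · exact hlo i h
    · exact DerivedCategory.isZero_of_isLE _ (hi + b) i h
  · obtain ⟨hloc, b, hb⟩ := hbd E hE
    obtain ⟨eE⟩ := hE
    haveI := hb
    refine ShriekLib.SelfAdj.isIso_homEquiv_self E b₀ b (fun i h => ?_) (fun i => ?_) hloc υ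
    · rcases h with h | h
      · exact (hb₀ i h).of_iso ((DerivedCategory.homologyFunctor X.Modules i).mapIso eE)
      · exact DerivedCategory.isZero_of_isLE _ b i h
    · exact QCohLib.isCoh_of_iso ((DerivedCategory.homologyFunctor X.Modules i).mapIso eE.symm) (hc₀ i)

end Groth.Agent.S3644
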