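import Groth.Statements.S3613
import Groth.Agent.S3612
import Groth.Agent.S11145
import Groth.Agent.S3644

set_option autoImplicit false
set_option backward.isDefEq.respectTransparency false
set_option backward.isDefEq.respectTransparency.types false
set_option linter.style.haveILetI false
set_option maxHeartbeats 1000000
universe u
open CategoryTheory CategoryTheory.Limits AlgebraicGeometry
attribute [local instance] HasDerivedCategory.standard
open Dual3
open Groth.Agent

namespace Groth.Agent.S3613

/-- Let S be a Noetherian scheme, X and Y schemes separated and of finite type over S and f : X → Y a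
morphism over S; compute f^! through a compactification f = j ∘ p (j : X → X' an open immersion, p :
X' → Y proper, Rp_* on D_QCoh assumed to exist and to preserve quasi-coherence of cohomology, a a
right adjoint of Rp_*, restriction of modules to opens assumed exact), so that f^!K = a(K)|_X.
Assume f is flat and quasi-finite and let O be the structure sheaf of Y in degree 0. Then H^i(f^!O)
= 0 for i ≠ 0 and H^0(f^!O) is a coherent O_X-module which is flat over Y; that is, f^!O = ω[0] for
a coherent Y-flat module ω. -/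
theorem result (S X Y : Scheme.{u}) [IsNoetherian S] (p : X ⟶ S) (q : Y ⟶ S) [Dual3.IsSepFT p] [Dual3.IsSepFT q] (f : X ⟶ Y) (w : f ≫ q = p) [Flat f] [LocallyQuasiFinite f] (c : DEt.Compactification f) [DCoh.HasRpush c.fbar] (hc : DCoh.RpushPreservesQCoh c.fbar) (a : DCoh.DQCoh Y ⥤ DCoh.DQCoh c.Xbar) (adj : DCoh.RpushQ c.fbar hc ⊣ a) [∀ (U V : Scheme.{u}) (j : U ⟶ V) [IsOpenImmersion j], PreservesFiniteLimits (Scheme.Modules.restrictFunctor j)] (O : DCoh.DQCoh Y) (hO : Nonempty (O.obj ≅ DCoh.inD Y (Coh.structureModule Y))) : (∀ i : ℤ, i ≠ 0 → IsZero (DCoh.HD ((Dual3.shriekC c a).obj O) i)) ∧ Coh.IsCoh (DCoh.HD ((Dual3.shriekC c a).obj O) 0) ∧ FlatMod.IsFlatOver f (DCoh.HD ((Dual3.shriekC c a).obj O) 0) := by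
  haveI : IsLocallyNoetherian Y := LocallyOfFiniteType.isLocallyNoetherian q
  haveI : CompactSpace Y := QuasiCompact.compactSpace_of_compactSpace q
  haveI : IsNoetherian Y := ⟨⟩
  haveI := ShriekAffLib.isNoetherian_source c.j c.fbar
  have hd : Dual3.FibreDimLE f 0 := fun y => by
    haveI : DiscreteTopology ↥(f ⁻¹' {y}) :=
      isDiscrete_iff_discreteTopology.1 (f.isDiscrete_preimage_singleton y)
    refine ((f.fiberHomeo y).isHomeomorph.topologicalKrullDim_eq).trans_le ?_
    exact_mod_cast topologicalKrullDim_zero_of_discreteTopology ↥(f ⁻¹' {y})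
  obtain ⟨E, hE, hfl, ⟨e⟩⟩ := (Groth.Agent.S3612.result S X Y p q f w c hc a adj O hO).2 0 hd
  have hz : ∀ i : ℤ, i ≠ 0 → IsZero (E.X i) := fun i hi => hE i (by omega)
  have eH : ∀ i, DCoh.HD ((Dual3.shriekC c a).obj O) i ≅ E.homology i := fun i =>
    (DerivedCategory.homologyFunctor X.Modules i).mapIso e.symm ≪≫
      (DerivedCategory.homologyFunctorFactors _ i).app E
  have h0 : E.homology 0 ≅ E.X 0 :=
    (E.isoHomologyπ (-1) 0 (by simp) ((hz (-1) (by decide)).eq_of_src _ _)).symm ≪≫
      E.iCyclesIso 0 1 (by simp) ((hz 1 (by decide)).eq_of_tgt _ _)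
  obtain ⟨eO⟩ := hO
  have hOz : ∀ i : ℤ, i ≠ 0 → IsZero (DCoh.HD O.obj i) := fun i hi => by
    haveI : O.obj.IsGE 0 := DerivedCategory.TStructure.t.isGE_of_iso eO.symm 0
    haveI : O.obj.IsLE 0 := DerivedCategory.TStructure.t.isLE_of_iso eO.symm 0
    rcases lt_or_gt_of_ne hi with h | h
    · exact DerivedCategory.isZero_of_isGE O.obj 0 i h
    · exact DerivedCategory.isZero_of_isLE O.obj 0 i h
  have hOc : ∀ i : ℤ, Coh.IsCoh (DCoh.HD O.obj i) := fun i =>
    QCohLib.isCoh_of_iso ((DerivedCategory.homologyFunctor Y.Modules i).mapIso eO.symm)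
      (KiehlLib.isCohD_single_noeth 0 (DevissLib.isCoh_structureModule Y) i)
  refine ⟨fun i hi => ?_, (Groth.Agent.S11145.result S X Y p q f w c hc a adj O 0
    (fun i hi => hOz i (by omega)) hOc).2 0, RelFlatLib.isFlatOver_of_iso f (eH 0 ≪≫ h0).symm (hfl 0)⟩
  exact ((HomologicalComplex.exactAt_iff_isZero_homology E i).1 (HomologicalComplex.ExactAt.of_isZero (hz i hi))).of_iso (eH i)

end Groth.Agent.S3613
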