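import Groth.Statements.S3615
import Groth.Agent.ShriekAffLib.FibreChart

set_option autoImplicit false
set_option backward.isDefEq.respectTransparency false
set_option backward.isDefEq.respectTransparency.types false
set_option linter.style.haveILetI false
set_option maxHeartbeats 1000000
universe u
open CategoryTheory CategoryTheory.Limits AlgebraicGeometry
attribute [local instance] HasDerivedCategory.standard
open Dual3
open Groth.Agent

namespace Groth.Agent.S3615

/-- Let S be a Noetherian scheme, X and Y schemes separated and of finite type over S and f : X → Y a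
morphism over S; compute f^! through a compactification f = j ∘ p (j : X → X' an open immersion, p :
X' → Y proper, Rp_* on D_QCoh assumed to exist and to preserve quasi-coherence of cohomology, a a
right adjoint of Rp_*, restriction of modules to opens assumed exact), so that f^!K = a(K)|_X.
Assume f is flat and let O be the structure sheaf of Y in degree 0 and x a point of X. Then f is
Cohen–Macaulay at x if and only if there are an open neighbourhood U of x and an integer n such that
H^i(f^!O) restricts to zero on U for every i ≠ n while H^n(f^!O) does not. -/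
theorem result (S X Y : Scheme.{u}) [IsNoetherian S] (p : X ⟶ S) (q : Y ⟶ S) [Dual3.IsSepFT p] [Dual3.IsSepFT q] (f : X ⟶ Y) (w : f ≫ q = p) [Flat f] (c : DEt.Compactification f) [DCoh.HasRpush c.fbar] (hc : DCoh.RpushPreservesQCoh c.fbar) (a : DCoh.DQCoh Y ⥤ DCoh.DQCoh c.Xbar) (adj : DCoh.RpushQ c.fbar hc ⊣ a) [∀ (U V : Scheme.{u}) (j : U ⟶ V) [IsOpenImmersion j], PreservesFiniteLimits (Scheme.Modules.restrictFunctor j)] (O : DCoh.DQCoh Y) (hO : Nonempty (O.obj ≅ DCoh.inD Y (Coh.structureModule Y))) (x : X) : MoreMor.IsCMAt f x ↔ ∃ (U : X.Opens) (n : ℤ), x ∈ U ∧ (∀ i : ℤ, i ≠ n → IsZero ((DCoh.HD ((Dual3.shriekC c a).obj O) i).restrict U.ι)) ∧ ¬ IsZero ((DCoh.HD ((Dual3.shriekC c a).obj O) n).restrict U.ι) := by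
  haveI : IsLocallyNoetherian Y := LocallyOfFiniteType.isLocallyNoetherian q
  haveI : CompactSpace Y := QuasiCompact.compactSpace_of_compactSpace q
  haveI : IsNoetherian Y := ⟨⟩
  haveI : ∀ R : CommRingCat.{u}, PreservesFiniteLimits (tilde.functor R) :=
    fun R => HensSchLib.tilde_preservesFiniteLimits R
  haveI := ShriekAffLib.isNoetherian_source c.j c.fbar
  haveI : LocallyOfFiniteType f := by rw [← c.fac]; infer_instance
  haveI : LocallyOfFinitePresentation f := ⟨fun {U} hU {V} hV e => by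
    haveI : IsNoetherianRing Γ(Y, U) := IsLocallyNoetherian.component_noetherian ⟨U, hU⟩
    exact RingHom.FinitePresentation.of_finiteType.mp (LocallyOfFiniteType.finiteType_appLE f hU hV e)⟩
  haveI : ∀ y : Y, DCoh.HasLpull (f.fiberι y) := fun y => KFlatLib.hasLpull _
  let K := (DCoh.restrictD c.j).obj (a.obj O).obj
  obtain ⟨eO⟩ := hO
  have hOz : ∀ i : ℤ, i ≠ 0 → IsZero (DCoh.HD O.obj i) := fun i hi => by
    haveI : O.obj.IsGE 0 := DerivedCategory.TStructure.t.isGE_of_iso eO.symm 0
    haveI : O.obj.IsLE 0 := DerivedCategory.TStructure.t.isLE_of_iso eO.symm 0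
    rcases lt_or_gt_of_ne hi with h | h
    · exact DerivedCategory.isZero_of_isGE O.obj 0 i h
    · exact DerivedCategory.isZero_of_isLE O.obj 0 i h
  have hOc : ∀ i : ℤ, Coh.IsCoh (DCoh.HD O.obj i) := fun i =>
    QCohLib.isCoh_of_iso ((DerivedCategory.homologyFunctor Y.Modules i).mapIso eO.symm)
      (KiehlLib.isCohD_single_noeth 0 (DevissLib.isCoh_structureModule Y) i)
  have hcoh : ∀ i, Coh.IsCoh (DCoh.HD K i) := (Groth.Agent.S11145.result S X Y p q f w c hc a adj O 0
    (fun i hi => hOz i (by omega)) hOc).2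
  haveI := ShriekAffLib.isLE_zero f c.j c.fbar c.fac hc a adj O ⟨eO⟩
  have hpc : ∀ m, DCoh.IsPseudoCoherentD m K := fun m => PerfDualLib.isPC_of_isCohD K 0 m hcoh
  constructor
  · rintro ⟨-, hcm⟩
    obtain ⟨C, _, _, y, ε, _, Q, ω, hω, hQ, -, ⟨eC⟩, -, -⟩ :=
      ShriekAffLib.exists_fibre_chart f c.j c.fbar c.fac hc a adj O ⟨eO⟩ ⊤ x trivial
    subst hQ
    obtain ⟨n, hn, huniq⟩ := (DualCxLib.cm_stalk_iff_chart ε hω eC Q).1
      ((ShriekAffLib.fiber_stalk_iff f (fun A [CommRing A] => LocCoh.IsCohenMacaulayLocalRing A) y (ε Q)).2 hcm)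
    have hfib : ∀ i, i ≠ n → Subsingleton ((DCoh.HD ((DCoh.Lpull (f.fiberι y)).obj K) i).presheaf.stalk (ε Q)) :=
      fun i hi => not_nontrivial_iff_subsingleton.1 fun h => hi (huniq i h)
    obtain ⟨hz, -⟩ := ShriekAffLib.stalk_concentrated f y (ε Q) K hpc n hfib
    obtain ⟨U, hxU, hU⟩ :=
      ShriekAffLib.exists_open_one_degree f c.j c.fbar c.fac hc a adj O ⟨eO⟩ _ n hz
    refine ⟨U, n, hxU, hU, fun h0 => ?_⟩
    have hn0 := (DCohRestrLib.subsingleton_stalk_restrict U.ι _ ⟨_, hxU⟩).1
      ((DCohRestrLib.isZero_iff_subsingleton_stalks _).1 h0 ⟨_, hxU⟩)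
    exact not_subsingleton_iff_nontrivial.2 hn (ShriekAffLib.stalk_fibre_zero f y (ε Q) K (fun i => by
      rcases eq_or_ne i n with rfl | hi
      · exact hn0
      · exact hz i hi) n)
  · rintro ⟨U, n, hxU, hU, -⟩
    have hUz : ∀ x' ∈ U, ∀ i, i ≠ n → Subsingleton ((DCoh.HD K i).presheaf.stalk x') := fun x' hx' i hi =>
      (DCohRestrLib.subsingleton_stalk_restrict U.ι _ ⟨x', hx'⟩).1
        ((DCohRestrLib.isZero_iff_subsingleton_stalks _).1 (hU i hi) ⟨x', hx'⟩)
    obtain ⟨C, _, _, y, ε, _, Q, ω, hω, hQ, hT, ⟨eC⟩, -, hLE⟩ :=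
      ShriekAffLib.exists_fibre_chart f c.j c.fbar c.fac hc a adj O ⟨eO⟩ U x hxU
    subst hQ
    refine ⟨Flat.stalkMap f _, (ShriekAffLib.fiber_stalk_iff f
      (fun A [CommRing A] => LocCoh.IsCohenMacaulayLocalRing A) y (ε Q)).1
        ((DualCxLib.cm_stalk_iff_chart ε hω eC Q).2 ?_)⟩
    have hmin : ∀ z : PrimeSpectrum C, z.asIdeal ∈ minimalPrimes C → DualCxLib.deg hω z = n := fun z hz => by
      by_contra hne
      have hfib : ∀ i, i ≠ DualCxLib.deg hω z →
          Subsingleton ((DCoh.HD ((DCoh.Lpull (f.fiberι y)).obj K) i).presheaf.stalk (ε z)) := fun i hi => by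
        haveI := not_nontrivial_iff_subsingleton.1 fun h => hi ((DualCxLib.nontrivial_HD_minimal_iff hω z hz i).1 h)
        exact (DualCxLib.stalkHD ε eC z i).subsingleton
      obtain ⟨hc', -⟩ := ShriekAffLib.stalk_concentrated f y (ε z) K hpc _ hfib
      refine not_subsingleton_iff_nontrivial.2
        ((DualCxLib.stalkHD ε eC z _).nontrivial_congr.2 ((DualCxLib.nontrivial_HD_minimal_iff hω z hz _).2 rfl))
        (ShriekAffLib.stalk_fibre_zero f y (ε z) K (fun i => ?_) _)
      rcases eq_or_ne i n with rfl | hi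
      · exact hc' _ (Ne.symm hne)
      · exact hUz _ (hT z) i hi
    obtain ⟨q₀, hq₀, -, hne⟩ := ShriekAffLib.exists_minimal_deg hω Q
    rw [hmin q₀ hq₀] at hne
    refine ⟨n, (DualCxLib.stalkHD ε eC Q n).nontrivial_congr.2 hne, fun i hi => ?_⟩
    have hi' := (DualCxLib.stalkHD ε eC Q i).nontrivial_congr.1 hi
    by_contra hin
    refine not_subsingleton_iff_nontrivial.2 hi' ?_
    rcases lt_or_gt_of_ne hin with h | h
    · exact ShriekAffLib.subsingleton_localized_of_lt hω Q i fun z hz _ => by rw [hmin z hz]; exact h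
    · exact hLE n (fun x' hx' k hk => hUz x' hx' k (by omega)) Q i h

end Groth.Agent.S3615
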