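import Groth.Statements.S3643
import Groth.Agent.ShriekAffLib.Stalk
import Groth.Agent.ShriekAffLib.Fibre
import Groth.Agent.ShriekRingLib.FlatSelf
import Groth.Agent.DualCxLib.Sch2

set_option autoImplicit false
set_option backward.isDefEq.respectTransparency false
set_option backward.isDefEq.respectTransparency.types false
set_option linter.style.haveILetI false
set_option maxHeartbeats 1000000
universe u
open CategoryTheory CategoryTheory.Limits AlgebraicGeometry
attribute [local instance] HasDerivedCategory.standard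
open Dual3
open Groth.Agent
open scoped TensorProduct

namespace Groth.Agent.S3643

/-- Let S be a Noetherian scheme, X and Y schemes separated and of finite type over S and f : X → Y a
morphism over S; compute f^! through a compactification f = j ∘ p (j : X → X' an open immersion, p :
X' → Y proper, Rp_* on D_QCoh assumed to exist and to preserve quasi-coherence of cohomology, a a
right adjoint of Rp_*, restriction of modules to opens assumed exact), so that f^!K = a(K)|_X.
Assume f is flat, let O be the structure sheaf of Y in degree 0 and ω = f^!O. For a point y of Y let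
h : X_y → X be the inclusion of the fibre and Lh^* its derived pullback (assumed to exist; exactness
instances as in the definition of dualizing complexes). Then Lh^*ω is a dualizing complex on the
fibre X_y. -/
theorem result (S X Y : Scheme.{u}) [IsNoetherian S] (p : X ⟶ S) (q : Y ⟶ S) [Dual3.IsSepFT p] [Dual3.IsSepFT q] (f : X ⟶ Y) (w : f ≫ q = p) [Flat f] (c : DEt.Compactification f) [DCoh.HasRpush c.fbar] (hc : DCoh.RpushPreservesQCoh c.fbar) (a : DCoh.DQCoh Y ⥤ DCoh.DQCoh c.Xbar) (adj : DCoh.RpushQ c.fbar hc ⊣ a) [∀ (U V : Scheme.{u}) (j : U ⟶ V) [IsOpenImmersion j], PreservesFiniteLimits (Scheme.Modules.restrictFunctor j)] [∀ (R : CommRingCat.{u}), PreservesFiniteLimits (tilde.functor R)] (O : DCoh.DQCoh Y) (hO : Nonempty (O.obj ≅ DCoh.inD Y (Coh.structureModule Y))) (y : Y) [DCoh.HasLpull (f.fiberι y)] : Dual2.IsDualizingSch (f.fiber y) ((DCoh.Lpull (f.fiberι y)).obj ((Dual3.shriekC c a).obj O)) := by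
  haveI : IsLocallyNoetherian Y := LocallyOfFiniteType.isLocallyNoetherian q
  haveI : CompactSpace Y := QuasiCompact.compactSpace_of_compactSpace q
  haveI : IsNoetherian Y := ⟨⟩
  haveI := ShriekAffLib.isNoetherian_source c.j c.fbar
  haveI : LocallyOfFiniteType f := by rw [← c.fac]; infer_instance
  haveI : LocallyOfFiniteType (f.fiberToSpecResidueField y) :=
    MorphismProperty.pullback_snd (P := @LocallyOfFiniteType) _ _ inferInstance
  haveI : IsLocallyNoetherian (f.fiber y) :=
    LocallyOfFiniteType.isLocallyNoetherian (f.fiberToSpecResidueField y)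
  obtain ⟨_, ⟨W, hW, rfl⟩, hyW, -⟩ := Y.isBasis_affineOpens.exists_subset_of_mem_open (Set.mem_univ y) isOpen_univ
  obtain ⟨p, rfl⟩ : ∃ p, hW.fromSpec p = y := ⟨_, hW.fromSpec_primeIdealOf ⟨y, hyW⟩⟩
  have hV : ∀ x : f.fiber (hW.fromSpec p), ∃ (V : X.Opens) (_ : IsAffineOpen V),
      V ≤ f ⁻¹ᵁ W ∧ f.fiberι (hW.fromSpec p) x ∈ V := fun x => by
    obtain ⟨_, ⟨V, hV, rfl⟩, hxV, hVW⟩ := X.isBasis_affineOpens.exists_subset_of_mem_open
      (show f.fiberι (hW.fromSpec p) x ∈ (f ⁻¹ᵁ W : Set X) from by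
        have := (f.range_fiberι (hW.fromSpec p)).le ⟨x, rfl⟩
        simp only [Set.mem_preimage, Set.mem_singleton_iff] at this
        show f (f.fiberι (hW.fromSpec p) x) ∈ W
        rw [this]
        exact hyW) (f ⁻¹ᵁ W).isOpen
    exact ⟨V, hV, hVW, hxV⟩
  choose V hVa hVW hxV using hV
  haveI : IsNoetherianRing Γ(Y, W) := IsLocallyNoetherian.component_noetherian ⟨W, hW⟩
  letI alg : ∀ x, Algebra Γ(Y, W) Γ(X, V x) := fun x => (f.appLE W (V x) (hVW x)).hom.toAlgebra
  haveI : ∀ x, DRing.HasLBaseChange (Algebra.TensorProduct.includeRight :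
      Γ(X, V x) →ₐ[Γ(Y, W)] p.asIdeal.ResidueField ⊗[Γ(Y, W)] Γ(X, V x)).toRingHom :=
    fun x => DRingLib.hasLBaseChange _
  have key : ∀ x : f.fiber (hW.fromSpec p),
      ∃ (j : Spec (CommRingCat.of (p.asIdeal.ResidueField ⊗[Γ(Y, W)] Γ(X, V x))) ⟶ f.fiber (hW.fromSpec p))
        (_ : IsOpenImmersion j) (ω : Dual.D (p.asIdeal.ResidueField ⊗[Γ(Y, W)] Γ(X, V x))),
        x ∈ Set.range j ∧ Dual.IsDualizing _ ω ∧
        Nonempty ((DCoh.restrictD j).obj ((DCoh.Lpull (f.fiberι (hW.fromSpec p))).obj ((Dual3.shriekC c a).obj O)) ≅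
          (DCoh.tildeD (CommRingCat.of (p.asIdeal.ResidueField ⊗[Γ(Y, W)] Γ(X, V x)))).obj ω) := fun x => by
    haveI : IsNoetherianRing Γ(X, V x) := IsLocallyNoetherian.component_noetherian ⟨V x, hVa x⟩
    haveI : Module.Flat Γ(Y, W) Γ(X, V x) := f.flat_appLE hW (hVa x) (hVW x)
    obtain ⟨n, ψ, hψ, _, Rψ, adjψ, ⟨e⟩⟩ :=
      ShriekAffLib.exists_affine_model f c.j c.fbar c.fac hc a adj O hO W hW (V x) (hVa x) (hVW x)
    obtain ⟨ε, hε, -, hr, he⟩ := ShriekAffLib.exists_fibre_model f hW (hVa x) (hVW x) p _ _ e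
    exact ⟨ε, hε, _, hr x (hxV x), ShriekRingLib.isDualizing_fibre _ _ n ψ hψ adjψ _, he⟩
  choose j hj ω hx hω he using key
  exact DualCxLib.isDualizingSch_of_cover _ j (fun x => ⟨x, hx x⟩) fun x => ⟨ω x, hω x, he x⟩

end Groth.Agent.S3643
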