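import Groth.Statements.S3645
import Groth.Agent.S3644
-- import your own Groth.Agent.* helpers here

set_option autoImplicit false
set_option backward.isDefEq.respectTransparency false
set_option backward.isDefEq.respectTransparency.types false
set_option maxHeartbeats 1000000
universe u
open CategoryTheory CategoryTheory.Limits AlgebraicGeometry
attribute [local instance] HasDerivedCategory.standard
open Dual3

namespace Groth.Agent.S3645

/-- Let S be a Noetherian scheme, X and Y schemes separated and of finite type over S and f : X → Y a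
morphism over S; compute f^! through a compactification f = j ∘ p (j : X → X' an open immersion, p :
X' → Y proper, Rp_* on D_QCoh assumed to exist and to preserve quasi-coherence of cohomology, a a
right adjoint of Rp_*, restriction of modules to opens assumed exact), so that f^!K = a(K)|_X.
Assume f is flat and let O be the structure sheaf of Y in degree 0. Then f^!O is Y-perfect
(pseudo-coherent and locally of finite tor dimension relative to Y), and for any complex E
representing f^!O with - ⊗^L E ⊣ RHom(E, -) assumed and any identification υ : O_X ⊗^L E ≅ E, the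
map O_X → RHom(E, E) adjoint to υ is an isomorphism. -/
theorem result (S X Y : Scheme.{u}) [IsNoetherian S] (p : X ⟶ S) (q : Y ⟶ S) [Dual3.IsSepFT p] [Dual3.IsSepFT q] (f : X ⟶ Y) (w : f ≫ q = p) [Flat f] (c : DEt.Compactification f) [DCoh.HasRpush c.fbar] (hc : DCoh.RpushPreservesQCoh c.fbar) (a : DCoh.DQCoh Y ⥤ DCoh.DQCoh c.Xbar) (adj : DCoh.RpushQ c.fbar hc ⊣ a) [∀ (U V : Scheme.{u}) (j : U ⟶ V) [IsOpenImmersion j], PreservesFiniteLimits (Scheme.Modules.restrictFunctor j)] (O : DCoh.DQCoh Y) (hO : Nonempty (O.obj ≅ DCoh.inD Y (Coh.structureModule Y))) : ((∀ m : ℤ, DCoh.IsPseudoCoherentD m ((Dual3.shriekC c a).obj O)) ∧ DCoh.LocHasFiniteRelTorDim f ((Dual3.shriekC c a).obj O)) ∧ ∀ (E : CochainComplex X.Modules ℤ) (hE : Nonempty (DCoh.toD X E ≅ (Dual3.shriekC c a).obj O)) [DCoh.HasLTensorCx E] [DCoh.HasRSheafHom E] (υ : (DCoh.LTensorCx E).obj (DCoh.inD X (Coh.structureModule X)) ≅ DCoh.toD X E), IsIso (((DCoh.RSheafHomAdj E).homEquiv (DCoh.inD X (Coh.structureModule X)) (DCoh.toD X E)) υ.hom) :=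 by
  haveI : IsLocallyNoetherian Y := LocallyOfFiniteType.isLocallyNoetherian q
  haveI : CompactSpace Y := QuasiCompact.compactSpace_of_compactSpace q
  haveI : IsNoetherian Y := ⟨⟩
  haveI := ShriekLib.isNoetherian_of_proper c.fbar
  haveI : CompactSpace X := QuasiCompact.compactSpace_of_compactSpace c.j
  haveI : IsLocallyNoetherian X := isLocallyNoetherian_of_isOpenImmersion c.j
  haveI : LocallyOfFiniteType f := by rw [← c.fac]; infer_instance
  obtain ⟨eO⟩ := hO
  haveI : O.obj.IsGE 0 := DerivedCategory.TStructure.t.isGE_of_iso eO.symm 0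
  haveI : O.obj.IsLE 0 := DerivedCategory.TStructure.t.isLE_of_iso eO.symm 0
  have hf := PerfModLib.perfectMor_of_flat f
  obtain ⟨h1, h2⟩ := Groth.Agent.S3644.result S X Y p q f w hf c hc a adj O ⟨eO⟩
  obtain ⟨⟨lo, hi, hb⟩, hcoh⟩ := h1 O 0 0 (fun i h => by
      rcases h with h | h
      · exact DerivedCategory.isZero_of_isGE O.obj 0 i h
      · exact DerivedCategory.isZero_of_isLE O.obj 0 i h) (fun i =>
    QCohLib.isCoh_of_iso ((DerivedCategory.homologyFunctor Y.Modules i).mapIso eO.symm)
      (KiehlLib.isCohD_single_noeth 0 (DevissLib.isCoh_structureModule Y) i))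
  haveI : ((Dual3.shriekC c a).obj O).IsLE hi :=
    (DerivedCategory.isLE_iff _ _).2 fun i h => hb i (Or.inr h)
  refine ⟨⟨fun m => PerfNoethLib.isPC_of_coherent (b := hi) fun i _ => hcoh i, ?_⟩, h2⟩
  obtain ⟨E, hE, ⟨eE⟩⟩ := Groth.Agent.PerfDualLib.exists_kFlat_model ((Dual3.shriekC c a).obj O)
  haveI := KFlatLib.hasLTensorCx E
  haveI := BidualSchLib.hasRSheafHom E
  refine (RelFlatLib.loc_iff_ampD f).2 fun x => ?_
  obtain ⟨T, hx, -, ⟨ta, tb, ht⟩, -⟩ :=
    ShriekLib.exists_selfHom_chart f hf c.j c.fbar c.fac hc a adj O ⟨eO⟩ E ⟨eE⟩ x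
  exact ⟨T, ta, tb, hx, fun y hy => RelFlatLib.ampD_of_iso f eE (ht y hy)⟩

end Groth.Agent.S3645
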