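import Groth.Statements.S3648
import Groth.Agent.RigidLib.Self

set_option autoImplicit false
universe u
open CategoryTheory CategoryTheory.Limits AlgebraicGeometry
attribute [local instance] HasDerivedCategory.standard
open Dual3

namespace Groth.Agent.S3648

/-- Let f : X → S be a morphism which is flat, locally of finite presentation and separated, assume the
binders of the definition of relative dualizing complexes: the derived pullback along pr_1 : X ×_S X
→ X exists and the direct image along the diagonal Δ : X → X ×_S X, a closed immersion since f is
separated, is exact on modules, and let K in D(O_X) underlie a relative dualizing complex for f.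
Then for any complex E of O_X-modules representing K, with the derived functors − ⊗^L E ⊣ RHom(E, −)
assumed to exist, and any identification υ : O_X ⊗^L E ≅ E, the map O_X → RHom(E, E) adjoint to υ is
an isomorphism in D(O_X). (Stated for separated f; the published statement is more general.) -/
theorem result (X S : Scheme.{u}) (f : X ⟶ S) [Flat f] [LocallyOfFinitePresentation f] [IsSeparated f] [DCoh.HasLpull (pullback.fst f f)] [PreservesFiniteLimits (Scheme.Modules.pushforward (pullback.diagonal f))] [PreservesFiniteColimits (Scheme.Modules.pushforward (pullback.diagonal f))] (K : DCoh.D X) (hK : Dual3.IsRelDualizing f K) (E : CochainComplex X.Modules ℤ) (hE : Nonempty (DCoh.toD X E ≅ K)) [DCoh.HasLTensorCx E] [DCoh.HasRSheafHom E] (υ : (DCoh.LTensorCx E).obj (DCoh.inD X (Coh.structureModule X)) ≅ DCoh.toD X E) : IsIso (((DCoh.RSheafHomAdj E).homEquiv (DCoh.inD X (Coh.structureModule X)) (DCoh.toD X E)) υ.hom) := by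
  exact RigidLib.isIso_homEquiv_self hK E hE υ

end Groth.Agent.S3648
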