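import Groth.Statements.S3656
import Groth.Agent.ShriekLib.ViaDuality
import Groth.Agent.S1115
import Groth.Agent.S1823
-- import your own Groth.Agent.* helpers here

set_option autoImplicit false
set_option backward.isDefEq.respectTransparency false
set_option backward.isDefEq.respectTransparency.types false
set_option maxHeartbeats 1000000
universe u
open CategoryTheory CategoryTheory.Limits AlgebraicGeometry
attribute [local instance] HasDerivedCategory.standard
open Dual3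

namespace Groth.Agent.S3656

/-- Let S be a Noetherian scheme, X and Y schemes separated and of finite type over S and f : X → Y a
morphism over S; compute f^! through a compactification f = j ∘ p (j : X → X' an open immersion, p :
X' → Y proper, Rp_* on D_QCoh assumed to exist and to preserve quasi-coherence of cohomology, a a
right adjoint of Rp_*, restriction of modules to opens assumed exact), so that f^!K = a(K)|_X. Let K
be a bounded below object of D_QCoh(O_Y) which is a dualizing complex on Y (exactness instances as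
in the definition), and M in D_QCoh(O_Y) bounded below with coherent cohomology sheaves, represented
by a complex M' with - ⊗^L M' ⊣ RHom(M', -) assumed; let N' be a complex representing Lf^*RHom(M',
K) (derived pullback assumed to exist) with - ⊗^L N' ⊣ RHom(N', -) assumed. Then f^!M ≅ RHom(N',
f^!K) in D(O_X); that is, f^!M = D_X(Lf^* D_Y(M)) for the dualities D_Y = RHom(-, K) and D_X =
RHom(-, f^!K). -/
theorem result (S X Y : Scheme.{u}) [IsNoetherian S] (p : X ⟶ S) (q : Y ⟶ S) [Dual3.IsSepFT p] [Dual3.IsSepFT q] (f : X ⟶ Y) (w : f ≫ q = p) (c : DEt.Compactification f) [DCoh.HasRpush c.fbar] (hc : DCoh.RpushPreservesQCoh c.fbar) (a : DCoh.DQCoh Y ⥤ DCoh.DQCoh c.Xbar) (adj : DCoh.RpushQ c.fbar hc ⊣ a) [∀ (U V : Scheme.{u}) (j : U ⟶ V) [IsOpenImmersion j], PreservesFiniteLimits (Scheme.Modules.restrictFunctor j)] [∀ (R : CommRingCat.{u}), PreservesFiniteLimits (tilde.functor R)] [DCoh.HasLpull f] (K : DCoh.DQCoh Y) (c₀ : ℤ) (hK : ∀ i :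 ℤ, i < c₀ → IsZero (DCoh.HD K.obj i)) (hKd : Dual2.IsDualizingSch Y K.obj) (M : DCoh.DQCoh Y) (c₁ : ℤ) (hM : ∀ i : ℤ, i < c₁ → IsZero (DCoh.HD M.obj i)) (hMc : ∀ i : ℤ, Coh.IsCoh (DCoh.HD M.obj i)) (M' : CochainComplex Y.Modules ℤ) (hM' : Nonempty (DCoh.toD Y M' ≅ M.obj)) [DCoh.HasLTensorCx M'] [DCoh.HasRSheafHom M'] (N' : CochainComplex X.Modules ℤ) (hN' : Nonempty (DCoh.toD X N' ≅ (DCoh.Lpull f).obj ((DCoh.RSheafHom M').obj K.obj))) [DCoh.HasLTensorCx N'] [DCoh.HasRSheafHom N'] : Nonempty ((Dual3.shriekC c a).obj M ≅ (DCoh.RSheafHom N').obj ((Dual3.shriekC c a).obj K)) := by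
  haveI : IsLocallyNoetherian Y := LocallyOfFiniteType.isLocallyNoetherian q
  haveI : CompactSpace Y := QuasiCompact.compactSpace_of_compactSpace q
  haveI : IsNoetherian Y := ⟨⟩
  haveI := ShriekLib.isNoetherian_of_proper c.fbar
  haveI : CompactSpace X := QuasiCompact.compactSpace_of_compactSpace c.j
  haveI : IsLocallyNoetherian X := isLocallyNoetherian_of_isOpenImmersion c.j
  haveI : IsNoetherian X := ⟨⟩
  obtain ⟨eM⟩ := hM'
  have hM'c : ∀ i : ℤ, Coh.IsCoh (DCoh.HD (DCoh.toD Y M') i) := fun i =>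
    QCohLib.isCoh_of_iso ((DerivedCategory.homologyFunctor Y.Modules i).mapIso eM.symm) (hMc i)
  obtain ⟨hDc, hbid⟩ := Groth.Agent.S1823.result Y K.obj hKd M' hM'c
  obtain ⟨b, hb⟩ := ShriekLib.exists_isLE_rSheafHom_dualizing hKd M' c₁ (fun i hi =>
    (hM i hi).of_iso ((DerivedCategory.homologyFunctor Y.Modules i).mapIso eM))
  obtain ⟨F, hF, ⟨eF⟩⟩ := Groth.Agent.PerfDualLib.exists_kFlat_model ((DCoh.RSheafHom M').obj K.obj)
  haveI := KFlatLib.hasLTensorCx F
  haveI := BidualSchLib.hasRSheafHom F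
  haveI : (DerivedCategory.Q.obj F).IsLE b :=
    haveI := hb
    DerivedCategory.TStructure.t.isLE_of_iso eF.symm b
  have hFc : ∀ i : ℤ, Coh.IsCoh (DCoh.HD (DerivedCategory.Q.obj F) i) := fun i =>
    QCohLib.isCoh_of_iso ((DerivedCategory.homologyFunctor Y.Modules i).mapIso eF.symm) (hDc i)
  have hFq : DCoh.IsQCohD (DerivedCategory.Q.obj F) := fun i => (hFc i).1
  have hFpc : ∀ m : ℤ, DCoh.IsPseudoCoherentD m (DerivedCategory.Q.obj F) := fun m =>
    PerfNoethLib.isPC_of_coherent (b := b) fun i _ => hFc i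
  obtain ⟨bd⟩ := hbid F ⟨eF⟩
  let eD : (DCoh.RSheafHom F).obj K.obj ≅ M.obj := bd ≪≫ eM
  have hD : DCoh.IsQCohD ((DCoh.RSheafHom F).obj K.obj) := KFlatLib.isQCohD_iso eD.symm M.property
  haveI := KFlatLib.hasLpull c.fbar
  haveI := KFlatLib.hasLpull c.j
  haveI := KFlatLib.hasLpull (c.j ≫ c.fbar)
  haveI := DCohRestrLib.hasRpush c.j
  let P := (KFlatLib.pullCx c.fbar).obj F
  haveI := KFlatLib.hasLTensorCx P
  haveI := BidualSchLib.hasRSheafHom P
  let eP : (DCoh.Lpull c.fbar).obj (DerivedCategory.Q.obj F) ≅ DerivedCategory.Q.obj P :=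
    KFlatLib.lpullObjIso c.fbar F hF
  have hPpc : ∀ m : ℤ, DCoh.IsPseudoCoherentD m (DCoh.toD c.Xbar P) := fun m =>
    PerfLib.isPC_of_iso eP (KFlatLib.isPseudoCoherent_lpull c.fbar m _ (hFpc m))
  haveI : K.obj.IsGE c₀ := (DerivedCategory.isGE_iff _ _).2 hK
  obtain ⟨n, hn⟩ := ShriekLib.isBddBelow_rightAdjoint c.fbar hc a adj K ⟨c₀, inferInstance⟩
  haveI := hn
  have hW : DCoh.IsQCohD ((DCoh.RSheafHom P).obj (a.obj K).obj) :=
    Groth.Agent.S1115.result c.Xbar P hPpc (a.obj K).obj (a.obj K).property n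
  obtain ⟨r⟩ := ShriekLib.nonempty_rightAdjoint_rSheafHom c.fbar F hF hFq hc a adj K hD hW
  obtain ⟨eN⟩ := hN'
  obtain ⟨l₁⟩ := KFlatLib.lpull_comp c.j c.fbar
  obtain ⟨l₂⟩ := ShriekLib.nonempty_lpull_congrNat (f := c.j ≫ c.fbar) (f' := f) c.fac
  let e : DerivedCategory.Q.obj N' ≅ (DCoh.restrictD c.j).obj (DerivedCategory.Q.obj P) :=
    eN ≪≫ (DCoh.Lpull f).mapIso eF.symm ≪≫ (l₁ ≪≫ l₂).symm.app _ ≪≫
      (DualFMLib.lpullRestrIso c.j).app _ ≪≫ (DCoh.restrictD c.j).mapIso eP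
  obtain ⟨res⟩ := ShriekLib.nonempty_restrictD_rSheafHom c.j P N' e (a.obj K).obj
  let em : M ≅ (⟨(DCoh.RSheafHom F).obj K.obj, hD⟩ : DCoh.DQCoh Y) := ObjectProperty.isoMk _ eD.symm
  exact ⟨(Dual3.shriekC c a).mapIso em ≪≫ (DCoh.restrictD c.j).mapIso r ≪≫ res⟩

end Groth.Agent.S3656
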