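import Groth.Statements.S3664
import Groth.Agent.DeligneLib.Limit
import Groth.Agent.InjRepLib.QCoh
import Groth.Agent.BidualSchLib.Transfer
import Groth.Agent.CohExtLib.Hom

set_option autoImplicit false
set_option backward.isDefEq.respectTransparency false
set_option backward.isDefEq.respectTransparency.types false
set_option backward.isDefEq.respectTransparency false
set_option backward.isDefEq.respectTransparency.types false
set_option maxHeartbeats 1000000
set_option linter.style.haveILetI false
universe u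
open CategoryTheory CategoryTheory.Limits AlgebraicGeometry
attribute [local instance] HasDerivedCategory.standard
open Dual3

namespace Groth.Agent.S3664

variable {U X : Scheme.{u}} (j : U ⟶ X) [IsOpenImmersion j]

/-- Restriction along `j` through the open subscheme of its image. -/
theorem exists_restrictIso : ∃ (e : (j.opensRange : Scheme.{u}) ⟶ U) (_ : IsIso e),
    Nonempty (Scheme.Modules.restrictFunctor j ⋙ Scheme.Modules.restrictFunctor e ≅
      Scheme.Modules.restrictFunctor j.opensRange.ι) ∧ (Scheme.Modules.restrictFunctor e).IsEquivalence := by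
  let e := j.isoOpensRange
  have he : e.inv ≫ j = j.opensRange.ι := by rw [Iso.inv_comp_eq]; exact (Scheme.Hom.isoOpensRange_hom_ι j).symm
  refine ⟨e.inv, inferInstance, ⟨(Scheme.Modules.restrictFunctorComp e.inv j).symm ≪≫
    Scheme.Modules.restrictFunctorCongr he⟩, ?_⟩
  exact (CategoryTheory.Equivalence.mk (Scheme.Modules.restrictFunctor e.inv) (Scheme.Modules.restrictFunctor e.hom)
    ((Scheme.Modules.restrictFunctorComp e.hom e.inv).symm ≪≫ Scheme.Modules.restrictFunctorCongr e.hom_inv_id ≪≫
      Scheme.Modules.restrictFunctorId).symm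
    ((Scheme.Modules.restrictFunctorComp e.inv e.hom).symm ≪≫ Scheme.Modules.restrictFunctorCongr e.inv_hom_id ≪≫
      Scheme.Modules.restrictFunctorId)).isEquivalence_functor

/-- The Deligne system computes maps on the open complement. -/
theorem exists_sys [IsNoetherian X] (I : X.IdealSheafData) (hI : I.supportSetᶜ = Set.range j) :
    ∃ σ : DeligneLib.Sys (Scheme.Modules.restrictFunctor j) (fun n => Dual3.idealMul (I ^ n))
      (fun M => Coh.IsCoh M) (fun M => Coh.IsQCoh M), ∀ n G, σ.ι n G = Dual3.idealMulι (I ^ n) G := by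
  let V := j.opensRange
  have hV : (V : Set X) = (I.support : Set X)ᶜ := hI.symm
  obtain ⟨e, _, ⟨α⟩, _⟩ := exists_restrictIso j
  let R := Scheme.Modules.restrictFunctor j
  let E := Scheme.Modules.restrictFunctor e
  have hiso : ∀ n (G : X.Modules), IsIso ((Scheme.Modules.restrictFunctor V.ι).map (Dual3.idealMulι (I ^ n) G)) :=
    fun n G => CohExtLib.isIso_restrict_idealMulι _ _ fun x hx => CohExtLib.notMem_support_pow n fun h =>
      (hV.le hx : x ∈ (I.support : Set X)ᶜ) h
  have hmap : ∀ {G F : X.Modules} (ψ : G ⟶ F),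
      (Scheme.Modules.restrictFunctor V.ι).map ψ = α.inv.app G ≫ E.map (R.map ψ) ≫ α.hom.app F := fun ψ => by
    rw [show E.map (R.map ψ) = (R ⋙ E).map ψ from rfl, NatIso.naturality_1]
  refine ⟨{ ι := fun n G => Dual3.idealMulι (I ^ n) G
            ι_nat := fun n {G G'} d => Dual3.idealMul_map_ι (I ^ n) d
            mono := fun n G => Dual3.mono_idealMulι _ G
            incl := fun h G => CohExtLib.inclMul (CohExtLib.pow_le_pow h) G
            incl_ι := fun h G => CohExtLib.inclMul_ι _ G
            iso := fun n G => ?_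
            lift := fun {G F} hG hF φ => ?_
            kill := fun {G F} hG hF n ψ hψ => ?_ }, fun _ _ => rfl⟩
  · haveI : IsIso (E.map (R.map (Dual3.idealMulι (I ^ n) G))) := by
      haveI := hiso n G
      rw [show E.map (R.map (Dual3.idealMulι (I ^ n) G)) =
        α.hom.app _ ≫ (Scheme.Modules.restrictFunctor V.ι).map (Dual3.idealMulι (I ^ n) G) ≫ α.inv.app _ from
        (NatIso.naturality_2 α _).symm]
      infer_instance
    exact isIso_of_reflects_iso (R.map (Dual3.idealMulι (I ^ n) G)) E
  · haveI : Coh.IsQCoh F := hF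
    obtain ⟨n, ψ, hψ⟩ := CohExtLib.exists_extend_pow hG I V hV (F := F) (α.inv.app G ≫ E.map φ ≫ α.hom.app F)
    refine ⟨n, ψ, E.map_injective ?_⟩
    rw [hmap, hmap] at hψ
    simp only [Category.assoc, Iso.hom_inv_id_app_assoc] at hψ
    rw [cancel_epi, ← Category.assoc, cancel_mono, ← E.map_comp] at hψ
    exact hψ
  · haveI : Coh.IsQCoh F := hF
    obtain ⟨N, ι, hι, hι0⟩ := CohExtLib.exists_comp_eq_zero hG I V hV n ψ (F := F) (by
      rw [hmap, hψ, E.map_zero, zero_comp, comp_zero])
    have hN : n ≤ n + N := Nat.le_add_right n N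
    refine ⟨n + N, hN, ?_⟩
    have : CohExtLib.inclMul (CohExtLib.pow_le_pow hN) G =
        CohExtLib.inclMul (CohExtLib.pow_le_pow (Nat.le_add_left N n)) G ≫ ι := by
      rw [← cancel_mono (Dual3.idealMulι (I ^ n) G), CohExtLib.inclMul_ι, Category.assoc, hι, CohExtLib.inclMul_ι]
    show CohExtLib.inclMul (CohExtLib.pow_le_pow hN) G ≫ ψ = 0
    rw [this, Category.assoc, hι0, comp_zero]

theorem exists_Q_map_eq {Y : Scheme.{u}} {C D : CochainComplex Y.Modules ℤ} [D.IsKInjective]
    (a : DerivedCategory.Q.obj C ⟶ DerivedCategory.Q.obj D) : ∃ f : C ⟶ D, DerivedCategory.Q.map f = a := by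
  let ε := DerivedCategory.quotientCompQhIso Y.Modules
  obtain ⟨g, hg⟩ := (CochainComplex.IsKInjective.Qh_map_bijective ((HomotopyCategory.quotient _ _).obj C) D).2
    (ε.hom.app C ≫ a ≫ ε.inv.app D)
  obtain ⟨f, rfl⟩ := (HomotopyCategory.quotient _ _).map_surjective g
  refine ⟨f, ?_⟩
  have h := ε.hom.naturality f
  rw [← cancel_epi (ε.hom.app _), ← h]
  refine (congrArg (· ≫ ε.hom.app D) hg).trans ?_
  simp

theorem homotopyOfQ {Y : Scheme.{u}} {C D : CochainComplex Y.Modules ℤ} [D.IsKInjective] {f g : C ⟶ D}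
    (h : DerivedCategory.Q.map f = DerivedCategory.Q.map g) : Nonempty (Homotopy f g) := by
  let ε := DerivedCategory.quotientCompQhIso Y.Modules
  refine ⟨HomotopyCategory.homotopyOfEq f g
    ((CochainComplex.IsKInjective.Qh_map_bijective ((HomotopyCategory.quotient _ _).obj C) D).1 ?_)⟩
  have hf := ε.hom.naturality f
  have hg := ε.hom.naturality g
  rw [h, ← hg] at hf
  exact (cancel_mono (ε.hom.app D)).1 hf

/-- Let j : U → X be an open immersion of Noetherian schemes (restriction to U assumed exact), I a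
quasi-coherent ideal whose vanishing locus is X ∖ U, F a bounded complex of coherent O_X-modules
with Deligne system K_n = I^n F (inclusions ι_n : K_n → F), and L an object of D(O_X) with coherent
cohomology sheaves vanishing below some degree (L is allowed to be bounded below rather than
bounded). Then colim_n Hom_X(K_n, L) = Hom_U(F|_U, L|_U): (surjectivity) every map α : F|_U → L|_U
satisfies ι_n|_U ≫ α = φ|_U for some n and some φ : K_n → L; (injectivity) if φ, ψ : K_n → L agree
after restriction to U then for some m ≥ n they agree after composition with any map K_m → K_n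
compatible with the inclusions into F. -/
theorem result (U X : Scheme.{u}) [IsNoetherian U] [IsNoetherian X] (j : U ⟶ X) [IsOpenImmersion j] [∀ (U V : Scheme.{u}) (j : U ⟶ V) [IsOpenImmersion j], PreservesFiniteLimits (Scheme.Modules.restrictFunctor j)] (I : X.IdealSheafData) (hI : I.supportSetᶜ = Set.range j) (F : CochainComplex X.Modules ℤ) (lo hi : ℤ) (hF : DCoh.VanishesOutside F lo hi) (hFc : ∀ q : ℤ, Coh.IsCoh (F.X q)) (L : DCoh.D X) (hLc : DCoh.IsCohD L) (c₀ : ℤ) (hK : ∀ i : ℤ, i < c₀ → IsZero (DCoh.HD L i)) : (∀ α : (DCoh.restrictD j).obj (DCoh.toD X F) ⟶ (DCoh.restrictD j).obj L, ∃ (n : ℕ) (φ : DCoh.toD X ((Dual3.deligne I n).obj F) ⟶ L), (DCoh.restrictD j).map (DerivedCategory.Q.map (Dual3.deligneι I n F)) ≫ α = (DCoh.restrictD j).map φ) ∧ ∀ (n : ℕ) (φ ψ : DCoh.toD X ((Dual3.deligne I n).obj F) ⟶ L), (DCoh.restrictD j).map φ = (DCoh.restrictD j).map ψ → ∃ m : ℕ, n ≤ m ∧ ∀ t : (Dual3.deligne I m).obj F ⟶ (Dual3.deligne I n).obj F, t ≫ Dual3.deligneι I n F = Dual3.deligneι I m F → DerivedCategory.Q.map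 t ≫ φ = DerivedCategory.Q.map t ≫ ψ := by
  obtain ⟨σ, hσι⟩ := exists_sys j I hI
  obtain ⟨J, hJge, hJX, ⟨eJ⟩⟩ := InjRepLib.exists_qcoh_injective_model L (fun q => (hLc q).1) c₀ hK
  haveI := hJge
  haveI : ∀ n, Injective (J.X n) := fun n => (hJX n).2
  haveI : J.IsKInjective := CochainComplex.isKInjective_of_injective J (c₀ - 1)
  let R := Scheme.Modules.restrictFunctor j
  let RC := R.mapHomologicalComplex (ComplexShape.up ℤ)
  let fac := fun C : CochainComplex X.Modules ℤ => R.mapDerivedCategoryFactors.app C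
  haveI : CochainComplex.IsKInjective (RC.obj J) := BidualSchLib.isKInjective_rJ j J
  have hnat : ∀ {C C' : CochainComplex X.Modules ℤ} (g : C ⟶ C'),
      (DCoh.restrictD j).map (DerivedCategory.Q.map g) =
        (fac C).hom ≫ DerivedCategory.Q.map (RC.map g) ≫ (fac C').inv := fun g => by
    rw [← Category.assoc]
    exact (Iso.eq_comp_inv (fac _)).2 (R.mapDerivedCategoryFactors.hom.naturality g)
  refine ⟨fun α => ?_, fun n φ ψ h => ?_⟩
  · obtain ⟨f, hf⟩ := exists_Q_map_eq ((fac F).inv ≫ (α ≫ (DCoh.restrictD j).map eJ.inv) ≫ (fac J).hom)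
    obtain ⟨n, g, hg⟩ := DeligneLib.exists_lift_hom σ (S := fun M => Coh.IsCoh M) (T := fun M => Coh.IsQCoh M)
      hFc (fun q => (hJX q).1) hF f
    refine ⟨n, DerivedCategory.Q.map g ≫ eJ.hom, ?_⟩
    have hsub : DeligneLib.subι σ F n = Dual3.deligneι I n F := HomologicalComplex.hom_ext _ _ fun q => hσι n _
    have hg' : RC.map g = RC.map (Dual3.deligneι I n F) ≫ f := hsub ▸ hg
    rw [← cancel_mono ((DCoh.restrictD j).map eJ.inv), Category.assoc, ← Functor.map_comp, Category.assoc,
      eJ.hom_inv_id, Category.comp_id, hnat g, hg', Functor.map_comp, hnat, hf]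
    simp only [Category.assoc, Iso.inv_hom_id_assoc, Iso.hom_inv_id, Category.comp_id]
  · obtain ⟨f, hf⟩ := exists_Q_map_eq (φ ≫ eJ.inv)
    obtain ⟨g, hg⟩ := exists_Q_map_eq (ψ ≫ eJ.inv)
    have hRC : DerivedCategory.Q.map (RC.map f) = DerivedCategory.Q.map (RC.map g) := by
      have h' := congrArg (· ≫ (DCoh.restrictD j).map eJ.inv) h
      simp only [← Functor.map_comp] at h'
      rw [← hf, ← hg, hnat, hnat] at h'
      exact (cancel_mono (fac J).inv).1 ((cancel_epi (fac _).hom).1 h')
    obtain ⟨H⟩ := homotopyOfQ hRC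
    obtain ⟨m, hm, ⟨H'⟩⟩ := DeligneLib.exists_homotopy σ (S := fun M => Coh.IsCoh M) (T := fun M => Coh.IsQCoh M)
      hFc (fun q => (hJX q).1) hF (f - g)
      ((Homotopy.ofEq RC.map_sub).trans (Homotopy.equivSubZero H))
    refine ⟨m, hm, fun t ht => ?_⟩
    have htι : t = DeligneLib.subIncl σ F hm := by
      refine HomologicalComplex.hom_ext _ _ fun q => ?_
      haveI := σ.mono n (F.X q)
      rw [← cancel_mono (σ.ι n (F.X q))]
      refine Eq.trans ?_ (σ.incl_ι hm (F.X q)).symm
      rw [hσι, hσι]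
      exact congrArg (fun k => k.f q) ht
    rw [← cancel_mono eJ.inv, Category.assoc, Category.assoc, ← hf, ← hg, ← Functor.map_comp, ← Functor.map_comp, htι]
    exact DerivedCategory.Q_map_eq_of_homotopy _ (Homotopy.equivSubZero.symm
      ((Homotopy.ofEq (Preadditive.comp_sub _ _ _).symm).trans H'))

end Groth.Agent.S3664
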