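import Groth.Statements.S3665
import Groth.Agent.CohExtLib.Hom
import Groth.Agent.DevissExtLib.Tools

set_option autoImplicit false
set_option linter.style.haveILetI false
set_option backward.isDefEq.respectTransparency false
set_option backward.isDefEq.respectTransparency.types false
set_option backward.isDefEq.respectTransparency false
set_option backward.isDefEq.respectTransparency.types false
universe u
open CategoryTheory CategoryTheory.Limits AlgebraicGeometry
attribute [local instance] HasDerivedCategory.standard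
open Dual3

namespace Groth.Agent.S3665

open TopologicalSpace Opposite

/-- A section in every `I^n F` vanishes near the zero set of `I` (Krull). -/
theorem exists_nhd_zero {X : Scheme.{u}} [IsLocallyNoetherian X] (I : X.IdealSheafData) (F : X.Modules)
    (hF : Coh.IsCoh F) (s : Γ(F, ⊤))
    (hs : ∀ n : ℕ, ∃ t : Γ((Dual3.idealMul (I ^ n)).obj F, ⊤), (Dual3.idealMulι (I ^ n) F).app ⊤ t = s)
    {x : X} (hx : x ∈ I.supportSet) :
    ∃ V : X.Opens, x ∈ V ∧ F.presheaf.map (homOfLE le_top : V ⟶ ⊤).op s = 0 := by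
  haveI := hF.1
  obtain ⟨W, hW, hxW⟩ := QCohLib.exists_affine_nhd x
  haveI : IsNoetherianRing Γ(X, W) := IsLocallyNoetherian.component_noetherian ⟨W, hW⟩
  haveI : Module.Finite Γ(X, W) Γ(F, W) := QCohLib.finite_of_isFT hF.2 hW
  let m : Γ(F, W) := F.presheaf.map (homOfLE le_top : W ⟶ ⊤).op s
  have hm : m ∈ (⨅ n : ℕ, I.ideal ⟨W, hW⟩ ^ n • ⊤ : Submodule Γ(X, W) Γ(F, W)) := by
    refine Submodule.mem_iInf _ |>.2 fun n => ?_
    obtain ⟨t, ht⟩ := hs n
    have h1 := CohExtLib.app_idealMulι_mem (I ^ n) F hW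
      (((Dual3.idealMul (I ^ n)).obj F).presheaf.map (homOfLE le_top : W ⟶ ⊤).op t)
    rw [QCohLib.app_map, ht, CohExtLib.pow_ideal] at h1
    exact h1
  obtain ⟨r, hr⟩ := ((I.ideal ⟨W, hW⟩).mem_iInf_smul_pow_eq_bot_iff m).1 hm
  refine ⟨X.basicOpen (1 - r.1), ?_, ?_⟩
  · have hz := (I.mem_support_iff_of_mem (U := ⟨W, hW⟩) hxW).1 hx
    have hr0 : x ∉ X.basicOpen r.1 := X.mem_zeroLocus_iff _ _ |>.1 hz r.1 r.2
    rw [X.mem_basicOpen _ _ hxW] at hr0 ⊢
    rw [map_sub, map_one]
    exact IsLocalRing.isUnit_one_sub_self_of_mem_nonunits _ hr0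
  · have h0 : (1 - r.1) • m = 0 := by rw [sub_smul, one_smul, hr, sub_self]
    refine CohExtLib.eq_zero_of_gm _ fun p hp => ?_
    have hpW : p ∈ W := X.basicOpen_le _ hp
    refine (DevissLib.gm_map F le_top p hp s).trans ((DevissLib.gm_map F le_top p hpW s).symm.trans ?_)
    have h1 := congrArg (DevissLib.gm F p hpW) h0
    rw [DevissLib.gm_smul, DevissLib.gm_zero] at h1
    exact ((X.mem_basicOpen _ _ hpW).1 hp).smul_eq_zero.1 h1

/-- Let X be proper over a field k, I a quasi-coherent ideal with vanishing locus Z and F a coherent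
O_X-module, so that H^0_c(X ∖ Z, F) = lim_n H^0(X, I^n F) = ⋂_n Γ(X, I^n F) inside Γ(X, F). Then a
global section s of F lies in the image of Γ(X, I^n F) for every n if and only if s restricts to
zero on some open neighbourhood of Z. -/
theorem result (k : Type u) [Field k] (X : Scheme.{u}) (f : X ⟶ Spec (CommRingCat.of k)) [IsProper f] (I : X.IdealSheafData) (F : X.Modules) (hF : Coh.IsCoh F) (s : F.val.obj (Opposite.op ⊤)) : (∀ n : ℕ, ∃ t : ((Dual3.idealMul (I ^ n)).obj F).val.obj (Opposite.op ⊤), (Dual3.idealMulι (I ^ n) F).val.app (Opposite.op ⊤) t = s) ↔ ∃ V : X.Opens, I.supportSet ⊆ (V : Set X) ∧ F.val.map (homOfLE le_top : V ⟶ ⊤).op s = 0 := by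
  haveI : IsLocallyNoetherian X := LocallyOfFiniteType.isLocallyNoetherian f
  haveI := hF.1
  let s' : Γ(F, ⊤) := s
  constructor
  · intro hs
    have hloc : ∀ x : X, x ∈ I.supportSet → ∃ V : X.Opens, x ∈ V ∧ F.presheaf.map (homOfLE le_top : V ⟶ ⊤).op s' = 0 :=
      fun x hx => exists_nhd_zero I F hF s' (fun n => hs n) hx
    choose V hxV hV using hloc
    refine ⟨⨆ (x : X) (hx : x ∈ I.supportSet), V x hx, fun x hx =>
      Opens.mem_iSup.2 ⟨x, Opens.mem_iSup.2 ⟨hx, hxV x hx⟩⟩, ?_⟩
    refine CohExtLib.eq_zero_of_gm (M := F) _ fun p hp => ?_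
    obtain ⟨x, hx'⟩ := Opens.mem_iSup.1 hp
    obtain ⟨hx, hp'⟩ := Opens.mem_iSup.1 hx'
    refine (DevissLib.gm_map F le_top p hp s').trans ?_
    rw [← DevissLib.gm_map F le_top p hp' s', hV x hx]
    exact DevissLib.gm_zero F p hp'
  · rintro ⟨V, hIV, hsV⟩ n
    refine CohExtLib.exists_app_idealMulι (J := I ^ n) (M := F) s' (CohExtLib.eq_zero_of_gm _ fun p hp => ?_)
    by_cases hpI : p ∈ (I.support : Set X)
    · rw [← DevissLib.gm_app, ← DevissLib.gm_map F le_top p (hIV hpI) s',
        show F.presheaf.map (homOfLE le_top : V ⟶ ⊤).op s' = 0 from hsV, DevissLib.gm_zero, map_zero]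
    · haveI := ModuleCat.isZero_iff_subsingleton.1 ((DevissLib.notMem_support_iff _ p).1
        (DevissExt.notMem_support_quot (I ^ n) (CohExtLib.notMem_support_pow n hpI) F))
      exact Subsingleton.elim _ _

end Groth.Agent.S3665
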