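import Groth.Statements.S3669
import Groth.Agent.ExtShLib.Shriek
import Groth.Agent.ExtShLib.Dualizing
import Groth.Agent.ExtShLib.DivExt
import Groth.Agent.QuotSchLib.HilbQuot

set_option autoImplicit false
set_option backward.isDefEq.respectTransparency false
set_option backward.isDefEq.respectTransparency.types false
set_option backward.isDefEq.respectTransparency false
set_option backward.isDefEq.respectTransparency.types false
set_option maxHeartbeats 1000000
set_option synthInstance.maxHeartbeats 200000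
set_option linter.style.haveILetI false
universe u
open CategoryTheory CategoryTheory.Limits AlgebraicGeometry
attribute [local instance] HasDerivedCategory.standard
open Dual3

namespace Groth.Agent.S3669

open CohCmpLib (homMod hVal happ)
open ProjFormLib (ger res)

/-- The counit of the right adjoint of `i_*` is injective. -/
theorem mono_counit {Z X : Scheme.{u}} (i : Z ⟶ X) [IsClosedImmersion i] {R : X.Modules ⥤ Z.Modules}
    (adj : Scheme.Modules.pushforward i ⊣ R) (F : X.Modules) : Mono (adj.counit.app F) := by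
  refine Preadditive.mono_of_kernel_zero ?_
  let k := kernel.ι (adj.counit.app F)
  let e := CycKSuppLib.pushPullIso i ((CycKSuppLib.kil_push i (R.obj F)).of_mono k)
  obtain ⟨ff⟩ := ExtShLib.push_fullyFaithful i
  let m := ff.preimage (e.hom ≫ k)
  have hm : (adj.homEquiv _ _).symm m = 0 := by
    rw [Adjunction.homEquiv_counit, ff.map_preimage]
    exact (Category.assoc _ _ _).trans ((congrArg (e.hom ≫ ·) (kernel.condition _)).trans comp_zero)
  have hm0 : m = 0 := by
    refine (adj.homEquiv _ _).symm.injective (hm.trans ?_)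
    rw [Adjunction.homEquiv_counit, Functor.map_zero, zero_comp]
  have hk : e.hom ≫ k = 0 := by rw [← ff.map_preimage (e.hom ≫ k), show ff.preimage (e.hom ≫ k) = 0 from hm0, Functor.map_zero]
  exact (cancel_epi e.hom).1 (hk.trans comp_zero.symm)

/-- Maps out of killed modules lift through the counit. -/
theorem exists_lift_counit {Z X : Scheme.{u}} (i : Z ⟶ X) [IsClosedImmersion i] {R : X.Modules ⥤ Z.Modules}
    (adj : Scheme.Modules.pushforward i ⊣ R) {T F : X.Modules} (hT : CycKSuppLib.Kil i T) (φ : T ⟶ F) :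
    ∃ ψ : T ⟶ (Scheme.Modules.pushforward i).obj (R.obj F), ψ ≫ adj.counit.app F = φ := by
  let e := CycKSuppLib.pushPullIso i hT
  refine ⟨e.inv ≫ (Scheme.Modules.pushforward i).map (adj.homEquiv _ _ (e.hom ≫ φ)), ?_⟩
  rw [Category.assoc]
  refine (congrArg (e.inv ≫ ·) ((adj.homEquiv_counit _ _ _).symm.trans (Equiv.symm_apply_apply _ _))).trans ?_
  exact e.inv_hom_id_assoc φ

/-- A section killed by the ideal comes from a killed module. -/
theorem exists_killed_through {Z X : Scheme.{u}} (i : Z ⟶ X) [IsClosedImmersion i] (F : X.Modules)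
    (U : X.affineOpens) (s : Γ(F, U.1)) (hs : ∀ a ∈ i.ker.ideal U, a • s = 0) :
    ∃ (T : X.Modules) (_ : CycKSuppLib.Kil i T) (φ : T ⟶ F) (_ : Mono φ) (t : Γ(T, U.1)), φ.app U.1 t = s := by
  haveI := QuotSchLib.epi_unitToPush i
  let π := ClSub.unitToPush i
  let S : ShortComplex X.Modules := ShortComplex.mk (kernel.ι π) π (kernel.condition _)
  haveI : Epi S.g := inferInstanceAs (Epi π)
  have hS : S.Exact := S.exact_of_f_is_kernel (kernelIsKernel _)
  haveI : Mono (ExtShLib.preSeq S F).f := ExtShLib.mono_preMap π F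
  let u : F ≅ homMod (Coh.structureModule X) F := asIso (ExtShLib.unitHom' F)
  have h0 : (PnDualLib.preMap (kernel.ι π) F).app U.1 ((ExtShLib.unitHom' F).app U.1 s) = 0 := by
    refine CohCmpLib.homMod_ext fun y hy => LinearMap.ext fun z => ?_
    obtain ⟨V, hV, a, rfl⟩ := ProjFormLib.exists_ger (kernel π) y z
    obtain ⟨f, hfV, hyf⟩ := U.2.exists_basicOpen_le (V := U.1 ⊓ V) ⟨y, ⟨hy, hV⟩⟩ hy
    let W := X.affineBasicOpen f
    have hWU : W.1 ≤ U.1 := X.basicOpen_le f
    have hWV : W.1 ≤ V := hfV.trans inf_le_right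
    rw [← ProjFormLib.ger_res (kernel π) hWV y hyf a]
    let a' : Γ(kernel π, W.1) := res (kernel π) hWV a
    have hker : (show Γ(X, W.1) from (kernel.ι π).app W.1 a') ∈ i.ker.ideal W := by
      rw [Scheme.Hom.ker_apply, RingHom.mem_ker]
      exact congrArg (fun g : kernel π ⟶ _ => g.app W.1 a') (kernel.condition π)
    have hkill : (show Γ(X, W.1) from (kernel.ι π).app W.1 a') • res F hWU s = 0 := by
      rw [← i.ker.map_ideal (U := W) (V := U) hWU] at hker
      refine Submodule.span_induction ?_ ?_ ?_ ?_ hker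
      · rintro _ ⟨b, hb, rfl⟩
        refine (F.map_smul (homOfLE hWU) b s).symm.trans ?_
        rw [hs b hb, map_zero]
      · exact zero_smul _ _
      · intro b c _ _ hb hc
        rw [add_smul, hb, hc, add_zero]
      · intro b c _ hc
        rw [smul_eq_mul, mul_smul, hc, smul_zero]
    rw [PnDualLib.hVal_preMap, LinearMap.comp_apply, ProjFormLib.ger_map]
    refine (ExtShLib.hVal_ger_happ _ hy hWU hyf _).trans ?_
    rw [show res (homMod (Coh.structureModule X) F) hWU ((ExtShLib.unitHom' F).app U.1 s) =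
      (ExtShLib.unitHom' F).app W.1 (res F hWU s) from MiscFlat6.app_res _ hWU _,
      ExtShLib.ger_happ_unitHom', hkill]
    exact map_zero _
  obtain ⟨t, ht⟩ := QCohLib.exists_of_app_eq_zero (ExtShLib.preSeq_exact hS F) inferInstance
    ((ExtShLib.unitHom' F).app U.1 s) h0
  haveI : Mono (PnDualLib.preMap π F) := ExtShLib.mono_preMap π F
  haveI hm : Mono (PnDualLib.preMap π F ≫ inv (ExtShLib.unitHom' F)) := mono_comp _ _
  refine ⟨_, ExtShLib.kil_homMod i F, PnDualLib.preMap π F ≫ inv (ExtShLib.unitHom' F), hm, t, ?_⟩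
  show (inv (ExtShLib.unitHom' F)).app U.1 ((PnDualLib.preMap π F).app U.1 t) = s
  rw [show (PnDualLib.preMap π F).app U.1 t = (ExtShLib.unitHom' F).app U.1 s from ht]
  exact congrArg (fun g : F ⟶ F => g.app U.1 s) (IsIso.hom_inv_id (ExtShLib.unitHom' F))

/-- Let i : Z → X be a closed immersion of schemes with ideal sheaf I, Hom(O_Z, -) a right adjoint of
i_* on modules (it exists; here the chosen one) with counit i_* Hom(O_Z, F) → F. Then for every
O_X-module F and every affine open U ⊆ X, the counit on sections over U, Γ(i⁻¹U, Hom(O_Z, F)) → Γ(U,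
F), is injective with image exactly the sections s of F over U with I(U) · s = 0. -/
theorem result (Z X : Scheme.{u}) (i : Z ⟶ X) [IsClosedImmersion i] [Dual3.HasHomO i] (F : X.Modules) (U : X.affineOpens) : Function.Injective ⇑(ConcreteCategory.hom (((Dual3.homOAdj i).counit.app F).val.app (Opposite.op U.1))) ∧ Set.range ⇑(ConcreteCategory.hom (((Dual3.homOAdj i).counit.app F).val.app (Opposite.op U.1))) = ((LocCoh.torsionBy (i.ker.ideal U) (F.val.obj (Opposite.op U.1)) : Submodule Γ(X, U.1) (F.val.obj (Opposite.op U.1))) : Set (F.val.obj (Opposite.op U.1))) := by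
  let ε := (Dual3.homOAdj i).counit.app F
  haveI hε : Mono ε := mono_counit i (Dual3.homOAdj i) F
  refine ⟨QCohLib.app_injective_of_mono ε U.1, ?_⟩
  ext s
  constructor
  · rintro ⟨t, rfl⟩
    refine (Submodule.mem_torsionBySet_iff _ _).2 ?_
    rintro ⟨a, ha⟩
    show (show Γ(X, U.1) from a) • ε.app U.1 t = 0
    rw [← Scheme.Modules.Hom.app_smul, CycKSuppLib.killed_push i _ U a ha t, map_zero]
  · intro hs
    obtain ⟨T, hT, φ, hφ, t, ht⟩ := exists_killed_through i F U (show Γ(F, U.1) from s) fun a ha => (Submodule.mem_torsionBySet_iff _ _).1 hs ⟨a, ha⟩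
    obtain ⟨ψ, hψ⟩ := exists_lift_counit i (Dual3.homOAdj i) hT φ
    exact ⟨ψ.app U.1 t, (congrArg (fun g : T ⟶ F => g.app U.1 t) hψ).trans ht⟩

end Groth.Agent.S3669
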