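import Groth.Statements.S3671
import Groth.Agent.ShriekAffLib.Stalk
import Groth.Agent.ShriekAffLib.StalkModule
import Groth.Agent.ShriekRingLib.LowDegree
import Groth.Agent.AlgSpLib.TrdegInv
import Groth.Agent.CycPushLib.Closed

set_option autoImplicit false
set_option backward.isDefEq.respectTransparency false
set_option backward.isDefEq.respectTransparency.types false
set_option linter.style.haveILetI false
set_option maxHeartbeats 1000000
universe u
open CategoryTheory CategoryTheory.Limits AlgebraicGeometry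
attribute [local instance] HasDerivedCategory.standard
open Dual3
open Groth.Agent

namespace Groth.Agent.S3671

/-- Let S be a Noetherian scheme, X and Y schemes separated and of finite type over S and f : X → Y a
morphism over S; compute f^! through a compactification f = j ∘ p (j : X → X' an open immersion, p :
X' → Y proper, Rp_* on D_QCoh assumed to exist and to preserve quasi-coherence of cohomology, a a
right adjoint of Rp_*, restriction of modules to opens assumed exact), so that f^!K = a(K)|_X. Let O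
be the structure sheaf of Y in degree 0, x a point of X with y = f(x), and r a natural number.
Assume O_{Y,y} is Cohen–Macaulay and trdeg_{κ(f ξ)} κ(ξ) ≤ r for every generic point ξ of an
irreducible component of X containing x. Then a nonzero stalk of H^i(f^!O) at x forces -r ≤ i, and
the stalk of H^{-r}(f^!O) at x satisfies Serre's condition (S_2) as an O_{X,x}-module. -/
theorem result (S X Y : Scheme.{u}) [IsNoetherian S] (p : X ⟶ S) (q : Y ⟶ S) [Dual3.IsSepFT p] [Dual3.IsSepFT q] (f : X ⟶ Y) (w : f ≫ q = p) (c : DEt.Compactification f) [DCoh.HasRpush c.fbar] (hc : DCoh.RpushPreservesQCoh c.fbar) (a : DCoh.DQCoh Y ⥤ DCoh.DQCoh c.Xbar) (adj : DCoh.RpushQ c.fbar hc ⊣ a) [∀ (U V : Scheme.{u}) (j : U ⟶ V) [IsOpenImmersion j], PreservesFiniteLimits (Scheme.Modules.restrictFunctor j)] (O : DCoh.DQCoh Y) (hO : Nonempty (O.obj ≅ DCoh.inD Y (Coh.structureModule Y))) (x : X) (r : ℕ) (hCM : LocCoh.IsCohenMacaulayLocalRing (Y.presheaf.stalk (f x))) (htr : ∀ Z : Set X, Z ∈ irreducibleComponents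 X → x ∈ Z → ∀ ξ : X, closure ({ξ} : Set X) = Z → Dual3.resTrdeg f ξ ≤ (r : Cardinal.{u})) : (∀ i : ℤ, Nontrivial ((DCoh.HD ((Dual3.shriekC c a).obj O) i).presheaf.stalk x) → -(r : ℤ) ≤ i) ∧ LocCoh.HasSk 2 (X.presheaf.stalk x) ((DCoh.HD ((Dual3.shriekC c a).obj O) (-(r : ℤ))).presheaf.stalk x) := by
  haveI : IsLocallyNoetherian Y := LocallyOfFiniteType.isLocallyNoetherian q
  haveI : CompactSpace Y := QuasiCompact.compactSpace_of_compactSpace q
  haveI : IsNoetherian Y := ⟨⟩
  haveI : ∀ R : CommRingCat.{u}, PreservesFiniteLimits (tilde.functor R) :=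
    fun R => HensSchLib.tilde_preservesFiniteLimits R
  haveI := ShriekAffLib.isNoetherian_source c.j c.fbar
  let T₀ : Set X := (⋃₀ {Z | Z ∈ irreducibleComponents X ∧ x ∉ Z})ᶜ
  have hT₀ : IsOpen T₀ := by
    rw [isOpen_compl_iff, Set.sUnion_eq_biUnion]
    exact (TopologicalSpace.NoetherianSpace.finite_irreducibleComponents.subset fun Z hZ => hZ.1).isClosed_biUnion
      fun Z hZ => isClosed_of_mem_irreducibleComponents Z hZ.1
  have hxT : x ∈ (⟨T₀, hT₀⟩ : X.Opens) := by
    show x ∈ T₀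
    simp only [T₀, Set.mem_compl_iff, Set.mem_sUnion, not_exists, not_and]
    exact fun Z hZ => hZ.2
  obtain ⟨W, hW, V, hV, hVW, hxV, hVT⟩ := ShriekAffLib.exists_charts f x ⟨T₀, hT₀⟩ hxT
  haveI : IsNoetherianRing Γ(Y, W) := IsLocallyNoetherian.component_noetherian ⟨W, hW⟩
  haveI : IsNoetherianRing Γ(X, V) := IsLocallyNoetherian.component_noetherian ⟨V, hV⟩
  letI : Algebra Γ(Y, W) Γ(X, V) := (f.appLE W V hVW).hom.toAlgebra
  obtain ⟨m, ψ, hψ, _, Rψ, adjψ, ⟨e⟩⟩ :=
    ShriekAffLib.exists_affine_model f c.j c.fbar c.fac hc a adj O hO W hW V hV hVW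
  obtain ⟨P, rfl⟩ : ∃ P, hV.fromSpec P = x := ⟨_, hV.fromSpec_primeIdealOf ⟨x, hxV⟩⟩
  let p : PrimeSpectrum Γ(Y, W) := ⟨P.asIdeal.comap (algebraMap Γ(Y, W) Γ(X, V)), inferInstance⟩
  have hs : f (hV.fromSpec P) = hW.fromSpec p := by
    rw [← Scheme.Hom.comp_apply, ← hW.SpecMap_appLE_fromSpec f hV hVW, Scheme.Hom.comp_apply]
    rfl
  haveI : LocCoh.IsCohenMacaulayLocalRing (Localization.AtPrime p.asIdeal) := by
    rw [← CMFlatLib.isCohenMacaulayLocalRing_congr (DualCxLib.stalkRing hW.fromSpec p)]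
    rw [hs] at hCM
    exact hCM
  have hres : ∀ z : PrimeSpectrum Γ(X, V),
      Dual3.resTrdeg (Spec.map (f.appLE W V hVW)) z = Dual3.resTrdeg f (hV.fromSpec z) := fun z => by
    have h1 : Dual3.resTrdeg (Spec.map (f.appLE W V hVW) ≫ hW.fromSpec) z =
        Dual3.resTrdeg (hV.fromSpec ≫ f) z := by rw [hW.SpecMap_appLE_fromSpec f hV hVW]
    rw [AlgSpLib.resTrdeg_comp, AlgSpLib.resTrdeg_comp, CycPushLib.trdeg_preimmersion_left hW.fromSpec,
      CycPushLib.trdeg_preimmersion_left hV.fromSpec, zero_add, add_zero] at h1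
    exact h1
  have hr : ∀ z : PrimeSpectrum Γ(X, V), z.asIdeal ∈ minimalPrimes Γ(X, V) →
      Dual3.resTrdeg (Spec.map (CommRingCat.ofHom (algebraMap Γ(Y, W) Γ(X, V)))) z ≤ (r : Cardinal.{u}) := by
    intro z hz
    show Dual3.resTrdeg (Spec.map (f.appLE W V hVW)) z ≤ _
    rw [hres]
    let Z := irreducibleComponent (hV.fromSpec z)
    have hZc : IsClosed Z := isClosed_irreducibleComponent
    let η := (isIrreducible_irreducibleComponent (x := hV.fromSpec z)).genericPoint
    have hη : closure ({η} : Set X) = Z :=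
      (isIrreducible_irreducibleComponent.isGenericPoint_genericPoint_closure).trans hZc.closure_eq
    have hsp : η ⤳ hV.fromSpec z := specializes_iff_mem_closure.2 (hη ▸ mem_irreducibleComponent)
    obtain ⟨w, hw⟩ : η ∈ Set.range hV.fromSpec := hsp.mem_open hV.fromSpec.opensRange.isOpen ⟨z, rfl⟩
    have hwz : w.asIdeal ≤ z.asIdeal :=
      (PrimeSpectrum.le_iff_specializes w z).2 (hV.fromSpec.isOpenEmbedding.isInducing.specializes_iff.1
        (by rw [hw]; exact hsp))
    have hweq : w = z := PrimeSpectrum.ext (le_antisymm hwz (hz.2 ⟨w.isPrime, bot_le⟩ hwz))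
    subst hweq
    refine htr Z (irreducibleComponent_mem_irreducibleComponents _) ?_ (hV.fromSpec w) ?_
    · by_contra hxZ
      have : hV.fromSpec w ∈ T₀ := hVT (hV.range_fromSpec.le ⟨w, rfl⟩)
      exact this ⟨Z, ⟨irreducibleComponent_mem_irreducibleComponents _, hxZ⟩, mem_irreducibleComponent⟩
    · rw [hw]
      exact hη
  have hmain := fun z (hz : z.asIdeal ≤ P.asIdeal) =>
    ShriekRingLib.main_CM Γ(Y, W) Γ(X, V) m ψ hψ adjψ p.asIdeal r hr z (Ideal.comap_mono hz)
  refine ⟨fun i hi => ?_, ?_⟩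
  · by_contra hlt
    exact not_subsingleton_iff_nontrivial.2 ((DualCxLib.stalkHD hV.fromSpec e P i).nontrivial_congr.1 hi)
      ((hmain P le_rfl).1 i (by omega))
  · haveI : (Dual.inD Γ(Y, W) Γ(Y, W)).IsGE 0 := inferInstance
    haveI := (ShriekRingLib.bounded_and_finite m ψ hψ adjψ (K := Dual.inD Γ(Y, W) Γ(Y, W)) (a := 0) inferInstance).2
      (ShriekRingLib.finite_HD_inD Γ(Y, W)) (-(r : ℤ))
    exact ShriekAffLib.hasSk_stalkHD hV.fromSpec e P (-(r : ℤ)) 2 fun z hz => (hmain z hz).2

end Groth.Agent.S3671
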