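import Groth.Statements.S3675
import Groth.Agent.DualCxLib.Sch

set_option autoImplicit false
universe u
open CategoryTheory CategoryTheory.Limits AlgebraicGeometry
attribute [local instance] HasDerivedCategory.standard
open Dual3

namespace Groth.Agent.S3675

/-- Let X be a locally Noetherian scheme (exactness instances as in the definition of dualizing
complexes) and ω a coherent O_X-module such that ω[0] is a dualizing complex on X. Then X is
Cohen–Macaulay: every local ring O_{X,x} is a Cohen–Macaulay local ring. -/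
theorem result (X : Scheme.{u}) [IsLocallyNoetherian X] [∀ (U V : Scheme.{u}) (j : U ⟶ V) [IsOpenImmersion j], PreservesFiniteLimits (Scheme.Modules.restrictFunctor j)] [∀ (R : CommRingCat.{u}), PreservesFiniteLimits (tilde.functor R)] (ω : X.Modules) (hω : Coh.IsCoh ω) (hD : Dual2.IsDualizingSch X (DCoh.inD X ω)) (x : X) : LocCoh.IsCohenMacaulayLocalRing (X.presheaf.stalk x) := by
  obtain ⟨A, _, _, j, _, p, rfl⟩ := DualCxLib.chart_of_point x
  obtain ⟨w, hw, ⟨e⟩⟩ := hD A j
  refine (DualCxLib.cm_stalk_iff_chart j hw e p).2 ?_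
  obtain ⟨q₀, -, -, -, hne⟩ := DualCxLib.exists_min_deg hw p A (DualCxLib.mem_support_ring p)
  have hnt : ∀ i : ℤ, Nontrivial ((DCoh.HD (DCoh.inD X ω) i).presheaf.stalk (j p)) → i = 0 := by
    intro i hi
    by_contra hne0
    have hz : CategoryTheory.Limits.IsZero (DCoh.HD (DCoh.inD X ω) i) := by
      rcases lt_or_gt_of_ne hne0 with h | h
      · exact DerivedCategory.isZero_of_isGE (DCoh.inD X ω) 0 i h
      · exact DerivedCategory.isZero_of_isLE (DCoh.inD X ω) 0 i h
    have hz' : CategoryTheory.Limits.IsZero ((DCoh.HD (DCoh.inD X ω) i).presheaf.stalk (j p)) :=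
      CategoryTheory.Functor.map_isZero (AlgebraicGeometry.Scheme.Modules.toPresheaf X ⋙ TopCat.Presheaf.stalkFunctor Ab.{u} (j p)) hz
    exact not_subsingleton_iff_nontrivial.2 hi (AddCommGrpCat.subsingleton_of_isZero hz')
  have hd : Nontrivial ((DCoh.HD (DCoh.inD X ω) (DualCxLib.deg hw q₀)).presheaf.stalk (j p)) :=
    (DualCxLib.stalkHD j e p _).nontrivial_congr.2 ((DualCxLib.nontrivial_localized_iff (DualCxLib.extHL w _)).2 hne)
  exact ⟨_, hd, fun i hi => (hnt i hi).trans (hnt _ hd).symm⟩

end Groth.Agent.S3675
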