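import Groth.Statements.S3678
import Groth.Agent.ClopenFFLib.Henselian
import Groth.Agent.SteinLib.EtaleMain
import Groth.Agent.AlgSpLib.ReducedSmooth

set_option autoImplicit false
universe u
open Pi1

namespace Groth.Agent.S3678

open AlgebraicGeometry CategoryTheory CategoryTheory.Limits in
/-- Let A be a strictly henselian local ring (a henselian local ring with separably closed residue
field), f : X → Spec A a morphism which is proper, flat and of finite presentation and all of whose
geometric fibres are connected and reduced, and t : Spec Ω → Spec A a geometric point, with Ω an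
algebraically closed field. Then the functor restricting finite étale covers of X to the geometric
fibre X_t = X ×_{Spec A} Spec Ω is fully faithful; equivalently, the specialisation homomorphism
from the fundamental group of X_t to that of X is surjective. (The published statement is the
surjectivity of this homomorphism; it is stated here as full faithfulness of the restriction
functor.) -/
theorem result (A : Type u) [CommRing A] [HenselianLocalRing A]
    [IsSepClosed (IsLocalRing.ResidueField A)] {X : Scheme.{u}} (f : X ⟶ Spec (CommRingCat.of A))
    [IsProper f] [Flat f] [LocallyOfFinitePresentation f]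
    (hfib : ∀ (Ω : Type u) [Field Ω] [IsAlgClosed Ω] (s : Spec (CommRingCat.of Ω) ⟶ Spec (CommRingCat.of A)),
      ConnectedSpace ↥(pullback f s) ∧ IsReduced (pullback f s))
    (Ω : Type u) [Field Ω] [IsAlgClosed Ω] (t : Spec (CommRingCat.of Ω) ⟶ Spec (CommRingCat.of A)) :
    (FEt.restrict (pullback.fst f t)).Full ∧ (FEt.restrict (pullback.fst f t)).Faithful := by
  refine ClopenFFLib.full_faithful _ fun Y C' => ?_
  let y : Y.left ⟶ X := Y.hom
  haveI : IsFinite y := Y.prop.1
  haveI : Etale y := Y.prop.2
  let g : Y.left ⟶ Spec (CommRingCat.of A) := y ≫ f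
  haveI : IsProper g := inferInstanceAs (IsProper (y ≫ f))
  haveI : Flat g := inferInstanceAs (Flat (y ≫ f))
  haveI : LocallyOfFinitePresentation g := inferInstanceAs (LocallyOfFinitePresentation (y ≫ f))
  haveI : GeometricallyReduced g := SteinLib.gr_of_geometric_points g fun K _ _ σ => by
    haveI : IsReduced (pullback f σ) := (hfib K σ).2
    haveI : Etale (pullback.snd y (pullback.fst f σ)) := MorphismProperty.pullback_snd _ _ ‹Etale y›
    haveI : IsReduced (pullback y (pullback.fst f σ)) := AlgSpLib.isReduced_of_smooth (pullback.snd y (pullback.fst f σ))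
    exact isReduced_of_isOpenImmersion ((IsPullback.of_hasPullback y (pullback.fst f σ)).paste_vert
      (IsPullback.of_hasPullback f σ)).isoPullback.inv
  obtain ⟨h1, h2⟩ := SteinLib.finite_etale_fromNormalization g
  let n := g.toNormalization
  let g' := g.fromNormalization
  haveI : GeometricallyConnected n := SteinLib.geometricallyConnected_toNormalization g
  haveI : IsProper n := SteinLib.isProper_toNormalization g
  haveI : IsFinite g' := h1
  haveI : Etale g' := h2
  let s := pullback.fst f t
  let P := pullback y s
  have sqg : IsPullback (pullback.fst y s) (pullback.snd y s ≫ pullback.snd f t) (n ≫ g') t := by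
    rw [g.toNormalization_fromNormalization]
    exact (IsPullback.of_hasPullback y s).paste_vert (IsPullback.of_hasPullback f t)
  let m : P ⟶ pullback g' t := pullback.lift (pullback.fst y s ≫ n) (pullback.snd y s ≫ pullback.snd f t)
    (by rw [Category.assoc]; exact sqg.w)
  have sqm : IsPullback (pullback.fst y s) m n (pullback.fst g' t) :=
    IsPullback.of_bot (by rw [pullback.lift_snd]; exact sqg) (pullback.lift_fst _ _ _).symm
      (IsPullback.of_hasPullback g' t)
  haveI : GeometricallyConnected m := MorphismProperty.of_isPullback sqm ‹GeometricallyConnected n›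
  haveI : IsProper m := MorphismProperty.of_isPullback sqm ‹IsProper n›
  have down : ∀ {P Q : Scheme.{u}} (m : P ⟶ Q) [IsProper m] [GeometricallyConnected m] (C : TopologicalSpace.Clopens P),
      ∃! D : TopologicalSpace.Clopens Q, m.base ⁻¹' (D : Set Q) = C := fun m _ _ C =>
    ClopenFFLib.existsUnique_clopen_of_quotientMap m.base (m.isClosedMap.isQuotientMap m.continuous m.surjective)
      (fun y => (m.isConnected_preimage_singleton y).isPreconnected) C
  obtain ⟨D', hD', hD'u⟩ := down m C'
  obtain ⟨D, hD, hDu⟩ := ClopenFFLib.existsUnique_clopen_geomPoint g' t D'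
  have hsq : ∀ S : Set g.normalization, (pullback.fst y s).base ⁻¹' (n.base ⁻¹' S) = m.base ⁻¹' ((pullback.fst g' t).base ⁻¹' S) :=
    fun S => by
      ext p
      show n.base ((pullback.fst y s).base p) ∈ S ↔ (pullback.fst g' t).base (m.base p) ∈ S
      rw [← Scheme.Hom.comp_apply, ← Scheme.Hom.comp_apply, sqm.w]
  refine ⟨⟨n.base ⁻¹' (D : Set g.normalization), D.isClopen.preimage n.continuous⟩, ?_, fun C₂ hC₂ => ?_⟩
  · show (pullback.fst y s).base ⁻¹' (n.base ⁻¹' (D : Set g.normalization)) = _
    rw [hsq, hD]
    exact hD'
  · obtain ⟨E, hE, -⟩ := down n C₂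
    have hE' : E = D := hDu E (congrArg SetLike.coe (hD'u ⟨_, E.isClopen.preimage (pullback.fst g' t).continuous⟩ (by
      show m.base ⁻¹' ((pullback.fst g' t).base ⁻¹' (E : Set g.normalization)) = _
      rw [← hsq, hE]
      exact hC₂)))
    exact SetLike.coe_injective (by rw [← hE, hE']; rfl)

end Groth.Agent.S3678
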