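import Groth.Statements.S3679
import Groth.Agent.SpecPrimeLib.Main
import Groth.Agent.SpecPrimeLib.EssSurj
import Groth.Agent.FEtKunnethLib.Serre
import Groth.Agent.FEtColimLib.Galois
import Groth.Agent.AlgSpLib.ReducedSmooth
import Groth.Agent.S3678
-- import your own Groth.Agent.* helpers here

set_option autoImplicit false
universe u
open Pi1
open CategoryTheory

namespace Groth.Agent.S3679

open AlgebraicGeometry CategoryTheory CategoryTheory.Limits in
/-- Let A be a strictly henselian discrete valuation ring whose residue field has characteristic zero, Ω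
an algebraically closed field containing A and algebraic over it (a geometric generic point of Spec
A), and f : X → Spec A a smooth proper morphism all of whose geometric fibres are connected. Then
restricting finite étale covers of X to the geometric generic fibre X_Ω is an equivalence of
categories; equivalently, the specialisation homomorphism of fundamental groups is an isomorphism in
residue characteristic zero. (The published statement is in a more general situation; it is stated
here over a strictly henselian discrete valuation ring.) -/
theorem result (A : Type u) [CommRing A] [IsDomain A]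
    [IsDiscreteValuationRing A] [HenselianLocalRing A] [IsSepClosed (IsLocalRing.ResidueField A)]
    [CharZero (IsLocalRing.ResidueField A)]
    (Ω : Type u) [Field Ω] [IsAlgClosed Ω] [Algebra A Ω] (hinj : Function.Injective (algebraMap A Ω))
    [Algebra.IsAlgebraic A Ω]
    {X : Scheme.{u}} (f : X ⟶ Spec (CommRingCat.of A)) [IsProper f] [Smooth f]
    (hfib : ∀ (K : Type u) [Field K] [IsAlgClosed K] (s : Spec (CommRingCat.of K) ⟶ Spec (CommRingCat.of A)),
      ConnectedSpace ↥(pullback f s)) :
    (FEt.restrict (pullback.fst f (Spec.map (CommRingCat.ofHom (algebraMap A Ω))))).IsEquivalence := by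
  let p := pullback.fst f (Spec.map (CommRingCat.ofHom (algebraMap A Ω)))
  obtain ⟨_, _⟩ := Groth.Agent.S3678.result A f (fun Ω' _ _ s => ⟨hfib Ω' s, by
    haveI : Smooth (pullback.snd f s) := MorphismProperty.pullback_snd _ _ inferInstance
    exact AlgSpLib.isReduced_of_smooth (pullback.snd f s)⟩) Ω (Spec.map (CommRingCat.ofHom (algebraMap A Ω)))
  haveI : ConnectedSpace ↥(pullback f (Spec.map (CommRingCat.ofHom (algebraMap A Ω)))) := hfib Ω _
  haveI : ConnectedSpace X := by
    haveI : IrreducibleSpace ↥(pullback f (FEtProper.spR A A)) := SpecPrime.irreducibleSpace_bc f hfib A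
    haveI : IsIso (FEtProper.spR A A) := by
      rw [show FEtProper.spR A A = 𝟙 _ from Spec.map_id _]
      infer_instance
    exact (asIso (pullback.fst f (FEtProper.spR A A))).hom.homeomorph.connectedSpace_iff.1 inferInstance
  let W := pullback f (Spec.map (CommRingCat.ofHom (algebraMap A Ω)))
  obtain ⟨x⟩ : Nonempty W := inferInstance
  let ξ : Spec (CommRingCat.of (AlgebraicClosure (W.residueField x))) ⟶ W :=
    Spec.map (CommRingCat.ofHom (algebraMap (W.residueField x) (AlgebraicClosure (W.residueField x)))) ≫
      W.fromSpecResidueField x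
  letI := FEtColim.preGaloisCategory W
  letI := FEtColim.preGaloisCategory X
  obtain ⟨hF⟩ := FEtColim.fiberFunctor ξ
  obtain ⟨hF'⟩ := FEtColim.fiberFunctor (ξ ≫ p)
  letI : GaloisCategory (FEt.Cat W) := { hasFiberFunctor := ⟨_, ⟨hF⟩⟩ }
  let i : FEt.restrict p ⋙ FEtColim.finFiber ξ ≅ FEtColim.finFiber (ξ ≫ p) :=
    NatIso.ofComponents (fun V => FintypeCat.incl.preimageIso ((FEtKunneth.fiberPull p ξ rfl).app V)) fun φ => by
      apply FintypeCat.incl.map_injective
      simp only [Functor.map_comp, Functor.preimageIso_hom, Functor.map_preimage]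
      exact (FEtKunneth.fiberPull p ξ rfl).hom.naturality φ
  haveI := SpecPrime.essSurj_of_galois (FEt.restrict p) (FEtColim.finFiber ξ) (FEtColim.finFiber (ξ ≫ p)) i
    fun Z hZ => SpecPrime.mem_essImage A Ω hinj f hfib Z (fun Ω' _ _ ξ' s t => by
      obtain ⟨hG⟩ := FEtColim.fiberFunctor (X := W) ξ'
      haveI := hG
      haveI := (PreGaloisCategory.isGalois_iff_pretransitive (FEtColim.finFiber ξ') Z).1 hZ
      exact MulAction.exists_smul_eq (Aut Z) (show (FEtColim.finFiber ξ').obj Z from s) t) (by
      haveI := hZ
      have hpos : Nat.card (Aut Z) ≠ 0 := Nat.card_pos.ne'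
      rw [← IsLocalRing.notMem_maximalIdeal, ← Ideal.Quotient.eq_zero_iff_mem]
      intro h0
      exact hpos (Nat.cast_injective (R := IsLocalRing.ResidueField A) (by
        rw [Nat.cast_zero, ← map_natCast (IsLocalRing.residue A)]; exact h0)))
  exact {}

end Groth.Agent.S3679
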