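import Groth.Statements.S3681
import Groth.Agent.FEtKunnethLib.Const

set_option autoImplicit false
set_option backward.isDefEq.respectTransparency false
set_option backward.isDefEq.respectTransparency.types false
set_option maxRecDepth 8000
set_option maxHeartbeats 1000000
universe u
open Pi1

namespace Groth.Agent.S3681

open AlgebraicGeometry CategoryTheory CategoryTheory.Limits in
/-- Let k be an algebraically closed field, X and Y locally Noetherian k-schemes with Y connected and X
or Y proper over k, and Z' a finite etale cover of the product of X and Y over k. For a k-rational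
point y of Y write j_y : X -> X x_k Y for the induced morphism. Then for any two k-rational points
y, y' of Y the finite etale covers of X obtained by pulling Z' back along j_y and j_{y'} are
isomorphic. -/
theorem result (k : Type u) [Field k] [IsAlgClosed k] {X Y : Scheme.{u}}
    (pX : X ⟶ Spec (CommRingCat.of k)) (pY : Y ⟶ Spec (CommRingCat.of k))
    [IsLocallyNoetherian X] [IsLocallyNoetherian Y] [ConnectedSpace Y] (hprop : IsProper pX ∨ IsProper pY)
    (Z' : FEt.Cat (pullback pX pY))
    (y y' : Spec (CommRingCat.of k) ⟶ Y) (hy : 𝟙 X ≫ pX = (pX ≫ y) ≫ pY) (hy' : 𝟙 X ≫ pX = (pX ≫ y') ≫ pY) :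
    Nonempty ((FEt.restrict (pullback.lift (𝟙 X) (pX ≫ y) hy)).obj Z' ≅
      (FEt.restrict (pullback.lift (𝟙 X) (pX ≫ y') hy')).obj Z') := by
  haveI : IsFinite Z'.hom := Z'.prop.1
  haveI : Etale Z'.hom := Z'.prop.2
  rcases hprop with h | h
  · exact FEtKunneth.nonempty_iso_proper_fst pX pY Z'.hom y y' _ _ (pullback.lift_fst _ _ _) (pullback.lift_snd _ _ _)
      (pullback.lift_fst _ _ _) (pullback.lift_snd _ _ _)
  · let σ := pullbackSymmetry pX pY
    let z := Z'.hom ≫ σ.hom
    haveI : IsFinite z := MorphismProperty.RespectsIso.postcomp (P := @IsFinite) σ.hom _ ‹IsFinite Z'.hom›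
    haveI : Etale z := MorphismProperty.RespectsIso.postcomp (P := @Etale) σ.hom _ ‹Etale Z'.hom›
    have key : ∀ (j : X ⟶ pullback pX pY), Nonempty ((FEt.restrict j).obj Z' ≅
        (FEt.restrict (j ≫ σ.hom)).obj (MorphismProperty.Over.mk ⊤ z ⟨‹IsFinite z›, ‹Etale z›⟩)) := fun j => by
      have h1 : IsPullback (pullback.fst Z'.hom j) (pullback.snd Z'.hom j) z (j ≫ σ.hom) :=
        (IsPullback.of_hasPullback Z'.hom j).of_iso (Iso.refl _) (Iso.refl _) (Iso.refl _) σ (by simp) (by simp)
          (by simp [z]) (by simp)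
      exact ⟨MorphismProperty.Over.isoMk (h1.isoIsPullback _ _ (IsPullback.of_hasPullback z (j ≫ σ.hom)))
        (IsPullback.isoIsPullback_hom_snd _ _ _ _)⟩
    obtain ⟨e₁⟩ := key (pullback.lift (𝟙 X) (pX ≫ y) hy)
    obtain ⟨e₂⟩ := key (pullback.lift (𝟙 X) (pX ≫ y') hy')
    obtain ⟨e⟩ := FEtKunneth.nonempty_iso_proper_snd pY pX z y (pullback.lift (𝟙 X) (pX ≫ y) hy ≫ σ.hom) y'
      (pullback.lift (𝟙 X) (pX ≫ y') hy' ≫ σ.hom) (by simp [σ]) (by simp [σ]) (by simp [σ]) (by simp [σ])
    exact ⟨e₁ ≪≫ e ≪≫ e₂.symm⟩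

end Groth.Agent.S3681
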