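import Groth.Statements.S3687
import Groth.Agent.ConstQuotLib.EffAny
import Groth.Agent.S5123
import Groth.Agent.SubmDescLib.Bridge
import Groth.Agent.ProperOverLib.Basic
import Groth.Agent.DescLib.QAff

set_option linter.all false
set_option backward.isDefEq.respectTransparency false
set_option backward.isDefEq.respectTransparency.types false

set_option autoImplicit false
open CategoryTheory CategoryTheory.Limits AlgebraicGeometry Opposite
universe u
open SGA1

namespace Groth.Agent.S3687

/-- Let g : S' ⟶ S be finite, surjective and locally of finite presentation (S arbitrary). Then every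
descent datum relative to g whose underlying scheme is etale, separated and quasi-compact over S' is
isomorphic to the canonical descent datum of a scheme etale, separated and quasi-compact over S.
(Descent data relative to g are taken in functor-of-points form.) -/
theorem result {S' S : Scheme.{u}} (g : S' ⟶ S) [IsFinite g] [Surjective g]
    [LocallyOfFinitePresentation g]
    (D : Desc.SchDD g) [QuasiCompact D.obj.hom] [IsSeparated D.obj.hom] [Etale D.obj.hom] :
    ∃ U : Over S, QuasiCompact U.hom ∧ IsSeparated U.hom ∧ Etale U.hom ∧ Nonempty ((Desc.toDD g).obj U ≅ D) := by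
  let Fm : Desc.SchDDFam (fun _ : PUnit.{1} => g) := (Desc.SchDDFam.ofSchDD.{0} g).obj D
  haveI : Etale (Fm.obj PUnit.unit).hom := inferInstanceAs (Etale D.obj.hom)
  have hg : SGA1.UnivSubmersive g := SubmDescLib.univSubmersive_of_universallyClosed_surjective g
  let V : ↥S.affineOpens → S.Opens := fun i => i.1
  have hV : ⨆ i, V i = ⊤ := iSup_affineOpens_eq_top S
  obtain ⟨U, hU, ⟨i⟩⟩ := (Groth.Agent.S5123.result g hg Fm V hV).2 fun i => by
    haveI : IsAffine (V i).toScheme := i.2
    haveI : Surjective (pullback.snd g (V i).ι) := MorphismProperty.pullback_snd _ _ inferInstance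
    haveI : LocallyOfFinitePresentation (pullback.snd g (V i).ι) := MorphismProperty.pullback_snd _ _ inferInstance
    haveI : IsFinite (pullback.snd g (V i).ι) := MorphismProperty.pullback_snd _ _ inferInstance
    let D' := SubmDescLib.sdd (SubmDescLib.pullFam Fm (V i).ι)
    have h₁ : QuasiCompact D'.obj.hom := inferInstanceAs (QuasiCompact (pullback.snd D.obj.hom (pullback.fst g (V i).ι)))
    have h₂ : IsSeparated D'.obj.hom := inferInstanceAs (IsSeparated (pullback.snd D.obj.hom (pullback.fst g (V i).ι)))
    have h₃ : Etale D'.obj.hom := inferInstanceAs (Etale (pullback.snd D.obj.hom (pullback.fst g (V i).ι)))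
    obtain ⟨U, -, -, hU, ⟨j⟩⟩ := ConstQuotLib.effEt_affine (pullback.snd g (V i).ι) D' h₁ h₂ h₃
    exact ⟨U, hU, ⟨(Desc.SchDDFam.ofSchDD.{0} _).mapIso j⟩⟩
  let j : (Desc.toDD g).obj U ≅ D := (Desc.SchDDFam.toSchDD.{0} g).mapIso i
  let e : pullback g U.hom ≅ D.obj.left :=
    { hom := j.hom.hom.left
      inv := j.inv.hom.left
      hom_inv_id := congrArg (fun t => t.hom.left) j.hom_inv_id
      inv_hom_id := congrArg (fun t => t.hom.left) j.inv_hom_id }
  have he : e.hom ≫ D.obj.hom = pullback.fst g U.hom := Over.w j.hom.hom
  haveI hei : IsIso e.hom := e.isIso_hom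
  haveI : QuasiCompact (pullback.fst g U.hom) := by
    rw [← he]
    exact (MorphismProperty.cancel_left_of_respectsIso @QuasiCompact e.hom D.obj.hom).2 inferInstance
  haveI : IsSeparated (pullback.fst g U.hom) := by
    rw [← he]
    exact (MorphismProperty.cancel_left_of_respectsIso @IsSeparated e.hom D.obj.hom).2 inferInstance
  haveI : IsFinite (pullback.snd g U.hom) := MorphismProperty.pullback_snd _ _ inferInstance
  haveI : Surjective (pullback.snd g U.hom) := MorphismProperty.pullback_snd _ _ inferInstance
  haveI : QuasiCompact (pullback.snd g U.hom ≫ U.hom) := by rw [← pullback.condition]; infer_instance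
  haveI : IsSeparated (pullback.snd g U.hom ≫ U.hom) := by rw [← pullback.condition]; infer_instance
  exact ⟨U, DescLib.quasiCompact_of_surjective_comp (pullback.snd g U.hom) U.hom,
    ProperOverLib.isSeparated_of_comp_surjective (pullback.snd g U.hom) U.hom, hU, ⟨j⟩⟩

end Groth.Agent.S3687
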