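import Groth.Statements.S3688
import Groth.Agent.KummerConnLib.Tame
-- import your own Groth.Agent.* helpers here

set_option autoImplicit false
open CategoryTheory CategoryTheory.Limits AlgebraicGeometry
universe u
open SGA1t

namespace Groth.Agent.S3688

set_option backward.isDefEq.respectTransparency false

/-- Let f : X -> S and let global sections φ_1, ..., φ_r of X cut out a strict normal crossings divisor
relative to S, with complement U. Let x be a point where some φ_i vanishes, A = O_{X,x}, X_1 = Spec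
A, U_1 the inverse image of U, and for the indices i with φ_i(x) = 0 let n_i ≥ 1 be integers
invertible in the residue field of x. Let X'_1 = Spec A[T_i]/(T_i^{n_i} - φ_i) (those i only) and
U'_1 its part over U_1. Then U'_1 -> U_1 is finite etale, U'_1 is connected, and U'_1 is tamely
ramified on X_1 along the divisor relatively to S. (The published statement also asserts smoothness
of the global Kummer scheme at the point over x; that first assertion is not stated here.) -/
theorem result {X S : Scheme.{u}} (f : X ⟶ S) {r : ℕ} (φ : Fin r → Γ(X, ⊤))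
    (hD : SGA1t.IsRelSNC f φ) (x : X) (hx : Nonempty (SGA1t.vanishingAt φ x))
    (n : SGA1t.vanishingAt φ x → ℕ) (hn1 : ∀ i, 1 ≤ n i) (hnu : ∀ i, IsUnit ((n i : ℕ) : X.residueField x)) :
    letI A := X.presheaf.stalk x
    letI a : SGA1t.vanishingAt φ x → A := fun i => (X.presheaf.germ ⊤ x trivial).hom (φ i.1)
    letI π : Spec (CommRingCat.of (SGA1t.kummer A a n)) ⟶ Spec (CommRingCat.of A) :=
      Spec.map (CommRingCat.ofHom (algebraMap A (SGA1t.kummer A a n)))
    letI φ₁ : Fin r → Γ(Spec (CommRingCat.of A), ⊤) := fun i => (X.fromSpecStalk x).appTop (φ i)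
    IsFinite (π ∣_ SGA1t.compl φ₁) ∧ Etale (π ∣_ SGA1t.compl φ₁) ∧
      ConnectedSpace ↥(π ⁻¹ᵁ SGA1t.compl φ₁) ∧
      ∀ [hF : IsFinite (π ∣_ SGA1t.compl φ₁)] [hE : Etale (π ∣_ SGA1t.compl φ₁)],
        SGA1t.IsRelTame (X.fromSpecStalk x ≫ f) φ₁ (MorphismProperty.Over.mk ⊤ (π ∣_ SGA1t.compl φ₁) ⟨hF, hE⟩) := by
  letI A := X.presheaf.stalk x
  letI a : SGA1t.vanishingAt φ x → A := fun i => (X.presheaf.germ ⊤ x trivial).hom (φ i.1)
  obtain ⟨σ, G, hG, hA, hw, e, he, hea⟩ := KummerConnLib.exists_chart f φ hD x hx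
  have hnu' : ∀ i, IsUnit ((n i : ℕ) : A) := fun i => by
    refine (IsLocalRing.residue_ne_zero_iff_isUnit _).1 ?_
    rw [map_natCast]
    exact (hnu i).ne_zero
  haveI : IsLocalHom (RingHom.id A) := ⟨fun a h => h⟩
  have hm : X.fromSpecStalk x = Spec.map (CommRingCat.ofHom (RingHom.id A)) ≫ X.fromSpecStalk x := by
    simp [A]
  haveI := KummerConnLib.isFinite_kumProj φ x A a n hn1
  haveI hEt := KummerConnLib.etale_restrict φ x A (RingHom.id A) (X.fromSpecStalk x) hm a n (fun _ => rfl) hn1 hnu'
  refine ⟨MorphismProperty.of_isPullback (isPullback_morphismRestrict _ _).flip ‹_›, hEt,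
    KummerConnLib.connectedSpace_preimage φ x A (RingHom.id A) (X.fromSpecStalk x) hm (G := G) e he a (fun _ => rfl) hea n hn1, ?_⟩
  intro hF hE
  exact KummerConnLib.isRelTame φ x A (RingHom.id A) (X.fromSpecStalk x) hm a n (fun _ => rfl) (X.fromSpecStalk x ≫ f) hn1 hnu'

end Groth.Agent.S3688
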