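import Groth.Statements.S3695
import Groth.Agent.SimpConnLib.Rational

set_option autoImplicit false
set_option backward.isDefEq.respectTransparency false
set_option backward.isDefEq.respectTransparency.types false
set_option maxRecDepth 8000
set_option maxHeartbeats 1000000
universe u
open Pi1

namespace Groth.Agent.S3695

open AlgebraicGeometry CategoryTheory CategoryTheory.Limits in
/-- Let k be an algebraically closed field and X a proper, normal, integral k-scheme which is rational:
its function field (the local ring at the generic point) is k-isomorphic to a field of rational
functions k(t_1, ..., t_r). Then X is simply connected: every finite etale cover of X is a finite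
disjoint union of copies of X. (This contains the case of projective space.) -/
theorem result (k : Type u) [Field k] [IsAlgClosed k] (X : Scheme.{u})
    [X.Over (Spec (CommRingCat.of k))] [IsProper (X ↘ Spec (CommRingCat.of k))] [IsIntegral X] (hN : Pi1.IsNormalScheme X)
    (r : ℕ)
    (e : letI := Curv2.stalkAlgebra k X (genericPoint X)
      X.presheaf.stalk (genericPoint X) ≃ₐ[k] FractionRing (MvPolynomial (Fin r) k))
    (Y : FEt.Cat X) : Pi1.IsSplit Y := by
  exact SimpConnLib.isSplit_of_rational k X hN r e Y

end Groth.Agent.S3695
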