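import Groth.Statements.S3696
import Groth.Agent.SimpConnLib.Universal

set_option autoImplicit false
set_option backward.isDefEq.respectTransparency false
set_option backward.isDefEq.respectTransparency.types false
set_option maxRecDepth 8000
set_option maxHeartbeats 1000000
universe u
open Pi1

namespace Groth.Agent.S3696

open AlgebraicGeometry CategoryTheory CategoryTheory.Limits in
/-- Let k be an algebraically closed field and X a proper, normal, integral k-scheme which is
unirational in the sense that its function field K (the local ring at the generic point) admits a
k-embedding into a field of rational functions k(t_1, …, t_r) (the published definition of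
unirational also asks k(t_1, …, t_r) to be finite over K; that is not required here). Then there is
a connected finite étale cover of X which maps to every connected finite étale cover of X;
equivalently, the fundamental group of X is finite. -/
theorem result (k : Type u) [Field k] [IsAlgClosed k] (X : Scheme.{u})
    [X.Over (Spec (CommRingCat.of k))] [IsProper (X ↘ Spec (CommRingCat.of k))] [IsIntegral X] (hN : Pi1.IsNormalScheme X)
    (r : ℕ)
    (hU : letI := Curv2.stalkAlgebra k X (genericPoint X)
      Nonempty (X.presheaf.stalk (genericPoint X) →ₐ[k] FractionRing (MvPolynomial (Fin r) k))) :
    ∃ Z₀ : FEt.Cat X, ConnectedSpace Z₀.left ∧ ∀ Z : FEt.Cat X, ConnectedSpace Z.left → Nonempty (Z₀ ⟶ Z) := by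
  obtain ⟨φ⟩ := hU
  exact SimpConnLib.exists_universal_of_unirational k X hN r φ

end Groth.Agent.S3696
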