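import Groth.Statements.S3698
import Groth.Agent.FEtKunnethLib.Serre

set_option autoImplicit false
set_option backward.isDefEq.respectTransparency false
set_option backward.isDefEq.respectTransparency.types false
set_option maxRecDepth 8000
set_option maxHeartbeats 1000000
universe u
open CategoryTheory MonoidalCategory CartesianMonoidalCategory MonObj GrpObj AlgebraicGeometry
open Pi1

namespace Groth.Agent.S3698

/-- The fundamental group of an abelian variety, in the form underlying its computation: let k be an
algebraically closed field and A an abelian variety over k (a proper, geometrically integral group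
scheme over k). Then every connected finite étale cover Z → A is dominated by a multiplication map:
for some integer d ≥ 1 there is a morphism A → Z over A, where A is viewed as a scheme over A
through multiplication by d. (Multiplication by d is the d-th power of the identity in the group
Hom(A, A); consequently the fundamental group of A is the inverse limit of the groups of k-points of
the kernels of these multiplications.) -/
theorem result (k : Type u) [Field k] [IsAlgClosed k]
    (A : Over (Spec (CommRingCat.of k))) [GrpObj A] [IsProper A.hom] [GeometricallyIntegral A.hom]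
    (Z : FEt.Cat A.left) [ConnectedSpace Z.left] :
    ∃ d : ℕ, 1 ≤ d ∧ ∃ ψ : A.left ⟶ Z.left, ψ ≫ Z.hom = ((𝟙 A) ^ (d : ℤ)).left := by
  haveI : IsLocallyNoetherian A.left := LocallyOfFiniteType.isLocallyNoetherian A.hom
  haveI : IsIntegral A.left := GeometricallyIntegral.isIntegral_of_subsingleton A.hom
  haveI : IsFinite Z.hom := Z.prop.1
  haveI : Etale Z.hom := Z.prop.2
  let e : Spec (CommRingCat.of k) ⟶ A.left := (MonObj.one : 𝟙_ (Over (Spec (CommRingCat.of k))) ⟶ A).left
  have he : e ≫ A.hom = 𝟙 _ := Over.w (MonObj.one : 𝟙_ (Over (Spec (CommRingCat.of k))) ⟶ A)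
  let m : CategoryTheory.Limits.pullback A.hom A.hom ⟶ A.left := (MonObj.mul : MonoidalCategoryStruct.tensorObj A A ⟶ A).left
  have hm₁ : CategoryTheory.Limits.pullback.lift (𝟙 A.left) (A.hom ≫ e)
      (by rw [Category.assoc, he, Category.comp_id, Category.id_comp]) ≫ m = 𝟙 A.left := by
    have h := congrArg CommaMorphism.left (_root_.mul_one (𝟙 A))
    rw [Hom.mul_def, Hom.one_def] at h
    simp only [Over.comp_left, Over.lift_left, Over.toUnit_left, Over.id_left] at h
    exact h
  have hm₂ : CategoryTheory.Limits.pullback.lift (A.hom ≫ e) (𝟙 A.left)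
      (by rw [Category.assoc, he, Category.comp_id, Category.id_comp]) ≫ m = 𝟙 A.left := by
    have h := congrArg CommaMorphism.left (_root_.one_mul (𝟙 A))
    rw [Hom.mul_def, Hom.one_def] at h
    simp only [Over.comp_left, Over.lift_left, Over.toUnit_left, Over.id_left] at h
    exact h
  obtain ⟨d, hd, ψ, hψ⟩ := FEtKunneth.exists_lift_pow A.hom e he m (fun n => ((𝟙 A) ^ n).left) (fun n => Over.w _)
    hm₁ hm₂
    (by simp [Hom.one_def, e])
    (fun n => by simp [pow_succ', Hom.mul_def, m])
    Z (by
      have hs : Set.range Z.hom = Set.univ :=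
        IsClopen.eq_univ (α := A.left) ⟨Z.hom.isClosedMap.isClosed_range, Z.hom.isOpenMap.isOpen_range⟩
          (@Set.range_nonempty _ _ (ConnectedSpace.toNonempty (α := Z.left)) _)
      obtain ⟨z, hz⟩ : e (IsLocalRing.closedPoint k) ∈ Set.range Z.hom := hs.symm ▸ Set.mem_univ _
      haveI : LocallyQuasiFinite Z.hom := WeightLib.locallyQuasiFinite_of_etale _
      obtain ⟨⟨p, hp⟩, -⟩ := WeightLib.exists_gpt Z.hom z e hz
      exact ⟨⟨p, hp⟩⟩)
  exact ⟨d, hd, ψ, by rw [zpow_natCast]; exact hψ⟩

end Groth.Agent.S3698
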