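import Groth.Statements.S3700
import Groth.Agent.S1679
import Groth.Agent.S1677
import Groth.Agent.S9699
import Groth.Agent.RelRegLib.Scheme
import Groth.Agent.SmoothDimLib.Omega
import Groth.Agent.Unram17Lib.RegImmSmooth

set_option autoImplicit false
set_option backward.isDefEq.respectTransparency false
universe u
open SGA1

namespace Groth.Agent.S3700

open AlgebraicGeometry CategoryTheory CategoryTheory.Limits in
/-- Let S be locally Noetherian, f : X -> S locally of finite type, Y the closed subscheme of X defined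
by a quasi-coherent ideal, and x a point of Y at which Y is smooth over S. Then X is smooth over S
at x if and only if the closed immersion of Y in X is regular at x, that is, the kernel of O_{X,x}
-> O_{Y,x} is generated by a regular sequence. (Smoothness at a point is membership in Mathlib's
smooth locus, the set of points where the map of local rings is formally smooth.) -/
theorem result {X S : Scheme.{u}} [IsLocallyNoetherian S] (f : X ⟶ S)
    [LocallyOfFiniteType f] [LocallyOfFinitePresentation f] (I : X.IdealSheafData)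
    [LocallyOfFinitePresentation (I.subschemeι ≫ f)] (x : ↥I.subscheme) (hY : x ∈ (I.subschemeι ≫ f).smoothLocus) :
    I.subschemeι.base x ∈ f.smoothLocus ↔ CInt.IsRegularIdeal (RingHom.ker (I.subschemeι.stalkMap x).hom) := by
  let i := I.subschemeι
  haveI : IsLocallyNoetherian X := LocallyOfFiniteType.isLocallyNoetherian f
  obtain ⟨W, hxW, hW⟩ := SmoothDimLib.mem_smoothLocus_iff_exists (f := i ≫ f) x |>.mp hY
  constructor
  · intro hx
    obtain ⟨V₁, hV₁, hW₁⟩ := i.isEmbedding.isInducing.isOpen_iff.mp W.isOpen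
    let V : X.Opens := f.smoothLocus ⊓ ⟨V₁, hV₁⟩
    have hxV : i x ∈ V := ⟨hx, by
      have : x ∈ i.base ⁻¹' V₁ := hW₁ ▸ hxW
      exact this⟩
    haveI : Smooth (V.ι ≫ f) := by
      rw [← Scheme.Hom.smoothLocus_eq_top_iff, ← Scheme.Hom.preimage_smoothLocus_eq, eq_top_iff]
      rintro ⟨z, hz⟩ -
      exact hz.1
    haveI : LocallyOfFinitePresentation (((i ⁻¹ᵁ V)).ι ≫ i ≫ f) := inferInstance
    haveI : Smooth ((i ∣_ V) ≫ V.ι ≫ f) := by
      rw [morphismRestrict_ι_assoc]
      have hle : i ⁻¹ᵁ V ≤ W := fun z hz => by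
        have h2 : z ∈ i.base ⁻¹' V₁ := hz.2
        rw [hW₁] at h2
        exact h2
      haveI := hW
      rw [← Scheme.homOfLE_ι _ hle, Category.assoc]
      infer_instance
    have hreg : Mor2.IsRegularClosedImmersion (i ∣_ V) :=
      RelRegLib.isRegularClosedImmersion_of_syntomic (V.ι ≫ f) _ (Groth.Agent.S9699.result _)
    obtain ⟨rs, h1, h2⟩ := (Groth.Agent.S1679.result i x).mp ⟨V, hxV, hreg⟩
    exact ⟨rs, h1, h2.symm⟩
  · rintro ⟨rs, h1, h2⟩
    obtain ⟨V, hxV, hV⟩ := (Groth.Agent.S1679.result i x).mpr ⟨rs, h1, h2.symm⟩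
    haveI : LocallyOfFinitePresentation ((i ∣_ V) ≫ V.ι ≫ f) := by
      rw [morphismRestrict_ι_assoc]
      infer_instance
    let x' : (i ⁻¹ᵁ V : Scheme.{u}) := ⟨x, hxV⟩
    obtain ⟨U, hxU, hU⟩ := Unram17Lib.smooth_nhd_of_regular (V.ι ≫ f) (i ∣_ V) x'
      ⟨(i ⁻¹ᵁ V).ι ⁻¹ᵁ W, hxW, by
        haveI := hW
        rw [morphismRestrict_ι_assoc, ← morphismRestrict_ι_assoc]
        infer_instance⟩ (hV.2 x')
    have h3 : (i ∣_ V) x' ∈ (V.ι ≫ f).smoothLocus :=
      (SmoothDimLib.mem_smoothLocus_iff_exists (f := V.ι ≫ f) _).mpr ⟨U, hxU, hU⟩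
    rw [← Scheme.Hom.preimage_smoothLocus_eq] at h3
    have h4 : V.ι ((i ∣_ V) x') = i x := by
      rw [← Scheme.Hom.comp_apply, morphismRestrict_ι]
      rfl
    exact h4 ▸ h3

end Groth.Agent.S3700
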