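import Groth.Statements.S3705
import Groth.Agent.SncComplLib.Main
-- import your own Groth.Agent.* helpers here

set_option autoImplicit false
open CategoryTheory CategoryTheory.Limits AlgebraicGeometry
universe u
open SGA1t

namespace Groth.Agent.S3705

/-- Base change for the direct image of a finite constant sheaf from the complement of a relative strict
normal crossings divisor: let f : X → S be proper and locally of finite presentation, φ₁, …, φ_r
global functions on X cutting out a strict normal crossings divisor relative to S with complement U,
q : U → S the structure morphism, M a finite abelian group with constant sheaf M_U on U, and h : S'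
→ S any morphism; put X' = X ×_S S', let U' be the inverse image of U in X', and let q' : U' → S'
and k' : U' → U be the induced morphisms. Then the base-change morphism h^*(q_* M_U) → q'_*(k'^*
M_U) is an isomorphism. (The commutativity of the square, q' ≫ h = k' ≫ q, is supplied as the
hypothesis w. The published statement is more general; this is its special case for a finite
constant sheaf, with its auxiliary base equal to S.) -/
theorem result {X S S' : Scheme.{u}} (f : X ⟶ S) [IsProper f] [LocallyOfFinitePresentation f]
    {r : ℕ} (φ : Fin r → Γ(X, ⊤)) (hD : SGA1t.IsRelSNC f φ) (h : S' ⟶ S) (M : Type) [AddCommGroup M] [Finite M]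
    (w : (pullback.fst f h ∣_ SGA1t.compl φ) ≫ (SGA1t.compl φ).ι ≫ f = ((pullback.fst f h ⁻¹ᵁ SGA1t.compl φ).ι ≫ pullback.snd f h) ≫ h) :
    IsIso (EtCoh.baseChange0 ((SGA1t.compl φ).ι ≫ f) h ((pullback.fst f h ⁻¹ᵁ SGA1t.compl φ).ι ≫ pullback.snd f h)
      (pullback.fst f h ∣_ SGA1t.compl φ) w (EtCoh.const (SGA1t.compl φ : Scheme.{u}) M)) := by
  exact SncComplLib.isIso_bc0_proper h hD M w

end Groth.Agent.S3705
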