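import Groth.Statements.S3708
import Groth.Agent.S11761
import Groth.Agent.CurveAmpLib.Proj
import Groth.Agent.PnDualLib.HomExtAdd
import Groth.Agent.CurvLib.SupportVanish
import Groth.Agent.SmDefLib.Van
-- import your own Groth.Agent.* helpers here

set_option autoImplicit false
universe u
open SGA1

namespace Groth.Agent.S3708

open AlgebraicGeometry CategoryTheory CategoryTheory.Limits in
/-- Let A be a Noetherian local ring that is complete, with residue field k, and let X₀ be a smooth
proper k-scheme of dimension one. Then there exist a smooth proper A-scheme X and an isomorphism of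
k-schemes between X₀ and the closed fibre X ×_A k. -/
theorem result (A : Type u) [CommRing A] [IsLocalRing A] [IsNoetherianRing A]
    [IsAdicComplete (IsLocalRing.maximalIdeal A) A] {X₀ : Scheme.{u}}
    (f₀ : X₀ ⟶ Spec (CommRingCat.of (IsLocalRing.ResidueField A))) [Smooth f₀] [IsProper f₀]
    (hdim : topologicalKrullDim X₀ = 1) :
    ∃ (X : Scheme.{u}) (f : X ⟶ Spec (CommRingCat.of A)) (_ : Smooth f) (_ : IsProper f)
      (e : X₀ ≅ pullback f (Spec.map (CommRingCat.ofHom (IsLocalRing.residue A)))),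
      e.hom ≫ pullback.snd f _ = f₀ := by
  letI : X₀.Over (Spec (CommRingCat.of (IsLocalRing.ResidueField A))) := ⟨f₀⟩
  haveI : Smooth (X₀ ↘ Spec (CommRingCat.of (IsLocalRing.ResidueField A))) := ‹Smooth f₀›
  haveI : IsProper (X₀ ↘ Spec (CommRingCat.of (IsLocalRing.ResidueField A))) := ‹IsProper f₀›
  have hd : topologicalKrullDim X₀ ≤ ((1 : ℕ) : WithBot ℕ∞) := by rw [hdim]; rfl
  obtain ⟨N, ι, hι, hιw⟩ := CurveAmpLib.exists_proj (IsLocalRing.ResidueField A) X₀ (le_of_eq hdim)
  haveI := CurvLib.isNoetherian (IsLocalRing.ResidueField A) (X := X₀)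
  haveI : EnoughInjectives X₀.Modules := ModSiteLib.sheafOfModules_enoughInjectives (R := X₀.ringCatSheaf)
  haveI : HasExt.{u} X₀.Modules := hasExt_of_enoughInjectives.{u} _
  have hT : Subsingleton (Abelian.Ext.{u} (Omega.sheaf (X₀ ↘ Spec (CommRingCat.of (IsLocalRing.ResidueField A))))
      (Coh.structureModule X₀) 2) := by
    obtain ⟨e⟩ := PnDualLib.nonempty_ext_homMod_add
      (SmDefLib.isFinLocFree_omega (X₀ ↘ Spec (CommRingCat.of (IsLocalRing.ResidueField A)))) 2 (Coh.structureModule X₀)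
    haveI : Subsingleton (Coh.HH X₀ (CohCmpLib.homMod
        (Omega.sheaf (X₀ ↘ Spec (CommRingCat.of (IsLocalRing.ResidueField A)))) (Coh.structureModule X₀)) 2) :=
      CurvLib.subsingleton_HH_of_dim_le _ hd 2 one_lt_two
    haveI : Subsingleton (CohCmpLib.HC X₀ (CohCmpLib.homMod
        (Omega.sheaf (X₀ ↘ Spec (CommRingCat.of (IsLocalRing.ResidueField A)))) (Coh.structureModule X₀)) 2) := ‹_›
    exact e.toEquiv.subsingleton
  obtain ⟨X, f, i, hs, hp, -, sq⟩ := Groth.Agent.S11761.result A X₀ ⟨N, ι, hι, hιw⟩ hT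
    (CurvLib.subsingleton_HH_of_dim_le _ hd 2 one_lt_two)
  exact ⟨X, f, hs, hp, sq.isoPullback, sq.isoPullback_hom_snd⟩

end Groth.Agent.S3708
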