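import Groth.Statements.S3709
import Groth.Agent.SubmDescLib.Etale
-- import your own Groth.Agent.* helpers here

set_option autoImplicit false
universe u
open SGA1

set_option backward.isDefEq.respectTransparency false
set_option backward.isDefEq.respectTransparency.types false

namespace Groth.Agent.S3709

open AlgebraicGeometry CategoryTheory CategoryTheory.Limits in
/-- A universally submersive morphism is a descent morphism for etale schemes (exactness of Hom_S(X, Y)
-> Hom_S'(X', Y') => Hom_S''(X'', Y'')): let g : S' -> S be universally submersive, X and Y schemes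
over S with Y etale over S, X' and Y' their base changes along g, and f' : X' -> Y' an S'-morphism
whose two pullbacks to S'' = S' x_S S' coincide (equivalently: the two composites X'' -> X' -> Y' ->
Y along the two projections agree). Then there is exactly one S-morphism u : X -> Y whose base
change is f'. -/
theorem result {S S' X Y : Scheme.{u}} (g : S' ⟶ S) (hg : SGA1.UnivSubmersive g)
    (p : X ⟶ S) (q : Y ⟶ S) [Etale q]
    (f' : pullback p g ⟶ pullback q g) (hf' : f' ≫ pullback.snd q g = pullback.snd p g)
    (hcoc : pullback.map p (pullback.fst g g ≫ g) p g (𝟙 X) (pullback.fst g g) (𝟙 S)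
        ((Category.comp_id _).trans (Category.id_comp _).symm) (Category.comp_id _) ≫ f' ≫ pullback.fst q g =
      pullback.map p (pullback.fst g g ≫ g) p g (𝟙 X) (pullback.snd g g) (𝟙 S)
        ((Category.comp_id _).trans (Category.id_comp _).symm) ((Category.comp_id _).trans pullback.condition) ≫
        f' ≫ pullback.fst q g) :
    ∃! u : X ⟶ Y, u ≫ q = p ∧ f' ≫ pullback.fst q g = pullback.fst p g ≫ u := by
  have hh : SGA1.UnivSubmersive (pullback.fst p g) := MorphismProperty.pullback_fst p g hg
  haveI := SubmDescLib.surjective_of_univSubmersive hh
  have w : (f' ≫ pullback.fst q g) ≫ q = pullback.fst p g ≫ p := by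
    rw [Category.assoc, pullback.condition (f := q) (g := g), ← Category.assoc, hf', pullback.condition]
  obtain ⟨u, hu₁, hu₂⟩ := SubmDescLib.exists_desc (pullback.fst p g) hh q p (f' ≫ pullback.fst q g) w (by
    let k : pullback (pullback.fst p g) (pullback.fst p g) ⟶ pullback p (pullback.fst g g ≫ g) :=
      pullback.lift (pullback.fst _ _ ≫ pullback.fst p g)
        (pullback.lift (pullback.fst _ _ ≫ pullback.snd p g) (pullback.snd _ _ ≫ pullback.snd p g) (by
          simp only [Category.assoc, ← pullback.condition (f := p) (g := g)]
          exact pullback.condition_assoc p))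
        (by
          rw [pullback.lift_fst_assoc]
          simp only [Category.assoc, pullback.condition (f := p) (g := g)])
    have := congrArg (k ≫ ·) hcoc
    simp only [← Category.assoc] at this ⊢
    refine Eq.trans (Eq.trans ?_ this) ?_
    · congr 2; apply pullback.hom_ext <;> simp [k]
    · congr 2
      apply pullback.hom_ext
      · simp [k, pullback.condition]
      · simp [k])
  refine ⟨u, ⟨hu₁, hu₂.symm⟩, fun u' hu' => ?_⟩
  exact SubmDescLib.hom_ext (pullback.fst p g) q (by rw [hu'.1, hu₁]) (by rw [← hu'.2, hu₂])

end Groth.Agent.S3709
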