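import Groth.Statements.S3710
import Groth.Agent.KummerSmLib.Sch

set_option autoImplicit false
set_option backward.isDefEq.respectTransparency false
set_option backward.isDefEq.respectTransparency.types false
set_option maxHeartbeats 1000000
set_option synthInstance.maxHeartbeats 400000
open CategoryTheory CategoryTheory.Limits AlgebraicGeometry
universe u
open SGA1t

namespace Groth.Agent.S3710

/-- Let f : X -> S and φ_1, ..., φ_r cut out a strict normal crossings divisor relative to S, x a point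
where some φ_i vanishes, A = O_{X,x}, and n_i ≥ 1 integers for the indices i with φ_i(x) = 0 (no
condition on the residue characteristic). Then the Kummer scheme X' = Spec A[T_i]/(T_i^{n_i} - φ_i)
is smooth over S at its point x' over x: the homomorphism from the local ring of S at the image
point to the local ring of X' at x' is formally smooth. -/
theorem result {X S : Scheme.{u}} (f : X ⟶ S) {r : ℕ} (φ : Fin r → Γ(X, ⊤))
    (hD : SGA1t.IsRelSNC f φ) (x : X) (hx : Nonempty (SGA1t.vanishingAt φ x))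
    (n : SGA1t.vanishingAt φ x → ℕ) (hn1 : ∀ i, 1 ≤ n i) :
    letI A := X.presheaf.stalk x
    letI a : SGA1t.vanishingAt φ x → A := fun i => (X.presheaf.germ ⊤ x trivial).hom (φ i.1)
    letI π : Spec (CommRingCat.of (SGA1t.kummer A a n)) ⟶ Spec (CommRingCat.of A) :=
      Spec.map (CommRingCat.ofHom (algebraMap A (SGA1t.kummer A a n)))
    ∀ x' : Spec (CommRingCat.of (SGA1t.kummer A a n)), π.base x' = IsLocalRing.closedPoint A →
      ((π ≫ X.fromSpecStalk x ≫ f).stalkMap x').hom.FormallySmooth := by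
  letI A := X.presheaf.stalk x
  intro x' _
  obtain ⟨W, hxW, d, v, e, he, hv, hve⟩ := hD x hx
  obtain ⟨_, ⟨V, hV, rfl⟩, hxV, -⟩ :=
    S.isBasis_affineOpens.exists_subset_of_mem_open (Set.mem_univ (f x)) isOpen_univ
  obtain ⟨_, ⟨W', hW', rfl⟩, hxW', hW'sub⟩ :=
    X.isBasis_affineOpens.exists_subset_of_mem_open (a := x) (u := ((W ⊓ f ⁻¹ᵁ V : X.Opens) : Set X))
      ⟨hxW, hxV⟩ (W ⊓ f ⁻¹ᵁ V).2
  have hle : W' ≤ W ⊓ f ⁻¹ᵁ V := hW'sub
  have hW'W : W' ≤ W := hle.trans inf_le_left
  have hW'V : W' ≤ f ⁻¹ᵁ V := hle.trans inf_le_right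
  have het := KummerSmLib.etale_eval₂ f W v hv hV hW' hW'W hW'V
  set v' : ULift.{u} (Fin d) → Γ(W', ⊤) := fun j => (X.homOfLE hW'W).appTop (v j) with hv'
  let gm : Γ(X, W') →+* A := (X.presheaf.germ W' x hxW').hom
  let γ : Γ(W', ⊤) →+* A := gm.comp (Scheme.Opens.topIso W').hom.hom
  let ψ : MvPolynomial (ULift.{u} (Fin d)) Γ(V, ⊤) →+* Γ(W', ⊤) :=
    MvPolynomial.eval₂Hom (f.resLE V W' hW'V).appTop.hom v'
  let θ : MvPolynomial (ULift.{u} (Fin d)) Γ(S, V) →+* A :=
    (γ.comp ψ).comp (MvPolynomial.map (Scheme.Opens.topIso V).inv.hom)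
  have hθ : letI := θ.toAlgebra; Algebra.FormallyEtale (MvPolynomial (ULift.{u} (Fin d)) Γ(S, V)) A := by
    letI : Algebra Γ(X, W') A := gm.toAlgebra
    haveI : IsLocalization.AtPrime A (hW'.primeIdealOf ⟨x, hxW'⟩).asIdeal :=
      hW'.isLocalization_stalk ⟨x, hxW'⟩
    let ρ : MvPolynomial (ULift.{u} (Fin d)) Γ(S, V) →+* Γ(X, W') :=
      ((Scheme.Opens.topIso W').hom.hom.comp ψ).comp (MvPolynomial.map (Scheme.Opens.topIso V).inv.hom)
    have hρ : ρ.Etale := by
      refine RingHom.Etale.stableUnderComposition _ _ (RingHom.Etale.of_bijective ?_)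
        (RingHom.Etale.stableUnderComposition _ _ het
          (RingHom.Etale.of_bijective (ConcreteCategory.bijective_of_isIso (Scheme.Opens.topIso W').hom)))
      exact ⟨MvPolynomial.map_injective _ (ConcreteCategory.bijective_of_isIso (Scheme.Opens.topIso V).inv).1,
        MvPolynomial.map_surjective _ (ConcreteCategory.bijective_of_isIso (Scheme.Opens.topIso V).inv).2⟩
    letI : Algebra (MvPolynomial (ULift.{u} (Fin d)) Γ(S, V)) Γ(X, W') := ρ.toAlgebra
    letI algA : Algebra (MvPolynomial (ULift.{u} (Fin d)) Γ(S, V)) A := θ.toAlgebra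
    haveI : IsScalarTower (MvPolynomial (ULift.{u} (Fin d)) Γ(S, V)) Γ(X, W') A :=
      IsScalarTower.of_algebraMap_eq fun _ => rfl
    haveI : Algebra.Etale (MvPolynomial (ULift.{u} (Fin d)) Γ(S, V)) Γ(X, W') := hρ
    haveI : Algebra.FormallyEtale Γ(X, W') A :=
      Algebra.FormallyEtale.of_isLocalization (hW'.primeIdealOf ⟨x, hxW'⟩).asIdeal.primeCompl
    exact Algebra.FormallyEtale.comp _ Γ(X, W') A
  let a : SGA1t.vanishingAt φ x → A := fun i => (X.presheaf.germ ⊤ x trivial).hom (φ i.1)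
  have ha : ∀ i, θ (MvPolynomial.X (ULift.up (e i))) = a i := by
    intro i
    simp only [θ, γ, gm, ψ, a, RingHom.comp_apply, MvPolynomial.map_X, MvPolynomial.eval₂Hom_X', hv', hve i,
      ← CommRingCat.comp_apply, Scheme.homOfLE_appTop, Scheme.Opens.topIso_inv, Scheme.Opens.topIso_hom,
      Category.assoc]
    simp only [← Functor.map_comp, ← op_comp]
    exact TopCat.Presheaf.germ_res_apply _ _ _ _ _
  have hK := KummerSmLib.kummer_formallySmooth A θ hθ (fun i => ULift.up (e i))
    (fun i j h => he (ULift.up.inj h)) a ha n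
  refine KummerSmLib.stalkMap_formallySmooth_SpecMap_fromSpec hV
    (CommRingCat.ofHom ((algebraMap A (SGA1t.kummer A a n)).comp (θ.comp MvPolynomial.C))) hK _ ?_ x'
  have hθC : CommRingCat.ofHom (θ.comp MvPolynomial.C) = f.appLE V W' hW'V ≫ X.presheaf.germ W' x hxW' := by
    ext r
    simp only [θ, γ, gm, ψ, CommRingCat.hom_ofHom, RingHom.comp_apply, MvPolynomial.map_C,
      MvPolynomial.eval₂Hom_C, CommRingCat.hom_comp]
    simp only [← CommRingCat.comp_apply, ← CommRingCat.hom_comp, Scheme.Hom.resLE, Scheme.Hom.comp_appTop,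
      morphismRestrict_appTop, Scheme.homOfLE_appTop, Scheme.Opens.topIso_inv, Scheme.Opens.topIso_hom,
      Scheme.Hom.appLE, Category.assoc]
    simp only [Scheme.Hom.naturality_assoc, ← Functor.map_comp, ← op_comp]
    rw [CommRingCat.comp_apply, CommRingCat.comp_apply]
    refine (TopCat.Presheaf.germ_res_apply _ _ _ _ _).trans ?_
    rw [TopCat.Presheaf.germ_res]
  rw [CommRingCat.ofHom_comp, Spec.map_comp, Category.assoc, hθC, Spec.map_comp, Category.assoc,
    IsAffineOpen.SpecMap_appLE_fromSpec f hV hW' hW'V, ← hW'.fromSpecStalk_eq_fromSpecStalk hxW',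
    IsAffineOpen.fromSpecStalk, Category.assoc]

end Groth.Agent.S3710
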