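import Groth.Statements.S3711
import Groth.Agent.KummerSmLib.Tame

set_option autoImplicit false
set_option backward.isDefEq.respectTransparency false
set_option backward.isDefEq.respectTransparency.types false
set_option maxHeartbeats 1000000
set_option synthInstance.maxHeartbeats 400000
open CategoryTheory CategoryTheory.Limits AlgebraicGeometry
universe u
open SGA1t

namespace Groth.Agent.S3711

/-- Case of a constant group: let f : X -> S and φ_1, ..., φ_r cut out a strict normal crossings divisor
relative to S with complement U, and let P be a principal C-cover of U for a finite group C whose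
order is invertible in every residue field of S. Then P is tamely ramified on X relatively to S. -/
theorem result {X S : Scheme.{u}} (f : X ⟶ S) {r : ℕ} (φ : Fin r → Γ(X, ⊤))
    (hD : SGA1t.IsRelSNC f φ) (C : Type) [Group C] [Finite C] (hC : ∀ s : S, IsUnit ((Nat.card C : ℕ) : S.residueField s))
    (P : FEt.Cat (SGA1t.compl φ : Scheme.{u})) (ρ : C →* Aut P) (hP : SGA1t.IsPrincipal C P ρ) :
    SGA1t.IsRelTame f φ P := by
  intro Ω _ _ σ _ y hdom hdvr w h hne
  haveI := hdvr
  haveI : IsFinite P.hom := P.prop.1
  haveI : Etale P.hom := P.prop.2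
  let q := pullback.snd (P.hom ≫ (SGA1t.compl φ).ι) (pullback.fst f σ)
  let V := pullback (P.hom ≫ (SGA1t.compl φ).ι) (pullback.fst f σ)
  have hwc : ∀ a : Aut P, a.hom.left ≫ P.hom ≫ (SGA1t.compl φ).ι = P.hom ≫ (SGA1t.compl φ).ι := fun a => by
    rw [← Category.assoc, MorphismProperty.Over.w a.hom]
  have hwi : ∀ a : Aut P, a.inv.left ≫ P.hom ≫ (SGA1t.compl φ).ι = P.hom ≫ (SGA1t.compl φ).ι := fun a => by
    rw [← Category.assoc, MorphismProperty.Over.w a.inv]
  let α : C →* Aut V :=
    { toFun := fun c =>
        { hom := pullback.lift (pullback.fst _ _ ≫ (ρ c).hom.left) (pullback.snd _ _)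
            (by rw [Category.assoc, hwc, pullback.condition])
          inv := pullback.lift (pullback.fst _ _ ≫ (ρ c).inv.left) (pullback.snd _ _)
            (by rw [Category.assoc, hwi, pullback.condition])
          hom_inv_id := by
            have e : (ρ c).hom.left ≫ (ρ c).inv.left = 𝟙 _ :=
              congrArg (fun e : P ⟶ P => e.left) (ρ c).hom_inv_id
            refine pullback.hom_ext ?_ ?_ <;> simp [e]
          inv_hom_id := by
            have e : (ρ c).inv.left ≫ (ρ c).hom.left = 𝟙 _ :=
              congrArg (fun e : P ⟶ P => e.left) (ρ c).inv_hom_id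
            refine pullback.hom_ext ?_ ?_ <;> simp [e] }
      map_one' := by
        apply Iso.ext
        refine pullback.hom_ext ?_ ?_
        · simp only [map_one, pullback.lift_fst]
          exact (Category.comp_id _).trans (Category.id_comp _).symm
        · simp only [pullback.lift_snd]
          exact (Category.id_comp _).symm
      map_mul' := fun a b => by
        apply Iso.ext
        refine pullback.hom_ext ?_ ?_
        · simp only [map_mul, pullback.lift_fst]
          show _ ≫ (ρ b).hom.left ≫ (ρ a).hom.left = _
          simp [Aut.Aut_mul_def, Iso.trans_hom]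
        · simp [Aut.Aut_mul_def, Iso.trans_hom] }
  have htrans : ∀ (Ω' : Type u) [Field Ω'] [IsAlgClosed Ω'] (s t : Spec (CommRingCat.of Ω') ⟶ V),
      s ≫ q = t ≫ q → ∃ c : C, s ≫ (α c).hom = t := by
    intro Ω' _ _ s t hst
    have hP' : (s ≫ pullback.fst _ _) ≫ P.hom = (t ≫ pullback.fst _ _) ≫ P.hom := by
      rw [← cancel_mono (SGA1t.compl φ).ι]
      simp only [Category.assoc, pullback.condition]
      exact (reassoc_of% hst) (pullback.fst f σ)
    obtain ⟨c, hc, -⟩ := hP.2 Ω' ((t ≫ pullback.fst _ _) ≫ P.hom) ⟨s ≫ pullback.fst _ _, hP'⟩ ⟨t ≫ pullback.fst _ _, rfl⟩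
    refine ⟨c, pullback.hom_ext ?_ ?_⟩
    · rw [Category.assoc, show (α c).hom ≫ pullback.fst _ _ = pullback.fst _ _ ≫ (ρ c).hom.left from
        pullback.lift_fst _ _ _, ← Category.assoc]
      exact congrArg Subtype.val hc
    · rw [Category.assoc, show (α c).hom ≫ pullback.snd _ _ = pullback.snd _ _ from pullback.lift_snd _ _ _]
      exact hst
  let A := (pullback f σ).presheaf.stalk y
  let K := (pullback f σ).residueField (q.base w)
  let L := V.residueField w
  letI : Algebra K L := (q.residueFieldMap w).hom.toAlgebra
  letI : Algebra A K :=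
    (((pullback f σ).residue _).hom.comp ((pullback f σ).presheaf.stalkSpecializes h).hom).toAlgebra
  haveI : IsFractionRing A K := KummerSmLib.isFractionRing_residueField h hne
  obtain ⟨hfd, hgal, hdvd⟩ : FiniteDimensional K L ∧ IsGalois K L ∧ Module.finrank K L ∣ Nat.card C :=
    KummerSmLib.isGalois_residueField_of_action q α w htrans
  refine EtRamTameLib.tame_of_isGalois (A := A) (K := K) (L := L) fun h0 => ?_
  have hu := hC ((pullback.fst f σ ≫ f).base y)
  let ψ : S.residueField ((pullback.fst f σ ≫ f).base y) →+* IsLocalRing.ResidueField A :=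
    ((pullback.fst f σ ≫ f).residueFieldMap y).hom
  obtain ⟨c, hc⟩ := hdvd
  have := hu.map ψ
  rw [map_natCast, hc, Nat.cast_mul, h0, zero_mul] at this
  exact not_isUnit_zero this

end Groth.Agent.S3711
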