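import Groth.Statements.S3713
import Groth.Agent.Unram17Lib.EtaleChartPullback
-- import your own Groth.Agent.* helpers here

set_option autoImplicit false
universe u
open SGA1

namespace Groth.Agent.S3713

open AlgebraicGeometry CategoryTheory CategoryTheory.Limits in
/-- Let Y be locally Noetherian, f : X -> Y locally of finite type, i a section of f and y a point of Y.
Then X is smooth over Y at i(y) (i(y) lies in the smooth locus of f) if and only if there are an
open neighbourhood U of y, an open V of X with i(U) ⊆ V ⊆ f^{-1}(U), and finitely many sections of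
O_X over V, all vanishing along i(U), which define an etale U-morphism from V to an affine space
over U (so that this etale chart carries the section to the zero section). -/
theorem result {X Y : Scheme.{u}} [IsLocallyNoetherian Y] (f : X ⟶ Y)
    [LocallyOfFiniteType f] [LocallyOfFinitePresentation f] (i : Y ⟶ X) (hi : i ≫ f = 𝟙 Y) (y : Y) :
    i.base y ∈ f.smoothLocus ↔
      ∃ (U : Y.Opens) (V : X.Opens) (_ : y ∈ U) (hUV : U ≤ i ⁻¹ᵁ V) (hVU : V ≤ f ⁻¹ᵁ U) (m : ℕ)
        (v : ULift.{u} (Fin m) → Γ(V, ⊤)),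
        Etale (AffineSpace.homOfVector (f.resLE U V hVU) v) ∧ ∀ j, (i.resLE V U hUV).appTop (v j) = 0 := by
  constructor
  · intro hs
    obtain ⟨_, ⟨W₀, hW₀, rfl⟩, hyW₀, -⟩ :=
      Y.isBasis_affineOpens.exists_subset_of_mem_open (Set.mem_univ y) isOpen_univ
    have hfi : f (i y) = y := by rw [← Scheme.Hom.comp_apply, hi]; rfl
    obtain ⟨_, ⟨U₀, hU₀, rfl⟩, hyU₀, hU₀W⟩ := X.isBasis_affineOpens.exists_subset_of_mem_open
      (show i y ∈ f ⁻¹ᵁ W₀ by show f (i y) ∈ W₀; rw [hfi]; exact hyW₀) (W₀.2.preimage f.continuous)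
    obtain ⟨a, haU₀, hya⟩ := hW₀.exists_basicOpen_le ⟨y, (show y ∈ i ⁻¹ᵁ U₀ from hyU₀)⟩ hyW₀
    let W := Y.basicOpen a
    have hW : IsAffineOpen W := hW₀.basicOpen a
    let U := U₀ ⊓ f ⁻¹ᵁ W
    have hU : IsAffineOpen U := by
      have : U = X.basicOpen (f.appLE W₀ U₀ hU₀W a) := (Scheme.basicOpen_appLE f U₀ W₀ hU₀W a).symm
      rw [this]
      exact hU₀.basicOpen _
    have e : U ≤ f ⁻¹ᵁ W := inf_le_right
    have hiU : i ⁻¹ᵁ U = W := by
      ext z
      have : f (i z) = z := by rw [← Scheme.Hom.comp_apply, hi]; rfl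
      constructor
      · intro hz; exact this ▸ (e hz : f (i z) ∈ W)
      · intro hz
        refine ⟨haU₀ hz, ?_⟩
        show f (i z) ∈ W
        rw [this]; exact hz
    haveI : LocallyOfFinitePresentation (i ≫ f) := by rw [hi]; infer_instance
    haveI : Smooth (i ≫ f) := by rw [hi]; infer_instance
    have hsurj : Function.Surjective (i.app U) := by
      intro c
      refine ⟨f.appLE W U e (Y.presheaf.map (eqToHom hiU.symm).op c), ?_⟩
      have h : f.appLE W U e ≫ i.app U = Y.presheaf.map (eqToHom hiU).op := by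
        rw [Scheme.Hom.app_eq_appLE, Scheme.Hom.appLE_comp_appLE]
        simp only [hi]
        simp [Scheme.Hom.appLE]
        exact (Category.id_comp _).trans (congrArg _ (Subsingleton.elim _ _))
      rw [← CommRingCat.comp_apply, h, ← CommRingCat.comp_apply, ← Functor.map_comp, ← op_comp, eqToHom_trans,
        eqToHom_refl, op_id, CategoryTheory.Functor.map_id]
      rfl
    obtain ⟨V, hV, hyV, hVU, n, m, v, het, hz, -, -, -⟩ := Unram17Lib.exists_chart f i W hW U hU e
      (hiU.symm ▸ hW) hsurj y ⟨hyU₀, (show f (i y) ∈ W from hfi.symm ▸ hya)⟩ hs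
      (by rw [(i ≫ f).smoothLocus_eq_top]; trivial)
    let U' := i ⁻¹ᵁ V
    let V' := V ⊓ f ⁻¹ᵁ U'
    have hUV : U' ≤ i ⁻¹ᵁ V' := by
      intro z hz
      have : f (i z) = z := by rw [← Scheme.Hom.comp_apply, hi]; rfl
      exact ⟨hz, show f (i z) ∈ U' by rw [this]; exact hz⟩
    have hVU' : V' ≤ f ⁻¹ᵁ U' := inf_le_right
    let d : ULift.{u} (Fin (m + n)) → Fin m ⊕ Fin n := fun j => finSumFinEquiv.symm j.down
    let ι : (V' : Scheme.{u}) ⟶ V := X.homOfLE inf_le_left
    let w : ULift.{u} (Fin (m + n)) → Γ(V', ⊤) := fun j => ι.appTop (V.topIso.inv (v (d j)))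
    haveI hbig : Etale (AffineSpace.homOfVector (V.ι ≫ f) (fun j => V.topIso.inv (v (d j)))) := by
      refine Unram17Lib.etale_homOfVector_base f hW hV (hVU.trans e) (fun j => v (d j)) ?_
      have := RingHom.Etale.respectsIso.2 _
        (MvPolynomial.renameEquiv Γ(Y, W) (Equiv.ulift.{u}.trans finSumFinEquiv.symm)).toRingEquiv het
      convert this using 1
      apply MvPolynomial.ringHom_ext <;> simp [d]
    haveI : Etale (AffineSpace.homOfVector (f.resLE U' V' hVU') w) := by
      have hfac : AffineSpace.homOfVector (f.resLE U' V' hVU') w ≫ AffineSpace.map _ U'.ι =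
          ι ≫ AffineSpace.homOfVector (V.ι ≫ f) (fun j => V.topIso.inv (v (d j))) := by
        ext1
        · simp [ι]
        · simp [w]
      haveI : Etale (AffineSpace.homOfVector (f.resLE U' V' hVU') w ≫ AffineSpace.map _ U'.ι) := by
        rw [hfac]; infer_instance
      exact Etale.of_comp _ (AffineSpace.map _ U'.ι)
    let c : ULift.{u} (Fin (m + n)) → Γ(U', ⊤) := fun j => (i.resLE V' U' hUV).appTop (w j)
    refine ⟨U', V', hyV, hUV, hVU', m + n, fun j => w j + (f.resLE U' V' hVU').appTop (-c j),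
      Unram17Lib.etale_homOfVector_translate (fun j => -c j) _ w, fun j => ?_⟩
    have hid : i.resLE V' U' hUV ≫ f.resLE U' V' hVU' = 𝟙 _ := by
      rw [← cancel_mono U'.ι]
      simp [hi]
    rw [map_add, ← CommRingCat.comp_apply _ _ (-c j), ← Scheme.Hom.comp_appTop, hid]
    simp [c]
  · rintro ⟨U, V, hy, hUV, hVU, m, v, hv, -⟩
    haveI := Unram17Lib.smooth_affineSpace_over (ULift.{u} (Fin m)) (U : Scheme.{u})
    haveI : Smooth (AffineSpace.homOfVector (f.resLE U V hVU) v ≫ 𝔸(ULift.{u} (Fin m); U) ↘ (U : Scheme.{u})) :=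
      inferInstance
    haveI : Smooth (f.resLE U V hVU) := by
      rwa [AffineSpace.homOfVector_over] at this
    haveI : Smooth (V.ι ≫ f) := by
      rw [← Scheme.Hom.resLE_comp_ι f hVU]
      infer_instance
    have hmem : (⟨i y, hUV hy⟩ : V) ∈ V.ι ⁻¹ᵁ f.smoothLocus := by
      rw [Scheme.Hom.preimage_smoothLocus_eq, Scheme.Hom.smoothLocus_eq_top]
      trivial
    exact hmem

end Groth.Agent.S3713
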