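import Groth.Statements.S3719
import Groth.Agent.ConnHypLib.Main

set_option autoImplicit false
set_option backward.isDefEq.respectTransparency false
set_option backward.isDefEq.respectTransparency.types false
set_option maxRecDepth 8000
set_option maxHeartbeats 1000000
universe u
open Pi1

namespace Groth.Agent.S3719

open AlgebraicGeometry CategoryTheory CategoryTheory.Limits in
/-- Let k be algebraically closed, X a proper, irreducible, normal k-scheme, g : X -> P^r_k a k-morphism
whose image has closure of dimension at least 2, H the hyperplane where a nonzero linear form ℓ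
vanishes, and X' a connected finite etale cover of X. Then the inverse image of H in X' is
connected. (For X' = X this is the connectedness of the hyperplane section Y = g⁻¹(H), and the
general case is the surjectivity of the fundamental group of Y onto that of X.) -/
theorem result (k : Type u) [Field k] [IsAlgClosed k] (X : Scheme.{u})
    [X.Over (Spec (CommRingCat.of k))] [IsProper (X ↘ Spec (CommRingCat.of k))] [IrreducibleSpace X]
    (hN : Pi1.IsNormalScheme X) (r : ℕ) (g : X ⟶ CohB1.ProjSpace r k)
    (hg : g ≫ CohB1.ProjSpace.toSpec r k = X ↘ Spec (CommRingCat.of k))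
    (hdim : 2 ≤ topologicalKrullDim ↥(closure (Set.range g.base)))
    (ℓ : MvPolynomial (Fin (r + 1)) k) (hℓ : ℓ ∈ CohB1.polyGrading r k 1) (hℓ0 : ℓ ≠ 0)
    (X' : FEt.Cat X) [ConnectedSpace X'.left] :
    IsConnected (((X'.hom ≫ g).base ⁻¹' (Proj.basicOpen (CohB1.polyGrading r k) ℓ).carrier)ᶜ) := by
  haveI : ∀ x : X, _root_.IsReduced (X.presheaf.stalk x) := fun x =>
    haveI := (hN x).1
    isReduced_of_noZeroDivisors
  haveI : AlgebraicGeometry.IsReduced X := isReduced_of_isReduced_stalk X
  haveI : IsIntegral X := isIntegral_of_irreducibleSpace_of_isReduced _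
  let π : X'.left ⟶ X := X'.hom
  haveI : IsFinite π := X'.prop.1
  haveI : Etale π := X'.prop.2
  haveI : IsIntegral X'.left := ClopenFFLib.isIntegral_of_connected π hN
  haveI : IsProper g := by
    haveI : IsProper (g ≫ CohB1.ProjSpace.toSpec r k) := hg.symm ▸ inferInstance
    haveI : IsProper (CohB1.ProjSpace.toSpec r k) := ProjDegLib.toSpec_isProper k r
    exact IsProper.of_comp g (CohB1.ProjSpace.toSpec r k)
  have hsur : Set.range π.base = Set.univ :=
    IsClopen.eq_univ ⟨π.isClosedMap.isClosed_range, π.isOpenMap.isOpen_range⟩ (Set.range_nonempty _)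
  refine ConnHypLib.isConnected_compl (ClopenFFLib.normal_of_etale π hN) (π ≫ g) ?_ ⟨ℓ, hℓ⟩
  rw [Scheme.Hom.comp_base, TopCat.coe_comp, Set.range_comp, hsur, Set.image_univ]
  rwa [g.isClosedMap.isClosed_range.closure_eq] at hdim

end Groth.Agent.S3719
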