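import Groth.Statements.S3723
import Groth.Agent.EtDlUnbLib.Main

set_option autoImplicit false
set_option backward.isDefEq.respectTransparency false
set_option backward.isDefEq.respectTransparency.types false
set_option maxHeartbeats 1000000
set_option synthInstance.maxHeartbeats 400000
universe u
open CategoryTheory CategoryTheory.Limits AlgebraicGeometry Opposite
attribute [local instance] HasDerivedCategory.standard
open EtDl

namespace Groth.Agent.S3723

/-- Let f : X -> S be a morphism of quasi-compact quasi-separated schemes with a compactification c, all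
of whose fibres have dimension at most d, and Λ a commutative ring with n·1 = 0 for some n ≥ 1. Let
Rf^! be a right adjoint of Rf_! : D^+(X_et, Λ) -> D^+(S_et, Λ) (such a right adjoint exists; here
any adjunction is allowed). If L in D^+(S_et, Λ) has H^i(L) = 0 for i < k, then H^i(Rf^! L) = 0 for
i < k - 2d. -/
theorem result {X S : Scheme.{u}} [CompactSpace ↥X] [QuasiSeparatedSpace ↥X] [CompactSpace ↥S] [QuasiSeparatedSpace ↥S]
    {f : X ⟶ S} (c : DEt.Compactification f) (d : ℕ)
    (hdim : ∀ s : S, topologicalKrullDim ↥(f.fiber s) ≤ d)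
    (Λ : Type (u + 1)) [CommRing Λ] (n : ℕ) (hn : 0 < n) (hΛ : (n : Λ) = 0)
    (G : DerivedCategory.Plus (EtModW.Mod Λ S) ⥤ DerivedCategory.Plus (EtModW.Mod Λ X))
    (adj : EtDl.RshriekPlus Λ c ⊣ G) (L : DerivedCategory.Plus (EtModW.Mod Λ S)) (k : ℤ) (hL : L.IsGE k) :
    (G.obj L).IsGE (k - 2 * (d : ℤ)) := by
  haveI : PreservesFiniteLimits (EtDl.extZeroMod Λ c.j) := EtDlUnbLib.preservesFiniteLimits_extZeroMod Λ c.j
  haveI : EtBC.HasRpushMod Λ c.fbar :=
    Groth.Agent.DerLib.KInjDerived.hasRightDerivedFunctor _ (Groth.Agent.DerLib.KInjDerived.enoughKInj _)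
  exact EtDlUnbLib.isGE_adjoint c hn hΛ hdim G adj L k hL

end Groth.Agent.S3723
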