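import Groth.Statements.S3725
import Groth.Agent.EtShriekAdjLib.Etale

set_option autoImplicit false
set_option backward.isDefEq.respectTransparency false
set_option backward.isDefEq.respectTransparency.types false
set_option maxHeartbeats 1000000
set_option synthInstance.maxHeartbeats 400000
universe u
open CategoryTheory CategoryTheory.Limits AlgebraicGeometry Opposite
attribute [local instance] HasDerivedCategory.standard
open EtDl

namespace Groth.Agent.S3725

/-- Constant torsion coefficients, stated as the resulting adjunction: let f : X -> S be an etale
morphism of quasi-compact quasi-separated schemes with a compactification c, and Λ a commutative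
ring with n·1 = 0 for some n ≥ 1. Then the functor f^* : D^+(S_et, Λ) -> D^+(X_et, Λ) is right
adjoint to Rf_! = R(fbar)_* ∘ j_!; that is, Rf^! is f^* for f etale. (The source adds that the
counit is the trace map.) -/
theorem result {X S : Scheme.{u}} [CompactSpace ↥X] [QuasiSeparatedSpace ↥X] [CompactSpace ↥S] [QuasiSeparatedSpace ↥S]
    {f : X ⟶ S} [Etale f] (c : DEt.Compactification f)
    (Λ : Type (u + 1)) [CommRing Λ] (n : ℕ) (hn : 0 < n) (hΛ : (n : Λ) = 0) :
    Nonempty (EtDl.RshriekPlus Λ c ⊣ EtDl.pullPlus Λ f) := by
  haveI : EtShriek.JCont f := Groth.Agent.EtShLib.jCont f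
  exact EtShriekAdjLib.nonempty_adj_etale Λ f hn hΛ c

end Groth.Agent.S3725
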