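import Groth.Statements.S3729
import Groth.Agent.EtPurEqLib.Exact
import Groth.Agent.CohenLib.FSRegular
import Groth.Agent.S3739

set_option backward.isDefEq.respectTransparency false
set_option backward.isDefEq.respectTransparency.types false
set_option synthInstance.maxHeartbeats 400000
set_option maxHeartbeats 1600000
set_option linter.all false
-- import your own Groth.Agent.* helpers here

set_option autoImplicit false
universe u
open CategoryTheory CategoryTheory.Limits AlgebraicGeometry Opposite
open EtDl

namespace Groth.Agent.S3729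

/-- Let k be a separably closed field, r ≥ 0, A = k[[x_0, ..., x_r]] the ring of formal power series in
r + 1 variables, U = Spec A[1/x_r], and n an integer that is nonzero in k. Then H^q(U_et, μ_n) = 0
for every q ≥ 2. (The published statement also computes H^0 = μ_n(A) and H^1 = Z/n.) -/
theorem result (k : Type u) [Field k] [IsSepClosed k] (r : ℕ)
    (n : ℕ) (hn : (n : k) ≠ 0) (q : ℕ) (hq : 2 ≤ q) :
    Subsingleton (EtCoh.H (Spec (CommRingCat.of (Localization.Away
        (MvPowerSeries.X (Fin.last r) : MvPowerSeries (Fin (r + 1)) k))))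
      (EtCoh.mu (Spec (CommRingCat.of (Localization.Away
        (MvPowerSeries.X (Fin.last r) : MvPowerSeries (Fin (r + 1)) k)))) n) q) := by
  let A := MvPowerSeries (Fin (r + 1)) k
  haveI : IsAdicComplete (IsLocalRing.maximalIdeal k) k := by
    rw [IsLocalRing.maximalIdeal_eq_bot]; infer_instance
  haveI hcA : IsAdicComplete (IsLocalRing.maximalIdeal A) A := ArtLib.isAdicComplete_ps (r + 1)
  haveI : IsRegularLocalRing A := CohenLib.isRegularLocalRing_mvPowerSeries k (r + 1)
  haveI : HenselianLocalRing A := EtLocLib.henselianLocalRing_of_isAdicComplete A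
  haveI : IsSepClosed (IsLocalRing.ResidueField A) :=
    Groth.Agent.S3739.isSepClosed_residue MvPowerSeries.constantCoeff fun c => ⟨MvPowerSeries.C c, MvPowerSeries.constantCoeff_C c⟩
  obtain ⟨k₀, _, _, ⟨φ⟩⟩ := EtPurEqLib.exists_base k
  letI : Algebra k₀ A := ((algebraMap k A).comp φ).toAlgebra
  let x : A := MvPowerSeries.X (Fin.last r)
  have hm : IsLocalRing.maximalIdeal A = CohenLib.varsIdeal k (r + 1) :=
    CohenLib.maximalIdeal_mvPowerSeries_field k (r + 1)
  have hx : x ∈ IsLocalRing.maximalIdeal A := by
    rw [IsLocalRing.mem_maximalIdeal]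
    intro hu
    have := hu.map (MvPowerSeries.constantCoeff (σ := Fin (r + 1)) (R := k))
    rw [MvPowerSeries.constantCoeff_X] at this
    exact not_isUnit_zero this
  have hx2 : x ∉ IsLocalRing.maximalIdeal A ^ 2 := fun h2 => by
    have key : ∀ z ∈ IsLocalRing.maximalIdeal A ^ 2,
        MvPowerSeries.coeff (Finsupp.single (Fin.last r) 1) z = 0 := by
      intro z hz
      rw [sq] at hz
      refine Submodule.mul_induction_on hz (fun a ha b hb => ?_) fun a b ha hb => by rw [map_add, ha, hb, add_zero]
      have h0 : ∀ a ∈ IsLocalRing.maximalIdeal A, MvPowerSeries.coeff 0 a = 0 := fun a ha => by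
        by_contra hne
        exact (IsLocalRing.mem_maximalIdeal a).1 ha (MvPowerSeries.isUnit_iff_constantCoeff.2 (isUnit_iff_ne_zero.2 hne))
      classical
      rw [MvPowerSeries.coeff_mul, Finsupp.antidiagonal_single, Finset.sum_map]
      rw [Finset.Nat.sum_antidiagonal_succ]
      simp [h0 a ha, h0 b hb]
    have := key x h2
    simp [x] at this
  exact EtPurEqLib.subsingleton_H_punctured A k₀ x hx hx2 n (EtPurEqLib.natCast_base φ hn) q hq

end Groth.Agent.S3729
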