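import Groth.Statements.S3731
import Groth.Agent.DerLib.Ghost

set_option autoImplicit false
universe u v
open CategoryTheory CategoryTheory.Limits
attribute [local instance] HasDerivedCategory.standard
open EtDl

namespace Groth.Agent.S3731

/-- Let A be an abelian category, k ≥ 0, and K_0 -> K_1 -> ... -> K_{2k} a chain of 2k morphisms in the
derived category of A such that every K_i has H^p(K_i) = 0 for p outside [0, k] and every morphism
K_i -> K_{i+1} induces the zero map on H^p for all p < k. Let π : K_0 -> H^k(K_0)[-k] be the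
morphism to the top cohomology object placed in degree k that induces the identity on H^k. Then the
composite K_0 -> K_{2k} factors through π. -/
theorem result {A : Type u} [Category.{v} A] [Abelian A] (k : ℕ)
    (K : ComposableArrows (DerivedCategory A) (2 * k))
    (hK : ∀ (i : ℕ) (hi : i ≤ 2 * k) (p : ℤ), p < 0 ∨ (k : ℤ) < p →
      IsZero ((DerivedCategory.homologyFunctor A p).obj (K.obj' i)))
    (hf : ∀ (i : ℕ) (hi : i < 2 * k) (p : ℤ), p < (k : ℤ) →
      (DerivedCategory.homologyFunctor A p).map (K.map' i (i + 1)) = 0)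
    (π : K.obj' 0 ⟶ (DerivedCategory.singleFunctor A (k : ℤ)).obj
      ((DerivedCategory.homologyFunctor A (k : ℤ)).obj (K.obj' 0)))
    (hπ : (DerivedCategory.homologyFunctor A (k : ℤ)).map π ≫
      (DerivedCategory.singleFunctorCompHomologyFunctorIso A (k : ℤ)).hom.app
        ((DerivedCategory.homologyFunctor A (k : ℤ)).obj (K.obj' 0)) = 𝟙 _) :
    ∃ φ : (DerivedCategory.singleFunctor A (k : ℤ)).obj
        ((DerivedCategory.homologyFunctor A (k : ℤ)).obj (K.obj' 0)) ⟶ K.obj' (2 * k),
      K.map' 0 (2 * k) = π ≫ φ := by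
  have hge : ∀ (i : ℕ) (hi : i ≤ 2 * k), (K.obj' i).IsGE 0 := fun i hi =>
    (DerivedCategory.isGE_iff _ 0).mpr fun p hp => hK i hi p (Or.inl hp)
  have hle : (K.obj' 0 (Nat.zero_le _)).IsLE (k : ℤ) :=
    (DerivedCategory.isLE_iff _ (k : ℤ)).mpr fun p hp => hK 0 (Nat.zero_le _) p (Or.inr hp)
  let t := (DerivedCategory.TStructure.t : Triangulated.TStructure (DerivedCategory A))
  -- each step lowers the truncation by one
  have step : ∀ (j : ℕ) (hj : j ≤ k),
      ∃ g : (t.truncLT (k : ℤ)).obj (K.obj' 0 (Nat.zero_le _)) ⟶ (t.truncLT ((k : ℤ) - j)).obj (K.obj' j (by omega)),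
        g ≫ (t.truncLTι ((k : ℤ) - j)).app (K.obj' j (by omega))
          = (t.truncLTι (k : ℤ)).app (K.obj' 0 (Nat.zero_le _)) ≫ K.map' 0 j (Nat.zero_le j) (by omega) := by
    intro j
    induction j with
    | zero =>
      intro _
      rw [show ((k : ℤ) - (0 : ℕ)) = (k : ℤ) by simp]
      exact ⟨𝟙 _, by rw [K.map'_self 0 (Nat.zero_le _)]; exact (Category.id_comp _).trans (Category.comp_id _).symm⟩
    | succ j ih =>
      intro hj
      obtain ⟨g, hg⟩ := ih (by omega)
      haveI : ((t.truncLT ((k : ℤ) - j)).obj (K.obj' j (by omega))).IsLE ((k : ℤ) - (j + 1 : ℕ)) :=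
        t.isLE_truncLT_obj _ _ _ (by push_cast; omega)
      obtain ⟨g', hg'⟩ := DerLib.Ghost.exists_lift_truncLT ((k : ℤ) - (j + 1 : ℕ))
        ((t.truncLTι ((k : ℤ) - j)).app _ ≫ K.map' j (j + 1) (Nat.le_succ j) (show j + 1 ≤ 2 * k by omega))
        (by rw [Functor.map_comp, hf j (by omega) _ (by omega), comp_zero])
      refine ⟨g ≫ g', ?_⟩
      rw [Category.assoc, hg', ← Category.assoc, hg, Category.assoc, ← K.map'_comp 0 j (j + 1)]
  obtain ⟨g, hg⟩ := step k le_rfl
  haveI : (K.obj' k (by omega)).IsGE ((k : ℤ) - k) := by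
    rw [sub_self]; exact hge k (by omega)
  have hz : IsZero ((t.truncLT ((k : ℤ) - k)).obj (K.obj' k (by omega))) :=
    t.isZero_truncLT_obj_of_isGE _ _
  have h0 : (t.truncLTι (k : ℤ)).app (K.obj' 0 (Nat.zero_le _)) ≫ K.map' 0 k (Nat.zero_le k) (by omega) = 0 := by
    rw [← hg, hz.eq_of_tgt g 0, zero_comp]
  obtain ⟨w, hw⟩ := Pretriangulated.Triangle.yoneda_exact₂ _
    (t.triangleLTGE_distinguished (k : ℤ) (K.obj' 0 (Nat.zero_le _))) _ h0
  -- the truncation is the top cohomology
  haveI : ((t.truncGE (k : ℤ)).obj (K.obj' 0 (Nat.zero_le _))).IsLE (k : ℤ) := inferInstanceAs (t.IsLE _ _)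
  haveI : ((t.truncGE (k : ℤ)).obj (K.obj' 0 (Nat.zero_le _))).IsGE (k : ℤ) := t.isGE_truncGE_obj _ _ _ (by omega)
  have he : IsIso (t.descTruncGE π (k : ℤ)) := by
    rw [DerivedCategory.isIso_iff]
    intro n
    by_cases hn : n = (k : ℤ)
    · subst hn
      haveI := DerLib.Ghost.isIso_homologyMap_truncGEπ (K.obj' 0 (Nat.zero_le _)) (k : ℤ) (k : ℤ) le_rfl
      have h1 := congrArg ((DerivedCategory.homologyFunctor A (k : ℤ)).map)
        (t.π_descTruncGE π (k : ℤ))
      rw [Functor.map_comp] at h1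
      haveI : IsIso ((DerivedCategory.homologyFunctor A (k : ℤ)).map π ≫
          (DerivedCategory.singleFunctorCompHomologyFunctorIso A (k : ℤ)).hom.app
            ((DerivedCategory.homologyFunctor A (k : ℤ)).obj (K.obj' 0 (Nat.zero_le _)))) := by
        rw [hπ]; infer_instance
      haveI : IsIso ((DerivedCategory.homologyFunctor A (k : ℤ)).map π) :=
        IsIso.of_isIso_comp_right _
          ((DerivedCategory.singleFunctorCompHomologyFunctorIso A (k : ℤ)).hom.app
            ((DerivedCategory.homologyFunctor A (k : ℤ)).obj (K.obj' 0 (Nat.zero_le _))))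
      haveI : IsIso ((DerivedCategory.homologyFunctor A (k : ℤ)).map ((t.truncGEπ (k : ℤ)).app (K.obj' 0 (Nat.zero_le _))) ≫
          (DerivedCategory.homologyFunctor A (k : ℤ)).map (t.descTruncGE π (k : ℤ))) := by
        rw [h1]; infer_instance
      exact IsIso.of_isIso_comp_left
        ((DerivedCategory.homologyFunctor A (k : ℤ)).map ((t.truncGEπ (k : ℤ)).app (K.obj' 0 (Nat.zero_le _)))) _
    · rcases lt_or_gt_of_ne hn with h | h
      · exact isIso_of_source_target_iso_zero _
          (DerivedCategory.isZero_of_isGE _ (k : ℤ) n h).isoZero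
          (DerivedCategory.isZero_of_isGE _ (k : ℤ) n h).isoZero
      · exact isIso_of_source_target_iso_zero _
          (DerivedCategory.isZero_of_isLE _ (k : ℤ) n h).isoZero
          (DerivedCategory.isZero_of_isLE _ (k : ℤ) n h).isoZero
  refine ⟨inv (t.descTruncGE π (k : ℤ)) ≫ w ≫ K.map' k (2 * k) (by omega) (by omega), ?_⟩
  calc K.map' 0 (2 * k)
      = K.map' 0 k (Nat.zero_le k) (by omega) ≫ K.map' k (2 * k) (by omega) (by omega) :=
        K.map'_comp 0 k (2 * k)
    _ = ((t.truncGEπ (k : ℤ)).app (K.obj' 0 (Nat.zero_le _)) ≫ w) ≫ K.map' k (2 * k) (by omega) (by omega) :=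
        congrArg (· ≫ K.map' k (2 * k) (by omega) (by omega)) hw
    _ = _ := by
      conv_rhs => arg 1; rw [← t.π_descTruncGE π (k : ℤ)]
      erw [Category.assoc, Category.assoc, IsIso.hom_inv_id_assoc]

end Groth.Agent.S3731
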