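import Groth.Statements.S3738
import Groth.Agent.EtPurLib.Punct
import Groth.Agent.CohenLib.FSRegular
import Groth.Agent.S3739

set_option backward.isDefEq.respectTransparency false
set_option backward.isDefEq.respectTransparency.types false
set_option synthInstance.maxHeartbeats 400000
set_option maxHeartbeats 1600000
-- import your own Groth.Agent.* helpers here

set_option autoImplicit false
universe u
open CategoryTheory CategoryTheory.Limits AlgebraicGeometry Opposite
open EtDl

namespace Groth.Agent.S3738

/-- Cohomological purity, vanishing part, in characteristic zero. Let k be an algebraically closed field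
of characteristic zero, A = k[[x_1, …, x_m]], X = Spec A (so Γ(X, O_X) = A), and y_1, …, y_c global
functions on X such that Γ(X, O_X)/(y_1, …, y_c) is a regular local ring of dimension m − c (so Y =
V(y_1, …, y_c) ⊂ X is a regular pair of codimension c); let U = X − Y, the union of the basic opens
D(y_i), and n ≥ 1. Then the local cohomology groups H^q_Y(X, ℤ/n) vanish for q ≠ 2c, and H^{2c}_Y(X,
ℤ/n) is isomorphic to ℤ/n (canonically it is ℤ/n(−c); only an abstract isomorphism is asserted). X
being strictly local, these groups are the stalks of the local cohomology sheaves. The published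
statement is for excellent schemes of equal characteristic under a resolution-of-singularities
hypothesis, which holds in characteristic zero; hence the statement here for a formal power series
ring over an algebraically closed field of characteristic zero, which is excellent and strictly
local. -/
theorem result (k : Type u) [Field k] [IsAlgClosed k] [CharZero k]
    (m c : ℕ) (y : Fin c → Γ(Spec (CommRingCat.of (MvPowerSeries (Fin m) k)), ⊤))
    (hreg : IsRegularLocalRing (Γ(Spec (CommRingCat.of (MvPowerSeries (Fin m) k)), ⊤) ⧸ Ideal.span (Set.range y)))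
    (hcodim : ringKrullDim (Γ(Spec (CommRingCat.of (MvPowerSeries (Fin m) k)), ⊤) ⧸ Ideal.span (Set.range y)) + c = m)
    (n : ℕ) (hn : 0 < n) :
    (∀ q : ℕ, q ≠ 2 * c → IsZero ((EtDual.HY (⨆ i : Fin c, (Spec (CommRingCat.of (MvPowerSeries (Fin m) k))).basicOpen (y i)).ι q).obj
      (EtCoh.const (Spec (CommRingCat.of (MvPowerSeries (Fin m) k))) (ZMod n)))) ∧
    Nonempty (↑((EtDual.HY (⨆ i : Fin c, (Spec (CommRingCat.of (MvPowerSeries (Fin m) k))).basicOpen (y i)).ι (2 * c)).obj
      (EtCoh.const (Spec (CommRingCat.of (MvPowerSeries (Fin m) k))) (ZMod n))) ≃+ ZMod n) := by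
  let A := MvPowerSeries (Fin m) k
  haveI : IsAdicComplete (IsLocalRing.maximalIdeal k) k := by
    rw [IsLocalRing.maximalIdeal_eq_bot]; infer_instance
  haveI hcA : IsAdicComplete (IsLocalRing.maximalIdeal A) A := ArtLib.isAdicComplete_ps m
  haveI : IsRegularLocalRing A := CohenLib.isRegularLocalRing_mvPowerSeries k m
  haveI : HenselianLocalRing A := EtLocLib.henselianLocalRing_of_isAdicComplete A
  haveI : IsSepClosed (IsLocalRing.ResidueField A) :=
    Groth.Agent.S3739.isSepClosed_residue MvPowerSeries.constantCoeff fun c => ⟨MvPowerSeries.C c, MvPowerSeries.constantCoeff_C c⟩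
  letI : Algebra ℚ A := ((algebraMap k A).comp (algebraMap ℚ k)).toAlgebra
  let φ := (Scheme.ΓSpecIso (CommRingCat.of A)).commRingCatIsoToRingEquiv
  let y' : Fin c → A := φ ∘ y
  have hI : (Ideal.span (Set.range y)).map φ.toRingHom = Ideal.span (Set.range y') := by
    rw [Ideal.map_span, ← Set.range_comp]
    rfl
  let e := Ideal.quotientEquiv (Ideal.span (Set.range y)) (Ideal.span (Set.range y')) φ hI.symm
  haveI := hreg
  have hreg' : IsRegularLocalRing (A ⧸ Ideal.span (Set.range y')) := IsRegularLocalRing.of_ringEquiv e
  have hdim' : ringKrullDim (A ⧸ Ideal.span (Set.range y')) + (c : ℕ) = ringKrullDim A := by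
    rw [← ringKrullDim_eq_of_ringEquiv e, hcodim, CohenLib.ringKrullDim_mvPowerSeries_field]
  let V : (Spec (CommRingCat.of A)).Opens := ⨆ i : Fin c, (Spec (CommRingCat.of A)).basicOpen (y i)
  have hV : Set.range V.ι.base = (PrimeSpectrum.zeroLocus (Set.range y'))ᶜ := by
    refine (Scheme.Opens.range_ι V).trans ?_
    refine (TopologicalSpace.Opens.coe_iSup _).trans ?_
    ext P
    rw [Set.mem_iUnion]
    show (∃ i, P ∈ (Spec (CommRingCat.of A)).basicOpen (y i)) ↔ ¬ (Set.range y' ⊆ P.asIdeal)
    rw [Set.range_subset_iff, not_forall]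
    refine exists_congr fun i => ?_
    rw [basicOpen_eq_of_affine']
    rfl
  obtain ⟨h1, ⟨h2⟩⟩ := EtPurLib.purity c A y' hreg' hdim' V.ι hV n hn
  exact ⟨h1, ⟨h2.addCommGroupIsoToAddEquiv.trans AddEquiv.ulift⟩⟩

end Groth.Agent.S3738
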