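import Groth.Statements.S3743
import Groth.Agent.VBResLib.GGen
import Groth.Agent.VBResLib.KFunct
import Groth.Agent.AmpleDevLib.Devissage
-- import your own Groth.Agent.* helpers here

set_option autoImplicit false
universe v u
open CategoryTheory CategoryTheory.Limits AlgebraicGeometry
attribute [local instance] HasDerivedCategory.standard
open KRR

namespace Groth.Agent.S3743

/-- Let X be a connected Noetherian scheme and (K, P, φ) a model of the λ-ring K(X) of finite locally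
free modules with its positive structure (classes of bundles, augmentation = rank). If L is an ample
invertible O_X-module, then u = [L] is an ample line element of K(X): u is a line element and for
every x ∈ K(X) and all sufficiently large n, u^n x is a positive element minus a natural number. -/
theorem result (X : Scheme.{u}) [IsNoetherian X] [ConnectedSpace ↥X]
    (K : Type v) [CommRing K] [LambdaRing.LambdaOps K] (P : LambdaRing.PosStructure K) (φ : SGA6.Kvb X →+ K) (hK : KRR.IsModel X K P φ)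
    (L : X.Modules) (hL : CohB1.IsAmple L) :
    KRR.IsAmpleElt P (φ (KRR.cl X L)) := by
  haveI := VBResLib.vbP_closedUnderIso (X := X)
  haveI : (KRR.vbP X).ContainsZero := ⟨⟨_, isZero_zero _, VBResLib.vb_of_isZero (isZero_zero _)⟩⟩
  have hLvb := AmpleDevLib.isFinLocFree_of_isInvertible hL.1
  have hpow : ∀ n : ℕ, FlatMod.IsFinLocFree (CohB1.tensorPow L n) ∧
      φ (KRR.cl X L) ^ n = φ (KRR.cl X (CohB1.tensorPow L n)) := by
    intro n
    induction n with
    | zero => exact ⟨AmpleDevLib.isFinLocFree_of_isInvertible (AmpleThLib.tensorPow_isInvertible hL.1 0),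
        by rw [pow_zero]; exact hK.map_one.symm⟩
    | succ n ih => exact ⟨VBResLib.vb_tensor L ih.1 hLvb, by
        rw [pow_succ, ih.2, hK.map_mul _ _ ih.1 hLvb]; rfl⟩
  have hfree : ∀ m : ℕ, φ (KRR.cl X (FlatMod.freeMod X m)) = m := by
    intro m
    induction m with
    | zero =>
      refine (congrArg φ (Groth.Agent.KHeartLib.clSub_eq_zero (KRR.vbP X) (VBResLib.vb_of_rank (VBResLib.rank_freeMod 0))
        ((IsZero.iff_id_eq_zero _).2 (Sigma.hom_ext _ _ fun i => i.elim0)))).trans ?_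
      rw [map_zero, Nat.cast_zero]
    | succ m ih =>
      have hO := AmpleDevLib.isFinLocFree_of_isInvertible (AmpleThLib.tensorPow_isInvertible hL.1 0)
      have h := VBResLib.vb_of_rank (VBResLib.rank_freeMod (X := X) m)
      have hb : FlatMod.IsFinLocFree (Coh.structureModule X ⊞ FlatMod.freeMod X m) :=
        (KRR.vbP X).prop_of_iso (CurvLib.freeModSucc X m) (VBResLib.vb_of_rank (VBResLib.rank_freeMod (m + 1)))
      refine (congrArg φ ((Groth.Agent.KHeartLib.clSub_congr (KRR.vbP X) (CurvLib.freeModSucc X m)).trans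
        (Groth.Agent.KHeartLib.clSub_add (KRR.vbP X) _ (K0ResLib.biprodSeq_shortExact (Coh.structureModule X) (FlatMod.freeMod X m)) hO hb h))).trans ?_
      rw [map_add]
      exact (congrArg₂ (· + ·) hK.map_one ih).trans (by push_cast; ring)
  obtain ⟨r, hr⟩ := VBResLib.exists_rank hLvb
  obtain ⟨x₀⟩ := (inferInstance : Nonempty X)
  have hr1 : r = 1 := by
    obtain ⟨W, hxW, ⟨e⟩⟩ := CurvLib.locFree_of_isInvertible hL.1 x₀
    obtain ⟨U, hxU, ⟨e'⟩⟩ := hr x₀
    obtain ⟨a⟩ := CurveVBLib.nonempty_stalk_pi_on e hxW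
    obtain ⟨b⟩ := CurveVBLib.nonempty_stalk_pi_on e' hxU
    simpa using (b.symm.trans a).finrank_eq
  have hline : P.IsLine (φ (KRR.cl X L)) :=
    ⟨(hK.mem_pos_iff _).2 ⟨r, L, hr1.ge, hr, rfl⟩, by rw [hK.aug_cl r L hr, hr1]; rfl⟩
  refine ⟨hline, fun x => ?_⟩
  obtain ⟨e, f, he, hf, rfl⟩ := P.exists_sub x
  obtain ⟨_, E, hne, hE, rfl⟩ := (hK.mem_pos_iff e).1 he
  obtain ⟨_, F, hnf, hF, rfl⟩ := (hK.mem_pos_iff f).1 hf
  have hEv := VBResLib.vb_of_rank hE
  have hFv := VBResLib.vb_of_rank hF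
  obtain ⟨n₀, hn₀⟩ := MiscFlat6.eventually_gg_of_isAmple hL F (VBResLib.isCoh_of_vb hFv)
  refine ⟨n₀, fun n hn => ?_⟩
  obtain ⟨hPn, hu⟩ := hpow n
  have hFn : FlatMod.IsFinLocFree (CohB1.tensorMod F (CohB1.tensorPow L n)) := VBResLib.vb_tensor _ hFv hPn
  have hEn : FlatMod.IsFinLocFree (CohB1.tensorMod E (CohB1.tensorPow L n)) := VBResLib.vb_tensor _ hEv hPn
  obtain ⟨m, q, hq⟩ := VBResLib.exists_epi_free_of_gg (VBResLib.isCoh_of_vb hFn) (hn₀ n hn)
  have hfm := VBResLib.vb_of_rank (VBResLib.rank_freeMod (X := X) m)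
  have hS := K0ResLib.kerSeq_shortExact q
  have hk : FlatMod.IsFinLocFree (kernel q) :=
    VBResLib.vb_of_pd_zero (VBResLib.isCoh_X₁ hS (VBResLib.isCoh_of_vb hfm) (VBResLib.isCoh_of_vb hFn))
      fun x => VBResLib.PdAt.ker hS (d := 1) (VBResLib.pdAt_of_vb hfm x 0) (VBResLib.pdAt_of_vb hFn x 1)
  obtain ⟨a, ha⟩ := VBResLib.exists_rank hk
  have h1 : φ (KRR.cl X (kernel q)) + φ (KRR.cl X (CohB1.tensorMod F (CohB1.tensorPow L n))) = m := by
    rw [← hfree m, ← map_add]
    exact congrArg φ (Groth.Agent.KHeartLib.clSub_add (KRR.vbP X) _ hS hk hfm hFn).symm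
  have hsum : FlatMod.IsFinLocFree (kernel q ⊞ CohB1.tensorMod E (CohB1.tensorPow L n)) := by
    have hS' := K0ResLib.biprodSeq_shortExact (kernel q) (CohB1.tensorMod E (CohB1.tensorPow L n))
    exact VBResLib.vb_of_pd_zero (Groth.Agent.KHeartLib.isCoh_of_shortExact hS' (VBResLib.isCoh_of_vb hk)
      (VBResLib.isCoh_of_vb hEn)) fun x => VBResLib.PdAt.ext hS' (VBResLib.pdAt_of_vb hk x 0) (VBResLib.pdAt_of_vb hEn x 0)
  obtain ⟨b, hb⟩ := VBResLib.exists_rank hsum
  have h2 : φ (KRR.cl X (kernel q ⊞ CohB1.tensorMod E (CohB1.tensorPow L n))) =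
      φ (KRR.cl X (kernel q)) + φ (KRR.cl X (CohB1.tensorMod E (CohB1.tensorPow L n))) := by
    rw [← map_add]
    exact congrArg φ (Groth.Agent.KHeartLib.clSub_add (KRR.vbP X) _ (K0ResLib.biprodSeq_shortExact _ _) hk hsum hEn)
  have hEn' : φ (KRR.cl X (CohB1.tensorMod E (CohB1.tensorPow L n))) = φ (KRR.cl X E) * φ (KRR.cl X L) ^ n := by
    rw [hu, hK.map_mul _ _ hEv hPn]; rfl
  have hFn' : φ (KRR.cl X (CohB1.tensorMod F (CohB1.tensorPow L n))) = φ (KRR.cl X F) * φ (KRR.cl X L) ^ n := by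
    rw [hu, hK.map_mul _ _ hFv hPn]; rfl
  refine ⟨_, m, (hK.mem_pos_iff _).2 ⟨b, _, ?_, hb, rfl⟩, ?_⟩
  · have hA := congrArg P.aug h2
    rw [hK.aug_cl b _ hb, map_add, hK.aug_cl a _ ha, hEn', map_mul, map_pow, hline.2, one_pow, mul_one,
      hK.aug_cl _ E hE] at hA
    omega
  · rw [h2, ← h1, hEn', hFn']
    ring

end Groth.Agent.S3743
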