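import Groth.Statements.S3762
import Groth.Agent.KRRRegLib.ProjForm

set_option autoImplicit false
universe v u
open CategoryTheory CategoryTheory.Limits AlgebraicGeometry
attribute [local instance] HasDerivedCategory.standard
open KRR

namespace Groth.Agent.S3762

/-- Let Y be a connected Noetherian scheme, p : P = P^n_Y ⟶ Y, with models of K(P), K(Y), g = p_K the
push-forward and q = p^K the pull-back. Then p_K (x · p^K y) = p_K (x) · y for all x ∈ K(P), y ∈
K(Y). -/
theorem result (n : ℕ) (Y : Scheme.{u}) [IsNoetherian Y] [ConnectedSpace ↥Y]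
    (KP : Type v) [CommRing KP] [LambdaRing.LambdaOps KP] (PP : LambdaRing.PosStructure KP) (φP : SGA6.Kvb (KRR.PY n Y) →+ KP) (hKP : KRR.IsModel (KRR.PY n Y) KP PP φP)
    (KY : Type v) [CommRing KY] [LambdaRing.LambdaOps KY] (PY : LambdaRing.PosStructure KY) (φY : SGA6.Kvb Y →+ KY) (hKY : KRR.IsModel Y KY PY φY)
    (g : KP →+ KY) (hg : KRR.IsPushPr n Y φP φY g) (q : KY →+ KP) (hq : KRR.IsPull (KRR.pr n Y) φY φP q) (x : KP) (y : KY) :
    g (x * q y) = g x * y := by
  haveI := KRRRegLib.vbY_zero (Y := Y)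
  haveI := KRRRegLib.isLocallyNoetherian_PY n Y
  obtain ⟨z, rfl⟩ := hKY.bijective.2 y
  have hz : z ∈ AddSubgroup.closure {z | ∃ E, KRR.vbP Y E ∧ KZero.clSub (KRR.vbP Y) E = z} := by
    rw [Groth.Agent.KHeartLib.clSub_closure_eq_top]; trivial
  induction hz using AddSubgroup.closure_induction generalizing x with
  | zero => simp
  | add a b _ _ ha hb => simp only [map_add, mul_add, ha x, hb x]
  | neg a _ ha => simp only [map_neg, mul_neg, ha x]
  | mem z hz =>
    obtain ⟨E, hE, rfl⟩ := hz
    suffices key : (g.comp (AddMonoidHom.mulRight (q (φY (KRR.cl Y E))))).comp φP =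
        (AddMonoidHom.mulRight (φY (KRR.cl Y E))).comp (g.comp φP) by
      obtain ⟨w, rfl⟩ := hKP.bijective.2 x
      exact DFunLike.congr_fun key w
    refine KRRRegLib.hom_ext_RP fun F hF => ?_
    simp only [AddMonoidHom.coe_comp, Function.comp_apply, AddMonoidHom.mulRight_apply]
    let pE := (Scheme.Modules.pullback (KRR.pr n Y)).obj E
    have hpE : FlatMod.IsFinLocFree pE := KFlatLib.isFinLocFree_pull _ hE
    have hvb : FlatMod.IsFinLocFree (CohB1.tensorMod pE F) := VBResLib.vb_tensor F hpE hF.1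
    have hreg := KRRRegLib.isRegSheaf_tensor_pullback hF.2 hE
    have hpF := KRRRegLib.isFinLocFree_push_of_isRegSheaf hF.1 hF.2
    rw [hq E hE, hg F hF.1 hF.2, mul_comm (φP _) _, mul_comm (φY _) (φY (KRR.cl Y E)),
      hKP.map_mul _ F hpE hF.1, hKY.map_mul E _ hE hpF]
    refine (hg (CohB1.tensorMod pE F) hvb hreg).trans (congrArg φY ?_)
    exact (Groth.Agent.KHeartLib.clSub_congr (KRR.vbP Y) (KRRRegLib.nonempty_push_tensor_pullback F hE).some).symm

end Groth.Agent.S3762
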