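import Groth.Statements.S3752
import Groth.Agent.KRRRegLib.Model
import Groth.Agent.KRRRegLib.AdamsSeries
import Groth.Agent.ChowLib.Embed
import Groth.Agent.LambdaSpL.PosStr
import Groth.Agent.CurvLib.EulerTensor
import Groth.Agent.VBResLib.GGen
import Groth.Agent.S3762

set_option autoImplicit false
universe v u
open CategoryTheory CategoryTheory.Limits AlgebraicGeometry
attribute [local instance] HasDerivedCategory.standard
open scoped TensorProduct
open KRR

set_option maxHeartbeats 1000000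
set_option linter.all false

namespace Groth.Agent.S3752

theorem adamsOp_scale {A : Type v} [CommRing A] [LambdaRing.LambdaOps A] {L x : A}
    (h : ∀ i, LambdaRing.LambdaOps.lam i (L * x) = L ^ i * LambdaRing.LambdaOps.lam i x) {k : ℕ} (hk : 1 ≤ k) :
    LambdaRing.adamsOp k (L * x) = L ^ k * LambdaRing.adamsOp k x := by
  have hN := LambdaSpLib.newtonRel_gSeq (E := fun m => LambdaRing.LambdaOps.lam m x) (LambdaRing.LambdaOps.lam_zero x)
  have h' : LambdaSpLib.NewtonRel (fun m => LambdaRing.LambdaOps.lam m (L * x))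
      (fun m => L ^ m * LambdaSpLib.gSeq (fun m => LambdaRing.LambdaOps.lam m x) m) := by
    intro m
    simp only [h]
    rw [mul_left_comm, hN m, Finset.mul_sum]
    refine Finset.sum_congr rfl fun i hi => ?_
    rw [show m + 1 = (i + 1) + (m - i) by have := Finset.mem_range.1 hi; omega, pow_add]
    ring
  rw [LambdaSpLib.adamsOp_eq_of_newtonRel h' k hk, LambdaSpLib.adamsOp_eq_gSeq x k hk]

theorem cl_freeMod {Y : Scheme.{u}} [IsNoetherian Y] (m : ℕ) :
    KRR.cl Y (FlatMod.freeMod Y m) = m • KRR.cl Y (Coh.structureModule Y) := by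
  haveI : (KRR.vbP Y).IsClosedUnderIsomorphisms := ⟨fun e h => Groth.Agent.PerfLib.isFinLocFree_of_iso e h⟩
  haveI : (KRR.vbP Y).ContainsZero := KRRRegLib.vbY_zero
  have hvb : ∀ m, FlatMod.IsFinLocFree (FlatMod.freeMod Y m) := fun m =>
    SeesawLib.isFinLocFree_of_rank (VBResLib.rank_freeMod m)
  induction m with
  | zero =>
    rw [zero_nsmul]
    refine Groth.Agent.KHeartLib.clSub_eq_zero (KRR.vbP Y) (hvb 0) ?_
    rw [IsZero.iff_id_eq_zero]
    exact Sigma.hom_ext _ _ fun i => i.elim0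
  | succ m ih =>
    have h : KRR.cl Y (Coh.structureModule Y ⊞ FlatMod.freeMod Y m) =
        KRR.cl Y (Coh.structureModule Y) + KRR.cl Y (FlatMod.freeMod Y m) :=
      Groth.Agent.KHeartLib.clSub_add (KRR.vbP Y)
        (ShortComplex.mk (biprod.inl : Coh.structureModule Y ⟶ _ ⊞ FlatMod.freeMod Y m) biprod.snd biprod.inl_snd)
        (ShortComplex.Splitting.ofHasBinaryBiproduct _ _).shortExact
        (KRRRegLib.vb_structure Y) (Groth.Agent.PerfLib.isFinLocFree_biprod (KRRRegLib.vb_structure Y) (hvb m))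
        (hvb m)
    rw [show KRR.cl Y (FlatMod.freeMod Y (m + 1)) = _ from
      Groth.Agent.KHeartLib.clSub_congr (KRR.vbP Y) (CurvLib.freeModSucc Y m)]
    rw [show KZero.clSub (KRR.vbP Y) _ = _ from h, ih, succ_nsmul']

theorem bott_nsmul_line {A : Type v} [CommRing A] [LambdaRing.LambdaOps A] (P : LambdaRing.PosStructure A) {L : A}
    (hL : P.IsLine L) (m j : ℕ) : KRR.bott P j ((m : A) * L) = (∑ k ∈ Finset.range j, L ^ k) ^ m := by
  have hm : (P.aug ((m : A) * L)).toNat = m := by simp [hL.2]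
  have hlam : ∀ i, LambdaRing.LambdaOps.lam i ((m : A) * L) = (Multiset.replicate m L).esymm i := fun i => by
    rw [← LambdaSpLib.lam_sum_lines (s := Multiset.replicate m L)
      fun u hu => by rw [Multiset.eq_of_mem_replicate hu]; exact LambdaSpLib.line_lam hL,
      Multiset.sum_replicate, nsmul_eq_mul]
  unfold KRR.bott
  rw [hm]
  have hb : MvPolynomial.aeval (fun i : Fin m =>
      MvPolynomial.esymm (Fin m) ℤ (i.1 + 1)) (KRR.bottPoly j m) = KRR.bottSym j m := by
    rw [← MvPolynomial.esymmAlgHom_apply]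
    exact congrArg Subtype.val ((MvPolynomial.esymmAlgEquiv (Fin m) ℤ
      (Fintype.card_fin _)).apply_symm_apply ⟨_, KRR.bottSym_isSymmetric j _⟩)
  have h5 := congrArg (MvPolynomial.aeval (fun _ : Fin m => L)) hb
  rw [← AlgHom.comp_apply, MvPolynomial.comp_aeval] at h5
  rw [show (fun i : Fin m => LambdaRing.LambdaOps.lam (i.1 + 1) ((m : A) * L)) =
    fun i : Fin m => MvPolynomial.aeval (fun _ : Fin m => L) (MvPolynomial.esymm (Fin m) ℤ (i.1 + 1)) from
      funext fun i => by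
        rw [hlam, MvPolynomial.aeval_esymm_eq_multiset_esymm (Fin m) ℤ]
        congr 1
        simp, h5]
  simp [KRR.bottSym]

theorem adams_formula {KP KY : Type v} [CommRing KP] [LambdaRing.LambdaOps KP] [CommRing KY] [LambdaRing.LambdaOps KY]
    (PP : LambdaRing.PosStructure KP) (PY : LambdaRing.PosStructure KY) (q : KY →+* KP) (g : KP →+ KY)
    (n j : ℕ) (hj : 1 ≤ j) {L v : KP} (hv : v = 1 - L) (hvn : v ^ (n + 1) = 0)
    (hgv : ∀ i : ℕ, i ≤ n → g (v ^ i) = 1) (hval : ∀ k : ℕ, k ≤ n → g (L ^ k) = if k = 0 then 1 else 0)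
    (hgq : ∀ x y, g (x * q y) = g x * y)
    (hψ : ∀ (y : KY) (k : ℕ), LambdaRing.adams PP j (q y * L ^ k) = L ^ (j * k) * q (LambdaRing.adams PY j y))
    (hgen : ∀ {M : Type v} [AddCommGroup M] (A B : KP →+ M),
      (∀ (y : KY) (k : ℕ), k ≤ n → A (q y * L ^ k) = B (q y * L ^ k)) → A = B)
    (R : Type) [CommRing R] [IsDomain R] [CharZero R] (u : Rˣ) (hu : (u : R) = (j : R)) :
    (∃ w : TensorProduct ℤ R KP, w * ((1 : R) ⊗ₜ[ℤ] ((∑ k ∈ Finset.range j, L ^ k) ^ (n + 1))) = 1) ∧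
      ∀ w : TensorProduct ℤ R KP, w * ((1 : R) ⊗ₜ[ℤ] ((∑ k ∈ Finset.range j, L ^ k) ^ (n + 1))) = 1 → ∀ z : KP,
        (1 : R) ⊗ₜ[ℤ] LambdaRing.adams PY j (g z) = LinearMap.lTensor R g.toIntLinearMap
          ((j : TensorProduct ℤ R KP) * ((1 : R) ⊗ₜ[ℤ] LambdaRing.adams PP j z) * w) := by
  let ι : KP →+* TensorProduct ℤ R KP := (Algebra.TensorProduct.includeRight (R := ℤ) (A := R) (B := KP)).toRingHom
  let θ := KRRRegLib.thetaSer R j
  let ti : PowerSeries R := θ.invOfUnit u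
  have hti : θ * ti = 1 := PowerSeries.mul_invOfUnit _ u (by rw [KRRRegLib.constantCoeff_thetaSer]; exact hu.symm)
  have hιv : ι v ^ (n + 1) = 0 := by rw [← map_pow, hvn, map_zero]
  let Φ : PowerSeries R →+* TensorProduct ℤ R KP := KRRRegLib.evalNil (ι v) (n + 1) hιv (by omega)
  have hΦp : ∀ p : Polynomial R, Φ (p : PowerSeries R) = Polynomial.aeval (ι v) p := by
    intro p
    show Polynomial.aeval (ι v) (PowerSeries.trunc (n + 1) (p : PowerSeries R)) = _
    refine KRRRegLib.aeval_eq_of_coeff_eq hιv fun i hi => ?_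
    rw [PowerSeries.coeff_trunc, if_pos hi, Polynomial.coeff_coe]
  have hΦL : ∀ k : ℕ, Φ ((1 - PowerSeries.X) ^ k) = ι (L ^ k) := by
    intro k
    have h : (((1 - Polynomial.X) ^ k : Polynomial R) : PowerSeries R) = (1 - PowerSeries.X) ^ k := by simp
    rw [← h, hΦp, map_pow, map_sub, map_one, Polynomial.aeval_X, ← map_one ι, ← map_sub, ← map_pow]
    simp [hv]
  have hΦθ : Φ θ = ι (∑ k ∈ Finset.range j, L ^ k) := by
    simp only [θ, KRRRegLib.thetaSer, map_sum, hΦL]
  have hw0 : Φ ti ^ (n + 1) * ι ((∑ k ∈ Finset.range j, L ^ k) ^ (n + 1)) = 1 := by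
    rw [map_pow, ← hΦθ, ← mul_pow, ← map_mul, mul_comm, hti, map_one, one_pow]
  refine ⟨⟨Φ ti ^ (n + 1), hw0⟩, fun w hw z => ?_⟩
  obtain rfl : w = Φ ti ^ (n + 1) := by
    calc w = w * (Φ ti ^ (n + 1) * ι ((∑ k ∈ Finset.range j, L ^ k) ^ (n + 1))) := by rw [hw0, mul_one]
      _ = Φ ti ^ (n + 1) * (w * ι ((∑ k ∈ Finset.range j, L ^ k) ^ (n + 1))) := by ring
      _ = _ := by rw [show w * ι ((∑ k ∈ Finset.range j, L ^ k) ^ (n + 1)) = 1 from hw, mul_one]
  -- the push-forward after tensoring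
  let G := LinearMap.lTensor R g.toIntLinearMap
  have hG : ∀ (r : R) (x : KP), G (r • ι x) = r ⊗ₜ[ℤ] g x := fun r x => by
    show G (r • ((1 : R) ⊗ₜ[ℤ] x)) = _
    rw [TensorProduct.smul_tmul', smul_eq_mul, mul_one]
    rfl
  have hGΦ : ∀ P : PowerSeries R, G (Φ P) = PowerSeries.coeff n (P * PowerSeries.mk 1) ⊗ₜ[ℤ] (1 : KY) := by
    intro P
    show G (Polynomial.aeval (ι v) (PowerSeries.trunc (n + 1) P)) = _
    rw [Polynomial.aeval_eq_sum_range' (n := n + 1) (PowerSeries.natDegree_trunc_lt P n), map_sum,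
      PowerSeries.coeff_mul, Finset.Nat.sum_antidiagonal_eq_sum_range_succ_mk, TensorProduct.sum_tmul]
    refine Finset.sum_congr rfl fun i hi => ?_
    rw [← map_pow, hG, hgv i (Nat.lt_succ_iff.1 (Finset.mem_range.1 hi)), PowerSeries.coeff_trunc,
      if_pos (Finset.mem_range.1 hi)]
    simp
  have hproj : ∀ (t : TensorProduct ℤ R KP) (y : KY), G (t * ι (q y)) = G t * ((1 : R) ⊗ₜ[ℤ] y) := by
    intro t y
    induction t using TensorProduct.induction_on with
    | zero => rw [zero_mul, map_zero, zero_mul]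
    | add a b ha hb => rw [add_mul, map_add, map_add, ha, hb, add_mul]
    | tmul r x =>
      show G ((r ⊗ₜ[ℤ] x) * ((1 : R) ⊗ₜ[ℤ] q y)) = (r ⊗ₜ[ℤ] g x) * _
      rw [Algebra.TensorProduct.tmul_mul_tmul, Algebra.TensorProduct.tmul_mul_tmul, mul_one]
      show r ⊗ₜ[ℤ] g (x * q y) = _
      rw [hgq]
  -- both sides are additive
  let A : KP →+ TensorProduct ℤ R KY :=
    (TensorProduct.mk ℤ R KY 1).toAddMonoidHom.comp ((LambdaSpLib.adamsAdd PY j).comp g)
  let B : KP →+ TensorProduct ℤ R KY :=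
    G.toAddMonoidHom.comp ((AddMonoidHom.mulRight (Φ ti ^ (n + 1))).comp ((AddMonoidHom.mulLeft
      ((j : TensorProduct ℤ R KP))).comp (ι.toAddMonoidHom.comp (LambdaSpLib.adamsAdd PP j))))
  have hAB : A = B := by
    refine hgen A B fun y k hk => ?_
    show (1 : R) ⊗ₜ[ℤ] LambdaRing.adams PY j (g (q y * L ^ k)) =
      G ((j : TensorProduct ℤ R KP) * ι (LambdaRing.adams PP j (q y * L ^ k)) * Φ ti ^ (n + 1))
    rw [hψ, map_mul ι, ← hΦL,
      show (j : TensorProduct ℤ R KP) * (Φ ((1 - PowerSeries.X) ^ (j * k)) *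
          ι (q (LambdaRing.adams PY j y))) * Φ ti ^ (n + 1) =
        Φ ((j : PowerSeries R) * (1 - PowerSeries.X) ^ (j * k) * ti ^ (n + 1)) *
          ι (q (LambdaRing.adams PY j y)) by simp only [map_mul, map_natCast, map_pow]; ring,
      hproj, hGΦ, KRRRegLib.coeff_adams_residue hj hti hk, Algebra.TensorProduct.tmul_mul_tmul, mul_one, one_mul,
      mul_comm (q y), hgq, hval k hk]
    split
    · rw [one_mul]
    · rw [zero_mul, TensorProduct.zero_tmul, ← LambdaSpLib.adamsAdd_apply, map_zero, TensorProduct.tmul_zero]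
  exact DFunLike.congr_fun hAB z


/-- Adams Riemann–Roch for the projection p : P = Pⁿ_Y ⟶ Y: let S be an affine Noetherian scheme, Y
connected, Noetherian and quasi-projective over S, (KP, PP, φP) and (KY, PY, φY) models of K(P) and
K(Y) as λ-rings with positive structure, and g = p_K : K(P) → K(Y) the push-forward ([F] ↦ [p_*F] on
regular finite locally free F). Fix j ≥ 1, put R = ℤ[1/j] and let q = [p^*O_Y^{n+1} ⊗ O_P(−1)] ∈
K(P) (the class of the cotangent module of p plus 1, by the Euler sequence), so that the usual Adams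
Riemann–Roch multiplier θ^j(T_p^∨)^{−1} is j · θ^j(q)^{−1}, θ^j denoting the Bott cannibalistic
class. Then 1 ⊗ θ^j(q) is invertible in R ⊗ K(P) and, for every z ∈ K(P) and every inverse w of 1 ⊗
θ^j(q): 1 ⊗ ψ^j(p_K z) = (R ⊗ p_K)(j · (1 ⊗ ψ^j z) · w) in R ⊗ K(Y). -/
theorem result (S : Scheme.{u}) [IsAffine S] [IsNoetherian S] (n : ℕ) (Y : Scheme.{u}) [IsNoetherian Y] [ConnectedSpace ↥Y] (qY : Y ⟶ S) (hqY : KRR.IsQProjOver qY)
    (KP : Type v) [CommRing KP] [LambdaRing.LambdaOps KP] (PP : LambdaRing.PosStructure KP) (φP : SGA6.Kvb (KRR.PY n Y) →+ KP) (hKP : KRR.IsModel (KRR.PY n Y) KP PP φP)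
    (KY : Type v) [CommRing KY] [LambdaRing.LambdaOps KY] (PY : LambdaRing.PosStructure KY) (φY : SGA6.Kvb Y →+ KY) (hKY : KRR.IsModel Y KY PY φY)
    (g : KP →+ KY) (hg : KRR.IsPushPr n Y φP φY g) (j : ℕ) (hj : 1 ≤ j) (z : KP)
    :
    (∃ w : TensorProduct ℤ (Localization.Away (j : ℤ)) KP, w * ((1 : Localization.Away (j : ℤ)) ⊗ₜ[ℤ] KRR.bott PP j (φP (KRR.cl (KRR.PY n Y)
      (KRR.twF n Y (-1) ((Scheme.Modules.pullback (KRR.pr n Y)).obj (FlatMod.freeMod Y (n + 1))))))) = 1) ∧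
    ∀ w : TensorProduct ℤ (Localization.Away (j : ℤ)) KP, w * ((1 : Localization.Away (j : ℤ)) ⊗ₜ[ℤ] KRR.bott PP j (φP (KRR.cl (KRR.PY n Y)
      (KRR.twF n Y (-1) ((Scheme.Modules.pullback (KRR.pr n Y)).obj (FlatMod.freeMod Y (n + 1))))))) = 1 →
    (1 : Localization.Away (j : ℤ)) ⊗ₜ[ℤ] LambdaRing.adams PY j (g z) =
      LinearMap.lTensor (Localization.Away (j : ℤ)) g.toIntLinearMap
        ((j : TensorProduct ℤ (Localization.Away (j : ℤ)) KP) * ((1 : Localization.Away (j : ℤ)) ⊗ₜ[ℤ] LambdaRing.adams PP j z) * w) := by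
  haveI := KRRRegLib.isLocallyNoetherian_PY n Y
  haveI : IsProper (KRR.pr n Y) := ChowLib.isProper_toBase n Y
  haveI : CompactSpace (KRR.PY n Y) := QuasiCompact.compactSpace_of_compactSpace (KRR.pr n Y)
  haveI : IsNoetherian (KRR.PY n Y) := { }
  haveI : (KRR.vbP (KRR.PY n Y)).IsClosedUnderIsomorphisms :=
    ⟨fun e h => Groth.Agent.PerfLib.isFinLocFree_of_iso e h⟩
  haveI : (KRR.vbP (KRR.PY n Y)).ContainsZero := KRRRegLib.vbY_zero
  obtain ⟨q, hq, hql, hqa⟩ := KRRRegLib.exists_pullHom (KRR.pr n Y) hKP hKY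
  let O : ℕ → (KRR.PY n Y).Modules := fun i => Twist.twistOver n Y (-(i : ℤ))
  let L := φP (KRR.cl (KRR.PY n Y) (O 1))
  let v := 1 - L
  have hOi : ∀ i, PicF.IsInvertible (O i) := fun i => PicPnLib.twistOver_inv n Y _
  have hOv : ∀ i, FlatMod.IsFinLocFree (O i) := fun i => AmpleDevLib.isFinLocFree_of_isInvertible (hOi i)
  have hLk : ∀ i : ℕ, L ^ i = φP (KRR.cl (KRR.PY n Y) (O i)) := by
    intro i
    induction i with
    | zero =>
      rw [pow_zero, ← hKP.map_one]
      exact KRRRegLib.cl_iso hKP ((PicPnLib.twistOver_zero n Y).some.symm ≪≫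
        eqToIso (congrArg (Twist.twistOver n Y) (by simp)))
    | succ i ih =>
      rw [pow_succ, ih]
      refine (hKP.map_mul _ _ (hOv i) (hOv 1)).trans (KRRRegLib.cl_iso hKP ?_)
      exact (PicPnLib.twistOver_add n Y _ _).some ≪≫
        eqToIso (congrArg (Twist.twistOver n Y) (by push_cast; ring))
  have hLine : PP.IsLine L :=
    KRRRegLib.isLine_cl hKP ((CohCmpLib.invertible_iff_rank_one _).1 (hOi 1))
  have hone : φY (KRR.cl Y (Coh.structureModule Y)) = 1 := hKY.map_one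
  have hgenk : ∀ (k : ℕ) (E : Y.Modules), FlatMod.IsFinLocFree E →
      φP (KRR.cl (KRR.PY n Y) (KRR.twF n Y (-(k : ℤ)) ((Scheme.Modules.pullback (KRR.pr n Y)).obj E))) =
        q (φY (KRR.cl Y E)) * L ^ k := by
    intro k E hE
    rw [hLk, mul_comm, show q (φY (KRR.cl Y E)) = _ from hq E hE]
    exact (hKP.map_mul _ _ (hOv k) (KFlatLib.isFinLocFree_pull _ hE)).symm
  have hval : ∀ k : ℕ, k ≤ n → g (L ^ k) = if k = 0 then 1 else 0 := by
    intro k hk
    have hvb1 : FlatMod.IsFinLocFree (Coh.structureModule Y) := KRRRegLib.vb_structure Y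
    have h := KRRRegLib.value_twist_pullback (g.comp φP) φY (fun F hF => hg F hF.1 hF.2) hvb1 k hk
    rw [AddMonoidHom.comp_apply, hgenk k _ hvb1, hone, map_one, one_mul] at h
    exact h
  have hgv : ∀ i : ℕ, i ≤ n → g (v ^ i) = 1 := by
    intro i hi
    have hterm : ∀ a ∈ Finset.range (i + 1), g ((-L) ^ a * 1 ^ (i - a) * (i.choose a : KP)) =
        ((-1 : ℤ) ^ a * (i.choose a : ℤ)) • (if a = 0 then (1 : KY) else 0) := by
      intro a ha
      have han : a ≤ n := by have := Finset.mem_range.1 ha; omega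
      rw [show (-L) ^ a * 1 ^ (i - a) * (i.choose a : KP) = ((-1 : ℤ) ^ a * (i.choose a : ℤ)) • L ^ a by
        rw [zsmul_eq_mul, neg_pow]; push_cast; ring, map_zsmul, hval a han]
    rw [show v = -L + 1 by simp only [v]; ring, add_pow, map_sum, Finset.sum_congr rfl hterm,
      Finset.sum_eq_single 0 (fun a _ ha => by rw [if_neg ha, smul_zero]) (fun h => absurd (Finset.mem_range.2 (by omega)) h)]
    simp
  have hvn : v ^ (n + 1) = 0 := by
    have hF : FlatMod.IsFinLocFree (O (n + 1)) := hOv _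
    have hk := congrArg φP (KRRRegLib.koszul_relation (KRR.vbP (KRR.PY n Y))
      (fun A B hA hB => Groth.Agent.PerfLib.isFinLocFree_biprod hA hB) (fun i => KRRRegLib.vb_twF hF _)
      (KRRRegLib.vb_cycles hF))
    rw [map_sum, map_zero] at hk
    have hterm : ∀ i ∈ Finset.range (n + 2), φP (((-1 : ℤ) ^ i * ((n + 1).choose i : ℤ)) •
        KZero.clSub (KRR.vbP (KRR.PY n Y)) (KRR.twF n Y (i : ℤ) (O (n + 1)))) =
          (-1) ^ i * L ^ (n + 1 - i) * ((n + 1).choose i : KP) := by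
      intro i hi
      have hi' : i ≤ n + 1 := by have := Finset.mem_range.1 hi; omega
      rw [map_zsmul]
      have e : φP (KZero.clSub (KRR.vbP (KRR.PY n Y)) (KRR.twF n Y (i : ℤ) (O (n + 1)))) = L ^ (n + 1 - i) := by
        rw [hLk]
        exact KRRRegLib.cl_iso hKP ((PicPnLib.twistOver_add n Y _ _).some ≪≫
          eqToIso (congrArg (Twist.twistOver n Y) (by omega)))
      rw [e, zsmul_eq_mul]
      push_cast
      ring
    rw [Finset.sum_congr rfl hterm, ← add_pow] at hk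
    rw [show v = -(-1 + L) by simp only [v]; ring, neg_pow, hk, mul_zero]
  -- the multiplier
  have hW : φP (KRR.cl (KRR.PY n Y) (KRR.twF n Y (-1) ((Scheme.Modules.pullback (KRR.pr n Y)).obj
      (FlatMod.freeMod Y (n + 1))))) = ((n + 1 : ℕ) : KP) * L := by
    refine (hgenk 1 _ (SeesawLib.isFinLocFree_of_rank (VBResLib.rank_freeMod _))).trans ?_
    rw [pow_one, cl_freeMod, map_nsmul, hone, nsmul_one, map_natCast]
  rw [hW, bott_nsmul_line PP hLine]
  -- the coefficient ring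
  haveI : IsDomain (Localization.Away (j : ℤ)) := IsLocalization.isDomain_localization
    (Submonoid.powers_le.2 (mem_nonZeroDivisors_of_ne_zero (by omega)))
  haveI : CharZero (Localization.Away (j : ℤ)) := charZero_of_injective_algebraMap (R := ℤ) (IsLocalization.injective (Localization.Away (j : ℤ))
    (Submonoid.powers_le.2 (mem_nonZeroDivisors_of_ne_zero (show ((j : ℕ) : ℤ) ≠ 0 by omega))))
  obtain ⟨u, hu⟩ : IsUnit ((j : ℕ) : (Localization.Away (j : ℤ))) := by
    simpa using IsLocalization.Away.algebraMap_isUnit (S := (Localization.Away (j : ℤ))) (j : ℤ)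
  have key := adams_formula PP PY q g n j hj (L := L) (v := v) rfl hvn hgv hval
    (fun x y => Groth.Agent.S3762.result n Y KP PP φP hKP KY PY φY hKY g hg q.toAddMonoidHom hq x y)
    (by
        intro y k
        obtain ⟨j', rfl⟩ : ∃ j', j = j' + 1 := ⟨j - 1, by omega⟩
        rw [LambdaSpLib.adams_succ_eq, LambdaSpLib.adams_succ_eq, LambdaSpLib.adamsOp_map hql (by omega), mul_comm (q y),
          adamsOp_scale (fun i => by rw [hLk k]; exact KRRRegLib.lam_line_mul hKP (hOi k) _ i) (by omega),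
          ← pow_mul, mul_comm k])
    (fun {M} _ A B h => by
      have h0 : A.comp φP = B.comp φP := KRRRegLib.hom_ext_twist_pullback fun k E hk hE => by
        simp only [AddMonoidHom.comp_apply, hgenk k E hE]
        exact h _ k hk
      ext x
      obtain ⟨x, rfl⟩ := hKP.bijective.2 x
      exact DFunLike.congr_fun h0 x)
    (Localization.Away (j : ℤ)) u hu
  exact ⟨key.1, fun w hw => key.2 w hw z⟩

end Groth.Agent.S3752
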