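import Groth.Statements.S3757
import Groth.Agent.KRRRegLib.Gen
import Groth.Agent.KRRRegLib.Push
import Groth.Agent.AmpleDevLib.Components
-- import your own Groth.Agent.* helpers here

set_option autoImplicit false
set_option maxHeartbeats 1000000
universe v u
open CategoryTheory CategoryTheory.Limits AlgebraicGeometry
attribute [local instance] HasDerivedCategory.standard
open KRR

open CategoryTheory CategoryTheory.Limits AlgebraicGeometry

namespace Groth.Agent.S3757

/-- Let Y be a Noetherian scheme, p : P = P^n_Y ⟶ Y the structure morphism of projective n-space over Y,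
and F a finite locally free O_P-module. Then there is m₀ such that p_*(F(m)) is a finite locally
free O_Y-module for every m ≥ m₀. -/
theorem result (n : ℕ) (Y : Scheme.{u}) [IsNoetherian Y]
    (F : (KRR.PY n Y).Modules) (hF : FlatMod.IsFinLocFree F) :
    ∃ m₀ : ℕ, ∀ m : ℕ, m₀ ≤ m →
      FlatMod.IsFinLocFree ((Scheme.Modules.pushforward (KRR.pr n Y)).obj (KRR.twF n Y (m : ℤ) F)) := by
  obtain hp := ChowLib.isProper_toBase n Y
  haveI : IsProper (KRR.pr n Y) := hp
  haveI : Smooth (KRR.pr n Y) := RTrivLib.smooth_toBase n Y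
  haveI : IsLocallyNoetherian (KRR.PY n Y) := LocallyOfFiniteType.isLocallyNoetherian (KRR.pr n Y)
  have hc := LocSuppLib.isCoh_of_isFinLocFree hF
  have hL := KRRRegLib.isInvertible_O1 n Y
  have ha : ∀ W : Y.Opens, IsAffineOpen W →
      CohB1.IsAmple ((KRRRegLib.O1 n Y).restrict ((KRR.pr n Y) ⁻¹ᵁ W).ι) := fun W hW => by
    haveI : QuasiCompact (𝟙 (KRR.PY n Y) ≫ CohB1.ProjSpaceOver.toBase n Y) := by
      rw [Category.id_comp]
      exact inferInstanceAs (QuasiCompact (KRR.pr n Y))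
    have h1 := PnCohLib.isAmple_twist_restrict (𝟙 (KRR.PY n Y)) hW
    rw [Category.id_comp] at h1
    have ei := (Scheme.Modules.restrictFunctor ((KRR.pr n Y) ⁻¹ᵁ W).ι).mapIso
        ((Scheme.Modules.pullbackId (KRR.PY n Y)).app (KRRRegLib.O1 n Y))
    exact AmpleDevLib.isAmple_of_iso h1.1 (HilbPolyLib.isInvertible_of_iso ei h1.1) ei h1
  obtain ⟨m₀, hm₀⟩ := SerreVanLib.exists_vanishing_rpush (KRR.pr n Y) (KRRRegLib.O1 n Y) hL ha F hc
  refine ⟨m₀, fun m hm => ?_⟩
  obtain ⟨e⟩ := KRRRegLib.nonempty_pow_O1 n Y m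
  let e' : CohB1.tensorMod F (CohB1.tensorPow (KRRRegLib.O1 n Y) m) ≅ KRR.twF n Y (m : ℤ) F :=
    HilbPolyLib.congrRight F e ≪≫ HilbPolyLib.swapIso F _
  have hP := AmpleThLib.tensorPow_isInvertible hL m
  exact KRRRegLib.isFinLocFree_push (KRR.pr n Y) _
    (QCohLib.isCoh_of_iso e' (SerreVanLib.isCoh_tensor hc hP))
    (fun x => (RichLib.ModFlat.isFlatOverAt_iso _ e' x).1 (PnCohLib.isFlatOver_tensor _ (KRRRegLib.isFlatOver_of_vb _ hF) hP x))
    (fun p hp' => (hm₀ m hm p hp').of_iso ((Coh.RpushAb (KRR.pr n Y) p).mapIso ((QCohLib.toAbF _).mapIso e')).symm)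

end Groth.Agent.S3757
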