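import Groth.Statements.S3765
import Groth.Agent.KRRRegLib.FlatRes
import Groth.Agent.KRRRegLib.ProjForm
import Groth.Agent.VBResLib.RegPush
import Groth.Agent.S9349
import Groth.Agent.S4456
import Groth.Agent.S1676

set_option autoImplicit false
universe v u
open CategoryTheory CategoryTheory.Limits AlgebraicGeometry
attribute [local instance] HasDerivedCategory.standard
open KRR

namespace Groth.Agent.S3765

/-- For the trivial bundle P = P^n_Y: let Y be a connected Noetherian scheme, p : P ⟶ Y the projection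
and s : Y ⟶ P a section of p (s ≫ p = 𝟙); assume every coherent module on P is a quotient of a
finite locally free one. Then s is a regular closed imbedding (of codimension n), and with models of
K(Y), K(P), the push-forward s_K (via finite locally free resolutions of s_*F) and p_K (via regular
sheaves) satisfy p_K ∘ s_K = id. -/
theorem result (n : ℕ) (Y : Scheme.{u}) [IsNoetherian Y] [ConnectedSpace ↥Y]
    (hPe : KRR.HasEnoughLocFree (KRR.PY n Y)) (s : Y ⟶ KRR.PY n Y) (hs : s ≫ KRR.pr n Y = 𝟙 Y)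
    (KP : Type v) [CommRing KP] [LambdaRing.LambdaOps KP] (PP : LambdaRing.PosStructure KP) (φP : SGA6.Kvb (KRR.PY n Y) →+ KP) (hKP : KRR.IsModel (KRR.PY n Y) KP PP φP)
    (KY : Type v) [CommRing KY] [LambdaRing.LambdaOps KY] (PY : LambdaRing.PosStructure KY) (φY : SGA6.Kvb Y →+ KY) (hKY : KRR.IsModel Y KY PY φY)
    (gs : KY →+ KP) (hgs : KRR.IsPushCl s φY φP gs) (gp : KP →+ KY) (hgp : KRR.IsPushPr n Y φP φY gp) :
    Mor2.IsRegularClosedImmersion s ∧ gp.comp gs = AddMonoidHom.id KY := by
  haveI : Smooth (KRR.pr n Y) := RTrivLib.smooth_toBase n Y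
  haveI : IsProper (KRR.pr n Y) := ChowLib.isProper_toBase n Y
  haveI := KRRRegLib.isLocallyNoetherian_PY n Y
  haveI : IsClosedImmersion (s ≫ KRR.pr n Y) := by rw [hs]; infer_instance
  haveI : IsClosedImmersion s := IsClosedImmersion.of_comp s (KRR.pr n Y)
  refine ⟨Groth.Agent.S1676.result (KRR.pr n Y) s hs, ?_⟩
  haveI := KRRRegLib.vbY_zero (Y := Y)
  suffices key : (gp.comp gs).comp φY = φY by
    refine AddMonoidHom.ext fun y => ?_
    obtain ⟨z, rfl⟩ := hKY.bijective.2 y
    exact DFunLike.congr_fun key z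
  refine AddMonoidHom.eq_of_eqOn_dense (Groth.Agent.KHeartLib.clSub_closure_eq_top (KRR.vbP Y)) ?_
  rintro _ ⟨F, hF, rfl⟩
  simp only [AddMonoidHom.coe_comp, Function.comp_apply]
  haveI : Coh.IsQCoh F := FinLFAnn.isQCoh_of_isFinLocFree hF
  let p := KRR.pr n Y
  let M := (Scheme.Modules.pushforward s).obj F
  have hc : Coh.IsCoh M := VBResLib.isCoh_push_of_isClosedImmersion s (LocSuppLib.isCoh_of_isFinLocFree hF)
  have hfl : FlatMod.IsFlatOver p M := by
    refine (Groth.Agent.S9349.result s p F inferInstance).1 ?_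
    rw [show s ≫ p = 𝟙 Y from hs]
    exact KRRRegLib.isFlatOver_of_vb (𝟙 Y) hF
  have hreg : KRR.IsRegSheaf n Y M := by
    intro i hi
    haveI : EnoughInjectives Y.Modules := IsGrothendieckAbelian.enoughInjectives.{u}
    haveI : EnoughInjectives (KRR.PY n Y).Modules := IsGrothendieckAbelian.enoughInjectives.{u}
    let O' := Twist.twistOver n Y (-(i : ℤ))
    have hO : FlatMod.IsFinLocFree O' :=
      AmpleDevLib.isFinLocFree_of_isInvertible (PicPnLib.twistOver_inv n Y _)
    obtain ⟨pf⟩ := _root_.ProjFormLib.nonempty_projection_formula s O' hO F 0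
    let G := CohB1.tensorMod ((Scheme.Modules.pullback s).obj O') F
    have hG : FlatMod.IsFinLocFree G := VBResLib.vb_tensor F (KFlatLib.isFinLocFree_pull s hO) hF
    haveI : Coh.IsQCoh G := FinLFAnn.isQCoh_of_isFinLocFree hG
    let e : KRR.twF n Y (-(i : ℤ)) M ≅ (Coh.push s).obj G :=
      HilbPolyLib.congrRight O' (CohBCLib.rpushZero s F).symm ≪≫ pf ≪≫ CohBCLib.rpushZero s G
    obtain ⟨e'⟩ := Groth.Agent.S4456.result s p G i
    refine IsZero.of_iso ?_ ((Coh.RpushAb p i).mapIso ((QCohLib.toAbF _).mapIso e) ≪≫ e')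
    haveI : IsAffineHom (s ≫ p) := by rw [show s ≫ p = 𝟙 Y from hs]; infer_instance
    exact QCohLib.isZero_RpushAb (s ≫ p) G i hi
  obtain ⟨L, π, hL, hsum⟩ := KRRRegLib.exists_lfRes_of_flat M hc hfl hreg
  have hg := hgs F hF n L π hL
  rw [hg, map_sum]
  simp only [map_zsmul]
  refine (hsum (gp.comp φP) φY (fun G hG => hgp G hG.1 hG.2)).trans (congrArg φY ?_)
  exact Groth.Agent.KHeartLib.clSub_congr (KRR.vbP Y) ((Scheme.Modules.pushforwardComp s p).app F ≪≫
    (Scheme.Modules.pushforwardCongr hs).app F ≪≫ (Scheme.Modules.pushforwardId Y).app F)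

end Groth.Agent.S3765
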