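import Groth.Statements.S3776
import Groth.Agent.KRRRegLib.Model
import Groth.Agent.ChowLib.Embed
import Groth.Agent.S3762

set_option autoImplicit false
universe v u
open CategoryTheory CategoryTheory.Limits AlgebraicGeometry
attribute [local instance] HasDerivedCategory.standard
open KRR
set_option maxHeartbeats 1000000

namespace Groth.Agent.S3776

/-- For the trivial bundle of rank n+1: let Y be a connected Noetherian scheme and p : P^n_Y ⟶ Y. With
models and p_K the push-forward: p_K(F^k K(P^n_Y)) ⊆ F^{k-n} K(Y) for all k (γ-filtrations; F^m = K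
for m ≤ 0). No tensoring with ℚ is needed here. -/
theorem result (n : ℕ) (Y : Scheme.{u}) [IsNoetherian Y] [ConnectedSpace ↥Y]
    (KP : Type v) [CommRing KP] [LambdaRing.LambdaOps KP] (PP : LambdaRing.PosStructure KP) (φP : SGA6.Kvb (KRR.PY n Y) →+ KP) (hKP : KRR.IsModel (KRR.PY n Y) KP PP φP)
    (KY : Type v) [CommRing KY] [LambdaRing.LambdaOps KY] (PY : LambdaRing.PosStructure KY) (φY : SGA6.Kvb Y →+ KY) (hKY : KRR.IsModel Y KY PY φY)
    (g : KP →+ KY) (hg : KRR.IsPushPr n Y φP φY g) (k : ℕ) (x : KP) (hx : x ∈ LambdaRing.gammaFiltration PP k) :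
    g x ∈ LambdaRing.gammaFiltration PY (k - n) := by
  haveI := KRRRegLib.isLocallyNoetherian_PY n Y
  haveI : IsProper (KRR.pr n Y) := ChowLib.isProper_toBase n Y
  haveI : CompactSpace (KRR.PY n Y) := QuasiCompact.compactSpace_of_compactSpace (KRR.pr n Y)
  haveI : IsNoetherian (KRR.PY n Y) := { }
  haveI : (KRR.vbP (KRR.PY n Y)).IsClosedUnderIsomorphisms :=
    ⟨fun e h => Groth.Agent.PerfLib.isFinLocFree_of_iso e h⟩
  haveI : (KRR.vbP (KRR.PY n Y)).ContainsZero := KRRRegLib.vbY_zero
  obtain ⟨q, hq, hql, hqa⟩ := KRRRegLib.exists_pullHom (KRR.pr n Y) hKP hKY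
  let O : ℕ → (KRR.PY n Y).Modules := fun j => Twist.twistOver n Y (-(j : ℤ))
  let L := φP (KRR.cl (KRR.PY n Y) (O 1))
  let v := 1 - L
  have hOi : ∀ j, PicF.IsInvertible (O j) := fun j => PicPnLib.twistOver_inv n Y _
  have hOv : ∀ j, FlatMod.IsFinLocFree (O j) := fun j => AmpleDevLib.isFinLocFree_of_isInvertible (hOi j)
  have hLk : ∀ j : ℕ, L ^ j = φP (KRR.cl (KRR.PY n Y) (O j)) := by
    intro j
    induction j with
    | zero =>
      rw [pow_zero, ← hKP.map_one]
      exact KRRRegLib.cl_iso hKP ((PicPnLib.twistOver_zero n Y).some.symm ≪≫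
        eqToIso (congrArg (Twist.twistOver n Y) (by simp)))
    | succ j ih =>
      rw [pow_succ, ih]
      refine (hKP.map_mul _ _ (hOv j) (hOv 1)).trans (KRRRegLib.cl_iso hKP ?_)
      exact (PicPnLib.twistOver_add n Y _ _).some ≪≫
        eqToIso (congrArg (Twist.twistOver n Y) (by push_cast; ring))
  have hLine : PP.IsLine L :=
    KRRRegLib.isLine_cl hKP ((CohCmpLib.invertible_iff_rank_one _).1 (hOi 1))
  have hone : φY (KRR.cl Y (Coh.structureModule Y)) = 1 := hKY.map_one
  have hvb1 : FlatMod.IsFinLocFree (Coh.structureModule Y) := KRRRegLib.vb_structure Y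
  have hgenk : ∀ (k : ℕ) (E : Y.Modules), FlatMod.IsFinLocFree E →
      φP (KRR.cl (KRR.PY n Y) (KRR.twF n Y (-(k : ℤ)) ((Scheme.Modules.pullback (KRR.pr n Y)).obj E))) =
        q (φY (KRR.cl Y E)) * L ^ k := by
    intro k E hE
    rw [hLk, mul_comm, show q (φY (KRR.cl Y E)) = _ from hq E hE]
    exact (hKP.map_mul _ _ (hOv k) (KFlatLib.isFinLocFree_pull _ hE)).symm
  have hval : ∀ k : ℕ, k ≤ n → g (L ^ k) = if k = 0 then 1 else 0 := by
    intro k hk
    have h := KRRRegLib.value_twist_pullback (g.comp φP) φY (fun F hF => hg F hF.1 hF.2) hvb1 k hk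
    rw [AddMonoidHom.comp_apply, hgenk k _ hvb1, hone, map_one, one_mul] at h
    exact h
  have hgv : ∀ i : ℕ, i ≤ n → g (v ^ i) = 1 := by
    intro i hi
    have hterm : ∀ j ∈ Finset.range (i + 1), g ((-L) ^ j * 1 ^ (i - j) * (i.choose j : KP)) =
        ((-1 : ℤ) ^ j * (i.choose j : ℤ)) • (if j = 0 then (1 : KY) else 0) := by
      intro j hj
      have hjn : j ≤ n := by have := Finset.mem_range.1 hj; omega
      rw [show (-L) ^ j * 1 ^ (i - j) * (i.choose j : KP) = ((-1 : ℤ) ^ j * (i.choose j : ℤ)) • L ^ j by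
        rw [zsmul_eq_mul, neg_pow]; push_cast; ring, map_zsmul, hval j hjn]
    rw [show v = -L + 1 by simp only [v]; ring, add_pow, map_sum, Finset.sum_congr rfl hterm,
      Finset.sum_eq_single 0 (fun j _ hj => by rw [if_neg hj, smul_zero]) (fun h => absurd (Finset.mem_range.2 (by omega)) h)]
    simp
  have hvn : v ^ (n + 1) = 0 := by
    have hF : FlatMod.IsFinLocFree (O (n + 1)) := hOv _
    have hk := congrArg φP (KRRRegLib.koszul_relation (KRR.vbP (KRR.PY n Y))
      (fun A B hA hB => Groth.Agent.PerfLib.isFinLocFree_biprod hA hB) (fun j => KRRRegLib.vb_twF hF _)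
      (KRRRegLib.vb_cycles hF))
    rw [map_sum, map_zero] at hk
    have hterm : ∀ j ∈ Finset.range (n + 2), φP (((-1 : ℤ) ^ j * ((n + 1).choose j : ℤ)) •
        KZero.clSub (KRR.vbP (KRR.PY n Y)) (KRR.twF n Y (j : ℤ) (O (n + 1)))) =
          (-1) ^ j * L ^ (n + 1 - j) * ((n + 1).choose j : KP) := by
      intro j hj
      have hj' : j ≤ n + 1 := by have := Finset.mem_range.1 hj; omega
      rw [map_zsmul]
      have e : φP (KZero.clSub (KRR.vbP (KRR.PY n Y)) (KRR.twF n Y (j : ℤ) (O (n + 1)))) = L ^ (n + 1 - j) := by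
        rw [hLk]
        exact KRRRegLib.cl_iso hKP ((PicPnLib.twistOver_add n Y _ _).some ≪≫
          eqToIso (congrArg (Twist.twistOver n Y) (by omega)))
      rw [e, zsmul_eq_mul]
      push_cast
      ring
    rw [Finset.sum_congr rfl hterm, ← add_pow] at hk
    rw [show v = -(-1 + L) by simp only [v]; ring, neg_pow, hk, mul_zero]
  have hgen : ∀ z : KP, z ∈ KRRRegLib.sFil PY q v 0 := by
    intro z
    let a := (QuotientAddGroup.mk' (KRRRegLib.sFil PY q v 0)).comp φP
    have h0 : a = 0 := KRRRegLib.hom_ext_twist_pullback fun k E _ hE => by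
      simp only [a, AddMonoidHom.comp_apply, AddMonoidHom.zero_apply, QuotientAddGroup.mk'_apply,
        QuotientAddGroup.eq_zero_iff, hgenk k E hE]
      rw [show L = 1 - v by simp only [v]; ring]
      exact KRRRegLib.sFil_mul PY q v (m := 0) (m' := 0)
        (KRRRegLib.pull_mem PY q v (by rw [LambdaSpLib.gf_zero]; trivial)) (KRRRegLib.one_sub_pow_mem PY q v k)
    obtain ⟨w, rfl⟩ := hKP.bijective.2 z
    have := DFunLike.congr_fun h0 w
    simpa only [a, AddMonoidHom.comp_apply, AddMonoidHom.zero_apply, QuotientAddGroup.mk'_apply,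
      QuotientAddGroup.eq_zero_iff] using this
  have hgmem : ∀ (m : ℕ) (z : KP), z ∈ KRRRegLib.sFil PY q v m →
      g z ∈ LambdaRing.gammaFiltration PY (m - n) := by
    intro m z hz
    induction hz using AddSubgroup.closure_induction with
    | mem a ha =>
      obtain ⟨i, y, hy, rfl⟩ := ha
      have h62 : g (v ^ i * q y) = g (v ^ i) * y :=
        Groth.Agent.S3762.result n Y KP PP φP hKP KY PY φY hKY g hg q.toAddMonoidHom hq (v ^ i) y
      rw [mul_comm, h62]
      rcases le_or_gt i n with hi | hi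
      · rw [hgv i hi, one_mul]
        exact LambdaSpLib.gf_anti PY (by omega) hy
      · obtain ⟨c, rfl⟩ := Nat.exists_eq_add_of_le (show n + 1 ≤ i by omega)
        rw [pow_add, hvn, zero_mul, map_zero, zero_mul]
        exact zero_mem _
    | zero => rw [map_zero]; exact zero_mem _
    | add a b _ _ ha hb => rw [map_add]; exact add_mem ha hb
    | neg a _ ha => rw [map_neg]; exact neg_mem ha
  have hv1 : v ∈ KRRRegLib.sFil PY q v 1 := by simpa using KRRRegLib.pow_v_mem PY q v 1
  have hLk1 : ∀ k : ℕ, L ^ k - 1 ∈ KRRRegLib.sFil PY q v 1 := by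
    intro k
    induction k with
    | zero => simp
    | succ k ih =>
      rw [show L ^ (k + 1) - 1 = L * (L ^ k - 1) - v by simp only [v]; ring]
      exact sub_mem (KRRRegLib.sFil_smul PY q v hgen L ih) hv1
  have h1 : ∀ j : ℕ, 2 ≤ j → LambdaRing.LambdaOps.lam j (1 : KP) = 0 := LambdaSpLib.lam_one_arg PP
  have hline : ∀ k : ℕ, PP.IsLine (L ^ k) := LambdaSpLib.line_pow hLine
  let G := KRRRegLib.goodSub PY q v hgen
  have hgood : ∀ z : KP, PP.aug z = 0 → z ∈ G := by
    let d : KP →+ KP := AddMonoidHom.mk' (fun z => z - (PP.aug z : KP)) fun a b => by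
      rw [map_add, Int.cast_add]; ring
    let a := ((QuotientAddGroup.mk' G).comp d).comp φP
    have h0 : a = 0 := KRRRegLib.hom_ext_twist_pullback fun k E _ hE => by
      simp only [a, AddMonoidHom.comp_apply, AddMonoidHom.zero_apply, QuotientAddGroup.mk'_apply,
        QuotientAddGroup.eq_zero_iff, hgenk k E hE]
      let e := φY (KRR.cl Y E)
      let r := PY.aug e
      have he : d (q e * L ^ k) = q (e - (r : KY)) * L ^ k + r • (L ^ k - 1) := by
        show q e * L ^ k - (PP.aug (q e * L ^ k) : KP) = _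
        rw [map_mul, hqa, (hline k).2, mul_one, map_sub, map_intCast, zsmul_eq_mul]
        ring
      show d (q e * L ^ k) ∈ G
      rw [he]
      refine add_mem ?_ (zsmul_mem ?_ r)
      · refine KRRRegLib.good_mul_line PY q v hgen hql (by simp [r]) (fun j => ?_) ?_
        · rw [mul_comm, hLk]
          exact KRRRegLib.lam_line_mul hKP (hOi k) _ j
        · rw [← neg_sub]
          exact neg_mem (hLk1 k)
      · exact KRRRegLib.good_line_sub_one PY q v hgen (LambdaSpLib.line_lam (hline k)) h1 (hLk1 k)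
    intro z hz
    obtain ⟨w, rfl⟩ := hKP.bijective.2 z
    have := DFunLike.congr_fun h0 w
    simp only [a, AddMonoidHom.comp_apply, AddMonoidHom.zero_apply, QuotientAddGroup.mk'_apply,
      QuotientAddGroup.eq_zero_iff] at this
    simpa [d, hz] using this
  refine hgmem k x ?_
  rcases eq_or_ne k 0 with rfl | hk
  · exact hgen x
  refine LambdaSpLib.gf_induction PP hk (p := (· ∈ KRRRegLib.sFil PY q v k)) (fun l hl hs => ?_)
    (zero_mem _) (fun _ _ => add_mem) (fun _ => neg_mem) hx
  refine KRRRegLib.sFil_anti PY q v hs ?_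
  clear hs
  induction l with
  | nil => exact hgen _
  | cons p l ih =>
    simp only [List.map_cons, List.prod_cons, List.sum_cons]
    exact KRRRegLib.sFil_mul PY q v (hgood p.2 (hl p (by simp)) p.1) (ih fun b hb => hl b (by simp [hb]))

end Groth.Agent.S3776
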