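import Groth.Statements.S3778
import Groth.Agent.KRRRegLib.ElemExt
import Groth.Agent.KRRRegLib.LamAlg
import Mathlib.Data.Nat.Choose.Sum

set_option autoImplicit false
universe v u
open CategoryTheory CategoryTheory.Limits AlgebraicGeometry
attribute [local instance] HasDerivedCategory.standard
open KRR

set_option maxHeartbeats 1000000
set_option linter.all false

namespace Groth.Agent.S3778

open LambdaRing LambdaSpLib

theorem lam_mul_line {B : Type v} [CommRing B] [LambdaOps B] (P : PosStructure B)
    (hP : HasSplitting B P) {w : B} (hw : P.IsLine w) (x : B) (j : ℕ) :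
    LambdaOps.lam j (w * x) = w ^ j * LambdaOps.lam j x := by
  have key : ∀ e ∈ P.pos, ∀ j, LambdaOps.lam j (w * e) = w ^ j * LambdaOps.lam j e := by
    intro e he j
    obtain ⟨L, f, hf, -, h⟩ := exists_split P hP [e] (by simp [he])
    obtain ⟨s, hs, hse⟩ := h e (by simp)
    have hfw := line_map hf hw
    apply hf.injective
    rw [map_mul, map_pow, hf.isLambdaHom, hf.isLambdaHom, map_mul, ← hse,
      lam_sum_lines fun u hu => line_lam (hs u hu),
      show f w * s.sum = (s.map fun u => f w * u).sum by rw [Multiset.sum_map_mul_left, Multiset.map_id'],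
      ← KRRRegLib.esymm_map_smul]
    refine lam_sum_lines (fun u hu => ?_) j
    obtain ⟨u', hu', rfl⟩ := Multiset.mem_map.1 hu
    exact line_lam (line_mul hfw (hs u' hu'))
  obtain ⟨e, e', he, he', rfl⟩ := P.exists_sub x
  exact KRRRegLib.lam_line_mul_of_pos (key e' he') (by rw [sub_add_cancel]; exact key e he) j

theorem esymm_card' {B : Type v} [CommRing B] (s : Multiset B) : s.esymm s.card = s.prod := by
  induction s using Multiset.induction_on with
  | empty => simp [esymm_zero']
  | cons a s ih =>
    rw [Multiset.card_cons, esymm_cons_succ, esymm_eq_zero_of_card_lt s (Nat.lt_succ_self _), zero_add, ih,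
      Multiset.prod_cons]


/-- Let K be a λ-ring with a positive structure having the splitting property, e a positive element, m =
ε(e) its augmentation, p_e(T) = Σ_{i ≤ m} (−1)^i λ^i(e) T^{m−i}, and K_e = K[T]/(p_e) with canonical
generator ℓ (the class of T). Then there are a λ-ring structure and a positive structure on K_e such
that the map K ⟶ K_e commutes with the λ-operations, λ^i(ℓ) = 0 for i ≥ 2 (so λ_t(ℓ) = 1 + ℓt), K ⟶
K_e is an extension of λ-rings with positive structure, ℓ is a line element, and, when m ≥ 2, e − ℓ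
is positive in K_e. The published statement also asserts uniqueness of this λ-structure among
special λ-rings; only existence is stated here. -/
theorem result (K : Type v) [CommRing K] [LambdaRing.LambdaOps K] (P : LambdaRing.PosStructure K) (hK : LambdaRing.HasSplitting K P) (e : K) (he : e ∈ P.pos) :
    ∃ (inst : LambdaRing.LambdaOps (AdjoinRoot (KRR.extPoly P e))) (Pe : @LambdaRing.PosStructure _ _ inst),
      (∀ (i : ℕ) (x : K), @LambdaRing.LambdaOps.lam _ _ inst i (AdjoinRoot.of (KRR.extPoly P e) x) =
        AdjoinRoot.of (KRR.extPoly P e) (LambdaRing.LambdaOps.lam i x)) ∧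
      (∀ i : ℕ, 2 ≤ i → @LambdaRing.LambdaOps.lam _ _ inst i (AdjoinRoot.root (KRR.extPoly P e)) = 0) ∧
      @LambdaRing.IsExtension K _ _ _ _ inst P Pe (AdjoinRoot.of (KRR.extPoly P e)) ∧
      @LambdaRing.PosStructure.IsLine _ _ inst Pe (AdjoinRoot.root (KRR.extPoly P e)) ∧
      (2 ≤ P.aug e → AdjoinRoot.of (KRR.extPoly P e) e - AdjoinRoot.root (KRR.extPoly P e) ∈
        (@LambdaRing.PosStructure.pos _ _ inst Pe)) := by
  classical
  obtain ⟨L, g, hg, hL, h⟩ := exists_split P hK [e] (by simp [he])
  obtain ⟨s, hs, hse⟩ := h e (by simp)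
  let m := (P.aug e).toNat
  have hmaug : ((m : ℕ) : ℤ) = P.aug e := Int.toNat_of_nonneg (P.aug_pos e he).le
  have hm1 : 1 ≤ m := by have := P.aug_pos e he; omega
  have hcard : s.card = m := by
    have h1 := card_of_sum hs hse
    rw [hg.aug_comp] at h1
    omega
  have hlamg : ∀ i, g (LambdaOps.lam i e) = s.esymm i := fun i => by
    rw [hg.isLambdaHom, ← hse, lam_sum_lines fun u hu => line_lam (hs u hu)]
  obtain ⟨u, hu⟩ : ∃ u : Fin m → L.carrier, s = Finset.univ.val.map u := by
    have hl : s.toList.length = m := by rw [Multiset.length_toList, hcard]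
    refine ⟨fun i => s.toList.get (i.cast hl.symm), ?_⟩
    rw [Fin.univ_val_map]
    conv_lhs => rw [← s.coe_toList]
    congr 1
    exact List.ext_getElem (by simp [hl]) (fun i h1 h2 => by simp)
  have hscal : ∀ w ∈ s.toList, ∀ n x, LambdaOps.lam n (w * x) = w ^ n * LambdaOps.lam n x := fun w hw n x =>
    lam_mul_line L.posStr hL (hs w (Multiset.mem_toList.1 hw)) x n
  have huscal : ∀ l : Fin m, ∀ n x, LambdaOps.lam n (u l * x) = u l ^ n * LambdaOps.lam n x := fun l =>
    hscal (u l) (Multiset.mem_toList.2 (hu ▸ Multiset.mem_map_of_mem u (Finset.mem_univ l)))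
  let pe := KRR.extPoly P e
  let PL := (s.toList.map fun w => Polynomial.X - Polynomial.C w).prod
  have hPL : PL = (s.map fun w => Polynomial.X - Polynomial.C w).prod := Multiset.prod_map_toList _ _
  have hmap : pe.map g = PL := by
    rw [hPL, Multiset.prod_X_sub_X_eq_sum_esymm, hcard]
    simp only [pe, KRR.extPoly, Polynomial.map_sum]
    refine Finset.sum_congr rfl fun i _ => ?_
    rw [Polynomial.map_mul, Polynomial.map_C, Polynomial.map_pow, Polynomial.map_X, map_mul, map_pow, map_neg,
      map_one, hlamg, map_mul, map_pow, map_neg, map_one]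
    ring
  have hmonic : pe.Monic := Polynomial.monic_of_injective hg.injective
    (by rw [hmap, hPL]; exact Polynomial.monic_multiset_prod_of_monic _ _ fun w _ => Polynomial.monic_X_sub_C w)
  let π := Ideal.Quotient.mk (Ideal.span {PL})
  let φ : AdjoinRoot pe →+* Polynomial L.carrier ⧸ Ideal.span {PL} :=
    Ideal.Quotient.lift (Ideal.span {pe}) (π.comp (Polynomial.mapRingHom g)) fun a ha => by
      obtain ⟨b, rfl⟩ := Ideal.mem_span_singleton.1 ha
      rw [RingHom.comp_apply, map_mul, Polynomial.coe_mapRingHom, hmap]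
      exact Ideal.Quotient.eq_zero_iff_mem.2 (Ideal.mem_span_singleton.2 (dvd_mul_right _ _))
  have hφ : ∀ f, φ (AdjoinRoot.mk pe f) = π (f.map g) := fun f => rfl
  have hφinj : Function.Injective φ := by
    refine (injective_iff_map_eq_zero φ).2 fun x hx => ?_
    obtain ⟨f, rfl⟩ := AdjoinRoot.mk_surjective x
    rw [hφ, Ideal.Quotient.eq_zero_iff_mem, Ideal.mem_span_singleton, ← hmap,
      Polynomial.map_dvd_map g hg.injective hmonic] at hx
    exact AdjoinRoot.mk_eq_zero.2 hx
  have hφser : ∀ {F G : PowerSeries (AdjoinRoot pe)}, PowerSeries.map φ F = PowerSeries.map φ G → F = G := by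
    intro F G h
    ext n
    have := congrArg (PowerSeries.coeff n) h
    rw [PowerSeries.coeff_map, PowerSeries.coeff_map] at this
    exact hφinj this
  let Ser : AdjoinRoot pe → PowerSeries (AdjoinRoot pe) := fun x =>
    PowerSeries.map (AdjoinRoot.mk pe) (ElemExt.polySer (Function.surjInv AdjoinRoot.mk_surjective x))
  have hL1 : ∀ f : Polynomial K, PowerSeries.map φ (PowerSeries.map (AdjoinRoot.mk pe) (ElemExt.polySer f)) =
      PowerSeries.map π (ElemExt.polySer (f.map g)) := by
    intro f
    rw [ElemExt.polySer_map hg.isLambdaHom]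
    ext n
    simp [hφ]
  have hSer : ∀ f, Ser (AdjoinRoot.mk pe f) = PowerSeries.map (AdjoinRoot.mk pe) (ElemExt.polySer f) := by
    intro f
    apply hφser
    simp only [Ser]
    rw [hL1, hL1]
    set f' := Function.surjInv AdjoinRoot.mk_surjective (AdjoinRoot.mk pe f)
    obtain ⟨y, hy⟩ : PL ∣ f'.map g - f.map g := by
      rw [← Ideal.mem_span_singleton, ← Ideal.Quotient.eq, ← hφ, ← hφ, Function.surjInv_eq AdjoinRoot.mk_surjective]
    rw [show f'.map g = PL * y + f.map g by rw [← hy]; ring, ElemExt.polySer_add, map_mul,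
      ElemExt.polySer_prod_mul _ hscal, one_mul]
  have hSadd : ∀ x y, Ser (x + y) = Ser x * Ser y := by
    intro x y
    obtain ⟨a, rfl⟩ := AdjoinRoot.mk_surjective x
    obtain ⟨b, rfl⟩ := AdjoinRoot.mk_surjective y
    rw [← map_add, hSer, hSer, hSer, ElemExt.polySer_add, map_mul]
  have hS01 : ∀ x, PowerSeries.coeff 0 (Ser x) = 1 ∧ PowerSeries.coeff 1 (Ser x) = x := by
    intro x
    obtain ⟨a, rfl⟩ := AdjoinRoot.mk_surjective x
    rw [hSer, PowerSeries.coeff_map, PowerSeries.coeff_map, (ElemExt.coeff_polySer a).1, (ElemExt.coeff_polySer a).2,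
      map_one]
    exact ⟨rfl, rfl⟩
  let inst : LambdaOps (AdjoinRoot pe) :=
    { lam := fun n x => PowerSeries.coeff n (Ser x)
      lam_zero := fun x => (hS01 x).1
      lam_one := fun x => (hS01 x).2
      lam_add := fun n x y => by
        rw [hSadd, PowerSeries.coeff_mul, Finset.Nat.sum_antidiagonal_eq_sum_range_succ_mk] }
  letI := inst
  let q : K →+* AdjoinRoot pe := AdjoinRoot.of pe
  let l := AdjoinRoot.root pe
  let c := q e - l
  have hSmon : ∀ i a, Ser (AdjoinRoot.mk pe (Polynomial.monomial i a)) =
      PowerSeries.rescale (l ^ i) (PowerSeries.map q (lamSeries a)) := by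
    intro i a
    rw [hSer, ElemExt.polySer_monomial, ← PowerSeries.rescale_map, map_pow, AdjoinRoot.mk_X]
    ext n
    simp [PowerSeries.coeff_rescale, q, l, AdjoinRoot.mk_C]
  have hmon : ∀ i a, AdjoinRoot.mk pe (Polynomial.monomial i a) = q a * l ^ i := by
    intro i a
    rw [← Polynomial.C_mul_X_pow_eq_monomial, map_mul, map_pow, AdjoinRoot.mk_C, AdjoinRoot.mk_X]
  -- the augmentation
  have hεz : Polynomial.eval₂ P.aug 1 pe = 0 := by
    simp only [pe, KRR.extPoly, Polynomial.eval₂_finsetSum, Polynomial.eval₂_mul, Polynomial.eval₂_C,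
      Polynomial.eval₂_pow, Polynomial.eval₂_X, Polynomial.eval₂_neg, Polynomial.eval₂_one, map_mul, map_pow, map_neg, map_one, one_pow, mul_one,
      aug_lam P hK he]
    exact Int.alternating_sum_range_choose_of_ne (show m ≠ 0 by omega)
  let ε : AdjoinRoot pe →+* ℤ := AdjoinRoot.lift P.aug 1 hεz
  have hεq : ∀ a, ε (q a) = P.aug a := fun a => AdjoinRoot.lift_of _
  have hεl : ε l = 1 := AdjoinRoot.lift_root _
  have hεc : ε c = (m : ℤ) - 1 := by rw [map_sub, hεq, hεl, hmaug]
  -- units
  have hlunit : IsUnit l := by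
    have h0 : IsUnit (pe.coeff 0) := by
      rw [Polynomial.coeff_zero_eq_eval_zero]
      simp only [pe, KRR.extPoly, Polynomial.eval_finsetSum, Polynomial.eval_mul, Polynomial.eval_C,
        Polynomial.eval_pow, Polynomial.eval_X]
      rw [Finset.sum_eq_single (P.aug e).toNat (fun i hi hne => by
          rw [zero_pow (by have := Finset.mem_range.1 hi; omega), mul_zero])
        (fun h => absurd (Finset.self_mem_range_succ _) h), Nat.sub_self, pow_zero, mul_one]
      exact (isUnit_one.neg.pow _).mul (P.isUnit_lam e he)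
    have h1 : l * AdjoinRoot.mk pe pe.divX = -q (pe.coeff 0) := by
      have h := AdjoinRoot.mk_self (f := pe)
      conv_lhs at h => arg 2; rw [← Polynomial.X_mul_divX_add pe]
      rw [map_add, map_mul, AdjoinRoot.mk_X, AdjoinRoot.mk_C] at h
      exact eq_neg_of_add_eq_zero_left h
    exact isUnit_of_mul_isUnit_left (h1 ▸ (h0.map q).neg)
  -- the positive elements
  let G : Set (AdjoinRoot pe) :=
    {z | ∃ a ∈ P.pos, ∃ i k : ℕ, (k = 0 ∨ 2 ≤ m) ∧ z = q a * l ^ i * c ^ k}
  let Good : AdjoinRoot pe → Prop := fun z =>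
    0 < ε z ∧ ElemExt.Low (ε z).toNat (Ser z) ∧ IsUnit (PowerSeries.coeff (ε z).toNat (Ser z))
  have hgen : ∀ z ∈ G, Good z := by
    rintro _ ⟨a, ha, i, k, hk, rfl⟩
    let D := (P.aug a).toNat
    have hD : (D : ℤ) = P.aug a := Int.toNat_of_nonneg (P.aug_pos a ha).le
    have hεx : ∀ j, ε (q a * l ^ i * c ^ j) = (D : ℤ) * ((m : ℤ) - 1) ^ j := fun j => by
      rw [map_mul, map_mul, map_pow, map_pow, hεq, hεl, hεc, hD, one_pow, mul_one]
    have htn : ∀ j, (ε (q a * l ^ i * c ^ j)).toNat = ElemExt.DS m D j := fun j => by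
      rw [hεx, show (m : ℤ) - 1 = ((m - 1 : ℕ) : ℤ) by omega, ← Nat.cast_pow, ← Nat.cast_mul, Int.toNat_natCast]
    let ψ : Polynomial (ElemExt.B0 m) →+* Polynomial L.carrier ⧸ Ideal.span {PL} :=
      Polynomial.eval₂RingHom ((π.comp Polynomial.C).comp (MvPolynomial.eval₂Hom (Int.castRingHom L.carrier)
        (Sum.elim u fun n => g (LambdaOps.lam n a)))) (π Polynomial.X)
    have hψC : ∀ b, ψ (Polynomial.C b) = π (Polynomial.C (MvPolynomial.eval₂Hom (Int.castRingHom L.carrier)
        (Sum.elim u fun n => g (LambdaOps.lam n a)) b)) := fun b => Polynomial.eval₂_C _ _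
    have hψX : ψ Polynomial.X = π Polynomial.X := Polynomial.eval₂_X _ _
    have hψP : ψ (ElemExt.PPoly m) = 0 := by
      rw [ElemExt.PPoly, map_prod]
      simp only [map_sub, hψX, hψC, MvPolynomial.eval₂Hom_X', Sum.elim_inl]
      simp only [← map_sub, ← map_prod]
      refine Ideal.Quotient.eq_zero_iff_mem.2 (Ideal.mem_span_singleton.2 (dvd_of_eq ?_))
      rw [hPL, hu, Multiset.map_map]
      rfl
    have hφl : φ l = ψ Polynomial.X := by
      rw [hψX, show l = AdjoinRoot.mk pe Polynomial.X from AdjoinRoot.mk_X.symm, hφ, Polynomial.map_X]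
    have hφq : ∀ b, φ (q b) = π (Polynomial.C (g b)) := fun b => by
      rw [show q b = AdjoinRoot.mk pe (Polynomial.C b) from (AdjoinRoot.mk_C b).symm, hφ, Polynomial.map_C]
    have hcl : ∀ j, PowerSeries.map φ (Ser (q a * l ^ i * c ^ j)) = PowerSeries.map ψ (ElemExt.FS m i D j) := by
      intro j
      induction j with
      | zero =>
        rw [pow_zero, mul_one, ← hmon, hSmon]
        ext n
        simp only [PowerSeries.coeff_map, PowerSeries.coeff_rescale, map_mul, map_pow, hφl, hφq, lamSeries,
          PowerSeries.coeff_mk, ElemExt.FS, ElemExt.F0]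
        rcases Nat.eq_zero_or_pos n with rfl | hn
        · simp [LambdaOps.lam_zero]
        rw [if_neg hn.ne']
        rcases le_or_gt n D with h | h
        · rw [if_pos h, map_mul, map_pow, hψX, hψC, MvPolynomial.eval₂Hom_X', Sum.elim_inr, ← pow_mul, mul_comm]
        · rw [if_neg (by omega), P.lam_eq_zero a ha n (by omega), map_zero, map_zero, map_zero, mul_zero, map_zero]
      | succ j ih =>
        set z := q a * l ^ i * c ^ j with hz
        obtain ⟨f, hf⟩ := AdjoinRoot.mk_surjective z
        have hlz : PowerSeries.map φ (Ser (l * z)) = PowerSeries.rescale (ψ Polynomial.X) (PowerSeries.map φ (Ser z)) := by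
          rw [← hf, show l = AdjoinRoot.mk pe Polynomial.X from AdjoinRoot.mk_X.symm, ← map_mul, hSer, hSer, ElemExt.polySer_X_mul,
            ← PowerSeries.rescale_map, ← PowerSeries.rescale_map, show φ (AdjoinRoot.mk pe Polynomial.X) = ψ Polynomial.X from hφl]
        have hqz : PowerSeries.map φ (Ser (q e * z)) =
            ∏ w : Fin m, PowerSeries.rescale (π (Polynomial.C (u w))) (PowerSeries.map φ (Ser z)) := by
          have hsum : Polynomial.C (g e) * f.map g = ∑ w : Fin m, Polynomial.C (u w) * f.map g := by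
            rw [← hse, hu, ← Finset.sum_mul, ← map_sum]
            rfl
          have hprod : ∀ (t : Finset (Fin m)) (F : Polynomial L.carrier),
              ElemExt.polySer (∑ w ∈ t, Polynomial.C (u w) * F) = ∏ w ∈ t, PowerSeries.rescale (Polynomial.C (u w)) (ElemExt.polySer F) := by
            intro t F
            induction t using Finset.induction_on with
            | empty => simp [ElemExt.polySer_zero]
            | insert b t hb iht => rw [Finset.sum_insert hb, Finset.prod_insert hb, ElemExt.polySer_add, ElemExt.polySer_C_mul (huscal b), iht]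
          rw [← hf, show q e = AdjoinRoot.mk pe (Polynomial.C e) from (AdjoinRoot.mk_C e).symm, ← map_mul, hSer, hSer,
            hL1, hL1, Polynomial.map_mul, Polynomial.map_C, hsum, hprod, map_prod]
          exact Finset.prod_congr rfl fun w _ => (PowerSeries.rescale_map π _ _).symm
        have h1 := congrArg (PowerSeries.map φ) (hSadd (q a * l ^ i * c ^ (j + 1)) (l * z))
        rw [show q a * l ^ i * c ^ (j + 1) + l * z = q e * z by rw [hz]; simp only [c]; ring, hqz, map_mul, hlz, ih] at h1
        have h2 := congrArg (PowerSeries.map ψ) (ElemExt.FS_succ_mul m i D j)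
        rw [map_mul, map_prod, ← PowerSeries.rescale_map] at h2
        simp only [← PowerSeries.rescale_map, hψC, MvPolynomial.eval₂Hom_X', Sum.elim_inl] at h2
        exact (IsUnit.mul_left_inj ((ElemExt.isUnit_of_constantCoeff (by
          rw [PowerSeries.coeff_rescale, PowerSeries.coeff_map, ElemExt.coeff_zero_FS, pow_zero, one_mul, map_one])))).1
          (h1.symm.trans h2.symm)
    have hid := fun j => ElemExt.univ_identities m i D ψ hψP j
    refine ⟨?_, ?_, ?_⟩
    · rw [hεx]
      rcases hk with rfl | hk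
      · simpa using (hD ▸ P.aug_pos a ha : (0 : ℤ) < D)
      · exact mul_pos (hD ▸ P.aug_pos a ha) (pow_pos (by omega) _)
    · intro n hn
      rw [htn] at hn
      apply hφinj
      rw [map_zero, ← PowerSeries.coeff_map, hcl]
      exact (hid k).1 n hn
    · rw [htn]
      clear hk
      induction k with
      | zero =>
        rw [pow_zero, mul_one, ← hmon, hSmon, PowerSeries.coeff_rescale, PowerSeries.coeff_map,
          show ElemExt.DS m D 0 = D by simp [ElemExt.DS]]
        refine ((hlunit.pow i).pow D).mul ?_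
        rw [lamSeries, PowerSeries.coeff_mk]
        exact (P.isUnit_lam a ha).map q
      | succ k ihk =>
        have h3 : PowerSeries.coeff (ElemExt.DS m D (k + 1)) (Ser (q a * l ^ i * c ^ (k + 1))) * l ^ ElemExt.DS m D k =
            q (LambdaOps.lam m e) ^ ElemExt.DS m D k *
              PowerSeries.coeff (ElemExt.DS m D k) (Ser (q a * l ^ i * c ^ k)) ^ (m - 1) := by
          apply hφinj
          rw [map_mul, map_mul, map_pow, map_pow, map_pow, hφl, hφq, ← PowerSeries.coeff_map, ← PowerSeries.coeff_map,
            hcl, hcl, (hid k).2, hψC, hlamg, show s.esymm m = s.prod by rw [← hcard, esymm_card'], ElemExt.PU, map_prod, hu,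
            ← Finset.prod_eq_multiset_prod]
          simp
        refine isUnit_of_mul_isUnit_left (y := l ^ ElemExt.DS m D k) ?_
        rw [h3]
        exact (((P.isUnit_lam e he).map q).pow _).mul (ihk.pow _)
  have hGood : ∀ z ∈ AddSubsemigroup.closure G, Good z := by
    intro z hz
    induction hz using AddSubsemigroup.closure_induction with
    | mem z hz => exact hgen z hz
    | add x y _ _ hx hy =>
      obtain ⟨hx0, hx1, hx2⟩ := hx
      obtain ⟨hy0, hy1, hy2⟩ := hy
      have e1 : (ε (x + y)).toNat = (ε x).toNat + (ε y).toNat := by rw [map_add]; omega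
      refine ⟨by rw [map_add]; omega, ?_, ?_⟩
      · rw [e1, hSadd]; exact (hx1.mul hy1).1
      · rw [e1, hSadd, (hx1.mul hy1).2]; exact hx2.mul hy2
  have hGmul : ∀ x ∈ G, ∀ y ∈ G, x * y ∈ G := by
    rintro _ ⟨a, ha, i, k, hk, rfl⟩ _ ⟨b, hb, i', k', hk', rfl⟩
    exact ⟨a * b, P.mul_mem a b ha hb, i + i', k + k', by omega, by rw [map_mul, pow_add, pow_add]; ring⟩
  have hG0 : ∀ a ∈ P.pos, ∀ i, q a * l ^ i ∈ G := fun a ha i => ⟨a, ha, i, 0, Or.inl rfl, by rw [pow_zero, mul_one]⟩
  have hqpos : ∀ a ∈ P.pos, q a ∈ AddSubsemigroup.closure G := fun a ha =>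
    AddSubsemigroup.subset_closure (by simpa using hG0 a ha 0)
  have hone : (1 : K) ∈ P.pos := one_mem_pos P
  let Pe : @PosStructure (AdjoinRoot pe) _ inst :=
    { aug := ε
      aug_surjective := fun n => ⟨(n : AdjoinRoot pe), by rw [map_intCast]; rfl⟩
      pos := AddSubsemigroup.closure G
      add_mem := fun x y hx hy => AddSubsemigroup.add_mem _ hx hy
      mul_mem := fun x y hx hy => by
        induction hx using AddSubsemigroup.closure_induction with
        | mem x hx =>
          induction hy using AddSubsemigroup.closure_induction with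
          | mem y hy => exact AddSubsemigroup.subset_closure (hGmul x hx y hy)
          | add y y' _ _ h h' => rw [mul_add]; exact AddSubsemigroup.add_mem _ h h'
        | add x x' _ _ h h' => rw [add_mul]; exact AddSubsemigroup.add_mem _ h h'
      natCast_mem := fun n hn => by simpa using hqpos n (P.natCast_mem n hn)
      exists_sub := fun x => by
        obtain ⟨f, rfl⟩ := AdjoinRoot.mk_surjective x
        induction f using Polynomial.induction_on' with
        | add f f' hf hf' =>
          obtain ⟨a, b, ha, hb, hab⟩ := hf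
          obtain ⟨a', b', ha', hb', hab'⟩ := hf'
          exact ⟨a + a', b + b', AddSubsemigroup.add_mem _ ha ha', AddSubsemigroup.add_mem _ hb hb',
            by rw [map_add, hab, hab']; ring⟩
        | monomial i a =>
          obtain ⟨a₁, a₂, ha₁, ha₂, rfl⟩ := P.exists_sub a
          exact ⟨_, _, AddSubsemigroup.subset_closure (hG0 a₁ ha₁ i), AddSubsemigroup.subset_closure (hG0 a₂ ha₂ i),
            by rw [hmon, map_sub, sub_mul]⟩
      aug_pos := fun x hx => (hGood x hx).1
      lam_eq_zero := fun x hx i hi => (hGood x hx).2.1 i (by have := (hGood x hx).1; omega)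
      isUnit_lam := fun x hx => (hGood x hx).2.2 }
  have hqlam : ∀ (i : ℕ) (x : K), LambdaOps.lam i (q x) = q (LambdaOps.lam i x) := by
    intro i x
    show PowerSeries.coeff i (Ser (q x)) = _
    rw [show q x = AdjoinRoot.mk pe (Polynomial.monomial 0 x) by rw [hmon, pow_zero, mul_one], hSmon]
    simp [lamSeries]
  refine ⟨inst, Pe, hqlam, fun i hi => ?_, ⟨fun i x => (hqlam i x).symm, ?_, hεq, hqpos⟩, ⟨?_, hεl⟩, fun h2 => ?_⟩
  · show PowerSeries.coeff i (Ser l) = 0
    rw [show l = AdjoinRoot.mk pe (Polynomial.monomial 1 1) by rw [hmon, map_one, one_mul, pow_one], hSmon,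
      PowerSeries.coeff_rescale, PowerSeries.coeff_map, lamSeries, PowerSeries.coeff_mk, lam_one_arg P i hi,
      map_zero, mul_zero]
  · refine (injective_iff_map_eq_zero _).2 fun x hx => ?_
    have h := AdjoinRoot.mk_eq_zero.1 ((AdjoinRoot.mk_C x).trans hx)
    haveI : Nontrivial L.carrier := RingHom.domain_nontrivial L.posStr.aug
    have hdeg : pe.natDegree = m := by
      rw [← Polynomial.natDegree_map_eq_of_injective hg.injective, hmap, hPL,
        Polynomial.natDegree_multiset_prod_X_sub_C_eq_card, hcard]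
    by_contra hne
    exact hmonic.not_dvd_of_natDegree_lt (fun h0 => hne (Polynomial.C_eq_zero.1 h0))
      (by rw [hdeg, Polynomial.natDegree_C]; omega) h
  · exact AddSubsemigroup.subset_closure (by simpa using hG0 1 hone 1)
  · exact AddSubsemigroup.subset_closure ⟨1, hone, 0, 1, Or.inr (by omega), by simp [c, q, l, pe]⟩

end Groth.Agent.S3778
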