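import Groth.Statements.S3780
import Groth.Agent.KGrLib.Sigma

set_option autoImplicit false
universe v u
open CategoryTheory CategoryTheory.Limits AlgebraicGeometry
attribute [local instance] HasDerivedCategory.standard
open KRR

namespace Groth.Agent.S3780

/-- Let K be a λ-ring with positive structure admitting a splitting, e a positive element of
augmentation ε(e) = r + 1, K_e = K[T]/(p_e(T)) the elementary extension of K with ℓ the class of T,
and f : K_e → K a K-linear functional with f(ℓ^i) = σ^i(e) for i ≤ r. For any λ-operations on K_e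
extending those of K with λ^i(ℓ) = 0 for i ≥ 2, and q = e − ℓ ∈ K_e, one has f(λ^0(q)) = 1 and
f(λ^i(q)) = 0 for all i ≥ 1; that is, f(λ_t(q)) = 1. -/
theorem result (K : Type v) [CommRing K] [LambdaRing.LambdaOps K] (P : LambdaRing.PosStructure K) (hK : LambdaRing.HasSplitting K P) (e : K) (he : e ∈ P.pos) (r : ℕ) (hr : P.aug e = r + 1)
    (inst : LambdaRing.LambdaOps (AdjoinRoot (KRR.extPoly P e)))
    (hext : ∀ (i : ℕ) (x : K), @LambdaRing.LambdaOps.lam _ _ inst i (AdjoinRoot.of (KRR.extPoly P e) x) =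
      AdjoinRoot.of (KRR.extPoly P e) (LambdaRing.LambdaOps.lam i x))
    (hroot : ∀ i : ℕ, 2 ≤ i → @LambdaRing.LambdaOps.lam _ _ inst i (AdjoinRoot.root (KRR.extPoly P e)) = 0)
    (f : AdjoinRoot (KRR.extPoly P e) →ₗ[K] K)
    (hf : ∀ i : ℕ, i ≤ r → f (AdjoinRoot.root (KRR.extPoly P e) ^ i) = KRR.sigma i e) (i : ℕ) :
    f (@LambdaRing.LambdaOps.lam _ _ inst i (AdjoinRoot.of (KRR.extPoly P e) e - AdjoinRoot.root (KRR.extPoly P e))) =
      if i = 0 then 1 else 0 := by
  letI := inst
  set g := AdjoinRoot.of (KRR.extPoly P e)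
  set x := AdjoinRoot.root (KRR.extPoly P e)
  have key : ∀ i, LambdaRing.LambdaOps.lam i (g e - x) =
      ∑ k ∈ Finset.range (i + 1), (-1 : AdjoinRoot (KRR.extPoly P e)) ^ k * x ^ k *
        g (LambdaRing.LambdaOps.lam (i - k) e) := by
    intro i
    induction i with
    | zero => simp [LambdaRing.LambdaOps.lam_zero]
    | succ n ih =>
      have h1 := LambdaSpLib.lam_add_line hroot n (g e - x)
      rw [sub_add_cancel, hext, ih] at h1
      rw [Finset.sum_range_succ', pow_zero, pow_zero, one_mul, one_mul, Nat.sub_zero]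
      have h2 : ∀ k ∈ Finset.range (n + 1), (-1 : AdjoinRoot (KRR.extPoly P e)) ^ (k + 1) * x ^ (k + 1) *
          g (LambdaRing.LambdaOps.lam (n + 1 - (k + 1)) e) =
          -(x * ((-1) ^ k * x ^ k * g (LambdaRing.LambdaOps.lam (n - k) e))) := fun k _ => by
        rw [Nat.add_sub_add_right]; ring
      rw [Finset.sum_congr rfl h2, Finset.sum_neg_distrib, ← Finset.mul_sum]
      linear_combination -h1
  rw [key, map_sum]
  have e1 : ∀ k ∈ Finset.range (i + 1), f ((-1 : AdjoinRoot (KRR.extPoly P e)) ^ k * x ^ k *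
      g (LambdaRing.LambdaOps.lam (i - k) e)) =
      (-1 : K) ^ k * LambdaRing.LambdaOps.lam (i - k) e * KRR.sigma k e := fun k _ => by
    rw [show (-1 : AdjoinRoot (KRR.extPoly P e)) ^ k * x ^ k * g (LambdaRing.LambdaOps.lam (i - k) e) =
        ((-1 : K) ^ k * LambdaRing.LambdaOps.lam (i - k) e) • x ^ k by
      rw [Algebra.smul_def, map_mul, map_pow, map_neg, map_one, AdjoinRoot.algebraMap_eq]; ring,
      map_smul, KGrLib.f_root_pow P he hr f hf, smul_eq_mul]
  rw [Finset.sum_congr rfl e1]
  split_ifs with h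
  · subst h; simp [LambdaRing.LambdaOps.lam_zero, KGrLib.sigma_zero]
  · rw [← Finset.sum_range_reflect]
    have := congrArg (fun z => (-1 : K) ^ i * z) (KGrLib.sigma_rel e (k := i) (by omega))
    rw [mul_zero, Finset.mul_sum] at this
    refine (Finset.sum_congr rfl fun j hj => ?_).trans this
    simp only [Finset.mem_range] at hj
    rw [show i + 1 - 1 - j = i - j by omega, show i - (i - j) = j by omega]
    have hs : (-1 : K) ^ (i - j) = (-1) ^ i * (-1) ^ j := by
      rw [← pow_add, show i + j = (i - j) + 2 * j by omega, pow_add, pow_mul]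
      simp
    rw [hs]; ring

end Groth.Agent.S3780
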