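import Groth.Statements.S3781
import Groth.Agent.KGrLib.Det

set_option autoImplicit false
universe v u
open CategoryTheory CategoryTheory.Limits AlgebraicGeometry
attribute [local instance] HasDerivedCategory.standard
open KRR

namespace Groth.Agent.S3781

/-- Let K be a λ-ring with positive structure having the splitting property, L its group of line
elements and F^n the γ-filtration. Assume moreover that the inverse of a line element is a line
element and that for a positive e with ε(e) = r the element det e = λ^r(e) is positive (hence a line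
element); these are part of the published setting but are not implied by the axioms used here, so
they are hypotheses. Then u ↦ u − 1 induces an isomorphism L ≅ Gr^1 K = F^1/F^2: every x ∈ F^1 is
congruent modulo F^2 to u − 1 for some line element u, and line elements u, v with u − v ∈ F^2 are
equal. -/
theorem result (K : Type v) [CommRing K] [LambdaRing.LambdaOps K] (P : LambdaRing.PosStructure K) (hK : LambdaRing.HasSplitting K P)
    (hLinv : ∀ w : K, P.IsLine w → ∃ w' : K, P.IsLine w' ∧ w * w' = 1)
    (hdet : ∀ e : K, e ∈ P.pos → LambdaRing.LambdaOps.lam (P.aug e).toNat e ∈ P.pos) :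
    (∀ x : K, x ∈ LambdaRing.gammaFiltration P 1 → ∃ u : K, P.IsLine u ∧ x - (u - 1) ∈ LambdaRing.gammaFiltration P 2) ∧
    ∀ u v : K, P.IsLine u → P.IsLine v → u - v ∈ LambdaRing.gammaFiltration P 2 → u = v := by
  constructor
  · intro x hx
    have haug := (KGrLib.aug_eq_zero_and_D P hK le_rfl hx).1
    obtain ⟨e, f, he, hf, rfl⟩ := P.exists_sub x
    rw [map_sub, sub_eq_zero] at haug
    have hline : ∀ a ∈ P.pos, P.IsLine (LambdaRing.LambdaOps.lam (P.aug a).toNat a) := fun a ha =>
      ⟨hdet a ha, by rw [LambdaSpLib.aug_lam P hK ha, Nat.choose_self]; simp⟩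
    obtain ⟨w, hw, hw1⟩ := hLinv _ (hline f hf)
    refine ⟨LambdaRing.LambdaOps.lam (P.aug e).toNat e * w, LambdaSpLib.line_mul (hline e he) hw, ?_⟩
    have h1 := KGrLib.det_sub_mem P hK he
    have h2 := KGrLib.det_sub_mem P hK hf
    rw [haug] at h1 ⊢
    set a := LambdaRing.LambdaOps.lam (P.aug f).toNat e
    set b := LambdaRing.LambdaOps.lam (P.aug f).toNat f
    have h3 : (a * w - 1) * (b - 1) ∈ LambdaRing.gammaFiltration P 2 := by
      have ha1 : P.aug (a * w - 1) = 0 := by
        have := (hline e he).2
        rw [haug] at this
        rw [map_sub, map_mul, this, hw.2, map_one, one_mul, sub_self]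
      exact LambdaSpLib.gf_mul P (LambdaSpLib.mem_gf_one P ha1)
        (LambdaSpLib.mem_gf_one P (by rw [map_sub, (hline f hf).2, map_one, sub_self]))
    have := add_mem (sub_mem h2 h1) h3
    convert this using 1
    linear_combination (-a) * hw1
  · intro u v hu hv h
    have h0 := (KGrLib.aug_eq_zero_and_D P hK (by norm_num) h).2 le_rfl
    have h1 : KGrLib.D P u = KGrLib.D P v := by
      have := map_sub (KGrLib.Dhom P hK) u v
      exact sub_eq_zero.1 (this.symm.trans h0)
    rw [← KGrLib.D_line P hK hu, ← KGrLib.D_line P hK hv, h1]

end Groth.Agent.S3781
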