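import Groth.Statements.S3783
import Groth.Agent.KRRRegLib.Model
import Groth.Agent.ChowLib.Embed
import Groth.Agent.S3762
import Groth.Agent.S3776
import Groth.Agent.S3798

set_option autoImplicit false
universe v u
open CategoryTheory CategoryTheory.Limits AlgebraicGeometry
attribute [local instance] HasDerivedCategory.standard
open KRR
set_option maxHeartbeats 1000000
set_option linter.all false

namespace Groth.Agent.S3783

/-- For P = P^n_Y: let Y be a connected Noetherian scheme, p : P^n_Y ⟶ Y, with models of K(P), K(Y)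
having the splitting property and q = p^K the pull-back. Then for every k, an element y ∈ K(Y) lies
in F^k K(Y) if and only if p^K y lies in F^k K(P) (γ-filtrations). -/
theorem result (n : ℕ) (Y : Scheme.{u}) [IsNoetherian Y] [ConnectedSpace ↥Y]
    (KP : Type v) [CommRing KP] [LambdaRing.LambdaOps KP] (PP : LambdaRing.PosStructure KP) (φP : SGA6.Kvb (KRR.PY n Y) →+ KP) (hKP : KRR.IsModel (KRR.PY n Y) KP PP φP) (hsP : LambdaRing.HasSplitting KP PP)
    (KY : Type v) [CommRing KY] [LambdaRing.LambdaOps KY] (PY : LambdaRing.PosStructure KY) (φY : SGA6.Kvb Y →+ KY) (hKY : KRR.IsModel Y KY PY φY) (hsY : LambdaRing.HasSplitting KY PY)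
    (q : KY →+ KP) (hq : KRR.IsPull (KRR.pr n Y) φY φP q) (k : ℕ) :
    (LambdaRing.gammaFiltration PP k).comap q = LambdaRing.gammaFiltration PY k := by
  obtain ⟨g, hg, -⟩ := Groth.Agent.S3798.result n Y KP PP φP hKP KY PY φY hKY
  haveI := KRRRegLib.isLocallyNoetherian_PY n Y
  haveI : IsProper (KRR.pr n Y) := ChowLib.isProper_toBase n Y
  haveI : CompactSpace (KRR.PY n Y) := QuasiCompact.compactSpace_of_compactSpace (KRR.pr n Y)
  haveI : IsNoetherian (KRR.PY n Y) := { }
  haveI : (KRR.vbP (KRR.PY n Y)).IsClosedUnderIsomorphisms :=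
    ⟨fun e h => Groth.Agent.PerfLib.isFinLocFree_of_iso e h⟩
  haveI : (KRR.vbP (KRR.PY n Y)).ContainsZero := KRRRegLib.vbY_zero
  obtain ⟨q', hq', hql, hqa⟩ := KRRRegLib.exists_pullHom (KRR.pr n Y) hKP hKY
  let O : ℕ → (KRR.PY n Y).Modules := fun j => Twist.twistOver n Y (-(j : ℤ))
  let L := φP (KRR.cl (KRR.PY n Y) (O 1))
  let v := 1 - L
  have hOi : ∀ j, PicF.IsInvertible (O j) := fun j => PicPnLib.twistOver_inv n Y _
  have hOv : ∀ j, FlatMod.IsFinLocFree (O j) := fun j => AmpleDevLib.isFinLocFree_of_isInvertible (hOi j)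
  have hLk : ∀ j : ℕ, L ^ j = φP (KRR.cl (KRR.PY n Y) (O j)) := by
    intro j
    induction j with
    | zero =>
      rw [pow_zero, ← hKP.map_one]
      exact KRRRegLib.cl_iso hKP ((PicPnLib.twistOver_zero n Y).some.symm ≪≫
        eqToIso (congrArg (Twist.twistOver n Y) (by simp)))
    | succ j ih =>
      rw [pow_succ, ih]
      refine (hKP.map_mul _ _ (hOv j) (hOv 1)).trans (KRRRegLib.cl_iso hKP ?_)
      exact (PicPnLib.twistOver_add n Y _ _).some ≪≫
        eqToIso (congrArg (Twist.twistOver n Y) (by push_cast; ring))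
  have hLine : PP.IsLine L :=
    KRRRegLib.isLine_cl hKP ((CohCmpLib.invertible_iff_rank_one _).1 (hOi 1))
  have hone : φY (KRR.cl Y (Coh.structureModule Y)) = 1 := hKY.map_one
  have hvb1 : FlatMod.IsFinLocFree (Coh.structureModule Y) := KRRRegLib.vb_structure Y
  have hgenk : ∀ (k : ℕ) (E : Y.Modules), FlatMod.IsFinLocFree E →
      φP (KRR.cl (KRR.PY n Y) (KRR.twF n Y (-(k : ℤ)) ((Scheme.Modules.pullback (KRR.pr n Y)).obj E))) =
        q' (φY (KRR.cl Y E)) * L ^ k := by
    intro k E hE
    rw [hLk, mul_comm, show q' (φY (KRR.cl Y E)) = _ from hq' E hE]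
    exact (hKP.map_mul _ _ (hOv k) (KFlatLib.isFinLocFree_pull _ hE)).symm
  have hval : ∀ k : ℕ, k ≤ n → g (L ^ k) = if k = 0 then 1 else 0 := by
    intro k hk
    have h := KRRRegLib.value_twist_pullback (g.comp φP) φY (fun F hF => hg F hF.1 hF.2) hvb1 k hk
    rw [AddMonoidHom.comp_apply, hgenk k _ hvb1, hone, map_one, one_mul] at h
    exact h
  have hgv : ∀ i : ℕ, i ≤ n → g (v ^ i) = 1 := by
    intro i hi
    have hterm : ∀ j ∈ Finset.range (i + 1), g ((-L) ^ j * 1 ^ (i - j) * (i.choose j : KP)) =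
        ((-1 : ℤ) ^ j * (i.choose j : ℤ)) • (if j = 0 then (1 : KY) else 0) := by
      intro j hj
      have hjn : j ≤ n := by have := Finset.mem_range.1 hj; omega
      rw [show (-L) ^ j * 1 ^ (i - j) * (i.choose j : KP) = ((-1 : ℤ) ^ j * (i.choose j : ℤ)) • L ^ j by
        rw [zsmul_eq_mul, neg_pow]; push_cast; ring, map_zsmul, hval j hjn]
    rw [show v = -L + 1 by simp only [v]; ring, add_pow, map_sum, Finset.sum_congr rfl hterm,
      Finset.sum_eq_single 0 (fun j _ hj => by rw [if_neg hj, smul_zero]) (fun h => absurd (Finset.mem_range.2 (by omega)) h)]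
    simp
  have hqq : ∀ y, q y = q' y := fun y => by
    refine KRRRegLib.model_induction hKY (motive := fun y => q y = q' y) (fun E hE => ?_) (by simp)
      (fun a b ha hb => by rw [map_add, map_add, ha, hb]) (fun a ha => by rw [map_neg, map_neg, ha]) y
    exact (hq E hE).trans (hq' E hE).symm
  have hmap : ∀ (m : ℕ) (y : KY), y ∈ LambdaRing.gammaFiltration PY m → q' y ∈ LambdaRing.gammaFiltration PP m := by
    intro m y hy
    rcases eq_or_ne m 0 with rfl | hm
    · rw [LambdaSpLib.gf_zero]; trivial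
    refine LambdaSpLib.gf_induction PY hm (p := fun y => q' y ∈ LambdaRing.gammaFiltration PP m) (fun l hl hs => ?_)
      (by simp) (fun a b ha hb => by rw [map_add]; exact add_mem ha hb) (fun a ha => by rw [map_neg]; exact neg_mem ha) hy
    rw [map_list_prod, List.map_map]
    refine LambdaSpLib.gf_anti PP hs ?_
    clear hs hy
    induction l with
    | nil => simp [LambdaSpLib.gf_zero]
    | cons p l ih =>
      simp only [List.map_cons, List.prod_cons, List.sum_cons, Function.comp_apply]
      refine LambdaSpLib.gf_mul PP ?_ (ih fun b hb => hl b (by simp [hb]))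
      rw [LambdaSpLib.gamma_map (f := q') hql]
      exact LambdaSpLib.gamma_mem_gf PP (by rw [hqa]; exact hl p (by simp)) _
  ext y
  rw [AddSubgroup.mem_comap, hqq]
  refine ⟨fun hy => ?_, hmap k y⟩
  have hv : PP.aug v = 0 := by
    show PP.aug (1 - L) = 0
    rw [map_sub, map_one, hLine.2, sub_self]
  have h := Groth.Agent.S3776.result n Y KP PP φP hKP KY PY φY hKY g hg (k + n) (q' y * v ^ n)
    (LambdaSpLib.gf_mul PP hy (LambdaSpLib.gf_pow PP hv n))
  have h62 : g (v ^ n * q' y) = g (v ^ n) * y :=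
    Groth.Agent.S3762.result n Y KP PP φP hKP KY PY φY hKY g hg q'.toAddMonoidHom hq' (v ^ n) y
  rwa [mul_comm, h62, hgv n le_rfl, one_mul, Nat.add_sub_cancel] at h

end Groth.Agent.S3783
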