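import Groth.Statements.S3786
import Groth.Agent.KRRRegLib.EulerCoh
import Groth.Agent.VBResLib.Res

set_option autoImplicit false
universe v u
open CategoryTheory CategoryTheory.Limits AlgebraicGeometry
attribute [local instance] HasDerivedCategory.standard
open KRR

namespace Groth.Agent.S3786

/-- Let Y be a connected Noetherian scheme in which every coherent module on Y and on P^n_Y is a
quotient of a finite locally free one, and f = i ≫ p : X ⟶ Y with i : X ⟶ P^n_Y a regular closed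
imbedding (X connected) and p the projection. Let δ_X : K₀(bundles on X) ⟶ K₀(Coh X) and δ_Y be the
maps induced by the inclusions (arguments hX, hY), f_K = p_K ∘ i_K the push-forward on K of bundles
(through models (KX, PX, φX), (KP, PP, φP), (KY, PY, φY)), and g the push-forward on K₀ of coherent
modules, g[F] = Σ_{i ≤ N} (-1)^i [R^i f_* F]. Then δ_Y ∘ f_K = g ∘ δ_X: for x ∈ K₀(bundles on X) and
y ∈ K₀(bundles on Y) with φY y = f_K (φX x), δ_Y y = g (δ_X x). -/
theorem result (n : ℕ) {X Y : Scheme.{u}} [IsNoetherian X] [ConnectedSpace ↥X] [IsNoetherian Y] [ConnectedSpace ↥Y] (hYe : KRR.HasEnoughLocFree Y)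
    (hPe : KRR.HasEnoughLocFree (KRR.PY n Y)) [HasInjectiveResolutions X.Modules]
    (i : X ⟶ KRR.PY n Y) (hi : Mor2.IsRegularClosedImmersion i)
    (hX : ∀ M : X.Modules, FlatMod.IsFinLocFree M → Coh.IsCoh M) (hY : ∀ M : Y.Modules, FlatMod.IsFinLocFree M → Coh.IsCoh M)
    (KX : Type v) [CommRing KX] [LambdaRing.LambdaOps KX] (PX : LambdaRing.PosStructure KX) (φX : SGA6.Kvb X →+ KX) (hKX : KRR.IsModel X KX PX φX)
    (KP : Type v) [CommRing KP] [LambdaRing.LambdaOps KP] (PP : LambdaRing.PosStructure KP) (φP : SGA6.Kvb (KRR.PY n Y) →+ KP) (hKP : KRR.IsModel (KRR.PY n Y) KP PP φP)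
    (KY : Type v) [CommRing KY] [LambdaRing.LambdaOps KY] (PY : LambdaRing.PosStructure KY) (φY : SGA6.Kvb Y →+ KY) (hKY : KRR.IsModel Y KY PY φY)
    (a : KX →+ KP) (ha : KRR.IsPushCl i φX φP a) (b : KP →+ KY) (hb : KRR.IsPushPr n Y φP φY b)
    (N : ℕ) (g : SGA6.Kcoh X →+ SGA6.Kcoh Y) (hg : KRR.IsPushCoh (i ≫ KRR.pr n Y) N g)
    (x : SGA6.Kvb X) (y : SGA6.Kvb Y) (hxy : φY y = b (a (φX x))) :
    SGA6.mapSub (𝟭 Y.Modules) (KRR.vbP Y) (fun M : Y.Modules => Coh.IsCoh M) hY y =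
      g (SGA6.mapSub (𝟭 X.Modules) (KRR.vbP X) (fun M : X.Modules => Coh.IsCoh M) hX x) := by
  haveI := KRRRegLib.isLocallyNoetherian_PY n Y
  haveI := hi.1
  haveI : IsProper (KRR.pr n Y) := ChowLib.isProper_toBase n Y
  haveI : CompactSpace (KRR.PY n Y) := QuasiCompact.compactSpace_of_compactSpace (KRR.pr n Y)
  haveI : EnoughInjectives (KRR.PY n Y).Modules := IsGrothendieckAbelian.enoughInjectives.{u}
  obtain ⟨π, hπ⟩ := KRRRegLib.exists_kPush n Y
  let eY := AddEquiv.ofBijective φY hKY.bijective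
  let J := SGA6.mapSub (𝟭 Y.Modules) (KRR.vbP Y) (fun M : Y.Modules => Coh.IsCoh M) hY
  let JX := SGA6.mapSub (𝟭 X.Modules) (KRR.vbP X) (fun M : X.Modules => Coh.IsCoh M) hX
  have hy : y = eY.symm (b (a (φX x))) := by rw [← hxy]; exact (eY.symm_apply_apply y).symm
  subst hy
  suffices key : J.comp (eY.symm.toAddMonoidHom.comp ((b.comp a).comp φX)) = g.comp JX from
    DFunLike.congr_fun key x
  refine AddMonoidHom.eq_of_eqOn_dense (Groth.Agent.KHeartLib.clSub_closure_eq_top (KRR.vbP X)) ?_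
  rintro _ ⟨F, hF, rfl⟩
  simp only [AddMonoidHom.coe_comp, AddEquiv.coe_toAddMonoidHom, Function.comp_apply]
  haveI : Coh.IsQCoh F := FinLFAnn.isQCoh_of_isFinLocFree hF
  obtain ⟨d, hd⟩ := VBResLib.exists_pd_push hPe hi hF
  have hc := VBResLib.isCoh_push_of_isClosedImmersion i (LocSuppLib.isCoh_of_isFinLocFree hF)
  obtain ⟨m, L, ε, hL⟩ := VBResLib.hasLFRes_of_pd hPe hc hd
  have hbπ : b.comp φP = φY.comp π := KRRRegLib.hom_ext_RP fun G hG => by
    simp only [AddMonoidHom.coe_comp, Function.comp_apply]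
    exact (hb G hG.1 hG.2).trans (congrArg φY (hπ G hG).symm)
  have e1 : eY.symm (b (a (φX (KRR.cl X F)))) =
      ∑ k ∈ Finset.range (m + 1), (-1 : ℤ) ^ k • π (KRR.cl (KRR.PY n Y) (L.X k)) := by
    rw [AddEquiv.symm_apply_eq, ha F hF m L ε hL, map_sum, map_sum]
    refine Finset.sum_congr rfl fun k _ => ?_
    rw [map_zsmul, map_zsmul]
    exact congrArg ((-1 : ℤ) ^ k • ·) (DFunLike.congr_fun hbπ (KRR.cl (KRR.PY n Y) (L.X k)))
  rw [show J (eY.symm (b (a (φX (KZero.clSub (KRR.vbP X) F))))) = _ from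
      (congrArg J e1).trans (KRRRegLib.euler_push_eq_chiC hY π hπ hc hL),
    show g (JX (KZero.clSub (KRR.vbP X) F)) = _ from
      (congrArg g (VBResLib.mapSub_clSub (𝟭 X.Modules) _ _ hX hF)).trans (hg.2 F (hX F hF))]
  let f := i ≫ KRR.pr n Y
  let P : ObjectProperty Y.Modules := fun M => Coh.IsCoh M
  haveI : P.IsClosedUnderIsomorphisms := ⟨fun e h => QCohLib.isCoh_of_iso e h⟩
  haveI : P.ContainsZero := by
    obtain ⟨Z, hZ, hP⟩ := (KRR.vbP Y).exists_prop_of_containsZero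
    exact ⟨⟨Z, hZ, hY Z hP⟩⟩
  let u : ℕ → SGA6.Kcoh Y := fun q => (-1 : ℤ) ^ q • KZero.clSub P ((Coh.Rpush f q).obj F)
  haveI := hc.1
  have hiso : ∀ q, Nonempty ((Coh.Rpush (KRR.pr n Y) q).obj ((Scheme.Modules.pushforward i).obj F) ≅
      (Coh.Rpush f q).obj F) := fun q => RpushLib.nonempty_rpush_push_iso i (KRR.pr n Y) F q
  have hu : ∀ q, IsZero ((Coh.Rpush f q).obj F) → u q = 0 := fun q hz => by
    simp only [u, Groth.Agent.KHeartLib.clSub_eq_zero P (DevissLib.isCoh_of_isZero hz) hz, smul_zero]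
  have hN : ∀ q, N < q → u q = 0 := fun q hq => hu q (hg.1 F (hX F hF) q hq)
  have hn : ∀ q, n < q → u q = 0 := fun q hq =>
    hu q (IsZero.of_iso (KRRRegLib.isZero_rpush_big _ q hq) (hiso q).some.symm)
  refine Eq.trans (Finset.sum_congr rfl fun q _ => congrArg ((-1 : ℤ) ^ q • ·)
    (Groth.Agent.KHeartLib.clSub_congr P (hiso q).some)) ?_
  show ∑ q ∈ Finset.range (n + 1), u q = ∑ q ∈ Finset.range (N + 1), u q
  rcases le_total n N with h | h
  · exact Finset.sum_subset (Finset.range_subset_range.2 (by omega)) fun q _ hq => hn q (by simp at hq; omega)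
  · exact (Finset.sum_subset (Finset.range_subset_range.2 (by omega)) fun q _ hq => hN q (by simp at hq; omega)).symm

end Groth.Agent.S3786
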