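import Groth.Statements.S3791
import Mathlib
import Mathlib
-- import your own Groth.Agent.* helpers here

set_option autoImplicit false
universe v u
open CategoryTheory CategoryTheory.Limits AlgebraicGeometry
attribute [local instance] HasDerivedCategory.standard
open KRR

namespace Groth.Agent.S3791

/-- Let K be a λ-ring with positive structure P and u an ample line element (for every x, u^n x is a
positive element minus a natural number for all large n). Then for every line element v, the element
v - 1 is nilpotent. -/
theorem result (K : Type v) [CommRing K] [LambdaRing.LambdaOps K] (P : LambdaRing.PosStructure K)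
    (u : K) (hu : KRR.IsAmpleElt P u) (w : K) (hw : P.IsLine w) : IsNilpotent (w - 1) := by
  classical
  -- lines are units
  have hunit : ∀ b : K, P.IsLine b → IsUnit b := by
    intro b hb
    have h := P.isUnit_lam b hb.1
    rwa [hb.2, show (1 : ℤ).toNat = 1 from rfl, LambdaRing.LambdaOps.lam_one] at h
  have hadd : ∀ x y : K, LambdaRing.lamSeries (x + y) = LambdaRing.lamSeries x * LambdaRing.lamSeries y := by
    intro x y
    apply PowerSeries.ext
    intro n
    rw [PowerSeries.coeff_mul, Finset.Nat.sum_antidiagonal_eq_sum_range_succ_mk]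
    simp only [LambdaRing.lamSeries, PowerSeries.coeff_mk]
    exact LambdaRing.LambdaOps.lam_add n x y
  have hline : ∀ b : K, P.IsLine b → LambdaRing.lamSeries b = 1 + PowerSeries.C b * PowerSeries.X := by
    intro b hb
    apply PowerSeries.ext
    intro n
    rcases n with _ | _ | n
    · simp [LambdaRing.lamSeries, LambdaRing.LambdaOps.lam_zero]
    · simp [LambdaRing.lamSeries, LambdaRing.LambdaOps.lam_one]
    · have h := P.lam_eq_zero b hb.1 (n + 2) (by rw [hb.2]; push_cast; omega)
      simp [LambdaRing.lamSeries, h, PowerSeries.coeff_X, PowerSeries.coeff_one]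
  have hnat : ∀ m : ℕ, 0 < m → LambdaRing.lamSeries (m : K) = (1 + PowerSeries.X) ^ m := by
    intro m hm
    have h1 : LambdaRing.lamSeries (1 : K) = 1 + PowerSeries.X := by
      rw [hline 1 ⟨by simpa using P.natCast_mem 1 one_pos, map_one _⟩, map_one, one_mul]
    induction m with
    | zero => omega
    | succ m ih =>
      rcases Nat.eq_zero_or_pos m with rfl | hm'
      · simpa using h1
      · rw [Nat.cast_succ, hadd, ih hm', h1, pow_succ]
  -- a line element whose negative is positive up to an integer is unipotent
  have key : ∀ (b : K), P.IsLine b → ∀ (e : K) (m : ℕ), e ∈ P.pos → -b = e - m → IsNilpotent (b - 1) := by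
    intro b hb e m he hbe
    have haug := P.aug_pos e he
    have hm : P.aug e + 1 = (m : ℤ) := by
      have := congrArg P.aug hbe
      rw [map_neg, map_sub, map_natCast, hb.2] at this
      omega
    have hsum : b + e = (m : K) := by linear_combination -hbe
    have hser : LambdaRing.lamSeries b * LambdaRing.lamSeries e = (1 + PowerSeries.X) ^ m := by
      rw [← hadd, hsum, hnat m (by omega)]
    let Q : Polynomial K := ∑ i ∈ Finset.range m, Polynomial.C (LambdaRing.LambdaOps.lam i e) * Polynomial.X ^ i
    have hQ : (Q : PowerSeries K) = LambdaRing.lamSeries e := by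
      apply PowerSeries.ext
      intro n
      rw [Polynomial.coeff_coe]
      simp only [Q, Polynomial.finsetSum_coeff, Polynomial.coeff_C_mul, Polynomial.coeff_X_pow, mul_ite, mul_one, mul_zero,
        Finset.sum_ite_eq, Finset.mem_range, LambdaRing.lamSeries, PowerSeries.coeff_mk]
      split_ifs with h
      · rfl
      · exact (P.lam_eq_zero e he n (by omega)).symm
    have hpoly : (1 + Polynomial.C b * Polynomial.X) * Q = (1 + Polynomial.X) ^ m := by
      apply Polynomial.coe_injective K
      rw [Polynomial.coe_mul, Polynomial.coe_pow, hQ]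
      simp only [Polynomial.coe_add, Polynomial.coe_one, Polynomial.coe_mul, Polynomial.coe_C, Polynomial.coe_X]
      rw [← hline b hb, hser]
    obtain ⟨c, hc⟩ := (hunit b hb).exists_left_inv
    have h0 := congrArg (Polynomial.eval (-c)) hpoly
    simp only [Polynomial.eval_mul, Polynomial.eval_add, Polynomial.eval_one, Polynomial.eval_C, Polynomial.eval_X, Polynomial.eval_pow] at h0
    rw [show 1 + b * -c = 0 by linear_combination -hc, zero_mul] at h0
    refine ⟨m, ?_⟩
    rw [show b - 1 = b * (1 + -c) by linear_combination hc, mul_pow, ← h0, mul_zero]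
  obtain ⟨⟨hu1, hu2⟩, hamp⟩ := hu
  have hlinemul : ∀ a b : K, P.IsLine a → P.IsLine b → P.IsLine (a * b) := fun a b ha hb =>
    ⟨P.mul_mem a b ha.1 hb.1, by rw [map_mul, ha.2, hb.2, mul_one]⟩
  have hpow : ∀ n : ℕ, P.IsLine (u ^ n) := by
    intro n
    induction n with
    | zero => exact ⟨by simpa using P.natCast_mem 1 one_pos, by simp⟩
    | succ n ih => rw [pow_succ]; exact hlinemul _ _ ih ⟨hu1, hu2⟩
  obtain ⟨n₀, hn₀⟩ := hamp (-1)
  obtain ⟨n₁, hn₁⟩ := hamp (-w)
  set n := max n₀ n₁
  obtain ⟨e, m, he, hem⟩ := hn₀ n (le_max_left _ _)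
  obtain ⟨e', m', he', hem'⟩ := hn₁ n (le_max_right _ _)
  have h1 := key _ (hpow n) e m he (by rw [← hem]; ring)
  have h2 := key _ (hlinemul _ _ (hpow n) hw) e' m' he' (by rw [← hem']; ring)
  rw [show w - 1 = (u ^ n * w - 1) - w * (u ^ n - 1) by ring]
  exact (Commute.all _ _).isNilpotent_sub h2 ((Commute.all _ _).isNilpotent_mul_left h1)

end Groth.Agent.S3791
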