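import Groth.Statements.S3795
import Groth.Agent.KGrLib.Gr

set_option autoImplicit false
universe v u
open CategoryTheory CategoryTheory.Limits AlgebraicGeometry
attribute [local instance] HasDerivedCategory.standard
open KRR

namespace Groth.Agent.S3795

/-- Let K be a λ-ring with positive structure having the splitting property, j ≥ 2, n ≥ 0 and x ∈ K. If
ψ^j(x) - j^n x lies in ℚF^{n+1} (some positive multiple lies in F^{n+1}, γ-filtration), then x lies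
in ℚF^n (some positive multiple of x lies in F^n). -/
theorem result (K : Type v) [CommRing K] [LambdaRing.LambdaOps K] (P : LambdaRing.PosStructure K) (hK : LambdaRing.HasSplitting K P) (j : ℕ) (hj : 2 ≤ j) (n : ℕ) (x : K)
    (hx : ∃ N : ℕ, 1 ≤ N ∧ (N : K) * (LambdaRing.adams P j x - (j : K) ^ n * x) ∈ LambdaRing.gammaFiltration P (n + 1)) :
    ∃ N : ℕ, 1 ≤ N ∧ (N : K) * x ∈ LambdaRing.gammaFiltration P n := by
  obtain ⟨N, hN, hNx⟩ := hx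
  let Ψ : TensorProduct ℤ ℚ K →ₗ[ℚ] TensorProduct ℤ ℚ K := LinearMap.liftBaseChange ℚ
    ((TensorProduct.mk ℤ ℚ K 1).toAddMonoidHom.comp (LambdaSpLib.adamsAdd P j)).toIntLinearMap
  have hΨ : ∀ y : K, Ψ ((1 : ℚ) ⊗ₜ[ℤ] y) = (1 : ℚ) ⊗ₜ[ℤ] LambdaRing.adams P j y := fun y => by
    simp only [Ψ, LinearMap.liftBaseChange_tmul, one_smul]; rfl
  have htop : Ψ ((1 : ℚ) ⊗ₜ[ℤ] x) - ((j : ℚ) ^ n) • ((1 : ℚ) ⊗ₜ[ℤ] x) ∈ LambdaSpLib.qF P (n + 1) := by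
    have e : (N : ℚ) • (Ψ ((1 : ℚ) ⊗ₜ[ℤ] x) - ((j : ℚ) ^ n) • ((1 : ℚ) ⊗ₜ[ℤ] x)) =
        (1 : ℚ) ⊗ₜ[ℤ] ((N : K) * (LambdaRing.adams P j x - (j : K) ^ n * x)) := by
      rw [hΨ, ← nsmul_eq_mul, TensorProduct.tmul_smul, Nat.cast_smul_eq_nsmul, TensorProduct.tmul_sub,
        show (j : K) ^ n * x = (j ^ n) • x by simp, TensorProduct.tmul_smul, ← Nat.cast_smul_eq_nsmul ℚ (j ^ n)]
      simp
    have h2 := Submodule.smul_mem (LambdaSpLib.qF P (n + 1)) ((N : ℚ)⁻¹)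
      (e ▸ LambdaSpLib.tmul_mem_qF P hNx 1)
    rwa [smul_smul, inv_mul_cancel₀ (Nat.cast_ne_zero.mpr (by omega)), one_smul] at h2
  have key : ∀ m, m ≤ n → (1 : ℚ) ⊗ₜ[ℤ] x ∈ LambdaSpLib.qF P m := by
    intro m
    induction m with
    | zero => intro _; rw [LambdaSpLib.qF_zero]; trivial
    | succ m ih =>
      intro hm
      have h1 := LambdaSpLib.psi_sub_mem_qF P hK j Ψ hΨ m (ih (by omega))
      have h2 : Ψ ((1 : ℚ) ⊗ₜ[ℤ] x) - ((j : ℚ) ^ n) • ((1 : ℚ) ⊗ₜ[ℤ] x) ∈ LambdaSpLib.qF P (m + 1) :=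
        LambdaSpLib.qF_anti P (by omega) htop
      have h3 := sub_mem h1 h2
      rw [sub_sub_sub_cancel_left, ← sub_smul] at h3
      have hne : ((j : ℚ) ^ n - (j : ℚ) ^ m) ≠ 0 := by
        rw [sub_ne_zero]
        exact_mod_cast fun he => absurd (Nat.pow_right_injective hj he) (by omega)
      simpa [smul_smul, inv_mul_cancel₀ hne] using
        Submodule.smul_mem _ ((j : ℚ) ^ n - (j : ℚ) ^ m)⁻¹ h3
  obtain ⟨M, y, hM, hy, he⟩ := KGrLib.exists_tmul_of_mem_qF P (key n le_rfl)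
  have h0 : (1 : ℚ) ⊗ₜ[ℤ] ((M : K) * x - y) = 0 := by
    rw [TensorProduct.tmul_sub, ← he, ← nsmul_eq_mul, TensorProduct.tmul_smul,
      Nat.cast_smul_eq_nsmul, sub_self]
  obtain ⟨R, hR, hR'⟩ := KGrLib.exists_mul_eq_zero_of_tmul h0
  refine ⟨R * M, Nat.one_le_iff_ne_zero.mpr (Nat.mul_ne_zero hR hM), ?_⟩
  rw [mul_sub, sub_eq_zero] at hR'
  rw [Nat.cast_mul, mul_assoc, hR']
  exact LambdaSpLib.gf_smul_mem P n _ hy

end Groth.Agent.S3795
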