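import Groth.Statements.S3802
import Groth.Agent.KGrLib.Annih

set_option autoImplicit false
universe v u
open CategoryTheory CategoryTheory.Limits AlgebraicGeometry
attribute [local instance] HasDerivedCategory.standard
open KRR

namespace Groth.Agent.S3802

/-- Let K be a λ-ring with positive structure having the splitting property, c positive with ε(c) = r +
1, and K_c = K[T]/(p_c) with generator ℓ, equipped with a λ-structure extending that of K with
λ^i(ℓ) = 0 for i ≥ 2 and a positive structure making K ⟶ K_c an extension with ℓ a line element and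
c - ℓ positive (when r ≥ 1), having the splitting property; let f : K_c ⟶ K be the associated
K-linear functional (f(ℓ^i) = σ^i(c) for i ≤ r). If z ∈ K_c satisfies z (1 - ℓ) = 0, then z = f(z) ·
λ_{-1}(c - ℓ), where λ_{-1}(c - ℓ) = Σ_{i ≤ r} (-1)^i λ^i(c - ℓ). -/
theorem result (K : Type v) [CommRing K] [LambdaRing.LambdaOps K] (P : LambdaRing.PosStructure K) (hK : LambdaRing.HasSplitting K P) (c : K) (hc : c ∈ P.pos) (r : ℕ) (hr : P.aug c = r + 1)
    (inst : LambdaRing.LambdaOps (AdjoinRoot (KRR.extPoly P c))) (Pc : @LambdaRing.PosStructure _ _ inst)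
    (hext : @LambdaRing.IsExtension K _ _ _ _ inst P Pc (AdjoinRoot.of (KRR.extPoly P c)))
    (hroot : ∀ i : ℕ, 2 ≤ i → @LambdaRing.LambdaOps.lam _ _ inst i (AdjoinRoot.root (KRR.extPoly P c)) = 0)
    (hline : @LambdaRing.PosStructure.IsLine _ _ inst Pc (AdjoinRoot.root (KRR.extPoly P c)))
    (hpos : 1 ≤ r → AdjoinRoot.of (KRR.extPoly P c) c - AdjoinRoot.root (KRR.extPoly P c) ∈ (@LambdaRing.PosStructure.pos _ _ inst Pc))
    (hsplit : @LambdaRing.HasSplitting _ _ inst Pc)
    (f : AdjoinRoot (KRR.extPoly P c) →ₗ[K] K)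
    (hf : ∀ i : ℕ, i ≤ r → f (AdjoinRoot.root (KRR.extPoly P c) ^ i) = KRR.sigma i c)
    (z : AdjoinRoot (KRR.extPoly P c)) (hz : z * (1 - AdjoinRoot.root (KRR.extPoly P c)) = 0) :
    z = AdjoinRoot.of (KRR.extPoly P c) (f z) *
      @KRR.lamAlt _ _ inst Pc (AdjoinRoot.of (KRR.extPoly P c) c - AdjoinRoot.root (KRR.extPoly P c)) := by
  letI := inst
  have key : ∀ i, LambdaRing.LambdaOps.lam i ((AdjoinRoot.of (KRR.extPoly P c)) c - (AdjoinRoot.root (KRR.extPoly P c))) =
      ∑ k ∈ Finset.range (i + 1), (-1 : AdjoinRoot (KRR.extPoly P c)) ^ k * (AdjoinRoot.root (KRR.extPoly P c)) ^ k *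
        (AdjoinRoot.of (KRR.extPoly P c)) (LambdaRing.LambdaOps.lam (i - k) c) := by
    intro i
    induction i with
    | zero => simp [LambdaRing.LambdaOps.lam_zero]
    | succ n ih =>
      have h1 := LambdaSpLib.lam_add_line hroot n ((AdjoinRoot.of (KRR.extPoly P c)) c - (AdjoinRoot.root (KRR.extPoly P c)))
      rw [sub_add_cancel, ← hext.isLambdaHom, ih] at h1
      rw [Finset.sum_range_succ', pow_zero, pow_zero, one_mul, one_mul, Nat.sub_zero]
      have h2 : ∀ k ∈ Finset.range (n + 1), (-1 : AdjoinRoot (KRR.extPoly P c)) ^ (k + 1) * (AdjoinRoot.root (KRR.extPoly P c)) ^ (k + 1) *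
          (AdjoinRoot.of (KRR.extPoly P c)) (LambdaRing.LambdaOps.lam (n + 1 - (k + 1)) c) =
          -((AdjoinRoot.root (KRR.extPoly P c)) * ((-1) ^ k * (AdjoinRoot.root (KRR.extPoly P c)) ^ k * (AdjoinRoot.of (KRR.extPoly P c)) (LambdaRing.LambdaOps.lam (n - k) c))) := fun k _ => by
        rw [Nat.add_sub_add_right]; ring
      rw [Finset.sum_congr rfl h2, Finset.sum_neg_distrib, ← Finset.mul_sum]
      linear_combination -h1
  -- the alternating sum is the quotient polynomial
  have haug : (Pc.aug ((AdjoinRoot.of (KRR.extPoly P c)) c - (AdjoinRoot.root (KRR.extPoly P c)))).toNat = r := by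
    rw [map_sub, hext.aug_comp, hline.2, hr]; omega
  have hG : KRR.lamAlt Pc ((AdjoinRoot.of (KRR.extPoly P c)) c - (AdjoinRoot.root (KRR.extPoly P c))) = AdjoinRoot.mk (KRR.extPoly P c) (KGrLib.quoPoly c r) := by
    rw [KRR.lamAlt, haug, KGrLib.quoPoly, map_sum]
    simp only [key, Finset.mul_sum]
    rw [Finset.sum_comm' (t' := Finset.range (r + 1)) (s' := fun k => Finset.Ico k (r + 1))
      (h := fun i k => by simp only [Finset.mem_range, Finset.mem_Ico]; omega)]
    refine Finset.sum_congr rfl fun k hk => ?_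
    simp only [Finset.mem_range] at hk
    rw [map_mul, AdjoinRoot.mk_C, map_pow, AdjoinRoot.mk_X, KGrLib.altTrunc, map_sum, Finset.sum_mul,
      Finset.sum_Ico_eq_sum_range, show r + 1 - k = r - k + 1 by omega]
    refine Finset.sum_congr rfl fun j _ => ?_
    rw [show k + j - k = j by omega, map_mul, map_pow, map_neg, map_one, pow_add]
    have : (-1 : AdjoinRoot (KRR.extPoly P c)) ^ k * (-1) ^ k = 1 := by rw [← mul_pow]; simp
    linear_combination ((-1 : AdjoinRoot (KRR.extPoly P c)) ^ j * (AdjoinRoot.root (KRR.extPoly P c)) ^ k * (AdjoinRoot.of (KRR.extPoly P c)) (LambdaRing.LambdaOps.lam j c)) * this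
  have hfG : f (KRR.lamAlt Pc ((AdjoinRoot.of (KRR.extPoly P c)) c - (AdjoinRoot.root (KRR.extPoly P c)))) = 1 := by
    rw [KRR.lamAlt, haug, map_sum, Finset.sum_range_succ', Finset.sum_eq_zero, zero_add, pow_zero,
      one_mul, LambdaRing.LambdaOps.lam_zero]
    · have := hf 0 (Nat.zero_le _)
      rwa [pow_zero, KGrLib.sigma_zero] at this
    · intro i hi
      rw [show ((-1 : AdjoinRoot (KRR.extPoly P c)) ^ (i + 1)) * LambdaRing.LambdaOps.lam (i + 1) ((AdjoinRoot.of (KRR.extPoly P c)) c - (AdjoinRoot.root (KRR.extPoly P c))) =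
          ((-1 : K) ^ (i + 1)) • LambdaRing.LambdaOps.lam (i + 1) ((AdjoinRoot.of (KRR.extPoly P c)) c - (AdjoinRoot.root (KRR.extPoly P c))) by
        rw [Algebra.smul_def, map_pow, map_neg, map_one], map_smul]
      have h3 : f (LambdaRing.LambdaOps.lam (i + 1) ((AdjoinRoot.of (KRR.extPoly P c)) c - (AdjoinRoot.root (KRR.extPoly P c)))) = 0 := by
        rw [key, map_sum, ← Finset.sum_range_reflect]
        have := congrArg (fun z => (-1 : K) ^ (i + 1) * z) (KGrLib.sigma_rel c (k := i + 1) (by omega))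
        rw [mul_zero, Finset.mul_sum] at this
        refine (Finset.sum_congr rfl fun j hj => ?_).trans this
        simp only [Finset.mem_range] at hj
        rw [show i + 1 + 1 - 1 - j = i + 1 - j by omega, show i + 1 - (i + 1 - j) = j by omega,
          show (-1 : AdjoinRoot (KRR.extPoly P c)) ^ (i + 1 - j) * (AdjoinRoot.root (KRR.extPoly P c)) ^ (i + 1 - j) * (AdjoinRoot.of (KRR.extPoly P c)) (LambdaRing.LambdaOps.lam j c) =
            ((-1 : K) ^ (i + 1 - j) * LambdaRing.LambdaOps.lam j c) • (AdjoinRoot.root (KRR.extPoly P c)) ^ (i + 1 - j) by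
          rw [Algebra.smul_def, map_mul, map_pow, map_neg, map_one, AdjoinRoot.algebraMap_eq]; ring,
          map_smul, KGrLib.f_root_pow P hc hr f hf, smul_eq_mul]
        have hs : (-1 : K) ^ (i + 1 - j) = (-1) ^ (i + 1) * (-1) ^ j := by
          rw [← pow_add, show i + 1 + j = (i + 1 - j) + 2 * j by omega, pow_add, pow_mul]
          simp
        rw [hs]; ring
      rw [h3, smul_zero]
  obtain ⟨q, hq⟩ := KGrLib.annihilator_eq P hr z hz
  rw [← hG] at hq
  rw [hq, map_smul, hfG, smul_eq_mul, mul_one, Algebra.smul_def, AdjoinRoot.algebraMap_eq]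

end Groth.Agent.S3802
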