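import Groth.Statements.S3804
import Groth.Agent.KRRRegLib.ElemARR
import Groth.Agent.KRRRegLib.LamAlg

set_option autoImplicit false
universe v u
open CategoryTheory CategoryTheory.Limits AlgebraicGeometry
attribute [local instance] HasDerivedCategory.standard
open scoped TensorProduct
open KRR

set_option maxHeartbeats 1000000
set_option linter.all false

namespace Groth.Agent.S3804

open LambdaRing LambdaSpLib

/-- Twisting by a line element. -/
theorem lam_mul_line {B : Type v} [CommRing B] [LambdaOps B] (P : PosStructure B)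
    (hP : HasSplitting B P) {w : B} (hw : P.IsLine w) (x : B) (j : ℕ) :
    LambdaOps.lam j (w * x) = w ^ j * LambdaOps.lam j x := by
  have key : ∀ e ∈ P.pos, ∀ j, LambdaOps.lam j (w * e) = w ^ j * LambdaOps.lam j e := by
    intro e he j
    obtain ⟨L, f, hf, -, h⟩ := exists_split P hP [e] (by simp [he])
    obtain ⟨s, hs, hse⟩ := h e (by simp)
    have hfw := line_map hf hw
    apply hf.injective
    rw [map_mul, map_pow, hf.isLambdaHom, hf.isLambdaHom, map_mul, ← hse,
      lam_sum_lines fun u hu => line_lam (hs u hu),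
      show f w * s.sum = (s.map fun u => f w * u).sum by rw [Multiset.sum_map_mul_left, Multiset.map_id'],
      ← KRRRegLib.esymm_map_smul]
    refine lam_sum_lines (fun u hu => ?_) j
    obtain ⟨u', hu', rfl⟩ := Multiset.mem_map.1 hu
    exact line_lam (line_mul hfw (hs u' hu'))
  obtain ⟨e, e', he, he', rfl⟩ := P.exists_sub x
  exact KRRRegLib.lam_line_mul_of_pos (key e' he') (by rw [sub_add_cancel]; exact key e he) j

theorem isNilpotent_of_aug {B : Type v} [CommRing B] [LambdaOps B] (P : PosStructure B) {N : ℕ}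
    (hN : gammaFiltration P N = ⊥) {x : B} (hx : P.aug x = 0) : x ^ N = 0 := by
  have h : ∀ n, x ^ n ∈ gammaFiltration P n := by
    intro n
    induction n with
    | zero => rw [gf_zero]; trivial
    | succ n ih =>
      rw [pow_succ]
      exact gf_mul P ih (by simpa only [gamma_one] using gamma_mem_gf P hx 1)
  have := h N
  rwa [hN, AddSubgroup.mem_bot] at this


theorem main {K E : Type v} [CommRing K] [CommRing E] [LambdaOps E] (Pe : PosStructure E) {N : ℕ}
    (hN : gammaFiltration Pe N = ⊥) (f : E →+ K) (q : K →+* E) (hfq : ∀ k y, f (q k * y) = k * f y)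
    (r : ℕ) (l li : E) (d : ℕ → E)
    (hrep : ∀ y, y = ∑ a ∈ Finset.range (r + 1), d a * q (f (li ^ a * y)))
    (hdual : ∀ a b, a ≤ r → b ≤ r → f (li ^ b * d a) = if a = b then 1 else 0)
    (hdec : ∀ y, ∃ k y', y = q k + (l - 1) * y') (hv : (l - 1) ^ N = 0)
    (ψ : E →+* E) (ψ₀ : K →+* K) (hψq : ∀ k, ψ (q k) = q (ψ₀ k)) (j : ℕ) (hψl : ψ l = l ^ j) (hψli : ψ li = li ^ j)
    (Θ : Polynomial E)
    (hΘ : ∑ a ∈ Finset.range (r + 1), Polynomial.C (ψ (d a)) * Polynomial.X ^ (j * a) =
      (∑ a ∈ Finset.range (r + 1), Polynomial.C (d a) * Polynomial.X ^ a) * Θ)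
    (b : E) (hb : b = (j : E) * Θ.eval li) (hbaug : Pe.aug b = (j : ℤ) ^ (r + 1))
    (R : Type) [CommRing R] (u : Rˣ) (hu : (u : R) = (j : R)) :
    (∃ w : TensorProduct ℤ R E, w * ((1 : R) ⊗ₜ[ℤ] b) = 1) ∧
      ∀ w : TensorProduct ℤ R E, w * ((1 : R) ⊗ₜ[ℤ] b) = 1 → ∀ x : E,
        (1 : R) ⊗ₜ[ℤ] ψ₀ (f x) =
          LinearMap.lTensor R f.toIntLinearMap ((j : TensorProduct ℤ R E) * w * ((1 : R) ⊗ₜ[ℤ] ψ x)) := by
  refine ⟨?_, fun w hw x => KRRRegLib.arr_formula q f hfq r l li d hrep hdual hdec hv ψ ψ₀ hψq j hψl hψli Θ hΘ b hb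
    R u hu w hw x⟩
  let ι : E →+* TensorProduct ℤ R E := (Algebra.TensorProduct.includeRight (R := ℤ) (A := R) (B := E)).toRingHom
  have hz : IsNilpotent (ι (b - (j : E) ^ (r + 1))) :=
    IsNilpotent.map ⟨N, isNilpotent_of_aug Pe hN (by rw [map_sub, map_pow, map_natCast, hbaug, sub_self])⟩ ι
  have hj : IsUnit ((j : TensorProduct ℤ R E) ^ (r + 1)) := by
    rw [← map_natCast (Algebra.TensorProduct.includeLeftRingHom : R →+* TensorProduct ℤ R E) j, ← hu]
    exact (u.isUnit.map _).pow _
  obtain ⟨w, hw⟩ := (hz.isUnit_add_left_of_commute hj (Commute.all _ _))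
  refine ⟨↑(w⁻¹), ?_⟩
  show (↑(w⁻¹) : TensorProduct ℤ R E) * ι b = 1
  rw [show ι b = (j : TensorProduct ℤ R E) ^ (r + 1) + ι (b - (j : E) ^ (r + 1)) by
    rw [map_sub, map_pow, map_natCast]; ring, ← hw, Units.inv_mul]

/-- For the model elementary projection: let K be a λ-ring with positive structure having the splitting
property, e positive with ε(e) = r + 1, K_e = K[T]/(p_e) with generator ℓ (a unit, inverse linv),
carrying a λ-structure extending that of K with λ^i(ℓ) = 0 for i ≥ 2 and a positive structure making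
K ⟶ K_e an extension with ℓ a line element and e - ℓ positive (when r ≥ 1), having the splitting
property, and with F^N K_e = 0 for some N (the published statement assumes instead that 1 - u is
nilpotent for all line elements u of the rings in play). Let f : K_e ⟶ K be the associated K-linear
functional (f(ℓ^i) = σ^i(e), i ≤ r) and j ≥ 1. The published statement's hypothesis 'j invertible in
K' is read here after tensoring with R = ℤ[1/j] (no λ-ring with an augmentation onto ℤ has j
invertible for j ≥ 2). Then 1 ⊗ θ^j(e ℓ⁻¹) is invertible in R ⊗ K_e, and for every inverse w of it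
and every x ∈ K_e: 1 ⊗ ψ^j(f(x)) = (R ⊗ f)(j · w · (1 ⊗ ψ^j(x))) in R ⊗ K. -/
theorem result (K : Type v) [CommRing K] [LambdaRing.LambdaOps K] (P : LambdaRing.PosStructure K) (hK : LambdaRing.HasSplitting K P) (e : K) (he : e ∈ P.pos) (r : ℕ) (hr : P.aug e = r + 1)
    (inst : LambdaRing.LambdaOps (AdjoinRoot (KRR.extPoly P e))) (Pe : @LambdaRing.PosStructure _ _ inst)
    (hext : @LambdaRing.IsExtension K _ _ _ _ inst P Pe (AdjoinRoot.of (KRR.extPoly P e)))
    (hroot : ∀ i : ℕ, 2 ≤ i → @LambdaRing.LambdaOps.lam _ _ inst i (AdjoinRoot.root (KRR.extPoly P e)) = 0)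
    (hline : @LambdaRing.PosStructure.IsLine _ _ inst Pe (AdjoinRoot.root (KRR.extPoly P e)))
    (hpos : 1 ≤ r → AdjoinRoot.of (KRR.extPoly P e) e - AdjoinRoot.root (KRR.extPoly P e) ∈ (@LambdaRing.PosStructure.pos _ _ inst Pe))
    (hsplit : @LambdaRing.HasSplitting _ _ inst Pe) (N : ℕ) (hN : @LambdaRing.gammaFiltration _ _ inst Pe N = ⊥)
    (f : AdjoinRoot (KRR.extPoly P e) →ₗ[K] K)
    (hf : ∀ i : ℕ, i ≤ r → f (AdjoinRoot.root (KRR.extPoly P e) ^ i) = KRR.sigma i e)
    (linv : AdjoinRoot (KRR.extPoly P e)) (hlinv : linv * AdjoinRoot.root (KRR.extPoly P e) = 1)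
    (j : ℕ) (hj : 1 ≤ j) :
    (∃ w : TensorProduct ℤ (Localization.Away (j : ℤ)) (AdjoinRoot (KRR.extPoly P e)), w * ((1 : Localization.Away (j : ℤ)) ⊗ₜ[ℤ] @KRR.bott _ _ inst Pe j (AdjoinRoot.of (KRR.extPoly P e) e * linv)) = 1) ∧
    ∀ w : TensorProduct ℤ (Localization.Away (j : ℤ)) (AdjoinRoot (KRR.extPoly P e)), w * ((1 : Localization.Away (j : ℤ)) ⊗ₜ[ℤ] @KRR.bott _ _ inst Pe j (AdjoinRoot.of (KRR.extPoly P e) e * linv)) = 1 →
      ∀ x : AdjoinRoot (KRR.extPoly P e),
        (1 : Localization.Away (j : ℤ)) ⊗ₜ[ℤ] LambdaRing.adams P j (f x) =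
          LinearMap.lTensor (Localization.Away (j : ℤ)) f.toAddMonoidHom.toIntLinearMap
            ((j : TensorProduct ℤ (Localization.Away (j : ℤ)) (AdjoinRoot (KRR.extPoly P e))) * w * ((1 : Localization.Away (j : ℤ)) ⊗ₜ[ℤ] @LambdaRing.adams _ _ inst Pe j x)) := by
  letI := inst
  let q : K →+* AdjoinRoot (KRR.extPoly P e) := AdjoinRoot.of (KRR.extPoly P e)
  let l := AdjoinRoot.root (KRR.extPoly P e)
  let c := q e - l
  let d : ℕ → AdjoinRoot (KRR.extPoly P e) := fun a => (-1) ^ a * LambdaOps.lam a c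
  have hrN : (P.aug e).toNat = r + 1 := by rw [hr]; omega
  have hfq : ∀ k y, f (q k * y) = k * f y := fun k y => by
    rw [show q k * y = k • y by rw [Algebra.smul_def]; rfl, map_smul, smul_eq_mul]
  have hll : linv * l = 1 := hlinv
  -- a splitting of the complement of the root
  obtain ⟨L, g, hg, hL, s, hs, hsc, hscard⟩ : ∃ (L : PosLambdaRing.{v}) (g : AdjoinRoot (KRR.extPoly P e) →+* L.carrier),
      IsExtension Pe L.posStr g ∧ HasSplitting L.carrier L.posStr ∧
      ∃ s : Multiset L.carrier, (∀ u ∈ s, L.posStr.IsLine u) ∧ s.sum = g c ∧ s.card = r := by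
    rcases Nat.eq_zero_or_pos r with rfl | hr1
    · have hc : c = 0 := by
        have h := KGrLib.root_rel P e
        rw [hrN, Finset.sum_range_succ, Finset.sum_range_one] at h
        simp [LambdaOps.lam_zero, LambdaOps.lam_one, add_neg_eq_zero] at h
        show q e - l = 0
        rw [show l = q e from h, sub_self]
      exact ⟨⟨_, Pe⟩, RingHom.id _, isExtension_id, hsplit, 0, by simp, by simp [hc], rfl⟩
    · have hcpos : c ∈ Pe.pos := hpos hr1
      obtain ⟨L, g, hg, hL, h⟩ := exists_split Pe hsplit [c] (by simp [hcpos])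
      obtain ⟨s, hs, hsc⟩ := h c (by simp)
      refine ⟨L, g, hg, hL, s, hs, hsc, ?_⟩
      have h1 := card_of_sum hs hsc
      rw [hg.aug_comp, show Pe.aug c = (r : ℤ) by
        show Pe.aug (q e - l) = _
        rw [map_sub, hext.aug_comp, hline.2, hr]; ring] at h1
      omega
  have hgl : L.posStr.IsLine (g l) := line_map hg hline
  have hd : ∀ a, d (a + 1) = q ((-1) ^ (a + 1) * LambdaOps.lam (a + 1) e) + l * d a := by
    intro a
    have h := lam_add_line (a := l) hroot a c
    rw [show c + l = q e by simp [c]] at h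
    show (-1) ^ (a + 1) * LambdaOps.lam (a + 1) c = _ + l * ((-1) ^ a * LambdaOps.lam a c)
    rw [map_mul, map_pow, map_neg, map_one, hext.isLambdaHom, h]
    ring
  have hd0 : d 0 = 1 := by simp [d, LambdaOps.lam_zero]
  have hdtop : ∀ a, r < a → d a = 0 := by
    intro a ha
    show (-1) ^ a * LambdaOps.lam a c = 0
    rw [show LambdaOps.lam a c = 0 from hg.injective (by
      rw [map_zero, KRRRegLib.lam_split hg hs hsc, esymm_eq_zero_of_card_lt _ (by omega)]), mul_zero]
  have hfl := KGrLib.f_root_pow P he hr f hf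
  have hfli := KGrLib.f_linv_pow P he hr f hf linv hlinv
  have hfmix : ∀ a n, a ≤ r → f (linv ^ a * l ^ n) = if a ≤ n then KRR.sigma (n - a) e else 0 := by
    intro a n ha
    split
    · next h =>
      obtain ⟨k, rfl⟩ := Nat.exists_eq_add_of_le h
      rw [pow_add, ← mul_assoc, ← mul_pow, hll, one_pow, one_mul, Nat.add_sub_cancel_left, hfl]
    · next h =>
      obtain ⟨k, rfl⟩ := Nat.exists_eq_add_of_le (show n ≤ a by omega)
      rw [add_comm n k, pow_add, mul_assoc, ← mul_pow, hll, one_pow, mul_one]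
      exact hfli k (by omega) (by omega)
  have hsum : ∀ n, ∑ a ∈ Finset.range (n + 1), d a * q (KRR.sigma (n - a) e) = l ^ n := by
    intro n
    induction n with
    | zero => simp [hd0, KGrLib.sigma_zero]
    | succ n ih =>
      rw [Finset.sum_range_succ', hd0, one_mul, Nat.sub_zero, pow_succ', ← ih, Finset.mul_sum]
      have h := congrArg q (KGrLib.sigma_rel e (k := n + 1) (by omega))
      rw [map_sum, map_zero, Finset.sum_range_succ', pow_zero, LambdaOps.lam_zero, one_mul, one_mul, Nat.sub_zero] at h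
      have e1 : ∀ a ∈ Finset.range (n + 1), d (a + 1) * q (KRR.sigma (n + 1 - (a + 1)) e) =
          q ((-1) ^ (a + 1) * LambdaOps.lam (a + 1) e * KRR.sigma (n + 1 - (a + 1)) e) +
            l * (d a * q (KRR.sigma (n - a) e)) := fun a ha => by
        rw [hd, map_mul q (_ * _), show n + 1 - (a + 1) = n - a by omega]; ring
      rw [Finset.sum_congr rfl e1, Finset.sum_add_distrib, add_right_comm, h, zero_add]
  have hrep : ∀ y, y = ∑ a ∈ Finset.range (r + 1), d a * q (f (linv ^ a * y)) := by
    intro y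
    obtain ⟨p, rfl⟩ := AdjoinRoot.mk_surjective y
    induction p using Polynomial.induction_on' with
    | add p p' hp hp' =>
      simp only [map_add, mul_add, Finset.sum_add_distrib]
      rw [← hp, ← hp']
    | monomial n k =>
      rw [← Polynomial.C_mul_X_pow_eq_monomial, map_mul, map_pow, AdjoinRoot.mk_C, AdjoinRoot.mk_X]
      show q k * l ^ n = _
      rw [← hsum n, Finset.mul_sum]
      have e1 : ∀ a ∈ Finset.range (r + 1), d a * q (f (linv ^ a * (q k * ∑ b ∈ Finset.range (n + 1), d b * q (KRR.sigma (n - b) e)))) =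
          if a ≤ n then q k * (d a * q (KRR.sigma (n - a) e)) else 0 := fun a ha => by
        rw [hsum n, mul_left_comm (linv ^ a), hfq, hfmix a n (Nat.lt_succ_iff.1 (Finset.mem_range.1 ha)), map_mul]
        split
        · ring
        · rw [map_zero, mul_zero, mul_zero]
      rw [← Finset.mul_sum, Finset.sum_congr rfl e1, Finset.mul_sum]
      refine Finset.sum_congr_of_eq_on_inter (fun a ha ha' => ?_) (fun a ha ha' => ?_) fun a ha ha' => ?_
      · rw [hdtop a (by simp only [Finset.mem_range] at ha'; omega), zero_mul, mul_zero]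
      · rw [if_neg (by simp only [Finset.mem_range] at ha'; omega)]
      · rw [if_pos (Nat.lt_succ_iff.1 (Finset.mem_range.1 ha))]
  have hfd : ∀ a, f (d a) = if a = 0 then 1 else 0 := by
    have hde : ∀ a, d a = ∑ i ∈ Finset.range (a + 1), q ((-1) ^ i * LambdaOps.lam i e) * l ^ (a - i) := by
      intro a
      induction a with
      | zero => simp [hd0, LambdaOps.lam_zero]
      | succ a ih =>
        rw [Finset.sum_range_succ, Nat.sub_self, pow_zero, mul_one, hd, ih, Finset.mul_sum, add_comm]
        congr 1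
        refine Finset.sum_congr rfl fun i hi => ?_
        rw [show a + 1 - i = (a - i) + 1 by have := Finset.mem_range.1 hi; omega, pow_succ]
        ring
    intro a
    rw [hde, map_sum]
    simp only [hfq, show ∀ m, f (l ^ m) = KRR.sigma m e from hfl]
    split
    · next h => subst h; simp [LambdaOps.lam_zero, KGrLib.sigma_zero]
    · next h => exact KGrLib.sigma_rel e (by omega)
  have hdual : ∀ a b, a ≤ r → b ≤ r → f (linv ^ b * d a) = if a = b then 1 else 0 := by
    intro a
    induction a with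
    | zero =>
      intro b _ hb
      rw [hd0, mul_one]
      rcases b with _ | b
      · rw [pow_zero, if_pos rfl, show (1 : AdjoinRoot (KRR.extPoly P e)) = l ^ 0 from (pow_zero l).symm,
          show f (l ^ 0) = KRR.sigma 0 e from hfl 0, KGrLib.sigma_zero]
      · rw [if_neg (by omega)]; exact hfli _ (by omega) hb
    | succ a ih =>
      intro b ha hb
      rcases b with _ | b
      · rw [pow_zero, one_mul, hfd]
      · rw [hd, mul_add, map_add, mul_comm (linv ^ (b + 1)), hfq, hfli _ (by omega) hb, mul_zero, zero_add,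
          show linv ^ (b + 1) * (l * d a) = linv ^ b * d a by
            rw [pow_succ, mul_assoc, ← mul_assoc linv, hll, one_mul], ih b (by omega) (by omega)]
        simp
  have hdec : ∀ y, ∃ k y', y = q k + (l - 1) * y' := by
    intro y
    obtain ⟨p, rfl⟩ := AdjoinRoot.mk_surjective y
    obtain ⟨p', hp'⟩ := Polynomial.X_sub_C_dvd_sub_C_eval (a := (1 : K)) (p := p)
    refine ⟨p.eval 1, AdjoinRoot.mk _ p', ?_⟩
    have h := congrArg (AdjoinRoot.mk (KRR.extPoly P e)) hp'
    rw [map_sub, map_mul, map_sub, AdjoinRoot.mk_C, AdjoinRoot.mk_X, AdjoinRoot.mk_C, map_one] at h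
    rw [← h]
    simp [q]
  have hv : (l - 1) ^ N = 0 := isNilpotent_of_aug Pe hN (by rw [map_sub, map_one, hline.2, sub_self])
  -- the Adams operations
  let ψ := adamsRingHom Pe hsplit j
  let ψ₀ := adamsRingHom P hK j
  have hψq : ∀ k, ψ (q k) = q (ψ₀ k) := fun k => (adams_map hext j k).symm
  have hψl : ψ l = l ^ j := adams_line hline j
  have hψli : ψ linv = linv ^ j := by
    have h : ψ linv * l ^ j = 1 := by rw [← hψl, ← map_mul, hll, map_one]
    calc ψ linv = ψ linv * (l * linv) ^ j := by rw [mul_comm l, hll, one_pow, mul_one]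
      _ = (ψ linv * l ^ j) * linv ^ j := by rw [mul_pow, mul_assoc]
      _ = _ := by rw [h, one_mul]
  let Θ := KRRRegLib.thetaPoly c j r
  have hΘ : ∑ a ∈ Finset.range (r + 1), Polynomial.C (ψ (d a)) * Polynomial.X ^ (j * a) =
      (∑ a ∈ Finset.range (r + 1), Polynomial.C (d a) * Polynomial.X ^ a) * Θ := by
    rw [← KRRRegLib.adams_delta hg hs hsc hL j r hscard]
    refine Finset.sum_congr rfl fun a _ => ?_
    congr 2
    show ψ ((-1) ^ a * LambdaOps.lam a c) = _
    rw [map_mul, map_pow, map_neg, map_one]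
    rfl
  -- the cannibalistic class
  have hlam : ∀ i, LambdaOps.lam i (q e * linv) = linv ^ i * LambdaOps.lam i (q e) := fun i => by
    have h := lam_mul_line Pe hsplit hline (q e * linv) i
    rw [show AdjoinRoot.root (KRR.extPoly P e) * (q e * linv) = q e by
      rw [mul_left_comm, mul_comm _ linv, hll, mul_one]] at h
    rw [h, ← mul_assoc, ← mul_pow, hll, one_pow, one_mul]
  have haug : (Pe.aug (q e * linv)).toNat = r + 1 := by
    have h := congrArg Pe.aug hll
    rw [map_mul, hline.2, mul_one, map_one] at h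
    rw [map_mul, hext.aug_comp, h, mul_one, hrN]
  set b := @KRR.bott _ _ inst Pe j (AdjoinRoot.of (KRR.extPoly P e) e * linv) with hbdef
  have hgb : g b = (((g l ::ₘ s).map fun u => g linv * u).map (fun u => ∑ k ∈ Finset.range j, u ^ k)).prod := by
    rw [hbdef, KRR.bott, haug, KRRRegLib.map_aeval_int]
    refine Eq.trans ?_ (KRRRegLib.aeval_bottPoly _ (r + 1) (by simp [hscard]) j)
    congr 1
    congr 1
    funext i
    rw [show LambdaOps.lam (i.1 + 1) (AdjoinRoot.of (KRR.extPoly P e) e * linv) =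
        linv ^ (i.1 + 1) * LambdaOps.lam (i.1 + 1) (q e) from hlam _, map_mul, map_pow, KRRRegLib.esymm_map_smul]
    congr 1
    rw [hg.isLambdaHom, ← lam_sum_lines (fun u hu => line_lam (show L.posStr.IsLine u by
      rcases Multiset.mem_cons.1 hu with rfl | hu
      exacts [hgl, hs u hu])), Multiset.sum_cons, hsc, ← map_add, show l + c = q e by simp [c]]
  have hb : b = (j : AdjoinRoot (KRR.extPoly P e)) * Θ.eval linv := by
    apply hg.injective
    rw [hgb, map_mul, map_natCast, Multiset.map_cons, Multiset.map_cons, Multiset.prod_cons,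
      ← map_mul g linv l, hll, map_one]
    congr 1
    · simp
    · rw [← Polynomial.eval_map_apply, KRRRegLib.map_thetaPoly hg hs hsc j r hscard, Polynomial.eval_multiset_prod,
        Multiset.map_map, Multiset.map_map]
      congr 1
      refine Multiset.map_congr rfl fun u _ => ?_
      rw [Function.comp_apply, Function.comp_apply, Polynomial.eval_finsetSum]
      exact Finset.sum_congr rfl fun k _ => by
        rw [Polynomial.eval_pow, Polynomial.eval_mul, Polynomial.eval_X, Polynomial.eval_C]
  have hbaug : Pe.aug b = (j : ℤ) ^ (r + 1) := by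
    rw [← hg.aug_comp, hgb, map_multiset_prod, Multiset.map_map, Multiset.map_map]
    have hgli : L.posStr.aug (g linv) = 1 := by
      have h := congrArg (fun z => L.posStr.aug (g z)) hll
      simpa [hgl.2] using h
    rw [Multiset.map_congr rfl (g := fun _ => (j : ℤ)) fun u hu => ?_, Multiset.map_const',
      Multiset.prod_replicate, Multiset.card_cons, hscard]
    have hu' : L.posStr.aug u = 1 := by
      rcases Multiset.mem_cons.1 hu with rfl | hu
      exacts [hgl.2, (hs u hu).2]
    simp [hgli, hu']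
  obtain ⟨u, hu⟩ : IsUnit ((j : ℕ) : Localization.Away (j : ℤ)) := by
    simpa using IsLocalization.Away.algebraMap_isUnit (S := Localization.Away (j : ℤ)) (j : ℤ)
  exact main Pe hN f.toAddMonoidHom q hfq r l linv d hrep hdual hdec hv ψ ψ₀ hψq j hψl hψli Θ hΘ b hb hbaug
    (Localization.Away (j : ℤ)) u hu

end Groth.Agent.S3804
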