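import Groth.Statements.S3824
import Mathlib


-- import your own Groth.Agent.* helpers here

set_option autoImplicit false
universe u
open QReg16

namespace Groth.Agent.S3824

/-- Let f_1, …, f_n be a quasi-regular sequence in a ring A and f'_1, …, f'_n another sequence of the
same length generating the same ideal. Then (f'_i) is quasi-regular. -/
theorem result {A : Type u} [CommRing A] {n : ℕ} (f f' : Fin n → A)
    (hf : CAlgX.IsQuasiRegular f) (h : Ideal.span (Set.range f') = Ideal.span (Set.range f)) :
    CAlgX.IsQuasiRegular f' := by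
  classical
  set J := Ideal.span (Set.range f) with hJ
  have hM : ∀ i, ∃ a : Fin n → A, ∑ j, a j * f j = f' i := fun i =>
    Ideal.mem_span_range_iff_exists_fun.1 (h.le (Ideal.subset_span ⟨i, rfl⟩))
  have hN : ∀ i, ∃ a : Fin n → A, ∑ j, a j * f' j = f i := fun i =>
    Ideal.mem_span_range_iff_exists_fun.1 (h.ge (Ideal.subset_span ⟨i, rfl⟩))
  choose M hM using hM
  choose N hN using hN
  set π := Ideal.Quotient.mk J with hπ
  have hrel : ∀ a : Fin n → A, ∑ j, a j * f j = 0 → ∀ j, a j ∈ J := by
    intro a ha j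
    have := hf 1 (∑ j, MvPolynomial.C (a j) * MvPolynomial.X j)
      (MvPolynomial.IsHomogeneous.sum _ _ _ fun j _ => MvPolynomial.isHomogeneous_C_mul_X _ _)
      (by simp [map_sum, ha]) (Finsupp.single j 1)
    simpa [MvPolynomial.coeff_sum, MvPolynomial.coeff_C_mul, MvPolynomial.coeff_X,
      Finsupp.single_left_inj] using this
  let Mb : Matrix (Fin n) (Fin n) (A ⧸ J) := fun i j => π (M i j)
  let Nb : Matrix (Fin n) (Fin n) (A ⧸ J) := fun i j => π (N i j)
  have hNM : Nb * Mb = 1 := by
    ext i j
    have h0 : ∑ j, ((∑ k, N i k * M k j) - if i = j then 1 else 0) * f j = 0 := by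
      simp only [sub_mul, Finset.sum_sub_distrib, ite_mul, one_mul, zero_mul, Finset.sum_ite_eq,
        Finset.mem_univ, if_true, Finset.sum_mul]
      rw [sub_eq_zero, Finset.sum_comm]
      conv_rhs => rw [← hN i]
      exact Finset.sum_congr rfl fun k _ => by
        rw [← hM k, Finset.mul_sum]; exact Finset.sum_congr rfl fun j _ => mul_assoc _ _ _
    have := hrel _ h0 j
    rw [← Ideal.Quotient.eq_zero_iff_mem, map_sub, sub_eq_zero] at this
    rw [Matrix.mul_apply, Matrix.one_apply]
    show ∑ k, π (N i k) * π (M k j) = _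
    simp only [← map_mul, ← map_sum, hπ, this]
    split_ifs <;> simp
  have hMN : Mb * Nb = 1 := mul_eq_one_comm.1 hNM
  intro d P hP he
  rw [h] at he ⊢
  let σ : MvPolynomial (Fin n) A →ₐ[A] MvPolynomial (Fin n) A :=
    MvPolynomial.aeval fun i => ∑ j, MvPolynomial.C (M i j) * MvPolynomial.X j
  have hσ : (σ P).IsHomogeneous d := by
    have := hP.aeval (g := fun i => ∑ j, MvPolynomial.C (M i j) * MvPolynomial.X j) (n := 1)
      fun i => MvPolynomial.IsHomogeneous.sum _ _ _ fun j _ => MvPolynomial.isHomogeneous_C_mul_X _ _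
    simpa [σ] using this
  have hev : MvPolynomial.eval f (σ P) = MvPolynomial.eval f' P := by
    have : (MvPolynomial.aeval f).comp σ = MvPolynomial.aeval f' := by
      ext i
      simp [σ, map_sum, hM]
    simpa using AlgHom.congr_fun this P
  have hc := hf d (σ P) hσ (by rw [hev]; exact he)
  have h0 : MvPolynomial.map π (σ P) = 0 := by
    ext e
    rw [MvPolynomial.coeff_map, MvPolynomial.coeff_zero]
    exact Ideal.Quotient.eq_zero_iff_mem.2 (hc e)
  let τ : MvPolynomial (Fin n) A →+* MvPolynomial (Fin n) (A ⧸ J) :=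
    ((MvPolynomial.aeval fun i => ∑ j, MvPolynomial.C (Nb i j) * MvPolynomial.X j :
      MvPolynomial (Fin n) (A ⧸ J) →ₐ[A ⧸ J] MvPolynomial (Fin n) (A ⧸ J)).toRingHom.comp
        (MvPolynomial.map π)).comp σ.toRingHom
  have hτ : τ = MvPolynomial.map π := by
    refine MvPolynomial.ringHom_ext (fun a => ?_) (fun i => ?_)
    · simp [τ, σ]
    · simp only [τ, σ, RingHom.comp_apply, AlgHom.toRingHom_eq_coe, RingHom.coe_coe,
        MvPolynomial.aeval_X, map_sum, map_mul, MvPolynomial.map_C, MvPolynomial.map_X,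
        MvPolynomial.aeval_C, Finset.mul_sum, ← mul_assoc, MvPolynomial.algebraMap_eq]
      rw [Finset.sum_comm]
      simp only [← Finset.sum_mul, ← map_mul, ← map_sum]
      have e : ∀ k, ∑ j, π (M i j) * Nb j k = (1 : Matrix (Fin n) (Fin n) (A ⧸ J)) i k := fun k => by
        rw [← hMN]; rfl
      simp only [e, Matrix.one_apply, apply_ite MvPolynomial.C, map_one, map_zero, ite_mul, one_mul,
        zero_mul, Finset.sum_ite_eq, Finset.mem_univ, if_true]
  intro e
  have h1 : MvPolynomial.map π P = 0 := by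
    rw [← hτ]
    simp [τ, h0]
  have h2 := congrArg (fun q => MvPolynomial.coeff e q) h1
  simp only [MvPolynomial.coeff_map, MvPolynomial.coeff_zero] at h2
  exact Ideal.Quotient.eq_zero_iff_mem.1 h2

end Groth.Agent.S3824
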