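import Groth.Statements.S3825
import Groth.Agent.S3824

set_option autoImplicit false
universe u
open QReg16

namespace Groth.Agent.S3825

/-- a) iff c) (affine local form): let A be a local ring and I a proper ideal generated by some
quasi-regular sequence. For a finite family (f_i) of elements of I, the following are equivalent:
(a) (f_i) is a quasi-regular sequence generating I; (c) the classes of the f_i form a basis of the
A/I-module I/I² (equivalently, b): (f_i) is a minimal system of generators of I). -/
theorem result {A : Type u} [CommRing A] [IsLocalRing A]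
    (I : Ideal A) (hI : I ≤ IsLocalRing.maximalIdeal A)
    (hq : ∃ (r : ℕ) (g : Fin r → A), CAlgX.IsQuasiRegular g ∧ Ideal.span (Set.range g) = I)
    {m : ℕ} (f : Fin m → I) :
    (CAlgX.IsQuasiRegular (fun i => (f i : A)) ∧ Ideal.span (Set.range fun i => (f i : A)) = I) ↔
      (LinearIndependent (A ⧸ I) (fun i => I.toCotangent (f i)) ∧
        Submodule.span (A ⧸ I) (Set.range fun i => I.toCotangent (f i)) = ⊤) := by
  classical
  obtain ⟨r, g, hg, hgI⟩ := hq
  have hA : I ≠ ⊤ := ne_top_of_le_ne_top (IsLocalRing.maximalIdeal.isMaximal A).ne_top hI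
  haveI : Nontrivial (A ⧸ I) := Ideal.Quotient.nontrivial_iff.2 hA
  have hbasis : ∀ {k : ℕ} (h : Fin k → I), CAlgX.IsQuasiRegular (fun i => (h i : A)) →
      Ideal.span (Set.range fun i => (h i : A)) = I →
      LinearIndependent (A ⧸ I) (fun i => I.toCotangent (h i)) ∧
        Submodule.span (A ⧸ I) (Set.range fun i => I.toCotangent (h i)) = ⊤ := by
    intro k h hh hhI
    constructor
    · rw [Fintype.linearIndependent_iff]
      intro c hc i
      choose c' hc' using fun j => Ideal.Quotient.mk_surjective (c j)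
      have h0 : I.toCotangent (∑ j, c' j • h j) = 0 := by
        rw [map_sum, ← hc]
        exact Finset.sum_congr rfl fun j _ => by
          rw [map_smul, ← hc', ← Ideal.Quotient.algebraMap_eq, IsScalarTower.algebraMap_smul]
      rw [Ideal.toCotangent_eq_zero, AddSubmonoidClass.coe_finset_sum] at h0
      let P : MvPolynomial (Fin k) A := ∑ j, MvPolynomial.C (c' j) * MvPolynomial.X j
      have hP : P.IsHomogeneous 1 := MvPolynomial.IsHomogeneous.sum _ _ _ fun j _ =>
        MvPolynomial.isHomogeneous_C_mul_X _ _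
      have := hh 1 P hP (by rw [hhI]; simpa [P, map_sum] using h0) (Finsupp.single i 1)
      rw [hhI, MvPolynomial.coeff_sum] at this
      simp only [MvPolynomial.coeff_C_mul, MvPolynomial.coeff_X', Finsupp.single_left_inj (one_ne_zero (α := ℕ)),
        mul_ite, mul_one, mul_zero, Finset.sum_ite_eq', Finset.mem_univ, if_true] at this
      rw [← hc', Ideal.Quotient.eq_zero_iff_mem]
      exact this
    · refine eq_top_iff.2 fun w _ => ?_
      obtain ⟨v, rfl⟩ := I.toCotangent_surjective w
      obtain ⟨c, hc⟩ := (Ideal.mem_span_range_iff_exists_fun (R := A)).1 (hhI.ge v.2)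
      have hv : v = ∑ i, c i • h i := Subtype.ext (by simp [← hc])
      rw [hv, map_sum]
      refine sum_mem fun i _ => ?_
      rw [map_smul, ← IsScalarTower.algebraMap_smul (A ⧸ I) (c i) (I.toCotangent (h i))]
      exact Submodule.smul_mem _ _ (Submodule.subset_span ⟨i, rfl⟩)
  refine ⟨fun h => hbasis f h.1 h.2, fun ⟨hli, hsp⟩ => ?_⟩
  let g' : Fin r → I := fun i => ⟨g i, hgI.le (Ideal.subset_span ⟨i, rfl⟩)⟩
  obtain ⟨hli', hsp'⟩ := hbasis g' hg hgI
  let bf := Module.Basis.mk hli hsp.ge
  let bg := Module.Basis.mk hli' hsp'.ge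
  obtain rfl : m = r := by
    have := Fintype.card_congr (bf.indexEquiv bg)
    simpa using this
  have hspan : Ideal.span (Set.range fun i => (f i : A)) = I := by
    refine le_antisymm (Ideal.span_le.2 (by rintro _ ⟨i, rfl⟩; exact (f i).2)) ?_
    refine Submodule.le_of_le_smul_of_le_jacobson_bot (I := I) (hgI ▸ ⟨Finset.univ.image g, by simp⟩)
      (hI.trans (IsLocalRing.jacobson_eq_maximalIdeal ⊥ bot_ne_top).ge) fun z hz => ?_
    have hz' := hsp.ge (x := I.toCotangent ⟨z, hz⟩) trivial
    obtain ⟨c, hc⟩ := (Submodule.mem_span_range_iff_exists_fun (A ⧸ I)).1 hz'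
    choose c' hc' using fun j => Ideal.Quotient.mk_surjective (c j)
    have h0 : I.toCotangent (∑ j, c' j • f j) = I.toCotangent ⟨z, hz⟩ := by
      rw [map_sum, ← hc]
      exact Finset.sum_congr rfl fun j _ => by
        rw [map_smul, ← hc', ← Ideal.Quotient.algebraMap_eq, IsScalarTower.algebraMap_smul]
    have h1 := (Ideal.toCotangent_eq I).1 h0.symm
    rw [show z = ((∑ j, c' j • f j : I) : A) + (z - ((∑ j, c' j • f j : I) : A)) by ring]
    refine Submodule.add_mem_sup ?_ (by rw [smul_eq_mul, ← pow_two]; exact h1)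
    rw [AddSubmonoidClass.coe_finset_sum]
    exact sum_mem fun j _ => Ideal.mul_mem_left _ _ (Ideal.subset_span ⟨j, rfl⟩)
  exact ⟨Groth.Agent.S3824.result g _ hg (hspan.trans hgI.symm), hspan⟩

end Groth.Agent.S3825
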