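import Groth.Statements.S3828
import Groth.Agent.QReg16Lib.Basic
import Mathlib.RingTheory.Filtration

set_option autoImplicit false
universe u
open QReg16

namespace Groth.Agent.S3828

/-- Let A be a Noetherian ring, J an ideal of A, and f_1, …, f_r elements of A forming a weakly regular
sequence on A/J (each f_i a nonzerodivisor on A/(J + (f_1, …, f_{i−1}))) and generating an ideal R
contained in the Jacobson radical of A; put Q = J + R. Then J ∩ Rⁿ = J·Rⁿ for every n > 0, and J ∩
Q² = J·Q (equivalently, the canonical map J/JQ → Q/Q² is injective). -/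
theorem result {A : Type u} [CommRing A] [IsNoetherianRing A] (J : Ideal A)
    {r : ℕ} (f : Fin r → A) (hf : RingTheory.Sequence.IsWeaklyRegular (A ⧸ J) (List.ofFn f))
    (hrad : Ideal.span (Set.range f) ≤ (⊥ : Ideal A).jacobson) :
    (∀ n : ℕ, 0 < n → J ⊓ Ideal.span (Set.range f) ^ n = J * Ideal.span (Set.range f) ^ n) ∧
      J ⊓ (J ⊔ Ideal.span (Set.range f)) ^ 2 = J * (J ⊔ Ideal.span (Set.range f)) := by
  set R := Ideal.span (Set.range f)
  have key : ∀ n : ℕ, J ⊓ R ^ n = J * R ^ n := by
    intro n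
    refine le_antisymm ?_ (le_inf Ideal.mul_le_left Ideal.mul_le_right)
    intro a ha
    set P := J * R ^ n
    have hN : ∀ N, a ∈ P ⊔ R ^ N := by
      intro N
      rcases le_total n N with h | h
      · exact sup_le (le_sup_left : P ≤ P ⊔ R ^ N) (inf_le_right.trans le_sup_right) (Groth.Agent.QReg16Lib.inf_pow_le_of_le J f hf h ha)
      · exact Submodule.mem_sup_right (Ideal.pow_le_pow_right h ha.2)
    have h0 : Submodule.mkQ P a ∈ (⨅ N, R ^ N • (⊤ : Submodule A (A ⧸ P))) := by
      rw [Submodule.mem_iInf]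
      intro N
      obtain ⟨p, hp, b, hb, hab⟩ := Submodule.mem_sup.1 (hN N)
      have hq : Submodule.mkQ P a = b • Submodule.mkQ P (1 : A) := by
        rw [← map_smul, smul_eq_mul, mul_one, Submodule.mkQ_apply, Submodule.mkQ_apply, Submodule.Quotient.eq,
          ← hab, add_sub_cancel_right]
        exact hp
      rw [hq]
      exact Submodule.smul_mem_smul hb trivial
    rw [Ideal.iInf_pow_smul_eq_bot_of_le_jacobson R hrad, Submodule.mem_bot, Submodule.mkQ_apply,
      Submodule.Quotient.mk_eq_zero] at h0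
    exact h0
  refine ⟨fun n _ => key n, le_antisymm ?_ (le_inf Ideal.mul_le_left ?_)⟩
  · have hsq : (J ⊔ R) ^ 2 ≤ J * (J ⊔ R) ⊔ R ^ 2 := by
      rw [sq, Ideal.sup_mul, Ideal.mul_sup R, sq]
      exact sup_le le_sup_left (sup_le ((Ideal.mul_comm R J).le.trans
        ((Ideal.mul_mono le_rfl le_sup_right).trans le_sup_left)) le_sup_right)
    intro a ha
    obtain ⟨b, hb, c, hc, rfl⟩ := Submodule.mem_sup.1 (hsq ha.2)
    have h1 : b + c ∈ J := ha.1
    have h2 : b ∈ J := Ideal.mul_le_left (J := J ⊔ R) hb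
    have hcJ : c ∈ J ⊓ R ^ 2 := ⟨(Submodule.add_mem_iff_right J h2).1 h1, hc⟩
    rw [key, sq, ← mul_assoc] at hcJ
    exact add_mem hb (Ideal.mul_mono Ideal.mul_le_left le_sup_right hcJ)
  · rw [sq]
    exact Ideal.mul_mono le_sup_left le_rfl

end Groth.Agent.S3828
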