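import Groth.Statements.S3830
import Mathlib.RingTheory.RingHom.StandardSmooth
import Mathlib.RingTheory.Smooth.StandardSmoothOfFree
import Mathlib.RingTheory.QuasiFinite.Polynomial
import Mathlib.RingTheory.RingHom.Etale
import Mathlib.RingTheory.Flat.Basic
import Mathlib.RingTheory.Ideal.GoingDown
import Mathlib.RingTheory.Flat.Stability

set_option autoImplicit false
universe u
open Unram17

namespace Groth.Agent.S3830

/-- b) implies a) (affine pointwise form): let B be an A-algebra of finite presentation and q a prime of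
B. If B is smooth over A at q and quasi-finite over A at q, then B is étale over A at q. -/
theorem result (A B : Type u) [CommRing A] [CommRing B] [Algebra A B]
    [Algebra.FinitePresentation A B] (q : Ideal B) [q.IsPrime] [Algebra.QuasiFiniteAt A q]
    (h : Algebra.IsSmoothAt A q) : Algebra.IsEtaleAt A q := by
  obtain ⟨f, hf, hstd⟩ := Algebra.IsSmoothAt.exists_notMem_isStandardSmooth A q
  refine (Algebra.basicOpen_subset_etaleLocus_iff_etale (R := A) (f := f)).mpr ?_ (show (⟨q, ‹_›⟩ : PrimeSpectrum B) ∈ PrimeSpectrum.basicOpen f from hf)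
  set C := Localization.Away f
  have hd : Disjoint (Submonoid.powers f : Set B) (q : Set B) := by
    rwa [Ideal.disjoint_powers_iff_notMem_of_isPrime]
  let Q : Ideal C := q.map (algebraMap B C)
  haveI : Q.IsPrime := IsLocalization.isPrime_of_isPrime_disjoint (.powers f) C q ‹_› hd
  haveI : Q.LiesOver q := ⟨(IsLocalization.under_map_of_isPrime_disjoint (.powers f) C ‹q.IsPrime› hd).symm⟩
  haveI : Algebra.QuasiFiniteAt A Q :=
    Algebra.QuasiFiniteAt.of_surjectiveOnStalks_of_liesOver q
      (RingHom.surjectiveOnStalks_of_isLocalization (Submonoid.powers f) C) Q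
  obtain ⟨ι, σ, _, _, ⟨P⟩⟩ := hstd.out
  haveI : Algebra.IsStandardSmoothOfRelativeDimension P.dimension A C := ⟨ι, σ, _, ‹_›, P, rfl⟩
  obtain ⟨g, hg⟩ := Algebra.IsStandardSmoothOfRelativeDimension.exists_etale_mvPolynomial P.dimension A C
  generalize P.dimension = n at g hg
  let p := Q.under A
  let r0 : Ideal (MvPolynomial (Fin n) A) := p.map MvPolynomial.C
  have hr0u : r0.comap MvPolynomial.C = p := by
    ext a
    refine ⟨fun ha => ?_, fun ha => Ideal.mem_map_of_mem _ ha⟩
    simpa using (MvPolynomial.mem_map_C_iff.1 ha) 0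
  have hr : Q.comap g.toRingHom = r0 := by
    letI : Algebra (MvPolynomial (Fin n) A) C := g.toRingHom.toAlgebra
    haveI : IsScalarTower A (MvPolynomial (Fin n) A) C := .of_algebraMap_eq' g.comp_algebraMap.symm
    haveI : Algebra.Etale (MvPolynomial (Fin n) A) C := RingHom.etale_algebraMap.1 hg
    have hle : r0 ≤ Q.under (MvPolynomial (Fin n) A) := by
      refine Ideal.map_le_iff_le_comap.2 fun a ha => ?_
      show g (MvPolynomial.C a) ∈ Q
      rw [← MvPolynomial.algebraMap_eq, g.commutes]
      exact ha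
    by_contra hne
    haveI : r0.IsPrime := by
      have h9 : r0 = RingHom.ker (MvPolynomial.map (σ := Fin n) (Ideal.Quotient.mk p)) := by
        rw [MvPolynomial.ker_map, Ideal.mk_ker]
      rw [h9]
      exact RingHom.ker_isPrime _
    obtain ⟨P', hP', hP'p, hP'o⟩ := Ideal.exists_ideal_lt_liesOver_of_lt (S := C) Q
      (lt_of_le_of_ne hle fun e => hne e.symm)
    refine hP'.ne (Algebra.QuasiFiniteAt.eq_of_le_of_under_eq (R := A) hP'.le ?_)
    rw [← Ideal.under_under (B := MvPolynomial (Fin n) A) P', ← hP'o.over]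
    exact hr0u
  rcases Nat.eq_zero_or_pos n with rfl | hn
  · refine RingHom.etale_algebraMap.1 ?_
    rw [← g.comp_algebraMap]
    exact RingHom.Etale.stableUnderComposition _ _ (RingHom.Etale.of_bijective
      ⟨MvPolynomial.C_injective _ _, MvPolynomial.C_surjective _⟩) hg
  · obtain ⟨h1, h2⟩ := lt_iff_le_not_ge.1 (Polynomial.map_under_lt_comap_of_quasiFiniteAt
      (g.comp (Polynomial.aeval (MvPolynomial.X (⟨0, hn⟩ : Fin n)))) Q)
    refine (h2 fun h hh => ?_).elim
    have h3 : Polynomial.aeval (MvPolynomial.X (⟨0, hn⟩ : Fin n)) h ∈ r0 := by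
      rw [← hr]; exact hh
    let π : MvPolynomial (Fin n) A →ₐ[A] Polynomial A := MvPolynomial.aeval fun _ => Polynomial.X
    have h4 := Ideal.mem_map_of_mem π.toRingHom h3
    rw [Ideal.map_map] at h4
    have h5 : π.toRingHom.comp MvPolynomial.C = Polynomial.C := RingHom.ext fun a => π.commutes a
    rw [h5] at h4
    change π (Polynomial.aeval (MvPolynomial.X (⟨0, hn⟩ : Fin n)) h) ∈ _ at h4
    rwa [← Polynomial.aeval_algHom_apply, MvPolynomial.aeval_X, Polynomial.aeval_X_left_apply] at h4

end Groth.Agent.S3830
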