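import Groth.Statements.S3833
import Groth.Agent.QCohLib.QCoh

-- import your own Groth.Agent.* helpers here

set_option autoImplicit false
universe u
open CategoryTheory CategoryTheory.Limits AlgebraicGeometry TopologicalSpace
open Rat20

namespace Groth.Agent.S3833



/-- Stated for a global section, the case of a section over an open subset U being the same statement
for the open subscheme U: let X be a scheme and s a global section of O_X which is regular in the
sense that its germ at every point x is a non-zero-divisor of the local ring O_{X,x} (on an affine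
scheme this is the same as being a non-zero-divisor of Γ(X, O_X), but not in general). Then the open
subset X_s where s is invertible is schematically dense in X. -/
theorem result (X : Scheme.{u}) (s : Γ(X, ⊤))
    (hs : ∀ x : ↥X, (X.presheaf.germ ⊤ x trivial s) ∈ nonZeroDivisors ↑(X.presheaf.stalk x)) :
    CInt.IsSchematicallyDense (X.basicOpen s) := by
  intro V a b hab
  refine TopCat.Presheaf.section_ext X.sheaf V a b fun x hx => ?_
  obtain ⟨W, hW, hxW, hWV'⟩ := exists_isAffineOpen_mem_and_subset (x := x) (U := V) hx
  have hWV : W ≤ V := fun y hy => hWV' hy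
  let t : Γ(X, W) := X.presheaf.map (homOfLE (le_top : W ≤ ⊤)).op s
  haveI := hW.isLocalization_basicOpen t
  have hle : X.basicOpen t ≤ V ⊓ X.basicOpen s := by
    refine le_inf ((X.basicOpen_le t).trans hWV) ?_
    rw [show X.basicOpen t = W ⊓ X.basicOpen s from X.basicOpen_res s (homOfLE le_top).op]
    exact inf_le_right
  have h1 : algebraMap Γ(X, W) Γ(X, X.basicOpen t) (X.presheaf.map (homOfLE hWV).op a) =
      algebraMap Γ(X, W) Γ(X, X.basicOpen t) (X.presheaf.map (homOfLE hWV).op b) := by
    have h := congrArg (X.presheaf.map (homOfLE hle).op) hab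
    refine TopCat.Presheaf.section_ext X.sheaf _ _ _ fun y hy => ?_
    have h2 := congrArg (X.presheaf.germ (X.basicOpen t) y hy) h
    simp only [TopCat.Presheaf.germ_res_apply] at h2
    change X.presheaf.germ (X.basicOpen t) y hy (X.presheaf.map (homOfLE (X.basicOpen_le t)).op _) =
      X.presheaf.germ (X.basicOpen t) y hy (X.presheaf.map (homOfLE (X.basicOpen_le t)).op _)
    simp only [TopCat.Presheaf.germ_res_apply]
    exact h2
  obtain ⟨⟨_, n, rfl⟩, hn⟩ := IsLocalization.exists_of_eq (M := Submonoid.powers t) h1
  have h3 := congrArg (X.presheaf.germ W x hxW) hn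
  rw [map_mul, map_mul, map_pow] at h3
  simp only [t, TopCat.Presheaf.germ_res_apply] at h3
  exact (mul_cancel_left_mem_nonZeroDivisors (pow_mem (hs x) n)).1 h3


end Groth.Agent.S3833
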