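import Groth.Statements.S3834
import Groth.Agent.MeroLib.RegExists
import Groth.Agent.S3833

-- import your own Groth.Agent.* helpers here

set_option autoImplicit false
universe u
open CategoryTheory CategoryTheory.Limits AlgebraicGeometry TopologicalSpace
open Rat20

namespace Groth.Agent.S3834



/-- Let X = Spec A be an affine scheme, with A Noetherian, or A reduced with finitely many minimal
primes. Then an open subset U of X is schematically dense if and only if it contains an open subset
of the form X_t with t a regular element of A = Γ(X, O_X). -/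
theorem result (X : Scheme.{u}) [IsAffine X]
    (hX : IsNoetherian X ∨ (IsReduced X ∧ (irreducibleComponents ↥X).Finite)) (U : X.Opens) :
    CInt.IsSchematicallyDense U ↔ ∃ t : Γ(X, ⊤), t ∈ nonZeroDivisors Γ(X, ⊤) ∧ X.basicOpen t ≤ U := by
  have hF : MeroLib.FiniteWeak X := by
    rcases hX with h | ⟨h, hfin⟩
    · haveI := h
      exact MeroLib.finiteWeak_of_locallyNoetherian
    · haveI := h
      exact MeroLib.finiteWeak_of_locallyFinite fun x => ⟨⊤, trivial, hfin.subset fun Z hZ => hZ.1⟩
  have e := MeroLib.regSub_eq (isAffineOpen_top X)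
  constructor
  · intro hU
    obtain ⟨t, ht, hle⟩ := MeroLib.exists_regSub_basicOpen hF (isAffineOpen_top X) U
      fun y _ hw => MeroLib.weak_mem_of_dense hF (U := ⊤) (fun W _ => hU W) trivial hw
    exact ⟨t, e ▸ ht, hle⟩
  · rintro ⟨t, ht, hle⟩ V a b hab
    refine Groth.Agent.S3833.result X t (fun x => ?_) V ?_
    · exact (e.symm ▸ ht : t ∈ Mero.regSub X ⊤) ⟨x, trivial⟩
    · have h := congrArg (X.presheaf.map (homOfLE (inf_le_inf_left V hle)).op) hab
      rw [← CommRingCat.comp_apply, ← CommRingCat.comp_apply, ← Functor.map_comp] at h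
      exact h


end Groth.Agent.S3834
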