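import Groth.Statements.S3835
import Groth.Agent.SchDenseLib.Ext
import Groth.Agent.AlgSpRegLib.DenseScheme
import Mathlib

set_option autoImplicit false
universe u
open CategoryTheory CategoryTheory.Limits AlgebraicGeometry TopologicalSpace
open Rat20

namespace Groth.Agent.S3835

/-- Let Y be separated over S, X an S-scheme with a schematically dense open subscheme U, h : U → Y an
S-morphism (a representative of a pseudo-morphism from X to Y over S), and f : X' → X a flat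
morphism locally of finite presentation, X' being regarded as an S-scheme through f. Let x' be a
point of X' with image x = f(x'). If there is an S-morphism from an open neighbourhood V' of x' to Y
agreeing with h ∘ f on f⁻¹(U) ∩ V' (the pulled-back pseudo-morphism is defined at x'), then there is
an S-morphism from an open neighbourhood V of x to Y agreeing with h on U ∩ V (the pseudo-morphism
is defined at x). -/
theorem result {X X' Y S : Scheme.{u}} (pX : X ⟶ S) (pY : Y ⟶ S)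
    [IsSeparated pY] (U : X.Opens) (hU : CInt.IsSchematicallyDense U) (h : (U : Scheme.{u}) ⟶ Y)
    (hh : h ≫ pY = U.ι ≫ pX) (f : X' ⟶ X) [Flat f] [LocallyOfFinitePresentation f] (x' : ↥X')
    (V' : X'.Opens) (hx' : x' ∈ V') (v' : (V' : Scheme.{u}) ⟶ Y) (hv'S : v' ≫ pY = V'.ι ≫ f ≫ pX)
    (hv' : X'.homOfLE (inf_le_right : f ⁻¹ᵁ U ⊓ V' ≤ V') ≫ v' =
      X'.homOfLE (inf_le_left : f ⁻¹ᵁ U ⊓ V' ≤ f ⁻¹ᵁ U) ≫ (f ∣_ U) ≫ h) :
    ∃ (V : X.Opens) (v : (V : Scheme.{u}) ⟶ Y), f x' ∈ V ∧ v ≫ pY = V.ι ≫ pX ∧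
      X.homOfLE (inf_le_right : U ⊓ V ≤ V) ≫ v = X.homOfLE (inf_le_left : U ⊓ V ≤ U) ≫ h := by
  obtain ⟨A, hA, hxA, -⟩ := exists_isAffineOpen_mem_and_subset (show f x' ∈ (⊤ : X.Opens) from trivial)
  obtain ⟨W, hW, hxW, hWle⟩ := exists_isAffineOpen_mem_and_subset (show x' ∈ V' ⊓ f ⁻¹ᵁ A from ⟨hx', hxA⟩)
  have hWV : W ≤ V' := hWle.trans inf_le_left
  have hWA : W ≤ f ⁻¹ᵁ A := hWle.trans inf_le_right
  let V : X.Opens := ⟨f '' (W : Set X'), f.isOpenMap _ W.2⟩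
  have hVA : V ≤ A := by
    rintro _ ⟨w, hw, rfl⟩
    exact hWA hw
  have e : W ≤ f ⁻¹ᵁ V := fun w hw => ⟨w, hw, rfl⟩
  let g : (W : Scheme.{u}) ⟶ V := f.resLE V W e
  have hg : g ≫ V.ι = W.ι ≫ f := Scheme.Hom.resLE_comp_ι _ _
  haveI : Flat g := inferInstanceAs (Flat (f.resLE V W e))
  haveI : LocallyOfFinitePresentation g := inferInstanceAs (LocallyOfFinitePresentation (f.resLE V W e))
  haveI : Surjective g := ⟨fun z => by
    obtain ⟨w, hw, hz⟩ := z.2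
    refine ⟨⟨w, hw⟩, Subtype.ext ?_⟩
    show V.ι (g ⟨w, hw⟩) = z.1
    rw [← Scheme.Hom.comp_apply, hg, Scheme.Hom.comp_apply]
    exact hz⟩
  haveI : QuasiCompact g := by
    haveI : IsAffine W.toScheme := hW
    haveI : IsAffine A.toScheme := hA
    haveI : QuasiCompact (g ≫ X.homOfLE hVA) := inferInstance
    exact QuasiCompact.of_comp g (X.homOfLE hVA)
  let a : (W : Scheme.{u}) ⟶ Y := X'.homOfLE hWV ≫ v'
  have ha : a ≫ pY = g ≫ V.ι ≫ pX := by
    rw [Category.assoc, hv'S, ← Category.assoc, ← Category.assoc, Scheme.homOfLE_ι, ← Category.assoc g, hg]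
  have key : ∀ {T : Scheme.{u}} (t : T ⟶ W) (k : T ⟶ U), k ≫ U.ι = t ≫ W.ι ≫ f → t ≫ a = k ≫ h := by
    intro T t k hk
    have hr : Set.range (t ≫ W.ι) ⊆ Set.range (f ⁻¹ᵁ U ⊓ V').ι := by
      rintro _ ⟨z, rfl⟩
      rw [Scheme.Opens.range_ι]
      refine ⟨?_, hWV ?_⟩
      · show f ((t ≫ W.ι) z) ∈ U
        rw [← Scheme.Hom.comp_apply, Category.assoc, ← hk, Scheme.Hom.comp_apply]
        exact (k z).2
      · rw [Scheme.Hom.comp_apply]
        exact (t z).2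
    let t' : T ⟶ (f ⁻¹ᵁ U ⊓ V' : X'.Opens) := IsOpenImmersion.lift (f ⁻¹ᵁ U ⊓ V').ι (t ≫ W.ι) hr
    have ht' : t' ≫ (f ⁻¹ᵁ U ⊓ V').ι = t ≫ W.ι := IsOpenImmersion.lift_fac _ _ _
    have h1 : t ≫ X'.homOfLE hWV = t' ≫ X'.homOfLE (inf_le_right : f ⁻¹ᵁ U ⊓ V' ≤ V') := by
      rw [← cancel_mono V'.ι, Category.assoc, Category.assoc, Scheme.homOfLE_ι, Scheme.homOfLE_ι, ht']
    have h2 : t' ≫ X'.homOfLE (inf_le_left : f ⁻¹ᵁ U ⊓ V' ≤ f ⁻¹ᵁ U) ≫ (f ∣_ U) = k := by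
      rw [← cancel_mono U.ι, Category.assoc, Category.assoc, morphismRestrict_ι, ← Category.assoc (X'.homOfLE _),
        Scheme.homOfLE_ι, ← Category.assoc, ht', hk, Category.assoc]
    show t ≫ X'.homOfLE hWV ≫ v' = k ≫ h
    rw [← Category.assoc, h1, Category.assoc, hv', ← h2]
    simp only [Category.assoc]
  have hco : ∀ {T : Scheme.{u}} (s₁ s₂ : T ⟶ W), s₁ ≫ g = s₂ ≫ g → s₁ ≫ a = s₂ ≫ a := by
    intro T s₁ s₂ hs
    suffices h0 : pullback.fst g g ≫ a = pullback.snd g g ≫ a by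
      rw [← pullback.lift_fst s₁ s₂ hs, Category.assoc, h0, ← Category.assoc, pullback.lift_snd]
    let q : pullback g g ⟶ X := pullback.fst g g ≫ W.ι ≫ f
    refine SchDenseLib.ext_of_isSchematicallyDense (q ⁻¹ᵁ U) (AlgSpRegLib.isSchematicallyDense_preimage q U hU) pY ?_ ?_
    · change (pullback.fst g g ≫ a) ≫ pY = (pullback.snd g g ≫ a) ≫ pY
      refine (Category.assoc _ _ _).trans (Eq.trans ?_ (Category.assoc _ _ _).symm)
      rw [ha, pullback.condition_assoc]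
    · have hk : (q ∣_ U) ≫ U.ι = (q ⁻¹ᵁ U).ι ≫ q := morphismRestrict_ι q U
      have hq2 : q = pullback.snd g g ≫ W.ι ≫ f := by
        show pullback.fst g g ≫ W.ι ≫ f = _
        rw [← hg, pullback.condition_assoc]
      change (q ⁻¹ᵁ U).ι ≫ pullback.fst g g ≫ a = (q ⁻¹ᵁ U).ι ≫ pullback.snd g g ≫ a
      rw [← Category.assoc ((q ⁻¹ᵁ U).ι) (pullback.fst g g) a, ← Category.assoc ((q ⁻¹ᵁ U).ι) (pullback.snd g g) a, key ((q ⁻¹ᵁ U).ι ≫ pullback.fst g g) (q ∣_ U) (by rw [hk, Category.assoc]),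
        key ((q ⁻¹ᵁ U).ι ≫ pullback.snd g g) (q ∣_ U) (by rw [hk, Category.assoc, hq2])]
  let v : (V : Scheme.{u}) ⟶ Y := EffectiveEpi.desc g a fun {T} s₁ s₂ hs => hco s₁ s₂ hs
  have hv : g ≫ v = a := EffectiveEpi.fac g a _
  haveI : Epi g := Flat.epi_of_flat_of_surjective g
  refine ⟨V, v, ⟨x', hxW, rfl⟩, by rw [← cancel_epi g, ← Category.assoc, hv, ha], ?_⟩
  haveI : Epi (pullback.snd g (X.homOfLE (inf_le_right : U ⊓ V ≤ V))) := Flat.epi_of_flat_of_surjective _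
  rw [← cancel_epi (pullback.snd g (X.homOfLE (inf_le_right : U ⊓ V ≤ V))), ← pullback.condition_assoc, hv,
    key (pullback.fst g (X.homOfLE (inf_le_right : U ⊓ V ≤ V)))
      (pullback.snd g (X.homOfLE (inf_le_right : U ⊓ V ≤ V)) ≫ X.homOfLE (inf_le_left : U ⊓ V ≤ U)) ?_, Category.assoc]
  rw [Category.assoc, Scheme.homOfLE_ι, ← hg, pullback.condition_assoc, Scheme.homOfLE_ι]

end Groth.Agent.S3835
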