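import Groth.Statements.S3836
import Mathlib
import Groth.Agent.NormalExtLib.Scheme

set_option autoImplicit false
universe u
open CategoryTheory CategoryTheory.Limits AlgebraicGeometry TopologicalSpace
open Rat20

namespace Groth.Agent.S3836

/-- Let X be a locally integral S-scheme, Y an S-scheme locally of finite type and separated over S, and
h : U → Y an S-morphism on a dense open subset (a rational S-map ω). Let Γ be the closure in X ×_S Y
of the graph of h and p : Γ → X the projection. If x is a point of X whose local ring is integrally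
closed and the fibre p⁻¹(x) contains an isolated point, then ω is defined at x: some S-morphism from
an open neighbourhood of x to Y agrees with h on U. -/
theorem result {X Y S : Scheme.{u}} (pX : X ⟶ S) (pY : Y ⟶ S)
    [LocallyOfFiniteType pY] [IsSeparated pY] (hX : ∀ y : ↥X, ∃ W : X.Opens, y ∈ W ∧ IsIntegral (W : Scheme.{u}))
    (U : X.Opens) (hU : Dense (U : Set ↥X)) (h : (U : Scheme.{u}) ⟶ Y) (hh : U.ι ≫ pX = h ≫ pY)
    (x : ↥X) (hx : IsIntegrallyClosed (X.presheaf.stalk x))
    (z : ↥(pullback pX pY)) (hz : pullback.fst pX pY z = x)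
    (hzΓ : z ∈ closure (Set.range (pullback.lift U.ι h hh)))
    (hiso : ∃ W : (pullback pX pY).Opens, (W : Set ↥(pullback pX pY)) ∩ closure (Set.range (pullback.lift U.ι h hh)) ∩
      (pullback.fst pX pY) ⁻¹' {x} = {z}) :
    ∃ (V : X.Opens) (v : (V : Scheme.{u}) ⟶ Y), x ∈ V ∧ v ≫ pY = V.ι ≫ pX ∧
      X.homOfLE (inf_le_right : U ⊓ V ≤ V) ≫ v = X.homOfLE (inf_le_left : U ⊓ V ≤ U) ≫ h := by
  obtain ⟨W, hxW, hW⟩ := hX x
  have := NormalExtLib.isDomain_stalk hxW
  have hξ : NormalExtLib.genPt x ∈ U := NormalExtLib.genPt_mem_of_dense x hxW hU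
  let gr : (U : Scheme.{u}) ⟶ pullback pX pY := pullback.lift U.ι h hh
  have hgr : gr ≫ pullback.fst pX pY = U.ι := pullback.lift_fst _ _ _
  have hgr' : gr ≫ pullback.snd pX pY = h := pullback.lift_snd _ _ _
  let p : ↥(pullback pX pY) := (NormalExtLib.genLift x hξ ≫ gr) (IsLocalRing.closedPoint _)
  have hp : p ∈ Set.range gr := ⟨_, (Scheme.Hom.comp_apply _ _ _).symm⟩
  have hpz : p ⤳ z := by
    rw [specializes_iff_forall_open]
    intro O hO hzO
    have hzW : z ∈ pullback.fst pX pY ⁻¹ᵁ W := by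
      show pullback.fst pX pY z ∈ W
      rw [hz]; exact hxW
    obtain ⟨_, ⟨hwO, hwW⟩, u, rfl⟩ := mem_closure_iff.mp hzΓ _
      (hO.inter (pullback.fst pX pY ⁻¹ᵁ W).isOpen) ⟨hzO, hzW⟩
    have huW : U.ι u ∈ W := by
      rw [← hgr, Scheme.Hom.comp_apply]; exact hwW
    have hsp : (NormalExtLib.genLift x hξ) (IsLocalRing.closedPoint _) ⤳ u := by
      rw [← U.ι.isOpenEmbedding.isInducing.specializes_iff, NormalExtLib.genLift_apply]
      exact NormalExtLib.genPt_specializes x hxW huW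
    have := (hsp.map gr.continuous).mem_open hO hwO
    rwa [← Scheme.Hom.comp_apply] at this
  obtain ⟨W₀, hW₀⟩ := hiso
  have hzW₀ : z ∈ W₀ := (hW₀.ge rfl).1.1
  obtain ⟨V, hxV, f, hfq, -, hag⟩ := NormalExtLib.exists_section_nhd (pullback.fst pX pY) x hx hxW
    U hξ gr hgr z hz hpz ⟨W₀, hzW₀, fun z' hz' hpz' hz'x ↦ hW₀.le
      ⟨⟨hz', hpz'.mem_closed isClosed_closure (subset_closure hp)⟩, hz'x⟩⟩
  refine ⟨V, f ≫ pullback.snd pX pY, hxV, ?_, ?_⟩
  · rw [Category.assoc, ← pullback.condition, reassoc_of% hfq]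
  · rw [reassoc_of% hag, hgr']

end Groth.Agent.S3836
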