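import Groth.Statements.S3837
import Mathlib
import Groth.Agent.NormalExtLib.Graph
import Groth.Agent.S3836

set_option autoImplicit false
universe u
open CategoryTheory CategoryTheory.Limits AlgebraicGeometry TopologicalSpace
open Rat20

namespace Groth.Agent.S3837

/-- Let X be a normal S-scheme (locally integral with integrally closed local rings), Y an S-scheme
locally of finite type and separated over S, h : U → Y an S-morphism on a dense open subset (a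
rational S-map ω), and f : X' → X a morphism locally of finite type and universally open with X'
reduced, so that f⁻¹(U) is dense and ω ∘ f is defined. Then for x' in X' with image x, ω is defined
at x if and only if ω ∘ f is defined at x': some S-morphism on an open neighbourhood of x agrees
with h on U if and only if some S-morphism on an open neighbourhood of x' agrees with h ∘ f on the
preimage of U. -/
theorem result {X X' Y S : Scheme.{u}} (pX : X ⟶ S) (pY : Y ⟶ S)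
    [LocallyOfFiniteType pY] [IsSeparated pY] (hX : ∀ y : ↥X, ∃ W : X.Opens, y ∈ W ∧ IsIntegral (W : Scheme.{u}))
    (hXn : ∀ y : ↥X, IsIntegrallyClosed (X.presheaf.stalk y))
    (U : X.Opens) (hU : Dense (U : Set ↥X)) (h : (U : Scheme.{u}) ⟶ Y) (hh : h ≫ pY = U.ι ≫ pX)
    (f : X' ⟶ X) [LocallyOfFiniteType f] [UniversallyOpen f] [IsReduced X'] (x' : ↥X') :
    (∃ (V : X.Opens) (v : (V : Scheme.{u}) ⟶ Y), f x' ∈ V ∧ v ≫ pY = V.ι ≫ pX ∧
        X.homOfLE (inf_le_right : U ⊓ V ≤ V) ≫ v = X.homOfLE (inf_le_left : U ⊓ V ≤ U) ≫ h) ↔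
      ∃ (V' : X'.Opens) (v' : (V' : Scheme.{u}) ⟶ Y), x' ∈ V' ∧ v' ≫ pY = V'.ι ≫ f ≫ pX ∧
        X'.homOfLE (inf_le_right : f ⁻¹ᵁ U ⊓ V' ≤ V') ≫ v' =
          X'.homOfLE (inf_le_left : f ⁻¹ᵁ U ⊓ V' ≤ f ⁻¹ᵁ U) ≫ (f ∣_ U) ≫ h := by
  constructor
  · rintro ⟨V, v, hxV, hvS, hag⟩
    refine ⟨f ⁻¹ᵁ V, (f ∣_ V) ≫ v, hxV, ?_, ?_⟩
    · rw [Category.assoc, hvS, ← Category.assoc, morphismRestrict_ι, Category.assoc]
    · let m : ((f ⁻¹ᵁ U ⊓ f ⁻¹ᵁ V : X'.Opens) : Scheme.{u}) ⟶ ((U ⊓ V : X.Opens) : Scheme.{u}) :=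
        X'.homOfLE (show f ⁻¹ᵁ U ⊓ f ⁻¹ᵁ V ≤ f ⁻¹ᵁ (U ⊓ V) from fun _ hz ↦ hz) ≫ (f ∣_ (U ⊓ V))
      have hm : m ≫ (U ⊓ V).ι = (f ⁻¹ᵁ U ⊓ f ⁻¹ᵁ V).ι ≫ f := by
        simp only [m, Category.assoc, morphismRestrict_ι, Scheme.homOfLE_ι_assoc]
      have e1 : X'.homOfLE (inf_le_right : f ⁻¹ᵁ U ⊓ f ⁻¹ᵁ V ≤ f ⁻¹ᵁ V) ≫ (f ∣_ V) =
          m ≫ X.homOfLE (inf_le_right : U ⊓ V ≤ V) := by
        rw [← cancel_mono V.ι, Category.assoc, Category.assoc, morphismRestrict_ι,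
          Scheme.homOfLE_ι, hm, Scheme.homOfLE_ι_assoc]
      have e2 : X'.homOfLE (inf_le_left : f ⁻¹ᵁ U ⊓ f ⁻¹ᵁ V ≤ f ⁻¹ᵁ U) ≫ (f ∣_ U) =
          m ≫ X.homOfLE (inf_le_left : U ⊓ V ≤ U) := by
        rw [← cancel_mono U.ι, Category.assoc, Category.assoc, morphismRestrict_ι,
          Scheme.homOfLE_ι, hm, Scheme.homOfLE_ι_assoc]
      rw [reassoc_of% e1, reassoc_of% e2, hag]
  · rintro ⟨V', v', hxV', hv'S, hag⟩
    let g' : (V' : Scheme.{u}) ⟶ pullback pX pY :=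
      pullback.lift (V'.ι ≫ f) v' (by rw [Category.assoc, hv'S])
    have hg' : g' ≫ pullback.fst pX pY = V'.ι ≫ f := pullback.lift_fst _ _ _
    have hag' : X'.homOfLE (inf_le_right : f ⁻¹ᵁ U ⊓ V' ≤ V') ≫ g' =
        X'.homOfLE (inf_le_left : f ⁻¹ᵁ U ⊓ V' ≤ f ⁻¹ᵁ U) ≫ (f ∣_ U) ≫ pullback.lift U.ι h hh.symm := by
      apply pullback.hom_ext
      · simp only [g', Category.assoc, pullback.lift_fst, morphismRestrict_ι, Scheme.homOfLE_ι_assoc]
      · simp only [g', Category.assoc, pullback.lift_snd]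
        exact hag
    obtain ⟨hzcl, huniq⟩ := NormalExtLib.exists_eq_singleton_closure_range (pullback.fst pX pY) U hU
      (pullback.lift U.ι h hh.symm) (pullback.lift_fst _ _ _) f x' V' hxV' g' hg' hag'
    have hzx : pullback.fst pX pY (g' ⟨x', hxV'⟩) = f x' := by
      rw [← Scheme.Hom.comp_apply, hg', Scheme.Hom.comp_apply]
      rfl
    refine Groth.Agent.S3836.result pX pY hX U hU h hh.symm (f x') (hXn _) _ hzx hzcl ⟨⊤, ?_⟩
    apply Set.Subset.antisymm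
    · rintro w ⟨⟨-, hw⟩, hwx⟩
      exact huniq w hw hwx
    · rintro _ rfl
      exact ⟨⟨trivial, hzcl⟩, hzx⟩

end Groth.Agent.S3837
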