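import Groth.Statements.S3842
import Mathlib

set_option autoImplicit false
universe u
open CategoryTheory CategoryTheory.Limits AlgebraicGeometry TopologicalSpace
open Rat20

namespace Groth.Agent.S3842

/-- For the open subset U = X; the general case is the same statement over the open subscheme U: let f :
X' → X be a morphism of schemes with X' reduced, suppose the irreducible components of X form a
locally finite family and that every irreducible component of X' dominates an irreducible component
of X (the closure of its image is an irreducible component of X). Then for every schematically dense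
open subset V of X, the preimage f⁻¹(V) is schematically dense in X'. -/
theorem result {X X' : Scheme.{u}} (f : X' ⟶ X) [IsReduced X']
    (hfin : ∀ x : ↥X, ∃ W : X.Opens, x ∈ W ∧ {Z ∈ irreducibleComponents ↥X | (Z ∩ (W : Set ↥X)).Nonempty}.Finite)
    (hdom : ∀ Z' ∈ irreducibleComponents ↥X', closure (f '' Z') ∈ irreducibleComponents ↥X)
    (V : X.Opens) (hV : CInt.IsSchematicallyDense V) : CInt.IsSchematicallyDense (f ⁻¹ᵁ V) := by
  have hVd : Dense (V : Set X) := by
    rw [dense_iff_inter_open]
    intro W hW hne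
    by_contra hemp
    rw [Set.not_nonempty_iff_eq_empty] at hemp
    let W' : X.Opens := ⟨W, hW⟩
    have h0 : W' ⊓ V = ⊥ := TopologicalSpace.Opens.ext hemp
    haveI hs : Subsingleton Γ(X, W' ⊓ V) := by rw [h0]; infer_instance
    haveI : Subsingleton Γ(X, W') := (hV W').subsingleton
    have h1 := congrArg X.basicOpen (Subsingleton.elim (1 : Γ(X, W')) 0)
    rw [Scheme.basicOpen_one, Scheme.basicOpen_zero] at h1
    obtain ⟨w, hw⟩ := hne
    exact (h1.le hw : w ∈ (⊥ : X.Opens))
  have hmeet : ∀ Z' ∈ irreducibleComponents ↥X', (Z' ∩ f ⁻¹' (V : Set X)).Nonempty := by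
    intro Z' hZ'
    have hZ := hdom Z' hZ'
    set Z := closure (f '' Z') with hZdef
    obtain ⟨x, hx⟩ := hZ.1.nonempty
    obtain ⟨W, hxW, hWfin⟩ := hfin x
    let F := {C ∈ irreducibleComponents ↥X | (C ∩ (W : Set ↥X)).Nonempty} \ {Z}
    have hF : F.Finite := hWfin.sdiff
    have hFc : IsClosed (⋃₀ F) := by
      rw [Set.sUnion_eq_biUnion]
      exact hF.isClosed_biUnion fun C hC => isClosed_of_mem_irreducibleComponents C hC.1.1
    let O := (W : Set X) \ ⋃₀ F
    have hOo : IsOpen O := W.2.sdiff hFc
    have hOne : O.Nonempty := by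
      by_contra hemp
      rw [Set.not_nonempty_iff_eq_empty, Set.sdiff_eq_empty] at hemp
      have h1 : Z ⊆ ⋃₀ F := by
        refine (subset_closure_inter_of_isPreirreducible_of_isOpen hZ.1.isPreirreducible W.2 ⟨x, hx, hxW⟩).trans ?_
        exact hFc.closure_subset_iff.2 (Set.inter_subset_right.trans hemp)
      obtain ⟨C, hC, hZC⟩ := isIrreducible_iff_sUnion_isClosed.1 hZ.1 hF.toFinset
        (fun C hC => isClosed_of_mem_irreducibleComponents C ((hF.mem_toFinset.1 hC).1.1))
        (by rwa [hF.coe_toFinset])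
      have hC' := hF.mem_toFinset.1 hC
      exact hC'.2 (Set.Subset.antisymm (hZ.2 hC'.1.1.1 hZC) hZC)
    obtain ⟨y, hyO, hyV⟩ := hVd.inter_open_nonempty O hOo hOne
    have hyZ : y ∈ Z := by
      by_contra hyn
      refine hyO.2 ⟨irreducibleComponent y, ⟨⟨irreducibleComponent_mem_irreducibleComponents y,
        y, mem_irreducibleComponent, hyO.1⟩, fun h => hyn ?_⟩, mem_irreducibleComponent⟩
      exact (Set.mem_singleton_iff.1 h) ▸ mem_irreducibleComponent
    obtain ⟨-, ⟨-, hzV⟩, z, hz, rfl⟩ := mem_closure_iff.1 hyZ (O ∩ V) (hOo.inter V.2) ⟨hyO, hyV⟩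
    exact ⟨z, hz, hzV⟩
  have hd : Dense ((f ⁻¹ᵁ V : X'.Opens) : Set X') := fun x =>
    closure_mono Set.inter_subset_right
      (subset_closure_inter_of_isPreirreducible_of_isOpen isIrreducible_irreducibleComponent.isPreirreducible (f ⁻¹ᵁ V).2
        (hmeet _ (irreducibleComponent_mem_irreducibleComponents x)) mem_irreducibleComponent)
  intro W
  refine (injective_iff_map_eq_zero _).2 fun s hs => ?_
  apply eq_zero_of_basicOpen_eq_bot
  refine TopologicalSpace.Opens.ext (Set.eq_empty_of_forall_notMem fun x hx => ?_)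
  obtain ⟨y, hys, hyU⟩ := hd.inter_open_nonempty _ (X'.basicOpen s).2 ⟨x, hx⟩
  have h1 := congrArg X'.basicOpen hs
  rw [Scheme.basicOpen_res, Scheme.basicOpen_zero] at h1
  exact (h1.le ⟨⟨X'.basicOpen_le s hys, hyU⟩, hys⟩ : y ∈ (⊥ : X'.Opens))

end Groth.Agent.S3842
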