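import Groth.Statements.S3849
import Mathlib
import Groth.Agent.NormalExtLib.Glue
import Groth.Agent.DvrDom.Scheme

set_option autoImplicit false
universe u
open CategoryTheory CategoryTheory.Limits AlgebraicGeometry TopologicalSpace
open Rat20

namespace Groth.Agent.S3849

/-- In the case S = X (sections of q : Y → X): let X be a locally Noetherian scheme, q : Y → X
separated, locally of finite type and locally quasi-finite, U a dense open subset of X, h : U → Y a
section of q over U, and x a point of X outside U whose local ring is an integrally closed domain.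
Then h extends to a section of q over an open subset containing U and x if and only if there exist a
discrete valuation ring R, a morphism u : Spec R → X sending the closed point to x and the generic
point into U, and a morphism Spec R → Y over X agreeing with h at the generic point. -/
theorem result {X Y : Scheme.{u}} [IsLocallyNoetherian X] (q : Y ⟶ X)
    [LocallyOfFiniteType q] [IsSeparated q] [LocallyQuasiFinite q] (U : X.Opens) (hU : Dense (U : Set ↥X))
    (h : (U : Scheme.{u}) ⟶ Y) (hh : h ≫ q = U.ι) (x : ↥X) (hxU : x ∉ U) [IsDomain ↑(X.presheaf.stalk x)]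
    (hx : IsIntegrallyClosed ↑(X.presheaf.stalk x)) :
    (∃ (U' : X.Opens) (hUU' : U ≤ U') (h' : (U' : Scheme.{u}) ⟶ Y),
        x ∈ U' ∧ h' ≫ q = U'.ι ∧ X.homOfLE hUU' ≫ h' = h) ↔
      ∃ (R : Type u) (_ : CommRing R) (_ : IsDomain R) (_ : IsDiscreteValuationRing R)
        (u : Spec (CommRingCat.of R) ⟶ X) (ub : Spec (CommRingCat.of (FractionRing R)) ⟶ (U : Scheme.{u}))
        (h₁ : Spec (CommRingCat.of R) ⟶ Y),
        u (IsLocalRing.closedPoint R) = x ∧
          ub ≫ U.ι = Spec.map (CommRingCat.ofHom (algebraMap R (FractionRing R))) ≫ u ∧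
          h₁ ≫ q = u ∧ Spec.map (CommRingCat.ofHom (algebraMap R (FractionRing R))) ≫ h₁ = ub ≫ h := by
  obtain ⟨W, hxW, hW⟩ := NormalExtLib.exists_isIntegral_nhd x
  have hξ : NormalExtLib.genPt x ∈ U := NormalExtLib.genPt_mem_of_dense x hxW hU
  constructor
  · rintro ⟨U', hUU', h', hxU', hh', hres⟩
    have hne : x ≠ NormalExtLib.genPt x := fun e ↦ hxU (e ▸ hξ)
    obtain ⟨A, u, hA, hu, hgen⟩ := DvrDomLib.exists_dvr_through_specialization (𝟙 X)
      (NormalExtLib.genPt x) x (NormalExtLib.genPt_specializes_self x) hne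
    have hbot : Spec.map (CommRingCat.ofHom (algebraMap A (FractionRing A)))
          (IsLocalRing.closedPoint (FractionRing A)) =
        Spec.map (CommRingCat.ofHom A.subtype) (IsLocalRing.closedPoint _) := by
      rw [NormalExtLib.closedPoint_map_eq_bot _ (IsFractionRing.injective _ _),
        NormalExtLib.closedPoint_map_eq_bot (R := A) A.subtype Subtype.val_injective]
    have hgenU : (Spec.map (CommRingCat.ofHom (algebraMap A (FractionRing A))) ≫ u)
        (IsLocalRing.closedPoint (FractionRing A)) ∈ U := by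
      rw [Scheme.Hom.comp_apply, hbot, ← Scheme.Hom.comp_apply, hgen, Category.comp_id,
        Scheme.fromSpecResidueField_apply]
      exact hξ
    have hrU : Set.range (Spec.map (CommRingCat.ofHom (algebraMap A (FractionRing A))) ≫ u) ⊆
        Set.range U.ι := by
      rw [Scheme.Opens.range_ι]
      rintro _ ⟨a, rfl⟩
      rwa [Subsingleton.elim a (IsLocalRing.closedPoint _)]
    have hrU' : Set.range u ⊆ Set.range U'.ι := by
      rw [Scheme.Opens.range_ι]
      rintro _ ⟨a, rfl⟩
      exact NormalExtLib.mem_of_closedPoint_mem u (hu.symm ▸ hxU') a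
    refine ⟨A, inferInstance, inferInstance, hA, u, IsOpenImmersion.lift U.ι _ hrU,
      IsOpenImmersion.lift U'.ι u hrU' ≫ h', hu, IsOpenImmersion.lift_fac _ _ _,
      by rw [Category.assoc, hh', IsOpenImmersion.lift_fac], ?_⟩
    rw [← hres, ← Category.assoc, ← Category.assoc]
    congr 1
    rw [← cancel_mono U'.ι, Category.assoc, Category.assoc, Scheme.homOfLE_ι,
      IsOpenImmersion.lift_fac, IsOpenImmersion.lift_fac]
  · rintro ⟨R, _, _, _, u, ub, h₁, hu, hub, hh₁, hagree⟩
    let g : Spec (CommRingCat.of (FractionRing R)) ⟶ Spec (CommRingCat.of R) :=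
      Spec.map (CommRingCat.ofHom (algebraMap R (FractionRing R)))
    let c := IsLocalRing.closedPoint (FractionRing R)
    let y : Y := h₁ (IsLocalRing.closedPoint R)
    have hy : q y = x := by
      show q (h₁ (IsLocalRing.closedPoint R)) = x
      rw [← Scheme.Hom.comp_apply, hh₁, hu]
    have hg : g c ⤳ IsLocalRing.closedPoint R := IsLocalRing.specializes_closedPoint _
    have hy' : h (ub c) ⤳ y := by
      rw [← Scheme.Hom.comp_apply, ← hagree, Scheme.Hom.comp_apply]
      exact hg.map h₁.continuous
    have hubW : U.ι (ub c) ⤳ x := by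
      rw [← Scheme.Hom.comp_apply, hub, Scheme.Hom.comp_apply, ← hu]
      exact hg.map u.continuous
    have hsp : (NormalExtLib.genLift x hξ) (IsLocalRing.closedPoint _) ⤳ ub c := by
      rw [← U.ι.isOpenEmbedding.isInducing.specializes_iff, NormalExtLib.genLift_apply]
      exact NormalExtLib.genPt_specializes_of_specializes x hubW
    have hsy : (NormalExtLib.genLift x hξ ≫ h) (IsLocalRing.closedPoint _) ⤳ y := by
      rw [Scheme.Hom.comp_apply]
      exact (hsp.map h.continuous).trans hy'
    have hd := q.isDiscrete_preimage_singleton x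
    obtain ⟨O₀, hO₀, hyO₀⟩ := isDiscrete_iff_forall_exists_isOpen.mp hd y hy
    have hmem : y ∈ O₀ := (hyO₀.ge rfl).1
    obtain ⟨V, hxV, f, hfq, -, hag⟩ := NormalExtLib.exists_section_nhd q x hx hxW U hξ h hh y hy hsy
      ⟨⟨O₀, hO₀⟩, hmem, fun z hz _ hzx ↦ hyO₀.le ⟨hz, hzx⟩⟩
    obtain ⟨k, hk1, hk2⟩ := NormalExtLib.exists_glue_sup U V h f hag.symm
    refine ⟨U ⊔ V, le_sup_left, k, Or.inr hxV, ?_, hk1⟩
    refine NormalExtLib.hom_ext_sup ?_ ?_
    · rw [← Category.assoc, hk1, hh, Scheme.homOfLE_ι]
    · rw [← Category.assoc, hk2, hfq, Scheme.homOfLE_ι]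

end Groth.Agent.S3849
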