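import Groth.Statements.S5055
import Groth.Agent.CKaehlerLib.Points
-- import your own Groth.Agent.* helpers here

set_option autoImplicit false
universe u
open EGA418

namespace Groth.Agent.S5055

/-- Let k be a field, A a complete Noetherian local k-algebra of Krull dimension n whose residue field
is a finite extension of k, p a prime ideal distinct from the maximal ideal and containing a minimal
prime q with dim A/q = n, and Ω̂ the completion of the module of differentials of A over k. If the
A_p-module Ω̂_p is generated by n elements, then it is free of rank n and A_p is a geometrically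
regular k-algebra. -/
theorem result (k A : Type u) [Field k] [CommRing A]
    [IsLocalRing A] [IsNoetherianRing A] [Algebra k A] [IsAdicComplete (IsLocalRing.maximalIdeal A) A]
    [Module.Finite k (IsLocalRing.ResidueField A)]
    (n : ℕ) (hn : ringKrullDim A = n) (p : Ideal A) [p.IsPrime] (hp : p ≠ IsLocalRing.maximalIdeal A)
    (hq : ∃ q ∈ minimalPrimes A, q ≤ p ∧ ringKrullDim (A ⧸ q) = n)
    (hgen : ∃ s : Fin n → (LocalizedModule p.primeCompl (AdicCompletion (IsLocalRing.maximalIdeal A) (KaehlerDifferential k A))), Submodule.span (Localization.AtPrime p) (Set.range s) = ⊤) :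
    (Module.Free (Localization.AtPrime p) (LocalizedModule p.primeCompl (AdicCompletion (IsLocalRing.maximalIdeal A) (KaehlerDifferential k A))) ∧
      Module.finrank (Localization.AtPrime p) (LocalizedModule p.primeCompl (AdicCompletion (IsLocalRing.maximalIdeal A) (KaehlerDifferential k A))) = n) ∧
      CAlg.IsGeometricallyRegular k (Localization.AtPrime p) := by
  obtain ⟨q, hq, hqp, hqn⟩ := hq
  obtain ⟨t, ht⟩ := hgen
  obtain ⟨P, _, _, _, _, _, π, s, Y, D, hπ, hcov, hPfin⟩ := CKaehlerLib.exists_cover k A
  letI : Algebra P A := π.toRingHom.toAlgebra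
  haveI : IsScalarTower k P A := IsScalarTower.of_algebraMap_eq fun c => (π.commutes c).symm
  haveI := hPfin
  have hsurj : Function.Surjective (algebraMap P A) := hπ
  have hns : n ≤ s := by
    have h := ringKrullDim_le_of_surjective (algebraMap P A) hsurj
    rw [hn, CKaehlerLib.dim_eq_of_isCover hcov] at h
    exact_mod_cast h
  obtain ⟨f, σ, hf, hdet⟩ := CKaehlerLib.exists_minor_of_generated hcov hsurj p t ht (m := s - n) (by omega)
  have hgen' := (CKaehlerLib.height_data hcov hsurj p q hq hqp hqn σ f hf hdet).1 (by omega)
  haveI : (p.comap (algebraMap P A)).IsPrime := Ideal.comap_isPrime _ p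
  obtain ⟨hfree, hrank⟩ := CKaehlerLib.free_of_jacobian hcov hsurj p σ f hf hgen' hdet
  refine ⟨⟨hfree, by omega⟩, ?_⟩
  exact AdicFSLib.isGeometricallyRegular_iff_adicFS.2 (CKaehlerLib.adicFS_of_jacobian hcov hsurj p σ f hf hgen' hdet)

end Groth.Agent.S5055
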