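import Groth.Statements.S3850
import Groth.Agent.S5054
import Groth.Agent.S5055
import Groth.Agent.S7771
import Groth.Agent.CommAlgDim.Integral
import Groth.Agent.CommAlgDim.RegularRing
import Groth.Agent.CatLib.Completion
import Groth.Agent.CatLib.Flat
import Groth.Agent.CKaehlerLib.Cover
-- import your own Groth.Agent.* helpers here

set_option autoImplicit false
set_option maxHeartbeats 1000000
universe u
open EGA418

namespace Groth.Agent.S3850

/-- b) iff c), in the case n = dim A: let k be a field, A a complete Noetherian local k-algebra whose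
residue field is finite over k, of dimension n, p a non-maximal prime ideal of A contained in an
irreducible component of dimension n (there is a minimal prime q ⊆ p with dim A/q = n), and Ω̂ the
completion of the module of differentials of A over k for the topology of the maximal ideal. Then
Ω̂_p is a free A_p-module of rank n if and only if there is a local k-algebra map u : k[[T_1, …,
T_n]] → A making A a finite algebra over the power series ring and étale over it at p. -/
theorem result (k A : Type u) [Field k] [CommRing A]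
    [IsLocalRing A] [IsNoetherianRing A] [Algebra k A] [IsAdicComplete (IsLocalRing.maximalIdeal A) A]
    [Module.Finite k (IsLocalRing.ResidueField A)] (n : ℕ) (hn : ringKrullDim A = n)
    (p : Ideal A) [p.IsPrime] (hp : p ≠ IsLocalRing.maximalIdeal A)
    (hq : ∃ q ∈ minimalPrimes A, q ≤ p ∧ ringKrullDim (A ⧸ q) = n) :
    (Module.Free (Localization.AtPrime p)
        (LocalizedModule p.primeCompl (AdicCompletion (IsLocalRing.maximalIdeal A) (KaehlerDifferential k A))) ∧
      Module.finrank (Localization.AtPrime p)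
        (LocalizedModule p.primeCompl (AdicCompletion (IsLocalRing.maximalIdeal A) (KaehlerDifferential k A))) = n) ↔
      ∃ (_ : Algebra (MvPowerSeries (Fin n) k) A) (_ : IsScalarTower k (MvPowerSeries (Fin n) k) A),
        IsLocalHom (algebraMap (MvPowerSeries (Fin n) k) A) ∧ Module.Finite (MvPowerSeries (Fin n) k) A ∧
          Algebra.IsEtaleAt (MvPowerSeries (Fin n) k) p := by
  classical
  obtain ⟨q, hq, hqp, hqn⟩ := hq
  haveI : q.IsPrime := hq.1.1
  let Ω := AdicCompletion (IsLocalRing.maximalIdeal A) (KaehlerDifferential k A)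
  haveI : Module.Finite A Ω := CKaehlerLib.finite_completedKaehler k A
  constructor
  · rintro ⟨hfree, hrank⟩
    haveI := hfree
    haveI : Module.Finite (Localization.AtPrime p) (LocalizedModule p.primeCompl Ω) :=
      Module.Finite.of_isLocalizedModule p.primeCompl (LocalizedModule.mkLinearMap p.primeCompl Ω)
    let b := Module.finBasisOfFinrankEq (Localization.AtPrime p) (LocalizedModule p.primeCompl Ω) hrank
    obtain ⟨i₁, i₂, hloc, hfin, hun⟩ :=
      (Groth.Agent.S5054.result k A p hp ⟨q, hq, hqp, hqn.trans hn.symm⟩ n).1 ⟨b, b.span_eq⟩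
    refine ⟨i₁, i₂, hloc, hfin, ?_⟩
    let P := MvPowerSeries (Fin n) k
    haveI := hfin
    haveI := hun
    haveI : IsRegularRing P := CommAlgDim.isRegularRing_mvPowerSeries k n
    haveI := CohenLib.isRegularLocalRing_mvPowerSeries k n
    haveI : IsNoetherianRing (Localization.AtPrime p) := IsLocalization.isNoetherianRing p.primeCompl _ inferInstance
    haveI hreg : IsRegularLocalRing (Localization.AtPrime p) :=
      (Groth.Agent.S2471.result.1 (AdicFSLib.isGeometricallyRegular_iff_adicFS.1
        (Groth.Agent.S5055.result k A n hn p hp ⟨q, hq, hqp, hqn⟩ ⟨b, b.span_eq⟩).2)).1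
    haveI : LocCoh.IsCohenMacaulayLocalRing (Localization.AtPrime p) :=
      (CMFlatLib.isCohenMacaulayLocalRing_iff_isCM _).2 (CommAlgDim.isCM_of_isRegularLocalRing _)
    refine Groth.Agent.S7771.result P A p ?_
    have hcat : CAlg.IsCatenary A := by
      obtain ⟨R, _, _, _, _, _, π, _, _, _, hπ, hcov, _⟩ := CKaehlerLib.exists_cover k A
      haveI : IsRegularLocalRing R := (Groth.Agent.S2471.result.1 hcov.1).1
      exact CatLib.isCatenary_of_surjective π.toRingHom hπ
        (CatLib.isCatenary_of_isCM (CommAlgDim.isCM_of_isRegularLocalRing _))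
    haveI : IsLocalRing (A ⧸ q) := IsLocalRing.of_surjective' _ Ideal.Quotient.mk_surjective
    haveI : (p.map (Ideal.Quotient.mk q)).IsPrime :=
      Ideal.map_isPrime_of_surjective Ideal.Quotient.mk_surjective (by rwa [Ideal.mk_ker])
    have hA := CatLib.ringKrullDim_quotient_add_height_of_domain (CatLib.isCatenary_quotient q hcat)
      (p.map (Ideal.Quotient.mk q))
    rw [CatLib.ringKrullDim_quotient_quotient_map hqp, hqn] at hA
    have hle := J2Lib.ringKrullDim_quotient_add_height_le p
    rw [hn] at hle
    have hhle : (p.map (Ideal.Quotient.mk q)).height ≤ p.height := by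
      rw [PrimeSpectrum.height_eq_orderHeight ⟨_, ‹(p.map (Ideal.Quotient.mk q)).IsPrime›⟩,
        PrimeSpectrum.height_eq_orderHeight ⟨p, ‹_›⟩]
      refine (Order.height_le_height_apply_of_strictMono _ (CatLib.quotEmb q).strictMono _).trans (le_of_eq ?_)
      congr 1
      refine PrimeSpectrum.ext ?_
      show (p.map (Ideal.Quotient.mk q)).comap (Ideal.Quotient.mk q) = p
      rw [Ideal.comap_map_of_surjective _ Ideal.Quotient.mk_surjective, ← RingHom.ker_eq_comap_bot, Ideal.mk_ker,
        sup_eq_left.2 hqp]
    let 𝔮 := p.under P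
    have hP := CatLib.ringKrullDim_quotient_add_height (CommAlgDim.isCM_of_isRegularLocalRing P) 𝔮
    rw [CohenLib.ringKrullDim_mvPowerSeries_field] at hP
    have hPA : ringKrullDim (A ⧸ p) = ringKrullDim (P ⧸ 𝔮) := by
      haveI : Module.Finite (P ⧸ 𝔮) (A ⧸ p) := Module.Finite.of_restrictScalars_finite P _ _
      haveI : Algebra.IsIntegral (P ⧸ 𝔮) (A ⧸ p) := Algebra.IsIntegral.of_finite _ _
      exact CommAlgDim.ringKrullDim_eq_of_integral _ _ Ideal.algebraMap_quotient_injective
    rw [hPA] at hA hle
    have hne : ringKrullDim (P ⧸ 𝔮) ≠ ⊥ := by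
      haveI : Nontrivial (P ⧸ 𝔮) := Ideal.Quotient.nontrivial_iff.2 (Ideal.IsPrime.ne_top inferInstance)
      exact fun h => by simpa [h] using ringKrullDim_nonneg_of_nontrivial (R := P ⧸ 𝔮)
    obtain ⟨d, hd⟩ := WithBot.ne_bot_iff_exists.1 hne
    rw [← hd] at hA hle hP
    rw [IsLocalization.AtPrime.ringKrullDim_eq_height 𝔮 (Localization.AtPrime 𝔮),
      IsLocalization.AtPrime.ringKrullDim_eq_height p (Localization.AtPrime p)]
    have hd' : d ≠ ⊤ := fun h => by
      rw [h] at hP
      exact absurd (WithBot.coe_injective (show ((⊤ + 𝔮.height : ℕ∞) : WithBot ℕ∞) = ((n : ℕ∞) : WithBot ℕ∞) by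
        exact_mod_cast hP)) (by simp)
    obtain ⟨d, rfl⟩ := ENat.ne_top_iff_exists.1 hd'
    norm_cast at hA hle hP ⊢
    have h1 : (n : ℕ∞) ≤ d + p.height := hA ▸ add_le_add le_rfl hhle
    have h2 : (d : ℕ∞) + p.height = n := le_antisymm hle h1
    exact (ENat.add_right_injective_of_ne_top (ENat.natCast_ne_top d)) (hP.trans h2.symm)
  · rintro ⟨i₁, i₂, hloc, hfin, het⟩
    haveI := hfin
    haveI := het
    haveI : Algebra.IsUnramifiedAt (MvPowerSeries (Fin n) k) p :=
      (inferInstance : Algebra.FormallyUnramified (MvPowerSeries (Fin n) k) (Localization.AtPrime p))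
    exact (Groth.Agent.S5055.result k A n hn p hp ⟨q, hq, hqp, hqn⟩
      ((Groth.Agent.S5054.result k A p hp ⟨q, hq, hqp, hqn.trans hn.symm⟩ n).2 ⟨i₁, i₂, hloc, hfin, inferInstance⟩)).1

end Groth.Agent.S3850
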