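import Groth.Statements.S3851
import Groth.Agent.CKaehlerLib.BaseFieldPoints
import Groth.Agent.CKaehlerLib.Points
import Mathlib.FieldTheory.IsAlgClosed.AlgebraicClosure
import Mathlib.RingTheory.Flat.FaithfullyFlat.Algebra
-- import your own Groth.Agent.* helpers here

set_option autoImplicit false
set_option maxHeartbeats 2000000
set_option synthInstance.maxHeartbeats 200000
universe u
open scoped TensorProduct
open EGA418

namespace Groth.Agent.S3851

/-- a) iff a') iff b), and b) implies d): let k be a field, A a complete Noetherian local k-algebra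
whose residue field is finite over k, p a non-maximal prime of A, n the largest dimension of an
irreducible component of Spec A containing p, and Ω̂ the completion of the module of differentials
of A over k for the topology of the maximal ideal. For a field extension k' of k write A' = A ⊗̂_k
k' (the completion of A ⊗_k k' for the extension of the maximal ideal). The following are
equivalent: (a) for every extension k' and every prime p' of A' over p, A'_{p'} is regular; (a') for
some perfect extension k' and some prime p' of A' over p, A'_{p'} is regular; (b) Ω̂_p is a free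
A_p-module of rank n. Moreover (b) implies (d): A_p is geometrically regular over k. (The converse
of the last implication, valid when [k : k^p] is finite, is not stated.) -/
theorem result (k A : Type u) [Field k] [CommRing A]
    [IsLocalRing A] [IsNoetherianRing A] [Algebra k A] [IsAdicComplete (IsLocalRing.maximalIdeal A) A]
    [Module.Finite k (IsLocalRing.ResidueField A)] (p : Ideal A) [p.IsPrime] (hp : p ≠ IsLocalRing.maximalIdeal A)
    (n : ℕ) (hn₁ : ∀ q ∈ minimalPrimes A, q ≤ p → ringKrullDim (A ⧸ q) ≤ n)
    (hn₂ : ∃ q ∈ minimalPrimes A, q ≤ p ∧ ringKrullDim (A ⧸ q) = n) :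
    List.TFAE [
      ∀ (k' : Type u) [Field k'] [Algebra k k']
        (p' : Ideal (AdicCompletion ((IsLocalRing.maximalIdeal A).map
          (Algebra.TensorProduct.includeLeft : A →ₐ[k] A ⊗[k] k')) (A ⊗[k] k'))) [p'.IsPrime],
        (p'.comap (algebraMap (A ⊗[k] k') _)).comap
            (Algebra.TensorProduct.includeLeft : A →ₐ[k] A ⊗[k] k').toRingHom = p →
          IsRegularLocalRing (Localization.AtPrime p'),
      ∃ (k' : Type u) (_ : Field k') (_ : Algebra k k') (_ : PerfectField k')
        (p' : Ideal (AdicCompletion ((IsLocalRing.maximalIdeal A).map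
          (Algebra.TensorProduct.includeLeft : A →ₐ[k] A ⊗[k] k')) (A ⊗[k] k'))) (_ : p'.IsPrime),
        (p'.comap (algebraMap (A ⊗[k] k') _)).comap
            (Algebra.TensorProduct.includeLeft : A →ₐ[k] A ⊗[k] k').toRingHom = p ∧
          IsRegularLocalRing (Localization.AtPrime p'),
      Module.Free (Localization.AtPrime p)
          (LocalizedModule p.primeCompl (AdicCompletion (IsLocalRing.maximalIdeal A) (KaehlerDifferential k A))) ∧
        Module.finrank (Localization.AtPrime p)
          (LocalizedModule p.primeCompl (AdicCompletion (IsLocalRing.maximalIdeal A) (KaehlerDifferential k A))) = n] ∧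
    ((Module.Free (Localization.AtPrime p)
          (LocalizedModule p.primeCompl (AdicCompletion (IsLocalRing.maximalIdeal A) (KaehlerDifferential k A))) ∧
        Module.finrank (Localization.AtPrime p)
          (LocalizedModule p.primeCompl (AdicCompletion (IsLocalRing.maximalIdeal A) (KaehlerDifferential k A))) = n) →
      CAlg.IsGeometricallyRegular k (Localization.AtPrime p)) := by
  classical
  obtain ⟨q, hq, hqp, hqn⟩ := hn₂
  haveI : q.IsPrime := hq.1.1
  obtain ⟨P, _, _, _, _, _, π, s, Y, D, hπ, hcov, hPfin⟩ := CKaehlerLib.exists_cover k A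
  letI : Algebra P A := π.toRingHom.toAlgebra
  haveI : IsScalarTower k P A := IsScalarTower.of_algebraMap_eq fun c => (π.commutes c).symm
  haveI := hPfin
  have hsurj : Function.Surjective (algebraMap P A) := hπ
  haveI : (p.comap (algebraMap P A)).IsPrime := Ideal.comap_isPrime _ p
  -- generators with full Jacobian from freeness
  have hdata : (Module.Free (Localization.AtPrime p)
        (LocalizedModule p.primeCompl (AdicCompletion (IsLocalRing.maximalIdeal A) (KaehlerDifferential k A))) ∧
      Module.finrank (Localization.AtPrime p)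
        (LocalizedModule p.primeCompl (AdicCompletion (IsLocalRing.maximalIdeal A) (KaehlerDifferential k A))) = n) →
      ∃ (m : ℕ) (σ : Fin m → Fin s) (f : Fin m → P), (∀ j, algebraMap P A (f j) = 0) ∧
        (RingHom.ker (algebraMap P A)).map (algebraMap P (Localization.AtPrime (p.comap (algebraMap P A)))) =
          Ideal.span (Set.range fun j => algebraMap P (Localization.AtPrime (p.comap (algebraMap P A))) (f j)) ∧
        Matrix.det (Matrix.of fun i j => D (σ i) (f j)) ∉ p.comap (algebraMap P A) := by
    rintro ⟨hfree, hrank⟩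
    haveI := hfree
    haveI := CKaehlerLib.finite_completedKaehler k A
    haveI : Module.Finite (Localization.AtPrime p)
        (LocalizedModule p.primeCompl (AdicCompletion (IsLocalRing.maximalIdeal A) (KaehlerDifferential k A))) :=
      Module.Finite.of_isLocalizedModule p.primeCompl (LocalizedModule.mkLinearMap p.primeCompl _)
    let b := Module.finBasisOfFinrankEq (Localization.AtPrime p)
      (LocalizedModule p.primeCompl (AdicCompletion (IsLocalRing.maximalIdeal A) (KaehlerDifferential k A))) hrank
    have hns : n ≤ s := by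
      have h := ringKrullDim_le_of_surjective ((Ideal.Quotient.mk q).comp (algebraMap P A))
        (Ideal.Quotient.mk_surjective.comp hsurj)
      rw [hqn, CKaehlerLib.dim_eq_of_isCover hcov] at h
      exact_mod_cast h
    obtain ⟨f, σ, hf, hdet⟩ := CKaehlerLib.exists_minor_of_generated hcov hsurj p b b.span_eq (m := s - n) (by omega)
    exact ⟨s - n, σ, f, hf, (CKaehlerLib.height_data hcov hsurj p q hq hqp hqn σ f hf hdet).1 (by omega), hdet⟩
  have hcomp : ∀ (k' : Type u) [Field k'] [Algebra k k'] (p' : Ideal (AdicCompletion
      ((IsLocalRing.maximalIdeal A).map (Algebra.TensorProduct.includeLeft : A →ₐ[k] A ⊗[k] k')) (A ⊗[k] k'))),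
      (p'.comap (algebraMap (A ⊗[k] k') _)).comap
          (Algebra.TensorProduct.includeLeft : A →ₐ[k] A ⊗[k] k').toRingHom =
        p'.comap (algebraMap A _) := fun k' _ _ p' => by
    ext a
    rw [Ideal.mem_comap, Ideal.mem_comap, Ideal.mem_comap, CKaehlerLib.algebraMap_completion (A := A) _ a]
    rfl
  refine ⟨?_, fun h => ?_⟩
  · tfae_have 1 → 2 := fun h => by
      letI : Algebra (AlgebraicClosure k) (A ⊗[k] AlgebraicClosure k) := Algebra.TensorProduct.rightAlgebra
      let IA : Ideal (A ⊗[k] AlgebraicClosure k) := (IsLocalRing.maximalIdeal A).map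
        (Algebra.TensorProduct.includeLeft : A →ₐ[k] A ⊗[k] AlgebraicClosure k)
      have hIA : IA = (IsLocalRing.maximalIdeal A).map (algebraMap A (A ⊗[k] AlgebraicClosure k)) := rfl
      haveI := CKaehlerLib.finite_baseField_quotient k A (AlgebraicClosure k) IA hIA
      obtain ⟨-, -, hlocs⟩ := CKaehlerLib.completion_localization (k' := AlgebraicClosure k) IA hIA
      let γ : (A ⊗[k] AlgebraicClosure k) →ₐ[k] (IsLocalRing.ResidueField A) ⊗[k] AlgebraicClosure k :=
        Algebra.TensorProduct.map (IsScalarTower.toAlgHom k A (IsLocalRing.ResidueField A)) (AlgHom.id k _)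
      have hγ : IA ≤ RingHom.ker γ.toRingHom := Ideal.map_le_iff_le_comap.2 fun a ha => by
        rw [Ideal.mem_comap, RingHom.mem_ker]
        show γ (a ⊗ₜ[k] (1 : AlgebraicClosure k)) = 0
        rw [Algebra.TensorProduct.map_tmul, show IsScalarTower.toAlgHom k A (IsLocalRing.ResidueField A) a = 0 from
          (IsLocalRing.residue_eq_zero_iff a).2 ha, TensorProduct.zero_tmul]
      haveI : Nontrivial (AdicCompletion IA (A ⊗[k] AlgebraicClosure k)) :=
        ((Ideal.Quotient.lift IA γ.toRingHom hγ).comp (AdicCompletion.evalOneₐ IA).toRingHom).domain_nontrivial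
      obtain ⟨M, hM⟩ := Ideal.exists_maximal (AdicCompletion IA (A ⊗[k] AlgebraicClosure k))
      haveI := (hlocs ⟨M, hM⟩).2.1
      obtain ⟨Q, hQ⟩ := PrimeSpectrum.comap_surjective_of_faithfullyFlat
        (A := A) (B := Localization.AtPrime M) ⟨p, inferInstance⟩
      have hQ' : Q.asIdeal.comap (algebraMap A (Localization.AtPrime M)) = p := congrArg PrimeSpectrum.asIdeal hQ
      let p' := Q.asIdeal.comap (algebraMap (AdicCompletion IA (A ⊗[k] AlgebraicClosure k)) (Localization.AtPrime M))
      have hp' : (p'.comap (algebraMap (A ⊗[k] AlgebraicClosure k) _)).comap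
          (Algebra.TensorProduct.includeLeft : A →ₐ[k] A ⊗[k] AlgebraicClosure k).toRingHom = p := by
        rw [hcomp, Ideal.comap_comap, ← IsScalarTower.algebraMap_eq]
        exact hQ'
      exact ⟨AlgebraicClosure k, inferInstance, inferInstance, inferInstance, p', inferInstance, hp', h _ p' hp'⟩
    tfae_have 2 → 3 := fun ⟨k', _, _, _, p', hprime, hp', hreg⟩ => by
      haveI := hprime
      obtain ⟨m, σ, f, hf, hgen, hdet⟩ := CKaehlerLib.exists_jacobian_of_regular (k' := k')
        ((IsLocalRing.maximalIdeal P).map (algebraMap P (P ⊗[k] k')))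
        ((IsLocalRing.maximalIdeal A).map (Algebra.TensorProduct.includeLeft : A →ₐ[k] A ⊗[k] k')) rfl rfl hcov hsurj p p'
        ((hcomp k' p').symm.trans hp') hreg
      have hmn := (CKaehlerLib.height_data hcov hsurj p q hq hqp hqn σ f hf hdet).2 hgen
      obtain ⟨hfree, hrank⟩ := CKaehlerLib.free_of_jacobian hcov hsurj p σ f hf hgen hdet
      exact ⟨hfree, by omega⟩
    tfae_have 3 → 1 := fun h k' _ _ p' _ hp' => by
      obtain ⟨m, σ, f, hf, hgen, hdet⟩ := hdata h
      exact CKaehlerLib.regular_of_generated (k' := k')
        ((IsLocalRing.maximalIdeal P).map (algebraMap P (P ⊗[k] k')))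
        ((IsLocalRing.maximalIdeal A).map (Algebra.TensorProduct.includeLeft : A →ₐ[k] A ⊗[k] k')) rfl rfl hcov hsurj p σ f hf hgen hdet p'
        ((hcomp k' p').symm.trans hp')
    tfae_finish
  · obtain ⟨m, σ, f, hf, hgen, hdet⟩ := hdata h
    exact AdicFSLib.isGeometricallyRegular_iff_adicFS.2 (CKaehlerLib.adicFS_of_jacobian hcov hsurj p σ f hf hgen hdet)

end Groth.Agent.S3851
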