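import Groth.Statements.S3856
import Groth.Agent.CompleteLib.Noetherian

set_option autoImplicit false
universe u
open AdicRing

namespace Groth.Agent.S3856

/-- Let A be a ring that is complete and separated for the J-adic topology of an ideal J. If A/J² is
Noetherian (equivalently, A/J is Noetherian and J/J² is a finitely generated A/J-module), then A is
Noetherian. The published statement is phrased for a formal spectrum Spf(A) all of whose levels
Spec(A/J^(n+1)) are Noetherian; it is stated here with the weaker hypothesis that A/J² is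
Noetherian. -/
theorem result (A : Type u) [CommRing A]
    (J : Ideal A) [IsAdicComplete J A] [IsNoetherianRing (A ⧸ J ^ 2)] : IsNoetherianRing A := by
  obtain ⟨s, hs⟩ := IsNoetherian.noetherian (J.map (Ideal.Quotient.mk (J ^ 2)))
  have hlift : ∀ y : {y // y ∈ s}, ∃ x ∈ J, Ideal.Quotient.mk (J ^ 2) x = y := fun y =>
    (Ideal.mem_map_iff_of_surjective _ Ideal.Quotient.mk_surjective).mp
      (hs ▸ Submodule.subset_span y.2)
  choose x hxJ hx using hlift
  let xJ : {y // y ∈ s} → J := fun y => ⟨x y, hxJ y⟩
  have hgen : Submodule.span A (Set.range xJ) ⊔ J • ⊤ = ⊤ := by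
    apply Submodule.map_injective_of_injective J.subtype_injective
    rw [Submodule.map_sup, Submodule.map_span, Submodule.map_smul'', Submodule.map_top,
      Submodule.range_subtype, ← Set.range_comp, smul_eq_mul, ← pow_two]
    refine le_antisymm (sup_le (Submodule.span_le.mpr ?_) ?_) ?_
    · rintro _ ⟨y, rfl⟩; exact hxJ y
    · exact Ideal.pow_le_self two_ne_zero
    · have h : J.map (Ideal.Quotient.mk (J ^ 2)) ≤
          (Ideal.span (Set.range (Submodule.subtype J ∘ xJ))).map (Ideal.Quotient.mk (J ^ 2)) := by
        rw [← hs]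
        refine Submodule.span_le.mpr fun y hy => ?_
        rw [show y = Ideal.Quotient.mk _ (x ⟨y, hy⟩) from (hx ⟨y, hy⟩).symm]
        exact Ideal.mem_map_of_mem _ (Ideal.subset_span ⟨⟨y, hy⟩, rfl⟩)
      have h' := Ideal.map_le_iff_le_comap.mp h
      rwa [Ideal.comap_map_of_surjective _ Ideal.Quotient.mk_surjective, ← RingHom.ker_eq_comap_bot,
        Ideal.mk_ker] at h'
  have : IsHausdorff J (J : Submodule A A) := ⟨fun z hz => Subtype.ext
    (IsHausdorff.haus (I := J) inferInstance (z : A) fun n => by
      have h := Submodule.mem_map_of_mem (f := Submodule.subtype J) (SModEq.sub_mem.mp (hz n))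
      rw [sub_zero, Submodule.map_smul''] at h
      rw [SModEq.sub_mem, sub_zero]
      exact Submodule.smul_mono le_rfl le_top h)⟩
  have hfgJ : J.FG := by
    have h := (CompleteLib.approx_filtration_eq (I := J) xJ
      (fun m => (J ^ m • ⊤ : Submodule A J)) (fun a b hab => CompleteLib.pow_smul_top_anti hab)
      (fun z hz => CompleteLib.eq_zero_of_forall_mem hz) (fun m => le_rfl) (fun m => by
        conv_lhs => rw [← hgen]
        rw [Submodule.smul_sup, ← Submodule.mul_smul, ← pow_succ]) (by simp)).1
    exact (Submodule.fg_top J).mp (h ▸ Submodule.fg_span (Set.finite_range xJ))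
  have : IsNoetherianRing (A ⧸ J) := isNoetherianRing_of_surjective (A ⧸ J ^ 2) _
    (Ideal.Quotient.factor (Ideal.pow_le_self two_ne_zero))
    (Ideal.Quotient.factor_surjective _)
  exact CompleteLib.isNoetherianRing_of_isAdicComplete J hfgJ

end Groth.Agent.S3856
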