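import Groth.Statements.S3863
import Groth.Agent.FComplLib.Spf
import Groth.Agent.FComplLib.Modules
import Groth.Agent.CohCmpLib.PuSec
import Groth.Agent.CompleteLib.Basic
import Groth.Agent.KFlatLib.TildeKFlat
-- import your own Groth.Agent.* helpers here

set_option autoImplicit false
universe u
open FCompl

namespace Groth.Agent.S3863

open CategoryTheory CategoryTheory.Limits AlgebraicGeometry TopologicalSpace Opposite TensorProduct

namespace aux

noncomputable section

open KFlatLib (puSec pb)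

section Affine

variable {X : Scheme.{u}} [IsAffine X] {Z : Scheme.{u}} (i : Z ⟶ X) [IsClosedImmersion i] (G : X.Modules)
  [Coh.IsQCoh G]

theorem puSec_add (a b : Γ(G, ⊤)) : puSec i (a + b) = puSec i a + puSec i b :=
  map_add (((Scheme.Modules.pullbackPushforwardAdjunction i).unit.app G).app ⊤).hom a b

theorem puSec_sub (a b : Γ(G, ⊤)) : puSec i (a - b) = puSec i a - puSec i b :=
  map_sub (((Scheme.Modules.pullbackPushforwardAdjunction i).unit.app G).app ⊤).hom a b

theorem puSec_facts :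
    Function.Surjective (fun a : Γ(G, ⊤) => puSec i a) ∧
      ∀ a : Γ(G, ⊤), puSec i a = 0 ↔
        a ∈ i.ker.ideal ⟨⊤, isAffineOpen_top X⟩ • (⊤ : Submodule Γ(X, ⊤) Γ(G, ⊤)) := by
  have hX := isAffineOpen_top X
  letI : Algebra Γ(X, ⊤) Γ(Z, i ⁻¹ᵁ ⊤) := (i.app ⊤).hom.toAlgebra
  letI : Module Γ(X, ⊤) Γ(pb i G, i ⁻¹ᵁ ⊤) := Module.compHom _ (i.app ⊤).hom
  haveI : IsScalarTower Γ(X, ⊤) Γ(Z, i ⁻¹ᵁ ⊤) Γ(pb i G, i ⁻¹ᵁ ⊤) :=
    IsScalarTower.of_algebraMap_smul fun _ _ => rfl
  let ψ : Γ(G, ⊤) →ₗ[Γ(X, ⊤)] Γ(pb i G, i ⁻¹ᵁ ⊤) :=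
    { toFun := fun a => puSec i a
      map_add' := puSec_add i G
      map_smul' := fun r a => KFlatLib.puSec_smul i r a }
  have hb : IsBaseChange Γ(Z, i ⁻¹ᵁ ⊤) ψ := KFlatLib.isBaseChange_puSec i G hX (hX.preimage i) le_rfl
    (fun r => by show (i.app ⊤).hom r = _; rw [Scheme.Hom.app_eq_appLE]) ψ
    (fun a => (ConcreteCategory.congr_hom ((pb i G).presheaf.map_id (op (i ⁻¹ᵁ ⊤))) (puSec i a)).symm)
  have hsurj : Function.Surjective (algebraMap Γ(X, ⊤) Γ(Z, i ⁻¹ᵁ ⊤)) := i.app_surjective ⊤ hX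
  have hker : RingHom.ker (algebraMap Γ(X, ⊤) Γ(Z, i ⁻¹ᵁ ⊤)) = i.ker.ideal ⟨⊤, hX⟩ :=
    (i.ker_apply ⟨⊤, hX⟩).symm
  refine ⟨fun z => ?_, fun a => ⟨fun h => ?_, fun h => ?_⟩⟩
  · induction z using hb.inductionOn with
    | zero => exact ⟨0, map_zero ψ⟩
    | tmul a => exact ⟨a, rfl⟩
    | smul c z hz =>
      obtain ⟨a, rfl⟩ := hz
      obtain ⟨r, rfl⟩ := hsurj c
      exact ⟨r • a, KFlatLib.puSec_smul i r a⟩
    | add z z' hz hz' =>
      obtain ⟨a, rfl⟩ := hz
      obtain ⟨b, rfl⟩ := hz'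
      exact ⟨a + b, puSec_add i G a b⟩
  · rw [← hker]
    refine FComplLib.mem_smul_top_of_tmul_eq_zero hsurj (hb.equiv.injective ?_)
    rw [hb.equiv_tmul, one_smul, map_zero]
    exact h
  · show ψ a = 0
    refine Submodule.smul_induction_on h (fun r hr b _ => ?_) (fun b c hb hc => by rw [map_add, hb, hc, add_zero])
    rw [map_smul, ← algebraMap_smul Γ(Z, i ⁻¹ᵁ ⊤), RingHom.mem_ker.1 (hker.ge hr), zero_smul]

end Affine

theorem comp_app' {Y : Scheme.{u}} {E F G : Y.Modules} (f : E ⟶ F) (g : F ⟶ G) (V : Y.Opens) (x : Γ(E, V)) :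
    (f ≫ g).app V x = g.app V (f.app V x) := rfl

theorem congr_puSec {W Y Z : Scheme.{u}} (j : Z ⟶ W) (i : W ⟶ Y) (k : Z ⟶ Y) (h : j ≫ i = k) (F : Y.Modules)
    (a : Γ(F, ⊤)) :
    ((Scheme.Modules.pullbackComp j i ≪≫ Scheme.Modules.pullbackCongr h).hom.app F).app (j ⁻¹ᵁ (i ⁻¹ᵁ ⊤))
      (puSec j (puSec i a)) = puSec k a := by
  subst h
  rw [Iso.trans_hom, NatTrans.comp_app]
  exact CohCmpLib.pullbackComp_puSec j i F a

theorem trans_gen {W Y Z : Scheme.{u}} (j : Z ⟶ W) (i : W ⟶ Y) (k : Z ⟶ Y) (h : j ≫ i = k)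
    (T : Scheme.Modules.pullback i ⋙ Scheme.Modules.pullback j ≅ Scheme.Modules.pullback k)
    (hT : T = Scheme.Modules.pullbackComp j i ≪≫ Scheme.Modules.pullbackCongr h) {F G : Y.Modules}
    (φ : pb k F ⟶ pb k G) (ψ : pb i F ⟶ pb i G)
    (hc : (Scheme.Modules.pullback j).map ψ ≫ (T.app G).hom = (T.app F).hom ≫ φ)
    (a : Γ(F, ⊤)) (b : Γ(G, ⊤)) (hab : ψ.app (i ⁻¹ᵁ ⊤) (puSec i a) = puSec i b) :
    φ.app (k ⁻¹ᵁ ⊤) (puSec k a) = puSec k b := by
  subst hT
  rw [← congr_puSec j i k h F a, ← congr_puSec j i k h G b, ← hab, ← KFlatLib.puSec_natural j ψ]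
  exact (congr(Scheme.Modules.Hom.app $hc (j ⁻¹ᵁ (i ⁻¹ᵁ ⊤)) (puSec j (puSec i a)))).symm

theorem trans_sys {X : Scheme.{u}} (𝓘 : X.IdealSheafData) {F G : X.Modules}
    (φ : FSch.complMod 𝓘 F ⟶ FSch.complMod 𝓘 G) (n : ℕ) (a : Γ(F, ⊤)) (b : Γ(G, ⊤))
    (h : (φ.app (n + 1)).app (FSch.completionToX X 𝓘 (n + 1) ⁻¹ᵁ ⊤) (puSec (FSch.completionToX X 𝓘 (n + 1)) a) =
      puSec (FSch.completionToX X 𝓘 (n + 1)) b) :
    (φ.app n).app (FSch.completionToX X 𝓘 n ⁻¹ᵁ ⊤) (puSec (FSch.completionToX X 𝓘 n) a) =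
      puSec (FSch.completionToX X 𝓘 n) b :=
  trans_gen ((FSch.completionAlong X 𝓘).ι n) (FSch.completionToX X 𝓘 (n + 1)) (FSch.completionToX X 𝓘 n)
    (Scheme.IdealSheafData.inclusion_subschemeι (FSch.pow_succ_le X 𝓘 n)) (FSch.complTransIso 𝓘 n) rfl
    (φ.app n) (φ.app (n + 1)) (φ.comm n) a b h

variable {R : CommRingCat.{u}} [IsNoetherianRing R] (J : Ideal R) [IsAdicComplete J R]

abbrev td (P : ModuleCat.{u} R) : (Spec R).Modules := tilde (R := R) P

def topEquiv (P : ModuleCat.{u} R) : P ≃ₗ[R] Γ(td P, ⊤) := (tilde.isoTop (R := R) P).toLinearEquiv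

omit [IsNoetherianRing R] in
theorem smul_top (P : (Spec R).Modules) (r : R) (a : Γ(P, ⊤)) :
    r • a = ((Scheme.ΓSpecIso R).inv r : Γ(Spec R, ⊤)) • a := by
  rw [Scheme.Modules.smul_Spec_def]
  congr 1

omit [IsNoetherianRing R] [IsAdicComplete J R] in
theorem ideal_top (n : ℕ) :
    ((FSch.idealSpec R J : (Spec R).IdealSheafData) ^ (n + 1)).ideal ⟨⊤, isAffineOpen_top _⟩ =
      (J ^ (n + 1)).map (Scheme.ΓSpecIso R).inv.hom := by
  rw [Scheme.IdealSheafData.ideal_pow, Pi.pow_apply, Ideal.map_pow]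
  congr 1
  exact (congrArg (fun D => Scheme.IdealSheafData.ideal D ⟨⊤, isAffineOpen_top _⟩)
    (FComplLib.idealSpec_eq (A := R) J)).trans (BlowUpLib.specIdeal_top (A := R) J)

abbrev lev (n : ℕ) := FSch.completionToX (Spec R) (FSch.idealSpec R J) n

instance (n : ℕ) : IsClosedImmersion (lev J n) :=
  inferInstanceAs (IsClosedImmersion ((FSch.idealSpec R J : (Spec R).IdealSheafData) ^ (n + 1)).subschemeι)

/-- sections of `P~` restricted to the `n`th thickening -/
def θ (P : ModuleCat.{u} R) (n : ℕ) (p : P) : Γ(pb (lev J n) (td P), lev J n ⁻¹ᵁ ⊤) :=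
  puSec (lev J n) (topEquiv P p)

variable (P : ModuleCat.{u} R)

omit [IsNoetherianRing R] [IsAdicComplete J R] in
theorem θ_add (n : ℕ) (p q : P) : θ J P n (p + q) = θ J P n p + θ J P n q := by
  unfold θ
  rw [map_add, puSec_add]

omit [IsNoetherianRing R] [IsAdicComplete J R] in
theorem θ_sub (n : ℕ) (p q : P) : θ J P n (p - q) = θ J P n p - θ J P n q := by
  unfold θ
  rw [map_sub, puSec_sub]

omit [IsNoetherianRing R] [IsAdicComplete J R] in
theorem θ_smul (n : ℕ) (r : R) (p : P) :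
    θ J P n (r • p) = (lev J n).app ⊤ ((Scheme.ΓSpecIso R).inv r) • θ J P n p := by
  unfold θ
  rw [map_smul, smul_top, KFlatLib.puSec_smul]

omit [IsNoetherianRing R] [IsAdicComplete J R] in
theorem θ_surj (n : ℕ) : Function.Surjective (θ J P n) := by
  haveI : Coh.IsQCoh (td P) := inferInstanceAs ((td P).IsQuasicoherent)
  intro z
  obtain ⟨a, ha⟩ := (puSec_facts (lev J n) (td P)).1 z
  exact ⟨(topEquiv P).symm a, by rw [θ, LinearEquiv.apply_symm_apply]; exact ha⟩

omit [IsNoetherianRing R] [IsAdicComplete J R] in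
theorem θ_eq_iff (n : ℕ) (p q : P) :
    θ J P n p = θ J P n q ↔ p - q ∈ J ^ (n + 1) • (⊤ : Submodule R P) := by
  haveI : Coh.IsQCoh (td P) := inferInstanceAs ((td P).IsQuasicoherent)
  rw [← sub_eq_zero, ← θ_sub, θ, (puSec_facts (lev J n) (td P)).2,
    show (lev J n).ker = _ from Scheme.IdealSheafData.ker_subschemeι _, ideal_top]
  constructor
  · intro h
    suffices ∀ a : Γ(td P, ⊤), a ∈ (J ^ (n + 1)).map (Scheme.ΓSpecIso R).inv.hom •
        (⊤ : Submodule Γ(Spec R, ⊤) Γ(td P, ⊤)) →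
        (topEquiv P).symm a ∈ J ^ (n + 1) • (⊤ : Submodule R P) by
      simpa using this _ h
    intro a ha
    refine Submodule.smul_induction_on ha (fun c hc b _ => ?_)
      (fun b c hb hc => by rw [map_add]; exact add_mem hb hc)
    obtain ⟨r, hr, rfl⟩ := (Ideal.mem_map_iff_of_surjective _
      (ConcreteCategory.bijective_of_isIso (Scheme.ΓSpecIso R).inv).2).1 hc
    rw [← smul_top, map_smul]
    exact Submodule.smul_mem_smul hr trivial
  · intro h
    refine Submodule.smul_induction_on (p := fun x => topEquiv P x ∈ _) h (fun r hr b _ => ?_)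
      (fun b c hb hc => by rw [map_add]; exact add_mem hb hc)
    rw [map_smul, smul_top]
    exact Submodule.smul_mem_smul (Ideal.mem_map_of_mem _ hr) trivial

theorem θ_ext [Module.Finite R P] (p q : P) (h : ∀ n, θ J P n p = θ J P n q) : p = q := by
  haveI : IsAdicComplete J P := CompleteLib.isAdicComplete_of_finite
  refine IsHausdorff.eq_iff_smodEq (I := J) |>.2 fun n => SModEq.sub_mem.2 ?_
  exact Submodule.smul_mono_left (Ideal.pow_le_pow_right (Nat.le_succ n)) ((θ_eq_iff J P n p q).1 (h n))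

theorem θ_lim [Module.Finite R P] (w : ℕ → P) (h : ∀ n, θ J P n (w (n + 1)) = θ J P n (w n)) :
    ∃ L : P, ∀ n, θ J P n L = θ J P n (w n) := by
  haveI : IsAdicComplete J P := CompleteLib.isAdicComplete_of_finite
  have hs : ∀ n, w (n + 1) - w n ∈ J ^ n • (⊤ : Submodule R P) := fun n =>
    Submodule.smul_mono_left (Ideal.pow_le_pow_right (Nat.le_succ n)) ((θ_eq_iff J P n _ _).1 (h n))
  obtain ⟨L, hL⟩ := IsPrecomplete.prec' (I := J) w fun {m n} hmn => by
    induction hmn with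
    | refl => exact SModEq.refl _
    | @step k hmk ih =>
      refine ih.trans (SModEq.sub_mem.2 ?_)
      rw [← neg_sub]
      exact neg_mem (Submodule.smul_mono_left (Ideal.pow_le_pow_right hmk) (hs k))
  refine ⟨L, fun n => ?_⟩
  rw [← h n, eq_comm]
  exact (θ_eq_iff J P n _ _).2 (SModEq.sub_mem.1 (hL (n + 1)))

omit [IsNoetherianRing R] [IsAdicComplete J R] in
theorem hom_ext (n : ℕ) {H : ((FSch.completionAlong (Spec R) (FSch.idealSpec R J)).X n).Modules}
    (φ φ' : pb (lev J n) (td P) ⟶ H)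
    (h : ∀ p, φ.app _ (θ J P n p) = φ'.app _ (θ J P n p)) : φ = φ' := by
  refine ((Scheme.Modules.pullbackPushforwardAdjunction (lev J n)).homEquiv _ _).injective ?_
  refine ((tilde.adjunction (R := R)).homEquiv P _).injective (ModuleCat.hom_ext (LinearMap.ext fun p => ?_))
  erw [Adjunction.homEquiv_unit, Adjunction.homEquiv_unit]
  exact h p

omit [IsNoetherianRing R] [IsAdicComplete J R] in
theorem map_θ {P Q : ModuleCat.{u} R} (u : P ⟶ Q) (n : ℕ) (p : P) :
    ((Scheme.Modules.pullback (lev J n)).map ((tilde.functor R).map u)).app _ (θ J P n p) =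
      θ J Q n (u.hom p) := by
  refine (KFlatLib.puSec_natural (lev J n) _ _).trans (congrArg (puSec (lev J n)) ?_)
  exact congr($((tilde.adjunction (R := R)).unit.naturality u) p).symm

omit [IsNoetherianRing R] [IsAdicComplete J R] in
set_option maxHeartbeats 400000 in
theorem trans_θ {Q : ModuleCat.{u} R}
    (φ : FSch.complMod (FSch.idealSpec R J) (td P) ⟶ FSch.complMod (FSch.idealSpec R J) (td Q)) (n : ℕ)
    (p : P) (q : Q) (h : (φ.app (n + 1)).app _ (θ J P (n + 1) p) = θ J Q (n + 1) q) :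
    (φ.app n).app _ (θ J P n p) = θ J Q n q :=
  trans_sys (FSch.idealSpec R J) φ n (topEquiv P p) (topEquiv Q q) h

theorem main (M N : ModuleCat.{u} R) [Module.Finite R M] [Module.Finite R N] :
    Function.Bijective (fun u : M ⟶ N ↦
      FSch.complModMap (FSch.idealSpec R J) ((tilde.functor R).map u)) := by
  constructor
  · intro u v h
    refine ModuleCat.hom_ext (LinearMap.ext fun m => θ_ext J N _ _ fun n => ?_)
    have h' := congr(Scheme.Modules.Hom.app (FSch.ModSys.Hom.app $h n) (lev J n ⁻¹ᵁ ⊤) (θ J M n m))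
    exact (map_θ J u n m).symm.trans (h'.trans (map_θ J v n m))
  · intro φ
    have hw : ∀ (m : M) (n : ℕ), ∃ q : N, θ J N n q = (φ.app n).app _ (θ J M n m) := fun m n => θ_surj J N n _
    choose w hw using hw
    have hL : ∀ m, ∃ L : N, ∀ n, θ J N n L = θ J N n (w m n) := fun m => θ_lim J N (w m) fun n =>
      (trans_θ J M φ n m (w m (n + 1)) (hw m (n + 1)).symm).symm.trans (hw m n).symm
    choose L hL using hL
    have hφ : ∀ m n, θ J N n (L m) = (φ.app n).app _ (θ J M n m) := fun m n => (hL m n).trans (hw m n)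
    let u : M →ₗ[R] N :=
      { toFun := L
        map_add' := fun a b => θ_ext J N _ _ fun n => by
          rw [θ_add, hφ, hφ, hφ, θ_add]
          exact map_add _ _ _
        map_smul' := fun r a => θ_ext J N _ _ fun n => by
          rw [RingHom.id_apply, θ_smul, hφ, hφ, θ_smul]
          exact (φ.app n).app_smul _ _ }
    refine ⟨ModuleCat.ofHom u, FSch.ModSys.Hom.ext (funext fun n => hom_ext J M n _ _ fun m => ?_)⟩
    exact (map_θ J (ModuleCat.ofHom u) n m).trans (hφ m n)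

end

end aux

open AlgebraicGeometry in
open CategoryTheory in
/-- The formal spectrum of A is presented as the system of closed subschemes of Spec A cut out by the
powers of J, and for an A-module M the system of modules M^Δ is the family of pullbacks of the sheaf
M̃ associated to M to these subschemes, with its canonical transition isomorphisms. Let A be a
Noetherian ring, complete and separated for the J-adic topology, and M, N finite A-modules. Then u ↦
u^Δ is a bijection from Hom_A(M, N) onto the set of morphisms of systems of modules M^Δ → N^Δ. -/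
theorem result (A : Type u) [CommRing A] [IsNoetherianRing A]
    (J : Ideal A) [IsAdicComplete J A] (M N : ModuleCat.{u} A) [Module.Finite A M] [Module.Finite A N] :
    Function.Bijective (fun u : M ⟶ N ↦
      FSch.complModMap (FSch.idealSpec A J) ((tilde.functor (CommRingCat.of A)).map u)) := by
  exact aux.main (R := CommRingCat.of A) J M N


end Groth.Agent.S3863
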