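import Groth.Statements.S3874
import Groth.Agent.AdicRingLib.CompLoc

set_option autoImplicit false
universe u
open FCompl

namespace Groth.Agent.S3874

/-- Let A be a Noetherian ring, J an ideal, f ∈ A and n ≥ 0, and let A_{f} be the completion of the
localization A_f for the topology defined by the extension of J. There is a ring isomorphism from
the localization of A/J^(n+1) away from the class of f onto A_{f} modulo the (n+1)-st power of the
extension of J to A_{f}, compatible with the canonical maps from A (and hence unique). In terms of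
formal spectra: the open D(f) of Spf(A) is Spf(A_{f}), and at level n its ring is the ring
(A/J^(n+1))_f of the open D(f) of Spec(A/J^(n+1)). -/
theorem result (A : Type u) [CommRing A] [IsNoetherianRing A] (J : Ideal A)
    (f : A) (n : ℕ) :
    ∃ e : Localization.Away (Ideal.Quotient.mk (J ^ (n + 1)) f) ≃+*
        FSch.cAway A J f ⧸ (J.map (algebraMap A (FSch.cAway A J f))) ^ (n + 1),
      ∀ a : A, e (algebraMap (A ⧸ J ^ (n + 1)) _ (Ideal.Quotient.mk (J ^ (n + 1)) a)) =
        Ideal.Quotient.mk _ (algebraMap A (FSch.cAway A J f) a) := by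
  classical
  set C := FSch.cAway A J f
  set L := Localization.Away f
  set I := J.map (algebraMap A L) with hI
  have hIfg : I.FG := Ideal.FG.map (IsNoetherian.noetherian J) _
  have hJC : (J.map (algebraMap A C)) ^ (n + 1) = (I ^ (n + 1)).map (algebraMap L C) := by
    rw [Ideal.map_pow, hI, Ideal.map_map, ← IsScalarTower.algebraMap_eq]
  let g : A ⧸ J ^ (n + 1) →+* C ⧸ (J.map (algebraMap A C)) ^ (n + 1) :=
    Ideal.Quotient.lift _ ((Ideal.Quotient.mk _).comp (algebraMap A C)) fun a ha => by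
      rw [RingHom.comp_apply, Ideal.Quotient.eq_zero_iff_mem, ← Ideal.map_pow]
      exact Ideal.mem_map_of_mem _ ha
  have hg : IsUnit (g (Ideal.Quotient.mk _ f)) := by
    have : IsUnit (algebraMap A C f) := AdicRingLib.CL.isUnit J f
    exact this.map (Ideal.Quotient.mk _)
  let e₀ : Localization.Away (Ideal.Quotient.mk (J ^ (n + 1)) f) →+* C ⧸ (J.map (algebraMap A C)) ^ (n + 1) :=
    IsLocalization.Away.lift (Ideal.Quotient.mk (J ^ (n + 1)) f) hg
  have he : ∀ a : A, e₀ (algebraMap (A ⧸ J ^ (n + 1)) _ (Ideal.Quotient.mk (J ^ (n + 1)) a)) =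
      Ideal.Quotient.mk _ (algebraMap A C a) := fun a => IsLocalization.Away.lift_eq _ hg _
  refine ⟨RingEquiv.ofBijective e₀ ⟨?_, ?_⟩, fun a => he a⟩
  · rw [injective_iff_map_eq_zero]
    intro z hz
    obtain ⟨⟨ab, t⟩, rfl⟩ := IsLocalization.mk'_surjective
      (Submonoid.powers (Ideal.Quotient.mk (J ^ (n + 1)) f)) z
    obtain ⟨a, rfl⟩ := Ideal.Quotient.mk_surjective ab
    have ha : e₀ (algebraMap (A ⧸ J ^ (n + 1)) _ (Ideal.Quotient.mk (J ^ (n + 1)) a)) = 0 := by
      rw [← IsLocalization.mk'_spec (Localization.Away (Ideal.Quotient.mk (J ^ (n + 1)) f))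
        (Ideal.Quotient.mk (J ^ (n + 1)) a) t, map_mul, hz, zero_mul]
    rw [he, Ideal.Quotient.eq_zero_iff_mem, hJC, IsScalarTower.algebraMap_apply A L C,
      AdicRingLib.algebraMap_mem_map_pow_iff hIfg, hI, ← Ideal.map_pow,
      IsLocalization.algebraMap_mem_map_algebraMap_iff (Submonoid.powers f)] at ha
    obtain ⟨_, ⟨m, rfl⟩, hm⟩ := ha
    rw [IsLocalization.mk'_eq_zero_iff]
    exact ⟨⟨(Ideal.Quotient.mk (J ^ (n + 1)) f) ^ m, m, rfl⟩,
      (show (Ideal.Quotient.mk (J ^ (n + 1)) f) ^ m * Ideal.Quotient.mk (J ^ (n + 1)) a = 0 by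
        rw [← map_pow, ← map_mul]; exact Ideal.Quotient.eq_zero_iff_mem.mpr hm)⟩
  · intro y
    obtain ⟨x, rfl⟩ := Ideal.Quotient.mk_surjective y
    obtain ⟨c, hc⟩ := AdicRingLib.exists_sub_mem_map_pow hIfg (n + 1) x
    rw [← hJC] at hc
    obtain ⟨⟨a, t⟩, rfl⟩ := IsLocalization.mk'_surjective (Submonoid.powers f) c
    obtain ⟨k, hk⟩ := t.2
    refine ⟨IsLocalization.mk' _ (Ideal.Quotient.mk (J ^ (n + 1)) a)
      (⟨(Ideal.Quotient.mk (J ^ (n + 1)) f) ^ k, k, rfl⟩ :
        Submonoid.powers (Ideal.Quotient.mk (J ^ (n + 1)) f)), ?_⟩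
    rw [Ideal.Quotient.eq.mpr hc]
    refine (((hg.pow k)).mul_left_inj).1 ?_
    conv_lhs => rw [show g (Ideal.Quotient.mk _ f) ^ k = e₀ (algebraMap (A ⧸ J ^ (n + 1)) _
      ((Ideal.Quotient.mk (J ^ (n + 1)) f) ^ k)) by
        rw [← map_pow, ← map_pow (Ideal.Quotient.mk (J ^ (n + 1))), he]; rfl,
      ← map_mul, IsLocalization.mk'_spec, he]
    rw [← map_pow g, ← map_pow (Ideal.Quotient.mk (J ^ (n + 1)))]
    change _ = Ideal.Quotient.mk _ _ * Ideal.Quotient.mk _ (algebraMap A C (f ^ k))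
    rw [← map_mul, IsScalarTower.algebraMap_apply A L C (f ^ k), ← map_mul,
      show f ^ k = (t : A) from hk, IsLocalization.mk'_spec, ← IsScalarTower.algebraMap_apply]
end Groth.Agent.S3874
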