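import Groth.Statements.S3877
import Groth.Agent.CohLib.GoodExamples
-- import your own Groth.Agent.* helpers here

set_option autoImplicit false
set_option linter.style.haveILetI false
open CategoryTheory CategoryTheory.Limits Opposite
universe u
open ToposFin

namespace Groth.Agent.S3877

/-- Let E be the topos of sheaves on a small site and assume E is coherent, i.e. an algebraic topos
whose final object is coherent. Then for every q the functor F ↦ H^q(E, F) on abelian sheaves (Ext
groups out of the constant sheaf Z) preserves colimits indexed by any small filtered category. -/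
theorem result {C : Type u} [SmallCategory C]
    {J : GrothendieckTopology C} (hE : ToposFin.IsAlgebraic J) (hT : ToposFin.IsCoherent (⊤_ (ToposFin.Sh J)))
    (Λ : Type u) [SmallCategory Λ] [IsFiltered Λ] (q : ℕ) :
    PreservesColimitsOfShape Λ (Sheaf.functorH J q : Sheaf J AddCommGrpCat.{u} ⥤ AddCommGrpCat.{u}) := by
  obtain ⟨G, hG⟩ := CohLib.nonempty_goodClass_algebraic hE
  let e₁ : (⊤_ (ToposFin.Sh J)).obj ≅ (Functor.const Cᵒᵖ).obj PUnit.{u + 1} :=
    (terminalIsTerminal.isTerminalObj (sheafToPresheaf J (Type u)) _).uniqueUpToIso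
      (Functor.isTerminalConst _ Limits.Types.isTerminalPUnit)
  let e₂ : (⊤_ (ToposFin.Sh J)).obj ⋙ AddCommGrpCat.free.{u} ≅
      (Functor.const Cᵒᵖ).obj (AddCommGrpCat.of (ULift.{u} ℤ)) :=
    Functor.isoWhiskerRight e₁ AddCommGrpCat.free.{u} ≪≫ Functor.constComp _ _ _ ≪≫
      (Functor.const Cᵒᵖ).mapIso ((FreeAbelianGroup.uniqueEquiv PUnit.{u + 1}).trans AddEquiv.ulift.symm).toAddCommGrpIso
  have h := (CohLib.extComm_Z G (hG _ hT) Λ q).of_iso
    (M' := (constantSheaf J AddCommGrpCat.{u}).obj (AddCommGrpCat.of (ULift.{u} ℤ)))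
    ((presheafToSheaf J AddCommGrpCat.{u}).mapIso e₂).symm
  haveI := FiltExtLib.preservesColimitsOfShape_ext h
  exact preservesColimitsOfShape_of_natIso (F := (Abelian.extFunctor.{u} q).obj
    (op ((constantSheaf J AddCommGrpCat.{u}).obj (AddCommGrpCat.of (ULift.{u} ℤ)))))
    (NatIso.ofComponents (fun F => Iso.refl _) (fun f => rfl))

end Groth.Agent.S3877
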