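import Groth.Statements.S3886
import Mathlib.AlgebraicTopology.SimplicialObject.ChainHomotopy
import Mathlib.Algebra.Homology.Homotopy
import Mathlib.CategoryTheory.Preadditive.Opposite

set_option autoImplicit false
universe u
open CategoryTheory
open Hyper

namespace Groth.Agent.S3886

open Opposite CategoryTheory.Limits in
/-- Let a, b : L -> K be two morphisms of simplicial semi-representable objects over an object X of a
small category (simplicial objects in formal coproducts of objects over X), homotopic in the
combinatorial (simplicial) sense. Then for every presheaf of abelian groups P and every p, a and b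
induce the same map from the p-th Cech cohomology group of P with respect to K to that with respect
to L. -/
theorem result {C : Type u} [SmallCategory C] (X : C)
    {K L : SimplicialObject (FormalCoproduct.{u} (Over X))} (a b : L ⟶ K)
    (h : Nonempty (SimplicialObject.Homotopy a b)) (P : Cᵒᵖ ⥤ AddCommGrpCat.{u}) (p : ℕ) :
    Hyper.cechHMap X a P p = Hyper.cechHMap X b P p := by
  obtain ⟨H⟩ := h
  let F := (FormalCoproduct.evalOp.{u} (Over X) AddCommGrpCat.{u}).obj ((Over.forget X).op ⋙ P)
  let G : FormalCoproduct.{u} (Over X) ⥤ AddCommGrpCat.{u}ᵒᵖ := F.rightOp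
  let hc := (H.whiskerRight G).toChainHomotopy
  have hd : ∀ (M : SimplicialObject (FormalCoproduct.{u} (Over X))) (n : ℕ),
      (((AlgebraicTopology.alternatingFaceMapComplex AddCommGrpCat.{u}ᵒᵖ).obj
          (((SimplicialObject.whiskering _ _).obj G).obj M)).d (n + 1) n).unop =
        (Hyper.cechCx X M P).d n (n + 1) := fun M n => by
    rw [AlgebraicTopology.alternatingFaceMapComplex_obj_d]
    simp only [AlgebraicTopology.AlternatingFaceMapComplex.objD, unop_sum, unop_zsmul]
    symm
    show (AlgebraicTopology.AlternatingCofaceMapComplex.obj _).d n (n + 1) = _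
    simp only [AlgebraicTopology.AlternatingCofaceMapComplex.obj, CochainComplex.of_d,
      AlgebraicTopology.AlternatingCofaceMapComplex.objD]
    rfl
  have hmap : ∀ (c : L ⟶ K) (n : ℕ),
      (((AlgebraicTopology.alternatingFaceMapComplex AddCommGrpCat.{u}ᵒᵖ).map
        (((SimplicialObject.whiskering _ _).obj G).map c)).f n).unop = (Hyper.cechMap X c P).f n :=
    fun c n => rfl
  let ht : Homotopy (Hyper.cechMap X a P) (Hyper.cechMap X b P) :=
    { hom := fun i j => (hc.hom j i).unop
      zero := fun i j hij => congrArg Quiver.Hom.unop (hc.zero j i hij)
      comm := fun n => by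
        cases n with
        | zero =>
          have e := congrArg Quiver.Hom.unop (hc.comm 0)
          rw [prevD_eq (j' := 1) (w := by simp), dNext_eq_zero _ _ (by simp), zero_add, hmap a 0] at e
          rw [dNext_eq (i' := 1) (w := by simp), prevD_eq_zero _ _ (by simp), add_zero, ← hd K 0]
          refine e.trans ?_
          rw [unop_add, unop_comp, hmap b 0]
          rfl
        | succ m =>
          have e := congrArg Quiver.Hom.unop (hc.comm (m + 1))
          rw [dNext_eq (i' := m) (w := by simp), prevD_eq (j' := m + 2) (w := by simp), hmap a (m + 1)] at e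
          rw [dNext_eq (i' := m + 2) (w := by simp), prevD_eq (j' := m) (w := by simp), ← hd K (m + 1), ← hd L m]
          refine e.trans ?_
          rw [unop_add, unop_add, unop_comp, unop_comp, hmap b (m + 1)]
          exact (add_left_inj _).2 (add_comm _ _) }
  exact congrArg AddCommGrpCat.Hom.hom (ht.homologyMap_eq p)
end Groth.Agent.S3886
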