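import Groth.Statements.S3887
import Groth.Agent.EtProperH0Lib.StrictMain
import Groth.Agent.EtProperH0Lib.Fibre

set_option autoImplicit false
open CategoryTheory CategoryTheory.Limits AlgebraicGeometry Opposite
universe u
attribute [local instance] HasDerivedCategory.standard
open EtDesc

namespace Groth.Agent.S3887

/-- Let f : X -> Y be an integral morphism of schemes and X' = X x_Y Y' a cartesian square with
projections f' : X' -> Y' and g' : X' -> X over g : Y' -> Y. Then for every sheaf of sets F on the
small etale site of X the base change map g^* f_* F -> f'_* g'^* F is an isomorphism. -/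
theorem result {X Y X' Y' : Scheme.{u}} (f : X ⟶ Y) [IsIntegralHom f] (g : Y' ⟶ Y)
    (f' : X' ⟶ Y') (g' : X' ⟶ X) (h : IsPullback g' f' f g) (F : EtDesc.Sh X) :
    IsIso (EtBC.baseChange0Sh f g f' g' h.w F) := by
  exact EtProperH0Lib.isIso_baseChange0Sh_of_strict h F fun _ _ gB _ gB' _ κ _ P hP =>
    EtProperH0Lib.strictBij_of_closedFibre hP (EtProperH0Lib.closedFibreBij_of_integral hP) gB (gB' ≫ g) κ

end Groth.Agent.S3887
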