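import Groth.Statements.S3894
import Mathlib
-- import your own Groth.Agent.* helpers here

set_option autoImplicit false
universe u
open CategoryTheory CategoryTheory.Limits Opposite
open Tors

namespace Groth.Agent.S3894

/-- A torsor P under an abelian sheaf G is trivial, i.e. equivariantly isomorphic to G acting on itself
by translations, if and only if P has a global section (a morphism from the final sheaf of sets). -/
theorem result {C : Type u} [SmallCategory C] {J : GrothendieckTopology C}
    {G : Sheaf J AddCommGrpCat.{u}} (T : Tors.Torsor G) : T.IsTrivial ↔ T.HasSection := by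
  constructor
  · rintro ⟨e, -⟩
    exact ⟨⟨{ app := fun U => TypeCat.ofHom fun _ => e.hom.hom.app U (0 : G.obj.obj U)
              naturality := fun U V i => by
                ext
                exact (congrArg (fun z => e.hom.hom.app V z) (map_zero (G.obj.map i).hom).symm).trans
                  (congr($(e.hom.hom.naturality i) (0 : G.obj.obj U))) }⟩⟩
  · rintro ⟨s⟩
    let η := terminal.from ((sheafCompose J (forget AddCommGrpCat.{u})).obj G)
    let p : ∀ U : Cᵒᵖ, T.P.obj.obj U := fun U => (η ≫ s).hom.app U (0 : G.obj.obj U)
    have hp : ∀ {U V : Cᵒᵖ} (i : U ⟶ V), T.P.obj.map i (p U) = p V := fun {U V} i =>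
      (congr($((η ≫ s).hom.naturality i) (0 : G.obj.obj U))).symm.trans
        (congrArg (fun z => (η ≫ s).hom.app V z) (map_zero (G.obj.map i).hom))
    let φ : ((sheafCompose J (forget AddCommGrpCat.{u})).obj G).obj ⟶ T.P.obj :=
      { app := fun U => TypeCat.ofHom fun g => T.vadd g (p U)
        naturality := fun U V i => by
          ext g
          exact ((T.map_vadd i g (p U)).trans (congrArg (T.vadd _) (hp i))).symm }
    have hbij : ∀ U, IsIso (φ.app U) := fun U => by
      rw [ConcreteCategory.isIso_iff_bijective]
      refine ⟨fun a b h => ?_, fun q => ?_⟩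
      · exact (T.free_transitive (p U) (T.vadd a (p U))).unique rfl h.symm
      · exact (T.free_transitive (p U) q).exists
    have : IsIso φ := NatIso.isIso_of_isIso_app φ
    let ψ : (sheafCompose J (forget AddCommGrpCat.{u})).obj G ⟶ T.P := ⟨φ⟩
    have : IsIso ((sheafToPresheaf J (Type u)).map ψ) := ‹IsIso φ›
    have : IsIso ψ := isIso_of_reflects_iso ψ (sheafToPresheaf J (Type u))
    exact ⟨asIso ψ, fun U g h => T.add_vadd g h (p U)⟩



end Groth.Agent.S3894
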