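import Groth.Statements.S3895
import Mathlib

set_option autoImplicit false
universe u
open CategoryTheory CategoryTheory.Limits Opposite
open Tors

namespace Groth.Agent.S3895
open CategoryTheory.Abelian

variable {C : Type u} [SmallCategory C] {J : GrothendieckTopology C}

/-- The constant presheaf `ℤ`. -/
abbrev cZ (C : Type u) [SmallCategory C] : Cᵒᵖ ⥤ AddCommGrpCat.{u} :=
  (Functor.const Cᵒᵖ).obj (AddCommGrpCat.of (ULift.{u} ℤ))

/-- The point sheaf. -/
def one (J : GrothendieckTopology C) : Sheaf J (Type u) :=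
  ⟨(Functor.const Cᵒᵖ).obj PUnit.{u + 1}, (isSheaf_iff_isSheaf_of_type _ _).mpr fun X S _ x _ =>
    ⟨PUnit.unit, fun _ _ _ => rfl, fun _ _ => rfl⟩⟩

theorem hasSection_iff {G : Sheaf J AddCommGrpCat.{u}} (T : Tors.Torsor G) :
    T.HasSection ↔ ∃ p : ∀ U : Cᵒᵖ, T.P.obj.obj U, ∀ (U V : Cᵒᵖ) (f : U ⟶ V), T.P.obj.map f (p U) = p V := by
  constructor
  · rintro ⟨h⟩
    let a : one J ⟶ T.P := terminal.from (one J) ≫ h
    exact ⟨fun U => a.hom.app U PUnit.unit, fun U V f => (NatTrans.naturality_apply a.hom f PUnit.unit).symm⟩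
  · rintro ⟨p, hp⟩
    exact ⟨⟨{ app := fun U => TypeCat.ofHom fun _ => p U
              naturality := fun U V f => by ext x; exact (hp U V f).symm }⟩⟩

/-- A global section as a map from the constant sheaf `ℤ`. -/
noncomputable def globalHom (Q : Sheaf J AddCommGrpCat.{u}) :
    ((constantSheaf J AddCommGrpCat.{u}).obj (AddCommGrpCat.of (ULift.{u} ℤ)) ⟶ Q) ≃ (cZ C ⟶ Q.obj) :=
  (sheafificationAdjunction J AddCommGrpCat.{u}).homEquiv (cZ C) Q

/-- The natural transformation of a family of sections. -/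
def famHom (Q : Sheaf J AddCommGrpCat.{u}) (q : ∀ U, Q.obj.obj U)
    (hq : ∀ (U V : Cᵒᵖ) (f : U ⟶ V), Q.obj.map f (q U) = q V) : cZ C ⟶ Q.obj where
  app U := AddCommGrpCat.ofHom (AddMonoidHom.mk' (fun n : ULift.{u} ℤ => n.down • q U)
    fun a b => by simp [add_smul])
  naturality U V f := by
    ext n
    show n.down • q V = Q.obj.map f (n.down • q U)
    rw [map_zsmul, hq]

section lifts

variable {S : ShortComplex (Sheaf J AddCommGrpCat.{u})} (hS : S.ShortExact)
include hS

theorem sect_injective (U : Cᵒᵖ) : Function.Injective (S.f.hom.app U) := by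
  let F := sheafToPresheaf J AddCommGrpCat.{u} ⋙ (evaluation _ _).obj U
  haveI := hS.mono_f
  exact (AddCommGrpCat.mono_iff_injective _).mp (inferInstanceAs (Mono (F.map S.f)))

theorem sect_exact (U : Cᵒᵖ) (s : S.X₂.obj.obj U) (hs : S.g.hom.app U s = 0) :
    ∃ g : S.X₁.obj.obj U, S.f.hom.app U g = s := by
  let F := sheafToPresheaf J AddCommGrpCat.{u} ⋙ (evaluation _ _).obj U
  haveI : F.Additive := ⟨fun {_ _ _ _} => rfl⟩
  haveI := hS.mono_f
  have h := hS.exact.map_of_mono_of_preservesKernel F hS.mono_f inferInstance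
  exact ((ShortComplex.ab_exact_iff _).mp h) s hs

theorem sect_g_f (U : Cᵒᵖ) (g : S.X₁.obj.obj U) : S.g.hom.app U (S.f.hom.app U g) = 0 :=
  congr((($(S.zero)).hom.app U) g)

/-- The torsor of lifts of a global section of the quotient. -/
noncomputable def lifts (q : ∀ U, S.X₃.obj.obj U)
    (hq : ∀ (U V : Cᵒᵖ) (f : U ⟶ V), S.X₃.obj.map f (q U) = q V) : Tors.Torsor S.X₁ where
  P := ⟨{ obj := fun U => {s : S.X₂.obj.obj U // S.g.hom.app U s = q U}
          map := fun {U V} f => TypeCat.ofHom fun s => ⟨S.X₂.obj.map f s.1, by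
            rw [NatTrans.naturality_apply, s.2, hq]⟩
          map_id := fun U => by ext s; exact (ConcreteCategory.congr_hom (S.X₂.obj.map_id U) s.1)
          map_comp := fun f g => by ext s; exact (ConcreteCategory.congr_hom (S.X₂.obj.map_comp f g) s.1) },
    (isSheaf_iff_isSheaf_of_type _ _).mpr fun X R hR x hx => by
      have hI := (isSheaf_iff_isSheaf_of_type _ _).mp
        ((sheafCompose J (forget AddCommGrpCat.{u})).obj S.X₂).property R hR
      obtain ⟨t, ht, htu⟩ := hI (fun Y f hf => (x f hf).1)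
        (fun Y₁ Y₂ Z g₁ g₂ f₁ f₂ h₁ h₂ w => congrArg Subtype.val (hx g₁ g₂ h₁ h₂ w))
      have hQ := ((isSheaf_iff_isSheaf_of_type _ _).mp
        ((sheafCompose J (forget AddCommGrpCat.{u})).obj S.X₃).property).isSeparated R hR
      refine ⟨⟨t, hQ.ext fun Y f hf => ?_⟩, fun Y f hf => Subtype.ext (ht f hf),
        fun y hy => Subtype.ext (htu _ fun Y f hf => congrArg Subtype.val (hy f hf))⟩
      show S.X₃.obj.map f.op (S.g.hom.app (op X) t) = S.X₃.obj.map f.op (q (op X))
      rw [← NatTrans.naturality_apply S.g.hom f.op t, hq]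
      exact (congrArg (S.g.hom.app (op Y)) (ht f hf)).trans (x f hf).2⟩
  vadd {U} g s := (⟨S.f.hom.app U g + s.1, by rw [map_add, sect_g_f hS, zero_add, s.2]⟩ :
    {s : S.X₂.obj.obj U // S.g.hom.app U s = q U})
  zero_vadd {U} s := Subtype.ext ((congrArg (· + s.1) (map_zero (S.f.hom.app U).hom)).trans (zero_add _))
  add_vadd {U} g h s := Subtype.ext ((congrArg (· + s.1) (map_add (S.f.hom.app U).hom g h)).trans (add_assoc _ _ _))
  map_vadd {U V} f g s := Subtype.ext (by
    show S.X₂.obj.map f (S.f.hom.app U g + s.1) = S.f.hom.app V (S.X₁.obj.map f g) + S.X₂.obj.map f s.1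
    rw [map_add, NatTrans.naturality_apply])
  free_transitive {U} s t := by
    obtain ⟨g, hg⟩ := sect_exact hS U (t.1 - s.1) (by rw [map_sub, t.2, s.2, sub_self])
    refine ⟨g, Subtype.ext (by show S.f.hom.app U g + s.1 = t.1; rw [hg, sub_add_cancel]), fun g' hg' => ?_⟩
    refine sect_injective hS U (hg.symm ▸ ?_)
    exact eq_sub_of_add_eq (congrArg Subtype.val hg')
  locally_nonempty X := by
    haveI := hS.epi_g
    haveI : Sheaf.IsLocallySurjective S.g :=
      (Sheaf.isLocallySurjective_iff_epi' (A := AddCommGrpCat.{u}) (φ := S.g)).mpr inferInstance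
    refine ⟨_, Presheaf.imageSieve_mem J S.g.hom (q (op X)), fun V f hf => ?_⟩
    obtain ⟨t, ht⟩ := hf
    exact ⟨⟨t, ht.trans (hq _ _ f.op)⟩⟩

end lifts

section ext

variable {G : Sheaf J AddCommGrpCat.{u}} (T : Tors.Torsor G)

theorem existsUnique_vadd {U : Cᵒᵖ} (p q : T.P.obj.obj U) :
    ∃! g : G.obj.obj U, T.vadd g p = q := T.free_transitive p q

/-- The difference of two points. -/
noncomputable def sub {U : Cᵒᵖ} (q p : T.P.obj.obj U) : G.obj.obj U := (T.free_transitive p q).choose

theorem sub_vadd {U : Cᵒᵖ} (q p : T.P.obj.obj U) : T.vadd (sub T q p) p = q :=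
  (T.free_transitive p q).choose_spec.1

theorem eq_sub {U : Cᵒᵖ} {q p : T.P.obj.obj U} {g : G.obj.obj U} (h : T.vadd g p = q) : g = sub T q p :=
  (T.free_transitive p q).choose_spec.2 g h

theorem sub_add_sub {U : Cᵒᵖ} (r q p : T.P.obj.obj U) : sub T r q + sub T q p = sub T r p :=
  eq_sub T (by rw [T.add_vadd, sub_vadd, sub_vadd])

theorem map_sub' {U V : Cᵒᵖ} (f : U ⟶ V) (q p : T.P.obj.obj U) :
    G.obj.map f (sub T q p) = sub T (T.P.obj.map f q) (T.P.obj.map f p) :=
  eq_sub T (by rw [← T.map_vadd, sub_vadd])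

/-- The free abelian presheaf on the torsor. -/
abbrev freeP : Cᵒᵖ ⥤ AddCommGrpCat.{u} := T.P.obj ⋙ AddCommGrpCat.free

/-- The degree. -/
def deg (X : Type u) : FreeAbelianGroup X →+ ULift.{u} ℤ :=
  FreeAbelianGroup.lift fun _ => (⟨1⟩ : ULift.{u} ℤ)

theorem deg_of {X : Type u} (p : X) : deg X (FreeAbelianGroup.of p) = ⟨1⟩ :=
  FreeAbelianGroup.lift_apply_of _ _

theorem deg_map {X Y : Type u} (f : X → Y) (x : FreeAbelianGroup X) :
    deg Y (FreeAbelianGroup.map f x) = deg X x := by
  induction x using FreeAbelianGroup.induction_on with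
  | zero => simp
  | of p => rw [FreeAbelianGroup.map_of_apply, deg_of, deg_of]
  | neg p h => rw [map_neg, map_neg, map_neg, h]
  | add x y hx hy => rw [map_add, map_add, map_add, hx, hy]

theorem eq_zero_of_isEmpty {X : Type u} [IsEmpty X] (x : FreeAbelianGroup X) : x = 0 := by
  induction x using FreeAbelianGroup.induction_on with
  | zero => rfl
  | of p => exact isEmptyElim p
  | neg p h => rw [h, neg_zero]
  | add x y hx hy => rw [hx, hy, add_zero]

/-- The degree as a map of presheaves. -/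
def degP : freeP T ⟶ cZ C where
  app U := AddCommGrpCat.ofHom (deg (T.P.obj.obj U))
  naturality U V f := by
    refine AddCommGrpCat.hom_ext (AddMonoidHom.ext fun x => ?_)
    exact deg_map (T.P.obj.map f) x

/-- The differences with a base point. -/
noncomputable def psi {U : Cᵒᵖ} (p₀ : T.P.obj.obj U) : FreeAbelianGroup (T.P.obj.obj U) →+ G.obj.obj U :=
  FreeAbelianGroup.lift fun p => sub T p p₀

theorem psi_of {U : Cᵒᵖ} (p₀ p : T.P.obj.obj U) : psi T p₀ (FreeAbelianGroup.of p) = sub T p p₀ :=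
  FreeAbelianGroup.lift_apply_of _ _

theorem psi_eq {U : Cᵒᵖ} (p₀ p₁ : T.P.obj.obj U) (x : FreeAbelianGroup (T.P.obj.obj U)) :
    psi T p₀ x = psi T p₁ x + (deg _ x).down • sub T p₁ p₀ := by
  induction x using FreeAbelianGroup.induction_on with
  | zero => simp
  | of p => rw [psi_of, psi_of, deg_of, one_smul, sub_add_sub]
  | neg p h => rw [map_neg, map_neg, map_neg, h, ULift.neg_down, neg_smul]; abel
  | add x y hx hy => rw [map_add, map_add, map_add, hx, hy, ULift.add_down, add_smul]; abel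

theorem psi_map {U V : Cᵒᵖ} (f : U ⟶ V) (p₀ : T.P.obj.obj U) (x : FreeAbelianGroup (T.P.obj.obj U)) :
    G.obj.map f (psi T p₀ x) =
      psi T (T.P.obj.map f p₀) (FreeAbelianGroup.map (T.P.obj.map f) x) := by
  induction x using FreeAbelianGroup.induction_on with
  | zero => simp
  | of p => rw [FreeAbelianGroup.map_of_apply, psi_of, psi_of, map_sub']
  | neg p h => rw [map_neg, map_neg, h, map_neg, map_neg]
  | add x y hx hy => rw [map_add, map_add, hx, hy, map_add, map_add]

open Classical in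
/-- On degree zero the difference needs no base point. -/
noncomputable def psi₀ (U : Cᵒᵖ) : FreeAbelianGroup (T.P.obj.obj U) →+ G.obj.obj U :=
  if h : Nonempty (T.P.obj.obj U) then psi T h.some else 0

theorem exists_equivariant {I : Sheaf J AddCommGrpCat.{u}} [Injective I] (ι : G ⟶ I) :
    ∃ φ : ∀ U, T.P.obj.obj U → I.obj.obj U,
      (∀ (U V : Cᵒᵖ) (f : U ⟶ V) (p), I.obj.map f (φ U p) = φ V (T.P.obj.map f p)) ∧
      ∀ (U : Cᵒᵖ) (p q), φ U q - φ U p = ι.hom.app U (sub T q p) := by
  classical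
  haveI : Injective I.obj := Injective.injective_of_adjoint (sheafificationAdjunction J AddCommGrpCat.{u}) I
  let K : Cᵒᵖ ⥤ AddCommGrpCat.{u} :=
    { obj := fun U => AddCommGrpCat.of ((degP T).app U).hom.ker
      map := fun {U V} f => AddCommGrpCat.ofHom
        (AddMonoidHom.mk' (fun x => (⟨(freeP T).map f x.1, by
          show (degP T).app V ((freeP T).map f x.1) = 0
          rw [NatTrans.naturality_apply (degP T) f x.1]
          exact (congrArg _ x.2).trans (map_zero _)⟩ : ((degP T).app V).hom.ker))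
          fun a b => Subtype.ext (map_add _ a.1 b.1))
      map_id := fun U => by ext x; exact ConcreteCategory.congr_hom ((freeP T).map_id U) x.1
      map_comp := fun f g => by ext x; exact ConcreteCategory.congr_hom ((freeP T).map_comp f g) x.1 }
  let incl : K ⟶ freeP T :=
    { app := fun U => AddCommGrpCat.ofHom ((degP T).app U).hom.ker.subtype
      naturality := fun _ _ _ => rfl }
  haveI : ∀ U, Mono (incl.app U) := fun U =>
    (AddCommGrpCat.mono_iff_injective _).mpr Subtype.val_injective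
  haveI : Mono incl := NatTrans.mono_of_mono_app _
  let d : K ⟶ I.obj :=
    { app := fun U => AddCommGrpCat.ofHom ((ι.hom.app U).hom.comp ((psi₀ T U).comp ((degP T).app U).hom.ker.subtype))
      naturality := fun U V f => by
        ext x
        obtain ⟨x, hx⟩ := x
        show ι.hom.app V (psi₀ T V (FreeAbelianGroup.map (T.P.obj.map f) x)) = I.obj.map f (ι.hom.app U (psi₀ T U x))
        rw [← NatTrans.naturality_apply ι.hom f]
        congr 1
        by_cases hU : Nonempty (T.P.obj.obj U)
        · have hV : Nonempty (T.P.obj.obj V) := hU.map (T.P.obj.map f)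
          rw [psi₀, dif_pos hV, psi₀, dif_pos hU, psi_map T f hU.some,
            psi_eq T hV.some (T.P.obj.map f hU.some)]
          rw [deg_map, show deg _ x = 0 from hx, ULift.zero_down, zero_smul, add_zero]
        · haveI : IsEmpty (T.P.obj.obj U) := not_nonempty_iff.mp hU
          rw [eq_zero_of_isEmpty (X := T.P.obj.obj U) x, map_zero, map_zero, map_zero, map_zero] }
  let Φ := Injective.factorThru d incl
  refine ⟨fun U p => Φ.app U (FreeAbelianGroup.of p), fun U V f p => ?_, fun U p q => ?_⟩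
  · rw [← NatTrans.naturality_apply Φ f]
    exact congrArg (Φ.app V) (FreeAbelianGroup.map_of_apply p)
  · have hmem : FreeAbelianGroup.of q - FreeAbelianGroup.of p ∈ ((degP T).app U).hom.ker := by
      show deg _ (FreeAbelianGroup.of q - FreeAbelianGroup.of p) = 0
      rw [map_sub, deg_of, deg_of, sub_self]
    have := congr((($(Injective.comp_factorThru d incl)).app U) ⟨_, hmem⟩)
    refine (map_sub (Φ.app U).hom _ _).symm.trans (this.trans ?_)
    show ι.hom.app U (psi₀ T U (FreeAbelianGroup.of q - FreeAbelianGroup.of p)) = _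
    have hU : Nonempty (T.P.obj.obj U) := ⟨p⟩
    rw [psi₀, dif_pos hU, psi_eq T hU.some p]
    rw [map_sub (psi T p), map_sub (deg _), deg_of, deg_of, sub_self, psi_of, psi_of,
      ← eq_sub T (T.zero_vadd p), sub_zero, ULift.zero_down, zero_smul, add_zero]

end ext

/-- In a map-free form (small site, abelian sheaf G): the first cohomology group H^1(G) (Ext^1 out of
the constant sheaf Z) is zero if and only if every G-torsor has a global section. The source's
statement is stronger: a canonical bijection between isomorphism classes of G-torsors and H^1(G). -/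
theorem result {C : Type u} [SmallCategory C] {J : GrothendieckTopology C}
    (G : Sheaf J AddCommGrpCat.{u}) :
    Subsingleton (Sheaf.H.{u} G 1) ↔ ∀ T : Tors.Torsor G, T.HasSection := by
  classical
  let Z : Sheaf J AddCommGrpCat.{u} :=
    (constantSheaf J AddCommGrpCat.{u}).obj (AddCommGrpCat.of (ULift.{u} ℤ))
  let S : ShortComplex (Sheaf J AddCommGrpCat.{u}) :=
    ShortComplex.mk (Injective.ι G) (cokernel.π (Injective.ι G)) (cokernel.condition _)
  have hS : S.ShortExact := { exact := ShortComplex.exact_of_g_is_cokernel _ (cokernelIsCokernel _) }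
  haveI : Injective S.X₂ := inferInstanceAs (Injective (Injective.under G))
  have hnat : ∀ (a : Z ⟶ S.X₂), globalHom S.X₃ (a ≫ S.g) = globalHom S.X₂ a ≫ S.g.hom := fun a =>
    Adjunction.homEquiv_naturality_right _ _ _
  constructor
  · intro hH T
    rw [hasSection_iff]
    obtain ⟨φ, hφn, hφ⟩ := exists_equivariant T (I := S.X₂) S.f
    have hconst : ∀ U (p p' : T.P.obj.obj U), S.g.hom.app U (φ U p) = S.g.hom.app U (φ U p') := by
      intro U p p'
      rw [← sub_eq_zero, ← map_sub, hφ, sect_g_f hS]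
    -- the global section of the quotient
    have hQ := (isSheaf_iff_isSheaf_of_type _ _).mp
      ((sheafCompose J (forget AddCommGrpCat.{u})).obj S.X₃).property
    have hq0 : ∀ U : C, ∃ t : S.X₃.obj.obj (op U), ∀ ⦃V : C⦄ (f : V ⟶ U) (p : T.P.obj.obj (op V)),
        S.X₃.obj.map f.op t = S.g.hom.app _ (φ _ p) := by
      intro U
      obtain ⟨R, hR, hne⟩ := T.locally_nonempty U
      obtain ⟨t, ht, -⟩ := hQ R hR (fun V f hf => S.g.hom.app (op V) (φ (op V) (hne f hf).some)) (by
        intro Y₁ Y₂ W g₁ g₂ f₁ f₂ h₁ h₂ w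
        show S.X₃.obj.map g₁.op _ = S.X₃.obj.map g₂.op _
        rw [← NatTrans.naturality_apply, ← NatTrans.naturality_apply, hφn, hφn]
        exact hconst _ _ _)
      refine ⟨t, fun V f p => ?_⟩
      refine (hQ.isSeparated _ (J.pullback_stable f hR)).ext fun W g hg => ?_
      show S.X₃.obj.map g.op (S.X₃.obj.map f.op t) = S.X₃.obj.map g.op (S.g.hom.app (op V) (φ (op V) p))
      rw [← NatTrans.naturality_apply S.g.hom g.op, hφn, ← ConcreteCategory.comp_apply,
        ← Functor.map_comp, ← op_comp]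
      exact (ht (g ≫ f) hg).trans (hconst _ _ _)
    choose q0 hq using hq0
    have hqn : ∀ (U V : Cᵒᵖ) (f : U ⟶ V), S.X₃.obj.map f (q0 U.unop) = q0 V.unop := by
      intro U V f
      obtain ⟨R, hR, hne⟩ := T.locally_nonempty V.unop
      refine (hQ.isSeparated R hR).ext fun W g hg => ?_
      show S.X₃.obj.map g.op (S.X₃.obj.map f (q0 U.unop)) = S.X₃.obj.map g.op (q0 V.unop)
      rw [← ConcreteCategory.comp_apply, ← Functor.map_comp,
        show f ≫ g.op = (g ≫ f.unop).op from rfl, hq U.unop (g ≫ f.unop) (hne g hg).some,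
        hq V.unop g (hne g hg).some]
    let ν : Z ⟶ S.X₃ := (globalHom S.X₃).symm (famHom S.X₃ (fun U => q0 U.unop) hqn)
    obtain ⟨x, hx⟩ := Ext.covariant_sequence_exact₃ Z hS (n₀ := 0) (Ext.mk₀ ν) (n₁ := 1) rfl
      (@Subsingleton.elim _ hH _ _)
    obtain ⟨a, rfl⟩ := (Ext.mk₀_bijective _ _).2 x
    rw [Ext.mk₀_comp_mk₀] at hx
    have hν : globalHom S.X₃ (a ≫ S.g) = famHom S.X₃ (fun U => q0 U.unop) hqn := by
      rw [(Ext.mk₀_bijective _ _).1 hx]; exact Equiv.apply_symm_apply _ _
    rw [hnat] at hν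
    let s : ∀ U : Cᵒᵖ, S.X₂.obj.obj U := fun U => (globalHom S.X₂ a).app U (⟨1⟩ : ULift.{u} ℤ)
    have hsn : ∀ (U V : Cᵒᵖ) (f : U ⟶ V), S.X₂.obj.map f (s U) = s V := fun U V f =>
      (NatTrans.naturality_apply (globalHom S.X₂ a) f (⟨1⟩ : ULift.{u} ℤ)).symm
    have hgs : ∀ U : Cᵒᵖ, S.g.hom.app U (s U) = q0 U.unop := fun U => by
      refine (congr((($(hν)).app U) (⟨1⟩ : ULift.{u} ℤ))).trans ?_
      exact one_zsmul (q0 U.unop)
    -- the point mapped to `s`
    have hp : ∀ U : C, ∃! p : T.P.obj.obj (op U), φ (op U) p = s (op U) := by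
      intro U
      have huniq : ∀ (V : Cᵒᵖ) (p p' : T.P.obj.obj V), φ V p = φ V p' → p = p' := by
        intro V p p' h
        have := hφ V p' p
        rw [h, sub_self, ← map_zero (S.f.hom.app V).hom] at this
        rw [← sub_vadd T p p', ← sect_injective hS V this, T.zero_vadd]
      obtain ⟨R, hR, hne⟩ := T.locally_nonempty U
      have hloc : ∀ ⦃V : C⦄ (f : V ⟶ U), R f → ∃ p : T.P.obj.obj (op V), φ (op V) p = s (op V) := by
        intro V f hf
        obtain ⟨g, hg⟩ := sect_exact hS (op V) (s (op V) - φ _ (hne f hf).some) (by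
          rw [map_sub, hgs, ← hq V (𝟙 V) (hne f hf).some, op_id, S.X₃.obj.map_id,
            ConcreteCategory.id_apply, sub_self])
        refine ⟨T.vadd g (hne f hf).some, ?_⟩
        have := hφ (op V) (hne f hf).some (T.vadd g (hne f hf).some)
        rw [← eq_sub T rfl, hg] at this
        exact sub_left_injective this
      choose p hp using hloc
      have hc : Presieve.FamilyOfElements.Compatible (P := T.P.obj) (R := R.arrows) p := by
        intro Y₁ Y₂ W g₁ g₂ f₁ f₂ h₁ h₂ w
        refine huniq _ _ _ ?_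
        rw [← hφn, ← hφn, hp, hp, hsn, hsn]
      obtain ⟨t, ht, -⟩ := (isSheaf_iff_isSheaf_of_type _ _).mp T.P.property R hR p hc
      refine ⟨t, ?_, fun t' ht' => ?_⟩
      · refine (((isSheaf_iff_isSheaf_of_type _ _).mp
          ((sheafCompose J (forget AddCommGrpCat.{u})).obj S.X₂).property).isSeparated R hR).ext fun V f hf => ?_
        show S.X₂.obj.map f.op _ = S.X₂.obj.map f.op _
        rw [hφn, ht f hf, hp, hsn]
      · refine (((isSheaf_iff_isSheaf_of_type _ _).mp T.P.property).isSeparated R hR).ext fun V f hf => ?_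
        rw [ht f hf]
        refine huniq _ _ _ ?_
        rw [← hφn, ht', hsn, hp]
    refine ⟨fun U => (hp U.unop).choose, fun U V f => (hp V.unop).choose_spec.2 _ ?_⟩
    show φ V _ = s V
    rw [← hφn]
    exact (congrArg (S.X₂.obj.map f) (hp U.unop).choose_spec.1).trans (hsn U V f)
  · intro h
    refine subsingleton_of_forall_eq 0 fun x => ?_
    change Ext.{u} Z S.X₁ 1 at x
    obtain ⟨x₃, rfl⟩ := Ext.covariant_sequence_exact₁ Z hS (n₁ := 1) x (Ext.eq_zero_of_injective _) (n₀ := 0) rfl
    obtain ⟨ν, rfl⟩ := (Ext.mk₀_bijective _ _).2 x₃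
    let q : ∀ U, S.X₃.obj.obj U := fun U => (globalHom S.X₃ ν).app U (⟨1⟩ : ULift.{u} ℤ)
    obtain ⟨p, hp⟩ := (hasSection_iff _).mp (h (lifts hS q fun U V f =>
      (NatTrans.naturality_apply (globalHom S.X₃ ν) f (⟨1⟩ : ULift.{u} ℤ)).symm))
    let a : Z ⟶ S.X₂ := (globalHom S.X₂).symm
      (famHom S.X₂ (fun U => (p U).1) fun U V f => congrArg Subtype.val (hp U V f))
    have ha : a ≫ S.g = ν := by
      apply (globalHom S.X₃).injective
      rw [hnat, Equiv.apply_symm_apply]
      ext U ⟨n⟩
      show S.g.hom.app U (n • (p U).1) = (globalHom S.X₃ ν).app U (⟨n⟩ : ULift.{u} ℤ)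
      rw [map_zsmul, (p U).2, ← map_zsmul]
      exact congrArg _ (ULift.ext _ _ (by simp))
    rw [← ha, ← Ext.mk₀_comp_mk₀, Ext.comp_assoc_of_second_deg_zero, hS.comp_extClass, Ext.comp_zero]

end Groth.Agent.S3895
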