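import Groth.Statements.S3898
import Groth.Agent.CohLib.GoodExamples
-- import your own Groth.Agent.* helpers here

set_option autoImplicit false
set_option linter.style.haveILetI false
open CategoryTheory CategoryTheory.Limits Opposite
universe u
open ToposFin

namespace Groth.Agent.S3898

/-- For a single coherent open (topos of sheaves on a small site): let E be a coherent topos (algebraic
with coherent final object) and U a coherent subobject of the final object, with closed complement
Z. Then for every q the functor F ↦ H^q_Z(E, F) (Ext groups out of Z/Z_U) preserves colimits indexed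
by any small filtered category. The source states this for the family of supports attached to a
decreasing filtered family of such U, which is the filtered colimit of these cases. -/
theorem result {C : Type u} [SmallCategory C]
    {J : GrothendieckTopology C} (hE : ToposFin.IsAlgebraic J) (hT : ToposFin.IsCoherent (⊤_ (ToposFin.Sh J)))
    (U : ToposFin.Sh J) [Mono (terminal.from U)] (hU : ToposFin.IsCoherent U)
    (Λ : Type u) [SmallCategory Λ] [IsFiltered Λ] (q : ℕ) :
    PreservesColimitsOfShape Λ (ToposFin.HZFunctor U q) := by
  obtain ⟨G, hG⟩ := CohLib.nonempty_goodClass_algebraic hE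
  let f : (CohLib.Z J).obj U ⟶ (CohLib.Z J).obj (⊤_ (ToposFin.Sh J)) := (ToposFin.freeAb J).map (terminal.from U)
  haveI : Mono f := by
    haveI : (presheafToSheaf J AddCommGrpCat.{u}).PreservesMonomorphisms := inferInstance
    haveI : Mono ((sheafToPresheaf J (Type u)).map (terminal.from U)) := inferInstance
    haveI : ∀ X, Mono ((terminal.from U).hom.app X) := fun X =>
      (NatTrans.mono_iff_mono_app _).1 (inferInstanceAs (Mono ((sheafToPresheaf J (Type u)).map (terminal.from U)))) X
    haveI : Mono (Functor.whiskerRight (terminal.from U).hom AddCommGrpCat.free.{u}) := by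
      haveI : ∀ X, Mono ((Functor.whiskerRight (terminal.from U).hom AddCommGrpCat.free.{u}).app X) := fun X =>
        inferInstanceAs (Mono (AddCommGrpCat.free.{u}.map ((terminal.from U).hom.app X)))
      exact NatTrans.mono_of_mono_app _
    exact inferInstanceAs (Mono ((presheafToSheaf J AddCommGrpCat.{u}).map
      (Functor.whiskerRight (terminal.from U).hom AddCommGrpCat.free.{u})))
  let S := ShortComplex.mk f (cokernel.π f) (cokernel.condition f)
  have hS : S.ShortExact := { exact := ShortComplex.exact_cokernel f }
  have hT' : G.P (⊤_ (ToposFin.Sh J)) := hG _ hT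
  refine FiltExtLib.preservesColimitsOfShape_ext (FiltExtLib.extComm_of_acyclic (M := cokernel f) ?_ ?_ ?_ q)
  · intro D t
    obtain ⟨i, s, hs⟩ := CohLib.exists_lift_Z G.qcGen (G.coherent hT') D (cokernel.π f ≫ t)
    obtain ⟨j, φ, hj⟩ := CohLib.eq_zero_at_Z (G.coherent (hG _ hU)).1 D i (f ≫ s) (by
      rw [Category.assoc]
      exact (congrArg (f ≫ ·) hs).trans (by simp [cokernel.condition_assoc]))
    refine ⟨j, cokernel.desc f (s ≫ D.map φ) ((Category.assoc _ _ _).symm.trans hj), ?_⟩
    rw [← cancel_epi (cokernel.π f), cokernel.π_desc_assoc, Category.assoc, colimit.w]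
    exact hs
  · intro D i s h
    obtain ⟨j, φ, hj⟩ := CohLib.eq_zero_at_Z (G.coherent hT').1 D i (cokernel.π f ≫ s) (by
      rw [Category.assoc]
      exact (congrArg (cokernel.π f ≫ ·) h).trans comp_zero)
    exact ⟨j, φ, by rw [← cancel_epi (cokernel.π f), comp_zero, ← Category.assoc]; exact hj⟩
  · intro p I hI
    have hc := CohLib.goodCechExact_colimit G I hI
    haveI : Subsingleton (Abelian.Ext S.X₂ (colimit I) (p + 1)) :=
      CohLib.subsingleton_HK_of_goodCechExact G hc hT' p
    refine subsingleton_of_forall_eq 0 fun x => ?_
    obtain ⟨z, hz⟩ := Abelian.Ext.contravariant_sequence_exact₃ hS (colimit I) x (Subsingleton.elim _ _)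
      (n₀ := p) (Nat.add_comm 1 p)
    rw [← hz]
    rcases p with _ | p
    · obtain ⟨u, rfl⟩ := Abelian.Ext.addEquiv₀.symm.surjective z
      obtain ⟨i, v, hv⟩ := CohLib.exists_lift_Z G.qcGen (G.coherent (hG _ hU)) I u
      haveI := hI i
      rw [Abelian.Ext.addEquiv₀_symm_apply, ← hv, ← Injective.comp_factorThru v f, Category.assoc,
        ← Abelian.Ext.mk₀_comp_mk₀]
      exact hS.extClass_comp_assoc _
    · haveI : Subsingleton (Abelian.Ext S.X₁ (colimit I) (p + 1)) :=
        CohLib.subsingleton_HK_of_goodCechExact G hc (hG _ hU) p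
      rw [Subsingleton.elim z 0, Abelian.Ext.comp_zero]

end Groth.Agent.S3898
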