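import Groth.Statements.S5306
import Groth.Agent.TransporterLib.SubTop
import Groth.Agent.EtSectLib.Main

set_option autoImplicit false
open CategoryTheory MonoidalCategory CartesianMonoidalCategory MonObj GrpObj AlgebraicGeometry
universe u
open SGA3x
set_option backward.isDefEq.respectTransparency false

namespace Groth.Agent.S5306

/-- (ii) ⇒ (i): Let G be an S-group smooth and affine over S and i₁ : H₁ ⟶ G, i₂ : H₂ ⟶ G two subgroup
schemes of multiplicative type (and of finite type). Suppose that for every s ∈ S, writing s̄ for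
the spectrum of an algebraic closure of κ(s), there is a point g of G with values in s̄ such that
int(g)(H₁) = H₂ on points over s̄. Then H₁ and H₂ are conjugate locally for the etale topology:
every point of S is in the image of an etale S' ⟶ S over which some S'-point of G ×_S S' conjugates
H₁ ×_S S' onto H₂ ×_S S'. -/
theorem result {S : Scheme.{u}} (H₁ H₂ G : Over S) [GrpObj H₁] [GrpObj H₂] [GrpObj G]
    (h₁ : SGA3x.IsMultTypeFT H₁) (h₂ : SGA3x.IsMultTypeFT H₂) (hG : Smooth G.hom) (hGa : IsAffineHom G.hom)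
    (i₁ : H₁ ⟶ G) [IsMonHom i₁] [Mono i₁] (i₂ : H₂ ⟶ G) [IsMonHom i₂] [Mono i₂]
    (hgeom : ∀ s : S, ∃ g : Over.mk (Red.geomPt s) ⟶ G, ∀ (X : Over S) (p : X ⟶ Over.mk (Red.geomPt s)),
      (∀ a : X ⟶ H₁, ∃ b : X ⟶ H₂, (p ≫ g) * (a ≫ i₁) * (p ≫ g)⁻¹ = b ≫ i₂) ∧
      (∀ b : X ⟶ H₂, ∃ a : X ⟶ H₁, (p ≫ g)⁻¹ * (b ≫ i₂) * (p ≫ g) = a ≫ i₁)) :
    TwC.Locally S TwC.Topology.etale (fun S' f => ∃ g : 𝟙_ (Over S') ⟶ Red.bc f G,
      SGA3x.ConjBy ((Over.pullback f).map i₁) ((Over.pullback f).map i₂) g) := by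
  obtain ⟨T, j, hj, hsm, hT⟩ := Transporter.exists_smooth_subgroupTransporter h₁ h₂ hG hGa i₁ i₂
  haveI := hsm
  intro s
  have hs : s ∈ Set.range T.hom := by
    obtain ⟨g, hg⟩ := hgeom s
    obtain ⟨t, -⟩ := (hT _ g).2 hg
    let z : Spec (CommRingCat.of (AlgebraicClosure (S.residueField s))) := default
    refine ⟨t.left z, ?_⟩
    have e1 := congrArg (fun k : _ ⟶ S => k z) (Over.w t)
    simp only [Scheme.Hom.comp_apply] at e1
    refine e1.trans ?_
    show (Spec.map (CommRingCat.ofHom (algebraMap (S.residueField s) (AlgebraicClosure (S.residueField s)))) ≫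
      S.fromSpecResidueField s) z = s
    rw [Scheme.Hom.comp_apply]
    exact S.fromSpecResidueField_apply s _
  obtain ⟨S', f, s', hf, hfs, k, hk⟩ := EtSectLib.exists_section T.hom s hs
  let t : (Over.map f).obj (𝟙_ (Over S')) ⟶ T := Over.homMk k (hk.trans (Category.id_comp f).symm)
  haveI : Mono ((Over.pullback f).map i₁) := inferInstance
  haveI : Mono ((Over.pullback f).map i₂) := inferInstance
  exact ⟨S', f, hf, ⟨s', hfs⟩, (Over.mapPullbackAdj f).homEquiv _ G (t ≫ j),
    Transporter.conjBy_of_conjPts ((Transporter.conjPts_bc f i₁ i₂ (t ≫ j)).2 ((hT _ (t ≫ j)).1 ⟨t, rfl⟩))⟩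

end Groth.Agent.S5306
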