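import Groth.Statements.S3951
import Groth.Agent.SplitCellLib.Order

set_option autoImplicit false
open CategoryTheory MonoidalCategory CartesianMonoidalCategory MonObj GrpObj AlgebraicGeometry
universe u
open RedSub

namespace Groth.Agent.S3951

/-- Let G be a split reductive S-group (splitting D) and b a system of simple roots of its root datum,
with positive roots R_+ and negative roots R_-. For enumerations e⁻ of R_- and e⁺ of R_+ in any
order, the morphism G_a^{R_-} x_S T x_S G_a^{R_+} ⟶ G given by the ordered product of the root
homomorphisms and the torus is an open immersion, and its image (the big cell) does not depend on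
the chosen orderings. -/
theorem result {S : Scheme.{u}} {G : Over S} [GrpObj G] (D : Red.SplitRed G) (b : D.P.Base)
    {n m : ℕ} (eneg : Fin n → D.idx) (epos : Fin m → D.idx)
    (hneg : RedSub.Enumerates (RedSub.negRoots D.P b) eneg) (hpos : RedSub.Enumerates (RedSub.posRoots D.P b) epos) :
    IsOpenImmersion (RedSub.cellMap D eneg epos).left ∧
      ∀ (eneg' : Fin n → D.idx) (epos' : Fin m → D.idx), RedSub.Enumerates (RedSub.negRoots D.P b) eneg' →
        RedSub.Enumerates (RedSub.posRoots D.P b) epos' →
        Set.range (RedSub.cellMap D eneg' epos').left.base = Set.range (RedSub.cellMap D eneg epos).left.base := by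
  refine ⟨SplitCell.isOpenImmersion_cellMap D (SplitCell.sidesOfBase D.P b) hneg hpos, fun eneg' epos' hn' hp' => Set.Subset.antisymm ?_ ?_⟩
  · exact SplitCell.range_subset D (SplitCell.sidesOfBase D.P b) hneg hpos (fun k => hn'.2.le ⟨k, rfl⟩) (fun k => hp'.2.le ⟨k, rfl⟩)
  · exact SplitCell.range_subset D (SplitCell.sidesOfBase D.P b) hn' hp' (fun k => hneg.2.le ⟨k, rfl⟩) (fun k => hpos.2.le ⟨k, rfl⟩)

end Groth.Agent.S3951
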