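import Groth.Statements.S3954
import Groth.Agent.BruhatLib.Apply

set_option autoImplicit false
set_option backward.isDefEq.respectTransparency false
open CategoryTheory MonoidalCategory CartesianMonoidalCategory MonObj GrpObj AlgebraicGeometry
universe u
open RedSub

namespace Groth.Agent.S3954

/-- Let G be a split reductive S-group (splitting D), b a system of simple roots with enumerations e⁻,
e⁺ of the negative and positive roots, and n a family of S-points of G normalising the torus and
realising the reflections s_a of all roots a. Then G is covered by the translates n_w Ω of the big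
cell Ω (image of the big cell map) by the products n_w = n_{a_1} ⋯ n_{a_k} of these points: every
point of the underlying space of G lies in the image of the left translate by some such product of
the big cell map. -/
theorem result {S : Scheme.{u}} {G : Over S} [GrpObj G] (D : Red.SplitRed G)
    (b : D.P.Base) {n m : ℕ} (eneg : Fin n → D.idx) (epos : Fin m → D.idx)
    (hneg : RedSub.Enumerates (RedSub.negRoots D.P b) eneg) (hpos : RedSub.Enumerates (RedSub.posRoots D.P b) epos)
    (nr : D.idx → (𝟙_ (Over S) ⟶ G)) (hnr : RedSub.RealisesReflections D nr) (x : ↥G.left) :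
    ∃ w : List D.idx,
      x ∈ Set.range ((toUnit _ ≫ (w.map nr).prod) * RedSub.cellMap D eneg epos).left.base := by
  haveI : Nonempty S := ⟨G.hom x⟩
  obtain ⟨K, _, _, ξ, g, hg⟩ := Bruhat.exists_geom x
  let σ := SplitCell.sidesOfBase D.P b
  haveI := SplitCell.isMonHom_i D
  obtain ⟨u, hu, l, t, c, hc, e⟩ := Bruhat.mem_cells hnr ξ (σ := σ) (σ' := σ) b
    (fun a ha => ⟨a, Or.inl rfl, Bruhat.isWall_of_mem_support b ha⟩) g
  obtain ⟨u₁, hu₁, u₂, hu₂, rfl⟩ := Bruhat.exists_split_mem σ (fun k => (RedSub.wordPerm D.P l).symm k ∈ σ.neg) hu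
  have h₁ := Bruhat.conj_ux_word' hnr l (R' := σ.neg) (fun k hk => hk.2) hu₁
  have h₂ := Bruhat.conj_ux_word' hnr l (R' := σ.pos) (fun k hk => (σ.total _).resolve_right hk.2) hu₂
  refine ⟨l, Bruhat.mem_range_translate ξ σ hneg hpos hg _ ?_⟩
  refine ⟨_, h₁, t, _, Subgroup.mul_mem _ (Bruhat.conj_torus_mem' t h₂) hc, ?_⟩
  show (Bruhat.nX nr _ l)⁻¹ * g = _
  rw [e]
  group

end Groth.Agent.S3954
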