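import Groth.Statements.S3955
import Groth.Agent.BruhatLib.Map

set_option autoImplicit false
set_option backward.isDefEq.respectTransparency false
open CategoryTheory MonoidalCategory CartesianMonoidalCategory MonObj GrpObj AlgebraicGeometry
universe u
open RedSub

namespace Groth.Agent.S3955

/-- A point of the Bruhat cell map. -/
theorem comp_bruhatMap {S : Scheme.{u}} {G : Over S} [GrpObj G] (D : Red.SplitRed G)
    (nr : D.idx → (𝟙_ (Over S) ⟶ G)) (l : List D.idx) {k m : ℕ} (e : Fin k → D.idx) (epos : Fin m → D.idx)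
    {X : Over S} (q : X ⟶ RedSub.pow (Red.Ga S) k ⊗ (D.T ⊗ RedSub.pow (Red.Ga S) m)) :
    q ≫ RedSub.bruhatMap D nr l e epos = ((q ≫ fst _ _) ≫ SplitCell.rprod D e) * Bruhat.nX nr X l *
      (((q ≫ snd _ _ ≫ fst _ _) ≫ D.i) * ((q ≫ snd _ _ ≫ snd _ _) ≫ SplitCell.rprod D epos)) := by
  rw [RedSub.bruhatMap, MonObj.comp_mul, MonObj.comp_mul, MonObj.comp_mul, ← Category.assoc q (toUnit _),
    Subsingleton.elim (q ≫ toUnit _) (toUnit X), Bruhat.nX]
  simp only [Category.assoc, _root_.mul_assoc]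

/-- Let G be a split reductive S-group (splitting D), b a system of simple roots with enumeration e⁺ of
the positive roots, and n a family of S-points of G realising the reflections. For a word l in the
roots let w_l be the corresponding Weyl group element, n_l the product of the n's along l, and C_l
the image of the Bruhat cell map (y, t, x) ↦ ∏_{a ∈ R_- ∩ w_l(R_-)} u_a(y_a) · n_l · t · ∏_{a ∈ R_+}
u_a(x_a). Then the C_l, for w_l ranging over the Weyl group, partition the underlying space of G: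
every point lies in some C_l, and if a point lies in C_l and C_{l'} then w_l = w_{l'}. -/
theorem result {S : Scheme.{u}} {G : Over S} [GrpObj G] (D : Red.SplitRed G) (b : D.P.Base)
    {m : ℕ} (epos : Fin m → D.idx) (hpos : RedSub.Enumerates (RedSub.posRoots D.P b) epos)
    (nr : D.idx → (𝟙_ (Over S) ⟶ G)) (hnr : RedSub.RealisesReflections D nr) :
    (∀ x : ↥G.left, ∃ (l : List D.idx) (k : ℕ) (e : Fin k → D.idx),
      RedSub.Enumerates (RedSub.negMeetNeg D.P b (RedSub.wordPerm D.P l)) e ∧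
        x ∈ Set.range (RedSub.bruhatMap D nr l e epos).left.base) ∧
    ∀ (l l' : List D.idx) (k k' : ℕ) (e : Fin k → D.idx) (e' : Fin k' → D.idx) (x : ↥G.left),
      RedSub.Enumerates (RedSub.negMeetNeg D.P b (RedSub.wordPerm D.P l)) e →
      RedSub.Enumerates (RedSub.negMeetNeg D.P b (RedSub.wordPerm D.P l')) e' →
      x ∈ Set.range (RedSub.bruhatMap D nr l e epos).left.base →
      x ∈ Set.range (RedSub.bruhatMap D nr l' e' epos).left.base →
      RedSub.wordPerm D.P l = RedSub.wordPerm D.P l' := by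
  haveI := SplitCell.isMonHom_i D
  let σ := SplitCell.sidesOfBase D.P b
  refine ⟨fun x => ?_, fun l l' k k' e e' x he he' hx hx' => ?_⟩
  · haveI : Nonempty S := ⟨G.hom x⟩
    obtain ⟨K, _, _, ξ, g, hg⟩ := Bruhat.exists_geom x
    obtain ⟨u, hu, l, t, c, hc, hgu⟩ := Bruhat.mem_cells hnr ξ (σ := SplitFib.flipSides σ) (σ' := σ) b
      (fun a ha => ⟨_, Or.inr rfl, (Bruhat.isWall_of_mem_support b ha).flip⟩) g
    obtain ⟨k, e, he⟩ := SplitFib.exists_enumerates (RedSub.negMeetNeg D.P b (RedSub.wordPerm D.P l))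
    obtain ⟨k₂, e₂, he₂⟩ :=
      SplitFib.exists_enumerates {a | a ∈ σ.neg ∧ (RedSub.wordPerm D.P l).symm a ∉ σ.neg}
    obtain ⟨y, y₂, hy⟩ := Bruhat.exists_split (SplitFib.flipSides σ)
      (s := RedSub.negMeetNeg D.P b (RedSub.wordPerm D.P l))
      (s' := {a | a ∈ σ.neg ∧ (RedSub.wordPerm D.P l).symm a ∉ σ.neg})
      (Set.ext fun a => ⟨fun h => h.elim (fun h => h.1) fun h => h.1,
        fun h => (em ((RedSub.wordPerm D.P l).symm a ∈ σ.neg)).imp (fun h' => ⟨h, h'⟩) fun h' => ⟨h, h'⟩⟩)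
      (Set.disjoint_left.2 fun a h h' => h'.2 h.2) he he₂ hu
    have hu₂ := Bruhat.conj_ux_word' hnr l (R' := σ.pos)
      (fun a (ha : a ∈ {a | a ∈ σ.neg ∧ (RedSub.wordPerm D.P l).symm a ∉ σ.neg}) => (σ.total _).resolve_right ha.2)
      (Bruhat.rprod_mem e₂ (fun i => he₂.2.subset (Set.mem_range_self i)) y₂)
    obtain ⟨c', hc'⟩ := Bruhat.exists_rprod σ hpos (Subgroup.mul_mem _ (Bruhat.conj_torus_mem' t hu₂) hc)
    refine ⟨l, k, e, he, Bruhat.mem_range_of_geom ξ _ hg (lift y (lift t c')) ?_⟩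
    simp only [RedSub.bruhatMap, MonObj.comp_mul, lift_fst_assoc, lift_snd_assoc]
    rw [← hc', hgu, hy, ← Category.assoc _ (toUnit _),
      Subsingleton.elim (lift y (lift t c') ≫ toUnit _) (toUnit (SplitCell.aP ξ K))]
    show _ = (y ≫ _) * (y₂ ≫ _) * Bruhat.nX nr _ l * _
    simp only [Bruhat.nX]
    group
  · haveI : Nonempty S := ⟨G.hom x⟩
    obtain ⟨z, rfl⟩ := hx
    obtain ⟨z', hz'⟩ := hx'
    obtain ⟨w, hw₁, hw₂⟩ := Scheme.Pullback.exists_preimage_pullback (f := (RedSub.bruhatMap D nr l e epos).left)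
      (g := (RedSub.bruhatMap D nr l' e' epos).left) z z' hz'.symm
    let f := (RedSub.bruhatMap D nr l e epos).left
    let f' := (RedSub.bruhatMap D nr l' e' epos).left
    let P : Over S := Over.mk (Limits.pullback.fst f f' ≫ f ≫ G.hom)
    let p : P ⟶ RedSub.pow (Red.Ga S) k ⊗ (D.T ⊗ RedSub.pow (Red.Ga S) m) :=
      Over.homMk (Limits.pullback.fst f f') (by rw [← Over.w (RedSub.bruhatMap D nr l e epos)]; rfl)
    let p' : P ⟶ RedSub.pow (Red.Ga S) k' ⊗ (D.T ⊗ RedSub.pow (Red.Ga S) m) :=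
      Over.homMk (Limits.pullback.snd f f') (by
        rw [← Over.w (RedSub.bruhatMap D nr l' e' epos)]
        exact (Limits.pullback.condition_assoc G.hom).symm)
    have hp : p ≫ RedSub.bruhatMap D nr l e epos = p' ≫ RedSub.bruhatMap D nr l' e' epos :=
      Over.OverMorphism.ext Limits.pullback.condition
    obtain ⟨K, _, _, a, q, -⟩ := Groth.Agent.BigCell.exists_geomPt P w
    let q₀ : SplitCell.aP a K ⟶ P := Over.homMk q.left (by
      rw [Over.w q]
      show _ = Spec.map _ ≫ a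
      rw [show CommRingCat.ofHom (algebraMap K K) = 𝟙 _ from rfl, Spec.map_id, Category.id_comp]
      rfl)
    have key : (q₀ ≫ p) ≫ RedSub.bruhatMap D nr l e epos = (q₀ ≫ p') ≫ RedSub.bruhatMap D nr l' e' epos := by
      rw [Category.assoc, Category.assoc, hp]
    have key' := (comp_bruhatMap D nr l e epos (q₀ ≫ p)).symm.trans
      (key.trans (comp_bruhatMap D nr l' e' epos (q₀ ≫ p')))
    exact Bruhat.wordPerm_eq hnr a σ
      (Bruhat.rprod_mem (R := σ.neg) e (fun i => (he.2.subset (Set.mem_range_self i)).1) _)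
      (Bruhat.rprod_mem (R := σ.neg) e' (fun i => (he'.2.subset (Set.mem_range_self i)).1) _)
      (Bruhat.rprod_mem epos (fun i => hpos.2.subset (Set.mem_range_self i)) _)
      (Bruhat.rprod_mem epos (fun i => hpos.2.subset (Set.mem_range_self i)) _) _ _ key'

end Groth.Agent.S3955
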