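import Groth.Statements.S3956
import Groth.Agent.BruhatLib.Local

set_option autoImplicit false
set_option backward.isDefEq.respectTransparency false
open CategoryTheory MonoidalCategory CartesianMonoidalCategory MonObj GrpObj AlgebraicGeometry
universe u
open RedSub

namespace Groth.Agent.S3956

/-- Let A be a local ring, S = Spec A, and G a split reductive S-group with a pinning D (splitting plus
simple roots). Then the group G(S) of sections is generated by T(S) together with the sections of
the root groups u_a(G_a(S)) for a a simple root or the negative of a simple root. -/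
theorem result {A : Type u} [CommRing A] [IsLocalRing A]
    {G : Over (Spec (CommRingCat.of A))} [GrpObj G] (D : Red.Pinning G) :
    Subgroup.closure
        ({g : 𝟙_ (Over (Spec (CommRingCat.of A))) ⟶ G | ∃ t : 𝟙_ _ ⟶ D.T, g = t ≫ D.i} ∪
          {g | ∃ a : D.idx, (a ∈ D.base.support ∨ D.P.reflectionPerm a a ∈ D.base.support) ∧
            ∃ x : 𝟙_ _ ⟶ Red.Ga (Spec (CommRingCat.of A)), g = x ≫ D.u a}) = ⊤ := by
  exact Bruhat.eq_top_of_local D.toSplitRed D.base _ (fun t => Subgroup.subset_closure (Or.inl ⟨t, rfl⟩))
    (fun a ha z => Subgroup.subset_closure (Or.inr ⟨a, Or.inl ha, z, rfl⟩))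
    (fun a ha z => Subgroup.subset_closure (Or.inr ⟨D.P.reflectionPerm a a, Or.inr (by
      rw [Bruhat.neg_neg']; exact ha), z, rfl⟩))

end Groth.Agent.S3956
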