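import Groth.Statements.S3957
import Groth.Agent.BruhatLib.Local

set_option autoImplicit false
set_option backward.isDefEq.respectTransparency false
open CategoryTheory MonoidalCategory CartesianMonoidalCategory MonObj GrpObj AlgebraicGeometry
universe u
open RedSub

namespace Groth.Agent.S3957

/-- Let A be a local ring, S = Spec A, and G a split reductive S-group with a pinning D which is simply
connected (the coroots span the coweight lattice). Then G(S) is generated by the sections of the
root groups u_a(G_a(S)) for a a simple root or the negative of a simple root. -/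
theorem result {A : Type u} [CommRing A] [IsLocalRing A]
    {G : Over (Spec (CommRingCat.of A))} [GrpObj G] (D : Red.Pinning G)
    (hsc : Submodule.span ℤ (Set.range D.P.coroot) = ⊤) :
    Subgroup.closure
        {g : 𝟙_ (Over (Spec (CommRingCat.of A))) ⟶ G | ∃ a : D.idx, (a ∈ D.base.support ∨ D.P.reflectionPerm a a ∈ D.base.support) ∧
            ∃ x : 𝟙_ _ ⟶ Red.Ga (Spec (CommRingCat.of A)), g = x ≫ D.u a} = ⊤ := by
  haveI : Nonempty (Spec (CommRingCat.of A) : Scheme.{u}) := ⟨IsLocalRing.closedPoint A⟩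
  have hU : ∀ a ∈ D.base.support, ∀ z : 𝟙_ _ ⟶ Red.Ga _, z ≫ D.u a ∈ Subgroup.closure
      {g : 𝟙_ (Over (Spec (CommRingCat.of A))) ⟶ G | ∃ a : D.idx, (a ∈ D.base.support ∨
        D.P.reflectionPerm a a ∈ D.base.support) ∧ ∃ x, g = x ≫ D.u a} :=
    fun a ha z => Subgroup.subset_closure ⟨a, Or.inl ha, z, rfl⟩
  have hU' : ∀ a ∈ D.base.support, ∀ z : 𝟙_ _ ⟶ Red.Ga _, z ≫ D.u (D.P.reflectionPerm a a) ∈ Subgroup.closure
      {g : 𝟙_ (Over (Spec (CommRingCat.of A))) ⟶ G | ∃ a : D.idx, (a ∈ D.base.support ∨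
        D.P.reflectionPerm a a ∈ D.base.support) ∧ ∃ x, g = x ≫ D.u a} :=
    fun a ha z => Subgroup.subset_closure ⟨_, Or.inr (by rw [Bruhat.neg_neg']; exact ha), z, rfl⟩
  exact Bruhat.eq_top_of_local D.toSplitRed D.base _
    (fun t => Bruhat.torus_mem_of_simplyConnected D.toSplitRed D.base hsc _
      (fun a ha e => Bruhat.coroot_mem a _ (hU a ha) (hU' a ha) e) t) hU hU' 

end Groth.Agent.S3957
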