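import Groth.Statements.S3962
import Groth.Agent.BorelLib.SelfNormRel
import Groth.Agent.BorelLib.NonAffSelfNorm
-- import your own Groth.Agent.* helpers here

set_option autoImplicit false
set_option maxHeartbeats 4000000
set_option synthInstance.maxHeartbeats 400000
set_option backward.isDefEq.respectTransparency false
open CategoryTheory CategoryTheory.Limits MonoidalCategory CartesianMonoidalCategory MonObj GrpObj AlgebraicGeometry
universe u
open RedSub

attribute [-instance] CategoryTheory.Hom.commGroup

namespace Groth.Agent.S3962

open Groth.Agent.BorelLib
attribute [local instance] BorelLib.pTop BorelLib.pTopTensor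

/-- Let G be a reductive S-group and B ⟶ G a Borel subgroup in the following sense: a sub-group-scheme
of type (R) whose geometric fibres are Borel subgroups (closedness is not assumed). Then B is closed
in G and B is its own normaliser: a point of G normalises B (after every base change) if and only if
it lies in B. -/
theorem result {S : Scheme.{u}} {G B : Over S} [GrpObj G] [GrpObj B]
    (hG : Red.IsReductive G) (i : B ⟶ G) (hB : RedSub.IsBorelSub i) :
    IsClosedImmersion i.left ∧ Red.IsNormalizerOf i i := by
  obtain ⟨⟨⟨him, hii⟩, hBs, hBq, -, -⟩, hBg⟩ := hB
  haveI := him; haveI := hii; haveI := hBs; haveI := hBq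
  haveI : Mono i := (Over.forget S).mono_of_mono_map (inferInstanceAs (Mono i.left))
  haveI := hG.1; haveI := hG.2.1
  haveI : QuasiSeparated B.hom := by rw [← Over.w i]; infer_instance
  exact And.symm (isNormalizerOf_self_of_geomFibres (fun s => (hBg s).2.2.2.1) fun s => by
    obtain ⟨ha, hs, hc, -⟩ := hG.2.2 s
    haveI := ha; haveI := hs; haveI := hc
    exact BorelLib.isNormalizerOf_self (hBg s))

end Groth.Agent.S3962
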