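import Groth.Statements.S3965
import Groth.Agent.BorelLib.RedTorus
import Groth.Agent.ToriSchLib.Fibres
-- import your own Groth.Agent.* helpers here

set_option autoImplicit false
set_option maxHeartbeats 4000000
set_option synthInstance.maxHeartbeats 400000
set_option backward.isDefEq.respectTransparency false
open CategoryTheory MonoidalCategory CartesianMonoidalCategory MonObj GrpObj AlgebraicGeometry
universe u
open RedSub

attribute [-instance] CategoryTheory.Hom.commGroup

namespace Groth.Agent.S3965

open Groth.Agent.BorelLib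
attribute [local instance] BorelLib.pTop BorelLib.pTopTensor

/-- Let G be a reductive S-group. The functor S' ↦ {maximal tori of G_{S'}} is representable: there are
an S-scheme M and a maximal torus of G_M such that every maximal torus of every base change G_{S'}
is its pullback along a unique S-morphism S' ⟶ M (same points in G). Moreover M is smooth and affine
over S with integral geometric fibres. -/
theorem result {S : Scheme.{u}} (G : Over S) [GrpObj G] (hG : Red.IsReductive G) :
    ∃ (M : Over S) (H : Over M.left) (_ : GrpObj H) (h : H ⟶ Red.bc M.hom G),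
      RedSub.RepresentsTor G M H h ∧ Smooth M.hom ∧ IsAffineHom M.hom ∧
        ∀ s : S, IsIntegral (Red.geomFibre s M).left := by
  haveI := hG.1
  haveI := hG.2.1
  obtain ⟨R⟩ := ToriSch.exists_rep (TorsTuple.hasMaxTorusFpqc_of_isReductive hG)
  refine ⟨R.M, R.T, R.grp, R.i, ⟨R.max, fun S' f H' _ h' hh' => ?_⟩, R.smooth, R.affine, fun s => ?_⟩
  · haveI := hh'.2.1
    haveI := R.max.2.1
    obtain ⟨v, ⟨hv, hs⟩, hu⟩ := R.univ f H' h' hh'
    exact ⟨v, ⟨hv, (ToriSch.samePoints_iff R.i h' v hv).2 hs⟩,
      fun v' ⟨hv', hp⟩ => hu v' ⟨hv', (ToriSch.samePoints_iff R.i h' v' hv').1 hp⟩⟩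
  · haveI := (hG.2.2 s).2.2.1
    exact R.isIntegral_geomFibre (TorsTuple.hasMaxTorus_of_isReductive hG) s

end Groth.Agent.S3965
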