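import Groth.Statements.S3967
import Groth.Agent.BorelLib.RedTorus
import Groth.Agent.ToriSchLib.Quotient
-- import your own Groth.Agent.* helpers here

set_option autoImplicit false
set_option maxHeartbeats 4000000
set_option synthInstance.maxHeartbeats 400000
set_option backward.isDefEq.respectTransparency false
open CategoryTheory MonoidalCategory CartesianMonoidalCategory MonObj GrpObj AlgebraicGeometry
universe u
open RedSub

attribute [-instance] CategoryTheory.Hom.commGroup

namespace Groth.Agent.S3967

open Groth.Agent.BorelLib
attribute [local instance] BorelLib.pTop BorelLib.pTopTensor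

/-- Let G be a reductive S-group, (M, h) the scheme of maximal tori of G with its universal maximal
torus, T a maximal torus of G and N ⟶ G its normaliser. Then the S-morphism q : G ⟶ M classifying
the family of conjugates int(g)T presents M as the fppf quotient G/N. -/
theorem result {S : Scheme.{u}} {G T N : Over S} [GrpObj G] [GrpObj T] [GrpObj N]
    (hG : Red.IsReductive G) (M : Over S) (H : Over M.left) [GrpObj H] (h : H ⟶ Red.bc M.hom G)
    (hM : RedSub.RepresentsTor G M H h) (i : T ⟶ G) (hT : Red.IsMaximalTorus i) (n : N ⟶ G)
    (hN : Red.IsNormalizerOf i n) :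
    ∃ q : G ⟶ M, RedSub.SamePoints G G.hom (RedSub.conjFamily i) M h q.left ∧ RedSub.IsQuotient n q := by
  haveI := hG.1
  haveI := hG.2.1
  exact ToriSch.exists_quotient M H h hM i hT n hN

end Groth.Agent.S3967
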