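import Groth.Statements.S3975
import Groth.Agent.ParabIncLib.Main

set_option autoImplicit false
set_option backward.isDefEq.respectTransparency false
set_option backward.isDefEq.respectTransparency.types false
set_option maxHeartbeats 1000000
set_option synthInstance.maxHeartbeats 400000
open CategoryTheory MonoidalCategory CartesianMonoidalCategory MonObj GrpObj AlgebraicGeometry
universe u
open RedSub

attribute [-instance] CategoryTheory.Hom.commGroup
namespace Groth.Agent.S3975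

theorem le_of_conj {S : Scheme.{u}} {G P P' B : Over S} [GrpObj G] [GrpObj P] [GrpObj P'] [GrpObj B]
    (hG : Red.IsReductive G) (p : P ⟶ G) (p' : P' ⟶ G) (hP : Red.IsParabolic p) (b : B ⟶ G) (hB : Red.IsBorel b)
    (c : B ⟶ P) (hc : c ≫ p = b) (c' : B ⟶ P') (hc' : c' ≫ p' = b) {U : Scheme.{u}} (f : U ⟶ S) [Etale f]
    (g : 𝟙_ (Over U) ⟶ Red.bc f G)
    (hg : RedSub.ConjEq ((Over.pullback f).map p) ((Over.pullback f).map p') g) :
    (∃ a : Red.bc f P ⟶ Red.bc f P', a ≫ (Over.pullback f).map p' = (Over.pullback f).map p) ∧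
      ∃ a : Red.bc f P' ⟶ Red.bc f P, a ≫ (Over.pullback f).map p = (Over.pullback f).map p' := by
  haveI := hP.1; haveI := hP.2.1
  haveI : Mono p := DiagRep.mono_of_isClosedImmersion p inferInstance
  haveI := hB.1
  haveI : IsMonHom (c ≫ p) := by rw [hc]; infer_instance
  haveI : IsMonHom c := DiagRep.isMonHom_of_comp_mono c p
  haveI := DiagRep.isMonHom_bc_map f p
  have hBP : Red.IsParabolic (c ≫ p) := by
    rw [hc]
    exact ⟨hB.1, hB.2.1, hB.2.2.1, fun s => ⟨(hB.2.2.2 s).1, (hB.2.2.2 s).2.1, (hB.2.2.2 s).2.2.1, Red.geomFibre s B,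
      inferInstance, 𝟙 _, by rw [Category.id_comp]; exact hB.2.2.2 s⟩⟩
  let V : Over S := Over.mk f
  haveI : Etale V.hom := ‹Etale f›
  let ρ : V ⟶ (Over.map f).obj (𝟙_ (Over U)) := Over.homMk (𝟙 U) (by
    show 𝟙 U ≫ 𝟙 U ≫ f = f
    rw [Category.id_comp, Category.id_comp])
  let g' : V ⟶ G := ρ ≫ (PowEtCentralLib.adjEquiv f (𝟙_ (Over U))).symm g
  have hg' : ParabInc.ptOf f g' = g := by
    show PowEtCentralLib.adjEquiv f _ (ParabInc.unitOf f ≫ ρ ≫ _) = g
    rw [← Category.assoc, show ParabInc.unitOf f ≫ ρ = 𝟙 _ from Over.OverMorphism.ext (Category.id_comp (𝟙 U)),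
      Category.id_comp, MulEquiv.apply_symm_apply]
  let X' : Over U := Over.mk (fst V B).left
  let ε : (Over.map f).obj X' ≅ V ⊗ B := Over.isoMk (Iso.refl _) (by
    show 𝟙 _ ≫ _ = (fst V B).left ≫ f
    rw [Category.id_comp]
    exact (Over.w (fst V B)).symm)
  obtain ⟨h, hh⟩ := (hg X' (toUnit X')).2 (PowEtCentralLib.adjEquiv f X' (ε.hom ≫ snd V B ≫ c'))
  obtain ⟨w, hw⟩ := ParabInc.mem_of_conj_sub hG p hP c hBP g' (ε.inv ≫ (PowEtCentralLib.adjEquiv f X').symm h) (by
    rw [← cancel_epi ε.hom]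
    rw [show ε.hom ≫ (ε.inv ≫ (PowEtCentralLib.adjEquiv f X').symm h) ≫ p = (PowEtCentralLib.adjEquiv f X').symm h ≫ p by
      rw [Category.assoc, Iso.hom_inv_id_assoc]]
    apply (PowEtCentralLib.adjEquiv f X').injective
    rw [ParabInc.adjEquiv_comp, MulEquiv.apply_symm_apply, ← hh, ← hg', ParabInc.toUnit_ptOf, ← ParabInc.adjEquiv_comp,
      Category.assoc ε.hom, Category.assoc (snd V B), hc', hc, MonObj.comp_mul, MonObj.comp_mul, GrpObj.comp_inv, map_mul,
      map_mul, map_inv, ← Category.assoc ε.hom (fst V B) g',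
      show ε.hom ≫ fst V B = (Over.homMk X'.hom rfl : (Over.map f).obj X' ⟶ V) from
        Over.OverMorphism.ext (Category.id_comp _)])
  let w₁ : 𝟙_ (Over U) ⟶ Red.bc f P := ParabInc.ptOf f w
  have hw₁ : w₁ ≫ (Over.pullback f).map p = g := by
    show PowEtCentralLib.adjEquiv f _ _ ≫ _ = g
    rw [← ParabInc.adjEquiv_comp, Category.assoc, hw]
    exact hg'
  constructor
  · obtain ⟨a, ha⟩ := (hg (Red.bc f P) (toUnit _)).1 ((toUnit _ ≫ w₁)⁻¹ * 𝟙 _ * (toUnit _ ≫ w₁))
    refine ⟨a, ?_⟩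
    rw [← ha, MonObj.mul_comp, MonObj.mul_comp, GrpObj.inv_comp, Category.assoc, hw₁, Category.id_comp]
    group
  · obtain ⟨a, ha⟩ := (hg (Red.bc f P') (toUnit _)).2 (𝟙 _)
    rw [Category.id_comp] at ha
    refine ⟨(toUnit _ ≫ w₁) * a * (toUnit _ ≫ w₁)⁻¹, ?_⟩
    rw [MonObj.mul_comp, MonObj.mul_comp, GrpObj.inv_comp, Category.assoc, hw₁, ← ha]
    group



/-- Let G be a reductive S-group, P and P' two parabolic subgroups of G and B a Borel subgroup of G
contained in both. If P and P' are conjugate in G locally for the etale topology, then P = P' as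
subgroups of G. -/
theorem result {S : Scheme.{u}} {G P P' B : Over S} [GrpObj G]
    [GrpObj P] [GrpObj P'] [GrpObj B] (hG : Red.IsReductive G) (p : P ⟶ G) (p' : P' ⟶ G) (hP : Red.IsParabolic p)
    (hP' : Red.IsParabolic p') (b : B ⟶ G) (hB : Red.IsBorel b) (hb : ∃ c : B ⟶ P, c ≫ p = b)
    (hb' : ∃ c' : B ⟶ P', c' ≫ p' = b)
    (hconj : ∀ s : S, ∃ (U : Scheme.{u}) (f : U ⟶ S) (_ : Etale f), s ∈ Set.range f.base ∧
      ∃ g : 𝟙_ _ ⟶ Red.bc f G, RedSub.ConjEq ((Over.pullback f).map p) ((Over.pullback f).map p') g) :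
    ∃ e : P ≅ P', e.hom ≫ p' = p := by
  obtain ⟨c, hc⟩ := hb
  obtain ⟨c', hc'⟩ := hb'
  choose U f hf hs g hg using hconj
  haveI := hP.2.1; haveI := hP'.2.1
  haveI : Mono p := DiagRep.mono_of_isClosedImmersion p inferInstance
  haveI : Mono p' := DiagRep.mono_of_isClosedImmersion p' inferInstance
  have key := fun s => haveI := hf s; le_of_conj hG p p' hP b hB c hc c' hc' (f s) (g s) (hg s)
  have h₁ : MultEq.LE p p' (𝟙 S) := MultEq.le_of_family f (fun s => haveI := hf s; inferInstance)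
    (fun s => ⟨s, hs s⟩) fun s => by
      obtain ⟨a, ha⟩ := (key s).1
      rw [Category.comp_id]
      exact RedRank.le_of_bc_factor p p' (f s) a ha
  have h₂ : MultEq.LE p' p (𝟙 S) := MultEq.le_of_family f (fun s => haveI := hf s; inferInstance)
    (fun s => ⟨s, hs s⟩) fun s => by
      obtain ⟨a, ha⟩ := (key s).2
      rw [Category.comp_id]
      exact RedRank.le_of_bc_factor p' p (f s) a ha
  obtain ⟨a, ha⟩ := h₁ P P.hom (Category.comp_id _) (𝟙 P)
  obtain ⟨a', ha'⟩ := h₂ P' P'.hom (Category.comp_id _) (𝟙 P')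
  rw [Category.id_comp] at ha ha'
  exact ⟨⟨a, a', by rw [← cancel_mono p, Category.assoc, ha', ha, Category.id_comp],
    by rw [← cancel_mono p', Category.assoc, ha, ha', Category.id_comp]⟩, ha⟩

end Groth.Agent.S3975
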