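import Groth.Statements.S3988
import Groth.Agent.RedSymLib.BaseChange
import Groth.Agent.RedSymLib.ParabComb
import Groth.Agent.RedSymLib.BorelRoots
import Groth.Agent.BorelLib.ImageField

set_option autoImplicit false
set_option linter.style.haveILetI false
set_option linter.unusedSectionVars false
set_option backward.isDefEq.respectTransparency false
set_option maxHeartbeats 1000000
set_option synthInstance.maxHeartbeats 400000
open CategoryTheory MonoidalCategory CartesianMonoidalCategory MonObj GrpObj AlgebraicGeometry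
universe u
open RedSub

attribute [-instance] CategoryTheory.Hom.commGroup

namespace Groth.Agent.S3988

open CategoryTheory.Limits SplitCell SplitFib RootSubgrp GaPts Groth.Agent.BorelLib
open CoactBr (sp)

attribute [local instance] pTop pTopTensor

variable {S : Scheme.{u}} {G B : Over S} [GrpObj G] [GrpObj B] (D : Red.SplitRed G) (i : B ⟶ G)

/-- **The roots of a geometric fibre of a Borel subgroup containing the split torus are one side.** -/
theorem exists_sides_fibre (hB : Red.IsBorel i) (t : D.T ⟶ B) (ht : t ≫ i = D.i) (s : S) :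
    ∃ σ : Sides D.P, rootsAt D i (Red.geomPt s) = σ.pos := by
  classical
  haveI : Nonempty ↥S := ⟨s⟩
  haveI := SplitFib.isReduced_root D
  haveI := hB.1; haveI := hB.2.1; haveI := hB.2.2.1
  obtain ⟨ha, hsm, A, iA, iA', v, hv, hA, hA', hc, hred, hT⟩ := exists_fibre D s
  haveI := ha; haveI := hsm; haveI := hv; haveI := hA; haveI := hA'
  let ξ := Red.geomPt s
  haveI := Groth.Agent.DiagRep.isMonHom_bc_map ξ i
  haveI := BorelLib.isClosedImmersion_bc ξ i
  haveI : QuasiCompact (Red.bc ξ G).hom := inferInstance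
  have hBor := isBor_ptsSub (iB := (Over.pullback ξ).map i) v (hB.2.2.2 s)
  set H' := ptsSub v ((Over.pullback ξ).map i) with hH'
  have hmem := fun x => mem_ptsSub_bc ξ v i x
  have hroots : rootsIn D ξ v H' = rootsAt D i ξ := Set.ext fun k => forall_congr' fun r => hmem _
  have hTH : Tsub D ξ v ≤ H' := by
    rintro _ ⟨τ, rfl⟩
    exact (hmem _).2 ⟨τ ≫ t, by rw [Category.assoc, ht]; rfl⟩
  obtain ⟨σ, hσ⟩ := exists_sides_of_sol D ξ v hBor.closed hTH hBor.conn hT hc hred hBor.sol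
  refine ⟨σ, ?_⟩
  rw [← hroots]
  refine subset_antisymm hσ ?_
  obtain ⟨n, m, eneg, epos, hneg, hpos⟩ := exists_enum D σ
  obtain ⟨Bp, hBp, hBiff⟩ := isBor_bplus (D := D) ξ v σ hc hred hT hpos
  have hTB : Tsub D ξ v ≤ Bp := fun x ⟨τ, hτ⟩ => (hBiff x).2 ⟨τ, 0, by
    rw [uPe_zero, _root_.mul_one]; exact hτ.symm⟩
  have hpBp : σ.pos ⊆ rootsIn D ξ v Bp := fun k hk r => by
    obtain ⟨j, rfl⟩ := hpos.2.symm.subset hk
    exact (hBiff _).2 ⟨1, Pi.single j r, by rw [map_one, _root_.one_mul, uPe_single]⟩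
  have hle := le_of_rootsIn D ξ v hBor.closed hTH hBor.conn hTB (hσ.trans hpBp)
  have he : Bp = H' := hBor.maximal Bp hBp.le hBp.closed hBp.conn hBp.sol hle
  rwa [he] at hpBp

/-- The roots at a point in terms of all points of the additive group. -/
theorem mem_rootsAt' {K : Type u} [Field K] [IsAlgClosed K] (ξ : Spec (CommRingCat.of K) ⟶ S) (k : D.idx) :
    k ∈ rootsAt D i ξ ↔ ∀ x : aP ξ K ⟶ Red.Ga S, ∃ w : aP ξ K ⟶ B, w ≫ i = x ≫ D.u k := by
  refine ⟨fun h x => ?_, fun h r => h (ptOf (cst ξ K r))⟩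
  obtain ⟨r, hr⟩ := Bruhat.ga_cases ξ x
  rw [hr]
  exact h r

variable {V : Scheme.{u}} (j : V ⟶ S)

/-- The roots of a base change. -/
theorem rootsAt_bc {K : Type u} [Field K] [IsAlgClosed K] (ξ : Spec (CommRingCat.of K) ⟶ V) (k : D.idx) :
    k ∈ rootsAt (RedSym.bcSplit j D) ((Over.pullback j).map i) ξ ↔ k ∈ rootsAt D i (ξ ≫ j) := by
  rw [mem_rootsAt', mem_rootsAt']
  let e : (Over.map j).obj (aP ξ K) ≅ aP (ξ ≫ j) K := Over.isoMk (Iso.refl _) (by
    show 𝟙 _ ≫ _ ≫ (ξ ≫ j) = ((_ ≫ ξ) ≫ j); simp)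
  have key : ∀ (x : aP ξ K ⟶ Red.Ga V) (w : aP ξ K ⟶ Red.bc j B),
      w ≫ (Over.pullback j).map i = x ≫ Bruhat.bcU j D k ↔
        ((Over.mapPullbackAdj j).homEquiv _ B).symm w ≫ i = Bruhat.pushGa j x ≫ D.u k := fun x w => by
    rw [← Bruhat.symm_comp_bcU j D k x, ← Adjunction.homEquiv_naturality_right_symm]
    exact (Equiv.apply_eq_iff_eq _).symm
  constructor
  · intro h z
    obtain ⟨w, hw⟩ := h (ptOf (S := V) (T := aP ξ K) (Red.gaFn (S := S) (X := (Over.map j).obj (aP ξ K)) (e.hom ≫ z)))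
    refine ⟨e.inv ≫ ((Over.mapPullbackAdj j).homEquiv _ B).symm w, ?_⟩
    rw [Category.assoc, (key _ w).1 hw, ← Category.assoc]
    congr 1
    rw [Iso.inv_comp_eq]
    refine gaFn_injective ?_
    show Red.gaFn _ = Red.gaFn _
    rw [Bruhat.gaFn_pushGa, gaFn_ptOf]
  · intro h x
    obtain ⟨w, hw⟩ := h (e.inv ≫ Bruhat.pushGa j x)
    refine ⟨(Over.mapPullbackAdj j).homEquiv _ B (e.hom ≫ w), (key x _).2 ?_⟩
    rw [Equiv.symm_apply_apply, Category.assoc, hw, Category.assoc, Iso.hom_inv_id_assoc]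

/-- Let G be a split reductive S-group (splitting D) and B a Borel subgroup of G containing the torus T
of the splitting. Then locally on S, B is the Borel subgroup of a system of positive roots: every
point of S has an open neighbourhood V and a system of simple roots b such that, over V, the root
homomorphism u_a factors through B exactly when a is positive for b. -/
theorem result {S : Scheme.{u}} {G B : Over S} [GrpObj G] [GrpObj B]
    (D : Red.SplitRed G) (i : B ⟶ G) (hB : Red.IsBorel i) (t : D.T ⟶ B) (ht : t ≫ i = D.i) (s : S) :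
    ∃ (V : S.Opens), s ∈ V ∧ ∃ b : D.P.Base, ∀ a : D.idx,
      (∃ v : Red.bc V.ι (Red.Ga S) ⟶ Red.bc V.ι B, v ≫ (Over.pullback V.ι).map i = (Over.pullback V.ι).map (D.u a)) ↔
        a ∈ RedSub.posRoots D.P b := by
  classical
  haveI : Nonempty ↥S := ⟨s⟩
  haveI := SplitFib.isReduced_root D
  haveI := hB.1; haveI := hB.2.1; haveI := hB.2.2.1
  haveI := D.reductive.1; haveI := D.reductive.2.1
  haveI : Mono i := DiagRep.mono_of_isClosedImmersion i inferInstance
  have hconn : ∀ x : S, ConnectedSpace ↥(Red.geomFibre x B).left := fun x => (hB.2.2.2 x).2.2.2.1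
  obtain ⟨σ₀⟩ := exists_sides D.P
  obtain ⟨n, m, eneg, epos, hneg, hpos, gn, gp⟩ := exists_good_sides D σ₀ (R := Set.univ)
  rw [Set.univ_inter] at hneg hpos
  have hlc := isLocallyConstant_Rs D i eneg epos σ₀ hneg hpos t ht hconn gn gp
  have hRs : ∀ (K : Type u) [Field K] [IsAlgClosed K] (ξ : Spec (CommRingCat.of K) ⟶ S),
      rootsAt D i ξ = Rs D i eneg epos (ξ (⊥ : PrimeSpectrum K)) :=
    fun K _ _ ξ => Set.ext fun k => (mem_Rs_iff D i eneg epos ξ σ₀ hneg hpos t ht hconn gn gp k).symm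
  obtain ⟨σ, hσ⟩ := exists_sides_fibre D i hB t ht s
  rw [hRs, show (Red.geomPt s) (⊥ : PrimeSpectrum _) = s from
    (Scheme.Hom.comp_apply _ _ _).trans (Scheme.fromSpecResidueField_apply _ _)] at hσ
  let V : S.Opens := ⟨{x | Rs D i eneg epos x = σ.pos}, hlc.isOpen_fiber σ.pos⟩
  have hsV : s ∈ V := hσ
  obtain ⟨b, hb⟩ := exists_base_of_sides D σ
  have hb' : σ.pos = RedSub.posRoots D.P b := subset_antisymm hb fun a ha => by
    refine (σ.total a).resolve_right fun hn => ?_
    have hna : D.P.reflectionPerm a a ∈ σ.pos := by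
      refine (σ.total _).resolve_right fun h => ?_
      obtain ⟨f, -, hfn⟩ := σ.regular
      have h1 := hfn a hn
      have h2 := hfn _ h
      rw [RootSubgrp.root_neg a, map_neg] at h2
      omega
    have h1 : 0 < b.height a := (RedSym.isPos_iff_mem D b a).2 ha
    have h2 : 0 < b.height (D.P.reflectionPerm a a) := (RedSym.isPos_iff_mem D b _).2 (hb hna)
    have h3 : b.height (D.P.reflectionPerm a a) = -b.height a := b.height_reflectionPerm_self a
    omega
  refine ⟨V, hsV, b, fun a => ?_⟩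
  rw [← hb']
  let D' := RedSym.bcSplit V.ι D
  haveI : Nonempty ↥(V : Scheme.{u}) := ⟨⟨s, hsV⟩⟩
  haveI := SplitFib.isReduced_root D'
  haveI := DiagRep.isMonHom_bc_map V.ι i
  haveI : Mono ((Over.pullback V.ι).map i) := BorelLib.mono_bc V.ι i
  haveI : Smooth (Red.bc V.ι B).hom := MorphismProperty.pullback_snd (P := @Smooth) _ _ inferInstance
  have ht' : (Over.pullback V.ι).map t ≫ (Over.pullback V.ι).map i = D'.i := by
    rw [← Functor.map_comp, ht]; rfl
  have hK : BigCell.Conn B := ⟨inferInstance, hconn⟩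
  have hconn' : ∀ x : ↥(V : Scheme.{u}), ConnectedSpace ↥(Red.geomFibre x (Red.bc V.ι B)).left := fun x => by
    obtain ⟨e, -⟩ := RedCharZeroLib.exists_bc_comp (Red.geomPt x) V.ι B
    haveI := hK.irreducible (Red.geomPt x ≫ V.ι)
    let h := Scheme.homeoOfIso ((Over.forget _).mapIso e)
    haveI : ConnectedSpace ↥(Red.bc (Red.geomPt x ≫ V.ι) B).left := inferInstance
    exact @Function.Surjective.connectedSpace _ _ _ ‹ConnectedSpace ↥(Red.bc (Red.geomPt x ≫ V.ι) B).left› _ _ h.surjective h.continuous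
  have hR : ∀ (K : Type u) [Field K] [IsAlgClosed K] (ξ : Spec (CommRingCat.of K) ⟶ (V : Scheme.{u})),
      rootsAt D' ((Over.pullback V.ι).map i) ξ = σ.pos := fun K _ _ ξ => Set.ext fun k => by
    rw [rootsAt_bc D i V.ι ξ k, hRs]
    have hx : (ξ ≫ V.ι) (⊥ : PrimeSpectrum K) ∈ V := by
      rw [Scheme.Hom.comp_apply]
      exact (ξ (⊥ : PrimeSpectrum K)).2
    rw [show Rs D i eneg epos _ = σ.pos from hx]
  obtain ⟨n', m', eneg', epos', hneg', hpos', gn', gp'⟩ := exists_good_sides D' σ (R := Set.univ)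
  rw [Set.univ_inter] at hneg' hpos'
  constructor
  · rintro ⟨v, hv⟩
    rw [← hR _ (Red.geomPt (⟨s, hsV⟩ : ↥(V : Scheme.{u})))]
    intro r
    refine ⟨ptOf (cst _ _ r) ≫ Bruhat.kGa V.ι ≫ v, ?_⟩
    rw [Category.assoc, Category.assoc, hv]
    rfl
  · intro ha
    obtain ⟨N, σN, hσN⟩ := SplitFib.exists_enumerates {i : Fin n' | eneg' i ∈ σ.pos}
    obtain ⟨M, σP, hσP⟩ := SplitFib.exists_enumerates {i : Fin m' | epos' i ∈ σ.pos}
    obtain ⟨w, hw⟩ := exists_factor_u D' ((Over.pullback V.ι).map i) _ ht' hconn' eneg' epos' σ hneg' hpos' gn' gp'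
      hR hσN.1 hσP.1 (fun i => by rw [hσN.2]; rfl) (fun i => by rw [hσP.2]; rfl) (k := a) ha
    refine ⟨inv (Bruhat.kGa V.ι) ≫ w, ?_⟩
    rw [Category.assoc, hw]
    show inv (Bruhat.kGa V.ι) ≫ Bruhat.kGa V.ι ≫ _ = _
    rw [IsIso.inv_hom_id_assoc]


end Groth.Agent.S3988
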