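import Groth.Statements.S3993
import Groth.Agent.NearbySmLib.Main
-- import your own Groth.Agent.* helpers here

set_option autoImplicit false
universe u
open CategoryTheory CategoryTheory.Limits AlgebraicGeometry
open VanCyc

namespace Groth.Agent.S3993

/-- Let R be a strictly henselian discrete valuation ring with fraction field K, Ω a separable closure
of K, f : X -> Spec R a morphism, N an integer invertible in R, F a locally constant abelian sheaf
on X killed by N, and x a point of the special fibre X_s at which f is smooth (x lies in an open U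
of X with U -> Spec R smooth). Then at every geometric point ξ of X_s centred at x the vanishing
cycles of F are zero: the canonical map from (i^* F)_ξ to the stalk of the degree-zero nearby cycles
i^* jbar_* jbar^* F is an isomorphism, and the stalk at ξ of i^* R^q jbar_* (jbar^* F) vanishes for
every q ≥ 1 (i : X_s -> X and jbar : X ×_{Spec R} Spec Ω -> X the two fibre inclusions). -/
theorem result (R K Ω : Type u) [CommRing R] [IsDomain R] [IsDiscreteValuationRing R]
    (hR : EtCoh.IsStrictlyHenselianLocalRing R) [Field K] [Algebra R K] [IsFractionRing R K] [Field Ω] [Algebra K Ω]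
    [IsSepClosure K Ω] [Algebra R Ω] [IsScalarTower R K Ω]
    {X : Scheme.{u}} (f : X ⟶ Spec (CommRingCat.of R))
    (U : X.Opens) (hU : Smooth (U.ι ≫ f)) (x : ↥(VanCyc.spFib R f)) (hx : (VanCyc.icl R f).base x ∈ U)
    {Ω' : Type u} [Field Ω'] [IsSepClosed Ω']
    (ξ : Spec (CommRingCat.of Ω') ⟶ VanCyc.spFib R f) (hξ : ξ.base (IsLocalRing.closedPoint Ω') = x) (N : ℕ) (hN : IsUnit (N : R))
    (F : EtCoh.Ab X) (hF : EtRest.IsLocallyConstant F) (hFN : EtCoh.KilledBy N F) :
    IsIso ((EtCoh.stalk ξ).map (VanCyc.psi0Unit R Ω f F)) ∧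
      ∀ q : ℕ, 1 ≤ q → IsZero ((EtCoh.stalk ξ).obj (VanCyc.psi R Ω f q ((EtCoh.pull (VanCyc.jA R f Ω)).obj F))) := by
  obtain ⟨hH, hsep⟩ := hR
  haveI := hH
  haveI : IsSepClosed (IsLocalRing.ResidueField R) := hsep
  haveI : IsSepClosed Ω := IsSepClosure.sep_closed K
  haveI := hU
  have hclosed : f.base ((VanCyc.icl R f).base x) = ((IsLocalRing.closedPoint R : PrimeSpectrum R) : ↥(Spec (CommRingCat.of R))) := by
    rw [← Scheme.Hom.comp_apply, pullback.condition, Scheme.Hom.comp_apply]
    exact SubmDescLib.closedPoint_map (IsLocalRing.residue R) IsLocalRing.residue_surjective _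
  obtain ⟨h1, h2⟩ := NearbySmLib.stalks_of_smooth_at f U ⟨(VanCyc.icl R f).base x, hx⟩ hclosed hN F hF hFN
    (algebraMap R Ω) (VanCyc.jA R f Ω) (VanCyc.fibStr R f Ω) (IsPullback.of_hasPullback _ _)
    (ξ ≫ VanCyc.icl R f) (by rw [Scheme.Hom.comp_apply, Subsingleton.elim (default : ↥(Spec (CommRingCat.of Ω'))) (IsLocalRing.closedPoint Ω'), hξ]; rfl)
  refine ⟨?_, fun q hq => (h2 q hq).of_iso ((Groth.Agent.EtShLib.stalkPull (VanCyc.icl R f) ξ AddCommGrpCat.{u + 1}).app _).symm⟩
  haveI := h1
  exact (NatIso.isIso_map_iff (Groth.Agent.EtShLib.stalkPull (VanCyc.icl R f) ξ AddCommGrpCat.{u + 1})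
    ((EtCoh.pullPushAdj (VanCyc.jA R f Ω)).unit.app F)).1 inferInstance

end Groth.Agent.S3993
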