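import Groth.Statements.S3995
import Groth.Agent.QuadZeroLib.Ring
import Groth.Agent.QuadZeroLib.Fibre
import Groth.Agent.QuadZeroLib.Stalk
import Groth.Agent.EtRpushStalkLib.Exists
import Groth.Agent.EtRpushStalkLib.Iso
import Groth.Agent.EtShLib.SamePoint
import Groth.Agent.SubmDescLib.Sections

set_option autoImplicit false
universe u
open CategoryTheory CategoryTheory.Limits AlgebraicGeometry
open VanCyc
open Groth.Agent.EtShLib
open scoped TensorProduct

set_option backward.isDefEq.respectTransparency false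
set_option backward.isDefEq.respectTransparency.types false
set_option synthInstance.maxHeartbeats 400000
set_option maxHeartbeats 1600000

namespace Groth.Agent.S3995

/-- Let R be a strictly henselian discrete valuation ring with fraction field K, Ω a separable closure
of K, N invertible in R, f : X -> S = Spec R flat and locally of finite type, and x a closed point
of the special fibre X_s which is an ordinary quadratic point of X_s of dimension 0 (after base
change to an algebraic closure k̄ of the residue field, the completed local ring at each point over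
x is k̄[[x_0]]/(g) with g of order exactly 2), near which the generic fibre is smooth (étale) over
K. Then at every geometric point ξ of X_s centred at x: the stalk of i^* R^q jbar_* jbar^* Z/N
vanishes for q ≥ 1, the stalk of i^* jbar_* jbar^* Z/N is isomorphic to (Z/N)^2 (free of rank two),
and the canonical map from (i^* Z/N)_ξ into it is injective with cokernel isomorphic to Z/N (so the
vanishing cycles in degree 0 have rank one). -/
theorem result (R K Ω : Type u) [CommRing R] [IsDomain R] [IsDiscreteValuationRing R]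
    (hR : EtCoh.IsStrictlyHenselianLocalRing R) [Field K] [Algebra R K] [IsFractionRing R K] [Field Ω] [Algebra K Ω]
    [IsSepClosure K Ω] [Algebra R Ω] [IsScalarTower R K Ω]
    {X : Scheme.{u}} (f : X ⟶ Spec (CommRingCat.of R)) [LocallyOfFiniteType f] [Flat f]
    (x : ↥(VanCyc.spFib R f)) (hxc : IsClosed ({x} : Set ↥(VanCyc.spFib R f)))
    (hq : VanCyc.IsOrdQuadPt (VanCyc.resHom (VanCyc.spStr R f) x) 0)
    (V : X.Opens) (hxV : (VanCyc.icl R f).base x ∈ V) (hV : Smooth (pullback.snd (V.ι ≫ f) (VanCyc.toS R K)))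
    {Ω' : Type u} [Field Ω'] [IsSepClosed Ω']
    (ξ : Spec (CommRingCat.of Ω') ⟶ VanCyc.spFib R f) (hξ : ξ.base (IsLocalRing.closedPoint Ω') = x) (N : ℕ) (hN : IsUnit (N : R)) :
    (∀ q : ℕ, 1 ≤ q →
        IsZero ((EtCoh.stalk ξ).obj (VanCyc.psi R Ω f q ((EtCoh.pull (VanCyc.jA R f Ω)).obj (EtCoh.const X (ZMod N)))))) ∧
      Nonempty ((EtCoh.stalk ξ).obj (VanCyc.psi0 R Ω f ((EtCoh.pull (VanCyc.jA R f Ω)).obj (EtCoh.const X (ZMod N)))) ≅
        AddCommGrpCat.of (ULift.{u + 1} (ZMod N × ZMod N))) ∧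
      Mono ((EtCoh.stalk ξ).map (VanCyc.psi0Unit R Ω f (EtCoh.const X (ZMod N)))) ∧
      Nonempty (cokernel ((EtCoh.stalk ξ).map (VanCyc.psi0Unit R Ω f (EtCoh.const X (ZMod N)))) ≅
        AddCommGrpCat.of (ULift.{u + 1} (ZMod N))) := by
  obtain ⟨hh, hsc⟩ := hR
  haveI := hh
  haveI := hsc
  haveI : IsSepClosed Ω := IsSepClosure.sep_closed K
  let x' : X := (icl R f).base x
  let O := X.presheaf.stalk x'
  letI : Algebra R O := (QuadZeroLib.strHom f x').toAlgebra
  obtain ⟨hfin, hfree, h2⟩ := QuadZeroLib.finite_free_rank_two f x hq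
  haveI := hfin
  haveI := hfree
  haveI := QuadZeroLib.formallySmooth_generic f K x' V hxV hV
  obtain ⟨hOh, hOl⟩ := QfHensFiniteLib.henselianLocalRing_of_finite (A := R) O
  haveI := hOh
  haveI := hOl
  haveI : IsSepClosed (IsLocalRing.ResidueField O) :=
    (QfHensFiniteLib.purelyInseparable_of_finite (IsLocalRing.ResidueField R) (IsLocalRing.ResidueField O)).2
  haveI := QfHensFiniteLib.isStrictHenselization_self O
  haveI : IsLocalHom (algebraMap (X.presheaf.stalk x') O) := ⟨fun _ h => h⟩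
  let g := Hens2.specOf X x' O
  have hg : g ≫ f = Spec.map (CommRingCat.ofHom (algebraMap R O)) := by
    refine Eq.trans ?_ (QuadZeroLib.specMap_strHom f x').symm
    refine congrArg (· ≫ f) ?_
    show Spec.map (CommRingCat.ofHom (RingHom.id O)) ≫ X.fromSpecStalk x' = _
    rw [CommRingCat.ofHom_id, Spec.map_id, Category.id_comp]
  obtain ⟨C⟩ := EtRpushStalkLib.exists_chart x' O
  let B := Spec (CommRingCat.of (O ⊗[R] Ω))
  let π : B ⟶ Spec (CommRingCat.of O) := Spec.map (CommRingCat.ofHom (algebraMap O (O ⊗[R] Ω)))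
  let πΩ : B ⟶ Spec (CommRingCat.of Ω) := Spec.map (CommRingCat.ofHom Algebra.TensorProduct.includeRight.toRingHom)
  have sqb : IsPullback π πΩ (g ≫ f) (toS R Ω) :=
    hg ▸ isPullback_SpecMap_of_isPushout _ _ _ _ (CommRingCat.isPushout_tensorProduct R O Ω)
  haveI : IsFinite (g ≫ f) := by
    rw [hg, IsFinite.SpecMap_iff]
    exact RingHom.finite_algebraMap.2 hfin
  haveI : IsFinite πΩ := MorphismProperty.of_isPullback sqb inferInstance
  let h := jA R f Ω
  haveI : IsAffineHom h := MorphismProperty.pullback_fst _ _ inferInstance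
  have ct : IsPullback h (fibStr R f Ω) f (toS R Ω) := IsPullback.of_hasPullback _ _
  let b := ct.lift (π ≫ g) πΩ ((Category.assoc _ _ _).trans sqb.w)
  have sq : IsPullback b π h g :=
    IsPullback.of_right (((ct.lift_snd (π ≫ g) πΩ ((Category.assoc _ _ _).trans sqb.w)).symm ▸ sqb.flip))
      (ct.lift_fst _ _ _) ct.flip
  obtain ⟨hdisc, hcard⟩ := QuadZeroLib.discrete_card_two R K Ω O h2
  haveI : DiscreteTopology B := hdisc
  haveI : Nonempty B := (Nat.card_pos_iff.1 (show 0 < Nat.card B by rw [show Nat.card B = 2 from hcard]; omega)).1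
  have hg0 : (closedPt O ≫ g).base default = x' := by
    rw [Scheme.Hom.comp_apply, show (closedPt O).base default = IsLocalRing.closedPoint O from
      SubmDescLib.closedPoint_map (IsLocalRing.residue O) IsLocalRing.residue_surjective _]
    show (Spec.map (CommRingCat.ofHom (RingHom.id O)) ≫ X.fromSpecStalk x').base _ = _
    rw [CommRingCat.ofHom_id, Spec.map_id, Category.id_comp]
    exact Scheme.fromSpecStalk_closedPoint
  let ξ' := ξ ≫ icl R f
  have hξ' : ξ'.base default = x' := by
    rw [Scheme.Hom.comp_apply, Subsingleton.elim (default : Spec (CommRingCat.of Ω')) (IsLocalRing.closedPoint Ω'), hξ]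
  obtain ⟨e⟩ := nonempty_stk_iso_of_eq (A := AddCommGrpCat.{u + 1}) (ξ := closedPt O ≫ g) (ξ' := ξ')
    (hξ'.trans hg0.symm)
  let G := (EtCoh.pull h).obj (EtCoh.const X (ZMod N))
  let E : (EtCoh.pull b).obj G ≅ EtCoh.const B (ZMod N) :=
    (EtCoh.pull b).mapIso (EtCore.pullConst h (ZMod N)) ≪≫ EtCore.pullConst b (ZMod N)
  let pI := stalkPull (icl R f) ξ AddCommGrpCat.{u + 1}
  have key : ∀ q, Nonempty ((EtCoh.stalk ξ).obj (psi R Ω f q G) ≅
      AddCommGrpCat.of (EtCoh.H B (EtCoh.const B (ZMod N)) q)) := fun q => by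
    obtain ⟨e'⟩ := EtRpushStalkLib.nonempty_iso h sq C q
    exact ⟨(pI.app _).symm ≪≫ e.symm.app _ ≪≫ e'.app G ≪≫ (CategoryTheory.Abelian.extFunctorObj _ q).mapIso E⟩
  have h0 : Nonempty ((EtCoh.stalk ξ).obj (psi0 R Ω f G) ≅ AddCommGrpCat.of (ULift.{u + 1} (ZMod N × ZMod N))) := by
    obtain ⟨k⟩ := key 0
    obtain ⟨c⟩ := QuadZeroLib.nonempty_H_zero_two (B := B) hcard (ZMod N)
    exact ⟨((EtCoh.stalk ξ).mapIso ((EtCoh.pull (icl R f)).mapIso ((EtCoh.push h).rightDerivedZeroIsoSelf.app G))).symm ≪≫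
      k ≪≫ AddEquiv.toAddCommGrpIso c⟩
  haveI hm : Mono ((stk (A := AddCommGrpCat.{u + 1}) ξ').map ((EtCoh.pullPushAdj h).unit.app (EtCoh.const X (ZMod N)))) :=
    QuadZeroLib.mono_unit_const h (ZMod N) ξ' fun W hW hxW => by
      let y : B := Classical.arbitrary B
      refine ⟨b.base y, ?_⟩
      rw [← Scheme.Hom.comp_apply, sq.w, Scheme.Hom.comp_apply]
      refine ((IsLocalRing.specializes_closedPoint (π.base y)).map g.continuous).mem_open hW ?_
      rwa [← SubmDescLib.closedPoint_map (IsLocalRing.residue O) IsLocalRing.residue_surjective default,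
        ← Scheme.Hom.comp_apply, hg0, ← hξ']
  haveI hmono : Mono ((EtCoh.stalk ξ).map (psi0Unit R Ω f (EtCoh.const X (ZMod N)))) := by
    show Mono ((EtCoh.pull (icl R f) ⋙ EtCoh.stalk ξ).map _)
    rw [← NatIso.naturality_1 pI ((EtCoh.pullPushAdj h).unit.app (EtCoh.const X (ZMod N)))]
    infer_instance
  have hN0 : N ≠ 0 := fun h => by rw [h, Nat.cast_zero] at hN; exact not_isUnit_zero hN
  haveI : NeZero N := ⟨hN0⟩
  refine ⟨fun q hq' => ?_, h0, hmono, ?_⟩
  · obtain ⟨k⟩ := key q
    haveI := QuadZeroLib.subsingleton_H_finite πΩ (EtCoh.const B (ZMod N)) q hq'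
    exact IsZero.of_iso (AddCommGrpCat.isZero_of_subsingleton _) k
  · obtain ⟨eB⟩ := h0
    let u₀ : Fib ξ (EtCoh.top (spFib R f)) := Fib.mk ξ (Category.comp_id _)
    haveI := isCst_cstUnit (X := spFib R f) (AddCommGrpCat.of (ULift.{u + 1} (ZMod N))) Ω' ξ u₀
    let eA := (EtCoh.stalk ξ).mapIso (EtCore.pullConst (icl R f) (ZMod N)) ≪≫
      (asIso (cstUnit (spFib R f) (AddCommGrpCat.of (ULift.{u + 1} (ZMod N))) ≫
        germ ξ (EtCoh.const (spFib R f) (ZMod N)) (EtCoh.top (spFib R f)) u₀)).symm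
    exact QuadZeroLib.nonempty_cokernel _ eA.addCommGroupIsoToAddEquiv eB.addCommGroupIsoToAddEquiv

end Groth.Agent.S3995
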