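import Groth.Statements.S4006
-- import your own Groth.Agent.* helpers here
import Groth.Agent.NearbyCdLib.Basic
import Groth.Agent.S0620
import Groth.Agent.EtPBCProperLib.Compose
import Groth.Agent.EtPBCCdLib.OpenSquare

set_option autoImplicit false
universe u
open CategoryTheory CategoryTheory.Limits AlgebraicGeometry
open VanCyc

namespace Groth.Agent.S4006

attribute [local instance] EtSliceLib.pullExact

/-- Let R be a strictly henselian discrete valuation ring with fraction field K, Ω a separable closure
of K, f : X -> Spec R of finite type, N invertible in R and F an abelian sheaf on X killed by N. If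
the generic fibre X_η = X ×_S Spec K has dimension at most d, then the nearby-cycle sheaves i^* R^q
jbar_* (jbar^* F) on the special fibre vanish for every q > d (the nearby-cycles functor has
cohomological dimension at most dim X_η). -/
theorem result (R K Ω : Type u) [CommRing R] [IsDomain R] [IsDiscreteValuationRing R]
    (hR : EtCoh.IsStrictlyHenselianLocalRing R) [Field K] [Algebra R K] [IsFractionRing R K] [Field Ω] [Algebra K Ω]
    [IsSepClosure K Ω] [Algebra R Ω] [IsScalarTower R K Ω]
    {X : Scheme.{u}} (f : X ⟶ Spec (CommRingCat.of R)) [LocallyOfFiniteType f] [QuasiCompact f]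
    (d : ℕ) (hd : topologicalKrullDim ↥(VanCyc.fib R f K) ≤ d) (N : ℕ) (hN : IsUnit (N : R))
    (F : EtCoh.Ab X) (hF : EtCoh.KilledBy N F) (q : ℕ) (hq : d < q) :
    IsZero (VanCyc.psi R Ω f q ((EtCoh.pull (VanCyc.jA R f Ω)).obj F)) := by
  have hN0 : N ≠ 0 := fun h => by simp [h] at hN
  refine Functor.map_isZero _ ?_
  haveI : IsSepClosed Ω := IsSepClosure.sep_closed K
  haveI : QuasiCompact (VanCyc.jA R f Ω) := inferInstance
  haveI : QuasiSeparated (VanCyc.jA R f Ω) := inferInstance
  refine EtPBCProperLib.isZero_of_geomPt_stalks _ fun y => ?_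
  let O := HenselLib.SH (X.presheaf.stalk y)
  have hS : Hensel.IsStrictHenselization (X.presheaf.stalk y) O := inferInstance
  haveI := hS.henselian
  haveI : IsSepClosed (IsLocalRing.ResidueField O) := hS.isSepClosure.sep_closed
  refine ⟨O, inferInstance, inferInstance, inferInstance, inferInstance, inferInstance, ?_⟩
  obtain ⟨e⟩ := Groth.Agent.S0620.result (VanCyc.jA R f Ω) ((EtCoh.pull (VanCyc.jA R f Ω)).obj F) y O q
  refine e.addCommGroupIsoToAddEquiv.toEquiv.subsingleton_congr.2 ?_
  have hsq : IsPullback (pullback.snd (VanCyc.jA R f Ω) (Hens2.specOf X y O))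
      (pullback.fst (VanCyc.jA R f Ω) (Hens2.specOf X y O) ≫ VanCyc.fibStr R f Ω)
      (Hens2.specOf X y O ≫ f) (VanCyc.toS R Ω) :=
    (IsPullback.of_hasPullback (VanCyc.jA R f Ω) (Hens2.specOf X y O)).flip.paste_vert
      (IsPullback.of_hasPullback f (VanCyc.toS R Ω))
  haveI : IsAffine (pullback (VanCyc.jA R f Ω) (Hens2.specOf X y O)) := IsAffine.of_isIso hsq.isoPullback.hom
  exact NearbyCdLib.cohDimLE_nearby f hd y O _ _ hsq _
    (CdCurveLib.isTorsion_pull_map _ (CdCurveLib.isTorsion_pull_map _
      (EtPBCCdLib.isTorsion_of_killedBy (Nat.pos_of_ne_zero hN0) hF))) q hq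

end Groth.Agent.S4006
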