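import Groth.Statements.S4016
import Groth.Agent.TraitCharZeroLib.Main
import Groth.Agent.TraitCharZeroLib.Special
import Groth.Agent.EtRegAcycLib.Main
import Groth.Agent.EtAcycLib.Comp
import Groth.Agent.EtSmAcycLib.Apps
-- import your own Groth.Agent.* helpers here

set_option autoImplicit false
universe u
open CategoryTheory CategoryTheory.Limits AlgebraicGeometry
attribute [local instance] HasDerivedCategory.standard
open VanCyc

namespace Groth.Agent.S4016
open CategoryTheory.Limits


/-- Let S' -> S be a surjective morphism of strictly henselian traits: R -> R' an injective local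
homomorphism of strictly henselian discrete valuation rings, with fraction fields K -> K' and
separable closures Ω -> Ω' chosen compatibly; let f : X -> S, X' = X ×_S S' with projections f' : X'
-> S' and X' -> X, N invertible in R and F an abelian sheaf on X killed by N. The change-of-trait
map f^* RΨ(F) -> RΨ'(f^* F) is, up to the identification of the special fibres, the pull-back to
X'_{s'} of the base-change morphism (X' -> X)^* R jbar_* (jbar^* F) -> R jbar'_* ((X'_ηbar' ->
X_ηbar)^* jbar^* F) for the commutative square formed by the geometric generic fibres; taken on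
unbounded derived categories of abelian sheaves (the adjunction datum adj between pull-back and
derived direct image along X' -> X is quantified over). Suppose S and S' have equal characteristic
zero (the residue field of R has characteristic 0). Then this morphism is an isomorphism in
D(X'_{s'}). -/
theorem result (R K Ω : Type u) [CommRing R] [IsDomain R] [IsDiscreteValuationRing R]
    (hR : EtCoh.IsStrictlyHenselianLocalRing R) [Field K] [Algebra R K] [IsFractionRing R K] [Field Ω] [Algebra K Ω]
    [IsSepClosure K Ω] [Algebra R Ω] [IsScalarTower R K Ω]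
    (R' : Type u) [CommRing R'] [IsDomain R'] [IsDiscreteValuationRing R'] (hR' : EtCoh.IsStrictlyHenselianLocalRing R')
    [Algebra R R'] [IsLocalHom (algebraMap R R')] (hinj : Function.Injective (algebraMap R R'))
    [CharZero (IsLocalRing.ResidueField R)]
    (K' Ω' : Type u) [Field K'] [Algebra R' K'] [IsFractionRing R' K'] [Field Ω'] [Algebra K' Ω'] [IsSepClosure K' Ω']
    [Algebra R' Ω'] [IsScalarTower R' K' Ω'] [Algebra Ω Ω'] [Algebra R Ω'] [IsScalarTower R Ω Ω']
    [IsScalarTower R R' Ω']
    {X : Scheme.{u}} (f : X ⟶ Spec (CommRingCat.of R)) (N : ℕ) (hN : IsUnit (N : R))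
    (F : EtCoh.Ab X) (hF : EtCoh.KilledBy N F)
    [PreservesFiniteLimits (EtCoh.pull (VanCyc.geomChange R' Ω Ω' f))]
    [PreservesFiniteLimits (EtCoh.pull (VanCyc.bcπ R' f))]
    [PreservesFiniteLimits (EtCoh.pull (VanCyc.icl R' (VanCyc.bcf R' f)))]
    [DCoh.HasRpushEt (VanCyc.fib R f Ω) (VanCyc.jA R f Ω)]
    [DCoh.HasRpushEt (VanCyc.fib R' (VanCyc.bcf R' f) Ω') (VanCyc.jA R' (VanCyc.bcf R' f) Ω')]
    [DCoh.HasRpushEt (VanCyc.bcX R' f) (VanCyc.bcπ R' f)]
    (adj : EtBC.pullD (VanCyc.bcπ R' f) ⊣ DCoh.RpushEt (VanCyc.bcX R' f) (VanCyc.bcπ R' f)) :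
    IsIso ((EtBC.pullD (VanCyc.icl R' (VanCyc.bcf R' f))).map
      (EtBC.bcMap (VanCyc.jA R f Ω) (VanCyc.bcπ R' f) (VanCyc.jA R' (VanCyc.bcf R' f) Ω') (VanCyc.geomChange R' Ω Ω' f)
        (VanCyc.geomChange_jA R' Ω Ω' f) adj (EtBC.single (VanCyc.fib R f Ω) ((EtCoh.pull (VanCyc.jA R f Ω)).obj F)))) := by
  obtain ⟨hH, hsc⟩ := hR
  obtain ⟨hH', hsc'⟩ := hR'
  haveI := hH
  haveI := hH'
  haveI := hsc
  haveI := hsc'
  haveI : CharZero (IsLocalRing.ResidueField R') :=
    charZero_of_injective_ringHom (IsLocalRing.ResidueField.map (algebraMap R R')).injective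
  haveI := TraitCharZeroLib.isAlgClosed_of_charZero (IsLocalRing.ResidueField R)
  haveI := TraitCharZeroLib.isAlgClosed_of_charZero (IsLocalRing.ResidueField R')
  haveI : CharZero R := (IsLocalRing.residue R).charZero
  haveI : CharZero K := charZero_of_injective_ringHom (IsFractionRing.injective R K)
  obtain ⟨π, hπ⟩ := IsDiscreteValuationRing.exists_irreducible R
  obtain ⟨ϖ, hϖ⟩ := IsDiscreteValuationRing.exists_irreducible R'
  obtain ⟨e, ε, hε⟩ := IsDiscreteValuationRing.eq_unit_mul_pow_irreducible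
    (fun h => hπ.ne_zero (hinj (h.trans (map_zero _).symm)) : algebraMap R R' π ≠ 0) hϖ
  have he : 0 < e := by
    rcases Nat.eq_zero_or_pos e with rfl | h
    · exact absurd ((isUnit_map_iff (algebraMap R R') π).1 (by rw [hε, pow_zero, mul_one]; exact ε.isUnit)) hπ.not_isUnit
    · exact h
  obtain ⟨ζ, hζ⟩ := TraitCharZeroLib.exists_pow_eq ε he
  let ρ : R' := ζ * ϖ
  have hρe : ρ ^ e = algebraMap R R' π := by rw [mul_pow, ← Units.val_pow_eq_pow_val, hζ, hε]
  have hρ : Irreducible ρ := (irreducible_units_mul ζ).2 hϖ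
  let Re := TraitCharZeroLib.Mid R ρ
  haveI : Module.Finite R Re := TraitCharZeroLib.finite_mid he hρe
  obtain ⟨hdvr, hhens, hgen⟩ := TraitCharZeroLib.structure_mid hinj hπ he hρe hρ
  haveI := hdvr
  haveI := hhens
  have hinjR : Function.Injective (algebraMap R Re) := fun a b h => hinj (congrArg Subtype.val h)
  have hintR : Algebra.IsIntegral R Re := inferInstance
  haveI : IsLocalHom (algebraMap R Re) := (algebraMap_isIntegral_iff.2 hintR).isLocalHom hinjR
  haveI := TraitCharZeroLib.isAlgClosed_residueField R (B := Re)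
  haveI : CharZero (IsLocalRing.ResidueField Re) :=
    charZero_of_injective_ringHom (IsLocalRing.ResidueField.map (algebraMap R Re)).injective
  obtain ⟨φ, hφ⟩ := TraitCharZeroLib.exists_toClosure (K := K) (Ω := Ω) (Ω' := Ω') hπ.ne_zero he hρe
  letI : Algebra Re Ω := φ.toRingHom.toAlgebra
  haveI : IsScalarTower R Re Ω := IsScalarTower.of_algebraMap_eq fun r => (φ.commutes r).symm
  haveI : IsScalarTower Re R' Ω' := IsScalarTower.of_algebraMap_eq fun x => rfl
  haveI : IsScalarTower Re Ω Ω' := IsScalarTower.of_algebraMap_eq fun x => (hφ x).symm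
  have hinjE : Function.Injective (algebraMap Re Ω) := fun a b h => Subtype.ext (by
    have h' := (hφ a).symm.trans ((congrArg (algebraMap Ω Ω') h).trans (hφ b))
    rw [IsScalarTower.algebraMap_apply R' K' Ω', IsScalarTower.algebraMap_apply R' K' Ω'] at h'
    exact IsFractionRing.injective R' K' ((algebraMap K' Ω').injective h'))
  letI : Algebra (FractionRing Re) Ω := (IsFractionRing.lift hinjE : FractionRing Re →+* Ω).toAlgebra
  haveI : IsScalarTower Re (FractionRing Re) Ω :=
    IsScalarTower.of_algebraMap_eq fun r => (IsFractionRing.lift_algebraMap hinjE r).symm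
  haveI : FaithfulSMul R Re := (faithfulSMul_iff_algebraMap_injective R Re).2 hinjR
  haveI : Algebra.IsAlgebraic R Ω := (IsFractionRing.comap_isAlgebraic_iff (A := R) (K := K) (C := Ω)).2 inferInstance
  haveI : Algebra.IsAlgebraic Re Ω := Algebra.IsAlgebraic.extendScalars hinjR
  haveI : Algebra.IsAlgebraic (FractionRing Re) Ω :=
    (IsFractionRing.comap_isAlgebraic_iff (A := Re) (K := FractionRing Re) (C := Ω)).1 inferInstance
  haveI : CharZero Re := (IsLocalRing.residue Re).charZero
  haveI : CharZero (FractionRing Re) := charZero_of_injective_ringHom (IsFractionRing.injective Re (FractionRing Re))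
  haveI : IsSepClosed Ω := IsSepClosure.sep_closed K
  haveI : IsSepClosure (FractionRing Re) Ω := ⟨inferInstance, inferInstance⟩
  haveI : Algebra.IsPushout Re Ω R' Ω' :=
    TraitCharZeroLib.isPushout_sepClosure Re (FractionRing Re) Ω R' K' Ω' hgen (show Irreducible ρ from hρ) Subtype.val_injective
  have hx : algebraMap Re R' (TraitCharZeroLib.gen R ρ) ∈ IsLocalRing.maximalIdeal R' := hρ.not_isUnit
  have hx2 : algebraMap Re R' (TraitCharZeroLib.gen R ρ) ∉ IsLocalRing.maximalIdeal R' ^ 2 := by
    show ρ ∉ _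
    rw [hρ.maximalIdeal_eq, Ideal.span_singleton_pow, Ideal.mem_span_singleton]
    rintro ⟨c, hc⟩
    exact hρ.not_isUnit (IsUnit.of_mul_eq_one c (mul_left_cancel₀ hρ.ne_zero (by linear_combination -hc)))
  have hind : Smoothing.IndSmooth Re R' :=
    TransLib.indSmooth_of_isRegularHom (EtRegAcycLib.isRegularHom_of_dvr (TraitCharZeroLib.gen R ρ) hgen hx hx2)
  have hT := TraitCharZeroLib.isPullback_geomChange (Re := Re) (R' := R') (Ω := Ω) (Ω' := Ω') f
  have hN' : IsUnit (N : Γ(Spec (CommRingCat.of Re), ⊤)) := by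
    simpa using (hN.map (algebraMap R Re)).map (Scheme.ΓSpecIso (CommRingCat.of Re)).inv.hom
  haveI : IsAffineHom (TraitCharZeroLib.jMid (Re := Re) (Ω := Ω) f) :=
    MorphismProperty.of_isPullback (TraitCharZeroLib.isPullback_jMid f).flip inferInstance
  haveI : IsFinite (VanCyc.toS R Re) :=
    (IsFinite.SpecMap_iff _).2 (RingHom.finite_algebraMap.2 inferInstance)
  haveI : IsFinite (VanCyc.bcπ Re f) := MorphismProperty.pullback_fst (P := @IsFinite) _ _ inferInstance
  refine TraitCharZeroLib.isIso_pullD_bcMap (TraitCharZeroLib.jMid (Re := Re) (Ω := Ω) f) (VanCyc.bcπ Re f)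
    (VanCyc.jA R f Ω) (TraitCharZeroLib.jMid_fst f) (TraitCharZeroLib.pMid (Re := Re) (R' := R') f) (VanCyc.bcπ R' f)
    (TraitCharZeroLib.pMid_fst f) (VanCyc.jA R' (VanCyc.bcf R' f) Ω') (VanCyc.geomChange R' Ω Ω' f) hT.w
    (VanCyc.geomChange_jA R' Ω Ω' f) (VanCyc.icl R' (VanCyc.bcf R' f)) adj _ (fun M => ?_) (fun k => ?_)
  · exact TraitCharZeroLib.isIso_pull_pull_nu _ _ _ _ _ _
      (fun Ω₀ _ _ ξ u hu => TraitCharZeroLib.eq_of_special f he hρe hρ.not_isUnit ξ u hu) M
  · exact EtRegAcycLib.isIso_bcQ_indSmooth hind (VanCyc.bcf Re f) _ _ (VanCyc.bcf R' f)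
      (TraitCharZeroLib.isPullback_pMid f) _ _ hT _
      (EtAcycLib.isLTorsion_pull_any (VanCyc.jA R f Ω) fun U s x => ⟨U, 𝟙 U, N, ⟨x, rfl⟩,
        EtSmAcycLib.primesIn_invertible (𝟙 (Spec (CommRingCat.of Re))) hN'
          (Nat.pos_of_ne_zero fun h0 => hN.ne_zero (by simp [h0])), hF U _⟩) k


end Groth.Agent.S4016
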