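import Groth.Statements.S4017
import Groth.Agent.TraitCplLib.Main
import Groth.Agent.EtAcycLib.Comp
-- import your own Groth.Agent.* helpers here

set_option autoImplicit false
universe u
open CategoryTheory CategoryTheory.Limits AlgebraicGeometry
attribute [local instance] HasDerivedCategory.standard
open VanCyc

namespace Groth.Agent.S4017
open CategoryTheory.Limits


/-- Let R be an excellent strictly henselian discrete valuation ring and R' its completion at the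
maximal ideal (again a strictly henselian discrete valuation ring; S' = Spec R' -> S = Spec R), with
fraction fields K -> K' and separable closures Ω -> Ω' chosen compatibly; let f : X -> S, X' = X ×_S
S' with projections f' : X' -> S' and X' -> X, N invertible in R and F an abelian sheaf on X killed
by N. The change-of-trait map f^* RΨ(F) -> RΨ'(f^* F) is, up to the identification of the special
fibres, the pull-back to X'_{s'} of the base-change morphism (X' -> X)^* R jbar_* (jbar^* F) -> R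
jbar'_* ((X'_ηbar' -> X_ηbar)^* jbar^* F) for the commutative square formed by the geometric generic
fibres; taken on unbounded derived categories of abelian sheaves (the adjunction datum adj between
pull-back and derived direct image along X' -> X is quantified over). Then this morphism is an
isomorphism in D(X'_{s'}). -/
theorem result (R K Ω : Type u) [CommRing R] [IsDomain R] [IsDiscreteValuationRing R]
    (hR : EtCoh.IsStrictlyHenselianLocalRing R) [Field K] [Algebra R K] [IsFractionRing R K] [Field Ω] [Algebra K Ω]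
    [IsSepClosure K Ω] [Algebra R Ω] [IsScalarTower R K Ω] (hRe : EGA4.IsExcellent R)
    [IsDomain (EGA4.Cpl R)] [IsDiscreteValuationRing (EGA4.Cpl R)]
    (hR' : EtCoh.IsStrictlyHenselianLocalRing (EGA4.Cpl R))
    (K' Ω' : Type u) [Field K'] [Algebra (EGA4.Cpl R) K'] [IsFractionRing (EGA4.Cpl R) K'] [Field Ω'] [Algebra K' Ω'] [IsSepClosure K' Ω']
    [Algebra (EGA4.Cpl R) Ω'] [IsScalarTower (EGA4.Cpl R) K' Ω'] [Algebra Ω Ω'] [Algebra R Ω'] [IsScalarTower R Ω Ω']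
    [IsScalarTower R (EGA4.Cpl R) Ω']
    {X : Scheme.{u}} (f : X ⟶ Spec (CommRingCat.of R)) (N : ℕ) (hN : IsUnit (N : R))
    (F : EtCoh.Ab X) (hF : EtCoh.KilledBy N F)
    [PreservesFiniteLimits (EtCoh.pull (VanCyc.geomChange (EGA4.Cpl R) Ω Ω' f))]
    [PreservesFiniteLimits (EtCoh.pull (VanCyc.bcπ (EGA4.Cpl R) f))]
    [PreservesFiniteLimits (EtCoh.pull (VanCyc.icl (EGA4.Cpl R) (VanCyc.bcf (EGA4.Cpl R) f)))]
    [DCoh.HasRpushEt (VanCyc.fib R f Ω) (VanCyc.jA R f Ω)]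
    [DCoh.HasRpushEt (VanCyc.fib (EGA4.Cpl R) (VanCyc.bcf (EGA4.Cpl R) f) Ω') (VanCyc.jA (EGA4.Cpl R) (VanCyc.bcf (EGA4.Cpl R) f) Ω')]
    [DCoh.HasRpushEt (VanCyc.bcX (EGA4.Cpl R) f) (VanCyc.bcπ (EGA4.Cpl R) f)]
    (adj : EtBC.pullD (VanCyc.bcπ (EGA4.Cpl R) f) ⊣ DCoh.RpushEt (VanCyc.bcX (EGA4.Cpl R) f) (VanCyc.bcπ (EGA4.Cpl R) f)) :
    IsIso ((EtBC.pullD (VanCyc.icl (EGA4.Cpl R) (VanCyc.bcf (EGA4.Cpl R) f))).map
      (EtBC.bcMap (VanCyc.jA R f Ω) (VanCyc.bcπ (EGA4.Cpl R) f) (VanCyc.jA (EGA4.Cpl R) (VanCyc.bcf (EGA4.Cpl R) f) Ω') (VanCyc.geomChange (EGA4.Cpl R) Ω Ω' f)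
        (VanCyc.geomChange_jA (EGA4.Cpl R) Ω Ω' f) adj (EtBC.single (VanCyc.fib R f Ω) ((EtCoh.pull (VanCyc.jA R f Ω)).obj F)))) := by
  obtain ⟨hH, -⟩ := hR
  haveI := hH
  haveI : Algebra.IsPushout R Ω (EGA4.Cpl R) Ω' :=
    TraitCplLib.isPushout_sepClosure R K Ω hRe.2.2.1 K' Ω'
  have hT := TraitCplLib.isPullback_geomChange (R := R) (R' := EGA4.Cpl R) (Ω := Ω) (Ω' := Ω') f
  have hN' : IsUnit (N : Γ(Spec (CommRingCat.of R), ⊤)) := by
    simpa using hN.map (Scheme.ΓSpecIso (CommRingCat.of R)).inv.hom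
  haveI : IsIso (EtBC.bcMap (VanCyc.jA R f Ω) (VanCyc.bcπ (EGA4.Cpl R) f) (VanCyc.jA (EGA4.Cpl R) (VanCyc.bcf (EGA4.Cpl R) f) Ω')
      (VanCyc.geomChange (EGA4.Cpl R) Ω Ω' f) (VanCyc.geomChange_jA (EGA4.Cpl R) Ω Ω' f) adj
      (EtBC.single (VanCyc.fib R f Ω) ((EtCoh.pull (VanCyc.jA R f Ω)).obj F))) := by
    rw [DerivedCategory.isIso_iff]
    intro q
    refine EtBcBridgeLib.isIso_of_bcQ _ _ _ _ _ adj _ q.toNat (fun i _ => ?_) q (Int.self_le_toNat q)
    exact EtRegAcycLib.isIso_bcQ_indSmooth (TraitCplLib.indSmooth_cpl R hRe.2.2.1) f (VanCyc.jA R f Ω)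
      (VanCyc.bcπ (EGA4.Cpl R) f) (VanCyc.bcf (EGA4.Cpl R) f) (IsPullback.of_hasPullback _ _)
      (VanCyc.jA (EGA4.Cpl R) (VanCyc.bcf (EGA4.Cpl R) f) Ω') (VanCyc.geomChange (EGA4.Cpl R) Ω Ω' f) hT _
      (EtAcycLib.isLTorsion_pull_any (VanCyc.jA R f Ω) fun U s x => ⟨U, 𝟙 U, N, ⟨x, rfl⟩,
        EtSmAcycLib.primesIn_invertible (𝟙 (Spec (CommRingCat.of R))) hN'
          (Nat.pos_of_ne_zero fun h0 => hN.ne_zero (by simp [h0])), hF U _⟩) i
  infer_instance


end Groth.Agent.S4017
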