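import Groth.Statements.S4024
import Mathlib


set_option autoImplicit false
set_option backward.isDefEq.respectTransparency false
set_option maxHeartbeats 1000000
universe u
open CategoryTheory CategoryTheory.Limits AlgebraicGeometry
open LefPen

namespace Groth.Agent.S4024

open MvPolynomial Module

section

variable {k : Type u} [Field k] {r d : ℕ}

/-- The directional derivative at `v`. -/
noncomputable def D (v w : Fin (r + 1) → k) : MvPolynomial (Fin (r + 1)) k →ₗ[k] k :=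
  ∑ i, w i • ((aeval v).toLinearMap ∘ₗ (pderiv i).toLinearMap)

theorem D_apply (v w : Fin (r + 1) → k) (p : MvPolynomial (Fin (r + 1)) k) :
    D v w p = ∑ i, w i * aeval v (pderiv i p) := by
  simp [D, LinearMap.sum_apply]

theorem D_mul (v w : Fin (r + 1) → k) (p q : MvPolynomial (Fin (r + 1)) k) :
    D v w (p * q) = aeval v p * D v w q + aeval v q * D v w p := by
  simp only [D_apply, pderiv_mul, map_add, map_mul, Finset.mul_sum, ← Finset.sum_add_distrib]
  exact Finset.sum_congr rfl fun i _ => by ring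

theorem D_pow (v w : Fin (r + 1) → k) (p : MvPolynomial (Fin (r + 1)) k) (n : ℕ) :
    D v w (p ^ (n + 1)) = (n + 1 : k) * aeval v p ^ n * D v w p := by
  induction n with
  | zero => simp
  | succ n ih => rw [pow_succ, D_mul, ih, map_pow]; push_cast; ring

theorem euler (v : Fin (r + 1) → k) (G : LefPen.Form r k d) : D v v G.1 = d * aeval v G.1 := by
  have h := congrArg (aeval v) ((mem_homogeneousSubmodule d G.1).1 G.2).sum_X_mul_pderiv
  simp only [map_sum, map_mul, aeval_X, map_nsmul, nsmul_eq_mul] at h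
  rw [D_apply]
  simpa [map_natCast] using h

/-- A linear form as a polynomial. -/
noncomputable def lin (m : Dual k (Fin (r + 1) → k)) : MvPolynomial (Fin (r + 1)) k :=
  ∑ i, C (m (Pi.single i 1)) * X i

theorem dual_apply (m : Dual k (Fin (r + 1) → k)) (v : Fin (r + 1) → k) :
    m v = ∑ i, m (Pi.single i 1) * v i := by
  conv_lhs => rw [pi_eq_sum_univ' v, map_sum]
  exact Finset.sum_congr rfl fun i _ => by rw [map_smul, smul_eq_mul, mul_comm]

theorem aeval_lin (m : Dual k (Fin (r + 1) → k)) (v : Fin (r + 1) → k) : aeval v (lin m) = m v := by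
  rw [dual_apply m v]; simp [lin]

theorem D_lin (m : Dual k (Fin (r + 1) → k)) (v w : Fin (r + 1) → k) : D v w (lin m) = m w := by
  rw [D_apply, dual_apply m w]
  refine Finset.sum_congr rfl fun i _ => ?_
  simp [lin, map_sum, Pi.single_apply, mul_comm]

theorem lin_hom (m : Dual k (Fin (r + 1) → k)) : (lin m).IsHomogeneous 1 :=
  IsHomogeneous.sum _ _ _ fun i _ => (isHomogeneous_X k i).C_mul _

/-- The form `l₁^(d-1) l₂`. -/
noncomputable def powLin (hd : 1 ≤ d) (l m : Dual k (Fin (r + 1) → k)) : LefPen.Form r k d :=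
  ⟨lin l ^ (d - 1) * lin m, (mem_homogeneousSubmodule d _).2 (by
    have := ((lin_hom l).pow (d - 1)).mul (lin_hom m)
    rwa [one_mul, Nat.sub_add_cancel hd] at this)⟩

theorem aeval_powLin (hd : 1 ≤ d) (l m : Dual k (Fin (r + 1) → k)) (v : Fin (r + 1) → k) :
    aeval v (powLin hd l m).1 = l v ^ (d - 1) * m v := by
  simp [powLin, map_mul, map_pow, aeval_lin]

theorem D_powLin (hd : 2 ≤ d) (l m : Dual k (Fin (r + 1) → k)) (v w : Fin (r + 1) → k) :
    D v w (powLin (one_le_two.trans hd) l m).1 =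
      l v ^ (d - 1) * m w + m v * ((d - 1 : ℕ) * l v ^ (d - 2) * l w) := by
  obtain ⟨e, rfl⟩ := Nat.exists_eq_add_of_le' hd
  show D v w (lin l ^ (e + 1) * lin m) = _
  rw [D_mul, D_pow, map_pow, aeval_lin, aeval_lin, D_lin, D_lin]
  simp only [Nat.add_sub_cancel]
  show _ = l v ^ (e + 2 - 1) * m w + m v * ((e + 2 - 1 : ℕ) * l v ^ e * l w)
  rw [show e + 2 - 1 = e + 1 from rfl]
  push_cast
  ring

/-- The conditions imposed at one point: the value and the differential on `W`, subject to Euler's relation. -/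
noncomputable def rel (d : ℕ) {W : Submodule k (Fin (r + 1) → k)} (v : W) : (k × Dual k W) →ₗ[k] k :=
  (Dual.eval k W v) ∘ₗ LinearMap.snd k k _ - (d : k) • LinearMap.fst k k _

theorem finrank_rel (d : ℕ) {W : Submodule k (Fin (r + 1) → k)} (v : W) (hv : v ≠ 0) :
    finrank k ↥(LinearMap.ker (rel d v)) = finrank k W := by
  have hs : Function.Surjective (rel d v) := by
    intro c
    obtain ⟨f, hf⟩ := Module.Projective.exists_dual_ne_zero k hv
    exact ⟨(0, (c / f v) • f), by simp [rel, hf]⟩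
  have h := (rel d v).finrank_range_add_finrank_ker
  rw [LinearMap.range_eq_top.2 hs, finrank_top, finrank_prod, finrank_self, Subspace.dual_finrank_eq] at h
  omega

/-- The value and differential at `v`. -/
noncomputable def jet (d : ℕ) {W : Submodule k (Fin (r + 1) → k)} (v : W) :
    LefPen.Form r k d →ₗ[k] ↥(LinearMap.ker (rel d v)) :=
  LinearMap.codRestrict _
    (LinearMap.prod ((aeval (v : Fin (r + 1) → k)).toLinearMap ∘ₗ (CohB1.polyGrading r k d).subtype)
      { toFun := fun G =>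
          { toFun := fun w => D (v : Fin (r + 1) → k) w G.1
            map_add' := fun w w' => by simp [D_apply, add_mul, Finset.sum_add_distrib]
            map_smul' := fun c w => by simp [D_apply, Finset.mul_sum, mul_assoc] }
        map_add' := fun G G' => LinearMap.ext fun w => by simp
        map_smul' := fun c G => LinearMap.ext fun w => by simp })
    fun G => by
      simp [rel, euler]

theorem jet_fst {W : Submodule k (Fin (r + 1) → k)} (v : W) (G : LefPen.Form r k d) :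
    (jet d v G).1.1 = aeval (v : Fin (r + 1) → k) G.1 := rfl

theorem jet_snd {W : Submodule k (Fin (r + 1) → k)} (v : W) (G : LefPen.Form r k d) (w : W) :
    (jet d v G).1.2 w = D (v : Fin (r + 1) → k) w G.1 := rfl

theorem jet_eq {W : Submodule k (Fin (r + 1) → k)} (v : W) (G : LefPen.Form r k d)
    (s : ↥(LinearMap.ker (rel d v))) (h1 : aeval (v : Fin (r + 1) → k) G.1 = s.1.1)
    (h2 : ∀ w : W, D (v : Fin (r + 1) → k) w G.1 = s.1.2 w) : jet d v G = s :=
  Subtype.ext (Prod.ext h1 (LinearMap.ext h2))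

theorem tangLin_ker (W : Submodule k (Fin (r + 1) → k)) (v : W) :
    LinearMap.ker (LefPen.tangLin k (d := d) W (v : Fin (r + 1) → k)) = LinearMap.ker (jet d v) := by
  ext G
  simp only [LinearMap.mem_ker, LefPen.tangLin, LinearMap.prod_apply, Function.prod_apply]
  constructor
  · intro h
    refine jet_eq v G 0 (congrArg Prod.fst h) fun w => ?_
    have := congrFun (congrArg Prod.snd h) w
    simpa [D_apply, LinearMap.sum_apply] using this
  · intro h
    refine Prod.ext (congrArg (fun s : ↥(LinearMap.ker (rel d v)) => s.1.1) h) (funext fun w => ?_)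
    have := congrArg (fun s : ↥(LinearMap.ker (rel d v)) => s.1.2 w) h
    simpa [jet_snd, D_apply, LinearMap.sum_apply] using this

/-- Reaching a condition at `v` with nothing at `v'`. -/
theorem exists_form (hd : 2 ≤ d) {W W' : Submodule k (Fin (r + 1) → k)} (v : W) (v' : W')
    (l : Dual k (Fin (r + 1) → k)) (hl : l v = 1) (hl' : l v' = 0) (s : ↥(LinearMap.ker (rel d v)))
    (hs : 3 ≤ d ∨ (v' : Fin (r + 1) → k) ∉ W ∨ ∀ h : (v' : Fin (r + 1) → k) ∈ W, s.1.2 ⟨_, h⟩ = 0) :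
    ∃ G : LefPen.Form r k d, jet d v G = s ∧ jet d v' G = 0 := by
  have hrel : s.1.2 v = (d : k) * s.1.1 := by
    have := LinearMap.mem_ker.1 s.2
    simp only [rel, LinearMap.sub_apply, LinearMap.comp_apply, LinearMap.smul_apply, LinearMap.snd_apply,
      LinearMap.fst_apply, Dual.eval_apply, smul_eq_mul, sub_eq_zero] at this
    exact this
  let μ : Dual k W := s.1.2 - (((d - 1 : ℕ) : k) * s.1.1) • (l ∘ₗ W.subtype)
  have hμv : μ v = s.1.1 := by
    obtain ⟨e, rfl⟩ := Nat.exists_eq_add_of_le' (one_le_two.trans hd)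
    simp only [μ, LinearMap.sub_apply, LinearMap.smul_apply, LinearMap.comp_apply, Submodule.subtype_apply,
      hl, hrel, Nat.add_sub_cancel, smul_eq_mul]
    push_cast; ring
  obtain ⟨m₀, hm₀⟩ := LinearMap.exists_extend μ
  obtain ⟨m, hm, hm'⟩ : ∃ m : Dual k (Fin (r + 1) → k), (∀ w : W, m w = μ w) ∧ (d = 2 → m v' = 0) := by
    by_cases hv' : (v' : Fin (r + 1) → k) ∈ W
    · refine ⟨m₀, fun w => by rw [← hm₀]; rfl, fun h2 => ?_⟩
      rcases hs with h | h | h
      · omega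
      · exact absurd hv' h
      · rw [show m₀ v' = μ ⟨_, hv'⟩ by rw [← hm₀]; rfl]
        simp [μ, hl', h hv']
    · obtain ⟨f, hf, hfW⟩ := Submodule.exists_dual_map_eq_bot_of_notMem hv' inferInstance
      refine ⟨m₀ - (m₀ v' / f v') • f, fun w => ?_, fun _ => by simp [hf]⟩
      have : f w = 0 := by
        have : f w ∈ W.map f := Submodule.mem_map_of_mem w.2
        rwa [hfW, Submodule.mem_bot] at this
      simp [this, ← hm₀]
  refine ⟨powLin (one_le_two.trans hd) l m, jet_eq v _ s ?_ fun w => ?_, jet_eq v' _ 0 ?_ fun w => ?_⟩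
  · rw [aeval_powLin, hl, one_pow, one_mul, hm, hμv]
  · rw [D_powLin hd, hl, one_pow, one_pow, one_mul, mul_one, hm, hm v, hμv]
    simp [μ]; ring
  · rw [aeval_powLin, hl', zero_pow (by omega), zero_mul]; rfl
  · rw [D_powLin hd, hl', zero_pow (by omega), zero_mul, zero_add]
    rcases eq_or_lt_of_le hd with h | h
    · rw [hm' h.symm, zero_mul]; rfl
    · rw [zero_pow (show d - 2 ≠ 0 by omega)]; simp

theorem pderiv_comm {σ : Type*} (a b : σ) (p : MvPolynomial σ k) : pderiv a (pderiv b p) = pderiv b (pderiv a p) := by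
  classical
  induction p using MvPolynomial.induction_on with
  | C c => simp
  | add p q hp hq => simp [hp, hq]
  | mul_X p n hp =>
    simp only [pderiv_mul, map_add, hp, pderiv_X, Pi.single_apply]
    rcases eq_or_ne n a with rfl | ha <;> rcases eq_or_ne n b with rfl | hb <;> simp_all <;> ring

theorem quad_symm {p : MvPolynomial (Fin (r + 1)) k} (hp : p.IsHomogeneous 2) (v w : Fin (r + 1) → k) :
    D v w p = D w v p := by
  have h1 : ∀ i (x : Fin (r + 1) → k), aeval x (pderiv i p) = ∑ j, x j * coeff 0 (pderiv j (pderiv i p)) := by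
    intro i x
    have := congrArg (aeval x) (hp.pderiv (i := i)).sum_X_mul_pderiv
    simp only [map_sum, map_mul, aeval_X, map_nsmul, Nat.add_one_sub_one, one_smul] at this
    rw [← this]
    refine Finset.sum_congr rfl fun j _ => ?_
    have hC := totalDegree_eq_zero_iff_eq_C.1 (Nat.le_zero.1 ((hp.pderiv (i := i)).pderiv (i := j)).totalDegree_le)
    conv_lhs => rw [hC]
    simp
  simp only [D_apply, h1, Finset.mul_sum]
  rw [Finset.sum_comm]
  exact Finset.sum_congr rfl fun i _ => Finset.sum_congr rfl fun j _ => by rw [pderiv_comm]; ring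

theorem count_range_ker {M N₁ N₂ : Type*} [AddCommGroup M] [Module k M] [AddCommGroup N₁] [Module k N₁]
    [AddCommGroup N₂] [Module k N₂] (p : Submodule k M) [Module.Finite k p] (q₁ : Submodule k N₁)
    (q₂ : Submodule k N₂) (f : ↥p →ₗ[k] ↥q₁ × ↥q₂) :
    finrank k ↥(LinearMap.range f) + finrank k ↥(LinearMap.ker f) = finrank k ↥p :=
  f.finrank_range_add_finrank_ker

theorem count_prod {N₁ N₂ : Type*} [AddCommGroup N₁] [Module k N₁] [AddCommGroup N₂] [Module k N₂]
    [Module.Finite k N₁] [Module.Finite k N₂] (q₁ : Submodule k N₁) (q₂ : Submodule k N₂) :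
    finrank k (↥q₁ × ↥q₂) = finrank k ↥q₁ + finrank k ↥q₂ :=
  finrank_prod

theorem count_ker {N₁ N₂ : Type*} [AddCommGroup N₁] [Module k N₁] [AddCommGroup N₂] [Module k N₂]
    [Module.Finite k N₁] [Module.Finite k N₂] (q₁ : Submodule k N₁) (q₂ : Submodule k N₂)
    (θ : (↥q₁ × ↥q₂) →ₗ[k] k) (hs : Function.Surjective θ) :
    1 + finrank k ↥(LinearMap.ker θ) = finrank k (↥q₁ × ↥q₂) := by
  have h := θ.finrank_range_add_finrank_ker
  rwa [LinearMap.range_eq_top.2 hs, finrank_top, finrank_self] at h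

theorem exists_duals (v₁ v₂ : Fin (r + 1) → k) (hv : LinearIndependent k ![v₁, v₂]) :
    ∃ l₁ l₂ : Dual k (Fin (r + 1) → k), l₁ v₁ = 1 ∧ l₁ v₂ = 0 ∧ l₂ v₁ = 0 ∧ l₂ v₂ = 1 := by
  let b := Basis.span hv
  obtain ⟨l₁, h1⟩ := LinearMap.exists_extend (b.coord 0)
  obtain ⟨l₂, h2⟩ := LinearMap.exists_extend (b.coord 1)
  have e : ∀ j, (b j : Fin (r + 1) → k) = ![v₁, v₂] j := fun j => by simp [b, Basis.span_apply]
  have h : ∀ (l : Dual k (Fin (r + 1) → k)) i, l ∘ₗ Submodule.subtype _ = b.coord i →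
      ∀ j, l (![v₁, v₂] j) = if j = i then 1 else 0 := fun l i hl j => by
    have := LinearMap.congr_fun hl (b j)
    rw [LinearMap.comp_apply, Submodule.subtype_apply, e, Basis.coord_apply, Basis.repr_self_apply] at this
    exact this
  exact ⟨l₁, l₂, by simpa using h l₁ 0 h1 0, by simpa using h l₁ 0 h1 1, by simpa using h l₂ 1 h2 0,
    by simpa using h l₂ 1 h2 1⟩

end

/-- Let k be a field (the source works over an algebraically closed field; the count is the same over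
any field), d ≥ 2, x₁ = [v₁] and x₂ = [v₂] two distinct points of projective r-space and P(W₁) ∋ x₁,
P(W₂) ∋ x₂ linear subspaces. In the space of degree-d forms, those whose hypersurface passes through
x₁ tangentially to P(W₁) and through x₂ tangentially to P(W₂) form a linear subspace of codimension
dim P(W₁) + dim P(W₂) + 2 = dim W₁ + dim W₂ when d ≥ 3 or when the line x₁x₂ is not contained in
both P(W₁) and P(W₂), and of codimension dim W₁ + dim W₂ - 1 when d = 2 and the line x₁x₂ lies in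
P(W₁) ∩ P(W₂). -/
theorem result (k : Type u) [Field k] (r d : ℕ) (hd : 2 ≤ d)
    (W₁ W₂ : Submodule k (Fin (r + 1) → k)) (v₁ v₂ : Fin (r + 1) → k) (h₁ : v₁ ∈ W₁) (h₂ : v₂ ∈ W₂)
    (hv : LinearIndependent k ![v₁, v₂]) :
    ((3 ≤ d ∨ ¬ (v₂ ∈ W₁ ∧ v₁ ∈ W₂)) →
      Module.finrank k (LefPen.Form r k d) =
        Module.finrank k ↥(LefPen.tangentForms k d W₁ v₁ W₂ v₂) + (Module.finrank k ↥W₁ + Module.finrank k ↥W₂)) ∧
    ((d = 2 ∧ v₂ ∈ W₁ ∧ v₁ ∈ W₂) →
      Module.finrank k (LefPen.Form r k d) + 1 =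
        Module.finrank k ↥(LefPen.tangentForms k d W₁ v₁ W₂ v₂) + (Module.finrank k ↥W₁ + Module.finrank k ↥W₂)) := by
  classical
  obtain ⟨l₁, l₂, h11, h12, h21, h22⟩ := exists_duals v₁ v₂ hv
  let u₁ : W₁ := ⟨v₁, h₁⟩
  let u₂ : W₂ := ⟨v₂, h₂⟩
  let Φ := (jet d u₁).prod (jet d u₂)
  haveI : FiniteDimensional k (LefPen.Form r k d) :=
    Module.Finite.iff_fg.mpr (MvPolynomial.homogeneousSubmodule_fg (Fin (r + 1)) k d)
  have hker : LinearMap.ker Φ = LefPen.tangentForms k d W₁ v₁ W₂ v₂ := by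
    rw [LinearMap.ker_prod, LefPen.tangentForms, ← tangLin_ker W₁ u₁, ← tangLin_ker W₂ u₂]
  have hu₁ : u₁ ≠ 0 := fun h => by
    have : l₁ v₁ = 0 := by rw [show v₁ = 0 from congrArg Subtype.val h, map_zero]
    rw [h11] at this; exact one_ne_zero this
  have hu₂ : u₂ ≠ 0 := fun h => by
    have : l₂ v₂ = 0 := by rw [show v₂ = 0 from congrArg Subtype.val h, map_zero]
    rw [h22] at this; exact one_ne_zero this
  have hsum : finrank k ↥(LinearMap.range Φ) + finrank k ↥(LinearMap.ker Φ) = finrank k (LefPen.Form r k d) :=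
    count_range_ker (CohB1.polyGrading r k d) (LinearMap.ker (rel d u₁)) (LinearMap.ker (rel d u₂)) Φ
  rw [hker] at hsum
  have htot : finrank k (↥(LinearMap.ker (rel d u₁)) × ↥(LinearMap.ker (rel d u₂))) =
      finrank k W₁ + finrank k W₂ := by
    rw [count_prod, finrank_rel d u₁ hu₁, finrank_rel d u₂ hu₂]
  have reach : ∀ s₁ s₂,
      (3 ≤ d ∨ v₂ ∉ W₁ ∨ ∀ h : v₂ ∈ W₁, (s₁ : ↥(LinearMap.ker (rel d u₁))).1.2 ⟨v₂, h⟩ = 0) →
      (3 ≤ d ∨ v₁ ∉ W₂ ∨ ∀ h : v₁ ∈ W₂, (s₂ : ↥(LinearMap.ker (rel d u₂))).1.2 ⟨v₁, h⟩ = 0) →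
      (s₁, s₂) ∈ LinearMap.range Φ := by
    intro s₁ s₂ c₁ c₂
    obtain ⟨G₁, a1, a2⟩ := exists_form hd u₁ u₂ l₁ h11 h12 s₁ c₁
    obtain ⟨G₂, b2, b1⟩ := exists_form hd u₂ u₁ l₂ h22 h21 s₂ c₂
    exact ⟨G₁ + G₂, Prod.ext (by simp [Φ, a1, b1]) (by simp [Φ, a2, b2])⟩
  let M : LefPen.Form r k d := powLin (one_le_two.trans hd) l₁ l₂
  have hM : d = 2 → ∀ (h : v₂ ∈ W₁), (jet d u₁ M).1.2 ⟨v₂, h⟩ = 1 := fun e h => by
    rw [jet_snd, D_powLin hd]
    simp [u₁, h11, h21, h22]
  have hM' : d = 2 → ∀ (h : v₁ ∈ W₂), (jet d u₂ M).1.2 ⟨v₁, h⟩ = 1 := fun e h => by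
    rw [jet_snd, D_powLin hd]
    subst e
    simp [u₂, h12, h22, h11]
  refine ⟨fun hcase => ?_, fun ⟨e, h21', h12'⟩ => ?_⟩
  · have htop : LinearMap.range Φ = ⊤ := by
      refine eq_top_iff.2 fun ⟨s₁, s₂⟩ _ => ?_
      rcases hcase with h | h
      · exact reach _ _ (Or.inl h) (Or.inl h)
      by_cases hd3 : 3 ≤ d
      · exact reach _ _ (Or.inl hd3) (Or.inl hd3)
      have e : d = 2 := by omega
      rw [not_and_or] at h
      rcases h with h | h
      · by_cases hv1 : v₁ ∈ W₂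
        · have key := reach (s₁ - s₂.1.2 ⟨v₁, hv1⟩ • jet d u₁ M) (s₂ - s₂.1.2 ⟨v₁, hv1⟩ • jet d u₂ M)
            (Or.inr (Or.inl h)) (Or.inr (Or.inr fun h' => by simp [hM' e h']))
          have := add_mem key (Submodule.smul_mem _ (s₂.1.2 ⟨v₁, hv1⟩) (LinearMap.mem_range_self Φ M))
          rwa [show (s₁ - (s₂.1.2 ⟨v₁, hv1⟩) • jet d u₁ M, s₂ - (s₂.1.2 ⟨v₁, hv1⟩) • jet d u₂ M) + (s₂.1.2 ⟨v₁, hv1⟩) • Φ M = (s₁, s₂) from
            Prod.ext (Subtype.ext (sub_add_cancel _ _)) (Subtype.ext (sub_add_cancel _ _))] at this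
        · exact reach _ _ (Or.inr (Or.inl h)) (Or.inr (Or.inl hv1))
      · by_cases hv2 : v₂ ∈ W₁
        · have key := reach (s₁ - s₁.1.2 ⟨v₂, hv2⟩ • jet d u₁ M) (s₂ - s₁.1.2 ⟨v₂, hv2⟩ • jet d u₂ M)
            (Or.inr (Or.inr fun h' => by simp [hM e h'])) (Or.inr (Or.inl h))
          have := add_mem key (Submodule.smul_mem _ (s₁.1.2 ⟨v₂, hv2⟩) (LinearMap.mem_range_self Φ M))
          rwa [show (s₁ - (s₁.1.2 ⟨v₂, hv2⟩) • jet d u₁ M, s₂ - (s₁.1.2 ⟨v₂, hv2⟩) • jet d u₂ M) + (s₁.1.2 ⟨v₂, hv2⟩) • Φ M = (s₁, s₂) from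
            Prod.ext (Subtype.ext (sub_add_cancel _ _)) (Subtype.ext (sub_add_cancel _ _))] at this
        · exact reach _ _ (Or.inr (Or.inl hv2)) (Or.inr (Or.inl h))
    rw [htop, finrank_top, htot] at hsum
    omega
  · let θ : (↥(LinearMap.ker (rel d u₁)) × ↥(LinearMap.ker (rel d u₂))) →ₗ[k] k :=
      (Dual.eval k W₁ ⟨v₂, h21'⟩) ∘ₗ LinearMap.snd k k _ ∘ₗ Submodule.subtype _ ∘ₗ LinearMap.fst k _ _ -
        (Dual.eval k W₂ ⟨v₁, h12'⟩) ∘ₗ LinearMap.snd k k _ ∘ₗ Submodule.subtype _ ∘ₗ LinearMap.snd k _ _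
    have hθ : ∀ s₁ s₂, θ (s₁, s₂) = s₁.1.2 ⟨v₂, h21'⟩ - s₂.1.2 ⟨v₁, h12'⟩ := fun _ _ => rfl
    have hsym : ∀ G : LefPen.Form r k d, D v₁ v₂ G.1 = D v₂ v₁ G.1 := fun G => by
      have e1 := euler (v₁ + v₂) G
      have e2 := euler v₁ G
      have e3 := euler v₂ G
      exact quad_symm (e ▸ (mem_homogeneousSubmodule d G.1).1 G.2) v₁ v₂
    have hrange : LinearMap.range Φ = LinearMap.ker θ := by
      refine le_antisymm ?_ fun ⟨s₁, s₂⟩ hs => ?_
      · rintro _ ⟨G, rfl⟩
        rw [LinearMap.mem_ker]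
        exact (hθ _ _).trans (sub_eq_zero.2 (hsym G))
      · rw [LinearMap.mem_ker, hθ, sub_eq_zero] at hs
        have key := reach (s₁ - s₁.1.2 ⟨v₂, h21'⟩ • jet d u₁ M) (s₂ - s₁.1.2 ⟨v₂, h21'⟩ • jet d u₂ M)
          (Or.inr (Or.inr fun h' => by simp [hM e h'])) (Or.inr (Or.inr fun h' => by simp [hM' e h', hs]))
        have := add_mem key (Submodule.smul_mem _ (s₁.1.2 ⟨v₂, h21'⟩) (LinearMap.mem_range_self Φ M))
        rwa [show (s₁ - (s₁.1.2 ⟨v₂, h21'⟩) • jet d u₁ M, s₂ - (s₁.1.2 ⟨v₂, h21'⟩) • jet d u₂ M) + (s₁.1.2 ⟨v₂, h21'⟩) • Φ M = (s₁, s₂) from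
          Prod.ext (Subtype.ext (sub_add_cancel _ _)) (Subtype.ext (sub_add_cancel _ _))] at this
    have hθs : Function.Surjective θ := by
      obtain ⟨G, hG, hG'⟩ : ∃ s : ↥(LinearMap.ker (rel d u₁)), s.1.2 ⟨v₂, h21'⟩ = 1 ∧ True := by
        refine ⟨jet d u₁ M, hM e h21', trivial⟩
      intro c
      exact ⟨(c • G, 0), by simp [hθ, hG]⟩
    have h3 := count_ker (LinearMap.ker (rel d u₁)) (LinearMap.ker (rel d u₂)) θ hθs
    rw [htot, ← hrange] at h3
    omega

end Groth.Agent.S4024
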