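import Groth.Statements.S4027
import Mathlib

set_option autoImplicit false
universe u
open LefPen

namespace Groth.Agent.S4027

open MvPolynomial in
theorem irreducible_aux {k : Type u} [Field k] [IsAlgClosed k] (r : ℕ) (F : MvPolynomial (Fin r) k) (hF : Irreducible F)
    (hF0 : MvPolynomial.eval (fun _ => (0 : k)) F ≠ 0) :
    Irreducible (MvPolynomial.eval₂ (Polynomial.C.comp MvPolynomial.C)
        (fun j => Polynomial.C (MvPolynomial.X j) * Polynomial.X) F) ∧
      (MvPolynomial.eval₂ (Polynomial.C.comp MvPolynomial.C)
        (fun j => Polynomial.C (MvPolynomial.X j) * Polynomial.X) F).natDegree ≠ 0 := by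
  classical
  set G := MvPolynomial.eval₂ (Polynomial.C.comp MvPolynomial.C)
    (fun j => Polynomial.C (MvPolynomial.X j) * Polynomial.X) F with hGdef
  let σ : k → MvPolynomial (Fin r) k →ₐ[k] MvPolynomial (Fin r) k := fun s => aeval fun j => C s * X j
  have hev : ∀ s : k, G.eval (C s) = σ s F := fun s => by
    rw [hGdef, ← Polynomial.coe_evalRingHom, eval₂_comp_left]
    show _ = eval₂ _ _ F
    refine congrArg₂ (fun f g => eval₂ f g F) ?_ (funext fun j => ?_)
    · ext a; simp
    · show Polynomial.eval (C s) (Polynomial.C (X j) * Polynomial.X) = C s * X j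
      rw [Polynomial.eval_mul, Polynomial.eval_C, Polynomial.eval_X, mul_comm]
  have hσ0 : ∀ s, eval (fun _ => (0 : k)) (σ s F) = eval (fun _ => (0 : k)) F := fun s => by
    rw [← aeval_eq_eval, comp_aeval_apply, aeval_eq_eval]
    exact congrArg (fun f => eval f F) (funext fun j => by simp)
  have hσ : ∀ s : k, s ≠ 0 → Irreducible (σ s F) := fun s hs => by
    let e : MvPolynomial (Fin r) k ≃ₐ[k] MvPolynomial (Fin r) k := AlgEquiv.ofAlgHom (σ s) (σ s⁻¹)
      (algHom_ext fun j => by
        simp only [σ, AlgHom.comp_apply, AlgHom.id_apply, aeval_X, map_mul, aeval_C, algebraMap_eq]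
        rw [← mul_assoc, ← C_mul, inv_mul_cancel₀ hs, C_1, one_mul])
      (algHom_ext fun j => by
        simp only [σ, AlgHom.comp_apply, AlgHom.id_apply, aeval_X, map_mul, aeval_C, algebraMap_eq]
        rw [← mul_assoc, ← C_mul, mul_inv_cancel₀ hs, C_1, one_mul])
    exact (MulEquiv.irreducible_iff e.toMulEquiv).2 hF
  -- a factor with infinitely many constant specializations is constant
  have key : ∀ A B : Polynomial (MvPolynomial (Fin r) k), G = A * B → {s : k | IsUnit (A.eval (C s))}.Infinite → IsUnit A :=
    fun A B hAB hinf => by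
    have hconst : ∀ j, ∀ m : Fin r →₀ ℕ, m ≠ 0 → coeff m (A.coeff j) = 0 := fun j m hm => by
      let q : Polynomial k := ∑ i ∈ Finset.range (A.natDegree + 1), Polynomial.monomial i (coeff m (A.coeff i))
      have hq : ∀ s, q.eval s = coeff m (A.eval (C s)) := fun s => by
        rw [Polynomial.eval_eq_sum_range (p := A)]
        simp only [q, Polynomial.eval_finset_sum, Polynomial.eval_monomial, coeff_sum, ← C_pow, mul_comm _ (C _), coeff_C_mul]
        exact Finset.sum_congr rfl fun i _ => mul_comm _ _
      have hq0 : q = 0 := Polynomial.eq_zero_of_infinite_isRoot q (hinf.mono fun s hs => by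
        obtain ⟨a, -, ha⟩ := (MvPolynomial.isUnit_iff_eq_C_of_isReduced).1 hs
        show q.eval s = 0
        rw [hq, ha, coeff_C, if_neg hm.symm])
      by_cases hj : j ∈ Finset.range (A.natDegree + 1)
      · have := congrArg (fun q : Polynomial k => q.coeff j) hq0
        simpa [q, Polynomial.finset_sum_coeff, Polynomial.coeff_monomial, Finset.mem_range.1 hj] using this
      · rw [Polynomial.coeff_eq_zero_of_natDegree_lt (by simp only [Finset.mem_range] at hj; omega), coeff_zero]
    let A0 : Polynomial k := A.map (eval fun _ => 0)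
    have hA : A = A0.map C := Polynomial.ext fun j => MvPolynomial.ext _ _ fun m => by
      simp only [A0, Polynomial.coeff_map, coeff_C]
      split_ifs with hm
      · subst hm
        show coeff 0 (A.coeff j) = eval (0 : Fin r → k) (A.coeff j)
        rw [MvPolynomial.eval_zero]
        rfl
      · exact hconst j m (Ne.symm hm)
    by_cases hd : A0.natDegree = 0
    · rw [hA, Polynomial.eq_C_of_natDegree_eq_zero hd, Polynomial.map_C]
      refine (IsUnit.map C (isUnit_iff_ne_zero.2 fun h => ?_)).map Polynomial.C
      have h0 : A.eval (C 0) * B.eval (C 0) = σ 0 F := by rw [← hev, hAB, Polynomial.eval_mul]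
      rw [hA, Polynomial.eq_C_of_natDegree_eq_zero hd, h] at h0
      refine hF0 ?_
      rw [← hσ0 0, ← h0]
      simp
    · obtain ⟨s, hs⟩ := IsAlgClosed.exists_root A0 (fun h => hd (Polynomial.natDegree_eq_zero_iff_degree_le_zero.2 h.le))
      refine absurd ?_ hF0
      rw [← hσ0 s, ← hev, hAB, Polynomial.eval_mul, hA, Polynomial.eval_map, Polynomial.eval₂_hom, hs, map_zero,
        zero_mul, map_zero]
  have hdeg : G.natDegree ≠ 0 := fun hd => by
    have h1 : σ 1 F = σ 0 F := by
      rw [← hev, ← hev, Polynomial.eq_C_of_natDegree_eq_zero hd, Polynomial.eval_C, Polynomial.eval_C]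
    have e1 : σ 1 F = F := by
      show aeval (fun j => C (1 : k) * X j) F = F
      simp
    have e0 : σ 0 F = C (eval (fun _ => (0 : k)) F) := by
      refine MvPolynomial.funext fun x => ?_
      rw [← aeval_eq_eval, comp_aeval_apply, aeval_C, aeval_eq_eval]
      exact congrArg (fun f => eval f F) (funext fun j => by simp)
    apply hF.not_isUnit
    rw [← e1, h1, e0]
    exact (isUnit_iff_ne_zero.2 hF0).map C
  refine ⟨⟨fun hu => hdeg (Polynomial.natDegree_eq_zero_of_isUnit hu), fun A B hAB => ?_⟩, hdeg⟩
  have hinf : ({s : k | s ≠ 0} : Set k).Infinite := by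
    have := (Set.infinite_univ (α := k)).diff (Set.finite_singleton 0)
    exact this.mono fun x hx => by simpa using hx.2
  have hcov : {s : k | s ≠ 0} ⊆ {s | IsUnit (A.eval (C s))} ∪ {s | IsUnit (B.eval (C s))} := fun s hs =>
    (hσ s hs).isUnit_or_isUnit (by rw [← hev, hAB, Polynomial.eval_mul])
  rcases Set.infinite_union.1 (hinf.mono hcov) with h | h
  exacts [Or.inl (key A B hAB h), Or.inr (key B A (hAB.trans (mul_comm A B)) h)]

/-- Let k be an algebraically closed field, r ≥ 2, and F ∈ k[X_1, …, X_r] an irreducible polynomial with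
F(0) ≠ 0 (in the source the origin is the base point of the lines considered and lies off the
hypersurface F = 0; without this the claim fails, e.g. for X_1 - X_2^2). Then the polynomial G(T) =
F(X_1 T, …, X_r T), with coefficients in the field of rational functions k(X_1, …, X_r), is
irreducible. -/
theorem result (k : Type u) [Field k] [IsAlgClosed k] (r : ℕ) (hr : 2 ≤ r)
    (F : MvPolynomial (Fin r) k) (hF : Irreducible F) (hF0 : MvPolynomial.eval (fun _ => (0 : k)) F ≠ 0) :
    Irreducible ((MvPolynomial.eval₂ (Polynomial.C.comp MvPolynomial.C)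
        (fun j => Polynomial.C (MvPolynomial.X j) * Polynomial.X) F).map
      (algebraMap (MvPolynomial (Fin r) k) (FractionRing (MvPolynomial (Fin r) k)))) := by
  obtain ⟨hirr, hdeg⟩ := irreducible_aux r F hF hF0
  exact ((hirr.isPrimitive hdeg).irreducible_iff_irreducible_map_fraction_map).1 hirr

end Groth.Agent.S4027
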