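import Groth.Statements.S4039
import Groth.Agent.QuadCountLib.Poly
import Groth.Agent.CIGenLib.HypSmooth
import Groth.Agent.ZetaPtsLib.Pn
import Groth.Agent.FibDimLib.Smooth
import Groth.Agent.GenusZeroLib.PSpace

set_option autoImplicit false
set_option backward.isDefEq.respectTransparency false
set_option backward.isDefEq.respectTransparency.types false
set_option maxHeartbeats 1000000
set_option synthInstance.maxHeartbeats 400000
universe u
open CategoryTheory CategoryTheory.Limits AlgebraicGeometry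
open LefPen

namespace Groth.Agent.S4039


open MvPolynomial HomogeneousLocalization GradedCechLib CategoryTheory AlgebraicGeometry Limits

variable {k : Type u} [Field k] {N : ℕ}

theorem subst_ne_zero (G : MvPolynomial (Fin (N + 1)) k) {d : ℕ} (hG : G.IsHomogeneous d) (h0 : G ≠ 0)
    (i : Fin (N + 1)) : GenusZeroLib.subst N k i G ≠ 0 := by
  intro h
  have hfac : (GenusZeroLib.chartPoly N k i).comp (GenusZeroLib.subst N k i) = deh₀ N k i := by
    refine MvPolynomial.ringHom_ext (fun c => ?_) fun l => ?_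
    · simp [GenusZeroLib.subst, GenusZeroLib.chartPoly, deh₀]
    · rcases Fin.eq_self_or_eq_succAbove i l with rfl | ⟨m, rfl⟩
      · rw [deh₀_X_self]; simp [GenusZeroLib.subst, GenusZeroLib.chartPoly]
      · simp [GenusZeroLib.subst, GenusZeroLib.chartPoly]
  have h1 : deh₀ N k i G = 0 := by rw [← hfac, RingHom.comp_apply, h, map_zero]
  have h2 := congrArg HomogeneousLocalization.val h1
  rw [val_deh₀_homogeneous N k i G d hG, HomogeneousLocalization.val_zero, Localization.mk_eq_mk', IsLocalization.mk'_eq_zero_iff] at h2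
  obtain ⟨⟨m, hm⟩, hm0⟩ := h2
  obtain ⟨e, rfl⟩ := hm
  exact h0 ((mul_eq_zero.1 hm0).resolve_left (pow_ne_zero _ (X_ne_zero i)))

theorem eval_subst (i : Fin (N + 1)) (v : Fin N → k) (G : MvPolynomial (Fin (N + 1)) k) :
    eval v (GenusZeroLib.subst N k i G) = eval (i.insertNth (1 : k) v) G := by
  refine RingHom.congr_fun (f := (eval v).comp (GenusZeroLib.subst N k i)) (g := eval (i.insertNth (1 : k) v)) ?_ G
  refine MvPolynomial.ringHom_ext (fun c => ?_) fun l => ?_
  · simp [GenusZeroLib.subst]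
  · rcases Fin.eq_self_or_eq_succAbove i l with rfl | ⟨m, rfl⟩ <;> simp [GenusZeroLib.subst]

theorem pderiv_subst (i : Fin (N + 1)) (l : Fin N) (G : MvPolynomial (Fin (N + 1)) k) :
    pderiv l (GenusZeroLib.subst N k i G) = GenusZeroLib.subst N k i (pderiv (i.succAbove l) G) := by
  classical
  induction G using MvPolynomial.induction_on with
  | C a => simp [GenusZeroLib.subst]
  | add p q hp hq => simp [hp, hq]
  | mul_X p j hp =>
    rw [map_mul, pderiv_mul, hp, pderiv_mul, map_add, map_mul, map_mul]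
    rcases Fin.eq_self_or_eq_succAbove i j with rfl | ⟨m, rfl⟩
    · simp [GenusZeroLib.subst, pderiv_X, Pi.single_apply, (Fin.succAbove_ne _ _).symm]
    · by_cases hml : m = l
      · subst hml; simp [GenusZeroLib.subst]
      · simp [GenusZeroLib.subst, pderiv_X, Pi.single_apply, hml, Fin.succAbove_right_injective.ne hml, Ne.symm hml,
          (Fin.succAbove_right_injective.ne hml).symm]

theorem reg_of_smooth {n : ℕ} (Q : LefPen.Form (n + 1) k 2) [Fintype k]
    [SmoothOfRelativeDimension n ((LefPen.hypIdeal Q).subschemeι ≫ CohB1.ProjSpace.toSpec (n + 1) k)] :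
    QuadCountLib.Reg (QuadCountLib.qf ((mem_homogeneousSubmodule 2 _).1 Q.2)) := by
  have hQ0 : Q.1 ≠ 0 := by
    intro h0
    let ι := (LefPen.hypIdeal Q).subschemeι
    haveI : Surjective ι := by
      refine ⟨fun x => ?_⟩
      show x ∈ Set.range ι
      rw [Scheme.IdealSheafData.range_subschemeι]
      obtain ⟨j, hj⟩ := TopologicalSpace.Opens.mem_iSup.1
        ((QCohLib.iSup_stdOpen (n + 1) k).ge (show x ∈ (⊤ : (CohB1.ProjSpace (n + 1) k).Opens) from trivial))
      rw [SetLike.mem_coe, Scheme.IdealSheafData.mem_support_iff_of_mem (I := LefPen.hypIdeal Q)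
        (U := ⟨LefPen.chart (n + 1) k j, CIGen.chart_affine j⟩) hj, CIGen.hypIdeal_chart, h0, map_zero, Scheme.zeroLocus_span,
        Scheme.mem_zeroLocus_iff]
      rintro f rfl
      simp
    haveI : IsReduced (CohB1.ProjSpace (n + 1) k) := GenusZeroLib.isReduced_projSpace k (n + 1)
    haveI : IsIso ι := isIso_of_isClosedImmersion_of_surjective _
    let a := MvPolynomial (Fin (n + 1)) k
    let w : ↥(Spec (CommRingCat.of (Away (CohB1.polyGrading (n + 1) k) (X (0 : Fin (n + 1 + 1)) : Poly (n + 1) k)))) :=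
      Spec.map (CommRingCat.ofHom (ZetaPtsLib.coordHom (n + 1) k 0 (fun _ => (0 : k)))) (⟨⊥, Ideal.isPrime_bot⟩ : PrimeSpectrum k)
    haveI : IsIso (CommRingCat.ofHom (GenusZeroLib.chartPoly (n + 1) k 0)) :=
      (ConcreteCategory.isIso_iff_bijective _).2 (GenusZeroLib.chartPoly_bijective (n + 1) k 0)
    let b := Spec.map (CommRingCat.ofHom (GenusZeroLib.chartPoly (n + 1) k 0))
    haveI : IsIso b := inferInstance
    haveI : IsOpenImmersion (chartι (n + 1) k 0) := by unfold chartι; infer_instance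
    let x : ↥(LefPen.hypIdeal Q).subscheme := inv ι (chartι (n + 1) k 0 w)
    have hx : ι x = chartι (n + 1) k 0 w := by
      rw [← Scheme.Hom.comp_apply, IsIso.inv_hom_id]
      rfl
    have e1 := FibDimLib.fibreDimAt_smoothOfRelativeDimension n (ι ≫ CohB1.ProjSpace.toSpec (n + 1) k) x
    rw [FibDimLib.fibreDimAt_comp_isOpenImmersion, hx, ← FibDimLib.fibreDimAt_comp_isOpenImmersion,
      ZetaPtsLib.chartι_toSpec, show cst (n + 1) k (X (0 : Fin (n + 1 + 1)) : Poly (n + 1) k) =
        (GenusZeroLib.chartPoly (n + 1) k 0).comp MvPolynomial.C from RingHom.ext fun r => by simp [GenusZeroLib.chartPoly],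
      CommRingCat.ofHom_comp, Spec.map_comp, FibDimLib.fibreDimAt_comp_isOpenImmersion] at e1
    have e2 := FibDimLib.fibreDimAt_affineSpace (CommRingCat.of k) (n + 1) (b w)
    have e3 : ((n + 1 : ℕ) : WithBot ℕ∞) = (n : WithBot ℕ∞) := e2.symm.trans e1
    rw [Nat.cast_inj] at e3
    omega
  have hs : Smooth ((LefPen.hypIdeal Q).subschemeι ≫ CohB1.ProjSpace.toSpec (n + 1) k) :=
    SmoothOfRelativeDimension.smooth n _
  intro v hv hp
  by_contra hne
  obtain ⟨j, hj⟩ : ∃ j, v j ≠ 0 := Function.ne_iff.1 hne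
  haveI := (CIGen.smooth_hyp_iff Q).1 hs j
  have htop := CIGen.jacIdeal_eq_top_of_smooth (GenusZeroLib.subst (n + 1) k j Q.1)
    (subst_ne_zero Q.1 ((mem_homogeneousSubmodule 2 _).1 Q.2) hQ0 j)
  let x : Fin (n + 1) → k := fun l => (v j)⁻¹ * v (j.succAbove l)
  have hx : j.insertNth (1 : k) x = (v j)⁻¹ • v := by
    funext l
    rcases Fin.eq_self_or_eq_succAbove j l with rfl | ⟨m, rfl⟩ <;> simp [x, hj]
  have hle : CIGen.jacIdeal (GenusZeroLib.subst (n + 1) k j Q.1) ≤ RingHom.ker (eval x) := by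
    refine sup_le (Ideal.span_le.2 ?_) (Ideal.span_le.2 ?_)
    · rintro _ rfl
      rw [SetLike.mem_coe, RingHom.mem_ker, eval_subst, hx, QuadCountLib.eval_smul ((mem_homogeneousSubmodule 2 _).1 Q.2)]
      rw [QuadCountLib.qf_apply] at hv
      rw [hv, mul_zero]
    · rintro _ ⟨l, rfl⟩
      simp only [SetLike.mem_coe, RingHom.mem_ker]
      rw [pderiv_subst, eval_subst, hx]
      have h1 : QuadraticMap.polar (fun v => eval v Q.1) ((v j)⁻¹ • v) (Pi.single (j.succAbove l) 1) = 0 := by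
        have h2 := hp (Pi.single (j.succAbove l) 1)
        show QuadraticMap.polar (⇑(QuadCountLib.qf ((mem_homogeneousSubmodule 2 _).1 Q.2))) _ _ = 0
        rw [QuadraticMap.polar_smul_left, h2, smul_zero]
      rw [QuadCountLib.polar_eval ((mem_homogeneousSubmodule 2 _).1 Q.2)] at h1
      simpa [Pi.single_apply] using h1
  have h1 : eval x (1 : MvPolynomial (Fin (n + 1)) k) = 0 :=
    RingHom.mem_ker.1 (hle (htop ▸ Submodule.mem_top))
  simp at h1

theorem preimage_basicOpen_deh (i : Fin (N + 1)) (p : Poly N k) :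
    chartι N k i ⁻¹ᵁ (CohB1.ProjSpace N k).basicOpen (deh N k i p) = PrimeSpectrum.basicOpen (deh₀ N k i p) := by
  have h1 := Scheme.basicOpen_appLE (chartι N k i) ⊤ (QCohLib.stdOpen N k i) (chartι_le N k i) (deh N k i p)
  rw [top_inf_eq] at h1
  erw [awayι_appLE_deh, basicOpen_eq_of_affine'] at h1
  refine h1.symm.trans ?_
  congr 1
  exact Iso.inv_hom_id_apply _ _

theorem coordHom_deh (i : Fin (N + 1)) (v : Fin N → k) (p : Poly N k) :
    ZetaPtsLib.coordHom N k i v (deh₀ N k i p) = eval (i.insertNth (1 : k) v) p := by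
  refine RingHom.congr_fun (f := (ZetaPtsLib.coordHom N k i v).comp (deh₀ N k i)) (g := eval (i.insertNth (1 : k) v)) ?_ p
  refine MvPolynomial.ringHom_ext (fun c => ?_) fun l => ?_
  · rw [RingHom.comp_apply, deh₀, eval₂Hom_C, ZetaPtsLib.coordHom_cst]
    simp
  · rcases Fin.eq_self_or_eq_succAbove i l with rfl | ⟨m, rfl⟩
    · simp [deh₀_X_self]
    · rw [RingHom.comp_apply, ZetaPtsLib.coordHom_X]; simp

theorem mem_hyp_iff {d : ℕ} (G : LefPen.Form N k d) (p : Σ i : Fin (N + 1), {l : Fin N // (i : ℕ) ≤ l} → k)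
    (z : Spec (CommRingCat.of k)) :
    (ZetaPtsLib.toPt N k k p).1 z ∈ (LefPen.hypIdeal G).support ↔
      eval (p.1.insertNth (1 : k) (ZetaPtsLib.fillIn N p.1 p.2)) G.1 = 0 := by
  obtain ⟨i, w⟩ := p
  have hmem : (ZetaPtsLib.toPt N k k ⟨i, w⟩).1 z ∈ LefPen.chart N k i := ZetaPtsLib.toPt_mem_self N k ⟨i, w⟩ z
  rw [Scheme.IdealSheafData.mem_support_iff_of_mem (I := LefPen.hypIdeal G)
    (U := ⟨LefPen.chart N k i, CIGen.chart_affine i⟩) hmem, CIGen.hypIdeal_chart, Scheme.zeroLocus_span]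
  rw [Scheme.mem_zeroLocus_iff]
  have key : (ZetaPtsLib.toPt N k k ⟨i, w⟩).1 z ∈ (CohB1.ProjSpace N k).basicOpen (deh N k i G.1) ↔
      ZetaPtsLib.coordHom N k i (ZetaPtsLib.fillIn N i w) (deh₀ N k i G.1) ≠ 0 := by
    show Spec.map (CommRingCat.ofHom (ZetaPtsLib.coordHom N k i (ZetaPtsLib.fillIn N i w))) z ∈
      chartι N k i ⁻¹ᵁ (CohB1.ProjSpace N k).basicOpen (deh N k i G.1) ↔ _
    rw [preimage_basicOpen_deh]
    have hz : z.asIdeal = ⊥ := z.asIdeal.eq_bot_of_prime
    change deh₀ N k i G.1 ∉ (PrimeSpectrum.comap (ZetaPtsLib.coordHom N k i (ZetaPtsLib.fillIn N i w)) z).asIdeal ↔ _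
    rw [PrimeSpectrum.comap_asIdeal, Ideal.mem_comap, hz, Ideal.mem_bot]
  rw [coordHom_deh] at key
  refine ⟨fun h => not_not.1 fun h' => h _ rfl (key.2 h'), fun h f hf hx => ?_⟩
  obtain rfl : f = deh N k i G.1 := hf
  exact key.1 hx h

/-- The vector of stratified coordinates. -/
noncomputable def vec (p : Σ i : Fin (N + 1), {l : Fin N // (i : ℕ) ≤ l} → k) : Fin (N + 1) → k :=
  p.1.insertNth (1 : k) (ZetaPtsLib.fillIn N p.1 p.2)

theorem vec_self (p : Σ i : Fin (N + 1), {l : Fin N // (i : ℕ) ≤ l} → k) : vec p p.1 = 1 := by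
  simp [vec]

theorem vec_lt (p : Σ i : Fin (N + 1), {l : Fin N // (i : ℕ) ≤ l} → k) (j : Fin (N + 1)) (hj : j < p.1) : vec p j = 0 := by
  obtain ⟨l, rfl⟩ := Fin.exists_succAbove_eq (ne_of_lt hj)
  rw [vec, Fin.insertNth_apply_succAbove, ZetaPtsLib.fillIn, dif_neg]
  intro hle
  have h2 : p.1 ≤ l.castSucc := hle
  exact absurd hj (not_lt.2 ((Fin.succAbove_of_le_castSucc _ _ h2).ge.trans' (h2.trans (Fin.castSucc_le_succ l))))

theorem scale_bijective :
    Function.Bijective (fun cp : kˣ × (Σ i : Fin (N + 1), {l : Fin N // (i : ℕ) ≤ l} → k) =>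
      (⟨(cp.1 : k) • vec cp.2, fun h => cp.1.ne_zero (by simpa [vec_self] using congrFun h cp.2.1)⟩ :
        {v : Fin (N + 1) → k // v ≠ 0})) := by
  classical
  constructor
  · rintro ⟨c, i, w⟩ ⟨c', i', w'⟩ h
    have h' : (c : k) • vec ⟨i, w⟩ = (c' : k) • vec ⟨i', w'⟩ := congrArg Subtype.val h
    have hi : i = i' := by
      rcases lt_trichotomy i i' with hlt | he | hlt
      · have := congrFun h' i
        simp only [Pi.smul_apply, smul_eq_mul, vec_lt ⟨i', w'⟩ i hlt, mul_zero] at this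
        rw [show vec ⟨i, w⟩ i = 1 from vec_self ⟨i, w⟩, _root_.mul_one] at this
        exact absurd this c.ne_zero
      · exact he
      · have := congrFun h' i'
        simp only [Pi.smul_apply, smul_eq_mul, vec_lt ⟨i, w⟩ i' hlt, mul_zero] at this
        rw [show vec ⟨i', w'⟩ i' = 1 from vec_self ⟨i', w'⟩, _root_.mul_one] at this
        exact absurd this.symm c'.ne_zero
    subst hi
    have hc : c = c' := Units.ext (by simpa [vec] using congrFun h' i)
    subst hc
    congr 2
    funext l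
    have := congrFun h' (i.succAbove l.1)
    simpa [vec, ZetaPtsLib.fillIn, l.2] using this
  · rintro ⟨v, hv⟩
    let s := Finset.univ.filter fun j : Fin (N + 1) => v j ≠ 0
    have hs : s.Nonempty := (Function.ne_iff.1 hv).imp fun j hj => Finset.mem_filter.2 ⟨Finset.mem_univ _, hj⟩
    obtain ⟨i, hidef⟩ : ∃ i, s.min' hs = i := ⟨_, rfl⟩
    have hmem : i ∈ s := hidef ▸ s.min'_mem hs
    have hi : v i ≠ 0 := (Finset.mem_filter.1 hmem).2
    have hlo : ∀ j, j < i → v j = 0 := fun j hj => by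
      by_contra hne
      exact absurd (hidef ▸ s.min'_le j (Finset.mem_filter.2 ⟨Finset.mem_univ _, hne⟩) : i ≤ j) (not_le.2 hj)
    refine ⟨⟨Units.mk0 (v i) hi, i, fun l => (v i)⁻¹ * v (i.succAbove l.1)⟩, Subtype.ext (funext fun j => ?_)⟩
    rcases Fin.eq_self_or_eq_succAbove i j with rfl | ⟨l, rfl⟩
    · simp [vec]
    · simp only [Pi.smul_apply, vec, Fin.insertNth_apply_succAbove, ZetaPtsLib.fillIn, smul_eq_mul, Units.val_mk0]
      split_ifs with hl
      · rw [mul_inv_cancel_left₀ hi]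
      · rw [mul_zero, hlo]
        rw [Fin.succAbove_of_castSucc_lt _ _ (by simpa [Fin.lt_def] using hl)]
        simpa [Fin.lt_def] using hl

theorem exists_lift {Z P : Scheme.{u}} (ι : Z ⟶ P) [IsClosedImmersion ι] (g : Spec (CommRingCat.of k) ⟶ P)
    (z : Spec (CommRingCat.of k)) (h : g z ∈ Set.range ι) : ∃ l, l ≫ ι = g := by
  obtain ⟨y, hy⟩ := h
  haveI : IsReduced (Spec (CommRingCat.of k)) := inferInstance
  haveI : Subsingleton ↥(Spec (CommRingCat.of k)) := inferInstanceAs (Subsingleton (PrimeSpectrum k))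
  have hiso : IsIso (pullback.snd ι g) := by
    haveI : IsClosedImmersion (pullback.snd ι g) := MorphismProperty.pullback_snd _ _ inferInstance
    haveI : Surjective (pullback.snd ι g) := ⟨fun x => by
      obtain ⟨w, -, hw⟩ := Scheme.Pullback.exists_preimage_pullback y x (hy.trans (congrArg g (Subsingleton.elim z x)))
      exact ⟨w, hw⟩⟩
    exact isIso_of_isClosedImmersion_of_surjective _
  exact ⟨inv (pullback.snd ι g) ≫ pullback.fst ι g, by rw [Category.assoc, pullback.condition, IsIso.inv_hom_id_assoc]⟩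

theorem card_points {n : ℕ} (Q : LefPen.Form (n + 1) k 2) [Fintype k] :
    (SgaExt.pointCount ((LefPen.hypIdeal Q).subschemeι ≫ CohB1.ProjSpace.toSpec (n + 1) k) k : ℤ) *
      ((Fintype.card k : ℤ) - 1) + 1 = (QuadCountLib.zc (QuadCountLib.qf ((mem_homogeneousSubmodule 2 _).1 Q.2)) : ℤ) := by
  classical
  let ι := (LefPen.hypIdeal Q).subschemeι
  let z₀ : Spec (CommRingCat.of k) := (⟨⊥, Ideal.isPrime_bot⟩ : PrimeSpectrum k)
  let Tp := Σ i : Fin (n + 1 + 1), {l : Fin (n + 1) // (i : ℕ) ≤ l} → k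
  have hcard : SgaExt.pointCount (ι ≫ CohB1.ProjSpace.toSpec (n + 1) k) k =
      Nat.card {p : Tp // eval (vec p) Q.1 = 0} := by
    have hr : ∀ p : {p : Tp // eval (vec p) Q.1 = 0}, (ZetaPtsLib.toPt (n + 1) k k p.1).1 z₀ ∈ Set.range ι := fun p => by
      show _ ∈ Set.range (LefPen.hypIdeal Q).subschemeι
      rw [Scheme.IdealSheafData.range_subschemeι]
      exact (mem_hyp_iff Q p.1 z₀).2 p.2
    refine (Nat.card_congr (Equiv.ofBijective (fun p : {p : Tp // eval (vec p) Q.1 = 0} =>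
      (⟨(exists_lift ι (ZetaPtsLib.toPt (n + 1) k k p.1).1 z₀ (hr p)).choose, ?_⟩ :
        { g : Spec (CommRingCat.of k) ⟶ (LefPen.hypIdeal Q).subscheme //
          g ≫ ι ≫ CohB1.ProjSpace.toSpec (n + 1) k = Spec.map (CommRingCat.ofHom (algebraMap k k)) })) ⟨?_, ?_⟩)).symm
    · rw [← Category.assoc, (exists_lift ι (ZetaPtsLib.toPt (n + 1) k k p.1).1 z₀ (hr p)).choose_spec]
      exact (ZetaPtsLib.toPt (n + 1) k k p.1).2
    · intro p p' h
      have h0 := congrArg (fun g => g ≫ ι) (congrArg Subtype.val h)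
      have h' : (ZetaPtsLib.toPt (n + 1) k k p.1).1 = (ZetaPtsLib.toPt (n + 1) k k p'.1).1 :=
        (exists_lift ι (ZetaPtsLib.toPt (n + 1) k k p.1).1 z₀ (hr p)).choose_spec.symm.trans
          (h0.trans (exists_lift ι (ZetaPtsLib.toPt (n + 1) k k p'.1).1 z₀ (hr p')).choose_spec)
      exact Subtype.ext ((ZetaPtsLib.toPt_bijective (n + 1) k (K := k)).1 (Subtype.ext h'))
    · rintro ⟨g, hg⟩
      obtain ⟨p, hp⟩ := (ZetaPtsLib.toPt_bijective (n + 1) k (K := k)).2 ⟨g ≫ ι, by rw [Category.assoc, hg]⟩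
      have hp' : (ZetaPtsLib.toPt (n + 1) k k p).1 = g ≫ ι := congrArg Subtype.val hp
      have hmem : eval (vec p) Q.1 = 0 := (mem_hyp_iff Q p z₀).1 (by
        rw [hp', ← SetLike.mem_coe, ← Scheme.IdealSheafData.range_subschemeι, Scheme.Hom.comp_apply]
        exact ⟨_, rfl⟩)
      refine ⟨⟨p, hmem⟩, Subtype.ext ?_⟩
      rw [← cancel_mono ι]
      exact (exists_lift ι (ZetaPtsLib.toPt (n + 1) k k p).1 z₀ (hr ⟨p, hmem⟩)).choose_spec.trans hp'
  haveI : Finite Tp := Finite.of_fintype Tp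
  have hbij : Function.Bijective (fun cp : kˣ × {p : Tp // eval (vec p) Q.1 = 0} =>
      (⟨(cp.1 : k) • vec cp.2.1, fun h => cp.1.ne_zero (by simpa [vec_self] using congrFun h cp.2.1.1), by
        rw [QuadCountLib.eval_smul ((mem_homogeneousSubmodule 2 _).1 Q.2), cp.2.2, mul_zero]⟩ :
        {v : Fin (n + 1 + 1) → k // v ≠ 0 ∧ eval v Q.1 = 0})) := by
    refine ⟨fun a b h => ?_, fun v => ?_⟩
    · have := scale_bijective.1 (a₁ := (a.1, a.2.1)) (a₂ := (b.1, b.2.1)) (Subtype.ext (congrArg Subtype.val h :))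
      exact Prod.ext (congrArg Prod.fst this :) (Subtype.ext (congrArg Prod.snd this :))
    · obtain ⟨⟨c, p⟩, hcp⟩ := scale_bijective.2 ⟨v.1, v.2.1⟩
      have hv : (c : k) • vec p = v.1 := congrArg Subtype.val hcp
      refine ⟨(c, ⟨p, ?_⟩), Subtype.ext hv⟩
      have h2 := v.2.2
      rw [← hv, QuadCountLib.eval_smul ((mem_homogeneousSubmodule 2 _).1 Q.2)] at h2
      exact (mul_eq_zero.1 h2).resolve_left (mul_ne_zero c.ne_zero c.ne_zero)
  have h1 := Nat.card_eq_of_bijective _ hbij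
  rw [Nat.card_prod, Nat.card_units, Nat.card_eq_fintype_card (α := k), ← hcard] at h1
  have h2 : QuadCountLib.zc (QuadCountLib.qf ((mem_homogeneousSubmodule 2 _).1 Q.2)) =
      Nat.card {v : Fin (n + 1 + 1) → k // v ≠ 0 ∧ eval v Q.1 = 0} + 1 := by
    rw [QuadCountLib.zc, ← Finite.card_option]
    refine Nat.card_congr ?_
    refine
      { toFun := fun v => if h : v.1 = 0 then none else some ⟨v.1, h, v.2⟩
        invFun := fun o => o.elim ⟨0, map_zero _⟩ fun v => ⟨v.1, v.2.2⟩
        left_inv := fun v => ?_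
        right_inv := fun o => ?_ }
    · by_cases h : v.1 = 0
      · show Option.elim (dite _ _ _) _ _ = v
        exact (congrArg (fun o => Option.elim o _ _) (dif_pos h)).trans (Subtype.ext h.symm)
      · show Option.elim (dite _ _ _) _ _ = v
        exact congrArg (fun o => Option.elim o _ _) (dif_neg h)
    · rcases o with _ | v
      · simp
      · show dite _ _ _ = _
        exact dif_neg v.2.1
  rw [h2, ← h1]
  push_cast [Nat.cast_sub (Fintype.card_pos (α := k))]
  ring

theorem geom_identity (q : ℤ) (m : ℕ) : (∑ i ∈ Finset.range m, q ^ i) * (q - 1) + 1 = q ^ m := by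
  rw [geom_sum_mul]; ring



/-- Let k be a finite field with q elements, n ≥ 0, and Q a quadratic form in n + 2 variables over k
whose zero scheme X = V(Q) ⊆ P^{n+1}_k is smooth over k of relative dimension n (a smooth quadric of
dimension n over k). Then the number of k-rational points of X is Σ_{i=0}^{n} q^i if n is odd, and
Σ_{i=0}^{n} q^i + ε q^{n/2} with ε = 1 or ε = -1 if n is even, where ε = 1 exactly when X is split,
i.e. contains a k-rational linear subspace of dimension n/2 (Q vanishes on a subspace of k^{n+2} of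
dimension n/2 + 1). -/
theorem result (k : Type u) [Field k] [Fintype k] (n : ℕ) (Q : LefPen.Form (n + 1) k 2)
    [SmoothOfRelativeDimension n ((LefPen.hypIdeal Q).subschemeι ≫ CohB1.ProjSpace.toSpec (n + 1) k)] :
    (Odd n → (SgaExt.pointCount ((LefPen.hypIdeal Q).subschemeι ≫ CohB1.ProjSpace.toSpec (n + 1) k) k : ℤ) =
      ∑ i ∈ Finset.range (n + 1), (Fintype.card k : ℤ) ^ i) ∧
    (Even n → ∃ ε : ℤ, (ε = 1 ∨ ε = -1) ∧
      (SgaExt.pointCount ((LefPen.hypIdeal Q).subschemeι ≫ CohB1.ProjSpace.toSpec (n + 1) k) k : ℤ) =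
        (∑ i ∈ Finset.range (n + 1), (Fintype.card k : ℤ) ^ i) + ε * (Fintype.card k : ℤ) ^ (n / 2) ∧
      (ε = 1 ↔ ∃ W : Submodule k (Fin (n + 1 + 1) → k), Module.finrank k ↥W = n / 2 + 1 ∧
        ∀ w ∈ W, MvPolynomial.eval w Q.1 = 0)) := by
  have hreg := reg_of_smooth Q
  have hc := card_points Q
  have hfr : Module.finrank k (Fin (n + 1 + 1) → k) = n + 2 := Module.finrank_fin_fun k
  have hq : ((Fintype.card k : ℤ) - 1) ≠ 0 := by
    have := Fintype.one_lt_card (α := k)
    omega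
  refine ⟨fun hodd => ?_, fun heven => ?_⟩
  · obtain ⟨m, rfl⟩ := hodd
    have h := QuadCountLib.zc_odd (m + 1) _ _ hreg (by omega)
    rw [h] at hc
    push_cast at hc
    refine mul_right_cancel₀ hq (add_right_cancel (b := 1) ?_)
    rw [hc, geom_identity, show 2 * (m + 1) = 2 * m + 1 + 1 by ring]
  · obtain ⟨m, rfl⟩ := heven
    obtain ⟨ε, hε, h, hS⟩ := QuadCountLib.zc_even m _ _ hreg (by omega)
    refine ⟨ε, hε, ?_, ?_⟩
    · rw [h] at hc
      refine mul_right_cancel₀ hq (add_right_cancel (b := 1) ?_)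
      rw [hc, show (m + m) / 2 = m by omega, add_mul,
        show ∀ a b : ℤ, a + b + 1 = (a + 1) + b from fun a b => by ring, geom_identity]
      ring
    · rw [show (m + m) / 2 + 1 = m + 1 by omega]
      exact hS

end Groth.Agent.S4039
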