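import Groth.Statements.S4047
import Mathlib
import Groth.Agent.AxKatzLib.Digits
-- import your own Groth.Agent.* helpers here

set_option autoImplicit false
universe u
open LefPen

namespace Groth.Agent.S4047

/-- Let k be a finite field with q elements, F a homogeneous form of degree d > 0 in N variables over k,
and j a natural number with j d < N. Then q^j divides the number of zeros of F in k^N. -/
theorem result (k : Type u) [Field k] [Fintype k] [DecidableEq k] (N d j : ℕ)
    (hd : 0 < d) (F : MvPolynomial (Fin N) k) (hF : F.IsHomogeneous d) (hj : j * d < N) :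
    Fintype.card k ^ j ∣ Fintype.card {x : Fin N → k // MvPolynomial.eval x F = 0} := by
  classical
  obtain ⟨p, hchar⟩ := CharP.exists k
  obtain ⟨⟨f, hf0⟩, hp, hq⟩ := FiniteField.card k p
  change Fintype.card k = p ^ f at hq
  haveI : Fact p.Prime := ⟨hp⟩
  haveI : PerfectRing k p := PerfectRing.ofFiniteOfIsReduced p k
  obtain ⟨W, iW, iD, ε, T, hT0, hpp, hp0⟩ : ∃ (W : Type u) (_ : CommRing W) (_ : IsDomain W)
      (ε : W →+* k) (T : k →* W), (∀ a, ε (T a) = a) ∧ (∀ y, ε y = 0 → (p : W) ∣ y) ∧ (p : W) ≠ 0 :=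
    ⟨WittVector p k, inferInstance, inferInstance, WittVector.constantCoeff, WittVector.teichmuller p,
      fun a => WittVector.teichmuller_coeff_zero p a,
      fun y hy => Ideal.mem_span_singleton.mp ((WittVector.mem_span_p_iff_coeff_zero_eq_zero y).mpr hy),
      WittVector.p_nonzero p k⟩
  have hTinj : Function.Injective T := fun a b h => by rw [← hT0 a, h, hT0]
  set q := Fintype.card k with hqdef
  have hq1 : 1 < q := Fintype.one_lt_card
  let M := f * j
  let K := (p ^ f - 1) * p ^ M
  let E : ((Fin N →₀ ℕ) → ℕ) → Fin N → ℕ := fun κ n => ∑ u ∈ F.support, κ u * u n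
  let S : ℕ → W := fun e => ∑ a : k, T a ^ e
  let G : (Fin N → k) → W := fun x =>
    ∑ u ∈ F.support, T (F.coeff u) * ∏ n, T (x n) ^ u n
  have hG : ∀ x, ε (G x) = MvPolynomial.eval x F := by
    intro x
    simp only [G, map_sum, map_mul, map_prod, map_pow, hT0, MvPolynomial.eval_eq']
  -- each character sum
  have hS : ∀ e, 0 < e → ¬ (q - 1 ∣ e) → S e = 0 := by
    intro e he hdvd
    obtain ⟨g, hg⟩ : ∃ g : kˣ, g ^ e ≠ 1 := by
      by_contra hcon
      push_neg at hcon
      exact hdvd ((FiniteField.forall_pow_eq_one_iff k e).mp hcon)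
    have h1 : T (g : k) ^ e * S e = S e := by
      simp only [S, Finset.mul_sum, ← mul_pow, ← map_mul]
      exact Fintype.sum_equiv (Equiv.mulLeft₀ (g : k) g.ne_zero) _ _ (fun a => rfl)
    have h2 : (T (g : k) ^ e - 1) * S e = 0 := by rw [sub_mul, h1, one_mul, sub_self]
    rcases mul_eq_zero.mp h2 with h3 | h3
    · exfalso
      apply hg
      apply Units.ext
      rw [Units.val_pow_eq_pow_val, Units.val_one]
      apply hTinj
      rw [map_pow, map_one]
      exact sub_eq_zero.mp h3
    · exact h3
  have hS0 : S 0 = (p : W) ^ f := by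
    simp only [S, pow_zero, Finset.sum_const, Finset.card_univ, nsmul_eq_mul, mul_one]
    rw [← hqdef, hq, Nat.cast_pow]
  -- each term of the expansion
  have hterm : ∀ κ ∈ F.support.piAntidiag K,
      (p : W) ^ (f * j) ∣ (Nat.multinomial F.support κ : W) * ∏ n, S (E κ n) := by
    intro κ hκ
    rw [Finset.mem_piAntidiag] at hκ
    set Z := Finset.univ.filter (fun n => E κ n = 0) with hZ
    by_cases hdiv : ∀ n, q - 1 ∣ E κ n
    · set V := padicValNat p (Nat.multinomial F.support κ) with hV
      have hzdvd : (p : W) ^ (f * Z.card) ∣ ∏ n, S (E κ n) := by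
        rw [← Finset.prod_mul_prod_compl Z]
        refine Dvd.dvd.mul_right ?_ _
        rw [Finset.prod_congr rfl (g := fun _ => (p : W) ^ f) (fun n hn => by
          rw [hZ, Finset.mem_filter] at hn
          rw [hn.2, hS0]), Finset.prod_const, ← pow_mul]
      have hvdvd : (p : W) ^ V ∣ (Nat.multinomial F.support κ : W) := by
        rw [← Nat.cast_pow]
        exact Nat.cast_dvd_cast pow_padicValNat_dvd
      refine dvd_trans (pow_dvd_pow _ ?_) ((pow_add (p : W) V (f * Z.card)) ▸ mul_dvd_mul hvdvd hzdvd)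
      -- f * j ≤ V + f * Z.card
      by_cases hs : Z.card = N
      · rw [hs]
        have : j ≤ N := le_trans (Nat.le_mul_of_pos_right j hd) hj.le
        exact le_add_left (Nat.mul_le_mul_left f this)
      have hrot : ∀ (l : List ℕ) (i : ℕ), (AxKatzLib.rot p f l i : ZMod (q - 1))
          = (p : ZMod (q - 1)) ^ i * (Nat.ofDigits p l : ℕ) := fun l i =>
        AxKatzLib.rot_cast p f (q - 1) (by rw [← hq]; omega) l i
      let w : (Fin N →₀ ℕ) → ℕ → ℕ := fun u i => AxKatzLib.rot p f (p.digits (κ u)) i
      have hwsum : ∀ i, q - 1 ∣ ∑ u ∈ F.support, w u i := by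
        intro i
        rw [← ZMod.natCast_eq_zero_iff, Nat.cast_sum]
        simp only [w, hrot, Nat.ofDigits_digits, ← Finset.mul_sum, ← Nat.cast_sum, hκ.1]
        have : ((p ^ f - 1 : ℕ) : ZMod (q - 1)) = 0 := by rw [← hq, ZMod.natCast_self]
        simp only [K, Nat.cast_mul, this, zero_mul, mul_zero]
      choose c hc using hwsum
      have hcoord : ∀ i n, n ∉ Z → q - 1 ≤ ∑ u ∈ F.support, u n * w u i := by
        intro i n hn
        rw [hZ, Finset.mem_filter] at hn
        simp only [Finset.mem_univ, true_and] at hn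
        refine Nat.le_of_dvd ?_ ?_
        · obtain ⟨u, hu, hne⟩ := Finset.exists_ne_zero_of_sum_ne_zero hn
          refine lt_of_lt_of_le (Nat.pos_of_ne_zero ?_) (Finset.single_le_sum (f := fun u => u n * w u i) (fun _ _ => Nat.zero_le _) hu)
          refine mul_ne_zero (fun h => hne (by rw [h, mul_zero])) (fun h => hne ?_)
          have := AxKatzLib.ofDigits_eq_zero_of_rot p f hp.one_lt.le _ i h
          rw [Nat.ofDigits_digits] at this
          rw [this, zero_mul]
        · rw [← ZMod.natCast_eq_zero_iff, Nat.cast_sum]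
          simp only [w, Nat.cast_mul, hrot, Nat.ofDigits_digits]
          have h0 : (E κ n : ZMod (q - 1)) = 0 := (ZMod.natCast_eq_zero_iff _ _).mpr (hdiv n)
          simp only [E, Nat.cast_sum, Nat.cast_mul] at h0
          calc ∑ u ∈ F.support, (u n : ZMod (q - 1)) * ((p : ZMod (q - 1)) ^ i * (κ u : ZMod (q - 1)))
              = (p : ZMod (q - 1)) ^ i * ∑ u ∈ F.support, (κ u : ZMod (q - 1)) * (u n : ZMod (q - 1)) := by
                rw [Finset.mul_sum]; exact Finset.sum_congr rfl fun u _ => by ring
            _ = 0 := by rw [h0, mul_zero]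
      have hZN : Z.card ≤ N := le_trans (Finset.card_le_univ Z) (by simp)
      have hcard : Zᶜ.card = N - Z.card := by rw [Finset.card_compl, Fintype.card_fin]
      have hci : ∀ i, N - Z.card ≤ d * c i := by
        intro i
        have h1 : (q - 1) * Zᶜ.card ≤ ∑ n : Fin N, ∑ u ∈ F.support, u n * w u i := by
          refine le_trans ?_ (Finset.sum_le_sum_of_subset (Finset.subset_univ Zᶜ))
          rw [mul_comm, ← smul_eq_mul, ← Finset.sum_const]
          exact Finset.sum_le_sum fun n hn => hcoord i n (Finset.mem_compl.mp hn)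
        have h2 : ∑ n : Fin N, ∑ u ∈ F.support, u n * w u i = d * ((q - 1) * c i) := by
          rw [Finset.sum_comm, ← hc i, Finset.mul_sum]
          refine Finset.sum_congr rfl fun u hu => ?_
          rw [← Finset.sum_mul]
          congr 1
          have := hF (MvPolynomial.mem_support_iff.mp hu)
          rw [Finsupp.weight_apply, Finsupp.sum_fintype _ _ (fun i => by simp)] at this
          simpa using this
        rw [h2, hcard, mul_left_comm] at h1
        exact Nat.le_of_mul_le_mul_left h1 (by omega)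
      have hj1 : ∀ i, j + 1 ≤ Z.card + c i := by
        intro i
        have := hci i
        by_contra hcon
        push_neg at hcon
        have h3 : d * (Z.card + c i) ≤ d * j := Nat.mul_le_mul_left d (by omega)
        have h4 : Z.card ≤ d * Z.card := Nat.le_mul_of_pos_left _ hd
        rw [mul_add] at h3
        rw [mul_comm j d] at hj
        omega
      have hsum : (p - 1) * ∑ i ∈ Finset.range f, c i = ∑ u ∈ F.support, (p.digits (κ u)).sum := by
        apply Nat.eq_of_mul_eq_mul_right (show 0 < q - 1 by omega)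
        calc (p - 1) * (∑ i ∈ Finset.range f, c i) * (q - 1)
            = (p - 1) * ∑ i ∈ Finset.range f, ∑ u ∈ F.support, w u i := by
              simp only [hc, ← Finset.mul_sum]; ring
          _ = ∑ u ∈ F.support, (p - 1) * ∑ i ∈ Finset.range f, w u i := by
              rw [Finset.sum_comm, Finset.mul_sum]
          _ = _ := by
              simp only [w, AxKatzLib.sum_rot p f hp.one_lt.le, ← hq, Finset.sum_mul]
      have hval := AxKatzLib.sum_multinomial_val p F.support κ
      rw [hκ.1, AxKatzLib.digits_sum_pred_pow_mul p hp.one_lt, ← hsum, mul_comm f (p - 1), ← mul_add,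
        ← hV] at hval
      have hval' : V + f = ∑ i ∈ Finset.range f, c i :=
        Nat.eq_of_mul_eq_mul_left (by have := hp.two_le; omega) hval
      have h5 : f * (j + 1) ≤ ∑ i ∈ Finset.range f, (Z.card + c i) := by
        have := Finset.card_nsmul_le_sum (Finset.range f) (fun i => Z.card + c i) (j + 1) (fun i _ => hj1 i)
        simpa using this
      rw [Finset.sum_add_distrib, Finset.sum_const, Finset.card_range, smul_eq_mul, ← hval', mul_add,
        mul_one] at h5
      omega
    · push_neg at hdiv
      obtain ⟨n, hn⟩ := hdiv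
      rw [Finset.prod_eq_zero (Finset.mem_univ n) (hS _ (Nat.pos_of_ne_zero fun h => hn (by rw [h]; exact dvd_zero _)) hn),
        mul_zero]
      exact dvd_zero _
  -- expansion
  have hpow : (p : W) ^ (f * j) ∣ ∑ x, G x ^ K := by
    simp only [G, Finset.sum_pow_eq_sum_piAntidiag]
    rw [Finset.sum_comm]
    refine Finset.dvd_sum fun κ hκ => ?_
    have h1 : ∑ x : Fin N → k, (Nat.multinomial F.support κ : W) *
          ∏ u ∈ F.support, (T (F.coeff u) * ∏ n, T (x n) ^ u n) ^ κ u =
        (∏ u ∈ F.support, T (F.coeff u) ^ κ u) *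
          ((Nat.multinomial F.support κ : W) * ∏ n, S (E κ n)) := by
      simp only [S]
      rw [Fintype.prod_sum, Finset.mul_sum, Finset.mul_sum]
      refine Finset.sum_congr rfl fun x _ => ?_
      rw [Finset.prod_congr rfl (fun u _ => mul_pow _ _ (κ u)), Finset.prod_mul_distrib]
      have h2 : ∏ u ∈ F.support, (∏ n, T (x n) ^ u n) ^ κ u = ∏ n, T (x n) ^ E κ n := by
        simp only [E, ← Finset.prod_pow_eq_pow_sum, ← Finset.prod_pow, ← pow_mul]
        rw [Finset.prod_comm]
        simp only [mul_comm]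
      rw [h2]
      ring
    rw [h1]
    exact Dvd.dvd.mul_left (hterm κ hκ) _
  have hind : ∀ x, (p : W) ^ (f * j) ∣
      ((if MvPolynomial.eval x F = 0 then 1 else 0 : ℕ) : W) - (1 - G x ^ K) := by
    intro x
    split_ifs with h
    · rw [Nat.cast_one, sub_sub_cancel]
      refine dvd_trans (pow_dvd_pow _ ?_) (pow_dvd_pow_of_dvd (hpp _ (by rw [hG, h])) K)
      calc f * j ≤ 1 * p ^ M := by rw [one_mul]; exact (Nat.lt_pow_self hp.one_lt).le
        _ ≤ K := Nat.mul_le_mul_right _ (by rw [← hq]; omega)
    · rw [Nat.cast_zero, zero_sub, neg_sub]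
      have h1 : (p : W) ∣ G x ^ (p ^ f - 1) - 1 := by
        apply hpp
        rw [map_sub, map_pow, map_one, hG, ← hq, FiniteField.pow_card_sub_one_eq_one _ h, sub_self]
      have h2 := dvd_sub_pow_of_dvd_sub h1 M
      rw [one_pow, ← pow_mul] at h2
      exact dvd_trans (pow_dvd_pow _ (Nat.le_succ M)) h2
  have hW : (p : W) ^ (f * j) ∣ ((Fintype.card {x : Fin N → k // MvPolynomial.eval x F = 0} : ℕ) : W) := by
    have h1 := Finset.dvd_sum (s := Finset.univ) (fun x _ => hind x)
    rw [Finset.sum_sub_distrib, ← Nat.cast_sum, Finset.sum_boole, ← Fintype.card_subtype,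
      Finset.sum_sub_distrib, Finset.sum_const, Finset.card_univ, nsmul_eq_mul, mul_one] at h1
    have h2 : (p : W) ^ (f * j) ∣ ((Fintype.card (Fin N → k) : ℕ) : W) := by
      rw [Fintype.card_fun, Fintype.card_fin, ← hqdef, hq, ← pow_mul, Nat.cast_pow]
      exact pow_dvd_pow _ (Nat.mul_le_mul_left f (le_trans (Nat.le_mul_of_pos_right j hd) hj.le))
    simp only [Nat.cast_id] at h1
    have h3 := dvd_add h1 (dvd_sub h2 hpow)
    simpa using h3
  -- descent to ℕ
  rw [hq, ← pow_mul]
  set C := Fintype.card {x : Fin N → k // MvPolynomial.eval x F = 0}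
  by_cases hC : C = 0
  · rw [hC]; exact dvd_zero _
  obtain ⟨v, m, hm, hCvm⟩ := Nat.exists_eq_pow_mul_and_not_dvd hC p hp.ne_one
  rw [hCvm]
  refine Dvd.dvd.mul_right (pow_dvd_pow p ?_) m
  by_contra hlt
  push_neg at hlt
  obtain ⟨b, hb⟩ := hW
  rw [hCvm, Nat.cast_mul, Nat.cast_pow] at hb
  obtain ⟨r, hr⟩ := Nat.exists_eq_add_of_lt hlt
  rw [hr, pow_succ, pow_add, mul_assoc, mul_assoc] at hb
  have h4 := mul_left_cancel₀ (pow_ne_zero v hp0) hb
  have h5 := congrArg ε h4
  simp only [map_natCast, map_mul, map_pow, CharP.cast_eq_zero k p, zero_mul, mul_zero] at h5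
  exact hm ((CharP.cast_eq_zero_iff k p m).mp h5)

end Groth.Agent.S4047
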