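import Groth.Statements.S4057
import Groth.Agent.S4056
import Groth.Agent.UnipKerLib.NoGa
import Groth.Agent.InertiaPtsLib.Points

set_option autoImplicit false
set_option backward.isDefEq.respectTransparency false
set_option maxHeartbeats 1000000
universe u
open CategoryTheory CategoryTheory.Limits MonoidalCategory CartesianMonoidalCategory AlgebraicGeometry MonObj
open SGA7

namespace Groth.Agent.S4057

/-- Let R -> R' be an injective homomorphism of Dedekind domains (a dominant morphism of the spectra)
with fraction fields K and K', N a group scheme over Spec R which is a Néron model of its generic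
fibre (an abelian variety over K) and whose geometric fibres contain no copy of the additive group
(semistable reduction), and N' a group scheme over Spec R' which is a Néron model of its generic
fibre. Then every homomorphism u : N ×_R R' -> N' of group schemes over Spec R' which is an
isomorphism on generic fibres is an open immersion. -/
theorem result (R K R' K' : Type u) [CommRing R] [IsDedekindDomain R]
    [Field K] [Algebra R K] [IsFractionRing R K] [CommRing R'] [IsDedekindDomain R']
    [Field K'] [Algebra R' K'] [IsFractionRing R' K']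
    (φ : R →+* R') (hφ : Function.Injective φ)
    (N : Over (Spec (CommRingCat.of R))) [GrpObj N] (hN : SGA7.IsNeron R K N)
    [IsProper ((SGA7.genFib R K).obj N).hom] [GeometricallyIntegral ((SGA7.genFib R K).obj N).hom]
    (hss : SGA7.FibresUnipotentRankZero N)
    (N' : Over (Spec (CommRingCat.of R'))) [GrpObj N'] (hN' : SGA7.IsNeron R' K' N')
    (u : Red.bc (Spec.map (CommRingCat.ofHom φ)) N ⟶ N') [IsMonHom u] [IsIso ((SGA7.genFib R' K').map u)] :
    IsOpenImmersion u.left := by
  haveI := hN.1
  haveI := hN.2.1
  haveI := hN.2.2.1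
  haveI := InertiaPtsLib.isCommMonObj_neron N hN
  let ξ := Spec.map (CommRingCat.ofHom φ)
  let B := Red.bc ξ N
  haveI : Smooth B.hom := inferInstanceAs (Smooth (pullback.snd N.hom ξ))
  haveI : IsSeparated B.hom := inferInstanceAs (IsSeparated (pullback.snd N.hom ξ))
  haveI : QuasiCompact B.hom := inferInstanceAs (QuasiCompact (pullback.snd N.hom ξ))
  have hB : SGA7.FibresUnipotentRankZero B := fun s' j hj hjc => by
    obtain ⟨e, he⟩ := AlbLib.exists_bc_comp (Red.geomPt s') ξ N
    exact UnipKerLib.noGa_iso _ e (fun j' hj' hjc' =>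
      UnipKerLib.noGa_point _ N (hss _) (Red.geomPt s' ≫ ξ) rfl j' hj' hjc') j hj hjc
  let ξK := Spec.map (CommRingCat.ofHom (algebraMap R K))
  let ξK' := Spec.map (CommRingCat.ofHom (algebraMap R' K'))
  let ψ : K →+* K' := IsFractionRing.lift (g := (algebraMap R' K').comp φ) ((IsFractionRing.injective R' K').comp hφ)
  let g := Spec.map (CommRingCat.ofHom ψ)
  have hg : g ≫ ξK = ξK' ≫ ξ := by
    rw [← Spec.map_comp, ← Spec.map_comp]
    congr 1
    exact CommRingCat.hom_ext (RingHom.ext fun r => IsFractionRing.lift_algebraMap (g := (algebraMap R' K').comp φ)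
      ((IsFractionRing.injective R' K').comp hφ) r)
  obtain ⟨e₁, -⟩ := AlbLib.exists_bc_comp ξK' ξ N
  obtain ⟨e₂, -⟩ := AlbLib.exists_bc_comp g ξK N
  let e : Red.bc g ((SGA7.genFib R K).obj N) ≅ (SGA7.genFib R' K').obj N' :=
    e₂.symm ≪≫ eqToIso (congrArg (fun ζ => Red.bc ζ N) hg) ≪≫ e₁ ≪≫ asIso ((SGA7.genFib R' K').map u)
  haveI hp : IsProper (Red.bc g ((SGA7.genFib R K).obj N)).hom :=
    inferInstanceAs (IsProper (pullback.snd ((SGA7.genFib R K).obj N).hom g))
  haveI hgi : GeometricallyIntegral (Red.bc g ((SGA7.genFib R K).obj N)).hom :=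
    inferInstanceAs (GeometricallyIntegral (pullback.snd ((SGA7.genFib R K).obj N).hom g))
  have hl : ((SGA7.genFib R' K').obj N').hom = e.inv.left ≫ (Red.bc g ((SGA7.genFib R K).obj N)).hom :=
    (Over.w e.inv).symm
  haveI : IsIso e.inv.left := inferInstance
  haveI : IsProper ((SGA7.genFib R' K').obj N').hom := by
    rw [hl]; exact (MorphismProperty.cancel_left_of_respectsIso @IsProper _ _).2 hp
  haveI : GeometricallyIntegral ((SGA7.genFib R' K').obj N').hom := by
    rw [hl]; exact (MorphismProperty.cancel_left_of_respectsIso @GeometricallyIntegral _ _).2 hgi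
  exact Groth.Agent.S4056.result R' K' N' hN' B hB u

end Groth.Agent.S4057
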