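import Groth.Statements.S4058
import Groth.Agent.NeronProperLib.Basic
import Groth.Agent.SubmDescLib.Sections

set_option autoImplicit false
set_option backward.isDefEq.respectTransparency false
universe u
open CategoryTheory CategoryTheory.Limits AlgebraicGeometry MonObj
open SGA7
open MonoidalCategory CartesianMonoidalCategory

namespace Groth.Agent.S4058

/-- (iii) ⇒ (iv): let R be a discrete valuation ring with fraction field K and residue field k, and N a
group scheme over Spec R which is a Néron model of its generic fibre, an abelian variety over K. If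
the special fibre N ×_R k is proper over k, then N is proper over Spec R. (In (iii) as published the
special fibre is an abelian variety; connectedness of the special fibre is not assumed here.) -/
theorem result (R K : Type u) [CommRing R] [IsDomain R] [IsDiscreteValuationRing R] [Field K]
    [Algebra R K] [IsFractionRing R K]
    (N : Over (Spec (CommRingCat.of R))) [GrpObj N] (hN : SGA7.IsNeron R K N)
    [IsProper ((SGA7.genFib R K).obj N).hom] [GeometricallyIntegral ((SGA7.genFib R K).obj N).hom]
    [IsProper (Red.bc (Spec.map (CommRingCat.ofHom (IsLocalRing.residue R))) N).hom] :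
    IsProper N.hom := by
  obtain ⟨hsm, hsep, hqc, -⟩ := hN
  haveI := hsm
  haveI := hsep
  haveI := hqc
  let g : Spec (CommRingCat.of R) ⟶ N.left := (η[N] : 𝟙_ _ ⟶ N).left
  have hg : g ≫ N.hom = 𝟙 _ := Over.w (η[N] : 𝟙_ _ ⟶ N)
  let c : Spec (CommRingCat.of R) := IsLocalRing.closedPoint R
  let s := Spec.map (CommRingCat.ofHom (IsLocalRing.residue R))
  haveI : IsClosedImmersion s := IsClosedImmersion.spec_of_surjective _ IsLocalRing.residue_surjective
  have hrange : Set.range ((Spec (CommRingCat.of R)).fromSpecResidueField c) ⊆ Set.range s := by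
    rw [Scheme.range_fromSpecResidueField]
    rintro _ rfl
    exact ⟨IsLocalRing.closedPoint (IsLocalRing.ResidueField R),
      SubmDescLib.closedPoint_map (IsLocalRing.residue R) IsLocalRing.residue_surjective _⟩
  let v := IsClosedImmersion.lift s _ (DvrProperLib.ker_le_ker_of_range_subset s
    ((Spec (CommRingCat.of R)).fromSpecResidueField c) hrange)
  have hv : v ≫ s = (Spec (CommRingCat.of R)).fromSpecResidueField c := IsClosedImmersion.lift_fac _ _ _
  haveI : IsProper (pullback.snd N.hom s) := ‹IsProper (Red.bc s N).hom›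
  haveI : IsProper (N.hom.fiberToSpecResidueField c) := by
    have sq : IsPullback (N.hom.fiberι c) (N.hom.fiberToSpecResidueField c) N.hom (v ≫ s) := by
      rw [hv]; exact IsPullback.of_hasPullback _ _
    exact MorphismProperty.of_isPullback (P := @IsProper)
      (IsPullback.of_right (h₁₁ := (IsPullback.of_hasPullback N.hom s).lift (N.hom.fiberι c)
          (N.hom.fiberToSpecResidueField c ≫ v) (by rw [sq.w, Category.assoc]))
        (by rw [IsPullback.lift_fst]; exact sq) (IsPullback.lift_snd _ _ _ _)
        (IsPullback.of_hasPullback N.hom s)).flip.flip inferInstance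
  have hop := SecNhdLib.isOpen_comp_fiber (f := N.hom) hg c
  have hset : (N.hom.fiberι c).base ⁻¹' MoreMor.sectionComponents N.hom g =
      (N.hom.fiberι c).base ⁻¹' SecCompLib.comp N.hom g c := by
    rw [← SecNhdLib.sectionComponents_inter_fibre (f := N.hom) (g := g) c, Set.preimage_inter]
    refine (Set.inter_eq_left.2 fun w _ => ?_).symm
    exact (Scheme.Hom.range_fiberι N.hom c).le ⟨w, rfl⟩
  have hcl : IsClosed (SecCompLib.comp N.hom g c) := by
    refine NeronProperLib.isClosed_component (IsClosed.preimage N.hom.continuous ?_) (SecCompLib.apply_section hg c)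
    exact (PrimeSpectrum.isClosed_singleton_iff_isMaximal _).mpr (IsLocalRing.maximalIdeal.isMaximal R)
  have hop' : IsOpen ((N.hom.fiberι c).base ⁻¹' SecCompLib.comp N.hom g c) := hset ▸ hop
  have hprop : IsProper (Scheme.Opens.ι (⟨(N.hom.fiberι c).base ⁻¹' SecCompLib.comp N.hom g c, hop'⟩ :
      (N.hom.fiber c).Opens) ≫ N.hom.fiberToSpecResidueField c) := by
    haveI : IsClosedImmersion (Scheme.Opens.ι (⟨(N.hom.fiberι c).base ⁻¹' SecCompLib.comp N.hom g c, hop'⟩ :
        (N.hom.fiber c).Opens)) :=
      IsClosedImmersion.of_isPreimmersion _ (by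
        rw [Scheme.Opens.range_ι]; exact hcl.preimage (N.hom.fiberι c).base.hom.continuous)
    infer_instance
  obtain ⟨U, hcU, hC, hP⟩ := SecNhdLib.exists_proper_nhd N.hom g hg c hop' hprop
  have htop : U = ⊤ := eq_top_iff.2 fun z _ =>
    (IsLocalRing.specializes_closedPoint (show PrimeSpectrum R from z)).mem_open U.isOpen hcU
  refine NeronProperLib.isProper_of_top N.hom U htop (NeronProperLib.isProper_of_univ _ ⟨_, hC⟩ ?_ hP)
  refine Set.eq_univ_of_forall fun w => ?_
  let gK := Spec.map (CommRingCat.ofHom (algebraMap R K))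
  let η₀ : Spec (CommRingCat.of R) := (⟨⊥, Ideal.isPrime_bot⟩ : PrimeSpectrum R)
  have hgen : Set.range gK = {η₀} := by
    refine Set.eq_singleton_iff_nonempty_unique_mem.2 ⟨Set.range_nonempty _, ?_⟩
    rintro _ ⟨k, rfl⟩
    refine PrimeSpectrum.ext ?_
    show (show PrimeSpectrum K from k).asIdeal.comap (algebraMap R K) = ⊥
    rw [Ideal.eq_bot_of_prime (show PrimeSpectrum K from k).asIdeal]
    exact (RingHom.injective_iff_ker_eq_bot _).1 (IsFractionRing.injective R K)
  have hpre : _root_.IsPreconnected (N.hom ⁻¹' {η₀}) := by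
    haveI : IsIntegral (pullback N.hom gK) := by
      haveI : GeometricallyIntegral (pullback.snd N.hom gK) :=
        ‹GeometricallyIntegral ((SGA7.genFib R K).obj N).hom›
      exact GeometricallyIntegral.isIntegral_of_subsingleton (pullback.snd N.hom gK)
    rw [← hgen, ← Scheme.Pullback.range_fst]
    exact isPreconnected_range (pullback.fst N.hom gK).base.hom.continuous
  have hle : η₀ ⤳ N.hom ((N.hom ⁻¹ᵁ U).ι w) := (PrimeSpectrum.le_iff_specializes _ _).1 bot_le
  obtain ⟨z, hzw, hz⟩ := Flat.generalizingMap N.hom hle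
  have hzZ : z ∈ MoreMor.sectionComponents N.hom g := by
    show z ∈ connectedComponentIn (N.hom ⁻¹' {N.hom z}) (g (N.hom z))
    rw [hz, hpre.connectedComponentIn (show g η₀ ∈ N.hom ⁻¹' {η₀} from SecCompLib.apply_section hg η₀)]
    exact hz
  have hzU : z ∈ N.hom ⁻¹ᵁ U := show N.hom z ∈ U from htop ▸ trivial
  have hsp : (⟨z, hzU⟩ : ↥(N.hom ⁻¹ᵁ U)) ⤳ w :=
    (N.hom ⁻¹ᵁ U).ι.isOpenEmbedding.isInducing.specializes_iff.1 hzw
  exact hsp.mem_closed hC hzZ

end Groth.Agent.S4058
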