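import Groth.Statements.S4062
import Groth.Agent.GrothMonoLib.Gal

set_option autoImplicit false
set_option linter.style.haveILetI false
set_option backward.isDefEq.respectTransparency false
set_option backward.isDefEq.respectTransparency.types false

set_option autoImplicit false
universe u
open CategoryTheory CategoryTheory.Limits AlgebraicGeometry MonObj
open SGA7

namespace Groth.Agent.S4062

/-- Let R be a henselian discrete valuation ring with fraction field K and residue field k, λ a prime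
invertible in k, Ω a separable closure of K (Aut_K(Ω) carries the Krull topology), W a valuation
subring of Ω lying over R, and ρ a continuous homomorphism from Aut_K(Ω) to GL_n(ℚ_λ). Assume that
no finite extension of k contains all roots of unity of λ-power order (for every finite extension k'
there is some λ^m such that k' has no primitive λ^m-th root of unity). Then there is an open
subgroup I₁ of Aut_K(Ω) such that ρ(σ) is unipotent for every σ in I₁ lying in the inertia group at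
W. -/
theorem result (R K Ω : Type u) [CommRing R] [IsDomain R]
    [IsDiscreteValuationRing R] [HenselianLocalRing R] [Field K] [Algebra R K] [IsFractionRing R K]
    [Field Ω] [Algebra K Ω] [IsSepClosure K Ω] (W : ValuationSubring Ω) (hW : SGA7.LiesOver K R W)
    (lam : ℕ) [Fact lam.Prime] (hlam : (lam : IsLocalRing.ResidueField R) ≠ 0)
    (hstar : ∀ (k' : Type u) [Field k'] [Algebra (IsLocalRing.ResidueField R) k'],
      FiniteDimensional (IsLocalRing.ResidueField R) k' → ∃ m : ℕ, ∀ ζ : k', ¬ IsPrimitiveRoot ζ (lam ^ m))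
    (n : ℕ) (ρ : (Ω ≃ₐ[K] Ω) →* Matrix.GeneralLinearGroup (Fin n) (Padic lam)) (hρ : Continuous ρ) :
    ∃ I₁ : OpenSubgroup (Ω ≃ₐ[K] Ω), ∀ σ : Ω ≃ₐ[K] Ω, σ ∈ I₁ → SGA7.IsInertia W σ →
      IsNilpotent ((ρ σ : Matrix (Fin n) (Fin n) (Padic lam)) - 1) := by
  classical
  letI : Algebra R Ω := ((algebraMap K Ω).comp (algebraMap R K)).toAlgebra
  haveI : IsScalarTower R K Ω := IsScalarTower.of_algebraMap_eq fun _ => rfl
  haveI : IsSepClosed Ω := IsSepClosure.sep_closed K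
  haveI : Algebra.IsSeparable K Ω := IsSepClosure.separable
  haveI : IsGalois K Ω := IsSepClosure.isGalois
  have hR : ∀ r : R, algebraMap R Ω r ∈ W := hW.1
  -- `lam` is a unit
  have hlamW : W.valuation (lam : Ω) = 1 := by
    have hu : IsUnit (lam : R) := IsLocalRing.notMem_maximalIdeal.1 fun h => hlam (by
      rw [← map_natCast (IsLocalRing.residue R), IsLocalRing.residue_eq_zero_iff]; exact h)
    obtain ⟨v, hv⟩ := isUnit_iff_exists_inv.1 hu
    refine le_antisymm ((W.valuation_le_one_iff _).2 (natCast_mem _ _)) ?_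
    have h1 : (1 : Ω) = (lam : Ω) * algebraMap R Ω v := by
      rw [← map_natCast (algebraMap R Ω), ← map_mul, hv, map_one]
    calc (1 : W.ValueGroup) = W.valuation (lam : Ω) * W.valuation (algebraMap R Ω v) := by
          rw [← map_mul, ← h1, map_one]
      _ ≤ W.valuation (lam : Ω) * 1 := by
          gcongr; exact (W.valuation_le_one_iff _).2 (hR v)
      _ = _ := _root_.mul_one _
  haveI : NeZero (lam : Ω) := ⟨fun h => by rw [h, map_zero] at hlamW; exact zero_ne_one hlamW⟩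
  haveI hen : ∀ i : ℕ, HasEnoughRootsOfUnity Ω (lam ^ i) := fun i =>
    IsSepClosed.hasEnoughRootsOfUnity_pow Ω lam i
  have hpowW : ∀ N : ℕ, W.valuation ((lam ^ N : ℕ) : Ω) = 1 := fun N => by
    rw [Nat.cast_pow, map_pow, hlamW, one_pow]
  let χ : (Ω ≃ₐ[K] Ω) →* ℤ_[lam]ˣ :=
    (cyclotomicCharacter Ω lam).comp (MulSemiringAction.toRingAut (Ω ≃ₐ[K] Ω) Ω)
  have hχ : ∀ (g : Ω ≃ₐ[K] Ω) (N : ℕ) (t : Ω), t ^ lam ^ N = 1 →
      g t = t ^ (PadicInt.toZModPow N ((χ g : ℤ_[lam]ˣ) : ℤ_[lam])).val :=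
    fun g N t ht => cyclotomicCharacter.spec lam (MulSemiringAction.toRingAut (Ω ≃ₐ[K] Ω) Ω g) t ht
  -- a small open subgroup
  let r : ℝ := ((lam : ℝ) ^ (2 : ℕ))⁻¹
  have hr : 0 < r := by have := (Fact.out : lam.Prime).pos; positivity
  have hopen : {σ : Ω ≃ₐ[K] Ω | ∀ i j, ‖((ρ σ : Matrix (Fin n) (Fin n) (Padic lam)) - 1) i j‖ < r} ∈
      nhds 1 := by
    refine IsOpen.mem_nhds ?_ (fun i j => by simpa using hr)
    have hc : Continuous fun σ => (ρ σ : Matrix (Fin n) (Fin n) (Padic lam)) :=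
      Units.continuous_val.comp hρ
    simp only [Set.setOf_forall]
    refine isOpen_iInter_of_finite fun i => isOpen_iInter_of_finite fun j => ?_
    exact isOpen_lt (((hc.sub continuous_const).matrix_elem i j).norm) continuous_const
  obtain ⟨E₀, hE₀⟩ := (InfiniteGalois.krullTopology_mem_nhds_one_iff_of_isGalois _).1 hopen
  obtain ⟨ζ₂, hζ₂⟩ := HasEnoughRootsOfUnity.exists_primitiveRoot Ω (lam ^ 2)
  let E : FiniteGaloisIntermediateField K Ω :=
    E₀ ⊔ FiniteGaloisIntermediateField.adjoin K ({ζ₂} : Set Ω)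
  have hE0 : (E.fixingSubgroup : Set (Ω ≃ₐ[K] Ω)) ⊆
      {σ | ∀ i j, ‖((ρ σ : Matrix (Fin n) (Fin n) (Padic lam)) - 1) i j‖ < r} := fun σ hσ =>
    hE₀ (IntermediateField.fixingSubgroup_antitone (show E₀.toIntermediateField ≤ E.toIntermediateField from
      le_sup_left (a := E₀.toIntermediateField)) hσ)
  have hζE : ζ₂ ∈ E.toIntermediateField :=
    (show (FiniteGaloisIntermediateField.adjoin K ({ζ₂} : Set Ω)).toIntermediateField ≤ E.toIntermediateField from
      le_sup_right (b := (FiniteGaloisIntermediateField.adjoin K ({ζ₂} : Set Ω)).toIntermediateField))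
      (FiniteGaloisIntermediateField.subset_adjoin K _ rfl)
  let H : Subgroup (Ω ≃ₐ[K] Ω) := E.fixingSubgroup
  have hHopen : IsOpen (H : Set (Ω ≃ₐ[K] Ω)) := IntermediateField.fixingSubgroup_isOpen E.toIntermediateField
  -- integral matrices
  have hint : ∀ (σ : H) (i j), ‖(ρ σ : Matrix (Fin n) (Fin n) (Padic lam)) i j‖ ≤ 1 := by
    intro σ i j
    have h1 : r ≤ 1 := by
      refine inv_le_one_of_one_le₀ (one_le_pow₀ ?_)
      exact_mod_cast (Fact.out : lam.Prime).one_lt.le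
    have h2 := (hE0 σ.2 i j).le.trans h1
    have h3 : (ρ σ : Matrix (Fin n) (Fin n) (Padic lam)) i j =
        ((ρ σ : Matrix (Fin n) (Fin n) (Padic lam)) - 1) i j + (1 : Matrix (Fin n) (Fin n) (Padic lam)) i j := by
      simp
    rw [h3]
    refine (Padic.nonarchimedean _ _).trans (max_le h2 ?_)
    rw [Matrix.one_apply]; split_ifs <;> simp
  let toQ := (PadicInt.Coe.ringHom (p := lam)).mapMatrix (m := Fin n)
  have hQ : Function.Injective toQ := fun a b h => Matrix.map_injective Subtype.val_injective h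
  let φ₀ : H → Matrix (Fin n) (Fin n) ℤ_[lam] := fun σ => Matrix.of fun i j => ⟨_, hint σ i j⟩
  have hφ₀ : ∀ σ, toQ (φ₀ σ) = (ρ σ : Matrix (Fin n) (Fin n) (Padic lam)) := fun σ => rfl
  let φ : H →* Matrix (Fin n) (Fin n) ℤ_[lam] :=
    { toFun := φ₀
      map_one' := hQ (by rw [hφ₀, map_one]; simp)
      map_mul' := fun a b => hQ (by rw [map_mul, hφ₀, hφ₀, hφ₀]; simp) }
  have hφ : ∀ σ : H, (lam : Matrix (Fin n) (Fin n) ℤ_[lam]) ^ 2 ∣ φ σ - 1 := fun σ => by
    rw [GrothMonoLib.pow_dvd_iff]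
    intro i j
    rw [← Ideal.mem_span_singleton, ← PadicInt.norm_le_pow_iff_mem_span_pow]
    have h1 := (hE0 σ.2 i j).le
    rw [show (-(2 : ℕ) : ℤ) = -((2 : ℕ) : ℤ) from rfl, zpow_neg, zpow_natCast]
    refine le_trans (le_of_eq ?_) h1
    rw [PadicInt.norm_def, ← hφ₀ σ]
    congr 1
    simp [toQ, φ, Matrix.one_apply]
    split_ifs <;> simp
  have hφc : Continuous φ := by
    refine continuous_matrix fun i j => ?_
    refine Continuous.subtype_mk ?_ _
    exact ((Units.continuous_val.comp hρ).comp continuous_subtype_val).matrix_elem i j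
  have hχH : ∀ g : H, (lam : ℤ_[lam]) ^ 2 ∣ ((χ g : ℤ_[lam]ˣ) : ℤ_[lam]) - 1 := by
    intro g
    rw [← Ideal.mem_span_singleton, ← PadicInt.ker_toZModPow, RingHom.mem_ker, map_sub, map_one,
      sub_eq_zero]
    have h2 := hχ g 2 ζ₂ hζ₂.pow_eq_one
    rw [(IntermediateField.mem_fixingSubgroup_iff _ _).1 g.2 ζ₂ hζE] at h2
    haveI : Fact (1 < lam ^ 2) := ⟨Nat.one_lt_pow two_ne_zero (Fact.out : lam.Prime).one_lt⟩
    have h3 := hζ₂.pow_inj (i := 1) Fact.out (ZMod.val_lt _) (by rw [pow_one]; exact h2)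
    exact ZMod.val_injective _ (h3.symm.trans (ZMod.val_one _).symm)
  -- some element acts on roots of unity with infinite order
  obtain ⟨g, hg⟩ : ∃ g : H, ((χ g : ℤ_[lam]ˣ) : ℤ_[lam]) ≠ 1 := by
    by_contra hne
    push Not at hne
    let B := integralClosure R E.toIntermediateField
    haveI : IsScalarTower R K E.toIntermediateField := IsScalarTower.of_algebraMap_eq fun _ => rfl
    haveI : Module.Finite R B := IsIntegralClosure.finite R K E.toIntermediateField B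
    haveI : IsLocalRing B := HensFormalLib.isLocalRing_of_integral_domain R B
    haveI : IsLocalHom (algebraMap R B) := (algebraMap_isIntegral_iff.2 inferInstance).isLocalHom
      (fun a b h => by
        have h' : algebraMap K Ω (algebraMap R K a) = algebraMap K Ω (algebraMap R K b) :=
          congrArg (fun t : B => ((t : E.toIntermediateField) : Ω)) h
        exact IsFractionRing.injective R K ((algebraMap K Ω).injective h'))
    obtain ⟨m, hm⟩ := hstar (IsLocalRing.ResidueField B) inferInstance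
    obtain ⟨ζ, hζ⟩ := HasEnoughRootsOfUnity.exists_primitiveRoot Ω (lam ^ m)
    have hζmem : ζ ∈ E.toIntermediateField := by
      rw [← InfiniteGalois.fixedField_fixingSubgroup E.toIntermediateField]
      intro g
      show (g : Ω ≃ₐ[K] Ω) ζ = ζ
      rw [hχ g m ζ hζ.pow_eq_one, hne ⟨g.1, g.2⟩, map_one]
      rcases Nat.eq_zero_or_pos m with rfl | hm0
      · have : ζ = 1 := by simpa using hζ.pow_eq_one
        rw [this, one_pow]
      haveI : Fact (1 < lam ^ m) := ⟨Nat.one_lt_pow hm0.ne' (Fact.out : lam.Prime).one_lt⟩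
      rw [ZMod.val_one, pow_one]
    let z : B := ⟨⟨ζ, hζmem⟩, IsIntegral.of_pow (pow_pos (Fact.out : lam.Prime).pos m)
      (by rw [show (⟨ζ, hζmem⟩ : E.toIntermediateField) ^ lam ^ m = 1 from Subtype.ext hζ.pow_eq_one]; exact isIntegral_one)⟩
    have hz : IsPrimitiveRoot z (lam ^ m) :=
      IsPrimitiveRoot.of_map_of_injective (f := (E.toIntermediateField.val.toRingHom.comp B.val.toRingHom))
        hζ (fun a b h => Subtype.ext (Subtype.ext h))
    refine hm (IsLocalRing.residue B z) ?_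
    haveI : NeZero ((lam ^ m : ℕ) : IsLocalRing.ResidueField B) := ⟨fun h => by
      rw [Nat.cast_pow] at h
      have h1 : (lam : IsLocalRing.ResidueField B) = 0 := eq_zero_of_pow_eq_zero h
      rw [← map_natCast (algebraMap (IsLocalRing.ResidueField R) (IsLocalRing.ResidueField B)),
        map_eq_zero] at h1
      exact hlam h1⟩
    haveI : NeZero ((lam ^ m : ℕ) : B) := ⟨fun h => NeZero.ne ((lam ^ m : ℕ) : IsLocalRing.ResidueField B)
      (by rw [← map_natCast (IsLocalRing.residue B), h, map_zero])⟩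
    rw [← Polynomial.isRoot_cyclotomic_iff, ← Polynomial.map_cyclotomic _ (IsLocalRing.residue B)]
    exact (Polynomial.isRoot_cyclotomic_iff.2 hz).map
  refine ⟨⟨H, hHopen⟩, fun σ hσ hI => ?_⟩
  let s : H := ⟨σ, hσ⟩
  suffices h : IsNilpotent (φ s - 1) by
    have := h.map toQ
    rw [map_sub, map_one] at this
    exact this
  refine GrothMonoLib.isNilpotent_of_conj (φ.toHomUnits g) (φ s) (hφ s) _ (hχH g) hg fun N => ?_
  let d : ℕ := (PadicInt.toZModPow N ((χ g : ℤ_[lam]ˣ) : ℤ_[lam])).val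
  refine ⟨d, ?_, ?_⟩
  · rw [← Ideal.mem_span_singleton, ← PadicInt.ker_toZModPow, RingHom.mem_ker, map_sub, map_natCast,
      sub_eq_zero]
    haveI : NeZero (lam ^ N) := ⟨pow_ne_zero _ (Fact.out : lam.Prime).ne_zero⟩
    exact ZMod.natCast_rightInverse _
  have hφinv : ((φ.toHomUnits g)⁻¹ : (Matrix (Fin n) (Fin n) ℤ_[lam])ˣ).val = φ g⁻¹ := by
    rw [← map_inv]; rfl
  rw [hφinv, MonoidHom.coe_toHomUnits, ← map_mul, ← map_mul, ← map_pow]
  let e : H := (s ^ d)⁻¹ * (g * s * g⁻¹)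
  have hprod : φ (g * s * g⁻¹) = φ (s ^ d) * φ e := by rw [← map_mul, _root_.mul_inv_cancel_left]
  suffices he : (lam : Matrix (Fin n) (Fin n) ℤ_[lam]) ^ N ∣ φ e - 1 by
    obtain ⟨Z, hZ⟩ := he
    refine ⟨φ (s ^ d) * Z, ?_⟩
    rw [hprod, ← _root_.mul_assoc, ((Nat.cast_commute lam (φ (s ^ d))).pow_left N).eq, _root_.mul_assoc, ← hZ, mul_sub, _root_.mul_one]
  -- the level `N` kernel
  let Nker : Subgroup (Ω ≃ₐ[K] Ω) := (Subgroup.map H.subtype
    ({ carrier := {τ : H | (lam : Matrix (Fin n) (Fin n) ℤ_[lam]) ^ N ∣ φ τ - 1}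
       one_mem' := by simp
       mul_mem' := fun {a b} ha hb => by
        show _ ∣ φ (a * b) - 1
        rw [map_mul, show φ a * φ b - 1 = φ a * (φ b - 1) + (φ a - 1) by rw [mul_sub, _root_.mul_one]; abel]
        obtain ⟨Z, hZ⟩ := hb
        refine dvd_add ⟨φ a * Z, ?_⟩ ha
        rw [hZ, ← _root_.mul_assoc, ← _root_.mul_assoc, ((Nat.cast_commute lam (φ a)).pow_left N).eq]
       inv_mem' := fun {a} ha => by
        show _ ∣ φ a⁻¹ - 1
        obtain ⟨Z, hZ⟩ := ha
        refine ⟨-(φ a⁻¹ * Z), ?_⟩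
        rw [mul_neg, ← _root_.mul_assoc, ((Nat.cast_commute lam (φ a⁻¹)).pow_left N).eq, _root_.mul_assoc, ← hZ,
          mul_sub, _root_.mul_one, ← map_mul, _root_.inv_mul_cancel, map_one]
        abel } : Subgroup H))
  have hNker : ∀ τ, τ ∈ Nker ↔ ∃ h : τ ∈ H, (lam : Matrix (Fin n) (Fin n) ℤ_[lam]) ^ N ∣ φ ⟨τ, h⟩ - 1 := by
    intro τ
    constructor
    · rintro ⟨t, ht, rfl⟩; exact ⟨t.2, ht⟩
    · rintro ⟨h, ht⟩; exact ⟨⟨τ, h⟩, ht, rfl⟩
  have hNopen : IsOpen (Nker : Set (Ω ≃ₐ[K] Ω)) := by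
    refine Subgroup.isOpen_of_mem_nhds _ (g := 1) ?_
    have h1 : IsOpen (φ ⁻¹' {x | ∀ i j, ‖(x - 1) i j‖ < (lam : ℝ) ^ (-(N : ℤ) + 1)}) := by
      refine IsOpen.preimage hφc ?_
      simp only [Set.setOf_forall]
      refine isOpen_iInter_of_finite fun i => isOpen_iInter_of_finite fun j => ?_
      exact isOpen_lt ((((continuous_id.sub continuous_const) : Continuous fun x : Matrix (Fin n) (Fin n) ℤ_[lam] => x - 1).matrix_elem i j).norm) continuous_const
    have h2 := hHopen.isOpenMap_subtype_val _ h1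
    refine Filter.mem_of_superset (h2.mem_nhds ⟨1, ?_, rfl⟩) ?_
    · intro i j
      have : 0 < (lam : ℝ) ^ (-(N : ℤ) + 1) := zpow_pos (Nat.cast_pos.2 (Fact.out : lam.Prime).pos) _
      simpa using this
    · rintro _ ⟨τ, hτ, rfl⟩
      refine (hNker _).2 ⟨τ.2, ?_⟩
      rw [GrothMonoLib.pow_dvd_iff]
      intro i j
      rw [← Ideal.mem_span_singleton, ← PadicInt.norm_le_pow_iff_mem_span_pow,
        PadicInt.norm_le_pow_iff_norm_lt_pow_add_one]
      exact hτ i j
  have hpowN : ∀ t : H, ((t : Ω ≃ₐ[K] Ω) ^ lam ^ N) ∈ Nker := fun t => by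
    refine (hNker _).2 ⟨pow_mem t.2 _, ?_⟩
    obtain ⟨U, -, -, hU⟩ := GrothMonoLib.exists_log (φ t) (hφ t) N
    rw [show (⟨(t : Ω ≃ₐ[K] Ω) ^ lam ^ N, pow_mem t.2 _⟩ : H) = t ^ lam ^ N from rfl, map_pow, hU]
    exact Dvd.intro _ rfl
  let CN : ClosedSubgroup (Ω ≃ₐ[K] Ω) := ⟨Nker, OpenSubgroup.isClosed ⟨Nker, hNopen⟩⟩
  let L := IntermediateField.fixedField Nker
  have hLfix : ∀ (t : H), ∀ y ∈ L, ((t : Ω ≃ₐ[K] Ω) ^ lam ^ N) y = y := fun t y hy =>
    hy ⟨_, hpowN t⟩
  have hLstab : ∀ (t : H), ∀ y ∈ L, (t : Ω ≃ₐ[K] Ω) y ∈ L := by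
    intro t y hy τ
    show (τ : Ω ≃ₐ[K] Ω) ((t : Ω ≃ₐ[K] Ω) y) = (t : Ω ≃ₐ[K] Ω) y
    have hconj : (t : Ω ≃ₐ[K] Ω)⁻¹ * τ * t ∈ Nker := by
      obtain ⟨hτH, hτ⟩ := (hNker _).1 τ.2
      refine (hNker _).2 ⟨mul_mem (mul_mem (inv_mem t.2) hτH) t.2, ?_⟩
      obtain ⟨Z, hZ⟩ := hτ
      refine ⟨φ t⁻¹ * Z * φ t, ?_⟩
      rw [show (⟨(t : Ω ≃ₐ[K] Ω)⁻¹ * τ * t, _⟩ : H) = t⁻¹ * ⟨τ, hτH⟩ * t from rfl, map_mul, map_mul,
        eq_add_of_sub_eq hZ, mul_add, _root_.mul_one, add_mul, ← map_mul, _root_.inv_mul_cancel, map_one,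
        ← _root_.mul_assoc, ← _root_.mul_assoc, ← ((Nat.cast_commute lam (φ t⁻¹)).pow_left N).eq]
      simp only [_root_.mul_assoc, add_sub_cancel_right]
    have h1 := hy ⟨_, hconj⟩
    have h2 : (t : Ω ≃ₐ[K] Ω) (((t : Ω ≃ₐ[K] Ω)⁻¹ * (τ : Ω ≃ₐ[K] Ω) * (t : Ω ≃ₐ[K] Ω)) y) =
        (t : Ω ≃ₐ[K] Ω) y := congrArg _ h1
    rw [AlgEquiv.mul_apply, AlgEquiv.mul_apply] at h2
    rwa [show (t : Ω ≃ₐ[K] Ω)⁻¹ = (t : Ω ≃ₐ[K] Ω).symm from rfl, AlgEquiv.apply_symm_apply] at h2
  have hefix : ∀ y ∈ L, (e : Ω ≃ₐ[K] Ω) y = y := by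
    refine GrothMonoLib.eq_of_close (R := R) hW (Fact.out : lam.Prime).pos hlamW (e : Ω ≃ₐ[K] Ω) L
      (hLstab e) (fun y hy hy0 => ?_) N (hLfix e)
    exact GrothMonoLib.tame_relation (R := R) hW (g := (g : Ω ≃ₐ[K] Ω)) hI
      (pow_pos (Fact.out : lam.Prime).pos N) (hpowW N) hy0 (hLfix g⁻¹ y hy) (hLfix s y hy)
      (fun t ht => hχ g N t ht)
  have hemem : (e : Ω ≃ₐ[K] Ω) ∈ (CN : Subgroup (Ω ≃ₐ[K] Ω)) := by
    rw [← InfiniteGalois.fixingSubgroup_fixedField CN]
    exact (IntermediateField.mem_fixingSubgroup_iff _ _).2 hefix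
  obtain ⟨h, hh⟩ := (hNker _).1 hemem
  exact hh

end Groth.Agent.S4062
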