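import Groth.Statements.S4065
import Mathlib.Algebra.Homology.ShortComplex.ShortExact

set_option autoImplicit false
universe w v
open CategoryTheory
open SGA7

namespace Groth.Agent.S4065

/-- Let P -> F -> R and R -> E -> Q be short exact sequences in an abelian category and X a blended
extension of E by F: i : F -> X and p : X -> E with i, p composing to F -> R -> E and with P -> X ->
E and F -> X -> Q short exact. Then u ↦ 1_X + (X -> E -> Q -> P -> F -> X) is a bijection from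
Hom(Q, P) onto the set of endomorphisms φ of X with i φ = i and φ p = p (the automorphisms of the
blended extension; every such φ is invertible), and it turns addition into composition (a group
isomorphism Hom(Q, P) ≅ Aut(X)). -/
theorem result {C : Type w} [Category.{v} C] [Abelian C]
    {P F R E Q X : C} (a : P ⟶ F) (b : F ⟶ R) (wF : a ≫ b = 0)
    (hF : (ShortComplex.mk a b wF).ShortExact) (c : R ⟶ E) (d : E ⟶ Q) (wE : c ≫ d = 0)
    (hE : (ShortComplex.mk c d wE).ShortExact) (i : F ⟶ X) (p : X ⟶ E) (hip : i ≫ p = b ≫ c)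
    (w₁ : (a ≫ i) ≫ p = 0) (h₁ : (ShortComplex.mk (a ≫ i) p w₁).ShortExact)
    (w₂ : i ≫ (p ≫ d) = 0) (h₂ : (ShortComplex.mk i (p ≫ d) w₂).ShortExact) :
    Set.BijOn (fun v : Q ⟶ P => 𝟙 X + p ≫ d ≫ v ≫ a ≫ i) Set.univ
      {φ : X ⟶ X | i ≫ φ = i ∧ φ ≫ p = p} ∧
      ∀ v v' : Q ⟶ P, 𝟙 X + p ≫ d ≫ (v + v') ≫ a ≫ i =
        (𝟙 X + p ≫ d ≫ v ≫ a ≫ i) ≫ (𝟙 X + p ≫ d ≫ v' ≫ a ≫ i) := by
  haveI : Epi (p ≫ d) := h₂.epi_g
  haveI : Mono i := h₂.mono_f
  haveI : Epi p := h₁.epi_g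
  haveI : Mono (a ≫ i) := h₁.mono_f
  have z1 : i ≫ p ≫ d = 0 := w₂
  have z2 : a ≫ i ≫ p = 0 := by rw [← Category.assoc]; exact w₁
  refine ⟨⟨fun v _ => ⟨?_, ?_⟩, fun v _ v' _ he => ?_, fun φ hφ => ?_⟩, fun v v' => ?_⟩
  · show i ≫ (𝟙 X + p ≫ d ≫ v ≫ a ≫ i) = i
    rw [Preadditive.comp_add, Category.comp_id, add_eq_left]
    rw [show i ≫ p ≫ d ≫ v ≫ a ≫ i = (i ≫ p ≫ d) ≫ v ≫ a ≫ i by simp only [Category.assoc], z1,
      Limits.zero_comp]
  · show (𝟙 X + p ≫ d ≫ v ≫ a ≫ i) ≫ p = p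
    rw [Preadditive.add_comp, Category.id_comp, add_eq_left]
    simp only [Category.assoc, z2, Limits.comp_zero]
  · simp only [add_right_inj] at he
    have h' : (p ≫ d) ≫ (v ≫ a ≫ i) = (p ≫ d) ≫ (v' ≫ a ≫ i) := by simpa only [Category.assoc] using he
    rw [cancel_epi] at h'
    have h'' : v ≫ (a ≫ i) = v' ≫ (a ≫ i) := h'
    rwa [cancel_mono] at h''
  · obtain ⟨hi, hp⟩ := hφ
    have hz : i ≫ (φ - 𝟙 X) = 0 := by rw [Preadditive.comp_sub, hi, Category.comp_id, sub_self]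
    let w := h₂.exact.desc (φ - 𝟙 X) hz
    have hw : (p ≫ d) ≫ w = φ - 𝟙 X := h₂.exact.g_desc _ hz
    have hz' : w ≫ p = 0 := by
      rw [← cancel_epi (p ≫ d), ← Category.assoc, hw, Preadditive.sub_comp, hp, Category.id_comp, sub_self,
        Limits.comp_zero]
    let v := h₁.exact.lift w hz'
    have hv : v ≫ (a ≫ i) = w := h₁.exact.lift_f _ hz'
    refine ⟨v, Set.mem_univ _, ?_⟩
    show 𝟙 X + p ≫ d ≫ v ≫ a ≫ i = φ
    rw [hv, ← Category.assoc, hw, add_sub_cancel]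
  · simp only [Preadditive.add_comp, Preadditive.comp_add, Category.id_comp, Category.comp_id, Category.assoc]
    have : ∀ x : E ⟶ X, a ≫ i ≫ p ≫ x = 0 := fun x => by
      rw [show a ≫ i ≫ p ≫ x = (a ≫ i ≫ p) ≫ x by simp only [Category.assoc], z2, Limits.zero_comp]
    rw [this, Limits.comp_zero, Limits.comp_zero, Limits.comp_zero, add_zero]
    abel

end Groth.Agent.S4065
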