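import Groth.Statements.S4066
-- import your own Groth.Agent.* helpers here
import Groth.Agent.NearbyCdLib.Basic

set_option autoImplicit false
universe u
open CategoryTheory CategoryTheory.Limits AlgebraicGeometry MonObj
open SGA7

namespace Groth.Agent.S4066

attribute [local instance] EtSliceLib.pullExact

/-- Let V be a strictly henselian discrete valuation ring (henselian, separably closed residue field)
with fraction field K, Ω a separable closure of K, m an integer invertible in the residue field of
V, f : X -> Spec V of finite type with generic fibre of dimension at most n, x a point of the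
special fibre and Osh a strict henselisation of the local ring of X at x. Then the nearby-cycle
groups at x, H^i(Spec(Osh) ×_V Spec Ω, ℤ/m) (etale cohomology), vanish for i > n. -/
theorem result (V K Ω : Type u) [CommRing V] [IsDomain V] [IsDiscreteValuationRing V] [HenselianLocalRing V]
    [IsSepClosed (IsLocalRing.ResidueField V)] [Field K] [Algebra V K] [IsFractionRing V K]
    [Field Ω] [Algebra K Ω] [IsSepClosure K Ω] [Algebra V Ω] [IsScalarTower V K Ω]
    (m : ℕ) (hm : (m : IsLocalRing.ResidueField V) ≠ 0)
    {X : Scheme.{u}} (f : X ⟶ Spec (CommRingCat.of V)) [LocallyOfFiniteType f] [QuasiCompact f] (n : ℕ)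
    (hn : topologicalKrullDim ↥(pullback f (Spec.map (CommRingCat.ofHom (algebraMap V K)))) ≤ n)
    (x : ↥X) (hx : f.base x = IsLocalRing.closedPoint V)
    (Osh : Type u) [CommRing Osh] [IsLocalRing Osh] [Algebra ↑(X.presheaf.stalk x) Osh]
    [IsLocalHom (algebraMap ↑(X.presheaf.stalk x) Osh)] [Hensel.IsStrictHenselization ↑(X.presheaf.stalk x) Osh]
    (i : ℕ) (hi : n < i) :
    Subsingleton (EtCoh.H (SGA7.nearbyFibre f x Osh Ω)
      (EtCoh.const (SGA7.nearbyFibre f x Osh Ω) (ZMod m)) i) := by
  haveI : IsSepClosed Ω := IsSepClosure.sep_closed K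
  have hm0 : m ≠ 0 := fun h => hm (by simp [h])
  haveI : NeZero m := ⟨hm0⟩
  haveI : IsAffine (SGA7.nearbyFibre f x Osh Ω) := inferInstance
  refine NearbyCdLib.cohDimLE_nearby f hn x Osh (pullback.fst _ _) (pullback.snd _ _) ?_ _
    (EtCurveConsLib.isTorsion_const _ m) i hi
  simpa only [Hens2.specOf, Category.assoc] using IsPullback.of_hasPullback
    (Spec.map (CommRingCat.ofHom (algebraMap ↑(X.presheaf.stalk x) Osh)) ≫ X.fromSpecStalk x ≫ f)
    (Spec.map (CommRingCat.ofHom (algebraMap V Ω)))

end Groth.Agent.S4066
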