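import Groth.Statements.S4067
-- import your own Groth.Agent.* helpers here
import Groth.Agent.NearbyPtLib.Main

set_option autoImplicit false
set_option backward.isDefEq.respectTransparency false
set_option backward.isDefEq.respectTransparency.types false
set_option synthInstance.maxHeartbeats 400000
set_option maxHeartbeats 1000000
universe u
open CategoryTheory CategoryTheory.Limits AlgebraicGeometry MonObj
open SGA7

namespace Groth.Agent.S4067

/-- Let V be a strictly henselian discrete valuation ring with fraction field K, Ω a separable closure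
of K, m an integer invertible in the residue field of V, f : X -> Spec V of finite type, x a point
of the special fibre at which f is smooth (some open neighbourhood of x is smooth over Spec V) and
Osh a strict henselisation of the local ring of X at x. Then the scheme Y = Spec(Osh) ×_V Spec Ω
computing the nearby cycles at x is connected and nonempty (the zeroth nearby-cycle group is ℤ/m)
and H^i(Y, ℤ/m) = 0 for i > 0. -/
theorem result (V K Ω : Type u) [CommRing V] [IsDomain V] [IsDiscreteValuationRing V] [HenselianLocalRing V]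
    [IsSepClosed (IsLocalRing.ResidueField V)] [Field K] [Algebra V K] [IsFractionRing V K]
    [Field Ω] [Algebra K Ω] [IsSepClosure K Ω] [Algebra V Ω] [IsScalarTower V K Ω]
    (m : ℕ) (hm : (m : IsLocalRing.ResidueField V) ≠ 0)
    {X : Scheme.{u}} (f : X ⟶ Spec (CommRingCat.of V)) [LocallyOfFiniteType f] [QuasiCompact f]
    (x : ↥X) (hx : f.base x = IsLocalRing.closedPoint V) (U : X.Opens) (hxU : x ∈ U) [Smooth (U.ι ≫ f)]
    (Osh : Type u) [CommRing Osh] [IsLocalRing Osh] [Algebra ↑(X.presheaf.stalk x) Osh]
    [IsLocalHom (algebraMap ↑(X.presheaf.stalk x) Osh)] [Hensel.IsStrictHenselization ↑(X.presheaf.stalk x) Osh] :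
    ConnectedSpace ↥(SGA7.nearbyFibre f x Osh Ω) ∧
      ∀ i : ℕ, 0 < i → Subsingleton (EtCoh.H (SGA7.nearbyFibre f x Osh Ω)
        (EtCoh.const (SGA7.nearbyFibre f x Osh Ω) (ZMod m)) i) := by
  haveI : IsSepClosed Ω := IsSepClosure.sep_closed K
  obtain ⟨t, rfl⟩ : ∃ t : U.toScheme, U.ι.base t = x := ⟨⟨x, hxU⟩, rfl⟩
  let A := U.toScheme.presheaf.stalk t
  let B := X.presheaf.stalk (U.ι.base t)
  letI : Algebra A B := (inv (U.ι.stalkMap t)).hom.toAlgebra
  haveI : Algebra.WeaklyEtale A B := by
    haveI : Algebra.Etale A B := RingHom.etale_algebraMap.1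
      (RingHom.Etale.of_bijective ((ConcreteCategory.isIso_iff_bijective (inv (U.ι.stalkMap t))).1 inferInstance))
    infer_instance
  letI : Algebra A Osh := ((algebraMap B Osh).comp (inv (U.ι.stalkMap t)).hom).toAlgebra
  haveI : IsScalarTower A B Osh := IsScalarTower.of_algebraMap_eq fun _ => rfl
  haveI : IsLocalHom (algebraMap A Osh) := by
    haveI : IsLocalHom (inv (U.ι.stalkMap t)).hom := inferInstance
    exact RingHom.isLocalHom_comp (algebraMap B Osh) (inv (U.ι.stalkMap t)).hom
  haveI : Hensel.IsStrictHenselization A Osh := Groth.Agent.WEtSHLib.isStrictHenselization_of_weaklyEtale A B Osh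
  have hs : Hens2.specOf U.toScheme t Osh ≫ U.ι ≫ f = Hens2.specOf X (U.ι.base t) Osh ≫ f := by
    show (Spec.map (CommRingCat.ofHom (algebraMap B Osh) |> fun q => inv (U.ι.stalkMap t) ≫ q) ≫ _) ≫ _ = _
    rw [Spec.map_comp, Category.assoc, Category.assoc, ← Scheme.SpecMap_stalkMap_fromSpecStalk_assoc,
      ← Spec.map_comp_assoc (U.ι.stalkMap t), IsIso.hom_inv_id, Spec.map_id, Category.id_comp, ← Category.assoc]
  have h := NearbyPtLib.smooth_nearby (U.ι ≫ f) t hx Osh Ω m hm
  rw [hs] at h
  have e : Hens2.specOf X (U.ι.base t) Osh ≫ f =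
      Spec.map (CommRingCat.ofHom (algebraMap B Osh)) ≫ X.fromSpecStalk (U.ι.base t) ≫ f := Category.assoc _ _ _
  rw [e] at h
  exact h

end Groth.Agent.S4067
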