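import Groth.Statements.S4070
import Groth.Agent.S11108
import Groth.Agent.SubmDescLib.Sections
import Groth.Agent.TorsTupleLib.SepPoints
import Groth.Agent.ProperConnLib.Core

set_option autoImplicit false
set_option backward.isDefEq.respectTransparency false
universe u
open CategoryTheory CategoryTheory.Limits AlgebraicGeometry MonObj
open MonoidalCategory
open SGA7
open MonoidalCategory CartesianMonoidalCategory

namespace Groth.Agent.S4070

/-- Let R be a strictly henselian discrete valuation ring (henselian, separably closed residue field)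
with fraction field K and N a group scheme over Spec R which is a Néron model of its generic fibre,
an abelian variety A over K, so that sections of N over Spec R are the K-points of A. Then the
special fibre of N has finitely many connected components, every one of them is met by a section,
and two sections x, y meet the same connected component if and only if x · y⁻¹ meets the connected
component of the unit section: the component group of the special fibre is A(K) modulo the subgroup
of points reducing into the identity component. -/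
theorem result (R K : Type u) [CommRing R] [IsDomain R] [IsDiscreteValuationRing R] [HenselianLocalRing R]
    [IsSepClosed (IsLocalRing.ResidueField R)] [Field K] [Algebra R K] [IsFractionRing R K]
    (N : Over (Spec (CommRingCat.of R))) [GrpObj N] (hN : SGA7.IsNeron R K N)
    [IsProper ((SGA7.genFib R K).obj N).hom] [GeometricallyIntegral ((SGA7.genFib R K).obj N).hom] :
    (Set.range (SGA7.secComp R N)).Finite ∧
    (∀ z ∈ SGA7.specialFibreSet R N, ∃ x : 𝟙_ (Over (Spec (CommRingCat.of R))) ⟶ N, z ∈ SGA7.secComp R N x) ∧
      ∀ x y : 𝟙_ (Over (Spec (CommRingCat.of R))) ⟶ N,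
        SGA7.secComp R N x = SGA7.secComp R N y ↔ x * y⁻¹ ∈ SGA7.secUnitComp R N := by
  obtain ⟨hsm, hsep, hqc, -⟩ := hN
  haveI := hsm
  haveI := hsep
  haveI := hqc
  let s := Spec.map (CommRingCat.ofHom (IsLocalRing.residue R))
  let i := pullback.fst N.hom s
  let π := pullback.snd N.hom s
  let S := SGA7.specialFibreSet R N
  haveI : Smooth π := MorphismProperty.pullback_snd (P := @Smooth) _ _ inferInstance
  haveI : IsLocallyNoetherian (pullback N.hom s) := LocallyOfFiniteType.isLocallyNoetherian π
  haveI : CompactSpace ↥(pullback N.hom s) := QuasiCompact.compactSpace_of_compactSpace π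
  haveI : IsNoetherian (pullback N.hom s) := {}
  have hs : Set.range s = {IsLocalRing.closedPoint R} := by
    refine Set.eq_singleton_iff_nonempty_unique_mem.2 ⟨Set.range_nonempty _, ?_⟩
    rintro _ ⟨t, rfl⟩
    exact SubmDescLib.closedPoint_map (IsLocalRing.residue R) IsLocalRing.residue_surjective t
  have hrange : Set.range i = S := by
    rw [Scheme.Pullback.range_fst, hs]
    rfl
  have hpre : ∀ {E : Set ↥(pullback N.hom s)}, _root_.IsPreconnected E → ∀ a ∈ E, ∀ b ∈ E,
      connectedComponentIn S (i a) = connectedComponentIn S (i b) := fun {E} hE a ha b hb =>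
    connectedComponentIn_eq ((hE.image i.base i.base.hom.continuous.continuousOn).subset_connectedComponentIn
      ⟨a, ha, rfl⟩ (by rintro _ ⟨w, -, rfl⟩; exact hrange.le ⟨w, rfl⟩) ⟨b, hb, rfl⟩)
  have hsec : ∀ x : 𝟙_ (Over (Spec (CommRingCat.of R))) ⟶ N, x.left.base (IsLocalRing.closedPoint R) ∈ S := fun x => by
    show (x.left ≫ N.hom) (IsLocalRing.closedPoint R) = _
    erw [Over.w x]
    rfl
  refine ⟨?_, fun z hz => ?_, fun x y => ?_⟩
  · refine ((TopologicalSpace.NoetherianSpace.finite_irreducibleComponents (α := ↥(pullback N.hom s))).image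
      fun Z => ⋃ a ∈ Z, connectedComponentIn S (i a)).subset ?_
    rintro _ ⟨x, rfl⟩
    obtain ⟨f₀, hf₀⟩ := hrange.ge (hsec x)
    refine ⟨irreducibleComponent f₀, irreducibleComponent_mem_irreducibleComponents f₀, ?_⟩
    have h := isIrreducible_irreducibleComponent (x := f₀)
    show _ = connectedComponentIn S (x.left.base (IsLocalRing.closedPoint R))
    rw [← hf₀]
    refine Set.Subset.antisymm (Set.iUnion₂_subset fun a ha => ?_) (Set.subset_iUnion₂ (s := fun a _ =>
      connectedComponentIn S (i a)) f₀ mem_irreducibleComponent)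
    rw [hpre h.isConnected.isPreconnected a ha f₀ mem_irreducibleComponent]
  · obtain ⟨f₀, rfl⟩ := hrange.ge hz
    haveI hlc := ProperConnLib.locallyConnectedSpace (pullback N.hom s)
    haveI : LocallyConnectedSpace ↥(Over.mk π).left := hlc
    haveI : Smooth (Over.mk π).hom := inferInstanceAs (Smooth π)
    obtain ⟨a, ha, p, hp⟩ := (Groth.Agent.TorsTuple.dense_rational (Over.mk π)).inter_open_nonempty _
      isOpen_connectedComponent (⟨f₀, mem_connectedComponent⟩ : (connectedComponent f₀).Nonempty)
    let q : Spec (CommRingCat.of (IsLocalRing.ResidueField R)) ⟶ N.left := p.left ≫ i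
    have hq : q ≫ N.hom = s := by
      show (p.left ≫ i) ≫ N.hom = s
      rw [Category.assoc, pullback.condition, ← Category.assoc]
      erw [Over.w p]
      exact Category.id_comp s
    have hqpt : q (IsLocalRing.closedPoint _) = i a := by rw [← hp]; rfl
    obtain ⟨W, hW, haW, -⟩ := exists_isAffineOpen_mem_and_subset (X := N.left) (x := i a) (U := ⊤) trivial
    haveI : IsOpenImmersion hW.fromSpec := hW.isOpenImmersion_fromSpec
    haveI : Smooth (hW.fromSpec ≫ N.hom) := inferInstance
    have hr : Set.range q ⊆ Set.range hW.fromSpec := by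
      rintro _ ⟨t, rfl⟩
      rw [hW.range_fromSpec,
        show t = IsLocalRing.closedPoint _ from Subsingleton.elim (α := PrimeSpectrum _) _ _, hqpt]
      exact haW
    obtain ⟨σ, hσ, hσq⟩ := Groth.Agent.S11108.exists_section_affine R (hW.fromSpec ≫ N.hom)
      (IsOpenImmersion.lift hW.fromSpec q hr) (by rw [IsOpenImmersion.lift_fac_assoc, hq])
    refine ⟨Over.homMk (σ ≫ hW.fromSpec) ((Category.assoc _ _ _).trans hσ), ?_⟩
    have hx : (σ ≫ hW.fromSpec) (IsLocalRing.closedPoint R) = i a := by
      rw [← hqpt, ← IsOpenImmersion.lift_fac hW.fromSpec q hr, ← hσq, Category.assoc,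
        Scheme.Hom.comp_apply s, SubmDescLib.closedPoint_map (IsLocalRing.residue R)
          IsLocalRing.residue_surjective (IsLocalRing.closedPoint (IsLocalRing.ResidueField R))]
    show i f₀ ∈ connectedComponentIn S ((σ ≫ hW.fromSpec) (IsLocalRing.closedPoint R))
    rw [hx, hpre isPreconnected_connectedComponent a ha f₀ mem_connectedComponent]
    exact mem_connectedComponentIn (hrange.le ⟨f₀, rfl⟩)
  · let τ : N ≅ N :=
      { hom := 𝟙 N * (toUnit N ≫ y⁻¹)
        inv := 𝟙 N * (toUnit N ≫ y)
        hom_inv_id := by
          rw [MonObj.comp_mul, Category.comp_id, ← Category.assoc, toUnit_unique (_ ≫ toUnit N) (toUnit N),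
            GrpObj.comp_inv, inv_mul_cancel_right]
        inv_hom_id := by
          rw [MonObj.comp_mul, Category.comp_id, ← Category.assoc, toUnit_unique (_ ≫ toUnit N) (toUnit N),
            GrpObj.comp_inv, mul_inv_cancel_right] }
    let h : ↥N.left ≃ₜ ↥N.left := Scheme.homeoOfIso ((Over.forget _).mapIso τ)
    have hS : h '' S = S := by
      have hw : ∀ (t : N ⟶ N) (w : ↥N.left), N.hom (t.left w) = N.hom w := fun t w => by
        rw [← Scheme.Hom.comp_apply, Over.w]
      ext w
      refine ⟨?_, fun hwS => ⟨τ.inv.left w, (hw τ.inv w).trans hwS, ?_⟩⟩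
      · rintro ⟨v, hv, rfl⟩
        exact (hw τ.hom v).trans hv
      · show τ.hom.left (τ.inv.left w) = w
        rw [← Scheme.Hom.comp_apply, ← Over.comp_left, τ.inv_hom_id]
        rfl
    have hcomp : ∀ a : 𝟙_ (Over (Spec (CommRingCat.of R))) ⟶ N,
        h '' SGA7.secComp R N a = SGA7.secComp R N (a * y⁻¹) := fun a => by
      have e : a ≫ τ.hom = a * y⁻¹ := by
        show a ≫ (𝟙 N * (toUnit N ≫ y⁻¹)) = _
        rw [MonObj.comp_mul, Category.comp_id, ← Category.assoc, toUnit_unique (a ≫ toUnit N) (𝟙 _),
          Category.id_comp]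
      show h '' connectedComponentIn S _ = connectedComponentIn S _
      rw [h.image_connectedComponentIn (hsec a), hS, ← e]
      rfl
    rw [← Set.image_eq_image h.injective, hcomp, hcomp, mul_inv_cancel, ← MonObj.one_eq_one]
    refine ⟨fun e => ?_, fun e => ?_⟩
    · show _ ∈ SGA7.secComp R N η[N]
      rw [← e]
      exact mem_connectedComponentIn (hsec _)
    · exact (connectedComponentIn_eq e).symm

end Groth.Agent.S4070
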