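import Groth.Statements.S4071
import Groth.Agent.S11108
import Groth.Agent.InertiaPtsLib.Points
import Groth.Agent.TorsTupleLib.SepPoints
import Groth.Agent.ProperConnLib.Core
import Groth.Agent.GrpFieldLib.ClosedImage
import Groth.Agent.GrpFieldLib.Identity
import Groth.Agent.GrpFieldLib.Comps

set_option autoImplicit false
set_option backward.isDefEq.respectTransparency false
set_option maxHeartbeats 1000000
universe u
open CategoryTheory CategoryTheory.Limits AlgebraicGeometry MonObj
open MonoidalCategory
open SGA7
open MonoidalCategory CartesianMonoidalCategory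

namespace Groth.Agent.S4071

/-- Let R be a strictly henselian discrete valuation ring with fraction field K, N a group scheme over
Spec R which is a Néron model of its generic fibre, an abelian variety A over K, and n an integer
invertible in the residue field of R. If x is a section of N (a K-point of A) whose n-th power meets
the connected component of the unit section in the special fibre, then there is a section y with y^n
= 1 such that x · y⁻¹ meets the connected component of the unit section: the n-torsion of the
component group is the image of the n-torsion of A(K). -/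
theorem result (R K : Type u) [CommRing R] [IsDomain R] [IsDiscreteValuationRing R] [HenselianLocalRing R]
    [IsSepClosed (IsLocalRing.ResidueField R)] [Field K] [Algebra R K] [IsFractionRing R K]
    (N : Over (Spec (CommRingCat.of R))) [GrpObj N] (hN : SGA7.IsNeron R K N)
    [IsProper ((SGA7.genFib R K).obj N).hom] [GeometricallyIntegral ((SGA7.genFib R K).obj N).hom]
    (n : ℕ) (hn : (n : IsLocalRing.ResidueField R) ≠ 0)
    (x : 𝟙_ (Over (Spec (CommRingCat.of R))) ⟶ N) (hx : x ^ n ∈ SGA7.secUnitComp R N) :
    ∃ y : 𝟙_ (Over (Spec (CommRingCat.of R))) ⟶ N, y ^ n = 1 ∧ x * y⁻¹ ∈ SGA7.secUnitComp R N := by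
  haveI := InertiaPtsLib.isCommMonObj_neron N hN
  obtain ⟨hsm, hsep, -, -⟩ := hN
  haveI := hsm
  haveI := hsep
  let s := Spec.map (CommRingCat.ofHom (IsLocalRing.residue R))
  let k := IsLocalRing.ResidueField R
  let c : Spec (CommRingCat.of k) := IsLocalRing.closedPoint k
  have hsc : s c = IsLocalRing.closedPoint R :=
    SubmDescLib.closedPoint_map (IsLocalRing.residue R) IsLocalRing.residue_surjective c
  let F := Over.pullback s
  let G := F.obj N
  letI : GrpObj G := Functor.grpObjObj
  haveI : IsCommMonObj G := Functor.isCommMonObj_obj (F := F)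
  let i : G.left ⟶ N.left := pullback.fst N.hom s
  haveI : IsClosedImmersion s := IsClosedImmersion.spec_of_surjective _ IsLocalRing.residue_surjective
  haveI : IsClosedImmersion i := MorphismProperty.pullback_fst _ _ inferInstance
  haveI : Smooth G.hom := inferInstanceAs (Smooth (pullback.snd N.hom s))
  haveI : IsLocallyNoetherian G.left := LocallyOfFiniteType.isLocallyNoetherian G.hom
  haveI := ProperConnLib.locallyConnectedSpace G.left
  have hrange : Set.range i = SGA7.specialFibreSet R N := by
    show Set.range (pullback.fst N.hom s) = _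
    rw [Scheme.Pullback.range_fst,
      show Set.range s = {IsLocalRing.closedPoint R} from Set.eq_singleton_iff_nonempty_unique_mem.2
        ⟨Set.range_nonempty _, by
          rintro _ ⟨t, rfl⟩
          exact SubmDescLib.closedPoint_map (IsLocalRing.residue R) IsLocalRing.residue_surjective t⟩]
    rfl
  have hcc : ∀ a, connectedComponentIn (SGA7.specialFibreSet R N) (i a) = i '' connectedComponent a := by
    intro a
    have hsub : connectedComponentIn (SGA7.specialFibreSet R N) (i a) ⊆ Set.range i :=
      (connectedComponentIn_subset _ _).trans hrange.ge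
    refine Set.Subset.antisymm (fun w hw => ?_) ((isPreconnected_connectedComponent.image _
      i.continuous.continuousOn).subset_connectedComponentIn ⟨a, mem_connectedComponent, rfl⟩
      (by rintro _ ⟨v, -, rfl⟩; exact hrange.le ⟨v, rfl⟩))
    obtain ⟨v, rfl⟩ := hsub hw
    have hpre : _root_.IsPreconnected (i ⁻¹' connectedComponentIn (SGA7.specialFibreSet R N) (i a)) := by
      rw [← i.isClosedEmbedding.isInducing.isPreconnected_image, Set.image_preimage_eq_of_subset hsub]
      exact isPreconnected_connectedComponentIn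
    exact ⟨v, hpre.subset_connectedComponent (mem_connectedComponentIn (hrange.le ⟨a, rfl⟩)) hw, rfl⟩
  -- points of the special fibre attached to sections
  let u : 𝟙_ (Over (Spec (CommRingCat.of k))) ⟶ F.obj (𝟙_ (Over (Spec (CommRingCat.of R)))) :=
    Over.homMk (pullback.lift s (𝟙 _) (by
      show s ≫ 𝟙 _ = 𝟙 _ ≫ s
      rw [Category.comp_id, Category.id_comp])) (pullback.lift_snd _ _ _)
  let red : (𝟙_ (Over (Spec (CommRingCat.of R))) ⟶ N) → (𝟙_ (Over (Spec (CommRingCat.of k))) ⟶ G) :=
    fun t => u ≫ F.map t
  have hred : ∀ t, (red t).left ≫ i = s ≫ t.left := fun t => by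
    show ((u ≫ F.map t).left) ≫ pullback.fst N.hom s = _
    simp only [Over.comp_left, Category.assoc, F, Over.pullback_map_left, pullback.lift_fst]
    exact pullback.lift_fst_assoc _ _ _ _
  have hredpt : ∀ t, i ((red t).left c) = t.left (IsLocalRing.closedPoint R) := fun t => by
    rw [← Scheme.Hom.comp_apply, hred, Scheme.Hom.comp_apply]
    exact congrArg (fun z => t.left z) hsc
  have hredone : red 1 = η[G] := by
    show u ≫ F.map 1 = _
    rw [Functor.map_one, MonObj.comp_one, MonObj.one_eq_one]
  have hunit : i (Groth.Agent.GrpField.unitPt G) = (η[N]).left.base (IsLocalRing.closedPoint R) := by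
    show i ((η[G]).left c) = _
    rw [← hredone, hredpt, MonObj.one_eq_one]
  -- the power map on the special fibre
  have hu : IsUnit (n : R) := by
    by_contra hc
    exact hn (by rw [← map_natCast (IsLocalRing.residue R)]; exact (IsLocalRing.residue_eq_zero_iff _).2 hc)
  let φ : N ⟶ N := (𝟙 N) ^ n
  let f : N.left ⟶ N.left := φ.left
  haveI : Etale f := TorsLiftLib.etale_pow N _ hu
  have hψ0 : F.map φ = (𝟙 G) ^ n := by
    show F.map ((𝟙 N) ^ n) = _
    rw [show F.map ((𝟙 N : N ⟶ N) ^ n) = (F.map (𝟙 N)) ^ n from
      map_pow (Functor.homMonoidHom F : (N ⟶ N) →* _) (𝟙 N) n, CategoryTheory.Functor.map_id]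
  haveI : IsMonHom (F.map φ) := by
    rw [hψ0, ← zpow_natCast]; exact AbSchLib.isMonHom_zpow G (n : ℤ)
  have hsq : (F.map φ).left ≫ i = i ≫ f := by
    simp only [F, i, f, Over.pullback_map_left, pullback.lift_fst]
  have hopen : IsOpenMap (F.map φ).left := by
    have outer : IsPullback i ((F.map φ).left ≫ pullback.snd N.hom s) (f ≫ N.hom) s := by
      have h1 : (F.map φ).left ≫ pullback.snd N.hom s = pullback.snd N.hom s := Over.w (F.map φ)
      have h2 : f ≫ N.hom = N.hom := Over.w φ
      rw [h1, h2]
      exact IsPullback.of_hasPullback N.hom s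
    haveI : Smooth (F.map φ).left := MorphismProperty.of_isPullback (P := @Smooth)
      (IsPullback.of_bot outer hsq.symm (IsPullback.of_hasPullback N.hom s)) (inferInstanceAs (Smooth f))
    exact (F.map φ).left.isOpenMap
  obtain ⟨G₀, _, j, _, -, -, hj, -, -⟩ := Groth.Agent.GrpField.exists_identity_component (G := G)
  have hC : connectedComponent (Groth.Agent.GrpField.unitPt G) = Set.range j.left := by
    rw [hj, Groth.Agent.GrpField.connectedComponent_unit]
  have himg : Set.range (j ≫ F.map φ).left = (F.map φ).left '' connectedComponent (Groth.Agent.GrpField.unitPt G) := by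
    rw [hC, Over.comp_left, ← Set.range_comp]; rfl
  have hio : IsOpen (Set.range (j ≫ F.map φ).left) := himg ▸ hopen _ isOpen_connectedComponent
  have hic : IsClosed (Set.range (j ≫ F.map φ).left) :=
    Groth.Agent.GrpField.isClosed_range_hom (j ≫ F.map φ) hio.isLocallyClosed
  have he : Groth.Agent.GrpField.unitPt G ∈ Set.range (j ≫ F.map φ).left := by
    refine ⟨Groth.Agent.GrpField.unitPt G₀, ?_⟩
    show (j ≫ F.map φ).left ((η[G₀]).left c) = (η[G]).left c
    rw [← Scheme.Hom.comp_apply, ← Over.comp_left, IsMonHom.one_hom]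
  have hxn : (red (x ^ n)).left c ∈ connectedComponent (Groth.Agent.GrpField.unitPt G) := by
    have h1 : i ((red (x ^ n)).left c) ∈ i '' connectedComponent (Groth.Agent.GrpField.unitPt G) := by
      rw [← hcc, hredpt, hunit]; exact hx
    exact i.isClosedEmbedding.injective.mem_set_image.1 h1
  have hcover := (isPreconnected_connectedComponent (x := Groth.Agent.GrpField.unitPt G)).subset_isClopen
    ⟨hic, hio⟩ ⟨_, mem_connectedComponent, he⟩ hxn
  rw [himg] at hcover
  obtain ⟨b, hb, hbn⟩ := hcover
  obtain ⟨O', hO', hOC⟩ := i.isClosedEmbedding.isInducing.isOpen_iff.1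
    (isOpen_connectedComponent (x := Groth.Agent.GrpField.unitPt G))
  let ρ : pullback f (x ^ n).left ⟶ Spec (CommRingCat.of R) := pullback.snd f (x ^ n).left
  haveI : Etale ρ := MorphismProperty.pullback_snd _ _ inferInstance
  let Zk : Over (Spec (CommRingCat.of k)) := Over.mk (pullback.snd ρ s)
  haveI : Smooth Zk.hom := MorphismProperty.pullback_snd _ _ (inferInstanceAs (Smooth ρ))
  let q : Zk.left ⟶ N.left := pullback.fst ρ s ≫ pullback.fst f (x ^ n).left
  have hfb : f (i b) = (x ^ n).left (IsLocalRing.closedPoint R) := by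
    rw [← Scheme.Hom.comp_apply, ← hsq, Scheme.Hom.comp_apply, hbn, hredpt]
  obtain ⟨w, hw1, hw2⟩ := Scheme.Pullback.exists_preimage_pullback (f := f) (g := (x ^ n).left) (i b)
    (IsLocalRing.closedPoint R) hfb
  obtain ⟨w₁, hw₁, -⟩ := Scheme.Pullback.exists_preimage_pullback (f := ρ) (g := s) w c (hw2.trans hsc.symm)
  have hne : (q ⁻¹' O').Nonempty := ⟨w₁, by
    show q w₁ ∈ O'
    rw [Scheme.Hom.comp_apply]
    erw [hw₁, hw1]
    exact hOC.ge hb⟩
  obtain ⟨a, ha, p, hp⟩ := (Groth.Agent.TorsTuple.dense_rational Zk).inter_open_nonempty _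
    (hO'.preimage q.continuous) hne
  let qk : Spec (CommRingCat.of k) ⟶ pullback f (x ^ n).left := p.left ≫ pullback.fst ρ s
  have hqk : qk ≫ ρ = s := by
    show (p.left ≫ pullback.fst ρ s) ≫ ρ = s
    rw [Category.assoc, pullback.condition, ← Category.assoc]
    erw [Over.w p]
    exact Category.id_comp s
  obtain ⟨W, hW, haW, -⟩ := exists_isAffineOpen_mem_and_subset (X := pullback f (x ^ n).left) (x := qk c)
    (U := ⊤) trivial
  haveI : IsOpenImmersion hW.fromSpec := hW.isOpenImmersion_fromSpec
  haveI : Smooth (hW.fromSpec ≫ ρ) := inferInstance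
  have hr : Set.range qk ⊆ Set.range hW.fromSpec := by
    rintro _ ⟨t, rfl⟩
    rw [hW.range_fromSpec, show t = c from Subsingleton.elim (α := PrimeSpectrum k) _ _]
    exact haW
  obtain ⟨σ, hσ, hσq⟩ := Groth.Agent.S11108.exists_section_affine R (hW.fromSpec ≫ ρ)
    (IsOpenImmersion.lift hW.fromSpec qk hr) (by rw [IsOpenImmersion.lift_fac_assoc, hqk])
  let σN : Spec (CommRingCat.of R) ⟶ N.left := σ ≫ hW.fromSpec ≫ pullback.fst f (x ^ n).left
  have hσf : σN ≫ f = (x ^ n).left := by
    simp only [σN, Category.assoc, pullback.condition]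
    rw [← Category.assoc hW.fromSpec, ← Category.assoc σ, hσ, Category.id_comp]
  let t : 𝟙_ (Over (Spec (CommRingCat.of R))) ⟶ N := Over.homMk σN (by
    show σN ≫ N.hom = 𝟙 _
    rw [← show f ≫ N.hom = N.hom from Over.w φ, ← Category.assoc, hσf]
    exact Over.w (x ^ n))
  have ht : t ^ n = x ^ n := by
    have h : t ≫ φ = x ^ n := Over.OverMorphism.ext hσf
    rwa [MonObj.comp_pow, Category.comp_id] at h
  refine ⟨x * t⁻¹, ?_, ?_⟩
  · rw [mul_pow, inv_pow, ht, mul_inv_cancel]
  · rw [mul_inv_rev, inv_inv, mul_comm t, mul_inv_cancel_left]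
    show σN (IsLocalRing.closedPoint R) ∈ connectedComponentIn (SGA7.specialFibreSet R N) _
    rw [← hunit, hcc]
    have hpt : σN (IsLocalRing.closedPoint R) = q a := by
      have h1 : s ≫ σN = qk ≫ pullback.fst f (x ^ n).left := by
        rw [show σN = σ ≫ hW.fromSpec ≫ pullback.fst f (x ^ n).left from rfl, ← Category.assoc, hσq,
          IsOpenImmersion.lift_fac_assoc]
      rw [← hsc, ← Scheme.Hom.comp_apply, h1, ← hp]
      rfl
    have hS : σN (IsLocalRing.closedPoint R) ∈ SGA7.specialFibreSet R N := by
      show (σN ≫ N.hom) (IsLocalRing.closedPoint R) = _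
      erw [Over.w t]
      rfl
    obtain ⟨v, hv⟩ := hrange.ge hS
    exact ⟨v, hOC.le (show i v ∈ O' by rw [hv, hpt]; exact ha), hv⟩

end Groth.Agent.S4071
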