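import Groth.Statements.S4075
import Groth.Agent.InertiaPtsLib.Points
import Groth.Agent.EtLocLib.Henselian
import Groth.Agent.HensFormalLib.Clopen

set_option autoImplicit false
set_option backward.isDefEq.respectTransparency false
set_option linter.style.haveILetI false
set_option maxHeartbeats 1000000
universe u
open CategoryTheory CategoryTheory.Limits AlgebraicGeometry MonObj
open SGA7
open MonoidalCategory CartesianMonoidalCategory
open scoped nonZeroDivisors

namespace Groth.Agent.S4075

/-- Let R be a henselian discrete valuation ring with fraction field K, Ω a separable closure of K, W a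
valuation subring of Ω lying over R, N a group scheme over Spec R which is a Néron model of its
generic fibre A = N_K, an abelian variety, and m an integer invertible in the residue field. For an
m-torsion Ω-point x of A, the inertia group at W fixes x if and only if the point of N underlying x
specialises to a point of the special fibre of N (x factors through the finite part of the m-torsion
of N): the fixed part of the m-torsion is the inertia invariants. -/
theorem result (R K Ω : Type u) [CommRing R] [IsDomain R]
    [IsDiscreteValuationRing R] [HenselianLocalRing R] [Field K] [Algebra R K] [IsFractionRing R K]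
    [Field Ω] [Algebra K Ω] [IsSepClosure K Ω] (W : ValuationSubring Ω) (hW : SGA7.LiesOver K R W)
    (N : Over (Spec (CommRingCat.of R))) [GrpObj N] (hN : SGA7.IsNeron R K N)
    [IsProper ((SGA7.genFib R K).obj N).hom] [GeometricallyIntegral ((SGA7.genFib R K).obj N).hom]
    (m : ℕ) (hm : (m : IsLocalRing.ResidueField R) ≠ 0)
    (x : SGA7.Pts Ω ((SGA7.genFib R K).obj N)) (hx : x ^ m = 1) :
    (∀ σ : Ω ≃ₐ[K] Ω, SGA7.IsInertia W σ → SGA7.galAct σ x = x) ↔
      ∃ z ∈ SGA7.specialFibreSet R N,
        (x.left ≫ pullback.fst N.hom (Spec.map (CommRingCat.ofHom (algebraMap R K)))).base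
          (IsLocalRing.closedPoint Ω) ⤳ z := by
  letI : Algebra R Ω := ((algebraMap K Ω).comp (algebraMap R K)).toAlgebra
  haveI : IsScalarTower R K Ω := IsScalarTower.of_algebraMap_eq fun _ => rfl
  haveI : IsGalois K Ω := IsSepClosure.isGalois
  haveI := InertiaPtsLib.isCommMonObj_neron N hN
  obtain ⟨hsm, hsep, hqc, hbij⟩ := hN
  haveI := hsm
  haveI := hsep
  haveI := hqc
  let gK := Spec.map (CommRingCat.ofHom (algebraMap R K))
  let gR := Spec.map (CommRingCat.ofHom ((algebraMap K Ω).comp (algebraMap R K)))
  let jW : R →+* W := ((algebraMap K Ω).comp (algebraMap R K)).codRestrict W.toSubring hW.1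
  let xB : Spec (CommRingCat.of Ω) ⟶ N.left := x.left ≫ pullback.fst N.hom gK
  have hjW : gR = Spec.map (CommRingCat.ofHom W.subtype) ≫ Spec.map (CommRingCat.ofHom jW) := by
    rw [← Spec.map_comp, ← CommRingCat.ofHom_comp]; rfl
  have hclosed : Spec.map (CommRingCat.ofHom jW) (IsLocalRing.closedPoint W) = IsLocalRing.closedPoint R := by
    refine PrimeSpectrum.ext ?_
    show (IsLocalRing.maximalIdeal W).comap jW = IsLocalRing.maximalIdeal R
    exact ((IsLocalRing.maximalIdeal.isMaximal R).eq_of_le (Ideal.comap_ne_top _ (Ideal.IsPrime.ne_top'))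
      fun r hr => Ideal.mem_comap.2 ((W.valuation_lt_one_iff (jW r)).2 (hW.2 r hr))).symm
  constructor
  · intro hfix
    obtain ⟨U, hU, hxU, -⟩ := exists_isAffineOpen_mem_and_subset (X := ((SGA7.genFib R K).obj N).left)
      (x := x.left (IsLocalRing.closedPoint Ω)) (U := ⊤) trivial
    haveI : IsOpenImmersion hU.fromSpec := hU.isOpenImmersion_fromSpec
    let ψ₀ : Spec (CommRingCat.of Ω) ⟶ Spec Γ(((SGA7.genFib R K).obj N).left, U) :=
      IsOpenImmersion.lift hU.fromSpec x.left (by
        rintro _ ⟨t, rfl⟩
        rw [hU.range_fromSpec, show t = IsLocalRing.closedPoint Ω from Subsingleton.elim (α := PrimeSpectrum Ω) _ _]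
        exact hxU)
    obtain ⟨ψ, hψ⟩ := Spec.map_surjective ψ₀
    let str := hU.fromSpec ≫ ((SGA7.genFib R K).obj N).hom
    haveI : LocallyOfFiniteType ((SGA7.genFib R K).obj N).hom := inferInstance
    haveI : LocallyOfFiniteType str := inferInstance
    obtain ⟨c, hc⟩ := Spec.map_surjective str
    have hψc : ψ.hom.comp c.hom = algebraMap K Ω := by
      have h1 : Spec.map (c ≫ ψ) = Spec.map (CommRingCat.ofHom (algebraMap K Ω)) := by
        rw [Spec.map_comp, hψ, hc]
        show ψ₀ ≫ hU.fromSpec ≫ _ = _
        rw [IsOpenImmersion.lift_fac_assoc]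
        exact Over.w x
      exact congrArg CommRingCat.Hom.hom (Spec.map_injective h1)
    have hft : c.hom.FiniteType :=
      (HasRingHomProperty.Spec_iff (P := @LocallyOfFiniteType)).1 (by rw [hc]; infer_instance)
    letI : Algebra K Γ(((SGA7.genFib R K).obj N).left, U) := c.hom.toAlgebra
    haveI : Algebra.FiniteType K Γ(((SGA7.genFib R K).obj N).left, U) := hft
    let ψA : Γ(((SGA7.genFib R K).obj N).left, U) →ₐ[K] Ω :=
      { ψ.hom with commutes' := fun a => RingHom.congr_fun hψc a }
    obtain ⟨s, hs⟩ := Algebra.FiniteType.out (R := K) (A := Γ(((SGA7.genFib R K).obj N).left, U))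
    let F := IntermediateField.adjoin K (ψA '' (s : Set _))
    haveI : FiniteDimensional K F := by
      haveI : Finite (ψA '' (s : Set _) : Set Ω) := (s.finite_toSet.image _).to_subtype
      exact IntermediateField.finiteDimensional_adjoin fun z _ => Algebra.IsIntegral.isIntegral z
    have hrange : ∀ a, ψA a ∈ F := by
      intro a
      have h1 : ψA a ∈ (Algebra.adjoin K (s : Set _)).map ψA := ⟨a, by rw [hs]; trivial, rfl⟩
      rw [AlgHom.map_adjoin] at h1
      exact IntermediateField.algebra_adjoin_le_adjoin K _ h1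
    have hFfix : ∀ σ : Ω ≃ₐ[K] Ω, SGA7.IsInertia W σ → ∀ f ∈ F, σ f = f := by
      intro σ hσ f hf
      refine IntermediateField.adjoin_induction K (p := fun z _ => σ z = z) ?_ (fun a => σ.commutes a)
        (fun a b _ _ ha hb => by rw [map_add, ha, hb]) (fun a _ ha => by rw [map_inv₀, ha])
        (fun a b _ _ ha hb => by rw [map_mul, ha, hb]) hf
      rintro _ ⟨a, -, rfl⟩
      have h1 : Spec.map (ψ ≫ CommRingCat.ofHom (σ : Ω →+* Ω)) = Spec.map ψ := by
        rw [← cancel_mono hU.fromSpec, Spec.map_comp, hψ, Category.assoc, IsOpenImmersion.lift_fac]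
        exact congrArg CommaMorphism.left (hfix σ hσ)
      exact RingHom.congr_fun (congrArg CommRingCat.Hom.hom (Spec.map_injective h1)) a
    obtain ⟨L, _, _, _, _, χ, S, _, _, _, _, hFL, het, hloc, hSW⟩ := InertiaPtsLib.exists_etale W hW F hFfix
    haveI := het
    haveI := hloc
    let e := AlgEquiv.ofInjectiveField χ
    let ψL : Γ(((SGA7.genFib R K).obj N).left, U) →ₐ[K] L :=
      e.symm.toAlgHom.comp (ψA.codRestrict χ.range fun a => hFL (hrange a))
    have hψL : ∀ a, χ (ψL a) = ψA a := fun a => congrArg Subtype.val (e.apply_symm_apply _)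
    let pl : Spec (CommRingCat.of L) ⟶ ((SGA7.genFib R K).obj N).left :=
      Spec.map (CommRingCat.ofHom ψL.toRingHom) ≫ hU.fromSpec
    have hpl : pl ≫ ((SGA7.genFib R K).obj N).hom = Spec.map (CommRingCat.ofHom (algebraMap K L)) := by
      rw [Category.assoc, show hU.fromSpec ≫ ((SGA7.genFib R K).obj N).hom = Spec.map c from hc.symm,
        ← Spec.map_comp]
      exact congrArg Spec.map (CommRingCat.hom_ext (RingHom.ext fun a => ψL.commutes a))
    haveI : Algebra.IsPushout R S K L := Algebra.isPushout_of_isLocalization R⁰ _ _ _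
    have sq := isPullback_SpecMap_of_isPushout _ _ _ _ (CommRingCat.isPushout_of_isPushout R S K L)
    let Y : Over (Spec (CommRingCat.of R)) := Over.mk (Spec.map (CommRingCat.ofHom (algebraMap R S)))
    haveI : Smooth Y.hom := by
      show Smooth (Spec.map (CommRingCat.ofHom (algebraMap R S)))
      exact (HasRingHomProperty.Spec_iff (P := @Smooth)).2 (RingHom.smooth_algebraMap.2 inferInstance)
    let f₀ : (Over.pullback gK).obj Y ⟶ (SGA7.genFib R K).obj N :=
      Over.homMk (sq.isoPullback.inv ≫ pl) (by
        rw [Category.assoc, hpl]; exact sq.isoPullback_inv_snd)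
    obtain ⟨g, hg⟩ := (hbij Y inferInstance).2 f₀
    have hgen : Spec.map (CommRingCat.ofHom (algebraMap S L)) ≫ g.left = pl ≫ pullback.fst N.hom gK := by
      have h1 := congrArg (fun t => sq.isoPullback.hom ≫ CommaMorphism.left t ≫ pullback.fst N.hom gK) hg
      simp only [Over.pullback_map_left, pullback.lift_fst, f₀, Over.homMk_left, Category.assoc,
        Iso.hom_inv_id_assoc] at h1
      erw [pullback.lift_fst, IsPullback.isoPullback_hom_fst_assoc] at h1
      exact h1
    let sW : S →+* W := ((χ : L →+* Ω).comp (algebraMap S L)).codRestrict W.toSubring hSW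
    let zW : Spec (CommRingCat.of W) ⟶ N.left := Spec.map (CommRingCat.ofHom sW) ≫ g.left
    refine ⟨zW (IsLocalRing.closedPoint W), ?_, ?_⟩
    · show (zW ≫ N.hom) (IsLocalRing.closedPoint W) = IsLocalRing.closedPoint R
      rw [Category.assoc, Over.w g]
      have : sW.comp (algebraMap R S) = jW := RingHom.ext fun r => Subtype.ext (by
        show χ (algebraMap S L (algebraMap R S r)) = algebraMap K Ω (algebraMap R K r)
        rw [← IsScalarTower.algebraMap_apply, IsScalarTower.algebraMap_apply R K L, AlgHom.commutes])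
      show (Spec.map (CommRingCat.ofHom sW) ≫ Spec.map (CommRingCat.ofHom (algebraMap R S))) _ = _
      rw [← Spec.map_comp, ← CommRingCat.ofHom_comp, this, hclosed]
    · have hxB : Spec.map (CommRingCat.ofHom W.subtype) ≫ zW = xB := by
        show _ = x.left ≫ pullback.fst N.hom gK
        rw [show x.left = Spec.map ψ ≫ hU.fromSpec by rw [hψ, IsOpenImmersion.lift_fac], ← Category.assoc, ← Spec.map_comp,
          ← CommRingCat.ofHom_comp, show W.subtype.comp sW = (χ : L →+* Ω).comp (algebraMap S L) from rfl,
          CommRingCat.ofHom_comp, Spec.map_comp, Category.assoc, hgen]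
        rw [show (ψ : _ ⟶ CommRingCat.of Ω) = CommRingCat.ofHom ψL.toRingHom ≫ CommRingCat.ofHom (χ : L →+* Ω) from
          CommRingCat.hom_ext (RingHom.ext fun a => (hψL a).symm), Spec.map_comp]
        simp only [pl, Category.assoc]
      show xB (IsLocalRing.closedPoint Ω) ⤳ _
      rw [← hxB, Scheme.Hom.comp_apply]
      exact (IsLocalRing.specializes_closedPoint (R := W) _).map zW.base.hom.continuous
  · rintro ⟨w, hw, hsp⟩ σ hσ
    let f : N.left ⟶ N.left := ((𝟙 N : N ⟶ N) ^ m).left
    let η0 : Spec (CommRingCat.of R) ⟶ N.left := (η[N] : 𝟙_ _ ⟶ N).left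
    have hu : IsUnit (m : R) := by
      by_contra hc
      exact hm (by rw [← map_natCast (IsLocalRing.residue R)]; exact (IsLocalRing.residue_eq_zero_iff _).2 hc)
    haveI : Etale f := TorsLiftLib.etale_pow N _ hu
    have hηw : η0 ≫ N.hom = 𝟙 _ := Over.w (η[N] : 𝟙_ _ ⟶ N)
    haveI : IsClosedImmersion η0 := by
      haveI : IsClosedImmersion (η0 ≫ N.hom) := by rw [hηw]; infer_instance
      exact IsClosedImmersion.of_comp η0 N.hom
    haveI : QuasiCompact f := by
      haveI : QuasiCompact (f ≫ N.hom) := by rw [Over.w]; infer_instance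
      exact QuasiCompact.of_comp f N.hom
    haveI : IsSeparated f := by
      haveI : IsSeparated (f ≫ N.hom) := by rw [Over.w]; infer_instance
      exact IsSeparated.of_comp f N.hom
    let π : pullback f η0 ⟶ Spec (CommRingCat.of R) := pullback.snd f η0
    let i : pullback f η0 ⟶ N.left := pullback.fst f η0
    haveI : Etale π := MorphismProperty.pullback_snd _ _ inferInstance
    haveI : QuasiCompact π := MorphismProperty.pullback_snd _ _ inferInstance
    haveI : IsSeparated π := MorphismProperty.pullback_snd _ _ inferInstance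
    haveI : IsClosedImmersion i := MorphismProperty.pullback_fst _ _ inferInstance
    have hπi : π = i ≫ N.hom := by
      have h1 := congrArg (· ≫ N.hom) (pullback.condition (f := f) (g := η0))
      simp only [Category.assoc, hηw, Category.comp_id] at h1
      rw [show f ≫ N.hom = N.hom from Over.w _] at h1
      exact h1.symm
    let z : Spec (CommRingCat.of Ω) ⟶ pullback f η0 :=
      pullback.lift xB gR (InertiaPtsLib.comp_pow_eq N m x hx)
    have hzi : z ≫ i = xB := pullback.lift_fst _ _ _
    have hzpt : i (z (IsLocalRing.closedPoint Ω)) = xB (IsLocalRing.closedPoint Ω) := by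
      rw [← Scheme.Hom.comp_apply, hzi]
    obtain ⟨w', rfl⟩ : w ∈ Set.range i := hsp.mem_closed i.isClosedEmbedding.isClosed_range ⟨_, hzpt⟩
    have hw' : π w' = IsLocalRing.closedPoint R := by rw [hπi]; exact hw
    haveI : LocallyQuasiFinite π := HensFormalLib.locallyQuasiFinite_of_etale π
    obtain ⟨O, -, hfin, hall⟩ := EtLocLib.exists_clopen_finite_henselian π
    haveI := hfin
    have hzO : z (IsLocalRing.closedPoint Ω) ∈ O := by
      have h1 : i (z (IsLocalRing.closedPoint Ω)) ⤳ i w' := hzpt ▸ hsp
      exact (i.isClosedEmbedding.isInducing.specializes_iff.1 h1).mem_open O.isOpen (hall w' hw')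
    let zO : Spec (CommRingCat.of Ω) ⟶ O.toScheme := IsOpenImmersion.lift O.ι z (by
      rintro _ ⟨t, rfl⟩
      rw [Scheme.Opens.range_ι, show t = IsLocalRing.closedPoint Ω from Subsingleton.elim (α := PrimeSpectrum Ω) _ _]
      exact hzO)
    have hex : ValuativeCriterion.Existence (O.ι ≫ π) := by
      have h : UniversallyClosed (O.ι ≫ π) := inferInstance
      rw [UniversallyClosed.eq_valuativeCriterion] at h
      exact h.1
    obtain ⟨⟨⟨zW, hz1, hz2⟩⟩⟩ := hex
      { R := W, K := Ω, i₁ := zO, i₂ := Spec.map (CommRingCat.ofHom jW),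
        commSq := ⟨by rw [IsOpenImmersion.lift_fac_assoc, pullback.lift_snd]; exact hjW⟩ }
    dsimp at hz1 hz2
    have hfixz := InertiaPtsLib.fixed_of_lift W hW.1 σ hσ π (zW ≫ O.ι) (by rw [Category.assoc]; exact hz2)
    have hWz : Spec.map (CommRingCat.ofHom W.subtype) ≫ zW ≫ O.ι = z := by
      rw [← Category.assoc]
      refine Eq.trans (b := zO ≫ O.ι) ?_ (IsOpenImmersion.lift_fac _ _ _)
      exact congrArg (· ≫ O.ι) hz1
    rw [hWz] at hfixz
    refine Over.OverMorphism.ext (pullback.hom_ext ?_ ?_)
    · have h1 := congrArg (· ≫ i) hfixz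
      simp only [Category.assoc, hzi] at h1
      simpa [SGA7.galAct, SGA7.specAut, xB] using h1
    · exact (Over.w (SGA7.specAut σ ≫ x)).trans (Over.w x).symm

end Groth.Agent.S4075
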