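import Groth.Statements.S4078
import Groth.Agent.SemiAbLib.Basic
import Groth.Agent.SemiAbLib.Minkowski
import Groth.Agent.S5324
import Groth.Agent.AVAmpleLib.BcTate
import Groth.Agent.AlbLib.AVClass

set_option autoImplicit false
set_option backward.isDefEq.respectTransparency false
set_option linter.style.haveILetI false
set_option maxHeartbeats 1000000
universe u
open CategoryTheory CategoryTheory.Limits AlgebraicGeometry MonObj
open SGA7

open MonoidalCategory CartesianMonoidalCategory
open Groth.Agent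

namespace Groth.Agent.S4078

/-- Let k be a field, G a smooth connected commutative group scheme over k whose geometric fibre
contains no copy of the additive group (an extension of an abelian variety by a torus), n ≥ 2 an
integer and u an automorphism of the group scheme G of finite order (some positive power of u under
composition is the identity) which induces the identity on the n-torsion: for every k-scheme T and
every T-point x of G with x^n = 1 one has u(x) = x. Then u is the identity if n ≥ 3, and u composed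
with itself is the identity if n = 2. -/
theorem result (k : Type u) [Field k] (G : Over (Spec (CommRingCat.of k))) [GrpObj G]
    [IsCommMonObj G] [Smooth G.hom] [ConnectedSpace ↥G.left] (hG : SGA7.FibresUnipotentRankZero G)
    (n : ℕ) (hn : 2 ≤ n) (u : Aut G) [IsMonHom u.hom] (N : ℕ) (hN : 0 < N) (huN : u ^ N = 1)
    (hu : ∀ (T : Over (Spec (CommRingCat.of k))) (x : T ⟶ G), x ^ n = 1 → x ≫ u.hom = x) :
    (3 ≤ n → u = 1) ∧ (n = 2 → u * u = 1) := by
  obtain ⟨pt⟩ : Nonempty ↥(Spec (CommRingCat.of k)) := inferInstance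
  haveI : QuasiCompact G.hom := Groth.Agent.S5324.result _ G (fun s => MorphismProperty.pullback_snd _ _ inferInstance) fun s => by
    haveI : Subsingleton ↥(Spec (CommRingCat.of k)) := inferInstanceAs (Subsingleton (PrimeSpectrum k))
    have : G.hom.base ⁻¹' {s} = Set.univ := Set.eq_univ_of_forall fun x => Subsingleton.elim _ _
    rw [this]; exact isConnected_univ
  let K : Type u := AlgebraicClosure ((Spec (CommRingCat.of k)).residueField pt)
  let g : Spec (CommRingCat.of K) ⟶ Spec (CommRingCat.of k) := Red.geomPt pt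
  letI : Algebra k K := (Spec.preimage g).hom.toAlgebra
  have hg : Spec.map (CommRingCat.ofHom (algebraMap k K)) = g := Spec.map_preimage _
  let G' : Over (Spec (CommRingCat.of K)) := (AVAmpleLib.bcF (k := k) K).obj G
  letI : GrpObj G' := Functor.grpObjObj
  haveI : IsCommMonObj G' := Functor.isCommMonObj_obj (F := AVAmpleLib.bcF (k := k) K)
  haveI : Smooth G'.hom := inferInstanceAs (Smooth (pullback.snd G.hom _))
  haveI : QuasiCompact G'.hom := inferInstanceAs (QuasiCompact (pullback.snd G.hom _))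
  haveI := AlbLib.geometricallyIntegral_grp G
  haveI : IsIntegral G.left := GeometricallyIntegral.isIntegral_of_subsingleton G.hom
  haveI : GeometricallyIntegral G'.hom := inferInstanceAs (GeometricallyIntegral (pullback.snd G.hom _))
  haveI : ConnectedSpace G'.left := AlbLib.connectedSpace_gi G'
  have hS : SemiAbLib.IsSemiAb G' := SemiAbLib.isSemiAb_of_no_ga fun j hj hjc => by
    have h0 : ∀ (g' : Spec (CommRingCat.of K) ⟶ Spec (CommRingCat.of k)) (_ : g' = g),
        ∀ (j : Red.Ga (Spec (CommRingCat.of K)) ⟶ Red.bc g' G), IsMonHom j → IsClosedImmersion j.left → False := by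
      rintro _ rfl
      exact hG pt
    exact h0 _ hg j hj hjc
  haveI : IsSeparated G.hom := GrpField.isSeparated_grp (G := G)
  haveI hξ : Surjective (Spec.map (CommRingCat.ofHom (algebraMap k K))) :=
    ⟨fun y => ⟨Classical.arbitrary (PrimeSpectrum K), Subsingleton.elim (α := PrimeSpectrum k) _ _⟩⟩
  have hpow : ∀ {m : ℕ}, m ≠ 0 → IsMonHom (𝟙 G ^ m) ∧ Surjective (𝟙 G ^ m).left ∧ Flat (𝟙 G ^ m).left := by
    intro m hm
    have h1 : IsMonHom (𝟙 G ^ m) := by rw [← zpow_natCast]; exact AbSchLib.isMonHom_zpow G (m : ℤ)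
    haveI := h1
    obtain ⟨-, h2', -⟩ := hS.pow_spec hm
    have hmap : (AVAmpleLib.bcF (k := k) K).map (𝟙 G ^ m) = 𝟙 G' ^ m := by
      rw [show (AVAmpleLib.bcF (k := k) K).map (𝟙 G ^ m) = ((AVAmpleLib.bcF (k := k) K).map (𝟙 G)) ^ m from
        map_pow (Functor.homMonoidHom (AVAmpleLib.bcF (k := k) K) : (G ⟶ G) →* _) (𝟙 G) m,
        CategoryTheory.Functor.map_id]
    haveI h2 : Surjective (𝟙 G ^ m).left := by
      haveI : Surjective ((AVAmpleLib.bcF (k := k) K).map (𝟙 G ^ m)).left := by rw [hmap]; exact h2'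
      haveI : Surjective (pullback.fst G.hom (Spec.map (CommRingCat.ofHom (algebraMap k K)))) :=
        MorphismProperty.pullback_fst _ _ hξ
      haveI : Surjective (pullback.fst G.hom (Spec.map (CommRingCat.ofHom (algebraMap k K))) ≫ (𝟙 G ^ m).left) := by
        rw [← show ((AVAmpleLib.bcF (k := k) K).map (𝟙 G ^ m)).left ≫ pullback.fst G.hom _ = _ from
          pullback.lift_fst _ _ _]
        infer_instance
      exact Surjective.of_comp (pullback.fst G.hom (Spec.map (CommRingCat.ofHom (algebraMap k K)))) (𝟙 G ^ m).left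
    exact ⟨h1, h2, AntiAffLib.flat_of_surjective _⟩
  have hdiv : ∀ {m : ℕ}, m ≠ 0 → ∀ (w : EndAV.End G), (∀ (T : Over (Spec (CommRingCat.of k))) (x : T ⟶ G),
      x ^ m = 1 → x ≫ w.toHom = 1) → ∃ w' : EndAV.End G, w = (m : ℤ) • w' := by
    intro m hm w hw
    obtain ⟨h1, h2, h3⟩ := hpow hm
    haveI := h1; haveI := h2; haveI := h3
    haveI := AntiAffLib.lfp_of_lft (𝟙 G ^ m)
    obtain ⟨y, hy, hy'⟩ := AntiAffLib.CommCat.exists_descend (𝟙 G ^ m) w.toHom fun T a ha =>
      hw T a (by rwa [MonObj.comp_pow, Category.comp_id] at ha)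
    haveI := hy'
    refine ⟨EndAV.End.of y, EndAV.Hom.ext ?_⟩
    show w.toHom = ((m : ℤ) • (EndAV.Hom.of y : EndAV.Hom G G)).toHom
    rw [EndAV.Hom.toHom_zsmul, zpow_natCast]
    show w.toHom = y ^ m
    rw [← hy, MonObj.pow_comp, Category.id_comp]
  have htf : ∀ (m : ℤ) (w : EndAV.End G), m ≠ 0 → m • w = 0 → w = 0 := by
    intro m w hm h
    have h0 : m.natAbs • w = 0 := by
      rcases Int.natAbs_eq m with he | he
      · rwa [he, natCast_zsmul] at h
      · rwa [he, neg_zsmul, natCast_zsmul, neg_eq_zero] at h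
    obtain ⟨h1, h2, h3⟩ := hpow (Int.natAbs_ne_zero.2 hm)
    haveI := h1; haveI := h2; haveI := h3
    haveI := AntiAffLib.lfp_of_lft (𝟙 G ^ m.natAbs)
    haveI := Groth.Agent.MonoQuot.epi_over (𝟙 G ^ m.natAbs)
    refine EndAV.Hom.ext ?_
    rw [← cancel_epi (𝟙 G ^ m.natAbs), MonObj.pow_comp, Category.id_comp,
      show EndAV.Hom.toHom (0 : EndAV.End G) = 1 from rfl, MonObj.comp_one, ← EndAV.Hom.toHom_nsmul, h0]
    rfl
  have hsep : ∀ p : ℕ, p.Prime → ∀ w : EndAV.End G, (∀ m, ∃ c : EndAV.End G, w = ((p : ℤ) ^ m) • c) → w = 0 := by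
    intro p hp w hw
    haveI : Fact p.Prime := ⟨hp⟩
    refine EndAV.Hom.ext (AVAmpleLib.map_injective K ?_)
    rw [show EndAV.Hom.toHom (0 : EndAV.End G) = 1 from rfl,
      show (AVAmpleLib.bcF (k := k) K).map (1 : G ⟶ G) = 1 from
        map_one (Functor.homMonoidHom (AVAmpleLib.bcF (k := k) K) : (G ⟶ G) →* _)]
    haveI : IsMonHom ((AVAmpleLib.bcF (k := k) K).map w.toHom : G' ⟶ G') := @Functor.map.instIsMonHom _ _ _ _ _ _ (AVAmpleLib.bcF (k := k) K) _ _ _ _ _ w.toHom _
    refine hS.eq_one_of_divisible p _ fun m => ?_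
    obtain ⟨c, rfl⟩ := hw m
    refine ⟨(AVAmpleLib.bcF (k := k) K).map c.toHom, ?_, @Functor.map.instIsMonHom _ _ _ _ _ _ (AVAmpleLib.bcF (k := k) K) _ _ _ _ _ c.toHom _⟩
    rw [MonObj.pow_comp, Category.id_comp, ← Nat.cast_pow, natCast_zsmul]
    exact (congrArg (fun z => (AVAmpleLib.bcF (k := k) K).map z) (EndAV.Hom.toHom_nsmul (p ^ m) c)).trans
      (map_pow (Functor.homMonoidHom (AVAmpleLib.bcF (k := k) K) : (G ⟶ G) →* _) c.toHom (p ^ m))
  let u₀ : EndAV.End G := EndAV.End.of u.hom
  have hpowu : ∀ m : ℕ, (u₀ ^ m).toHom = (u ^ m).hom := by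
    intro m
    induction m with
    | zero => rfl
    | succ m ih =>
      rw [pow_succ', EndAV.End.toHom_mul, ih, pow_succ']
      rfl
  have hN' : u₀ ^ N = 1 := EndAV.Hom.ext (by rw [show EndAV.Hom.toHom (u₀ ^ N) = _ from hpowu N, huN]; rfl)
  obtain ⟨w, hw⟩ := hdiv (m := n) (by omega) (u₀ - 1) (fun T x hx => by
    rw [EndAV.End.toHom_sub, div_eq_mul_inv, MonObj.comp_mul, GrpObj.comp_inv]
    show x ≫ u.hom * (x ≫ 𝟙 G)⁻¹ = 1
    rw [Category.comp_id, hu T x hx, mul_inv_cancel])
  have hu0 : u₀ = 1 + (n : ℤ) • w := by rw [← hw, add_sub_cancel]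
  obtain ⟨k3, k2⟩ := SemiAbLib.eq_one_or_involution hsep htf hN hu0 hN'
  refine ⟨fun h3 => Iso.ext (congrArg EndAV.Hom.toHom (k3 h3)), fun h2 => Iso.ext ?_⟩
  exact congrArg EndAV.Hom.toHom (k2 h2)

end Groth.Agent.S4078
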