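import Groth.Statements.S4080
import Groth.Agent.UnipKerLib.Open

set_option autoImplicit false
set_option backward.isDefEq.respectTransparency false
set_option maxHeartbeats 1000000
universe u
open CategoryTheory CategoryTheory.Limits AlgebraicGeometry MonObj
open SGA7

namespace Groth.Agent.S4080

/-- Let S be a scheme, G a commutative group scheme over S which is flat, separated and of finite
presentation, H a smooth quasi-separated group scheme over S, u : G -> H a homomorphism, s a point
of S such that the geometric fibre of G at s contains no copy of the additive group, and t a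
generization of s such that u_t is an isogeny (surjective with finite kernel) and a monomorphism.
Then u_s is an isomorphism of G_s onto an open subgroup of H_s: the morphism induced on the fibres
at s is an open immersion. -/
theorem result {S : Scheme.{u}} (G H : Over S) [GrpObj G] [IsCommMonObj G]
    [Flat G.hom] [IsSeparated G.hom] [LocallyOfFinitePresentation G.hom] [QuasiCompact G.hom]
    [GrpObj H] [Smooth H.hom] [QuasiSeparated H.hom]
    (u : G ⟶ H) [IsMonHom u] (s t : ↥S) (hts : t ⤳ s) (hs : SGA7.FibreUnipotentRankZero s G)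
    (hiso : SGA7.IsIsogenyOver (SGA7.fibreHom t u)) [Mono (SGA7.fibreHom t u)] :
    IsOpenImmersion (SGA7.fibreHom s u).left := by
  obtain ⟨U, hsU, hU⟩ := UnipKerLib.exists_nhd u hts hs hiso
  haveI := (UnipKerLib.flat_lqf_map u hU).1
  haveI := (UnipKerLib.flat_lqf_map u hU).2
  obtain ⟨A, _, _, _, _, L, _, _, _, _, a, c, ha, hc⟩ := UnipKerLib.exists_valuationRing hts
  have haU : Set.range a.base ⊆ Set.range U.ι.base := by
    rintro _ ⟨x, rfl⟩
    rw [Scheme.Opens.range_ι]
    exact ((IsLocalRing.specializes_closedPoint x).map a.base.hom.continuous).mem_open U.2 (ha.symm ▸ hsU)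
  let a' : Spec (CommRingCat.of A) ⟶ (U : Scheme.{u}) := IsOpenImmersion.lift U.ι a haU
  obtain ⟨lX, lY, hA, -⟩ := UnipKerLib.isPullback_map_comp a' U.ι a (IsOpenImmersion.lift_fac _ _ _) u
  haveI : Flat ((Over.pullback a).map u).left := MorphismProperty.of_isPullback hA inferInstance
  haveI : LocallyQuasiFinite ((Over.pullback a).map u).left := MorphismProperty.of_isPullback hA inferInstance
  let m := Spec.map (CommRingCat.ofHom (algebraMap A L))
  let η₀ : Spec (CommRingCat.of A) := m.base (IsLocalRing.closedPoint L)
  have hη : ∀ x, η₀ ⤳ x := fun x => by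
    refine (PrimeSpectrum.le_iff_specializes _ _).1 fun r hr => ?_
    have h0 : algebraMap A L r = 0 := by
      have hr' : algebraMap A L r ∈ IsLocalRing.maximalIdeal L := hr
      rwa [IsLocalRing.maximalIdeal_eq_bot, Ideal.mem_bot] at hr'
    rw [FaithfulSMul.algebraMap_injective A L (h0.trans (map_zero _).symm)]
    exact zero_mem _
  have hη₀ : a.base η₀ = t := by
    show a.base (m.base _) = t
    rw [← Scheme.Hom.comp_apply, hc, Scheme.Hom.comp_apply]
    exact Scheme.fromSpecResidueField_apply t _
  haveI : IsOpenImmersion ((Over.pullback a).map u).left := UnipKerLib.isOpenImmersion_map u hiso a η₀ hη hη₀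
  let b : Spec (CommRingCat.of (IsLocalRing.ResidueField A)) ⟶ Spec (CommRingCat.of A) :=
    Spec.map (CommRingCat.ofHom (IsLocalRing.residue A))
  obtain ⟨lX', lY', hB, -⟩ := UnipKerLib.isPullback_map_comp b a (b ≫ a) rfl u
  haveI hB' : IsOpenImmersion ((Over.pullback (b ≫ a)).map u).left := MorphismProperty.of_isPullback hB inferInstance
  obtain ⟨ε, hε⟩ := WeightLib.exists_eq_specMap_fromSpecResidueField (b ≫ a) (x := s) (by
    refine (Scheme.Hom.comp_apply b a _).trans ?_
    exact (congrArg a.base (IsLocalRing.comap_closedPoint (S := IsLocalRing.ResidueField A) (IsLocalRing.residue A))).trans ha)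
  obtain ⟨lX'', lY'', hC, hC'⟩ :=
    UnipKerLib.isPullback_map_comp (Spec.map ε) (S.fromSpecResidueField s) (b ≫ a) hε u
  have hQ : (@Surjective ⊓ @Flat ⊓ @QuasiCompact : MorphismProperty Scheme.{u}) (Spec.map ε) := by
    refine ⟨⟨⟨fun x => ⟨IsLocalRing.closedPoint _, Subsingleton.elim _ _⟩⟩, ?_⟩, inferInstance⟩
    refine (HasRingHomProperty.Spec_iff (P := @Flat)).2 ?_
    letI := ε.hom.toAlgebra
    exact Module.Flat.of_free
  haveI := hQ.1.1
  haveI := hQ.1.2
  haveI := hQ.2
  exact MorphismProperty.of_isPullback_of_descendsAlong (P := @IsOpenImmersion)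
    (Q := @Surjective ⊓ @Flat ⊓ @QuasiCompact) hC.flip
    ⟨⟨MorphismProperty.of_isPullback hC'.flip inferInstance, MorphismProperty.of_isPullback hC'.flip inferInstance⟩,
      MorphismProperty.of_isPullback hC'.flip inferInstance⟩ hB' 

end Groth.Agent.S4080
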