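import Groth.Statements.S4084
-- import your own Groth.Agent.* helpers here
import Groth.Agent.NearbySpecLib.Main

set_option autoImplicit false
universe u
open CategoryTheory CategoryTheory.Limits AlgebraicGeometry MonObj
open SGA7

namespace Groth.Agent.S4084

/-- Let V be a strictly henselian discrete valuation ring with fraction field K, Ω a separable closure
of K, m an integer invertible in the residue field, f : X -> Spec V proper and flat (and locally of
finite presentation) with generic fibre of dimension at most n, and suppose the set of points of the
special fibre at which f is not smooth has dimension at most d. Then the pullback map H^i(X, ℤ/m) ->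
H^i(X_Ω, ℤ/m) (etale cohomology; H^i(X, ℤ/m) is the cohomology of the special fibre by proper base
change, so this is the specialisation map) is bijective for i > n + d + 1 and surjective for i = n +
d + 1. Exactness of pullback of etale sheaves is carried as an instance hypothesis. -/
theorem result (V K Ω : Type u) [CommRing V] [IsDomain V]
    [IsDiscreteValuationRing V] [HenselianLocalRing V] [IsSepClosed (IsLocalRing.ResidueField V)]
    [Field K] [Algebra V K] [IsFractionRing V K] [Field Ω] [Algebra K Ω] [IsSepClosure K Ω]
    [Algebra V Ω] [IsScalarTower V K Ω] (m : ℕ) (hm : (m : IsLocalRing.ResidueField V) ≠ 0)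
    {X : Scheme.{u}} (f : X ⟶ Spec (CommRingCat.of V)) [IsProper f] [Flat f] [LocallyOfFinitePresentation f]
    (n : ℕ) (hn : topologicalKrullDim ↥(pullback f (Spec.map (CommRingCat.ofHom (algebraMap V K)))) ≤ n)
    (d : ℕ) (hd : topologicalKrullDim {x : ↥X // f.base x = IsLocalRing.closedPoint V ∧ x ∉ f.smoothLocus} ≤ d)
    [PreservesFiniteLimits (EtCoh.pull (pullback.fst f (Spec.map (CommRingCat.ofHom (algebraMap V Ω)))))]
    (i : ℕ) :
    (n + d + 1 < i → Function.Bijective
      (EtCore.Hpull (pullback.fst f (Spec.map (CommRingCat.ofHom (algebraMap V Ω)))) (EtCoh.const X (ZMod m)) i)) ∧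
    (i = n + d + 1 → Function.Surjective
      (EtCore.Hpull (pullback.fst f (Spec.map (CommRingCat.ofHom (algebraMap V Ω)))) (EtCoh.const X (ZMod m)) i)) := by
  exact NearbySpecLib.specialisation (K := K) m hm f n hn d hd i

end Groth.Agent.S4084
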