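import Groth.Statements.S4087
import Groth.Agent.QuasiSecQuotLib.Main

set_option autoImplicit false
universe u
open CategoryTheory MonoidalCategory CartesianMonoidalCategory MonObj GrpObj AlgebraicGeometry CategoryTheory.Limits
open GrpQ

namespace Groth.Agent.S4087

/-- Let (U, R, s, t, c) be a groupoid scheme over S and u : U' → U an immersion which is a
quasi-section: writing V = R ×_{t, U} U' for the arrows with target in U', the morphism V → U
induced by s is finite locally free and surjective, and every subset of U' whose points are pairwise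
equivalent (any two are the target and the source of one arrow) lies in an affine open of U'. Then
(t, s) has a coequalizer p : U → Y in schemes; p is surjective, open if t is open, universally
closed if t is; R → U ×_Y U is surjective; and if j = (t, s) is a monomorphism, R ≅ U ×_Y U, and p
is flat when t is flat. -/
theorem result (S : Scheme.{u}) (G : Grpd.GroupoidScheme S)
    (U' : Scheme.{u}) (u : U' ⟶ G.U) [IsImmersion u]
    (h1 : Mor2.IsFinLocFree (pullback.fst G.t u ≫ G.s) ∧ Surjective (pullback.fst G.t u ≫ G.s))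
    (h2 : ∀ E : Set U', (∀ x ∈ E, ∀ y ∈ E, ∃ r : G.R, G.t.base r = u.base x ∧ G.s.base r = u.base y) →
      ∃ W : U'.Opens, IsAffineOpen W ∧ E ⊆ (W : Set U')) :
    ∃ (Y : Scheme.{u}) (p : G.U ⟶ Y) (w : G.t ≫ p = G.s ≫ p),
      Nonempty (IsColimit (Cofork.ofπ p w)) ∧ Surjective p ∧
      (IsOpenMap G.t.base → IsOpenMap p.base) ∧ (UniversallyClosed G.t → UniversallyClosed p) ∧
      Function.Surjective (pullback.lift G.t G.s w).base ∧
      (Mono G.j → IsPullback G.t G.s p p ∧ (Flat G.t → Flat p)) := by
  obtain ⟨hV, hVs⟩ := h1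
  haveI : IsFinite (QuasiSecQuotLib.sV G u) := hV.1
  haveI : Flat (QuasiSecQuotLib.sV G u) := hV.2.1
  haveI : Surjective (QuasiSecQuotLib.sV G u) := hVs
  haveI := (QuasiSecQuotLib.restr_isFinLocFree (G := G) (g := u) hV).1
  haveI := (QuasiSecQuotLib.restr_isFinLocFree (G := G) (g := u) hV).2.1
  haveI := (QuasiSecQuotLib.restr_isFinLocFree (G := G) (g := u) hV).2.2
  obtain ⟨Y, p', hp, hint, -, hsurj, hmono, -⟩ :=
    GrpdLib.exists_quotient (Groth.Agent.Split.restr G u) (QuasiSecQuotLib.restr_affine h2)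
  haveI := hint
  haveI : Surjective p' := ⟨hp.surj⟩
  refine ⟨Y, QuasiSecQuotLib.qp p' hp.w, QuasiSecQuotLib.qp_w p' hp.w,
    ⟨QuasiSecQuotLib.qp_isColimit p' hp.w (hp.isColimit _)⟩, QuasiSecQuotLib.qp_surjective p' hp.w,
    fun ht => QuasiSecQuotLib.qp_isOpenMap p' hp.w hp.isOpenMap ht,
    fun _ => QuasiSecQuotLib.qp_universallyClosed p' hp.w,
    QuasiSecQuotLib.lift_surjective p' hp.w hsurj, fun hj => ?_⟩
  haveI := hj
  haveI : Mono (Groth.Agent.Split.restr G u).j := by
    rw [Groth.Agent.Split.restr_j]; infer_instance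
  obtain ⟨hpb, -, hflat, -⟩ := hmono inferInstance
  haveI := hflat
  exact ⟨QuasiSecQuotLib.isPullback_qp p' hp.w hpb, fun _ => QuasiSecQuotLib.qp_flat p' hp.w⟩

end Groth.Agent.S4087
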