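import Groth.Statements.S4092
import Mathlib
import Groth.Agent.MonoQuotLib.Main
import Groth.Agent.QFSectLib.SlicePoint
-- import your own Groth.Agent.* helpers here

set_option autoImplicit false
universe u
open CategoryTheory MonoidalCategory CartesianMonoidalCategory MonObj GrpObj AlgebraicGeometry CategoryTheory.Limits
open GrpQ

namespace Groth.Agent.S4092

/-- Let f : X → Y be a morphism of schemes which is locally of finite presentation. Then f factors as f
= f'' ∘ f' with f' : X → X' surjective, flat and locally of finite presentation and f'' : X' → Y a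
monomorphism if and only if the first projection X ×_Y X → X is flat. Moreover two such
factorisations are isomorphic: there is an isomorphism of the middle schemes compatible with both
maps. -/
theorem result {X Y : Scheme.{u}} (f : X ⟶ Y) [LocallyOfFinitePresentation f] :
    ((∃ (X' : Scheme.{u}) (f' : X ⟶ X') (f'' : X' ⟶ Y),
        Surjective f' ∧ Flat f' ∧ LocallyOfFinitePresentation f' ∧ Mono f'' ∧ f' ≫ f'' = f) ↔
      Flat (pullback.fst f f)) ∧
    (∀ (X₁ X₂ : Scheme.{u}) (g₁ : X ⟶ X₁) (h₁ : X₁ ⟶ Y) (g₂ : X ⟶ X₂) (h₂ : X₂ ⟶ Y),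
      Surjective g₁ → Flat g₁ → LocallyOfFinitePresentation g₁ → Mono h₁ → g₁ ≫ h₁ = f →
      Surjective g₂ → Flat g₂ → LocallyOfFinitePresentation g₂ → Mono h₂ → g₂ ≫ h₂ = f →
      ∃ φ : X₁ ≅ X₂, g₁ ≫ φ.hom = g₂ ∧ φ.hom ≫ h₂ = h₁) := by
  refine ⟨⟨?_, fun h => ?_⟩, ?_⟩
  · rintro ⟨X', f', f'', h1, h2, h3, h4, rfl⟩
    haveI := h2; haveI := h4
    haveI hpb : IsPullback (Limits.pullback.fst f' f') (Limits.pullback.snd f' f') (f' ≫ f'') (f' ≫ f'') :=
        QFSectLib.isPullback_comp_mono (IsPullback.of_hasPullback f' f') f''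
    rw [← hpb.isoPullback_inv_fst]
    infer_instance
  · haveI := h
    haveI : Flat (Limits.pullback.snd f f) := by
      rw [← Limits.pullbackSymmetry_hom_comp_fst]; infer_instance
    exact Groth.Agent.MonoQuot.exists_mono_factor f
  · intro X₁ X₂ g₁ h₁ g₂ h₂ a1 a2 a3 a4 a5 b1 b2 b3 b4 b5
    haveI := a1; haveI := a2; haveI := a3; haveI := a4; haveI := b1; haveI := b2; haveI := b3; haveI := b4
    have k1 : ∀ {Z : Scheme.{u}} (x y : Z ⟶ X), x ≫ g₁ = y ≫ g₁ → x ≫ g₂ = y ≫ g₂ := fun x y e => by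
      rw [← cancel_mono h₂, Category.assoc, Category.assoc, b5, ← a5, reassoc_of% e]
    have k2 : ∀ {Z : Scheme.{u}} (x y : Z ⟶ X), x ≫ g₂ = y ≫ g₂ → x ≫ g₁ = y ≫ g₁ := fun x y e => by
      rw [← cancel_mono h₁, Category.assoc, Category.assoc, a5, ← b5, reassoc_of% e]
    refine ⟨⟨EffectiveEpi.desc g₁ g₂ (fun x y e => k1 x y e), EffectiveEpi.desc g₂ g₁ (fun x y e => k2 x y e),
      ?_, ?_⟩, EffectiveEpi.fac g₁ g₂ (fun x y e => k1 x y e), ?_⟩
    · rw [← cancel_epi g₁, EffectiveEpi.fac_assoc, EffectiveEpi.fac, Category.comp_id]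
    · rw [← cancel_epi g₂, EffectiveEpi.fac_assoc, EffectiveEpi.fac, Category.comp_id]
    · rw [← cancel_epi g₁, EffectiveEpi.fac_assoc, b5, a5]
end Groth.Agent.S4092
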