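import Groth.Statements.S4096
import Groth.Agent.MonoQuotLib.Graph
import Groth.Agent.QuotRepLib.Transfer
-- import your own Groth.Agent.* helpers here

set_option autoImplicit false
universe u
open CategoryTheory MonoidalCategory CartesianMonoidalCategory MonObj GrpObj AlgebraicGeometry CategoryTheory.Limits
open GrpQ

namespace Groth.Agent.S4096

/-- Let S be noetherian, G an S-group scheme flat and of finite type acting on an S-scheme X of finite
type, d = (d₀, d₁) : G ×_S X → X ×_S X, and F the stabilizer of the diagonal. Then a) d factors as ψ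
: G ×_S X → Y surjective, flat and locally of finite presentation followed by a monomorphism τ : Y →
X ×_S X (Y represents the sheaf image of d) if and only if F is flat over X; b) in that case the two
morphisms Y → X induced by the projections are surjective, flat and of finite presentation. -/
theorem result (S : Scheme.{u}) [IsNoetherian S] (G X : Over S) [GrpObj G]
    [Flat G.hom] [LocallyOfFiniteType G.hom] [QuasiCompact G.hom] [LocallyOfFiniteType X.hom] [QuasiCompact X.hom]
    (a : AlgGrp.Action G X) :
    ((∃ (Y : Over S) (ψ : G ⊗ X ⟶ Y) (τ : Y ⟶ X ⊗ X), ψ ≫ τ = lift a.act (snd G X) ∧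
        Surjective ψ.left ∧ Flat ψ.left ∧ LocallyOfFinitePresentation ψ.left ∧ Mono τ) ↔
      Flat (pullback.snd (lift a.act (snd G X)) (lift (𝟙 X) (𝟙 X))).left) ∧
    (∀ (Y : Over S) (ψ : G ⊗ X ⟶ Y) (τ : Y ⟶ X ⊗ X), ψ ≫ τ = lift a.act (snd G X) →
      Surjective ψ.left → Flat ψ.left → LocallyOfFinitePresentation ψ.left → Mono τ →
      (Surjective (τ ≫ fst X X).left ∧ Flat (τ ≫ fst X X).left ∧ LocallyOfFinitePresentation (τ ≫ fst X X).left ∧
        QuasiCompact (τ ≫ fst X X).left ∧ QuasiSeparated (τ ≫ fst X X).left ∧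
       Surjective (τ ≫ snd X X).left ∧ Flat (τ ≫ snd X X).left ∧ LocallyOfFinitePresentation (τ ≫ snd X X).left ∧
        QuasiCompact (τ ≫ snd X X).left ∧ QuasiSeparated (τ ≫ snd X X).left)) := by
  haveI : IsLocallyNoetherian S := inferInstance
  haveI : LocallyOfFiniteType (snd G X).left := inferInstanceAs (LocallyOfFiniteType (Limits.pullback.snd G.hom X.hom))
  haveI : IsLocallyNoetherian X.left := LocallyOfFiniteType.isLocallyNoetherian X.hom
  haveI : IsLocallyNoetherian (G ⊗ X).left := LocallyOfFiniteType.isLocallyNoetherian (snd G X).left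
  haveI : Flat (snd G X).left := inferInstanceAs (Flat (Limits.pullback.snd G.hom X.hom))
  haveI : LocallyOfFinitePresentation (snd G X).left :=
    UOpenLib.locallyOfFinitePresentation_of_isLocallyNoetherian _
  haveI : QuasiCompact (snd G X).left := inferInstanceAs (QuasiCompact (Limits.pullback.snd G.hom X.hom))
  haveI : Surjective (snd G X).left := ⟨fun x => ⟨(Groth.Agent.MonoQuot.unitSec (G := G) (X := X)).left.base x,
    congrArg (fun m => m.left.base x) (lift_snd (1 : X ⟶ G) (𝟙 X))⟩⟩
  let d := lift a.act (snd G X)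
  haveI : LocallyOfFiniteType d.left := by
    haveI : LocallyOfFiniteType (d.left ≫ (snd X X).left) := by
      rw [← Over.comp_left, lift_snd]; infer_instance
    exact locallyOfFiniteType_of_comp d.left (snd X X).left
  have sqd : IsPullback (pullback.fst d d).left (pullback.snd d d).left d.left d.left :=
    (IsPullback.of_hasPullback d d).map (Over.forget S)
  constructor
  · constructor
    · rintro ⟨Y, ψ, τ, e, h1, h2, h3, h4⟩
      haveI := h2
      haveI := h4
      obtain ⟨k, hk⟩ := Groth.Agent.MonoQuot.isPullback_stab a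
      haveI : Flat (pullback.snd d d).left := by
        have sqψ : IsPullback (pullback.fst d d) (pullback.snd d d) ψ ψ :=
          Groth.Agent.QuotRep.isPullback_of_comp_mono (i := τ) (by rw [e]; exact IsPullback.of_hasPullback d d)
        exact MorphismProperty.of_isPullback (P := @Flat) (sqψ.map (Over.forget S)) h2
      exact MorphismProperty.of_isPullback (P := @Flat) (hk.map (Over.forget S)) ‹_›
    · intro h
      obtain ⟨k, hk⟩ := Groth.Agent.MonoQuot.isPullback_kerPair a
      haveI : Flat (pullback.snd d d).left := MorphismProperty.of_isPullback (P := @Flat) (hk.map (Over.forget S)) h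
      haveI : Flat (Limits.pullback.snd d.left d.left) := by
        rw [← sqd.isoPullback_inv_snd]; infer_instance
      haveI : LocallyOfFinitePresentation (Limits.pullback.snd d.left d.left) :=
        UOpenLib.locallyOfFinitePresentation_of_isLocallyNoetherian _
      obtain ⟨Y, ψ, τ, h1, h2, h3, h4, e⟩ := Groth.Agent.MonoQuot.exists_mono_factor d.left
      haveI := h4
      exact ⟨Over.mk (τ ≫ (X ⊗ X).hom), Over.homMk ψ (by
        show ψ ≫ τ ≫ (X ⊗ X).hom = _
        rw [reassoc_of% e]; exact Over.w d), Over.homMk τ rfl, Over.OverMorphism.ext e, h1, h2, h3,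
        Over.mono_of_mono_left (Over.homMk τ rfl : Over.mk (τ ≫ (X ⊗ X).hom) ⟶ X ⊗ X)⟩
  · intro Y ψ τ e h1 h2 h3 h4
    haveI := h1
    haveI := h2
    haveI := h3
    haveI : IsLocallyNoetherian Y.left := AlgSpLib.isLocallyNoetherian_of_fppf_surjective ψ.left
    let σ : G ⊗ X ⟶ G ⊗ X := lift (fst G X) a.act
    let σ' : G ⊗ X ⟶ G ⊗ X := lift (fst G X) (lift (fst G X)⁻¹ (snd G X) ≫ a.act)
    have hσ : σ ≫ σ' = 𝟙 _ := by
      refine CartesianMonoidalCategory.hom_ext _ _ (by simp [σ, σ']) ?_
      simp only [σ, σ', Category.assoc, lift_snd, Category.id_comp, comp_lift_assoc, GrpObj.comp_inv, lift_fst]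
      have hact : a.act = lift (fst G X) (snd G X) ≫ a.act := by rw [lift_fst_snd, Category.id_comp]
      conv_lhs => arg 1; arg 2; rw [hact]
      rw [← Groth.Agent.MonoQuot.act_mul, inv_mul_cancel, Groth.Agent.MonoQuot.act_one]
    have hσ' : σ' ≫ σ = 𝟙 _ := by
      refine CartesianMonoidalCategory.hom_ext _ _ (by simp [σ, σ']) ?_
      simp only [σ, σ', Category.assoc, lift_snd, Category.id_comp]
      conv_lhs => arg 2; rw [show a.act = lift (fst G X) (snd G X) ≫ a.act by rw [lift_fst_snd, Category.id_comp]]
      simp only [comp_lift_assoc, lift_fst, lift_snd]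
      rw [← Groth.Agent.MonoQuot.act_mul, mul_inv_cancel, Groth.Agent.MonoQuot.act_one]
    haveI : IsIso σ := ⟨σ', hσ, hσ'⟩
    haveI : IsIso σ.left := inferInstanceAs (IsIso ((Over.forget S).map σ))
    have hact : a.act.left = σ.left ≫ (snd G X).left := by rw [← Over.comp_left, lift_snd]
    have key : ∀ (v : G ⊗ X ⟶ X) (w : Y ⟶ X), ψ ≫ w = v → Surjective v.left → Flat v.left →
        LocallyOfFinitePresentation v.left → QuasiCompact v.left →
        Surjective w.left ∧ Flat w.left ∧ LocallyOfFinitePresentation w.left ∧ QuasiCompact w.left ∧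
          QuasiSeparated w.left := by
      intro v w hw a1 a2 a3 a4
      have hw' : ψ.left ≫ w.left = v.left := congrArg Over.Hom.left hw
      haveI : Surjective (ψ.left ≫ w.left) := hw' ▸ a1
      haveI : Flat (ψ.left ≫ w.left) := hw' ▸ a2
      haveI : LocallyOfFinitePresentation (ψ.left ≫ w.left) := hw' ▸ a3
      haveI : QuasiCompact (ψ.left ≫ w.left) := hw' ▸ a4
      refine ⟨Surjective.of_comp ψ.left w.left, Groth.Agent.QuotRep.flat_of_comp_surjective ψ.left w.left,
        Groth.Agent.S0114.result ψ.left w.left, ?_, inferInstance⟩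
      refine ⟨fun U hU hUc => ?_⟩
      rw [← Set.image_preimage_eq (w.left.base ⁻¹' U) ψ.left.surjective]
      exact ((ψ.left ≫ w.left).isCompact_preimage (U := ⟨U, hU⟩) hUc).image ψ.left.continuous
    have r1 := key a.act (τ ≫ fst X X) (by rw [reassoc_of% e, lift_fst]) (by rw [hact]; infer_instance)
      (by rw [hact]; infer_instance) (by rw [hact]; infer_instance) (by rw [hact]; infer_instance)
    have r2 := key (snd G X) (τ ≫ snd X X) (by rw [reassoc_of% e, lift_snd]) inferInstance inferInstance
      inferInstance inferInstance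
    exact ⟨r1.1, r1.2.1, r1.2.2.1, r1.2.2.2.1, r1.2.2.2.2, r2.1, r2.2.1, r2.2.2.1, r2.2.2.2.1, r2.2.2.2.2⟩
end Groth.Agent.S4096
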