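import Groth.Statements.S4102
import Groth.Agent.ClassBoundLib.Locus

set_option backward.isDefEq.respectTransparency false

set_option autoImplicit false
universe u
open CategoryTheory MonoidalCategory CartesianMonoidalCategory MonObj GrpObj AlgebraicGeometry CategoryTheory.Limits
open SGA3

namespace Groth.Agent.S4102

/-- Let G be an S-group scheme which is smooth, quasi-compact and separated over S. Then the set of
points s of S such that the geometric fibre of G at s is a solvable group is closed in S. (Part (i):
without flatness and separation the set is only locally constructible.) -/
theorem result (S : Scheme.{u}) (G : Over S) [GrpObj G]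
    [Smooth G.hom] [QuasiCompact G.hom] [IsSeparated G.hom] :
    IsClosed {s : S | Red.IsSolvableGrp (Red.geomFibre s G)} := by
  have hsm : ∀ s : S, Smooth (Red.geomFibre s G).hom := fun s =>
    MorphismProperty.pullback_snd G.hom (Red.geomPt s) inferInstance
  exact Groth.Agent.ClassBound.isClosed_of_bound (fun s => Red.IsSolvableGrp (Red.geomFibre s G))
    (Groth.Agent.ClassBound.dSet G) (fun U hU => (Groth.Agent.ClassBound.exists_bound G hsm U hU).imp
      fun B hB s hs => (hB s hs).1) fun n => Groth.Agent.ClassBound.isClosed_setOf_unitSet G _

end Groth.Agent.S4102
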