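import Groth.Statements.S4104
import Groth.Agent.HopfFFLib.Injective
import Mathlib.RingTheory.Flat.FaithfullyFlat.Algebra

set_option autoImplicit false
universe u
open CategoryTheory MonoidalCategory CartesianMonoidalCategory MonObj GrpObj AlgebraicGeometry CategoryTheory.Limits
open SGA3

namespace Groth.Agent.S4104

open TensorProduct in
/-- A faithfully flat subalgebra whose inclusion is an epimorphism of rings is everything. -/
theorem eq_top_of_epi {k A : Type u} [CommRing k] [CommRing A] [Algebra k A] (B : Subalgebra k A)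
    [Module.FaithfullyFlat ↥B A]
    (h : ∀ (R : Type u) [CommRing R] (f g : A →+* R), (∀ b : ↥B, f b = g b) → f = g) : B = ⊤ := by
  rw [eq_top_iff]
  intro x _
  have hx := RingHom.congr_fun (h (A ⊗[↥B] A) Algebra.TensorProduct.includeLeftRingHom
    (Algebra.TensorProduct.includeRight : A →ₐ[↥B] A ⊗[↥B] A).toRingHom fun b =>
      ((Algebra.TensorProduct.includeLeft : A →ₐ[↥B] A ⊗[↥B] A).commutes b).trans
        ((Algebra.TensorProduct.includeRight : A →ₐ[↥B] A ⊗[↥B] A).commutes b).symm) x
  let R : Submodule ↥B A := LinearMap.range (Algebra.linearMap ↥B A)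
  have h2 := congrArg (LinearMap.lTensor A R.mkQ) hx
  change LinearMap.lTensor A R.mkQ (x ⊗ₜ[↥B] (1 : A)) =
    LinearMap.lTensor A R.mkQ ((1 : A) ⊗ₜ[↥B] x) at h2
  rw [LinearMap.lTensor_tmul, LinearMap.lTensor_tmul,
    show R.mkQ (1 : A) = 0 from (Submodule.Quotient.mk_eq_zero R).2 ⟨1, map_one (algebraMap ↥B A)⟩,
    tmul_zero] at h2
  have h3 : R.mkQ x = 0 :=
    Module.FaithfullyFlat.tensorProduct_mk_injective (A := ↥B) (B := A) (A ⧸ R)
      (h2.symm.trans (map_zero _).symm)
  obtain ⟨b, rfl⟩ := (Submodule.Quotient.mk_eq_zero R).1 h3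
  exact b.2

/-- Let φ : A' → A be a bialgebra map between commutative Hopf algebras over a field k (a homomorphism
of affine k-groups Spec A → Spec A', not necessarily of finite type). If the corresponding morphism
of schemes is a monomorphism, i.e. φ is an epimorphism in the category of commutative rings, then φ
is surjective (the homomorphism is a closed immersion). -/
theorem result (k : Type u) [Field k] (A' A : Type u) [CommRing A'] [HopfAlgebra k A']
    [CommRing A] [HopfAlgebra k A] (φ : A' →ₐc[k] A)
    (hepi : ∀ (R : Type u) [CommRing R] (f g : A →+* R), f.comp (φ : A' →+* A) = g.comp (φ : A' →+* A) → f = g) :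
    Function.Surjective φ := by
  have := HopfFF.faithfullyFlat (HopfFF.isSubHopf_range φ)
  have h := eq_top_of_epi (φ : A' →ₐ[k] A).range fun R _ f g hfg =>
    hepi R f g (RingHom.ext fun a => hfg ⟨_, a, rfl⟩)
  intro a
  exact (h ▸ trivial : a ∈ (φ : A' →ₐ[k] A).range)

end Groth.Agent.S4104
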