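import Groth.Statements.S4107
import Groth.Agent.AntiAffLib.Kernel
import Groth.Agent.AntiAffLib.Smooth
-- import your own Groth.Agent.* helpers here

set_option autoImplicit false
universe u
open CategoryTheory MonoidalCategory CartesianMonoidalCategory MonObj GrpObj AlgebraicGeometry CategoryTheory.Limits
open SGA3

namespace Groth.Agent.S4107

/-- Let G be an algebraic group over a field k, ρ : G → Spec O(G) the canonical morphism and N = Ker ρ,
the fibre of ρ over the image of the unit section. Then O(N) = k (the structure morphism N → Spec k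
induces an isomorphism on global sections), and N is smooth over k and connected. (The source adds
that N is commutative and characteristic in G.) -/
theorem result (k : Type u) [Field k] (G : Over (Spec (CommRingCat.of k))) [GrpObj G]
    [LocallyOfFiniteType G.hom] [QuasiCompact G.hom] :
    IsIso (pullback.snd G.left.toSpecΓ (η[G].left ≫ G.left.toSpecΓ) ≫ (𝟙_ (Over (Spec (CommRingCat.of k)))).hom).appTop ∧
    Smooth (pullback.snd G.left.toSpecΓ (η[G].left ≫ G.left.toSpecΓ) ≫ (𝟙_ (Over (Spec (CommRingCat.of k)))).hom) ∧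
    ConnectedSpace ↥(pullback G.left.toSpecΓ (η[G].left ≫ G.left.toSpecΓ)) := by
  let e := ((IsPullback.of_hasPullback (AntiAffLib.toHull G)
      (η[AntiAffLib.hull G] : 𝟙_ (Over (Spec (CommRingCat.of k))) ⟶ AntiAffLib.hull G)).map
    (Over.forget _)).isoPullback
  have hstr : e.hom ≫ pullback.snd G.left.toSpecΓ (η[G].left ≫ G.left.toSpecΓ) ≫
      (𝟙_ (Over (Spec (CommRingCat.of k)))).hom = (AntiAffLib.ker G).hom := by
    refine (IsPullback.isoPullback_hom_snd_assoc _ _).trans ?_
    exact Over.w _
  have hiso : IsIso (AntiAffLib.ker G).hom.appTop := by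
    have := (AntiAffLib.antiAff_ker G).iso
    rwa [AntiAffLib.toUnit_left] at this
  haveI : Smooth (AntiAffLib.ker G).hom := AntiAffLib.smooth_of_antiAff _
  rw [← hstr] at hiso
  haveI := hiso
  refine ⟨?_, ?_, ?_⟩
  · rw [Scheme.Hom.comp_appTop] at hiso
    haveI he : IsIso e.hom.appTop :=
      ⟨e.inv.appTop, by rw [← Scheme.Hom.comp_appTop, e.inv_hom_id, Scheme.Hom.id_appTop],
        by rw [← Scheme.Hom.comp_appTop, e.hom_inv_id, Scheme.Hom.id_appTop]⟩
    exact @IsIso.of_isIso_comp_right _ _ _ _ _ _ e.hom.appTop he hiso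
  · exact (MorphismProperty.cancel_left_of_respectsIso @Smooth e.hom _).1 (hstr ▸ ‹Smooth (AntiAffLib.ker G).hom›)
  · haveI := AntiAffLib.connectedSpace_of_antiAff (AntiAffLib.ker G)
    exact @Function.Surjective.connectedSpace ↥(AntiAffLib.ker G).left _ _ ‹_› _ e.hom.base e.hom.surjective e.hom.continuous
end Groth.Agent.S4107
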