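import Groth.Statements.S4110
import Groth.Agent.HeightOne.Field
import Mathlib.RingTheory.Bialgebra.TensorProduct
import Mathlib.RingTheory.LocalRing.Module
import Mathlib.RingTheory.LocalRing.ResidueField.Basic
import Mathlib.RingTheory.Finiteness.ModuleFinitePresentation

set_option autoImplicit false
universe u
open CategoryTheory MonoidalCategory CartesianMonoidalCategory MonObj GrpObj AlgebraicGeometry CategoryTheory.Limits
open SGA3

namespace Groth.Agent.S4110

set_option maxHeartbeats 800000

/-- (iv) ⟹ (ii), over a local base: let R be a local ring of prime characteristic p and A a commutative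
Hopf algebra over R which is of finite presentation and flat over R (an R-group G locally of finite
presentation and flat; finiteness is then a consequence) and of height ≤ 1: every element a of the
augmentation ideal satisfies a^p = 0 (the Frobenius of G is trivial). Then A is isomorphic as an
R-algebra to R[X₁, …, Xₙ]/(X₁^p, …, Xₙ^p) for some n (n is the rank of the conormal module ω_G,
which is free). -/
theorem result (p : ℕ) [Fact p.Prime] (R : Type u) [CommRing R]
    [IsLocalRing R] [CharP R p] (A : Type u) [CommRing A] [HopfAlgebra R A] [Algebra.FinitePresentation R A] [Module.Flat R A]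
    (h1 : ∀ a : A, Bialgebra.counitAlgHom R A a = 0 → a ^ p = 0) :
    ∃ n : ℕ, Nonempty (A ≃ₐ[R] (MvPolynomial (Fin n) R ⧸
      Ideal.span (Set.range fun i : Fin n => (MvPolynomial.X i : MvPolynomial (Fin n) R) ^ p))) := by
  classical
  let I := RingHom.ker (Bialgebra.counitAlgHom R A).toRingHom
  have hsub : ∀ a : A, Bialgebra.counitAlgHom R A (a - algebraMap R A (Bialgebra.counitAlgHom R A a)) = 0 := fun a => by
    rw [map_sub, AlgHom.commutes, Algebra.algebraMap_self, RingHom.id_apply, sub_self]
  haveI : Algebra.IsIntegral R A := ⟨fun a => by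
    rw [show a = (a - algebraMap R A (Bialgebra.counitAlgHom R A a)) + algebraMap R A (Bialgebra.counitAlgHom R A a) by ring]
    refine IsIntegral.add (IsIntegral.of_pow (n := p) (Fact.out : p.Prime).pos ?_) isIntegral_algebraMap
    rw [h1 _ (hsub a)]
    exact isIntegral_zero⟩
  haveI : Module.Finite R A := Algebra.IsIntegral.finite
  let k := IsLocalRing.ResidueField R
  haveI : CharP k p := by
    haveI := Fact.out (p := p.Prime)
    exact ringChar.of_eq ((ringChar.eq_iff).mpr (CharP.ringChar_of_prime_eq_zero Fact.out (by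
      rw [← map_natCast (IsLocalRing.residue R), CharP.cast_eq_zero, map_zero]) ▸ ringChar.charP k))
  let B := TensorProduct R k A
  have hsurj : Function.Surjective (fun a : A => (1 : k) ⊗ₜ[R] a) :=
    TensorProduct.mk_surjective R A k Ideal.Quotient.mk_surjective
  have hlift : ∀ z : B, z ∈ HeightOne.aug k B → ∃ a : A, Bialgebra.counitAlgHom R A a = 0 ∧ (1 : k) ⊗ₜ[R] a = z := by
    intro z hz
    obtain ⟨a, rfl⟩ := hsurj z
    refine ⟨_, hsub a, ?_⟩
    have h0 : Bialgebra.counitAlgHom R A a • (1 : k) = 0 := hz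
    show (1 : k) ⊗ₜ[R] (a - algebraMap R A (Bialgebra.counitAlgHom R A a)) = (1 : k) ⊗ₜ[R] a
    rw [TensorProduct.tmul_sub, Algebra.algebraMap_eq_smul_one, ← TensorProduct.smul_tmul, h0, TensorProduct.zero_tmul,
      sub_zero]
  have hnil : ∀ z ∈ HeightOne.aug k B, z ^ p = 0 := fun z hz => by
    obtain ⟨a, ha, rfl⟩ := hlift z hz
    rw [Algebra.TensorProduct.tmul_pow, h1 a ha, TensorProduct.tmul_zero]
  obtain ⟨n, x, ξ, hx, hξ, hδ, hxsurj⟩ := HeightOne.exists_coords (k := k) (B := B) p hnil
  choose a ha hax using fun i => hlift (x i) (hx i)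
  let ψ : MvPolynomial (Fin n) R →ₐ[R] A := MvPolynomial.aeval a
  let J : Ideal (MvPolynomial (Fin n) R) := Ideal.span (Set.range fun i : Fin n => MvPolynomial.X i ^ p)
  have hJ : ∀ f ∈ J, ψ f = 0 := fun f hf => by
    have : J ≤ RingHom.ker ψ.toRingHom := Ideal.span_le.mpr (by
      rintro _ ⟨i, rfl⟩
      simpa [ψ] using h1 _ (ha i))
    exact this hf
  let Φ : (MvPolynomial (Fin n) R ⧸ J) →ₐ[R] A := Ideal.Quotient.liftₐ J ψ hJ
  let E := ULift.{u} (Fin n → Fin p)
  let ex : E → (Fin n →₀ ℕ) := fun e => Finsupp.equivFunOnFinite.symm fun i => (e.down i : ℕ)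
  have hex : Function.Injective ex := fun e e' h => ULift.ext _ _ <| funext fun i => Fin.ext (by
    simpa [ex] using DFunLike.congr_fun h i)
  have hsmall : ∀ (S : Type u) [CommRing S] (y : Fin n → S), (∀ i, y i ^ p = 0) → ∀ v : Fin n →₀ ℕ,
      (v.prod fun i m => y i ^ m) ≠ 0 → ∃ e, ex e = v := by
    intro S _ y hy v hv
    have hlt : ∀ i, v i < p := fun i => by
      by_contra h
      refine hv ?_
      rw [Finsupp.prod_fintype _ _ (fun _ => pow_zero _)]
      refine Finset.prod_eq_zero (Finset.mem_univ i) ?_
      rw [← Nat.add_sub_cancel' (not_lt.mp h), pow_add, hy, zero_mul]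
    exact ⟨⟨fun i => ⟨v i, hlt i⟩⟩, Finsupp.ext fun i => by simp [ex]⟩
  let v : E → A := fun e => ψ (MvPolynomial.monomial (ex e) 1)
  have hv : ∀ e, (1 : k) ⊗ₜ[R] v e = MvPolynomial.aeval x (MvPolynomial.monomial (ex e) (1 : k)) := by
    intro e
    have : (Algebra.TensorProduct.includeRight (R := R) (A := k) (B := A)).comp ψ =
        (MvPolynomial.aeval (R := R) x) := MvPolynomial.algHom_ext fun i => by simp [ψ, hax]
    show (Algebra.TensorProduct.includeRight (R := R) (A := k) (B := A)).comp ψ _ = _
    rw [this, MvPolynomial.aeval_monomial, MvPolynomial.aeval_monomial, map_one, map_one]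
  have hxp : ∀ i, x i ^ p = 0 := fun i => hnil _ (hx i)
  have hspan : (⊤ : Submodule k B) ≤ Submodule.span k (Set.range fun e => (1 : k) ⊗ₜ[R] v e) := by
    rintro z -
    obtain ⟨f, rfl⟩ := hxsurj z
    rw [MvPolynomial.as_sum f, map_sum]
    refine Submodule.sum_mem _ fun m _ => ?_
    rw [← _root_.mul_one (MvPolynomial.coeff m f), ← smul_eq_mul, ← MvPolynomial.smul_monomial, map_smul]
    refine Submodule.smul_mem _ _ ?_
    by_cases h : MvPolynomial.aeval x (MvPolynomial.monomial m (1 : k)) = 0
    · rw [h]; exact zero_mem _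
    · obtain ⟨e, rfl⟩ := hsmall B x hxp m (by simpa [MvPolynomial.aeval_monomial] using h)
      exact Submodule.subset_span ⟨e, hv e⟩
  have hind : LinearIndependent k (fun e => (1 : k) ⊗ₜ[R] v e) := by
    rw [Fintype.linearIndependent_iff]
    intro c hc e
    let f : MvPolynomial (Fin n) k := ∑ e, MvPolynomial.monomial (ex e) (c e)
    have hcoeff : ∀ m, MvPolynomial.coeff m f = ∑ e, if ex e = m then c e else 0 := fun m => by
      simp [f, MvPolynomial.coeff_sum, MvPolynomial.coeff_monomial]
    have hf : f = 0 := HeightOne.eq_zero_of_aeval x hx ξ hξ hδ p (fun m hm i => by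
      rw [MvPolynomial.mem_support_iff, hcoeff] at hm
      obtain ⟨e, -, he⟩ := Finset.exists_ne_zero_of_sum_ne_zero hm
      have : ex e = m := by by_contra h; exact he (if_neg h)
      rw [← this]
      simp [ex]) (by
      rw [map_sum, ← hc]
      refine Finset.sum_congr rfl fun e _ => ?_
      rw [hv, ← map_smul, MvPolynomial.smul_monomial, smul_eq_mul, _root_.mul_one])
    have := hcoeff (ex e)
    rw [hf, MvPolynomial.coeff_zero, Finset.sum_eq_single e (fun e' _ h => if_neg fun h' => h (hex h'))
      (fun h => absurd (Finset.mem_univ e) h), if_pos rfl] at this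
    exact this.symm
  let bv : Module.Basis E R A := Module.Basis.mk (Module.IsLocalRing.linearIndependent_of_flat v hind)
    (IsLocalRing.span_eq_top_of_tmul_eq_basis v (Module.Basis.mk hind hspan) fun e => by simp).ge
  let L : A →ₗ[R] MvPolynomial (Fin n) R ⧸ J :=
    bv.constr R fun e => Ideal.Quotient.mk J (MvPolynomial.monomial (ex e) 1)
  have hX : ∀ i, (Ideal.Quotient.mk J (MvPolynomial.X i)) ^ p = 0 := fun i => by
    rw [← map_pow, Ideal.Quotient.eq_zero_iff_mem]
    exact Ideal.subset_span ⟨i, rfl⟩
  have hLΦ : ∀ q, L (Φ q) = q := fun q => by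
    obtain ⟨f, rfl⟩ := Ideal.Quotient.mk_surjective q
    induction f using MvPolynomial.induction_on' with
    | add f g hf hg => simp only [map_add, hf, hg]
    | monomial m c =>
      have hmon : L (ψ (MvPolynomial.monomial m 1)) = Ideal.Quotient.mk J (MvPolynomial.monomial m 1) := by
        by_cases hm : ∃ e, ex e = m
        · obtain ⟨e, rfl⟩ := hm
          show L (v e) = _
          rw [show v e = bv e from (Module.Basis.mk_apply _ _ _).symm, Module.Basis.constr_basis]
        · have h2 : Ideal.Quotient.mk J (MvPolynomial.monomial m 1) = 0 := by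
            by_contra h
            refine hm (hsmall _ (fun i => Ideal.Quotient.mk J (MvPolynomial.X i)) hX m ?_)
            rw [MvPolynomial.monomial_eq, map_one, _root_.one_mul, Finsupp.prod, map_prod] at h
            simpa [Finsupp.prod] using h
          rw [h2, show ψ (MvPolynomial.monomial m 1) = 0 from hJ _ (Ideal.Quotient.eq_zero_iff_mem.mp h2), map_zero]
      show L (ψ (MvPolynomial.monomial m c)) = _
      rw [show MvPolynomial.monomial m c = c • MvPolynomial.monomial m (1 : R) by
        rw [MvPolynomial.smul_monomial, smul_eq_mul, _root_.mul_one], map_smul, map_smul, hmon]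
      rfl
  have hΦmk : ∀ f, Φ (Ideal.Quotient.mk J f) = ψ f := fun f => by
    simp only [Φ, Ideal.Quotient.liftₐ_apply]; exact Ideal.Quotient.lift_mk _ _ _
  have hbv : ∀ e, bv e = v e := fun e => Module.Basis.mk_apply _ _ e
  have hΦsurj : Function.Surjective Φ := by
    intro z
    have hz : z ∈ Submodule.span R (Set.range bv) := bv.mem_span z
    induction hz using Submodule.span_induction with
    | mem y hy =>
      obtain ⟨e, rfl⟩ := hy
      exact ⟨Ideal.Quotient.mk J (MvPolynomial.monomial (ex e) 1), (hΦmk _).trans (hbv e).symm⟩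
    | zero => exact ⟨0, map_zero _⟩
    | add y y' _ _ hy hy' =>
      obtain ⟨q, rfl⟩ := hy; obtain ⟨q', rfl⟩ := hy'
      exact ⟨q + q', map_add _ _ _⟩
    | smul c y _ hy =>
      obtain ⟨q, rfl⟩ := hy
      exact ⟨c • q, map_smul _ _ _⟩
  exact ⟨n, ⟨(AlgEquiv.ofBijective Φ ⟨Function.LeftInverse.injective hLΦ, hΦsurj⟩).symm⟩⟩

end Groth.Agent.S4110
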