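import Groth.Statements.S4113
import Mathlib
import Mathlib
-- import your own Groth.Agent.* helpers here

set_option autoImplicit false
universe u
open CategoryTheory MonoidalCategory CartesianMonoidalCategory MonObj GrpObj AlgebraicGeometry CategoryTheory.Limits
open SGA3
open scoped TensorProduct

namespace Groth.Agent.S4113

/-- Let A be a finite-dimensional commutative Hopf algebra over a field k (a finite algebraic k-group of
rank dim A). If the rank is invertible in k then A is an etale k-algebra. -/
theorem result (k : Type u) [Field k] (A : Type u) [CommRing A] [HopfAlgebra k A]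
    [Module.Finite k A] (h : (Module.finrank k A : k) ≠ 0) : Algebra.Etale k A := by
  classical
  let Φ : A ⊗[k] A →ₐ[A] A ⊗[k] A :=
    Algebra.TensorProduct.lift (Algebra.ofId A (A ⊗[k] A)) (Bialgebra.comulAlgHom k A)
      (fun _ _ => Commute.all _ _)
  have hΦt : ∀ x y : A, Φ (x ⊗ₜ[k] y) = (x ⊗ₜ[k] (1 : A)) * Coalgebra.comul y := fun x y => by
    simp [Φ, Algebra.ofId_apply, Algebra.TensorProduct.algebraMap_apply]
  let F : A ⊗[k] (A ⊗[k] A) →ₗ[k] A ⊗[k] A :=
    (LinearMap.mul' k A ∘ₗ (HopfAlgebra.antipode k).rTensor A).rTensor A ∘ₗ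
      (TensorProduct.assoc k A A A).symm.toLinearMap
  have hFv : ∀ (x : A) (v : A ⊗[k] A),
      F (x ⊗ₜ[k] v) = (HopfAlgebra.antipode k x ⊗ₜ[k] (1 : A)) * v := by
    intro x v
    induction v using TensorProduct.induction_on with
    | zero => simp
    | tmul y z => simp [F]
    | add a b ha hb => simp only [TensorProduct.tmul_add, map_add, ha, hb, mul_add]
  have hFu : ∀ u : A ⊗[k] A, F ((Coalgebra.comul (R := k)).lTensor A u) =
      Φ ((HopfAlgebra.antipode k).rTensor A u) := by
    intro u
    induction u using TensorProduct.induction_on with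
    | zero => simp
    | tmul x y => simp [hΦt, hFv]
    | add a b ha hb => simp only [map_add, ha, hb]
  have hone : ∀ b : A, ∃ z, Φ z = (1 : A) ⊗ₜ[k] b := by
    intro b
    refine ⟨(HopfAlgebra.antipode k).rTensor A (Coalgebra.comul b), ?_⟩
    rw [← hFu, ← Coalgebra.coassoc_apply]
    simp only [F, LinearMap.comp_apply, LinearEquiv.coe_coe, LinearEquiv.symm_apply_apply]
    rw [← LinearMap.rTensor_comp_apply, LinearMap.comp_assoc,
      HopfAlgebra.mul_antipode_rTensor_comul, LinearMap.rTensor_comp_apply,
      Coalgebra.rTensor_counit_comul]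
    simp
  have hsurj : Function.Surjective Φ := by
    intro w
    induction w using TensorProduct.induction_on with
    | zero => exact ⟨0, map_zero _⟩
    | tmul x b =>
      obtain ⟨z, hz⟩ := hone b
      refine ⟨(x ⊗ₜ[k] 1) * z, ?_⟩
      rw [map_mul, hz, hΦt]
      simp
    | add a b ha hb =>
      obtain ⟨za, rfl⟩ := ha
      obtain ⟨zb, rfl⟩ := hb
      exact ⟨za + zb, map_add _ _ _⟩
  have hinj : Function.Injective Φ :=
    (LinearMap.injective_iff_surjective (f := (Φ.toLinearMap.restrictScalars k))).2 hsurj
  let e := AlgEquiv.ofBijective Φ ⟨hinj, hsurj⟩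
  let T : A ⊗[k] A →ₗ[A] A := Algebra.trace A (A ⊗[k] A)
  have hTt : ∀ x y : A, T (x ⊗ₜ[k] y) = Algebra.trace k A y • x := by
    intro x y
    have h1 : x ⊗ₜ[k] y = x • ((1 : A) ⊗ₜ[k] y) := by simp [TensorProduct.smul_tmul']
    have h2 : Algebra.lmul A (A ⊗[k] A) ((1 : A) ⊗ₜ[k] y) = (Algebra.lmul k A y).baseChange A := by
      ext z
      simp
    rw [h1, map_smul]
    show x • Algebra.trace A (A ⊗[k] A) ((1 : A) ⊗ₜ[k] y) = _
    rw [Algebra.trace_apply, h2, LinearMap.trace_baseChange, Algebra.trace_apply, smul_eq_mul,
      Algebra.smul_def, _root_.mul_comm]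
  have hT : ∀ z, T (Φ z) = T z := fun z => Algebra.trace_eq_of_algEquiv e z
  -- nondegeneracy
  have hnd : ∀ a : A, (∀ b, Algebra.trace k A (a * b) = 0) → a = 0 := by
    intro a ha
    let bs := Module.finBasis k A
    have coef : ∀ d : A, (∀ b, Algebra.trace k A (d * b) = 0) →
        ∃ c : Fin (Module.finrank k A) → A,
          Coalgebra.comul d = ∑ i, bs i ⊗ₜ[k] c i ∧ ∀ i b, Algebra.trace k A (c i * b) = 0 := by
      intro d hd
      obtain ⟨c, hc⟩ := (TensorProduct.equivFinsuppOfBasisLeft bs).symm.surjective (Coalgebra.comul d)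
      have hc' : Coalgebra.comul d = ∑ i, bs i ⊗ₜ[k] c i := by
        rw [← hc, TensorProduct.equivFinsuppOfBasisLeft_symm_apply, Finsupp.sum_fintype]
        intro i; simp
      refine ⟨c, hc', fun i b => ?_⟩
      obtain ⟨z, hz⟩ := hone b
      have h0 : T (((1 : A) ⊗ₜ[k] d) * z) = 0 := by
        clear hz
        induction z using TensorProduct.induction_on with
        | zero => simp
        | tmul x y => simp [hTt, hd]
        | add p q hp hq => rw [mul_add, map_add, hp, hq, add_zero]
      rw [← hT, map_mul, hz, hΦt, ← Algebra.TensorProduct.one_def, _root_.one_mul, hc'] at h0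
      simp only [Finset.sum_mul, map_sum, Algebra.TensorProduct.tmul_mul_tmul, _root_.mul_one, hTt] at h0
      exact Fintype.linearIndependent_iff.1 bs.linearIndependent _ h0 i
    have key : ∀ d : A, (∀ b, Algebra.trace k A (d * b) = 0) →
        ∀ r : k, d = algebraMap k A r → r = 0 := by
      intro d hd r hr
      have := hd 1
      rw [_root_.mul_one, hr, Algebra.trace_algebraMap, nsmul_eq_mul] at this
      exact (mul_eq_zero.1 this).resolve_left h
    have hcnt : ∀ d : A, (∃ c : Fin (Module.finrank k A) → A,
        Coalgebra.comul d = ∑ i, bs i ⊗ₜ[k] c i ∧ ∀ i b, Algebra.trace k A (c i * b) = 0) →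
        Coalgebra.counit (R := k) d = 0 := by
      rintro d ⟨c, hc, hN⟩
      refine key (∑ i, HopfAlgebra.antipode k (bs i) * c i) ?_ _ ?_
      · intro b
        simp only [Finset.sum_mul, map_sum]
        refine Finset.sum_eq_zero fun i _ => ?_
        rw [_root_.mul_comm (HopfAlgebra.antipode k (bs i)) (c i), _root_.mul_assoc]
        exact hN i _
      · rw [← HopfAlgebra.mul_antipode_rTensor_comul_apply (R := k) d, hc]
        simp
    obtain ⟨c, hc, hN⟩ := coef a ha
    have := Coalgebra.lTensor_counit_comul (R := k) a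
    rw [hc] at this
    simp only [map_sum, LinearMap.lTensor_tmul, fun i => hcnt _ (coef _ (hN i)), TensorProduct.tmul_zero,
      Finset.sum_const_zero] at this
    simpa using (congrArg (TensorProduct.rid k A) this).symm
  have hB : (Algebra.traceForm k A).Nondegenerate := by
    refine ⟨fun a ha => hnd a (fun b => by simpa using ha b), fun a ha => hnd a (fun b => ?_)⟩
    rw [_root_.mul_comm]; simpa using ha b
  let bs := Module.finBasis k A
  let db := (Algebra.traceForm k A).dualBasis hB bs
  have hrep : ∀ (x : A) i, bs.repr x i = Algebra.trace k A (x * db i) := by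
    intro x i
    conv_rhs => rw [← bs.sum_repr x]
    simp only [Finset.sum_mul, map_sum, smul_mul_assoc, map_smul]
    rw [Finset.sum_eq_single i]
    · have := LinearMap.BilinForm.apply_dualBasis_left (B := Algebra.traceForm k A) hB bs i i
      rw [Algebra.traceForm_apply, if_pos rfl, _root_.mul_comm] at this
      rw [this, smul_eq_mul, _root_.mul_one]
    · intro j _ hj
      have := LinearMap.BilinForm.apply_dualBasis_left (B := Algebra.traceForm k A) hB bs i j
      rw [Algebra.traceForm_apply, if_neg hj, _root_.mul_comm] at this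
      rw [this, smul_zero]
    · simp
  have hdrep : ∀ (x : A) i, db.repr x i = Algebra.trace k A (x * bs i) := fun x i => by
    rw [LinearMap.BilinForm.dualBasis_repr_apply, Algebra.traceForm_apply]
  have : Algebra.FormallyUnramified k A := by
    rw [Algebra.FormallyUnramified.iff_exists_tensorProduct]
    refine ⟨∑ i, bs i ⊗ₜ[k] db i, fun s => ?_, ?_⟩
    · rw [sub_mul, sub_eq_zero, Finset.mul_sum, Finset.mul_sum]
      simp only [Algebra.TensorProduct.tmul_mul_tmul, _root_.one_mul]
      calc ∑ i, bs i ⊗ₜ[k] (s * db i)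
          = ∑ i, ∑ j, Algebra.trace k A (s * db i * bs j) • (bs i ⊗ₜ[k] db j) := by
            refine Finset.sum_congr rfl fun i _ => ?_
            conv_lhs => rw [← db.sum_repr (s * db i)]
            simp only [hdrep, TensorProduct.tmul_sum, TensorProduct.tmul_smul]
        _ = ∑ j, (s * bs j) ⊗ₜ[k] db j := by
            rw [Finset.sum_comm]
            refine Finset.sum_congr rfl fun j _ => ?_
            conv_rhs => rw [← bs.sum_repr (s * bs j)]
            simp only [hrep, TensorProduct.sum_tmul, TensorProduct.smul_tmul']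
            refine Finset.sum_congr rfl fun i _ => ?_
            rw [_root_.mul_right_comm]
    · simp only [map_sum, Algebra.TensorProduct.lmul'_apply_tmul]
      refine sub_eq_zero.1 (hnd _ fun b => ?_)
      rw [sub_mul, _root_.one_mul, map_sub, sub_eq_zero, Finset.sum_mul, map_sum,
        Algebra.trace_eq_matrix_trace bs b, Matrix.trace]
      refine Finset.sum_congr rfl fun i _ => ?_
      rw [Matrix.diag_apply, Algebra.leftMulMatrix_eq_repr_mul, hrep]
      congr 1; ring
  have := Algebra.FormallyEtale.of_formallyUnramified_of_field k A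
  exact Algebra.Etale.mk this (Algebra.FinitePresentation.of_finiteType.1 inferInstance)

end Groth.Agent.S4113
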