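import Groth.Statements.S4114
import Groth.Agent.DeligneKillLib.Affine
import Groth.Agent.HopfFFLib.Order
-- import your own Groth.Agent.* helpers here

set_option autoImplicit false
set_option backward.isDefEq.respectTransparency false
set_option maxHeartbeats 1000000
universe u
open CategoryTheory MonoidalCategory CartesianMonoidalCategory MonObj GrpObj AlgebraicGeometry CategoryTheory.Limits
open SGA3

namespace Groth.Agent.S4114

open CategoryTheory CategoryTheory.Limits AlgebraicGeometry CoactBr WithConv TensorProduct in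
theorem convPow_eq_one {R A : Type u} [CommRing R] [IsReduced R] [CommRing A] [HopfAlgebra R A] [Module.Finite R A]
    [Module.Projective R A] {n : ℕ} (hn : ∀ p : PrimeSpectrum R, Module.rankAtStalk A p = n) :
    (toConv (AlgHom.id R A)) ^ n = 1 := by
  apply WithConv.ext
  apply AlgHom.ext
  intro a
  rw [← sub_eq_zero, ← Module.forall_dual_apply_eq_zero_iff R]
  intro φ
  refine IsNilpotent.eq_zero ?_
  rw [nilpotent_iff_mem_prime]
  intro P hP
  let L := P.ResidueField
  let iA : A →ₐ[R] L ⊗[R] A := Algebra.TensorProduct.includeRight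
  have key : ∀ (m : ℕ) (a : A),
      (toConv (AlgHom.id L (L ⊗[R] A)) ^ m).ofConv (iA a) = iA ((toConv (AlgHom.id R A) ^ m).ofConv a) := by
    intro m
    induction m with
    | zero =>
      intro a
      simp [iA, Algebra.algebraMap_eq_smul_one, Algebra.TensorProduct.one_def]
    | succ m ih =>
      intro a
      rw [pow_succ, pow_succ, AlgHom.convMul_apply, AlgHom.convMul_apply]
      simp only [iA, Algebra.TensorProduct.includeRight_apply] at ih ⊢
      rw [TensorProduct.comul_tmul, Bialgebra.comul_one]
      generalize CoalgebraStruct.comul (R := R) a = z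
      induction z using TensorProduct.induction_on with
      | zero => simp
      | add z w hz hw => simp only [tmul_add, map_add, hz, hw]
      | tmul x y => simp [Algebra.TensorProduct.one_def, ih]
  have hL : (toConv (AlgHom.id L (L ⊗[R] A))) ^ n = 1 := by
    have h := Groth.Agent.HopfFF.convPow_id_eq_one (k := L) (A := L ⊗[R] A)
    rwa [show Module.finrank L (L ⊗[R] A) = n by rw [← hn ⟨P, hP⟩, Module.rankAtStalk_eq]] at h
  have h0 : (1 : L) ⊗ₜ[R] ((toConv (AlgHom.id R A) ^ n).ofConv a - (1 : WithConv (A →ₐ[R] A)).ofConv a) = 0 := by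
    rw [TensorProduct.tmul_sub, sub_eq_zero]
    refine (key n a).symm.trans ?_
    rw [hL]
    simp [iA, Algebra.algebraMap_eq_smul_one, Algebra.TensorProduct.one_def]
  have h1 := congrArg (LinearMap.lTensor L φ) h0
  rw [LinearMap.lTensor_tmul, map_zero] at h1
  have h2 := congrArg (TensorProduct.rid R L) h1
  rw [TensorProduct.rid_tmul, map_zero, ← Algebra.algebraMap_eq_smul_one] at h2
  exact Ideal.algebraMap_residueField_eq_zero.mp h2

open CoactBr in
theorem affine_case {R : Type u} [CommRing R] [_root_.IsReduced R] (G : Over (Spec (CommRingCat.of R))) [GrpObj G]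
    [IsFinite G.hom] [Flat G.hom] [LocallyOfFinitePresentation G.hom] (n : ℕ)
    (hr : ∀ s, Scheme.Hom.finrank G.hom s = n) : (𝟙 G) ^ n = 1 := by
  haveI : IsAffine G.left := isAffine_of_isAffineHom G.hom
  obtain ⟨A, _, _, v, hv, hv'⟩ := DeligneKillLib.exists_sp G
  haveI := hv; haveI := hv'
  haveI : IsIso v.hom.left := (Over.forget _).map_isIso v.hom
  have hw : (sp R A).hom = v.hom.left ≫ G.hom := (Over.w v.hom).symm
  have hfin : IsFinite (sp R A).hom := by rw [hw]; infer_instance
  have hflat : Flat (sp R A).hom := by rw [hw]; infer_instance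
  have hfp : LocallyOfFinitePresentation (sp R A).hom := by rw [hw]; infer_instance
  change IsFinite (Spec.map (CommRingCat.ofHom (algebraMap R A))) at hfin
  change Flat (Spec.map (CommRingCat.ofHom (algebraMap R A))) at hflat
  change LocallyOfFinitePresentation (Spec.map (CommRingCat.ofHom (algebraMap R A))) at hfp
  rw [IsFinite.SpecMap_iff, CommRingCat.hom_ofHom, RingHom.finite_algebraMap] at hfin
  rw [Flat.SpecMap_iff, CommRingCat.hom_ofHom, RingHom.flat_algebraMap_iff] at hflat
  rw [HasRingHomProperty.Spec_iff (P := @LocallyOfFinitePresentation), CommRingCat.hom_ofHom, RingHom.finitePresentation_algebraMap] at hfp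
  haveI := hfin; haveI := hflat; haveI := hfp
  haveI : Module.FinitePresentation R A := Module.FinitePresentation.of_finite_of_finitePresentation R A
  haveI : Module.Projective R A := Module.Flat.projective_of_finitePresentation
  have hrank : ∀ p : PrimeSpectrum R, Module.rankAtStalk A p = n := fun p => by
    rw [← Scheme.Hom.finrank_SpecMap_algebraMap R A p, ← hr p]
    have : Spec.map (CommRingCat.ofHom (algebraMap R A)) = v.hom.left ≫ G.hom := hw
    rw [this, Scheme.Hom.finrank_comp_left_of_isIso]
  have h1 : (𝟙 (sp R A)) ^ n = 1 := by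
    rw [← pt_id, DeligneKillLib.pt_pow, convPow_eq_one hrank, ← Groth.Agent.DiagRep.pt_one]
    rfl
  calc (𝟙 G) ^ n = (v.inv ≫ 𝟙 (sp R A) ≫ v.hom) ^ n := by simp
    _ = v.inv ≫ (((𝟙 (sp R A)) ^ n) ≫ v.hom) := by rw [MonObj.pow_comp, MonObj.comp_pow]
    _ = 1 := by rw [h1, MonObj.one_comp, MonObj.comp_one]

/-- Let S be a reduced scheme and G an S-group scheme which is finite locally free of constant rank n
over S. Then the n-th power morphism of G is the trivial endomorphism (g ↦ gⁿ factors through the
unit section). -/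
theorem result (S : Scheme.{u}) [IsReduced S] (G : Over S) [GrpObj G] (n : ℕ)
    (hG : Mor2.IsFinLocFreeOfDeg n G.hom) : (𝟙 G : G ⟶ G) ^ n = 1 := by
  obtain ⟨hfl, hrk⟩ := hG
  obtain ⟨hfin, hflat, hfp⟩ := hfl
  haveI := hfin; haveI := hflat; haveI := hfp
  have hloc : ∀ U : S.affineOpens, pullback.fst G.hom U.2.fromSpec ≫ ((𝟙 G : G ⟶ G) ^ n).left =
      pullback.fst G.hom U.2.fromSpec ≫ (1 : G ⟶ G).left := by
    intro U
    let F := (Over.pullback U.2.fromSpec).obj G
    letI : GrpObj F := Functor.grpObjObj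
    haveI : IsFinite F.hom := MorphismProperty.pullback_snd _ _ inferInstance
    haveI : Flat F.hom := MorphismProperty.pullback_snd _ _ inferInstance
    haveI : LocallyOfFinitePresentation F.hom := MorphismProperty.pullback_snd _ _ inferInstance
    haveI : _root_.IsReduced Γ(S, U.1) := inferInstance
    have h := affine_case F n fun s => (Scheme.Hom.finrank_pullback_snd G.hom U.2.fromSpec s).trans (hrk _)
    have h2 : (Over.pullback U.2.fromSpec).map ((𝟙 G : G ⟶ G) ^ n) = (Over.pullback U.2.fromSpec).map (1 : G ⟶ G) :=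
      (((map_pow (Over.pullback U.2.fromSpec).homMonoidHom (𝟙 G) n).trans
        (congrArg (· ^ n) ((Over.pullback U.2.fromSpec).map_id G))).trans h).trans
        (map_one (Over.pullback U.2.fromSpec).homMonoidHom).symm
    have := congrArg (fun φ => Over.Hom.left φ ≫ pullback.fst G.hom U.2.fromSpec) h2
    dsimp at this
    erw [pullback.lift_fst, pullback.lift_fst] at this
    exact this
  refine Over.OverMorphism.ext (Scheme.Cover.hom_ext (Scheme.openCoverOfIsOpenCover _
    (fun U : S.affineOpens => G.hom ⁻¹ᵁ U.1) ?_) _ _ fun U => ?_)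
  · refine eq_top_iff.mpr fun x _ => TopologicalSpace.Opens.mem_iSup.mpr ?_
    obtain ⟨U, hU, hxU, -⟩ := exists_isAffineOpen_mem_and_subset (X := S) (x := G.hom x) (U := ⊤) trivial
    exact ⟨⟨U, hU⟩, hxU⟩
  · show (G.hom ⁻¹ᵁ U.1).ι ≫ _ = (G.hom ⁻¹ᵁ U.1).ι ≫ _
    let l : (G.hom ⁻¹ᵁ U.1).toScheme ⟶ pullback G.hom U.2.fromSpec :=
      pullback.lift (G.hom ⁻¹ᵁ U.1).ι ((G.hom ∣_ U.1) ≫ U.2.isoSpec.hom) (by
        rw [Category.assoc, IsAffineOpen.isoSpec_hom_fromSpec, morphismRestrict_ι])
    rw [← show l ≫ pullback.fst G.hom U.2.fromSpec = (G.hom ⁻¹ᵁ U.1).ι from pullback.lift_fst _ _ _,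
      Category.assoc, Category.assoc, hloc U]

end Groth.Agent.S4114
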