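import Groth.Statements.S4118
import Groth.Agent.TransporterLib.Main
import Groth.Agent.TransporterLib.Smooth
import Groth.Agent.TransporterLib.Comm
import Groth.Agent.TransporterLib.SubTop
import Groth.Agent.WeilResLib.Apps
import Groth.Agent.S4120
import Groth.Agent.BorelLib.MaxTorGeom
import Groth.Agent.RedRankLib.CommRel
-- import your own Groth.Agent.* helpers here

set_option autoImplicit false
set_option maxHeartbeats 4000000
set_option synthInstance.maxHeartbeats 400000
set_option backward.isDefEq.respectTransparency false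
universe u
open CategoryTheory MonoidalCategory CartesianMonoidalCategory MonObj GrpObj AlgebraicGeometry CategoryTheory.Limits
open SGA3x

attribute [-instance] CategoryTheory.Hom.commGroup

namespace Groth.Agent.S4118

open Groth.Agent.BorelLib
attribute [local instance] BorelLib.pTop BorelLib.pTopTensor

/-- Let G be an S-group scheme, smooth, separated and of finite type over S, and i : T → G a maximal
torus. Then the centralizer of T is represented by a closed subgroup scheme c : C → G which is a
Cartan subgroup of G (smooth over S with Cartan geometric fibres); T factors through C as a maximal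
torus of C, and every maximal torus of C coincides with T (as a subgroup of C). -/
theorem result (S : Scheme.{u}) (G : Over S) [GrpObj G]
    [Smooth G.hom] [IsSeparated G.hom] [QuasiCompact G.hom]
    (T : Over S) [GrpObj T] (i : T ⟶ G) (hT : Red.IsMaximalTorus i) :
    ∃ (C : Over S) (_ : GrpObj C) (c : C ⟶ G), Red.IsCentralizerOf i c ∧ IsClosedImmersion c.left ∧ SGA3x.IsCartan c ∧
      ∃ i' : T ⟶ C, i' ≫ c = i ∧ Red.IsMaximalTorus i' ∧
        ∀ (T' : Over S) [GrpObj T'] (j : T' ⟶ C), Red.IsMaximalTorus j → ∃ φ : T' ≅ T, φ.hom ≫ i' = j := by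
  obtain ⟨hi, him, hTt, hmax⟩ := id hT
  haveI := hi; haveI := him
  have hmt : ∀ {T : Over S} [GrpObj T], Red.IsTorus T → SGA3x.IsMultTypeFT T :=
    fun h => RedRank.isMultTypeFT_of_isTorus h
  have hloc := Groth.Agent.Transporter.locally_of_isMultTypeFT (hmt hTt)
  haveI := Groth.Agent.MultEq.isAffineHom_of_isMultTypeFT (hmt hTt)
  haveI := Groth.Agent.MultEq.lfp_of_isMultTypeFT (hmt hTt)
  haveI : LocallyOfFinitePresentation G.hom := inferInstance
  obtain ⟨C, c, hcc, hcf, hC⟩ := Groth.Agent.Transporter.exists_transporter hloc i i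
  haveI := hcc; haveI := hcf
  haveI : Mono c.left := inferInstance
  haveI : Mono c := (Over.forget S).mono_of_mono_map (inferInstanceAs (Mono c.left))
  haveI : LocallyOfFinitePresentation C.hom := by rw [← Over.w c]; infer_instance
  have hCs : Smooth C.hom := Groth.Agent.Transporter.smooth_transporter hloc inferInstance i i c hC
  have hC' : ∀ (X : Over S) (g : X ⟶ G), (∃ w : X ⟶ C, w ≫ c = g) ↔
      ∀ (X' : Over S) (x : X' ⟶ X) (h : X' ⟶ T), (x ≫ g) * (h ≫ i) = (h ≫ i) * (x ≫ g) := fun X g =>
    (hC X g).trans (forall₃_congr fun X' x h => mul_inv_eq_iff_eq_mul)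
  obtain ⟨gC, hcm⟩ := Groth.Agent.WeilRes.grpObj_centralizer i c hC'
  letI := gC
  have hc : Red.IsCentralizerOf i c := ⟨hcm, inferInstance, hC'⟩
  haveI := hcc; haveI := hCs
  haveI := hc.1; haveI := hc.2.1
  haveI : IsSeparated C.hom := by rw [← Over.w c]; infer_instance
  haveI : QuasiCompact C.hom := by rw [← Over.w c]; infer_instance
  have hTcomm : ∀ (X : Over S) (a b : X ⟶ T), (a ≫ i) * (b ≫ i) = (b ≫ i) * (a ≫ i) := fun X a b => by
    rw [← MonObj.mul_comp, ← MonObj.mul_comp, Groth.Agent.Transporter.comm_of_locally_fpqc hloc X a b]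
  obtain ⟨i', hi'⟩ := (hc.2.2 T i).2 fun X' x h => hTcomm X' x h
  haveI : IsMonHom (i' ≫ c) := hi' ▸ hi
  haveI : IsMonHom i' := DiagRep.isMonHom_of_comp_mono i' c
  haveI : Mono (i' ≫ c) := hi' ▸ him
  haveI : Mono i' := mono_of_mono i' c
  have hi'max : Red.IsMaximalTorus i' := by
    refine ⟨inferInstance, inferInstance, hTt, fun s T'' _ J _ _ f hT'' hf => ?_⟩
    haveI := DiagRep.isMonHom_bc_map (Red.geomPt s) c
    haveI := mono_bc (Red.geomPt s) c
    haveI : Mono (J ≫ (Over.pullback (Red.geomPt s)).map c) := mono_comp _ _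
    exact hmax s T'' (J ≫ (Over.pullback (Red.geomPt s)).map c) f hT''
      (by rw [← Category.assoc, hf, ← Functor.map_comp, hi'])
  refine ⟨C, gC, c, hc, hcc, ⟨inferInstance, inferInstance, hCs, fun s => ?_⟩, i', hi', hi'max, fun T' _ j hj => ?_⟩
  · haveI := DiagRep.isMonHom_bc_map (Red.geomPt s) c
    haveI := DiagRep.isMonHom_bc_map (Red.geomPt s) i
    refine ⟨inferInstance, mono_bc (Red.geomPt s) c, Red.geomFibre s T, inferInstance, (Over.pullback (Red.geomPt s)).map i,
      isMaximalTorus_of_isMaxTorus ⟨inferInstance, mono_bc (Red.geomPt s) i, RedRank.isTorus_bc hTt _,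
        fun T' _ J _ _ f => hmax s T' J f⟩, isCentralizerOf_bc (Red.geomPt s) hc⟩
  obtain ⟨hjm, hjmo, hT't, -⟩ := id hj
  haveI := hjm; haveI := hjmo
  haveI : Mono (j ≫ c) := mono_comp _ _
  have hcj : ∀ (X : Over S) (t : X ⟶ T) (r : X ⟶ T'),
      (t ≫ i) * (r ≫ (j ≫ c)) = (r ≫ (j ≫ c)) * (t ≫ i) := fun X t r => by
    have h := (hc.2.2 X ((r ≫ j) ≫ c)).1 ⟨r ≫ j, rfl⟩ X (𝟙 X) t
    rw [Category.id_comp] at h
    rw [← Category.assoc r j c]
    exact h.symm
  obtain ⟨f, hf⟩ := Groth.Agent.S4120.result S G T T' i (j ≫ c) hT hT't hcj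
  haveI : QuasiSeparated C.hom := inferInstance
  haveI : LocallyOfFinitePresentation C.hom := inferInstance
  obtain ⟨g, hg⟩ := Groth.Agent.S4120.result S C T' T j i' hj hTt fun X r t => (cancel_mono c).1 (by
    rw [MonObj.mul_comp, MonObj.mul_comp, Category.assoc, Category.assoc, hi']
    exact (hcj X t r).symm)
  have hfi : f ≫ i' = j := (cancel_mono c).1 (by rw [Category.assoc, hi', hf])
  exact ⟨⟨f, g, (cancel_mono j).1 (by rw [Category.assoc, hg, hfi, Category.id_comp]),
    (cancel_mono i').1 (by rw [Category.assoc, hfi, hg, Category.id_comp])⟩, hfi⟩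

end Groth.Agent.S4118
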