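import Groth.Statements.S4119
import Groth.Agent.BorelLib.RedTorus
import Groth.Agent.TorsTupleLib.Cover
-- import your own Groth.Agent.* helpers here

set_option autoImplicit false
set_option maxHeartbeats 4000000
set_option synthInstance.maxHeartbeats 400000
set_option backward.isDefEq.respectTransparency false
universe u
open CategoryTheory MonoidalCategory CartesianMonoidalCategory MonObj GrpObj AlgebraicGeometry CategoryTheory.Limits
open SGA3x

attribute [-instance] CategoryTheory.Hom.commGroup

namespace Groth.Agent.S4119

open Groth.Agent.BorelLib
attribute [local instance] BorelLib.pTop BorelLib.pTopTensor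

/-- Second half: let G be an S-group scheme, smooth, separated and of finite type over S, which acquires
a maximal torus after some fpqc covering base change, and let c : C → G be a Cartan subgroup. Then
there is a maximal torus i : T → G of G of which C is the centralizer (and T is central in C). -/
theorem result (S : Scheme.{u}) (G : Over S) [GrpObj G]
    [Smooth G.hom] [IsSeparated G.hom] [QuasiCompact G.hom] (hG : SGA3x.HasMaxTorusFpqcLocally G)
    (C : Over S) [GrpObj C] (c : C ⟶ G) (hc : SGA3x.IsCartan c) :
    ∃ (T : Over S) (_ : GrpObj T) (i : T ⟶ G), Red.IsMaximalTorus i ∧ Red.IsCentralizerOf i c := by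
  haveI := hc.1; haveI := hc.2.1; haveI := hc.2.2.1
  have hpts := TorsTuple.cartanPts_of_isCartan hc
  obtain ⟨P, π, hπf, hπs, hcov, T, _, j, hj, hcom⟩ := TorsTuple.exists_commuting_cover hG hpts
  haveI := hπf; haveI := hπs
  haveI : Smooth (Red.bc π G).hom := MorphismProperty.pullback_snd (P := @Smooth) _ _ inferInstance
  haveI : IsSeparated (Red.bc π G).hom := inferInstanceAs (IsSeparated (pullback.snd G.hom π))
  haveI : QuasiCompact (Red.bc π G).hom := MorphismProperty.pullback_snd (P := @QuasiCompact) _ _ inferInstance
  haveI : Smooth (Red.bc π C).hom := MorphismProperty.pullback_snd (P := @Smooth) _ _ inferInstance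
  haveI := DiagRep.isMonHom_bc_map π c
  haveI := BorelLib.mono_bc π c
  exact TorsTuple.exists_torus_of_cover π hcov hj
    (TorsTuple.isCentralizerOf_of_commutes (TorsTuple.cartanPts_bc hpts π) hj hcom)

end Groth.Agent.S4119
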