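import Groth.Statements.S4122
import Groth.Agent.CentMaxTorLib.Artin

set_option autoImplicit false
set_option backward.isDefEq.respectTransparency false
set_option backward.isDefEq.respectTransparency.types false
set_option maxHeartbeats 1000000
set_option synthInstance.maxHeartbeats 400000
universe u
open CategoryTheory MonoidalCategory CartesianMonoidalCategory MonObj GrpObj AlgebraicGeometry CategoryTheory.Limits
open SGA3x

attribute [-instance] CategoryTheory.Hom.commGroup
namespace Groth.Agent.S4122

/-- Let A be a local artinian ring and G an A-group scheme smooth and of finite type over A. Then G has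
a maximal torus, and every subtorus j : R → G factors through some maximal torus of G. -/
theorem result (A : Type u) [CommRing A] [IsArtinianRing A] [IsLocalRing A]
    (G : Over (Spec (CommRingCat.of A))) [GrpObj G] [Smooth G.hom] [QuasiCompact G.hom] :
    (∃ (T : Over (Spec (CommRingCat.of A))) (_ : GrpObj T) (i : T ⟶ G), Red.IsMaximalTorus i) ∧
    ∀ (R : Over (Spec (CommRingCat.of A))) [GrpObj R] (j : R ⟶ G) [IsMonHom j] [Mono j], Red.IsTorus R →
      ∃ (T : Over (Spec (CommRingCat.of A))) (_ : GrpObj T) (i : T ⟶ G) (f : R ⟶ T),
        Red.IsMaximalTorus i ∧ f ≫ i = j := by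
  exact ⟨CentMaxTor.exists_maximalTorus_artinian G,
    fun R _ j _ _ hR => CentMaxTor.exists_maximalTorus_containing G R j hR⟩

end Groth.Agent.S4122
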