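import Groth.Statements.S4137
import Groth.Agent.GenTranspLib.ClosedImm
import Groth.Agent.WeilResLib.Apps

set_option autoImplicit false
set_option backward.isDefEq.respectTransparency false
set_option linter.style.haveILetI false
universe u
open CategoryTheory MonoidalCategory CartesianMonoidalCategory MonObj GrpObj AlgebraicGeometry CategoryTheory.Limits
open SGA3

namespace Groth.Agent.S4137

/-- Let S be an integral scheme, G and H S-group schemes of finite presentation over S and i : H → G a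
homomorphism which is a quasi-compact monomorphism. Then there is a non-empty open U of S over which
i becomes a closed immersion and the centralizer and the normalizer of H_U in G_U are representable
by closed subgroup schemes of G_U of finite presentation over U. -/
theorem result (S : Scheme.{u}) [IsIntegral S] (G H : Over S)
    [GrpObj G] [GrpObj H] [LocallyOfFinitePresentation G.hom] [QuasiCompact G.hom] [QuasiSeparated G.hom]
    [LocallyOfFinitePresentation H.hom] [QuasiCompact H.hom] [QuasiSeparated H.hom]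
    (i : H ⟶ G) [IsMonHom i] [Mono i] [QuasiCompact i.left] :
    ∃ U : S.Opens, (U : Set S).Nonempty ∧ IsClosedImmersion ((Over.pullback U.ι).map i).left ∧
      ∃ (C N : Over (U : Scheme.{u})) (_ : GrpObj C) (_ : GrpObj N) (c : C ⟶ Red.bc U.ι G) (n : N ⟶ Red.bc U.ι G),
        Red.IsCentralizerOf ((Over.pullback U.ι).map i) c ∧ IsClosedImmersion c.left ∧
          LocallyOfFinitePresentation C.hom ∧ QuasiCompact C.hom ∧
        Red.IsNormalizerOf ((Over.pullback U.ι).map i) n ∧ IsClosedImmersion n.left ∧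
          LocallyOfFinitePresentation N.hom ∧ QuasiCompact N.hom := by
  haveI : LocallyOfFinitePresentation i.left := by
    haveI : LocallyOfFinitePresentation (i.left ≫ G.hom) := (Over.w i).symm ▸ inferInstance
    exact AlgSpLib.lfp_of_comp_lft i.left G.hom
  haveI : Mono i.left := (Over.forget S).map_mono i
  obtain ⟨U₁, h₁, hci⟩ := GenTransp.exists_open_isClosedImmersion i
  obtain ⟨U₂, h₂, hsep⟩ := GenTransp.exists_open_isSeparated G
  obtain ⟨U₃, h₃, hfree⟩ := GenTransp.exists_open_isEssentiallyFree H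
  let U := U₁ ⊓ U₂ ⊓ U₃
  have hη : ∀ V : S.Opens, (V : Set S).Nonempty → genericPoint ↥S ∈ V := fun V hV =>
    (genericPoint_spec ↥S).mem_open_set_iff V.2 |>.2 (by simpa using hV)
  have hne : (U : Set S).Nonempty := ⟨genericPoint ↥S, ⟨hη _ h₁, hη _ h₂⟩, hη _ h₃⟩
  let GU := Red.bc U.ι G
  let HU := Red.bc U.ι H
  let iU : HU ⟶ GU := (Over.pullback U.ι).map i
  haveI hc : IsClosedImmersion iU.left := hci U (inf_le_left.trans inf_le_left)
  haveI : IsSeparated GU.hom := hsep U (inf_le_left.trans inf_le_right)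
  have hF : SGA3x.IsEssentiallyFree HU.hom := hfree U inf_le_right
  haveI : LocallyOfFinitePresentation GU.hom := MorphismProperty.pullback_snd _ _ ‹LocallyOfFinitePresentation G.hom›
  haveI : QuasiCompact GU.hom := MorphismProperty.pullback_snd _ _ ‹QuasiCompact G.hom›
  haveI : QuasiCompact HU.hom := MorphismProperty.pullback_snd _ _ ‹QuasiCompact H.hom›
  haveI : LocallyOfFinitePresentation iU.left :=
    MorphismProperty.of_isPullback (GenTransp.mapLeft_isPullback i U.ι) ‹LocallyOfFinitePresentation i.left›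
  -- closed subschemes of the maps into `HU`
  have key : ∀ {P : Over (U : Scheme.{u})} (c : P ⊗ HU ⟶ GU),
      ∃ (T : Over (U : Scheme.{u})) (t : T ⟶ P), IsClosedImmersion t.left ∧
        (∀ S' g, (∃ z : S' ⟶ T, z ≫ t = g) ↔ WeilRes.MapsInto c iU g) ∧ LocallyOfFinitePresentation t.left := by
    intro P c
    haveI : IsClosedImmersion (pullback.fst c.left iU.left) := MorphismProperty.pullback_fst _ _ inferInstance
    obtain ⟨T, t, a₁, a₂, a₃⟩ := WeilRes.exists_closed_inY_essFree (fst P HU).left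
      (WeilRes.isEssentiallyFree_baseChange HU.hom hF P.hom _ _ (IsPullback.of_hasPullback P.hom HU.hom).flip)
      (pullback.fst c.left iU.left)
    obtain ⟨T', t', b₁, b₂, b₃⟩ := WeilRes.exists_mapsInto_closed_of (Q := True) c iU ⟨T, t, a₁, a₂, fun _ => a₃
      ⟨MorphismProperty.pullback_fst P.hom HU.hom ‹QuasiCompact HU.hom›, MorphismProperty.pullback_fst _ _ inferInstance⟩⟩
    exact ⟨T', t', b₁, b₂, b₃ trivial⟩
  -- the centralizer
  obtain ⟨C, c, hcc, hC, hclfp⟩ := WeilRes.exists_eqLocus_essFree (P := GU) (X := HU) (G := GU)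
    (fst GU HU * (snd GU HU ≫ iU)) ((snd GU HU ≫ iU) * fst GU HU) hF
  haveI := hcc
  haveI : LocallyOfFinitePresentation c.left := hclfp ⟨inferInstance, inferInstance⟩
  haveI : Mono c := Over.mono_of_mono_left c
  have hC' : ∀ X g, (∃ w : X ⟶ C, w ≫ c = g) ↔
      ∀ (X' : Over (U : Scheme.{u})) (x : X' ⟶ X) (h : X' ⟶ HU), (x ≫ g) * (h ≫ iU) = (h ≫ iU) * (x ≫ g) :=
    fun X g => (hC X g).trans (forall₃_congr fun X' x h => by
      simp only [MonObj.comp_mul, lift_fst, lift_snd_assoc])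
  obtain ⟨gC, hmC⟩ := WeilRes.grpObj_centralizer iU c hC'
  -- the normalizer
  obtain ⟨T, t, htc, ht, htlfp⟩ := key (fst GU HU * (snd GU HU ≫ iU) * (fst GU HU)⁻¹)
  obtain ⟨N, n, hnc, hn, hnlfp⟩ := key ((fst T HU ≫ t)⁻¹ * (snd T HU ≫ iU) * (fst T HU ≫ t))
  haveI := htc
  haveI := htlfp
  haveI := hnc
  haveI := hnlfp
  haveI : IsClosedImmersion (n ≫ t).left := by rw [Over.comp_left]; infer_instance
  haveI : Mono (n ≫ t) := Over.mono_of_mono_left _
  have hN : ∀ X g, (∃ w : X ⟶ N, w ≫ n ≫ t = g) ↔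
      ∀ (X' : Over (U : Scheme.{u})) (x : X' ⟶ X) (h : X' ⟶ HU),
        (∃ h' : X' ⟶ HU, (x ≫ g) * (h ≫ iU) * (x ≫ g)⁻¹ = h' ≫ iU) ∧
        (∃ h' : X' ⟶ HU, (x ≫ g)⁻¹ * (h ≫ iU) * (x ≫ g) = h' ≫ iU) := by
    intro X g
    refine ⟨?_, fun hg => ?_⟩
    · rintro ⟨w, rfl⟩ X' x h
      obtain ⟨a, ha⟩ := (ht X ((w ≫ n) ≫ t)).1 ⟨w ≫ n, rfl⟩ X' x h
      obtain ⟨b, hb⟩ := (hn X (w ≫ n)).1 ⟨w, rfl⟩ X' x h
      simp only [MonObj.comp_mul, GrpObj.comp_inv, lift_fst, lift_fst_assoc, lift_snd_assoc, Category.assoc] at ha hb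
      exact ⟨⟨a, ha⟩, ⟨b, hb⟩⟩
    · obtain ⟨v, hv⟩ := (ht X g).2 fun X' x h => by
        obtain ⟨a, ha⟩ := (hg X' x h).1
        exact ⟨a, by simpa only [MonObj.comp_mul, GrpObj.comp_inv, lift_fst, lift_fst_assoc, lift_snd_assoc] using ha⟩
      obtain ⟨w, hw⟩ := (hn X v).2 fun X' x h => by
        obtain ⟨a, ha⟩ := (hg X' x h).2
        exact ⟨a, by simpa only [MonObj.comp_mul, GrpObj.comp_inv, lift_fst, lift_fst_assoc, lift_snd_assoc, ← hv, Category.assoc] using ha⟩
      exact ⟨w, by rw [← Category.assoc, hw, hv]⟩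
  obtain ⟨gN, hmN⟩ := WeilRes.grpObj_normalizer iU (n ≫ t) hN
  refine ⟨U, hne, hc, C, N, gC, gN, c, n ≫ t, ⟨hmC, inferInstance, hC'⟩, hcc, ?_, ?_, ⟨hmN, inferInstance, hN⟩,
    inferInstance, ?_, ?_⟩
  · rw [← Over.w c]; infer_instance
  · rw [← Over.w c]; infer_instance
  · rw [← Over.w (n ≫ t), Over.comp_left]; infer_instance
  · rw [← Over.w (n ≫ t)]; infer_instance

end Groth.Agent.S4137
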