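import Groth.Statements.S4140
import Groth.Agent.NeutralSchLib.Orbit
-- import your own Groth.Agent.* helpers here

set_option autoImplicit false
universe u
open CategoryTheory MonoidalCategory CartesianMonoidalCategory MonObj GrpObj AlgebraicGeometry CategoryTheory.Limits
open SGA3

namespace Groth.Agent.S4140

/-- Let G be an S-group scheme locally of finite presentation over S such that s ↦ dim G_s is locally
constant, and σ, τ two S-points of G with values in the neutral component G⁰ (their images lie in
the union of the neutral components of the fibres). Then the subscheme of coincidences of σ and τ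
(the pullback of the diagonal of G along (σ, τ)) is a closed subscheme of S. -/
theorem result (S : Scheme.{u}) (G : Over S) [GrpObj G]
    [LocallyOfFinitePresentation G.hom]
    (hdim : IsLocallyConstant (fun s : S => topologicalKrullDim ↥(G.hom.base ⁻¹' {s})))
    (σ τ : 𝟙_ (Over S) ⟶ G) (hσ : Set.range σ.left.base ⊆ SGA3x.neutralSet G)
    (hτ : Set.range τ.left.base ⊆ SGA3x.neutralSet G) :
    IsClosedImmersion (pullback.fst (lift σ τ) (lift (𝟙 G) (𝟙 G))).left := by
  have huo : ∀ g ∈ SGA3x.neutralSet G, EGA43.IsUnivOpenAt G.hom g := fun g hg =>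
    Groth.Agent.NeutralSch.isUnivOpenAt_of_dim_const (V := {t | topologicalKrullDim ↥(G.hom.base ⁻¹' {t}) =
      topologicalKrullDim ↥(G.hom.base ⁻¹' {G.hom g})}) ((hdim.isOpen_fiber _).mem_nhds rfl) (fun _ ht => ht) hg rfl
  have hsq := (IsPullback.of_hasPullback (lift σ τ) (lift (𝟙 G) (𝟙 G))).map (Over.forget S)
  haveI : IsImmersion (lift (𝟙 G) (𝟙 G)).left := by
    show IsImmersion (pullback.diagonal G.hom)
    infer_instance
  haveI : IsImmersion (pullback.fst (lift σ τ) (lift (𝟙 G) (𝟙 G))).left :=
    MorphismProperty.of_isPullback (P := @IsImmersion) hsq.flip (inferInstanceAs (IsImmersion (lift (𝟙 G) (𝟙 G)).left))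
  refine IsClosedImmersion.of_isPreimmersion _ ?_
  have h := Groth.Agent.NeutralSch.isClosed_coincidence σ τ huo (fun q => hσ ⟨q, rfl⟩) (fun q => hτ ⟨q, rfl⟩)
  convert h using 1
  ext q
  constructor
  · rintro ⟨v, rfl⟩
    exact ⟨(pullback.snd (lift σ τ) (lift (𝟙 G) (𝟙 G))).left v, by
      rw [← Scheme.Hom.comp_apply, ← Over.comp_left, ← pullback.condition, Over.comp_left, Scheme.Hom.comp_apply]⟩
  · rintro ⟨x, hx⟩
    obtain ⟨v, hv, -⟩ := UOpenLib.image_fst_snd hsq q x hx.symm
    exact ⟨v, hv⟩
end Groth.Agent.S4140
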