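import Groth.Statements.S4143
import Groth.Agent.ThickQuotLib.Scheme
import Groth.Agent.BootLib.Main
import Groth.Agent.AlgSpLib.ThickLocal
import Mathlib.CategoryTheory.Sites.RegularEpi
import Mathlib.AlgebraicGeometry.Morphisms.LocalFlatDescent
import Mathlib.AlgebraicGeometry.Sites.Fpqc
-- import your own Groth.Agent.* helpers here

/-!
The quotient sheaf of an fppf equivalence relation is an algebraic space; if the relation restricted
to a saturated thickening has a quotient scheme, that scheme is a thickening of the quotient space,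
so the quotient space is a scheme.
-/

set_option autoImplicit false
universe u
open CategoryTheory MonoidalCategory CartesianMonoidalCategory MonObj GrpObj AlgebraicGeometry CategoryTheory.Limits
open GrpQ

namespace Groth.Agent.S4143

set_option backward.isDefEq.respectTransparency false
set_option backward.isDefEq.respectTransparency.types false

open AlgSp AlgSpLib

section Sheaves

variable {S : Scheme.{u}}

/-- Epimorphisms of sheaves lift against monomorphisms. -/
theorem exists_lift_mono {A B V T : Sp S} (m : A ⟶ B) [Mono m] (q : V ⟶ T) [Sheaf.IsLocallySurjective q]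
    (x : V ⟶ A) (u : T ⟶ B) (h : x ≫ m = q ≫ u) : ∃ w : T ⟶ A, w ≫ m = u := by
  haveI : Epi q := (Sheaf.isLocallySurjective_iff_epi _).mp inferInstance
  haveI : IsRegularEpiCategory (Sp S) := inferInstanceAs (IsRegularEpiCategory (Sheaf _ _))
  haveI : IsRegularEpi q := IsRegularEpiCategory.regularEpiOfEpi _
  haveI : StrongEpi q := inferInstance
  have sq : CommSq x q m u := ⟨h⟩
  exact ⟨sq.lift, sq.fac_right⟩

variable {U₀ U R R₀ Y₀ : Over S} {s t : R ⟶ U} {a b : R₀ ⟶ U₀} {k : R₀ ⟶ R} {c₀ : U₀ ⟶ U} {p₀ : U₀ ⟶ Y₀}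
  {F : Sp S} {π : (yon S).obj U ⟶ F}

/-- The map from the quotient of the saturated closed subscheme to the quotient sheaf. -/
theorem exists_desc_restrict (hπ : (yon S).map t ≫ π = (yon S).map s ≫ π)
    (sq₀ : IsPullback a b p₀ p₀) (ha : a ≫ c₀ = k ≫ t) (hb : b ≫ c₀ = k ≫ s)
    [Flat p₀.left] [LocallyOfFinitePresentation p₀.left] [Surjective p₀.left] :
    ∃ i : (yon S).obj Y₀ ⟶ F, (yon S).map p₀ ≫ i = (yon S).map c₀ ≫ π := by
  haveI : Sheaf.IsLocallySurjective ((yon S).map p₀) := isLocallySurjective_yon_map p₀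
  haveI : Epi ((yon S).map p₀) := (Sheaf.isLocallySurjective_iff_epi _).mp inferInstance
  haveI : IsRegularEpiCategory (Sp S) := inferInstanceAs (IsRegularEpiCategory (Sheaf _ _))
  haveI : IsRegularEpi ((yon S).map p₀) := IsRegularEpiCategory.regularEpiOfEpi _
  haveI : EffectiveEpi ((yon S).map p₀) := inferInstance
  have sq' := sq₀.map (yon S)
  have hc := isColimitCoforkOfEffectiveEpi ((yon S).map p₀) sq'.cone sq'.isLimit
  have hw : (yon S).map a ≫ (yon S).map c₀ ≫ π = (yon S).map b ≫ (yon S).map c₀ ≫ π := by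
    rw [← Functor.map_comp_assoc, ← Functor.map_comp_assoc, ha, hb, Functor.map_comp_assoc,
      Functor.map_comp_assoc, hπ]
  exact ⟨hc.desc (Cofork.ofπ ((yon S).map c₀ ≫ π) hw), hc.fac _ WalkingParallelPair.one⟩

/-- The saturated closed subscheme is the inverse image of its quotient. -/
theorem isPullback_restrict (sq : IsPullback ((yon S).map t) ((yon S).map s) π π)
    [Mono c₀] (hsat : ∀ (T : Over S) (r : T ⟶ R) (x : T ⟶ U₀), r ≫ t = x ≫ c₀ →
      ∃ r₀ : T ⟶ R₀, r₀ ≫ k = r ∧ r₀ ≫ a = x)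
    (hab : a ≫ p₀ = b ≫ p₀) (hb : b ≫ c₀ = k ≫ s)
    [Flat p₀.left] [LocallyOfFinitePresentation p₀.left] [Surjective p₀.left]
    {i : (yon S).obj Y₀ ⟶ F} (hi : (yon S).map p₀ ≫ i = (yon S).map c₀ ≫ π) :
    IsPullback ((yon S).map p₀) ((yon S).map c₀) i π := by
  haveI : Mono ((yon S).map c₀) := inferInstance
  refine isPullback_of_forall_existsUnique hi fun T y v hyv => ?_
  haveI : Sheaf.IsLocallySurjective ((yon S).map p₀) := isLocallySurjective_yon_map p₀
  obtain ⟨T', q, l, hq₁, hq₂, hq₃, hl⟩ := exists_single_lift ((yon S).map p₀) y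
  obtain ⟨x, rfl⟩ := (yon S).map_surjective l
  obtain ⟨v', rfl⟩ := (yon S).map_surjective v
  haveI : Sheaf.IsLocallySurjective ((yon S).map q) := isLocallySurjective_yon_map q
  have hxv : (yon S).map (x ≫ c₀) ≫ π = (yon S).map (q ≫ v') ≫ π := by
    rw [Functor.map_comp_assoc, Functor.map_comp_assoc, ← hi, reassoc_of% hl, hyv]
  obtain ⟨r, hr⟩ := (yon S).map_surjective (sq.lift _ _ hxv)
  have hrt : r ≫ t = x ≫ c₀ := (yon S).map_injective (by rw [Functor.map_comp, hr, sq.lift_fst])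
  have hrs : r ≫ s = q ≫ v' := (yon S).map_injective (by rw [Functor.map_comp, hr, sq.lift_snd])
  obtain ⟨r₀, hk, hra⟩ := hsat T' r x hrt
  have hx' : (r₀ ≫ b) ≫ c₀ = q ≫ v' := by rw [Category.assoc, hb, ← Category.assoc, hk, hrs]
  obtain ⟨w, hw⟩ := exists_lift_mono ((yon S).map c₀) ((yon S).map q) ((yon S).map (r₀ ≫ b)) ((yon S).map v')
    (by rw [← Functor.map_comp, hx', Functor.map_comp])
  refine ⟨w, ⟨?_, hw⟩, fun w' hw' => ?_⟩
  · haveI : Epi ((yon S).map q) := (Sheaf.isLocallySurjective_iff_epi _).mp inferInstance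
    rw [← cancel_epi ((yon S).map q), ← hl, ← Category.assoc,
      show (yon S).map q ≫ w = (yon S).map (r₀ ≫ b) by
        rw [← cancel_mono ((yon S).map c₀), Category.assoc, hw, ← Functor.map_comp, ← Functor.map_comp, hx'],
      ← Functor.map_comp, Category.assoc, ← hab, ← Category.assoc, hra, Functor.map_comp]
  · rw [← cancel_mono ((yon S).map c₀), hw'.2, hw]

end Sheaves

/-- The quotient scheme of a relation with a saturated thickening having a quotient scheme. -/
theorem exists_quotient {S : Scheme.{u}} {U₀ U R R₀ Y₀ : Over S} (s t : R ⟶ U) (h : IsEqvRel s t)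
    [Flat s.left] [LocallyOfFinitePresentation s.left] [Surjective s.left]
    [Flat t.left] [LocallyOfFinitePresentation t.left]
    (a b : R₀ ⟶ U₀) (k : R₀ ⟶ R) (c₀ : U₀ ⟶ U) (p₀ : U₀ ⟶ Y₀)
    [IsClosedImmersion c₀.left] [Surjective c₀.left]
    [Flat p₀.left] [LocallyOfFinitePresentation p₀.left] [Surjective p₀.left]
    (sq₀ : IsPullback a b p₀ p₀) (ha : a ≫ c₀ = k ≫ t) (hb : b ≫ c₀ = k ≫ s)
    (hsat : ∀ (T : Over S) (r : T ⟶ R) (x : T ⟶ U₀), r ≫ t = x ≫ c₀ →
      ∃ r₀ : T ⟶ R₀, r₀ ≫ k = r ∧ r₀ ≫ a = x) :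
    ∃ (Y : Over S) (p : U ⟶ Y), Surjective p.left ∧ Flat p.left ∧ LocallyOfFinitePresentation p.left ∧
      IsPullback t.left s.left p.left p.left := by
  haveI := descendsAlong_surjective.{u}
  haveI : Mono c₀ := by
    haveI : Mono c₀.left := inferInstance
    exact Over.mono_of_mono_left c₀
  let π := qπ s t
  have sq := isPullback_qπ s t h
  have hF : IsAlgSpace (QuotSh.quot Scheme.fppfPrecoverage s t) := Groth.Agent.Boot.isAlgSpace_of_fppf_kernelPair sq
  have hπ : Representable π := hF.representable_from_yon π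
  have hP : ∀ {P : MorphismProperty Scheme.{u}} [P.IsStableUnderBaseChange]
      [P.DescendsAlong (@Surjective ⊓ @Flat ⊓ @LocallyOfFinitePresentation)], P s.left → RepWith P π :=
    fun hs => repWith_of_cover sq hπ ((repWith_yon_map_iff _ _).2 hs)
  obtain ⟨i, hi⟩ := exists_desc_restrict sq.w sq₀ ha hb
  have sqi := isPullback_restrict sq hsat sq₀.w hb hi
  have hirep : Representable i := hF.representable_from_yon i
  have hiC : RepWith @IsClosedImmersion i :=
    repWith_of_cover sqi hirep ((repWith_yon_map_iff _ _).2 (inferInstanceAs (IsClosedImmersion c₀.left)))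
  have hiS : RepWith @Surjective i :=
    repWith_of_cover sqi hirep ((repWith_yon_map_iff _ _).2 (inferInstanceAs (Surjective c₀.left)))
  haveI : (@IsClosedImmersion ⊓ @Surjective : MorphismProperty Scheme.{u}).RespectsIso :=
    MorphismProperty.IsStableUnderBaseChange.respectsIso
  have hthick : IsThickMor i :=
    MorphismProperty.relative_of_snd hirep fun T ξ => ⟨hiC.property_snd ξ, hiS.property_snd ξ⟩
  obtain ⟨Y, ⟨e⟩⟩ := ThickQuotLib.isRepSh_of_thick (IsAlgSpace.yon_obj Y₀) hF hthick ⟨Y₀, ⟨Iso.refl _⟩⟩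
  obtain ⟨p, hp⟩ := (yon S).map_surjective (π ≫ e.inv)
  have hp' : ∀ {P : MorphismProperty Scheme.{u}} [P.IsStableUnderBaseChange], RepWith P π → P p.left := by
    intro P _ hπP
    refine (repWith_yon_map_iff P p).1 ?_
    rw [hp]
    exact MorphismProperty.RespectsIso.postcomp (RepWith P) _ _ hπP
  refine ⟨Y, p, hp' (hP inferInstance), hp' (hP inferInstance), hp' (hP inferInstance), ?_⟩
  have sqY : IsPullback ((yon S).map t) ((yon S).map s) ((yon S).map p) ((yon S).map p) := by
    rw [hp]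
    exact sq.of_iso (Iso.refl _) (Iso.refl _) (Iso.refl _) e.symm (by simp) (by simp) (by simp [π]) (by simp [π])
  exact (IsPullback.of_map (yon S) ((yon S).map_injective (by simpa using sqY.w)) sqY).map (Over.forget S)

/-- The equivalence relation of a groupoid scheme with monomorphic graph. -/
theorem isEqvRel_groupoid {S : Scheme.{u}} (G : Grpd.GroupoidScheme S) [Mono G.j] :
    IsEqvRel (Over.homMk G.s G.s_over : Over.mk G.pR ⟶ Over.mk G.pU) (Over.homMk G.t G.t_over) := by
  refine ⟨fun T r r' h1 h2 => ?_, fun T => ⟨fun x => ?_, fun {x y} h => ?_, fun {x y z} h h' => ?_⟩⟩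
  · apply Over.OverMorphism.ext
    rw [← cancel_mono G.j]
    apply pullback.hom_ext
    · simpa [Grpd.GroupoidScheme.j] using congrArg Over.Hom.left h1
    · simpa [Grpd.GroupoidScheme.j] using congrArg Over.Hom.left h2
  · have hx : x.left ≫ G.pU = T.hom := Over.w x
    refine ⟨Over.homMk (x.left ≫ G.e) ?_, ?_, ?_⟩
    · show (x.left ≫ G.e) ≫ G.pR = T.hom
      rw [← G.s_over, Category.assoc, reassoc_of% G.e_s, hx]
    · apply Over.OverMorphism.ext; simp [G.e_t]
    · apply Over.OverMorphism.ext; simp [G.e_s]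
  · obtain ⟨r, h1, h2⟩ := h
    have hr : r.left ≫ G.pR = T.hom := Over.w r
    refine ⟨Over.homMk (r.left ≫ G.i) ?_, ?_, ?_⟩
    · show (r.left ≫ G.i) ≫ G.pR = T.hom
      have hi : G.i ≫ G.pR = G.pR := by
        calc G.i ≫ G.pR = G.i ≫ G.s ≫ G.pU := by rw [G.s_over]
          _ = G.pR := by rw [reassoc_of% G.i_s, G.t_over]
      rw [Category.assoc, hi, hr]
    · apply Over.OverMorphism.ext
      rw [← h2]
      simp [G.i_t]
    · apply Over.OverMorphism.ext
      rw [← h1]
      simp [G.i_s]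
  · obtain ⟨α, ha, ha'⟩ := h
    obtain ⟨β, hb, hb'⟩ := h'
    have hc : α.left ≫ G.s = β.left ≫ G.t := by
      simpa using congrArg Over.Hom.left (ha'.trans hb.symm)
    have hr : β.left ≫ G.pR = T.hom := Over.w β
    refine ⟨Over.homMk (pullback.lift α.left β.left hc ≫ G.c) ?_, ?_, ?_⟩
    · show (pullback.lift α.left β.left hc ≫ G.c) ≫ G.pR = T.hom
      have hc' : (pullback.lift α.left β.left hc ≫ G.c) ≫ G.s ≫ G.pU = β.left ≫ G.pR := by
        rw [← Category.assoc, G.comp_s, Category.assoc, G.s_over]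
      rw [G.s_over] at hc'
      exact hc'.trans hr
    · apply Over.OverMorphism.ext
      rw [← ha]
      simp only [Over.comp_left, Over.homMk_left]
      exact G.comp_t _ _ hc
    · apply Over.OverMorphism.ext
      rw [← hb']
      simp only [Over.comp_left, Over.homMk_left]
      exact G.comp_s _ _ hc

/-- Let A be a ring and (U, R, s, t, c) a groupoid scheme over Spec A which is an equivalence relation
((t, s) a monomorphism) with s and t surjective, flat and of finite presentation. Let c₀ : U₀ → U be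
a closed subscheme defined by a nilpotent ideal (a finite order thickening) which is saturated:
s⁻¹(U₀) and t⁻¹(U₀) are the same subscheme R₀ of R. If the induced equivalence relation R₀ ⇉ U₀ has
an fppf quotient scheme (a surjective flat locally finitely presented p₀ : U₀ → Y₀ with R₀ ≅ U₀
×_{Y₀} U₀), then so does R ⇉ U. -/
theorem result (A : Type u) [CommRing A] (G : Grpd.GroupoidScheme (Spec (CommRingCat.of A)))
    [Mono G.j] [Surjective G.s] [Flat G.s] [LocallyOfFinitePresentation G.s] [QuasiCompact G.s] [QuasiSeparated G.s]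
    [Surjective G.t] [Flat G.t] [LocallyOfFinitePresentation G.t] [QuasiCompact G.t] [QuasiSeparated G.t]
    (U₀ : Scheme.{u}) (c₀ : U₀ ⟶ G.U) (hc : MoreMor.IsFiniteOrderThickening c₀)
    (ψ : pullback G.s c₀ ≅ pullback G.t c₀) (hψ : ψ.hom ≫ pullback.fst G.t c₀ = pullback.fst G.s c₀)
    (h₀ : ∃ (Y₀ : Scheme.{u}) (p₀ : U₀ ⟶ Y₀), Surjective p₀ ∧ Flat p₀ ∧ LocallyOfFinitePresentation p₀ ∧
      IsPullback (ψ.hom ≫ pullback.snd G.t c₀) (pullback.snd G.s c₀) p₀ p₀) :
    ∃ (Y : Scheme.{u}) (p : G.U ⟶ Y), Surjective p ∧ Flat p ∧ LocallyOfFinitePresentation p ∧ IsPullback G.t G.s p p := by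
  obtain ⟨⟨hcl, hsu⟩, -⟩ := hc
  obtain ⟨Y₀, p₀, hp₁, hp₂, hp₃, sq₀⟩ := h₀
  have hw : (ψ.hom ≫ pullback.snd G.t c₀) ≫ c₀ = pullback.fst G.s c₀ ≫ G.t := by
    rw [Category.assoc, ← pullback.condition, reassoc_of% hψ]
  have hdesc : (ψ.hom ≫ pullback.snd G.t c₀) ≫ c₀ ≫ G.pU = pullback.snd G.s c₀ ≫ c₀ ≫ G.pU := by
    rw [← Category.assoc, hw, Category.assoc, G.t_over, ← G.s_over, pullback.condition_assoc]
  let pY : Y₀ ⟶ Spec (CommRingCat.of A) :=
    (isColimitCoforkOfEffectiveEpi p₀ sq₀.cone sq₀.isLimit).desc (Cofork.ofπ (c₀ ≫ G.pU) hdesc)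
  have hpY : p₀ ≫ pY = c₀ ≫ G.pU :=
    (isColimitCoforkOfEffectiveEpi p₀ sq₀.cone sq₀.isLimit).fac _ WalkingParallelPair.one
  let U₀' : Over (Spec (CommRingCat.of A)) := Over.mk (c₀ ≫ G.pU)
  let R₀' : Over (Spec (CommRingCat.of A)) := Over.mk (pullback.fst G.s c₀ ≫ G.pR)
  let b' : R₀' ⟶ U₀' := Over.homMk (pullback.snd G.s c₀) (by
    show pullback.snd G.s c₀ ≫ c₀ ≫ G.pU = pullback.fst G.s c₀ ≫ G.pR
    rw [← pullback.condition_assoc, G.s_over])
  let a' : R₀' ⟶ U₀' := Over.homMk (ψ.hom ≫ pullback.snd G.t c₀) (by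
    show (ψ.hom ≫ pullback.snd G.t c₀) ≫ c₀ ≫ G.pU = pullback.fst G.s c₀ ≫ G.pR
    rw [← Category.assoc, hw, Category.assoc, G.t_over])
  let k' : R₀' ⟶ Over.mk G.pR := Over.homMk (pullback.fst G.s c₀) rfl
  let c' : U₀' ⟶ Over.mk G.pU := Over.homMk c₀ rfl
  let p' : U₀' ⟶ Over.mk pY := Over.homMk p₀ hpY
  let sO : Over.mk G.pR ⟶ Over.mk G.pU := Over.homMk G.s G.s_over
  let tO : Over.mk G.pR ⟶ Over.mk G.pU := Over.homMk G.t G.t_over
  haveI : Flat sO.left := ‹Flat G.s›
  haveI : LocallyOfFinitePresentation sO.left := ‹LocallyOfFinitePresentation G.s›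
  haveI : Surjective sO.left := ‹Surjective G.s›
  haveI : Flat tO.left := ‹Flat G.t›
  haveI : LocallyOfFinitePresentation tO.left := ‹LocallyOfFinitePresentation G.t›
  haveI : IsClosedImmersion c'.left := hcl
  haveI : Surjective c'.left := hsu
  haveI : Flat p'.left := hp₂
  haveI : LocallyOfFinitePresentation p'.left := hp₃
  haveI : Surjective p'.left := hp₁
  have hsq : IsPullback a' b' p' p' :=
    IsPullback.of_map (Over.forget _) (Over.OverMorphism.ext sq₀.w) sq₀
  have hsat : ∀ (T : Over (Spec (CommRingCat.of A))) (r : T ⟶ Over.mk G.pR) (x : T ⟶ U₀'),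
      r ≫ tO = x ≫ c' → ∃ r₀ : T ⟶ R₀', r₀ ≫ k' = r ∧ r₀ ≫ a' = x := by
    intro T r x hrx
    have hh : r.left ≫ G.t = x.left ≫ c₀ := congrArg Over.Hom.left hrx
    have hf : (pullback.lift r.left x.left hh ≫ ψ.inv) ≫ pullback.fst G.s c₀ = r.left := by
      rw [Category.assoc, ← hψ, Iso.inv_hom_id_assoc, pullback.lift_fst]
    refine ⟨Over.homMk (pullback.lift r.left x.left hh ≫ ψ.inv) ?_, ?_, ?_⟩
    · show (pullback.lift r.left x.left hh ≫ ψ.inv) ≫ pullback.fst G.s c₀ ≫ G.pR = T.hom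
      rw [← Category.assoc, hf]
      exact Over.w r
    · exact Over.OverMorphism.ext hf
    · apply Over.OverMorphism.ext
      show (pullback.lift r.left x.left hh ≫ ψ.inv) ≫ ψ.hom ≫ pullback.snd G.t c₀ = x.left
      rw [Category.assoc, Iso.inv_hom_id_assoc, pullback.lift_snd]
  obtain ⟨Y, p, h1, h2, h3, h4⟩ := exists_quotient sO tO (isEqvRel_groupoid G) a' b' k' c' p' hsq
    (Over.OverMorphism.ext hw) (Over.OverMorphism.ext pullback.condition.symm) hsat
  exact ⟨Y.left, p.left, h1, h2, h3, h4⟩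

end Groth.Agent.S4143
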