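import Groth.Statements.S4228
import Mathlib
import Mathlib
import Groth.Agent.HypTransLib.Generic
-- import your own Groth.Agent.* helpers here

set_option autoImplicit false
open CategoryTheory AlgebraicGeometry
universe u
open An

namespace Groth.Agent.S4228

set_option maxHeartbeats 400000
theorem localDim_eq_of_equidim {k : Type u} [Field k] {A : Type u} [CommRing A] [Algebra k A]
    [Algebra.FiniteType k A] {r : ℕ} (hdim : ∀ P ∈ minimalPrimes A, ringKrullDim (A ⧸ P) = r)
    (p : PrimeSpectrum A) : FlatMor.localDim (PrimeSpectrum A) p = r := by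
  let q : Spec (CommRingCat.of A) ⟶ Spec (CommRingCat.of k) := Spec.map (CommRingCat.ofHom (algebraMap k A))
  haveI : LocallyOfFiniteType q := by
    rw [HasRingHomProperty.Spec_iff (P := @LocallyOfFiniteType)]
    exact RingHom.finiteType_algebraMap.mpr inferInstance
  obtain ⟨g, hg', hd⟩ : ∃ g : PrimeSpectrum A,
      closure ({g} : Set (PrimeSpectrum A)) ∈ irreducibleComponents (PrimeSpectrum A) ∧
      FlatMor.localDim (PrimeSpectrum A) p = topologicalKrullDim (closure ({g} : Set (PrimeSpectrum A))) := by
    obtain ⟨g, h1, -, h2⟩ := FibDimLib.exists_generic_localDim q (p : Spec (CommRingCat.of A))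
    exact ⟨g, h1, h2⟩
  have hmin : g.asIdeal ∈ minimalPrimes A := by
    rw [← PrimeSpectrum.vanishingIdeal_irreducibleComponents]
    exact ⟨_, hg', by rw [PrimeSpectrum.vanishingIdeal_closure, PrimeSpectrum.vanishingIdeal_singleton]⟩
  exact hd.trans ((FibDimLib.topologicalKrullDim_closure_prime (g : PrimeSpectrum A)).trans (hdim _ hmin))

theorem isSmoothAt_of_away {k : Type u} [Field k] {A : Type u} [CommRing A] [Algebra k A]
    [Algebra.FiniteType k A] (f : A) (h : Smooth (Spec.map (CommRingCat.ofHom (algebraMap k (Localization.Away f)))))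
    (p : Ideal A) [p.IsPrime] (hp : f ∉ p) : Algebra.IsSmoothAt k p := by
  haveI : Algebra.FinitePresentation k A := Algebra.FinitePresentation.of_finiteType.mp ‹_›
  have h1 := (HasRingHomProperty.Spec_iff (P := @Smooth)).mp h
  have h2 : Algebra.Smooth k (Localization.Away f) := RingHom.smooth_algebraMap.mp h1
  exact Algebra.basicOpen_subset_smoothLocus_iff_smooth.mpr h2 (show (⟨p, ‹_›⟩ : PrimeSpectrum A) ∈ _ from hp)

theorem smoothOfRelativeDimension_of_standard {k : Type u} [Field k] (d : ℕ) (A : Type u) [CommRing A]
    [Algebra k A] [Algebra.IsStandardSmoothOfRelativeDimension d k A] :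
    SmoothOfRelativeDimension d (Spec.map (CommRingCat.ofHom (algebraMap k A))) := by
  rw [HasRingHomProperty.Spec_iff (P := @SmoothOfRelativeDimension d)]
  refine RingHom.locally_of ?_ _ ?_
  · exact RingHom.isStandardSmoothOfRelativeDimension_respectsIso
  · exact (RingHom.isStandardSmoothOfRelativeDimension_algebraMap d).mpr ‹_›


/-- In the affine hyperplane case to which the proof reduces (the published statement is for a
projective scheme V ⊆ P^n_k of pure dimension r and a general linear subspace of any dimension,
parametrised by a dense open subset of the Grassmannian; part (ii), hypersurfaces of degree ≥ 2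
through a point, is not stated here): let k be an infinite field (for a finite field the condition
below on coefficient vectors could hold at no rational point, so the dense-open formulation is
rendered only for infinite k) and A = k[x_1, …, x_n]/I a quotient of the polynomial ring (V = Spec A
⊆ A^n_k) such that every irreducible component of V has dimension r. Then there is a nonzero
polynomial g in the n + 1 coefficients such that for every a = (a_0, …, a_n) with g(a) ≠ 0 the
hyperplane a_0 + Σ a_i x_i = 0 cuts V transversally at every point of the hyperplane section where V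
is smooth over k: the section Spec (A/(a_0 + Σ a_i x_i)) is smooth over k of relative dimension r −
1 on a neighbourhood of each such point. -/
theorem result (k : Type u) [Field k] [Infinite k] (n r : ℕ) (A : Type u) [CommRing A]
    [Algebra k A] (x : Fin n → A)
    (hx : Function.Surjective (MvPolynomial.aeval x : MvPolynomial (Fin n) k →ₐ[k] A))
    (hdim : ∀ P ∈ minimalPrimes A, ringKrullDim (A ⧸ P) = r) :
    ∃ g : MvPolynomial (Fin (n + 1)) k, g ≠ 0 ∧
      ∀ a : Fin (n + 1) → k, MvPolynomial.eval a g ≠ 0 →
        ∀ (q : Ideal (A ⧸ Ideal.span {algebraMap k A (a 0) + ∑ i : Fin n, algebraMap k A (a i.succ) * x i}))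
          (_ : q.IsPrime),
          (∃ f : A, f ∉ q.comap (Ideal.Quotient.mk _) ∧
            Smooth (Spec.map (CommRingCat.ofHom (algebraMap k (Localization.Away f))))) →
          ∃ f : A ⧸ Ideal.span {algebraMap k A (a 0) + ∑ i : Fin n, algebraMap k A (a i.succ) * x i},
            f ∉ q ∧ SmoothOfRelativeDimension (r - 1)
              (Spec.map (CommRingCat.ofHom (algebraMap k (Localization.Away f)))) := by
  classical
  haveI : Algebra.FiniteType k A := Algebra.FiniteType.of_surjective _ hx
  haveI : IsNoetherianRing A := Algebra.FiniteType.isNoetherianRing k A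
  let Sm : Set (PrimeSpectrum A) := {p | Algebra.IsSmoothAt k p.asIdeal}
  choose s P hs hP0 hP using fun p : Sm =>
    haveI : Algebra.IsSmoothAt k p.1.asIdeal := p.2
    HypTransLib.exists_tangent_equation hx p.1.asIdeal
  have hcov : Sm ⊆ ⋃ p : Sm, (PrimeSpectrum.basicOpen (s p) : Set (PrimeSpectrum A)) :=
    fun p hp => Set.mem_iUnion.mpr ⟨⟨p, hp⟩, hs ⟨p, hp⟩⟩
  obtain ⟨t, ht⟩ := (TopologicalSpace.NoetherianSpace.isCompact Sm).elim_finite_subcover _
    (fun p => (PrimeSpectrum.basicOpen (s p)).isOpen) hcov
  refine ⟨∏ p ∈ t, P p, Finset.prod_ne_zero_iff.mpr fun p _ => hP0 p, fun a ha q hq ⟨f, hfq, hf⟩ => ?_⟩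
  let l := algebraMap k A (a 0) + ∑ i : Fin n, algebraMap k A (a i.succ) * x i
  haveI : Algebra.IsSmoothAt k (q.comap (Ideal.Quotient.mk (Ideal.span {l}))) := isSmoothAt_of_away f hf _ hfq
  obtain ⟨g, e, hg, -, hstd⟩ := HypTransLib.exists_std_chart (k := k) (q.comap (Ideal.Quotient.mk (Ideal.span {l})))
  have he : e = r := by
    have h1 := (HypTransLib.localDim_eq (k := k) g e
      ⟨q.comap (Ideal.Quotient.mk (Ideal.span {l})), Ideal.IsPrime.comap _⟩ hg).symm.trans
      (localDim_eq_of_equidim (k := k) hdim _)
    exact_mod_cast h1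
  let K := q.ResidueField
  have hdl : (1 : K) ⊗ₜ[A] KaehlerDifferential.D k A l ≠ 0 := by
    intro h0
    obtain ⟨p, hpt, hp⟩ : ∃ p ∈ t, s p ∉ q.comap (Ideal.Quotient.mk (Ideal.span {l})) := by
      simpa using ht (show (⟨q.comap (Ideal.Quotient.mk (Ideal.span {l})), inferInstance⟩ : PrimeSpectrum A) ∈ Sm from
        ‹Algebra.IsSmoothAt k (q.comap (Ideal.Quotient.mk (Ideal.span {l})))›)
    refine ha ?_
    rw [map_prod]
    refine Finset.prod_eq_zero hpt (hP p K ?_ a ?_ h0)
    · rw [IsScalarTower.algebraMap_apply A (A ⧸ Ideal.span {l}) K, Ne, Ideal.algebraMap_residueField_eq_zero]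
      exact hp
    · rw [IsScalarTower.algebraMap_apply A (A ⧸ Ideal.span {l}) K, Ideal.algebraMap_residueField_eq_zero,
        Ideal.Quotient.algebraMap_eq, Ideal.Quotient.eq_zero_iff_mem.mpr (Ideal.mem_span_singleton_self l)]
      exact zero_mem q
  obtain ⟨f', hf', hstd'⟩ := HypTransLib.exists_smooth_hyperplane (k := k) g e l q hg hdl
  exact ⟨f', hf', he ▸ smoothOfRelativeDimension_of_standard (k := k) (e - 1) (Localization.Away f')⟩

end Groth.Agent.S4228
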