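import Groth.Statements.S4243
import Mathlib.FieldTheory.Finite.Polynomial
import Mathlib.RingTheory.MvPolynomial.Homogeneous

set_option autoImplicit false
open SGA4h

namespace Groth.Agent.S4243

/-- Let k be a finite field with q elements and P a nonzero homogeneous polynomial of degree d in r+1
variables over k. If P vanishes at every point of k^{r+1} (that is, the hypersurface P = 0 in
projective r-space passes through every rational point), then d ≥ q + 1. -/
theorem result (k : Type) [Field k] [Fintype k] (r d : ℕ)
    (P : MvPolynomial (Fin (r + 1)) k) (hP : P.IsHomogeneous d) (hP0 : P ≠ 0)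
    (hvan : ∀ x : Fin (r + 1) → k, MvPolynomial.eval x P = 0) :
    Fintype.card k + 1 ≤ d := by
  classical
  by_contra hlt
  push_neg at hlt
  set q := Fintype.card k with hq
  have hq1 : 1 < q := Fintype.one_lt_card
  let a : Fin (r + 1) → k := fun i => MvPolynomial.coeff (Finsupp.single i q) P
  let R := P - ∑ i, MvPolynomial.C (a i) * (MvPolynomial.X i ^ q - MvPolynomial.X i)
  have hsmall : ∀ (i j : Fin (r + 1)), i ≠ j → Finsupp.single i q ≠ Finsupp.single j q := fun i j hij h =>
    hij ((Finsupp.single_left_inj (by omega)).1 h)
  have hne : ∀ (i j : Fin (r + 1)), Finsupp.single i q ≠ Finsupp.single j 1 := fun i j h => by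
    have h1 := congrArg (fun s : Fin (r + 1) →₀ ℕ => Finsupp.sum s fun _ e => e) h
    simp only [Finsupp.sum_single_index] at h1
    omega
  have hdeg : ∀ m, MvPolynomial.coeff m P ≠ 0 → (Finsupp.sum m fun _ e => e) = d := fun m hm => by
    have h1 := hP hm
    simpa [Finsupp.weight_apply, smul_eq_mul] using h1
  have hR : R ∈ MvPolynomial.restrictDegree (Fin (r + 1)) k (q - 1) := by
    rw [MvPolynomial.mem_restrictDegree]
    intro m hm i
    by_contra hbig
    push_neg at hbig
    have hcoeff : MvPolynomial.coeff m R = 0 := by
      simp only [R, MvPolynomial.coeff_sub, MvPolynomial.coeff_sum, MvPolynomial.coeff_C_mul,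
        MvPolynomial.coeff_X_pow, MvPolynomial.coeff_X']
      by_cases hPm : MvPolynomial.coeff m P = 0
      · rw [hPm, zero_sub, neg_eq_zero]
        refine Finset.sum_eq_zero fun j _ => ?_
        rw [if_neg (c := Finsupp.single j 1 = m) ?_, sub_zero]
        · split_ifs with h
          · rw [mul_one, show a j = MvPolynomial.coeff (Finsupp.single j q) P from rfl, h, hPm]
          · rw [mul_zero]
        · rintro rfl
          rw [Finsupp.single_apply] at hbig
          split_ifs at hbig <;> omega
      · have hsum := hdeg m hPm
        have hmi : m i ≤ Finsupp.sum m fun _ e => e :=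
          Finset.single_le_sum (f := fun x => m x) (fun _ _ => Nat.zero_le _) (Finsupp.mem_support_iff.2 (by omega))
        have hm_eq : m = Finsupp.single i q := by
          refine Finsupp.ext fun j => ?_
          rcases eq_or_ne i j with rfl | hij
          · rw [Finsupp.single_eq_same]; omega
          · rw [Finsupp.single_eq_of_ne hij.symm]
            by_contra hj
            have : m i + m j ≤ Finsupp.sum m fun _ e => e := by
              rw [← Finset.sum_pair hij, Finsupp.sum]
              exact Finset.sum_le_sum_of_subset (fun x hx => Finsupp.mem_support_iff.2 (by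
                rcases Finset.mem_insert.1 hx with rfl | hx
                · omega
                · rw [Finset.mem_singleton.1 hx]; exact hj))
            omega
        rw [Finset.sum_eq_single i (fun j _ hji => ?_) (fun h => absurd (Finset.mem_univ i) h), hm_eq,
          if_pos rfl, if_neg (hne i i).symm]
        · simp [a]
        · rw [hm_eq, if_neg (hsmall j i hji), if_neg (hne i j).symm, sub_zero, mul_zero]
    exact MvPolynomial.mem_support_iff.1 hm hcoeff
  have hR0 : R = 0 := MvPolynomial.eq_zero_of_eval_eq_zero (Fin (r + 1)) k R (fun x => by
    simp [R, hvan x, q, FiniteField.pow_card]) hR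
  have hd : 1 < d ∨ ∀ i, a i = 0 := by
    by_cases h : ∀ i, a i = 0
    · exact Or.inr h
    · push_neg at h
      obtain ⟨i, hi⟩ := h
      have := hdeg _ hi
      rw [Finsupp.sum_single_index] at this <;> first | rfl | exact Or.inl (by omega)
  have ha : ∀ i, a i = 0 := by
    rcases hd with hd | hd
    · intro i
      have h1 := congrArg (MvPolynomial.coeff (Finsupp.single i 1)) hR0
      have h2 : MvPolynomial.coeff (Finsupp.single i 1) P = 0 := by
        by_contra h
        have := hdeg _ h
        rw [Finsupp.sum_single_index] at this <;> first | rfl | omega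
      simp only [R, MvPolynomial.coeff_sub, MvPolynomial.coeff_sum, MvPolynomial.coeff_C_mul,
        MvPolynomial.coeff_X_pow, MvPolynomial.coeff_X', h2, MvPolynomial.coeff_zero] at h1
      rw [Finset.sum_eq_single i (fun j _ hji => by
          rw [if_neg (hne j i), if_neg (fun h => hji ((Finsupp.single_left_inj one_ne_zero).1 h)), sub_zero,
            mul_zero]) (fun h => absurd (Finset.mem_univ i) h),
        if_neg (hne i i), if_pos rfl] at h1
      simpa using h1
    · exact hd
  refine hP0 ?_
  simpa [R, ha] using hR0

end Groth.Agent.S4243
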