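import Groth.Statements.S4248
import Groth.Agent.LangShLib.Main
import Groth.Agent.LangShLib.Cover

set_option autoImplicit false
set_option backward.isDefEq.respectTransparency false
set_option backward.isDefEq.respectTransparency.types false
set_option maxHeartbeats 1000000
set_option synthInstance.maxHeartbeats 400000
universe u
open CategoryTheory CategoryTheory.Limits AlgebraicGeometry Opposite
open scoped BigOperators
open Polynomial
open SGA4h

namespace Groth.Agent.S4248

/-- Let k be a finite field, K an algebraic closure, Λ a finite field of characteristic invertible in k,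
ψ a nontrivial additive character of k with values in Λ, and L the Artin–Schreier sheaf of ψ on the
affine line A¹_k = Spec k[X] (the rank-one sheaf that becomes constant on the cover z^q - z = X and
whose geometric Frobenius at a point x with values in a finite extension k' has trace ψ(Tr_{k'/k}
x)). Then for every compactification j : A¹_k → P₀ over k, H^i(P₀ ⊗_k K, j_! L) = 0 for all i: the
compactly supported cohomology of A¹ ⊗_k K with coefficients in L vanishes. -/
theorem result (k K : Type u) [Field k] [Fintype k] [Field K] [Algebra k K]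
    [IsAlgClosed K] [Algebra.IsAlgebraic k K] (Λ : Type) [Field Λ] [Finite Λ] (hΛ : (ringChar Λ : k) ≠ 0)
    [Fact FinFr.PullExact.{u}] (ψ : AddChar k Λ) (hψ : ψ ≠ 1)
    (L : EtLam.Sheaf Λ (Spec (CommRingCat.of k[X]))) (hL : LangSh.IsASSheaf K ψ (X : k[X]) L)
    {P₀ : Scheme.{u}} (j : Spec (CommRingCat.of k[X]) ⟶ P₀) [IsOpenImmersion j]
    (b : P₀ ⟶ Spec (CommRingCat.of k)) [IsProper b]
    (hj : j ≫ b = Spec.map (CommRingCat.ofHom (algebraMap k k[X]))) (i : ℕ) :
    Subsingleton (EtCoh.H (FinFr.ext K b) (EtLam.pullback (FinFr.extπ K b) (FinFr.extZeroLam j L)).carrier i) := by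
  classical
  let a : Spec (CommRingCat.of k[X]) ⟶ Spec (CommRingCat.of k) := Spec.map (CommRingCat.ofHom (algebraMap k k[X]))
  have hℓ : (ringChar Λ).Prime := CharP.char_is_prime Λ _
  let q := Fintype.card k
  let f : k[X][X] := X ^ q - X - C (X : k[X])
  have hq : 1 < q := Fintype.one_lt_card
  have hq0 : (q : k[X]) = 0 := by
    rw [← map_natCast (Polynomial.C : k →+* k[X]), FiniteField.cast_card_eq_zero, map_zero]
  have hdeg : degree (X + C (X : k[X]) : k[X][X]) < (q : WithBot ℕ) := by
    rw [degree_X_add_C]; exact_mod_cast hq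
  have hfe : f = X ^ q - (X + C (X : k[X])) := sub_sub _ _ _
  have hm : f.Monic := hfe ▸ monic_X_pow_sub hdeg
  have hsep : f.Separable := by
    refine ⟨0, -1, ?_⟩
    simp [f, derivative_X_pow, hq0]
    try ring
  have hnd : f.natDegree = q := natDegree_eq_of_degree_eq_some (by
    rw [hfe, degree_sub_eq_left_of_degree_lt (by rw [degree_X_pow]; exact hdeg), degree_X_pow])
  have hcop : Nat.Coprime (ringChar Λ) q := by
    obtain ⟨m, hp, hqm⟩ := FiniteField.card k (ringChar k)
    show Nat.Coprime (ringChar Λ) (Fintype.card k)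
    rw [hqm]
    refine Nat.Coprime.pow_right _ ((Nat.coprime_primes hℓ hp).2 fun h => hΛ ?_)
    rw [h, ringChar.Nat.cast_ringChar]
  obtain ⟨⟨eL, -⟩, htr⟩ := hL
  let π₀ := LangSh.cover k[X] (AdjoinRoot f)
  haveI : IsFinite π₀ := LangShLib.isFinite_cover hm
  haveI : AlgebraicGeometry.Etale π₀ := LangShLib.etale_cover hm hsep
  obtain ⟨e₀, he₀⟩ := LangShLib.exists_asIso k q
  obtain ⟨e, he⟩ := LangShLib.exists_iso_baseChange (K := K) a π₀ e₀ he₀
  have hsq : IsPullback (FinFr.extπ K a) (FinFr.extStr K a) a (FinFr.specι k K) := IsPullback.of_hasPullback _ _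
  have hsq' : IsPullback (Spec.map (CommRingCat.ofHom (Polynomial.mapRingHom (algebraMap k K))))
      (Spec.map (CommRingCat.ofHom (Polynomial.C : K →+* K[X]))) a (FinFr.specι k K) :=
    isPullback_SpecMap_of_isPushout _ _ _ _ (EtSmAcycLib.isPushout_mapPoly (algebraMap k K))
  let e1 : FinFr.ext K a ≅ Spec (CommRingCat.of K[X]) := hsq.isoIsPullback _ _ hsq'
  have he1 : e1.hom ≫ Spec.map (CommRingCat.ofHom (Polynomial.C : K →+* K[X])) = FinFr.extStr K a :=
    hsq.isoIsPullback_hom_snd _ _ hsq'
  haveI : ConnectedSpace (Spec (CommRingCat.of K[X])) := inferInstanceAs (ConnectedSpace (PrimeSpectrum (K[X])))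
  haveI : ConnectedSpace (pullback π₀ (FinFr.extπ K a) : Scheme.{u}) :=
    (e ≪≫ e1).hom.homeomorph.connectedSpace_iff.2 inferInstance
  haveI : AlgebraicGeometry.IsReduced (pullback π₀ (FinFr.extπ K a)) := isReduced_of_isOpenImmersion (e ≪≫ e1).hom
  haveI : Fintype (⊥ : IntermediateField k K) := Fintype.ofEquiv k (IntermediateField.botEquiv k K).symm.toEquiv
  haveI : Algebra.IsAlgebraic (⊥ : IntermediateField k K) K := Algebra.IsAlgebraic.tower_top (K := k) _
  let pnt : k → {x : Spec (CommRingCat.of (⊥ : IntermediateField k K)) ⟶ Spec (CommRingCat.of k[X]) //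
      x ≫ a = FinFr.specι k (⊥ : IntermediateField k K)} := fun c =>
    ⟨LangSh.pt (Polynomial.aeval (algebraMap k (⊥ : IntermediateField k K) c)), by
      show Spec.map _ ≫ Spec.map _ = Spec.map _
      rw [← Spec.map_comp, ← CommRingCat.ofHom_comp]
      exact congrArg (fun t => Spec.map (CommRingCat.ofHom t)) (RingHom.ext fun r => AlgHom.commutes (Polynomial.aeval (R := k) (algebraMap k (⊥ : IntermediateField k K) c)) r)⟩
  have hval : ∀ c : k, FinFr.locTrace (K := K) (pnt c).1 L = ψ c := fun c => by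
    refine (htr (⊥ : IntermediateField k K) (Polynomial.aeval (algebraMap k (⊥ : IntermediateField k K) c))).trans ?_
    show ψ (Algebra.trace k _ ((Polynomial.aeval (algebraMap k (⊥ : IntermediateField k K) c)) (X : k[X]))) = ψ c
    rw [Polynomial.aeval_X, Algebra.trace_algebraMap, IntermediateField.finrank_bot, one_smul]
  obtain ⟨c, hc⟩ := AddChar.ne_one_iff.1 hψ
  haveI : Fact (ringChar Λ).Prime := ⟨hℓ⟩
  refine LangShLib.subsingleton_H_compact (K := K) a π₀ L
    (k' := (⊥ : IntermediateField k K)) (Fintype.card_congr (IntermediateField.botEquiv k K).toEquiv) eL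
    (fun Ω _ _ ξ => by rw [LangShLib.natCard_lifts_cover hm hsep]; exact hnd.symm ▸ hcop)
    j b hj e he hℓ (pnt c) (pnt 0) ?_ i ?_
  · rw [hval, hval, AddChar.map_zero_eq_one]; exact hc
  intro P cP γ _ _ hγ
  let e2 : FinFr.ext K a ≅ EtPnCohLib.AS K 1 := e1 ≪≫ EtPnCohLib.lineIso (K := K)
  have he2 : e2.hom ≫ EtPnCohLib.sA K 1 = FinFr.extStr K a :=
    (Category.assoc _ _ _).trans ((congrArg (e1.hom ≫ ·) EtPnCohLib.lineIso_sA).trans he1)
  haveI : AlgebraicGeometry.IsReduced (FinFr.ext K a) := isReduced_of_isOpenImmersion e1.hom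
  have hK : ((ringChar Λ : ℕ) : K) ≠ 0 := by
    rw [← map_natCast (algebraMap k K)]
    exact (_root_.map_ne_zero _).2 hΛ
  have hgood := EtPnCohLib.good_one K (ringChar Λ) hK P cP (e2.inv ≫ γ)
    (by rw [Category.assoc, hγ, ← he2, e2.inv_hom_id_assoc])
  obtain ⟨E⟩ := LangShLib.nonempty_H_compact_iso cP cP (e2.inv ≫ γ) γ e2
    (by rw [Category.assoc, e2.hom_inv_id_assoc]) (ZMod (ringChar Λ)) hℓ.pos
    (fun m => by rw [nsmul_eq_mul, ZMod.natCast_self, zero_mul]) i
  by_cases hi : i = 2
  · subst hi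
    obtain ⟨z⟩ := hgood.2
    exact Finite.of_equiv (ZMod (ringChar Λ)) (E.trans z).symm.toEquiv
  · haveI := hgood.1 i hi
    exact Finite.of_equiv _ E.symm.toEquiv

end Groth.Agent.S4248
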