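import Groth.Statements.S4249
import Groth.Agent.LangShLib.Main
import Groth.Agent.LangShLib.Cover
import Groth.Agent.LangShLib.Kummer
import Groth.Agent.LangShLib.Descent
import Groth.Agent.S0636
import Groth.Agent.S13505
import Groth.Agent.EtCurveConsLib.Fibre

set_option autoImplicit false
set_option backward.isDefEq.respectTransparency false
set_option backward.isDefEq.respectTransparency.types false
set_option maxHeartbeats 1000000
set_option synthInstance.maxHeartbeats 400000
universe u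
open CategoryTheory CategoryTheory.Limits AlgebraicGeometry Opposite
open scoped BigOperators
open LaurentPolynomial
open SGA4h

namespace Groth.Agent.S4249

attribute [local instance] EtSliceLib.pullExact

open Polynomial in
theorem finite_Hc {K : Type u} [Field K] [IsAlgClosed K] {X : Scheme.{u}} [CompactSpace X] [QuasiSeparatedSpace X]
    [AlgebraicGeometry.IsReduced X] (u : X ⟶ Spec (CommRingCat.of K[X])) [IsOpenImmersion u]
    (s : X ⟶ Spec (CommRingCat.of K)) (hs : u ≫ Spec.map (CommRingCat.ofHom (Polynomial.C : K →+* K[X])) = s)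
    (n : ℕ) (hn : 0 < n) (q : ℕ) {P : Scheme.{u}} (c : P ⟶ Spec (CommRingCat.of K)) [IsProper c] (γ : X ⟶ P)
    [IsOpenImmersion γ] (w : γ ≫ c = s) :
    Finite (EtCoh.H P ((EtShriek.extZero γ).obj (EtCoh.const X (ZMod n))) q) := by
  haveI : NeZero n := ⟨hn.ne'⟩
  obtain ⟨ch, hch, hcs, -⟩ := EtPnCohLib.exists_chart K 1
  let γ₁ := u ≫ (EtPnCohLib.lineIso (K := K)).hom ≫ ch
  haveI : IsOpenImmersion γ₁ := inferInstance
  haveI : IsProper (CohB1.ProjSpace.toSpec 1 K) := ProjDegLib.toSpec_isProper K 1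
  have w₁ : γ₁ ≫ CohB1.ProjSpace.toSpec 1 K = s := by
    rw [Category.assoc, Category.assoc, hcs, EtPnCohLib.lineIso_sA, hs]
  obtain ⟨e⟩ := EtPnCohLib.nonempty_H_independent c (CohB1.ProjSpace.toSpec 1 K) γ γ₁ (w.trans w₁.symm)
    (EtCoh.const X (ZMod n)) (EtPnCohLib.isTorsion_cn X hn) q
  haveI : CompactSpace (CohB1.ProjSpace 1 K) := QuasiCompact.compactSpace_of_compactSpace (CohB1.ProjSpace.toSpec 1 K)
  haveI : QuasiSeparatedSpace (CohB1.ProjSpace 1 K) :=
    AlgebraicGeometry.quasiSeparatedSpace_of_quasiSeparated (CohB1.ProjSpace.toSpec 1 K)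
  have hlc : EtCoh.IsFiniteLocallyConstant (EtCoh.const X (ZMod n)) :=
    (Groth.Agent.EtShLib.isFLC_iff _).2 (EtCurveConsLib.lc_const X n)
  haveI : EtShriek.JCont γ₁ := inferInstance
  have h := Groth.Agent.S0636.result K (CohB1.ProjSpace 1 K) (CohB1.ProjSpace.toSpec 1 K)
    (le_of_eq (by exact_mod_cast GenusZeroLib.dim_projSpace K 1)) ((EtShriek.extZero γ₁).obj (EtCoh.const X (ZMod n)))
    (Groth.Agent.S13505.result γ₁ _ hlc) (EtPnCohLib.isTorsion_extZero γ₁ hn) q
  exact @Finite.of_equiv _ _ h e.symm.toEquiv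



/-- Let k be a finite field with q elements, K an algebraic closure, Λ a finite field of characteristic
invertible in k, χ a nontrivial multiplicative character of k with values in Λ, and L the Kummer
sheaf of χ on G_{m,k} = Spec k[T, T⁻¹] (the rank-one sheaf that becomes constant on the cover
y^{q-1} = T and whose geometric Frobenius at a point x with values in a finite extension k' has
trace χ(N_{k'/k} x)). Then for every compactification j : G_{m,k} → P₀ over k and every i, H^i(P₀
⊗_k K, j_! L) = 0. -/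
theorem result (k K : Type u) [Field k] [Fintype k] [Field K] [Algebra k K]
    [IsAlgClosed K] [Algebra.IsAlgebraic k K] (Λ : Type) [Field Λ] [Finite Λ] (hΛ : (ringChar Λ : k) ≠ 0)
    [Fact FinFr.PullExact.{u}] (χ : MulChar k Λ) (hχ : χ ≠ 1)
    (uT : (k[T;T⁻¹])ˣ) (huT : (uT : k[T;T⁻¹]) = T 1)
    (L : EtLam.Sheaf Λ (Spec (CommRingCat.of k[T;T⁻¹]))) (hL : LangSh.IsKumSheaf K χ uT L)
    {P₀ : Scheme.{u}} (j : Spec (CommRingCat.of k[T;T⁻¹]) ⟶ P₀) [IsOpenImmersion j]
    (b : P₀ ⟶ Spec (CommRingCat.of k)) [IsProper b]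
    (hj : j ≫ b = Spec.map (CommRingCat.ofHom (algebraMap k k[T;T⁻¹]))) (i : ℕ) :
    Subsingleton (EtCoh.H (FinFr.ext K b) (EtLam.pullback (FinFr.extπ K b) (FinFr.extZeroLam j L)).carrier i) := by
  classical
  let R := LaurentPolynomial k
  let a : Spec (CommRingCat.of R) ⟶ Spec (CommRingCat.of k) := Spec.map (CommRingCat.ofHom (algebraMap k R))
  have hℓ : (ringChar Λ).Prime := CharP.char_is_prime Λ _
  haveI : Fact (ringChar Λ).Prime := ⟨hℓ⟩
  let ℓ := ringChar Λ
  let m := Fintype.card k - 1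
  have hm1 : 1 ≤ m := by have := Fintype.one_lt_card (α := k); omega
  let b' := m.factorization ℓ
  let d := m / ℓ ^ b'
  let e := ℓ ^ b'
  have hde : d * e = m := (mul_comm _ _).trans (Nat.ordProj_mul_ordCompl_eq_self m ℓ)
  have hdℓ : ¬ ℓ ∣ d := Nat.not_dvd_ordCompl hℓ (by omega)
  have hd1 : 1 ≤ d := Nat.pos_of_ne_zero fun h => hdℓ (h ▸ dvd_zero ℓ)
  have hmk : (m : k) ≠ 0 := by
    have h : (m : k) + 1 = 0 := by
      rw [← Nat.cast_succ, show m.succ = Fintype.card k by omega, FiniteField.cast_card_eq_zero]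
    intro h0; rw [h0, zero_add] at h; exact one_ne_zero h
  have hdk : (d : k) ≠ 0 := fun h => hmk (by rw [← hde, Nat.cast_mul, h, zero_mul])
  have hek : (e : k) ≠ 0 := fun h => hmk (by rw [← hde, Nat.cast_mul, h, mul_zero])
  have hcast : ∀ n : ℕ, (n : k) ≠ 0 → IsUnit (n : R) := fun n hn => by
    rw [← map_natCast (algebraMap k R) n]
    exact (isUnit_iff_ne_zero.2 hn).map _
  let fd : Polynomial R := Polynomial.X ^ d - Polynomial.C (uT : R)
  let fm : Polynomial R := Polynomial.X ^ m - Polynomial.C (uT : R)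
  have hmd : fd.Monic := LangShLib.kum_monic uT d hd1
  have hsd : fd.Separable := LangShLib.kum_separable uT d hd1 (hcast d hdk)
  have hmm : fm.Monic := LangShLib.kum_monic uT m hm1
  have hsm : fm.Separable := LangShLib.kum_separable uT m hm1 (hcast m hmk)
  obtain ⟨⟨eL, -⟩, htr⟩ := hL
  let πd := LangSh.cover R (AdjoinRoot fd)
  let πm := LangSh.cover R (AdjoinRoot fm)
  haveI : IsFinite πd := LangShLib.isFinite_cover hmd
  haveI : AlgebraicGeometry.Etale πd := LangShLib.etale_cover hmd hsd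
  haveI : IsFinite πm := LangShLib.isFinite_cover hmm
  haveI : AlgebraicGeometry.Etale πm := LangShLib.etale_cover hmm hsm
  let ι := LangShLib.kumPow uT m d e hde
  let τ : Spec (CommRingCat.of (AdjoinRoot fm)) ⟶ Spec (CommRingCat.of (AdjoinRoot fd)) :=
    Spec.map (CommRingCat.ofHom ι)
  have hτ : τ ≫ πd = πm := by
    show Spec.map _ ≫ Spec.map _ = Spec.map _
    rw [← Spec.map_comp]
    exact congrArg Spec.map (CommRingCat.hom_ext (RingHom.ext fun r => LangShLib.kumPow_of uT m d e hde r))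
  haveI : AlgebraicGeometry.Etale (τ ≫ πd) := by rw [hτ]; infer_instance
  haveI : IsFinite (τ ≫ πd) := by rw [hτ]; infer_instance
  haveI hτet : AlgebraicGeometry.Etale τ := AlgebraicGeometry.Etale.of_comp τ πd
  haveI : IsFinite τ := IsFinite.of_comp τ πd
  let Y : (Spec (CommRingCat.of (AdjoinRoot fd))).Etale := MorphismProperty.Over.mk ⊤ τ hτet
  obtain ⟨ed, hed⟩ := LangShLib.exists_kumIso k uT huT d hd1
  obtain ⟨em, hem⟩ := LangShLib.exists_kumIso k uT huT m hm1
  haveI : ConnectedSpace (Spec (CommRingCat.of R)) := inferInstanceAs (ConnectedSpace (PrimeSpectrum R))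
  haveI : ConnectedSpace (Spec (CommRingCat.of (AdjoinRoot fd))) := ed.hom.homeomorph.connectedSpace_iff.2 inferInstance
  haveI : ConnectedSpace Y.left :=
    show ConnectedSpace (Spec (CommRingCat.of (AdjoinRoot fm))) from em.hom.homeomorph.connectedSpace_iff.2 inferInstance
  haveI : IsFinite Y.hom := ‹IsFinite τ›
  haveI : CharP Λ ℓ := ringChar.charP Λ
  -- descent to the cover of degree prime to `ℓ`
  let eY : (EtCoh.pull Y.hom).obj (EtLam.pullback πd L).carrier ≅ EtCoh.const Y.left Λ :=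
    ((EtCore.pullComp τ πd).symm ≪≫ EtCore.pullCongr hτ).app L.carrier ≪≫ eL
  have hinj : Function.Injective (algebraMap k R) := (algebraMap k R).injective
  let rt : {ζ : k // ζ ^ e = 1} → {c : R // c ^ m = 1 ∧ c ^ e = 1} := fun ζ =>
    ⟨algebraMap k R ζ.1, by rw [← map_pow, ← hde, mul_comm, pow_mul, ζ.2, one_pow, map_one],
      by rw [← map_pow, ζ.2, map_one]⟩
  let sg : {ζ : k // ζ ^ e = 1} → (Y ⟶ Y) := fun ζ =>
    MorphismProperty.Over.homMk (Spec.map (CommRingCat.ofHom (LangShLib.kumMul uT m (rt ζ).1 (rt ζ).2.1))) (by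
      show Spec.map _ ≫ Spec.map _ = Spec.map _
      rw [← Spec.map_comp]
      exact congrArg Spec.map (CommRingCat.hom_ext
        (LangShLib.kumMul_kumPow uT m d e hde (rt ζ).1 (rt ζ).2.1 (rt ζ).2.2)))
  have hsg : ∀ (ζ : {ζ : k // ζ ^ e = 1}) (n : ℕ), ((fun g : Y ⟶ Y => g ≫ sg ζ)^[n] (𝟙 Y)).left =
      Spec.map (CommRingCat.ofHom (LangShLib.kumMul uT m ((rt ζ).1 ^ n)
        (by rw [← pow_mul, mul_comm, pow_mul, (rt ζ).2.1, one_pow]))) := fun ζ n => by
    induction n with
    | zero =>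
      simp only [pow_zero, Function.iterate_zero, id_eq]
      rw [LangShLib.kumMul_one]
      exact (Spec.map_id _).symm
    | succ n ih =>
      rw [Function.iterate_succ_apply']
      show ((fun g : Y ⟶ Y => g ≫ sg ζ)^[n] (𝟙 Y)).left ≫ Spec.map _ = _
      rw [ih, ← Spec.map_comp, ← CommRingCat.ofHom_comp, LangShLib.kumMul_comp]
      simp only [pow_succ']
  have hY : Function.Surjective Y.hom.base := by
    haveI : IrreducibleSpace (Spec (CommRingCat.of R)) := inferInstanceAs (IrreducibleSpace (PrimeSpectrum R))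
    intro z
    have hop : IsOpen (Set.range τ.base) := τ.isOpenMap.isOpen_range
    have hcl : IsClosed (Set.range τ.base) := τ.isClosedMap.isClosed_range
    haveI : Nonempty (Spec (CommRingCat.of (AdjoinRoot fm))) := (show ConnectedSpace Y.left from inferInstance).toNonempty
    exact (Set.eq_univ_iff_forall.1 ((isClopen_iff.1 ⟨hcl, hop⟩).resolve_left (Set.range_nonempty _).ne_empty)) z
  have hgraph : ∀ (Ω : Type u) [Field Ω] [IsSepClosed Ω] (ξ : Spec (CommRingCat.of Ω) ⟶ Spec (CommRingCat.of (AdjoinRoot fd)))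
      (y₁ y₂ : Groth.Agent.EtShLib.Fib ξ Y), ∃ ζ, y₁.map (sg ζ) = y₂ := by
    intro Ω _ _ ξ y₁ y₂
    let φ₁ := (Spec.preimage (R := CommRingCat.of (AdjoinRoot fm)) y₁.hom).hom
    let φ₂ := (Spec.preimage (R := CommRingCat.of (AdjoinRoot fm)) y₂.hom).hom
    have hι : φ₁.comp ι = φ₂.comp ι := by
      have h : CommRingCat.ofHom ι ≫ Spec.preimage y₁.hom = CommRingCat.ofHom ι ≫ Spec.preimage y₂.hom :=
        Spec.map_injective (by
          rw [Spec.map_comp, Spec.map_comp, Spec.map_preimage, Spec.map_preimage]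
          exact y₁.w.trans y₂.w.symm)
      exact congrArg CommRingCat.Hom.hom h
    have hof : ∀ r, φ₁ (AdjoinRoot.of fm r) = φ₂ (AdjoinRoot.of fm r) := fun r => by
      have h := RingHom.congr_fun hι (AdjoinRoot.of fd r)
      rwa [RingHom.comp_apply, RingHom.comp_apply, LangShLib.kumPow_of] at h
    have hpow : φ₁ (AdjoinRoot.root fm) ^ e = φ₂ (AdjoinRoot.root fm) ^ e := by
      have h := RingHom.congr_fun hι (AdjoinRoot.root fd)
      rwa [RingHom.comp_apply, RingHom.comp_apply, LangShLib.kumPow_root, map_pow, map_pow] at h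
    have h1 : φ₁ (AdjoinRoot.root fm) ≠ 0 := ((LangShLib.isUnit_root uT m hm1).map φ₁).ne_zero
    let η := φ₂ (AdjoinRoot.root fm) / φ₁ (AdjoinRoot.root fm)
    have hη : η ^ e = 1 := by rw [div_pow, ← hpow, div_self (pow_ne_zero _ h1)]
    let c : k →+* Ω := φ₁.comp ((AdjoinRoot.of fm).comp (algebraMap k R))
    obtain ⟨g, hg⟩ := IsCyclic.exists_generator (α := kˣ)
    have hord : orderOf g = m := by
      rw [orderOf_eq_card_of_forall_mem_zpowers hg, Nat.card_units, Nat.card_eq_fintype_card]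
    have hprim : IsPrimitiveRoot ((g : k) ^ d) e :=
      ((IsPrimitiveRoot.coe_units_iff).2 (hord ▸ IsPrimitiveRoot.orderOf g)).pow (by omega) hde.symm
    haveI : NeZero e := ⟨(pow_pos hℓ.pos _).ne'⟩
    obtain ⟨i, -, hi⟩ := (hprim.map_of_injective c.injective).eq_pow_of_pow_eq_one hη
    refine ⟨⟨((g : k) ^ d) ^ i, by rw [← pow_mul, mul_comm, pow_mul, hprim.pow_eq_one, one_pow]⟩,
      Groth.Agent.EtShLib.Fib.ext ?_⟩
    rw [Groth.Agent.EtShLib.Fib.map_hom]
    show y₁.hom ≫ Spec.map _ = y₂.hom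
    refine (congrArg (· ≫ Spec.map _) (Spec.map_preimage y₁.hom).symm).trans ?_
    rw [← Spec.map_comp]
    refine (congrArg Spec.map (CommRingCat.hom_ext ?_)).trans (Spec.map_preimage y₂.hom)
    refine LangShLib.adjoinRoot_hom_ext (fun r => ?_) ?_
    · refine Eq.trans ?_ (hof r)
      simp only [CommRingCat.hom_comp, RingHom.comp_apply, CommRingCat.hom_ofHom]
      exact congrArg φ₁ (LangShLib.kumMul_of uT m _ _ r)
    · simp only [CommRingCat.hom_comp, RingHom.comp_apply, CommRingCat.hom_ofHom]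
      refine (congrArg φ₁ (LangShLib.kumMul_root uT m _ _)).trans ?_
      rw [map_mul]
      show φ₁ (AdjoinRoot.of fm (algebraMap k R (((g : k) ^ d) ^ i))) * _ = _
      rw [show φ₁ (AdjoinRoot.of fm (algebraMap k R (((g : k) ^ d) ^ i))) = c ((g : k) ^ d) ^ i from map_pow c _ _, hi,
        div_mul_cancel₀ _ h1]
  obtain ⟨eLd⟩ := LangShLib.nonempty_iso_const (EtLam.pullback πd L) Y eY hY ℓ sg b'
    (fun ζ => MorphismProperty.Over.Hom.ext ((hsg ζ (ℓ ^ b')).trans (by
      simp only [show (rt ζ).1 ^ ℓ ^ b' = 1 from (rt ζ).2.2]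
      rw [LangShLib.kumMul_one]
      exact Spec.map_id _))) hgraph
  -- the base extension
  obtain ⟨eZ, heZ⟩ := LangShLib.exists_iso_baseChange (K := K) a πd ed hed
  let u₀ : Spec (CommRingCat.of R) ⟶ Spec (CommRingCat.of (Polynomial k)) :=
    Spec.map (CommRingCat.ofHom (Polynomial.toLaurent : Polynomial k →+* R))
  haveI : IsOpenImmersion u₀ := by
    show IsOpenImmersion (Spec.map (CommRingCat.ofHom (algebraMap (Polynomial k) R)))
    exact IsOpenImmersion.of_isLocalization (Polynomial.X : Polynomial k)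
  let a' : Spec (CommRingCat.of (Polynomial k)) ⟶ Spec (CommRingCat.of k) := Spec.map (CommRingCat.ofHom (algebraMap k (Polynomial k)))
  have hu₀ : u₀ ≫ a' = a := by
    show Spec.map _ ≫ Spec.map _ = Spec.map _
    rw [← Spec.map_comp]
    exact congrArg Spec.map (CommRingCat.hom_ext (RingHom.ext fun c => Polynomial.toLaurent_C c))
  have hsq : IsPullback (FinFr.extπ K a') (FinFr.extStr K a') a' (FinFr.specι k K) := IsPullback.of_hasPullback _ _
  have hsq' : IsPullback (Spec.map (CommRingCat.ofHom (Polynomial.mapRingHom (algebraMap k K))))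
      (Spec.map (CommRingCat.ofHom (Polynomial.C : K →+* Polynomial K))) a' (FinFr.specι k K) :=
    isPullback_SpecMap_of_isPushout _ _ _ _ (EtSmAcycLib.isPushout_mapPoly (algebraMap k K))
  let e1 : FinFr.ext K a' ≅ Spec (CommRingCat.of (Polynomial K)) := hsq.isoIsPullback _ _ hsq'
  have hsq2 : IsPullback (FinFr.extπ K a) (FinFr.extHom K a u₀ hu₀) u₀ (FinFr.extπ K a') := by
    refine IsPullback.of_bot ?_ (FinFr.extHom_fst a u₀ hu₀).symm hsq
    rw [show FinFr.extHom K a u₀ hu₀ ≫ FinFr.extStr K a' = FinFr.extStr K a from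
      (pullback.lift_snd _ _ _).trans (Category.comp_id _), hu₀]
    exact IsPullback.of_hasPullback a (FinFr.specι k K)
  haveI : IsOpenImmersion (FinFr.extHom K a u₀ hu₀) := MorphismProperty.of_isPullback hsq2 inferInstance
  let uK := FinFr.extHom K a u₀ hu₀ ≫ e1.hom
  have huK : uK ≫ Spec.map (CommRingCat.ofHom (Polynomial.C : K →+* Polynomial K)) = FinFr.extStr K a := by
    rw [Category.assoc, hsq.isoIsPullback_hom_snd _ _ hsq']
    exact (pullback.lift_snd _ _ _).trans (Category.comp_id _)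
  haveI : AlgebraicGeometry.IsReduced (FinFr.ext K a) := isReduced_of_isOpenImmersion uK
  haveI : IrreducibleSpace (Spec (CommRingCat.of (Polynomial K))) := inferInstanceAs (IrreducibleSpace (PrimeSpectrum (Polynomial K)))
  haveI : AlgebraicGeometry.IsIntegral (Spec (CommRingCat.of (Polynomial K))) := inferInstance
  haveI : Surjective (FinFr.specι k K) := ⟨fun x => ⟨default, Subsingleton.elim (α := PrimeSpectrum k) _ _⟩⟩
  haveI : Surjective (FinFr.extπ K a) := MorphismProperty.pullback_fst _ _ inferInstance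
  haveI : Nonempty (FinFr.ext K a) :=
    ⟨((FinFr.extπ K a).surjective (Classical.arbitrary (PrimeSpectrum R))).choose⟩
  haveI : AlgebraicGeometry.IsIntegral (FinFr.ext K a) := isIntegral_of_isOpenImmersion uK
  haveI : ConnectedSpace (FinFr.ext K a) := IrreducibleSpace.connectedSpace _
  haveI : ConnectedSpace (pullback πd (FinFr.extπ K a) : Scheme.{u}) := eZ.hom.homeomorph.connectedSpace_iff.2 inferInstance
  haveI : AlgebraicGeometry.IsReduced (pullback πd (FinFr.extπ K a)) := isReduced_of_isOpenImmersion eZ.hom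
  -- the trace function
  haveI : Fintype (⊥ : IntermediateField k K) := Fintype.ofEquiv k (IntermediateField.botEquiv k K).symm.toEquiv
  haveI : Algebra.IsAlgebraic (⊥ : IntermediateField k K) K := Algebra.IsAlgebraic.tower_top (K := k) _
  let E := (⊥ : IntermediateField k K)
  let xA : kˣ → (R →ₐ[k] E) := fun c =>
    { LaurentPolynomial.eval₂ (algebraMap k E) (Units.map (algebraMap k E : k →* E) c) with
      commutes' := fun r => LaurentPolynomial.eval₂_C _ _ r }
  let pnt : kˣ → {x : Spec (CommRingCat.of E) ⟶ Spec (CommRingCat.of R) // x ≫ a = FinFr.specι k E} := fun c =>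
    ⟨LangSh.pt (xA c), by
      show Spec.map _ ≫ Spec.map _ = Spec.map _
      rw [← Spec.map_comp, ← CommRingCat.ofHom_comp]
      exact congrArg (fun t => Spec.map (CommRingCat.ofHom t)) (RingHom.ext fun r => AlgHom.commutes (xA c) r)⟩
  have hval : ∀ c : kˣ, FinFr.locTrace (K := K) (pnt c).1 L = χ c := fun c => by
    refine (htr E (xA c)).trans ?_
    show χ (Algebra.norm k (LaurentPolynomial.eval₂ (algebraMap k E) _ (uT : R))) = χ c
    rw [show LaurentPolynomial.eval₂ (algebraMap k E) (Units.map (algebraMap k E : k →* E) c) (uT : R) =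
      algebraMap k E c from (congrArg _ huT).trans (by rw [LaurentPolynomial.eval₂_T, zpow_one]; rfl),
      Algebra.norm_algebraMap, IntermediateField.finrank_bot, pow_one]
  obtain ⟨c, hc⟩ := MulChar.ne_one_iff.1 hχ
  have hcop : Nat.Coprime ℓ d := hℓ.coprime_iff_not_dvd.2 hdℓ
  have hnd : fd.natDegree = d := LangShLib.kum_natDegree uT d
  refine LangShLib.subsingleton_H_compact (K := K) a πd L
    (k' := E) (Fintype.card_congr (IntermediateField.botEquiv k K).toEquiv) eLd
    (fun Ω _ _ ξ => by rw [LangShLib.natCard_lifts_cover hmd hsd]; exact hnd.symm ▸ hcop)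
    j b hj eZ heZ hℓ (pnt c) (pnt 1) ?_ i ?_
  · rw [hval, hval, Units.val_one, map_one]; exact hc
  intro P cP γ _ _ hγ
  exact finite_Hc uK (FinFr.extStr K a) huK ℓ hℓ.pos i cP γ hγ

end Groth.Agent.S4249
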