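import Groth.Statements.S4255
import Groth.Agent.ModGenLib.Gen

set_option autoImplicit false
universe u
open CategoryTheory CategoryTheory.Limits AlgebraicGeometry Opposite
open SGA4h

namespace Groth.Agent.S4255

/-- Let X be a Noetherian scheme, Λ a commutative Noetherian ring, and v : A → B an epimorphism of etale
sheaves of Λ-modules on X with B constructible. Then there exist a constructible sheaf of Λ-modules
K whose stalks at all geometric points are flat Λ-modules, and a morphism u : K → A such that u ≫ v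
is an epimorphism. -/
theorem result {X : Scheme.{u}} [IsNoetherian X]
    (Λ : Type (u + 1)) [CommRing Λ] [IsNoetherianRing Λ] {A B : EtModW.Mod Λ X} (v : A ⟶ B) [Epi v]
    (hB : EtModW.IsConstructible Λ B) :
    ∃ (K : EtModW.Mod Λ X) (w : K ⟶ A), EtModW.IsConstructible Λ K ∧
      (∀ (Ω : Type u) [Field Ω] [IsSepClosed Ω] (ξ : Spec (CommRingCat.of Ω) ⟶ X), Module.Flat Λ ((EtModW.stalk Λ ξ).obj K)) ∧
      Epi (w ≫ v) := by
  obtain ⟨a, U, hU, w, hw⟩ := Groth.Agent.ModGenLib.exists_generators v
    ((Groth.Agent.EtShLib.isConstructibleMod_iff B).1 hB)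
  haveI := hU
  haveI : ∀ i, CompactSpace (U i).left := fun i => inferInstance
  haveI : ∀ i, QuasiSeparatedSpace (U i).left := fun i => inferInstance
  refine ⟨_, w, (Groth.Agent.EtShLib.isConstructibleMod_iff _).2
    (Groth.Agent.ModGenLib.isCons_biproduct _ fun i => Groth.Agent.ModGenLib.isCons Λ (U i)),
    fun Ω _ _ ξ => ?_, hw⟩
  exact Groth.Agent.ModGenLib.flat_stalk_biproduct _ ξ fun i => Groth.Agent.ModGenLib.flat_stalk Λ (U i) ξ

end Groth.Agent.S4255
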