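import Groth.Statements.S4256
import Mathlib.NumberTheory.LegendreSymbol.AddCharacter
import Mathlib.Algebra.BigOperators.Ring.Finset

set_option autoImplicit false
open scoped BigOperators
open SGA4h

namespace Groth.Agent.S4256

/-- Let k be a finite field, ψ a nontrivial additive character of k with values in a domain R, and n ≥
1. Then the generalised Kloosterman sum with parameter 0, Σ ψ(x_1 + ⋯ + x_n) over all (x_1, …, x_n)
∈ k^n with x_1 ⋯ x_n = 0, equals (-1)^{n-1}. -/
theorem result (k : Type) [Field k] [Fintype k] [DecidableEq k] (R : Type) [CommRing R] [IsDomain R]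
    (ψ : AddChar k R) (hψ : ψ ≠ 1) (n : ℕ) (hn : 1 ≤ n) :
    ∑ x ∈ (Finset.univ : Finset (Fin n → k)).filter (fun x => ∏ i, x i = 0), ψ (∑ i, x i) = (-1) ^ (n - 1) := by
  classical
  have hψsum : ∑ a, ψ a = 0 := AddChar.sum_eq_zero_of_ne_one hψ
  have hpow : ∀ s : Finset k, ∑ x ∈ Fintype.piFinset (fun _ : Fin n => s), ψ (∑ i, x i) = (∑ a ∈ s, ψ a) ^ n := by
    intro s
    rw [← Fin.prod_const n (∑ a ∈ s, ψ a), Finset.prod_univ_sum]
    refine Finset.sum_congr rfl fun x _ => ?_
    refine Finset.induction_on (Finset.univ : Finset (Fin n)) ?_ ?_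
    · simp
    · intro i t hi ih
      rw [Finset.sum_insert hi, Finset.prod_insert hi, ψ.map_add_eq_mul, ih]
  have hall : ∑ x : Fin n → k, ψ (∑ i, x i) = 0 := by
    have h := hpow Finset.univ
    rw [Fintype.piFinset_univ, hψsum, zero_pow (by omega)] at h
    exact h
  have hne : ∑ x ∈ (Finset.univ : Finset (Fin n → k)).filter (fun x => ¬ ∏ i, x i = 0), ψ (∑ i, x i) = (-1) ^ n := by
    have h := hpow (Finset.univ.erase 0)
    have h1 : ∑ a ∈ Finset.univ.erase (0 : k), ψ a = -1 := by
      rw [eq_neg_iff_add_eq_zero, add_comm]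
      rw [← ψ.map_zero_eq_one, Finset.add_sum_erase _ _ (Finset.mem_univ 0)]
      exact hψsum
    rw [h1] at h
    rw [← h]
    refine Finset.sum_congr ?_ fun _ _ => rfl
    ext x
    simp [Finset.prod_eq_zero_iff, Fintype.mem_piFinset]
  rw [← Finset.sum_filter_add_sum_filter_not Finset.univ (fun x : Fin n → k => ∏ i, x i = 0), hne] at hall
  rw [eq_neg_of_add_eq_zero_left hall]
  obtain ⟨m, rfl⟩ : ∃ m, n = m + 1 := ⟨n - 1, by omega⟩
  rw [pow_succ, Nat.add_sub_cancel, mul_neg_one, neg_neg]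

end Groth.Agent.S4256
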