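import Groth.Statements.S4260
import Groth.Agent.TrZeroLib.Fin

set_option autoImplicit false
set_option backward.isDefEq.respectTransparency false
set_option backward.isDefEq.respectTransparency.types false
set_option maxHeartbeats 1000000
set_option synthInstance.maxHeartbeats 400000
universe u
open CategoryTheory CategoryTheory.Limits AlgebraicGeometry Opposite
open scoped BigOperators
open SGA4h

namespace Groth.Agent.S4260

open Groth.Agent Groth.Agent.EtShLib
set_option maxHeartbeats 4000000
attribute [local instance] EtSliceLib.pullExact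



/-- Stated with coefficients a finite field Λ of characteristic invertible in k and a single sheaf: let
k be a finite field, K an algebraic closure, a : X₀ → Spec k finite, and L an etale sheaf of
Λ-modules on X₀ which is constructible. Then Σ_{x ∈ X₀(k)} Tr(F_x, L_x̄) = Σ_i (-1)^i Tr(F^*, H^i(X₀
⊗_k K, L)), where the right side is computed through the trivial compactification (X₀ is proper over
k). -/
theorem result (k K : Type u) [Field k] [Fintype k] [Field K] [Algebra k K]
    [IsAlgClosed K] [Algebra.IsAlgebraic k K] (Λ : Type) [Field Λ] [Finite Λ] (hΛ : (ringChar Λ : k) ≠ 0)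
    [Fact FinFr.PullExact.{u}] {X₀ : Scheme.{u}} (a : X₀ ⟶ Spec (CommRingCat.of k)) [IsFinite a]
    (L : EtLam.Sheaf Λ X₀) (hL : EtLam.IsConstructible L) :
    ∑ᶠ x : FinFr.RatPt a, FinFr.locTrace (K := K) x.1 L =
      ∑ᶠ i : ℕ, (-1 : Λ) ^ i * LinearMap.trace Λ _ (FinFr.frobC (K := K) (𝟙 X₀) a L i) := by
  haveI : CompactSpace X₀ := QuasiCompact.compactSpace_of_compactSpace a
  haveI : IsLocallyNoetherian X₀ := LocallyOfFiniteType.isLocallyNoetherian a
  let L' := FinFr.extZeroLam (𝟙 X₀) L
  let e : L'.carrier ≅ L.carrier := (TrZeroLib.extZeroId X₀).app L.carrier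
  haveI := TrZeroLib.finite_H_ext (K := K) a L' (fun y =>
    haveI := TrZeroLib.finite_stk L hL y
    Finite.of_equiv _ ((EtShLib.stk y).mapIso e).symm.addCommGroupIsoToAddEquiv.toEquiv)
  haveI : Module.Finite Λ (EtCoh.H (FinFr.ext K a) (EtLam.pullback (FinFr.extπ K a) L').carrier 0) :=
    Module.Finite.of_finite
  have hL' : ∀ x : FinFr.RatPt a, FinFr.locTrace (K := K) x.1 L = FinFr.locTrace (K := K) x.1 L' := fun x =>
    (TrZeroLib.locTrace_congr L' L e (fun c => (TrZeroLib.extZeroId X₀).hom.naturality (L.act c)) x.1).symm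
  rw [finsum_congr hL', TrZeroLib.trace_eq_finsum L', finsum_eq_single _ 0 fun i hi => ?_]
  · rw [pow_zero, one_mul]
    rfl
  · haveI : IsSepClosed K := inferInstance
    haveI : Subsingleton (EtCoh.H (FinFr.ext K a) (EtLam.pullback (FinFr.extπ K a) L').carrier i) :=
      EtPBCCdLib.subsingleton_H_point (FinFr.extStr K a) _ i (Nat.pos_of_ne_zero hi)
    have h0 : FinFr.frobC (K := K) (𝟙 X₀) a L i = 0 := LinearMap.ext fun s => Subsingleton.elim (α :=
      EtCoh.H (FinFr.ext K a) (EtLam.pullback (FinFr.extπ K a) L').carrier i) _ _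
    rw [h0, map_zero, mul_zero]

end Groth.Agent.S4260
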