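import Groth.Statements.S4263
import Groth.Agent.FrobActLib.Basic
-- import your own Groth.Agent.* helpers here

set_option autoImplicit false
set_option maxHeartbeats 1600000
set_option linter.style.haveILetI false
set_option backward.isDefEq.respectTransparency false
set_option backward.isDefEq.respectTransparency.types false
universe u
open CategoryTheory CategoryTheory.Limits AlgebraicGeometry Opposite
open scoped BigOperators
open SGA4h

namespace Groth.Agent.S4263

/-- For an affine scheme and constant coefficients, pullback along the Frobenius endomorphism equals the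
geometric Frobenius on cohomology: let k be a finite field with q elements, K an algebraic
extension, R a k-algebra, X₀ = Spec R, φ_R : R → R the ring endomorphism r ↦ r^q (the Frobenius
endomorphism F of X₀ is Spec φ_R, a k-morphism), and Λ a coefficient ring. Then for every n the
endomorphism of H^n(X₀ ⊗_k K, Λ) induced by pullback along F × id (using the identifications of the
inverse images of the constant sheaf Λ with Λ) coincides with the geometric Frobenius F^* defined as
transport of structure by the inverse of the arithmetic Frobenius x ↦ x^q of K. -/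
theorem result (k K : Type u) [Field k] [Fintype k] [Field K] [Algebra k K]
    [Algebra.IsAlgebraic k K] (Λ : Type) [CommRing Λ] [Fact FinFr.PullExact.{u}]
    (R : Type u) [CommRing R] [Algebra k R] (φ : R →+* R) (hφ : ∀ r : R, φ r = r ^ Fintype.card k)
    (hw : Spec.map (CommRingCat.ofHom φ) ≫ Spec.map (CommRingCat.ofHom (algebraMap k R)) =
      Spec.map (CommRingCat.ofHom (algebraMap k R))) (n : ℕ)
    (x : EtCoh.H (FinFr.ext K (Spec.map (CommRingCat.ofHom (algebraMap k R))))
      (EtLam.pullback (FinFr.extπ K (Spec.map (CommRingCat.ofHom (algebraMap k R)))) (FinFr.constLam Λ (Spec (CommRingCat.of R)))).carrier n) :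
    FinFr.frob (K := K) (Spec.map (CommRingCat.ofHom (algebraMap k R))) (FinFr.constLam Λ (Spec (CommRingCat.of R))) n x =
      Sheaf.H.map (EtCore.pullConst (FinFr.extπ K (Spec.map (CommRingCat.ofHom (algebraMap k R)))) Λ).inv n
        (FinFr.endConstAdd (Λ := Λ) (FinFr.extHom K (Spec.map (CommRingCat.ofHom (algebraMap k R))) (Spec.map (CommRingCat.ofHom φ)) hw) n
          (Sheaf.H.map (EtCore.pullConst (FinFr.extπ K (Spec.map (CommRingCat.ofHom (algebraMap k R)))) Λ).hom n x)) := by
  obtain ⟨p, hc⟩ := CharP.exists k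
  haveI := hc
  obtain ⟨f, hp, hq⟩ := FiniteField.card k p
  obtain ⟨f, hf⟩ := f
  obtain ⟨f, rfl⟩ : ∃ g, f = g + 1 := ⟨f - 1, by omega⟩
  haveI := Fact.mk hp
  haveI : CharP (CommRingCat.of k) p := hc
  let a := Spec.map (CommRingCat.ofHom (algebraMap k R))
  let X := FinFr.ext K a
  haveI : FrobSch.IsCharP (Spec (CommRingCat.of k)) p := FrobSch.isCharP_Spec k p
  haveI : FrobSch.IsCharP (Spec (CommRingCat.of R)) p := FrobSch.IsCharP.of_hom a p
  haveI : FrobSch.IsCharP (Spec (CommRingCat.of K)) p := FrobSch.IsCharP.of_hom (FinFr.specι k K) p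
  haveI : FrobSch.IsCharP X p := FrobSch.IsCharP.of_hom (FinFr.extπ K a) p
  have hR : Spec.map (CommRingCat.ofHom φ) = FrobSch.frobIter (Spec (CommRingCat.of R)) p (f + 1) :=
    FrobActLib.specMap_eq_frobIter p (f + 1) φ fun r => by rw [hφ, hq]; rfl
  have hK : Spec.map (CommRingCat.ofHom ((FinFr.arith k K : K ≃ₐ[k] K) : K →+* K)) =
      FrobSch.frobIter (Spec (CommRingCat.of K)) p (f + 1) :=
    FrobActLib.specMap_eq_frobIter p (f + 1) _ fun r => by
      show FinFr.arith k K r = _
      rw [FiniteField.coe_frobeniusAlgEquivOfAlgebraic, hq]; rfl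
  let F' := FinFr.extHom K a (Spec.map (CommRingCat.ofHom φ)) hw
  have hF : FinFr.galAct a (FinFr.arith k K) ≫ F' = FrobSch.frobIter X p (f + 1) := by
    apply pullback.hom_ext
    · rw [CurveFFLib.frobIter_comp, ← hR, Category.assoc, FinFr.extHom_fst, ← Category.assoc,
        FinFr.galAct_fst]
    · rw [CurveFFLib.frobIter_comp, ← hK, Category.assoc]
      show FinFr.galAct a _ ≫ (F' ≫ pullback.snd a (FinFr.specι k K)) = _
      rw [show F' ≫ pullback.snd a (FinFr.specι k K) = pullback.snd a (FinFr.specι k K) from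
        (pullback.lift_snd _ _ _).trans (Category.comp_id _)]
      exact FinFr.galAct_snd a _
  have hinv : FinFr.galAct a (FinFr.arith k K).symm ≫ FinFr.galAct a (FinFr.arith k K) = 𝟙 X := by
    apply pullback.hom_ext
    · rw [Category.assoc, FinFr.galAct_fst, FinFr.galAct_fst, Category.id_comp]
    · rw [Category.assoc]
      erw [FinFr.galAct_snd, ← Category.assoc, FinFr.galAct_snd, Category.assoc, ← Spec.map_comp]
      rw [Category.id_comp]
      refine (congrArg (pullback.snd a (FinFr.specι k K) ≫ ·) ?_).trans (Category.comp_id _)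
      rw [← Spec.map_id]
      refine congrArg Spec.map (CommRingCat.hom_ext (RingHom.ext fun z => ?_))
      exact (FinFr.arith k K).symm_apply_apply z
  let σ := (FinFr.arith k K).symm
  let c := EtCore.pullConst (FinFr.extπ K a) Λ
  have hgal : ∀ y, FinFr.endConstAdd (Λ := Λ) (FinFr.galAct a σ) n y =
      FinFr.endConstAdd (Λ := Λ) F' n y := by
    intro y
    conv_lhs => rw [← FrobActLib.endConstAdd_frobIter p n f y]
    rw [FrobActLib.endConstAdd_comp, ← hF, ← Category.assoc, hinv, Category.id_comp]
  haveI := FinFr.pullExact_out (FinFr.galAct a σ)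
  refine Eq.trans ?_ (congrArg (Sheaf.H.map c.inv n) (hgal (Sheaf.H.map c.hom n x)))
  show EtCore.HpullVia (FinFr.galAct a σ) (FinFr.extπ K a) (FinFr.extπ K a) (FinFr.galAct_fst a σ)
      (EtCoh.const _ Λ) n x = Abelian.Ext.comp ((EtCore.Hpull (FinFr.galAct a σ) _ n
        (x.comp (Abelian.Ext.mk₀ c.hom) (add_zero n))).comp
          (Abelian.Ext.mk₀ (EtCore.pullConst (FinFr.galAct a σ) Λ).hom) (add_zero n))
        (Abelian.Ext.mk₀ c.inv) (add_zero n)
  rw [EtAcycLib.Hpull_postcomp, Abelian.Ext.comp_assoc_of_second_deg_zero, Abelian.Ext.mk₀_comp_mk₀,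
    Abelian.Ext.comp_assoc_of_second_deg_zero, Abelian.Ext.mk₀_comp_mk₀,
    ← Category.assoc ((EtCoh.pull (FinFr.galAct a σ)).map c.hom),
    HmapLib.pullConst_comp (FinFr.galAct a σ) (FinFr.extπ K a) (FinFr.extπ K a) (FinFr.galAct_fst a σ),
    Category.assoc, Iso.hom_inv_id, Category.comp_id, ← EtSliceLib.pullComp_inv_eq]
  rfl

end Groth.Agent.S4263
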