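import Groth.Statements.S4266
import Groth.Agent.ProjNatLib.Proj

set_option autoImplicit false
set_option backward.isDefEq.respectTransparency false
set_option backward.isDefEq.respectTransparency.types false
set_option maxHeartbeats 1000000
universe u
open CategoryTheory CategoryTheory.Limits AlgebraicGeometry
attribute [local instance] HasDerivedCategory.standard
open KSix

namespace Groth.Agent.S4266

/-- Let Y be a scheme, i : X ⟶ P^r_Y a closed immersion and f : X ⟶ Y the composite with the projection.
Let E be a bounded below object of D(O_X) which is pseudo-coherent relative to Y, which here means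
that i_*E (computed here as Ri_*) is pseudo-coherent on P^r_Y. Assuming the derived direct images
exist, Rf_*E is pseudo-coherent on Y. (The published statement allows any closed immersion of X into
a projective bundle P(F) with F quasi-coherent of finite type on Y.) -/
theorem result {X Y : Scheme.{u}} (r : ℕ)
    (i : X ⟶ CohB1.ProjSpaceOver r Y) [IsClosedImmersion i]
    [DCoh.HasRpush i] [DCoh.HasRpush (i ≫ CohB1.ProjSpaceOver.toBase r Y)]
    (E : DCoh.D X) (b : ℤ) [E.IsGE b]
    (hE : ∀ m : ℤ, DCoh.IsPseudoCoherentD m ((DCoh.Rpush i).obj E)) (m : ℤ) :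
    DCoh.IsPseudoCoherentD m ((DCoh.Rpush (i ≫ CohB1.ProjSpaceOver.toBase r Y)).obj E) := by
  refine ProjNatLib.isPC_rpush_proj r i E (fun k => ?_) m
  haveI : Smooth (CohB1.ProjSpaceOver.toBase r Y) := RTrivLib.smooth_toBase r Y
  let F := DerivedCategory.Q.objPreimage E
  let eF : DCoh.toD X F ≅ E := DerivedCategory.Q.objObjPreimageIso E
  obtain ⟨ep⟩ := Groth.Agent.ImmPCLib.pushD_toD i F
  obtain ⟨er⟩ := Groth.Agent.Dual3Lib.nonempty_rpush_pushD i (DCoh.toD X F)
  exact Groth.Agent.RelPCSchLib.rel_of_iso _ eF
    ((Groth.Agent.RelPCSchLib.rel_immersion_comp_iff i (CohB1.ProjSpaceOver.toBase r Y) k F).1.2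
      (Groth.Agent.PerfLib.isPC_of_iso ((DCoh.Rpush i).mapIso eF.symm ≪≫ er ≪≫ ep) (hE k)))

end Groth.Agent.S4266
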