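import Groth.Statements.S4268
import Groth.Agent.ProjNatLib.Proj
import Groth.Agent.ProjNatLib.AmpPush
import Groth.Agent.Dual3Lib.PerfPush
import Groth.Agent.RelFlatLib.OpenAmp

set_option autoImplicit false
set_option backward.isDefEq.respectTransparency false
set_option backward.isDefEq.respectTransparency.types false
set_option maxHeartbeats 1000000
universe u
open CategoryTheory CategoryTheory.Limits AlgebraicGeometry
attribute [local instance] HasDerivedCategory.standard
open KSix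

namespace Groth.Agent.S4268

section Helpers
open CategoryTheory CategoryTheory.Limits AlgebraicGeometry

open Groth.Agent in
/-- A perfect morphism has pseudo-coherent presentations on affine pairs. -/
theorem phBase_of_perfectMor {X Y : Scheme.{u}} (f : X ⟶ Y) (hf : MoreMor.IsPerfectMor f) :
    RelPCSchLib.PHBase f := by
  intro W V hW hV h
  letI := (f.appLE V W h).hom.toAlgebra
  obtain ⟨⟨k, χ, hχ, hpc⟩, -⟩ := hf W V hW hV h
  refine ⟨k, χ.toRingHom, ⟨hχ, χ.comp_algebraMap⟩, ?_⟩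
  letI := χ.toRingHom.toAlgebra
  exact RelPCLib.ph_of_isPCModule (DRingLib.isPseudoCoherent'_iff_forall.1 hpc)

open Groth.Agent in
/-- A perfect object has finite tor amplitude relative to a perfect morphism near each point. -/
theorem exists_amp_nhd {X Y : Scheme.{u}} (f : X ⟶ Y) (hf : MoreMor.IsPerfectMor f) {E : DCoh.D X}
    (hE : DCoh.IsPerfect E) (x : X) :
    ∃ (V : X.Opens) (a b : ℤ), x ∈ V ∧ ∀ z ∈ V, RelFlatLib.AmpD f a b E z := by
  obtain ⟨T, hT, ⟨eT⟩⟩ := KFlatLib.exists_good_rep E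
  have hTper : DCoh.IsPerfect (DCoh.toD X T) := PerfLib.isPerfect_of_iso eT.symm hE
  obtain ⟨U₁, hU₁, hxU₁⟩ := QCohLib.exists_affine_nhd x
  obtain ⟨a, b, -, hab⟩ := PerfBaseLib.exists_amp_of_isCompact hT.1 hTper hU₁.isCompact
  obtain ⟨U₂, d, hxU₂, hd⟩ := Dual3Lib.exists_torDim_nhd f hf x
  refine ⟨U₁ ⊓ U₂, a - d, b, ⟨hxU₁, hxU₂⟩, fun z hz => (RelFlatLib.ampD_rep f eT z).2 ?_⟩
  letI := (f.stalkMap z).hom.toAlgebra
  have h := Groth.Agent.S6947.result (A := Y.presheaf.stalk (f.base z)) (B := X.presheaf.stalk z) d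
    ((RelFlatLib.unitAt_iff f z _ _).1 (hd z hz.2)) (DRing.toD ((KFlatLib.stalkCx X z).obj T)) a b
    (DRingLib.hasTorAmplitudeIn_of_amp (KFlatLib.stalks_isKFlat hT.1 z) (Iso.refl _) (hab z hz.1))
  exact DRingLib.hasTorAmplitudeIn_of_iso
    ((ModuleCat.restrictScalars (f.stalkMap z).hom).mapDerivedCategoryFactors.app
      ((KFlatLib.stalkCx X z).obj T)) h

end Helpers

/-- In the case where f is projective, over an arbitrary base: let Y be a scheme, i : X ⟶ P^r_Y a closed
immersion and f : X ⟶ Y the composite with the projection; suppose f is a perfect morphism and let E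
be a bounded below perfect object of D(O_X). Assuming Rf_* exists, Rf_*E is perfect on Y. (The
source allows a closed immersion into any P(F) with F quasi-coherent of finite type on Y.) -/
theorem result {X Y : Scheme.{u}} (r : ℕ)
    (i : X ⟶ CohB1.ProjSpaceOver r Y) [IsClosedImmersion i]
    (hf : MoreMor.IsPerfectMor (i ≫ CohB1.ProjSpaceOver.toBase r Y)) [DCoh.HasRpush (i ≫ CohB1.ProjSpaceOver.toBase r Y)]
    (E : DCoh.D X) (b : ℤ) [E.IsGE b] (hE : DCoh.IsPerfect E) :
    DCoh.IsPerfect ((DCoh.Rpush (i ≫ CohB1.ProjSpaceOver.toBase r Y)).obj E) := by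
  let f := i ≫ CohB1.ProjSpaceOver.toBase r Y
  haveI : IsProper (CohB1.ProjSpaceOver.toBase r Y) := ChowLib.isProper_toBase r Y
  haveI : IsProper f := inferInstanceAs (IsProper (i ≫ CohB1.ProjSpaceOver.toBase r Y))
  have hPC : ∀ m, DCoh.IsPseudoCoherentD m E := RelFlatLib.isPC_of_isPerfect hE
  have hrel : DerSch.IsPseudoCoherentRelAll f E := fun k => by
    have h1 := Groth.Agent.RelPCSchLib.rel_comp_iff (𝟙 X) f (phBase_of_perfectMor f hf) k E
    rw [Category.id_comp] at h1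
    obtain ⟨c⟩ := Groth.Agent.RelPCSchLib.nonempty_push_id E
    exact h1.2 ((Groth.Agent.RelPCSchLib.rel_immersion_iff (𝟙 X) k E).2
      (Groth.Agent.PerfLib.isPC_of_iso c.symm (hPC k)))
  have hpc := ProjNatLib.isPC_rpush_proj r i E hrel
  have hqc : DCoh.IsQCohD E := ProjNatLib.isQCohD_of_rel f hrel
  haveI := QRlimLib.rpush_isGE f E b
  refine (Groth.Agent.PerfLib.isPerfect_iff _).2 fun y => ?_
  obtain ⟨W, a, c, hy, hW⟩ := ProjNatLib.exists_amp_rpush_loc f (𝟙 Y) E hqc (fun x => by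
    rw [Category.comp_id]
    exact exists_amp_nhd f hf hE x) y
  obtain ⟨W', hyW', hW'⟩ := RelFlatLib.exists_perfect_nhd (a := min a b) (b := c) (hpc _)
    (fun j hj => DerivedCategory.isZero_of_isGE _ b j (by omega))
    (RelFlatLib.ampD_mono (𝟙 Y) (min_le_left a b) le_rfl (hW y hy))
  obtain ⟨V, j, hj, v, hv, hm⟩ := (Groth.Agent.PerfLib.isPerfect_iff _).1 hW' ⟨y, hyW'⟩
  obtain ⟨P, hP, ⟨e⟩⟩ := hm
  obtain ⟨e'⟩ := Groth.Agent.PerfLib.nonempty_resD_comp j W'.ι ((DCoh.Rpush f).obj E)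
  exact ⟨V, j ≫ W'.ι, inferInstance, v, congrArg Subtype.val hv, P, hP, ⟨e' ≪≫ e⟩⟩

end Groth.Agent.S4268
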