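import Groth.Statements.S4280
import Mathlib
import Groth.Agent.IntFunLib.Numerical
import Groth.Agent.S4278
-- import your own Groth.Agent.* helpers here

set_option autoImplicit false
universe u
open CategoryTheory CategoryTheory.Limits AlgebraicGeometry
open Pic13

namespace Groth.Agent.S4280

/-- Let k be an algebraically closed field, X a proper k-scheme carrying an ample invertible module H,
and L an invertible O_X-module, with inverse L', which is τ-equivalent to zero. Then L^{⊗ m} ⊗ H and
L'^{⊗ m} ⊗ H are ample for every m ≥ 0. -/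
theorem result (k : Type u) [Field k] [IsAlgClosed k] (X : Scheme.{u}) [X.Over (Spec (CommRingCat.of k))]
    [IsProper (X ↘ Spec (CommRingCat.of k))]
    (H : X.Modules) (hH : CohB1.IsAmple H) (L L' : X.Modules) (hL : PicF.IsInvertible L)
    (hLL' : Nonempty (CohB1.tensorMod L L' ≅ Coh.structureModule X)) (hτ : Pic13.IsTauEquivZero k X L) (m : ℕ) :
    CohB1.IsAmple (CohB1.tensorMod (CohB1.tensorPow L m) H) ∧ CohB1.IsAmple (CohB1.tensorMod (CohB1.tensorPow L' m) H) := by
  have hn := Groth.Agent.S4278.result k X L hL hτ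
  obtain ⟨e⟩ := hLL'
  have hL' : PicF.IsInvertible L' := IntMultLib.isInvertible_of_inverse hL e
  have hz : ∀ C : X.IdealSheafData, IsIntegral C.subscheme → topologicalKrullDim (C.support : Set X) = 1 →
      IntFunLib.cd k L C = 0 ∧ IntFunLib.cd k L' C = 0 := fun C hi hC => by
    have h0 := IntFunLib.cd_eq_zero_of_numZero hL hn hi hC
    have h1 := IntFunLib.cd_tensor (k := k) hL hL' hC
    rw [IntFunLib.cd_congr e, IntFunLib.cd_unit, h0] at h1
    exact ⟨h0, by omega⟩
  have key : ∀ {A : X.Modules}, PicF.IsInvertible A → (∀ C : X.IdealSheafData, IsIntegral C.subscheme →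
      topologicalKrullDim (C.support : Set X) = 1 → IntFunLib.cd k A C = 0) →
      CohB1.IsAmple (CohB1.tensorMod (CohB1.tensorPow A m) H) := fun {A} hA h => by
    have hAm := AmpleThLib.tensorPow_isInvertible hA m
    refine IntFunLib.isAmple_of_cd (k := k) hH.1 (HilbPolyLib.isInvertible_tensor hAm hH.1) (fun C hi hC => ?_) hH
    rw [IntFunLib.cd_tensor hAm hH.1 hC, IntFunLib.cd_pow hA hC, h C hi hC, mul_zero, zero_add]
  exact ⟨key hL fun C hi hC => (hz C hi hC).1, key hL' fun C hi hC => (hz C hi hC).2⟩

end Groth.Agent.S4280
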