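import Groth.Statements.S4283
import Groth.Agent.BddFamLib.Classes

set_option autoImplicit false
universe u
open CategoryTheory CategoryTheory.Limits AlgebraicGeometry
open Pic13

namespace Groth.Agent.S4283

/-- Torsion part: for X proper over an algebraically closed field k: the group Pic^τ(X)/Pic^0(X) of
invertible modules τ-equivalent to zero modulo those algebraically equivalent to zero is finite.
Concretely: there are finitely many invertible modules M_1, …, M_q such that every invertible L
which is τ-equivalent to zero is isomorphic to M_j ⊗ N for some j and some invertible N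
algebraically equivalent to zero. (The source adds that the order of this group is bounded over the
geometric fibres of a proper scheme over a Noetherian base.) -/
theorem result (k : Type u) [Field k] [IsAlgClosed k] (X : Scheme.{u}) [X.Over (Spec (CommRingCat.of k))]
    [IsProper (X ↘ Spec (CommRingCat.of k))] :
    ∃ (q : ℕ) (M : Fin q → X.Modules), ∀ L : X.Modules, PicF.IsInvertible L → Pic13.IsTauEquivZero k X L →
      ∃ (j : Fin q) (N : X.Modules), PicF.IsInvertible N ∧ Pic13.IsAlgEquivZero k X N ∧ Nonempty (L ≅ CohB1.tensorMod (M j) N) := by
  obtain ⟨s, hs⟩ := BddFamLib.exists_classes k X (BddFamLib.isBounded_NT k X)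
  refine ⟨s.card, fun j => (s.equivFin.symm j).1, fun L hL hτ => ?_⟩
  obtain ⟨M, hM, h⟩ := hs L hL (NumTrivLib.NT.of_isNumEquivZero (k := k) hL (Groth.Agent.S4278.result k X L hL hτ))
  refine ⟨s.equivFin ⟨M, hM⟩, ?_⟩
  simp only [Equiv.symm_apply_apply]
  exact h

end Groth.Agent.S4283
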