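import Groth.Statements.S4287
import Groth.Agent.BddNumLib.Conv

set_option autoImplicit false
universe u
open CategoryTheory CategoryTheory.Limits AlgebraicGeometry
open Pic13

namespace Groth.Agent.S4287

/-- (i) if and only if (iv), over the base S = Spec k with k algebraically closed: let X be a proper
integral k-scheme carrying an ample invertible module H, and P a family of invertible O_X-modules.
Then P is bounded if and only if there is an integer N such that H^{⊗ N} ⊗ L and H^{⊗ N} ⊗ L' are
ample for every member L of P and every inverse L' of L (L ⊗ L' ≅ O_X). (The source: X projective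
over a Noetherian S with integral geometric fibres of dimension r, H relatively ample.) -/
theorem result (k : Type u) [Field k] [IsAlgClosed k] (X : Scheme.{u}) [X.Over (Spec (CommRingCat.of k))]
    [IsProper (X ↘ Spec (CommRingCat.of k))] [IsIntegral X]
    (H : X.Modules) (hH : CohB1.IsAmple H) (P : X.Modules → Prop) (hP : ∀ L, P L → PicF.IsInvertible L) :
    Pic13.IsBounded k X P ↔ ∃ N : ℕ, ∀ L L' : X.Modules, P L → Nonempty (CohB1.tensorMod L L' ≅ Coh.structureModule X) →
      CohB1.IsAmple (CohB1.tensorMod (CohB1.tensorPow H N) L) ∧ CohB1.IsAmple (CohB1.tensorMod (CohB1.tensorPow H N) L') := by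
  haveI := CurvLib.isNoetherian k (X := X)
  have hO := DevissLib.isCoh_structureModule X
  constructor
  · intro hb
    obtain ⟨m, M, hM⟩ := BddNumLib.exists_numClasses (k := k) hb
    have key : ∀ j, ∃ n₀ : ℕ, ∀ L L' : X.Modules, P L → Nonempty (CohB1.tensorMod L L' ≅ Coh.structureModule X) →
        (∃ N', NumTrivLib.NT k N' ∧ CubeConsLib.cl L = CubeConsLib.cl (M j) * CubeConsLib.cl N') → ∀ n, n₀ ≤ n →
        CohB1.IsAmple (CohB1.tensorMod (CohB1.tensorPow H n) L) ∧
          CohB1.IsAmple (CohB1.tensorMod (CohB1.tensorPow H n) L') := by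
      intro j
      by_cases hne : ∃ L₀, P L₀ ∧ ∃ N₀, NumTrivLib.NT k N₀ ∧
          CubeConsLib.cl L₀ = CubeConsLib.cl (M j) * CubeConsLib.cl N₀
      swap
      · exact ⟨0, fun L _ hL _ h => absurd ⟨L, hL, h⟩ hne⟩
      obtain ⟨L₀, hL₀, N₀, hN₀, he₀⟩ := hne
      obtain ⟨L₀', ⟨eL₀⟩⟩ := NumTrivLib.exists_inverse (hP L₀ hL₀)
      obtain ⟨N₀', ⟨en₀⟩⟩ := NumTrivLib.exists_inverse hN₀.inv
      have hL₀' := IntMultLib.isInvertible_of_inverse (hP L₀ hL₀) eL₀
      obtain ⟨a, ha⟩ := BddNumLib.exists_ample_twist (hP L₀ hL₀) hH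
      obtain ⟨b, hb'⟩ := BddNumLib.exists_ample_twist hL₀' hH
      refine ⟨max a b, fun L L' hL ⟨eL⟩ ⟨N', hN', he⟩ n hn => ?_⟩
      obtain ⟨N'', ⟨en⟩⟩ := NumTrivLib.exists_inverse hN'.inv
      have hL' := IntMultLib.isInvertible_of_inverse (hP L hL) eL
      have h1 : CubeConsLib.cl N₀ * CubeConsLib.cl N₀' = 1 := by
        rw [← CubeConsLib.cl_tensor]; exact CubeConsLib.cl_eq_one_iff.2 ⟨en₀⟩
      have h2 : CubeConsLib.cl N' * CubeConsLib.cl N'' = 1 := by
        rw [← CubeConsLib.cl_tensor]; exact CubeConsLib.cl_eq_one_iff.2 ⟨en⟩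
      have h3 : CubeConsLib.cl L * CubeConsLib.cl L' = 1 := by
        rw [← CubeConsLib.cl_tensor]; exact CubeConsLib.cl_eq_one_iff.2 ⟨eL⟩
      have h4 : CubeConsLib.cl L₀ * CubeConsLib.cl L₀' = 1 := by
        rw [← CubeConsLib.cl_tensor]; exact CubeConsLib.cl_eq_one_iff.2 ⟨eL₀⟩
      have hLL : CubeConsLib.cl L = CubeConsLib.cl L₀ * (CubeConsLib.cl N' * CubeConsLib.cl N₀') := by
        calc CubeConsLib.cl L = CubeConsLib.cl (M j) * CubeConsLib.cl N' *
              (CubeConsLib.cl N₀ * CubeConsLib.cl N₀') := by rw [← he, h1, mul_one]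
          _ = _ := by rw [he₀]; ac_rfl
      have hLL' : CubeConsLib.cl L' = CubeConsLib.cl L₀' * (CubeConsLib.cl N₀ * CubeConsLib.cl N'') := by
        calc CubeConsLib.cl L' = CubeConsLib.cl L' * (CubeConsLib.cl L₀ * CubeConsLib.cl L₀') *
              (CubeConsLib.cl N₀ * CubeConsLib.cl N₀') * (CubeConsLib.cl N' * CubeConsLib.cl N'') := by
              rw [h1, h2, h4, mul_one, mul_one, mul_one]
          _ = CubeConsLib.cl L₀' * (CubeConsLib.cl N₀ * CubeConsLib.cl N'') *
              (CubeConsLib.cl L₀ * (CubeConsLib.cl N' * CubeConsLib.cl N₀') * CubeConsLib.cl L') := by ac_rfl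
          _ = _ := by rw [← hLL, h3, mul_one]
      have hP' := AmpleThLib.tensorPow_isInvertible hH.1 n
      refine ⟨BddNumLib.isAmple_of_cl (k := k) (ha n ((le_max_left a b).trans hn))
          (hN'.tensor (hN₀.inverse en₀)) (HilbPolyLib.isInvertible_tensor hP' (hP L hL)) ?_,
        BddNumLib.isAmple_of_cl (k := k) (hb' n ((le_max_right a b).trans hn))
          (hN₀.tensor (hN'.inverse en)) (HilbPolyLib.isInvertible_tensor hP' hL') ?_⟩
      · simp only [CubeConsLib.cl_tensor]; rw [hLL]; ac_rfl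
      · simp only [CubeConsLib.cl_tensor]; rw [hLL']; ac_rfl
    choose n₀ hn₀ using key
    refine ⟨Finset.univ.sum n₀, fun L L' hL eL => ?_⟩
    obtain ⟨j, hj⟩ := hM L (hP L hL) hL
    exact hn₀ j L L' hL eL hj _ (Finset.single_le_sum (fun i _ => Nat.zero_le _) (Finset.mem_univ j))
  · rintro ⟨n, hn⟩
    obtain ⟨r, hr⟩ : ∃ r : ℕ, topologicalKrullDim X = (r : WithBot ℕ∞) := by
      obtain ⟨D, hD⟩ := HilbPolyLib.exists_dim_lt k (X := X)
      have h0 : topologicalKrullDim X ≠ ⊥ := by
        rw [topologicalKrullDim, ne_eq, Order.krullDim_eq_bot_iff, not_isEmpty_iff]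
        exact ⟨⟨Set.univ, IrreducibleSpace.isIrreducible_univ X, isClosed_univ⟩⟩
      revert hD h0
      generalize topologicalKrullDim X = t
      intro hD h0
      induction t with
      | bot => exact absurd rfl h0
      | coe a =>
        induction a with
        | top => exact absurd hD.le (not_le.mpr (WithBot.coe_lt_coe.mpr (ENat.coe_lt_top D)))
        | coe m => exact ⟨m, rfl⟩
    have hPn := AmpleThLib.tensorPow_isInvertible hH.1 n
    have hX : topologicalKrullDim (CohB1.support (Coh.structureModule X)) ≤ (r : ℕ) :=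
      (topologicalKrullDim_subspace_le _ _).trans hr.le
    have hη : topologicalKrullDim (closure ({genericPoint X} : Set X)) = ((r : ℕ) : WithBot ℕ∞) := by
      rw [IntFunLib.dim_closure_generic, hr]
    rcases Nat.lt_or_ge r 2 with hr2 | hr2
    · obtain ⟨d, i, hi, hib⟩ := NumTrivLib.exists_embedding (k := k) hH
      haveI := hi
      have h1 : topologicalKrullDim (CohB1.support (Coh.structureModule X)) ≤ ((([] : List X.Modules).length + 1 : ℕ) : WithBot ℕ∞) :=
        hX.trans (by exact_mod_cast (show r ≤ 1 by omega))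
      have hnn : ∀ A : X.Modules, CohB1.IsAmple A → 0 ≤ IntFunLib.N k [A] (Coh.structureModule X) := fun A hA => by
        rcases (show r = 0 ∨ r = 1 by omega) with h | h
        · rw [IntFunLib.N_low (by simp [hA.1]) hO (hX.trans_lt (by subst h; simp))]
        · rw [IntFunLib.N_structure (by simp [hA.1]) (by rw [hr, h]; rfl)]
          exact (IntFunLib.N_ample_pos (d := 1) hA (by rw [hη, h])).le
      let B := (n : ℤ) * IntFunLib.N k [H] (Coh.structureModule X)
      let Fam : X.Modules → Prop := fun T => PicF.IsInvertible T ∧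
        |IntFunLib.N k [T] (Coh.structureModule X)| ≤ B
      refine NumTrivLib.isBounded_mono (Q := Fam) (BddNumLib.isBounded_of_isFam i hib ⟨fun T hT => hT.1, ?_, ?_, ?_⟩
        (hr.le.trans (by exact_mod_cast (show r ≤ 2 by omega)))) fun L hL => ?_
      · rintro T T' ⟨hT, hb⟩ ⟨e⟩
        have hT' := IntMultLib.isInvertible_of_inverse hT e
        refine ⟨hT', ?_⟩
        rw [HodgeIdxLib.N_inv_head hT hT' e (by simp) hO h1, abs_neg]
        exact hb
      · intro e he ξ hξ
        have hle := IntFunLib.dim_mono (Set.subset_univ (closure ({ξ} : Set X)))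
        rw [hξ, (Homeomorph.Set.univ X).isHomeomorph.topologicalKrullDim_eq, hr] at hle
        have hle' : e + 1 ≤ r := by exact_mod_cast hle
        obtain rfl : e = 0 := by omega
        refine ⟨B, fun T ⟨hT, hb⟩ => ?_⟩
        have hξ' : ξ = genericPoint X := (IntMultLib.eq_of_specializes_of_dim isClosed_univ
          (d := 0 + 1) (((topologicalKrullDim_subspace_le _ _).trans hr.le).trans
            (by exact_mod_cast (show r ≤ 1 by omega)))
          hξ trivial ((genericPoint_spec X).specializes trivial)).symm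
        rw [hξ', List.replicate_zero, ← IntFunLib.N_structure (by simp [hT]) (by rw [hr]; simp; omega)]
        exact (le_abs_self _).trans hb
      · intro ξ hξ
        have hle := IntFunLib.dim_mono (Set.subset_univ (closure ({ξ} : Set X)))
        rw [hξ, (Homeomorph.Set.univ X).isHomeomorph.topologicalKrullDim_eq, hr] at hle
        have : 2 ≤ r := by exact_mod_cast hle
        omega
      · obtain ⟨L', ⟨eL⟩⟩ := NumTrivLib.exists_inverse (hP L hL)
        obtain ⟨a1, a2⟩ := hn L L' hL ⟨eL⟩
        have hL' := IntMultLib.isInvertible_of_inverse (hP L hL) eL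
        have g1 := hnn _ a1
        have g2 := hnn _ a2
        rw [IntFunLib.N_tensor (by simp) hPn (hP L hL) hO h1, IntFunLib.N_pow (by simp) hH.1 hO h1] at g1
        rw [IntFunLib.N_tensor (by simp) hPn hL' hO h1, IntFunLib.N_pow (by simp) hH.1 hO h1,
          HodgeIdxLib.N_inv_head (hP L hL) hL' eL (by simp) hO h1] at g2
        refine ⟨hP L hL, abs_le.mpr ⟨?_, ?_⟩⟩ <;> simp only [B] <;> linarith
    · obtain ⟨s, rfl⟩ : ∃ s, r = s + 2 := ⟨r - 2, by omega⟩
      have hrep : ∀ i : ℕ, ∀ A ∈ List.replicate i H, PicF.IsInvertible A := fun i A hA => by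
        rw [List.eq_of_mem_replicate hA]; exact hH.1
      let Z := Coh.structureModule X
      set h := IntFunLib.N k (H :: List.replicate (s + 1) H) Z with hh
      refine NumTrivLib.isBounded_mono
        (BddNumLib.isBounded_num (k := k) s X hr H hH (3 * n ^ 2 * |h| + n * |h|)) fun L hL => ?_
      obtain ⟨L', ⟨eL⟩⟩ := NumTrivLib.exists_inverse (hP L hL)
      obtain ⟨a1, a2⟩ := hn L L' hL ⟨eL⟩
      have hLi := hP L hL
      have hL' := IntMultLib.isInvertible_of_inverse hLi eL
      have hmix : ∀ (A : X.Modules), CohB1.IsAmple A →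
          0 ≤ IntFunLib.N k (A :: List.replicate (s + 1) H) Z ∧
            0 ≤ IntFunLib.N k (A :: A :: List.replicate s H) Z := fun A hA => by
        have g1 := IntFunLib.hyp_all (k := k) (s + 2) X A H hA.1 (BddNumLib.nef_of_isAmple hA) hH 1 (s + 1)
          (by omega) (genericPoint X) hη
        have g2 := IntFunLib.hyp_all (k := k) (s + 2) X A H hA.1 (BddNumLib.nef_of_isAmple hA) hH 2 s
          (by omega) (genericPoint X) hη
        rw [IntFunLib.N_structure (List.forall_mem_cons.mpr ⟨hA.1, hrep _⟩) (by rw [hr]; simp; ring),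
          IntFunLib.N_structure (List.forall_mem_cons.mpr ⟨hA.1, List.forall_mem_cons.mpr ⟨hA.1, hrep _⟩⟩)
            (by rw [hr]; simp; ring)]
        exact ⟨g1, g2⟩
      have hd : ∀ l : List X.Modules, l.length = s + 1 →
          topologicalKrullDim (CohB1.support Z) ≤ ((l.length + 1 : ℕ) : WithBot ℕ∞) := fun l hl => by
        rw [hl]; exact hX
      have t1 : ∀ (T : X.Modules) (hT : PicF.IsInvertible T) (l : List X.Modules) (_ : ∀ A ∈ l, PicF.IsInvertible A)
          (_ : l.length = s + 1), IntFunLib.N k (CohB1.tensorMod (CohB1.tensorPow H n) T :: l) Z =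
            n * IntFunLib.N k (H :: l) Z + IntFunLib.N k (T :: l) Z := fun T hT l hl hlen => by
        rw [IntFunLib.N_tensor hl hPn hT hO (hd l hlen), IntFunLib.N_pow hl hH.1 hO (hd l hlen)]
      obtain ⟨p1, p2⟩ := hmix _ a1
      obtain ⟨q1, -⟩ := hmix _ a2
      rw [t1 L hLi _ (hrep _) (by simp), ← hh] at p1
      rw [t1 L' hL' _ (hrep _) (by simp), ← hh,
        HodgeIdxLib.N_inv_head hLi hL' eL (hrep _) hO (hd _ (by simp))] at q1
      rw [t1 L hLi _ (List.forall_mem_cons.mpr ⟨a1.1, hrep _⟩) (by simp),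
        IntFunLib.N_perm (List.Perm.swap (CohB1.tensorMod (CohB1.tensorPow H n) L) H _),
        IntFunLib.N_perm (List.Perm.swap (CohB1.tensorMod (CohB1.tensorPow H n) L) L _),
        t1 L hLi _ (List.forall_mem_cons.mpr ⟨hH.1, hrep _⟩) (by simp),
        t1 L hLi _ (List.forall_mem_cons.mpr ⟨hLi, hrep _⟩) (by simp),
        IntFunLib.N_perm (List.Perm.swap L H _)] at p2
      set c := IntFunLib.N k (L :: List.replicate (s + 1) H) Z
      have e1 : IntFunLib.N k (L :: H :: List.replicate s H) Z = c := rfl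
      have e2 : IntFunLib.N k (H :: H :: List.replicate s H) Z = h := rfl
      rw [e1, e2] at p2
      have hn0 : (0 : ℤ) ≤ n := Int.natCast_nonneg n
      have := abs_nonneg h
      have := le_abs_self h
      have e3 : (n : ℤ) * c ≤ n * (n * h) := mul_le_mul_of_nonneg_left (by linarith) hn0
      have e4 : (n : ℤ) * h ≤ n * |h| := mul_le_mul_of_nonneg_left (le_abs_self h) hn0
      have e5 : (n : ℤ) * (n * h) ≤ n * (n * |h|) := mul_le_mul_of_nonneg_left e4 hn0
      refine ⟨hLi, abs_le.mpr ⟨?_, ?_⟩, ?_⟩ <;> nlinarith [mul_nonneg hn0 (abs_nonneg h)]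

end Groth.Agent.S4287
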