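import Groth.Statements.S4290
import Groth.Agent.BertiniIrrLib.Index

set_option autoImplicit false
universe u
open CategoryTheory CategoryTheory.Limits AlgebraicGeometry
open Pic13

namespace Groth.Agent.S4290

/-- Let k be an algebraically closed field, X an irreducible proper k-scheme of dimension r = s + 2 ≥ 2
carrying an ample invertible module H, and L an invertible module with (c₁(L)·c₁(H)^{r-1}) = 0 and
(c₁(L)²·c₁(H)^{r-2}) ≥ 0. Then L is numerically equivalent to zero. Intersection numbers are those
of FGA.intNum, which takes inverses H', L' of H, L as arguments. -/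
theorem result (k : Type u) [Field k] [IsAlgClosed k] (X : Scheme.{u}) [X.Over (Spec (CommRingCat.of k))]
    [IsProper (X ↘ Spec (CommRingCat.of k))] [IrreducibleSpace X] (s : ℕ) (hdim : topologicalKrullDim X = (s + 2 : ℕ))
    (H H' L L' : X.Modules) (hH : CohB1.IsAmple H) (hL : PicF.IsInvertible L)
    (hHH' : Nonempty (CohB1.tensorMod H H' ≅ Coh.structureModule X)) (hLL' : Nonempty (CohB1.tensorMod L L' ≅ Coh.structureModule X))
    (horth : FGA.intNum k X (s + 2) (Matrix.vecCons L' (fun _ : Fin (s + 1) => H')) (Coh.structureModule X) = 0)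
    (hsq : 0 ≤ FGA.intNum k X (s + 2) (Matrix.vecCons L' (Matrix.vecCons L' (fun _ : Fin s => H'))) (Coh.structureModule X)) :
    Pic13.IsNumEquivZero k X L := by
  haveI := CurvLib.isNoetherian k (X := X)
  obtain ⟨eH⟩ := hHH'
  obtain ⟨eL⟩ := hLL'
  have hH' : PicF.IsInvertible H' := IntMultLib.isInvertible_of_inverse hH.1 eH
  have hL' : PicF.IsInvertible L' := IntMultLib.isInvertible_of_inverse hL eL
  have hO := DevissLib.isCoh_structureModule X
  have hdO : topologicalKrullDim (CohB1.support (Coh.structureModule X)) ≤ ((s + 2 : ℕ) : WithBot ℕ∞) :=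
    (topologicalKrullDim_subspace_le _ _).trans hdim.le
  have hη : topologicalKrullDim (closure ({genericPoint X} : Set X)) = ((s + 2 : ℕ) : WithBot ℕ∞) := by
    rw [(genericPoint_spec X).def]
    exact ((Homeomorph.Set.univ _).isHomeomorph.topologicalKrullDim_eq).trans hdim
  obtain ⟨μ, hμ, hmult⟩ := HodgeIdxLib.exists_mult (k := k) hO (ξ := genericPoint X)
    (by rw [(genericPoint_spec X).def]; exact Set.subset_univ _)
    (by rw [IntMultLib.support_structureModule']; trivial) hη
  -- the first number
  have hinv : ∀ (j : ℕ), ∀ B ∈ List.replicate j H, PicF.IsInvertible B := fun j B hB => by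
    rw [List.eq_of_mem_replicate hB]; exact hH.1
  have n1 : IntFunLib.N k (L' :: List.replicate (s + 1) H') (Coh.structureModule X) =
      (-1) ^ (s + 2) * (μ * IntFunLib.N k (L :: List.replicate (s + 1) H) (IntFunLib.Fpt (genericPoint X))) := by
    rw [← hmult (L :: List.replicate (s + 1) H) (List.forall_mem_cons.mpr ⟨hL, hinv _⟩) (by simp)]
    rw [IntFunLib.N_perm (show (L' :: List.replicate (s + 1) H').Perm (List.replicate (s + 1) H' ++ [L']) from
        (List.perm_append_singleton _ _).symm),
      BertiniIrrLib.N_inv_replicate hH.1 hH' eH hO (s + 1) [L'] (by simpa using hL') (hdO.trans (le_of_eq (congrArg (fun n : ℕ => (n : WithBot ℕ∞)) (by simp <;> omega)))),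
      IntFunLib.N_perm (List.perm_append_singleton L' (List.replicate (s + 1) H)),
      HodgeIdxLib.N_inv_head hL hL' eL (hinv _) hO (hdO.trans (le_of_eq (congrArg (fun n : ℕ => (n : WithBot ℕ∞)) (by simp <;> omega))))]
    ring
  have n2 : IntFunLib.N k (L' :: L' :: List.replicate s H') (Coh.structureModule X) =
      (-1) ^ (s + 2) * (μ * IntFunLib.N k (L :: L :: List.replicate s H) (IntFunLib.Fpt (genericPoint X))) := by
    rw [← hmult (L :: L :: List.replicate s H) (List.forall_mem_cons.mpr ⟨hL, List.forall_mem_cons.mpr ⟨hL, hinv _⟩⟩)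
      (by simp)]
    rw [IntFunLib.N_perm (show (L' :: L' :: List.replicate s H').Perm (List.replicate s H' ++ [L', L']) from
        (List.perm_append_comm (l₁ := [L', L']) (l₂ := List.replicate s H'))),
      BertiniIrrLib.N_inv_replicate hH.1 hH' eH hO s [L', L'] (by simpa using hL') (hdO.trans (le_of_eq (congrArg (fun n : ℕ => (n : WithBot ℕ∞)) (by simp <;> omega)))),
      IntFunLib.N_perm (show (List.replicate s H ++ [L', L']).Perm (L' :: L' :: List.replicate s H) from
        List.perm_append_comm),
      HodgeIdxLib.N_inv_head hL hL' eL (List.forall_mem_cons.mpr ⟨hL', hinv _⟩) hO (hdO.trans (le_of_eq (congrArg (fun n : ℕ => (n : WithBot ℕ∞)) (by simp <;> omega)))),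
      IntFunLib.N_perm (List.Perm.swap L' L (List.replicate s H)),
      HodgeIdxLib.N_inv_head hL hL' eL (List.forall_mem_cons.mpr ⟨hL, hinv _⟩) hO (hdO.trans (le_of_eq (congrArg (fun n : ℕ => (n : WithBot ℕ∞)) (by simp <;> omega))))]
    ring
  have f1 := IntFunLib.N_ofFn (k := k) hdim.le (Matrix.vecCons L' (fun _ : Fin (s + 1) => H')) (Coh.structureModule X)
  have f2 := IntFunLib.N_ofFn (k := k) hdim.le (Matrix.vecCons L' (Matrix.vecCons L' (fun _ : Fin s => H')))
    (Coh.structureModule X)
  have l1 : List.ofFn (Matrix.vecCons L' (fun _ : Fin (s + 1) => H')) = L' :: List.replicate (s + 1) H' := by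
    rw [List.ofFn_succ, Matrix.cons_val_zero]; simp only [Matrix.cons_val_succ, List.ofFn_const]
  have l2 : List.ofFn (Matrix.vecCons L' (Matrix.vecCons L' (fun _ : Fin s => H'))) =
      L' :: L' :: List.replicate s H' := by
    rw [List.ofFn_succ, List.ofFn_succ]; simp [Matrix.cons_val_succ, List.ofFn_const]
  rw [l1, n1, horth, mul_zero] at f1
  rw [l2, n2] at f2
  have g2 := mul_left_cancel₀ (pow_ne_zero (s + 2) (by norm_num : (-1 : ℤ) ≠ 0)) f2
  refine (BertiniIrrLib.NT_of_index (k := k) hdim hH hL ?_ ?_).isNumEquivZero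
  · rcases mul_eq_zero.mp f1 with h | h
    · exact absurd h (pow_ne_zero _ (by norm_num))
    · exact (mul_eq_zero.mp h).resolve_left hμ.ne'
  · exact nonneg_of_mul_nonneg_right (g2 ▸ hsq) hμ

end Groth.Agent.S4290
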