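import Groth.Statements.S4293
import Groth.Agent.BddNumLib.Restrict

set_option autoImplicit false
universe u
open CategoryTheory CategoryTheory.Limits AlgebraicGeometry
open Pic13

namespace Groth.Agent.S4293

/-- First assertion: over S = Spec k with k algebraically closed: let Y be a proper k-scheme with an
ample invertible module H, φ a global section of H, and i : X ⟶ Y the inclusion of the zero scheme
of φ. Assume that for every irreducible component Z of Y, every irreducible component of Z ∩ X has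
dimension ≥ 2. Then for every bounded family P of O_X-modules, the family of invertible O_Y-modules
whose restriction to X is isomorphic to a member of P is bounded. -/
theorem result (k : Type u) [Field k] [IsAlgClosed k] (Y : Scheme.{u}) [Y.Over (Spec (CommRingCat.of k))]
    [IsProper (Y ↘ Spec (CommRingCat.of k))] (H : Y.Modules) (hH : CohB1.IsAmple H) (φ : Coh.structureModule Y ⟶ H)
    (hdim : ∀ Z ∈ irreducibleComponents (Y : Type u),
      ∀ W ∈ irreducibleComponents ↥(Z ∩ Set.range (PicF2.zeroScheme H φ).subschemeι.base), 2 ≤ topologicalKrullDim ↥W)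
    (P : ((PicF2.zeroScheme H φ).subscheme).Modules → Prop)
    (hP : @Pic13.IsBounded k _ (PicF2.zeroScheme H φ).subscheme ⟨(PicF2.zeroScheme H φ).subschemeι ≫ (Y ↘ Spec (CommRingCat.of k))⟩ P) :
    Pic13.IsBounded k Y (fun M : Y.Modules => PicF.IsInvertible M ∧
      ∃ L, P L ∧ Nonempty ((Scheme.Modules.pullback (PicF2.zeroScheme H φ).subschemeι).obj M ≅ L)) := by
  letI : (PicF2.zeroScheme H φ).subscheme.Over (Spec (CommRingCat.of k)) :=
    ⟨(PicF2.zeroScheme H φ).subschemeι ≫ (Y ↘ Spec (CommRingCat.of k))⟩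
  haveI : IsProper ((PicF2.zeroScheme H φ).subscheme ↘ Spec (CommRingCat.of k)) :=
    inferInstanceAs (IsProper ((PicF2.zeroScheme H φ).subschemeι ≫ (Y ↘ Spec (CommRingCat.of k))))
  obtain ⟨r, M, hM⟩ := BddNumLib.exists_numClasses (k := k) hP
  let ι := (PicF2.zeroScheme H φ).subschemeι
  let Q : Fin r → Y.Modules → Prop := fun j T => PicF.IsInvertible T ∧
    ∃ N, NumTrivLib.NT k N ∧ CubeConsLib.cl (KFlatLib.pb ι T) = CubeConsLib.cl (M j) * CubeConsLib.cl N
  refine NumTrivLib.isBounded_mono (BddFamLib.isBounded_fintype k Y (ι := ULift.{u} (Fin r))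
    (fun j => Q j.down) fun j => ?_) fun T hT => ?_
  swap
  · obtain ⟨hT, L, hL, ⟨e⟩⟩ := hT
    obtain ⟨j, N, hN, he⟩ := hM L (HilbPolyLib.isInvertible_of_iso e (AmpleDevLib.isInvertible_pb ι hT)) hL
    exact ⟨⟨j⟩, hT, N, hN, by rw [← he, CubeConsLib.cl_eq_iff]; exact ⟨e⟩⟩
  by_cases hne : ∃ T, Q j.down T
  swap
  · exact NumTrivLib.isBounded_mono (BddFamLib.isBounded_empty k Y) fun T h => hne ⟨T, h⟩
  obtain ⟨T₀, hT₀, N₀, hN₀, he₀⟩ := hne
  obtain ⟨T₀', ⟨e₀⟩⟩ := NumTrivLib.exists_inverse hT₀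
  obtain ⟨N₀', ⟨en⟩⟩ := NumTrivLib.exists_inverse hN₀.inv
  have hT₀' := IntMultLib.isInvertible_of_inverse hT₀ e₀
  refine NumTrivLib.isBounded_mono (BddFamLib.isBounded_tensor k (BddFamLib.isBounded_NT k Y)
    (CurvLib.isCoh_of_isInvertible hT₀)) fun T hT => ?_
  obtain ⟨hTi, N', hN', he⟩ := hT
  let U := CohB1.tensorMod T T₀'
  have hU : PicF.IsInvertible U := HilbPolyLib.isInvertible_tensor hTi hT₀'
  refine ⟨U, ?_, ?_⟩
  swap
  · rw [← CubeConsLib.cl_eq_iff, CubeConsLib.cl_tensor, CubeConsLib.cl_tensor, mul_assoc,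
      mul_comm (CubeConsLib.cl T₀') (CubeConsLib.cl T₀), ← CubeConsLib.cl_tensor T₀,
      CubeConsLib.cl_eq_one_iff.2 ⟨e₀⟩, mul_one]
  refine BddNumLib.NT_of_restrict (k := k) hH φ hdim rfl hU ?_
  have h1 : CubeConsLib.cl (KFlatLib.pb ι T₀) * CubeConsLib.cl (KFlatLib.pb ι T₀') = 1 := by
    rw [← BddNumLib.cl_pb_tensor, CubeConsLib.cl_eq_one_iff]
    exact ⟨(Scheme.Modules.pullback ι).mapIso e₀ ≪≫ KFlatLib.pullUnitIso ι⟩
  have h2 : CubeConsLib.cl N₀ * CubeConsLib.cl N₀' = 1 := by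
    rw [← CubeConsLib.cl_tensor, CubeConsLib.cl_eq_one_iff]; exact ⟨en⟩
  have h3 : CubeConsLib.cl (M j.down) * CubeConsLib.cl (KFlatLib.pb ι T₀') = CubeConsLib.cl N₀' := by
    calc CubeConsLib.cl (M j.down) * CubeConsLib.cl (KFlatLib.pb ι T₀')
        = CubeConsLib.cl (M j.down) * CubeConsLib.cl (KFlatLib.pb ι T₀') *
            (CubeConsLib.cl N₀ * CubeConsLib.cl N₀') := by rw [h2, mul_one]
      _ = CubeConsLib.cl (M j.down) * CubeConsLib.cl N₀ * CubeConsLib.cl (KFlatLib.pb ι T₀') *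
            CubeConsLib.cl N₀' := by ac_rfl
      _ = CubeConsLib.cl N₀' := by rw [← he₀, h1, one_mul]
  have h4 : CubeConsLib.cl (KFlatLib.pb ι U) = CubeConsLib.cl (CohB1.tensorMod N' N₀') := by
    rw [BddNumLib.cl_pb_tensor, he, CubeConsLib.cl_tensor, ← h3]
    ac_rfl
  obtain ⟨e⟩ := CubeConsLib.cl_eq_iff.1 h4
  exact (hN'.tensor (hN₀.inverse en)).iso e.symm

end Groth.Agent.S4293
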