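import Groth.Statements.S4305
import Groth.Agent.AlgEquivLib.Euler
import Groth.Agent.CurvLib.Line

set_option autoImplicit false
universe u
open CategoryTheory CategoryTheory.Limits AlgebraicGeometry
open Pic13

namespace Groth.Agent.S4305

/-- Let k be an algebraically closed field, X an irreducible proper k-scheme of dimension ≤ d carrying
an ample invertible module H with inverse H', and L an invertible module with inverse L'. Condition
(v): χ(L^{⊗ m} ⊗ H^{⊗ n}) = χ(H^{⊗ n}) for all integers m, n — written with natural exponents on L,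
L', H, H' to cover all signs, Euler characteristics in degrees ≤ d; condition (i): L is τ-equivalent
to zero. -/
theorem result (k : Type u) [Field k] [IsAlgClosed k] (X : Scheme.{u})
    [X.Over (Spec (CommRingCat.of k))] [IsProper (X ↘ Spec (CommRingCat.of k))] [IrreducibleSpace X]
    (d : ℕ) (hd : topologicalKrullDim X ≤ d) (H H' L L' : X.Modules) (hH : CohB1.IsAmple H) (hL : PicF.IsInvertible L)
    (hHH' : Nonempty (CohB1.tensorMod H H' ≅ Coh.structureModule X)) (hLL' : Nonempty (CohB1.tensorMod L L' ≅ Coh.structureModule X))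
    (hτ : Pic13.IsTauEquivZero k X L) :
    ∀ m n : ℕ,
      FGA.eulerCharLE k X (CohB1.tensorMod (CohB1.tensorPow L m) (CohB1.tensorPow H n)) d = FGA.eulerCharLE k X (CohB1.tensorPow H n) d ∧
      FGA.eulerCharLE k X (CohB1.tensorMod (CohB1.tensorPow L m) (CohB1.tensorPow H' n)) d = FGA.eulerCharLE k X (CohB1.tensorPow H' n) d ∧
      FGA.eulerCharLE k X (CohB1.tensorMod (CohB1.tensorPow L' m) (CohB1.tensorPow H n)) d = FGA.eulerCharLE k X (CohB1.tensorPow H n) d ∧
      FGA.eulerCharLE k X (CohB1.tensorMod (CohB1.tensorPow L' m) (CohB1.tensorPow H' n)) d = FGA.eulerCharLE k X (CohB1.tensorPow H' n) d := by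
  intro m n
  obtain ⟨eH⟩ := hHH'
  obtain ⟨eL⟩ := hLL'
  have hH' : PicF.IsInvertible H' := IntMultLib.isInvertible_of_inverse hH.1 eH
  have hL' : PicF.IsInvertible L' := IntMultLib.isInvertible_of_inverse hL eL
  haveI : IsLocallyNoetherian X := LocallyOfFiniteType.isLocallyNoetherian (X ↘ Spec (CommRingCat.of k))
  have hc : ∀ {M : X.Modules}, PicF.IsInvertible M → Coh.IsCoh (CohB1.tensorPow M n) := fun h =>
    CurvLib.isCoh_of_isInvertible (AmpleThLib.tensorPow_isInvertible h n)
  refine ⟨?_, ?_, ?_, ?_⟩ <;>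
    rw [HilbPolyLib.eulerCharLE_eq hd, HilbPolyLib.eulerCharLE_eq hd, CurvLib.euler_congr (HilbPolyLib.swapIso _ _)]
  · exact AlgEquivLib.euler_tensor_pow_of_isTauEquivZero k X hL hτ (hc hH.1) m
  · exact AlgEquivLib.euler_tensor_pow_of_isTauEquivZero k X hL hτ (hc hH') m
  · exact AlgEquivLib.euler_tensor_pow_inv_of_isTauEquivZero k X hL hL' eL hτ (hc hH.1) m
  · exact AlgEquivLib.euler_tensor_pow_inv_of_isTauEquivZero k X hL hL' eL hτ (hc hH') m

end Groth.Agent.S4305
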