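import Groth.Statements.S4301
import Groth.Agent.TauLocusLib.Closed

set_option autoImplicit false
universe u
open CategoryTheory CategoryTheory.Limits AlgebraicGeometry
open Pic13

namespace Groth.Agent.S4301

/-- Let S be a Noetherian scheme, i : X ⟶ P^n_S a closed immersion with f : X ⟶ S the composite with the
projection, f flat with integral geometric fibres, and L an invertible O_X-module. Then the set of
points s of S such that L is τ-equivalent to zero on the geometric fibre at s is closed (it is also
open, but only closedness is asserted here). (The published statement is that Pic^τ_{X/S} ⟶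
Pic_{X/S} is representable by an open and closed immersion; this is the form reached in its proof.) -/
theorem result {X S : Scheme.{u}} [IsNoetherian S] (n : ℕ)
    (i : X ⟶ CohB1.ProjSpaceOver n S) [IsClosedImmersion i] [Flat (i ≫ CohB1.ProjSpaceOver.toBase n S)]
    (hint : ∀ (Ω : Type u) [Field Ω] [IsAlgClosed Ω] (σ : Spec (CommRingCat.of Ω) ⟶ S), IsIntegral (pullback (i ≫ CohB1.ProjSpaceOver.toBase n S) σ))
    (L : X.Modules) (hL : PicF.IsInvertible L) :
    IsClosed {s : S | Pic13.IsTauTrivialAt (i ≫ CohB1.ProjSpaceOver.toBase n S) L s} := by
  let f := i ≫ CohB1.ProjSpaceOver.toBase n S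
  haveI : IsProper f := inferInstance
  haveI : LocallyOfFinitePresentation f := LocallyOfFinitePresentation.iff_locallyOfFiniteType.2 inferInstance
  refine TauLocusLib.isClosed_tauTrivialLocus f (fun Ω _ _ σ => ?_)
    (A := (Scheme.Modules.pullback i).obj (Twist.twistOver n S 1))
    (AmpleDevLib.isInvertible_pb i (AmpleDevLib.isInvertible_pb _ (PicPnLib.twist_inv n (ULift.{u} ℤ) 1)))
    (fun W hW => PnCohLib.isAmple_twist_restrict (i := i) hW) hL
  haveI := hint Ω σ
  infer_instance

end Groth.Agent.S4301
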