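import Groth.Statements.S4303
import Groth.Agent.BddNumLib.Conv

set_option autoImplicit false
universe u
open CategoryTheory CategoryTheory.Limits AlgebraicGeometry
open Pic13

namespace Groth.Agent.S4303

/-- (i) implies (iii), over S = Spec k with k algebraically closed: let X be a proper integral k-scheme
of dimension r = s + 2 ≥ 2 carrying an ample invertible module H with inverse H', and P a family of
invertible O_X-modules. Condition (iii): as L runs through P (with inverse L'), the degree
(c₁(L)·c₁(H)^{r-1}) stays bounded and (c₁(L)²·c₁(H)^{r-2}) stays bounded below; condition (i): P is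
bounded. Intersection numbers are those of FGA.intNum, taking the inverse modules as arguments. -/
theorem result (k : Type u) [Field k] [IsAlgClosed k] (X : Scheme.{u})
    [X.Over (Spec (CommRingCat.of k))] [IsProper (X ↘ Spec (CommRingCat.of k))] [IsIntegral X] (s : ℕ)
    (hdim : topologicalKrullDim X = (s + 2 : ℕ)) (H H' : X.Modules) (hH : CohB1.IsAmple H)
    (hHH' : Nonempty (CohB1.tensorMod H H' ≅ Coh.structureModule X))
    (P : X.Modules → Prop) (hP : ∀ L, P L → PicF.IsInvertible L)
    (hb : Pic13.IsBounded k X P) :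
    ∃ B : ℤ, ∀ L L' : X.Modules, P L → Nonempty (CohB1.tensorMod L L' ≅ Coh.structureModule X) →
      |FGA.intNum k X (s + 2) (Matrix.vecCons L' (fun _ : Fin (s + 1) => H')) (Coh.structureModule X)| ≤ B ∧
      -B ≤ FGA.intNum k X (s + 2) (Matrix.vecCons L' (Matrix.vecCons L' (fun _ : Fin s => H'))) (Coh.structureModule X) := by
  haveI := CurvLib.isNoetherian k (X := X)
  obtain ⟨m, M, hM⟩ := BddNumLib.exists_numClasses (k := k) hb
  let Z := Coh.structureModule X
  let v : Fin m → ℤ := fun j => |IntFunLib.N k (M j :: List.replicate (s + 1) H) Z| +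
    |IntFunLib.N k (M j :: M j :: List.replicate s H) Z|
  refine ⟨∑ j, v j, fun L L' hL ⟨eL⟩ => ?_⟩
  obtain ⟨j, N', hN', he⟩ := hM L (hP L hL) hL
  obtain ⟨N'', ⟨en⟩⟩ := NumTrivLib.exists_inverse hN'.inv
  obtain ⟨e1, e2⟩ := BddNumLib.intNum_conv (k := k) hdim.le hH.1 (hP L hL) hHH'.some eL
  have hMj : PicF.IsInvertible (M j) := by
    have h : CubeConsLib.cl (CohB1.tensorMod L N'') = CubeConsLib.cl (M j) := by
      rw [CubeConsLib.cl_tensor, he, mul_assoc, ← CubeConsLib.cl_tensor N', CubeConsLib.cl_eq_one_iff.2 ⟨en⟩, mul_one]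
    obtain ⟨e⟩ := CubeConsLib.cl_eq_iff.1 h
    exact HilbPolyLib.isInvertible_of_iso e (HilbPolyLib.isInvertible_tensor (hP L hL) (hN'.inverse en).inv)
  obtain ⟨eLM⟩ := CubeConsLib.cl_eq_iff.1 (he.trans (CubeConsLib.cl_tensor (M j) N').symm)
  have hd : topologicalKrullDim (CohB1.support Z) ≤ ((s + 2 : ℕ) : WithBot ℕ∞) :=
    (topologicalKrullDim_subspace_le _ _).trans hdim.le
  have key : ∀ l : List X.Modules, (∀ A ∈ l, PicF.IsInvertible A) → l.length = s + 1 →
      IntFunLib.N k (L :: l) Z = IntFunLib.N k (M j :: l) Z := fun l hl hlen => by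
    have hd' : topologicalKrullDim (CohB1.support Z) ≤ ((l.length + 1 : ℕ) : WithBot ℕ∞) := by rw [hlen]; exact hd
    rw [HodgeIdxLib.N_congr_head eLM, IntFunLib.N_tensor hl hMj hN'.inv (DevissLib.isCoh_structureModule X) hd',
      NumTrivLib.N_cons_zero hN' hl (DevissLib.isCoh_structureModule X) hd', add_zero]
  have hrep : ∀ i : ℕ, ∀ A ∈ List.replicate i H, PicF.IsInvertible A := fun i A hA => by
    rw [List.eq_of_mem_replicate hA]; exact hH.1
  have k1 := key (List.replicate (s + 1) H) (hrep _) (by simp)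
  have k2 := key (L :: List.replicate s H) (List.forall_mem_cons.mpr ⟨hP L hL, hrep _⟩) (by simp)
  rw [IntFunLib.N_perm (List.Perm.swap L (M j) (List.replicate s H)),
    key (M j :: List.replicate s H) (List.forall_mem_cons.mpr ⟨hMj, hrep _⟩) (by simp)] at k2
  rw [e1, e2, k1, k2]
  have hle : v j ≤ ∑ i, v i :=
    Finset.single_le_sum (f := v) (fun i _ => add_nonneg (abs_nonneg _) (abs_nonneg _)) (Finset.mem_univ j)
  have := abs_nonneg (IntFunLib.N k (M j :: List.replicate (s + 1) H) Z)
  have := abs_nonneg (IntFunLib.N k (M j :: M j :: List.replicate s H) Z)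
  have := neg_abs_le (IntFunLib.N k (M j :: M j :: List.replicate s H) Z)
  simp only [v] at hle
  simp only [v, Z] at *
  constructor <;> linarith

end Groth.Agent.S4303
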