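import Groth.Statements.S4304
import Groth.Agent.BddNumLib.Conv

set_option autoImplicit false
universe u
open CategoryTheory CategoryTheory.Limits AlgebraicGeometry
open Pic13

namespace Groth.Agent.S4304

/-- (iii) implies (i), over S = Spec k with k algebraically closed: let X be a proper integral k-scheme
of dimension r = s + 2 ≥ 2 carrying an ample invertible module H with inverse H', and P a family of
invertible O_X-modules. Condition (iii): as L runs through P (with inverse L'), the degree
(c₁(L)·c₁(H)^{r-1}) stays bounded and (c₁(L)²·c₁(H)^{r-2}) stays bounded below; condition (i): P is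
bounded. Intersection numbers are those of FGA.intNum, taking the inverse modules as arguments. -/
theorem result (k : Type u) [Field k] [IsAlgClosed k] (X : Scheme.{u})
    [X.Over (Spec (CommRingCat.of k))] [IsProper (X ↘ Spec (CommRingCat.of k))] [IsIntegral X] (s : ℕ)
    (hdim : topologicalKrullDim X = (s + 2 : ℕ)) (H H' : X.Modules) (hH : CohB1.IsAmple H)
    (hHH' : Nonempty (CohB1.tensorMod H H' ≅ Coh.structureModule X))
    (P : X.Modules → Prop) (hP : ∀ L, P L → PicF.IsInvertible L)
    (hiii : ∃ B : ℤ, ∀ L L' : X.Modules, P L → Nonempty (CohB1.tensorMod L L' ≅ Coh.structureModule X) →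
      |FGA.intNum k X (s + 2) (Matrix.vecCons L' (fun _ : Fin (s + 1) => H')) (Coh.structureModule X)| ≤ B ∧
      -B ≤ FGA.intNum k X (s + 2) (Matrix.vecCons L' (Matrix.vecCons L' (fun _ : Fin s => H'))) (Coh.structureModule X)) :
    Pic13.IsBounded k X P := by
  obtain ⟨B, hB⟩ := hiii
  refine NumTrivLib.isBounded_mono (BddNumLib.isBounded_num (k := k) s X hdim H hH B) fun L hL => ?_
  obtain ⟨L', ⟨eL⟩⟩ := NumTrivLib.exists_inverse (hP L hL)
  obtain ⟨e1, e2⟩ := BddNumLib.intNum_conv (k := k) hdim.le hH.1 (hP L hL) hHH'.some eL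
  obtain ⟨h1, h2⟩ := hB L L' hL ⟨eL⟩
  exact ⟨hP L hL, by rwa [← e1], by rwa [← e2]⟩

end Groth.Agent.S4304
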