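import Groth.Statements.S4306
import Groth.Agent.BertiniIrrLib.Index
import Groth.Agent.BddFamLib.Main

set_option autoImplicit false
universe u
open CategoryTheory CategoryTheory.Limits AlgebraicGeometry
open Pic13

namespace Groth.Agent.S4306

/-- Let k be an algebraically closed field, X an irreducible proper k-scheme of dimension ≤ d carrying
an ample invertible module H with inverse H', and L an invertible module with inverse L'. Condition
(v): χ(L^{⊗ m} ⊗ H^{⊗ n}) = χ(H^{⊗ n}) for all integers m, n — written with natural exponents on L,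
L', H, H' to cover all signs, Euler characteristics in degrees ≤ d; condition (i): L is τ-equivalent
to zero. -/
theorem result (k : Type u) [Field k] [IsAlgClosed k] (X : Scheme.{u})
    [X.Over (Spec (CommRingCat.of k))] [IsProper (X ↘ Spec (CommRingCat.of k))] [IrreducibleSpace X]
    (d : ℕ) (hd : topologicalKrullDim X ≤ d) (H H' L L' : X.Modules) (hH : CohB1.IsAmple H) (hL : PicF.IsInvertible L)
    (hHH' : Nonempty (CohB1.tensorMod H H' ≅ Coh.structureModule X)) (hLL' : Nonempty (CohB1.tensorMod L L' ≅ Coh.structureModule X))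
    (hv : ∀ m n : ℕ,
      FGA.eulerCharLE k X (CohB1.tensorMod (CohB1.tensorPow L m) (CohB1.tensorPow H n)) d = FGA.eulerCharLE k X (CohB1.tensorPow H n) d ∧
      FGA.eulerCharLE k X (CohB1.tensorMod (CohB1.tensorPow L m) (CohB1.tensorPow H' n)) d = FGA.eulerCharLE k X (CohB1.tensorPow H' n) d ∧
      FGA.eulerCharLE k X (CohB1.tensorMod (CohB1.tensorPow L' m) (CohB1.tensorPow H n)) d = FGA.eulerCharLE k X (CohB1.tensorPow H n) d ∧
      FGA.eulerCharLE k X (CohB1.tensorMod (CohB1.tensorPow L' m) (CohB1.tensorPow H' n)) d = FGA.eulerCharLE k X (CohB1.tensorPow H' n) d) :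
    Pic13.IsTauEquivZero k X L := by
  haveI := CurvLib.isNoetherian k (X := X)
  refine BddFamLib.tau_of_NT (k := k) (X := X) (L := L) ?_
  have hO := DevissLib.isCoh_structureModule X
  let T : ℕ → ℕ → X.Modules := fun i n => CohB1.tensorMod (CohB1.tensorPow L i) (CohB1.tensorPow H n)
  have hT : ∀ i n, PicF.IsInvertible (T i n) := fun i n => HilbPolyLib.isInvertible_tensor
    (AmpleThLib.tensorPow_isInvertible hL i) (AmpleThLib.tensorPow_isInvertible hH.1 n)
  have key : ∀ b i n, IntFunLib.N k (List.replicate b H) (T i n) = IntFunLib.N k (List.replicate b H) (T 0 n) := by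
    intro b
    induction b with
    | zero =>
      intro i n
      exact (HilbPolyLib.eulerCharLE_eq hd _).symm.trans (((hv i n).1.trans (hv 0 n).1.symm).trans
        (HilbPolyLib.eulerCharLE_eq hd _))
    | succ b ih =>
      intro i n
      have e : ∀ j, CohB1.tensorMod H (T j n) ≅ T j (n + 1) := fun j =>
        HilbPolyLib.leftComm _ _ _ ≪≫ HilbPolyLib.congrRight _ (HilbPolyLib.swapIso _ _)
      rw [List.replicate_succ, IntFunLib.N, IntFunLib.N, IntFunLib.N_congr _ (e i), IntFunLib.N_congr _ (e 0),
        ih i (n + 1), ih i n]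
  have eL : ∀ i, CohB1.tensorMod L (T i 0) ≅ T (i + 1) 0 := fun i =>
    (HilbPolyLib.assocIso _ _ _).symm ≪≫ HilbPolyLib.congrLeft (HilbPolyLib.swapIso _ _) _
  have e0 : T 0 0 ≅ Coh.structureModule X := HilbPolyLib.unitLeft _
  have key1 : ∀ b, IntFunLib.N k (L :: List.replicate b H) (Coh.structureModule X) = 0 := fun b => by
    rw [← IntFunLib.N_congr (L :: List.replicate b H) e0, IntFunLib.N, IntFunLib.N_congr _ (eL 0), key b (0 + 1) 0,
      sub_self]
  have key2 : ∀ b, IntFunLib.N k (L :: L :: List.replicate b H) (Coh.structureModule X) = 0 := fun b => by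
    rw [← IntFunLib.N_congr (L :: L :: List.replicate b H) e0, IntFunLib.N, IntFunLib.N_congr _ (eL 0),
      IntFunLib.N, IntFunLib.N, IntFunLib.N_congr _ (eL (0 + 1)), IntFunLib.N_congr _ (eL 0),
      key b (0 + 1 + 1) 0, key b (0 + 1) 0]
    ring
  obtain ⟨r, hr⟩ : ∃ r : ℕ, topologicalKrullDim X = (r : WithBot ℕ∞) := by
    have h0 : topologicalKrullDim X ≠ ⊥ := by
      rw [topologicalKrullDim, ne_eq, Order.krullDim_eq_bot_iff, not_isEmpty_iff]
      exact ⟨⟨Set.univ, IrreducibleSpace.isIrreducible_univ X, isClosed_univ⟩⟩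
    revert hd h0
    generalize topologicalKrullDim X = t
    intro hd h0
    induction t with
    | bot => exact absurd rfl h0
    | coe a =>
      induction a with
      | top => exact absurd hd (not_le.mpr (WithBot.coe_lt_coe.mpr (ENat.coe_lt_top d)))
      | coe m => exact ⟨m, rfl⟩
  have hη : topologicalKrullDim (closure ({genericPoint X} : Set X)) = ((r : ℕ) : WithBot ℕ∞) := by
    rw [(genericPoint_spec X).def]
    exact ((Homeomorph.Set.univ _).isHomeomorph.topologicalKrullDim_eq).trans hr
  obtain ⟨μ, hμ, hmult⟩ := HodgeIdxLib.exists_mult (k := k) hO (ξ := genericPoint X)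
    (by rw [(genericPoint_spec X).def]; exact Set.subset_univ _)
    (by rw [IntMultLib.support_structureModule']; trivial) hη
  have hinv : ∀ (j : ℕ), ∀ B ∈ List.replicate j H, PicF.IsInvertible B := fun j B hB => by
    rw [List.eq_of_mem_replicate hB]; exact hH.1
  match r, hr, hη, hmult with
  | 0, hr, _, _ =>
    refine ⟨hL, fun C _ hC => ?_⟩
    have := (topologicalKrullDim_subspace_le X (C.support : Set X)).trans_eq hr
    rw [hC] at this
    exact absurd this (by norm_num)
  | 1, hr, hη, hmult =>
    refine ⟨hL, fun C hC hCd => ?_⟩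
    haveI := hC
    have h : IntFunLib.N k [L] (Coh.structureModule X) = 0 := key1 0
    rw [hmult [L] (by simpa using hL) rfl, mul_eq_zero] at h
    rw [← IntFunLib.N_singleton (k := k) L C, IntFunLib.eq_ptIdeal C,
      ← IntMultLib.eq_of_specializes_of_dim isClosed_closure hη.le
        (show topologicalKrullDim (closure ({C.subschemeι (genericPoint C.subscheme)} : Set X)) = ((1 : ℕ) : WithBot ℕ∞) by
          rw [IntFunLib.dim_generic_of_support, hCd, Nat.cast_one])
        (subset_closure rfl) ((genericPoint_spec X).specializes trivial)]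
    exact h.resolve_left hμ.ne'
  | d' + 2, hr, hη, hmult =>
    refine BertiniIrrLib.NT_of_index hr hH hL ?_ ?_
    · have h := key1 (d' + 1)
      rw [hmult _ (List.forall_mem_cons.mpr ⟨hL, hinv _⟩) (by simp), mul_eq_zero] at h
      exact h.resolve_left hμ.ne'
    · have h := key2 d'
      rw [hmult _ (List.forall_mem_cons.mpr ⟨hL, List.forall_mem_cons.mpr ⟨hL, hinv _⟩⟩) (by simp), mul_eq_zero] at h
      exact (h.resolve_left hμ.ne').ge

end Groth.Agent.S4306
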