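import Groth.Statements.S4308
import Groth.Agent.AnModLib.StalkPull
import Groth.Agent.AnStalkLib.Flat
import Groth.Agent.KFlatLib.Stalk
import Groth.Agent.AnLib.Basic
-- import your own Groth.Agent.* helpers here

set_option autoImplicit false
set_option backward.isDefEq.respectTransparency.types false
set_option backward.isDefEq.respectTransparency false
open CategoryTheory AlgebraicGeometry Topology TopologicalSpace
open An

namespace Groth.Agent.S4308
open CategoryTheory.Limits

open AnModLib

variable {X : Scheme.{0}} [X.Over An.SC] [LocallyOfFiniteType (X ↘ An.SC)] [IsReduced X]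

theorem flat' (p : An.Pts X) : (germMap p).Flat := AnStalkLib.flat_stalkHom p

/-- Base change along a flat ring map keeps injectivity. -/
theorem injective_extend {R S : Type} [CommRing R] [CommRing S] (f : R →+* S) (hf : f.Flat)
    {M N : ModuleCat.{0} R} (g : M ⟶ N) (hg : Function.Injective g.hom) :
    Function.Injective ((ModuleCat.extendScalars.{0, 0, 0} f).map g).hom := by
  letI := f.toAlgebra
  haveI : Module.Flat R S := hf
  exact Module.Flat.lTensor_preserves_injective_linearMap (M := S) g.hom hg

/-- Base change along a faithfully flat ring map is injective on maps. -/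
theorem eq_zero_of_extend {R S : Type} [CommRing R] [CommRing S] [IsLocalRing R] [IsLocalRing S]
    (f : R →+* S) (hf : f.Flat) [IsLocalHom f]
    {M N : ModuleCat.{0} R} (g : M ⟶ N) (hg : (ModuleCat.extendScalars.{0, 0, 0} f).map g = 0) : g = 0 := by
  letI := f.toAlgebra
  haveI : Module.Flat R S := hf
  haveI : IsLocalHom (algebraMap R S) := ‹IsLocalHom f›
  haveI : Module.FaithfullyFlat R S := Module.FaithfullyFlat.of_flat_of_isLocalHom
  have h1 : g.hom.lTensor S = 0 := LinearMap.ext fun t => congr($(hg).hom t)
  exact ModuleCat.hom_ext ((Module.FaithfullyFlat.zero_iff_lTensor_zero (R := R) (M := S) g.hom).mpr h1)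

theorem mono_map {M N : X.Modules} (φ : M ⟶ N) [Mono φ] : Mono ((An.analytify X).map φ) := by
  refine ⟨fun {Z} a b hab => hom_ext' fun U s => ?_⟩
  refine TopCat.Presheaf.section_ext (C := Ab.{0}) (X := An.top X)
    ⟨psh ((An.analytify X).obj M), ((An.analytify X).obj M).isSheaf⟩ U _ _ fun p hp => ?_
  have hinj : Function.Injective ((DerSch.stalkFunctor X p.pt).map φ).hom :=
    (ModuleCat.mono_iff_injective _).1 inferInstance
  have h2 := injective_extend _ (flat' p) _ hinj
  have e := (stalkPullIso p).hom.naturality φ
  let c := (stalkPullIso p).app M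
  have hc : Function.Injective c.hom.hom := ((ModuleCat.mono_iff_injective c.hom).1 inferInstance)
  have hm : Function.Injective ((stalkF X p).map ((An.analytify X).map φ)).hom := fun u v huv => by
    refine hc (h2 ?_)
    have eu := congr($(e).hom u)
    have ev := congr($(e).hom v)
    exact eu.symm.trans ((congrArg ((stalkPullIso p).app N).hom.hom huv).trans ev)
  refine hm ?_
  have hU := congrArg (fun k => ((stalkF X p).map k).hom ((psh Z).germ U p hp s)) hab
  simp only [Functor.map_comp] at hU
  exact (congrArg ((stalkF X p).map ((An.analytify X).map φ)).hom (stalkF_map_germ p a U hp s)).symm.trans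
    (hU.trans (congrArg ((stalkF X p).map ((An.analytify X).map φ)).hom (stalkF_map_germ p b U hp s)))

theorem map_eq_zero {M N : X.Modules} (φ : M ⟶ N) (h : (An.analytify X).map φ = 0) : φ = 0 := by
  haveI : JacobsonSpace X := LocallyOfFiniteType.jacobsonSpace (X ↘ An.SC)
  have hst : ∀ p : An.Pts X, (DerSch.stalkFunctor X p.pt).map φ = 0 := fun p => by
    haveI : IsLocalRing (hR (X := X) p) := inferInstanceAs (IsLocalRing (AnStalkLib.anStalk p))
    haveI : IsLocalHom (germMap p) := AnStalkLib.isLocalHom_stalkHom p
    refine eq_zero_of_extend _ (flat' p) _ ?_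
    have e := (stalkPullIso p).hom.naturality φ
    have z : (An.analytify X ⋙ stalkF X p).map φ = 0 := by
      show (stalkF X p).map ((An.analytify X).map φ) = 0
      haveI : (stalkF X p).PreservesZeroMorphisms := by
        haveI : (stalkF X p).IsLeftAdjoint := (skyAdj p).isLeftAdjoint
        infer_instance
      rw [h, Functor.map_zero]
    rw [z, zero_comp] at e
    rw [← cancel_epi ((stalkPullIso p).hom.app M), comp_zero]
    exact e.symm
  refine Scheme.Modules.hom_ext _ _ fun U => ?_
  ext s
  refine TopCat.Presheaf.section_ext (C := Ab.{0}) (X := (X : TopCat.{0})) ⟨N.presheaf, N.isSheaf⟩ U _ _ fun x hx => ?_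
  show N.presheaf.germ U x hx (φ.app U s) = N.presheaf.germ U x hx 0
  rw [map_zero]
  let Z : Set X := {y | ∃ hy : y ∈ U, N.presheaf.germ U y hy (φ.app U s) = 0}
  have hZ : IsOpen Z := isOpen_iff_forall_mem_open.2 fun y ⟨hy, e⟩ => by
    rw [← map_zero (N.presheaf.germ U y hy).hom] at e
    obtain ⟨W, hyW, i, i', hW⟩ := TopCat.Presheaf.germ_eq N.presheaf y hy hy _ _ e
    refine ⟨W, fun w hw => ⟨i.le hw, ?_⟩, W.2, hyW⟩
    rw [← TopCat.Presheaf.germ_res_apply N.presheaf i w hw (φ.app U s), hW, map_zero, map_zero]
  by_contra hne
  obtain ⟨y, hyU, hy⟩ : (((U : Set X) \ Z) ∩ closedPoints X).Nonempty := by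
    refine nonempty_inter_closedPoints ⟨x, hx, fun ⟨_, e⟩ => hne e⟩ ?_
    exact U.2.isLocallyClosed.inter hZ.isClosed_compl.isLocallyClosed
  obtain ⟨p, rfl⟩ := AnLib.exists_pt_eq hy
  refine hyU.2 ⟨hyU.1, ?_⟩
  exact (DerSch.stalkFunctor_map_germ p.pt φ U hyU.1 s).symm.trans (congr($(hst p).hom _))


/-- For X reduced, where the associated analytic space is X(ℂ) with the sheaf of holomorphic functions:
the functor M ↦ M^an from O_X-modules to O_{X^an}-modules is exact, faithful and conservative (right
exactness being automatic for this left adjoint, the content is left exactness, faithfulness and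
conservativity). -/
theorem result (X : Scheme.{0}) [X.Over An.SC] [LocallyOfFiniteType (X ↘ An.SC)] [IsReduced X] :
    Limits.PreservesFiniteLimits (An.analytify X) ∧ Limits.PreservesFiniteColimits (An.analytify X) ∧
      (An.analytify X).Faithful ∧ (An.analytify X).ReflectsIsomorphisms := by
  haveI : (An.analytify X).IsLeftAdjoint := (An.analytifyAdj X).isLeftAdjoint
  haveI : (An.anPush X).Additive := ⟨fun {M N f g} => rfl⟩
  haveI : (An.analytify X).Additive := (An.analytifyAdj X).left_adjoint_additive
  haveI : (An.analytify X).Faithful :=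
    ⟨fun {M N f g} h => sub_eq_zero.1 (map_eq_zero (f - g) (by rw [Functor.map_sub, h, sub_self]))⟩
  haveI : (An.analytify X).PreservesMonomorphisms := ⟨fun φ _ => mono_map φ⟩
  haveI : (An.analytify X).PreservesHomology :=
    Functor.preservesHomology_of_preservesMonos_and_cokernels _
  exact ⟨Functor.preservesFiniteLimits_of_preservesHomology _, inferInstance, inferInstance,
    reflectsIsomorphisms_of_reflectsMonomorphisms_of_reflectsEpimorphisms _⟩


end Groth.Agent.S4308
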