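import Groth.Statements.S4315
import Groth.Agent.AnStalkLib.EtaleBij
import Groth.Agent.AnLib.FullFaithful
-- import your own Groth.Agent.* helpers here

set_option autoImplicit false
open CategoryTheory AlgebraicGeometry Topology TopologicalSpace
open An

namespace Groth.Agent.S4315
open CategoryTheory.Limits


/-- For X and Y reduced and locally of finite type over ℂ (associated analytic spaces = ℂ-points with
holomorphic functions): a morphism f : X → Y over ℂ is an isomorphism if and only if f^an is, i.e.
if and only if the induced map X(ℂ) → Y(ℂ) is a homeomorphism whose inverse is holomorphic. -/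
theorem result (X Y : Scheme.{0}) [X.Over An.SC] [Y.Over An.SC]
    [LocallyOfFiniteType (X ↘ An.SC)] [LocallyOfFiniteType (Y ↘ An.SC)] [IsReduced X] [IsReduced Y]
    (f : X ⟶ Y) [f.IsOver An.SC] :
    IsIso f ↔ ∃ e : An.Pts X ≃ₜ An.Pts Y, (⇑e = An.Pts.map f) ∧
      An.IsHolMap (⟨e.symm, e.symm.continuous⟩ : C(An.Pts Y, An.Pts X)) := by
  constructor
  · intro hf
    haveI : (inv f).IsOver An.SC := ⟨by rw [IsIso.inv_comp_eq, CategoryTheory.comp_over]⟩
    refine ⟨⟨⟨An.Pts.map f, An.Pts.map (inv f), fun a => ?_, fun b => ?_⟩, An.Pts.continuous_map f,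
      An.Pts.continuous_map (inv f)⟩, rfl, ?_⟩
    · exact Subtype.ext (by show (a.1 ≫ f) ≫ inv f = a.1; simp)
    · exact Subtype.ext (by show (b.1 ≫ inv f) ≫ f = b.1; simp)
    · intro V g hg
      exact An.holPred_comp (inv f) V g hg
  · rintro ⟨e, he, hhol⟩
    have hbij : Function.Bijective (An.Pts.map f) := he ▸ e.bijective
    have hloc : ∀ x, Function.Bijective (AnStalkLib.anStalkMap f x) := by
      intro x
      have hnhds : Filter.map (An.Pts.map f) (nhds x) = nhds (An.Pts.map f x) := by
        rw [← he]; exact e.map_nhds_eq x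
      refine ⟨(injective_iff_map_eq_zero _).2 fun o ho => AnStalkLib.toGerm_injective _ ?_, fun o => ?_⟩
      · have h := AnStalkLib.toGerm_anStalkMap f x o
        rw [ho, map_zero] at h
        rw [map_zero]
        revert h
        refine Filter.Germ.inductionOn (AnStalkLib.toGerm (An.Pts.map f x) o) fun φ h => ?_
        exact Filter.Germ.coe_eq.2 (show φ =ᶠ[nhds (An.Pts.map f x)] 0 by
          rw [← hnhds]
          exact Filter.eventually_map.2 ((Filter.Germ.coe_eq.1 h).mono fun y hy => hy.symm))
      · obtain ⟨T, hxT, s, rfl⟩ := TopCat.Presheaf.germ_exist (An.anSpace X).presheaf o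
        let T' : TopologicalSpace.Opens (An.top Y) :=
          (TopologicalSpace.Opens.map (TopCat.ofHom (⟨e.symm, e.symm.continuous⟩ : C(An.Pts Y, An.Pts X)))).obj T
        have hxT' : An.Pts.map f x ∈ T' := by
          show e.symm (An.Pts.map f x) ∈ T
          rw [← he, e.symm_apply_apply]; exact hxT
        refine ⟨(An.anSpace Y).presheaf.germ T' _ hxT' ⟨fun y => s.1 ⟨e.symm y.1, y.2⟩, hhol T s.1 s.2⟩,
          AnStalkLib.toGerm_injective x ?_⟩
        rw [AnStalkLib.toGerm_anStalkMap, AnStalkLib.toGerm_germ, AnStalkLib.toGerm_germ]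
        refine Filter.Germ.coe_eq.2 ((T.2.eventually_mem hxT).mono fun y hy => ?_)
        have hy' : An.Pts.map f y ∈ T' := by
          show e.symm (An.Pts.map f y) ∈ T
          rw [← he, e.symm_apply_apply]; exact hy
        refine (AnStalkLib.extendFun_eq _ hy').trans ((congrArg s.1 (Subtype.ext ?_)).trans
          (AnStalkLib.extendFun_eq s.1 (show y ∈ T from hy)).symm)
        show e.symm (An.Pts.map f y) = y
        rw [← he, e.symm_apply_apply]
    haveI := AnStalkLib.etale_of_bijective f hloc
    exact AnLib.isIso_of_etale_bijective f hbij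


end Groth.Agent.S4315
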