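import Groth.Statements.S4318
import Groth.Agent.AnStalkLib.RegularHom
import Groth.Agent.HensFormalLib.Basic
-- import your own Groth.Agent.* helpers here

set_option autoImplicit false
open CategoryTheory AlgebraicGeometry Topology TopologicalSpace
open An

namespace Groth.Agent.S4318
open CategoryTheory.Limits


/-- Let X be a reduced scheme locally of finite type over ℂ and x a ℂ-point of X, and write O_{X^an,x}
for the ring of germs of holomorphic functions at x on X(ℂ). Then O_{X,x} is a normal domain (a
domain integrally closed in its fraction field) if and only if O_{X^an,x} is. The published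
statement is global (X has the property if and only if its associated analytic space does); it is
stated here pointwise, comparing the two local rings at a single ℂ-point. -/
theorem result (X : Scheme.{0}) [X.Over An.SC] [LocallyOfFiniteType (X ↘ An.SC)] [IsReduced X] (x : An.Pts X) :
    (IsDomain ↑(X.presheaf.stalk x.pt) ∧ IsIntegrallyClosed ↑(X.presheaf.stalk x.pt)) ↔ (IsDomain ↑((An.anSpace X).presheaf.stalk x) ∧ IsIntegrallyClosed ↑((An.anSpace X).presheaf.stalk x)) := by
  letI : Algebra (X.presheaf.stalk x.pt) (AnStalkLib.anStalk x) := (AnStalkLib.stalkHom x).toAlgebra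
  haveI := AnStalkLib.isNoetherianRing_stalk x
  haveI : Module.FaithfullyFlat (X.presheaf.stalk x.pt) (AnStalkLib.anStalk x) := AnStalkLib.faithfullyFlat_stalkHom x
  have hreg := AnStalkLib.isRegularHom_stalkHom x
  have key : EGA4.IsNormalRing (X.presheaf.stalk x.pt) ↔ EGA4.IsNormalRing (AnStalkLib.anStalk x) := by
    rw [GeomRedFibLib.isNormalRing_iff, GeomRedFibLib.isNormalRing_iff, AnStalkLib.ringP_rk_iff hreg 1,
      AnStalkLib.ringP_sk_iff hreg 2]
  have h2 : ∀ (R : Type) [CommRing R] [IsLocalRing R], (IsDomain R ∧ IsIntegrallyClosed R) ↔ EGA4.IsNormalRing R := by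
    intro R _ _
    refine ⟨fun ⟨_, _⟩ => HensFormalLib.isNormalRing_of_isIntegrallyClosed R, fun h => ?_⟩
    haveI := HensFormalLib.isDomain_of_isNormalRing R h
    refine ⟨inferInstance, ?_⟩
    exact (isIntegrallyClosed_iff_isIntegrallyClosedIn (FractionRing R)).2
      (NormalLib.LocNormal.isIntegrallyClosedIn h _)
  exact (h2 _).trans (key.trans (h2 (AnStalkLib.anStalk x)).symm)


end Groth.Agent.S4318
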