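import Groth.Statements.S4319
import Groth.Agent.AnStalkLib.Flat
import Groth.Agent.CMFlatLib.Open
-- import your own Groth.Agent.* helpers here

set_option autoImplicit false
open CategoryTheory AlgebraicGeometry Topology TopologicalSpace
open An

namespace Groth.Agent.S4319
open CategoryTheory.Limits


/-- Let X be a reduced scheme locally of finite type over ℂ and x a ℂ-point of X, and write O_{X^an,x}
for the ring of germs of holomorphic functions at x on X(ℂ). Then O_{X,x} is Cohen–Macaulay if and
only if O_{X^an,x} is. The published statement is global (X has the property if and only if its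
associated analytic space does); it is stated here pointwise, comparing the two local rings at a
single ℂ-point. -/
theorem result (X : Scheme.{0}) [X.Over An.SC] [LocallyOfFiniteType (X ↘ An.SC)] [IsReduced X] (x : An.Pts X) :
    LocCoh.IsCohenMacaulayLocalRing ↑(X.presheaf.stalk x.pt) ↔ LocCoh.IsCohenMacaulayLocalRing ↑((An.anSpace X).presheaf.stalk x) := by
  letI : Algebra (X.presheaf.stalk x.pt) (AnStalkLib.anStalk x) := (AnStalkLib.stalkHom x).toAlgebra
  haveI := AnStalkLib.isNoetherianRing_stalk x
  haveI : Module.Flat (X.presheaf.stalk x.pt) (AnStalkLib.anStalk x) := AnStalkLib.flat_stalkHom x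
  haveI : IsLocalHom (algebraMap (X.presheaf.stalk x.pt) (AnStalkLib.anStalk x)) := AnStalkLib.isLocalHom_stalkHom x
  show _ ↔ LocCoh.IsCohenMacaulayLocalRing (AnStalkLib.anStalk x)
  rw [CMFlatLib.isCohenMacaulayLocalRing_iff_isCM, CMFlatLib.isCohenMacaulayLocalRing_iff_isCM,
    CMFlatLib.isCM_flat_iff (X.presheaf.stalk x.pt) (AnStalkLib.anStalk x)]
  refine (and_iff_left ?_).symm
  haveI : IsLocalRing (GorLib.Fib (X.presheaf.stalk x.pt) (AnStalkLib.anStalk x)) :=
    GorLib.isLocalRing_quotient (GorLib.map_maximalIdeal_ne_top _ _)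
  have hfld : IsField (GorLib.Fib (X.presheaf.stalk x.pt) (AnStalkLib.anStalk x)) := by
    refine Ideal.Quotient.maximal_ideal_iff_isField_quotient _ |>.1 ?_
    rw [show (IsLocalRing.maximalIdeal (X.presheaf.stalk x.pt)).map (algebraMap _ (AnStalkLib.anStalk x)) = _ from
      AnStalkLib.map_maximalIdeal x]
    exact IsLocalRing.maximalIdeal.isMaximal _
  exact CatLib.isCM_of_hasSeqIn (CommAlgDim.hasSeqIn_zero _) (ringKrullDim_eq_zero_of_isField hfld).le


end Groth.Agent.S4319
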