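import Groth.Statements.S4323
import Groth.Agent.AnStalkLib.Criteria
-- import your own Groth.Agent.* helpers here

set_option autoImplicit false
open CategoryTheory AlgebraicGeometry Topology TopologicalSpace
open An

namespace Groth.Agent.S4323
open CategoryTheory.Limits


/-- Let X and Y be reduced schemes locally of finite type over ℂ and f : X → Y a morphism over ℂ. Then f
is unramified (encoded as formally unramified, f being locally of finite type automatically) if and
only if f^an is, i.e. if and only if for every ℂ-point x of X and every maximal ideal m of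
O_{X^an,x}, m is generated by the image of a maximal ideal of O_{Y^an,f(x)} under the stalk map of
f^an (these stalks being local rings, this says m_{f(x)} O_{X^an,x} = m_x). -/
theorem result (X Y : Scheme.{0}) [X.Over An.SC] [Y.Over An.SC] [LocallyOfFiniteType (X ↘ An.SC)]
    [LocallyOfFiniteType (Y ↘ An.SC)] [IsReduced X] [IsReduced Y] (f : X ⟶ Y) [f.IsOver An.SC] :
    FormallyUnramified f ↔ ∀ (x : An.Pts X) (m : Ideal ((An.anSpace X).presheaf.stalk x)), m.IsMaximal →
      ∃ m' : Ideal ((An.anSpace Y).presheaf.stalk (An.Pts.map f x)), m'.IsMaximal ∧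
        m'.map (PresheafedSpace.Hom.stalkMap (An.anMap f) x).hom = m := by
  rw [AnStalkLib.formallyUnramified_iff_map_max f]
  refine forall_congr' fun x => ?_
  rw [AnStalkLib.map_max_iff (AnStalkLib.compIso_stalkHom (An.Pts.map f x)) (AnStalkLib.compIso_stalkHom x)
    (AnStalkLib.square f x)]
  constructor
  · intro h m hm
    exact ⟨_, IsLocalRing.maximalIdeal.isMaximal (AnStalkLib.anStalk (An.Pts.map f x)),
      h.trans (IsLocalRing.eq_maximalIdeal (R := AnStalkLib.anStalk x) hm).symm⟩
  · intro h
    obtain ⟨m', hm', hmm⟩ := h _ (IsLocalRing.maximalIdeal.isMaximal (AnStalkLib.anStalk x))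
    rw [IsLocalRing.eq_maximalIdeal (R := AnStalkLib.anStalk (An.Pts.map f x)) hm'] at hmm
    exact hmm


end Groth.Agent.S4323
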