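import Groth.Statements.S4330
import Groth.Agent.EtShLib.Constructible
import Mathlib.CategoryTheory.Localization.DerivabilityStructure.Derives
import Mathlib.CategoryTheory.Preadditive.Injective.Preserves

set_option autoImplicit false
universe u
open CategoryTheory CategoryTheory.Limits AlgebraicGeometry Opposite
attribute [local instance] HasDerivedCategory.standard
open EtSix

namespace Groth.Agent.S4330

/-- Composition of derived direct images: bounded-below version for sheaves of Λ-modules on small etale
sites: let f : X -> Y and g : Y -> Z be morphisms of schemes and Λ a commutative ring. Then the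
canonical morphism R⁺(g ∘ f)_* -> R⁺g_* ∘ R⁺f_* of functors D⁺(X_et, Λ) -> D⁺(Z_et, Λ)
(bounded-below derived functors computed with injective resolutions; the morphism is induced by (g ∘
f)_* ≅ g_* ∘ f_* through the universal property of R⁺(g ∘ f)_*) is an isomorphism. -/
theorem result (Λ : Type (u + 1)) [CommRing Λ] {X Y Z : Scheme.{u}} (f : X ⟶ Y) (g : Y ⟶ Z) :
    IsIso (EtSix.compMapMod Λ f g) := by
  haveI : PreservesFiniteLimits (EtModW.pull Λ f) :=
    Groth.Agent.EtShLib.preservesFiniteLimits_pullA (A := ModuleCat.{u + 1} Λ) f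
  haveI : (EtModW.pull Λ f).PreservesMonomorphisms := preservesMonomorphisms_of_preservesLimitsOfShape _
  haveI : (EtModW.push Λ f).PreservesInjectiveObjects :=
    Functor.preservesInjectiveObjects_of_adjunction_of_preservesMonomorphisms (EtSix.pullPushModAdj Λ f)
  rw [EtSix.compMapMod, EtSix.rPlusDesc₂, ← Functor.isRightDerivedFunctor_iff_isIso_rightDerivedDesc]
  refine (HomotopyCategory.Plus.localizerMorphism_derives _).isRightDerivedFunctor_of_isIso _ fun X => ?_
  obtain ⟨K, rfl⟩ := HomotopyCategory.Plus.quotient_obj_surjective X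
  haveI : ∀ n, Injective (((EtModW.push Λ f).mapHomotopyCategoryPlus.obj
      ((InjectiveObject.ι _).mapHomotopyCategoryPlus.obj ((HomotopyCategory.Plus.quotient _).obj K))).obj.as.X n) :=
    fun n => (EtModW.push Λ f).injective_obj_of_injective (K.obj.X n).property
  haveI : IsIso (EtSix.plusNatTrans (EtSix.pushModComp Λ g f).inv) := by
    rw [EtSix.plusNatTrans]
    apply (config := {allowSynthFailures := true}) CategoryTheory.isIso_of_fully_faithful
      ((Functor.whiskeringRight (HomotopyCategory.Plus (EtModW.Mod Λ X)) _ _).obj (HomotopyCategory.Plus.ι (EtModW.Mod Λ Z)))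
    erw [Functor.FullyFaithful.map_preimage]
    haveI : IsIso (NatTrans.mapHomotopyCategory (EtSix.pushModComp Λ g f).inv (ComplexShape.up ℤ)) :=
      ⟨NatTrans.mapHomotopyCategory (EtSix.pushModComp Λ g f).hom (ComplexShape.up ℤ),
        by rw [← NatTrans.mapHomotopyCategory_comp, Iso.inv_hom_id, NatTrans.mapHomotopyCategory_id],
        by rw [← NatTrans.mapHomotopyCategory_comp, Iso.hom_inv_id, NatTrans.mapHomotopyCategory_id]⟩
    exact ((Functor.whiskeringLeft (HomotopyCategory.Plus (EtModW.Mod Λ X)) _ _).obj (HomotopyCategory.Plus.ι (EtModW.Mod Λ X))).map_isIso (NatTrans.mapHomotopyCategory (EtSix.pushModComp Λ g f).inv (ComplexShape.up ℤ))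
  simp only [EtSix.rPlusUnit₂, NatTrans.comp_app, Functor.whiskerRight_app, Functor.whiskerLeft_app,
    Functor.associator_hom_app, Functor.associator_inv_app]
  infer_instance

end Groth.Agent.S4330
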