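import Groth.Statements.S4331
import Groth.Agent.EtModPBCLib.Main

set_option autoImplicit false
set_option backward.isDefEq.respectTransparency false
set_option backward.isDefEq.respectTransparency.types false
set_option maxHeartbeats 1000000
set_option synthInstance.maxHeartbeats 400000
universe u
open CategoryTheory CategoryTheory.Limits AlgebraicGeometry Opposite
attribute [local instance] HasDerivedCategory.standard
open EtSix

namespace Groth.Agent.S4331

/-- Proper base change for bounded-below complexes with torsion cohomology, in the case of plain base
change. Let X' = X ×_S S' be a cartesian square of schemes with maps f : X -> S proper, g : S' -> S,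
f' : X' -> S', g' : X' -> X, let Λ be a commutative ring, and let K in D⁺(X_et, Λ) have torsion
cohomology sheaves. Then the base change morphism R⁺g^* (R⁺f_* K) -> R⁺f'_* (R⁺g'^* K) is an
isomorphism. Here all four functors are bounded-below right derived functors (for the exact functors
g^*, g'^* these are the functors they induce), and the morphism is the transpose, under any
adjunction adj : R⁺g^* ⊣ R⁺g_*, of the map R⁺f_* -> R⁺g_* R⁺f'_* R⁺g'^* induced by the unit of g'^*
⊣ g'_* and f_* g'_* ≅ g_* f'_*; whether it is an isomorphism does not depend on adj. No bound on the
dimension of the fibres of f is assumed, K being only bounded below. The published statement is more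
general: it allows an auxiliary complex of bimodules in place of the coefficient ring Λ itself. -/
theorem result {X S X' S' : Scheme.{u}} (f : X ⟶ S) (g : S' ⟶ S) (f' : X' ⟶ S') (g' : X' ⟶ X)
    (hc : IsPullback g' f' f g) [IsProper f] (Λ : Type (u + 1)) [CommRing Λ]
    (adj : (EtModW.pull Λ g).rightDerivedFunctorPlus ⊣ (EtModW.push Λ g).rightDerivedFunctorPlus)
    (K : DerivedCategory.Plus (EtModW.Mod Λ X))
    (hK : ∀ i : ℤ, EtCoh.IsTorsion ((EtModD.forgetToAb Λ X).obj
      ((DerivedCategory.Plus.homologyFunctor (EtModW.Mod Λ X) i).obj K))) :
    IsIso (EtSix.bcMapMod Λ f g f' g' hc.w adj K) := by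
  exact EtModPBCLib.isIso_bcMapMod Λ f g f' g' hc adj K hK

end Groth.Agent.S4331
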