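import Groth.Statements.S4332
import Groth.Agent.EtModHLib.Cech
-- import your own Groth.Agent.* helpers here

set_option autoImplicit false
universe u
open CategoryTheory CategoryTheory.Limits AlgebraicGeometry Opposite
attribute [local instance] HasDerivedCategory.standard
open EtSix

namespace Groth.Agent.S4332
open CategoryTheory.Limits
section
open CategoryTheory.Abelian

variable (Λ : Type (u + 1)) [CommRing Λ] {X : Scheme.{u}}
  [PreservesFiniteLimits (EtModD.forgetToAb Λ X)] [PreservesFiniteColimits (EtModD.forgetToAb Λ X)]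
  [(EtModD.forgetToAb Λ X).Additive]

theorem hModToH_apply (F : EtModW.Mod Λ X) (n : ℕ) (e : HMod Λ X F n) :
    HModToH Λ F n e = (Ext.mk₀ (intToConstΛ Λ X)).comp (e.mapExactFunctor (EtModD.forgetToAb Λ X)) (zero_add n) :=
  rfl

theorem hModToH_comp {A B : EtModW.Mod Λ X} {a b c : ℕ} (α : HMod Λ X A a) (β : Ext.{u + 1} A B b) (h : a + b = c) :
    HModToH Λ B c (α.comp β h) = (HModToH Λ A a α).comp (β.mapExactFunctor (EtModD.forgetToAb Λ X)) h := by
  rw [hModToH_apply, hModToH_apply, Ext.mapExactFunctor_comp]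
  exact (Ext.comp_assoc _ _ _ (zero_add a) h (by omega)).symm

/-- evaluation at one -/
noncomputable def ulEquiv (A : AddCommGrpCat.{u + 1}) : (AddCommGrpCat.of (ULift.{u + 1} ℤ) ⟶ A) ≃ A where
  toFun φ := φ (ULift.up 1)
  invFun a := AddCommGrpCat.ofHom ((zmultiplesHom ↥A a).comp (AddEquiv.ulift (α := ℤ)).toAddMonoidHom)
  left_inv φ := by
    ext ⟨k⟩
    show k • φ (ULift.up 1) = φ (ULift.up k)
    rw [← map_zsmul]
    congr 1
    ext
    simp
  right_inv a := one_zsmul a

theorem hom_bijective (F : EtModW.Mod Λ X) :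
    Function.Bijective (fun f : constΛ Λ X ⟶ F => intToConstΛ Λ X ≫ (EtModD.forgetToAb Λ X).map f) := by
  let e1 : (constΛ Λ X ⟶ F) ≃ (gsecMod Λ X).obj F :=
    ((constModAdj Λ X).homEquiv _ _).trans
      (((ModuleCat.homEquiv).trans (LinearMap.ringLmapEquivSelf Λ ℕ _).toEquiv))
  let e2 : ((constantSheaf X.smallEtaleTopology AddCommGrpCat.{u + 1}).obj (AddCommGrpCat.of (ULift.{u + 1} ℤ)) ⟶
      (EtModD.forgetToAb Λ X).obj F) ≃ (EtCore.gsec X).obj ((EtModD.forgetToAb Λ X).obj F) :=
    ((EtCore.constAdj X).homEquiv _ _).trans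
      (ulEquiv _)
  have key : (fun f : constΛ Λ X ⟶ F => e2 (intToConstΛ Λ X ≫ (EtModD.forgetToAb Λ X).map f)) = fun f => e1 f := by
    funext f
    simp only [e1, e2, Equiv.trans_apply]
    rw [Adjunction.homEquiv_naturality_right, intToConstΛ, Equiv.apply_symm_apply, Adjunction.homEquiv_unit]
    show (f.hom.app (op (EtCoh.top X))) ((1 : ℤ) • (((constModAdj Λ X).unit.app (ModuleCat.of Λ Λ)).hom (1 : Λ))) = _
    rw [one_smul]
    rfl
  refine (Equiv.bijective e2).of_comp_iff' _ |>.1 ?_
  show Function.Bijective (fun f : constΛ Λ X ⟶ F => e2 (intToConstΛ Λ X ≫ (EtModD.forgetToAb Λ X).map f))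
  rw [key]
  exact e1.bijective

theorem bijective_zero (F : EtModW.Mod Λ X) : Function.Bijective (HModToH Λ F 0) := by
  have h : ∀ f, HModToH Λ F 0 (Ext.mk₀ f) = Ext.mk₀ (intToConstΛ Λ X ≫ (EtModD.forgetToAb Λ X).map f) := fun f => by
    rw [hModToH_apply, Ext.mapExactFunctor_mk₀, Ext.mk₀_comp_mk₀]
  have hb := ((Ext.mk₀_bijective _ _).comp (hom_bijective Λ F))
  refine (Function.Bijective.of_comp_iff (HModToH Λ F 0) (Ext.mk₀_bijective _ _)).1 ?_
  convert hb using 1
  funext f
  exact h f

theorem bijective_succ {S : ShortComplex (EtModW.Mod Λ X)} (hS : S.ShortExact) [Injective S.X₂] (n : ℕ)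
    (h2 : Function.Bijective (HModToH Λ S.X₂ n)) (h3 : Function.Bijective (HModToH Λ S.X₃ n)) :
    Function.Bijective (HModToH Λ S.X₁ (n + 1)) := by
  let G := EtModD.forgetToAb Λ X
  have hS' : (S.map G).ShortExact := hS.map_of_exact G
  have hδ : ∀ a : HMod Λ X S.X₃ n, HModToH Λ S.X₁ (n + 1) (a.comp hS.extClass rfl) =
      (HModToH Λ S.X₃ n a).comp hS'.extClass rfl := fun a => by
    rw [hModToH_comp, Ext.mapExactFunctor_extClass]
    rfl
  refine ⟨(injective_iff_map_eq_zero _).2 fun y hy => ?_, fun z => ?_⟩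
  · obtain ⟨a, rfl⟩ := Ext.covariant_sequence_exact₁ _ hS y (Ext.eq_zero_of_injective _) (n₀ := n) rfl
    rw [hδ] at hy
    obtain ⟨b', hb'⟩ := Ext.covariant_sequence_exact₃ _ hS' (HModToH Λ S.X₃ n a) (n₁ := n + 1) rfl hy
    obtain ⟨b, rfl⟩ := h2.2 b'
    have : a = b.comp (Ext.mk₀ S.g) (add_zero n) := by
      apply h3.1
      rw [hModToH_comp, Ext.mapExactFunctor_mk₀]
      exact hb'.symm
    rw [this, Ext.comp_assoc_of_second_deg_zero, ShortComplex.ShortExact.comp_extClass, Ext.comp_zero]
  · haveI := Groth.Agent.EtModHLib.subsingleton_H_forget_injective Λ S.X₂ n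
    haveI : Subsingleton (Ext.{u + 1} ((constantSheaf X.smallEtaleTopology AddCommGrpCat.{u + 1}).obj
      (AddCommGrpCat.of (ULift.{u + 1} ℤ))) (S.map G).X₂ (n + 1)) := this
    obtain ⟨a', rfl⟩ := Ext.covariant_sequence_exact₁ _ hS' z (Subsingleton.elim _ _) (n₀ := n) rfl
    obtain ⟨a, rfl⟩ := h3.2 a'
    exact ⟨a.comp hS.extClass rfl, hδ a⟩

end


/-- Cohomology of a sheaf of modules agrees with that of its underlying abelian sheaf: for the constant
sheaf of rings Λ on the small etale site of a scheme X, through the canonical map: for every sheaf F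
of Λ-modules and every n, the map Ext^n(Λ_X, F) -> Ext^n(Z_X, F_ab) = H^n(X, F_ab) obtained by
applying the forgetful functor to an Ext class (computed in sheaves of Λ-modules) and precomposing
with Z_X -> Λ_X, 1 ↦ 1, is bijective. The exactness and additivity of the forgetful functor, which
hold, are recorded as instance hypotheses. -/
theorem result (Λ : Type (u + 1)) [CommRing Λ] {X : Scheme.{u}}
    [PreservesFiniteLimits (EtModD.forgetToAb Λ X)] [PreservesFiniteColimits (EtModD.forgetToAb Λ X)]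
    [(EtModD.forgetToAb Λ X).Additive] (F : EtModW.Mod Λ X) (n : ℕ) :
    Function.Bijective (EtSix.HModToH Λ F n) := by
  induction n generalizing F with
  | zero => exact bijective_zero Λ F
  | succ n ih =>
    haveI : Injective (CohLib.injSC F).X₂ := inferInstanceAs (Injective (Injective.under F))
    exact bijective_succ Λ (CohLib.injSC_shortExact F) n (ih _) (ih _)


end Groth.Agent.S4332
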