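import Groth.Statements.S4334
import Groth.Agent.EtBrLib.CurveMain
import Groth.Agent.FibDimLib.Smooth
import Groth.Agent.FibDimLib.Apps
import Groth.Agent.EtTransferLib.Basic
-- import your own Groth.Agent.* helpers here

set_option autoImplicit false
universe u
open CategoryTheory CategoryTheory.Limits AlgebraicGeometry Opposite
open EtSix

set_option backward.isDefEq.respectTransparency false
set_option backward.isDefEq.respectTransparency.types false
set_option maxHeartbeats 1000000

open CategoryTheory.Abelian TopologicalSpace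

noncomputable section

namespace Groth.Agent.S4334

theorem dim_eq_one {k : Type u} [Field k] {X : Scheme.{u}} [IsIntegral X] (f : X ⟶ Spec (CommRingCat.of k))
    [IsProper f] [SmoothOfRelativeDimension 1 f] : topologicalKrullDim X = 1 := by
  haveI : Smooth f := SmoothOfRelativeDimension.smooth 1 f
  let x : X := genericPoint X
  have hr : Set.range (f.fiberι (f.base x)).base = Set.univ := by
    refine Set.eq_univ_of_forall fun y => ?_
    rw [Scheme.Hom.range_fiberι]
    exact Subsingleton.elim (α := PrimeSpectrum k) _ _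
  have hh : IsHomeomorph (f.fiberι (f.base x)).base :=
    isHomeomorph_iff_isEmbedding_surjective.2 ⟨(f.fiberι (f.base x)).isEmbedding, Set.range_eq_univ.1 hr⟩
  haveI : PreirreducibleSpace ↥(f.fiber (f.base x)) := ⟨by
    rw [← hh.homeomorph.symm.surjective.range_eq, ← Set.image_univ]
    exact (PreirreducibleSpace.isPreirreducible_univ (X := ↥X)).image _ hh.homeomorph.symm.continuous.continuousOn⟩
  haveI : Nonempty ↥(f.fiber (f.base x)) := ⟨hh.homeomorph.symm x⟩
  haveI : IrreducibleSpace ↥(f.fiber (f.base x)) := ⟨inferInstance⟩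
  obtain ⟨Z, hZ, hd⟩ := FibDimLib.exists_fibre_component f x
  rw [FibDimLib.fibreDimAt_smoothOfRelativeDimension 1 f x] at hd
  rw [irreducibleComponents_eq_singleton, Set.mem_singleton_iff] at hZ
  subst hZ
  rw [← hh.topologicalKrullDim_eq, ← (Homeomorph.Set.univ _).isHomeomorph.topologicalKrullDim_eq, ← hd]
  rfl

end Groth.Agent.S4334

namespace Groth.Agent.S4334

/-- The degree-two step in canonical form: let X be a smooth projective curve over an algebraically
closed field k (here: X integral, with a proper morphism X -> Spec k that is smooth of relative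
dimension 1), and n an integer that is nonzero in k, so that the n-th power map on G_m is an
epimorphism of sheaves on the small etale site (taken as the hypothesis h). Then the boundary map
H^1(X, G_m) -> H^2(X, μ_n) of the Kummer sequence is surjective, and its kernel is the image of
multiplication by n on H^1(X, G_m). -/
theorem result (k : Type u) [Field k] [IsAlgClosed k] {X : Scheme.{u}} [IsIntegral X]
    (f : X ⟶ Spec (CommRingCat.of k)) [IsProper f] [SmoothOfRelativeDimension 1 f]
    (n : ℕ) (hn : (n : k) ≠ 0) (h : Epi (EtCoh.powMap X n)) :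
    Function.Surjective (EtSix.kummerBoundary h 1) ∧
      (EtSix.kummerBoundary h 1).ker = (n • AddMonoidHom.id (EtCoh.H X (EtCoh.Gm X) 1)).range := by
  haveI : Smooth f := SmoothOfRelativeDimension.smooth 1 f
  haveI := EtBrLib.subsingleton_H_Gm_curve (k := k) X f (S4334.dim_eq_one f).le 2 le_rfl
  let S := (EtSix.kummerShortExact h)
  refine ⟨fun y => ?_, ?_⟩
  · obtain ⟨z, hz⟩ := Ext.covariant_sequence_exact₁ _ S (y : Ext.{u + 1} _ (EtCoh.mu X n) (1 + 1))
      (Subsingleton.elim (α := EtCoh.H X (EtCoh.Gm X) 2) _ _) (n₀ := 1) rfl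
    exact ⟨z, hz⟩
  · ext z
    constructor
    · intro hz
      obtain ⟨w, hw⟩ := Ext.covariant_sequence_exact₃ _ S (z : Ext.{u + 1} _ (EtCoh.Gm X) 1) (n₁ := 2) rfl hz
      exact ⟨w, (EtTransferLib.comp_mk₀_nsmul w n).symm.trans hw⟩
    · rintro ⟨w, rfl⟩
      have e : (Ext.comp (w : Ext.{u + 1} _ (EtCoh.Gm X) 1) (Ext.mk₀ (EtCoh.powMap X n)) (add_zero 1)) = n • w :=
        EtTransferLib.comp_mk₀_nsmul w n
      show Ext.comp ((n • AddMonoidHom.id (EtCoh.H X (EtCoh.Gm X) 1)) w) S.extClass rfl = 0
      show Ext.comp (n • w) S.extClass rfl = 0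
      rw [← e, Ext.comp_assoc_of_second_deg_zero]
      exact (congrArg (fun t => Ext.comp w t _) S.comp_extClass).trans (Ext.comp_zero _ _ _ _ _)

end Groth.Agent.S4334
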