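import Groth.Statements.S4337
import Groth.Agent.LinTopLib.IdealOfDef
import Groth.Agent.LinTopLib.Henselian
import Mathlib.RingTheory.Nakayama
import Mathlib.LinearAlgebra.TensorProduct.Quotient
import Mathlib.LinearAlgebra.TensorProduct.RightExactness

set_option autoImplicit false
universe u
open LinTop

namespace Groth.Agent.S4337

/-- Let A be an admissible ring, J an ideal of definition, and u : M -> N a homomorphism of A-modules
with N of finite type. Then u is surjective if and only if u tensored with A/J is surjective. -/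
theorem result
    (A : Type u) [CommRing A] [UniformSpace A] [IsUniformAddGroup A] [IsTopologicalRing A]
    (hA : LinTop.IsAdmissible A) (J : Ideal A) (hJ : LinTop.IsIdealOfDefinition A J)
    (M N : Type u) [AddCommGroup M] [Module A M] [AddCommGroup N] [Module A N] [Module.Finite A N]
    (u : M →ₗ[A] N) :
    Function.Surjective u ↔ Function.Surjective (u.rTensor (A ⧸ J)) := by
  obtain ⟨⟨hlin, -⟩, hT, hC⟩ := hA
  haveI := hlin
  haveI := hT
  haveI := hC
  have hjac : J ≤ Ideal.jacobson ⊥ := LinTopLib.le_jacobson_bot fun x hx =>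
    LinTopLib.isTopologicallyNilpotent_of_mem_idealOfDefinition hJ hx
  refine ⟨fun h => LinearMap.rTensor_surjective _ h, fun h => ?_⟩
  have h0 : (LinearMap.range u).mkQ.rTensor (A ⧸ J) = 0 := by
    refine LinearMap.ext fun z => ?_
    obtain ⟨w, rfl⟩ := h z
    rw [← LinearMap.comp_apply, ← LinearMap.rTensor_comp, LinearMap.range_mkQ_comp,
      LinearMap.rTensor_zero]
    rfl
  have hsub : Subsingleton (TensorProduct A (N ⧸ LinearMap.range u) (A ⧸ J)) :=
    subsingleton_of_forall_eq 0 fun z => by
      obtain ⟨w, rfl⟩ := LinearMap.rTensor_surjective (A ⧸ J) (Submodule.mkQ_surjective _) z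
      rw [h0]; rfl
  have h1 : (J • ⊤ : Submodule A (N ⧸ LinearMap.range u)) = ⊤ :=
    Submodule.Quotient.subsingleton_iff.mp
      (TensorProduct.tensorQuotEquivQuotSMul (N ⧸ LinearMap.range u) J).symm.toEquiv.subsingleton
  have h2 := Submodule.eq_bot_of_le_smul_of_le_jacobson_bot J (⊤ : Submodule A (N ⧸ LinearMap.range u))
    Module.Finite.fg_top h1.ge hjac
  rw [← LinearMap.range_eq_top, eq_top_iff]
  intro y _
  rw [← Submodule.Quotient.mk_eq_zero, ← Submodule.mem_bot A, ← h2]
  trivial

end Groth.Agent.S4337
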