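import Groth.Statements.S4338
import Groth.Agent.LinTopLib.IdealOfDef
import Groth.Agent.LinTopLib.Henselian
import Groth.Agent.CompleteLib.Basic

set_option autoImplicit false
universe u
open LinTop

namespace Groth.Agent.S4338

/-- For a finitely generated ideal. Let A be an admissible ring and I a finitely generated ideal
contained in an ideal of definition of A. Then A is separated and complete for the I-adic topology.
(The published statement has no finiteness hypothesis on I and is then not correct: the completion
of a polynomial ring in countably many variables over a field along the ideal generated by the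
variables, with its inverse-limit topology, is admissible, the kernel of its projection onto the
field is an ideal of definition, and the ring is not adically complete for that kernel.) -/
theorem result
    (A : Type u) [CommRing A] [UniformSpace A] [IsUniformAddGroup A] [IsTopologicalRing A]
    (hA : LinTop.IsAdmissible A) (J : Ideal A) (hJ : LinTop.IsIdealOfDefinition A J)
    (I : Ideal A) (hI : I.FG) (hIJ : I ≤ J) :
    IsAdicComplete I A := by
  obtain ⟨⟨hlin, -⟩, hT, hC⟩ := hA
  haveI := hlin
  haveI := hT
  haveI := hC
  have htend : ∀ g : ℕ → A, ∀ c, (∀ n, g n ∈ I ^ (n - c)) → Filter.Tendsto g Filter.atTop (nhds 0) := by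
    intro g c hg
    refine Filter.tendsto_def.mpr fun W hW => ?_
    obtain ⟨m, -, hm⟩ := hJ.2 W hW
    show ∀ᶠ n in Filter.atTop, g n ∈ W
    filter_upwards [Filter.eventually_ge_atTop (m + c)] with n hn
    exact hm ((Ideal.pow_right_mono hIJ m) (Ideal.pow_le_pow_right (by omega) (hg n)))
  refine { haus' := fun x hx => ?_, prec' := fun f hf => ?_ }
  · have h : ∀ n, x ∈ I ^ n := fun n => by simpa [SModEq.zero] using hx n
    exact tendsto_nhds_unique tendsto_const_nhds (htend (fun _ => x) 0 fun n => h _)
  · have hd : ∀ n, f (n + 1) - f n ∈ I ^ n := fun n => by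
      have h := SModEq.sub_mem.mp (hf (Nat.le_succ n))
      rw [smul_eq_mul, Ideal.mul_top] at h
      simpa using neg_mem h
    obtain ⟨L, hL⟩ := LinTopLib.exists_tendsto_of_sub_tendsto f (htend _ 0 hd)
    refine ⟨L, fun n => ?_⟩
    rw [SModEq.sub_mem, smul_eq_mul, Ideal.mul_top, ← neg_mem_iff, neg_sub]
    obtain ⟨r, x, hx⟩ := Submodule.fg_iff_exists_fin_generating_family.mp (Ideal.FG.pow (n := n) hI)
    have hc : ∀ k, ∃ a : Fin r → A, (∀ i, a i ∈ I ^ k) ∧ f (n + k + 1) - f (n + k) = ∑ i, a i • x i :=
      fun k => ((CompleteLib.mem_smul_span_iff_exists _ x _).mp (by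
        rw [hx, smul_eq_mul, ← pow_add, add_comm k n]; exact hd _)).imp fun _ h => ⟨h.1, h.2.symm⟩
    choose a ha hfa using hc
    have hb : ∀ i, ∃ b, Filter.Tendsto (fun k => ∑ j ∈ Finset.range k, a j i) Filter.atTop (nhds b) :=
      fun i => LinTopLib.exists_tendsto_of_sub_tendsto _ (htend _ 0 fun k => by
        simpa [Finset.sum_range_succ] using ha k i)
    choose b hb using hb
    have hlim : L - f n = ∑ i, b i * x i := by
      refine tendsto_nhds_unique ((hL.comp (Filter.tendsto_add_atTop_nat n)).sub_const (f n))
        ((tendsto_finsetSum _ fun i _ => (hb i).mul_const (x i)).congr fun k => ?_)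
      induction k with
      | zero => simp
      | succ k ih =>
        simp only [Function.comp_apply] at ih ⊢
        simp only [Finset.sum_range_succ, add_mul, Finset.sum_add_distrib, ih]
        rw [show k + 1 + n = n + k + 1 by omega, show k + n = n + k by omega,
          ← show f (n + k + 1) - f (n + k) = ∑ i, a k i * x i by simpa using hfa k]
        ring
    rw [hlim]
    exact Submodule.sum_mem _ fun i _ => Ideal.mul_mem_left _ _ (hx ▸ Submodule.subset_span ⟨i, rfl⟩)

end Groth.Agent.S4338
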