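import Groth.Statements.S4340
import Groth.Agent.QCohLib.QcqsSections

set_option autoImplicit false
universe u
open QCohSup

namespace Groth.Agent.S4340

open AlgebraicGeometry in
open CategoryTheory in
open Opposite in
/-- Case of the trivial invertible sheaf. Let X be a quasi-compact scheme, f a global section of O_X, F
a quasi-coherent O_X-module and s a global section of F that restricts to zero on X_f. Then f^n s =
0 for some n > 0. (The published statement assumes X with Noetherian underlying space, or separated
and quasi-compact; for this part only quasi-compactness is used.) -/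
theorem result
    (X : Scheme.{u}) [CompactSpace X] (f : Γ(X, ⊤)) (F : X.Modules) [Coh.IsQCoh F]
    (s : F.val.obj (op ⊤))
    (hs : (F.val.map (homOfLE (le_top : X.basicOpen f ≤ ⊤)).op).hom s = 0) :
    ∃ n : ℕ, 0 < n ∧ (show X.ringCatSheaf.obj.obj (op ⊤) from f) ^ n • s = 0 := by
  obtain ⟨n, hn⟩ := QCohLib.exists_pow_smul_eq_zero (M := F) (W := (⊤ : X.Opens)) f ⊤
    (by simpa using isCompact_univ) le_rfl s (by
      have h := congr_arg (F.presheaf.map
        (homOfLE (inf_le_right : ⊤ ⊓ X.basicOpen f ≤ X.basicOpen f)).op) hs
      refine Eq.trans ?_ (h.trans (map_zero (ConcreteCategory.hom (F.presheaf.map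
        (homOfLE (inf_le_right : ⊤ ⊓ X.basicOpen f ≤ X.basicOpen f)).op))))
      exact (QCohLib.map_map' F _ _ s).symm)
  refine ⟨n + 1, Nat.succ_pos n, ?_⟩
  rw [pow_succ', mul_smul]
  refine (congr_arg _ ?_).trans (smul_zero _)
  simp only [homOfLE_refl, op_id, CategoryTheory.Functor.map_id] at hn
  exact hn

end Groth.Agent.S4340
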