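import Groth.Statements.S4341
import Groth.Agent.QCohLib.QcqsSections

set_option autoImplicit false
universe u
open QCohSup

namespace Groth.Agent.S4341

open AlgebraicGeometry in
open CategoryTheory in
open Opposite in
/-- Case of the trivial invertible sheaf. Let X be a quasi-compact quasi-separated scheme, f a global
section of O_X, F a quasi-coherent O_X-module and t a section of F over X_f. Then there is an n > 0
such that f^n t is the restriction of a global section of F. (The published statement assumes X with
Noetherian underlying space, or separated and quasi-compact; both are quasi-compact quasi-separated,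
which is what the argument uses: a finite affine cover with quasi-compact pairwise intersections.) -/
theorem result
    (X : Scheme.{u}) [CompactSpace X] [QuasiSeparatedSpace X] (f : Γ(X, ⊤))
    (F : X.Modules) [Coh.IsQCoh F] (t : F.val.obj (op (X.basicOpen f))) :
    ∃ n : ℕ, 0 < n ∧ ∃ s : F.val.obj (op ⊤),
      (F.val.map (homOfLE (le_top : X.basicOpen f ≤ ⊤)).op).hom s =
        (show X.ringCatSheaf.obj.obj (op (X.basicOpen f)) from
          X.presheaf.map (homOfLE (le_top : X.basicOpen f ≤ ⊤)).op f) ^ n • t := by
  obtain ⟨n, s, hs⟩ := (QCohLib.localizingAt_of_qcqs F (W := (⊤ : X.Opens))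
    (by simpa using isCompact_univ) (by simpa using isQuasiSeparated_univ) f).exists_extend t
  let s' : F.val.obj (op ⊤) := s
  refine ⟨n + 1, Nat.succ_pos n, (show X.ringCatSheaf.obj.obj (op ⊤) from f) • s', ?_⟩
  refine ((F.val.map_smul _ _ _).trans (congr_arg _ hs)).trans ?_
  rw [pow_succ', mul_smul]
  rfl

end Groth.Agent.S4341
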