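import Groth.Statements.S4343
import Mathlib
import Mathlib
-- import your own Groth.Agent.* helpers here

set_option autoImplicit false
universe u
open RatMapD

namespace Groth.Agent.S4343
open CategoryTheory AlgebraicGeometry TopologicalSpace

open AlgebraicGeometry in
open CategoryTheory in
/-- Let X, Y be S-schemes with X irreducible and Y locally of finite type over S. Two S-rational maps
from X to Y to which corresponds the same morphism Spec(O_x) -> Y, x the generic point of X, are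
equal. (The published statement has Y of finite type over S; only local finite type is used. X is
not assumed reduced.) -/
theorem result
    (S X Y : Scheme.{u}) [X.Over S] [Y.Over S] [IrreducibleSpace X]
    [LocallyOfFiniteType (Y ↘ S)] (f g : X ⤏ Y) [f.IsOver S] [g.IsOver S]
    (h : f.fromFunctionField = g.fromFunctionField) : f = g := by

  have core : ∀ {X' : Scheme.{u}} (a b : X' ⟶ Y), a ≫ (Y ↘ S) = b ≫ (Y ↘ S) → ∀ x : X',
      X'.fromSpecStalk x ≫ a = X'.fromSpecStalk x ≫ b → ∃ U : X'.Opens, x ∈ U ∧ U.ι ≫ a = U.ι ≫ b := by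
    intro X' a b hab x e
    have hpt : a x = b x := by simpa using congr($e (IsLocalRing.closedPoint _))
    have hst : a.stalkMap x = Y.presheaf.stalkSpecializes (Inseparable.of_eq hpt.symm).specializes ≫ b.stalkMap x := by
      apply Spec.map_injective
      rw [← cancel_mono (Y.fromSpecStalk _)]
      simpa [Scheme.SpecMap_stalkSpecializes_fromSpecStalk]
    obtain ⟨_, ⟨T : S.Opens, hT, rfl⟩, hxT, -⟩ :=
      S.isBasis_affineOpens.exists_subset_of_mem_open (Set.mem_univ ((Y ↘ S) (a x))) isOpen_univ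
    obtain ⟨_, ⟨V : Y.Opens, hV, rfl⟩, hxV, hVT⟩ :=
      Y.isBasis_affineOpens.exists_subset_of_mem_open (show a x ∈ (Y ↘ S) ⁻¹ᵁ T from hxT) ((Y ↘ S) ⁻¹ᵁ T).2
    obtain ⟨_, ⟨U : X'.Opens, hU, rfl⟩, hxU, hUV⟩ :=
      X'.isBasis_affineOpens.exists_subset_of_mem_open (show x ∈ (a ⁻¹ᵁ V) ⊓ (b ⁻¹ᵁ V) from ⟨hxV, (hpt ▸ hxV : b x ∈ V)⟩)
        ((a ⁻¹ᵁ V) ⊓ (b ⁻¹ᵁ V)).2
    have eUa : U ≤ a ⁻¹ᵁ V := fun y hy => (hUV hy).1
    have eUb : U ≤ b ⁻¹ᵁ V := fun y hy => (hUV hy).2
    have eVT : V ≤ (Y ↘ S) ⁻¹ᵁ T := hVT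
    obtain ⟨gens, hgens⟩ := (Scheme.Hom.finiteType_appLE (Y ↘ S) hT hV eVT : RingHom.FiniteType _)
    have hgerm : ∀ v, X'.presheaf.germ U x hxU (a.appLE V U eUa v) = X'.presheaf.germ U x hxU (b.appLE V U eUb v) := fun v => by
      change (a.appLE V U eUa ≫ X'.presheaf.germ U x hxU) v = (b.appLE V U eUb ≫ X'.presheaf.germ U x hxU) v
      simp [Scheme.Hom.appLE, ← Scheme.Hom.germ_stalkMap, hst]
    choose W hxW i₁ i₂ hW using fun v => X'.presheaf.germ_eq x hxU hxU _ _ (hgerm v)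
    obtain ⟨_, ⟨U' : X'.Opens, hU', rfl⟩, hxU', hU'W⟩ :=
      X'.isBasis_affineOpens.exists_subset_of_mem_open
        (show x ∈ gens.inf W ⊓ U from ⟨(Opens.coe_finset_inf (f := W) gens).symm ▸ by simp [hxW], hxU⟩)
        (gens.inf W ⊓ U).2
    have hle : U' ≤ U := fun y hy => (hU'W hy).2
    refine ⟨U', hxU', ?_⟩
    have e1 : U' ≤ a ⁻¹ᵁ V := hle.trans eUa
    have e2 : U' ≤ b ⁻¹ᵁ V := hle.trans eUb
    have key : a.appLE V U' e1 = b.appLE V U' e2 := by
      letI := ((Y ↘ S).appLE T V eVT).hom.toAlgebra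
      letI := ((Y ↘ S).appLE T V eVT ≫ a.appLE V U' e1).hom.toAlgebra
      have hbase : (Y ↘ S).appLE T V eVT ≫ a.appLE V U' e1 = (Y ↘ S).appLE T V eVT ≫ b.appLE V U' e2 := by
        rw [Scheme.Hom.appLE_comp_appLE, Scheme.Hom.appLE_comp_appLE]
        simp only [hab]
      let α : Γ(Y, V) →ₐ[Γ(S, T)] Γ(X', U') := { (a.appLE V U' e1).hom with commutes' := fun r => rfl }
      let β : Γ(Y, V) →ₐ[Γ(S, T)] Γ(X', U') :=
        { (b.appLE V U' e2).hom with commutes' := fun r => (congr($hbase r)).symm }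
      have : α = β := AlgHom.ext_of_adjoin_eq_top hgens fun v hv => by
        have hUW : U' ≤ W v := fun y hy => (Finset.inf_le (f := W) hv : gens.inf W ≤ W v) (hU'W hy).1
        change a.appLE V U' e1 v = b.appLE V U' e2 v
        rw [← Scheme.Hom.appLE_map a eUa (homOfLE hle).op, ← Scheme.Hom.appLE_map b eUb (homOfLE hle).op]
        simp only [CommRingCat.comp_apply]
        rw [show (homOfLE hle).op = (i₁ v).op ≫ (homOfLE hUW).op from rfl, Functor.map_comp]
        simp only [CommRingCat.comp_apply]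
        have := hW v
        rw [Subsingleton.elim (i₂ v) (i₁ v)] at this
        rw [this]
      ext v
      exact congrArg (fun φ : Γ(Y, V) →ₐ[Γ(S, T)] Γ(X', U') => φ v) this
    rw [← Scheme.Hom.resLE_comp_ι _ e1, ← Scheme.Hom.resLE_comp_ι _ e2]
    congr 1
    haveI : IsAffine V := hV
    suffices ∀ (U₀ V₀) (eU : U' = U₀) (eV : V = V₀), a.appLE V₀ U₀ (eU ▸ eV ▸ e1) = b.appLE V₀ U₀ (eU ▸ eV ▸ e2) by
      rw [← cancel_mono V.toScheme.isoSpec.hom]
      simp only [Scheme.isoSpec, asIso_hom, Scheme.toSpecΓ_naturality, Scheme.Hom.app_eq_appLE, Scheme.Hom.resLE_appLE]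
      congr 2
      apply this <;> simp
    rintro U₀ V₀ rfl rfl
    exact key
  obtain ⟨f', hf', rfl⟩ := Scheme.RationalMap.IsOver.exists_partialMap_over (S := S) (f := f)
  obtain ⟨g', hg', rfl⟩ := Scheme.RationalMap.IsOver.exists_partialMap_over (S := S) (f := g)
  rw [Scheme.RationalMap.fromFunctionField_toRationalMap, Scheme.RationalMap.fromFunctionField_toRationalMap] at h
  rw [Scheme.PartialMap.toRationalMap_eq_iff]
  have hdense : Dense ((f'.domain ⊓ g'.domain : X.Opens) : Set X) :=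
    f'.dense_domain.inter_of_isOpen_left g'.dense_domain f'.domain.2
  have hη : genericPoint X ∈ f'.domain ⊓ g'.domain :=
    (genericPoint_specializes _).mem_open (f'.domain ⊓ g'.domain).2 hdense.nonempty.choose_spec
  let D := f'.domain ⊓ g'.domain
  obtain ⟨U, hxU, e⟩ := core (X' := D.toScheme) (X.homOfLE inf_le_left ≫ f'.hom) (X.homOfLE inf_le_right ≫ g'.hom)
    (by simp [hf'.1, hg'.1]) ⟨genericPoint X, hη⟩ (by
      have H : f'.fromSpecStalkOfMem hη.1 = g'.fromSpecStalkOfMem hη.2 := h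
      rw [← f'.fromSpecStalkOfMem_restrict hdense inf_le_left hη,
        ← g'.fromSpecStalkOfMem_restrict hdense inf_le_right hη] at H
      change D.fromSpecStalkOfMem (genericPoint X) hη ≫ X.homOfLE inf_le_left ≫ f'.hom =
        D.fromSpecStalkOfMem (genericPoint X) hη ≫ X.homOfLE inf_le_right ≫ g'.hom at H
      simpa only [Scheme.Opens.fromSpecStalkOfMem, Spec.map_inv,
        Category.assoc, IsIso.eq_inv_comp, IsIso.hom_inv_id_assoc] using H)
  refine ⟨D.ι ''ᵁ U, (D.ι ''ᵁ U).2.dense ⟨_, ⟨_, hxU, rfl⟩⟩,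
    ((Set.image_subset_range _ _).trans_eq Subtype.range_val).trans inf_le_left,
    ((Set.image_subset_range _ _).trans_eq Subtype.range_val).trans inf_le_right, ?_⟩
  change X.homOfLE _ ≫ f'.hom = X.homOfLE _ ≫ g'.hom
  rw [← cancel_epi (Scheme.Hom.isoImage _ _).hom]
  simp only [← Category.assoc] at e ⊢
  convert! e using 2 <;> rw [← cancel_mono (Scheme.Opens.ι _)] <;> simp

end Groth.Agent.S4343
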