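import Groth.Statements.S4344
import Mathlib

set_option autoImplicit false
universe u
open RatMapD

namespace Groth.Agent.S4344


open AlgebraicGeometry CategoryTheory in
theorem aux_glue {X Y : AlgebraicGeometry.Scheme.{u}} {ι : Type u} (U : ι → X.Opens)
    (φ : ∀ i, (U i).toScheme ⟶ Y)
    (hc : ∀ i j, X.homOfLE (inf_le_left : U i ⊓ U j ≤ U i) ≫ φ i = X.homOfLE inf_le_right ≫ φ j) :
    ∃! g : (⨆ i, U i).toScheme ⟶ Y, ∀ i, X.homOfLE (le_iSup U i) ≫ g = φ i := by
  let 𝒰 : (⨆ i, U i).toScheme.OpenCover :=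
    { I₀ := ι
      X := fun i => (U i).toScheme
      f := fun i => X.homOfLE (le_iSup U i)
      mem₀ := by
        rw [Scheme.presieve₀_mem_precoverage_iff]
        refine ⟨fun x => ?_, inferInstance⟩
        obtain ⟨i, hi⟩ := TopologicalSpace.Opens.mem_iSup.1 x.2
        exact ⟨i, ⟨x.1, hi⟩, Subtype.ext (by simp)⟩ }
  refine ⟨𝒰.glueMorphisms φ fun i j => ?_, fun i => 𝒰.ι_glueMorphisms _ _ i,
    fun g hg => 𝒰.hom_ext _ _ fun i => (hg i).trans (𝒰.ι_glueMorphisms _ _ i).symm⟩
  refine (cancel_epi (isPullback_opens_inf_le (le_iSup U i) (le_iSup U j)).isoPullback.hom).mp ?_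
  simp only [𝒰, IsPullback.isoPullback_hom_fst_assoc, IsPullback.isoPullback_hom_snd_assoc]
  exact hc i j


open AlgebraicGeometry in
open CategoryTheory in
/-- Let X be a reduced S-scheme, Y an S-scheme separated over S and f an S-rational map from X to Y.
There is a representative g of f which is an S-morphism and of which every S-morphism representing f
is a restriction; in particular g is the unique S-morphism of the class of f defined on the largest
open where some S-representative is defined. (The published statement speaks of the domain of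
definition among all representatives; over a base that is not separated that domain can be larger
than the one on which an S-representative exists, and this row takes the latter.) -/
theorem result
    (S X Y : Scheme.{u}) [X.Over S] [Y.Over S] [IsReduced X] [IsSeparated (Y ↘ S)]
    (f : X ⤏ Y) [f.IsOver S] :
    ∃ g : X.PartialMap Y, g.IsOver S ∧ g.toRationalMap = f ∧
      ∀ h : X.PartialMap Y, h.IsOver S → h.toRationalMap = f →
        ∃ hle : h.domain ≤ g.domain, h = g.restrict h.domain h.dense_domain hle := by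
  open AlgebraicGeometry in
  open CategoryTheory in
  obtain ⟨g₀, hg₀, hg₀f⟩ := Scheme.RationalMap.exists_partialMap_over S f
  let ι := { h : X.PartialMap Y // h.IsOver S ∧ h.toRationalMap = f }
  have hc : ∀ i j : ι, X.homOfLE (inf_le_left : i.1.domain ⊓ j.1.domain ≤ i.1.domain) ≫ i.1.hom =
      X.homOfLE inf_le_right ≫ j.1.hom := fun i j => by
    haveI := i.2.1
    haveI := j.2.1
    exact (Scheme.PartialMap.equiv_iff_of_isSeparated (S := S) (f := i.1) (g := j.1)).1
      (Scheme.PartialMap.toRationalMap_eq_iff.1 (i.2.2.trans j.2.2.symm))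
  obtain ⟨φ, hφ, -⟩ := aux_glue (fun i : ι => i.1.domain) (fun i => i.1.hom) hc
  let g : X.PartialMap Y := ⟨⨆ i : ι, i.1.domain,
    g₀.dense_domain.mono (le_iSup (fun i : ι => i.1.domain) ⟨g₀, hg₀, hg₀f⟩), φ⟩
  have hres : ∀ i : ι, i.1 = g.restrict i.1.domain i.1.dense_domain (le_iSup (fun i : ι => i.1.domain) i) :=
    fun i => (congrArg (fun ψ => (⟨i.1.domain, i.1.dense_domain, ψ⟩ : X.PartialMap Y)) (hφ i)).symm
  refine ⟨g, ?_, ?_, fun h hh hhf => ⟨le_iSup (fun i : ι => i.1.domain) ⟨h, hh, hhf⟩, hres ⟨h, hh, hhf⟩⟩⟩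
  · rw [Scheme.PartialMap.isOver_iff]
    have e : φ ≫ (Y ↘ S) = (⨆ i : ι, i.1.domain).ι ≫ (X ↘ S) := by
      let U := fun i : ι => i.1.domain
      obtain ⟨ψ, -, hψ⟩ := aux_glue U (fun i => (U i).ι ≫ (X ↘ S)) (fun i j => by simp [U])
      have h1 : ∀ i : ι, X.homOfLE (le_iSup U i) ≫ φ ≫ (Y ↘ S) = (U i).ι ≫ (X ↘ S) := fun i => by
        haveI := i.2.1
        rw [← Category.assoc, hφ i]
        simpa [U] using Scheme.PartialMap.isOver_iff.1 i.2.1
      exact (hψ _ h1).trans (hψ ((⨆ i, U i).ι ≫ (X ↘ S)) (fun i => by simp)).symm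
    exact e
  · rw [← hg₀f]
    have := congrArg Scheme.PartialMap.toRationalMap (hres ⟨g₀, hg₀, hg₀f⟩)
    rw [Scheme.PartialMap.restrict_toRationalMap] at this
    exact this.symm
end Groth.Agent.S4344
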