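import Groth.Statements.S4347
import Groth.Agent.FlatCrit.Quotient
import Groth.Agent.CompleteLib.Noetherian
import Groth.Agent.S0543
import Mathlib.RingTheory.Flat.Localization
import Mathlib.RingTheory.Localization.LocalizationLocalization

set_option autoImplicit false
universe u
open AdicRing

namespace Groth.Agent.S4347

/-- The completed ring of fractions of A with denominators in a multiplicative subset being the J-adic
completion of the localization of A at that subset: Let A be a Noetherian ring with the J-adic
topology and S' a multiplicative subset contained in the multiplicative subset S. Then the canonical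
map from the completed ring of fractions of A with denominators in S' to the one with denominators
in S is flat. (The published statement assumes A adic, i.e. also separated and complete; that is not
needed for this assertion.) -/
theorem result
    (A : Type u) [CommRing A] [IsNoetherianRing A] (J : Ideal A) (S' S : Submonoid A) (hS : S' ≤ S)
    (g : Localization S' →+* Localization S)
    (hg : g.comp (algebraMap A (Localization S')) = algebraMap A (Localization S))
    (hJ : (J.map (algebraMap A (Localization S'))).map g ≤ J.map (algebraMap A (Localization S))) :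
    (FSch.complMap (J.map (algebraMap A (Localization S'))) (J.map (algebraMap A (Localization S)))
      g hJ).Flat := by
  set C := Localization S'
  set D := Localization S
  set K := J.map (algebraMap A C) with hKdef
  set L := J.map (algebraMap A D) with hLdef
  haveI : IsNoetherianRing C := IsLocalization.isNoetherianRing S' C inferInstance
  haveI : IsNoetherianRing D := IsLocalization.isNoetherianRing S D inferInstance
  have hgflat : g.Flat := by
    letI : Algebra C D := g.toAlgebra
    haveI : IsScalarTower A C D := IsScalarTower.of_algebraMap_eq' hg.symm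
    haveI := IsLocalization.isLocalization_of_submonoid_le C D S' S hS
    exact IsLocalization.flat D (S.map (algebraMap A C))
  have hKL : K.map g = L := by rw [hKdef, Ideal.map_map, hg]
  haveI : IsNoetherianRing (AdicCompletion K C) := Groth.Agent.S0543.result C K
  haveI : IsNoetherianRing (AdicCompletion L D) := Groth.Agent.S0543.result D L
  set ψ := FSch.complMap K L g hJ with hψ
  have heval : ∀ (m : ℕ) (x : AdicCompletion K C), AdicCompletion.evalₐ L m (ψ x) =
      Ideal.quotientMap (L ^ m) g (FSch.pow_le_comap_pow_of_map_le K L g hJ m)
        (AdicCompletion.evalₐ K m x) := fun m x => by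
    rw [hψ]
    unfold FSch.complMap
    refine AdicCompletion.evalₐ_liftRingHom L
      (fun k => (Ideal.quotientMap (L ^ k) g (FSch.pow_le_comap_pow_of_map_le K L g hJ k)).comp
        (AdicCompletion.evalₐ K k).toRingHom) (fun {a b} hle => ?_) m x
    refine RingHom.ext fun z => ?_
    obtain ⟨y, rfl⟩ := AdicCompletion.mk_surjective K C z
    have hy' : (y : ℕ → C) b - (y : ℕ → C) a ∈ K ^ a := by
      have hy := y.2 hle
      rw [SModEq.sub_mem, smul_eq_mul, Ideal.mul_top] at hy
      rw [← neg_sub]; exact (K ^ a).neg_mem hy
    simp only [RingHom.coe_comp, Function.comp_apply, AlgHom.toRingHom_eq_coe, AlgHom.coe_toRingHom,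
      AdicCompletion.evalₐ_mk, Ideal.quotientMap_mk, Ideal.Quotient.factorPow, Ideal.Quotient.factor_mk]
    rw [Ideal.Quotient.eq, ← map_sub]
    exact FSch.pow_le_comap_pow_of_map_le K L g hJ a hy'
  have hcompat : ψ.comp (algebraMap C (AdicCompletion K C)) =
      (algebraMap D (AdicCompletion L D)).comp g := by
    refine RingHom.ext fun c => AdicCompletion.ext_evalₐ fun m => ?_
    rw [RingHom.comp_apply, heval, AlgHom.commutes, RingHom.comp_apply, AlgHom.commutes]
    exact Ideal.quotientMap_mk (J := K ^ m)
  letI : Algebra (AdicCompletion K C) (AdicCompletion L D) := ψ.toAlgebra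
  set Kc := K.map (algebraMap C (AdicCompletion K C))
  set Lc := L.map (algebraMap D (AdicCompletion L D))
  have hKLc : Kc.map ψ = Lc := by rw [Ideal.map_map, hcompat, ← Ideal.map_map, hKL]
  haveI : IsAdicComplete Lc (AdicCompletion L D) :=
    (IsAdicComplete.map_algebraMap_iff _ _).mpr (AdicCompletion.isAdicComplete (IsNoetherian.noetherian L))
  show Module.Flat (AdicCompletion K C) (AdicCompletion L D)
  refine FlatCrit.flat_of_flat_quotientMap Kc ?_ fun m => ?_
  · show Kc.map ψ ≤ _
    rw [hKLc]; exact IsAdicComplete.le_jacobson_bot Lc
  have hker : ∀ {T : Type u} [CommRing T] [IsNoetherianRing T] (M : Ideal T),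
      RingHom.ker (AdicCompletion.evalₐ M m).toRingHom =
        (M ^ m).map (algebraMap T (AdicCompletion M T)) := by
    intro T _ _ M
    refine le_antisymm (fun x hx => ?_) (Ideal.map_le_iff_le_comap.mpr fun y hy => ?_)
    · have h1 : x ∈ (M ^ m • ⊤ : Submodule T (AdicCompletion M T)) := by
        rw [AdicCompletion.pow_smul_top_eq_ker_eval (IsNoetherian.noetherian M), LinearMap.mem_ker]
        have hx' : AdicCompletion.evalₐ M m x = 0 := hx
        rw [← AdicCompletion.factor_evalₐ_eq_eval (h := by simp), hx', map_zero]
      rw [Ideal.smul_top_eq_map] at h1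
      exact h1
    · show AdicCompletion.evalₐ M m (algebraMap T (AdicCompletion M T) y) = 0
      rw [AlgHom.commutes, Ideal.Quotient.algebraMap_eq, Ideal.Quotient.eq_zero_iff_mem]
      exact hy
  have hbar : (Ideal.quotientMap (L ^ m) g (FSch.pow_le_comap_pow_of_map_le K L g hJ m)).Flat := by
    letI : Algebra C D := g.toAlgebra
    haveI : Module.Flat C D := hgflat
    have h := FlatCrit.flat_quotientMap (S := D) (K ^ m)
    have he : (K ^ m).map g = L ^ m := by rw [Ideal.map_pow, hKL]
    have h2 := h.comp (RingHom.Flat.of_bijective (f := (Ideal.quotEquivOfEq (show (K ^ m).map (algebraMap C D) = L ^ m from he)).toRingHom)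
      (Ideal.quotEquivOfEq (show (K ^ m).map (algebraMap C D) = L ^ m from he)).bijective)
    convert! h2 using 1
    refine Ideal.Quotient.ringHom_ext (RingHom.ext fun c => ?_)
    simp
    rfl
  let eC := RingHom.quotientKerEquivOfSurjective (f := (AdicCompletion.evalₐ K m).toRingHom)
    (AdicCompletion.surjective_evalₐ K m)
  let eD := RingHom.quotientKerEquivOfSurjective (f := (AdicCompletion.evalₐ L m).toRingHom)
    (AdicCompletion.surjective_evalₐ L m)
  have hC : (Kc ^ m) = RingHom.ker (AdicCompletion.evalₐ K m).toRingHom := by
    rw [hker K, Ideal.map_pow]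
  have hD : (Kc ^ m).map ψ = RingHom.ker (AdicCompletion.evalₐ L m).toRingHom := by
    rw [hker L, Ideal.map_pow, hKLc, Ideal.map_pow]
  let iC := (Ideal.quotEquivOfEq hC).trans eC
  let iD := (Ideal.quotEquivOfEq hD).trans eD
  have hfin := ((RingHom.Flat.of_bijective (f := iC.toRingHom) iC.bijective).comp hbar).comp
    (RingHom.Flat.of_bijective (f := iD.symm.toRingHom) iD.symm.bijective)
  convert! hfin using 1
  refine Ideal.Quotient.ringHom_ext (RingHom.ext fun x => ?_)
  apply iD.injective
  simp only [RingHom.coe_comp, Function.comp_apply, RingEquiv.toRingHom_eq_coe, RingHom.coe_coe,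
    Ideal.quotientMap_mk, RingEquiv.apply_symm_apply]
  exact heval m x

end Groth.Agent.S4347
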