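import Groth.Statements.S4348
import Mathlib
import Groth.Agent.QCohLib.Push
import Groth.Agent.KFlatLib.QCohPull
-- import your own Groth.Agent.* helpers here

set_option autoImplicit false
universe u
open QCohSup

namespace Groth.Agent.S4348

open AlgebraicGeometry in
open CategoryTheory in
open CategoryTheory.Limits in
/-- Let X be a scheme and U an open subscheme such that the inclusion j : U -> X is quasi-compact. For a
quasi-coherent O_X-module F and a quasi-coherent submodule G of F|U, the canonical extension of G to
X (the preimage of j_*(G) under F -> j_*(F|U), here the fibre product in the category of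
O_X-modules) is quasi-coherent. -/
theorem result
    {X : Scheme.{u}} (U : X.Opens) [QuasiCompact U.ι] (F : X.Modules) [Coh.IsQCoh F]
    (G : (U : Scheme.{u}).Modules) [Coh.IsQCoh G]
    (i : G ⟶ (Scheme.Modules.pullback U.ι).obj F) [Mono i] :
    Coh.IsQCoh (pullback ((Scheme.Modules.pushforward U.ι).map i)
      ((Scheme.Modules.pullbackPushforwardAdjunction U.ι).unit.app F)) := by
  let A := (Scheme.Modules.pushforward U.ι).obj G
  let B := (Scheme.Modules.pullback U.ι).obj F
  let f := (Scheme.Modules.pushforward U.ι).map i
  let g := (Scheme.Modules.pullbackPushforwardAdjunction U.ι).unit.app F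
  have hA : Coh.IsQCoh A := QCohLib.isQCoh_pushforward _ _
  have hB : Coh.IsQCoh B := KFlatLib.isQCoh_pullback _ _
  have hC : Coh.IsQCoh ((Scheme.Modules.pushforward U.ι).obj B) := QCohLib.isQCoh_pushforward _ _
  have hS : Coh.IsQCoh (A ⊞ (𝟭 X.Modules).obj F) := by
    refine QCohLib.isQCoh_of_isColimit (fun R => inferInstance) (D := pair A ((𝟭 X.Modules).obj F)) ?_ (c := (BinaryBiproduct.bicone A ((𝟭 X.Modules).obj F)).toCocone) (BinaryBiproduct.isColimit A ((𝟭 X.Modules).obj F))
    rintro ⟨⟨⟩⟩ <;> assumption
  have hk : Coh.IsQCoh (kernel (biprod.desc f (-g))) := by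
    haveI := hS
    haveI : Coh.IsQCoh ((Scheme.Modules.pushforward U.ι).obj B) := hC
    exact QCohLib.isQCoh_kernel _
  refine @QCohLib.isQCoh_of_iso _ _ _ ?_ hk
  exact (kernelIsKernel _).conePointUniqueUpToIso (CategoryTheory.Abelian.PullbackToBiproductIsKernel.isLimitPullbackToBiproduct f g)

end Groth.Agent.S4348
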