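import Groth.Statements.S4349
import Mathlib
-- import your own Groth.Agent.* helpers here

set_option autoImplicit false
universe u
open RatFun

namespace Groth.Agent.S4349

open AlgebraicGeometry CategoryTheory

open AlgebraicGeometry in
open AlgebraicGeometry CategoryTheory in
theorem eq_zero_aux {J : Type u} [SmallCategory J] [IsFiltered J]
    (F : J ⥤ CommRingCat.{u}) {j : J} (s : F.obj j) :
    (Limits.colimit.ι F j).hom s = 0 → ∃ (k : J) (i : j ⟶ k), (F.map i).hom s = 0 := by
  intro h
  obtain ⟨k, i, i', e⟩ := (Limits.Concrete.colimit_rep_eq_iff_exists F s (0 : F.obj j)).1 (h.trans (map_zero _).symm)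
  exact ⟨k, i, e.trans (map_zero _)⟩

/-- Second assertion (in the form: sections over a dense open inject into the ring of rational
functions). Let X be a reduced scheme and V a dense open subset of X. The canonical map from the
sections of O_X over V to the ring R(X) of rational functions on X is injective. (The published
statement also assumes X locally integral or locally Noetherian; that hypothesis serves the
quasi-coherence of the sheaf of rational functions and is not needed here.) -/
theorem result (X : Scheme.{u}) [IsReduced X]
    (V : X.Opens) (hV : Dense (V : Set X)) :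
    Function.Injective (RatFun.toRing X V hV) := by
  have : IsFiltered ((RatFun.IsDenseOpen X).FullSubcategory)ᵒᵖ := by
    have : Nonempty ((RatFun.IsDenseOpen X).FullSubcategory)ᵒᵖ := ⟨Opposite.op ⟨V, hV⟩⟩
    exact
      { cocone_objs := fun a b => ⟨Opposite.op ⟨a.unop.obj ⊓ b.unop.obj,
            (a.unop.property.inter_of_isOpen_left b.unop.property a.unop.obj.2 : _)⟩,
          (ObjectProperty.homMk (homOfLE inf_le_left)).op, (ObjectProperty.homMk (homOfLE inf_le_right)).op, trivial⟩
        cocone_maps := fun a b f g => ⟨b, 𝟙 b, by
          apply Quiver.Hom.unop_inj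
          exact ObjectProperty.hom_ext _ (Subsingleton.elim _ _)⟩ }
  refine (injective_iff_map_eq_zero (RatFun.toRing X V hV).hom).2 fun s hs => ?_
  obtain ⟨W, i, hi⟩ := eq_zero_aux (j := Opposite.op ⟨V, hV⟩) (RatFun.sectionsOnDense X) s hs
  refine eq_zero_of_basicOpen_eq_bot s (eq_bot_iff.2 fun y hy => ?_)
  obtain ⟨z, hz⟩ := W.unop.property.inter_open_nonempty _ (X.basicOpen s).2 ⟨y, hy⟩
  have : z ∈ W.unop.obj ⊓ X.basicOpen s := ⟨hz.2, hz.1⟩
  rw [← Scheme.basicOpen_res X s i.unop.hom.op] at this
  rw [show (X.presheaf.map i.unop.hom.op).hom s = 0 from hi, Scheme.basicOpen_zero] at this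
  exact this.elim

end Groth.Agent.S4349
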