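import Groth.Statements.S4350
import Groth.Agent.RatFunLib.Basic
import Groth.Agent.AmpleLib.Gen
import Groth.Agent.QCohLib.Modules
import Groth.Agent.ZClosLib.Criterion

-- import your own Groth.Agent.* helpers here

set_option autoImplicit false
universe u
open TorSh

namespace Groth.Agent.S4350

open CategoryTheory AlgebraicGeometry TopologicalSpace RatFunLib Opposite in
theorem germ_generic_injective {X : Scheme.{u}} [IsIntegral X] {F : X.Modules} [Coh.IsQCoh F] (hF : TorSh.IsTorsionFree F)
    {U : X.Opens} (hη : genericPoint X ∈ U) (m : Γ(F, U)) (h : F.presheaf.germ U _ hη m = 0) : m = 0 := by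
  refine TopCat.Presheaf.section_ext (⟨F.presheaf, F.isSheaf⟩ : TopCat.Sheaf AddCommGrpCat _) U m 0 fun x hx => ?_
  rw [map_zero]
  obtain ⟨W, hW, hxW, hWU⟩ := exists_isAffineOpen_mem_and_subset (x := x) (U := U) hx
  have hWU' : W ≤ U := fun y hy => hWU hy
  have hηW : genericPoint X ∈ W := nonempty_of_mem hxW
  obtain ⟨O, hO, i₁, i₂, e⟩ := TopCat.Presheaf.germ_eq F.presheaf _ hη hη m 0 (h.trans (map_zero _).symm)
  obtain ⟨r, hr, hηr⟩ := hW.exists_basicOpen_le (V := O) ⟨genericPoint X, hO⟩ hηW
  let m' : Γ(F, W) := F.presheaf.map (homOfLE hWU').op m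
  have h1 : F.presheaf.map (homOfLE (X.basicOpen_le r)).op m' = 0 := by
    refine (QCohLib.map_map' F (homOfLE (X.basicOpen_le r)) (homOfLE hWU') m).trans ?_
    rw [show homOfLE (X.basicOpen_le r) ≫ homOfLE hWU' = homOfLE hr ≫ i₁ from rfl, op_comp, Functor.map_comp]
    change F.presheaf.map (homOfLE hr).op (F.presheaf.map i₁.op m) = 0
    rw [show F.presheaf.map i₁.op m = 0 from e.trans (map_zero _), map_zero]
  obtain ⟨n, hn⟩ := (QCohLib.localizingAt_of_isQCoh hW F r).eq_zero m' h1
  have h2 : r ^ n • m' = 0 := by simpa using hn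
  have h3 := congrArg (F.presheaf.germ W x hxW) h2
  rw [AmpleLib.germ_smul, map_zero, TopCat.Presheaf.germ_res_apply] at h3
  haveI := hF x
  refine (smul_eq_zero.1 h3).resolve_left fun h4 => ?_
  rw [map_pow] at h4
  have h5 : r = 0 := germ_injective_of_isIntegral X x hxW ((eq_zero_of_pow_eq_zero h4).trans (map_zero _).symm)
  rw [h5, Scheme.basicOpen_zero] at hηr
  exact hηr

open CategoryTheory AlgebraicGeometry TopologicalSpace RatFunLib Opposite in
theorem main {X : Scheme.{u}} [IsIntegral X] (F : X.Modules) [Coh.IsQCoh F] (hF : TorSh.IsTorsionFree F)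
    (h1 : Module.finrank (K X) (F.presheaf.stalk (genericPoint X)) = 1) : ∃ i : F ⟶ ratMod X, Mono i := by
  classical
  obtain ⟨v, hv, hspan⟩ := finrank_eq_one_iff'.1 h1
  let c : K X →ₗ[K X] F.presheaf.stalk (genericPoint X) := LinearMap.toSpanSingleton _ _ v
  have hc : Function.Bijective c :=
    ⟨(injective_iff_map_eq_zero c).2 fun a ha => (smul_eq_zero.1 ha).resolve_right hv, hspan⟩
  let co := (LinearEquiv.ofBijective c hc).symm
  let φ : ∀ U : X.Opens, Γ(F, U) →+ Γ(ratMod X, U) := fun U =>
    if h : genericPoint X ∈ U then (mk U).comp (co.toLinearMap.toAddMonoidHom.comp (F.presheaf.germ U _ h).hom)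
    else 0
  have hφ : ∀ (U : X.Opens) (h : genericPoint X ∈ U) (m : Γ(F, U)),
      φ U m = mk U (co (F.presheaf.germ U _ h m)) := fun U h m => by
    simp only [φ, dif_pos h]
    rfl
  have hnat : ∀ {U V : X.Opens} (i : V ⟶ U) (m : Γ(F, U)),
      φ V (F.presheaf.map i.op m) = (ratMod X).presheaf.map i.op (φ U m) := fun {U V} i m => by
    by_cases h : genericPoint X ∈ V
    · rw [hφ V h, hφ U (i.le h), TopCat.Presheaf.germ_res_apply, show i = homOfLE i.le from rfl, res_mk]
    · exact @Subsingleton.elim _ (subsingleton_sec h) _ _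
  have hlin : ∀ (U : X.Opens) (r : Γ(X, U)) (m : Γ(F, U)), φ U (r • m) = r • φ U m := fun U r m => by
    by_cases h : genericPoint X ∈ U
    · refine ev_injective h ?_
      rw [ev_smul, hφ U h, hφ U h, ev_mk, ev_mk, AmpleLib.germ_smul, map_smul, smul_eq_mul]
    · exact @Subsingleton.elim _ (subsingleton_sec h) _ _
  let i : F ⟶ ratMod X := ⟨PresheafOfModules.homMk (M₁ := F.val) (M₂ := (ratMod X).val)
    { app := fun U => AddCommGrpCat.ofHom (φ U.unop)
      naturality := fun U V j => ConcreteCategory.hom_ext _ _ fun m => hnat j.unop m }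
    (fun U r m => hlin U.unop r m)⟩
  refine ⟨i, ZClosLib.mono_of_app_injective i fun U => (injective_iff_map_eq_zero _).2 fun m hm => ?_⟩
  change φ U m = 0 at hm
  by_cases h : genericPoint X ∈ U
  · refine germ_generic_injective hF h m (co.map_eq_zero_iff.1 ?_)
    rw [← ev_mk h (co _), ← hφ U h, hm, map_zero]
  · refine TopCat.Presheaf.section_ext (⟨F.presheaf, F.isSheaf⟩ : TopCat.Sheaf AddCommGrpCat _) U m 0 fun x hx =>
      absurd (nonempty_of_mem hx) h


open AlgebraicGeometry in
open CategoryTheory in
/-- Direct assertion (the sheaf of rational functions of the integral scheme X being the direct image of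
the structure sheaf of Spec of the function field under its canonical morphism to X). On an integral
scheme, a quasi-coherent torsion-free O_X-module of rank 1, i.e. whose stalk at the generic point is
one-dimensional over the function field (for instance an invertible module), is isomorphic to a
sub-O_X-module of the sheaf of rational functions. (The published statement adds a converse, which
for the zero submodule does not hold as stated; it is not included here.) -/
theorem result
    (X : Scheme.{u}) [IsIntegral X] (F : X.Modules) [Coh.IsQCoh F] (hF : TorSh.IsTorsionFree F)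
    (h1 : Module.finrank (X.presheaf.stalk (genericPoint X)) (F.presheaf.stalk (genericPoint X)) = 1) :
    ∃ i : F ⟶ (Scheme.Modules.pushforward (X.fromSpecStalk (genericPoint X))).obj
        (Coh.structureModule (Spec (X.presheaf.stalk (genericPoint X)))), Mono i := by
  exact main F hF h1


end Groth.Agent.S4350
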