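import Groth.Statements.S4355
import Mathlib
import Groth.Agent.QCSubLib.Steps
import Groth.Agent.QCSubLib.Img
-- import your own Groth.Agent.* helpers here

set_option autoImplicit false
universe u v
open QCohSup

namespace Groth.Agent.S4355

open AlgebraicGeometry in
open CategoryTheory in
/-- Let X be a scheme, L a well-ordered set and (V_l) a cover of X by affine opens indexed by L such
that, for every l, the intersection of V_l with the union of the V_m, m < l, is quasi-compact; let U
be an open subset of X whose inclusion morphism is quasi-compact. Then for every quasi-coherent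
O_X-module F and every quasi-coherent subsheaf of finite type G of F restricted to U there is a
quasi-coherent subsheaf of finite type G' of F whose restriction to U is G. -/
theorem result
    {X : Scheme.{u}} {L : Type v} [LinearOrder L] [WellFoundedLT L]
    (V : L → X.Opens) (hV : ∀ l, IsAffineOpen (V l)) (hcov : ⨆ l, V l = ⊤)
    (hW : ∀ l, IsCompact ((V l : Set X) ∩ ⋃ m ∈ Set.Iio l, (V m : Set X)))
    (U : X.Opens) [QuasiCompact U.ι] (F : X.Modules) [Coh.IsQCoh F]
    (G : (U : Scheme.{u}).Modules) (i : G ⟶ F.restrict U.ι) [Mono i]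
    [Coh.IsQCoh G] (hG : CohB1.IsFT G) :
    ∃ (G' : X.Modules) (i' : G' ⟶ F) (e : G'.restrict U.ι ≅ G), Mono i' ∧ Coh.IsQCoh G' ∧ CohB1.IsFT G' ∧
      e.hom ≫ i = (Scheme.Modules.restrictFunctor U.ι).map i' := by
  classical
  obtain ⟨hc, hft⟩ := QCSubLib.imgSub_canon_ft U F G i hG
  let P : X.Opens → Prop := fun O => ∃ T : Set L, IsLowerSet T ∧ O = U ⊔ ⨆ m ∈ T, V m
  have hsup : ∀ (κ : Type u) (g : κ → X.Opens), Nonempty κ → (∀ k, P (g k)) → P (⨆ k, g k) := by
    intro κ g hne hg
    choose T hT hgT using hg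
    refine ⟨⋃ k, T k, isLowerSet_iUnion hT, le_antisymm (iSup_le fun k => ?_) (sup_le ?_ (iSup₂_le fun m hm => ?_))⟩
    · rw [hgT k]
      exact sup_le_sup_left (biSup_mono fun m hm => Set.mem_iUnion.mpr ⟨k, hm⟩) U
    · obtain ⟨k⟩ := hne
      exact le_iSup_of_le k ((hgT k) ▸ le_sup_left)
    · obtain ⟨k, hk⟩ := Set.mem_iUnion.mp hm
      exact le_iSup_of_le k ((hgT k) ▸ le_sup_of_le_right (le_biSup V hk))
  have hstep : ∀ O, P O → O ≠ ⊤ → ∃ W : X.Opens, IsAffineOpen W ∧
      IsCompact ((W ⊓ O : X.Opens) : Set X) ∧ ¬ W ≤ O ∧ P (O ⊔ W) := by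
    intro O hO hne
    obtain ⟨T, hT, rfl⟩ := hO
    have hex : {l : L | ¬ V l ≤ U ⊔ ⨆ m ∈ T, V m}.Nonempty := by
      by_contra h
      exact hne (eq_top_iff.mpr (hcov ▸ iSup_le fun l => not_not.mp fun hl => h ⟨l, hl⟩))
    let l := wellFounded_lt.min _ hex
    have hl : ¬ V l ≤ U ⊔ ⨆ m ∈ T, V m := wellFounded_lt.min_mem _ hex
    have hlT : ∀ m ∈ T, m < l := fun m hm => lt_of_not_ge fun h =>
      hl (le_sup_of_le_right (le_biSup V (hT h hm)))
    have hlow : ∀ m < l, V m ≤ U ⊔ ⨆ m ∈ T, V m := fun m hm => not_not.mp fun h =>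
      wellFounded_lt.not_lt_min {l : L | ¬ V l ≤ U ⊔ ⨆ m ∈ T, V m} h hm
    have hO' : U ⊔ ⨆ m ∈ T, V m = U ⊔ ⨆ m ∈ Set.Iio l, V m :=
      le_antisymm (sup_le_sup_left (biSup_mono hlT) U)
        (sup_le le_sup_left (iSup₂_le hlow))
    refine ⟨V l, hV l, ?_, hl, Set.Iic l, isLowerSet_Iic l, le_antisymm ?_ ?_⟩
    · have h1 : IsCompact ((V l : Set X) ∩ (U : Set X)) := by
        have h := ((QuasiCompact.isCompact_preimage (f := U.ι) (V l) (V l).2 (hV l).isCompact)).image
          U.ι.continuous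
        rwa [Set.image_preimage_eq_inter_range, Scheme.Opens.range_ι] at h
      rw [hO', inf_sup_left]
      refine h1.union ?_
      convert hW l using 1
      simp only [TopologicalSpace.Opens.coe_inf, TopologicalSpace.Opens.coe_iSup]
    · rw [hO']
      exact sup_le (sup_le_sup_left (biSup_mono fun m (hm : m < l) => hm.le) U)
        (le_sup_of_le_right (le_biSup V (Set.self_mem_Iic)))
    · refine sup_le (le_sup_of_le_left le_sup_left) (iSup₂_le fun m (hm : m ≤ l) => ?_)
      rcases hm.eq_or_lt with rfl | h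
      · exact le_sup_right
      · exact le_sup_of_le_left (hlow m h)
  obtain ⟨S, hSft, hS⟩ := QCohLib.LocSub.exists_ftExtension_of_steps P hsup hstep U
    ⟨∅, fun _ _ _ h => h, by simp⟩ _ hc hft
  obtain ⟨e, he⟩ := Groth.Agent.S2250.exists_restrict_iso i S hS
  exact ⟨S.toModules, S.ι, e, inferInstance, QCohLib.LocSub.isQCoh_toModules S hSft,
    QCohLib.LocSub.isFT_toModules S hSft, he⟩

end Groth.Agent.S4355
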