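import Groth.Statements.S4356
import Groth.Agent.RatFunLib.Basic
import Groth.Agent.AmpleLib.Gen
import Groth.Agent.QCohLib.Modules
import Groth.Agent.DevissLib.Stalk

-- import your own Groth.Agent.* helpers here

set_option autoImplicit false
universe u
open TorSh

namespace Groth.Agent.S4356

open CategoryTheory AlgebraicGeometry TopologicalSpace RatFunLib Opposite in
theorem app_res {X : Scheme.{u}} {M N : X.Modules} (φ : M ⟶ N) {U V : X.Opens} (h : V ≤ U) (x : Γ(M, U)) :
    φ.app V (M.presheaf.map (homOfLE h).op x) = N.presheaf.map (homOfLE h).op (φ.app U x) :=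
  ConcreteCategory.congr_hom (φ.mapPresheaf.naturality (homOfLE h).op) x

open CategoryTheory AlgebraicGeometry TopologicalSpace RatFunLib Opposite in
theorem app_inj {X : Scheme.{u}} {M N : X.Modules} (φ : M ⟶ N) [Mono φ] (U : X.Opens) :
    Function.Injective (φ.app U) := QCohLib.app_injective_of_mono φ U

open CategoryTheory AlgebraicGeometry TopologicalSpace RatFunLib Opposite in
theorem germ_eq_zero {X : Scheme.{u}} [IsIntegral X] {G : X.Modules} (i : G ⟶ ratMod X) [Mono i]
    {W : X.Opens} {x : X} (hx : x ∈ W) (m : Γ(G, W)) :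
    G.presheaf.germ W x hx m = 0 ↔ ev (nonempty_of_mem hx) (i.app W m) = 0 := by
  constructor
  · intro h
    obtain ⟨O, hxO, i₁, i₂, e⟩ := TopCat.Presheaf.germ_eq G.presheaf x hx hx m 0 (h.trans (map_zero _).symm)
    rw [← ev_res (nonempty_of_mem hxO) i₁.le, ← app_res, show G.presheaf.map (homOfLE i₁.le).op m = 0 from e.trans (map_zero _),
      map_zero, map_zero]
  · intro h
    have h1 : m = 0 := app_inj i W (ev_injective (nonempty_of_mem hx) (by rw [h, map_zero, map_zero]))
    rw [h1, map_zero]

open CategoryTheory AlgebraicGeometry TopologicalSpace RatFunLib Opposite in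
theorem main {X : Scheme.{u}} [IsIntegral X] (G : X.Modules) [Coh.IsQCoh G] (i : G ⟶ ratMod X) [Mono i]
    (hG : ¬ Limits.IsZero G) :
    TorSh.IsTorsionFree G ∧ Module.finrank (K X) (G.presheaf.stalk (genericPoint X)) = 1 := by
  constructor
  · intro x
    refine .of_smul_eq_zero fun c m hcm => ?_
    by_contra hne
    push Not at hne
    obtain ⟨W, hxW, r, rfl⟩ := X.presheaf.exists_germ_eq (x := x) c
    obtain ⟨W', hxW', t, rfl⟩ := TopCat.Presheaf.exists_germ_eq (F := G.presheaf) (x := x) m
    let O := W ⊓ W'
    have hxO : x ∈ O := ⟨hxW, hxW'⟩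
    rw [← TopCat.Presheaf.germ_res_apply X.presheaf (homOfLE (inf_le_left : O ≤ W)) x hxO r,
      ← TopCat.Presheaf.germ_res_apply G.presheaf (homOfLE (inf_le_right : O ≤ W')) x hxO t,
      ← AmpleLib.germ_smul, germ_eq_zero i hxO, Scheme.Modules.Hom.app_smul, ev_smul, mul_eq_zero] at hcm
    rcases hcm with h | h
    · refine hne.1 ?_
      rw [← TopCat.Presheaf.germ_res_apply X.presheaf (homOfLE (inf_le_left : O ≤ W)) x hxO r,
        germ_injective_of_isIntegral X _ (nonempty_of_mem hxO) (h.trans (map_zero _).symm), map_zero]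
    · refine hne.2 ?_
      rw [← TopCat.Presheaf.germ_res_apply G.presheaf (homOfLE (inf_le_right : O ≤ W')) x hxO t, germ_eq_zero i hxO]
      exact h
  · obtain ⟨W, x, hx, m, hm⟩ : ∃ (W : X.Opens) (x : X) (hx : x ∈ W) (m : Γ(G, W)), G.presheaf.germ W x hx m ≠ 0 := by
      by_contra hc
      push Not at hc
      refine hG (DevissLib.isZero_of_support_empty (Set.eq_empty_of_forall_notMem fun x hx => ?_))
      refine hx ?_
      refine ⟨fun a b => ?_⟩
      obtain ⟨W, hxW, a, rfl⟩ := TopCat.Presheaf.exists_germ_eq (F := G.presheaf) (x := x) a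
      obtain ⟨W', hxW', b, rfl⟩ := TopCat.Presheaf.exists_germ_eq (F := G.presheaf) (x := x) b
      exact (hc W x hxW a).trans (hc W' x hxW' b).symm
    have hη : genericPoint X ∈ W := nonempty_of_mem hx
    refine finrank_eq_one_iff'.2 ⟨G.presheaf.germ W _ hη m, ?_, fun w => ?_⟩
    · rw [Ne, germ_eq_zero i hη]
      exact fun h => hm ((germ_eq_zero i hx m).2 h)
    obtain ⟨W', hW', n, rfl⟩ := TopCat.Presheaf.exists_germ_eq (F := G.presheaf) (x := genericPoint X) w
    let O := W ⊓ W'
    have hO : genericPoint X ∈ O := ⟨hη, hW'⟩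
    let a := ev hη (i.app W m)
    let b := ev hW' (i.app W' n)
    have ha : a ≠ 0 := fun h => hm ((germ_eq_zero i hx m).2 h)
    obtain ⟨T, hT, r, hr⟩ := X.presheaf.exists_germ_eq (x := genericPoint X) (b / a)
    let Q := O ⊓ T
    have hQ : genericPoint X ∈ Q := ⟨hO, hT⟩
    refine ⟨b / a, ?_⟩
    rw [← sub_eq_zero, ← hr, ← TopCat.Presheaf.germ_res_apply X.presheaf (homOfLE (inf_le_right : Q ≤ T)) _ hQ r,
      ← TopCat.Presheaf.germ_res_apply G.presheaf (homOfLE (inf_le_left.trans inf_le_left : Q ≤ W)) _ hQ m,
      ← TopCat.Presheaf.germ_res_apply G.presheaf (homOfLE (inf_le_left.trans inf_le_right : Q ≤ W')) _ hQ n,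
      ← AmpleLib.germ_smul, ← map_sub, germ_eq_zero i hQ, map_sub, map_sub, Scheme.Modules.Hom.app_smul, ev_smul,
      app_res, app_res, ev_res, ev_res, TopCat.Presheaf.germ_res_apply, hr, sub_eq_zero]
    exact div_mul_cancel₀ _ ha


open AlgebraicGeometry in
open CategoryTheory in
/-- Converse assertion (the sheaf of rational functions of the integral scheme X being modelled as the
direct image of the structure sheaf of Spec of the function field under its canonical morphism to
X). On an integral scheme, a nonzero quasi-coherent sub-O_X-module of the sheaf of rational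
functions is torsion-free of rank 1: every stalk is a torsion-free module over the local ring, and
the stalk at the generic point is one-dimensional over the function field. (The published statement
does not exclude the zero submodule, whose generic stalk has dimension 0; it is excluded here.) -/
theorem result
    (X : Scheme.{u}) [IsIntegral X] (G : X.Modules) [Coh.IsQCoh G]
    (i : G ⟶ (Scheme.Modules.pushforward (X.fromSpecStalk (genericPoint X))).obj
        (Coh.structureModule (Spec (X.presheaf.stalk (genericPoint X))))) [Mono i]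
    (hG : ¬ Limits.IsZero G) :
    TorSh.IsTorsionFree G ∧
      Module.finrank (X.presheaf.stalk (genericPoint X)) (G.presheaf.stalk (genericPoint X)) = 1 := by
  exact main G i hG


end Groth.Agent.S4356
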