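import Groth.Statements.S4359
import Mathlib
-- helpers

set_option autoImplicit false
universe u
open FinCond

namespace Groth.Agent.S4359

open AlgebraicGeometry in
open CategoryTheory in
/-- Let S be a locally Noetherian scheme, p : X -> S a morphism of finite type (locally of finite type
and quasi-compact) and q : Y -> S any morphism. Then every morphism f : X -> Y with f followed by q
equal to p is of finite type, that is, locally of finite type and quasi-compact. -/
theorem result
    {X Y S : Scheme.{u}} [IsLocallyNoetherian S] (p : X ⟶ S) (q : Y ⟶ S)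
    [LocallyOfFiniteType p] [QuasiCompact p] (f : X ⟶ Y) (hf : f ≫ q = p) :
    LocallyOfFiniteType f ∧ QuasiCompact f := by
  haveI : LocallyOfFiniteType (f ≫ q) := hf ▸ ‹LocallyOfFiniteType p›
  refine ⟨locallyOfFiniteType_of_comp f q, ⟨fun V hV hVc => ?_⟩⟩
  obtain ⟨t, ht⟩ := hVc.elim_finite_subcover (fun W : S.affineOpens => q.base ⁻¹' (W.1 : Set S))
    (fun W => W.1.isOpen.preimage q.continuous) (fun y _ => by
      obtain ⟨W, hW, hx, -⟩ := exists_isAffineOpen_mem_and_subset (U := ⊤) (x := q.base y) trivial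
      exact Set.mem_iUnion.mpr ⟨⟨W, hW⟩, hx⟩)
  have key : ∀ W : S.affineOpens, IsCompact ((f.base ⁻¹' V) ∩ (p.base ⁻¹' (W.1 : Set S))) := fun W => by
    let O := p ⁻¹ᵁ W.1
    haveI : IsAffine W.1.toScheme := W.2
    haveI : IsLocallyNoetherian W.1.toScheme := inferInstance
    haveI : CompactSpace W.1.toScheme := isCompact_iff_compactSpace.mp W.2.isCompact
    haveI : IsNoetherian W.1.toScheme := ⟨⟩
    haveI : LocallyOfFiniteType (p ∣_ W.1) := IsZariskiLocalAtTarget.restrict ‹LocallyOfFiniteType p› W.1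
    haveI : QuasiCompact (p ∣_ W.1) := IsZariskiLocalAtTarget.restrict ‹QuasiCompact p› W.1
    haveI : IsLocallyNoetherian O.toScheme := LocallyOfFiniteType.isLocallyNoetherian (p ∣_ W.1)
    haveI : CompactSpace O.toScheme := QuasiCompact.compactSpace_of_compactSpace (p ∣_ W.1)
    haveI : IsNoetherian O.toScheme := ⟨⟩
    have h : IsCompact (O.ι.base ⁻¹' (f.base ⁻¹' V)) := TopologicalSpace.NoetherianSpace.isCompact _
    have := h.image O.ι.continuous
    rwa [Set.image_preimage_eq_inter_range, Scheme.Opens.range_ι] at this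
  have e : f.base ⁻¹' V = ⋃ W ∈ t, (f.base ⁻¹' V) ∩ (p.base ⁻¹' (W.1 : Set S)) := by
    ext x
    simp only [Set.mem_iUnion, Set.mem_inter_iff, exists_prop]
    refine ⟨fun hx => ?_, fun ⟨_, _, hx, _⟩ => hx⟩
    obtain ⟨W, hW, hx'⟩ := Set.mem_iUnion₂.mp (ht hx)
    exact ⟨W, hW, hx, by rw [← hf]; exact hx'⟩
  rw [e]
  exact t.finite_toSet.isCompact_biUnion fun W _ => key W

end Groth.Agent.S4359
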