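import Groth.Statements.S4361
import Mathlib

set_option autoImplicit false
universe u
open FinCond

namespace Groth.Agent.S4361

open AlgebraicGeometry in
open CategoryTheory in
/-- Let f : X -> Y and g : Y -> Z be morphisms whose composite is quasi-compact, and suppose the
underlying space of X is locally Noetherian (every point has an open neighbourhood which is a
Noetherian topological space). Then f is quasi-compact. (The published statement also covers the
case g separated, which is the standard cancellation property; this row states only the case of a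
locally Noetherian source.) -/
theorem result
    {X Y Z : Scheme.{u}} (f : X ⟶ Y) (g : Y ⟶ Z) [QuasiCompact (f ≫ g)]
    (hX : ∀ x : X, ∃ U : X.Opens, x ∈ U ∧ TopologicalSpace.NoetherianSpace U) :
    QuasiCompact f := by
  refine ⟨fun W hW hWc => ?_⟩
  obtain ⟨K, hK, hKc, hWK⟩ : ∃ K : Set Z, IsOpen K ∧ IsCompact K ∧ g '' W ⊆ K := by
    choose A hA hzA using fun z : Z => exists_isAffineOpen_mem_and_subset (x := z) (U := ⊤) trivial
    obtain ⟨t, ht⟩ := (hWc.image g.continuous).elim_finite_subcover (fun z => (A z : Set Z))
      (fun z => (A z).isOpen) (fun z _ => Set.mem_iUnion.2 ⟨z, (hzA z).1⟩)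
    exact ⟨_, isOpen_biUnion fun z _ => (A z).isOpen,
      t.finite_toSet.isCompact_biUnion fun z _ => (hA z).isCompact, ht⟩
  have hc : IsCompact ((f ≫ g) ⁻¹' K) := QuasiCompact.isCompact_preimage K hK hKc
  choose N hN hNn using hX
  obtain ⟨t, ht⟩ := hc.elim_finite_subcover (fun y => (N y : Set X)) (fun y => (N y).isOpen)
    (fun y _ => Set.mem_iUnion.2 ⟨y, hN y⟩)
  have hsub : f ⁻¹' W ⊆ ⋃ y ∈ t, (N y : Set X) := fun x hx => ht (hWK ⟨f x, hx, rfl⟩)
  rw [← Set.inter_eq_left.2 hsub, Set.inter_iUnion₂]
  refine t.finite_toSet.isCompact_biUnion fun y _ => ?_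
  have : TopologicalSpace.NoetherianSpace (N y : Set X) := hNn y
  have h2 := (TopologicalSpace.NoetherianSpace.isCompact
    (Subtype.val ⁻¹' (f ⁻¹' W) : Set (N y : Set X))).image continuous_subtype_val
  rwa [Subtype.image_preimage_coe, Set.inter_comm] at h2

end Groth.Agent.S4361
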