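import Groth.Statements.S4363
import Mathlib

set_option autoImplicit false
universe u v
open RedSep

namespace Groth.Agent.S4363

open CategoryTheory CategoryTheory.Limits AlgebraicGeometry TopologicalSpace

variable {X Y : Scheme.{u}} (f : X ⟶ Y)

/-- The graph chart. -/
noncomputable def gr (U V : X.Opens) : ((U ⊓ V : X.Opens) : Scheme.{u}) ⟶ pullback (U.ι ≫ f) (V.ι ≫ f) :=
  pullback.lift (X.homOfLE inf_le_left) (X.homOfLE inf_le_right) (by simp)

theorem isPullback_gr (U V : X.Opens) :
    IsPullback ((U ⊓ V).ι) (gr f U V) (pullback.diagonal f)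
      (pullback.map (U.ι ≫ f) (V.ι ≫ f) f f U.ι V.ι (𝟙 _) (Category.comp_id _) (Category.comp_id _)) := by
  have h := pullback_map_diagonal_isPullback U.ι V.ι f
  refine h.of_iso (isPullback_opens_inf U V).isoPullback.symm (Iso.refl _) (Iso.refl _) (Iso.refl _) ?_ ?_ ?_ ?_
  · rw [Iso.refl_hom, Category.comp_id, Iso.symm_hom, ← cancel_epi (isPullback_opens_inf U V).isoPullback.hom,
      Iso.hom_inv_id_assoc, IsPullback.isoPullback_hom_fst_assoc, Scheme.homOfLE_ι]
  · rw [Iso.refl_hom, Category.comp_id, Iso.symm_hom, ← cancel_epi (isPullback_opens_inf U V).isoPullback.hom,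
      Iso.hom_inv_id_assoc]
    apply pullback.hom_ext
    · rw [Category.assoc, pullback.map, pullback.lift_fst, gr, pullback.lift_fst, Category.comp_id,
        IsPullback.isoPullback_hom_fst]
    · rw [Category.assoc, pullback.map, pullback.lift_snd, gr, pullback.lift_snd, Category.comp_id,
        IsPullback.isoPullback_hom_snd]
  · simp
  · simp

theorem range_homOfLE_appTop {U W : X.Opens} (h : W ≤ U) (a : Γ(X, U)) :
    (X.homOfLE h).appTop.hom (U.topIso.inv.hom a) = W.topIso.inv.hom ((X.presheaf.map (homOfLE h).op).hom a) := by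
  rw [← CommRingCat.comp_apply, ← CommRingCat.comp_apply]
  congr 2
  simp [Scheme.Hom.appTop]
  erw [← Functor.map_comp, ← Functor.map_comp]
  rfl

theorem closed_iff [IsAffine Y] {U V : X.Opens} (hU : IsAffineOpen U) (hV : IsAffineOpen V) :
    IsClosedImmersion (gr f U V) ↔ (IsAffineOpen (U ⊓ V) ∧
      Subring.closure (Set.range (X.presheaf.map (homOfLE (inf_le_left : U ⊓ V ≤ U)).op).hom ∪
        Set.range (X.presheaf.map (homOfLE (inf_le_right : U ⊓ V ≤ V)).op).hom) = ⊤) := by
  haveI : IsAffine U.toScheme := hU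
  haveI : IsAffine V.toScheme := hV
  let Pl := pullback (U.ι ≫ f) (V.ι ≫ f)
  let W := U ⊓ V
  have po := isPushout_appTop_of_isPullback (IsPullback.of_hasPullback (U.ι ≫ f) (V.ι ≫ f))
  have hgen : Subring.closure (Set.range (pullback.fst (U.ι ≫ f) (V.ι ≫ f)).appTop.hom ∪
      Set.range (pullback.snd (U.ι ≫ f) (V.ι ≫ f)).appTop.hom) = ⊤ := by
    let K := Subring.closure (Set.range (pullback.fst (U.ι ≫ f) (V.ι ≫ f)).appTop.hom ∪
      Set.range (pullback.snd (U.ι ≫ f) (V.ι ≫ f)).appTop.hom)
    let i' := CommRingCat.ofHom ((pullback.fst (U.ι ≫ f) (V.ι ≫ f)).appTop.hom.codRestrict K fun a =>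
      Subring.subset_closure (Or.inl ⟨a, rfl⟩))
    let j' := CommRingCat.ofHom ((pullback.snd (U.ι ≫ f) (V.ι ≫ f)).appTop.hom.codRestrict K fun a =>
      Subring.subset_closure (Or.inr ⟨a, rfl⟩))
    have hc : (U.ι ≫ f).appTop ≫ i' = (V.ι ≫ f).appTop ≫ j' := CommRingCat.hom_ext (RingHom.ext fun r =>
      Subtype.ext congr($(po.w).hom r))
    have hd : po.desc i' j' hc ≫ CommRingCat.ofHom K.subtype = 𝟙 _ := po.hom_ext
      (by rw [IsPushout.inl_desc_assoc, Category.comp_id]; rfl)
      (by rw [IsPushout.inr_desc_assoc, Category.comp_id]; rfl)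
    refine eq_top_iff.2 fun p _ => ?_
    have := congr($(hd).hom p)
    exact (congrArg (· ∈ K) this).mp (SetLike.coe_mem _)
  let e : Γ(X, W) →+* Γ(W.toScheme, ⊤) := W.topIso.inv.hom
  have he : Function.Bijective e := ConcreteCategory.bijective_of_isIso W.topIso.inv
  let ψ := (gr f U V).appTop.hom
  have h1 : ψ '' Set.range (pullback.fst (U.ι ≫ f) (V.ι ≫ f)).appTop.hom =
      e '' Set.range (X.presheaf.map (homOfLE (inf_le_left : W ≤ U)).op).hom := by
    rw [← Set.range_comp, ← Set.range_comp, ← (ConcreteCategory.bijective_of_isIso U.topIso.inv).2.range_comp]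
    refine congrArg Set.range (funext fun a => ?_)
    refine Eq.trans ?_ (range_homOfLE_appTop (inf_le_left : W ≤ U) a)
    exact congr($(show (pullback.fst (U.ι ≫ f) (V.ι ≫ f)).appTop ≫ (gr f U V).appTop =
      (X.homOfLE (inf_le_left : W ≤ U)).appTop by rw [← Scheme.Hom.comp_appTop, gr, pullback.lift_fst]).hom _)
  have h2 : ψ '' Set.range (pullback.snd (U.ι ≫ f) (V.ι ≫ f)).appTop.hom =
      e '' Set.range (X.presheaf.map (homOfLE (inf_le_right : W ≤ V)).op).hom := by
    rw [← Set.range_comp, ← Set.range_comp, ← (ConcreteCategory.bijective_of_isIso V.topIso.inv).2.range_comp]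
    refine congrArg Set.range (funext fun a => ?_)
    refine Eq.trans ?_ (range_homOfLE_appTop (inf_le_right : W ≤ V) a)
    exact congr($(show (pullback.snd (U.ι ≫ f) (V.ι ≫ f)).appTop ≫ (gr f U V).appTop =
      (X.homOfLE (inf_le_right : W ≤ V)).appTop by rw [← Scheme.Hom.comp_appTop, gr, pullback.lift_snd]).hom _)
  have himg : ψ.range = (Subring.closure (Set.range (X.presheaf.map (homOfLE (inf_le_left : W ≤ U)).op).hom ∪
      Set.range (X.presheaf.map (homOfLE (inf_le_right : W ≤ V)).op).hom)).map e := by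
    rw [RingHom.map_closure, Set.image_union, ← h1, ← h2, ← Set.image_union, ← RingHom.map_closure, hgen,
      RingHom.range_eq_map]
  constructor
  · intro hc
    obtain ⟨ha, hs⟩ := IsClosedImmersion.isAffine_surjective_of_isAffine (gr f U V)
    refine ⟨ha, ?_⟩
    rw [← Subring.comap_map_eq_self_of_injective he.1 (Subring.closure _), ← himg, RingHom.range_eq_top.2 hs, Subring.comap_top]
  · rintro ⟨ha, hs⟩
    haveI : IsAffine W.toScheme := ha
    refine IsClosedImmersion.of_surjective_of_isAffine _ ((RingHom.range_eq_top (f := ψ)).1 ?_)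
    rw [himg, hs, ← RingHom.range_eq_map, RingHom.range_eq_top.2 he.2]

open AlgebraicGeometry in
open CategoryTheory in
/-- Let Y be an affine scheme, f : X -> Y a morphism and (U i) a cover of X by affine open subschemes.
Then f is separated if and only if, for every pair of indices i, j, the intersection of U i and U j
is an affine open and its ring of sections is generated, as a ring, by the images of the rings of
sections of U i and of U j under the restriction maps. -/
theorem result
    {X Y : Scheme.{u}} [IsAffine Y] (f : X ⟶ Y) {ι : Type v} (U : ι → X.Opens)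
    (hU : ∀ i, IsAffineOpen (U i)) (hcov : ⨆ i, U i = ⊤) :
    IsSeparated f ↔ ∀ i j, IsAffineOpen (U i ⊓ U j) ∧
      Subring.closure (Set.range (X.presheaf.map (homOfLE (inf_le_left : U i ⊓ U j ≤ U i)).op).hom ∪
        Set.range (X.presheaf.map (homOfLE (inf_le_right : U i ⊓ U j ≤ U j)).op).hom) = ⊤ := by
  refine ⟨fun h i j => ?_, fun h => ?_⟩
  · rw [← closed_iff f (hU i) (hU j)]
    exact MorphismProperty.of_isPullback (isPullback_gr f (U i) (U j)) h.diagonal_isClosedImmersion
  · let 𝒰 : Scheme.OpenCover.{v} X := X.openCoverOfIsOpenCover U (IsOpenCover.mk hcov)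
    refine ⟨(IsZariskiLocalAtTarget.iff_of_openCover (P := @IsClosedImmersion)
      (Scheme.Pullback.openCoverOfLeftRight 𝒰 𝒰 f f)).2 fun ij => ?_⟩
    refine (MorphismProperty.arrow_mk_iso_iff @IsClosedImmersion
      (Arrow.isoMk (isPullback_gr f (U ij.1) (U ij.2)).isoPullback (Iso.refl _) ?_)).1
        ((closed_iff f (hU ij.1) (hU ij.2)).2 (h ij.1 ij.2))
    rw [Iso.refl_hom, Category.comp_id]
    exact IsPullback.isoPullback_hom_snd _

end Groth.Agent.S4363
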