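import Groth.Statements.S4364
import Groth.Agent.Sweep9Lib.SpreadOut

set_option autoImplicit false
universe u
open FinCond

namespace Groth.Agent.S4364

open AlgebraicGeometry in
open CategoryTheory in
/-- Let X and Y be S-schemes with Y locally of finite type over S, and let f, g : X -> Y be S-morphisms.
If f x = g x for some point x and the two induced homomorphisms of local rings O_{Y, f x} -> O_{X,
x} coincide, then f and g coincide on an open neighbourhood of x. No condition is imposed on X. (The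
published statement assumes Y of finite type over S; this row assumes Y only locally of finite type
over S, which is all the published proof uses.) -/
theorem result
    {X Y S : Scheme.{u}} (sX : X ⟶ S) (sY : Y ⟶ S) [LocallyOfFiniteType sY]
    (f g : X ⟶ Y) (hf : f ≫ sY = sX) (hg : g ≫ sY = sX) {x : X} (e : f x = g x)
    (H : f.stalkMap x =
      Y.presheaf.stalkSpecializes (Inseparable.of_eq e.symm).specializes ≫ g.stalkMap x) :
    ∃ U : X.Opens, x ∈ U ∧ U.ι ≫ f = U.ι ≫ g := by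
  obtain ⟨_, ⟨W, hW, rfl⟩, hxW, -⟩ :=
    S.isBasis_affineOpens.exists_subset_of_mem_open (Set.mem_univ (sX x)) isOpen_univ
  have hfW : f x ∈ sY ⁻¹ᵁ W := by
    change (f ≫ sY) x ∈ W
    rw [hf]; exact hxW
  obtain ⟨V, hxV, hVW, hV⟩ := Sweep9Lib.exists_affine_le hfW
  have hxV' : g x ∈ V := e ▸ hxV
  obtain ⟨U, hxU, hU', hUa⟩ := Sweep9Lib.exists_affine_le (W := f ⁻¹ᵁ V ⊓ g ⁻¹ᵁ V) (x := x) ⟨hxV, hxV'⟩
  have h1 := hU'.trans inf_le_left
  have h2 := hU'.trans inf_le_right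
  have hcongr : ∀ (a b : X ⟶ S), a = b → ∀ (ea : U ≤ a ⁻¹ᵁ W) (eb : U ≤ b ⁻¹ᵁ W),
      a.appLE W U ea = b.appLE W U eb := by
    rintro a b rfl ea eb; rfl
  have hab : sY.appLE W V hVW ≫ f.appLE V U h1 = sY.appLE W V hVW ≫ g.appLE V U h2 := by
    rw [Scheme.Hom.appLE_comp_appLE, Scheme.Hom.appLE_comp_appLE]
    exact hcongr _ _ (hf.trans hg.symm) _ _
  have hst : f.appLE V U h1 ≫ X.presheaf.germ U x hxU = g.appLE V U h2 ≫ X.presheaf.germ U x hxU := by
    simp only [Scheme.Hom.appLE, Category.assoc, X.presheaf.germ_res', ← Scheme.Hom.germ_stalkMap, H]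
    simp only [TopCat.Presheaf.germ_stalkSpecializes_assoc, Scheme.Hom.germ_stalkMap]
  obtain ⟨U₂, hU₂, hxU₂, -, hE⟩ := Sweep9Lib.exists_res_eq_of_finiteType (sY.appLE W V hVW)
    (sY.finiteType_appLE hW hV _) hxU _ _ hab hst
  rw [Scheme.Hom.appLE_map, Scheme.Hom.appLE_map] at hE
  refine ⟨U₂, hxU₂, ?_⟩
  rw [← Scheme.Hom.resLE_comp_ι f (hU₂.trans h1), ← Scheme.Hom.resLE_comp_ι g (hU₂.trans h2)]
  congr 1
  have : IsAffine V := hV
  refine ext_of_isAffine ?_
  simp only [Scheme.Hom.app_eq_appLE, Scheme.Hom.resLE_appLE]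
  have key : ∀ (U₀ : X.Opens) (V₀ : Y.Opens) (eU : U₂ = U₀) (eV : V = V₀) (ha : U₀ ≤ f ⁻¹ᵁ V₀)
      (hb : U₀ ≤ g ⁻¹ᵁ V₀), f.appLE V₀ U₀ ha = g.appLE V₀ U₀ hb := by
    rintro U₀ V₀ rfl rfl ha hb; exact hE
  apply key <;> simp

end Groth.Agent.S4364
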