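import Groth.Statements.S4365
import Mathlib
import Groth.Agent.DvrDom.Points

set_option autoImplicit false
universe u
open FinCond

namespace Groth.Agent.S4365

open CategoryTheory AlgebraicGeometry in
lemma exists_embedding {K Ω : Type u} [Field K] [Field Ω] [IsAlgClosed Ω] [Algebra K Ω] (t : ℕ → Ω)
    (ht : AlgebraicIndependent K t) (F : Type u) [Field F] [Algebra K F] [Algebra.EssFiniteType K F] :
    Nonempty (F →ₐ[K] Ω) := by
  classical
  obtain ⟨s, hs⟩ := IntermediateField.fg_top K F
  haveI : Algebra.IsAlgebraic (IntermediateField.adjoin K (s : Set F)) F := by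
    rw [hs]
    exact Algebra.IsAlgebraic.mk fun x => isAlgebraic_algebraMap (⟨x, trivial⟩ : (⊤ : IntermediateField K F))
  haveI : Algebra.IsAlgebraic (Algebra.adjoin K (s : Set F)) F := Algebra.IsAlgebraic.mk fun x => IntermediateField.isAlgebraic_adjoin_iff.1 (Algebra.IsAlgebraic.isAlgebraic x)
  obtain ⟨u, -, hu, hb⟩ := exists_isTranscendenceBasis_between ∅ (s : Set F) (Set.empty_subset _)
    ((algebraicIndependent_empty_iff ..).mpr (algebraMap K F).injective)
  haveI : Fintype u := (s.finite_toSet.subset hu).fintype
  let ι := fun i : u => t ((Fintype.equivFin u i : Fin (Fintype.card u)) : ℕ)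
  have hι : AlgebraicIndependent K ι :=
    ht.comp _ (Fin.val_injective.comp (Fintype.equivFin u).injective)
  let E := IntermediateField.adjoin K (Set.range ((↑) : u → F))
  let g : E →ₐ[K] Ω := (IntermediateField.val _).comp
    ((hb.1.aevalEquivField.symm.trans hι.aevalEquivField).toAlgHom)
  haveI : Algebra.IsAlgebraic E F := hb.isAlgebraic_field
  letI : Algebra E Ω := g.toRingHom.toAlgebra
  haveI : IsScalarTower K E Ω := IsScalarTower.of_algebraMap_eq fun x => (g.commutes x).symm
  exact ⟨(IsAlgClosed.lift : F →ₐ[E] Ω).restrictScalars K⟩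



open AlgebraicGeometry in
open CategoryTheory in
/-- Let K be a field, X and Y schemes locally of finite type over K, f : X -> Y a K-morphism and Ω an
algebraically closed extension field of K of infinite transcendence degree over K (there is an
algebraically independent sequence in Ω). Then f is surjective if and only if the map it induces
from the K-points of X with values in Ω to those of Y is surjective, i.e. every K-morphism Spec Ω ->
Y factors through f. (The published proposition assumes X and Y of finite type over K, and a later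
remark of the same text extends it to X and Y locally of finite type over K, the form stated here.) -/
theorem result
    (K Ω : Type u) [Field K] [Field Ω] [IsAlgClosed Ω] [Algebra K Ω]
    (t : ℕ → Ω) (ht : AlgebraicIndependent K t)
    {X Y : Scheme.{u}} (pX : X ⟶ Spec (CommRingCat.of K)) (pY : Y ⟶ Spec (CommRingCat.of K))
    [LocallyOfFiniteType pX] [LocallyOfFiniteType pY] (f : X ⟶ Y) (hf : f ≫ pY = pX) :
    Surjective f ↔ ∀ y : Spec (CommRingCat.of Ω) ⟶ Y,
      y ≫ pY = Spec.map (CommRingCat.ofHom (algebraMap K Ω)) →
        ∃ x : Spec (CommRingCat.of Ω) ⟶ X, x ≫ f = y := by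
  haveI : LocallyOfFiniteType f := by
    haveI : LocallyOfFiniteType (f ≫ pY) := by rw [hf]; infer_instance
    exact locallyOfFiniteType_of_comp f pY
  constructor
  · intro hs y hy
    let Z := Limits.pullback f y
    obtain ⟨p⟩ : Nonempty (Spec (CommRingCat.of Ω)) := inferInstance
    haveI : Surjective (Limits.pullback.snd f y) := inferInstance
    obtain ⟨z₀, -⟩ := (Limits.pullback.snd f y).surjective p
    haveI : JacobsonSpace (Limits.pullback f y : Scheme.{u}) :=
      LocallyOfFiniteType.jacobsonSpace (Limits.pullback.snd f y)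
    obtain ⟨z, hz⟩ : ∃ z : (Limits.pullback f y : Scheme.{u}), IsClosed ({z} : Set _) := by
      obtain ⟨z, -, hz⟩ := nonempty_inter_closedPoints (Z := (Set.univ : Set (Limits.pullback f y : Scheme.{u})))
        ⟨z₀, trivial⟩ isOpen_univ.isLocallyClosed
      exact ⟨z, hz⟩
    let σ := pointOfClosedPoint (Limits.pullback.snd f y) z hz
    have hσ : σ ≫ Limits.pullback.snd f y = 𝟙 _ := pointOfClosedPoint_comp _ z hz
    refine ⟨σ ≫ Limits.pullback.fst f y, ?_⟩
    rw [Category.assoc, Limits.pullback.condition, reassoc_of% hσ]
  · intro h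
    refine ⟨fun y => ?_⟩
    let ψ₀ := Spec.preimage (Y.fromSpecResidueField y ≫ pY)
    letI : Algebra K (Y.residueField y) := ψ₀.hom.toAlgebra
    haveI : Algebra.EssFiniteType K (Y.residueField y) := by
      have e : (Scheme.ΓSpecIso (CommRingCat.of K)).hom ≫ ψ₀ = DvrDomLib.resEval pY y ⊤ trivial := by
        refine DvrDomLib.resEval_eq_of_specMap pY y (isAffineOpen_top _) trivial _ ?_
        rw [Spec.map_comp, IsAffineOpen.fromSpec_top, Scheme.isoSpec_Spec_inv, Category.assoc,
          ← Spec.map_comp, Iso.inv_hom_id, Spec.map_id, Category.comp_id, Spec.map_preimage]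
      have h2 := DvrDomLib.essFiniteType_resEval pY y (isAffineOpen_top _) (trivial : pY y ∈ (⊤ : (Spec (CommRingCat.of K)).Opens))
      rw [← e, CommRingCat.hom_comp] at h2
      exact RingHom.EssFiniteType.of_comp _ h2
    obtain ⟨g⟩ := exists_embedding t ht (Y.residueField y)
    have hy : (Spec.map (CommRingCat.ofHom g.toRingHom) ≫ Y.fromSpecResidueField y) ≫ pY =
        Spec.map (CommRingCat.ofHom (algebraMap K Ω)) := by
      rw [Category.assoc, ← Spec.map_preimage (Y.fromSpecResidueField y ≫ pY), ← Spec.map_comp]
      congr 1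
      ext r
      exact g.commutes r
    obtain ⟨x, hx1⟩ := h _ hy
    obtain ⟨p⟩ : Nonempty (Spec (CommRingCat.of Ω)) := inferInstance
    refine ⟨x p, ?_⟩
    rw [← Scheme.Hom.comp_apply]
    have : (x ≫ f) p = y := by
      rw [hx1, Scheme.Hom.comp_apply, Scheme.fromSpecResidueField_apply]
    exact this

end Groth.Agent.S4365
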