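import Groth.Statements.S4375
import Groth.Agent.QCohLib.SerreCrit
import Groth.Agent.LocSuppLib.LocFree

-- import your own Groth.Agent.* helpers here

set_option autoImplicit false
universe u
open CategoryTheory CategoryTheory.Limits AlgebraicGeometry
open EGA2

namespace Groth.Agent.S4375

open CategoryTheory CategoryTheory.Limits TopologicalSpace Opposite AlgebraicGeometry
open QCohLib (structMap)

variable {X : Scheme.{u}}

def Crit (X : Scheme.{u}) : Prop := ∀ (n : ℕ) (F F'' : X.Modules) (i : F ⟶ FlatMod.freeMod X n) (p : F ⟶ F''),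
      Mono i → Epi p → Coh.IsQCoh F → Coh.IsQCoh F'' →
        Function.Surjective (p.val.app (Opposite.op ⊤)).hom

theorem surj_unit (h : Crit X) {M : X.Modules} (φ : Coh.structureModule X ⟶ M) [Epi φ] [hM : Coh.IsQCoh M]
    (s : Γ(M, ⊤)) : ∃ t : Γ(Coh.structureModule X, ⊤), φ.app ⊤ t = s :=
  h 1 _ _ (Sigma.ι (fun _ : Fin 1 => Coh.structureModule X) 0) φ inferInstance inferInstance
    QCohLib.isQCoh_unit hM s

theorem exists_free_cover (t : Finset Γ(X, ⊤)) :
    ∃ (n : ℕ) (φ : FlatMod.freeMod X n ⟶ Coh.structureModule X),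
      (∀ e, (show Γ(X, ⊤) from φ.app ⊤ e) ∈ (Ideal.span (t : Set Γ(X, ⊤)) : Ideal Γ(X, ⊤))) ∧
      ∀ f ∈ t, ∃ j : Coh.structureModule X ⟶ FlatMod.freeMod X n, j ≫ φ = QCohLib.mulBy f := by
  classical
  let c : Fin t.card → Γ(X, ⊤) := fun i => (t.equivFin.symm i).1
  let φ : FlatMod.freeMod X t.card ⟶ Coh.structureModule X := Sigma.desc fun i => QCohLib.mulBy (c i)
  refine ⟨t.card, φ, fun e => ?_, fun f hf => ⟨Sigma.ι (fun _ : Fin t.card => Coh.structureModule X) (t.equivFin ⟨f, hf⟩), ?_⟩⟩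
  · let π : Fin t.card → (FlatMod.freeMod X t.card ⟶ Coh.structureModule X) := fun i =>
      Sigma.desc fun j => if j = i then 𝟙 _ else 0
    have he : φ = ∑ i, π i ≫ QCohLib.mulBy (c i) := by
      refine Sigma.hom_ext _ _ fun j => ?_
      simp [φ, π, Preadditive.comp_sum, ite_comp]
    rw [he]
    have hs : ∀ S : Finset (Fin t.card), (show Γ(X, ⊤) from (∑ i ∈ S, π i ≫ QCohLib.mulBy (c i)).app ⊤ e) ∈
        (Ideal.span (t : Set Γ(X, ⊤)) : Ideal Γ(X, ⊤)) := by
      intro S
      induction S using Finset.induction_on with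
      | empty => rw [Finset.sum_empty]; exact zero_mem _
      | insert a S ha ih =>
        rw [Finset.sum_insert ha]
        refine add_mem (S := Ideal Γ(X, ⊤)) ?_ ih
        change (show Γ(X, ⊤) from (QCohLib.mulBy (c a)).app ⊤ _) ∈ _
        rw [QCohLib.mulBy_app]
        refine Ideal.mul_mem_left _ _ (Ideal.subset_span ?_)
        have hmem : c a ∈ t := (t.equivFin.symm a).2
        simpa using hmem
    exact hs Finset.univ
  · simp [φ, c]

/-- A global function separating a closed point from a closed set. -/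
theorem exists_global_separating (h : Crit X)
    (U : X.Opens) {x : X} (hx : IsClosed ({x} : Set X)) (hxU : x ∈ U) :
    ∃ f : Γ(X, ⊤), x ∈ X.basicOpen f ∧ X.basicOpen f ≤ U := by
  let Z : Closeds X := ⟨(U : Set X)ᶜ ∪ {x}, U.isOpen.isClosed_compl.union hx⟩
  let I := Scheme.IdealSheafData.vanishingIdeal Z
  let i := I.subschemeι
  have hr : Set.range i = (U : Set X)ᶜ ∪ {x} := by
    rw [I.range_subschemeι, Scheme.IdealSheafData.coe_support_vanishingIdeal]
    rfl
  let A : I.subscheme.Opens := i ⁻¹ᵁ U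
  let B : I.subscheme.Opens := i ⁻¹ᵁ ⟨{x}ᶜ, hx.isOpen_compl⟩
  have hAB : A ⊓ B ≤ ⊥ := fun w hw => by
    rcases hr.le ⟨w, rfl⟩ with h | h
    · exact h hw.1
    · exact hw.2 h
  have htop : (⊤ : I.subscheme.Opens) ≤ A ⊔ B := fun w _ => by
    by_cases h : i w = x
    · exact Or.inl (show i w ∈ U from h ▸ hxU)
    · exact Or.inr h
  have : Coh.IsQCoh ((Scheme.Modules.pushforward i).obj (Coh.structureModule I.subscheme)) :=
    @QCohLib.isQCoh_pushforward _ _ i _ _ _ (QCohLib.isQCoh_unit)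
  have := QCohLib.epi_structMap i
  have hbot : ∀ {V : I.subscheme.Opens}, V ≤ ⊥ → Subsingleton Γ(I.subscheme, V) := fun hV => by
    obtain rfl := le_bot_iff.mp hV
    infer_instance
  obtain ⟨s, hsA, hsB⟩ : ∃ s : Γ(I.subscheme, ⊤),
      I.subscheme.presheaf.map (homOfLE (le_top : A ≤ ⊤)).op s = 1 ∧
      I.subscheme.presheaf.map (homOfLE (le_top : B ≤ ⊤)).op s = 0 := by
    obtain ⟨s, hs, -⟩ := I.subscheme.sheaf.existsUnique_gluing'
      (fun t : ULift.{u} Bool => if t.down then A else B) ⊤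
      (fun t => homOfLE le_top)
      (htop.trans (sup_le (le_iSup_of_le ⟨true⟩ le_rfl) (le_iSup_of_le ⟨false⟩ le_rfl)))
      (fun t => match t with | ⟨true⟩ => (1 : Γ(I.subscheme, A)) | ⟨false⟩ => (0 : Γ(I.subscheme, B)))
      (fun a b => by
        rcases a with ⟨_ | _⟩ <;> rcases b with ⟨_ | _⟩
        · rfl
        · exact @Subsingleton.elim _ (hbot (le_trans (le_inf inf_le_right inf_le_left) hAB)) _ _
        · exact @Subsingleton.elim _ (hbot hAB) _ _
        · rfl)
    exact ⟨s, hs ⟨true⟩, hs ⟨false⟩⟩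
  obtain ⟨f, hf⟩ := surj_unit h (QCohLib.structMap i) s
  replace hf : i.app ⊤ f = s := hf
  have hpre : i ⁻¹ᵁ X.basicOpen (f : Γ(X, ⊤)) = I.subscheme.basicOpen s := by
    rw [Scheme.preimage_basicOpen, hf]
    rfl
  refine ⟨f, ?_, fun p hp => ?_⟩
  · obtain ⟨w, hw⟩ := hr.ge (Or.inr rfl : x ∈ (U : Set X)ᶜ ∪ {x})
    have hwA : w ∈ A := show i w ∈ U from hw ▸ hxU
    have : w ∈ i ⁻¹ᵁ X.basicOpen (f : Γ(X, ⊤)) := by
      rw [hpre]
      have h1 : w ∈ A ⊓ I.subscheme.basicOpen s := by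
        rw [← Scheme.basicOpen_res _ _ (homOfLE (le_top : A ≤ ⊤)).op, hsA,
          Scheme.basicOpen_of_isUnit _ isUnit_one]
        exact hwA
      exact h1.2
    exact hw ▸ this
  · by_contra hpU
    obtain ⟨w, hw⟩ := hr.ge (Or.inl hpU)
    have hwp : w ∈ i ⁻¹ᵁ X.basicOpen (f : Γ(X, ⊤)) := show i w ∈ _ from hw ▸ hp
    rw [hpre] at hwp
    have hwB : w ∈ B := show i w ≠ x from fun e => hpU (hw ▸ e ▸ hxU)
    have h1 : w ∈ B ⊓ I.subscheme.basicOpen s := ⟨hwB, hwp⟩
    rw [← Scheme.basicOpen_res _ _ (homOfLE (le_top : B ≤ ⊤)).op, hsB,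
      Scheme.basicOpen_zero] at h1
    exact h1

/-- Functions without common zero generate the unit ideal. -/
theorem span_eq_top (h : Crit X) (t : Finset Γ(X, ⊤))
    (ht : ∀ p : X, ∃ f ∈ t, p ∈ X.basicOpen f) : Ideal.span (t : Set Γ(X, ⊤)) = ⊤ := by
  obtain ⟨n, φ, hφ, hj⟩ := exists_free_cover t
  have : Epi φ := by
    refine QCohLib.epi_of_surjective_on_affines _ fun V s p hp => ?_
    obtain ⟨f, hft, hpf⟩ := ht p
    obtain ⟨j, hjf⟩ := hj f hft
    obtain ⟨u, hu⟩ := (QCohLib.isUnit_res f (inf_le_right : V ⊓ X.basicOpen f ≤ X.basicOpen f))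
    let r : Γ(X, V ⊓ X.basicOpen f) :=
      HMul.hMul (α := Γ(X, V ⊓ X.basicOpen f))
        (X.presheaf.map (homOfLE (inf_le_left : V ⊓ X.basicOpen f ≤ V)).op (show Γ(X, V) from s))
        ((↑u⁻¹ : Γ(X, V ⊓ X.basicOpen f)))
    refine ⟨V ⊓ X.basicOpen f, inf_le_left, ⟨hp, hpf⟩, j.app _ r, ?_⟩
    refine ((congr_arg (fun θ : Coh.structureModule X ⟶ Coh.structureModule X => θ.app _ r)
      hjf)).trans ?_
    change (show Γ(X, V ⊓ X.basicOpen f) from (QCohLib.mulBy f).app (V ⊓ X.basicOpen f) r) = _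
    rw [QCohLib.mulBy_app, ← hu]
    simp only [r, mul_assoc, Units.inv_mul, mul_one]
    rfl
  obtain ⟨e, he⟩ := h n _ _ (𝟙 _) φ inferInstance this (LocSuppLib.isQCoh_freeMod X n) QCohLib.isQCoh_unit (1 : Γ(X, ⊤))
  exact (Ideal.eq_top_iff_one _).mpr (he ▸ hφ e)

/-- **Serre's criterion.** -/
theorem isAffine_of_crit [CompactSpace X] (h : Crit X) :
    IsAffine X := by
  classical
  let G : Set Γ(X, ⊤) := {f | IsAffineOpen (X.basicOpen f)}
  have hcov : (Set.univ : Set X) ⊆ ⋃ f : G, (X.basicOpen (f : Γ(X, ⊤)) : Set X) := by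
    by_contra hne
    obtain ⟨p, -, hp⟩ := Set.not_subset.mp hne
    obtain ⟨x, hx, hxc⟩ := (isOpen_iUnion fun f : G =>
      (X.basicOpen (f : Γ(X, ⊤))).isOpen).isClosed_compl.exists_closed_singleton ⟨p, hp⟩
    obtain ⟨U, hU, hxU, -⟩ := Opens.isBasis_iff_nbhd.mp X.isBasis_affineOpens (U := ⊤) (x := x) trivial
    obtain ⟨f, hxf, hfU⟩ := exists_global_separating h U hxc hxU
    have hfG : f ∈ G := by
      have h := hU.basicOpen (X.presheaf.map (homOfLE (le_top : U ≤ ⊤)).op f)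
      rw [Scheme.basicOpen_res] at h
      rw [inf_eq_right.mpr hfU] at h
      exact h
    exact hx (Set.mem_iUnion.mpr ⟨⟨f, hfG⟩, hxf⟩)
  obtain ⟨t, ht⟩ := isCompact_univ.elim_finite_subcover
    (fun f : G => (X.basicOpen (f : Γ(X, ⊤)) : Set X)) (fun f => (X.basicOpen _).isOpen) hcov
  refine isAffine_of_isAffineOpen_basicOpen ((t.image Subtype.val : Finset Γ(X, ⊤)) : Set Γ(X, ⊤))
    (span_eq_top h _ fun p => ?_) fun f hf => ?_
  · obtain ⟨f, hft, hp⟩ := Set.mem_iUnion₂.mp (ht (Set.mem_univ p))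
    exact ⟨f.1, Finset.mem_image_of_mem _ hft, hp⟩
  · obtain ⟨f, -, rfl⟩ := Finset.mem_image.mp (Finset.mem_coe.mp hf)
    exact f.2



/-- (c') ⇒ (a): let X be a quasi-compact separated scheme. Suppose that for every n, every
quasi-coherent O_X-module F admitting a monomorphism into the free module O_X^n, and every
epimorphism p : F → F'' onto a quasi-coherent O_X-module, the map induced by p on global sections is
surjective. Then X is affine. (The published statement also allows X to be a scheme whose underlying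
space is Noetherian; this row assumes it quasi-compact and separated.) -/
theorem result (X : Scheme.{u}) [CompactSpace X] [X.IsSeparated]
    (h : ∀ (n : ℕ) (F F'' : X.Modules) (i : F ⟶ FlatMod.freeMod X n) (p : F ⟶ F''),
      Mono i → Epi p → Coh.IsQCoh F → Coh.IsQCoh F'' →
        Function.Surjective (p.val.app (Opposite.op ⊤)).hom) :
    IsAffine X := by
  exact isAffine_of_crit h


end Groth.Agent.S4375
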