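import Groth.Statements.S4376
import Groth.Agent.QCohLib.SerreCrit
-- import your own Groth.Agent.* helpers here

set_option autoImplicit false
universe u
open CategoryTheory CategoryTheory.Limits AlgebraicGeometry
open EGA2

namespace Groth.Agent.S4376

open TopologicalSpace Opposite

theorem isReduced_vanishingIdeal {X : Scheme.{u}} (S : Closeds X) :
    IsReduced (Scheme.IdealSheafData.vanishingIdeal S).subscheme := by
  haveI : ∀ i, IsReduced ((Scheme.IdealSheafData.vanishingIdeal S).subschemeCover.openCover.X i) :=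
    fun (U : X.affineOpens) => by
    change IsReduced (Spec (CommRingCat.of
      (Γ(X, U) ⧸ (Scheme.IdealSheafData.vanishingIdeal S).ideal U)))
    haveI : _root_.IsReduced (Γ(X, U) ⧸ (Scheme.IdealSheafData.vanishingIdeal S).ideal U) :=
      (Ideal.isRadical_iff_quotient_reduced _).1 (by
        rw [Scheme.IdealSheafData.vanishingIdeal_ideal]
        exact PrimeSpectrum.isRadical_vanishingIdeal _)
    infer_instance
  exact IsReduced.of_openCover (𝒰 := (Scheme.IdealSheafData.vanishingIdeal S).subschemeCover.openCover)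

variable {X : Scheme.{u}} {W : X.Opens}
  (hWc : IsCompact (W : Set X)) (hWq : IsQuasiSeparated (W : Set X))
  (H : ∀ (Z : Scheme.{u}) (i : Z ⟶ X) [IsClosedImmersion i], Function.Surjective (i.app W))

include hWc H in
theorem exists_separating {x : X} (hxW : x ∈ W) (hxc : closure {x} ∩ (W : Set X) ⊆ {x}) :
    ∃ g : Γ(X, W), x ∈ X.basicOpen g ∧ IsAffineOpen (X.basicOpen g) := by
  obtain ⟨U, hU, hxU, hUW⟩ := Opens.isBasis_iff_nbhd.mp X.isBasis_affineOpens hxW
  let A : Set X := (U : Set X)ᶜ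
  let B : Set X := closure {x}
  let C : Closeds X := ⟨A ∪ B, U.isOpen.isClosed_compl.union isClosed_closure⟩
  let I := Scheme.IdealSheafData.vanishingIdeal C
  let i := I.subschemeι
  let OB : I.subscheme.Opens := i ⁻¹ᵁ ⟨Aᶜ, U.isOpen.isClosed_compl.isOpen_compl⟩ ⊓ i ⁻¹ᵁ W
  let OA : I.subscheme.Opens := i ⁻¹ᵁ ⟨Bᶜ, isClosed_closure.isOpen_compl⟩ ⊓ i ⁻¹ᵁ W
  have hmem : ∀ z : I.subscheme, i z ∈ A ∨ i z ∈ B := by
    intro z
    have : i z ∈ (I.support : Set X) := I.range_subschemeι ▸ ⟨z, rfl⟩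
    simpa [I, C] using this
  have hAB : ∀ y, y ∈ (W : Set X) → y ∈ B → y ∉ A := fun y hy hB hA => by
    obtain rfl : y = x := hxc ⟨hB, hy⟩
    exact hA hxU
  have hdisj : OA ⊓ OB = ⊥ := by
    refine eq_bot_iff.mpr fun z hz => ?_
    rcases hmem z with h | h
    · exact absurd h hz.2.1
    · exact absurd h hz.1.1
  let sf : ∀ b : Bool, Γ(I.subscheme, if b then OB else OA) := fun b => if b then 1 else 0
  have hcompat : TopCat.Presheaf.IsCompatible I.subscheme.presheaf
      (fun b : Bool => if b then OB else OA) sf := by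
    intro a b
    cases a <;> cases b
    · rfl
    · have : Subsingleton Γ(I.subscheme, OA ⊓ OB) := by
        rw [hdisj]; infer_instance
      exact @Subsingleton.elim _ this _ _
    · have : Subsingleton Γ(I.subscheme, OB ⊓ OA) := by
        rw [inf_comm, hdisj]; infer_instance
      exact @Subsingleton.elim _ this _ _
    · rfl
  have hle : ∀ b : Bool, (if b then OB else OA) ≤ i ⁻¹ᵁ W := by
    intro b; cases b <;> exact inf_le_right
  obtain ⟨e₀, he, -⟩ := (I.subscheme.sheaf).existsUnique_gluing' (fun b : Bool => if b then OB else OA)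
    (i ⁻¹ᵁ W) (fun b => homOfLE (hle b)) (fun z hz => by
      rw [Opens.mem_iSup]
      by_cases hA : i z ∈ A
      · exact ⟨false, fun hB => hAB _ hz hB hA, hz⟩
      · exact ⟨true, hA, hz⟩) sf hcompat
  let e : Γ(I.subscheme, i ⁻¹ᵁ W) := e₀
  obtain ⟨g, hg⟩ := H _ i e
  have hbo : I.subscheme.basicOpen e = OB := by
    ext z
    constructor
    · intro hz
      have hzW : z ∈ i ⁻¹ᵁ W := I.subscheme.basicOpen_le e hz
      refine ⟨fun hA => ?_, hzW⟩
      have h1 : z ∈ I.subscheme.basicOpen (I.subscheme.presheaf.map (homOfLE (hle false)).op e) := by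
        rw [Scheme.basicOpen_res]
        exact ⟨⟨fun hB => hAB _ hzW hB hA, hzW⟩, hz⟩
      rw [show I.subscheme.presheaf.map (homOfLE (hle false)).op e = 0 from he false,
        Scheme.basicOpen_zero] at h1
      exact h1
    · intro hz
      have h1 : z ∈ I.subscheme.basicOpen (I.subscheme.presheaf.map (homOfLE (hle true)).op e) := by
        rw [show I.subscheme.presheaf.map (homOfLE (hle true)).op e = 1 from he true,
          Scheme.basicOpen_of_isUnit _ isUnit_one]
        exact hz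
      rw [Scheme.basicOpen_res] at h1
      exact h1.2
  have hb : i ⁻¹ᵁ X.basicOpen g = OB := by
    rw [Scheme.preimage_basicOpen, hg, hbo]
  have hrange : ∀ y ∈ A ∪ B, ∃ z, i z = y := by
    intro y hy
    have hs : y ∈ (I.support : Set X) := by
      simpa [I, C] using hy
    rw [← I.range_subschemeι] at hs
    exact hs
  have hgU : X.basicOpen g ≤ U := by
    intro y hy
    by_contra hyU
    obtain ⟨z, hz⟩ := hrange y (Or.inl hyU)
    have : z ∈ OB := hb ▸ (show i z ∈ X.basicOpen g from hz ▸ hy)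
    exact this.1 (hz ▸ hyU)
  refine ⟨g, ?_, ?_⟩
  · obtain ⟨z, hz⟩ := hrange x (Or.inr (subset_closure rfl))
    have : z ∈ OB := ⟨fun hA => (show i z ∉ A by rw [hz]; exact fun h => h hxU) hA,
      show i z ∈ W by rw [hz]; exact hxW⟩
    rw [← hb] at this
    have h2 : i z ∈ X.basicOpen g := this
    rwa [hz] at h2
  · have := hU.basicOpen (X.presheaf.map (homOfLE hUW).op g)
    rwa [Scheme.basicOpen_res, inf_eq_right.mpr hgU] at this

include hWc hWq in
/-- A prime of the sections avoiding `g` is realised by a point of `basicOpen g`. -/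
theorem exists_point {g : Γ(X, W)} (hg : IsAffineOpen (X.basicOpen g)) (q : Ideal Γ(X, W))
    [q.IsPrime] (hgq : g ∉ q) : ∃ w ∈ X.basicOpen g, ∀ r, w ∈ X.basicOpen r ↔ r ∉ q := by
  letI := (X.presheaf.map (homOfLE (X.basicOpen_le g)).op).hom.toAlgebra
  have := isLocalization_basicOpen_of_qcqs hWc hWq g
  have hdisj : Disjoint (Submonoid.powers g : Set Γ(X, W)) q :=
    (Ideal.disjoint_powers_iff_notMem _ ‹q.IsPrime›.isRadical).mpr hgq
  let q' := q.map (algebraMap Γ(X, W) Γ(X, X.basicOpen g))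
  have hq' : q'.IsPrime :=
    IsLocalization.isPrime_of_isPrime_disjoint (Submonoid.powers g) _ q ‹_› hdisj
  have hcomap : q'.comap (algebraMap Γ(X, W) Γ(X, X.basicOpen g)) = q :=
    IsLocalization.comap_map_of_isPrime_disjoint (Submonoid.powers g) _ ‹_› hdisj
  let w := hg.fromSpec ⟨q', hq'⟩
  have hw : w ∈ X.basicOpen g := hg.range_fromSpec.le ⟨_, rfl⟩
  refine ⟨w, hw, fun r => ?_⟩
  have h1 : w ∈ X.basicOpen r ↔
      w ∈ X.basicOpen (X.presheaf.map (homOfLE (X.basicOpen_le g)).op r) := by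
    rw [Scheme.basicOpen_res]
    exact ⟨fun h => ⟨hw, h⟩, fun h => h.2⟩
  rw [h1, ← hcomap, Ideal.mem_comap]
  show (⟨q', hq'⟩ : PrimeSpectrum _) ∈ hg.fromSpec ⁻¹ᵁ X.basicOpen _ ↔ _
  rw [hg.fromSpec_preimage_basicOpen]
  rfl

theorem isUnit_map_of_le {Z : Scheme.{u}} {U O : Z.Opens} (s : Γ(Z, U)) (hOU : O ≤ U)
    (hO : O ≤ Z.basicOpen s) : IsUnit (Z.presheaf.map (homOfLE hOU).op s) := by
  have h := (Z.toRingedSpace.isUnit_res_basicOpen s).map (Z.presheaf.map (homOfLE hO).op).hom
  have e : Z.presheaf.map (homOfLE hO).op (Z.presheaf.map (homOfLE (Z.basicOpen_le s)).op s) =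
      Z.presheaf.map (homOfLE hOU).op s :=
    (ConcreteCategory.comp_apply (Z.presheaf.map _) (Z.presheaf.map _) s).symm.trans
      (ConcreteCategory.congr_hom (Z.presheaf.map_comp _ _).symm s)
  exact e ▸ h

theorem eq_zero_of_mul_pow {Z : Scheme.{u}} {U : Z.Opens} {ι : Type*} (g : ι → Γ(Z, U))
    (hcov : U ≤ ⨆ j, Z.basicOpen (g j)) (t : Γ(Z, U))
    (h : ∀ j, ∃ N : ℕ, t * g j ^ N = 0) : t = 0 := by
  refine Z.sheaf.eq_of_locally_eq' (fun j => Z.basicOpen (g j)) U
    (fun j => homOfLE (Z.basicOpen_le _)) hcov t 0 fun j => ?_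
  obtain ⟨N, hN⟩ := h j
  have h1 := congrArg (Z.presheaf.map (homOfLE (Z.basicOpen_le (g j))).op) hN
  rw [map_mul, map_pow, map_zero] at h1
  refine Eq.trans ?_ (map_zero _).symm
  exact (((isUnit_map_of_le (g j) (Z.basicOpen_le _) le_rfl).pow N).mul_left_eq_zero).mp h1

include hWc hWq H in
theorem span_eq_top (s : Finset Γ(X, W)) (hs : ∀ g ∈ s, IsAffineOpen (X.basicOpen g))
    (hcov : W ≤ ⨆ g : (s : Set Γ(X, W)), X.basicOpen g.1) :
    Ideal.span (s : Set Γ(X, W)) = ⊤ := by
  classical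
  by_contra hne
  obtain ⟨p, hp, hsp⟩ := Ideal.exists_le_maximal _ hne
  have hgp : ∀ g ∈ s, g ∈ p := fun g hg => hsp (Ideal.subset_span hg)
  -- some prime inside `p` avoids some `g`
  let P : Set (Ideal Γ(X, W)) := {q | q.IsPrime ∧ q ≤ p ∧ ∃ g ∈ s, g ∉ q}
  have hP : P.Nonempty := by
    by_contra hP
    have key : ∀ g : (s : Set Γ(X, W)), ∃ c, c ∉ p ∧ ∃ N : ℕ, c * g.1 ^ N = 0 := by
      intro g
      by_contra hg
      push Not at hg
      let M : Submonoid Γ(X, W) := p.primeCompl ⊔ Submonoid.powers g.1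
      have hd : Disjoint ((⊥ : Ideal Γ(X, W)) : Set Γ(X, W)) M := by
        rw [Set.disjoint_left]
        rintro z hz hzM
        obtain ⟨c, hc, d, ⟨N, hN⟩, rfl⟩ := Submonoid.mem_sup.mp hzM
        subst hN
        exact hg c hc N (Ideal.mem_bot.mp hz)
      obtain ⟨q, hq, -, hqM⟩ := Ideal.exists_le_prime_disjoint ⊥ M hd
      refine hP ⟨q, hq, fun z hz => ?_, g.1, g.2, fun h => ?_⟩
      · by_contra hzp
        exact Set.disjoint_left.mp hqM hz (Submonoid.mem_sup_left hzp)
      · exact Set.disjoint_left.mp hqM h (Submonoid.mem_sup_right (Submonoid.mem_powers _))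
    choose c hc N hN using key
    have h0 : ∏ g, c g = 0 := eq_zero_of_mul_pow (fun g : (s : Set Γ(X, W)) => g.1) hcov _
      fun g => ⟨N g, by
        rw [← Finset.mul_prod_erase _ c (Finset.mem_univ g), mul_right_comm, hN, zero_mul]⟩
    have : ∏ g, c g ∈ p.primeCompl := prod_mem fun g _ => hc g
    exact this (h0 ▸ p.zero_mem)
  obtain ⟨q₀, hq₀⟩ := hP
  obtain ⟨q, -, hqmax⟩ := zorn_le_nonempty₀ P (by
    intro Ch hCh hchain q1 hq1
    refine ⟨sSup Ch, ⟨?_, sSup_le fun q hq => (hCh hq).2.1, ?_⟩, fun q hq => le_sSup hq⟩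
    · refine ⟨fun htop => ?_, fun {a b} hab => ?_⟩
      · have h1 : (1 : Γ(X, W)) ∈ sSup Ch := htop ▸ Submodule.mem_top
        obtain ⟨q, hq, h1q⟩ := (Submodule.mem_sSup_of_directed ⟨q1, hq1⟩ hchain.directedOn).mp h1
        exact (hCh hq).1.ne_top ((Ideal.eq_top_iff_one _).mpr h1q)
      · obtain ⟨q, hq, habq⟩ := (Submodule.mem_sSup_of_directed ⟨q1, hq1⟩ hchain.directedOn).mp hab
        exact ((hCh hq).1.mem_or_mem habq).imp (fun h => le_sSup hq h) (fun h => le_sSup hq h)
    · by_contra hall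
      push Not at hall
      obtain ⟨q, hq, hsq⟩ : ∃ q ∈ Ch, (s : Set Γ(X, W)) ⊆ q := by
        have : ∀ t : Finset Γ(X, W), (∀ g ∈ t, g ∈ sSup Ch) →
            ∃ q ∈ Ch, (t : Set Γ(X, W)) ⊆ q := by
          intro t
          induction t using Finset.induction_on with
          | empty => exact fun _ => ⟨q1, hq1, by simp⟩
          | insert a t _ ih =>
            intro ht
            obtain ⟨q2, hq2, htq⟩ := ih fun g hg => ht g (Finset.mem_insert_of_mem hg)
            obtain ⟨q3, hq3, ha⟩ := (Submodule.mem_sSup_of_directed ⟨q1, hq1⟩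
              hchain.directedOn).mp (ht a (Finset.mem_insert_self _ _))
            obtain ⟨q4, hq4, h24, h34⟩ := hchain.directedOn _ hq2 _ hq3
            refine ⟨q4, hq4, ?_⟩
            rw [Finset.coe_insert, Set.insert_subset_iff]
            exact ⟨h34 ha, htq.trans h24⟩
        exact this s hall
      obtain ⟨g, hg, hgq⟩ := (hCh hq).2.2
      exact hgq (hsq hg)) q₀ hq₀
  obtain ⟨⟨hqprime, hqp, g, hgs, hgq⟩, hmax⟩ := hqmax
  haveI := hqprime
  -- the curve through `q` towards `p`
  have key : ∀ j : (s : Set Γ(X, W)), ∃ c, c ∉ p ∧ ∃ (N : ℕ) (b : Γ(X, W)),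
      c * j.1 ^ N - b * g ∈ q := by
    intro j
    by_contra hj
    push Not at hj
    let M : Submonoid Γ(X, W) := p.primeCompl ⊔ Submonoid.powers j.1
    have hd : Disjoint ((q ⊔ Ideal.span {g} : Ideal Γ(X, W)) : Set Γ(X, W)) M := by
      rw [Set.disjoint_left]
      rintro z hz hzM
      obtain ⟨c, hc, d, ⟨N, hN⟩, rfl⟩ := Submonoid.mem_sup.mp hzM
      subst hN
      obtain ⟨a, ha, e, he, hae⟩ := Submodule.mem_sup.mp hz
      obtain ⟨b, rfl⟩ := Ideal.mem_span_singleton'.mp he
      refine hj c hc N b ?_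
      have hae' : a + b * g = c * j.1 ^ N := hae
      rwa [← hae', add_sub_cancel_right]
    obtain ⟨q', hq', hle, hqM⟩ := Ideal.exists_le_prime_disjoint _ M hd
    have h1 : q' ∈ P := ⟨hq', fun z hz => by
      by_contra hzp
      exact Set.disjoint_left.mp hqM hz (Submonoid.mem_sup_left hzp), j.1, j.2,
      fun h => Set.disjoint_left.mp hqM h (Submonoid.mem_sup_right (Submonoid.mem_powers _))⟩
    exact hgq (hmax h1 (le_sup_left.trans hle) (hle (Submodule.mem_sup_right
      (Ideal.mem_span_singleton_self g))))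
  choose c hc N b hb using key
  let C := ∏ j, c j
  have hC : C ∈ p.primeCompl := prod_mem fun j _ => hc j
  have hb' : ∀ j : (s : Set Γ(X, W)), ∃ b', C * j.1 ^ N j - b' * g ∈ q := fun j => by
    refine ⟨(∏ x ∈ Finset.univ.erase j, c x) * b j, ?_⟩
    have := q.mul_mem_left (∏ x ∈ Finset.univ.erase j, c x) (hb j)
    have hCe : C = c j * ∏ x ∈ Finset.univ.erase j, c x :=
      (Finset.mul_prod_erase _ c (Finset.mem_univ j)).symm
    rw [hCe]
    convert this using 1
    ring
  choose b' hb' using hb'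
  obtain ⟨w, hwg, hw⟩ := exists_point hWc hWq (hs g hgs) q hgq
  let I := Scheme.IdealSheafData.vanishingIdeal (⟨closure {w}, isClosed_closure⟩ : Closeds X)
  let i := I.subschemeι
  haveI : IsReduced I.subscheme := isReduced_vanishingIdeal _
  have hwr : w ∈ Set.range i := by
    rw [I.range_subschemeι]
    simpa [I] using subset_closure (s := {w}) rfl
  obtain ⟨z, hz⟩ := hwr
  have hgen : ∀ z' : I.subscheme, z ⤳ z' := fun z' => by
    have h1 : i z' ∈ (I.support : Set X) := I.range_subschemeι ▸ ⟨z', rfl⟩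
    have h2 : i z' ∈ closure {w} := by simpa [I] using h1
    rw [← i.isClosedEmbedding.isEmbedding.isInducing.specializes_iff, hz]
    exact specializes_iff_mem_closure.mpr h2
  haveI : IrreducibleSpace I.subscheme := by
    have hthis : IsGenericPoint z Set.univ := Set.eq_univ_of_forall fun z' => (hgen z').mem_closure
    haveI : Nonempty I.subscheme := ⟨z⟩
    exact { isPreirreducible_univ := IsIrreducible.isPreirreducible hthis.isIrreducible, toNonempty := ⟨z⟩ }
  haveI : IsIntegral I.subscheme := isIntegral_of_irreducibleSpace_of_isReduced _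
  have hbar : ∀ r : Γ(X, W), r ∈ q → i.app W r = 0 := by
    intro r hr
    rw [← basicOpen_eq_bot_iff, eq_bot_iff]
    intro z' hz'
    have h1 : z ∈ I.subscheme.basicOpen (i.app W r) :=
      (hgen z').mem_open (I.subscheme.basicOpen (i.app W r)).isOpen hz'
    rw [← Scheme.preimage_basicOpen] at h1
    exact absurd hr ((hw r).mp (show w ∈ X.basicOpen r from hz ▸ h1))
  have hbar' : ∀ r : Γ(X, W), i.app W r = 0 → r ∈ q := by
    intro r hr
    by_contra hrq
    have h1 : z ∈ i ⁻¹ᵁ X.basicOpen r := show i z ∈ X.basicOpen r from hz ▸ (hw r).mpr hrq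
    rw [Scheme.preimage_basicOpen, hr, Scheme.basicOpen_zero] at h1
    exact h1
  let Z := I.subscheme
  let O : ↥(s : Set Γ(X, W)) → Z.Opens := fun j => i ⁻¹ᵁ X.basicOpen j.1
  have hO : ∀ j, O j ≤ i ⁻¹ᵁ W := fun j => i.preimage_mono (X.basicOpen_le _)
  have hu : ∀ j, IsUnit (Z.presheaf.map (homOfLE (hO j)).op (i.app W j.1 ^ N j)) := fun j => by
    rw [map_pow]
    exact (isUnit_map_of_le _ _ (Scheme.preimage_basicOpen i j.1).le).pow _
  let σ : ∀ j, Γ(Z, O j) := fun j =>
    Z.presheaf.map (homOfLE (hO j)).op (i.app W (b' j)) * ((hu j).unit⁻¹ : Γ(Z, O j)ˣ)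
  have hσ : ∀ j, Z.presheaf.map (homOfLE (hO j)).op (i.app W g) * σ j =
      Z.presheaf.map (homOfLE (hO j)).op (i.app W C) := by
    intro j
    have h1 := hbar _ (hb' j)
    rw [map_sub, sub_eq_zero, map_mul, map_mul, map_pow] at h1
    simp only [σ]
    rw [← mul_assoc, Units.mul_inv_eq_iff_eq_mul, IsUnit.unit_spec]
    exact (map_mul (Z.presheaf.map (homOfLE (hO j)).op).hom _ _).symm.trans
      ((congrArg _ ((mul_comm _ _).trans h1.symm)).trans
        (map_mul (Z.presheaf.map (homOfLE (hO j)).op).hom _ _))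
  have hcov' : i ⁻¹ᵁ W ≤ ⨆ j, O j := by
    intro z' hz'
    obtain ⟨j, hj⟩ := Opens.mem_iSup.mp (hcov hz')
    exact Opens.mem_iSup.mpr ⟨j, hj⟩
  have hgne : i.app W g ≠ 0 := fun h => hgq (hbar' g h)
  have hcompat : TopCat.Presheaf.IsCompatible Z.presheaf O σ := by
    intro j k
    by_cases he : Nonempty ↥(O j ⊓ O k)
    · haveI := he
      have e1 := congrArg (Z.presheaf.map (Opens.infLELeft (O j) (O k)).op) (hσ j)
      have e2 := congrArg (Z.presheaf.map (Opens.infLERight (O j) (O k)).op) (hσ k)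
      rw [map_mul, ← ConcreteCategory.comp_apply, ← Functor.map_comp,
        ← ConcreteCategory.comp_apply (Z.presheaf.map (homOfLE (hO j)).op), ← Functor.map_comp] at e1
      rw [map_mul, ← ConcreteCategory.comp_apply, ← Functor.map_comp,
        ← ConcreteCategory.comp_apply (Z.presheaf.map (homOfLE (hO k)).op), ← Functor.map_comp] at e2
      haveI : IsDomain Γ(Z, O j ⊓ O k) := @IsIntegral.component_integral Z inferInstance (O j ⊓ O k) he
      refine mul_left_cancel₀ ?_ (e1.trans e2.symm)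
      intro h0
      exact hgne (@map_injective_of_isIntegral _ inferInstance _ _ (homOfLE (inf_le_left.trans (hO j))) he _ _
        (h0.trans (map_zero _).symm))
    · have hbot : O j ⊓ O k = ⊥ := eq_bot_iff.mpr fun z' hz' => absurd ⟨⟨z', hz'⟩⟩ he
      have : Subsingleton Γ(Z, O j ⊓ O k) := by rw [hbot]; infer_instance
      exact Subsingleton.elim _ _
  obtain ⟨S, hS, -⟩ := Z.sheaf.existsUnique_gluing' O (i ⁻¹ᵁ W) (fun j => homOfLE (hO j))
    hcov' σ hcompat
  obtain ⟨r, hr⟩ := H _ i S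
  have hfin : i.app W (g * r - C) = 0 := by
    rw [map_sub, sub_eq_zero, map_mul, hr]
    refine Z.sheaf.eq_of_locally_eq' O (i ⁻¹ᵁ W) (fun j => homOfLE (hO j)) hcov' _ _ fun j => ?_
    refine (map_mul (Z.presheaf.map (homOfLE (hO j)).op).hom _ _).trans ?_
    refine Eq.trans (congrArg _ ?_) (hσ j)
    exact hS j
  have h2 := hqp (hbar' _ hfin)
  exact hC (by simpa using p.sub_mem (p.mul_mem_right r (hgp g hgs)) h2)

include hWc hWq H in
theorem isAffineOpen_of_surjective : IsAffineOpen W := by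
  classical
  have hcov : ∀ x : X, x ∈ W → ∃ g : Γ(X, W), x ∈ X.basicOpen g ∧ IsAffineOpen (X.basicOpen g) := by
    by_contra hc
    push Not at hc
    obtain ⟨x₀, hx₀, hx₀'⟩ := hc
    haveI : CompactSpace W := isCompact_iff_compactSpace.mp hWc
    let T : Set W := {x | ∀ g : Γ(X, W), x.1 ∈ X.basicOpen g → ¬ IsAffineOpen (X.basicOpen g)}
    have hT : IsClosed T := by
      rw [← isOpen_compl_iff, isOpen_iff_forall_mem_open]
      intro x hx
      simp only [T, Set.mem_compl_iff, Set.mem_ofPred_eq] at hx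
      push Not at hx
      obtain ⟨g, hg1, hg2⟩ := hx
      exact ⟨Subtype.val ⁻¹' (X.basicOpen g : Set X), fun y hy h => h g hy hg2,
        (X.basicOpen g).isOpen.preimage continuous_subtype_val, hg1⟩
    obtain ⟨x, hxT, hxc⟩ := hT.exists_closed_singleton ⟨⟨x₀, hx₀⟩, hx₀'⟩
    obtain ⟨g, hg1, hg2⟩ := exists_separating hWc H x.2 (x := x.1) (by
      rintro y ⟨hy, hyW⟩
      have h1 : (⟨y, hyW⟩ : W) ∈ closure ({x} : Set W) := by
        exact closure_subtype.mpr (Set.image_singleton (f := Subtype.val) (a := x) ▸ hy)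
      rw [hxc.closure_eq] at h1
      exact congrArg Subtype.val h1)
    exact hxT g hg1 hg2
  choose! g hg1 hg2 using hcov
  obtain ⟨t, ht⟩ := hWc.elim_finite_subcover (fun x : (W : Set X) => (X.basicOpen (g x) : Set X))
    (fun x => (X.basicOpen _).isOpen) fun x hx => Set.mem_iUnion.mpr ⟨⟨x, hx⟩, hg1 x hx⟩
  let s : Finset Γ(X, W) := t.image fun x : (W : Set X) => g x
  have hs : ∀ a ∈ s, IsAffineOpen (X.basicOpen a) := by
    intro a ha
    obtain ⟨x, -, rfl⟩ := Finset.mem_image.mp ha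
    exact hg2 _ x.2
  refine isAffineOpen_of_isAffineOpen_basicOpen W (s : Set Γ(X, W))
    (span_eq_top hWc hWq H s hs ?_) hs
  intro x hx
  obtain ⟨y, hy, hxy⟩ := Set.mem_iUnion₂.mp (ht hx)
  exact Opens.mem_iSup.mpr ⟨⟨g y, Finset.mem_image_of_mem _ hy⟩, hxy⟩

/-- (b) ⇒ (a): let f : X → Y be a separated quasi-compact morphism such that the direct image functor
f_* is exact on quasi-coherent O_X-modules, i.e. for every epimorphism p : F → F'' of quasi-coherent
O_X-modules the morphism f_*(p) is again an epimorphism. Then f is an affine morphism. -/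
theorem result {X Y : Scheme.{u}} (f : X ⟶ Y) [IsSeparated f] [QuasiCompact f]
    (h : ∀ (F F'' : X.Modules) (p : F ⟶ F''), Coh.IsQCoh F → Coh.IsQCoh F'' → Epi p → Epi ((Coh.push f).map p)) :
    IsAffineHom f := by

  refine ⟨fun V hV => ?_⟩
  refine isAffineOpen_of_surjective (QuasiCompact.isCompact_preimage (f := f) (V : Set Y) V.isOpen hV.isCompact)
    (f.isQuasiSeparated_preimage hV.isQuasiSeparated) ?_
  intro Z i hi s
  haveI := QCohLib.isQCoh_unit (X := X)
  haveI := QCohLib.isQCoh_unit (X := Z)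
  haveI := QCohLib.isQCoh_pushforward i (Coh.structureModule Z)
  haveI := QCohLib.epi_structMap i
  haveI hp : Epi ((Scheme.Modules.pushforward f).map (QCohLib.structMap i)) :=
    h _ _ (QCohLib.structMap i) inferInstance inferInstance inferInstance
  haveI := QCohLib.isQCoh_pushforward f (Coh.structureModule X)
  haveI := QCohLib.isQCoh_pushforward f ((Scheme.Modules.pushforward i).obj (Coh.structureModule Z))
  let φ := (Scheme.Modules.pushforward f).map (QCohLib.structMap i)
  let S : ShortComplex Y.Modules := ShortComplex.mk (kernel.ι φ) φ (kernel.condition φ)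
  have hS : S.ShortExact :=
    { exact := ShortComplex.exact_of_f_is_kernel _ (kernelIsKernel φ)
      mono_f := inferInstanceAs (Mono (kernel.ι φ))
      epi_g := inferInstanceAs (Epi φ) }
  haveI : Coh.IsQCoh S.X₁ := QCohLib.isQCoh_kernel φ
  obtain ⟨t, ht⟩ := QCohLib.app_surjective_of_affine hS hV s
  exact ⟨t, ht⟩


end Groth.Agent.S4376
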