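import Groth.Statements.S4377
import Mathlib
import Groth.Agent.S4376
import Groth.Agent.QCohLib.AffineMorCrit
-- import your own Groth.Agent.* helpers here

set_option autoImplicit false
universe u
open CategoryTheory CategoryTheory.Limits AlgebraicGeometry
open EGA2

namespace Groth.Agent.S4377

/-- (c') ⇒ (a): let f : X → Y be a separated quasi-compact morphism such that R¹f_*(J) = 0 (first higher
direct image of the underlying abelian sheaf) for every quasi-coherent submodule J of O_X. Then f is
an affine morphism. -/
theorem result {X Y : Scheme.{u}} (f : X ⟶ Y) [IsSeparated f] [QuasiCompact f]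
    (h : ∀ (J : X.Modules) (i : J ⟶ Coh.structureModule X), Mono i → Coh.IsQCoh J →
      Limits.IsZero ((Coh.RpushAb f 1).obj (Coh.toAb J))) :
    IsAffineHom f := by
  refine ⟨fun V hV => ?_⟩
  refine Groth.Agent.S4376.isAffineOpen_of_surjective
    (QuasiCompact.isCompact_preimage (f := f) (V : Set Y) V.isOpen hV.isCompact)
    (f.isQuasiSeparated_preimage hV.isQuasiSeparated) ?_
  intro Z i hi s
  haveI := QCohLib.isQCoh_unit (X := X)
  haveI := QCohLib.isQCoh_unit (X := Z)
  haveI := QCohLib.isQCoh_pushforward i (Coh.structureModule Z)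
  haveI := QCohLib.epi_structMap i
  haveI : Coh.IsQCoh (kernel (QCohLib.structMap i)) := QCohLib.isQCoh_kernel _
  haveI := QCohLib.isQCoh_pushforward f (kernel (QCohLib.structMap i))
  have h1 := h _ (kernel.ι (QCohLib.structMap i)) inferInstance inferInstance
  have hV1 := QCohLib.subsingleton_HU_affine
    ((Scheme.Modules.pushforward f).obj (kernel (QCohLib.structMap i))) 0 hV
  have hW := QCohLib.subsingleton_of_isZero_R1 (f := f.base)
    (F := (QCohLib.toAbF X).obj (kernel (QCohLib.structMap i))) h1 V hV1
  let S : ShortComplex X.Modules :=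
    ShortComplex.mk (kernel.ι (QCohLib.structMap i)) (QCohLib.structMap i) (kernel.condition _)
  have hS : S.ShortExact :=
    { exact := ShortComplex.exact_of_f_is_kernel _ (kernelIsKernel _)
      mono_f := inferInstanceAs (Mono (kernel.ι _))
      epi_g := inferInstanceAs (Epi (QCohLib.structMap i)) }
  obtain ⟨t, ht⟩ := @QCohLib.exists_lift_of_subsingleton _ (S.map (QCohLib.toAbF X))
    (QCohLib.toAbF_shortExact hS) (f ⁻¹ᵁ V) hW s
  exact ⟨t, ht⟩

end Groth.Agent.S4377
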