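import Groth.Statements.S4378
-- import your own Groth.Agent.* helpers here

set_option autoImplicit false
universe u
open CategoryTheory CategoryTheory.Limits AlgebraicGeometry
open EGA2

namespace Groth.Agent.S4378

open CategoryTheory CategoryTheory.Limits AlgebraicGeometry

/-- Let q : Y → S be separated and of finite type, and f : X → Y a morphism such that X is also
separated and of finite type over S through f ≫ q. Then f is proper if and only if for every scheme
S' over S the morphism X ×_S S' → Y ×_S S' induced by f is closed (as a map of topological spaces). -/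
theorem result {X Y S : Scheme.{u}} (q : Y ⟶ S) (f : X ⟶ Y)
    [IsSeparated q] [LocallyOfFiniteType q] [QuasiCompact q]
    [IsSeparated (f ≫ q)] [LocallyOfFiniteType (f ≫ q)] [QuasiCompact (f ≫ q)] :
    IsProper f ↔ ∀ (S' : Scheme.{u}) (g : S' ⟶ S),
      IsClosedMap (pullback.map (f ≫ q) g q g f (𝟙 S') (𝟙 S) (Category.comp_id (f ≫ q))
        ((Category.comp_id g).trans (Category.id_comp g).symm)).base := by
  constructor
  · intro hf S' g
    have sq : IsPullback (pullback.fst (f ≫ q) g)
        (pullback.map (f ≫ q) g q g f (𝟙 S') (𝟙 S) (Category.comp_id (f ≫ q))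
          ((Category.comp_id g).trans (Category.id_comp g).symm)) f (pullback.fst q g) := by
      refine IsPullback.of_bot (v₂₁ := pullback.snd q g) (v₂₂ := q) (h₃₁ := g) ?_ (pullback.lift_fst _ _ _).symm
        (IsPullback.of_hasPullback q g)
      rw [pullback.lift_snd, Category.comp_id]
      exact IsPullback.of_hasPullback _ _
    haveI : UniversallyClosed (pullback.map (f ≫ q) g q g f (𝟙 S') (𝟙 S) (Category.comp_id (f ≫ q))
          ((Category.comp_id g).trans (Category.id_comp g).symm)) :=
      MorphismProperty.of_isPullback sq inferInstance
    exact Scheme.Hom.isClosedMap _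
  · intro H
    haveI : IsSeparated f := IsSeparated.of_comp f q
    haveI : LocallyOfFiniteType f := locallyOfFiniteType_of_comp f q
    haveI : QuasiCompact f := QuasiCompact.of_comp f q
    have : UniversallyClosed f := by
      refine ⟨MorphismProperty.universally_mk' _ _ fun {T} t _ => ?_⟩
      let m := pullback.map (f ≫ q) (t ≫ q) q (t ≫ q) f (𝟙 T) (𝟙 S) (Category.comp_id (f ≫ q))
        ((Category.comp_id (t ≫ q)).trans (Category.id_comp (t ≫ q)).symm)
      let γ : T ⟶ pullback q (t ≫ q) := pullback.lift t (𝟙 T) (by simp)
      let l : pullback t f ⟶ pullback (f ≫ q) (t ≫ q) :=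
        pullback.lift (pullback.snd _ _) (pullback.fst _ _) (by rw [pullback.condition_assoc])
      have hm1 : m ≫ pullback.fst _ _ = pullback.fst _ _ ≫ f := pullback.lift_fst _ _ _
      have hm2 : m ≫ pullback.snd _ _ = pullback.snd _ _ :=
        (pullback.lift_snd _ _ _).trans (Category.comp_id _)
      have hl : l ≫ m = pullback.fst t f ≫ γ := by
        apply pullback.hom_ext
        · simp only [Category.assoc, hm1, γ, l, pullback.lift_fst, pullback.lift_fst_assoc]
          exact pullback.condition.symm
        · simp only [Category.assoc, hm2, γ, l, pullback.lift_snd, Category.comp_id]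
      haveI : IsClosedImmersion γ := by
        haveI : IsClosedImmersion (γ ≫ pullback.snd _ _) := by rw [pullback.lift_snd]; infer_instance
        exact IsClosedImmersion.of_comp γ (pullback.snd _ _)
      have sq : IsPullback l (pullback.fst t f) m γ := by
        refine ⟨⟨hl⟩, ⟨PullbackCone.IsLimit.mk _ (fun s => pullback.lift s.snd (s.fst ≫ pullback.fst _ _) ?_)
          (fun s => ?_) (fun s => ?_) (fun s k h₁ h₂ => ?_)⟩⟩
        · have := congrArg (· ≫ pullback.fst _ _) s.condition
          simp only [Category.assoc, hm1, γ, pullback.lift_fst] at this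
          rw [Category.assoc]; exact this.symm
        · apply pullback.hom_ext
          · simp only [Category.assoc, l, pullback.lift_fst, pullback.lift_snd]
          · have := congrArg (· ≫ pullback.snd _ _) s.condition
            simp only [Category.assoc, hm2, γ, pullback.lift_snd, Category.comp_id] at this
            simp only [Category.assoc, l, pullback.lift_fst, pullback.lift_snd, this]
        · exact pullback.lift_fst _ _ _
        · apply pullback.hom_ext
          · simp only [h₂, pullback.lift_fst]
          · simp only [← h₁, l, Category.assoc, pullback.lift_fst, pullback.lift_snd]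
      haveI : IsClosedImmersion l := MorphismProperty.of_isPullback sq.flip inferInstance
      have h2 : IsClosedMap (pullback.fst t f).base := fun C hC => by
        have h3 := H T (t ≫ q) _ (l.isClosedEmbedding.isClosedMap C hC)
        have h4 : (pullback.fst t f) '' C = γ ⁻¹' (m '' (l '' C)) := by
          ext z
          constructor
          · rintro ⟨c, hc, rfl⟩
            exact ⟨l c, ⟨c, hc, rfl⟩, by rw [← Scheme.Hom.comp_apply, hl, Scheme.Hom.comp_apply]⟩
          · rintro ⟨w, ⟨c, hc, rfl⟩, hw⟩
            refine ⟨c, hc, γ.isEmbedding.injective ?_⟩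
            rw [← hw, ← Scheme.Hom.comp_apply, ← Scheme.Hom.comp_apply, hl]
        exact h4 ▸ h3.preimage γ.continuous
      exact h2
    exact ⟨⟩

end Groth.Agent.S4378
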