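import Groth.Statements.S4395
import Groth.Agent.ProjTopLib.Basic
-- import your own Groth.Agent.* helpers here

set_option autoImplicit false
universe u
open EGA2

namespace Groth.Agent.S4395

/-- Let S be a ring graded in nonnegative degrees, n₀ > 0 an integer and, for every n ≥ n₀, p_n an
additive subgroup of S_n. Then there is a graded prime ideal p of S not containing S_+ with p ∩ S_n
= p_n for all n ≥ n₀ if and only if: (1) S_m p_n ⊆ p_{m+n} for all m ≥ 0 and n ≥ n₀; (2) for m ≥ n₀,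
n ≥ n₀, f ∈ S_m, g ∈ S_n, fg ∈ p_{m+n} implies f ∈ p_m or g ∈ p_n; (3) p_n ≠ S_n for at least one n
≥ n₀. Moreover such a graded prime ideal is unique. -/
theorem result {R A : Type u} [CommRing R] [CommRing A] [Algebra R A] (𝒜 : ℕ → Submodule R A) [GradedAlgebra 𝒜]
    (n₀ : ℕ) (hn₀ : 0 < n₀) (p : ℕ → AddSubgroup A) (hp : ∀ n : ℕ, n₀ ≤ n → (p n : Set A) ⊆ 𝒜 n) :
    ((∃ 𝔭 : HomogeneousIdeal 𝒜, 𝔭.toIdeal.IsPrime ∧ ¬ HomogeneousIdeal.irrelevant 𝒜 ≤ 𝔭 ∧
        ∀ n : ℕ, n₀ ≤ n → (𝔭.toIdeal : Set A) ∩ 𝒜 n = p n) ↔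
      ((∀ m n : ℕ, n₀ ≤ n → ∀ a ∈ 𝒜 m, ∀ b ∈ p n, a * b ∈ p (m + n)) ∧
        (∀ m n : ℕ, n₀ ≤ m → n₀ ≤ n → ∀ f ∈ 𝒜 m, ∀ g ∈ 𝒜 n, f * g ∈ p (m + n) → f ∈ p m ∨ g ∈ p n) ∧
        ∃ n : ℕ, n₀ ≤ n ∧ (p n : Set A) ≠ 𝒜 n)) ∧
    ∀ 𝔭 𝔮 : HomogeneousIdeal 𝒜, 𝔭.toIdeal.IsPrime → 𝔮.toIdeal.IsPrime →
      ¬ HomogeneousIdeal.irrelevant 𝒜 ≤ 𝔭 → ¬ HomogeneousIdeal.irrelevant 𝒜 ≤ 𝔮 →
      (∀ n : ℕ, n₀ ≤ n → (𝔭.toIdeal : Set A) ∩ 𝒜 n = p n) → (∀ n : ℕ, n₀ ≤ n → (𝔮.toIdeal : Set A) ∩ 𝒜 n = p n) →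
      𝔭 = 𝔮 := by
  classical
  refine ⟨⟨?_, ?_⟩, ?_⟩
  · rintro ⟨P, hP, hne, hPp⟩
    have hmem : ∀ n, n₀ ≤ n → ∀ a, a ∈ p n ↔ a ∈ P.toIdeal ∧ a ∈ 𝒜 n := fun n hn a =>
      (Set.ext_iff.mp (hPp n hn) a).symm
    refine ⟨fun m n hn a ha b hb => (hmem _ (by omega) _).mpr
      ⟨Ideal.mul_mem_left _ _ ((hmem n hn b).mp hb).1, SetLike.mul_mem_graded ha ((hmem n hn b).mp hb).2⟩,
      fun m n hm hn f hf g hg h => ?_, ?_⟩
    · exact (hP.mem_or_mem ((hmem _ (by omega) _).mp h).1).imp (fun h' => (hmem m hm f).mpr ⟨h', hf⟩)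
        (fun h' => (hmem n hn g).mpr ⟨h', hg⟩)
    · obtain ⟨e, g, he, hg, hgP⟩ := ProjTopLib.exists_pos_not_mem 𝒜 ⟨P, hP, hne⟩
      have hge : g ^ n₀ ∈ 𝒜 (n₀ * e) := by simpa using SetLike.pow_mem_graded n₀ hg
      have hle : n₀ ≤ n₀ * e := Nat.le_mul_of_pos_right _ he
      exact ⟨n₀ * e, hle, fun h => hgP (hP.mem_of_pow_mem n₀
        ((hmem _ hle _).mp (show g ^ n₀ ∈ p (n₀ * e) from (Set.ext_iff.mp h _).mpr hge)).1)⟩
  · rintro ⟨h1, h2, n, hn, hne⟩
    obtain ⟨f, hf, hfp⟩ : ∃ f ∈ 𝒜 n, f ∉ p n := by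
      by_contra hc
      push Not at hc
      exact hne (Set.Subset.antisymm (hp n hn) hc)
    let C : A → Prop := fun a => ∀ k, (DirectSum.decompose 𝒜 a k : A) * f ∈ p (k + n)
    let I : Ideal A :=
      { carrier := {a | C a}
        zero_mem' := fun k => by
          rw [DirectSum.decompose_zero, DirectSum.zero_apply, ZeroMemClass.coe_zero, zero_mul]
          exact zero_mem _
        add_mem' := fun {a b} ha hb k => by
          rw [DirectSum.decompose_add, DirectSum.add_apply, Submodule.coe_add, add_mul]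
          exact add_mem (ha k) (hb k)
        smul_mem' := fun r a ha => by
          rw [smul_eq_mul]
          intro k
          induction r using DirectSum.Decomposition.inductionOn (ℳ := 𝒜) with
          | zero => rw [zero_mul, DirectSum.decompose_zero, DirectSum.zero_apply, ZeroMemClass.coe_zero, zero_mul]; exact zero_mem _
          | @homogeneous l r =>
            by_cases hle : l ≤ k
            · rw [DirectSum.coe_decompose_mul_of_left_mem_of_le 𝒜 r.2 hle, mul_assoc]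
              have := h1 l (k - l + n) (by omega) r r.2 _ (ha (k - l))
              rwa [show l + (k - l + n) = k + n by omega] at this
            · rw [DirectSum.coe_decompose_mul_of_left_mem_of_not_le 𝒜 r.2 hle, zero_mul]
              exact zero_mem _
          | add x y hx hy =>
            rw [add_mul, DirectSum.decompose_add, DirectSum.add_apply, Submodule.coe_add, add_mul]
            exact add_mem hx hy }
    have hmemI : ∀ {k : ℕ} {a : A}, a ∈ 𝒜 k → (a ∈ I ↔ a * f ∈ p (k + n)) := by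
      intro k a ha
      refine ⟨fun h => by simpa [DirectSum.decompose_of_mem_same 𝒜 ha] using h k, fun h j => ?_⟩
      by_cases hj : k = j
      · subst hj; rwa [DirectSum.decompose_of_mem_same 𝒜 ha]
      · rw [DirectSum.decompose_of_mem_ne 𝒜 ha hj, zero_mul]; exact zero_mem _
    have hhom : I.IsHomogeneous 𝒜 := fun k a ha => (hmemI (SetLike.coe_mem _)).mpr (ha k)
    have hfI : f ∉ I := fun h => (h2 n n hn hn f hf f hf ((hmemI hf).mp h)).elim hfp hfp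
    refine ⟨⟨I, hhom⟩, hhom.isPrime_of_homogeneous_mem_or_mem (fun h => hfI (h ▸ trivial)) ?_,
      fun hle => hfI (hle (ProjTopLib.mem_irrelevant_of_mem 𝒜 (by omega) hf)), fun m hm => ?_⟩
    · rintro x y ⟨k, hx⟩ ⟨l, hy⟩ hxy
      rw [hmemI hx, hmemI hy]
      refine h2 (k + n) (l + n) (by omega) (by omega) _ (SetLike.mul_mem_graded hx hf) _
        (SetLike.mul_mem_graded hy hf) ?_
      have h3 := h1 n (k + l + n) (by omega) f hf _ ((hmemI (SetLike.mul_mem_graded hx hy)).mp hxy)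
      rw [show n + (k + l + n) = k + n + (l + n) by omega, show f * (x * y * f) = x * f * (y * f) by ring] at h3
      exact h3
    · ext a
      refine ⟨fun h => ?_, fun h => ⟨?_, hp m hm h⟩⟩
      · exact (h2 m n hm hn a h.2 f hf ((hmemI h.2).mp h.1)).resolve_right hfp
      · refine (hmemI (hp m hm h)).mpr ?_
        have h4 := h1 n m hm f hf a h
        rwa [mul_comm, add_comm] at h4
  · intro P Q hP hQ hPne hQne hPp hQp
    have key : ∀ (P Q : HomogeneousIdeal 𝒜), P.toIdeal.IsPrime → Q.toIdeal.IsPrime →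
        ¬ HomogeneousIdeal.irrelevant 𝒜 ≤ P →
        (∀ m : ℕ, n₀ ≤ m → (P.toIdeal : Set A) ∩ 𝒜 m = p m) →
        (∀ m : ℕ, n₀ ≤ m → (Q.toIdeal : Set A) ∩ 𝒜 m = p m) → P ≤ Q := by
      intro P Q hP hQ hne hPp hQp a ha
      obtain ⟨e, g, he, hg, hgP⟩ := ProjTopLib.exists_pos_not_mem 𝒜 ⟨P, hP, hne⟩
      have hge : g ^ n₀ ∈ 𝒜 (n₀ * e) := by simpa using SetLike.pow_mem_graded n₀ hg
      have hle : n₀ ≤ n₀ * e := Nat.le_mul_of_pos_right _ he
      have hgQ : g ^ n₀ ∉ Q.toIdeal := fun h => hgP (hP.mem_of_pow_mem n₀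
        ((Set.ext_iff.mp ((hQp _ hle).trans (hPp _ hle).symm) _).mp ⟨h, hge⟩).1)
      change a ∈ Q.toIdeal
      rw [← DirectSum.sum_support_decompose 𝒜 a]
      refine Ideal.sum_mem _ fun k _ => ?_
      have h := ((Set.ext_iff.mp ((hPp (k + n₀ * e) (by omega)).trans (hQp _ (by omega)).symm)
        ((DirectSum.decompose 𝒜 a k : A) * g ^ n₀)).mp
          ⟨Ideal.mul_mem_right _ _ (P.2 k ha), SetLike.mul_mem_graded (SetLike.coe_mem _) hge⟩).1
      exact (hQ.mem_or_mem h).resolve_right hgQ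
    exact le_antisymm (key P Q hP hQ hPne hPp hQp) (key Q P hQ hP hQne hQp hPp)

end Groth.Agent.S4395
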