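import Groth.Statements.S4396
import Groth.Agent.GradedAlgLib.Veronese
import Mathlib.RingTheory.GradedAlgebra.HomogeneousLocalization
-- import your own Groth.Agent.* helpers here

set_option autoImplicit false
universe u
open AlgebraicGeometry
open EGA2

namespace Groth.Agent.S4396

/-- Let S be a ring graded in nonnegative degrees, d > 0, and S^{(d)} the graded ring whose degree-n
part is S_{nd} (given here as any graded ring S' with an injective algebra homomorphism φ : S' → S
carrying S'_n onto S_{nd} for every n); let f' ∈ S'_1, with image f = φ(f') ∈ S_d. Then there is a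
ring isomorphism between the degree-zero homogeneous localization S_(f) and the quotient S'/(f' -
1)S', whose inverse sends the class of an element x of S'_n to the fraction φ(x)/f^n. (The module
part of the published statement is not stated here.) -/
theorem result {R A : Type u} [CommRing R] [CommRing A] [Algebra R A] (𝒜 : ℕ → Submodule R A) [GradedAlgebra 𝒜]
    {B : Type u} [CommRing B] [Algebra R B] (ℬ : ℕ → Submodule R B) [GradedAlgebra ℬ]
    (d : ℕ) (hd : 0 < d) (φ : B →ₐ[R] A) (hφ : Function.Injective φ)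
    (hdeg : ∀ n : ℕ, Submodule.map φ.toLinearMap (ℬ n) = 𝒜 (n * d)) (f' : B) (hf' : f' ∈ ℬ 1) :
    ∃ e : HomogeneousLocalization.Away 𝒜 (φ f') ≃+* B ⧸ Ideal.span {f' - 1},
      ∀ (n : ℕ) (x : B), x ∈ ℬ n →
        (e.symm (Ideal.Quotient.mk (Ideal.span {f' - 1}) x)).val =
          Localization.mk (φ x) ⟨φ f' ^ n, pow_mem (Submonoid.mem_powers (φ f')) n⟩ := by
  classical
  have hg : φ f' ∈ 𝒜 d := by simpa using GradedAlgLib.map_mem 𝒜 ℬ φ hdeg hf'
  have hnd : ∀ n : ℕ, ∀ x ∈ ℬ n, φ x ∈ 𝒜 (n • d) := fun n x hx => by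
    rw [smul_eq_mul]; exact GradedAlgLib.map_mem 𝒜 ℬ φ hdeg hx
  let Ψ : ∀ n : ℕ, ℬ n →+ HomogeneousLocalization.Away 𝒜 (φ f') := fun n =>
    AddMonoidHom.mk' (fun x => HomogeneousLocalization.Away.mk 𝒜 hg n (φ x) (hnd n x x.2)) fun x y => by
      apply HomogeneousLocalization.val_injective
      simp only [HomogeneousLocalization.val_add, HomogeneousLocalization.Away.val_mk, Submodule.coe_add,
        map_add, Localization.add_mk_self]
  let Φ : B →+* HomogeneousLocalization.Away 𝒜 (φ f') :=
    (DirectSum.toSemiring Ψ (by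
        apply HomogeneousLocalization.val_injective
        simp only [Ψ, AddMonoidHom.mk'_apply, HomogeneousLocalization.val_one,
          HomogeneousLocalization.Away.val_mk]
        rw [← Localization.mk_one, Localization.mk_eq_mk_iff, Localization.r_iff_exists]
        exact ⟨1, by simp [SetLike.coe_gOne]⟩)
      (fun {i j} x y => by
        apply HomogeneousLocalization.val_injective
        simp only [Ψ, AddMonoidHom.mk'_apply, HomogeneousLocalization.val_mul,
          HomogeneousLocalization.Away.val_mk, SetLike.coe_gMul, map_mul, Localization.mk_mul]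
        congr 1
        exact Subtype.ext (pow_add (φ f') i j))).comp (DirectSum.decomposeRingEquiv ℬ).toRingHom
  have hΦ : ∀ (n : ℕ) (x : B), x ∈ ℬ n →
      (Φ x).val = Localization.mk (φ x) ⟨φ f' ^ n, pow_mem (Submonoid.mem_powers (φ f')) n⟩ := fun n x hx => by
    have e : Φ x = Ψ n ⟨x, hx⟩ := by
      simp only [Φ, RingHom.coe_comp, Function.comp_apply]
      rw [show (DirectSum.decomposeRingEquiv ℬ).toRingHom x = DirectSum.of (fun i => ℬ i) n ⟨x, hx⟩ from
        DirectSum.decompose_of_mem ℬ hx, DirectSum.toSemiring_of]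
    simp only [e, Ψ, AddMonoidHom.mk'_apply, HomogeneousLocalization.Away.val_mk]
  have hf1 : Φ f' = 1 := by
    apply HomogeneousLocalization.val_injective
    rw [hΦ 1 f' hf', HomogeneousLocalization.val_one, ← Localization.mk_one, Localization.mk_eq_mk_iff,
      Localization.r_iff_exists]
    exact ⟨1, by simp⟩
  have hI : Ideal.span {f' - 1} ≤ RingHom.ker Φ := by
    rw [Ideal.span_le, Set.singleton_subset_iff, SetLike.mem_coe, RingHom.mem_ker, map_sub, hf1, map_one, sub_self]
  let q := Ideal.Quotient.lift (Ideal.span {f' - 1}) Φ hI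
  have hsurj : Function.Surjective q := fun z => by
    obtain ⟨k, a, ha, rfl⟩ := HomogeneousLocalization.Away.mk_surjective 𝒜 hg z
    obtain ⟨x, hx, hxa⟩ := GradedAlgLib.exists_of_mem 𝒜 ℬ φ hdeg (n := k) (a := a) (by rwa [smul_eq_mul] at ha)
    refine ⟨Ideal.Quotient.mk _ x, HomogeneousLocalization.val_injective _ ?_⟩
    rw [Ideal.Quotient.lift_mk, hΦ k x hx, HomogeneousLocalization.Away.val_mk]
    simp only [hxa]
  have hinj : Function.Injective q := by
    refine (injective_iff_map_eq_zero q).mpr fun z hz => ?_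
    obtain ⟨x, rfl⟩ := Ideal.Quotient.mk_surjective z
    rw [Ideal.Quotient.lift_mk] at hz
    have hone : ∀ j : ℕ, (Ideal.Quotient.mk (Ideal.span {f' - 1})) (f' ^ j) = 1 := fun j => by
      have h0 : (Ideal.Quotient.mk (Ideal.span {f' - 1})) f' = 1 := by
        rw [← map_one (Ideal.Quotient.mk (Ideal.span {f' - 1})), Ideal.Quotient.eq]
        exact Ideal.subset_span rfl
      rw [map_pow, h0, one_pow]
    let S := (DirectSum.decompose ℬ x).support
    let K := S.sup id
    let y := ∑ k ∈ S, f' ^ (K - k) * (DirectSum.decompose ℬ x k : B)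
    have hy : y ∈ ℬ K := Submodule.sum_mem _ fun k hk => by
      have h1 : f' ^ (K - k) * (DirectSum.decompose ℬ x k : B) ∈ ℬ ((K - k) • 1 + k) :=
        SetLike.mul_mem_graded (SetLike.pow_mem_graded _ hf') (SetLike.coe_mem _)
      rwa [smul_eq_mul, mul_one, show K - k + k = K from Nat.sub_add_cancel (Finset.le_sup (f := id) hk)] at h1
    have hxy : (Ideal.Quotient.mk (Ideal.span {f' - 1})) x = (Ideal.Quotient.mk (Ideal.span {f' - 1})) y := by
      conv_lhs => rw [← DirectSum.sum_support_decompose ℬ x]
      rw [map_sum, map_sum]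
      exact Finset.sum_congr rfl fun k _ => by rw [map_mul, hone, one_mul]
    have hy0 : Φ y = 0 := by
      have h1 : Φ x = Φ y := by
        rw [← Ideal.Quotient.lift_mk (Ideal.span {f' - 1}) Φ hI, hxy, Ideal.Quotient.lift_mk]
      rw [← h1, hz]
    have h2 := congrArg HomogeneousLocalization.val hy0
    rw [hΦ K y hy, HomogeneousLocalization.val_zero, ← Localization.mk_zero (1 : Submonoid.powers (φ f')),
      Localization.mk_eq_mk_iff, Localization.r_iff_exists] at h2
    obtain ⟨⟨_, N, rfl⟩, hN⟩ := h2
    have h3 : f' ^ N * y = 0 := hφ (by rw [map_mul, map_pow, map_zero]; simpa using hN)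
    rw [hxy, ← one_mul ((Ideal.Quotient.mk (Ideal.span {f' - 1})) y), ← hone N, ← map_mul, h3, map_zero]
  refine ⟨(RingEquiv.ofBijective q ⟨hinj, hsurj⟩).symm, fun n x hx => ?_⟩
  rw [RingEquiv.symm_symm]
  exact (congrArg HomogeneousLocalization.val (Ideal.Quotient.lift_mk (Ideal.span {f' - 1}) Φ hI)).trans (hΦ n x hx)

end Groth.Agent.S4396
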