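import Groth.Statements.S4401
import Groth.Agent.GrTildeLib.Quot
-- import your own Groth.Agent.* helpers here

set_option autoImplicit false
universe u
open CategoryTheory CategoryTheory.Limits AlgebraicGeometry
open EGA2

namespace Groth.Agent.S4401

/-- Let S be a ring graded in nonnegative degrees whose irrelevant ideal S_+ is generated by finitely
many elements of degree one, and X = Proj S. Then for every integer n ≥ 0 there exist an integer k
and an epimorphism of O_X-modules O_X^k → O_X(n). -/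
theorem result {R A : Type u} [CommRing R] [CommRing A] [Algebra R A] (𝒜 : ℕ → Submodule R A) [GradedAlgebra 𝒜]
    (s : Finset A) (hs1 : ∀ f ∈ s, f ∈ 𝒜 1)
    (hs : (HomogeneousIdeal.irrelevant 𝒜).toIdeal = Ideal.span (s : Set A)) (n : ℕ) :
    ∃ (k : ℕ) (p : FlatMod.freeMod (Proj 𝒜) k ⟶ Twist.twist 𝒜 (n : ℤ)), Epi p := by
  classical
  obtain ⟨T, hT⟩ : ∃ T : Finset A, Submodule.span A (T : Set A) = ⊤ := ⟨{1}, by simp⟩
  have : Module.Finite A A := ⟨⟨T, hT⟩⟩
  let I := s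
  let sec : {x // x ∈ s} → Γ(GrTilde.tilde 𝒜 𝒜 (n : ℤ), ⊤) := fun f =>
    (GrTilde.globalOf 𝒜 𝒜 (i := n) ⟨f.1 ^ n, by simpa using SetLike.pow_mem_graded n (hs1 f.1 f.2)⟩ :
      GrTilde.sect 𝒜 𝒜 (n : ℤ) (Opposite.op ⊤))
  let e := Fintype.equivFin {x // x ∈ s}
  have := GrTildeLib.isQCoh_tilde (𝒜 := 𝒜) (ℳ := 𝒜) (n : ℤ)
  have hp : Epi (Sigma.desc fun i => QCohLib.unitHom _ (sec (e.symm i))) := by
    refine GrTildeLib.epi_sigma_desc_unitHom _ fun x => ?_
    obtain ⟨f, hf, hfx⟩ := GrTildeLib.cover_of_span s hs x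
    refine ⟨Proj.basicOpen 𝒜 f, Proj.isAffineOpen_basicOpen 𝒜 f (hs1 f hf) one_pos, hfx, ?_⟩
    have h1 := GrTildeLib.span_chart (ℳ := 𝒜) (hs1 f hf) (T := ({1} : Finset A)) (deg := fun _ => 0)
      (fun z hz => by rw [Finset.mem_singleton.mp hz]; exact SetLike.GradedOne.one_mem) (by simp)
      (q := (n : ℤ)) (fun _ => n) (fun _ => 0) (fun z _ => by simp)
      (fun _ => (GrTilde.tilde 𝒜 𝒜 (n : ℤ)).presheaf.map (homOfLE le_top).op (sec ⟨f, hf⟩))
      (fun z hz y => by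
        rw [GrTildeLib.val_res]
        refine GrTildeLib.mk_congr ?_
        change f ^ 0 • f ^ n = (1 : A) • f ^ n • z
        rw [Finset.mem_singleton.mp hz]
        simp)
    refine eq_top_iff.mpr (h1.ge.trans (Submodule.span_le.mpr ?_))
    rintro _ ⟨z, -, rfl⟩
    exact Submodule.subset_span ⟨e ⟨f, hf⟩, by simp only [Equiv.symm_apply_apply]⟩
  exact ⟨_, Sigma.desc (fun i => QCohLib.unitHom _ (sec (e.symm i))) ≫ (GrTildeLib.twistIsoTilde 𝒜 (n : ℤ)).inv,
    epi_comp _ _⟩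

end Groth.Agent.S4401
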