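import Groth.Statements.S5877
import Mathlib
import Groth.Agent.QCSubLib.Main
import Groth.Agent.EGA2SymLib.FinGen
import Groth.Agent.EGA2SymLib.ImmCrit
-- import your own Groth.Agent.* helpers here

set_option autoImplicit false
universe u
open CategoryTheory AlgebraicGeometry Opposite
open Lim8

namespace Groth.Agent.S5877

/-- Equivalence of a) and b): let Y be a quasi-compact quasi-separated scheme, f : X ⟶ Y a
quasi-separated morphism of finite type, C a quasi-coherent O_Y-algebra with relative spectrum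
Spec(C) ⟶ Y, and g : X ⟶ Spec(C) a Y-morphism. The quasi-coherent sub-O_Y-algebras of C of finite
type form an increasing filtered family with union C; here such a sub-algebra is a quasi-coherent
O_Y-algebra C' with a homomorphism C' ⟶ C that is injective on sections over every open, and with
C'(U) a finitely generated O_Y(U)-algebra for every affine open U of Y. Then g is an immersion if
and only if, for some quasi-coherent sub-algebra C' of C of finite type, the composite X ⟶ Spec(C) ⟶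
Spec(C') is an immersion. -/
theorem result {X Y : Scheme.{u}}
    [CompactSpace Y] [QuasiSeparatedSpace Y]
    (f : X ⟶ Y) [LocallyOfFiniteType f] [QuasiCompact f] [QuasiSeparated f]
    (C : RelSpec.QCAlg Y) (g : X ⟶ C.spec) (hg : g ≫ C.π = f) :
    IsImmersion g ↔
      ∃ (C' : RelSpec.QCAlg Y) (φ : C' ⟶ C),
        (∀ U : Y.Opens, Function.Injective (φ.hom.app (op U))) ∧
        (∀ U : Y.affineOpens, (C'.str.app (op (U : Y.Opens))).hom.FiniteType) ∧
        IsImmersion (g ≫ RelSpec.QCAlg.specMap φ) := by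
  classical
  constructor
  swap
  · rintro ⟨C', φ, -, -, h⟩
    haveI := h
    exact IsImmersion.of_comp g (RelSpec.QCAlg.specMap φ)
  intro himm
  haveI := himm
  have hW : ∀ (U : Y.Opens) (hU : IsAffineOpen U), Set.range ((f ⁻¹ᵁ U).ι ≫ g).base ⊆ Set.range (C.ι U hU).base := by
    intro U hU
    rintro _ ⟨w, rfl⟩
    refine (C.π_preimage U hU).le (x := g w.1) ?_
    show C.π (g w.1) ∈ U
    rw [← Scheme.Hom.comp_apply, hg]
    exact w.2
  let gU := fun (U : Y.Opens) (hU : IsAffineOpen U) => IsOpenImmersion.lift (C.ι U hU) ((f ⁻¹ᵁ U).ι ≫ g) (hW U hU)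
  have hgU : ∀ (U : Y.Opens) (hU : IsAffineOpen U), gU U hU ≫ C.ι U hU = (f ⁻¹ᵁ U).ι ≫ g := fun U hU =>
    IsOpenImmersion.lift_fac _ _ _
  have himU : ∀ (U : Y.Opens) (hU : IsAffineOpen U), IsImmersion (gU U hU) := fun U hU => by
    haveI : IsImmersion (gU U hU ≫ C.ι U hU) := hgU U hU ▸ inferInstance
    exact IsImmersion.of_comp (gU U hU) (C.ι U hU)
  have hπ : ∀ (U : Y.Opens) (hU : IsAffineOpen U), f.resLE U (f ⁻¹ᵁ U) le_rfl =
      gU U hU ≫ Spec.map (C.str.app (op U)) ≫ hU.isoSpec.inv := by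
    intro U hU
    rw [← cancel_mono U.ι, Scheme.Hom.resLE_comp_ι, Category.assoc, Category.assoc, hU.isoSpec_inv_ι,
      ← C.ι_π U hU, reassoc_of% (hgU U hU), hg]
  have hgen : ∀ U : Y.affineOpens, ∃ T : Finset (C.presheaf.obj (op U.1)),
      ∀ B : Subring Γ((f ⁻¹ᵁ U.1).toScheme, ⊤),
        (∀ c ∈ T, (gU U.1 U.2).appTop ((Scheme.ΓSpecIso (C.presheaf.obj (op U.1))).inv c) ∈ B) →
        Set.range (f.resLE U.1 (f ⁻¹ᵁ U.1) le_rfl).appTop ⊆ B →
          IsImmersion (EGA2SymLib.toSpecSubring (f ⁻¹ᵁ U.1).toScheme B) := by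
    intro U
    haveI := himU U.1 U.2
    haveI : IsAffine (U.1 : Scheme.{u}) := U.2
    haveI : CompactSpace (f ⁻¹ᵁ U.1).toScheme :=
      isCompact_iff_compactSpace.mp (f.isCompact_preimage U.2.isCompact)
    obtain ⟨S, hS, hB⟩ := EGA2SymLib.exists_finite_gens (gU U.1 U.2) (f.resLE U.1 (f ⁻¹ᵁ U.1) le_rfl)
    choose! c hc using fun s (hs : s ∈ S) => hS hs
    refine ⟨S.image fun s => (Scheme.ΓSpecIso (C.presheaf.obj (op U.1))).hom (c s), fun B h1 h2 => hB B (fun s hs => ?_) h2⟩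
    have h3 := h1 _ (Finset.mem_image_of_mem _ hs)
    rw [CategoryTheory.Iso.hom_inv_id_apply, hc s hs] at h3
    exact h3
  choose T hT using hgen
  obtain ⟨t, ht⟩ : ∃ t : Finset Y.affineOpens, (Set.univ : Set Y) ⊆ ⋃ V ∈ t, (V.1 : Set Y) :=
    isCompact_univ.elim_finite_subcover (fun V : Y.affineOpens => (V.1 : Set Y))
      (fun V => V.1.isOpen) (fun p _ => by
        obtain ⟨V, hV, hp⟩ := QCohLib.exists_affine_nhd p
        exact Set.mem_iUnion.mpr ⟨⟨V, hV⟩, hp⟩)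
  haveI := QCSubLib.isQCoh_toModule C
  obtain ⟨S, hS, hSt⟩ := EGA2SymLib.exists_ft_through_finset (F := C.toModule)
    (t.biUnion fun U => (T U).image fun b => (⟨U, b⟩ : Σ V : Y.affineOpens, Γ(C.toModule, V.1)))
  haveI := QCohLib.LocSub.isQCoh_toModules S hS
  let C' := SymGenLib.sub C S.ι
  let φ : C' ⟶ C := SymGenLib.incl C S.ι
  refine ⟨C', φ, fun U a b h => Subtype.ext h,
    fun U => QCSubLib.finiteType_sub C (QCohLib.LocSub.isFT_toModules S hS) S.ι U.2,
    EGA2SymLib.isImmersion_of_targets _ fun x => ?_⟩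
  obtain ⟨U, hUt, hxU⟩ := Set.mem_iUnion₂.mp (ht (Set.mem_univ (f x)))
  haveI := himU U.1 U.2
  haveI : IsAffine (U.1 : Scheme.{u}) := U.2
  let h' := gU U.1 U.2 ≫ Spec.map (φ.hom.app (op U.1))
  have hπ' : f.resLE U.1 (f ⁻¹ᵁ U.1) le_rfl = h' ≫ Spec.map (C'.str.app (op U.1)) ≫ U.2.isoSpec.inv := by
    rw [hπ U.1 U.2, Category.assoc, ← Spec.map_comp_assoc, ← NatTrans.comp_app, φ.comm]
  let B : Subring Γ((f ⁻¹ᵁ U.1).toScheme, ⊤) := h'.appTop.hom.range
  haveI := hT U B (fun c hc => ?_) (by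
    rintro _ ⟨r, rfl⟩
    rw [hπ']
    exact ⟨_, rfl⟩)
  swap
  · let y : C'.presheaf.obj (op U.1) := ⟨c, (SymGenLib.mem_affine C S.ι U.2).mpr (SymGenLib.j_mem C S.ι U.1
      (S.lift c (hSt ⟨U, c⟩ (Finset.mem_biUnion.mpr ⟨U, hUt, Finset.mem_image_of_mem _ hc⟩))))⟩
    refine ⟨(Scheme.ΓSpecIso (C'.presheaf.obj (op U.1))).inv y, ?_⟩
    show h'.appTop ((Scheme.ΓSpecIso (C'.presheaf.obj (op U.1))).inv y) = _
    rw [Scheme.Hom.comp_appTop, CommRingCat.comp_apply]
    refine congrArg (gU U.1 U.2).appTop ?_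
    exact congr($((Scheme.ΓSpecIso_inv_naturality (φ.hom.app (op U.1))).symm) y)
  haveI : IsImmersion h' := EGA2SymLib.isImmersion_of_range_le
    (EGA2SymLib.toSpecSubring (f ⁻¹ᵁ U.1).toScheme B) h' (by
      rintro _ ⟨a, rfl⟩
      obtain ⟨β, rfl⟩ := (ConcreteCategory.bijective_of_isIso (Scheme.ΓSpecIso (CommRingCat.of B)).inv).2 a
      show (EGA2SymLib.toSpecSubring (f ⁻¹ᵁ U.1).toScheme B).appTop _ ∈ B
      rw [EGA2SymLib.toSpecSubring_appTop]
      exact β.2)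
  refine ⟨C'.π ⁻¹ᵁ U.1, ?_, ?_⟩
  · show C'.π (RelSpec.QCAlg.specMap φ (g x)) ∈ U.1
    rw [← Scheme.Hom.comp_apply (RelSpec.QCAlg.specMap φ), RelSpec.QCAlg.specMap_π, ← Scheme.Hom.comp_apply, hg]
    exact hxU
  · have e : (g ≫ RelSpec.QCAlg.specMap φ) ⁻¹ᵁ (C'.π ⁻¹ᵁ U.1) = f ⁻¹ᵁ U.1 := by
      rw [← Scheme.Hom.comp_preimage, Category.assoc, RelSpec.QCAlg.specMap_π, hg]
    rw [e]
    have : (f ⁻¹ᵁ U.1).ι ≫ g ≫ RelSpec.QCAlg.specMap φ = h' ≫ C'.ι U.1 U.2 := by
      rw [← reassoc_of% (hgU U.1 U.2), RelSpec.QCAlg.ι_specMap, Category.assoc]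
    rw [this]
    infer_instance

end Groth.Agent.S5877
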