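import Groth.Statements.S4410
import Mathlib
import Mathlib
import Groth.Agent.QAffFactorLib.Main
import Groth.Agent.S5877
-- import your own Groth.Agent.* helpers here

set_option autoImplicit false
universe u
open CategoryTheory CategoryTheory.Limits AlgebraicGeometry
open EGA2

namespace Groth.Agent.S4410

/-- Let Y be a quasi-compact separated scheme and f : X → Y a quasi-affine morphism of finite type. Then
there are a scheme X'', an affine morphism of finite type g : X'' → Y and an immersion j : X → X''
with j ≫ g = f. (The published statement also allows Y to be a scheme whose underlying space is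
Noetherian; this row assumes it quasi-compact and separated. The published statement realises X'' as
the relative spectrum of a quasi-coherent sub-algebra of finite type of f_*O_X, and says every
larger such sub-algebra also works; only the resulting factorisation is stated here.) -/
theorem result {X Y : Scheme.{u}} [CompactSpace Y] [Y.IsSeparated]
    (f : X ⟶ Y) (hf : Mor2.IsQuasiAffine f) [LocallyOfFiniteType f] :
    ∃ (X'' : Scheme.{u}) (g : X'' ⟶ Y) (j : X ⟶ X''), IsAffineHom g ∧ LocallyOfFiniteType g ∧ IsImmersion j ∧ j ≫ g = f := by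
  haveI := hf.1
  haveI : QuasiSeparated f := by
    rw [HasAffineProperty.iff_of_iSup_eq_top (P := @QuasiSeparated) (fun V : Y.affineOpens => V)
      (iSup_affineOpens_eq_top Y)]
    intro V
    haveI := hf.2 V.1 V.2
    show QuasiSeparatedSpace ↥(f ⁻¹ᵁ V.1).toScheme
    haveI : (f ⁻¹ᵁ V.1 : Scheme.{u}).IsSeparated := inferInstance
    infer_instance
  let C := RelSpec.QCAlg.directImage f
  obtain ⟨g, hg, himm⟩ := QAffFactorLib.exists_immersion_directImage f hf.2
  obtain ⟨C', φ, -, hft, hI⟩ := (Groth.Agent.S5877.result f C g hg).mp himm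
  haveI hA : IsAffineHom C'.π := ⟨fun U hU => by
    rw [C'.π_preimage U hU]
    exact isAffineOpen_opensRange _⟩
  refine ⟨C'.spec, C'.π, g ≫ RelSpec.QCAlg.specMap φ, hA, ?_, hI, by
    rw [Category.assoc, RelSpec.QCAlg.specMap_π, hg]⟩
  refine (IsZariskiLocalAtSource.iff_of_openCover (P := @LocallyOfFiniteType) C'.glueData.cover).mpr fun V => ?_
  show LocallyOfFiniteType (C'.ι V.1 V.2 ≫ C'.π)
  rw [C'.ι_π]
  haveI : LocallyOfFiniteType (Spec.map (C'.str.app (Opposite.op V.1))) :=
    (HasRingHomProperty.Spec_iff (P := @LocallyOfFiniteType)).mpr (hft ⟨V.1, V.2⟩)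
  infer_instance

end Groth.Agent.S4410
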