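import Groth.Statements.S4413
import Groth.Agent.TwistLib.ProjSymExt

set_option autoImplicit false
universe u
open CategoryTheory CategoryTheory.Limits AlgebraicGeometry
open EGA2

namespace Groth.Agent.S4413

open AmpleLib in
lemma unitHom_eq {X : Scheme.{u}} {M : X.Modules} (s : Coh.structureModule X ⟶ M) :
    s = QCohLib.unitHom M (s.app ⊤ (1 : Γ(X, ⊤))) := by
  apply Scheme.Modules.hom_ext
  intro V
  refine ConcreteCategory.hom_ext _ _ fun (r : Γ(X, V)) => ?_
  rw [QCohLib.unitHom_app, ← QCohLib.app_map]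
  refine Eq.trans ?_ (QCohLib.app_smul s V r _)
  refine congrArg (s.app V) ?_
  refine Eq.trans ?_ (congrArg (fun t : Γ(X, V) => r * t)
    (map_one (X.presheaf.map (homOfLE (le_top : V ≤ ⊤)).op).hom).symm)
  exact (mul_one r).symm

/-- Let u : Z → S be a morphism of schemes, L an invertible O_S-module, s : O_S → L a global section of
L and s' the section of u^*(L) corresponding to s, i.e. u^*(s) composed with an isomorphism O_Z ≅
u^*(O_S) (the locus in question does not depend on that choice). Then the open Z_{s'} of Z where s'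
generates u^*(L) is the preimage u⁻¹(S_s) of the open where s generates L. -/
theorem result {Z S : Scheme.{u}} (u : Z ⟶ S) (L : S.Modules) (hL : PicF.IsInvertible L)
    (s : Coh.structureModule S ⟶ L)
    (e : Coh.structureModule Z ≅ (Scheme.Modules.pullback u).obj (Coh.structureModule S)) :
    CohB1.genLocus ((Scheme.Modules.pullback u).obj L) (e.hom ≫ (Scheme.Modules.pullback u).map s) = u ⁻¹ᵁ CohB1.genLocus L s := by
  let σ : Γ(L, ⊤) := s.app ⊤ (1 : Γ(S, ⊤))
  let φ := e.hom ≫ (Scheme.Modules.pullback u).map s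
  rw [(congrArg (CohB1.genLocus L) (unitHom_eq s)).trans
    (AmpleLib.genLocus_eq σ (TwistLib.genSet hL σ) (fun _ => Iff.rfl))]
  refine (congrArg (CohB1.genLocus _) (unitHom_eq φ)).trans ?_
  refine AmpleLib.genLocus_eq _ _ fun z => ?_
  obtain ⟨U, g, hgU, hg⟩ := TwistLib.exists_genOn hL (u z)
  refine Iff.trans ?_ (TwistLib.genAt_puSec_iff u hg σ hgU)
  let one' := KFlatLib.puSec u (M := Coh.structureModule S) (U := ⊤) (1 : Γ(S, ⊤))
  have hone : AmpleLib.GenAt (KFlatLib.pb u (Coh.structureModule S)) one'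
      (show z ∈ u ⁻¹ᵁ ⊤ from trivial) :=
    TwistLib.GenAt.puSec u ((AmpleLib.one_genOn ⊤).genAt (x := u z) trivial)
  have he1 : AmpleLib.GenAt (KFlatLib.pb u (Coh.structureModule S)) (e.hom.app ⊤ (1 : Γ(Z, ⊤)))
      (show z ∈ (⊤ : Z.Opens) from trivial) :=
    (TwistLib.genAt_app_iso e _ _).mpr ((AmpleLib.one_genOn ⊤).genAt trivial)
  obtain ⟨c, hc⟩ := hone.2 ((KFlatLib.pb u (Coh.structureModule S)).presheaf.germ ⊤ z trivial
    (e.hom.app ⊤ (1 : Γ(Z, ⊤))))
  dsimp only at hc
  obtain ⟨d, hd⟩ := he1.2 ((KFlatLib.pb u (Coh.structureModule S)).presheaf.germ (u ⁻¹ᵁ ⊤) z trivial one')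
  dsimp only at hd
  rw [← hc, smul_smul] at hd
  have hcu : IsUnit c := IsUnit.of_mul_eq_one_right d (hone.1 (show (d * c) • _ = (1 : Z.presheaf.stalk z) • _ by rw [hd, one_smul]))
  let f := ((DerSch.stalkFunctor Z z).map ((Scheme.Modules.pullback u).map s)).hom
  have key : (KFlatLib.pb u L).presheaf.germ ⊤ z trivial (φ.app ⊤ (1 : Γ(Z, ⊤))) =
      c • (KFlatLib.pb u L).presheaf.germ (u ⁻¹ᵁ ⊤) z trivial (KFlatLib.puSec u σ) := by
    refine (DerSch.stalkFunctor_map_germ z ((Scheme.Modules.pullback u).map s) ⊤ trivial _).symm.trans ?_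
    refine (congrArg f hc.symm).trans ((f.map_smul c _).trans (congrArg (c • ·) ?_))
    refine (DerSch.stalkFunctor_map_germ z ((Scheme.Modules.pullback u).map s) (u ⁻¹ᵁ ⊤) trivial _).trans ?_
    exact congrArg _ (KFlatLib.puSec_natural u s (1 : Γ(S, ⊤)))
  unfold AmpleLib.GenAt
  rw [key]
  simp only [smul_smul]
  exact Function.Bijective.of_comp_iff (fun a : Z.presheaf.stalk z => a •
    (KFlatLib.pb u L).presheaf.germ (u ⁻¹ᵁ ⊤) z trivial (KFlatLib.puSec u σ)) (Units.mulRight_bijective hcu.unit)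

end Groth.Agent.S4413
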