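import Groth.Statements.S4429
import Mathlib
-- import your own Groth.Agent.* helpers here

set_option autoImplicit false
universe u
open EGA2

namespace Groth.Agent.S4429

open scoped TensorProduct

theorem charpoly_aux {A : Type u} [CommRing A] [IsDomain A] {K : Type u} [Field K] [Algebra A K]
    {E : Type u} [AddCommGroup E] [Module A E] [Module.Finite A E] (u : E →ₗ[A] E) (i : ℕ) :
    IsIntegral A (((u.baseChange K).charpoly).coeff i) := by
  classical
  obtain ⟨P, hPm, hP⟩ := LinearMap.exists_monic_and_aeval_eq_zero (R := A) u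
  let Ω := AlgebraicClosure K
  let b := Module.Free.chooseBasis K (K ⊗[A] E)
  let M := LinearMap.toMatrixAlgEquiv b (u.baseChange K)
  have h1 : Polynomial.aeval (u.baseChange K) (P.map (algebraMap A K)) = 0 := by
    rw [Polynomial.aeval_map_algebraMap]
    have h := Polynomial.aeval_algHom_apply (Module.End.baseChangeHom A K E) u P
    rw [hP, map_zero] at h
    exact h
  have h2 : Polynomial.aeval M (P.map (algebraMap A K)) = 0 := by
    have h := Polynomial.aeval_algHom_apply (LinearMap.toMatrixAlgEquiv b).toAlgHom (u.baseChange K)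
      (P.map (algebraMap A K))
    rw [h1, map_zero] at h
    exact h
  let MΩ : Matrix _ _ Ω := (Algebra.ofId K Ω).mapMatrix M
  have h3 : Polynomial.aeval MΩ (P.map (algebraMap A Ω)) = 0 := by
    have h := Polynomial.aeval_algHom_apply (Algebra.ofId K Ω).mapMatrix M
      (P.map (algebraMap A K))
    rw [h2, map_zero] at h
    rw [← h, IsScalarTower.algebraMap_eq A K Ω, ← Polynomial.map_map,
      Polynomial.aeval_map_algebraMap]
  have hchar : MΩ.charpoly = ((u.baseChange K).charpoly).map (algebraMap K Ω) := by
    rw [← LinearMap.charpoly_toMatrix (u.baseChange K) b]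
    exact Matrix.charpoly_map _ _
  have hroots : ∀ r ∈ MΩ.charpoly.roots, IsIntegral A r := by
    intro r hr
    have hr' := (Polynomial.mem_roots'.1 hr).2
    rcases isEmpty_or_nonempty (Module.Free.ChooseBasisIndex K (K ⊗[A] E)) with h0 | h0
    · simp [Matrix.charpoly, Matrix.det_isEmpty, Polynomial.IsRoot] at hr'
    · have hsp : r ∈ spectrum Ω MΩ := Matrix.mem_spectrum_iff_isRoot_charpoly.2 hr'
      have h := spectrum.subset_polynomial_aeval MΩ (P.map (algebraMap A Ω)) ⟨r, hsp, rfl⟩
      rw [h3, spectrum.zero_eq, Set.mem_singleton_iff] at h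
      exact ⟨P, hPm, by rwa [← Polynomial.eval_map]⟩
  have hl : MΩ.charpoly ∈ Polynomial.lifts (algebraMap (integralClosure A Ω) Ω) := by
    rw [(IsAlgClosed.splits MΩ.charpoly).eq_prod_roots_of_monic (Matrix.charpoly_monic _)]
    refine multiset_prod_mem _ ?_
    intro q hq
    obtain ⟨r, hr, rfl⟩ := Multiset.mem_map.1 hq
    rw [sub_eq_add_neg, ← map_neg]
    exact add_mem (Polynomial.X_mem_lifts _)
      (Polynomial.C'_mem_lifts (⟨-⟨r, hroots r hr⟩, map_neg _ _⟩))
  obtain ⟨c, hc⟩ := (Polynomial.lifts_iff_coeff_lifts _).1 hl i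
  rw [hchar, Polynomial.coeff_map] at hc
  refine (isIntegral_algHom_iff (IsScalarTower.toAlgHom A K Ω)
    (algebraMap K Ω).injective).1 ?_
  show IsIntegral A (algebraMap K Ω _)
  rw [← hc]
  exact c.2

/-- For an integral domain A with fraction field K, a finitely generated A-module E and an endomorphism
u of E, the coefficients of the characteristic polynomial of u ⊗ 1 acting on the K-vector space K
⊗_A E (the elementary symmetric functions of u, among them its trace and determinant) are integral
over A. -/
theorem result (A : Type u) [CommRing A] [IsDomain A] (K : Type u) [Field K]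
    [Algebra A K] [IsFractionRing A K] (E : Type u) [AddCommGroup E] [Module A E] [Module.Finite A E]
    (u : E →ₗ[A] E) (i : ℕ) :
    IsIntegral A (((u.baseChange K).charpoly).coeff i) := by
  exact charpoly_aux u i

end Groth.Agent.S4429
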