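import Groth.Statements.S4430
import Groth.Agent.S4429
import Mathlib
-- import your own Groth.Agent.* helpers here

set_option autoImplicit false
universe u
open EGA2

namespace Groth.Agent.S4430

/-- Let A be an integral domain with fraction field K, E a finitely generated A-module and u an
endomorphism of E whose characteristic-polynomial coefficients (those of u ⊗ 1 on K ⊗_A E) all lie
in A. If u is an automorphism of E, then its determinant, as an element of A, is invertible in A. -/
theorem result (A : Type u) [CommRing A] [IsDomain A] (K : Type u) [Field K]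
    [Algebra A K] [IsFractionRing A K] (E : Type u) [AddCommGroup E] [Module A E] [Module.Finite A E]
    (u : E →ₗ[A] E) (hcoeff : ∀ i : ℕ, ((u.baseChange K).charpoly).coeff i ∈ (algebraMap A K).range)
    (a : A) (ha : algebraMap A K a = LinearMap.det (u.baseChange K)) (hu : Function.Bijective u) :
    IsUnit a := by
  obtain ⟨v, hv⟩ : ∃ v : E →ₗ[A] E, v ∘ₗ u = LinearMap.id :=
    ⟨(LinearEquiv.ofBijective u hu).symm.toLinearMap, LinearMap.ext fun x => by simp⟩
  have h1 : LinearMap.det (v.baseChange K) * algebraMap A K a = 1 := by
    rw [ha, ← LinearMap.det_comp, ← LinearMap.baseChange_comp, hv, LinearMap.baseChange_id,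
      LinearMap.det_id]
  have hint : IsIntegral A (LinearMap.det (v.baseChange K)) := by
    rw [LinearMap.det_eq_sign_charpoly_coeff]
    exact ((isIntegral_one.neg).pow _).mul (Groth.Agent.S4429.charpoly_aux v 0)
  have hloc : IsLocalHom (algebraMap A (integralClosure A K)) :=
    RingHom.IsIntegral.isLocalHom
      (fun x => Algebra.IsIntegral.isIntegral x)
      (fun x y h => IsFractionRing.injective A K (congrArg Subtype.val h))
  refine hloc.map_nonunit a ?_
  exact .of_mul_eq_one (⟨_, hint⟩ : integralClosure A K) (Subtype.ext (by rw [mul_comm] at h1; exact h1))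

end Groth.Agent.S4430
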