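import Groth.Statements.S4431
import Mathlib
-- import your own Groth.Agent.* helpers here

set_option autoImplicit false
universe u
open EGA2
open scoped TensorProduct

namespace Groth.Agent.S4431

/-- Let A be an integral domain with fraction field K, E a finitely generated torsion-free A-module and
u an endomorphism of E whose characteristic-polynomial coefficients (those of u ⊗ 1 on K ⊗_A E) all
lie in A. If the determinant of u is the image of a unit of A, then u is an automorphism of E. -/
theorem result (A : Type u) [CommRing A] [IsDomain A] (K : Type u) [Field K]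
    [Algebra A K] [IsFractionRing A K] (E : Type u) [AddCommGroup E] [Module A E] [Module.Finite A E]
    [Module.IsTorsionFree A E]
    (u : E →ₗ[A] E) (hcoeff : ∀ i : ℕ, ((u.baseChange K).charpoly).coeff i ∈ (algebraMap A K).range)
    (a : A) (ha : algebraMap A K a = LinearMap.det (u.baseChange K)) (hunit : IsUnit a) :
    Function.Bijective u := by
  classical
  let φ := u.baseChange K
  have hcA : φ.charpoly ∈ Polynomial.lifts (algebraMap A K) :=
    (Polynomial.lifts_iff_coeff_lifts _).2 hcoeff
  obtain ⟨P, hP⟩ := (Polynomial.mem_lifts _).1 hcA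
  have hι : Function.Injective (TensorProduct.mk A K E 1) := by
    intro x y hxy
    obtain ⟨⟨c, hc⟩, h⟩ := (IsLocalizedModule.eq_iff_exists (nonZeroDivisors A) _).1 hxy
    exact smul_right_injective E (nonZeroDivisors.ne_zero hc) h
  have hbc : ∀ (Q : Polynomial A) x, Polynomial.aeval φ (Q.map (algebraMap A K)) ((1 : K) ⊗ₜ[A] x) =
      (1 : K) ⊗ₜ[A] (Polynomial.aeval u Q x) := by
    intro Q x
    rw [Polynomial.aeval_map_algebraMap]
    have h := Polynomial.aeval_algHom_apply (Module.End.baseChangeHom A K E) u Q
    exact (LinearMap.congr_fun h (1 ⊗ₜ x)).trans rfl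
  have hPu : Polynomial.aeval u P = 0 := LinearMap.ext fun x => hι (by
    show (1 : K) ⊗ₜ[A] _ = (1 : K) ⊗ₜ[A] _
    rw [← hbc, hP, LinearMap.aeval_self_charpoly]
    simp)
  have hc0 : IsUnit (P.coeff 0) := by
    have h := LinearMap.det_eq_sign_charpoly_coeff φ
    rw [← hP, Polynomial.coeff_map, ← ha] at h
    have h' : a = (-1) ^ Module.finrank K (K ⊗[A] E) * P.coeff 0 :=
      IsFractionRing.injective A K (by rw [h, map_mul, map_pow, map_neg, map_one])
    rw [h'] at hunit
    exact isUnit_of_mul_isUnit_right hunit
  let q := Polynomial.aeval u P.divX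
  have h1 : q * u + algebraMap A (Module.End A E) (P.coeff 0) = 0 := by
    conv_rhs => rw [← hPu, ← Polynomial.divX_mul_X_add P]
    simp [q]
  have h2 : u * q + algebraMap A (Module.End A E) (P.coeff 0) = 0 := by
    have := congrArg (Polynomial.aeval u) (Polynomial.X_mul_divX_add P)
    rw [map_add, map_mul, Polynomial.aeval_X, Polynomial.aeval_C, hPu] at this
    exact this
  constructor
  · intro x y hxy
    have hx := LinearMap.congr_fun h1 x
    have hy := LinearMap.congr_fun h1 y
    simp only [LinearMap.add_apply, Module.End.mul_apply, Module.algebraMap_end_apply,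
      LinearMap.zero_apply] at hx hy
    exact hc0.smul_left_cancel.1 (add_left_cancel (hx.trans (hxy ▸ hy.symm)))
  · intro y
    obtain ⟨c, hc⟩ := hc0
    refine ⟨-(q (c⁻¹.1 • y)), ?_⟩
    have hy := LinearMap.congr_fun h2 (c⁻¹.1 • y)
    simp only [LinearMap.add_apply, Module.End.mul_apply, Module.algebraMap_end_apply,
      LinearMap.zero_apply, smul_smul, ← hc, Units.mul_inv, one_smul] at hy
    rw [map_neg]
    exact neg_eq_of_add_eq_zero_right hy

end Groth.Agent.S4431
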