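import Groth.Statements.S4432
import Groth.Agent.NormDescLib.IntegralCoeff
import Mathlib.RingTheory.Finiteness.Projective
import Mathlib.RingTheory.Ideal.MinimalPrime.Noetherian
import Mathlib.RingTheory.Localization.Submodule
import Mathlib.RingTheory.Polynomial.Basic
import Mathlib.RingTheory.LocalProperties.Reduced
import Mathlib.Algebra.MvPolynomial.Nilpotent
import Mathlib.LinearAlgebra.Charpoly.ToMatrix

set_option autoImplicit false
universe u
open EGA2

namespace Groth.Agent.S4432

open Polynomial in
theorem isIntegral_coeff_of_reduced {R : Type u} [CommRing R] {K' : Type u} [CommRing K'] [IsReduced K'] [Algebra R K']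
    (hfin : (minimalPrimes K').Finite) {r : ℕ} (M : Matrix (Fin r) (Fin r) K') (g : R[X]) (hg : g.Monic)
    (hM : aeval M g = 0) (k : ℕ) : IsIntegral R (M.charpoly.coeff k) := by
  classical
  have h : ∀ P : hfin.toFinset, ∃ q : R[X], q.Monic ∧ aeval (M.charpoly.coeff k) q ∈ (P : Ideal K') := by
    rintro ⟨P, hP⟩
    have : P.IsPrime := Ideal.minimalPrimes_isPrime (hfin.mem_toFinset.1 hP)
    let φ : K' →ₐ[R] K' ⧸ P := Ideal.Quotient.mkₐ R P
    have h0 := NormDescLib.isIntegral_charpoly_coeff (φ.mapMatrix M) g hg
      (by rw [aeval_algHom_apply, hM, map_zero]) k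
    have h1 : (φ.mapMatrix M).charpoly.coeff k = φ (M.charpoly.coeff k) :=
      (congrArg (fun p : Polynomial (K' ⧸ P) => p.coeff k) (Matrix.charpoly_map M φ.toRingHom)).trans (coeff_map _ _)
    rw [h1] at h0
    obtain ⟨q, hq, hq0⟩ := h0
    refine ⟨q, hq, Ideal.Quotient.eq_zero_iff_mem.1 ?_⟩
    change φ (aeval (M.charpoly.coeff k) q) = 0
    rw [← aeval_algHom_apply, aeval_def]
    exact hq0
  choose q hq hq0 using h
  refine ⟨∏ P, q P, monic_prod_of_monic _ _ fun P _ => hq P, ?_⟩
  rw [← aeval_def, map_prod]
  have hnil : ∏ P, aeval (M.charpoly.coeff k) (q P) ∈ nilradical K' := by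
    rw [nilradical, ← Ideal.sInf_minimalPrimes, Ideal.mem_sInf]
    intro P hP
    have hP' : P ∈ hfin.toFinset := hfin.mem_toFinset.2 hP
    exact Ideal.mem_of_dvd _ (Finset.dvd_prod_of_mem _ (Finset.mem_univ ⟨P, hP'⟩)) (hq0 ⟨P, hP'⟩)
  exact (mem_nilradical.1 hnil).eq_zero

/-- Let A be a reduced Noetherian ring, K its total ring of fractions, and E a finitely generated
A-module with K ⊗_A E free over K. The A-subalgebra of K generated by the coefficients of the
characteristic polynomials of v ⊗ 1 (v running through all endomorphisms of E), i.e. by all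
elementary symmetric functions of all endomorphisms of E, is a finitely generated A-module. -/
theorem result (A : Type u) [CommRing A] [IsNoetherianRing A] [IsReduced A]
    (E : Type u) [AddCommGroup E] [Module A E] [Module.Finite A E]
    [Module.Free (FractionRing A) (TensorProduct A (FractionRing A) E)] :
    (Algebra.adjoin A {c : FractionRing A | ∃ (v : E →ₗ[A] E) (j : ℕ),
        c = ((v.baseChange (FractionRing A)).charpoly).coeff j}).toSubmodule.FG := by
  classical
  let K := FractionRing A
  rcases subsingleton_or_nontrivial A with hA | hA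
  · have : Subsingleton K := (algebraMap A K).codomain_trivial
    exact Submodule.fg_def.2 ⟨∅, Set.finite_empty, Subsingleton.elim _ _⟩
  haveI : Nontrivial K := (IsFractionRing.injective A K).nontrivial
  haveI : IsNoetherianRing K := IsLocalization.isNoetherianRing (nonZeroDivisors A) K inferInstance
  haveI : IsReduced K := inferInstanceAs (IsReduced (Localization (nonZeroDivisors A)))
  let V := TensorProduct A K E
  let b₀ := Module.Free.chooseBasis K V
  let r := Fintype.card (Module.Free.ChooseBasisIndex K V)
  let b := b₀.reindex (Fintype.equivFin _)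
  let ρ : Module.End A E →ₐ[A] Matrix (Fin r) (Fin r) K :=
    ((LinearMap.toMatrixAlgEquiv b).toAlgHom.restrictScalars A).comp (Module.End.baseChangeHom A K E)
  have hρ : ∀ v, (ρ v).charpoly = (v.baseChange K).charpoly := fun v => LinearMap.charpoly_toMatrix _ b
  obtain ⟨m, v, hv⟩ := Module.Finite.exists_fin (R := A) (M := Module.End A E)
  let R' := MvPolynomial (Fin m) A
  let K' := MvPolynomial (Fin m) K
  letI : Algebra R' K' := MvPolynomial.algebraMvPolynomial
  let ρ' : Module.End A E →ₐ[A] Matrix (Fin r) (Fin r) K' :=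
    ((IsScalarTower.toAlgHom A K K').mapMatrix).comp ρ
  let G : Matrix (Fin r) (Fin r) K' := ∑ l, (MvPolynomial.X l : R') • ρ' (v l)
  let N : Subalgebra R' (Matrix (Fin r) (Fin r) K') := Algebra.adjoin R' (Set.range ρ')
  have hN : N.toSubmodule.FG := by
    have h1 : N.toSubmodule = Submodule.span R' (Set.range fun l => ρ' (v l)) := by
      have hm : (Submonoid.closure (Set.range ρ') : Set (Matrix (Fin r) (Fin r) K')) = Set.range ρ' := by
        refine Set.Subset.antisymm ?_ Submonoid.subset_closure
        intro x hx
        induction hx using Submonoid.closure_induction with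
        | mem x hx => exact hx
        | one => exact ⟨1, map_one _⟩
        | mul x y _ _ hx hy =>
          obtain ⟨x, rfl⟩ := hx
          obtain ⟨y, rfl⟩ := hy
          exact ⟨x * y, map_mul _ _ _⟩
      rw [Algebra.adjoin_eq_span, hm]
      refine le_antisymm (Submodule.span_le.2 ?_) (Submodule.span_mono ?_)
      · rintro _ ⟨w, rfl⟩
        have hw : w ∈ Submodule.span A (Set.range v) := hv ▸ trivial
        induction hw using Submodule.span_induction with
        | mem x hx =>
          obtain ⟨l, rfl⟩ := hx
          exact Submodule.subset_span ⟨l, rfl⟩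
        | zero => rw [map_zero]; exact zero_mem _
        | add x y _ _ hx hy => rw [map_add]; exact add_mem hx hy
        | smul c x _ hx =>
          rw [map_smul, ← algebraMap_smul R' c]
          exact Submodule.smul_mem _ _ hx
      · rintro _ ⟨l, rfl⟩
        exact ⟨v l, rfl⟩
    rw [h1]
    exact Submodule.fg_span (Set.finite_range _)
  have hG : G ∈ N := sum_mem fun l _ => Subalgebra.smul_mem N (Algebra.subset_adjoin (show ρ' (v l) ∈ Set.range ρ' from ⟨v l, rfl⟩)) _
  obtain ⟨g, hg, hg0⟩ := IsIntegral.of_mem_of_fg N hN G hG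
  haveI : IsReduced K' := inferInstance
  have hint : ∀ j n, IsIntegral A ((G.charpoly.coeff j).coeff n) := fun j =>
    MvPolynomial.isIntegral_iff_isIntegral_coeff.1
      (isIntegral_coeff_of_reduced (minimalPrimes.finite_of_isNoetherianRing K') G g hg (by rwa [Polynomial.aeval_def]) j)
  let T : Set K := ⋃ j ∈ Finset.range (r + 1), (fun n => (G.charpoly.coeff j).coeff n) ''
    ((G.charpoly.coeff j).support : Set (Fin m →₀ ℕ))
  have hT : T.Finite := Set.Finite.biUnion (Finset.finite_toSet _) fun j _ => (Finset.finite_toSet _).image _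
  have hfg : (Algebra.adjoin A T).toSubmodule.FG := fg_adjoin_of_finite hT fun x hx => by
    obtain ⟨j, -, n, -, rfl⟩ := Set.mem_iUnion₂.1 hx
    exact hint j n
  haveI := isNoetherian_of_fg_of_noetherian _ hfg
  have hle : Algebra.adjoin A {c : K | ∃ (v : E →ₗ[A] E) (j : ℕ), c = ((v.baseChange K).charpoly).coeff j} ≤
      Algebra.adjoin A T := by
    refine Algebra.adjoin_le ?_
    rintro _ ⟨w, j, rfl⟩
    have hw : w ∈ Submodule.span A (Set.range v) := hv ▸ trivial
    obtain ⟨a, rfl⟩ := (Submodule.mem_span_range_iff_exists_fun A).1 hw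
    let ev : K' →ₐ[K] K := MvPolynomial.aeval fun l => algebraMap A K (a l)
    have hev : ev.toRingHom.mapMatrix G = ρ (∑ l, a l • v l) := by
      ext i k
      simp only [G, RingHom.mapMatrix_apply, Matrix.map_apply, Matrix.sum_apply, Matrix.smul_apply, map_sum,
        map_smul]
      refine Finset.sum_congr rfl fun l _ => ?_
      rw [Algebra.smul_def, map_mul, Algebra.smul_def]
      congr 1
      · exact (congrArg ev (MvPolynomial.map_X (algebraMap A K) l)).trans (MvPolynomial.aeval_X _ l)
      · simp [ρ', ev]
    rw [← hρ, ← hev]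
    change ((G.map ev.toRingHom).charpoly).coeff j ∈ Algebra.adjoin A T
    rw [Matrix.charpoly_map, Polynomial.coeff_map]
    by_cases hj : j < r + 1
    · change MvPolynomial.aeval (fun l => algebraMap A K (a l)) (G.charpoly.coeff j) ∈ Algebra.adjoin A T
      rw [MvPolynomial.aeval_def, MvPolynomial.eval₂_eq]
      refine sum_mem fun n hn => mul_mem (Algebra.subset_adjoin ?_)
        (prod_mem fun l _ => pow_mem (Subalgebra.algebraMap_mem _ _) _)
      exact Set.mem_iUnion₂.2 ⟨j, Finset.mem_range.2 hj, n, hn, rfl⟩
    · rw [Polynomial.coeff_eq_zero_of_natDegree_lt, map_zero]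
      · exact zero_mem _
      · rw [Matrix.charpoly_natDegree_eq_dim, Fintype.card_fin]
        omega
  have h2 := IsNoetherian.noetherian ((Algebra.adjoin A {c : K | ∃ (v : E →ₗ[A] E) (j : ℕ),
    c = ((v.baseChange K).charpoly).coeff j}).toSubmodule.comap (Algebra.adjoin A T).toSubmodule.subtype)
  have h3 := h2.map (Algebra.adjoin A T).toSubmodule.subtype
  rwa [Submodule.map_comap_subtype, inf_eq_right.2 (Subalgebra.toSubmodule.monotone hle)] at h3

end Groth.Agent.S4432
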