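import Groth.Statements.S4434
import Groth.Agent.DvrDom.Basic

set_option autoImplicit false
universe u
open EGA2

namespace Groth.Agent.S4434

/-- Let A be a Noetherian domain with field of fractions K and L a finitely generated field extension of
K. The integral closure of A in L is the intersection of the discrete valuation subrings of L (with
fraction field L) containing the image of A: an element of L is integral over A exactly when it
belongs to all of them. -/
theorem result (A : Type u) [CommRing A] [IsDomain A] [IsNoetherianRing A]
    (K : Type u) [Field K] [Algebra A K] [IsFractionRing A K]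
    (L : Type u) [Field L] [Algebra K L] [Algebra A L] [IsScalarTower A K L] (hfg : (⊤ : IntermediateField K L).FG) (x : L) :
    IsIntegral A x ↔ ∀ R : ValuationSubring L, IsDiscreteValuationRing R → (∀ a : A, algebraMap A L a ∈ R) → x ∈ R := by
  constructor
  · rintro ⟨p, hp, hpx⟩ R _ hR
    let φ : A →+* R := (algebraMap A L).codRestrict R hR
    have hx : IsIntegral R x := ⟨p.map φ, hp.map φ, by rw [Polynomial.eval₂_map]; exact hpx⟩
    obtain ⟨y, hy⟩ := IsIntegrallyClosed.isIntegral_iff.mp hx
    exact hy ▸ y.2
  · intro h
    by_contra hx
    obtain ⟨s, hs⟩ := DvrDomLib.exists_closure_eq_top_of_fg (A := A) hfg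
    obtain ⟨R, h1, h2, h3⟩ := DvrDomLib.exists_dvr_not_mem s hs x hx
    exact h3 (h R h1 h2)

end Groth.Agent.S4434
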