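import Groth.Statements.S4441
import Mathlib.AlgebraicGeometry.ValuativeCriterion
import Mathlib.AlgebraicGeometry.FunctionField
-- import your own Groth.Agent.* helpers here

set_option autoImplicit false
universe u
open CategoryTheory CategoryTheory.Limits AlgebraicGeometry
open EGA2

namespace Groth.Agent.S4441

open CategoryTheory CategoryTheory.Limits AlgebraicGeometry

/-- Let X and Y be integral separated schemes and f : X ⟶ Y a dominant, quasi-compact, universally
closed morphism, ξ the generic point of X. Every valuation subring R of the function field K(X) of X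
which dominates the local ring of Y at a point y (via O_{Y,y} → O_{Y,f(ξ)} → K(X): image inside R,
maximal ideal into the maximal ideal of R) also dominates the local ring of X at some point x (via
O_{X,x} → K(X)). -/
theorem result {X Y : Scheme.{u}} [IsIntegral X] [IsIntegral Y]
    [X.IsSeparated] [Y.IsSeparated] (f : X ⟶ Y) [IsDominant f] [QuasiCompact f] [UniversallyClosed f]
    (R : ValuationSubring X.functionField) (y : Y) (hy : f.base (genericPoint X) ⤳ y)
    (hdom : (∀ a : Y.presheaf.stalk y, (Y.presheaf.stalkSpecializes hy ≫ f.stalkMap (genericPoint X)).hom a ∈ R) ∧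
      ∀ a ∈ IsLocalRing.maximalIdeal (Y.presheaf.stalk y),
        R.valuation ((Y.presheaf.stalkSpecializes hy ≫ f.stalkMap (genericPoint X)).hom a) < 1) :
    ∃ x : X, (∀ a : X.presheaf.stalk x, algebraMap (X.presheaf.stalk x) X.functionField a ∈ R) ∧
      ∀ a ∈ IsLocalRing.maximalIdeal (X.presheaf.stalk x), R.valuation (algebraMap (X.presheaf.stalk x) X.functionField a) < 1 := by
  let φ := Y.presheaf.stalkSpecializes hy ≫ f.stalkMap (genericPoint X)
  let ψ : Y.presheaf.stalk y ⟶ CommRingCat.of R :=
    CommRingCat.ofHom (φ.hom.codRestrict R.toSubring hdom.1)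
  have hw : X.fromSpecStalk (genericPoint X) ≫ f =
      Spec.map (CommRingCat.ofHom (algebraMap R X.functionField)) ≫ Spec.map ψ ≫
        Y.fromSpecStalk y := by
    rw [← Scheme.SpecMap_stalkMap_fromSpecStalk, ← Scheme.SpecMap_stalkSpecializes_fromSpecStalk hy]
    simp_rw [← Spec.map_comp_assoc]
    rfl
  have hex : ValuativeCriterion.Existence f := (UniversallyClosed.eq_valuativeCriterion ▸
    (show (@UniversallyClosed) f from inferInstance) :
      (ValuativeCriterion.Existence ⊓ @QuasiCompact) f).1
  obtain ⟨l, hl, -⟩ := (hex
    { R := R, K := X.functionField, commSq := ⟨hw⟩, .. }).exists_lift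
  dsimp only at hl
  refine ⟨l (IsLocalRing.closedPoint R), ?_⟩
  have key : Scheme.stalkClosedPointTo l ≫ CommRingCat.ofHom (algebraMap R X.functionField) =
      X.presheaf.stalkSpecializes (genericPoint_specializes _) := by
    apply Spec.map_injective
    rw [← cancel_mono (X.fromSpecStalk (l (IsLocalRing.closedPoint R))), Spec.map_comp,
      Category.assoc, Scheme.Spec_stalkClosedPointTo_fromSpecStalk,
      Scheme.SpecMap_stalkSpecializes_fromSpecStalk]
    exact hl
  have he : ∀ a, algebraMap (X.presheaf.stalk (l (IsLocalRing.closedPoint R))) X.functionField a =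
      ((Scheme.stalkClosedPointTo l).hom a : R).1 := fun a => by
    rw [RingHom.algebraMap_toAlgebra]
    exact (congr($(key).hom a)).symm
  refine ⟨fun a => (he a).symm ▸ SetLike.coe_mem _, fun a ha => ?_⟩
  rw [he a]
  exact (R.valuation_lt_one_iff _).1 (map_nonunit (Scheme.stalkClosedPointTo l).hom a ha)

end Groth.Agent.S4441
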