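import Groth.Statements.S4444
import Groth.Agent.NormCurveComplLib.Basic
import Groth.Agent.S9799
import Mathlib

set_option autoImplicit false
universe u
open CategoryTheory CategoryTheory.Limits AlgebraicGeometry
open EGA2

namespace Groth.Agent.S4444

/-- Every normal algebraic curve X over a field k (separated and of finite type over k, nonempty, local
rings at closed points of dimension one, all local rings integrally closed domains) admits a
k-morphism which is an open immersion with dense image into a normal algebraic curve proper over k.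
(The uniqueness of this completion up to unique isomorphism is not part of this row.) -/
theorem result (k : Type u) [Field k] (X : Scheme.{u})
    [X.Over (Spec (CommRingCat.of k))] [LocallyOfFiniteType (X ↘ (Spec (CommRingCat.of k)))]
    [QuasiCompact (X ↘ (Spec (CommRingCat.of k)))] [IsSeparated (X ↘ (Spec (CommRingCat.of k)))] [Nonempty X]
    (hcurve : ∀ x : X, IsClosed ({x} : Set X) → ringKrullDim (X.presheaf.stalk x) = 1) (hnorm : Pi1.IsNormalScheme X) :
    ∃ (Xc : Scheme.{u}) (sc : Xc ⟶ Spec (CommRingCat.of k)) (j : X ⟶ Xc), IsOpenImmersion j ∧ Dense (Set.range j.base) ∧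
      j ≫ sc = X ↘ (Spec (CommRingCat.of k)) ∧ IsProper sc ∧ Pi1.IsNormalScheme Xc ∧
      ∀ x : Xc, IsClosed ({x} : Set Xc) → ringKrullDim (Xc.presheaf.stalk x) = 1 := by
  classical
  let sX := X ↘ Spec (CommRingCat.of k)
  haveI : IsLocallyNoetherian X := LocallyOfFiniteType.isLocallyNoetherian sX
  haveI : CompactSpace X := QuasiCompact.compactSpace_of_compactSpace sX
  haveI : IsNoetherian X := {}
  haveI : IsReduced X := by
    haveI : ∀ x : X, _root_.IsReduced (X.presheaf.stalk x) := fun x =>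
      haveI := (hnorm x).1; isReduced_of_noZeroDivisors
    exact isReduced_of_isReduced_stalk X
  obtain ⟨hopen, hdisj⟩ := S9799.result X (fun U _ =>
    haveI : TopologicalSpace.NoetherianSpace ↥U := (inferInstance : TopologicalSpace.NoetherianSpace ↥(U : Set X))
    TopologicalSpace.NoetherianSpace.finite_irreducibleComponents) hnorm
  haveI : Finite ↥(irreducibleComponents X) := TopologicalSpace.NoetherianSpace.finite_irreducibleComponents.to_subtype
  let W : ↥(irreducibleComponents X) → X.Opens := fun Z => ⟨Z.1, hopen Z.1 Z.2⟩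
  have hcompl : ∀ Z, ∃ (Yc : Scheme.{u}) (sc : Yc ⟶ Spec (CommRingCat.of k)) (j : (W Z : Scheme.{u}) ⟶ Yc),
      IsOpenImmersion j ∧ Dense (Set.range j.base) ∧ j ≫ sc = (W Z).ι ≫ sX ∧ IsProper sc ∧ Pi1.IsNormalScheme Yc ∧
      ∀ x : Yc, IsClosed ({x} : Set Yc) → ringKrullDim (Yc.presheaf.stalk x) = 1 := by
    intro Z
    letI : (W Z : Scheme.{u}).Over (Spec (CommRingCat.of k)) := ⟨(W Z).ι ≫ sX⟩
    haveI : IrreducibleSpace (W Z : Scheme.{u}) := Subtype.irreducibleSpace Z.2.1
    haveI : IsIntegral (W Z : Scheme.{u}) := isIntegral_of_irreducibleSpace_of_isReduced _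
    haveI : IsClosedImmersion (W Z).ι := IsClosedImmersion.of_isPreimmersion _ (by
      rw [Scheme.Opens.range_ι]
      exact isClosed_of_mem_irreducibleComponents Z.1 Z.2)
    haveI : LocallyOfFiniteType ((W Z : Scheme.{u}) ↘ Spec (CommRingCat.of k)) :=
      inferInstanceAs (LocallyOfFiniteType ((W Z).ι ≫ sX))
    haveI : QuasiCompact ((W Z : Scheme.{u}) ↘ Spec (CommRingCat.of k)) :=
      inferInstanceAs (QuasiCompact ((W Z).ι ≫ sX))
    haveI : IsSeparated ((W Z : Scheme.{u}) ↘ Spec (CommRingCat.of k)) :=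
      inferInstanceAs (IsSeparated ((W Z).ι ≫ sX))
    refine NormCurveComplLib.exists_completion k (W Z : Scheme.{u}) (fun x hx => ?_) (fun x => ?_)
    · have h1 : IsClosed ({(W Z).ι x} : Set X) := by
        rw [← Set.image_singleton]
        exact (W Z).ι.isClosedEmbedding.isClosedMap _ hx
      rw [← hcurve _ h1]
      exact ringKrullDim_eq_of_ringEquiv (asIso ((W Z).ι.stalkMap x)).commRingCatIsoToRingEquiv.symm
    · haveI := (hnorm ((W Z).ι x)).1
      haveI := (hnorm ((W Z).ι x)).2
      let e := (asIso ((W Z).ι.stalkMap x)).commRingCatIsoToRingEquiv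
      exact ⟨e.symm.toMulEquiv.isDomain _, IsIntegrallyClosed.of_equiv e⟩
  choose Yc sc j hj hd hjs hp hn hdim using hcompl
  have hdW : Pairwise (Function.onFun Disjoint fun Z => Set.range (W Z).ι) := fun a b hab => by
    show Disjoint (Set.range (W a).ι) (Set.range (W b).ι)
    rw [Scheme.Opens.range_ι, Scheme.Opens.range_ι]
    exact hdisj a.1 a.2 b.1 b.2 fun h => hab (Subtype.ext h)
  haveI := isOpenImmersion_sigmaDesc _ (fun Z => (W Z).ι) hdW
  haveI : IsIso (Sigma.desc fun Z => (W Z).ι) := by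
    apply isIso_of_isOpenImmersion_of_opensRange_eq_top
    rw [eq_top_iff]
    intro x _
    let Z : ↥(irreducibleComponents X) := ⟨irreducibleComponent x, irreducibleComponent_mem_irreducibleComponents x⟩
    refine ⟨Sigma.ι (fun Z => (W Z : Scheme.{u})) Z ⟨x, mem_irreducibleComponent⟩, ?_⟩
    show (Sigma.ι (fun Z => (W Z : Scheme.{u})) Z ≫ Sigma.desc fun Z => (W Z).ι) _ = _
    rw [Sigma.ι_desc]
    rfl
  haveI := NormCurveComplLib.isOpenImmersion_sigmaMap j
  haveI := NormCurveComplLib.isProper_sigmaDesc k Yc sc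
  refine ⟨∐ Yc, Sigma.desc sc, inv (Sigma.desc fun Z => (W Z).ι) ≫ Limits.Sigma.map j, inferInstance, ?_, ?_,
    inferInstance, ?_, ?_⟩
  · have h := NormCurveComplLib.dense_range_sigmaMap j hd
    refine h.mono ?_
    rintro _ ⟨a, rfl⟩
    exact ⟨(Sigma.desc fun Z => (W Z).ι) a, by
      rw [← Scheme.Hom.comp_apply, IsIso.hom_inv_id_assoc]⟩
  · rw [Category.assoc, IsIso.inv_comp_eq]
    refine Sigma.hom_ext _ _ fun Z => ?_
    rw [← Category.assoc, Limits.Sigma.ι_map, Category.assoc, Sigma.ι_desc, ← Category.assoc, Sigma.ι_desc]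
    exact hjs Z
  · intro z
    obtain ⟨⟨Z, y⟩, rfl⟩ := (sigmaMk Yc).surjective z
    rw [sigmaMk_mk]
    haveI := (hn Z y).1
    haveI := (hn Z y).2
    let e := (asIso ((Sigma.ι Yc Z).stalkMap y)).commRingCatIsoToRingEquiv
    exact ⟨e.toMulEquiv.isDomain _, IsIntegrallyClosed.of_equiv e.symm⟩
  · intro z hz
    obtain ⟨⟨Z, y⟩, rfl⟩ := (sigmaMk Yc).surjective z
    rw [sigmaMk_mk] at hz ⊢
    have hy : IsClosed ({y} : Set (Yc Z)) := by
      have h := hz.preimage (Sigma.ι Yc Z).continuous
      rwa [← Set.image_singleton, Set.preimage_image_eq _ (Sigma.ι Yc Z).isOpenEmbedding.injective] at h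
    rw [← hdim Z y hy]
    exact ringKrullDim_eq_of_ringEquiv (asIso ((Sigma.ι Yc Z).stalkMap y)).commRingCatIsoToRingEquiv
end Groth.Agent.S4444
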