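import Groth.Statements.S4458
import Groth.Agent.DevissExtLib.Data
-- import your own Groth.Agent.* helpers here

set_option autoImplicit false
universe u
open Coherent

namespace Groth.Agent.S4458

open AlgebraicGeometry CategoryTheory CategoryTheory.Limits in
/-- Let X be a Noetherian scheme and K' a class of O_X-modules, closed under isomorphism, containing 0,
such that in every short exact sequence of coherent modules with two terms in K' the third is in K',
and such that every coherent direct summand of a coherent module in K' is in K'. Let X' be a closed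
subset such that for every irreducible closed subset Z ⊆ X' with generic point y there is a coherent
module G in K' supported in Z, annihilated by the ideal sheaf of the reduced closed subscheme Z,
whose stalk at y is nonzero. Then every coherent O_X-module with support contained in X' belongs to
K'. (The published statement asks of G only that it lie in K' and have nonzero stalk at y, remarking
that this amounts to G having support Z; that is not sufficient: on the spectrum of the ring
k[e]/(e^2) of dual numbers over a field the free coherent modules form such a class K', containing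
the structure sheaf and not the residue field. This row asks G to be supported in Z and annihilated
by the ideal sheaf of Z, which is what the published proof uses, through the stalk of G at y being a
vector space over the residue field of y.) -/
theorem result (X : Scheme.{u}) [IsNoetherian X]
    (K' : ObjectProperty X.Modules) [K'.IsClosedUnderIsomorphisms]
    (h0 : ∀ M : X.Modules, IsZero M → K' M)
    (hex : ∀ S : ShortComplex X.Modules, S.ShortExact → Coh.IsCoh S.X₁ → Coh.IsCoh S.X₂ → Coh.IsCoh S.X₃ →
      (K' S.X₁ → K' S.X₂ → K' S.X₃) ∧ (K' S.X₁ → K' S.X₃ → K' S.X₂) ∧ (K' S.X₂ → K' S.X₃ → K' S.X₁))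
    (hsum : ∀ (M N : X.Modules) (i : N ⟶ M) (r : M ⟶ N), i ≫ r = 𝟙 N → Coh.IsCoh M → Coh.IsCoh N →
      K' M → K' N)
    (X' : Set X) (hX' : IsClosed X')
    (hgen : ∀ (Z : Set X) (hZ : IsClosed Z), IsIrreducible Z → Z ⊆ X' → ∀ y : X, closure {y} = Z →
      ∃ G : X.Modules, Coh.IsCoh G ∧ K' G ∧ CohB1.support G ⊆ Z ∧
        ClSub.KilledByIdeal (Scheme.IdealSheafData.vanishingIdeal ⟨Z, hZ⟩) G ∧ y ∈ CohB1.support G)
    (F : X.Modules) (hF : Coh.IsCoh F) (hsupp : CohB1.support F ⊆ X') : K' F := by
  refine DevissExt.devissage K' (fun M N ⟨e⟩ h => K'.prop_of_iso e h) h0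
    (fun S hS a b c => (hex S hS a b c).2.1) (fun M r hM hr h => ?_) X' hX' (fun η hsub ih => ?_) F hF hsupp
  · let e := Sigma.whiskerEquiv (f := fun _ : ULift.{u} (Fin r) => M) (g := fun _ : Fin r => M) Equiv.ulift
      (fun _ => Iso.refl M)
    exact hsum _ M (Sigma.ι (fun _ : Fin r => M) ⟨0, hr⟩) (Sigma.desc fun _ => 𝟙 M) (Sigma.ι_desc _ _)
      (QCohLib.isCoh_of_iso e (CycK0Lib.isCoh_sigma (locallyFinite_of_finite _) fun _ => hM)) hM h
  · obtain ⟨G, hG, hKG, hGs, hk, hηG⟩ := hgen (closure {η}) isClosed_closure
      isIrreducible_singleton.closure hsub η rfl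
    exact DevissExt.gdata_of_left K' (fun S hS a b c => (hex S hS a b c).2.2) ih hG hGs hηG
      (fun r hr m => DevissExt.killed_stalk (fun U hU hη a ha s => hk ⟨U, hU⟩ a
        (DevissExt.mem_vanishingIdeal_of_mem isClosed_closure subset_rfl hU hη ha) s) r hr m) hKG

end Groth.Agent.S4458
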