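import Groth.Statements.S4461
import Groth.Agent.FormalLib.Main
import Mathlib.RingTheory.Filtration

set_option autoImplicit false
universe u
open Coherent

namespace Groth.Agent.S4461

open AlgebraicGeometry CategoryTheory in
/-- Let A be a Noetherian ring, I an ideal of A, X a scheme proper over Spec A, M a coherent O_X-module
and p ≥ 0. Write R_k for the kernel of H^p(X, M) → H^p(X, M/I^(k+1)M). Then there is k₀ such that
R_(k+1) = I · R_k for all k ≥ k₀; together with the obvious inclusions I · R_k ⊆ R_(k+1) this says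
that (R_k) is an I-good filtration of H^p(X, M). -/
theorem result (A : Type u) [CommRing A] [IsNoetherianRing A]
    (I : Ideal A) (X : Scheme.{u}) [X.Over (Spec (CommRingCat.of A))]
    [IsProper (X ↘ Spec (CommRingCat.of A))] (M : X.Modules) (hM : Coh.IsCoh M) (p : ℕ) :
    ∃ k₀ : ℕ, ∀ k : ℕ, k₀ ≤ k →
      ((Formal.toHHmodPow I M p (k + 1)).ker : Set (Coh.HH X M p)) =
        ((I • Submodule.span A ((Formal.toHHmodPow I M p k).ker : Set (Coh.HH X M p)) :
          Submodule A (Coh.HH X M p)) : Set (Coh.HH X M p)) := by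
  have := FormalLib.finite_HH (A := A) (X := X) M hM p
  obtain ⟨c, hc⟩ := FormalLib.exists_ker_bound (A := A) I hM p
  let R : ℕ → Submodule A (Coh.HH X M p) := fun k => LinearMap.ker (FormalLib.hMapA (A := A) (Formal.modPowπ I (k + 1) M) p)
  have hR : ∀ k, ((Formal.toHHmodPow I M p k).ker : Set (Coh.HH X M p)) = (R k : Set (Coh.HH X M p)) := fun k => rfl
  let F' : I.Filtration (Coh.HH X M p) :=
    { N := R
      mono := fun k x hx => by
        show FormalLib.hMapA (A := A) (Formal.modPowπ I (k + 1) M) p x = 0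
        rw [← Formal.modPowπ_trans I (k + 1) M, ← FormalLib.hMapA_comp]
        exact (congrArg _ hx).trans (map_zero _)
      smul_le := fun k => by
        refine Submodule.smul_le.2 fun a ha x hx => ?_
        have h1 : Formal.smulFamily (I ^ (k + 1)) M ≫ (Formal.smulMod A M a ≫ Formal.modPowπ I (k + 1 + 1) M) = 0 := by
          refine Limits.Sigma.hom_ext _ _ fun b => ?_
          rw [Limits.comp_zero, ← Category.assoc, show Limits.Sigma.ι (fun _ : ↥(I ^ (k + 1)) => M) b ≫
            Formal.smulFamily (I ^ (k + 1)) M = Formal.smulMod A M (b : A) from Limits.Sigma.ι_desc _ _,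
            ← Category.assoc, ← FormalLib.smulMod_mul]
          exact FormalLib.smulMod_modPowπ M I _ (by rw [pow_succ' I (k + 1)]; exact Ideal.mul_mem_mul ha b.2)
        have h2 : Formal.smulMod A M a ≫ Formal.modPowπ I (k + 1 + 1) M =
            Formal.modPowπ I (k + 1) M ≫ Limits.cokernel.desc _ _ h1 := (Limits.cokernel.π_desc _ _ h1).symm
        show FormalLib.hMapA (A := A) (Formal.modPowπ I (k + 1 + 1) M) p
          (FormalLib.hMapA (A := A) (Formal.smulMod A M a) p x) = 0
        rw [FormalLib.hMapA_comp, h2, ← FormalLib.hMapA_comp]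
        exact (congrArg _ (LinearMap.mem_ker.1 hx)).trans (map_zero _) }
  let G : I.Filtration (Coh.HH X M p) :=
    { N := fun k => I ^ (k + 1 - c) • ⊤
      mono := fun k => Submodule.smul_mono_left (Ideal.pow_le_pow_right (by omega))
      smul_le := fun k => by
        rw [← Submodule.smul_assoc, smul_eq_mul, ← pow_succ']
        exact Submodule.smul_mono_left (Ideal.pow_le_pow_right (by omega)) }
  have hG : G.Stable := ⟨c, fun n hn => by
    show I • (I ^ (n + 1 - c) • ⊤ : Submodule A (Coh.HH X M p)) = I ^ (n + 1 + 1 - c) • ⊤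
    rw [← Submodule.smul_assoc, smul_eq_mul, ← pow_succ', show n + 1 + 1 - c = n + 1 - c + 1 by omega]⟩
  have hle : F' ≤ G := fun k x hx => by
    show x ∈ I ^ (k + 1 - c) • (⊤ : Submodule A (Coh.HH X M p))
    rcases Nat.lt_or_ge (k + 1) c with h | h
    · rw [Nat.sub_eq_zero_of_le h.le, pow_zero, Ideal.one_eq_top, Submodule.top_smul]
      exact Submodule.mem_top
    · refine hc (k + 1 - c) x ?_
      rw [Nat.sub_add_cancel h]
      exact hx
  obtain ⟨k₀, hk₀⟩ := hG.of_le hle
  refine ⟨k₀, fun k hk => ?_⟩
  rw [hR, hR, Submodule.span_eq]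
  exact congrArg _ (hk₀ k hk).symm

end Groth.Agent.S4461
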