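import Groth.Statements.S4462
import Groth.Agent.CohBCLib.UnivBC
import Groth.Agent.CohBCLib.Exchange
import Groth.Agent.CohBCLib.Vanish
import Groth.Agent.CohBCLib.LocalCrit
import Groth.Agent.FlatCxLib.Rank
import Groth.Agent.ModPowTensLib.Main
import Groth.Agent.QuotSchLib.Fibre
import Groth.Agent.QCohLib.SerreCrit

open CategoryTheory CategoryTheory.Limits AlgebraicGeometry TopologicalSpace Opposite
open scoped TensorProduct
open Formal (smulMod modPow modPowπ smulFamily)

set_option autoImplicit false
set_option backward.isDefEq.respectTransparency false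
set_option backward.isDefEq.respectTransparency.types false
universe u
open Coherent

namespace Groth.Agent.S4462

open AlgebraicGeometry CategoryTheory in
/-- Second assertion: for a local base: let A be a Noetherian local ring with maximal ideal m and closed
point y, X a scheme proper over Spec A, F a coherent O_X-module flat over Spec A and n ≥ 0 such that
H^(n+1)(X_y, F_y) = 0, where X_y is the closed fibre and F_y the restriction of F to it. Then for
every p ≥ 0 the canonical map H^n(X, F) → H^n(X, F/m^(p+1)F) is surjective. (For a general locally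
Noetherian base the published statement is about the stalk of R^n f_* F at a point; over the local
ring of that point this is the module H^n(X, F) used here.) -/
theorem result (A : Type u) [CommRing A] [IsNoetherianRing A]
    [IsLocalRing A] (X : Scheme.{u}) [X.Over (Spec (CommRingCat.of A))]
    [IsProper (X ↘ Spec (CommRingCat.of A))] (F : X.Modules) (hF : Coh.IsCoh F)
    (hfl : FlatMod.IsFlatOver (X ↘ Spec (CommRingCat.of A)) F) (n : ℕ)
    (hvan : Subsingleton (CohIII.fiberH (X ↘ Spec (CommRingCat.of A)) F (IsLocalRing.closedPoint A) (n + 1)))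
    (p : ℕ) :
    Function.Surjective (Formal.toHHmodPow (IsLocalRing.maximalIdeal A) F n p) := by
  let f := X ↘ Spec (CommRingCat.of A)
  haveI : IsLocallyNoetherian X := LocallyOfFiniteType.isLocallyNoetherian f
  haveI := hF.1
  obtain ⟨U, hU⟩ := CohBCLib.exists_univ_bc f F hF hfl
  have h0 : CohIII.dRank U.P (-((n + 1 : ℕ) : ℤ)) (IsLocalRing.closedPoint A) = 0 := by
    haveI := hvan
    rw [← CohBCLib.fiberRank_eq f U hU (n + 1) (IsLocalRing.closedPoint A)]
    exact Module.finrank_zero_of_subsingleton
  have hall : ∀ x : PrimeSpectrum A, CohIII.dRank U.P (-((n + 1 : ℕ) : ℤ)) x = 0 := fun x => by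
    have hopen := upperSemicontinuous_iff_isOpen_preimage.1
      (FlatCxLib.upperSemicontinuous_dRank U.P (fun i => ⟨(U.fin i).1, haveI := (U.fin i).2; inferInstance⟩)
        (-((n + 1 : ℕ) : ℤ))) 1
    have := (IsLocalRing.specializes_closedPoint x).mem_open hopen
      (show CohIII.dRank U.P (-((n + 1 : ℕ) : ℤ)) (IsLocalRing.closedPoint A) < 1 by omega)
    exact Nat.lt_one_iff.1 this
  have hW : Module.Flat A (FlatCxLib.W U.P (-(n : ℤ) - 1)) := by
    have h1 := (CohBCLib.flat_W_of_dRank_eq_zero U.P U.fin (-((n + 1 : ℕ) : ℤ)) hall).1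
    rw [show -(n : ℤ) - 1 = -((n + 1 : ℕ) : ℤ) by push_cast; ring]
    exact h1
  haveI hEpi := (CohBCLib.preservesEpi_iff U n).2 hW
  let J := IsLocalRing.maximalIdeal A ^ (p + 1)
  let g : ModuleCat.of A A ⟶ ModuleCat.of A (A ⧸ J) := ModuleCat.ofHom (Submodule.mkQ J)
  haveI : Epi g := (ModuleCat.epi_iff_surjective g).2 (Submodule.mkQ_surjective J)
  obtain ⟨φ, hφ⟩ := ModPowTensLib.exists_factor A X F (IsLocalRing.maximalIdeal A) (p + 1)
  intro z
  obtain ⟨w, hw⟩ := (AddCommGrpCat.epi_iff_surjective
    (((CohIII.tensorAFunctor A F ⋙ CohIII.HAb X n)).map g)).1 inferInstance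
    (Sheaf.H.map ((QCohLib.toAbF X).map φ.inv) n z)
  let u := (CohBCLib.tAUnitIso f F).hom
  refine ⟨Sheaf.H.map ((QCohLib.toAbF X).map u) n w, ?_⟩
  have key : ∀ {M N P : X.Modules} (a : M ⟶ N) (b : N ⟶ P) (x : Coh.HH X M n),
      Sheaf.H.map ((QCohLib.toAbF X).map b) n (Sheaf.H.map ((QCohLib.toAbF X).map a) n x) =
        Sheaf.H.map ((QCohLib.toAbF X).map (a ≫ b)) n x := fun a b x => by
    rw [Functor.map_comp, Sheaf.H.map_comp_apply]
  refine (key u (modPowπ (IsLocalRing.maximalIdeal A) (p + 1) F) w).trans ?_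
  rw [← hφ, ← key]
  refine (congrArg _ hw).trans ?_
  rw [key, Iso.inv_hom_id, CategoryTheory.Functor.map_id, Sheaf.H.map_id_apply]

end Groth.Agent.S4462
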