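import Groth.Statements.S4464
import Groth.Agent.SteinLib.BranchFibre

set_option autoImplicit false
universe u
open Coherent

namespace Groth.Agent.S4464

open AlgebraicGeometry CategoryTheory in
/-- Let X and Y be locally Noetherian integral schemes, f : X → Y a proper dominant morphism, and
suppose that the algebraic closure of the function field R(Y) in R(X) is purely inseparable over
R(Y): every element of R(X) satisfying a nonzero polynomial over R(Y) has a p^e-th power coming from
R(Y), p being the characteristic exponent. Then for every point y of Y whose local ring is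
unibranch, the fibre X_y is connected and nonempty. -/
theorem result {X Y : Scheme.{u}} [IsIntegral X]
    [IsIntegral Y] [IsLocallyNoetherian X] [IsLocallyNoetherian Y] (f : X ⟶ Y) [IsProper f]
    (hdom : f.base (genericPoint X) ⤳ genericPoint Y)
    (hrad : ∀ x : X.functionField,
      (∃ q : Polynomial Y.functionField, q ≠ 0 ∧
        Polynomial.eval₂ (CohIII.stalkToFunctionField f (genericPoint Y) hdom) x q = 0) →
      ∃ e : ℕ, x ^ (ringExpChar X.functionField ^ e) ∈
        Set.range (CohIII.stalkToFunctionField f (genericPoint Y) hdom))
    (y : Y) (hy : CAlg2.IsUnibranch (Y.presheaf.stalk y)) :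
    ConnectedSpace ↥(f.fiber y) := by
  have hs : f.base (genericPoint X) ⤳ y := hdom.trans ((genericPoint_spec Y).specializes trivial)
  let θ := CohIII.stalkToFunctionField f (genericPoint Y) hdom
  letI : Algebra Y.functionField X.functionField := θ.toAlgebra
  letI : Algebra (Y.presheaf.stalk y) X.functionField := (CohIII.stalkToFunctionField f y hs).toAlgebra
  haveI : IsScalarTower (Y.presheaf.stalk y) Y.functionField X.functionField :=
    .of_algebraMap_eq fun a => DFunLike.congr_fun (SteinLib.stalkToFunctionField_eq f y hs hdom) a
  haveI := SteinLib.isLocalRing_integralClosure (K := Y.functionField) hy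
  haveI : Subsingleton (MaximalSpectrum (CohIII.integralClosureStalk f y hs)) :=
    SteinLib.subsingleton_maximalSpectrum (Y.presheaf.stalk y) Y.functionField X.functionField fun x hx => by
      obtain ⟨p, hp, hp0⟩ := hx
      obtain ⟨e, he⟩ := hrad x ⟨p, hp.ne_zero, hp0⟩
      exact ⟨_, pow_ne_zero _ (@expChar_pos X.functionField _ (ringExpChar X.functionField) (ringExpChar.expChar _)).ne', he⟩
  obtain ⟨g, hg⟩ := SteinLib.exists_surjection_components f y hs
  haveI : Subsingleton (_root_.ConnectedComponents ↥(f.fiber y)) := hg.subsingleton
  obtain ⟨x, hx⟩ : y ∈ Set.range f.base :=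
    hs.mem_closed f.isClosedMap.isClosed_range (Set.mem_range_self _)
  haveI : Nonempty ↥(f.fiber y) := ⟨(f.fiberHomeo y).symm ⟨x, hx⟩⟩
  haveI : PreconnectedSpace ↥(f.fiber y) := by
    refine preconnectedSpace_iff_connectedComponent.2 fun a => Set.eq_univ_of_forall fun b => ?_
    have : (b : _root_.ConnectedComponents ↥(f.fiber y)) = a := Subsingleton.elim _ _
    exact ConnectedComponents.coe_eq_coe.1 this ▸ mem_connectedComponent
  exact ⟨inferInstance⟩

end Groth.Agent.S4464
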