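import Groth.Statements.S4469
import Mathlib.RingTheory.ZariskisMainTheorem

set_option autoImplicit false
universe u
open CAlg

namespace Groth.Agent.S4469

/-- Let A be an integrally closed Noetherian local domain with field of fractions K, B an A-algebra of
finite type which is a domain with the same field of fractions (A → B → K compatible with A → K),
and 𝔫 a maximal ideal of B lying over the maximal ideal 𝔪 of A and minimal among the prime ideals of
B lying over 𝔪. Then B = A: the structure map A → B is bijective. -/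
theorem result (A B K : Type u) [CommRing A]
    [IsDomain A] [IsNoetherianRing A] [IsLocalRing A] [IsIntegrallyClosed A] [CommRing B] [IsDomain B]
    [Field K] [Algebra A B] [Algebra B K] [Algebra A K] [IsScalarTower A B K] [IsFractionRing A K]
    [IsFractionRing B K] [Algebra.FiniteType A B] (n : Ideal B) [n.IsMaximal]
    (hn : n.comap (algebraMap A B) = IsLocalRing.maximalIdeal A)
    (hmin : ∀ q : Ideal B, q.IsPrime → q.comap (algebraMap A B) = IsLocalRing.maximalIdeal A → q ≤ n → q = n) :
    Function.Bijective (algebraMap A B) := by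
  have hinjAK : Function.Injective (algebraMap A K) := IsFractionRing.injective A K
  have hinj : Function.Injective (algebraMap A B) := by
    intro a b h; apply hinjAK
    rw [IsScalarTower.algebraMap_apply A B K, h, ← IsScalarTower.algebraMap_apply]
  have : IsNoetherianRing B := Algebra.FiniteType.isNoetherianRing A B
  classical
  set mB := (IsLocalRing.maximalIdeal A).map (algebraMap A B)
  have hmBn : mB ≤ n := Ideal.map_le_iff_le_comap.mpr hn.ge
  have hfin : mB.minimalPrimes.Finite := Ideal.finite_minimalPrimes_of_isNoetherianRing B mB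
  have hnotle : ¬ (hfin.toFinset.erase n).inf id ≤ n := by
    intro h
    obtain ⟨q, hq, hqn⟩ := (Ideal.IsPrime.inf_le' inferInstance).mp h
    rw [Finset.mem_erase, Set.Finite.mem_toFinset] at hq
    have hqp : q.IsPrime := hq.2.1.1
    refine hq.1 (hmin q hqp ?_ hqn)
    refine ((IsLocalRing.maximalIdeal.isMaximal A).eq_of_le (Ideal.comap_ne_top _ hqp.ne_top) ?_).symm
    exact Ideal.map_le_iff_le_comap.mp hq.2.1.2
  obtain ⟨g, hg, hgn⟩ := SetLike.not_le_iff_exists.mp hnotle
  let q₀ : PrimeSpectrum B := ⟨n, inferInstance⟩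
  have : Algebra.QuasiFiniteAt A n := by
    refine Algebra.QuasiFiniteAt.of_isOpen_singleton_fiber q₀ ⟨PrimeSpectrum.basicOpen g,
      (PrimeSpectrum.basicOpen g).2, ?_⟩
    ext ⟨Q, hQ⟩
    simp only [Set.mem_preimage, Set.mem_singleton_iff, SetLike.mem_coe,
      PrimeSpectrum.mem_basicOpen, Subtype.mk.injEq]
    refine ⟨fun hgQ => ?_, fun h => h ▸ hgn⟩
    have hQm : Q.asIdeal.comap (algebraMap A B) = IsLocalRing.maximalIdeal A := by
      have := congrArg PrimeSpectrum.asIdeal (Set.mem_singleton_iff.mp hQ)
      simpa [q₀, hn] using this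
    obtain ⟨q, hq, hqQ⟩ := Ideal.exists_minimalPrimes_le
      (show mB ≤ Q.asIdeal from Ideal.map_le_iff_le_comap.mpr hQm.ge)
    have hqn : q = n := by
      by_contra hne
      exact hgQ (hqQ (Finset.inf_le (f := id)
        (Finset.mem_erase.mpr ⟨hne, hfin.mem_toFinset.mpr hq⟩) hg))
    exact PrimeSpectrum.ext ((Ideal.IsMaximal.eq_of_le ‹n.IsMaximal› Q.2.ne_top (hqn ▸ hqQ)).symm)
  obtain ⟨r, hrn, hrint, H⟩ := Algebra.zariskisMainProperty_iff.mp
    (Algebra.ZariskisMainProperty.of_finiteType (R := A) n)
  have hBK : Function.Injective (algebraMap B K) := IsFractionRing.injective B K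
  have key : ∀ x : B, IsIntegral A x → ∃ a, algebraMap A B a = x := by
    intro x hx
    obtain ⟨a, ha⟩ := IsIntegrallyClosed.isIntegral_iff.mp (hx.map (IsScalarTower.toAlgHom A B K))
    exact ⟨a, hBK ((IsScalarTower.algebraMap_apply A B K a).symm.trans ha)⟩
  obtain ⟨a, rfl⟩ := key r hrint
  have ha : IsUnit a := by
    by_contra h
    exact hrn (show a ∈ n.comap (algebraMap A B) from hn ▸ h)
  refine ⟨hinj, fun x => ?_⟩
  obtain ⟨m, hm⟩ := H x
  obtain ⟨b, hb⟩ := key _ hm
  refine ⟨↑((ha.pow m).unit⁻¹) * b, ?_⟩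
  rw [map_mul, hb, ← map_pow, ← mul_assoc, ← map_mul, IsUnit.val_inv_mul, map_one, one_mul]

end Groth.Agent.S4469
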