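import Groth.Statements.S4471
import Mathlib
import Groth.Agent.RpushLib.Vanish
import Groth.Agent.PicPnLib.BaseChange
import Groth.Agent.AnLib.FibBaseChange
import Groth.Agent.QCohLib.OpenRestr
import Groth.Agent.AmpleDevLib.Devissage
import Groth.Agent.AmpleFinGenLib.Regular
import Groth.Agent.PnCohLib.Twist
-- import your own Groth.Agent.* helpers here

set_option autoImplicit false
universe u
open Coherent

namespace Groth.Agent.S4471

open AlgebraicGeometry CategoryTheory in
/-- The case of the trivial bundle of rank r+1, i.e. projective r-space over Y; vanishing assertion. Let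
Y be a scheme, r ≥ 0, f : P^r_Y → Y the structure morphism and d an integer. Then R^i f_* O(d) = 0
(higher direct image of the underlying abelian sheaf of the twisting sheaf) except possibly when i =
0 and d ≥ 0, or i = r and d ≤ -(r+1). -/
theorem result (Y : Scheme.{u}) (r : ℕ) (i : ℕ) (d : ℤ)
    (h : ¬ ((i = 0 ∧ 0 ≤ d) ∨ (i = r ∧ d ≤ -((r : ℤ) + 1)))) :
    Limits.IsZero ((Coh.RpushAb (CohB1.ProjSpaceOver.toBase r Y) i).obj (Coh.toAb (Twist.twistOver r Y d))) := by
  let f := CohB1.ProjSpaceOver.toBase r Y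
  let M := Twist.twistOver r Y d
  haveI : Coh.IsQCoh M := AmpleFinGenLib.isQCoh_of_isInvertible (PicPnLib.twistOver_inv r Y d)
  refine RpushLib.isZero_rpushAb f M i fun y => ⟨⊤, trivial, fun W hW _ => ?_⟩
  obtain ⟨j, hj, hd⟩ := PicPnLib.exists_square r Γ(Y, W) hW.fromSpec
  haveI : IsOpenImmersion j := MorphismProperty.of_isPullback hj.flip (inferInstance : IsOpenImmersion hW.fromSpec)
  obtain ⟨e⟩ := hd d
  have hr : j ''ᵁ ⊤ = f ⁻¹ᵁ W := by
    rw [Scheme.Hom.image_top_eq_opensRange]
    apply TopologicalSpace.Opens.ext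
    rw [Scheme.Hom.coe_opensRange, AnLib.range_eq_preimage_of_isPullback hj.flip, hW.range_fromSpec]
    rfl
  obtain ⟨e₁⟩ := QCohLib.nonempty_HU_restrict j M i ⊤
  obtain ⟨e₂⟩ := QCohLib.nonempty_HU_restrict (f ⁻¹ᵁ W).ι M i ⊤
  haveI : Subsingleton (QCohLib.HU ((QCohLib.toAbF _).obj M) i (j ''ᵁ ⊤)) := by
    have h1 : Subsingleton (Coh.HH _ (M.restrict j) i) :=
      SerreVanLib.subsingleton_HH_of_iso ((Scheme.Modules.restrictFunctorIsoPullback j).app M ≪≫ e) i
        (PnCohLib.subsingleton_HH_twist d i (fun hh => h (Or.inl hh)) (fun hh => h (Or.inr hh)))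
    haveI := AmpleDevLib.hu_of_hh h1
    exact e₁.symm.injective.subsingleton
  refine AmpleDevLib.hh_of_hu ?_
  haveI : Subsingleton (QCohLib.HU ((QCohLib.toAbF _).obj M) i ((f ⁻¹ᵁ W).ι ''ᵁ ⊤)) := by
    rw [Scheme.Opens.ι_image_top, ← hr]; assumption
  exact e₂.injective.subsingleton

end Groth.Agent.S4471
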