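import Groth.Statements.S4472
import Groth.Agent.SteinLib.BranchFibre
import Groth.Agent.BlowUpLib.Props
import Groth.Agent.BlowUpLib.Strict
import Groth.Agent.EffCartLib.Basic

set_option autoImplicit false
universe u
open Coherent

namespace Groth.Agent.S4472

open AlgebraicGeometry CategoryTheory

theorem isIso_stalkSpecializes (Y : Scheme.{u}) {a c : Y} (h : a = c) :
    IsIso (Y.presheaf.stalkSpecializes (show a ⤳ c by rw [h])) := by
  subst h
  rw [TopCat.Presheaf.stalkSpecializes_refl]
  infer_instance

theorem stalk_bijective (A : CommRingCat.{u}) [IsLocalRing A] :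
    Function.Bijective (StructureSheaf.toStalk A (IsLocalRing.closedPoint A)) :=
  (IsLocalization.atUnits A (IsLocalRing.closedPoint A).asIdeal.primeCompl
    (S := (Spec.structureSheaf A).presheaf.stalk (IsLocalRing.closedPoint A))
    (fun x hx => IsLocalRing.notMem_maximalIdeal.1 hx)).bijective

theorem isLocalRing_stalk_closure (A : Type u) [CommRing A] [IsDomain A] [IsLocalRing A] (hA : CAlg2.IsUnibranch A) :
    IsLocalRing (integralClosure ((Spec (CommRingCat.of A)).presheaf.stalk (IsLocalRing.closedPoint A))
      (Spec (CommRingCat.of A)).functionField) := by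
  let R := CommRingCat.of A
  haveI : IsDomain R := ‹IsDomain A›
  let O := (Spec R).presheaf.stalk (IsLocalRing.closedPoint A)
  let K := (Spec R).functionField
  letI : Algebra A O := (StructureSheaf.toStalk R (IsLocalRing.closedPoint A)).hom.toAlgebra
  letI : Algebra A K := instAlgebraCarrierFunctionFieldSpec R
  haveI : IsFractionRing A K := functionField_isFractionRing_of_affine R
  haveI : IsScalarTower A O K := .of_algebraMap_eq fun a => by
    show StructureSheaf.toStalk R (genericPoint (Spec R)) a =
      (Spec R).presheaf.stalkSpecializes _ (StructureSheaf.toStalk R (IsLocalRing.closedPoint A) a)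
    exact (DFunLike.congr_fun (congrArg CommRingCat.Hom.hom
      (StructureSheaf.toStalk_stalkSpecializes ((genericPoint_spec (Spec R)).specializes trivial))) a).symm
  haveI := SteinLib.isLocalRing_integralClosure (K := K) hA
  haveI : Algebra.IsIntegral A O := Algebra.IsIntegral.of_surjective (Algebra.ofId A O) (stalk_bijective R).2
  let e : integralClosure A K ≃+* integralClosure O K :=
    { toFun := fun x => ⟨x.1, x.2.tower_top⟩
      invFun := fun x => ⟨x.1, isIntegral_trans x.1 x.2⟩
      left_inv := fun _ => rfl
      right_inv := fun _ => rfl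
      map_mul' := fun _ _ => rfl
      map_add' := fun _ _ => rfl }
  exact e.isLocalRing

theorem preconnected_of_ne_bot (A : Type u) [CommRing A] [IsDomain A]
    [IsNoetherianRing A] [IsLocalRing A] (hA : CAlg2.IsUnibranch A) (𝔞 : Ideal A) (ha : 𝔞 ≠ ⊥) {X : Scheme.{u}}
    (b : X ⟶ Spec (CommRingCat.of A))
    (hb : BlowUp.IsBlowUp b
      (Scheme.IdealSheafData.ofIdealTop (𝔞.map (Scheme.ΓSpecIso (CommRingCat.of A)).inv.hom))) :
    PreconnectedSpace ↥(b.fiber (IsLocalRing.closedPoint A)) := by
  let Y := Spec (CommRingCat.of A)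
  haveI : IsLocallyNoetherian Y := inferInstance
  have hne : Scheme.IdealSheafData.ofIdealTop (𝔞.map (Scheme.ΓSpecIso (CommRingCat.of A)).inv.hom) ≠ ⊥ := by
    intro h
    rw [← Scheme.IdealSheafData.equivOfIsAffine_symm_apply] at h
    have h1 := (congrArg Scheme.IdealSheafData.equivOfIsAffine h)
    rw [OrderRingIso.apply_symm_apply] at h1
    rw [Scheme.IdealSheafData.equivOfIsAffine_apply, Scheme.IdealSheafData.ideal_bot,
      Pi.bot_apply, Ideal.map_eq_bot_iff_of_injective] at h1
    · exact ha h1
    · exact (Scheme.ΓSpecIso (CommRingCat.of A)).commRingCatIsoToRingEquiv.symm.injective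
  haveI : IsProper b := BlowUpLib.isProper_of_isBlowUp hb fun U => by
    haveI := IsLocallyNoetherian.component_noetherian (X := Y) U
    exact (isNoetherianRing_iff_ideal_fg _).1 inferInstance _
  obtain ⟨_, hgen, hbij⟩ := BlowUpLib.isIntegral_of_isBlowUp hb hne
  let y : Y := IsLocalRing.closedPoint A
  have hdom : b.base (genericPoint X) ⤳ genericPoint Y := by rw [hgen]
  have hs : b.base (genericPoint X) ⤳ y := hdom.trans ((genericPoint_spec Y).specializes trivial)
  let θ := CohIII.stalkToFunctionField b (genericPoint Y) hdom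
  letI : Algebra Y.functionField X.functionField := θ.toAlgebra
  letI : Algebra (Y.presheaf.stalk y) X.functionField := (CohIII.stalkToFunctionField b y hs).toAlgebra
  haveI : IsScalarTower (Y.presheaf.stalk y) Y.functionField X.functionField :=
    .of_algebraMap_eq fun a => DFunLike.congr_fun (SteinLib.stalkToFunctionField_eq b y hs hdom) a
  have hθ : Function.Surjective θ := by
    intro z
    obtain ⟨r, hr⟩ := hbij.2 (X.residue (genericPoint X) z)
    obtain ⟨w, rfl⟩ := Y.residue_surjective (b.base (genericPoint X)) r
    have h1 : X.residue (genericPoint X) (b.stalkMap (genericPoint X) w) = X.residue (genericPoint X) z :=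
      (DFunLike.congr_fun (congrArg CommRingCat.Hom.hom (Scheme.residue_residueFieldMap b (genericPoint X))) w).symm.trans hr
    have hinj : Function.Injective (X.residue (genericPoint X)) :=
      RingHom.injective (R := X.functionField) (S := X.residueField (genericPoint X)) (X.residue (genericPoint X)).hom
    haveI := isIso_stalkSpecializes Y hgen
    obtain ⟨w', rfl⟩ := (ConcreteCategory.bijective_of_isIso (Y.presheaf.stalkSpecializes hdom)).2 w
    exact ⟨w', hinj h1⟩
  haveI : IsLocalRing (integralClosure (Y.presheaf.stalk y) Y.functionField) := isLocalRing_stalk_closure A hA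
  haveI : Subsingleton (MaximalSpectrum (CohIII.integralClosureStalk b y hs)) :=
    SteinLib.subsingleton_maximalSpectrum (Y.presheaf.stalk y) Y.functionField X.functionField fun x _ =>
      ⟨1, one_ne_zero, by rw [pow_one]; exact hθ x⟩
  obtain ⟨g, hg⟩ := SteinLib.exists_surjection_components b y hs
  haveI : Subsingleton (_root_.ConnectedComponents ↥(b.fiber y)) := hg.subsingleton
  exact preconnectedSpace_iff_connectedComponent.2 fun a => Set.eq_univ_of_forall fun c => by
    have : (c : _root_.ConnectedComponents ↥(b.fiber y)) = a := Subsingleton.elim _ _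
    exact ConnectedComponents.coe_eq_coe.1 this ▸ mem_connectedComponent


open AlgebraicGeometry CategoryTheory in
/-- Let A be a unibranch Noetherian local domain (a local domain whose integral closure is a local ring)
with maximal ideal m, let 𝔞 be an ideal of definition of A (𝔞 ⊆ m and m^p ⊆ 𝔞 for some p), and let b
: X → Spec A be a blowing up of Spec A in the ideal sheaf defined by 𝔞. Then the fibre of b over the
closed point is preconnected. Its underlying space is that of Proj of the associated graded ring ⊕
𝔞^i/𝔞^(i+1), so this says that Proj is connected (possibly empty). -/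
theorem result (A : Type u) [CommRing A] [IsDomain A]
    [IsNoetherianRing A] [IsLocalRing A] (hA : CAlg2.IsUnibranch A) (𝔞 : Ideal A)
    (hle : 𝔞 ≤ IsLocalRing.maximalIdeal A)
    (hpow : ∃ p : ℕ, IsLocalRing.maximalIdeal A ^ p ≤ 𝔞) {X : Scheme.{u}}
    (b : X ⟶ Spec (CommRingCat.of A))
    (hb : BlowUp.IsBlowUp b
      (Scheme.IdealSheafData.ofIdealTop (𝔞.map (Scheme.ΓSpecIso (CommRingCat.of A)).inv.hom))) :
    PreconnectedSpace ↥(b.fiber (IsLocalRing.closedPoint A)) := by
  by_cases ha : 𝔞 = ⊥
  · haveI : IsEmpty X := ⟨fun x => by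
      obtain ⟨U, hxU, f, hf, he⟩ := hb.1 x
      have h0 : Scheme.IdealSheafData.ofIdealTop (𝔞.map (Scheme.ΓSpecIso (CommRingCat.of A)).inv.hom) = ⊥ := by
        refine Scheme.IdealSheafData.ext_of_isAffine ?_
        simp [ha]
      rw [h0, Scheme.IdealSheafData.comap_bot, Scheme.IdealSheafData.ideal_bot] at he
      haveI : Nonempty U.1 := ⟨⟨x, hxU⟩⟩
      have hf0 : f = 0 := Ideal.span_singleton_eq_bot.1 he.symm
      exact nonZeroDivisors.ne_zero hf hf0⟩
    haveI : IsEmpty ↥(b.fiber (IsLocalRing.closedPoint A)) := Function.isEmpty (b.fiberι _)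
    exact ⟨Set.subsingleton_univ.isPreconnected⟩
  · exact preconnected_of_ne_bot A hA 𝔞 ha b hb

end Groth.Agent.S4472
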