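import Groth.Statements.S4476
import Groth.Agent.CohCmpLib.HomLift

set_option autoImplicit false
universe u
attribute [local instance] HasDerivedCategory.standard
open Coherent

namespace Groth.Agent.S4476

open AlgebraicGeometry CategoryTheory in
/-- Over a local base. Let A be a Noetherian local ring with closed point y, X a scheme proper and flat
over Spec A, F and G finite locally free O_X-modules and F_y, G_y their restrictions (module
pullbacks) to the closed fibre X_y. Assume that the internal Hom functor Hom(F_y, −) exists as the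
right adjoint of F_y ⊗ − and that H^1(X_y, Hom(F_y, G_y)) = 0. Then every morphism u₀ : F_y → G_y is
the restriction to X_y of a morphism u : F → G; moreover for every such u, if u₀ is a monomorphism
(resp. an epimorphism) then u is a monomorphism (resp. an epimorphism). (Over a general locally
Noetherian base the published statements give u on the inverse image of a neighbourhood of y; over
the spectrum of a local ring that neighbourhood is the whole base.) -/
theorem result (A : Type u) [CommRing A] [IsNoetherianRing A]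
    [IsLocalRing A] (X : Scheme.{u}) [X.Over (Spec (CommRingCat.of A))]
    [IsProper (X ↘ Spec (CommRingCat.of A))] [Flat (X ↘ Spec (CommRingCat.of A))]
    (F G : X.Modules) (hF : FlatMod.IsFinLocFree F) (hG : FlatMod.IsFinLocFree G)
    [DCoh.HasSheafHom (CohIII.fiberMod (X ↘ Spec (CommRingCat.of A)) F (IsLocalRing.closedPoint A))]
    (h1 : Subsingleton (Coh.HH ((X ↘ Spec (CommRingCat.of A)).fiber (IsLocalRing.closedPoint A))
      ((DCoh.sheafHom (CohIII.fiberMod (X ↘ Spec (CommRingCat.of A)) F (IsLocalRing.closedPoint A))).obj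
        (CohIII.fiberMod (X ↘ Spec (CommRingCat.of A)) G (IsLocalRing.closedPoint A))) 1))
    (u₀ : CohIII.fiberMod (X ↘ Spec (CommRingCat.of A)) F (IsLocalRing.closedPoint A) ⟶
      CohIII.fiberMod (X ↘ Spec (CommRingCat.of A)) G (IsLocalRing.closedPoint A)) :
    (∃ u : F ⟶ G,
      (Scheme.Modules.pullback ((X ↘ Spec (CommRingCat.of A)).fiberι (IsLocalRing.closedPoint A))).map u = u₀) ∧
    ∀ u : F ⟶ G,
      (Scheme.Modules.pullback ((X ↘ Spec (CommRingCat.of A)).fiberι (IsLocalRing.closedPoint A))).map u = u₀ →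
        (Mono u₀ → Mono u) ∧ (Epi u₀ → Epi u) := by
  let f := X ↘ Spec (CommRingCat.of A)
  let y := IsLocalRing.closedPoint A
  have : IsLocallyNoetherian X := LocallyOfFiniteType.isLocallyNoetherian f
  have hX : ∀ x : X, f x ⤳ y := fun x => IsLocalRing.specializes_closedPoint _
  have hclosed : ∀ C : Set X, IsClosed C → (∀ z, f.fiberι y z ∉ C) → C = ∅ := by
    intro C hC hz
    by_contra hne
    obtain ⟨x, hx⟩ := Set.nonempty_iff_ne_empty.2 hne
    obtain ⟨w, hw, hwy⟩ := (hX x).mem_closed (f.isClosedMap C hC) ⟨x, hx, rfl⟩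
    obtain ⟨z, rfl⟩ : w ∈ Set.range (f.fiberι y) := by rw [f.range_fiberι]; exact hwy
    exact hz z hw
  refine ⟨?_, fun u hu => ?_⟩
  · obtain ⟨O, hO, h, m, hm⟩ := CohCmpLib.exists_lift_hom f hF hG y h1 u₀
    have hle : (⊤ : X.Opens) ≤ f ⁻¹ᵁ O := fun x _ => (hX x).mem_open O.2 hO
    let u : F ⟶ G := CohCmpLib.secHom (ProjFormLib.res (CohCmpLib.homMod F G) hle m)
    refine ⟨u, ((Scheme.Modules.pullbackPushforwardAdjunction (f.fiberι y)).homEquiv _ _).injective
      (Scheme.Modules.hom_ext _ _ fun W => ?_)⟩
    rw [Adjunction.homEquiv_unit, Adjunction.homEquiv_unit]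
    ext a
    let b : Γ(F, W) := a
    change ((Scheme.Modules.pullback (f.fiberι y)).map u).app ((f.fiberι y) ⁻¹ᵁ W) (KFlatLib.puSec (f.fiberι y) b) =
      u₀.app ((f.fiberι y) ⁻¹ᵁ W) (KFlatLib.puSec (f.fiberι y) b)
    rw [KFlatLib.puSec_natural]
    refine ProjFormLib.section_ext _ _ fun z hz => ?_
    let := ((f.fiberι y).stalkMap z).hom.toAlgebra
    obtain ⟨L, L', hL, hL', hLL⟩ := CohCmpLib.exists_homPull_stalk (M := F) (P := G) (f.fiberι y) z
    have e := hLL (f ⁻¹ᵁ O) ⊤ h trivial m
    rw [hm, CohCmpLib.hVal_ofHom] at e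
    refine Eq.trans ?_ (ProjFormLib.ger_map u₀ z hz _)
    rw [e, LinearMap.comp_apply, LinearMap.comp_apply, LinearEquiv.coe_coe, LinearEquiv.coe_coe, ← hL W hz b,
      LinearEquiv.symm_apply_apply, LinearMap.baseChange_tmul]
    rw [← hL' W hz, ← ProjFormLib.ger_map u _ hz b, CohCmpLib.stalk_secHom, CohCmpLib.hVal_res]
  · have hb : ∀ z : f.fiber y,
        (Mono u₀ → Function.Injective ((DerSch.stalkFunctor X (f.fiberι y z)).map u).hom) ∧
        (Epi u₀ → Function.Surjective ((DerSch.stalkFunctor X (f.fiberι y z)).map u).hom) := fun z => by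
      let := ((f.fiberι y).stalkMap z).hom.toAlgebra
      obtain ⟨L, L', hL, hL', hLL⟩ := CohCmpLib.exists_homPull_stalk (M := F) (P := G) (f.fiberι y) z
      have hm : (CohCmpLib.homPull (f.fiberι y) F G).app ⊤
          (KFlatLib.puSecLE (f.fiberι y) (CohCmpLib.homMod F G) (U := ⊤) (fun _ _ => trivial) (CohCmpLib.ofHom u)) =
          CohCmpLib.ofHom u₀ := by
        refine CohCmpLib.homMod_ext fun w hw => ?_
        let := ((f.fiberι y).stalkMap w).hom.toAlgebra
        obtain ⟨L, L', hL, hL', hLL⟩ := CohCmpLib.exists_homPull_stalk (M := F) (P := G) (f.fiberι y) w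
        rw [hLL ⊤ ⊤ _ hw, CohCmpLib.hVal_ofHom, CohCmpLib.hVal_ofHom]
        refine LinearMap.ext fun a => ?_
        obtain ⟨a, rfl⟩ := L.surjective a
        rw [LinearMap.comp_apply, LinearMap.comp_apply, LinearEquiv.coe_coe, LinearEquiv.coe_coe,
          LinearEquiv.symm_apply_apply]
        induction a using TensorProduct.induction_on with
        | zero => simp only [map_zero]
        | add a b ha hb => simp only [map_add, ha, hb]
        | tmul c a =>
          rw [show c ⊗ₜ[X.presheaf.stalk (f.fiberι y w)] a =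
            c • ((1 : (f.fiber y).presheaf.stalk w) ⊗ₜ[X.presheaf.stalk (f.fiberι y w)] a) by
              rw [TensorProduct.smul_tmul', smul_eq_mul, mul_one]]
          rw [map_smul L, map_smul, map_smul, map_smul]
          congr 1
          obtain ⟨T, hT, s, rfl⟩ := ProjFormLib.exists_ger F _ a
          rw [LinearMap.baseChange_tmul, ProjFormLib.ger_map, hL', hL, ProjFormLib.ger_map, ← hu,
            KFlatLib.puSec_natural]
      have h2 := CohCmpLib.baseChange_of_lift f hm z
      refine ⟨fun hm' => ?_, fun he => ?_⟩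
      · exact CohCmpLib.injective_of_fibre f y z hF hG _
          (h2.1 ((ModuleCat.mono_iff_injective _).mp inferInstance))
      · exact CohCmpLib.surjective_of_fibre f y z hG _
          (h2.2 ((ModuleCat.epi_iff_surjective _).mp inferInstance))
    have hF' := LocSuppLib.isCoh_of_isFinLocFree hF
    have hG' := LocSuppLib.isCoh_of_isFinLocFree hG
    refine ⟨fun h => CohCmpLib.mono_of_stalk_injective fun x => ?_,
      fun h => CohCmpLib.epi_of_stalk_surjective fun x => ?_⟩
    · rw [CohCmpLib.injective_stalk_iff]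
      by_contra hx
      have := hclosed _ (QCohLib.isClosed_support _ (QCohLib.isCoh_kernel u hF' hG'.1).2)
        fun z hz => hz ((CohCmpLib.injective_stalk_iff _).1 ((hb z).1 h))
      exact (this ▸ (show x ∈ CohB1.support (Limits.kernel u) from hx) : x ∈ (∅ : Set X))
    · rw [CohCmpLib.surjective_stalk_iff]
      by_contra hx
      have := hclosed _ (QCohLib.isClosed_support _ (QCohLib.isCoh_cokernel u hF'.1 hG').2)
        fun z hz => hz ((CohCmpLib.surjective_stalk_iff _).1 ((hb z).2 h))
      exact (this ▸ (show x ∈ CohB1.support (Limits.cokernel u) from hx) : x ∈ (∅ : Set X))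

end Groth.Agent.S4476
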