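import Groth.Statements.S4477
import Groth.Agent.CohCmpLib.HomLift

set_option autoImplicit false
universe u
attribute [local instance] HasDerivedCategory.standard
open Coherent

namespace Groth.Agent.S4477

open AlgebraicGeometry CategoryTheory in
/-- Let Y be a locally Noetherian scheme, f : X → Y a proper flat morphism, y a point of Y, and F, G
finite locally free O_X-modules whose restrictions F_y and G_y to the fibre X_y are isomorphic (both
isomorphic to one locally free E₀). Assume that Hom(F_y, −) exists as the right adjoint of F_y ⊗ −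
and that H^1(X_y, Hom(F_y, F_y)) = 0. Then there is an open neighbourhood U of y such that the
restrictions of F and G to f⁻¹(U) are isomorphic. -/
theorem result {X Y : Scheme.{u}} (f : X ⟶ Y) [IsProper f] [Flat f]
    [IsLocallyNoetherian Y] (y : Y) (F G : X.Modules) (hF : FlatMod.IsFinLocFree F) (hG : FlatMod.IsFinLocFree G)
    [DCoh.HasSheafHom (CohIII.fiberMod f F y)]
    (h1 : Subsingleton (Coh.HH (f.fiber y) ((DCoh.sheafHom (CohIII.fiberMod f F y)).obj (CohIII.fiberMod f F y)) 1))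
    (hy : Nonempty (CohIII.fiberMod f F y ≅ CohIII.fiberMod f G y)) :
    ∃ U : Y.Opens, y ∈ U ∧ Nonempty (F.restrict (f ⁻¹ᵁ U).ι ≅ G.restrict (f ⁻¹ᵁ U).ι) := by
  have : IsLocallyNoetherian X := LocallyOfFiniteType.isLocallyNoetherian f
  obtain ⟨e⟩ := hy
  have h1' : Subsingleton (Coh.HH (f.fiber y)
      ((DCoh.sheafHom (CohIII.fiberMod f F y)).obj (CohIII.fiberMod f G y)) 1) := by
    let k : Type u := Y.residueField y
    let : (f.fiber y).Over (Spec (CommRingCat.of k)) := ⟨f.fiberToSpecResidueField y⟩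
    exact (CurvLib.hIso (k := k) ((DCoh.sheafHom (CohIII.fiberMod f F y)).mapIso e.symm) 1).toEquiv.subsingleton
  obtain ⟨O, hO, h, m, hm⟩ := CohCmpLib.exists_lift_hom f hF hG y h1' e.hom
  have key : ∀ (W : X.Opens) (hW : W ≤ f ⁻¹ᵁ O),
      ∃ v : KFlatLib.pb W.ι F ⟶ KFlatLib.pb W.ι G, ∀ w : (W : Scheme.{u}),
        Function.Bijective ((DerSch.stalkFunctor (W : Scheme.{u}) w).map v).hom ↔
          Function.Bijective (CohCmpLib.hVal m (W.ι w) (hW w.2)) := by
    intro W hW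
    refine ⟨CohCmpLib.secHom ((CohCmpLib.homPull W.ι F G).app ⊤
      (KFlatLib.puSecLE W.ι (CohCmpLib.homMod F G) (U := f ⁻¹ᵁ O) (U' := ⊤) (fun w _ => hW w.2) m)), fun w => ?_⟩
    let := (W.ι.stalkMap w).hom.toAlgebra
    obtain ⟨L, L', -, -, hLL⟩ := CohCmpLib.exists_homPull_stalk (M := F) (P := G) W.ι w
    rw [CohCmpLib.stalk_secHom, hLL (f ⁻¹ᵁ O) ⊤ (fun w _ => hW w.2) trivial m]
    simp only [LinearMap.coe_comp, LinearEquiv.coe_coe]
    rw [Function.Bijective.of_comp_iff' L'.bijective, Function.Bijective.of_comp_iff _ L.symm.bijective]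
    exact CohCmpLib.bijective_baseChange_iff (ConcreteCategory.bijective_of_isIso (W.ι.stalkMap w)) _
  obtain ⟨v, hv⟩ := key (f ⁻¹ᵁ O) le_rfl
  let B : Set X := (f ⁻¹ᵁ O).ι '' {w | Function.Bijective ((DerSch.stalkFunctor (f ⁻¹ᵁ O).toScheme w).map v).hom}
  have hB : IsOpen B := (f ⁻¹ᵁ O).ι.isOpenEmbedding.isOpenMap _ (CohCmpLib.isOpen_bijective_stalk
    (CohCmpLib.isFinLocFree_pb _ hF) (CohCmpLib.isFinLocFree_pb _ hG) v)
  have hfib : ∀ x : X, f x = y → x ∈ B := fun x hx => by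
    obtain ⟨z, rfl⟩ : x ∈ Set.range (f.fiberι y) := by rw [f.range_fiberι]; exact hx
    refine ⟨⟨f.fiberι y z, h (show z ∈ (⊤ : (f.fiber y).Opens) from trivial)⟩, ?_, rfl⟩
    refine (hv _).2 ?_
    have hb := ConcreteCategory.bijective_of_isIso ((DerSch.stalkFunctor (f.fiber y) z).map e.hom)
    have h2 := CohCmpLib.baseChange_of_lift f hm z
    exact ⟨CohCmpLib.injective_of_fibre f y z hF hG _ (h2.1 hb.1),
      CohCmpLib.surjective_of_fibre f y z hG _ (h2.2 hb.2)⟩
  let C : Set Y := f '' Bᶜ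
  have hC : IsClosed C := f.isClosedMap _ hB.isClosed_compl
  let U : Y.Opens := O ⊓ ⟨Cᶜ, hC.isOpen_compl⟩
  refine ⟨U, ⟨hO, fun ⟨x, hx, hxy⟩ => hx (hfib x hxy)⟩, ?_⟩
  obtain ⟨v', hv'⟩ := key (f ⁻¹ᵁ U) (f.preimage_mono inf_le_left)
  have : IsIso v' := KFlatLib.isIso_of_stalks v' fun w => by
    refine (ConcreteCategory.isIso_iff_bijective _).mpr ((hv' w).2 ?_)
    have hw : (f ⁻¹ᵁ U).ι w ∈ B := by
      by_contra hne
      exact (show f ((f ⁻¹ᵁ U).ι w) ∈ Cᶜ from w.2.2) ⟨_, hne, rfl⟩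
    obtain ⟨w', hw', hww⟩ := hw
    have h3 := (hv w').1 hw'
    have : ∀ (a b : X) (ha : a ∈ f ⁻¹ᵁ O) (hb : b ∈ f ⁻¹ᵁ O), a = b → Function.Bijective (CohCmpLib.hVal m a ha) →
        Function.Bijective (CohCmpLib.hVal m b hb) := by rintro a _ ha hb rfl h; exact h
    exact this _ _ _ _ hww h3
  exact ⟨(Scheme.Modules.restrictFunctorIsoPullback _).app F ≪≫ asIso v' ≪≫
    ((Scheme.Modules.restrictFunctorIsoPullback _).app G).symm⟩

end Groth.Agent.S4477
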