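import Groth.Statements.S4481
import Groth.Agent.CechUnitLib.Basic

set_option autoImplicit false
universe u
open Coherent

namespace Groth.Agent.S4481

open AlgebraicGeometry CategoryTheory Opposite in
/-- Let X be a separated scheme, f_1, …, f_n global functions on X such that every open X_{f_i} is
quasi-compact, U the union of the X_{f_i}, and suppose there are sections g_1, …, g_n of O_X over U
with Σ g_i · (f_i|_U) = 1. Then for every quasi-coherent O_X-module G and every p > 0 the Čech
cohomology group of G in degree p with respect to the family of opens (X_{f_i}) is zero. (The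
published statement also covers a scheme whose underlying space is Noetherian, not necessarily
separated; this row treats separated X.) -/
theorem result (X : Scheme.{u}) [X.IsSeparated] (n : ℕ)
    (f : Fin n → Γ(X, ⊤)) (hqc : ∀ i, IsCompact (X.basicOpen (f i) : Set X))
    (g : Fin n → Γ(X, ⨆ i, X.basicOpen (f i)))
    (hg : (Finset.univ.sum fun i => g i *
      (X.presheaf.map (homOfLE (le_top : (⨆ i, X.basicOpen (f i)) ≤ ⊤)).op).hom (f i)) = 1)
    (G : X.Modules) [Coh.IsQCoh G] (p : ℕ) (hp : 0 < p) :
    Limits.IsZero (CohB1.cechH (fun i : ULift.{u} (Fin n) => X.basicOpen (f i.down)) G p) := by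
  obtain ⟨q, rfl⟩ := Nat.exists_eq_add_of_le' hp
  set W := ⨆ i, X.basicOpen (f i) with hWdef
  let U : ULift.{u} (Fin n) → X.Opens := fun i => X.basicOpen (f i.down)
  have hW : ∀ i, U i ≤ W := fun i => le_iSup (fun j => X.basicOpen (f j)) i.down
  let a : ULift.{u} (Fin n) → Γ(X, W) := fun i => X.presheaf.map (homOfLE (le_top : W ≤ ⊤)).op (f i.down)
  have ha : ∀ i, X.basicOpen (a i) = U i := fun i => by
    show X.basicOpen (X.presheaf.map (homOfLE (le_top : W ≤ ⊤)).op (f i.down)) = _
    rw [Scheme.basicOpen_res]
    exact inf_eq_right.2 (hW i)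
  have hspan : Ideal.span (Set.range a) = ⊤ := by
    rw [Ideal.eq_top_iff_one, ← hg]
    exact sum_mem fun i _ => Ideal.mul_mem_left _ _ (Ideal.subset_span ⟨⟨i⟩, rfl⟩)
  exact (CechLib.isZero_homology_succ_iff U G.presheaf q).2 fun c hc =>
    CechUnitLib.exists_boundary G U (fun i => hqc i.down) a ha hspan hW c hc

end Groth.Agent.S4481
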