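import Groth.Statements.S4487
import Groth.Agent.FlatCxFinLib.Basic
import Groth.Agent.S2440
import Groth.Agent.S4485

set_option autoImplicit false
universe u
open FlatCx

namespace Groth.Agent.S4487

open CategoryTheory CategoryTheory.Limits in
/-- The case of the homological functor T_p(M) = H_p(P ⊗_A M) of a chain complex P of flat modules over
a commutative ring A. Let A be Noetherian and suppose P_i = 0 for i < i₀ and that every T_n(A) is a
finitely generated A-module. Then for every integer N there is a dense open subset U of Spec A such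
that, for every p ≤ N, the function x ↦ dim_{k(x)} H_p(P ⊗_A k(x)) is locally constant on U. (The
published statement says constant on U; over the product of two fields, with P the projective module
supported on one factor placed in degree 0, the only dense open set is the whole two-point spectrum
and the ranks there are 1 and 0, so locally constant on U is what holds; the argument produces U as
a disjoint union of opens, one dense in each irreducible component, on each of which the functions
are constant.) -/
theorem result {A : Type u} [CommRing A] [IsNoetherianRing A]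
    (P : ChainComplex (ModuleCat.{u} A) ℤ) (hP : ∀ i, Module.Flat A (P.X i)) (i₀ : ℤ)
    (hb : ∀ i < i₀, IsZero (P.X i))
    (hfg : ∀ n : ℤ, Module.Finite A (CohIII.T P n (ModuleCat.of A A))) (N : ℤ) :
    ∃ U : Set (PrimeSpectrum A), IsOpen U ∧ Dense U ∧
      ∀ p ≤ N, IsLocallyConstant (fun x : U => CohIII.dRank P p x) := by
  classical
  have hmin : (minimalPrimes A).Finite := minimalPrimes.finite_of_isNoetherianRing A
  have key : ∀ q ∈ minimalPrimes A, ∃ g : A, g ∉ q ∧ ∀ p ≤ N, IsLocallyConstant
      (fun x : (PrimeSpectrum.basicOpen g : Set (PrimeSpectrum A)) => CohIII.dRank P p x) := by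
    intro q hq
    have : q.IsPrime := Ideal.minimalPrimes_isPrime hq
    let B := A ⧸ q
    let PB := CohIII.bcCx (algebraMap A B) P
    have hK : ∀ n : ℤ, Module.FinitePresentation B (FlatCxLib.K PB n (n - 1)) := fun n => by
      have := FlatCxFinLib.finite_T P hP i₀ hb hfg n B
      have := FlatCxFinLib.finite_K_bcCx P B n this
      exact Module.finitePresentation_of_finite _ _
    obtain ⟨f, hf, hW⟩ := FlatCxLib.exists_away_flat_W PB (FlatCxLib.flat_bcCx P hP) i₀
      (fun i hi => FlatCxLib.isZero_bcCx P B (hb i hi)) hK N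
    obtain ⟨g₀, hg₀⟩ := Ideal.Quotient.mk_surjective f
    have hg₀q : g₀ ∉ q := fun h => hf (by rw [← hg₀]; exact Ideal.Quotient.eq_zero_iff_mem.2 h)
    -- an element outside `q` lying in every other minimal prime
    obtain ⟨h, hhq, hh⟩ : ∃ h : A, h ∉ q ∧ ∀ q' ∈ minimalPrimes A, q' ≠ q → h ∈ q' := by
      have : ∀ q' ∈ hmin.toFinset.erase q, ∃ a ∈ q', a ∉ q := fun q' hq' => by
        obtain ⟨hne, hq'⟩ := Finset.mem_erase.1 hq'
        rw [Set.Finite.mem_toFinset] at hq'
        exact SetLike.not_le_iff_exists.1 fun hle =>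
          hne (le_antisymm hle (hq.2 ⟨Ideal.minimalPrimes_isPrime hq', bot_le⟩ hle))
      choose! a ha using this
      refine ⟨(hmin.toFinset.erase q).prod a, fun hmem => ?_, fun q' hq' hne => ?_⟩
      · obtain ⟨q', hq', hmem⟩ := (Ideal.IsPrime.prod_mem_iff).1 hmem
        exact (ha q' hq').2 hmem
      · exact Ideal.prod_mem q' (Finset.mem_erase.2 ⟨hne, hmin.mem_toFinset.2 hq'⟩)
          (ha q' (Finset.mem_erase.2 ⟨hne, hmin.mem_toFinset.2 hq'⟩)).1
    refine ⟨g₀ * h, fun hmem => (Ideal.IsPrime.mem_or_mem ‹q.IsPrime› hmem).elim hg₀q hhq, fun p hp => ?_⟩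
    -- points of the open set come from the localization of the quotient
    let C := Localization.Away f
    let Q := CohIII.bcCx (algebraMap B C) PB
    let c : PrimeSpectrum C → PrimeSpectrum A := fun y =>
      PrimeSpectrum.comap (algebraMap A B) (PrimeSpectrum.comap (algebraMap B C) y)
    have hlc : IsLocallyConstant (CohIII.dRank Q p) := by
      refine Groth.Agent.S4485.result Q (FlatCxLib.flat_bcCx PB (FlatCxLib.flat_bcCx P hP)) p
        ((FlatCxLib.exact_upTo_iff_flat_W Q (FlatCxLib.flat_bcCx PB (FlatCxLib.flat_bcCx P hP)) N).2 hW p hp) ?_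
      have : Module.Flat B C := IsLocalization.flat C (Submonoid.powers f)
      have := hK p
      have h1 : Module.Finite C (FlatCxLib.K Q p (p - 1)) :=
        Module.Finite.equiv (FlatCxLib.kBcEquiv PB C p (p - 1) (by omega)).symm
      have h2 : Module.Finite C (CohIII.T Q p (ModuleCat.of C C)) :=
        Module.Finite.equiv (FlatCxLib.tEquivSelf Q p (p - 1) (by omega)).symm
      exact Module.finitePresentation_of_finite _ _
    have hc : ∀ y, CohIII.dRank Q p y = CohIII.dRank P p (c y) := fun y => by
      rw [Groth.Agent.S2440.result PB (FlatCxLib.flat_bcCx P hP) p y, Groth.Agent.S2440.result P hP p _]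
    have hind : Topology.IsInducing c :=
      (PrimeSpectrum.isClosedEmbedding_comap_of_surjective _ (algebraMap A B)
        Ideal.Quotient.mk_surjective).isInducing.comp
        (PrimeSpectrum.localization_away_isOpenEmbedding C f).isInducing
    have hsurj : ∀ x : (PrimeSpectrum.basicOpen (g₀ * h) : Set (PrimeSpectrum A)), ∃ y, c y = x.1 := by
      rintro ⟨x, hx⟩
      have hqx : q ≤ x.asIdeal := by
        obtain ⟨q', hq', hle⟩ := Ideal.exists_minimalPrimes_le (bot_le : (⊥ : Ideal A) ≤ x.asIdeal)
        by_cases hne : q' = q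
        · exact hne ▸ hle
        · exact absurd (x.asIdeal.mul_mem_left g₀ (hle (hh q' hq' hne))) hx
      obtain ⟨z, hz⟩ : x ∈ Set.range (PrimeSpectrum.comap (algebraMap A B)) := by
        rw [range_comap_of_surjective _ (algebraMap A B) Ideal.Quotient.mk_surjective,
          PrimeSpectrum.mem_zeroLocus]
        intro a ha
        exact hqx (Ideal.Quotient.eq_zero_iff_mem.1 ha)
      have hzf : z ∈ Set.range (PrimeSpectrum.comap (algebraMap B C)) := by
        rw [PrimeSpectrum.localization_away_comap_range C f]
        intro hfz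
        refine hx (x.asIdeal.mul_mem_right h ?_)
        show g₀ ∈ x.asIdeal
        rw [← hz]
        show Ideal.Quotient.mk q g₀ ∈ z.asIdeal
        rw [hg₀]
        exact hfz
      obtain ⟨y, hy⟩ := hzf
      exact ⟨y, by show PrimeSpectrum.comap (algebraMap A B) _ = x; rw [hy, hz]⟩
    choose s hs using hsurj
    have hsc : Continuous s := hind.continuous_iff.2 (by
      rw [show c ∘ s = Subtype.val from funext hs]
      exact continuous_subtype_val)
    rw [show (fun x : (PrimeSpectrum.basicOpen (g₀ * h) : Set (PrimeSpectrum A)) => CohIII.dRank P p x) =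
      CohIII.dRank Q p ∘ s from funext fun x => by rw [Function.comp_apply, hc, hs]]
    exact hlc.comp_continuous hsc
  choose g hgq hglc using key
  refine ⟨⋃ (q) (hq : q ∈ minimalPrimes A), (PrimeSpectrum.basicOpen (g q hq) : Set (PrimeSpectrum A)),
    isOpen_iUnion fun q => isOpen_iUnion fun hq => (PrimeSpectrum.basicOpen (g q hq)).2, ?_, fun p hp => ?_⟩
  · intro x
    obtain ⟨q, hq, hle⟩ := Ideal.exists_minimalPrimes_le (bot_le : (⊥ : Ideal A) ≤ x.asIdeal)
    have hq' : q.IsPrime := Ideal.minimalPrimes_isPrime hq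
    let y : PrimeSpectrum A := ⟨q, hq'⟩
    have hy : y ∈ ⋃ (q) (hq : q ∈ minimalPrimes A), (PrimeSpectrum.basicOpen (g q hq) : Set (PrimeSpectrum A)) :=
      Set.mem_iUnion₂.2 ⟨q, hq, hgq q hq⟩
    exact closure_mono (Set.singleton_subset_iff.2 hy)
      ((PrimeSpectrum.le_iff_mem_closure y x).1 hle)
  · refine (IsLocallyConstant.iff_exists_open _).2 ?_
    rintro ⟨x, hx⟩
    obtain ⟨q, hq, hxq⟩ := Set.mem_iUnion₂.1 hx
    obtain ⟨V, hV, hxV, hVc⟩ := (IsLocallyConstant.iff_exists_open _).1 (hglc q hq p hp) ⟨x, hxq⟩
    obtain ⟨V', hV', rfl⟩ := isOpen_induced_iff.1 hV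
    exact ⟨Subtype.val ⁻¹' (V' ∩ (PrimeSpectrum.basicOpen (g q hq) : Set (PrimeSpectrum A))),
      (hV'.inter (PrimeSpectrum.basicOpen (g q hq)).2).preimage continuous_subtype_val, ⟨hxV, hxq⟩,
      fun z hz => hVc ⟨z.1, hz.2⟩ hz.1⟩

end Groth.Agent.S4487
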