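import Groth.Statements.S4488
import Groth.Agent.FlatCxLib.HomologyBc

set_option autoImplicit false
universe u
open FlatCx

namespace Groth.Agent.S4488

open CategoryTheory CategoryTheory.Limits in
/-- For the homological functor T_q(M) = H_q(P ⊗_A M) of a chain complex P of flat modules over a
commutative local ring A with residue field k. Suppose P_i = 0 for i < i₀ and that every T_n(A) is a
finitely presented A-module, and let p be an integer. If T_q takes injections to injections and
surjections to surjections for every q ≤ p, then dim_{k(x)} T_q(k(x)) = dim_k T_q(k) for every point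
x of Spec A and every q ≤ p. Conversely, if A is reduced and this equality holds at the generic
point of every irreducible component of Spec A (every minimal prime) for every q ≤ p, then T_q takes
injections to injections and surjections to surjections for every q ≤ p. No Noetherian hypothesis on
A. -/
theorem result {A : Type u} [CommRing A] [IsLocalRing A]
    (P : ChainComplex (ModuleCat.{u} A) ℤ) (hP : ∀ i, Module.Flat A (P.X i)) (i₀ : ℤ)
    (hb : ∀ i < i₀, IsZero (P.X i))
    (hfp : ∀ n : ℤ, Module.FinitePresentation A (CohIII.T P n (ModuleCat.of A A))) (p : ℤ) :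
    ((∀ q ≤ p, (CohIII.TFun P q).PreservesMonomorphisms ∧ (CohIII.TFun P q).PreservesEpimorphisms) →
        ∀ (x : PrimeSpectrum A), ∀ q ≤ p, CohIII.dRank P q x = CohIII.dRank P q (IsLocalRing.closedPoint A)) ∧
      (IsReduced A →
        (∀ x : PrimeSpectrum A, x.asIdeal ∈ minimalPrimes A →
          ∀ q ≤ p, CohIII.dRank P q x = CohIII.dRank P q (IsLocalRing.closedPoint A)) →
        ∀ q ≤ p, (CohIII.TFun P q).PreservesMonomorphisms ∧ (CohIII.TFun P q).PreservesEpimorphisms) := by
  have hK : ∀ q : ℤ, Module.FinitePresentation A (FlatCxLib.K P q (q - 1)) := fun q =>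
    have := hfp q
    Module.FinitePresentation.of_equiv (FlatCxLib.tEquivSelf P q (q - 1) (by omega))
  constructor
  · intro h x q hq
    have hW := (FlatCxLib.exact_upTo_iff_flat_W P hP p).1 h
    have := (FlatCxLib.flat_W_iff_flat_K P q (q - 1) (by omega) hP (hW _ (by omega))).1 (hW q hq)
    have := hK q
    rw [FlatCxLib.dRank_eq_fibreRank_K P q (q - 1) (by omega) hP (hW _ (by omega)),
      FlatCxLib.dRank_eq_fibreRank_K P q (q - 1) (by omega) hP (hW _ (by omega))]
    exact FlatCxLib.fibreRank_eq_of_flat_of_le _ (IsLocalRing.le_maximalIdeal x.2.ne_top)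
  · intro _ h
    rw [FlatCxLib.exact_upTo_iff_flat_W P hP p]
    suffices key : ∀ k : ℕ, ∀ q ≤ p, q < i₀ + k → Module.Flat A (FlatCxLib.W P q) from
      fun q hq => key (q - i₀ + 1).toNat q hq (by omega)
    intro k
    induction k with
    | zero => exact fun q _ hq => FlatCxLib.flat_W_of_isZero P (hb q (by simpa using hq))
    | succ k ih =>
      intro q hq hqk
      have hWq := ih (q - 1) (by omega) (by push_cast at hqk; omega)
      have := hK q
      have := FlatCxLib.free_of_fibreRank_eq (FlatCxLib.K P q (q - 1)) fun y hy => by
        rw [← FlatCxLib.dRank_eq_fibreRank_K P q (q - 1) (by omega) hP hWq,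
          ← FlatCxLib.dRank_eq_fibreRank_K P q (q - 1) (by omega) hP hWq]
        exact h y hy q hq
      exact (FlatCxLib.flat_W_iff_flat_K P q (q - 1) (by omega) hP hWq).2 inferInstance

end Groth.Agent.S4488
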