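import Groth.Statements.S4489
import Groth.Agent.FlatCxLib.HomologyBc

set_option autoImplicit false
universe u
open FlatCx

namespace Groth.Agent.S4489

open CategoryTheory CategoryTheory.Limits in
/-- For the homological functor T_p(M) = H_p(P ⊗_A M) of a chain complex P of flat modules, stated over
a Dedekind domain A. (The published statement allows A to be a finite product of Dedekind domains,
that is, a Noetherian regular ring of dimension at most 1; this row takes A a Dedekind domain.) Then
T_p takes injections to injections if and only if H_p(P) is a flat A-module; and, with q + 1 = p,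
T_p takes injections to injections and surjections to surjections if and only if H_p(P) and H_q(P)
are both flat. -/
theorem result {A : Type u} [CommRing A] [IsDedekindDomain A]
    (P : ChainComplex (ModuleCat.{u} A) ℤ) (hP : ∀ i, Module.Flat A (P.X i)) (p q : ℤ) (hpq : q + 1 = p) :
    ((CohIII.TFun P p).PreservesMonomorphisms ↔ Module.Flat A (P.homology p)) ∧
      (((CohIII.TFun P p).PreservesMonomorphisms ∧ (CohIII.TFun P p).PreservesEpimorphisms) ↔
        (Module.Flat A (P.homology p) ∧ Module.Flat A (P.homology q))) := by
  have key : ∀ r s : ℤ, s + 1 = r → (Module.Flat A (FlatCxLib.W P r) ↔ Module.Flat A (P.homology r)) := by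
    intro r s hrs
    have := hP s
    rw [Module.Flat.equiv_iff (FlatCxLib.homologyEquivK P r s hrs)]
    haveI : Module.Flat A (LinearMap.range (FlatCxLib.dbar P r s)) := by
      haveI : Module.IsTorsionFree A (LinearMap.range (FlatCxLib.dbar P r s)) := inferInstance
      infer_instance
    have hex : Function.Exact (LinearMap.ker (FlatCxLib.dbar P r s)).subtype
        (FlatCxLib.dbar P r s).rangeRestrict := fun x =>
      ⟨fun hx => ⟨⟨x, congrArg Subtype.val hx⟩, rfl⟩, by rintro ⟨y, rfl⟩; exact Subtype.ext y.2⟩
    exact ⟨fun h => FlatCxLib.flat_left_of_flat _ _ Subtype.val_injective hex (FlatCxLib.dbar P r s).surjective_rangeRestrict,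
      fun h => FlatCxLib.flat_middle_of_flat _ _ Subtype.val_injective hex (FlatCxLib.dbar P r s).surjective_rangeRestrict⟩
  rw [FlatCxLib.preservesMono_iff_flat P p hP, FlatCxLib.preservesEpi_iff_flat P p q hpq hP, key p q hpq,
    key q (q - 1) (by omega)]
  exact ⟨Iff.rfl, Iff.rfl⟩

end Groth.Agent.S4489
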