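import Groth.Statements.S4491
import Groth.Agent.FlatCxLib.Criteria

set_option autoImplicit false
universe u
open FlatCx

namespace Groth.Agent.S4491

open CategoryTheory CategoryTheory.Limits in
/-- For the homological functor T_i(M) = H_i(P ⊗_A M) of a chain complex P of flat modules over a
commutative ring A. Let q + 1 = p and suppose T_p takes surjections to surjections. If
multiplication by f ∈ A is injective on an A-module M, then multiplication by f is injective on
T_q(M). In particular, when A is a domain, T_q(A) is torsion-free. -/
theorem result {A : Type u} [CommRing A]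
    (P : ChainComplex (ModuleCat.{u} A) ℤ) (hP : ∀ i, Module.Flat A (P.X i)) (p q : ℤ) (hpq : q + 1 = p)
    (hex : (CohIII.TFun P p).PreservesEpimorphisms) :
    (∀ (M : ModuleCat.{u} A) (f : A), Function.Injective (fun x : M => f • x) →
        Function.Injective (fun y : CohIII.T P q M => f • y)) ∧
      (IsDomain A → NoZeroSMulDivisors A (CohIII.T P q (ModuleCat.of A A))) := by
  have hW := (FlatCxLib.preservesEpi_iff_flat P p q hpq hP).1 hex
  have key : ∀ (M : ModuleCat.{u} A) (f : A), Function.Injective (fun x : M => f • x) →
      Function.Injective (fun y : CohIII.T P q M => f • y) := by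
    intro M f hf a b hab
    let e := FlatCxLib.tEquiv P q (q - 1) (by omega) M
    apply e.injective
    apply Subtype.ext
    refine Module.Flat.lTensor_preserves_injective_linearMap (M := FlatCxLib.W P q) (f • LinearMap.id) hf ?_
    rw [LinearMap.lTensor_smul, LinearMap.lTensor_id, LinearMap.smul_apply, LinearMap.smul_apply,
      LinearMap.id_apply, LinearMap.id_apply]
    have := congrArg (fun z => (e z).1) hab
    exact ((congrArg Subtype.val (map_smul e f a)).symm.trans (this.trans (congrArg Subtype.val (map_smul e f b))))
  refine ⟨key, fun _ => ⟨fun {c x} h => ?_⟩⟩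
  by_cases hc : c = 0
  · exact Or.inl hc
  · refine Or.inr (key (ModuleCat.of A A) c (mul_right_injective₀ hc) ?_)
    exact h.trans (smul_zero c).symm

end Groth.Agent.S4491
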