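import Groth.Statements.S4492
import Mathlib


-- import your own Groth.Agent.* helpers here

set_option autoImplicit false
universe u
open FlatCx

namespace Groth.Agent.S4492

open CategoryTheory CategoryTheory.Limits in
/-- (The published statement is for arbitrary abelian categories; this row is for functors between
module categories.) Let F be an additive functor from A-modules to B-modules which is half exact
(every short exact sequence 0 → E' → E → E'' → 0 goes to a sequence F(E') → F(E) → F(E'') exact at
the middle) and such that F(S) has finite length for every simple A-module S. Then F(E) has finite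
length for every A-module E of finite length; and for every short exact sequence 0 → E' → E → E'' →
0 of A-modules with E of finite length one has length F(E) ≤ length F(E') + length F(E''), with
equality if and only if 0 → F(E') → F(E) → F(E'') → 0 is (short) exact. Lengths are Mathlib's,
valued in ℕ∞. -/
theorem result {A B : Type u} [Ring A] [Ring B]
    (F : ModuleCat.{u} A ⥤ ModuleCat.{u} B) [F.Additive]
    (hF : ∀ S : ShortComplex (ModuleCat.{u} A), S.ShortExact → (S.map F).Exact)
    (hS : ∀ M : ModuleCat.{u} A, IsSimpleModule A M → Module.length B (F.obj M) ≠ ⊤) :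
    (∀ E : ModuleCat.{u} A, Module.length A E ≠ ⊤ → Module.length B (F.obj E) ≠ ⊤) ∧
      ∀ S : ShortComplex (ModuleCat.{u} A), S.ShortExact → Module.length A S.X₂ ≠ ⊤ →
        Module.length B (F.obj S.X₂) ≤ Module.length B (F.obj S.X₁) + Module.length B (F.obj S.X₃) ∧
          (Module.length B (F.obj S.X₂) = Module.length B (F.obj S.X₁) + Module.length B (F.obj S.X₃) ↔
            (S.map F).ShortExact) := by
  have hex : ∀ S : CategoryTheory.ShortComplex (ModuleCat.{u} A), S.ShortExact →
      Function.Exact (F.map S.f).hom (F.map S.g).hom := fun S h =>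
    (CategoryTheory.ShortComplex.moduleCat_exact_iff_range_eq_ker _).1 (hF S h) |>.symm |> LinearMap.exact_iff.2
  have hadd : ∀ {X Y : ModuleCat.{u} B} (φ : X ⟶ Y),
      Module.length B X = Module.length B (LinearMap.ker φ.hom) + Module.length B (LinearMap.range φ.hom) := by
    intro X Y φ
    exact Module.length_eq_add_of_exact (LinearMap.ker φ.hom).subtype φ.hom.rangeRestrict
      (Submodule.injective_subtype _) φ.hom.surjective_rangeRestrict
      (LinearMap.exact_iff.2 (by rw [LinearMap.ker_rangeRestrict, Submodule.range_subtype]))
  have hcoker : ∀ {X Y : ModuleCat.{u} B} (φ : X ⟶ Y),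
      Module.length B Y = Module.length B (LinearMap.range φ.hom) + Module.length B (Y ⧸ LinearMap.range φ.hom) := by
    intro X Y φ
    exact Module.length_eq_add_of_exact (LinearMap.range φ.hom).subtype (LinearMap.range φ.hom).mkQ
      (Submodule.injective_subtype _) (Submodule.mkQ_surjective _)
      (LinearMap.exact_iff.2 (by rw [Submodule.ker_mkQ, Submodule.range_subtype]))
  have hle : ∀ S : CategoryTheory.ShortComplex (ModuleCat.{u} A), S.ShortExact →
      Module.length B (F.obj S.X₂) ≤ Module.length B (F.obj S.X₁) + Module.length B (F.obj S.X₃) := by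
    intro S h
    rw [hadd (F.map S.g), LinearMap.exact_iff.1 (hex S h)]
    exact add_le_add (Module.length_le_of_surjective (F.map S.f).hom.rangeRestrict
      (F.map S.f).hom.surjective_rangeRestrict) (Module.length_le_of_injective _ (Submodule.injective_subtype _))
  have hfin : ∀ (M : Type u) [AddCommGroup M] [Module A M], IsFiniteLength A M →
      Module.length B (F.obj (ModuleCat.of A M)) ≠ ⊤ := by
    intro M _ _ hM
    induction hM with
    | @of_subsingleton M _ _ _ =>
      have := F.map_isZero (ModuleCat.isZero_of_subsingleton (ModuleCat.of A M))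
      have hs := ModuleCat.subsingleton_of_isZero this
      simp [Module.length_eq_zero]
    | @of_simple_quotient M _ _ N hN _ ih =>
      let S : CategoryTheory.ShortComplex (ModuleCat.{u} A) :=
        CategoryTheory.ShortComplex.moduleCatMk N.subtype N.mkQ (by
          ext x; exact (Submodule.Quotient.mk_eq_zero N).2 x.2)
      have hse : S.ShortExact :=
        { exact := (CategoryTheory.ShortComplex.moduleCat_exact_iff_range_eq_ker _).2 ((N.range_subtype.trans N.ker_mkQ.symm))
          mono_f := (ModuleCat.mono_iff_injective _).2 (Submodule.injective_subtype _)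
          epi_g := (ModuleCat.epi_iff_surjective _).2 (Submodule.mkQ_surjective _) }
      exact ne_top_of_le_ne_top (WithTop.add_ne_top.2 ⟨ih, hS S.X₃ (by assumption)⟩) (hle S hse)
  have hfin' : ∀ E : ModuleCat.{u} A, Module.length A E ≠ ⊤ → Module.length B (F.obj E) ≠ ⊤ :=
    fun E hE => hfin E (Module.length_ne_top_iff.1 hE)
  refine ⟨hfin', fun S h h2 => ⟨hle S h, ?_⟩⟩
  have hl := Module.length_eq_add_of_exact S.f.hom S.g.hom h.moduleCat_injective_f
    h.moduleCat_surjective_g ((LinearMap.exact_iff).2
      ((CategoryTheory.ShortComplex.moduleCat_exact_iff_range_eq_ker _).1 h.exact).symm)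
  rw [hl] at h2; replace h2 := WithTop.add_ne_top.1 h2
  have f1 := hfin' _ h2.1
  have f3 := hfin' _ h2.2
  have a1 := hadd (F.map S.f)
  have a2 := hadd (F.map S.g)
  rw [LinearMap.exact_iff.1 (hex S h)] at a2
  have a3 := hcoker (F.map S.g)
  have key : Module.length B (F.obj S.X₂) = Module.length B (F.obj S.X₁) + Module.length B (F.obj S.X₃) ↔
      Module.length B (LinearMap.ker (F.map S.f).hom) = 0 ∧
        Module.length B (F.obj S.X₃ ⧸ LinearMap.range (F.map S.g).hom) = 0 := by
    rw [a1, a3, a2]
    rw [a1] at f1; replace f1 := WithTop.add_ne_top.1 f1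
    rw [a3] at f3; replace f3 := WithTop.add_ne_top.1 f3
    revert f1 f3
    generalize Module.length B (LinearMap.ker (F.map S.f).hom) = k
    generalize Module.length B (LinearMap.range (F.map S.f).hom) = r
    generalize Module.length B (LinearMap.range (F.map S.g).hom) = s
    generalize Module.length B (F.obj S.X₃ ⧸ LinearMap.range (F.map S.g).hom) = c
    rintro ⟨hk, hr⟩ ⟨hs, hc⟩
    lift k to ℕ using hk
    lift r to ℕ using hr
    lift s to ℕ using hs
    lift c to ℕ using hc
    norm_cast
    omega
  rw [key, Module.length_eq_zero_iff, Module.length_eq_zero_iff, Submodule.subsingleton_iff_eq_bot,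
    LinearMap.ker_eq_bot, Submodule.Quotient.subsingleton_iff, LinearMap.range_eq_top]
  constructor
  · rintro ⟨hi, hs⟩
    exact { exact := hF S h, mono_f := (ModuleCat.mono_iff_injective _).2 hi,
            epi_g := (ModuleCat.epi_iff_surjective _).2 hs }
  · intro hh
    exact ⟨(ModuleCat.mono_iff_injective _).1 hh.mono_f, (ModuleCat.epi_iff_surjective _).1 hh.epi_g⟩

end Groth.Agent.S4492
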