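import Groth.Statements.S4493
import Groth.Agent.FlatCxLib.LocColim
import Mathlib

set_option autoImplicit false
universe u
open FlatCx

namespace Groth.Agent.S4493

open CategoryTheory CategoryTheory.Limits

noncomputable section

variable {A : Type u} [CommRing A] (m : Ideal A) [m.IsMaximal]

/-- The localised module over the local ring. -/
abbrev L (M : ModuleCat.{u} A) : ModuleCat.{u} (Localization.AtPrime m) :=
  ModuleCat.of _ (LocalizedModule m.primeCompl M)

/-- Restriction of scalars does nothing. -/
def resEquiv (M : ModuleCat.{u} A) : LocalizedModule m.primeCompl M ≃ₗ[A]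
    (ModuleCat.restrictScalars (algebraMap A (Localization.AtPrime m))).obj (L m M) where
  toFun x := x
  invFun x := x
  map_add' _ _ := rfl
  map_smul' a x := by
    show a • x = algebraMap A (Localization.AtPrime m) a • (x : LocalizedModule m.primeCompl M)
    rw [algebraMap_smul]
  left_inv _ := rfl
  right_inv _ := rfl

/-- The localisation map. -/
def φ (M : ModuleCat.{u} A) :
    M ⟶ (ModuleCat.restrictScalars (algebraMap A (Localization.AtPrime m))).obj (L m M) :=
  (ModuleCat.homEquiv (M := M)
    (N := (ModuleCat.restrictScalars (algebraMap A (Localization.AtPrime m))).obj (L m M))).symm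
      ((resEquiv m M).toLinearMap ∘ₗ LocalizedModule.mkLinearMap m.primeCompl M)

instance (M : ModuleCat.{u} A) : IsLocalizedModule m.primeCompl (φ m M).hom := by
  unfold φ
  exact IsLocalizedModule.of_linearEquiv m.primeCompl (LocalizedModule.mkLinearMap m.primeCompl M) (resEquiv m M)

/-- The localised map. -/
def Lmap {M N : ModuleCat.{u} A} (f : M ⟶ N) : L m M ⟶ L m N :=
  ModuleCat.ofHom (LocalizedModule.map m.primeCompl f.hom)

theorem φ_natural {M N : ModuleCat.{u} A} (f : M ⟶ N) :
    f ≫ φ m N = φ m M ≫ (ModuleCat.restrictScalars (algebraMap A (Localization.AtPrime m))).map (Lmap m f) :=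
  ModuleCat.hom_ext (LinearMap.ext fun x =>
    (LocalizedModule.map_mk m.primeCompl f.hom x (1 : m.primeCompl)).symm)

/-- The localised short complex. -/
def LS (S : ShortComplex (ModuleCat.{u} A)) : ShortComplex (ModuleCat.{u} (Localization.AtPrime m)) :=
  ShortComplex.mk (Lmap m S.f) (Lmap m S.g) (ModuleCat.hom_ext (LinearMap.ext fun x => by
    induction x using LocalizedModule.induction_on with
    | h x s =>
      show LocalizedModule.map m.primeCompl S.g.hom
        (LocalizedModule.map m.primeCompl S.f.hom (LocalizedModule.mk x s)) = 0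
      rw [LocalizedModule.map_mk, LocalizedModule.map_mk, S.moduleCat_zero_apply,
        LocalizedModule.zero_mk]))

theorem LS_shortExact {S : ShortComplex (ModuleCat.{u} A)} (hS : S.ShortExact) :
    (LS m S).ShortExact :=
  ModuleCat.shortComplex_shortExact _
    (LocalizedModule.map_exact m.primeCompl _ _
      ((ShortComplex.ShortExact.moduleCat_exact_iff_function_exact _).1 hS.exact))
    (LocalizedModule.map_injective m.primeCompl _ ((ModuleCat.mono_iff_injective _).1 hS.mono_f))
    (LocalizedModule.map_surjective m.primeCompl _ ((ModuleCat.epi_iff_surjective _).1 hS.epi_g))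

variable {m}

theorem eq_zero_of_local {N : Type u} [AddCommGroup N] [Module A N] (P : Submodule A N) (y : N)
    (h : ∀ (m : Ideal A) [m.IsMaximal], ∃ s ∈ m.primeCompl, s • y ∈ P) : y ∈ P := by
  by_contra hy
  let J : Ideal A := P.colon {y}
  have hJ : J ≠ ⊤ := fun h0 => hy (by
    have := Submodule.mem_colon_singleton.1 (h0.symm ▸ (trivial : (1 : A) ∈ (⊤ : Ideal A)) : (1 : A) ∈ J)
    rwa [one_smul] at this)
  obtain ⟨m, hm, hle⟩ := Ideal.exists_le_maximal J hJ
  obtain ⟨s, hs, hsy⟩ := h m
  exact hs (hle (Submodule.mem_colon_singleton.2 hsy))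

section

variable (T : ModuleCat.{u} A ⥤ ModuleCat.{u} A) [T.Additive] [T.Linear A]
  (hT : ∀ (J : Type u) [SmallCategory J] [IsFiltered J], PreservesColimitsOfShape J T)

omit [T.Additive] [T.Linear A] in
theorem square (m : Ideal A) [m.IsMaximal] {M N : ModuleCat.{u} A} (f : M ⟶ N) (x : T.obj M) :
    (T.map (φ m N)).hom ((T.map f).hom x) =
      (T.map ((ModuleCat.restrictScalars (algebraMap A (Localization.AtPrime m))).map (Lmap m f))).hom
        ((T.map (φ m M)).hom x) :=
  LinearMap.congr_fun (congrArg (fun g => (T.map g).hom) (φ_natural m f) |>.trans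
    (congrArg ModuleCat.Hom.hom (T.map_comp _ _)) |>.symm.trans
    (congrArg ModuleCat.Hom.hom (T.map_comp f (φ m N))) |>.symm) x

include hT

theorem injective_of_local {M N : ModuleCat.{u} A} (f : M ⟶ N)
    (h : ∀ (m : Ideal A) [m.IsMaximal],
      Mono ((ModuleCat.restrictScalars (algebraMap A (Localization.AtPrime m)) ⋙ T).map (Lmap m f))) :
    Mono (T.map f) := by
  rw [ModuleCat.mono_iff_injective]
  refine (injective_iff_map_eq_zero _).2 fun x hx => (Submodule.mem_bot A).1 (eq_zero_of_local ⊥ x ?_)
  intro m _
  haveI := FlatCxLib.isLocalizedModule_map (S := m.primeCompl) T hT (φ m M)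
  have hinj : Function.Injective
      (T.map ((ModuleCat.restrictScalars (algebraMap A (Localization.AtPrime m))).map (Lmap m f))).hom :=
    (ModuleCat.mono_iff_injective _).1 (h m)
  have h0 : (T.map (φ m M)).hom x = 0 := hinj (by rw [← square, hx, map_zero, map_zero])
  obtain ⟨s, hs⟩ := (IsLocalizedModule.eq_zero_iff m.primeCompl (T.map (φ m M)).hom).1 h0
  exact ⟨s, s.2, hs⟩

theorem range_of_local {M N : ModuleCat.{u} A} (f : M ⟶ N) (y : T.obj N) (m : Ideal A) [m.IsMaximal]
    (z : T.obj ((ModuleCat.restrictScalars (algebraMap A (Localization.AtPrime m))).obj (L m M)))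
    (hz : (T.map ((ModuleCat.restrictScalars (algebraMap A (Localization.AtPrime m))).map (Lmap m f))).hom z =
      (T.map (φ m N)).hom y) :
    ∃ s ∈ m.primeCompl, s • y ∈ LinearMap.range (T.map f).hom := by
  haveI := FlatCxLib.isLocalizedModule_map (S := m.primeCompl) T hT (φ m M)
  haveI := FlatCxLib.isLocalizedModule_map (S := m.primeCompl) T hT (φ m N)
  obtain ⟨⟨x, s⟩, hx⟩ := IsLocalizedModule.surj m.primeCompl (T.map (φ m M)).hom z
  simp only [Submonoid.smul_def] at hx
  have h1 : (T.map (φ m N)).hom ((s : A) • y) = (T.map (φ m N)).hom ((T.map f).hom x) := by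
    rw [map_smul, ← hz, ← map_smul, hx, square]
  obtain ⟨t, ht⟩ := (IsLocalizedModule.eq_iff_exists m.primeCompl (T.map (φ m N)).hom).1 h1
  simp only [Submonoid.smul_def] at ht
  exact ⟨(t : A) * s, (t * s).2, ⟨(t : A) • x, by rw [map_smul, mul_smul, ht]⟩⟩

theorem exact_of_local {S : ShortComplex (ModuleCat.{u} A)}
    (h : ∀ (m : Ideal A) [m.IsMaximal],
      ((LS m S).map (ModuleCat.restrictScalars (algebraMap A (Localization.AtPrime m)) ⋙ T)).Exact) :
    (S.map T).Exact := by
  rw [ShortComplex.moduleCat_exact_iff]
  intro (y : T.obj S.X₂) (hy : (T.map S.g).hom y = 0)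
  refine (eq_zero_of_local (LinearMap.range (T.map S.f).hom) y ?_ :)
  intro m _
  obtain ⟨z, hz⟩ := (ShortComplex.moduleCat_exact_iff _).1 (h m) ((T.map (φ m S.X₂)).hom y)
    ((square T m S.g y).symm.trans (by rw [hy, map_zero]; rfl))
  exact range_of_local T hT S.f y m z hz

theorem surjective_of_local {M N : ModuleCat.{u} A} (f : M ⟶ N)
    (h : ∀ (m : Ideal A) [m.IsMaximal],
      Epi ((ModuleCat.restrictScalars (algebraMap A (Localization.AtPrime m)) ⋙ T).map (Lmap m f))) :
    Epi (T.map f) := by
  rw [ModuleCat.epi_iff_surjective]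
  intro y
  refine (eq_zero_of_local (LinearMap.range (T.map f).hom) y ?_ :)
  intro m _
  obtain ⟨z, hz⟩ := (ModuleCat.epi_iff_surjective _).1 (h m) ((T.map (φ m N)).hom y)
  exact range_of_local T hT f y m z hz

end

end

open CategoryTheory CategoryTheory.Limits in
/-- Let A be a commutative ring and T an additive A-linear endofunctor of the category of A-modules
which preserves filtered colimits. For a maximal ideal m write T_m for T precomposed with
restriction of scalars along A → A_m (a functor from A_m-modules to A-modules). If T_m is left exact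
for every maximal ideal m then T is left exact, and if T_m is right exact for every maximal ideal m
then T is right exact (exactness meaning preservation of finite limits, resp. finite colimits). -/
theorem result {A : Type u} [CommRing A]
    (T : ModuleCat.{u} A ⥤ ModuleCat.{u} A) [T.Additive] [T.Linear A]
    (hT : ∀ (J : Type u) [SmallCategory J] [IsFiltered J], PreservesColimitsOfShape J T) :
    ((∀ (m : Ideal A) [m.IsMaximal],
        PreservesFiniteLimits (ModuleCat.restrictScalars (algebraMap A (Localization.AtPrime m)) ⋙ T)) →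
      PreservesFiniteLimits T) ∧
    ((∀ (m : Ideal A) [m.IsMaximal],
        PreservesFiniteColimits (ModuleCat.restrictScalars (algebraMap A (Localization.AtPrime m)) ⋙ T)) →
      PreservesFiniteColimits T) := by
  refine ⟨fun h => ?_, fun h => ?_⟩
  · refine ((Functor.preservesFiniteLimits_tfae T).out 0 3).1 fun S hS => ?_
    have hl : ∀ (m : Ideal A) [m.IsMaximal],
        ((LS m S).map (ModuleCat.restrictScalars (algebraMap A (Localization.AtPrime m)) ⋙ T)).Exact ∧
          Mono ((ModuleCat.restrictScalars (algebraMap A (Localization.AtPrime m)) ⋙ T).map (LS m S).f) := by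
      intro m hm
      have e := (Functor.preservesFiniteLimits_tfae
        (ModuleCat.restrictScalars (algebraMap A (Localization.AtPrime m)) ⋙ T)).out 0 3
      exact e.2 (h m) (LS m S) (LS_shortExact m hS)
    exact ⟨exact_of_local T hT fun m _ => (hl m).1, injective_of_local T hT S.f fun m _ => (hl m).2⟩
  · refine ((Functor.preservesFiniteColimits_tfae T).out 0 3).1 fun S hS => ?_
    have hl : ∀ (m : Ideal A) [m.IsMaximal],
        ((LS m S).map (ModuleCat.restrictScalars (algebraMap A (Localization.AtPrime m)) ⋙ T)).Exact ∧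
          Epi ((ModuleCat.restrictScalars (algebraMap A (Localization.AtPrime m)) ⋙ T).map (LS m S).g) := by
      intro m hm
      have e := (Functor.preservesFiniteColimits_tfae
        (ModuleCat.restrictScalars (algebraMap A (Localization.AtPrime m)) ⋙ T)).out 0 3
      exact e.2 (h m) (LS m S) (LS_shortExact m hS)
    exact ⟨exact_of_local T hT fun m _ => (hl m).1, surjective_of_local T hT S.g fun m _ => (hl m).2⟩

end Groth.Agent.S4493
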