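import Groth.Statements.S4496
import Groth.Agent.FlatCxLib.Criteria

set_option autoImplicit false
universe u
open FlatCx

namespace Groth.Agent.S4496

open CategoryTheory CategoryTheory.Limits MonoidalCategory in
/-- For the homological functor T_p(M) = H_p(P ⊗_A M) of a chain complex P of flat modules over a
commutative ring A: T_p takes injections to injections and surjections to surjections if and only if
T_p is isomorphic to the functor M ↦ N ⊗_A M for some flat A-module N (which is then isomorphic to
T_p(A)). -/
theorem result {A : Type u} [CommRing A]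
    (P : ChainComplex (ModuleCat.{u} A) ℤ) (hP : ∀ i, Module.Flat A (P.X i)) (p : ℤ) :
    ((CohIII.TFun P p).PreservesMonomorphisms ∧ (CohIII.TFun P p).PreservesEpimorphisms) ↔
      ∃ N : ModuleCat.{u} A, Module.Flat A N ∧ Nonempty (CohIII.TFun P p ≅ tensorLeft N) := by
  constructor
  · rintro ⟨hm, he⟩
    have hWp := (FlatCxLib.preservesMono_iff_flat P p hP).1 hm
    have hW := (FlatCxLib.preservesEpi_iff_flat P p (p - 1) (by omega) hP).1 he
    exact ⟨_, (FlatCxLib.flat_W_iff_flat_K P p (p - 1) (by omega) hP hW).1 hWp,
      ⟨FlatCxLib.isoTensorLeft P p (p - 1) (by omega) hP hW⟩⟩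
  · rintro ⟨N, hN, ⟨e⟩⟩
    exact ⟨FlatCxLib.preservesMono_of_iso e (FlatCxLib.preservesMono_tensorLeft N),
      FlatCxLib.preservesEpi_of_iso e (FlatCxLib.preservesEpi_tensorLeft N)⟩

end Groth.Agent.S4496
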