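import Groth.Statements.S4497
import Groth.Agent.FlatCxLib.Criteria

set_option autoImplicit false
universe u
open FlatCx

namespace Groth.Agent.S4497

open CategoryTheory CategoryTheory.Limits in
/-- For the homological functor T_i(M) = H_i(P ⊗_A M) of a chain complex P of flat modules over a
commutative Artinian local ring A with residue field k; the terms of P need not be finitely
generated. With p + 1 = q: T_p takes injections to injections and surjections to surjections if and
only if the maps T_p(A) → T_p(k) and T_q(A) → T_q(k) induced by A → k are both surjective. If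
moreover T_p(k) has finite length d, these conditions are also equivalent to: length T_p(M) = d ·
length M for every A-module M of finite length (lengths valued in ℕ∞). -/
theorem result {A : Type u} [CommRing A] [IsArtinianRing A]
    [IsLocalRing A] (P : ChainComplex (ModuleCat.{u} A) ℤ) (hP : ∀ i, Module.Flat A (P.X i)) (p q : ℤ)
    (hpq : p + 1 = q) :
    (((CohIII.TFun P p).PreservesMonomorphisms ∧ (CohIII.TFun P p).PreservesEpimorphisms) ↔
      (Function.Surjective ((CohIII.TFun P p).map
          (ModuleCat.ofHom (Algebra.linearMap A (IsLocalRing.ResidueField A)))).hom ∧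
        Function.Surjective ((CohIII.TFun P q).map
          (ModuleCat.ofHom (Algebra.linearMap A (IsLocalRing.ResidueField A)))).hom)) ∧
    (Module.length A (CohIII.T P p (ModuleCat.of A (IsLocalRing.ResidueField A))) ≠ ⊤ →
      (((CohIII.TFun P p).PreservesMonomorphisms ∧ (CohIII.TFun P p).PreservesEpimorphisms) ↔
        ∀ M : ModuleCat.{u} A, Module.length A M ≠ ⊤ →
          Module.length A (CohIII.T P p M) =
            Module.length A (CohIII.T P p (ModuleCat.of A (IsLocalRing.ResidueField A))) * Module.length A M)) := by
  subst hpq
  have e1 := FlatCxLib.preservesMono_iff_flat P p hP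
  have e2 := FlatCxLib.preservesEpi_iff_flat P p (p - 1) (by omega) hP
  refine ⟨?_, fun hd => ⟨fun h M _ => ?_, fun h => ?_⟩⟩
  · rw [e1, e2, FlatCxLib.surjective_residue_iff_flat_artinian P p (p - 1) (by omega) hP,
      FlatCxLib.surjective_residue_iff_flat_artinian P (p + 1) p rfl hP, and_comm]
  · exact FlatCxLib.length_T_eq P p (p - 1) (by omega) hP (e1.1 h.1) (e2.1 h.2) hd M
  · rw [e1, e2]
    exact FlatCxLib.flat_of_length_eq P p (p - 1) (by omega) hP hd (h (ModuleCat.of A A)
      (Module.length_ne_top_iff.2 (isFiniteLength_iff_isNoetherian_isArtinian.2 ⟨inferInstanceAs (IsNoetherian A A), inferInstanceAs (IsArtinian A A)⟩)))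

end Groth.Agent.S4497
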