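import Groth.Statements.S4498
import Groth.Agent.CohBCLib.Exchange

set_option autoImplicit false
universe u
attribute [local instance] HasDerivedCategory.standard
open Coherent

namespace Groth.Agent.S4498

open AlgebraicGeometry CategoryTheory Opposite in
/-- The global form over an affine base. Let A be a Noetherian ring, X a proper A-scheme with structure
morphism f, and F, F' coherent O_X-modules flat over Spec A. Let η be a natural transformation from
the functor M ↦ Γ(X, f^*(M~) ⊗ F) to the functor M ↦ Γ(X, f^*(M~) ⊗ F') of the A-module M (the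
published statement takes η induced by a homomorphism F → F'; this row allows any natural
transformation, which is all the argument uses). Then the kernel functor M ↦ Ker(η_M) is
corepresentable by a finitely generated A-module R: there are such an R and a natural transformation
ι : Hom_A(R, −) → Γ(X, f^*(−~) ⊗ F) with injective components whose image at every M is exactly the
kernel of η_M. (R is then unique up to unique isomorphism.) -/
theorem result (A : Type u) [CommRing A]
    [IsNoetherianRing A] (X : Scheme.{u}) [X.Over (Spec (CommRingCat.of A))]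
    [IsProper (X ↘ Spec (CommRingCat.of A))] (F F' : X.Modules) (hF : Coh.IsCoh F) (hF' : Coh.IsCoh F')
    (hfl : FlatMod.IsFlatOver (X ↘ Spec (CommRingCat.of A)) F)
    (hfl' : FlatMod.IsFlatOver (X ↘ Spec (CommRingCat.of A)) F')
    (η : CohIII.tensorAFunctor A F ⋙ CohIII.globalSectionsA A ⟶ CohIII.tensorAFunctor A F' ⋙ CohIII.globalSectionsA A) :
    ∃ (R : ModuleCat.{u} A) (ι : (linearCoyoneda A (ModuleCat.{u} A)).obj (op R) ⟶
        CohIII.tensorAFunctor A F ⋙ CohIII.globalSectionsA A),
      Module.Finite A R ∧ (∀ M : ModuleCat.{u} A, Function.Injective (ι.app M).hom) ∧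
        ∀ (M : ModuleCat.{u} A) (x : (CohIII.tensorAFunctor A F ⋙ CohIII.globalSectionsA A).obj M),
          (η.app M).hom x = 0 ↔ ∃ y, (ι.app M).hom y = x := by
  obtain ⟨U⟩ := CohBCLib.exists_univ (X ↘ Spec (CommRingCat.of A)) F hF hfl
  obtain ⟨U'⟩ := CohBCLib.exists_univ (X ↘ Spec (CommRingCat.of A)) F' hF' hfl'
  obtain ⟨Q, hQ, ⟨e⟩⟩ := CohBCLib.exists_corep_globalSections U
  obtain ⟨Q', -, ⟨e'⟩⟩ := CohBCLib.exists_corep_globalSections U'
  let η' := e.inv ≫ η ≫ e'.hom
  let v : Q' ⟶ Q := (η'.app Q).hom (𝟙 Q)
  have hη : ∀ (M : ModuleCat.{u} A) (h : Q ⟶ M), (η'.app M).hom h = v ≫ h := fun M h => by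
    have := congrArg (fun t => t.hom (𝟙 Q)) (η'.naturality h)
    refine Eq.trans ?_ this
    exact congrArg (η'.app M).hom (Category.id_comp h).symm
  let R := ModuleCat.of A (Q ⧸ LinearMap.range v.hom)
  let q : Q ⟶ R := ModuleCat.ofHom (LinearMap.range v.hom).mkQ
  refine ⟨R, (linearCoyoneda A (ModuleCat.{u} A)).map q.op ≫ e.inv, Module.Finite.quotient A _, fun M => ?_,
    fun M x => ?_⟩
  · intro a b h
    have h1 := congrArg (e.hom.app M).hom h
    have h2 : ∀ c : R ⟶ M, (e.hom.app M).hom (((linearCoyoneda A (ModuleCat.{u} A)).map q.op ≫ e.inv).app M c) =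
        q ≫ c := fun c => congr($(e.inv_hom_id_app M).hom (q ≫ c))
    have h3 : q ≫ a = q ≫ b := (h2 a).symm.trans (h1.trans (h2 b))
    have : Epi q := (ModuleCat.epi_iff_surjective _).2 (Submodule.mkQ_surjective _)
    exact (cancel_epi q).1 h3
  · let h : Q ⟶ M := (e.hom.app M).hom x
    have hx : (e.inv.app M).hom h = x := congr($(e.hom_inv_id_app M).hom x)
    have hh : (η'.app M).hom h = (e'.hom.app M).hom ((η.app M).hom x) :=
      congrArg (fun t => (e'.hom.app M).hom ((η.app M).hom t)) hx
    constructor
    · intro h0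
      have h1 : v ≫ h = 0 := by
        rw [← hη M h, hh, h0]
        exact map_zero (e'.hom.app M).hom
      let y : R ⟶ M := ModuleCat.ofHom ((LinearMap.range v.hom).liftQ h.hom (by
        rintro _ ⟨z, rfl⟩
        exact congr($(h1).hom z)))
      refine ⟨y, Eq.trans ?_ hx⟩
      exact congrArg (e.inv.app M).hom (show q ≫ y = h from ModuleCat.hom_ext (LinearMap.ext fun _ => rfl))
    · rintro ⟨y, hy⟩
      have h1 : h = q ≫ y := by
        refine (congrArg (e.hom.app M).hom hy.symm).trans ?_
        exact congr($(e.inv_hom_id_app M).hom (q ≫ y))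
      have h2 : v ≫ q = 0 := ModuleCat.hom_ext (LinearMap.ext fun z =>
        (Submodule.Quotient.mk_eq_zero _).2 ⟨z, rfl⟩)
      have h3 : (e'.hom.app M).hom ((η.app M).hom x) = 0 := by
        rw [← hh, hη, h1, ← Category.assoc, h2, Limits.zero_comp]; rfl
      have h4 := congrArg (e'.inv.app M).hom h3
      refine ((congr($(e'.hom_inv_id_app M).hom ((η.app M).hom x))).symm.trans h4).trans ?_
      exact map_zero (e'.inv.app M).hom

end Groth.Agent.S4498
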