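import Groth.Statements.S4500
import Groth.Agent.LocFreeCorepLib.Main

open CategoryTheory CategoryTheory.Limits AlgebraicGeometry Opposite

set_option autoImplicit false
set_option backward.isDefEq.respectTransparency false
set_option backward.isDefEq.respectTransparency.types false
universe u
attribute [local instance] HasDerivedCategory.standard
open Coherent

namespace Groth.Agent.S4500

open AlgebraicGeometry CategoryTheory CategoryTheory.Limits Opposite in
/-- The global form over an affine base. Let A be a Noetherian ring, X a proper A-scheme with structure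
morphism f, F a coherent O_X-module flat over Spec A, and G an O_X-module admitting a presentation
E₁ → E₀ → G → 0 with E₀, E₁ finite locally free O_X-modules. Then there are a finitely generated
A-module N and an isomorphism of functors of the A-module M between Hom_{O_X}(G, f^*(M~) ⊗ F) and
Hom_A(N, M) (as abelian-group-valued functors). (N is then unique up to unique isomorphism.) -/
theorem result (A : Type u) [CommRing A] [IsNoetherianRing A]
    (X : Scheme.{u}) [X.Over (Spec (CommRingCat.of A))] [IsProper (X ↘ Spec (CommRingCat.of A))]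
    (F : X.Modules) (hF : Coh.IsCoh F) (hfl : FlatMod.IsFlatOver (X ↘ Spec (CommRingCat.of A)) F)
    (G E₀ E₁ : X.Modules) (h₀ : FlatMod.IsFinLocFree E₀) (h₁ : FlatMod.IsFinLocFree E₁)
    (v : E₁ ⟶ E₀) (π : E₀ ⟶ G) [Epi π] (w : v ≫ π = 0) (hex : (ShortComplex.mk v π w).Exact) :
    ∃ N : ModuleCat.{u} A, Module.Finite A N ∧
      Nonempty (CohIII.tensorAFunctor A F ⋙ preadditiveCoyoneda.obj (op G) ≅
        (linearCoyoneda A (ModuleCat.{u} A)).obj (op N) ⋙ forget₂ (ModuleCat.{u} A) AddCommGrpCat.{u}) := by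
  obtain ⟨Q₀, hQ₀, ⟨e₀⟩⟩ := _root_.Groth.Agent.LocFreeCorepLib.exists_corep_hom A F hF hfl h₀
  obtain ⟨Q₁, -, ⟨e₁⟩⟩ := _root_.Groth.Agent.LocFreeCorepLib.exists_corep_hom A F hF hfl h₁
  let T := CohIII.tensorAFunctor A F
  let θ : preadditiveCoyoneda.obj (op Q₀) ⟶ preadditiveCoyoneda.obj (op Q₁) :=
    e₀.inv ≫ Functor.whiskerLeft T (preadditiveCoyoneda.map v.op) ≫ e₁.hom
  let q : Q₁ ⟶ Q₀ := (θ.app Q₀).hom (𝟙 Q₀)
  have hθ : ∀ (M : ModuleCat.{u} A) (h : Q₀ ⟶ M), (θ.app M).hom h = q ≫ h := fun M h => by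
    refine Eq.trans ?_ (congrArg (fun t => t.hom (𝟙 Q₀)) (θ.naturality h))
    exact congrArg (θ.app M).hom (Category.id_comp h).symm
  have key : ∀ (M : ModuleCat.{u} A) (a : E₀ ⟶ T.obj M),
      q ≫ (show Q₀ ⟶ M from (e₀.hom.app M).hom a) = (show Q₁ ⟶ M from (e₁.hom.app M).hom (v ≫ a)) := fun M a => by
    refine (hθ M _).symm.trans ?_
    exact congrArg (fun t : E₀ ⟶ T.obj M => (e₁.hom.app M).hom (v ≫ t))
      (ConcreteCategory.congr_hom (e₀.hom_inv_id_app M) a)
  let N : ModuleCat.{u} A := ModuleCat.of A (Q₀ ⧸ LinearMap.range q.hom)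
  let p : Q₀ ⟶ N := ModuleCat.ofHom (LinearMap.range q.hom).mkQ
  have hp : q ≫ p = 0 := ModuleCat.hom_ext (LinearMap.ext fun z => (Submodule.Quotient.mk_eq_zero _).2 ⟨z, rfl⟩)
  haveI : Epi p := (ModuleCat.epi_iff_surjective _).2 (Submodule.mkQ_surjective _)
  have hG := hex.gIsCokernel
  let toN : ∀ M : ModuleCat.{u} A, (G ⟶ T.obj M) → (N ⟶ M) := fun M φ =>
    ModuleCat.ofHom ((LinearMap.range q.hom).liftQ (show Q₀ ⟶ M from (e₀.hom.app M).hom (π ≫ φ)).hom (by
      rintro _ ⟨z, rfl⟩
      have h1 : q ≫ (show Q₀ ⟶ M from (e₀.hom.app M).hom (π ≫ φ)) = 0 := by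
        rw [key, ← Category.assoc, w, zero_comp]
        exact map_zero (e₁.hom.app M).hom
      exact congr($(h1).hom z)))
  have htoN : ∀ (M : ModuleCat.{u} A) φ, p ≫ toN M φ = (show Q₀ ⟶ M from (e₀.hom.app M).hom (π ≫ φ)) :=
    fun M φ => ModuleCat.hom_ext (LinearMap.ext fun _ => rfl)
  have e₀_inj : ∀ M : ModuleCat.{u} A, Function.Injective (e₀.hom.app M).hom :=
    fun M => Function.LeftInverse.injective (g := (e₀.inv.app M).hom) fun a =>
      ConcreteCategory.congr_hom (e₀.hom_inv_id_app M) a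
  have e₁_inj : ∀ M : ModuleCat.{u} A, Function.Injective (e₁.hom.app M).hom :=
    fun M => Function.LeftInverse.injective (g := (e₁.inv.app M).hom) fun a =>
      ConcreteCategory.congr_hom (e₁.hom_inv_id_app M) a
  have hbij : ∀ M, Function.Bijective (toN M) := fun M => by
    refine ⟨fun a b hab => ?_, fun y => ?_⟩
    · rw [← cancel_epi π]
      apply e₀_inj M
      exact (htoN M a).symm.trans ((congrArg (p ≫ ·) hab).trans (htoN M b))
    · let a : E₀ ⟶ T.obj M := (e₀.inv.app M).hom (show Q₀ ⟶ M from p ≫ y)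
      have ha : (show Q₀ ⟶ M from (e₀.hom.app M).hom a) = p ≫ y :=
        ConcreteCategory.congr_hom (e₀.inv_hom_id_app M) (show Q₀ ⟶ M from p ≫ y)
      have hva : v ≫ a = 0 := by
        apply e₁_inj M
        refine ((key M a).symm.trans ?_).trans (map_zero (e₁.hom.app M).hom).symm
        rw [ha, ← Category.assoc, hp, zero_comp]
      obtain ⟨φ, hφ⟩ := CokernelCofork.IsColimit.desc' hG a hva
      refine ⟨φ, ?_⟩
      rw [← cancel_epi p, htoN]
      exact (congrArg (fun t : E₀ ⟶ T.obj M => (show Q₀ ⟶ M from (e₀.hom.app M).hom t)) hφ).trans ha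
  have hadd : ∀ M a b, toN M (a + b) = toN M a + toN M b := fun M a b => by
    rw [← cancel_epi p, Preadditive.comp_add, htoN, htoN, htoN, Preadditive.comp_add]
    exact map_add (e₀.hom.app M).hom _ _
  refine ⟨N, Module.Finite.quotient A _, ⟨NatIso.ofComponents (fun M =>
    AddEquiv.toAddCommGrpIso (X := (T ⋙ preadditiveCoyoneda.obj (op G)).obj M)
      (Y := ((linearCoyoneda A (ModuleCat.{u} A)).obj (op N) ⋙ forget₂ (ModuleCat.{u} A) AddCommGrpCat.{u}).obj M)
      (AddEquiv.ofBijective (AddMonoidHom.mk' (toN M) (hadd M)) (hbij M))) fun {M M'} g =>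
    AddCommGrpCat.hom_ext (AddMonoidHom.ext fun φ => ?_)⟩⟩
  show toN M' (φ ≫ T.map g) = toN M φ ≫ g
  rw [← cancel_epi p, htoN, ← Category.assoc p, htoN, ← Category.assoc π]
  exact congrArg (fun t => t.hom (π ≫ φ)) (e₀.hom.naturality g)

end Groth.Agent.S4500
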