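import Groth.Statements.S4501
import Groth.Agent.FlatCxLib.Locus

set_option autoImplicit false
universe u
open FlatCx

namespace Groth.Agent.S4501

open CategoryTheory CategoryTheory.Limits in
/-- The case of finitely generated flat terms. Let A be a Noetherian domain, P a chain complex of
finitely generated flat A-modules, and for a prime y of A let P_y be the base change of P to the
local ring A_y. Then the set U of points y of Spec A such that the functor N ↦ H_p(P_y ⊗_{A_y} N) on
A_y-modules takes injections to injections and surjections to surjections is open and nonempty (it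
contains the generic point). -/
theorem result {A : Type u} [CommRing A] [IsNoetherianRing A] [IsDomain A]
    (P : ChainComplex (ModuleCat.{u} A) ℤ) (hP : ∀ i, Module.Finite A (P.X i) ∧ Module.Flat A (P.X i))
    (p : ℤ) :
    IsOpen {y : PrimeSpectrum A |
        (CohIII.TFun (CohIII.bcCx (algebraMap A (Localization.AtPrime y.asIdeal)) P) p).PreservesMonomorphisms ∧
          (CohIII.TFun (CohIII.bcCx (algebraMap A (Localization.AtPrime y.asIdeal)) P) p).PreservesEpimorphisms} ∧
      {y : PrimeSpectrum A |
        (CohIII.TFun (CohIII.bcCx (algebraMap A (Localization.AtPrime y.asIdeal)) P) p).PreservesMonomorphisms ∧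
          (CohIII.TFun (CohIII.bcCx (algebraMap A (Localization.AtPrime y.asIdeal)) P) p).PreservesEpimorphisms}.Nonempty := by
  have := FlatCxLib.finite_W P (hP (p - 1)).1
  have := FlatCxLib.finite_W P (hP p).1
  have := Module.finitePresentation_of_finite A (FlatCxLib.W P (p - 1))
  have := Module.finitePresentation_of_finite A (FlatCxLib.W P p)
  have hset : {y : PrimeSpectrum A |
        (CohIII.TFun (CohIII.bcCx (algebraMap A (Localization.AtPrime y.asIdeal)) P) p).PreservesMonomorphisms ∧
          (CohIII.TFun (CohIII.bcCx (algebraMap A (Localization.AtPrime y.asIdeal)) P) p).PreservesEpimorphisms} =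
      Module.freeLocus A (FlatCxLib.W P p) ∩ Module.freeLocus A (FlatCxLib.W P (p - 1)) := by
    ext y
    exact and_congr
      ((FlatCxLib.preservesMono_iff_flat _ p (FlatCxLib.flat_bcCx P fun i => (hP i).2)).trans
        (FlatCxLib.flat_W_localization_iff P p y))
      ((FlatCxLib.preservesEpi_iff_flat _ p (p - 1) (by omega) (FlatCxLib.flat_bcCx P fun i => (hP i).2)).trans
        (FlatCxLib.flat_W_localization_iff P (p - 1) y))
  rw [hset]
  refine ⟨Module.isOpen_freeLocus.inter Module.isOpen_freeLocus, ⟨⊥, Ideal.isPrime_bot⟩, ?_⟩
  let η : PrimeSpectrum A := ⟨⊥, Ideal.isPrime_bot⟩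
  haveI : IsReduced (Localization.AtPrime η.asIdeal) := inferInstance
  have hfree : ∀ (M : Type u) [AddCommGroup M] [Module A M] [Module.Finite A M], η ∈ Module.freeLocus A M := by
    intro M _ _ _
    rw [Module.mem_freeLocus_iff_tensor η (Localization.AtPrime η.asIdeal)]
    refine FlatCxLib.free_of_fibreRank_eq _ fun y hy => ?_
    have hy0 : ∀ z : PrimeSpectrum (Localization.AtPrime η.asIdeal),
        PrimeSpectrum.comap (algebraMap A _) z = η := fun z => PrimeSpectrum.ext (le_bot_iff.1 (by
      have h1 := Ideal.comap_mono (f := algebraMap A (Localization.AtPrime η.asIdeal))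
        (IsLocalRing.le_maximalIdeal z.2.ne_top)
      rwa [show Ideal.comap (algebraMap A (Localization.AtPrime η.asIdeal)) (IsLocalRing.maximalIdeal _) = η.asIdeal from
        IsLocalization.AtPrime.comap_maximalIdeal (Localization.AtPrime η.asIdeal) η.asIdeal] at h1))
    rw [FlatCxLib.fibreRank_baseChange, FlatCxLib.fibreRank_baseChange, hy0, hy0]
  exact ⟨hfree _, hfree _⟩

end Groth.Agent.S4501
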