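import Groth.Statements.S4505
import Groth.Agent.CohBCLib.Exchange
import Groth.Agent.LenCritLib.Basic

set_option autoImplicit false
universe u
attribute [local instance] HasDerivedCategory.standard
open Coherent

namespace Groth.Agent.S4505

open CategoryTheory TensorProduct in
theorem length_T_add {A : Type u} [CommRing A] [IsLocalRing A] [IsNoetherianRing A]
    (P : ChainComplex (ModuleCat.{u} A) ℤ) (p q : ℤ) (hqp : q + 1 = p) (M : ModuleCat.{u} A)
    (hfin : Module.length A ((P.X p : Type u) ⊗[A] M) ≠ ⊤) :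
    Module.length A (CohIII.T P p M) + Module.length A ((P.X q : Type u) ⊗[A] M) =
      Module.length A (FlatCxLib.W P p ⊗[A] M) + Module.length A (FlatCxLib.W P q ⊗[A] M) := by
  subst hqp
  rw [← (FlatCxLib.homologyEquiv (CohIII.tensorObj P M) (q + 1) q (by simp) (q + 1 + 1) (by simp)).length_eq]
  exact LenCritLib.length_homology_add (P.d (q + 1 + 1) (q + 1)).hom (P.d (q + 1) q).hom
    (FlatCxLib.d_comp_d_hom P _ _ _) hfin

open TensorProduct LenCritLib in
theorem free_iff {A : Type u} [CommRing A] [IsLocalRing A] [IsNoetherianRing A]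
    (W₁ W₀ : Type u) [AddCommGroup W₁] [Module A W₁] [Module.Finite A W₁] [AddCommGroup W₀] [Module A W₀]
    [Module.Finite A W₀] (T : ℕ → ℕ∞) (r : ℕ∞) (z : ℕ)
    (hk : r + z = gens A W₁ + gens A W₀)
    (hn : ∀ n, T n + z * Module.length A (An A n) =
      Module.length A (W₁ ⊗[A] An A n) + Module.length A (W₀ ⊗[A] An A n)) :
    (Module.Flat A W₁ ∧ Module.Flat A W₀) ↔ ∃ n₀, ∀ n, n₀ ≤ n → T n = r * Module.length A (An A n) := by
  have hr : r ≠ ⊤ := fun h => by rw [h, top_add] at hk; exact (WithTop.add_ne_top.2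
    ⟨ENat.natCast_ne_top _, ENat.natCast_ne_top _⟩) hk.symm
  obtain ⟨r, rfl⟩ := ENat.ne_top_iff_exists.1 hr
  have hk' : r + z = gens A W₁ + gens A W₀ := by exact_mod_cast hk
  constructor
  · rintro ⟨h1, h0⟩
    haveI := Module.free_of_flat_of_isLocalRing (R := A) (P := W₁)
    haveI := Module.free_of_flat_of_isLocalRing (R := A) (P := W₀)
    refine ⟨0, fun n _ => ?_⟩
    have h := hn n
    rw [length_tensor_eq_of_free, length_tensor_eq_of_free] at h
    obtain ⟨l, hl⟩ := ENat.ne_top_iff_exists.1 (length_An_ne_top (A := A) n)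
    rw [← hl] at h ⊢
    have hT : T n ≠ ⊤ := fun ht => by
      rw [ht, top_add] at h
      exact (WithTop.add_ne_top.2 ⟨by exact_mod_cast ENat.natCast_ne_top (gens A W₁ * l),
        by exact_mod_cast ENat.natCast_ne_top (gens A W₀ * l)⟩) h.symm
    obtain ⟨t, ht⟩ := ENat.ne_top_iff_exists.1 hT
    rw [← ht] at h ⊢
    norm_cast at h ⊢
    rw [← add_mul, ← hk', add_mul] at h
    omega
  · rintro ⟨n₀, hT⟩
    suffices key : ∀ n, n₀ ≤ n → Module.length A (W₁ ⊗[A] An A n) = gens A W₁ * Module.length A (An A n) ∧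
        Module.length A (W₀ ⊗[A] An A n) = gens A W₀ * Module.length A (An A n) by
      haveI := free_of_length_eq (A := A) W₁ n₀ fun n h => (key n h).1
      haveI := free_of_length_eq (A := A) W₀ n₀ fun n h => (key n h).2
      exact ⟨inferInstance, inferInstance⟩
    intro n hn₀
    have h := hn n
    have h1 := length_tensor_le (A := A) W₁ n
    have h0 := length_tensor_le (A := A) W₀ n
    rw [hT n hn₀] at h
    obtain ⟨l, hl⟩ := ENat.ne_top_iff_exists.1 (length_An_ne_top (A := A) n)
    rw [← hl] at h h1 h0 ⊢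
    obtain ⟨a, ha⟩ := ENat.ne_top_iff_exists.1 (ne_top_of_le_ne_top
      (by exact_mod_cast ENat.natCast_ne_top (gens A W₁ * l)) h1)
    obtain ⟨b, hb⟩ := ENat.ne_top_iff_exists.1 (ne_top_of_le_ne_top
      (by exact_mod_cast ENat.natCast_ne_top (gens A W₀ * l)) h0)
    rw [← ha, ← hb] at h
    rw [← ha] at h1 ⊢
    rw [← hb] at h0 ⊢
    norm_cast at h h1 h0 ⊢
    rw [← add_mul, hk', add_mul] at h
    omega

open AlgebraicGeometry CategoryTheory in
/-- (b) ⇔ (c), for a complex reduced to one sheaf and a local base (so that the point y is the closed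
point and O_y = A). Let A be a Noetherian local ring with maximal ideal m and residue field k, X a
proper A-scheme with structure morphism f, F a coherent O_X-module flat over Spec A, and write
T^p(M) = H^p(X, f^*(M~) ⊗ F) for an A-module M. Then the functor T^p takes injections to injections
and surjections to surjections (F is cohomologically flat in degree p) if and only if there is n₀
such that for every n ≥ n₀ one has length_A T^p(A/m^(n+1)) = length_A T^p(k) · length_A (A/m^(n+1))
(lengths of A-modules, valued in ℕ∞; all are finite here). -/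
theorem result (A : Type u) [CommRing A]
    [IsNoetherianRing A] [IsLocalRing A] (X : Scheme.{u}) [X.Over (Spec (CommRingCat.of A))]
    [IsProper (X ↘ Spec (CommRingCat.of A))] (F : X.Modules) (hF : Coh.IsCoh F)
    (hfl : FlatMod.IsFlatOver (X ↘ Spec (CommRingCat.of A)) F) (p : ℕ) :
    ((CohIII.tensorAFunctor A F ⋙ CohIII.HAb X p).PreservesMonomorphisms ∧
        (CohIII.tensorAFunctor A F ⋙ CohIII.HAb X p).PreservesEpimorphisms) ↔
      ∃ n₀ : ℕ, ∀ n : ℕ, n₀ ≤ n →
        Module.length A (Coh.HH X ((CohIII.tensorAFunctor A F).obj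
            (ModuleCat.of A (A ⧸ IsLocalRing.maximalIdeal A ^ (n + 1)))) p) =
          Module.length A (Coh.HH X ((CohIII.tensorAFunctor A F).obj
              (ModuleCat.of A (IsLocalRing.ResidueField A))) p) *
            Module.length A (A ⧸ IsLocalRing.maximalIdeal A ^ (n + 1)) := by
  obtain ⟨U⟩ := CohBCLib.exists_univ (X ↘ Spec (CommRingCat.of A)) F hF hfl
  haveI : ∀ i, Module.Finite A (U.P.X i) := fun i => (U.fin i).1
  haveI : ∀ i, Module.Free A (U.P.X i) := fun i => (U.fin i).2
  rw [CohBCLib.preservesMono_iff U p, CohBCLib.preservesEpi_iff U p]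
  have hlen : ∀ M : ModuleCat.{u} A, Module.length A (Coh.HH X ((CohIII.tensorAFunctor A F).obj M) p) =
      Module.length A (CohIII.T U.P (-(p : ℤ)) M) := fun M => ((U.iso p).app M).toLinearEquiv.length_eq.symm
  simp only [hlen]
  refine free_iff (FlatCxLib.W U.P (-(p : ℤ))) (FlatCxLib.W U.P (-(p : ℤ) - 1))
    (fun n => Module.length A (CohIII.T U.P (-(p : ℤ)) (ModuleCat.of A (A ⧸ IsLocalRing.maximalIdeal A ^ (n + 1)))))
    _ (LenCritLib.gens A (U.P.X (-(p : ℤ) - 1))) ?_ fun n => ?_
  · have h := length_T_add U.P (-(p : ℤ)) (-(p : ℤ) - 1) (by omega)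
      (ModuleCat.of A (IsLocalRing.ResidueField A)) (by
        rw [LenCritLib.length_tensor_residue]
        exact ENat.natCast_ne_top _)
    rw [LenCritLib.length_tensor_residue, LenCritLib.length_tensor_residue,
      LenCritLib.length_tensor_residue] at h
    exact h
  · have h := length_T_add U.P (-(p : ℤ)) (-(p : ℤ) - 1) (by omega)
      (ModuleCat.of A (A ⧸ IsLocalRing.maximalIdeal A ^ (n + 1))) (by
        rw [LenCritLib.length_tensor_eq_of_free]
        obtain ⟨l, hl⟩ := ENat.ne_top_iff_exists.1 (LenCritLib.length_An_ne_top (A := A) n)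
        rw [← hl]
        exact_mod_cast ENat.natCast_ne_top (LenCritLib.gens A (U.P.X (-(p : ℤ))) * l))
    rw [LenCritLib.length_tensor_eq_of_free (U.P.X (-(p : ℤ) - 1))] at h
    exact h

end Groth.Agent.S4505
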