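import Groth.Statements.S4508
import Groth.Agent.CurvLib.Euler
import Groth.Agent.RpushLib.AffBaseBC
import Groth.Agent.MiscFlat6.QuasiFlat

set_option autoImplicit false
set_option backward.isDefEq.respectTransparency false
set_option backward.isDefEq.respectTransparency.types false
set_option maxHeartbeats 1000000
universe u
open Coherent

namespace Groth.Agent.S4508

open CategoryTheory CategoryTheory.Limits AlgebraicGeometry
section Helpers

theorem betti_bc {C C' S S' : Scheme.{u}} {f : C ⟶ S} [IsProper f] {f' : C' ⟶ S'} {g' : C' ⟶ C} {g : S' ⟶ S}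
    (H : IsPullback g' f' f g) (L : C.Modules) [Coh.IsQCoh L] (y' : S') (i : ℕ) :
    PerfAux.betti f' ((Scheme.Modules.pullback g').obj L) y' i = PerfAux.betti f L (g y') i := by
  let k : Type u := S.residueField (g y')
  let K : Type u := S'.residueField y'
  letI : Algebra k K := (g.residueFieldMap y').hom.toAlgebra
  let Z := f.fiber (g y')
  let Z' := f'.fiber y'
  letI : Z.Over (Spec (CommRingCat.of k)) := ⟨f.fiberToSpecResidueField (g y')⟩
  letI : Z'.Over (Spec (CommRingCat.of K)) := ⟨f'.fiberToSpecResidueField y'⟩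
  haveI : IsProper (Z ↘ Spec (CommRingCat.of k)) := MorphismProperty.pullback_snd f _ inferInstance
  haveI := CurvLib.isNoetherian k (X := Z)
  let M := (Scheme.Modules.pullback (f.fiberι (g y'))).obj L
  haveI : Coh.IsQCoh M := KFlatLib.isQCoh_pullback _ L
  let m : Z' ⟶ Z := pullback.map _ _ _ _ g' (Spec.map (g.residueFieldMap y')) g H.w.symm (by simp)
  obtain ⟨e⟩ := RpushLib.nonempty_affBase_bc (A := k) (B := K) (g' := m)
    (f' := Z' ↘ Spec (CommRingCat.of K)) (f := Z ↘ Spec (CommRingCat.of k))
    (isPullback_fiberToSpecResidueField_of_isPullback H y') M i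
  have hm : m ≫ f.fiberι (g y') = f'.fiberι y' ≫ g' := pullback.lift_fst _ _ _
  let e' : (Scheme.Modules.pullback (f'.fiberι y')).obj ((Scheme.Modules.pullback g').obj L) ≅ (Scheme.Modules.pullback m).obj M :=
    (Scheme.Modules.pullbackComp _ _).app L ≪≫ (Scheme.Modules.pullbackCongr hm.symm).app L ≪≫
      ((Scheme.Modules.pullbackComp _ _).app L).symm
  calc PerfAux.betti f' ((Scheme.Modules.pullback g').obj L) y' i
      = Module.finrank K (Coh.HH Z' ((Scheme.Modules.pullback m).obj M) i) :=
        (CurvLib.hIso (k := K) e' i).finrank_eq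
    _ = Module.finrank k (Coh.HH Z M i) :=
        e.finrank_eq.symm.trans (Module.finrank_baseChange (R := K) (S := k) (M' := Coh.HH Z M i))

end Helpers

open AlgebraicGeometry CategoryTheory CategoryTheory.Limits in
/-- For a single sheaf placed in degree 0 (the published statement is for a finite complex of such
sheaves). Let Y and Y' be locally Noetherian schemes, f : X ⟶ Y proper, g : Y' ⟶ Y any morphism, F a
coherent O_X-module flat over Y; let X' = X ×_Y Y' with projections f' : X' ⟶ Y' and X' ⟶ X, and F'
the pullback of F to X'. Then F' is flat over Y', and for every point y' of Y' the Euler–Poincaré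
characteristic of the fibre, Σ_i (−1)^i dim_{k(y')} H^i(X'_{y'}, F'_{y'}), equals Σ_i (−1)^i
dim_{k(g(y'))} H^i(X_{g(y')}, F_{g(y')}). -/
theorem result {X Y Y' : Scheme.{u}} (f : X ⟶ Y) (g : Y' ⟶ Y) [IsProper f]
    [IsLocallyNoetherian Y] [IsLocallyNoetherian Y'] (F : X.Modules) (hF : Coh.IsCoh F)
    (hfl : FlatMod.IsFlatOver f F) :
    FlatMod.IsFlatOver (pullback.snd f g) ((Scheme.Modules.pullback (pullback.fst f g)).obj F) ∧
      ∀ y' : Y', PerfAux.eulerChar (pullback.snd f g) ((Scheme.Modules.pullback (pullback.fst f g)).obj F) y' =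
        PerfAux.eulerChar f F (g.base y') := by
  have : Coh.IsQCoh F := hF.1
  refine ⟨MiscFlat6.QFlat.isFlatOver_pullback f F hfl g, fun y' => finsum_congr fun i => ?_⟩
  exact congrArg (fun n : ℕ => (-1 : ℤ) ^ i * (n : ℤ))
    (betti_bc (IsPullback.of_hasPullback f g) F y' i)

end Groth.Agent.S4508
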