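import Groth.Statements.S4510
import Mathlib
import Groth.Agent.CohFlatEtLib.Etale
import Groth.Agent.S2447
import Groth.Agent.DepthLib.SkOpen
-- import your own Groth.Agent.* helpers here

set_option autoImplicit false
universe u
attribute [local instance] HasDerivedCategory.standard
open Coherent

namespace Groth.Agent.S4510

open AlgebraicGeometry CategoryTheory CategoryTheory.Limits in
/-- Over a local base (so that the point y is the closed point and cohomological flatness at y is
exactness of T^A_0). Let A be a Noetherian local ring with maximal ideal m, X a proper and flat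
A-scheme with structure morphism f, y the closed point of Spec A (the point whose prime ideal is m),
and suppose that the ring of global functions Γ(X_y, O_{X_y}) of the closed fibre is an étale
k(y)-algebra (a finite product of finite separable extensions of k(y)). Then O_X is cohomologically
flat over Spec A in degree 0: the functor M ↦ H^0(X, f^*(M~) ⊗ O_X) of the A-module M takes
injections to injections and surjections to surjections. -/
theorem result (A : Type u) [CommRing A]
    [IsNoetherianRing A] [IsLocalRing A] (X : Scheme.{u}) [X.Over (Spec (CommRingCat.of A))]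
    [IsProper (X ↘ Spec (CommRingCat.of A))] [Flat (X ↘ Spec (CommRingCat.of A))]
    (y : ↥(Spec (CommRingCat.of A))) (hy : y.asIdeal = IsLocalRing.maximalIdeal A)
    (het : Algebra.Etale ((Spec (CommRingCat.of A)).residueField y)
      Γ((X ↘ Spec (CommRingCat.of A)).fiber y, ⊤)) :
    (CohIII.tensorAFunctor A (Coh.structureModule X) ⋙ CohIII.HAb X 0).PreservesMonomorphisms ∧
      (CohIII.tensorAFunctor A (Coh.structureModule X) ⋙ CohIII.HAb X 0).PreservesEpimorphisms := by
  obtain ⟨U⟩ := CohBCLib.exists_univ (X ↘ Spec (CommRingCat.of A)) (Coh.structureModule X)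
    (DevissLib.isCoh_structureModule X) (fun x => (DepthLib.isFlatOverAt_structureModule_iff _ x).2 (Flat.stalkMap _ x))
  refine ⟨(CohBCLib.preservesMono_iff U 0).2 (CohBCLib.flat_W_zero U), ?_⟩
  refine (Groth.Agent.S2447.result A X (Coh.structureModule X) (DevissLib.isCoh_structureModule X)
    (fun x => (DepthLib.isFlatOverAt_structureModule_iff _ x).2 (Flat.stalkMap _ x)) 0).2 ?_
  haveI : y.asIdeal.IsMaximal := hy ▸ IsLocalRing.maximalIdeal.isMaximal A
  let e₁ : IsLocalRing.ResidueField A ≃+* y.asIdeal.ResidueField :=
    (Ideal.quotEquivOfEq hy.symm).trans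
      (RingEquiv.ofBijective (algebraMap (A ⧸ y.asIdeal) y.asIdeal.ResidueField)
        (Ideal.bijective_algebraMap_quotient_residueField y.asIdeal))
  let j : CommRingCat.of (IsLocalRing.ResidueField A) ≅ (Spec (CommRingCat.of A)).residueField y :=
    e₁.toCommRingCatIso ≪≫ (Scheme.Spec.residueFieldIso (CommRingCat.of A) y).symm
  refine CohFlatEtLib.surjective_map_residue_of_etale j
    (g' := (X ↘ Spec (CommRingCat.of A)).fiberι y)
    (f₀ := (X ↘ Spec (CommRingCat.of A)).fiberToSpecResidueField y) ?_ (fun c => rfl) het
  have hs : Spec.map (CommRingCat.ofHom (algebraMap A (IsLocalRing.ResidueField A)) ≫ j.hom) =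
      (Spec (CommRingCat.of A)).fromSpecResidueField y := by
    rw [← Scheme.Spec.map_residueFieldIso_inv_eq_fromSpecResidueField, ← Spec.map_comp]
    refine congrArg Spec.map ?_
    refine (Category.assoc _ _ _).symm.trans ?_
    refine congrArg (· ≫ _) (CommRingCat.hom_ext (RingHom.ext fun a => ?_))
    show algebraMap (A ⧸ y.asIdeal) y.asIdeal.ResidueField (Ideal.Quotient.mk y.asIdeal a) = _
    rfl
  rw [hs]
  exact IsPullback.of_hasPullback _ _

end Groth.Agent.S4510
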