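import Groth.Statements.S4511
import Groth.Agent.CohenLib.Structure

set_option autoImplicit false
universe u
open EGA41

namespace Groth.Agent.S4511
open IsLocalRing in
theorem exists_minimal_presentation {K A : Type u} [Field K] [CommRing A] [IsLocalRing A] [IsNoetherianRing A]
    [IsAdicComplete (maximalIdeal A) A] (g : K →+* A) (hg : Function.Surjective ((residue A).comp g)) :
    ∃ (K : Type u) (_ : Field K) (n : ℕ) (f : MvPowerSeries (Fin n) K →+* A),
      Function.Surjective f ∧ RingHom.ker f ≤ maximalIdeal (MvPowerSeries (Fin n) K) ^ 2 := by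
  classical
  have hfg := (maximalIdeal A).fg_of_isNoetherianRing
  obtain ⟨t, ht, htm⟩ := Submodule.FG.exists_span_finset_card_eq_spanFinrank hfg
  let n := t.card
  let x : Fin n → A := fun i => (t.equivFin.symm i : A)
  have hxinj : Function.Injective x := fun i j h => t.equivFin.symm.injective (Subtype.ext h)
  have hx : Ideal.span (Set.range x) = maximalIdeal A := by
    rw [← htm]
    refine congrArg _ (Set.ext fun a => ⟨?_, fun ha => ⟨t.equivFin ⟨a, ha⟩, by simp [x]⟩⟩)
    rintro ⟨i, rfl⟩
    exact (t.equivFin.symm i).2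
  have hxm : ∀ i, x i ∈ maximalIdeal A := fun i => hx ▸ Ideal.subset_span ⟨i, rfl⟩
  let P := MvPowerSeries (Fin n) K
  let f : P →+* A := CohenLib.psHom (maximalIdeal A) g x hxm
  have hvars : CohenLib.varsIdeal K n = maximalIdeal P := by
    rw [← CohenLib.ker_constantCoeff]
    ext h
    rw [RingHom.mem_ker, mem_maximalIdeal, mem_nonunits_iff, MvPowerSeries.isUnit_iff_constantCoeff, isUnit_iff_ne_zero, not_not]
  haveI : IsAdicComplete ((⊥ : Ideal K).map (MvPowerSeries.C (σ := Fin n)) ⊔ CohenLib.varsIdeal K n) P := by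
    haveI : IsAdicComplete (⊥ : Ideal K) K := CohenLib.isAdicComplete_of_isNilpotent ⊥ ⟨1, pow_one _⟩
    exact CohenLib.isAdicComplete_sup_varsIdeal K ⊥
  refine ⟨K, inferInstance, n, f, CohenLib.surjective_of_complete (maximalIdeal A) ((⊥ : Ideal K).map (MvPowerSeries.C (σ := Fin n)) ⊔ CohenLib.varsIdeal K n) _ ?_ (fun r => ?_), fun h hh => ?_⟩
  · rw [Ideal.map_bot, bot_sup_eq, CohenLib.varsIdeal, Ideal.map_span, ← Set.range_comp, ← hx]
    exact congrArg (fun s => Ideal.span (Set.range s)) (funext fun i => CohenLib.psHom_X _ _ _ hxm i)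
  · obtain ⟨c, hc⟩ := hg (residue A r)
    refine ⟨MvPowerSeries.C c, ?_⟩
    rw [CohenLib.psHom_C, ← residue_eq_zero_iff, map_sub, ← hc, RingHom.comp_apply, sub_self]
  · have h0 : f h = 0 := hh
    have hm : h ∈ CohenLib.varsIdeal K n := by
      rw [hvars, mem_maximalIdeal]
      exact fun hu => not_isUnit_zero (h0 ▸ hu.map f)
    rw [CohenLib.varsIdeal, Ideal.mem_span_range_iff_exists_fun] at hm
    obtain ⟨c, rfl⟩ := hm
    rw [pow_two]
    refine Ideal.sum_mem _ fun i _ => Ideal.mul_mem_mul ?_ (hvars ▸ Ideal.subset_span ⟨i, rfl⟩)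
    rw [mem_maximalIdeal]
    intro hu
    have hsum : ∑ j, f (c j) * x j = 0 := by
      rw [← h0, map_sum]
      exact Finset.sum_congr rfl fun j _ => by rw [map_mul]; congr 1; exact (CohenLib.psHom_X _ _ _ hxm j).symm
    have hxi : x i ∈ Ideal.span (↑((Finset.univ.erase i).image x) : Set A) := by
      refine ((Ideal.unit_mul_mem_iff_mem _ (hu.map f))).1 ?_
      rw [← Finset.add_sum_erase _ _ (Finset.mem_univ i), add_eq_zero_iff_eq_neg] at hsum
      rw [hsum]
      exact neg_mem (Ideal.sum_mem _ fun j hj => Ideal.mul_mem_left _ _ (Ideal.subset_span (Finset.mem_image_of_mem x hj)))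
    have hspan : Ideal.span (↑((Finset.univ.erase i).image x) : Set A) = maximalIdeal A := by
      refine le_antisymm (Ideal.span_le.2 fun a ha => ?_) (hx ▸ Ideal.span_le.2 ?_)
      · obtain ⟨j, -, rfl⟩ := Finset.mem_image.1 ha
        exact hxm j
      · rintro _ ⟨j, rfl⟩
        by_cases hj : j = i
        · exact hj ▸ hxi
        · exact Ideal.subset_span (Finset.mem_image_of_mem x (Finset.mem_erase.2 ⟨hj, Finset.mem_univ _⟩))
    have hle := Submodule.spanFinrank_span_le_ncard_of_finite (R := A) (((Finset.univ.erase i).image x).finite_toSet)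
    rw [Ideal.submodule_span_eq, hspan, Set.ncard_coe_finset, Finset.card_image_of_injective _ hxinj,
      Finset.card_erase_of_mem (Finset.mem_univ i), Finset.card_univ, Fintype.card_fin] at hle
    have hpos : 0 < n := i.pos
    have : n ≤ n - 1 := ht.le.trans hle
    omega

open IsLocalRing in
/-- Let A be a complete Noetherian local ring whose residue field has characteristic p (p = 0 allowed).
The following are equivalent: (a) A contains a field, i.e. there is a ring homomorphism from a field
into A; (b) p·1 = 0 in A; (c) A is isomorphic to a quotient of a power series ring K[[T_1, …, T_n]]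
over a field K. Moreover, when they hold, the surjection in (c) may be chosen with kernel contained
in the square of the maximal ideal of K[[T_1, …, T_n]]. -/
theorem result (A : Type u) [CommRing A] [IsLocalRing A] [IsNoetherianRing A]
    [IsAdicComplete (maximalIdeal A) A] (p : ℕ) [CharP (ResidueField A) p] :
    [∃ (K : Type u) (_ : Field K), Nonempty (K →+* A),
     (p : A) = 0,
     ∃ (K : Type u) (_ : Field K) (n : ℕ) (f : MvPowerSeries (Fin n) K →+* A), Function.Surjective f].TFAE ∧
    ((p : A) = 0 → ∃ (K : Type u) (_ : Field K) (n : ℕ) (f : MvPowerSeries (Fin n) K →+* A),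
      Function.Surjective f ∧ RingHom.ker f ≤ maximalIdeal (MvPowerSeries (Fin n) K) ^ 2) := by
  classical
  have hmain : (p : A) = 0 → ∃ (K : Type u) (_ : Field K) (n : ℕ) (f : MvPowerSeries (Fin n) K →+* A),
      Function.Surjective f ∧ RingHom.ker f ≤ maximalIdeal (MvPowerSeries (Fin n) K) ^ 2 := by
    intro hp
    obtain ⟨Λ, _, _, g, hg, hcase, -, -, -⟩ := CohenLib.exists_coefficient_ring' A
    have hF : IsField Λ := by
      rcases hcase with hF | ⟨-, q, hq, -, hq0, hqm⟩
      · exact hF
      · exfalso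
        have h1 : ((q : ℕ) : ResidueField A) = 0 := by rw [← map_natCast (residue A), residue_eq_zero_iff]; exact hqm
        rcases (Nat.dvd_prime hq).1 ((CharP.cast_eq_zero_iff (ResidueField A) p q).1 h1) with h | h
        · exact CharP.char_ne_one (ResidueField A) p h
        · exact hq0 (h ▸ hp)
    letI := hF.toField
    exact exists_minimal_presentation g hg
  refine ⟨?_, hmain⟩
  tfae_have 1 → 2
  | ⟨K, _, ⟨g⟩⟩ => by
    haveI : CharP K p := (RingHom.charP_iff_charP ((residue A).comp g) p).2 inferInstance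
    rw [← map_natCast g, CharP.cast_eq_zero, map_zero]
  tfae_have 2 → 3 := fun h => by
    obtain ⟨K, hK, n, f, hf, -⟩ := hmain h
    exact ⟨K, hK, n, f, hf⟩
  tfae_have 3 → 1
  | ⟨K, hK, n, f, _⟩ => ⟨K, hK, ⟨f.comp MvPowerSeries.C⟩⟩
  tfae_finish

end Groth.Agent.S4511
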