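import Groth.Statements.S4514
import Groth.Agent.AdicFSLib.Lift
import Groth.Agent.S9444
import Groth.Agent.GeomRedFibLib.CplMap
import Groth.Agent.GeomRedFibLib.CplFibres
import Mathlib.RingTheory.AdicCompletion.AsTensorProduct

set_option autoImplicit false
set_option linter.style.haveILetI false
universe u
open EGA41

namespace Groth.Agent.S4514

open IsLocalRing TensorProduct in
/-- Let A be a Noetherian local ring with residue field k, and let B₀ be a k-algebra which is a complete
regular local ring. Then there exist a complete Noetherian local ring B and a local homomorphism A →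
B making B a flat A-module, such that B₀ is k-isomorphic to k ⊗_A B = B/𝔪B. -/
theorem result {A : Type u} [CommRing A] [IsLocalRing A] [IsNoetherianRing A]
    (B₀ : Type u) [CommRing B₀] [IsRegularLocalRing B₀] [IsAdicComplete (maximalIdeal B₀) B₀]
    [Algebra (ResidueField A) B₀] :
    ∃ (B : Type u) (_ : CommRing B) (_ : IsLocalRing B) (_ : IsNoetherianRing B) (_ : Algebra A B)
      (_ : IsLocalHom (algebraMap A B)),
      IsAdicComplete (maximalIdeal B) B ∧ Module.Flat A B ∧
        Nonempty (ResidueField A ⊗[A] B ≃ₐ[ResidueField A] B₀) := by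
  classical
  obtain ⟨d, ⟨e⟩⟩ := Groth.Agent.S9444.result B₀ (ResidueField A)
  let Ah := GeomRedFibLib.Hat A
  haveI : IsNoetherianRing Ah := GeomRedFibLib.isNoetherianRing_cpl A
  let ρ : Ah →+* ResidueField A := (AdicCompletion.evalOneₐ (maximalIdeal A)).toRingHom
  have hρA : ∀ a, ρ (algebraMap A Ah a) = residue A a := fun a => (AdicCompletion.evalOneₐ (maximalIdeal A)).commutes a
  have hρsurj : Function.Surjective ρ := fun x => by
    obtain ⟨a, rfl⟩ := residue_surjective x
    exact ⟨algebraMap A Ah a, hρA a⟩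
  have hker : RingHom.ker ρ = maximalIdeal Ah := IsLocalRing.eq_maximalIdeal (RingHom.ker_isMaximal_of_surjective ρ hρsurj)
  have hkerm : RingHom.ker ρ = (maximalIdeal A).map (algebraMap A Ah) :=
    AdicCompletion.ker_evalOneₐ_eq_map (maximalIdeal A) (IsNoetherian.noetherian _)
  let θ : Ah →+* MvPowerSeries (Fin d) (ResidueField B₀) :=
    (e.toRingHom.comp (algebraMap (ResidueField A) B₀)).comp ρ
  obtain ⟨C, _, _, _, g, hN, hc, hflat, hloc, hg, hgθ, hkg⟩ := AdicFSLib.exists_flat_lift θ fun a ha => by
    show e (algebraMap _ B₀ (ρ a)) = 0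
    rw [RingHom.mem_ker.1 (hker.ge ha), map_zero, map_zero]
  haveI := hN
  letI : Algebra A C := ((algebraMap Ah C).comp (algebraMap A Ah)).toAlgebra
  haveI : IsScalarTower A Ah C := IsScalarTower.of_algebraMap_eq fun _ => rfl
  haveI hA : IsLocalHom (algebraMap A C) := ⟨fun a ha => by
    by_contra hna
    have h1 : algebraMap A Ah a ∈ maximalIdeal Ah := by
      rw [← hker, hkerm]
      exact Ideal.mem_map_of_mem _ hna
    exact h1 (hloc.map_nonunit _ ha)⟩
  haveI : Module.Flat A Ah := AdicCompletion.flat_of_isNoetherian _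
  haveI : Module.Flat A C := Module.Flat.trans A Ah C
  refine ⟨C, inferInstance, inferInstance, hN, inferInstance, hA, hc, inferInstance, ?_⟩
  letI : Algebra A B₀ := ((algebraMap (ResidueField A) B₀).comp (residue A)).toAlgebra
  haveI : IsScalarTower A (ResidueField A) B₀ := IsScalarTower.of_algebraMap_eq fun _ => rfl
  let g' : C →ₐ[A] B₀ :=
    { e.symm.toRingHom.comp g with
      commutes' := fun a => by
        show e.symm (g (algebraMap Ah C (algebraMap A Ah a))) = algebraMap _ B₀ (residue A a)
        rw [← hρA, ← RingHom.comp_apply, hgθ]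
        exact e.symm_apply_apply _ }
  let Φ := Algebra.TensorProduct.lift (Algebra.ofId (ResidueField A) B₀) g' fun _ _ => Commute.all _ _
  have hone : ∀ z : ResidueField A ⊗[A] C, ∃ c, z = 1 ⊗ₜ c := by
    intro z
    induction z using TensorProduct.induction_on with
    | zero => exact ⟨0, (TensorProduct.tmul_zero _ _).symm⟩
    | tmul x c =>
      obtain ⟨a, rfl⟩ := residue_surjective x
      refine ⟨a • c, ?_⟩
      rw [← TensorProduct.smul_tmul, ← Algebra.algebraMap_eq_smul_one]
      rfl
    | add x y hx hy =>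
      obtain ⟨a, rfl⟩ := hx
      obtain ⟨b, rfl⟩ := hy
      exact ⟨a + b, (TensorProduct.tmul_add _ _ _).symm⟩
  have hΦ : ∀ c, Φ (1 ⊗ₜ c) = g' c := fun c => by
    rw [Algebra.TensorProduct.lift_tmul, map_one, one_mul]
  refine ⟨AlgEquiv.ofBijective Φ ⟨(injective_iff_map_eq_zero Φ).2 fun z hz => ?_, fun y => ?_⟩⟩
  · obtain ⟨c, rfl⟩ := hone z
    rw [hΦ] at hz
    have h1 : c ∈ (maximalIdeal A).map (algebraMap A C) := by
      have h2 : c ∈ RingHom.ker g := RingHom.mem_ker.2 (e.symm.injective (hz.trans (map_zero e.symm).symm))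
      rw [hkg, ← hker, hkerm, Ideal.map_map] at h2
      exact h2
    have hle : (maximalIdeal A).map (algebraMap A C) ≤
        RingHom.ker (Algebra.TensorProduct.includeRight (R := A) (A := ResidueField A) (B := C)).toRingHom :=
      Ideal.map_le_iff_le_comap.2 fun a ha => by
        rw [Ideal.mem_comap, RingHom.mem_ker]
        show (1 : ResidueField A) ⊗ₜ[A] algebraMap A C a = 0
        rw [Algebra.algebraMap_eq_smul_one, ← TensorProduct.smul_tmul, ← Algebra.algebraMap_eq_smul_one,
          show algebraMap A (ResidueField A) a = 0 from (residue_eq_zero_iff a).2 ha, TensorProduct.zero_tmul]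
    have h3 := hle h1
    rw [RingHom.mem_ker] at h3
    exact h3
  · obtain ⟨c, hc⟩ := hg (e y)
    refine ⟨1 ⊗ₜ c, ?_⟩
    rw [hΦ]
    show e.symm (g c) = y
    rw [hc, e.symm_apply_apply]

end Groth.Agent.S4514
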