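import Groth.Statements.S4516
import Mathlib

set_option autoImplicit false
universe u
open EGA41

namespace Groth.Agent.S4516

/-- Let p be a prime, B an A-algebra of characteristic p and A' an A-subalgebra of B contained in
A[B^p]. Then the canonical map between Ω_{B/A} and Ω_{B/A'} is bijective (every A-derivation of B
vanishes on A[B^p]). -/
theorem result (p : ℕ) [Fact p.Prime] {A B : Type u}
    [CommRing A] [CommRing B] [Algebra A B] [CharP B p] (A' : Subalgebra A B)
    (hA' : A' ≤ EGA41.pPowerSubalgebra p A B) :
    Function.Bijective (KaehlerDifferential.map A A' B B) := by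
  have hsurj : Function.Surjective (KaehlerDifferential.map A A' B B) :=
    KaehlerDifferential.map_surjective A A' B
  refine ⟨(injective_iff_map_eq_zero _).2 fun z hz => ?_, hsurj⟩
  have h1 := (KaehlerDifferential.exact_mapBaseChange_map A A' B z).1 hz
  obtain ⟨w, rfl⟩ := h1
  suffices h : (KaehlerDifferential.mapBaseChange A A' B) = 0 by rw [h]; rfl
  have hD : ∀ b ∈ EGA41.pPowerSubalgebra p A B, KaehlerDifferential.D A B b = 0 := by
    intro b hb
    induction hb using Algebra.adjoin_induction with
    | mem x hx =>
      obtain ⟨y, rfl⟩ := hx
      show KaehlerDifferential.D A B (y ^ p) = 0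
      rw [Derivation.leibniz_pow, ← Nat.cast_smul_eq_nsmul B, CharP.cast_eq_zero, zero_smul]
    | algebraMap r => exact Derivation.map_algebraMap _ r
    | add x y _ _ hx hy => rw [map_add, hx, hy, add_zero]
    | mul x y _ _ hx hy => rw [Derivation.leibniz, hx, hy, smul_zero, smul_zero, add_zero]
  refine LinearMap.ext fun w => ?_
  induction w using TensorProduct.induction_on with
  | zero => simp
  | add a b ha hb => simp only [map_add, ha, hb, LinearMap.zero_apply, add_zero]
  | tmul b ω =>
    rw [KaehlerDifferential.mapBaseChange_tmul, LinearMap.zero_apply]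
    suffices h : KaehlerDifferential.map A A A' B ω = 0 by rw [h, smul_zero]
    have hω : ω ∈ Submodule.span A' (Set.range (KaehlerDifferential.D A A')) := by
      rw [KaehlerDifferential.span_range_derivation]; trivial
    induction hω using Submodule.span_induction with
    | mem x hx =>
      obtain ⟨a, rfl⟩ := hx
      rw [KaehlerDifferential.map_D]
      exact hD _ (hA' a.2)
    | zero => simp
    | add x y _ _ hx hy => rw [map_add, hx, hy, add_zero]
    | smul c x _ hx => rw [map_smul, hx, smul_zero]

end Groth.Agent.S4516
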