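import Groth.Statements.S4517
import Mathlib

set_option autoImplicit false
universe u
open EGA41

namespace Groth.Agent.S4517

/-- Let p be a prime, B an A-algebra of characteristic p, and suppose there is s ≥ 0 such that b^(p^s)
lies in the image of A for every b ∈ B. Then the kernel of the multiplication map B ⊗_A B → B is a
nil ideal. -/
theorem result (p : ℕ) [Fact p.Prime] {A B : Type u}
    [CommRing A] [CommRing B] [Algebra A B] [CharP B p] (s : ℕ)
    (hpow : ∀ b : B, b ^ p ^ s ∈ Set.range (algebraMap A B)) :
    ∀ x ∈ KaehlerDifferential.ideal A B, IsNilpotent x := by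
  haveI hp := (Fact.out : p.Prime)
  intro x hx
  rw [← KaehlerDifferential.span_range_eq_ideal] at hx
  refine (mem_nilradical.1 ?_)
  refine Ideal.span_le.2 ?_ hx
  rintro _ ⟨b, rfl⟩
  show IsNilpotent _
  rcases subsingleton_or_nontrivial (TensorProduct A B B) with h | h
  · exact ⟨1, Subsingleton.elim _ _⟩
  haveI : CharP (TensorProduct A B B) p := (CharP.charP_iff_prime_eq_zero hp).2 (by
    rw [← map_natCast (algebraMap B (TensorProduct A B B)), CharP.cast_eq_zero, map_zero])
  refine ⟨p ^ s, ?_⟩
  obtain ⟨a, ha⟩ := hpow b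
  rw [sub_pow_char_pow, Algebra.TensorProduct.tmul_pow, Algebra.TensorProduct.tmul_pow, one_pow, ← ha,
    sub_eq_zero, ← Algebra.TensorProduct.algebraMap_apply', ← Algebra.TensorProduct.algebraMap_apply]

end Groth.Agent.S4517
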