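import Groth.Statements.S4518
import Mathlib
import Groth.Agent.PBasisLib.Root

set_option autoImplicit false
universe u
open EGA41

namespace Groth.Agent.S4518

lemma linearIndependent_smul_right {S C M : Type*} [CommRing S] [CommRing C] [AddCommGroup M] [Algebra S C]
    [Module C M] [Module S M] [IsScalarTower S C M] {κ τ : Type*} (b : κ → C) (c : τ → M)
    (hb : Submodule.span S (Set.range b) = ⊤)
    (h : LinearIndependent S fun q : κ × τ => b q.1 • c q.2) : LinearIndependent C c := by
  classical
  rw [linearIndependent_iff]
  intro l hl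
  have hex : ∀ z : C, ∃ r : κ →₀ S, Finsupp.linearCombination S b r = z := fun z => by
    have hz : z ∈ Submodule.span S (Set.range b) := by rw [hb]; trivial
    rwa [← Finsupp.range_linearCombination] at hz
  choose r hr using hex
  let L : κ × τ →₀ S := l.sum fun t z => (r z).mapDomain fun k => (k, t)
  have hL : Finsupp.linearCombination S (fun q : κ × τ => b q.1 • c q.2) L = 0 := by
    rw [← hl, Finsupp.linearCombination_apply C l]
    simp only [L, map_finsuppSum, Finsupp.linearCombination_mapDomain]
    refine Finsupp.sum_congr fun t _ => ?_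
    conv_rhs => rw [← hr (l t)]
    rw [Finsupp.linearCombination_apply, Finsupp.linearCombination_apply]
    simp [Finsupp.sum, Finset.sum_smul, smul_assoc]
  have hL0 := linearIndependent_iff.mp h L hL
  ext t
  rw [Finsupp.coe_zero, Pi.zero_apply]
  by_cases ht : t ∈ l.support
  · rw [← hr (l t)]
    suffices r (l t) = 0 by rw [this, map_zero]
    ext k
    have h2 := DFunLike.congr_fun hL0 (k, t)
    simp only [L, Finsupp.sum, Finsupp.finsetSum_apply, Finsupp.coe_zero, Pi.zero_apply] at h2
    rw [Finset.sum_eq_single_of_mem t ht] at h2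
    · rwa [Finsupp.mapDomain_apply (fun a b hab => (Prod.ext_iff.mp hab).1)] at h2
    · intro s _ hst
      refine Finsupp.mapDomain_notin_range _ _ ?_
      rintro ⟨k', hk'⟩
      exact hst (Prod.ext_iff.mp hk').2
  · exact Finsupp.notMem_support_iff.mp ht


set_option maxHeartbeats 800000 in
/-- Let p be a prime and A → C → B rings of characteristic p with C → B injective and every p-th power
of B in the image of A (so, identifying, B^p ⊆ A ⊆ C ⊆ B up to replacing A by its image); let x be a
family of elements of C and y a family of elements of B. (i) If x is a system of p-generators of C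
over A and y one of B over C, then the family obtained by putting x (viewed in B) and y together is
a system of p-generators of B over A. (ii) If x is a p-basis of C over A, then y is p-independent
over C if and only if the combined family is p-independent over A. (The published statement only
asks B^p ⊆ C and reduces to B^p ⊆ A by enlarging A to A[B^p]; but p-independence of x in C over A
refers to A[C^p], which can be smaller than A[B^p] — for A = 𝔽_p, C = 𝔽_p(t^p) ⊂ B = 𝔽_p(t), x =
(t^p), y = (t), x is a p-basis of C over A and y is p-independent over C while (t^p, t) is not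
p-independent over A — so this row assumes B^p ⊆ A, the case the published proof treats.) -/
theorem result (p : ℕ) [Fact p.Prime] {A C B : Type u} [CommRing A] [CommRing C]
    [CommRing B] [Algebra A C] [Algebra C B] [Algebra A B] [IsScalarTower A C B] [CharP B p]
    (hinj : Function.Injective (algebraMap C B)) (hpow : ∀ b : B, b ^ p ∈ Set.range (algebraMap A B))
    {ι κ : Type u} (x : ι → C) (y : κ → B) :
    (EGA41.IsPGenerating p A x → EGA41.IsPGenerating p C y →
      EGA41.IsPGenerating p A (Sum.elim (fun i => algebraMap C B (x i)) y)) ∧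
    (EGA41.IsPBasis p A x →
      (EGA41.IsPIndependent p C y ↔ EGA41.IsPIndependent p A (Sum.elim (fun i => algebraMap C B (x i)) y))) := by
  let f := algebraMap C B
  have hpA : ∀ c : C, c ^ p ∈ Set.range (algebraMap A C) := fun c => by
    obtain ⟨a, ha⟩ := hpow (f c)
    exact ⟨a, hinj (by rw [← IsScalarTower.algebraMap_apply, ha, map_pow])⟩
  have hpC : ∀ b : B, b ^ p ∈ Set.range (algebraMap C B) := fun b => by
    obtain ⟨a, ha⟩ := hpow b
    exact ⟨algebraMap A C a, by rw [← IsScalarTower.algebraMap_apply, ha]⟩
  let S := EGA41.pPowerSubalgebra p A B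
  let S' := EGA41.pPowerSubalgebra p A C
  let T := EGA41.pPowerSubalgebra p C B
  have hS' : ∀ c : S', f (c : C) ∈ S := fun c => by
    obtain ⟨a, ha⟩ := PBasisLib.exists_pre p hpA c
    rw [← ha, show f (algebraMap A C a) = algebraMap A B a from (IsScalarTower.algebraMap_apply A C B a).symm]
    exact Subalgebra.algebraMap_mem _ a
  have hTr : ∀ c : C, f c ∈ T := fun c => Subalgebra.algebraMap_mem T c
  have hST : ∀ s : S, (s : B) ∈ T := fun s => by
    obtain ⟨a, ha⟩ := PBasisLib.exists_pre p hpow s
    rw [← ha, IsScalarTower.algebraMap_apply A C B]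
    exact hTr _
  let iS : S' → S := fun c => ⟨f c, hS' c⟩
  have hiS : Function.Surjective iS := fun s => by
    obtain ⟨a, ha⟩ := PBasisLib.exists_pre p hpow s
    exact ⟨⟨algebraMap A C a, Subalgebra.algebraMap_mem _ a⟩, Subtype.ext (by
      show f (algebraMap A C a) = (s : B)
      rw [← ha]; exact (IsScalarTower.algebraMap_apply A C B a).symm)⟩
  letI : Algebra S T := RingHom.toAlgebra
    { toFun := fun s => ⟨(s : B), hST s⟩
      map_one' := rfl
      map_mul' := fun _ _ => rfl
      map_zero' := rfl
      map_add' := fun _ _ => rfl }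
  haveI : IsScalarTower S T B := IsScalarTower.of_algebraMap_eq fun _ => rfl
  let g : C →+* T := f.codRestrict T hTr
  have hgs : Function.Surjective g := fun t => by
    obtain ⟨c, hc⟩ := PBasisLib.exists_pre p hpC t
    exact ⟨c, Subtype.ext hc⟩
  let bx : {e : ι →₀ ℕ // ∀ i, e i < p} → T := fun e => g (EGA41.pMonomial x e.1)
  refine ⟨fun hx hy => ?_, fun hx => ?_⟩
  · rw [PBasisLib.isPGenerating_iff] at hx hy ⊢
    set Z := Algebra.adjoin S (Set.range (Sum.elim (fun i => f (x i)) y)) with hZ
    have hC : ∀ c : C, f c ∈ Z := fun c => by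
      have hc : c ∈ Algebra.adjoin S' (Set.range x) := by rw [hx]; trivial
      induction hc using Algebra.adjoin_induction with
      | mem _ h => obtain ⟨i, rfl⟩ := h; exact Algebra.subset_adjoin ⟨Sum.inl i, rfl⟩
      | algebraMap s => exact Subalgebra.algebraMap_mem Z (iS s)
      | add _ _ _ _ ha hb => rw [map_add]; exact add_mem ha hb
      | mul _ _ _ _ ha hb => rw [map_mul]; exact mul_mem ha hb
    refine eq_top_iff.mpr fun b hb0 => ?_
    clear hb0
    have hb : b ∈ Algebra.adjoin T (Set.range y) := by rw [hy]; trivial
    induction hb using Algebra.adjoin_induction with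
    | mem _ h => obtain ⟨i, rfl⟩ := h; exact Algebra.subset_adjoin ⟨Sum.inr i, rfl⟩
    | algebraMap t => obtain ⟨c, rfl⟩ := hgs t; exact hC c
    | add _ _ _ _ ha hb => exact add_mem ha hb
    | mul _ _ _ _ ha hb => exact mul_mem ha hb
  · have hbx : LinearIndependent S bx :=
      LinearIndependent.map_of_surjective_injective hx.1 iS g.toAddMonoidHom hiS
        (fun m hm => hinj (by rw [map_zero]; exact congrArg Subtype.val hm))
        (fun r m => Subtype.ext (by show f ((r : C) * m) = f (r : C) * f m; rw [map_mul]))
    have hspan : Submodule.span S (Set.range bx) = ⊤ := by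
      refine eq_top_iff.mpr fun t ht0 => ?_
      clear ht0
      obtain ⟨c, rfl⟩ := hgs t
      have hc : c ∈ Submodule.span S' (Set.range fun e : {e : ι →₀ ℕ // ∀ i, e i < p} => EGA41.pMonomial x e.1) := by
        rw [show Submodule.span S' _ = ⊤ from hx.2]; trivial
      induction hc using Submodule.span_induction with
      | mem _ h => obtain ⟨e, rfl⟩ := h; exact Submodule.subset_span ⟨e, rfl⟩
      | zero => rw [map_zero]; exact Submodule.zero_mem _
      | add _ _ _ _ ha hb => rw [map_add]; exact Submodule.add_mem _ ha hb
      | smul r m _ hm =>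
        rw [show g (r • m) = iS r • g m from Subtype.ext (by show f ((r : C) * m) = f (r : C) * f m; rw [map_mul])]
        exact Submodule.smul_mem _ _ hm
    let e : {e : ι ⊕ κ →₀ ℕ // ∀ i, e i < p} ≃ {e : ι →₀ ℕ // ∀ i, e i < p} × {e : κ →₀ ℕ // ∀ i, e i < p} :=
      { toFun := fun e => (⟨(Finsupp.sumFinsuppEquivProdFinsupp e.1).1, fun i => by
            rw [Finsupp.fst_sumFinsuppEquivProdFinsupp]; exact e.2 _⟩,
          ⟨(Finsupp.sumFinsuppEquivProdFinsupp e.1).2, fun i => by
            rw [Finsupp.snd_sumFinsuppEquivProdFinsupp]; exact e.2 _⟩)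
        invFun := fun q => ⟨Finsupp.sumFinsuppEquivProdFinsupp.symm (q.1.1, q.2.1), fun i => by
            cases i with
            | inl i => exact q.1.2 i
            | inr i => exact q.2.2 i⟩
        left_inv := fun e => Subtype.ext (by simp)
        right_inv := fun q => Prod.ext (Subtype.ext (by simp)) (Subtype.ext (by simp)) }
    have hmon : (fun q : {e : ι →₀ ℕ // ∀ i, e i < p} × {e : κ →₀ ℕ // ∀ i, e i < p} =>
        bx q.1 • EGA41.pMonomial y q.2.1) =
        (fun d : {e : ι ⊕ κ →₀ ℕ // ∀ i, e i < p} =>
          EGA41.pMonomial (Sum.elim (fun i => f (x i)) y) d.1) ∘ e.symm := funext fun q => by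
      show f (EGA41.pMonomial x q.1.1) * EGA41.pMonomial y q.2.1 = EGA41.pMonomial _ _
      simp only [EGA41.pMonomial, map_finsuppProd, map_pow]
      show _ = (Finsupp.sumElim q.1.1 q.2.1).prod _
      rw [Finsupp.prod_sumElim]
      rfl
    have hiff : EGA41.IsPIndependent p A (Sum.elim (fun i => f (x i)) y) ↔
        LinearIndependent S (fun q : {e : ι →₀ ℕ // ∀ i, e i < p} × {e : κ →₀ ℕ // ∀ i, e i < p} =>
          bx q.1 • EGA41.pMonomial y q.2.1) := by
      rw [hmon]
      exact (linearIndependent_equiv e.symm).symm
    refine ⟨fun h => hiff.mpr ?_, fun h => ?_⟩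
    · have h' : LinearIndependent T (fun e : {e : κ →₀ ℕ // ∀ i, e i < p} => EGA41.pMonomial y e.1) := h
      exact linearIndependent_smul (R := S) (S := T) (A := B) hbx h'
    exact linearIndependent_smul_right (S := S) (C := T) (M := B) bx _ hspan (hiff.mp h)

end Groth.Agent.S4518
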