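import Groth.Statements.S4520
import Mathlib
import Groth.Agent.PBasisLib.Root

set_option autoImplicit false
universe u
open EGA41

namespace Groth.Agent.S4520

variable {p : ℕ} [Fact p.Prime] {A B : Type u} [CommRing A] [CommRing B] [Algebra A B] [CharP B p]

omit [Fact p.Prime] [CharP B p] in
lemma preHom_eq (hinj : Function.Injective (algebraMap A B)) (hpow : ∀ b : B, b ^ p ∈ Set.range (algebraMap A B))
    {c : EGA41.pPowerSubalgebra p A B} {a : A} (h : algebraMap A B a = c) : PBasisLib.preHom p hinj hpow c = a :=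
  hinj (by rw [PBasisLib.algebraMap_preHom, h])

open TensorProduct in
lemma mkQ_D_eq_zero (hinj : Function.Injective (algebraMap A B)) {Λ : Type u} (x : Λ → B)
    (hx : EGA41.IsPGenerating p A x) (hpow : ∀ b : B, b ^ p ∈ Set.range (algebraMap A B)) (x' : Λ → A)
    (hx' : ∀ i, algebraMap A B (x' i) = x i ^ p) (a : A) (b : B) (hab : algebraMap A B a = b ^ p) :
    (1 : B) ⊗ₜ[A] KaehlerDifferential.D ℤ A a ∈
      Submodule.span B (Set.range fun i => (1 : B) ⊗ₜ[A] KaehlerDifferential.D ℤ A (x' i)) := by
  have hb : b ∈ Algebra.adjoin (EGA41.pPowerSubalgebra p A B) (Set.range x) := by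
    rw [(PBasisLib.isPGenerating_iff p x).mp hx]; trivial
  induction hb using Algebra.adjoin_induction generalizing a with
  | mem w hw =>
    obtain ⟨i, rfl⟩ := hw
    rw [hinj (hab.trans (hx' i).symm)]
    exact Submodule.subset_span ⟨i, rfl⟩
  | algebraMap c =>
    obtain ⟨a₀, ha₀⟩ := PBasisLib.exists_pre p hpow c
    rw [hinj (show algebraMap A B a = algebraMap A B (a₀ ^ p) by rw [hab, map_pow, ha₀]; rfl)]
    have hpA : (p : A) = 0 := hinj (by rw [map_natCast, map_zero, CharP.cast_eq_zero])
    rw [Derivation.leibniz_pow, ← Nat.cast_smul_eq_nsmul A, hpA, zero_smul, TensorProduct.tmul_zero]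
    exact Submodule.zero_mem _
  | add u v _ _ hu hv =>
    obtain ⟨a₁, h₁⟩ := hpow u
    obtain ⟨a₂, h₂⟩ := hpow v
    rw [hinj (show algebraMap A B a = algebraMap A B (a₁ + a₂) by
      rw [hab, map_add, h₁, h₂, add_pow_char (R := B) (p := p)]), map_add, TensorProduct.tmul_add]
    exact Submodule.add_mem _ (hu a₁ h₁) (hv a₂ h₂)
  | mul u v _ _ hu hv =>
    obtain ⟨a₁, h₁⟩ := hpow u
    obtain ⟨a₂, h₂⟩ := hpow v
    rw [hinj (show algebraMap A B a = algebraMap A B (a₁ * a₂) by rw [hab, map_mul, h₁, h₂, mul_pow]),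
      Derivation.leibniz, TensorProduct.tmul_add, TensorProduct.tmul_smul, TensorProduct.tmul_smul,
      ← IsScalarTower.algebraMap_smul B a₁, ← IsScalarTower.algebraMap_smul B a₂]
    exact Submodule.add_mem _ (Submodule.smul_mem _ _ (hv a₂ h₂)) (Submodule.smul_mem _ _ (hu a₁ h₁))

open TensorProduct in
lemma imperfection_le_span (hinj : Function.Injective (algebraMap A B)) {Λ : Type u} (x : Λ → B)
    (hx : EGA41.IsPBasis p A x) (hpow : ∀ b : B, b ^ p ∈ Set.range (algebraMap A B)) (x' : Λ → A)
    (hx' : ∀ i, algebraMap A B (x' i) = x i ^ p) :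
    EGA41.imperfection ℤ A B ≤
      Submodule.span B (Set.range fun i => (1 : B) ⊗ₜ[A] KaehlerDifferential.D ℤ A (x' i)) := by
  intro z hz
  set S := Submodule.span B (Set.range fun i => (1 : B) ⊗ₜ[A] KaehlerDifferential.D ℤ A (x' i)) with hS
  let e := PBasisLib.preHom p hinj hpow
  have he : ∀ c, algebraMap A B (e c) = c := PBasisLib.algebraMap_preHom p hinj hpow
  let δ : EGA41.pPowerSubalgebra p A B →+ (B ⊗[A] Ω[A⁄ℤ]) ⧸ S :=
    AddMonoidHom.mk' (fun c => Submodule.Quotient.mk ((1 : B) ⊗ₜ[A] KaehlerDifferential.D ℤ A (e c)))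
      (fun c d => by rw [map_add e, map_add, TensorProduct.tmul_add, Submodule.Quotient.mk_add])
  obtain ⟨D', hD', -⟩ := PBasisLib.exists_derivation p hx δ
    (fun c d => by
      show Submodule.Quotient.mk _ = _ • Submodule.Quotient.mk _ + _ • Submodule.Quotient.mk _
      rw [map_mul e, Derivation.leibniz, TensorProduct.tmul_add, TensorProduct.tmul_smul, TensorProduct.tmul_smul,
        ← IsScalarTower.algebraMap_smul B (e c), ← IsScalarTower.algebraMap_smul B (e d), he, he,
        Submodule.Quotient.mk_add, Submodule.Quotient.mk_smul, Submodule.Quotient.mk_smul])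
    (fun i => (Submodule.Quotient.mk_eq_zero S).mpr
      (mkQ_D_eq_zero hinj x hx.2 hpow x' hx' _ (x i) (he _))) (fun _ => 0)
  let φ : Ω[B⁄ℤ] →ₗ[B] (B ⊗[A] Ω[A⁄ℤ]) ⧸ S := D'.liftKaehlerDifferential
  have hφ : ∀ w, φ (KaehlerDifferential.mapBaseChange ℤ A B w) = Submodule.Quotient.mk w := by
    intro w
    induction w using TensorProduct.induction_on with
    | zero => simp
    | add u v hu hv => rw [map_add, map_add, hu, hv]; rfl
    | tmul b ω =>
      have hω : ω ∈ Submodule.span A (Set.range (KaehlerDifferential.D ℤ A)) := by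
        rw [KaehlerDifferential.span_range_derivation]; trivial
      induction hω using Submodule.span_induction generalizing b with
      | mem _ h =>
        obtain ⟨a, rfl⟩ := h
        rw [KaehlerDifferential.mapBaseChange_tmul, KaehlerDifferential.map_D, map_smul,
          Derivation.liftKaehlerDifferential_comp_D]
        have h1 : D' (algebraMap A B a) = Submodule.Quotient.mk ((1 : B) ⊗ₜ[A] KaehlerDifferential.D ℤ A a) := by
          rw [hD' ⟨_, Subalgebra.algebraMap_mem _ a⟩]
          show Submodule.Quotient.mk _ = _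
          rw [show e _ = a from PBasisLib.preHom_algebraMap p hinj hpow a]
        rw [h1, ← Submodule.Quotient.mk_smul, TensorProduct.smul_tmul', smul_eq_mul, mul_one]
      | zero => simp
      | add u v _ _ hu hv => rw [TensorProduct.tmul_add, map_add, map_add, hu, hv]; rfl
      | smul r u _ hu =>
        rw [← TensorProduct.smul_tmul]
        exact hu _
  have := hφ z
  rw [show KaehlerDifferential.mapBaseChange ℤ A B z = 0 from hz, map_zero, eq_comm,
    Submodule.Quotient.mk_eq_zero] at this
  exact this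


open TensorProduct in
set_option maxHeartbeats 1600000 in
/-- Let p be a prime, B a reduced ring of characteristic p, A a subring with B^p ⊆ A ⊆ B (here A → B
injective with all p-th powers in its image, and R → A → B with image in B the set of p-th powers, R
standing for B^p). Suppose B has a p-basis (x_λ) over A and A has a p-basis over R, and let x'_λ ∈ A
map to x_λ^p. Then the elements 1 ⊗ d_{A/ℤ}(x'_λ) form a basis of the B-module Υ_{B/A}, the kernel
of B ⊗_A Ω_{A/ℤ} → Ω_{B/ℤ}. (The published statement also identifies Υ_{B/A} with the Frobenius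
twist of Ω_{B/A}; this row states only the basis.) -/
theorem result (p : ℕ) [Fact p.Prime] {R A B : Type u} [CommRing R] [CommRing A]
    [CommRing B] [IsReduced B] [Algebra R A] [Algebra A B] [Algebra R B] [IsScalarTower R A B] [CharP B p]
    (hinj : Function.Injective (algebraMap A B)) (hpow : ∀ b : B, b ^ p ∈ Set.range (algebraMap A B))
    (hR : Set.range (algebraMap R B) = Set.range fun b : B => b ^ p)
    {Λ M : Type u} (x : Λ → B) (hx : EGA41.IsPBasis p A x) (x' : Λ → A) (hx' : ∀ i, algebraMap A B (x' i) = x i ^ p)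
    (y : M → A) (hy : EGA41.IsPBasis p R y) :
    ∃ b : Module.Basis Λ B (EGA41.imperfection ℤ A B),
      ∀ i, (b i : B ⊗[A] Ω[A⁄ℤ]) = (1 : B) ⊗ₜ[A] KaehlerDifferential.D ℤ A (x' i) := by
  classical
  have hpA : (p : A) = 0 := hinj (by rw [map_natCast, map_zero, CharP.cast_eq_zero])
  rcases subsingleton_or_nontrivial B with hB | hB
  · have hsub : Subsingleton ↥(EGA41.imperfection ℤ A B) := inferInstance
    exact absurd (CharP.cast_eq_zero_iff B p 1 |>.mp (Subsingleton.elim _ _)) (by
      exact (Fact.out : p.Prime).not_dvd_one)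
  have : Nontrivial A := (algebraMap A B).domain_nontrivial
  have : CharP A p := (CharP.charP_iff_prime_eq_zero (Fact.out : p.Prime)).mpr hpA
  obtain ⟨D, hD⟩ := PBasisLib.exists_derivation_base (A := A) p hx fun i => (Finsupp.single i (1 : B))
  let θ : B → (Λ →₀ B) := fun b => (D b).mapRange (fun c => c ^ p) (zero_pow (Fact.out : p.Prime).ne_zero)
  have hθadd : ∀ b c, θ (b + c) = θ b + θ c := fun b c => Finsupp.ext fun i => by
    simp [θ, map_add, add_pow_char (R := B) (p := p)]
  have hθmul : ∀ b c, θ (b * c) = b ^ p • θ c + c ^ p • θ b := fun b c => Finsupp.ext fun i => by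
    simp [θ, Derivation.leibniz, add_pow_char (R := B) (p := p), mul_pow]
  have hθA : ∀ a, θ (algebraMap A B a) = 0 := fun a => by simp [θ]
  have hθx : ∀ i, θ (x i) = Finsupp.single i 1 := fun i => by simp [θ, hD, Finsupp.mapRange_single]
  have hpowA : ∀ a : A, a ^ p ∈ Set.range (algebraMap R A) := fun a => by
    obtain ⟨r, hr⟩ : (algebraMap A B a) ^ p ∈ Set.range (algebraMap R B) := by rw [hR]; exact ⟨_, rfl⟩
    exact ⟨r, hinj (by rw [← IsScalarTower.algebraMap_apply, hr, map_pow])⟩
  have hroot : ∀ c : EGA41.pPowerSubalgebra p R A, ∃ b : B, b ^ p = algebraMap A B c := fun c => by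
    obtain ⟨r, hr⟩ := PBasisLib.exists_pre p hpowA c
    have : algebraMap A B (c : A) ∈ Set.range fun b : B => b ^ p := by
      rw [← hR, ← hr, ← IsScalarTower.algebraMap_apply]; exact ⟨r, rfl⟩
    exact this
  choose r hr using hroot
  have hru : ∀ (c : EGA41.pPowerSubalgebra p R A) (b : B), b ^ p = algebraMap A B c → r c = b := fun c b hb =>
    frobenius_inj B p (show (r c) ^ p = b ^ p by rw [hr, hb])
  let δ : EGA41.pPowerSubalgebra p R A →+ (Λ →₀ B) := AddMonoidHom.mk' (fun c => θ (r c)) fun c d => by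
    rw [hru (c + d) (r c + r d) (by rw [add_pow_char (R := B) (p := p), hr, hr, AddMemClass.coe_add, map_add]),
      hθadd]
  obtain ⟨E, hE, -⟩ := PBasisLib.exists_derivation p hy δ
    (fun c d => by
      show θ (r (c * d)) = _
      rw [hru (c * d) (r c * r d) (by rw [mul_pow, hr, hr, MulMemClass.coe_mul, map_mul]), hθmul, hr, hr,
        IsScalarTower.algebraMap_smul, IsScalarTower.algebraMap_smul]
      rfl)
    (fun i => by
      show θ (r _) = 0
      rw [hru _ (algebraMap A B (y i)) (map_pow _ _ _).symm, hθA]) (fun _ => 0)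
  have hEx : ∀ i, E (x' i) = Finsupp.single i 1 := fun i => by
    obtain ⟨s, hs⟩ : algebraMap A B (x' i) ∈ Set.range (algebraMap R B) := by rw [hx' i, hR]; exact ⟨_, rfl⟩
    have hs' : x' i = algebraMap R A s := hinj (by rw [← IsScalarTower.algebraMap_apply, hs])
    rw [hs', hE ⟨_, Subalgebra.algebraMap_mem _ s⟩]
    show θ (r _) = _
    rw [hru _ (x i) (by rw [← hx' i, hs']), hθx]
  let l : B ⊗[A] Ω[A⁄ℤ] →ₗ[B] (Λ →₀ B) := LinearMap.liftBaseChange B E.liftKaehlerDifferential
  let v : Λ → B ⊗[A] Ω[A⁄ℤ] := fun i => (1 : B) ⊗ₜ[A] KaehlerDifferential.D ℤ A (x' i)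
  have hli : LinearIndependent B v := by
    refine LinearIndependent.of_comp l ?_
    have : l ∘ v = fun i => Finsupp.single i (1 : B) := funext fun i => by
      simp [l, v, Derivation.liftKaehlerDifferential_comp_D, hEx]
    rw [this]
    exact Finsupp.linearIndependent_single_one B Λ
  have hmem : ∀ i, v i ∈ EGA41.imperfection ℤ A B := fun i => by
    show KaehlerDifferential.mapBaseChange ℤ A B (v i) = 0
    rw [KaehlerDifferential.mapBaseChange_tmul, one_smul, KaehlerDifferential.map_D, hx' i,
      Derivation.leibniz_pow, ← Nat.cast_smul_eq_nsmul B, CharP.cast_eq_zero, zero_smul]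
  let v' : Λ → ↥(EGA41.imperfection ℤ A B) := fun i => ⟨v i, hmem i⟩
  have hspan : ⊤ ≤ Submodule.span B (Set.range v') := by
    intro z _
    have hz := imperfection_le_span hinj x hx hpow x' hx' z.2
    have : Submodule.map (Submodule.subtype _) (Submodule.span B (Set.range v')) =
        Submodule.span B (Set.range v) := by
      rw [Submodule.map_span, ← Set.range_comp]; rfl
    rw [← this] at hz
    obtain ⟨w, hw, hwz⟩ := hz
    rwa [← Subtype.ext (hwz : (w : B ⊗[A] Ω[A⁄ℤ]) = z)]
  exact ⟨Module.Basis.mk (v := v') (LinearIndependent.of_comp (Submodule.subtype _) (show LinearIndependent B (⇑(Submodule.subtype _) ∘ v') from hli)) hspan,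
    fun i => by rw [Module.Basis.mk_apply]⟩

end Groth.Agent.S4520
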