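import Groth.Statements.S4521
import Mathlib
import Groth.Agent.PBasisLib.Fields

set_option autoImplicit false
universe u
open EGA41

namespace Groth.Agent.S4521

/-- Let k ⊆ K be fields of characteristic p > 0 and (x_α) a family of elements of K. Then (x_α) is
p-independent over k if and only if, for every α, x_α does not lie in the subfield generated over k
by K^p and the x_β with β ≠ α. -/
theorem result (p : ℕ) [Fact p.Prime] {k K : Type u} [Field k] [Field K]
    [Algebra k K] [CharP K p] {ι : Type u} (x : ι → K) :
    EGA41.IsPIndependent p k x ↔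
      ∀ a : ι, x a ∉ IntermediateField.adjoin k ((Set.range fun y : K => y ^ p) ∪ x '' {b | b ≠ a}) := by
  have key : ∀ (S : Set K) (z : K), z ∈ IntermediateField.adjoin k ((Set.range fun y : K => y ^ p) ∪ S) ↔
      z ∈ Algebra.adjoin (EGA41.pPowerSubalgebra p k K) S := by
    intro S z
    refine ⟨fun h => ?_, fun h => ?_⟩
    · let T : IntermediateField k K :=
        ((Algebra.adjoin (EGA41.pPowerSubalgebra p k K) S).restrictScalars k).toIntermediateField
          fun _ hw => PBasisLib.inv_mem_of_pPow_le p hw
      have hle : IntermediateField.adjoin k ((Set.range fun y : K => y ^ p) ∪ S) ≤ T := by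
        rw [IntermediateField.adjoin_le_iff]
        rintro w (⟨y, rfl⟩ | hw)
        · exact Subalgebra.algebraMap_mem _ (⟨_, PBasisLib.pow_mem_pPow p y⟩ : EGA41.pPowerSubalgebra p k K)
        · exact Algebra.subset_adjoin hw
      exact hle h
    · have hP : ∀ c : EGA41.pPowerSubalgebra p k K,
          (c : K) ∈ IntermediateField.adjoin k ((Set.range fun y : K => y ^ p) ∪ S) := by
        rintro ⟨c, hc⟩
        exact IntermediateField.algebra_adjoin_le_adjoin k _
          (Algebra.adjoin_mono Set.subset_union_left hc)
      induction h using Algebra.adjoin_induction with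
      | mem w hw => exact IntermediateField.subset_adjoin k _ (Or.inr hw)
      | algebraMap c => exact hP c
      | add _ _ _ _ h1 h2 => exact add_mem h1 h2
      | mul _ _ _ _ h1 h2 => exact mul_mem h1 h2
  rw [PBasisLib.isPIndependent_iff, linearIndependent_iff_notMem_span]
  refine forall_congr' fun a => not_congr ?_
  rw [key]
  have himg : ({b : ι | b ≠ a}) = Set.univ \ {a} := by ext; simp
  refine ⟨fun h => PBasisLib.mem_adjoin_of_D_mem_span p _ ?_, fun h => ?_⟩
  · rw [Set.image_image, himg]; exact h
  · rw [himg] at h
    generalize x a = g at h ⊢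
    induction h using Algebra.adjoin_induction with
    | mem w hw =>
      obtain ⟨b, hb, rfl⟩ := hw
      exact Submodule.subset_span ⟨b, hb, rfl⟩
    | algebraMap c =>
      show KaehlerDifferential.D k K (c : K) ∈ _
      rw [PBasisLib.derivation_pPow p]
      exact Submodule.zero_mem _
    | add _ _ _ _ h1 h2 => rw [map_add]; exact Submodule.add_mem _ h1 h2
    | mul _ _ _ _ h1 h2 =>
      rw [Derivation.leibniz]
      exact Submodule.add_mem _ (Submodule.smul_mem _ _ h2) (Submodule.smul_mem _ _ h1)

end Groth.Agent.S4521
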