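import Groth.Statements.S4522
import Groth.Agent.PBasisLib.Fields
-- import your own Groth.Agent.* helpers here

set_option autoImplicit false
universe u
open EGA41

namespace Groth.Agent.S4522

/-- Let L be a field of characteristic p > 0 and K a subfield with L^p ⊆ K ⊆ L (here R → K → L with the
image of R in L the set of p-th powers and every p-th power of L in the image of K). Then the
canonical L-linear map L ⊗_K Ω_{K/L^p} → Ω_{L/L^p} is injective, so that 0 → Ω_{K/L^p} ⊗_K L →
Ω_{L/L^p} → Ω_{L/K} → 0 is exact: the imperfection module of L over K relative to L^p vanishes. -/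
theorem result (p : ℕ) [Fact p.Prime] {R K L : Type u} [Field R] [Field K] [Field L]
    [Algebra R K] [Algebra K L] [Algebra R L] [IsScalarTower R K L] [CharP L p]
    (hR : Set.range (algebraMap R L) = Set.range fun y : L => y ^ p)
    (hK : ∀ y : L, y ^ p ∈ Set.range (algebraMap K L)) :
    Function.Injective (KaehlerDifferential.mapBaseChange R K L) := by
  classical
  haveI : CharP K p := (algebraMap K L).charP (algebraMap K L).injective p
  obtain ⟨T, -, -, hT⟩ := Groth.Agent.PBasisLib.exists_pBasis_between p (A := R) (K := K) Set.univ ∅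
    (Set.subset_univ _) (Groth.Agent.PBasisLib.isPGenerating_univ (A := R) (K := K) p)
    (Groth.Agent.PBasisLib.setIndep_empty (A := R) (K := K) p)
  obtain ⟨b, hb⟩ := Groth.Agent.PBasisLib.exists_basis_D p hT
  let bL := Algebra.TensorProduct.basis L b
  -- `L^p` is the image of `R`
  have hpow : ∀ c ∈ EGA41.pPowerSubalgebra p R L, ∃ r : R, algebraMap R L r = c := fun c hc => by
    induction hc using Algebra.adjoin_induction with
    | mem y hy => obtain ⟨r, hr⟩ := hR.ge hy; exact ⟨r, hr⟩
    | algebraMap a => exact ⟨a, rfl⟩
    | add _ _ _ _ ha hb => obtain ⟨x, rfl⟩ := ha; obtain ⟨y, rfl⟩ := hb; exact ⟨x + y, map_add _ _ _⟩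
    | mul _ _ _ _ ha hb => obtain ⟨x, rfl⟩ := ha; obtain ⟨y, rfl⟩ := hb; exact ⟨x * y, map_mul _ _ _⟩
  let y : T → L := fun t => algebraMap K L (t : K)
  have hy : EGA41.IsPIndependent p R y := by
    rw [EGA41.IsPIndependent, linearIndependent_iff']
    intro s g hg e he
    choose r hr using fun e => hpow (g e : L) (g e).2
    have h1 := linearIndependent_iff'.1 hT.1 s
      (fun e => ⟨algebraMap R K (r e), Subalgebra.algebraMap_mem _ _⟩) (by
        refine (algebraMap K L).injective ?_
        rw [map_zero, map_sum, ← hg]
        refine Finset.sum_congr rfl fun e _ => ?_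
        show algebraMap K L (algebraMap R K (r e) * EGA41.pMonomial (Subtype.val : T → K) e.1) =
          (g e : L) * EGA41.pMonomial y e.1
        rw [map_mul, ← IsScalarTower.algebraMap_apply, hr]
        congr 1
        simp [EGA41.pMonomial, map_finsuppProd, y]) e he
    refine Subtype.ext ?_
    rw [← hr e, (algebraMap R K).injective ((congrArg Subtype.val h1).trans (map_zero _).symm), map_zero]
    rfl
  have hli := Groth.Agent.PBasisLib.linearIndependent_D p hy
  have hf : ∀ t, KaehlerDifferential.mapBaseChange R K L (bL t) = KaehlerDifferential.D R L (y t) := fun t => by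
    simp [bL, hb, y]
  rw [← LinearMap.ker_eq_bot, Submodule.eq_bot_iff]
  intro z hz
  have h2 : Finsupp.linearCombination L (fun t => KaehlerDifferential.D R L (y t)) (bL.repr z) = 0 := by
    rw [← LinearMap.mem_ker.1 hz]
    conv_rhs => rw [← bL.linearCombination_repr z]
    rw [Finsupp.apply_linearCombination]
    exact congrArg (fun f => Finsupp.linearCombination L f (bL.repr z)) (funext fun t => (hf t).symm)
  have h3 := linearIndependent_iff.1 hli _ h2
  exact bL.repr.injective (h3.trans (map_zero _).symm)

end Groth.Agent.S4522
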