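import Groth.Statements.S4523
import Groth.Agent.CohenLib.DerExt
import Groth.Agent.CohenLib.FSField
import Groth.Agent.CohenLib.GeomRed
import Groth.Agent.S2117
import Mathlib.FieldTheory.Perfect
import Groth.Agent.GeomRedFieldLib.Algebra
-- import your own Groth.Agent.* helpers here

set_option autoImplicit false
universe u
open EGA41

namespace Groth.Agent.S4523

/-- Let k ⊆ K be fields. Then K is a separable extension of k if and only if the imperfection module
Υ_{K/k} vanishes, i.e. the canonical map Ω_{k/ℤ} ⊗_k K → Ω_{K/ℤ} is injective, and if and only if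
every derivation of k into K extends to a derivation of K into itself. (No hypothesis on the
characteristic.) -/
theorem result {k K : Type u} [Field k] [Field K] [Algebra k K] :
    (Algebra.IsGeometricallyReduced k K ↔ EGA41.imperfection ℤ k K = ⊥) ∧
    (Algebra.IsGeometricallyReduced k K ↔
      ∀ D : Derivation ℤ k K, ∃ D' : Derivation ℤ K K, ∀ a : k, D' (algebraMap k K a) = D a) := by
  have hinj : Algebra.IsGeometricallyReduced k K ↔ Function.Injective (KaehlerDifferential.mapBaseChange ℤ k K) := by
    refine ⟨fun h ↦ ?_, fun h ↦ ?_⟩
    · haveI := CohenLib.formallySmooth_of_isGeometricallyReduced k K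
      rw [injective_iff_map_eq_zero]
      intro z hz
      obtain ⟨w, rfl⟩ := (Algebra.H1Cotangent.exact_δ_mapBaseChange ℤ k K z).1 hz
      rw [Subsingleton.elim w 0, map_zero]
    · rcases CharP.exists' k with hc | ⟨p, hp, hpk⟩
      · haveI := hc
        refine GeomRedFieldLib.isGeometricallyReduced_of_perfect k K ?_
        exact isReduced_of_injective (Algebra.TensorProduct.lid k K) (AlgEquiv.injective _)
      · haveI := hp; haveI := hpk
        exact (Groth.Agent.S2117.result p).mpr h
  constructor
  · rw [EGA41.imperfection, LinearMap.ker_eq_bot]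
    exact hinj
  · rw [hinj, ← CohenLib.injective_lTensor_iff ℤ k K K]
    refine ⟨fun h ↦ Module.Flat.lTensor_preserves_injective_linearMap _ h, fun h x y hxy ↦ ?_⟩
    exact (TensorProduct.lid K _).symm.injective (h (by simp [hxy]))

end Groth.Agent.S4523
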