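import Groth.Statements.S4524
import Mathlib
import Groth.Agent.CartierIneqLib.Basic
-- import your own Groth.Agent.* helpers here

set_option autoImplicit false
universe u
open EGA41
open scoped TensorProduct

namespace Groth.Agent.S4524

set_option maxHeartbeats 400000

open IntermediateField

/-- Let k be a field of characteristic 0 and K an extension of k. Then Ω_{K/k} = 0 if and only if K is
an algebraic extension of k. -/
theorem result {k K : Type u} [Field k] [CharZero k] [Field K] [Algebra k K] :
    Subsingleton (Ω[K⁄k]) ↔ Algebra.IsAlgebraic k K := by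
  refine ⟨fun h => ?_, fun h => ?_⟩
  · obtain ⟨s, hs⟩ := exists_isTranscendenceBasis k K
    rcases s.eq_empty_or_nonempty with rfl | ⟨b, hb⟩
    · have := hs.isAlgebraic_field
      rw [Subtype.range_coe] at this
      rw [adjoin_empty] at this
      exact Algebra.IsAlgebraic.trans k (⊥ : IntermediateField k K) K
    exfalso
    let K₀ := adjoin k (s \ {b})
    let F := K₀⟮b⟯
    have hF : F.restrictScalars k = adjoin k s := by
      rw [adjoin_adjoin_left, Set.union_singleton, Set.insert_sdiff_singleton, Set.insert_eq_of_mem hb]
    have halg : Algebra.IsAlgebraic F K := by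
      have h' := hs.isAlgebraic_field
      rw [Subtype.range_coe, ← hF] at h'
      exact h'
    have : CharZero F := charZero_of_injective_algebraMap (algebraMap k F).injective
    have : Algebra.FormallyEtale F K := Algebra.FormallyEtale.of_isSeparable F K
    have h0 : Subsingleton (Ω[K⁄K₀]) := (KaehlerDifferential.map_surjective k K₀ K).subsingleton
    have hsub : Subsingleton (K ⊗[F] Ω[F⁄K₀]) :=
      (KaehlerDifferential.tensorKaehlerEquivOfFormallyEtale K₀ F K).subsingleton
    have : Algebra.EssFiniteType K₀ F :=
      IntermediateField.essFiniteType_iff.2 (fg_adjoin_of_finite (Set.finite_singleton b))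
    obtain ⟨hfin, -, hle⟩ := Groth.Agent.CartierIneqLib.finrank_ineq (k := K₀) K₀ F
    have hrk : Module.finrank F (Ω[F⁄K₀]) = 0 := by
      rw [← Module.finrank_baseChange (R := K)]
      exact Module.finrank_zero_of_subsingleton
    have htr : Algebra.trdeg K₀ F = 0 := by
      have hlt := trdeg_lt_aleph0 K₀ F
      rcases Cardinal.lt_aleph0.1 hlt with ⟨n, hn⟩
      rw [hn] at hle ⊢
      simp only [Cardinal.toNat_natCast] at hle
      have : n = 0 := by omega
      rw [this, Nat.cast_zero]
    have : Algebra.IsAlgebraic K₀ F := trdeg_eq_zero_iff.1 htr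
    have hbalg : IsAlgebraic K₀ b :=
      (Algebra.IsAlgebraic.isAlgebraic (AdjoinSimple.gen K₀ b)).algebraMap (A := K)
    have htb : Transcendental (Algebra.adjoin k (s \ {b})) b := by
      have h1 := hs.1.transcendental_adjoin (i := ⟨b, hb⟩) (s := {⟨b, hb⟩}ᶜ) (by simp)
      have h2 : (Subtype.val '' ({⟨b, hb⟩}ᶜ : Set s)) = s \ {b} := by
        ext x; constructor
        · rintro ⟨⟨y, hy⟩, hne, rfl⟩; exact ⟨hy, fun h => hne (Subtype.ext h)⟩
        · rintro ⟨hx, hne⟩; exact ⟨⟨x, hx⟩, fun h => hne (congrArg Subtype.val h), rfl⟩
      rw [h2] at h1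
      exact h1
    open scoped algebraAdjoinAdjoin in
    exact (htb.extendScalars K₀) hbalg
  · have := h
    have : CharZero K := charZero_of_injective_algebraMap (algebraMap k K).injective
    have : Algebra.FormallyUnramified k K := Algebra.FormallyUnramified.of_isSeparable k K
    infer_instance

end Groth.Agent.S4524
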