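import Groth.Statements.S4525
import Mathlib
import Groth.Agent.ImperfLib.FieldExt
-- import your own Groth.Agent.* helpers here

set_option autoImplicit false
universe u
open EGA41

namespace Groth.Agent.S4525

set_option maxHeartbeats 400000

theorem map_map_eq_zero {k K : Type u} [Field k] [Field K] [Algebra k K] (w : Ω[k⁄ℤ]) :
    KaehlerDifferential.map ℤ k K K (KaehlerDifferential.map ℤ ℤ k K w) = 0 := by
  have hw : w ∈ Submodule.span k (Set.range (KaehlerDifferential.D ℤ k)) := by
    rw [KaehlerDifferential.span_range_derivation]; trivial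
  induction hw using Submodule.span_induction with
  | mem x hx =>
    obtain ⟨a, rfl⟩ := hx
    rw [KaehlerDifferential.map_D, KaehlerDifferential.map_D, Algebra.algebraMap_self_apply,
      Derivation.map_algebraMap]
  | zero => rw [map_zero, map_zero]
  | add x y _ _ hx hy => rw [map_add, map_add, hx, hy, add_zero]
  | smul a x _ hx => rw [map_smul, LinearMap.map_smul_of_tower, hx, smul_zero]

theorem map_comm {k K L : Type u} [Field k] [Field K] [Field L] [Algebra k K] [Algebra K L]
    [Algebra k L] [IsScalarTower k K L] (w : Ω[K⁄ℤ]) :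
    KaehlerDifferential.map k k K L (KaehlerDifferential.map ℤ k K K w) =
      KaehlerDifferential.map ℤ k L L (KaehlerDifferential.map ℤ ℤ K L w) := by
  have hw : w ∈ Submodule.span K (Set.range (KaehlerDifferential.D ℤ K)) := by
    rw [KaehlerDifferential.span_range_derivation]; trivial
  induction hw using Submodule.span_induction with
  | mem x hx =>
    obtain ⟨a, rfl⟩ := hx
    simp only [KaehlerDifferential.map_D, Algebra.algebraMap_self_apply]
  | zero => simp only [map_zero]
  | add x y _ _ hx hy => simp only [map_add, hx, hy]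
  | smul a x _ hx =>
    rw [map_smul, map_smul, map_smul, LinearMap.map_smul_of_tower, hx]

theorem map_trans {k K L : Type u} [Field k] [Field K] [Field L] [Algebra k K] [Algebra K L]
    [Algebra k L] [IsScalarTower k K L] (w : Ω[k⁄ℤ]) :
    KaehlerDifferential.map ℤ ℤ K L (KaehlerDifferential.map ℤ ℤ k K w) =
      KaehlerDifferential.map ℤ ℤ k L w := by
  have hw : w ∈ Submodule.span k (Set.range (KaehlerDifferential.D ℤ k)) := by
    rw [KaehlerDifferential.span_range_derivation]; trivial
  induction hw using Submodule.span_induction with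
  | mem x hx =>
    obtain ⟨a, rfl⟩ := hx
    simp only [KaehlerDifferential.map_D, ← IsScalarTower.algebraMap_apply]
  | zero => simp only [map_zero]
  | add x y _ _ hx hy => simp only [map_add, hx, hy]
  | smul a x _ hx =>
    rw [map_smul, ← IsScalarTower.algebraMap_smul K a (KaehlerDifferential.map ℤ ℤ k K x), map_smul,
      hx, IsScalarTower.algebraMap_smul, map_smul]

open TensorProduct in
theorem exists_kernel_surjective {k K L : Type u} [Field k] [Field K] [Field L]
    [Algebra k K] [Algebra K L] [Algebra k L] [IsScalarTower k K L] :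
    ∃ g : EGA41.imperfection ℤ K L →ₗ[L] EGA41.imperfection k K L, Function.Surjective g := by
  let g₀ : L ⊗[K] Ω[K⁄ℤ] →ₗ[L] L ⊗[K] Ω[K⁄k] :=
    (KaehlerDifferential.map ℤ k K K).baseChange L
  have hg₀ : Function.Surjective g₀ := by
    intro z
    induction z using TensorProduct.induction_on with
    | zero => exact ⟨0, map_zero _⟩
    | tmul l w =>
      obtain ⟨w', rfl⟩ := KaehlerDifferential.map_surjective ℤ k K w
      exact ⟨l ⊗ₜ w', LinearMap.baseChange_tmul _ _ _⟩
    | add x y hx hy =>
      obtain ⟨x', rfl⟩ := hx
      obtain ⟨y', rfl⟩ := hy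
      exact ⟨x' + y', map_add _ _ _⟩
  let mZ := KaehlerDifferential.mapBaseChange ℤ K L
  let mk := KaehlerDifferential.mapBaseChange k K L
  let v := KaehlerDifferential.map ℤ k L L
  have hcomm : ∀ z, mk (g₀ z) = v (mZ z) := by
    intro z
    induction z using TensorProduct.induction_on with
    | zero => simp only [map_zero]
    | add x y hx hy => simp only [map_add, hx, hy]
    | tmul l w =>
      simp only [g₀, mk, mZ, v, LinearMap.baseChange_tmul, KaehlerDifferential.mapBaseChange_tmul,
        map_smul]
      rw [map_comm]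
  refine ⟨(g₀.comp (EGA41.imperfection ℤ K L).subtype).codRestrict _ fun z => ?_, fun z => ?_⟩
  · change mk (g₀ z) = 0
    rw [hcomm, show mZ z = 0 from z.2, map_zero]
  · obtain ⟨z', hz'⟩ := hg₀ z.1
    have h0 : v (mZ z') = 0 := by rw [← hcomm, hz']; exact z.2
    obtain ⟨w, hw⟩ := (KaehlerDifferential.exact_mapBaseChange_map ℤ k L _).1 h0
    obtain ⟨u, hu1, hu2⟩ : ∃ u, g₀ u = 0 ∧ mZ u = KaehlerDifferential.mapBaseChange ℤ k L w := by
      clear hw
      induction w using TensorProduct.induction_on with
      | zero => exact ⟨0, map_zero _, by simp only [map_zero]⟩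
      | add x y hx hy =>
        obtain ⟨a, ha1, ha2⟩ := hx
        obtain ⟨b, hb1, hb2⟩ := hy
        exact ⟨a + b, by simp [ha1, hb1], by simp only [map_add, ha2, hb2]⟩
      | tmul l w =>
        refine ⟨l ⊗ₜ KaehlerDifferential.map ℤ ℤ k K w, ?_, ?_⟩
        · simp only [g₀, LinearMap.baseChange_tmul, map_map_eq_zero, TensorProduct.tmul_zero]
        · simp only [mZ, KaehlerDifferential.mapBaseChange_tmul, map_trans]
    refine ⟨⟨z' - u, ?_⟩, Subtype.ext ?_⟩
    · change mZ (z' - u) = 0
      rw [map_sub, hu2, hw, sub_self]
    · change g₀ (z' - u) = z.1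
      rw [map_sub, hu1, sub_zero, hz']

/-- Let K be a field, L an extension of finite type of K and k a subfield of K. Then Ω_{L/K} and the
imperfection module Υ_{L/K/k} are finite-dimensional L-vector spaces and rank Ω_{L/K} − rank
Υ_{L/K/k} ≥ trdeg_K L. (The published statement also gives the equality rank Ω_{L/K} − rank
Υ_{L/K/k} = trdeg_K L + d(L/K, k) and an equality criterion; this row states only finiteness and the
inequality.) -/
theorem result {k K L : Type u} [Field k] [Field K] [Field L]
    [Algebra k K] [Algebra K L] [Algebra k L] [IsScalarTower k K L] [Algebra.EssFiniteType K L] :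
    Module.Finite L (Ω[L⁄K]) ∧ Module.Finite L (EGA41.imperfection k K L) ∧
      (Cardinal.toNat (Algebra.trdeg K L) : ℤ) ≤
        (Module.finrank L (Ω[L⁄K]) : ℤ) - Module.finrank L (EGA41.imperfection k K L) := by
  obtain ⟨h1, h2, h3⟩ := ImperfLib.index_eq_trdeg K L
  obtain ⟨g, hg⟩ := exists_kernel_surjective (k := k) (K := K) (L := L)
  have := h2
  have h4 : Module.finrank L (EGA41.imperfection k K L) ≤
      Module.finrank L (EGA41.imperfection ℤ K L) :=
    Cardinal.toNat_le_toNat (LinearMap.rank_le_of_surjective g hg) (Module.rank_lt_aleph0 L _)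
  exact ⟨h1, Module.Finite.of_surjective g hg, by omega⟩

end Groth.Agent.S4525
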