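import Groth.Statements.S4529
import Mathlib
-- import your own Groth.Agent.* helpers here

set_option autoImplicit false
universe u
open EGA41

namespace Groth.Agent.S4529

set_option maxHeartbeats 400000

theorem bijective_of_sub_mem {A : Type u} [CommRing A] {M : Type u} [AddCommGroup M] [Module A M]
    (f : M →ₗ[A] M) (J : Ideal A)
    (hJ : IsNilpotent J ∨ (J ≤ (⊥ : Ideal A).jacobson ∧ Module.Finite A M))
    (hf : ∀ x, x - f x ∈ (J • ⊤ : Submodule A M)) : Function.Bijective f := by
  rcases hJ with ⟨m, hm⟩ | ⟨hJ, hfin⟩
  · have hn : ∀ (i : ℕ) (x : M), x ∈ (J ^ i • ⊤ : Submodule A M) →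
        x - f x ∈ (J ^ (i + 1) • ⊤ : Submodule A M) := by
      intro i x hx
      induction hx using Submodule.smul_induction_on' with
      | smul a ha y _ =>
        rw [map_smul, ← smul_sub, pow_succ, Submodule.mul_smul]
        exact Submodule.smul_mem_smul ha (hf y)
      | add a _ b _ ha hb =>
        rw [map_add, add_sub_add_comm]
        exact add_mem ha hb
    refine ⟨(injective_iff_map_eq_zero f).2 fun x hx => ?_, fun y => ?_⟩
    · have : ∀ i, x ∈ (J ^ i • ⊤ : Submodule A M) := fun i => by
        induction i with
        | zero => simp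
        | succ i ih => simpa [hx] using hn i x ih
      simpa [hm] using this m
    · have : ∀ i, ∃ x, y - f x ∈ (J ^ i • ⊤ : Submodule A M) := fun i => by
        induction i with
        | zero => exact ⟨0, by simp⟩
        | succ i ih =>
          obtain ⟨x, hx⟩ := ih
          refine ⟨x + (y - f x), ?_⟩
          rw [map_add, show y - (f x + f (y - f x)) = (y - f x) - f (y - f x) by abel]
          exact hn i _ hx
      obtain ⟨x, hx⟩ := this m
      exact ⟨x, (sub_eq_zero.1 (by simpa [hm] using hx)).symm⟩
  · have hs : Function.Surjective f := by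
      rw [← LinearMap.range_eq_top, eq_top_iff]
      refine Submodule.le_of_le_smul_of_le_jacobson_bot Module.Finite.fg_top hJ fun x _ => ?_
      rw [show x = f x + (x - f x) by abel]
      exact Submodule.add_mem_sup ⟨x, rfl⟩ (hf x)
    exact ⟨OrzechProperty.injective_of_surjective_endomorphism f hs, hs⟩

/-- Let A be a ring, M, N two A-modules with N projective, u : M → N a homomorphism and J an ideal of A;
suppose either (i) J is nilpotent, or (ii) J is contained in the Jacobson radical of A and M is of
finite type. Then u is left invertible if and only if the induced map u₀ : M/JM → N/JN is left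
invertible. (A left inverse of u₀ composed with N → N/JN is an A-linear map v : N → M/JM with v ∘ u
the projection, and conversely; the right-hand side is written in that form.) -/
theorem result {A : Type u} [CommRing A] {M N : Type u} [AddCommGroup M] [Module A M]
    [AddCommGroup N] [Module A N] [Module.Projective A N] (u : M →ₗ[A] N) (J : Ideal A)
    (hJ : IsNilpotent J ∨ (J ≤ (⊥ : Ideal A).jacobson ∧ Module.Finite A M)) :
    (∃ w : N →ₗ[A] M, w ∘ₗ u = LinearMap.id) ↔
      ∃ v : N →ₗ[A] M ⧸ (J • ⊤ : Submodule A M), v ∘ₗ u = (J • ⊤ : Submodule A M).mkQ := by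
  refine ⟨fun ⟨w, hw⟩ => ⟨(J • ⊤ : Submodule A M).mkQ ∘ₗ w, by rw [LinearMap.comp_assoc, hw, LinearMap.comp_id]⟩,
    fun ⟨v, hv⟩ => ?_⟩
  obtain ⟨w₀, hw₀⟩ := Module.projective_lifting_property (J • ⊤ : Submodule A M).mkQ v
    (Submodule.mkQ_surjective _)
  have hb : Function.Bijective (w₀ ∘ₗ u) := bijective_of_sub_mem _ J hJ fun x => by
    rw [← Submodule.Quotient.eq]
    exact ((LinearMap.congr_fun hw₀ (u x)).trans (LinearMap.congr_fun hv x)).symm
  refine ⟨(LinearEquiv.ofBijective _ hb).symm.toLinearMap ∘ₗ w₀, LinearMap.ext fun x => ?_⟩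
  exact (LinearEquiv.ofBijective _ hb).symm_apply_apply x

end Groth.Agent.S4529
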