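import Groth.Statements.S4530

import Groth.Agent.SplitLocLib
-- import your own Groth.Agent.* helpers here

set_option autoImplicit false
universe u
open EGA41

namespace Groth.Agent.S4530

open TensorProduct in
/-- Let A be a ring, M an A-module of finite type, N a projective A-module, u : M → N a homomorphism.
For a prime ideal 𝔭 the following are equivalent: (a) u_𝔭 : M_𝔭 → N_𝔭 is left invertible; (b) u ⊗ 1
: M ⊗ k(𝔭) → N ⊗ k(𝔭) is injective; (d) there is f ∉ 𝔭 with u_f : M_f → N_f left invertible.
Moreover the set of such 𝔭 is open in Spec A. (The published statement also has a determinant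
criterion (c); this row omits it.) -/
theorem result {A : Type u} [CommRing A] {M N : Type u} [AddCommGroup M] [Module A M]
    [Module.Finite A M] [AddCommGroup N] [Module A N] [Module.Projective A N] (u : M →ₗ[A] N) :
    (∀ p : PrimeSpectrum A,
      [∃ w : LocalizedModule p.asIdeal.primeCompl N →ₗ[A] LocalizedModule p.asIdeal.primeCompl M,
          w ∘ₗ LocalizedModule.map p.asIdeal.primeCompl u = LinearMap.id,
       Function.Injective (u.lTensor p.asIdeal.ResidueField),
       ∃ f : A, f ∉ p.asIdeal ∧
          ∃ w : LocalizedModule (Submonoid.powers f) N →ₗ[A] LocalizedModule (Submonoid.powers f) M,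
            w ∘ₗ LocalizedModule.map (Submonoid.powers f) u = LinearMap.id].TFAE) ∧
    IsOpen {p : PrimeSpectrum A |
      ∃ w : LocalizedModule p.asIdeal.primeCompl N →ₗ[A] LocalizedModule p.asIdeal.primeCompl M,
        w ∘ₗ LocalizedModule.map p.asIdeal.primeCompl u = LinearMap.id} := by
  have key : ∀ p : PrimeSpectrum A, ∀ f ∉ p.asIdeal, ∀ w : N →ₗ[A] M,
      (∀ m, w (u m) = f • m) → ∀ S : Submonoid A, f ∈ S →
      ∃ W : LocalizedModule S N →ₗ[A] LocalizedModule S M,
          W ∘ₗ LocalizedModule.map S u = LinearMap.id := by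
    intro p f _ w hw S hfS
    refine ⟨(Localization.mk 1 ⟨f, hfS⟩ : Localization S) • (LocalizedModule.map S w).restrictScalars A, ?_⟩
    refine LinearMap.ext fun x => ?_
    induction x using LocalizedModule.induction_on with
    | h m s =>
      simp [hw, LocalizedModule.mk_smul_mk, LocalizedModule.smul'_mk]
      refine LocalizedModule.mk_eq.2 ⟨1, ?_⟩
      simp [Submonoid.smul_def, smul_smul, mul_comm]
  have hab : ∀ p : PrimeSpectrum A, ∀ S : Submonoid A, S ≤ p.asIdeal.primeCompl →
      (∃ W : LocalizedModule S N →ₗ[A] LocalizedModule S M,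
          W ∘ₗ LocalizedModule.map S u = LinearMap.id) →
      Function.Injective (u.lTensor p.asIdeal.ResidueField) := fun p S hS ⟨W, hW⟩ =>
    SplitLocLib.injective_lTensor_of_leftInverse S p.asIdeal hS u W fun x => LinearMap.congr_fun hW x
  refine ⟨fun p => ?_, ?_⟩
  · tfae_have 1 → 2 := hab p _ le_rfl
    tfae_have 2 → 3 := fun h => by
      obtain ⟨f, hf, w, hw⟩ := SplitLocLib.exists_smul_leftInverse p.asIdeal u h
      exact ⟨f, hf, key p f hf w hw _ (Submonoid.mem_powers f)⟩
    tfae_have 3 → 1 := fun ⟨f, hf, hW⟩ => by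
      obtain ⟨g, hg, w, hw⟩ := SplitLocLib.exists_smul_leftInverse p.asIdeal u
        (hab p _ (Submonoid.powers_le.2 hf) hW)
      exact key p g hg w hw _ hg
    tfae_finish
  · refine isOpen_iff_forall_mem_open.2 fun p hp => ?_
    obtain ⟨f, hf, w, hw⟩ := SplitLocLib.exists_smul_leftInverse p.asIdeal u (hab p _ le_rfl hp)
    exact ⟨PrimeSpectrum.basicOpen f, fun q hq => key q f hq w hw _ hq,
      (PrimeSpectrum.basicOpen f).isOpen, hf⟩

end Groth.Agent.S4530
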