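import Groth.Statements.S4531
import Groth.Agent.SplitLocLib
import Mathlib.RingTheory.Flat.FaithfullyFlat.Basic

set_option autoImplicit false
universe u
open EGA41

namespace Groth.Agent.S4531

open TensorProduct in
/-- Let A be a ring, M an A-module of finite type, N a projective A-module and u : M → N a homomorphism.
(i) u is left invertible if and only if u_𝔪 : M_𝔪 → N_𝔪 is left invertible for every maximal ideal 𝔪
of A. (ii) If A' is an A-algebra which is a faithfully flat A-module, u is left invertible if and
only if u ⊗ 1 : M ⊗_A A' → N ⊗_A A' is left invertible (as an A'-linear map). -/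
theorem result {A : Type u} [CommRing A] {M N : Type u} [AddCommGroup M] [Module A M]
    [Module.Finite A M] [AddCommGroup N] [Module A N] [Module.Projective A N] (u : M →ₗ[A] N) :
    ((∃ w : N →ₗ[A] M, w ∘ₗ u = LinearMap.id) ↔
      ∀ (m : Ideal A) [m.IsMaximal],
        ∃ w : LocalizedModule m.primeCompl N →ₗ[A] LocalizedModule m.primeCompl M,
          w ∘ₗ LocalizedModule.map m.primeCompl u = LinearMap.id) ∧
    ∀ (A' : Type u) [CommRing A'] [Algebra A A'] [Module.FaithfullyFlat A A'],
      (∃ w : N →ₗ[A] M, w ∘ₗ u = LinearMap.id) ↔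
        ∃ w : A' ⊗[A] N →ₗ[A'] A' ⊗[A] M, w ∘ₗ u.baseChange A' = LinearMap.id := by
  have key : (∀ (m : Ideal A) [m.IsMaximal], Function.Injective (u.lTensor m.ResidueField)) →
      ∃ w : N →ₗ[A] M, w ∘ₗ u = LinearMap.id := by
    intro h
    let J : Ideal A :=
      { carrier := {f | ∃ w : N →ₗ[A] M, ∀ x, w (u x) = f • x}
        add_mem' := by
          rintro a b ⟨v, hv⟩ ⟨w, hw⟩
          exact ⟨v + w, fun x => by simp [hv, hw, add_smul]⟩
        zero_mem' := ⟨0, by simp⟩
        smul_mem' := by
          rintro c a ⟨v, hv⟩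
          exact ⟨c • v, fun x => by simp [hv, mul_smul]⟩ }
    obtain ⟨w, hw⟩ : (1 : A) ∈ J := by
      rw [← Ideal.eq_top_iff_one]
      by_contra hne
      obtain ⟨m, hm, hJm⟩ := Ideal.exists_le_maximal J hne
      obtain ⟨f, hf, w, hw⟩ := SplitLocLib.exists_smul_leftInverse m u (h m)
      exact hf (hJm ⟨w, hw⟩)
    exact ⟨w, LinearMap.ext fun x => by rw [LinearMap.comp_apply, hw, one_smul, LinearMap.id_apply]⟩
  refine ⟨⟨?_, fun h => key fun m _ => ?_⟩, fun A' _ _ _ => ⟨?_, fun h => key fun m _ => ?_⟩⟩
  · rintro ⟨w, hw⟩ m _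
    refine ⟨(LocalizedModule.map m.primeCompl w).restrictScalars A, LinearMap.ext fun x => ?_⟩
    induction x using LocalizedModule.induction_on with
    | h a s => simp [show w (u a) = a from LinearMap.congr_fun hw a]
  · obtain ⟨w, hw⟩ := h m
    exact SplitLocLib.injective_lTensor_of_leftInverse m.primeCompl m le_rfl u w fun x => LinearMap.congr_fun hw x
  · rintro ⟨w, hw⟩
    exact ⟨w.baseChange A', by rw [← LinearMap.baseChange_comp, hw, LinearMap.baseChange_id]⟩
  · obtain ⟨w, hw⟩ := h
    refine (Module.FaithfullyFlat.lTensor_injective_iff_injective A A' (u.lTensor m.ResidueField)).1 ?_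
    intro x y hxy
    let eM : A' ⊗[A] (m.ResidueField ⊗[A] M) ≃ₗ[A] m.ResidueField ⊗[A] (A' ⊗[A] M) := TensorProduct.leftComm A _ _ _
    let eN : A' ⊗[A] (m.ResidueField ⊗[A] N) ≃ₗ[A] m.ResidueField ⊗[A] (A' ⊗[A] N) := TensorProduct.leftComm A _ _ _
    have hnat : (eN.toLinearMap ∘ₗ (u.lTensor m.ResidueField).lTensor A') =
        ((u.baseChange A').restrictScalars A).lTensor m.ResidueField ∘ₗ eM.toLinearMap :=
      TensorProduct.ext' fun a t => by
        induction t using TensorProduct.induction_on with
        | zero => simp [TensorProduct.tmul_zero]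
        | add p q hp hq => simp only [TensorProduct.tmul_add, map_add, hp, hq]
        | tmul c z => simp [eM, eN]
    have hl : ∀ z, (w.restrictScalars A).lTensor m.ResidueField
        (((u.baseChange A').restrictScalars A).lTensor m.ResidueField z) = z := fun z => by
      rw [← LinearMap.comp_apply, ← LinearMap.lTensor_comp,
        show (w.restrictScalars A) ∘ₗ ((u.baseChange A').restrictScalars A) = LinearMap.id from
          LinearMap.ext fun t => LinearMap.congr_fun hw t, LinearMap.lTensor_id, LinearMap.id_apply]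
    apply eM.injective
    rw [← hl (eM x), ← hl (eM y)]
    congr 1
    have h1 := LinearMap.congr_fun hnat x
    have h2 := LinearMap.congr_fun hnat y
    simp only [LinearMap.comp_apply, LinearEquiv.coe_coe] at h1 h2
    rw [← h1, ← h2, hxy]

end Groth.Agent.S4531
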