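import Groth.Statements.S4533
import Groth.Agent.CohenLib.FSAdic

set_option autoImplicit false
universe u
open EGA41

namespace Groth.Agent.S4533

/-- Let A carry the 𝔞-adic topology and let B = A[[T_1, …, T_n]] carry the product topology, i.e. the
adic topology of the ideal 𝔞B + (T_1, …, T_n) (the kernel of the constant-coefficient map added to
the extension of 𝔞). Then B is a formally smooth A-algebra for these topologies. (The published
statement allows any linearly topologized base ring and any set of indeterminates with the product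
topology; this row takes an adic base and finitely many indeterminates, where the product topology
is adic.) -/
theorem result (A : Type u) [CommRing A] (𝔞 : Ideal A) (n : ℕ) :
    EGA41.IsFormallySmoothAdic A 𝔞 (MvPowerSeries (Fin n) A)
      (𝔞.map (MvPowerSeries.C : A →+* MvPowerSeries (Fin n) A) ⊔
        RingHom.ker (MvPowerSeries.constantCoeff : MvPowerSeries (Fin n) A →+* A)) := by
  intro C _ _ J hJ _ u hu
  obtain ⟨k, hk⟩ := hu
  obtain ⟨N, hN⟩ := hJ
  rw [CohenLib.ker_constantCoeff] at hk
  choose y hy using fun i => Ideal.Quotient.mk_surjective (u (MvPowerSeries.X i))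
  let I : Ideal C := Ideal.span (Set.range y)
  have hI : IsNilpotent I := by
    refine (Ideal.FG.isNilpotent_iff_le_nilradical (Submodule.fg_span (Set.finite_range y))).2 ?_
    rw [Ideal.span_le]
    rintro _ ⟨i, rfl⟩
    refine mem_nilradical.2 ⟨k * N, ?_⟩
    have h1 : y i ^ k ∈ J := by
      rw [← Ideal.Quotient.eq_zero_iff_mem, map_pow, hy, ← map_pow]
      exact hk _ (Ideal.pow_mem_pow (Submodule.mem_sup_right (Ideal.subset_span (Set.mem_range_self (f := (MvPowerSeries.X : Fin n → MvPowerSeries (Fin n) A)) i))) k)
    have h2 := Ideal.pow_mem_pow h1 N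
    rw [hN, Ideal.zero_eq_bot, Ideal.mem_bot, ← pow_mul] at h2
    exact h2
  have := CohenLib.isAdicComplete_of_isNilpotent I hI
  let χ := CohenLib.psHom I (algebraMap A C) y fun i => Ideal.subset_span ⟨i, rfl⟩
  obtain ⟨M, hM⟩ := hI
  refine ⟨{ χ with commutes' := fun a => ?_ }, ?_⟩
  · show χ (algebraMap A _ a) = _
    rw [MvPowerSeries.algebraMap_apply, CohenLib.psHom_C]
    simp
  have heq : (Ideal.Quotient.mk J).comp χ = u.toRingHom := by
    refine CohenLib.ps_hom_ext _ _ (fun c => ?_) (fun i => ?_) (M + k) (fun f hf => ?_) fun f hf => ?_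
    · rw [RingHom.comp_apply, CohenLib.psHom_C]
      have h1 := u.commutes c
      rw [MvPowerSeries.algebraMap_apply] at h1
      exact h1.symm
    · rw [RingHom.comp_apply, CohenLib.psHom_X, hy]
      rfl
    · have h2 : (CohenLib.varsIdeal A n).map χ ≤ I := by
        rw [CohenLib.varsIdeal, Ideal.map_span χ, Ideal.span_le]
        rintro _ ⟨_, ⟨i, rfl⟩, rfl⟩
        show χ _ ∈ I
        rw [CohenLib.psHom_X]
        exact Ideal.subset_span ⟨i, rfl⟩
      have h3 := Ideal.pow_right_mono h2 (M + k)
      rw [← Ideal.map_pow, pow_add I, hM, zero_mul] at h3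
      have h4 : χ f = 0 := h3 (Ideal.mem_map_of_mem χ hf)
      rw [RingHom.comp_apply, h4, map_zero]
    · exact hk f (Ideal.pow_le_pow_right (Nat.le_add_left k M) (Ideal.pow_right_mono le_sup_right _ hf))
  exact AlgHom.ext fun f => RingHom.congr_fun heq f

end Groth.Agent.S4533
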