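import Groth.Statements.S4534
import Groth.Agent.CohenLib.FSAdic

set_option autoImplicit false
universe u
open EGA41

namespace Groth.Agent.S4534

/-- Let A → B → C be continuous homomorphisms of adic rings (A with the 𝔞-adic, B the 𝔟-adic, C the
𝔠-adic topology; continuity: a power of 𝔞 maps into 𝔟 and a power of 𝔟 into 𝔠). If B is formally
smooth over A and C formally smooth over B, then C is formally smooth over A. -/
theorem result {A B C : Type u} [CommRing A] [CommRing B] [CommRing C] [Algebra A B] [Algebra B C]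
    [Algebra A C] [IsScalarTower A B C] (𝔞 : Ideal A) (𝔟 : Ideal B) (𝔠 : Ideal C)
    (hAB : ∃ k : ℕ, (𝔞 ^ k).map (algebraMap A B) ≤ 𝔟) (hBC : ∃ k : ℕ, (𝔟 ^ k).map (algebraMap B C) ≤ 𝔠)
    (hB : EGA41.IsFormallySmoothAdic A 𝔞 B 𝔟) (hC : EGA41.IsFormallySmoothAdic B 𝔟 C 𝔠) :
    EGA41.IsFormallySmoothAdic A 𝔞 C 𝔠 := by
  intro C' _ _ J hJ hk u hu
  obtain ⟨kb, hkb⟩ := hBC
  obtain ⟨ku, hku⟩ := hu
  let u₁ : B →ₐ[A] C' ⧸ J := u.comp (IsScalarTower.toAlgHom A B C)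
  have hu₁ : ∀ x ∈ 𝔟 ^ (kb * ku), u₁ x = 0 := fun x hx => by
    refine hku _ ?_
    rw [pow_mul] at hx
    have h1 := Ideal.mem_map_of_mem (algebraMap B C) hx
    rw [Ideal.map_pow] at h1
    exact Ideal.pow_right_mono hkb ku h1
  obtain ⟨v₁, hv₁⟩ := hB C' J hJ hk u₁ ⟨_, hu₁⟩
  obtain ⟨N, hN⟩ := hJ
  let _ : Algebra B C' := v₁.toRingHom.toAlgebra
  have : IsScalarTower A B C' := IsScalarTower.of_algebraMap_eq fun a => (v₁.commutes a).symm
  let u₂ : C →ₐ[B] C' ⧸ J := { u.toRingHom with commutes' := fun b => (AlgHom.congr_fun hv₁ b).symm }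
  have hk₂ : ∃ k : ℕ, (𝔟 ^ k).map (algebraMap B C') = ⊥ := by
    refine ⟨kb * ku * N, ?_⟩
    have h1 : (𝔟 ^ (kb * ku)).map (algebraMap B C') ≤ J := Ideal.map_le_iff_le_comap.2 fun y hy => by
      refine (Ideal.Quotient.eq_zero_iff_mem (I := J)).1 ((AlgHom.congr_fun hv₁ y).trans (hu₁ y hy))
    have h2 := Ideal.pow_right_mono h1 N
    rw [← Ideal.map_pow, ← pow_mul, hN, Ideal.zero_eq_bot] at h2
    exact eq_bot_iff.2 h2
  obtain ⟨v₂, hv₂⟩ := hC C' J ⟨N, hN⟩ hk₂ u₂ ⟨ku, hku⟩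
  refine ⟨{ v₂.toRingHom with commutes' := fun a => ?_ }, AlgHom.ext fun c => AlgHom.congr_fun hv₂ c⟩
  show v₂ (algebraMap A C a) = _
  rw [IsScalarTower.algebraMap_apply A B C, AlgHom.commutes, ← IsScalarTower.algebraMap_apply]

end Groth.Agent.S4534
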