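import Groth.Statements.S4535
import Groth.Agent.CohenLib.FSAdic

set_option autoImplicit false
universe u
open EGA41

namespace Groth.Agent.S4535

open TensorProduct in
/-- Let B (𝔟-adic) be formally smooth over A (𝔞-adic) and let A' (𝔞'-adic) be a topological A-algebra (a
power of 𝔞 maps into 𝔞'). Then the A'-algebra A' ⊗_A B, with the tensor product topology, i.e. the
adic topology of the ideal generated by the images of 𝔞' and 𝔟, is formally smooth over A'. -/
theorem result {A B A' : Type u} [CommRing A] [CommRing B] [CommRing A'] [Algebra A B] [Algebra A A']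
    (𝔞 : Ideal A) (𝔟 : Ideal B) (𝔞' : Ideal A') (hAA' : ∃ k : ℕ, (𝔞 ^ k).map (algebraMap A A') ≤ 𝔞')
    (hB : EGA41.IsFormallySmoothAdic A 𝔞 B 𝔟) :
    EGA41.IsFormallySmoothAdic A' 𝔞' (A' ⊗[A] B)
      (𝔞'.map (algebraMap A' (A' ⊗[A] B)) ⊔
        𝔟.map (Algebra.TensorProduct.includeRight : B →ₐ[A] A' ⊗[A] B).toRingHom) := by
  intro C _ _ J hJ hk u hu
  obtain ⟨k', hk'⟩ := hk
  obtain ⟨ka, hka⟩ := hAA'
  obtain ⟨ku, hku⟩ := hu
  let _ : Algebra A C := ((algebraMap A' C).comp (algebraMap A A')).toAlgebra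
  have : IsScalarTower A A' C := IsScalarTower.of_algebraMap_eq fun _ => rfl
  have hk : ∃ k : ℕ, (𝔞 ^ k).map (algebraMap A C) = ⊥ := by
    refine ⟨ka * k', ?_⟩
    rw [IsScalarTower.algebraMap_eq A A' C, ← Ideal.map_map, pow_mul, Ideal.map_pow]
    exact eq_bot_mono (Ideal.map_mono (Ideal.pow_right_mono hka k')) hk'
  obtain ⟨v, hv⟩ := hB C J hJ hk
    ((u.restrictScalars A).comp Algebra.TensorProduct.includeRight) ⟨ku, fun x hx => hku _ (by
      refine Ideal.pow_right_mono le_sup_right ku ?_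
      rw [← Ideal.map_pow]
      exact Ideal.mem_map_of_mem (Algebra.TensorProduct.includeRight : B →ₐ[A] TensorProduct A A' B).toRingHom hx)⟩
  refine ⟨Algebra.TensorProduct.lift (Algebra.ofId A' C) v (fun _ _ => Commute.all _ _), ?_⟩
  refine Algebra.TensorProduct.ext' fun a b => ?_
  have h1 := AlgHom.congr_fun hv b
  show Ideal.Quotient.mk J (Algebra.TensorProduct.lift (Algebra.ofId A' C) v (fun _ _ => Commute.all _ _) (a ⊗ₜ[A] b)) = _
  rw [Algebra.TensorProduct.lift_tmul, map_mul, show Ideal.Quotient.mk J (v b) = u ((1 : A') ⊗ₜ[A] b) from h1]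
  rw [show u (a ⊗ₜ[A] b) = u (a • ((1 : A') ⊗ₜ[A] b)) by rw [TensorProduct.smul_tmul', smul_eq_mul, mul_one],
    map_smul, Algebra.smul_def]
  rfl

end Groth.Agent.S4535
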