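import Groth.Statements.S4536
import Groth.Agent.CohenLib.FSAdic
import Mathlib.RingTheory.Ideal.Over

set_option autoImplicit false
universe u
open EGA41

namespace Groth.Agent.S4536

/-- Let A carry the 𝔞-adic and B the 𝔟-adic topology, A → B being continuous (a power of 𝔞 maps into 𝔟).
Then B is formally smooth over A if and only if for every n the (A/𝔞ⁿ)-algebra B/𝔞ⁿB, with the adic
topology of the image of 𝔟, is formally smooth over the discrete ring A/𝔞ⁿ. -/
theorem result {A B : Type u} [CommRing A] [CommRing B] [Algebra A B]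
    (𝔞 : Ideal A) (𝔟 : Ideal B) (hAB : ∃ k : ℕ, (𝔞 ^ k).map (algebraMap A B) ≤ 𝔟) :
    EGA41.IsFormallySmoothAdic A 𝔞 B 𝔟 ↔
      ∀ n : ℕ, EGA41.IsFormallySmoothAdic (A ⧸ 𝔞 ^ n) ⊥ (B ⧸ (𝔞 ^ n).map (algebraMap A B))
        (𝔟.map (Ideal.Quotient.mk ((𝔞 ^ n).map (algebraMap A B)))) := by
  constructor
  · intro h n C _ _ J hJ _ u hu
    obtain ⟨ku, hku⟩ := hu
    let _ : Algebra A C := ((algebraMap (A ⧸ 𝔞 ^ n) C).comp (Ideal.Quotient.mk (𝔞 ^ n))).toAlgebra
    have : IsScalarTower A (A ⧸ 𝔞 ^ n) C := IsScalarTower.of_algebraMap_eq fun _ => rfl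
    have hk : ∃ k : ℕ, (𝔞 ^ k).map (algebraMap A C) = ⊥ := ⟨n, by
      rw [show algebraMap A C = (algebraMap (A ⧸ 𝔞 ^ n) C).comp (Ideal.Quotient.mk (𝔞 ^ n)) from rfl,
        ← Ideal.map_map, Ideal.map_quotient_self, Ideal.map_bot]⟩
    obtain ⟨v, hv⟩ := h C J hJ hk ((u.restrictScalars A).comp (Ideal.Quotient.mkₐ A _))
      ⟨ku, fun x hx => hku _ (by rw [← Ideal.map_pow]; exact Ideal.mem_map_of_mem _ hx)⟩
    have hv0 : ∀ x ∈ (𝔞 ^ n).map (algebraMap A B), v x = 0 := by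
      suffices (𝔞 ^ n).map (algebraMap A B) ≤ RingHom.ker v.toRingHom from fun x hx => this hx
      rw [Ideal.map_le_iff_le_comap]
      intro a ha
      show v (algebraMap A B a) = 0
      rw [AlgHom.commutes]
      show algebraMap (A ⧸ 𝔞 ^ n) C (Ideal.Quotient.mk _ a) = 0
      rw [Ideal.Quotient.eq_zero_iff_mem.2 ha, map_zero]
    refine ⟨{ Ideal.Quotient.lift _ v.toRingHom hv0 with commutes' := fun a => ?_ }, ?_⟩
    · obtain ⟨a, rfl⟩ := Ideal.Quotient.mk_surjective a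
      exact v.commutes a
    · refine AlgHom.ext fun x => ?_
      obtain ⟨x, rfl⟩ := Ideal.Quotient.mk_surjective x
      exact AlgHom.congr_fun hv x
  · intro h C _ _ J hJ hk u hu
    obtain ⟨k, hk⟩ := hk
    obtain ⟨ku, hku⟩ := hu
    have hk0 : ∀ a ∈ 𝔞 ^ k, algebraMap A C a = 0 := fun a ha => by
      have h1 := Ideal.mem_map_of_mem (algebraMap A C) ha
      rwa [hk, Ideal.mem_bot] at h1
    let _ : Algebra (A ⧸ 𝔞 ^ k) C := (Ideal.Quotient.lift _ (algebraMap A C) hk0).toAlgebra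
    have hu0 : ∀ x ∈ (𝔞 ^ k).map (algebraMap A B), u x = 0 := by
      suffices (𝔞 ^ k).map (algebraMap A B) ≤ RingHom.ker u.toRingHom from fun x hx => this hx
      rw [Ideal.map_le_iff_le_comap]
      intro a ha
      show u (algebraMap A B a) = 0
      rw [AlgHom.commutes, IsScalarTower.algebraMap_apply A C (C ⧸ J), hk0 a ha, map_zero]
    let ub : B ⧸ (𝔞 ^ k).map (algebraMap A B) →ₐ[A ⧸ 𝔞 ^ k] C ⧸ J :=
      { Ideal.Quotient.lift _ u.toRingHom hu0 with
        commutes' := fun a => by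
          obtain ⟨a, rfl⟩ := Ideal.Quotient.mk_surjective a
          exact u.commutes a }
    obtain ⟨v, hv⟩ := h k C J hJ ⟨1, by simp⟩ ub ⟨ku, fun x hx => by
      rw [← Ideal.map_pow] at hx
      obtain ⟨y, hy, rfl⟩ := (Ideal.mem_map_iff_of_surjective _ Ideal.Quotient.mk_surjective).1 hx
      exact hku y hy⟩
    refine ⟨{ v.toRingHom.comp (Ideal.Quotient.mk _) with commutes' := fun a => ?_ },
      AlgHom.ext fun x => AlgHom.congr_fun hv (Ideal.Quotient.mk _ x)⟩
    exact v.commutes (Ideal.Quotient.mk _ a)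

end Groth.Agent.S4536
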