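import Groth.Statements.S4539
import Groth.Agent.CohenLib.Structure
import Groth.Agent.CommAlgDim.Regular
import Mathlib.RingTheory.Nilpotent.GeometricallyReduced
import Mathlib.RingTheory.Unramified.Field
import Mathlib.RingTheory.Flat.Basic
import Mathlib.FieldTheory.Perfect
import Mathlib.RingTheory.DedekindDomain.PID
import Mathlib.RingTheory.Flat.TorsionFree
import Mathlib.RingTheory.DiscreteValuationRing.TFAE

set_option autoImplicit false
universe u
open EGA41

namespace Groth.Agent.S4539

open IsLocalRing in
/-- Let A be a local ring with residue characteristic p (p = 0 or a prime), P the prime local ring ℤ_(p)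
(ℚ if p = 0) and P → A its unique local homomorphism. Then A is a Cohen ring, i.e. a Cohen P-algebra
— Noetherian and complete, flat over P, with pA its maximal ideal (and residue field separable over
the prime field) — if and only if A is a field of characteristic 0 or a complete discrete valuation
ring of residue characteristic > 0 whose maximal ideal is generated by p·1. -/
theorem result (p : ℕ) [hp : (Ideal.span {(p : ℤ)}).IsPrime]
    {A : Type} [CommRing A] [IsLocalRing A] [CharP (ResidueField A) p]
    [Algebra (Localization.AtPrime (Ideal.span {(p : ℤ)})) A]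
    [IsLocalHom (algebraMap (Localization.AtPrime (Ideal.span {(p : ℤ)})) A)] :
    EGA41.IsCohenAlgebra (Localization.AtPrime (Ideal.span {(p : ℤ)})) A ↔ EGA41.IsCohenRingEGA A := by
  open IsLocalRing in
  let P := Localization.AtPrime (Ideal.span {(p : ℤ)})
  have hPm : maximalIdeal P = Ideal.span {(p : P)} := by
    rw [← Localization.AtPrime.map_eq_maximalIdeal, Ideal.map_span, Set.image_singleton, map_natCast]
  have hmap : (maximalIdeal P).map (algebraMap P A) = Ideal.span {(p : A)} := by
    rw [hPm, Ideal.map_span, Set.image_singleton, map_natCast]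
  have : IsDomain P := IsLocalization.isDomain_of_atPrime P (Ideal.span {(p : ℤ)})
  have hNP : IsNoetherianRing P :=
    IsLocalization.isNoetherianRing (Ideal.span {(p : ℤ)}).primeCompl P inferInstance
  have : CharP (ResidueField P) p :=
    RingHom.charP (ResidueField.map (algebraMap P A)) (RingHom.injective _) p
  have hperf : PerfectField (ResidueField P) := by
    rcases CharP.char_is_prime_or_zero (ResidueField P) p with hp' | hp'
    · have : Fact p.Prime := ⟨hp'⟩
      have hsur : Function.Surjective (ZMod.castHom (dvd_refl p) (ResidueField P)) := by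
        intro z
        obtain ⟨z, rfl⟩ := residue_surjective z
        obtain ⟨⟨a, s⟩, rfl⟩ := IsLocalization.mk'_surjective (Ideal.span {(p : ℤ)}).primeCompl z
        refine ⟨(a : ZMod p) * (s.1 : ZMod p)⁻¹, ?_⟩
        have hs : (s.1 : ZMod p) ≠ 0 := fun h0 => s.2
          (Ideal.mem_span_singleton.2 ((ZMod.intCast_zmod_eq_zero_iff_dvd _ _).1 h0))
        rw [map_mul, map_inv₀, map_intCast, map_intCast]
        have hs' : ((s.1 : ℤ) : ResidueField P) ≠ 0 := by
          rw [← map_intCast (ZMod.castHom (dvd_refl p) (ResidueField P))]
          exact (map_ne_zero _).2 hs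
        rw [← div_eq_mul_inv, div_eq_iff hs', ← map_intCast (residue P), ← map_intCast (residue P),
          ← map_mul, ← eq_intCast (algebraMap ℤ P), ← eq_intCast (algebraMap ℤ P),
          IsLocalization.mk'_spec]
      have : Finite (ResidueField P) := Finite.of_surjective _ hsur
      exact PerfectField.ofFinite
    · subst hp'
      have : CharZero (ResidueField P) := CharP.charP_to_charZero _
      exact inferInstance
  have hgr : Algebra.IsGeometricallyReduced (ResidueField P) (ResidueField A) := by
    rw [Algebra.isGeometricallyReduced_field_iff]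
    let k := ResidueField P
    let K := ResidueField A
    suffices IsReduced (TensorProduct k K (AlgebraicClosure k)) from
      isReduced_of_injective (Algebra.TensorProduct.comm k (AlgebraicClosure k) K).toRingEquiv.toRingHom
        (Algebra.TensorProduct.comm k (AlgebraicClosure k) K).injective
    refine IsReduced.tensorProduct_of_flat_of_forall_fg fun B hB => ?_
    have : Algebra.IsAlgebraic k B := Algebra.IsAlgebraic.of_injective B.val Subtype.val_injective
    have hBf : IsField B := Algebra.IsIntegral.isField_iff_isField (R := k) (S := B)
      (algebraMap k B).injective |>.1 (Field.toIsField k)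
    let _ : Field B := hBf.toField
    have : Algebra.FiniteType k B := (Subalgebra.fg_iff_finiteType B).1 hB
    have : Algebra.IsSeparable k B := Algebra.IsAlgebraic.isSeparable_of_perfectField
    have : Algebra.FormallyUnramified k B := Algebra.FormallyUnramified.of_isSeparable k B
    exact Algebra.FormallyUnramified.isReduced_of_field K (TensorProduct k K B)
  constructor
  · rintro ⟨-, hNA, hc, hflat, hm, -⟩
    rw [hmap] at hm
    rcases Nat.eq_zero_or_pos p with hp0 | hp0
    · subst hp0
      rw [Nat.cast_zero, Ideal.span_singleton_eq_bot.2 rfl] at hm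
      refine .inl ⟨IsLocalRing.isField_iff_maximalIdeal_eq.2 hm.symm, ?_⟩
      have : CharZero (ResidueField A) := CharP.charP_to_charZero _
      exact (residue A).charZero
    · have hp' : p.Prime := (CharP.char_is_prime_or_zero (ResidueField A) p).resolve_right hp0.ne'
      have hpA : IsSMulRegular A (p : A) := by
        have hne : (p : P) ≠ 0 := by
          rw [← map_natCast (algebraMap ℤ P)]
          rw [ne_eq, map_eq_zero_iff _ (IsLocalization.injective P
            (Ideal.primeCompl_le_nonZeroDivisors (Ideal.span {(p : ℤ)})))]
          exact_mod_cast hp0.ne'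
        have h1 := Module.Flat.isSMulRegular_of_nonZeroDivisors (M := A) (mem_nonZeroDivisors_of_ne_zero hne)
        intro a b hab
        refine h1 ?_
        show (p : P) • a = (p : P) • b
        rw [Algebra.smul_def, Algebra.smul_def, map_natCast]
        exact hab
      have hne : (p : A) ∈ maximalIdeal A := hm ▸ Ideal.mem_span_singleton_self _
      have hreg : IsRegularLocalRing A := by
        refine IsRegularLocalRing.of_spanFinrank_maximalIdeal_le _ ?_
        have h1 := ringKrullDim_quotient_span_singleton_succ_eq_ringKrullDim hpA hne
        rw [← h1, ← hm]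
        have : Nontrivial (A ⧸ Ideal.span {(p : A)}) :=
          CommAlgDim.nontrivial_quotient (CommAlgDim.singleton_ne_top hne)
        refine le_trans (WithBot.coe_le_coe.2 (Nat.cast_le.2
          ((Submodule.spanFinrank_span_le_ncard_of_finite (Set.finite_singleton _)).trans
            (Set.ncard_singleton (p : A)).le))) ?_
        calc ((1 : ℕ) : WithBot ℕ∞) = 0 + 1 := by simp
          _ ≤ _ := add_le_add_left ringKrullDim_nonneg_of_nontrivial 1
      have := CommAlgDim.isDomain_of_isRegularLocalRing A
      have hnf : ¬ IsField A := fun hF => by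
        have hb := IsLocalRing.isField_iff_maximalIdeal_eq.1 hF
        rw [← hm, Ideal.span_singleton_eq_bot] at hb
        exact one_ne_zero (hpA (show (p : A) • (1 : A) = (p : A) • 0 by rw [hb, zero_smul, zero_smul]))
      exact .inr ⟨inferInstance, ((IsDiscreteValuationRing.TFAE A hnf).out 0 4).2 (by exact ⟨⟨(p : A), hm.symm⟩⟩),
        hc, p, hp', hm.symm⟩
  · rintro (⟨hF, h0⟩ | hC)
    · let _ : Field A := hF.toField
      have : CharZero (ResidueField A) := charZero_of_injective_ringHom (residue A).injective
      obtain rfl : p = 0 := CharP.eq (ResidueField A) inferInstance (CharP.ofCharZero _)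
      have hm0 : maximalIdeal A = ⊥ := IsLocalRing.isField_iff_maximalIdeal_eq.1 hF
      have hP0 : maximalIdeal P = ⊥ := by
        rw [hPm]
        exact Ideal.span_singleton_eq_bot.2 Nat.cast_zero
      let _ : Field P := (IsLocalRing.isField_iff_maximalIdeal_eq.2 hP0).toField
      refine ⟨hNP, inferInstance, ?_, inferInstance, ?_, hgr⟩
      · rw [hm0]
        exact CohenLib.isAdicComplete_of_isNilpotent ⊥ ⟨1, pow_one _⟩
      · rw [hmap, hm0, Nat.cast_zero, Ideal.span_singleton_eq_bot.2 rfl]
    · obtain ⟨q, hq, hm, hc, hdom, hcz, hN, hres, -⟩ := CohenLib.cohen_props hC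
      obtain rfl : q = p := by
        exact CharP.eq _ hres ‹CharP _ p›
      have : IsPrincipalIdealRing P :=
        ((tfae_of_isNoetherianRing_of_isLocalRing_of_isDomain (R := P)).out 0 4).2 (by exact ⟨⟨_, hPm⟩⟩)
      have hinj : Function.Injective (algebraMap P A) := by
        rw [injective_iff_map_eq_zero]
        intro z hz
        obtain ⟨⟨a, s⟩, rfl⟩ := IsLocalization.mk'_surjective (Ideal.span {(q : ℤ)}).primeCompl z
        have h1 := congrArg (algebraMap P A) (IsLocalization.mk'_spec P a s)
        rw [map_mul, hz, zero_mul, eq_intCast (algebraMap ℤ P), map_intCast] at h1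
        rw [IsLocalization.mk'_eq_zero_iff]
        exact ⟨1, by rw [Int.cast_eq_zero.1 h1.symm, mul_zero]⟩
      have : Module.IsTorsionFree P A := Module.isTorsionFree_iff_algebraMap_injective.2 hinj
      exact ⟨hNP, hN, hc, inferInstance, by rw [hmap, hm], hgr⟩

end Groth.Agent.S4539
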