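import Groth.Statements.S4541
import Mathlib
import Groth.Agent.PBasisLib.Basic

set_option autoImplicit false
universe u
open EGA41

namespace Groth.Agent.S4541

lemma exists_pow_eq_of_mem (p : ℕ) [Fact p.Prime] {A B : Type u} [CommRing A] [CharP A p] [PerfectRing A p]
    [CommRing B] [Algebra A B] [CharP B p] (c : EGA41.pPowerSubalgebra p A B) : ∃ b : B, b ^ p = c := by
  obtain ⟨c, hc⟩ := c
  induction hc using Algebra.adjoin_induction with
  | mem w hw => exact hw
  | algebraMap a =>
    obtain ⟨r, rfl⟩ := (PerfectRing.bijective_frobenius (R := A) (p := p)).2 a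
    exact ⟨algebraMap A B r, (map_pow _ _ _).symm⟩
  | add _ _ _ _ h1 h2 =>
    obtain ⟨b, hb⟩ := h1; obtain ⟨c, hc⟩ := h2
    exact ⟨b + c, by rw [add_pow_char (R := B) (p := p) b c, hb, hc]⟩
  | mul _ _ _ _ h1 h2 =>
    obtain ⟨b, hb⟩ := h1; obtain ⟨c, hc⟩ := h2
    exact ⟨b * c, by rw [mul_pow, hb, hc]⟩

lemma existsUnique_lift (p : ℕ) [Fact p.Prime] {A B : Type u} [CommRing A] [CharP A p] [PerfectRing A p]
    [CommRing B] [Algebra A B] [CharP B p] [IsReduced B] {ι : Type u} (x : ι → B) (hx : EGA41.IsPBasis p A x)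
    (E : Type u) [CommRing E] [Algebra A E] (R : Ideal E) (hR : R ^ 2 = ⊥) (v : B →ₐ[A] E ⧸ R) (z : ι → E)
    (hz : ∀ i, Ideal.Quotient.mk R (z i) = v (x i)) :
    ∃! w : B →ₐ[A] E, (Ideal.Quotient.mkₐ A R).comp w = v ∧ ∀ i, w (x i) = z i := by
  have hpE : (p : E) = 0 := by rw [← map_natCast (algebraMap A E), CharP.cast_eq_zero, map_zero]
  have hsub : ∀ a b : E, (a - b) ^ p = a ^ p - b ^ p := by
    intro a b
    rcases subsingleton_or_nontrivial E with h | h
    · exact Subsingleton.elim _ _
    · have := ((CharP.charP_iff_prime_eq_zero (Fact.out : p.Prime)).mpr hpE : CharP E p)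
      exact sub_pow_char (R := E) (p := p) a b
  have hadd : ∀ a b : E, (a + b) ^ p = a ^ p + b ^ p := fun a b => by
    have := hsub (a + b) b
    rw [add_sub_cancel_right] at this
    rw [this, sub_add_cancel]
  have hkill : ∀ a b : E, Ideal.Quotient.mk R a = Ideal.Quotient.mk R b → a ^ p = b ^ p := by
    intro a b hab
    have h0 : (a - b) ^ p = 0 := by
      have h1 := Ideal.pow_le_pow_right (I := R) (Fact.out : p.Prime).two_le
        (Ideal.pow_mem_pow (Ideal.Quotient.eq.mp hab) p)
      rwa [hR, Ideal.mem_bot] at h1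
    rwa [hsub, sub_eq_zero] at h0
  choose r hr using exists_pow_eq_of_mem (A := A) (B := B) p
  have hru : ∀ (c : EGA41.pPowerSubalgebra p A B) (b : B), b ^ p = c → r c = b := fun c b hb =>
    frobenius_inj B p (show (r c) ^ p = b ^ p by rw [hr, hb])
  let L : B → E := fun b => Function.surjInv Ideal.Quotient.mk_surjective (v b)
  have hL : ∀ b, Ideal.Quotient.mk R (L b) = v b := fun b =>
    Function.surjInv_eq Ideal.Quotient.mk_surjective (v b)
  let φ : EGA41.pPowerSubalgebra p A B →+* E :=
    { toFun := fun c => L (r c) ^ p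
      map_one' := by
        rw [hru 1 1 (by simp), hkill (L 1) 1 (by rw [hL, map_one, map_one]), one_pow]
      map_zero' := by
        rw [hru 0 0 (by simp [zero_pow (Fact.out : p.Prime).ne_zero]),
          hkill (L 0) 0 (by rw [hL, map_zero, map_zero]), zero_pow (Fact.out : p.Prime).ne_zero]
      map_mul' := fun c d => by
        rw [hru (c * d) (r c * r d) (by rw [mul_pow, hr, hr]; rfl), ← mul_pow]
        exact hkill _ _ (by rw [map_mul, hL, hL, hL, map_mul])
      map_add' := fun c d => by
        rw [hru (c + d) (r c + r d) (by rw [add_pow_char (R := B) (p := p), hr, hr]; rfl), ← hadd]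
        exact hkill _ _ (by rw [map_add, hL, hL, hL, map_add]) }
  have hφA : ∀ a, φ ⟨algebraMap A B a, Subalgebra.algebraMap_mem _ a⟩ = algebraMap A E a := by
    intro a
    obtain ⟨a', ha'⟩ := (PerfectRing.bijective_frobenius (R := A) (p := p)).2 a
    subst ha'
    show L (r _) ^ p = _
    rw [hru _ (algebraMap A B a') (map_pow _ _ _).symm]
    rw [show algebraMap A E (a' ^ p) = algebraMap A E a' ^ p from map_pow _ _ _]
    exact hkill _ _ (by rw [hL, AlgHom.commutes]; rfl)
  obtain ⟨w, ⟨hw1, hw2⟩, huniq⟩ := PBasisLib.existsUnique_ringHom p hx φ z (fun i => by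
    show z i ^ p = L (r _) ^ p
    rw [hru _ (x i) rfl]
    exact hkill _ _ (by rw [hL, hz]))
  let wA : B →ₐ[A] E := { w with commutes' := fun a => (hw1 ⟨_, Subalgebra.algebraMap_mem _ a⟩).trans (hφA a) }
  have hlift : ∀ b, Ideal.Quotient.mk R (w b) = v b := fun b => by
    refine RingHom.congr_fun (PBasisLib.ringHom_ext p hx.2 (f := (Ideal.Quotient.mk R).comp w) (g := v.toRingHom)
      (fun c => ?_) fun i => ?_) b
    · show Ideal.Quotient.mk R (w (c : B)) = v (c : B)
      rw [hw1]
      show Ideal.Quotient.mk R (L (r c) ^ p) = _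
      rw [map_pow, hL, ← map_pow, hr]
    · show Ideal.Quotient.mk R (w (x i)) = v (x i)
      rw [hw2, hz]
  refine ⟨wA, ⟨AlgHom.ext hlift, hw2⟩, fun w' hw' => AlgHom.ext fun b => ?_⟩
  refine RingHom.congr_fun (huniq w'.toRingHom ⟨fun c => ?_, hw'.2⟩) b
  show w' (c : B) = L (r c) ^ p
  rw [← hr c, map_pow]
  exact hkill _ _ (by rw [hL]; exact AlgHom.congr_fun hw'.1 (r c))


/-- Let p be a prime, A a perfect ring of characteristic p and B a reduced A-algebra of characteristic p
which admits a p-basis (x_α) over A. Then B is a formally smooth A-algebra (discrete topologies);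
more precisely, for every A-algebra E, every nilpotent ideal R of E, every A-algebra homomorphism v
: B → E/R and every family (z_α) of elements of E lifting the v(x_α), there is a unique A-algebra
homomorphism w : B → E lifting v with w(x_α) = z_α for all α. (The published statement assumes,
instead of A perfect and B reduced, that the canonical map A^(p) ⊗_A B → B^(p), a ⊗ b ↦ a b^p with
Frobenius-twisted structures, is injective; when A is perfect that condition says exactly that B is
reduced, which is the case stated here. The published statement also treats admissible topological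
E; only discrete E is stated.) -/
theorem result (p : ℕ) [Fact p.Prime] {A B : Type u} [CommRing A] [CharP A p]
    [PerfectRing A p] [CommRing B] [Algebra A B] [CharP B p] [IsReduced B]
    {ι : Type u} (x : ι → B) (hx : EGA41.IsPBasis p A x) :
    Algebra.FormallySmooth A B ∧
    ∀ (E : Type u) [CommRing E] [Algebra A E] (R : Ideal E), IsNilpotent R →
      ∀ (v : B →ₐ[A] E ⧸ R) (z : ι → E), (∀ i, Ideal.Quotient.mk R (z i) = v (x i)) →
        ∃! w : B →ₐ[A] E, (Ideal.Quotient.mkₐ A R).comp w = v ∧ ∀ i, w (x i) = z i := by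
  refine ⟨Algebra.FormallySmooth.of_comp_surjective fun E _ _ I hI v => ?_, ?_⟩
  · choose z hz using fun i => Ideal.Quotient.mk_surjective (v (x i))
    obtain ⟨w, ⟨hw, -⟩, -⟩ := existsUnique_lift p x hx E I hI v z hz
    exact ⟨w, hw⟩
  intro E _ instA R hR
  revert instA
  refine Ideal.IsNilpotent.induction_on (P := fun S _ R => ∀ [Algebra A S] (v : B →ₐ[A] S ⧸ R) (z : ι → S),
    (∀ i, Ideal.Quotient.mk R (z i) = v (x i)) →
      ∃! w : B →ₐ[A] S, (Ideal.Quotient.mkₐ A R).comp w = v ∧ ∀ i, w (x i) = z i) R hR ?_ ?_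
  · intro S _ I hI _ v z hz
    exact existsUnique_lift p x hx _ I hI v z hz
  · intro S _ I J hIJ hI hJ
    intro _ v z hz
    let e : ((S ⧸ I) ⧸ J.map (Ideal.Quotient.mk I)) ≃ₐ[A] S ⧸ J :=
      (DoubleQuot.quotQuotEquivQuotSupₐ A I J).trans (Ideal.quotientEquivAlgOfEq A (sup_eq_right.mpr hIJ))
    have he : ∀ t, e (Ideal.Quotient.mk _ (Ideal.Quotient.mk I t)) = Ideal.Quotient.mk J t := fun t => rfl
    obtain ⟨w₁, ⟨hw₁, hw₁x⟩, hw₁u⟩ := hJ (e.symm.toAlgHom.comp v) (fun i => Ideal.Quotient.mk I (z i))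
      (fun i => by
        show _ = e.symm (v (x i))
        rw [← hz i, ← he, AlgEquiv.symm_apply_apply])
    obtain ⟨w, ⟨hw, hwx⟩, hwu⟩ := hI w₁ z (fun i => (hw₁x i).symm)
    refine ⟨w, ⟨AlgHom.ext fun b => ?_, hwx⟩, fun w' hw' => hwu w' ⟨hw₁u _ ⟨AlgHom.ext fun b => ?_, fun i => ?_⟩, hw'.2⟩⟩
    · show Ideal.Quotient.mk J (w b) = v b
      rw [← he, show Ideal.Quotient.mk I (w b) = w₁ b from AlgHom.congr_fun hw b]
      exact (congrArg e (AlgHom.congr_fun hw₁ b)).trans (e.apply_symm_apply _)
    · show Ideal.Quotient.mk _ (Ideal.Quotient.mk I (w' b)) = e.symm (v b)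
      rw [← AlgHom.congr_fun hw'.1 b]
      exact (e.symm_apply_apply _).symm
    · show Ideal.Quotient.mk I (w' (x i)) = _
      rw [hw'.2]

end Groth.Agent.S4541
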