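import Groth.Statements.S4543
import Groth.Agent.CohenLib.FSAdic
import Groth.Agent.CohenLib.SmoothLift

set_option autoImplicit false
universe u
open EGA41

namespace Groth.Agent.S4543

open IsLocalRing in
/-- Let A be a Noetherian ring, J an ideal of A, B and B' two A-algebras which are Noetherian local
rings, the structure maps being continuous for the J-adic topology on A (JB and JB' lie in the
maximal ideals); suppose B and B' are complete for the J-adic topologies, B is a formally smooth
A-algebra for the J-adic topology on A and the JB-adic topology on B (nilpotent test ideals, test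
algebras killed by a power of J, test maps killing a power of JB), and B' is a flat A-module. Then
every (A/J)-algebra isomorphism u₀ : B/JB ≅ B'/JB' comes from an A-algebra isomorphism u : B ≅ B' by
passing to quotients. (B is taken formally smooth for the JB-adic topology, the topology along which
the argument lifts B → B'/JB' to B'; read with the convention that a local ring carries the adic
topology of its maximal ideal, the published hypothesis would be formal smoothness for the
maximal-ideal topology on B, a weaker condition when JB is strictly smaller than the maximal ideal,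
and that reading is not what the argument establishes.) -/
theorem result {A B B' : Type u} [CommRing A] [IsNoetherianRing A] (J : Ideal A)
    [CommRing B] [IsLocalRing B] [IsNoetherianRing B] [Algebra A B]
    [CommRing B'] [IsLocalRing B'] [IsNoetherianRing B'] [Algebra A B']
    (hB : J.map (algebraMap A B) ≤ maximalIdeal B) (hB' : J.map (algebraMap A B') ≤ maximalIdeal B')
    [IsAdicComplete (J.map (algebraMap A B)) B] [IsAdicComplete (J.map (algebraMap A B')) B']
    (hfs : EGA41.IsFormallySmoothAdic A J B (J.map (algebraMap A B))) [Module.Flat A B']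
    (u₀ : (B ⧸ J.map (algebraMap A B)) ≃ₐ[A ⧸ J] (B' ⧸ J.map (algebraMap A B'))) :
    ∃ u : B ≃ₐ[A] B', ∀ b : B,
      Ideal.Quotient.mk (J.map (algebraMap A B')) (u b) = u₀ (Ideal.Quotient.mk (J.map (algebraMap A B)) b) := by
  let JB := J.map (algebraMap A B)
  let JB' := J.map (algebraMap A B')
  let u : B →ₐ[A] B' ⧸ JB' := (u₀.restrictScalars A).toAlgHom.comp (Ideal.Quotient.mkₐ A JB)
  have hH : IsHausdorff (JB'.map (Ideal.Quotient.mk JB')) (B' ⧸ JB') := by
    rw [Ideal.map_quotient_self]
    exact IsHausdorff.bot _
  have hku : ∀ b ∈ JB, u b = 0 := fun b hb => by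
    show u₀ (Ideal.Quotient.mk JB b) = 0
    rw [Ideal.Quotient.eq_zero_iff_mem.2 hb, map_zero]
  obtain ⟨v, -, hv⟩ := CohenLib.exists_lift_adicComplete (C := B') J JB JB' hfs
    ⟨1, by rw [pow_one]⟩ JB' ⟨1, by rw [pow_one]⟩ u ⟨1, by
      rw [pow_one, Ideal.map_le_iff_le_comap]
      intro b hb
      rw [Ideal.mem_comap]
      show u b ∈ _
      rw [hku b hb]
      exact zero_mem _⟩
  have hv' : ∀ b, Ideal.Quotient.mk JB' (v b) = u₀ (Ideal.Quotient.mk JB b) := fun b => AlgHom.congr_fun hv b
  have hsur : Function.Surjective v := by
    refine CohenLib.surjective_of_complete (I := JB') JB v.toRingHom ?_ fun r => ?_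
    · rw [Ideal.map_map]
      congr 1
      exact v.comp_algebraMap
    · obtain ⟨b, hb⟩ := Ideal.Quotient.mk_surjective (u₀.symm (Ideal.Quotient.mk JB' r))
      refine ⟨b, ?_⟩
      rw [← Ideal.Quotient.eq]
      show _ = Ideal.Quotient.mk JB' (v b)
      rw [hv', hb, AlgEquiv.apply_symm_apply]
  have hinj : RingHom.ker v.toRingHom = ⊥ := by
    refine Submodule.eq_bot_of_le_smul_of_le_jacobson_bot JB _ (IsNoetherian.noetherian _) ?_
      (IsAdicComplete.le_jacobson_bot _)
    intro x hx
    have hxJ : x ∈ JB := by
      refine Ideal.Quotient.eq_zero_iff_mem.1 (u₀.injective ?_)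
      rw [← hv', show v x = 0 from hx, map_zero, map_zero]
    exact CohenLib.mem_map_mul_of_flat v hsur J hxJ hx
  exact ⟨AlgEquiv.ofBijective v ⟨(RingHom.injective_iff_ker_eq_bot _).2 hinj, hsur⟩, hv'⟩

end Groth.Agent.S4543
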