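import Groth.Statements.S4547
import Groth.Agent.SplitLocLib
import Mathlib.RingTheory.LocalRing.Module
import Mathlib.RingTheory.LocalRing.ResidueField.Ideal

set_option autoImplicit false
universe u
open EGA41

namespace Groth.Agent.S4547

open IsLocalRing TensorProduct in
/-- Let A be a local ring with residue field k, M an A-module of finite type, N a projective A-module
and u : M → N a homomorphism. Then u is left invertible if and only if there is a finite system of
generators (x_i) of M such that the elements 1 ⊗ u(x_i) of k ⊗_A N are linearly independent over k;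
and such a system (x_i) is then a basis of M. -/
theorem result {A : Type u} [CommRing A] [IsLocalRing A] {M N : Type u}
    [AddCommGroup M] [Module A M] [Module.Finite A M] [AddCommGroup N] [Module A N] [Module.Projective A N]
    (u : M →ₗ[A] N) :
    ((∃ w : N →ₗ[A] M, w ∘ₗ u = LinearMap.id) ↔
      ∃ (m : ℕ) (x : Fin m → M), Submodule.span A (Set.range x) = ⊤ ∧
        LinearIndependent (ResidueField A) (fun i => (1 : ResidueField A) ⊗ₜ[A] u (x i))) ∧
    ∀ (m : ℕ) (x : Fin m → M), Submodule.span A (Set.range x) = ⊤ →
      LinearIndependent (ResidueField A) (fun i => (1 : ResidueField A) ⊗ₜ[A] u (x i)) →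
        ∃ b : Module.Basis (Fin m) A M, ∀ i, b i = x i := by
  have key : ∀ (n : ℕ) (v : (Fin n → A) →ₗ[A] N),
      LinearIndependent (ResidueField A) (fun i => (1 : ResidueField A) ⊗ₜ[A] v (Pi.single i 1)) →
      ∃ w : N →ₗ[A] (Fin n → A), w ∘ₗ v = LinearMap.id := by
    intro n v hv
    have hinj : Function.Injective (v.baseChange (ResidueField A)) := by
      have hb := hv
      rw [show (fun i => (1 : ResidueField A) ⊗ₜ[A] v (Pi.single i 1)) =
        v.baseChange (ResidueField A) ∘ ((Pi.basisFun A (Fin n)).baseChange (ResidueField A)) by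
          funext i; simp] at hb
      rw [← LinearMap.ker_eq_bot, eq_bot_iff]
      intro z hz
      let bb := (Pi.basisFun A (Fin n)).baseChange (ResidueField A)
      have h0 : ∑ i, bb.repr z i • (v.baseChange (ResidueField A)) (bb i) = 0 := by
        simp only [← map_smul, ← map_sum, bb.sum_repr]
        exact hz
      have h1 := Fintype.linearIndependent_iff.1 hb _ h0
      exact bb.repr.injective (Finsupp.ext fun i => by simpa using h1 i)
    let g : ResidueField A →ₗ[A] (IsLocalRing.maximalIdeal A).ResidueField :=
      (IsScalarTower.toAlgHom A (A ⧸ IsLocalRing.maximalIdeal A) _).toLinearMap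
    let e := LinearEquiv.ofBijective g (IsLocalRing.maximalIdeal A).bijective_algebraMap_quotient_residueField
    have hinj' : Function.Injective (v.lTensor (IsLocalRing.maximalIdeal A).ResidueField) := by
      intro x y hxy
      have hnat : (e.symm.toLinearMap.rTensor N) ∘ₗ v.lTensor _ = v.lTensor (ResidueField A) ∘ₗ e.symm.toLinearMap.rTensor _ := by
        rw [LinearMap.rTensor_comp_lTensor, LinearMap.lTensor_comp_rTensor]
      apply (LinearEquiv.rTensor (Fin n → A) e.symm).injective
      refine hinj ?_
      have h1 := LinearMap.congr_fun hnat x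
      have h2 := LinearMap.congr_fun hnat y
      simp only [LinearMap.comp_apply] at h1 h2
      show v.lTensor (ResidueField A) (e.symm.toLinearMap.rTensor _ x) = v.lTensor (ResidueField A) (e.symm.toLinearMap.rTensor _ y)
      rw [← h1, ← h2, hxy]
    obtain ⟨f, hf, w, hw⟩ := SplitLocLib.exists_smul_leftInverse _ v hinj'
    obtain ⟨c, hc⟩ := (IsLocalRing.notMem_maximalIdeal.1 hf).exists_left_inv
    exact ⟨c • w, LinearMap.ext fun x => by
      rw [LinearMap.comp_apply, LinearMap.smul_apply, hw, smul_smul, hc, one_smul, LinearMap.id_apply]⟩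
  have main : ∀ (n : ℕ) (x : Fin n → M), Submodule.span A (Set.range x) = ⊤ →
      LinearIndependent (ResidueField A) (fun i => (1 : ResidueField A) ⊗ₜ[A] u (x i)) →
      (∃ b : Module.Basis (Fin n) A M, ∀ i, b i = x i) ∧ ∃ w : N →ₗ[A] M, w ∘ₗ u = LinearMap.id := by
    intro n x hx hli
    let π : (Fin n → A) →ₗ[A] M := Fintype.linearCombination A x
    have hπ : ∀ i, π (Pi.single i 1) = x i := fun i => by simp [π, Fintype.linearCombination_apply_single]
    obtain ⟨w, hw⟩ := key n (u ∘ₗ π) (by simpa [hπ] using hli)
    have hsurj : Function.Surjective π := LinearMap.range_eq_top.1 (by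
      rw [← hx]; exact Fintype.range_linearCombination A x)
    have hinj : Function.Injective π := fun a b hab => by
      rw [← LinearMap.id_apply (R := A) a, ← LinearMap.id_apply (R := A) b, ← hw]
      simp [hab]
    let e := LinearEquiv.ofBijective π ⟨hinj, hsurj⟩
    refine ⟨⟨(Pi.basisFun A (Fin n)).map e, fun i => ?_⟩, π ∘ₗ w, LinearMap.ext fun m => ?_⟩
    · simp [e, hπ]
    · obtain ⟨a, rfl⟩ := hsurj m
      exact congrArg π (LinearMap.congr_fun hw a)
  refine ⟨⟨?_, fun ⟨n, x, hx, hli⟩ => (main n x hx hli).2⟩, fun n x hx hli => (main n x hx hli).1⟩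
  rintro ⟨w, hw⟩
  haveI : Module.Projective A M := Module.Projective.of_split u w hw
  haveI : Module.Free A M := Module.free_of_flat_of_isLocalRing
  let b := Module.finBasis A M
  refine ⟨_, b, b.span_eq, ?_⟩
  have hl : Function.LeftInverse (w.baseChange (ResidueField A)) (u.baseChange (ResidueField A)) := fun z => by
    rw [← LinearMap.comp_apply, ← LinearMap.baseChange_comp, hw, LinearMap.baseChange_id, LinearMap.id_apply]
  have := (b.baseChange (ResidueField A)).linearIndependent.map' (u.baseChange (ResidueField A))
    (LinearMap.ker_eq_bot.2 hl.injective)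
  simpa [Function.comp_def] using this

end Groth.Agent.S4547
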