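import Groth.Statements.S4548
import Groth.Agent.CplExcLib.SubfieldFamily
import Groth.Agent.CplExcLib.PSSubring
import Groth.Agent.NagataLib.SubfieldChoice
import Groth.Agent.AlgSpLib.Noeth
import Mathlib.RingTheory.Flat.FaithfullyFlat.Algebra

set_option autoImplicit false
set_option linter.style.haveILetI false
universe u
open EGA41

namespace Groth.Agent.S4548

open MvPowerSeries CplExcLib

/-- A power series ring is free over the subring of series in the `p`-th powers of the variables. -/
theorem free_psSubring {k : Type u} [Field k] {n : ℕ} (p : ℕ) (hp : 0 < p) (F : Subfield k) [Module.Finite F k] :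
    Module.Free (psSubring (n := n) p F) (MvPowerSeries (Fin n) k) := by
  classical
  let b := Module.finBasis F k
  let m := Module.finrank F k
  let a' : (Fin n → Fin p) → (Fin n →₀ ℕ) := fun a ↦ Finsupp.equivFunOnFinite.symm fun i ↦ (a i : ℕ)
  let G : Fin m × (Fin n → Fin p) → MvPowerSeries (Fin n) k := fun x ↦ monomial (a' x.2) (b x.1)
  have hind : LinearIndependent (psSubring (n := n) p F) G := by
    rw [Fintype.linearIndependent_iff]
    intro c hc x
    refine Subtype.ext (MvPowerSeries.ext fun I ↦ ?_)
    rw [show ((0 : psSubring (n := n) p F) : MvPowerSeries (Fin n) k) = 0 from rfl, map_zero]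
    by_contra hne
    have hI := ((c x).2 I).2 hne
    let J := I + a' x.2
    have hJ : ∀ j a, coeff J (c (j, a) • G (j, a)) =
        if a = x.2 then coeff I (c (j, a) : MvPowerSeries (Fin n) k) * b j else 0 := fun j a ↦ by
      rw [Subring.smul_def, smul_eq_mul, coeff_mul_monomial]
      split_ifs with hle ha ha
      · show coeff (J - a' a) (c (j, a) : MvPowerSeries (Fin n) k) * b j = _
        rw [ha, show J - a' x.2 = I from add_tsub_cancel_right _ _]
      · rw [show coeff (J - a' a) (c (j, a) : MvPowerSeries (Fin n) k) = 0 from by_contra fun h0 ↦ ha (funext fun i ↦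
          Fin.ext (by
            obtain ⟨t, ht⟩ := ((c (j, a)).2 _).2 h0 i
            obtain ⟨s, hs⟩ := hI i
            have h1 : (a i : ℕ) ≤ J i := hle i
            have h2 : J i = p * s + (x.2 i : ℕ) := by
              rw [show J i = I i + a' x.2 i from rfl, hs]
              rfl
            have h3 : (J - a' a) i = J i - (a i : ℕ) := rfl
            have h4 : J i = (a i : ℕ) + p * t := by omega
            have h5 : J i % p = (a i : ℕ) := by rw [h4, Nat.add_mul_mod_self_left, Nat.mod_eq_of_lt (a i).2]
            have h6 : J i % p = (x.2 i : ℕ) := by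
              rw [h2, add_comm, Nat.add_mul_mod_self_left, Nat.mod_eq_of_lt (x.2 i).2]
            exact h5.symm.trans h6)), zero_mul]
      · exact absurd (show a' x.2 ≤ J from le_add_self) (ha ▸ hle)
      · rfl
    have h := congrArg (coeff J) hc
    rw [map_sum, map_zero, Fintype.sum_prod_type] at h
    simp only [hJ, Finset.sum_ite_eq', Finset.mem_univ, if_true] at h
    let d : Fin m → F := fun j ↦ ⟨coeff I (c (j, x.2) : MvPowerSeries (Fin n) k), ((c (j, x.2)).2 I).1⟩
    have h' : ∑ j, d j • b j = 0 := h
    exact hne (congrArg Subtype.val (Fintype.linearIndependent_iff.mp b.linearIndependent d h' x.1))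
  refine Module.Free.of_basis (Module.Basis.mk hind ?_)
  rintro g -
  obtain ⟨G', hG'⟩ : ∃ c : Fin m × (Fin n → Fin p) → MvPowerSeries (Fin n) k,
      (∀ x, c x ∈ psSubring p F) ∧ ∑ x, c x * G x = g := by
    let c : Fin m × (Fin n → Fin p) → MvPowerSeries (Fin n) k := fun x ↦
      (fun I ↦ if ∀ i, p ∣ I i then (b.repr (coeff (I + a' x.2) g) x.1 : k) else 0 : MvPowerSeries (Fin n) k)
    have hc : ∀ x I, coeff I (c x) = if ∀ i, p ∣ I i then (b.repr (coeff (I + a' x.2) g) x.1 : k) else 0 :=
      fun _ _ ↦ rfl
    refine ⟨c, fun x I ↦ ?_, MvPowerSeries.ext fun J ↦ ?_⟩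
    · rw [hc]
      split_ifs with hI
      · exact ⟨(b.repr _ _).2, fun _ ↦ hI⟩
      · exact ⟨F.zero_mem, fun h0 ↦ absurd rfl h0⟩
    let a₀ : Fin n → Fin p := fun i ↦ ⟨J i % p, Nat.mod_lt _ hp⟩
    have ha₀ : a' a₀ ≤ J := fun i ↦ Nat.mod_le _ _
    have hdvd : ∀ i, p ∣ (J - a' a₀) i := fun i ↦ by
      rw [Finsupp.tsub_apply]
      exact Nat.dvd_sub_mod (J i)
    rw [map_sum, Fintype.sum_prod_type]
    have hinner : ∀ j, ∑ a, coeff J (c (j, a) * G (j, a)) = (b.repr (coeff J g) j : k) * b j := fun j ↦ by
      rw [Finset.sum_eq_single a₀]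
      · rw [mul_comm, coeff_monomial_mul, if_pos ha₀, hc, if_pos hdvd, tsub_add_cancel_of_le ha₀, mul_comm]
      · intro a _ hne
        rw [mul_comm, coeff_monomial_mul]
        split_ifs with hle
        · rw [hc, if_neg, mul_zero]
          intro hd
          refine hne (funext fun i ↦ Fin.ext ?_)
          obtain ⟨t, ht⟩ := hd i
          have hi : (a i : ℕ) ≤ J i := hle i
          rw [Finsupp.tsub_apply] at ht
          show (a i : ℕ) = J i % p
          have hJ : J i = a i + p * t := by
            have : a' a i = a i := rfl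
            have e2 : a' (j, a).2 i = a i := rfl
            omega
          rw [hJ, Nat.add_mul_mod_self_left, Nat.mod_eq_of_lt (a i).2]
        · rfl
      · simp
    exact (Finset.sum_congr rfl fun j _ ↦ hinner j).trans (b.sum_repr (coeff J g))
  rw [← hG'.2]
  exact Submodule.sum_mem _ fun x _ ↦ Submodule.smul_mem _ (⟨_, hG'.1 x⟩ : psSubring p F) (Submodule.subset_span ⟨x, rfl⟩)

/-- Let k be a field of characteristic p > 0, A = k[[T_1, …, T_r]] and K its field of fractions. Then
there is a decreasing filtered family (A_α) of Noetherian subrings of A (rendered: a nonempty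
family, directed downwards for inclusion) such that A is a free A_α-module of finite type for every
α and, K_α denoting the subfield of K generated by A_α (its field of fractions inside K), ⋂_α K_α =
K^p. -/
theorem result (p : ℕ) [Fact p.Prime] (k : Type u) [Field k] [CharP k p]
    (r : ℕ) :
    ∃ (ι : Type u) (_ : Nonempty ι) (S : ι → Subring (MvPowerSeries (Fin r) k)),
      (∀ a b : ι, ∃ c, S c ≤ S a ⊓ S b) ∧
      (∀ i, IsNoetherianRing (S i) ∧ Module.Free (S i) (MvPowerSeries (Fin r) k) ∧ Module.Finite (S i) (MvPowerSeries (Fin r) k)) ∧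
      ((⨅ i, Subfield.closure (algebraMap (MvPowerSeries (Fin r) k) (FractionRing (MvPowerSeries (Fin r) k)) '' (S i)) :
          Set (FractionRing (MvPowerSeries (Fin r) k)))) =
        Set.range fun x : FractionRing (MvPowerSeries (Fin r) k) => x ^ p := by
  classical
  let A := MvPowerSeries (Fin r) k
  haveI : IsDomain A := NoZeroDivisors.to_isDomain _
  obtain ⟨F, hmono, hpow, hfin, hinter⟩ := CplExcLib.exists_subfield_family p k
  have hp : 0 < p := (Fact.out : p.Prime).pos
  refine ⟨Finset k, ⟨∅⟩, fun S ↦ psSubring (n := r) p (F S), fun a b ↦ ⟨a ∪ b, le_inf ?_ ?_⟩, fun S ↦ ?_, ?_⟩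
  · exact fun g hg I ↦ ⟨hmono _ _ Finset.subset_union_left (hg I).1, (hg I).2⟩
  · exact fun g hg I ↦ ⟨hmono _ _ Finset.subset_union_right (hg I).1, (hg I).2⟩
  · haveI := hfin S
    haveI : Module.Free (psSubring (n := r) p (F S)) A := free_psSubring p hp (F S)
    haveI : Module.Finite (psSubring (n := r) p (F S)) A := finite_psSubring p (F S) hp
    haveI : Module.FaithfullyFlat (psSubring (n := r) p (F S)) A := inferInstance
    refine ⟨?_, inferInstance, inferInstance⟩
    exact AlgSpLib.isNoetherianRing_of_faithfullyFlat _ A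
  · rw [Set.iInf_eq_iInter]
    refine Set.Subset.antisymm (fun x hx ↦ ?_) ?_
    · obtain ⟨y, hy⟩ := NagataLib.exists_pow_of_mem_closure p (fun S ↦ psSubring (n := r) p (F S))
        (fun S g ↦ pow_mem_psSubring p (F S) (hpow S) g)
        (fun S v z hv hv0 h ↦ mem_of_mul_mem p (F S) hv hv0 h) (NagataLib.exists_pow_of_mem p F hinter) x
        (fun S ↦ Set.mem_iInter.mp hx S)
      exact ⟨y, hy⟩
    · rintro _ ⟨x, rfl⟩
      refine Set.mem_iInter.mpr fun S ↦ ?_
      obtain ⟨a, b, -, rfl⟩ := IsFractionRing.div_surjective A x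
      show (_ / _) ^ p ∈ Subfield.closure _
      rw [div_pow, ← map_pow, ← map_pow]
      exact Subfield.div_mem _ (Subfield.subset_closure ⟨_, pow_mem_psSubring p (F S) (hpow S) a, rfl⟩)
        (Subfield.subset_closure ⟨_, pow_mem_psSubring p (F S) (hpow S) b, rfl⟩)

end Groth.Agent.S4548
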