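import Groth.Statements.S4550
import Mathlib
-- import your own Groth.Agent.* helpers here

set_option autoImplicit false
universe u
open EGA41

namespace Groth.Agent.S4550

/-- Let k be a field, (k_α) a decreasing filtered family of subfields of k with intersection k₀, and
suppose there is a power q of the characteristic exponent of k with k^q ⊆ k₀. Then, inside k((T_1,
…, T_r)), one has ⋂_α k_α((T_1, …, T_r)) = k₀((T_1, …, T_r)); here F((T)) is the subfield of the
fraction field of k[[T]] generated by the power series with all coefficients in F. -/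
theorem result {k : Type u} [Field k] {ι : Type u} [Nonempty ι] (F : ι → Subfield k)
    (hdir : ∀ a b : ι, ∃ c, F c ≤ F a ⊓ F b) (e : ℕ) (hq : ∀ x : k, x ^ ringExpChar k ^ e ∈ ⨅ i, F i) (r : ℕ) :
    (⨅ i, Subfield.closure (algebraMap (MvPowerSeries (Fin r) k) (FractionRing (MvPowerSeries (Fin r) k)) ''
        {f | ∀ n, MvPowerSeries.coeff n f ∈ F i})) =
      Subfield.closure (algebraMap (MvPowerSeries (Fin r) k) (FractionRing (MvPowerSeries (Fin r) k)) ''
        {f | ∀ n, MvPowerSeries.coeff n f ∈ ⨅ i, F i}) := by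
  classical
  let K := FractionRing (MvPowerSeries (Fin r) k)
  let am : MvPowerSeries (Fin r) k →+* K := algebraMap _ K
  have ham : Function.Injective am := IsFractionRing.injective _ K
  let T : Subfield k → Subring (MvPowerSeries (Fin r) k) := fun L =>
    (MvPowerSeries.map (σ := Fin r) L.subtype).range
  have hT : ∀ (L : Subfield k) f, f ∈ T L ↔ ∀ n, MvPowerSeries.coeff n f ∈ L := by
    intro L f
    constructor
    · rintro ⟨g, rfl⟩ n
      rw [MvPowerSeries.coeff_map]
      exact SetLike.coe_mem _
    · intro h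
      refine ⟨fun n => ⟨MvPowerSeries.coeff n f, h n⟩, ?_⟩
      ext n
      rw [MvPowerSeries.coeff_map]
      rfl
  refine le_antisymm ?_ ?_
  swap
  · refine le_iInf fun i => Subfield.closure_mono (Set.image_mono fun f hf n => ?_)
    exact (iInf_le F i : (⨅ j, F j) ≤ F i) (hf n)
  intro x hx
  rw [Subfield.mem_iInf] at hx
  set q := ringExpChar k ^ e with hqdef
  haveI : ExpChar k (ringExpChar k) := inferInstance
  have hq1 : 0 < q := pow_pos (expChar_pos k (ringExpChar k)) e
  -- q-th powers have coefficients in the intersection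
  have hpow : ∀ f : MvPowerSeries (Fin r) k, f ^ q ∈ T (⨅ i, F i) := by
    intro f
    rw [hT]
    intro n
    have h1 : MvPowerSeries.coeff n (f ^ q) =
        MvPolynomial.coeff n ((MvPowerSeries.trunc' k n f) ^ q) := by
      have h2 := congrArg (MvPolynomial.coeff n) (MvPowerSeries.trunc'_trunc'_pow (n := n) (k := q) hq1 f)
      rw [MvPowerSeries.coeff_trunc', MvPowerSeries.coeff_trunc', if_pos le_rfl, if_pos le_rfl,
        ← MvPolynomial.coe_pow, MvPolynomial.coeff_coe] at h2
      exact h2.symm
    rw [h1]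
    have key : ∀ P : MvPolynomial (Fin r) k, ∀ m, MvPolynomial.coeff m (P ^ q) ∈ ⨅ i, F i := by
      intro P
      induction P using MvPolynomial.induction_on' with
      | monomial s c =>
        intro m
        rw [MvPolynomial.monomial_pow, MvPolynomial.coeff_monomial]
        split_ifs
        · exact hq c
        · exact zero_mem _
      | add P Q hP hQ =>
        intro m
        haveI : ExpChar (MvPolynomial (Fin r) k) (ringExpChar k) :=
          expChar_of_injective_ringHom (MvPolynomial.C_injective (Fin r) k) _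
        rw [hqdef, add_pow_expChar_pow, MvPolynomial.coeff_add]
        exact add_mem (hP m) (hQ m)
    exact key _ n
  -- cancellation of a denominator with coefficients in the subfield
  have hcancel : ∀ (L : Subfield k) (g h : MvPowerSeries (Fin r) k),
      h ∈ T L → h ≠ 0 → g * h ∈ T L → g ∈ T L := by
    intro L g h hh h0 hgh
    rw [hT] at hh hgh ⊢
    intro n
    by_contra hc
    have hc' : MvPowerSeries.coeff n g ∉ Submodule.span L {(1 : k)} := by
      rw [Submodule.mem_span_singleton]
      rintro ⟨a, ha⟩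
      apply hc
      rw [← ha, show a • (1 : k) = (a : k) * 1 from rfl, mul_one]
      exact a.2
    obtain ⟨ψ, hψc, hψ⟩ := Submodule.exists_dual_map_eq_bot_of_notMem hc' inferInstance
    have hψL : ∀ a ∈ L, ψ a = 0 := by
      intro a ha
      have : a ∈ Submodule.span L {(1 : k)} :=
        Submodule.mem_span_singleton.mpr ⟨⟨a, ha⟩, mul_one a⟩
      have h3 : ψ a ∈ Submodule.map ψ (Submodule.span L {(1 : k)}) := ⟨a, this, rfl⟩
      rw [hψ] at h3
      exact h3
    let g' : MvPowerSeries (Fin r) L := fun m => ψ (MvPowerSeries.coeff m g)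
    let h' : MvPowerSeries (Fin r) L := fun m => ⟨MvPowerSeries.coeff m h, hh m⟩
    have hprod : g' * h' = 0 := by
      ext m
      rw [MvPowerSeries.coeff_mul, map_zero]
      have h4 := hψL _ (hgh m)
      rw [MvPowerSeries.coeff_mul, map_sum] at h4
      refine congrArg Subtype.val (Eq.trans ?_ h4)
      refine Finset.sum_congr rfl fun uv _ => ?_
      show ψ (MvPowerSeries.coeff uv.1 g) * h' uv.2 = _
      rw [show MvPowerSeries.coeff uv.1 g * MvPowerSeries.coeff uv.2 h = (h' uv.2 : L) • MvPowerSeries.coeff uv.1 g from mul_comm _ _, map_smul, smul_eq_mul, mul_comm]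
    rcases mul_eq_zero.mp hprod with h5 | h5
    · exact hψc (congrFun h5 n)
    · apply h0
      ext m
      rw [map_zero]
      exact congrArg Subtype.val (congrFun h5 m)
  -- elements of the closures are fractions
  have hfrac : ∀ (L : Subfield k) (y : K), y ∈ Subfield.closure (am '' {f | ∀ n, MvPowerSeries.coeff n f ∈ L}) →
      ∃ a ∈ T L, ∃ b ∈ T L, am a / am b = y := by
    intro L y hy
    obtain ⟨u, hu, v, hv, rfl⟩ := Subfield.mem_closure_iff.mp hy
    have hle : Subring.closure (am '' {f | ∀ n, MvPowerSeries.coeff n f ∈ L}) ≤ (T L).map am := by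
      rw [Subring.closure_le]
      rintro _ ⟨f, hf, rfl⟩
      exact ⟨f, (hT L f).mpr hf, rfl⟩
    obtain ⟨a, ha, rfl⟩ := hle hu
    obtain ⟨b, hb, rfl⟩ := hle hv
    exact ⟨a, ha, b, hb, rfl⟩
  obtain ⟨i0⟩ := ‹Nonempty ι›
  obtain ⟨a, -, b, -, hab⟩ := hfrac _ x (hx i0)
  by_cases hb0 : b = 0
  · rw [← hab, hb0, map_zero, div_zero]
    exact zero_mem _
  have hxeq : am (a * b ^ (q - 1)) / am (b ^ q) = x := by
    rw [← hab]
    conv_lhs => rw [show b ^ q = b * b ^ (q - 1) by rw [← pow_succ', Nat.sub_add_cancel hq1], map_mul, map_mul]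
    exact mul_div_mul_right _ _ (by rw [Ne, map_eq_zero_iff am ham]; exact pow_ne_zero _ hb0)
  have hg : a * b ^ (q - 1) ∈ T (⨅ i, F i) := by
    rw [hT]
    intro n
    rw [Subfield.mem_iInf]
    intro i
    refine (hT (F i) _).mp ?_ n
    obtain ⟨a', ha', b', hb', hab'⟩ := hfrac _ x (hx i)
    have hle : ∀ f, f ∈ T (⨅ j, F j) → f ∈ T (F i) := fun f hf =>
      (hT _ f).mpr fun m => (iInf_le F i : (⨅ j, F j) ≤ F i) ((hT _ f).mp hf m)
    by_cases hb0' : b' = 0
    · have hx0 : x = 0 := by rw [← hab', hb0', map_zero, div_zero]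
      have : am (a * b ^ (q - 1)) = 0 := by
        have hne : am (b ^ q) ≠ 0 := by rw [Ne, map_eq_zero_iff am ham]; exact pow_ne_zero _ hb0
        rw [hx0] at hxeq
        exact (div_eq_zero_iff.mp hxeq).resolve_right hne
      rw [map_eq_zero_iff am ham] at this
      rw [this]; exact zero_mem _
    refine hcancel _ _ (b' ^ q) (hle _ (hpow b')) (pow_ne_zero _ hb0') ?_
    have heq : a * b ^ (q - 1) * b' ^ q = a' * b' ^ (q - 1) * b ^ q := by
      apply ham
      have h1 : am (b ^ q) ≠ 0 := by rw [Ne, map_eq_zero_iff am ham]; exact pow_ne_zero _ hb0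
      have h2 : am b' ≠ 0 := by rw [Ne, map_eq_zero_iff am ham]; exact hb0'
      have h3 := hxeq.trans hab'.symm
      rw [div_eq_div_iff h1 h2] at h3
      have h4 : b' ^ q = b' * b' ^ (q - 1) := by rw [← pow_succ', Nat.sub_add_cancel hq1]
      rw [h4, map_mul, map_mul am b', map_mul am (a' * b' ^ (q - 1)), map_mul am a']
      rw [← mul_assoc, h3]
      ring
    rw [heq]
    exact mul_mem (mul_mem ha' (pow_mem hb' _)) (hle _ (hpow b))
  rw [← hxeq]
  exact div_mem (Subfield.subset_closure ⟨_, (hT _ _).mp hg, rfl⟩)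
    (Subfield.subset_closure ⟨_, (hT _ _).mp (hpow b), rfl⟩)

end Groth.Agent.S4550
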