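import Groth.Statements.S4551
import Groth.Agent.GeomRedFieldLib.Local
import Groth.Agent.S9634
import Mathlib.RingTheory.MvPowerSeries.NoZeroDivisors
import Mathlib.LinearAlgebra.TensorProduct.Basis
-- import your own Groth.Agent.* helpers here

set_option autoImplicit false
universe u
open EGA41

namespace Groth.Agent.S4551

/-- For every field k (any characteristic) the field of fractions k((T_1, …, T_r)) of the power series
ring k[[T_1, …, T_r]] is a separable extension of k, i.e. it is geometrically reduced over k. -/
theorem result (k : Type u) [Field k] (r : ℕ) :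
    Algebra.IsGeometricallyReduced k (FractionRing (MvPowerSeries (Fin r) k)) := by
  have : Algebra.IsGeometricallyReduced k (MvPowerSeries (Fin r) k) := by
    refine ((Groth.Agent.S9634.result (k := k) (S := MvPowerSeries (Fin r) k)).out 0 1).mp ?_
    intro k' _ _ _ _
    let Φ : TensorProduct k k' (MvPowerSeries (Fin r) k) →ₐ[k] MvPowerSeries (Fin r) k' :=
      Algebra.TensorProduct.lift (IsScalarTower.toAlgHom k k' (MvPowerSeries (Fin r) k'))
        (MvPowerSeries.mapAlgHom (Algebra.ofId k k')) fun _ _ ↦ .all _ _
    let b := Module.finBasis k k'
    have h : ∀ (z : TensorProduct k k' (MvPowerSeries (Fin r) k)) (i) (n),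
        MvPowerSeries.coeff n (TensorProduct.equivFinsuppOfBasisLeft b z i) =
          b.repr (MvPowerSeries.coeff n (Φ z)) i := by
      intro z i n
      induction z using TensorProduct.induction_on with
      | zero => simp
      | add x y hx hy => simp [hx, hy]
      | tmul c f =>
        simp [Φ, MvPowerSeries.algebraMap_apply, MvPowerSeries.coeff_C_mul]
        show _ = (b.repr (c * algebraMap k k' (MvPowerSeries.coeff n f))) i
        rw [mul_comm c, ← Algebra.smul_def, map_smul, Finsupp.smul_apply, smul_eq_mul, mul_comm]
    refine isReduced_of_injective Φ ((injective_iff_map_eq_zero Φ).mpr fun z hz ↦ ?_)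
    apply (TensorProduct.equivFinsuppOfBasisLeft b).injective
    rw [map_zero]
    ext i n
    rw [h, hz]
    simp
  exact GeomRedFieldLib.isGeometricallyReduced_localization (T := MvPowerSeries (Fin r) k) (nonZeroDivisors (MvPowerSeries (Fin r) k)) _

end Groth.Agent.S4551
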