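import Groth.Statements.S4552
import Mathlib
-- import your own Groth.Agent.* helpers here

set_option autoImplicit false
universe u
open EGA41

namespace Groth.Agent.S4552

/-- For the 𝔞-adic topology on A and the deduced topology on M: the topological A-module M is formally
projective (for every open ideal 𝔞ⁿ, every pair of (A/𝔞ⁿ)-modules P, Q, every surjection P → Q and
every continuous A-linear map M → Q — here automatically continuous — there is a continuous A-linear
lift M → P) if and only if it is strictly formally projective, i.e. M/𝔞ⁿM is a projective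
(A/𝔞ⁿ)-module for every n. -/
theorem result {A : Type u} [CommRing A] (𝔞 : Ideal A) (M : Type u)
    [AddCommGroup M] [Module A M] :
    (∀ (n : ℕ) (P Q : Type u) [AddCommGroup P] [Module A P] [AddCommGroup Q] [Module A Q],
      (∀ a ∈ 𝔞 ^ n, ∀ y : P, a • y = 0) → (∀ a ∈ 𝔞 ^ n, ∀ y : Q, a • y = 0) →
      ∀ f : P →ₗ[A] Q, Function.Surjective f → ∀ v : M →ₗ[A] Q, ∃ w : M →ₗ[A] P, f ∘ₗ w = v) ↔
    ∀ n : ℕ, Module.Projective (A ⧸ 𝔞 ^ n) (M ⧸ (𝔞 ^ n • ⊤ : Submodule A M)) := by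
  constructor
  · intro h n
    let Mn := M ⧸ (𝔞 ^ n • ⊤ : Submodule A M)
    refine Module.Projective.of_lifting_property'' (R := A ⧸ 𝔞 ^ n) (P := Mn) fun f hf => ?_
    have hP : ∀ a ∈ 𝔞 ^ n, ∀ y : Mn →₀ (A ⧸ 𝔞 ^ n), a • y = 0 := fun a ha y => by
      rw [← IsScalarTower.algebraMap_smul (A ⧸ 𝔞 ^ n) a y, Ideal.Quotient.algebraMap_eq,
        Ideal.Quotient.eq_zero_iff_mem.2 ha, zero_smul]
    have hQ : ∀ a ∈ 𝔞 ^ n, ∀ y : Mn, a • y = 0 := fun a ha y => by
      obtain ⟨x, rfl⟩ := Submodule.mkQ_surjective _ y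
      rw [← map_smul]
      exact (Submodule.Quotient.mk_eq_zero _).2 (Submodule.smul_mem_smul ha trivial)
    obtain ⟨w, hw⟩ := h n (Mn →₀ (A ⧸ 𝔞 ^ n)) Mn hP hQ (f.restrictScalars A) hf
      (𝔞 ^ n • ⊤ : Submodule A M).mkQ
    have hker : (𝔞 ^ n • ⊤ : Submodule A M) ≤ LinearMap.ker w :=
      Submodule.smul_le.2 fun a ha x _ => by
        show w (a • x) = 0
        rw [map_smul, hP a ha]
    refine ⟨LinearMap.extendScalarsOfSurjective (Ideal.Quotient.mk_surjective (I := 𝔞 ^ n))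
      ((𝔞 ^ n • ⊤ : Submodule A M).liftQ w hker), LinearMap.ext fun y => ?_⟩
    obtain ⟨x, rfl⟩ := Submodule.mkQ_surjective _ y
    exact LinearMap.congr_fun hw x
  · intro h n P Q _ _ _ _ hP hQ f hf v
    haveI := h n
    letI : Module (A ⧸ 𝔞 ^ n) P := Module.IsTorsionBySet.module (fun y a => hP a.1 a.2 y)
    letI : Module (A ⧸ 𝔞 ^ n) Q := Module.IsTorsionBySet.module (fun y a => hQ a.1 a.2 y)
    haveI : IsScalarTower A (A ⧸ 𝔞 ^ n) P := Module.IsTorsionBySet.isScalarTower (fun y a => hP a.1 a.2 y)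
    haveI : IsScalarTower A (A ⧸ 𝔞 ^ n) Q := Module.IsTorsionBySet.isScalarTower (fun y a => hQ a.1 a.2 y)
    have hker : (𝔞 ^ n • ⊤ : Submodule A M) ≤ LinearMap.ker v :=
      Submodule.smul_le.2 fun a ha x _ => by
        show v (a • x) = 0
        rw [map_smul, hQ a ha]
    obtain ⟨w, hw⟩ := Module.projective_lifting_property
      (LinearMap.extendScalarsOfSurjective (Ideal.Quotient.mk_surjective (I := 𝔞 ^ n)) f)
      (LinearMap.extendScalarsOfSurjective (Ideal.Quotient.mk_surjective (I := 𝔞 ^ n))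
        ((𝔞 ^ n • ⊤ : Submodule A M).liftQ v hker)) hf
    exact ⟨(w.restrictScalars A) ∘ₗ (𝔞 ^ n • ⊤ : Submodule A M).mkQ,
      LinearMap.ext fun x => LinearMap.congr_fun hw (Submodule.Quotient.mk x)⟩

end Groth.Agent.S4552
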