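import Mathlib
import Groth.Statements.S4553
import Groth.Agent.FSAdicStepLib.Basic
-- import your own Groth.Agent.* helpers here

set_option autoImplicit false
universe u
open EGA41

namespace Groth.Agent.S4553

set_option synthInstance.maxHeartbeats 400000 in
/-- Let A be 𝔞-adic (a preadmissible ring with ideal of definition 𝔞), B a topological A-algebra for the
𝔟-adic topology (a power of 𝔞 maps into 𝔟) which is a formally projective topological A-module, and
put A₀ = A/𝔞, B₀ = B/𝔞B with the quotient topologies (A₀ discrete). Then B is a formally smooth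
A-algebra if and only if B₀ is a formally smooth A₀-algebra. -/
theorem result {A B : Type u} [CommRing A] [CommRing B] [Algebra A B]
    (𝔞 : Ideal A) (𝔟 : Ideal B) (hAB : ∃ k : ℕ, (𝔞 ^ k).map (algebraMap A B) ≤ 𝔟)
    (hproj : ∀ (n : ℕ) (P Q : Type u) [AddCommGroup P] [Module A P] [AddCommGroup Q] [Module A Q],
      (∀ a ∈ 𝔞 ^ n, ∀ y : P, a • y = 0) → (∀ a ∈ 𝔞 ^ n, ∀ y : Q, a • y = 0) →
      ∀ f : P →ₗ[A] Q, Function.Surjective f → ∀ v : B →ₗ[A] Q, (∃ m : ℕ, ∀ x ∈ 𝔟 ^ m, v x = 0) →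
        ∃ w : B →ₗ[A] P, (∃ m : ℕ, ∀ x ∈ 𝔟 ^ m, w x = 0) ∧ f ∘ₗ w = v) :
    EGA41.IsFormallySmoothAdic A 𝔞 B 𝔟 ↔
      EGA41.IsFormallySmoothAdic (A ⧸ 𝔞) ⊥ (B ⧸ 𝔞.map (algebraMap A B))
        (𝔟.map (Ideal.Quotient.mk (𝔞.map (algebraMap A B)))) := by
  classical
  let 𝔫 := 𝔞.map (algebraMap A B)
  constructor
  · intro h C _ _ J hJ _ u hu
    letI : Algebra A C := ((algebraMap (A ⧸ 𝔞) C).comp (Ideal.Quotient.mk 𝔞)).toAlgebra
    haveI : IsScalarTower A (A ⧸ 𝔞) C := IsScalarTower.of_algebraMap_eq fun _ => rfl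
    have ha : ∀ a ∈ 𝔞, algebraMap A C a = 0 := fun a ha => by
      rw [IsScalarTower.algebraMap_apply A (A ⧸ 𝔞) C, Ideal.Quotient.algebraMap_eq,
        Ideal.Quotient.eq_zero_iff_mem.2 ha, map_zero]
    obtain ⟨k, hk⟩ := hu
    obtain ⟨v, hv⟩ := h C J hJ ⟨1, by
        rw [pow_one, eq_bot_iff, Ideal.map_le_iff_le_comap]
        exact fun a h => Ideal.mem_bot.2 (ha a h)⟩
      ((u.restrictScalars A).comp (Ideal.Quotient.mkₐ A 𝔫))
      ⟨k, fun x hx => hk _ (by rw [← Ideal.map_pow]; exact Ideal.mem_map_of_mem _ hx)⟩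
    have hv0 : ∀ x ∈ 𝔫, v x = 0 := by
      have : 𝔫 ≤ RingHom.ker v.toRingHom := Ideal.map_le_iff_le_comap.2 fun a h => by
        show v (algebraMap A B a) = 0
        rw [AlgHom.commutes]; exact ha a h
      exact fun x hx => this hx
    let v0 : B ⧸ 𝔫 →ₐ[A] C := Ideal.Quotient.liftₐ 𝔫 v hv0
    refine ⟨{ v0.toRingHom with commutes' := fun a => ?_ }, AlgHom.ext fun x => ?_⟩
    · obtain ⟨a, rfl⟩ := Ideal.Quotient.mk_surjective a
      exact v0.commutes a
    · obtain ⟨b, rfl⟩ := Ideal.Quotient.mk_surjective x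
      exact AlgHom.congr_fun hv b
  · intro h
    refine Groth.Agent.FSAdicStepLib.isFormallySmoothAdic_of_step ?_
    intro C _ _ J hJ hIJ hC u hu
    obtain ⟨k, hk⟩ := hu
    obtain ⟨l, hl⟩ := hC
    have kill : ∀ a ∈ 𝔞 ^ l, algebraMap A C a = 0 := fun a ha => Ideal.mem_bot.1 (hl ▸ Ideal.mem_map_of_mem _ ha)
    obtain ⟨w, ⟨m, hm⟩, hw⟩ := hproj l C (C ⧸ J) (fun a ha y => by rw [Algebra.smul_def, kill a ha, zero_mul])
      (fun a ha y => by
        rw [Algebra.smul_def, IsScalarTower.algebraMap_apply A C (C ⧸ J), kill a ha, map_zero, zero_mul])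
      (Ideal.Quotient.mkₐ A J).toLinearMap Ideal.Quotient.mk_surjective u.toLinearMap ⟨k, hk⟩
    have hw' : ∀ x, Ideal.Quotient.mk J (w x) = u x := fun x => LinearMap.congr_fun hw x
    have haJ : ∀ a ∈ 𝔞, ∀ j ∈ J, a • j = (0 : C) := fun a ha j hj => by
      rw [Algebra.smul_def]
      exact Ideal.mem_bot.1 (hIJ ▸ Ideal.mul_mem_mul (Ideal.mem_map_of_mem _ ha) hj)
    -- the discrete quotient through which `u` and `w` factor
    let M := max m k
    let B' := B ⧸ 𝔟 ^ M
    let q : B →ₐ[A] B' := Ideal.Quotient.mkₐ A (𝔟 ^ M)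
    let u₁ : B' →ₐ[A] C ⧸ J := Ideal.Quotient.liftₐ _ u fun x hx => hk x (Ideal.pow_le_pow_right (le_max_right m k) hx)
    let w₁ : B' →ₗ[A] C := Submodule.liftQ ((𝔟 ^ M).restrictScalars A) w
      (fun x hx => hm x (Ideal.pow_le_pow_right (le_max_left m k) hx))
    have hw₁ : ∀ y : B', Ideal.Quotient.mk J (w₁ y) = u₁ y := fun y => by
      obtain ⟨x, rfl⟩ := Ideal.Quotient.mk_surjective y
      exact hw' x
    let E' : Subalgebra A (C × B') :=
      AlgHom.equalizer ((Ideal.Quotient.mkₐ A J).comp (AlgHom.fst A C B')) (u₁.comp (AlgHom.snd A C B'))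
    let T : Submodule A B' := 𝔞 • ⊤
    have hTmul : ∀ t ∈ T, ∀ y : B', y * t ∈ T := fun t ht y => by
      have h2 := Submodule.mem_map_of_mem (f := LinearMap.mulLeft A y) ht
      rw [Submodule.map_smul''] at h2
      exact Submodule.smul_mono le_rfl le_top h2
    have key : ∀ (c : C) (y : B'), Ideal.Quotient.mk J c = u₁ y → ∀ t ∈ T, c * w₁ t = w₁ (y * t) := by
      intro c y hcy t ht
      refine Submodule.smul_induction_on ht (fun a ha b _ => ?_) (fun a b ha hb => by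
        rw [map_add, mul_add, mul_add, map_add, ha, hb])
      rw [map_smul, mul_smul_comm, mul_smul_comm, map_smul, ← sub_eq_zero, ← smul_sub]
      refine haJ a ha _ (Ideal.Quotient.eq.1 ?_)
      rw [map_mul, hcy, hw₁, hw₁, map_mul]
    let K₀ : Ideal E' :=
      { carrier := {z | z.1.2 ∈ T ∧ z.1.1 = w₁ z.1.2}
        zero_mem' := ⟨T.zero_mem, (map_zero w₁).symm⟩
        add_mem' := fun {a b} ha hb => ⟨T.add_mem ha.1 hb.1, by
          show a.1.1 + b.1.1 = w₁ (a.1.2 + b.1.2)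
          rw [map_add, ha.2, hb.2]⟩
        smul_mem' := fun z a ha => ⟨hTmul _ ha.1 z.1.2, by
          show z.1.1 * a.1.1 = w₁ (z.1.2 * a.1.2)
          rw [ha.2]; exact key _ _ z.2 _ ha.1⟩ }
    let E := E' ⧸ K₀
    letI : CommRing E := Ideal.Quotient.commRing K₀
    have hE : ∀ a ∈ 𝔞, algebraMap A E a = 0 := fun a ha => by
      refine Ideal.Quotient.eq_zero_iff_mem.2 ⟨?_, ?_⟩
      · show algebraMap A B' a ∈ T
        rw [Algebra.algebraMap_eq_smul_one]
        exact Submodule.smul_mem_smul ha trivial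
      · show algebraMap A C a = w₁ (algebraMap A B' a)
        rw [Algebra.algebraMap_eq_smul_one, Algebra.algebraMap_eq_smul_one, map_smul, ← sub_eq_zero, ← smul_sub]
        refine haJ a ha _ (Ideal.Quotient.eq.1 ?_)
        rw [hw₁, map_one, map_one]
    letI : Algebra (A ⧸ 𝔞) E := RingHom.toAlgebra (Ideal.Quotient.lift 𝔞 (algebraMap A E) hE : A ⧸ 𝔞 →+* E)
    haveI : IsScalarTower A (A ⧸ 𝔞) E := IsScalarTower.of_algebraMap_eq fun _ => rfl
    let L : Ideal E' :=
      { carrier := {z | z.1.2 ∈ T}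
        zero_mem' := T.zero_mem
        add_mem' := fun {a b} ha hb => T.add_mem ha hb
        smul_mem' := fun z a ha => hTmul _ ha z.1.2 }
    let JE : Ideal E := L.map (Ideal.Quotient.mk K₀)
    have hJE : JE ^ 2 = ⊥ := by
      rw [sq, ← Ideal.map_mul, eq_bot_iff, Ideal.map_le_iff_le_comap, Ideal.mul_le]
      intro z hz z' hz'
      rw [Ideal.mem_comap, Ideal.mem_bot, Ideal.Quotient.eq_zero_iff_mem]
      refine ⟨hTmul _ hz' z.1.2, ?_⟩
      show z.1.1 * z'.1.1 = w₁ (z.1.2 * z'.1.2)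
      have e0 : (z.1.1 - w₁ z.1.2) * (z'.1.1 - w₁ z'.1.2) = 0 := by
        have := Ideal.mul_mem_mul (Ideal.Quotient.eq.1 ((z.2 : Ideal.Quotient.mk J z.1.1 = _).trans (hw₁ _).symm))
          (Ideal.Quotient.eq.1 ((z'.2 : Ideal.Quotient.mk J z'.1.1 = _).trans (hw₁ _).symm))
        rwa [← sq, hJ, Ideal.mem_bot] at this
      have e1 := key z.1.1 z.1.2 z.2 z'.1.2 hz'
      have e2 := key z'.1.1 z'.1.2 z'.2 z.1.2 hz
      have e3 := key (w₁ z.1.2) z.1.2 (hw₁ _) z'.1.2 hz'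
      rw [mul_comm z'.1.2 z.1.2] at e2
      linear_combination e0 + e1 + e2 - e3
    let σ : B → E' := fun x => ⟨(w₁ (q x), q x), hw₁ (q x)⟩
    have hσ : ∀ z : E', ∀ x, z.1.2 - q x ∈ T →
        Ideal.Quotient.mk JE (Ideal.Quotient.mk K₀ z) = Ideal.Quotient.mk JE (Ideal.Quotient.mk K₀ (σ x)) :=
      fun z x hzx => by
        rw [Ideal.Quotient.eq, ← map_sub]
        exact Ideal.mem_map_of_mem _ hzx
    let φ : B →ₐ[A] E ⧸ JE :=
      { toFun := fun x => Ideal.Quotient.mk JE (Ideal.Quotient.mk K₀ (σ x))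
        map_one' := by
          rw [← hσ 1 1 (by simp), map_one, map_one]
        map_mul' := fun x y => by
          rw [← map_mul, ← map_mul, hσ (σ x * σ y) (x * y) (by simp [σ])]
        map_zero' := by
          rw [← hσ 0 0 (by simp), map_zero, map_zero]
        map_add' := fun x y => by
          rw [← map_add, ← map_add, hσ (σ x + σ y) (x + y) (by simp [σ])]
        commutes' := fun a => by
          rw [← hσ (algebraMap A E' a) (algebraMap A B a) (by
            show algebraMap A B' a - q (algebraMap A B a) ∈ T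
            rw [AlgHom.commutes, sub_self]; exact T.zero_mem)]
          rfl }
    have hφn : ∀ x ∈ 𝔫, φ x = 0 := by
      have : 𝔫 ≤ RingHom.ker φ.toRingHom := Ideal.map_le_iff_le_comap.2 fun a h => by
        show φ (algebraMap A B a) = 0
        rw [AlgHom.commutes, IsScalarTower.algebraMap_apply A E (E ⧸ JE), hE a h, map_zero]
      exact fun x hx => this hx
    let φ₀ : B ⧸ 𝔫 →ₐ[A] E ⧸ JE := Ideal.Quotient.liftₐ 𝔫 φ hφn
    let u₀ : B ⧸ 𝔫 →ₐ[A ⧸ 𝔞] E ⧸ JE :=
      { φ₀.toRingHom with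
        commutes' := fun a => by
          obtain ⟨a, rfl⟩ := Ideal.Quotient.mk_surjective a
          exact φ₀.commutes a }
    obtain ⟨v₀, hv₀⟩ := h E JE ⟨2, hJE⟩ ⟨1, by rw [pow_one, Ideal.map_bot]⟩ u₀ ⟨M, fun y hy => by
      rw [← Ideal.map_pow] at hy
      obtain ⟨x, hx, rfl⟩ := (Ideal.mem_map_iff_of_surjective _ Ideal.Quotient.mk_surjective).1 hy
      have hqx : q x = 0 := Ideal.Quotient.eq_zero_iff_mem.2 hx
      show φ x = 0
      show Ideal.Quotient.mk JE (Ideal.Quotient.mk K₀ (σ x)) = 0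
      rw [← hσ 0 x (by simp [hqx]), map_zero, map_zero]⟩
    have hex : ∀ x : B, ∃ c : C, ∃ hc : Ideal.Quotient.mk J c = u₁ (q x),
        Ideal.Quotient.mk K₀ (⟨(c, q x), hc⟩ : E') = v₀ (Ideal.Quotient.mk 𝔫 x) := by
      intro x
      obtain ⟨z, hz⟩ := Ideal.Quotient.mk_surjective (v₀ (Ideal.Quotient.mk 𝔫 x))
      have h1 : z.1.2 - q x ∈ T := by
        have h2 := AlgHom.congr_fun hv₀ (Ideal.Quotient.mk 𝔫 x)
        rw [AlgHom.comp_apply, ← hz] at h2
        have h3 : Ideal.Quotient.mk JE (Ideal.Quotient.mk K₀ z) = Ideal.Quotient.mk JE (Ideal.Quotient.mk K₀ (σ x)) := h2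
        rw [Ideal.Quotient.eq, ← map_sub, Ideal.mem_map_iff_of_surjective _ Ideal.Quotient.mk_surjective] at h3
        obtain ⟨t, ht, hte⟩ := h3
        obtain ⟨h4, -⟩ := Ideal.Quotient.eq.1 hte
        have := T.sub_mem ht h4
        simpa [σ] using this
      have hc : Ideal.Quotient.mk J (z.1.1 - w₁ (z.1.2 - q x)) = u₁ (q x) := by
        rw [map_sub, hw₁, map_sub, show Ideal.Quotient.mk J z.1.1 = u₁ z.1.2 from z.2, sub_sub_cancel]
      refine ⟨_, hc, ?_⟩
      rw [← hz, Ideal.Quotient.eq]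
      refine ⟨?_, ?_⟩
      · show q x - z.1.2 ∈ T
        simpa using T.neg_mem h1
      · show z.1.1 - w₁ (z.1.2 - q x) - z.1.1 = w₁ (q x - z.1.2)
        rw [map_sub, map_sub]; ring
    choose v hv hvv using hex
    have huniq : ∀ x (c : C) (hc : Ideal.Quotient.mk J c = u₁ (q x)),
        Ideal.Quotient.mk K₀ (⟨(c, q x), hc⟩ : E') = v₀ (Ideal.Quotient.mk 𝔫 x) → v x = c := fun x c hc he => by
      obtain ⟨-, h2⟩ := Ideal.Quotient.eq.1 ((hvv x).trans he.symm)
      simpa [sub_eq_zero] using h2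
    refine ⟨{ toFun := v, map_one' := ?_, map_mul' := fun x y => ?_, map_zero' := ?_, map_add' := fun x y => ?_,
              commutes' := fun a => ?_ }, AlgHom.ext fun x => hv x⟩
    · refine huniq 1 1 (by simp) ?_
      simp only [map_one]
      exact map_one (Ideal.Quotient.mk K₀)
    · refine huniq _ _ (by rw [map_mul, hv, hv, map_mul, map_mul]) ?_
      refine Eq.trans ?_ ((congrArg v₀ (map_mul (Ideal.Quotient.mk 𝔫) x y)).trans (map_mul v₀ _ _)).symm
      refine Eq.trans ?_ (congrArg₂ (· * ·) (hvv x) (hvv y))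
      refine (congrArg (Ideal.Quotient.mk K₀) ?_).trans (map_mul (Ideal.Quotient.mk K₀) _ _)
      exact Subtype.ext (Prod.ext rfl (map_mul q x y))
    · refine huniq 0 0 (by simp) ?_
      simp only [map_zero]
      exact map_zero (Ideal.Quotient.mk K₀)
    · refine huniq _ _ (by rw [map_add, hv, hv, map_add, map_add]) ?_
      refine Eq.trans ?_ ((congrArg v₀ (map_add (Ideal.Quotient.mk 𝔫) x y)).trans (map_add v₀ _ _)).symm
      refine Eq.trans ?_ (congrArg₂ (· + ·) (hvv x) (hvv y))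
      refine (congrArg (Ideal.Quotient.mk K₀) ?_).trans (map_add (Ideal.Quotient.mk K₀) _ _)
      exact Subtype.ext (Prod.ext rfl (map_add q x y))
    · refine huniq _ _ (by rw [AlgHom.commutes, AlgHom.commutes]; rfl) ?_
      have e1 : Ideal.Quotient.mk 𝔫 (algebraMap A B a) = algebraMap (A ⧸ 𝔞) (B ⧸ 𝔫) (Ideal.Quotient.mk 𝔞 a) := rfl
      refine Eq.trans ?_ ((congrArg v₀ e1).trans (v₀.commutes _)).symm
      show Ideal.Quotient.mk K₀ _ = Ideal.Quotient.mk K₀ (algebraMap A E' a)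
      exact congrArg (Ideal.Quotient.mk K₀) (Subtype.ext (Prod.ext rfl (AlgHom.commutes q a)))

end Groth.Agent.S4553
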