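import Mathlib
import Groth.Statements.S4554
import Groth.Agent.FSAdicStepLib.Basic
-- import your own Groth.Agent.* helpers here

set_option autoImplicit false
universe u
open EGA41
open scoped TensorProduct

namespace Groth.Agent.S4554

open TensorProduct in
/-- Let A be 𝔞-adic, B a topological A-algebra for the 𝔟-adic topology (a power of 𝔞 maps into 𝔟) which
is a formally projective topological A-module, and A' an A-algebra with the topology deduced from A
(the 𝔞A'-adic topology) which is a faithfully flat, projective A-module of finite type. Then B' = A'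
⊗_A B, with the tensor product topology (the adic topology of the ideal generated by the images of 𝔞
and 𝔟), is a formally smooth A'-algebra if and only if B is a formally smooth A-algebra. -/
theorem result {A B A' : Type u} [CommRing A] [CommRing B]
    [CommRing A'] [Algebra A B] [Algebra A A'] (𝔞 : Ideal A) (𝔟 : Ideal B) (hAB : ∃ k : ℕ, (𝔞 ^ k).map (algebraMap A B) ≤ 𝔟)
    (hproj : ∀ (n : ℕ) (P Q : Type u) [AddCommGroup P] [Module A P] [AddCommGroup Q] [Module A Q],
      (∀ a ∈ 𝔞 ^ n, ∀ y : P, a • y = 0) → (∀ a ∈ 𝔞 ^ n, ∀ y : Q, a • y = 0) →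
      ∀ f : P →ₗ[A] Q, Function.Surjective f → ∀ v : B →ₗ[A] Q, (∃ m : ℕ, ∀ x ∈ 𝔟 ^ m, v x = 0) →
        ∃ w : B →ₗ[A] P, (∃ m : ℕ, ∀ x ∈ 𝔟 ^ m, w x = 0) ∧ f ∘ₗ w = v)
    [Module.FaithfullyFlat A A'] [Module.Projective A A'] [Module.Finite A A'] :
    EGA41.IsFormallySmoothAdic A' (𝔞.map (algebraMap A A')) (A' ⊗[A] B)
        ((𝔞.map (algebraMap A A')).map (algebraMap A' (A' ⊗[A] B)) ⊔
          𝔟.map (Algebra.TensorProduct.includeRight : B →ₐ[A] A' ⊗[A] B).toRingHom) ↔
      EGA41.IsFormallySmoothAdic A 𝔞 B 𝔟 := by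
  classical
  let F : B →ₐ[A] A' ⊗[A] B := Algebra.TensorProduct.includeRight
  constructor
  · intro h
    refine Groth.Agent.FSAdicStepLib.isFormallySmoothAdic_of_step ?_
    intro C _ _ J hJ hIJ hC u hu
    -- a retraction of the unit
    obtain ⟨r, hr⟩ : ∃ r : A' →ₗ[A] A, r 1 = 1 := by
      let T : Ideal A := LinearMap.range (LinearMap.applyₗ (1 : A') : (A' →ₗ[A] A) →ₗ[A] A)
      suffices hT : T = ⊤ by
        obtain ⟨r, hr⟩ := hT.ge (Submodule.mem_top (x := (1 : A)))
        exact ⟨r, hr⟩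
      by_contra hT
      obtain ⟨m, hm, hle⟩ := Ideal.exists_le_maximal T hT
      refine Module.FaithfullyFlat.submodule_ne_top (M := A') hm ((Submodule.eq_top_iff').2 fun y => ?_)
      obtain ⟨s, hs⟩ := Module.projective_def.1 (inferInstance : Module.Projective A A')
      have h1 : (1 : A') ∈ (m • ⊤ : Submodule A A') := by
        rw [← hs 1, Finsupp.linearCombination_apply]
        refine Submodule.sum_mem _ fun p _ => ?_
        exact Submodule.smul_mem_smul (hle ⟨Finsupp.lapply p ∘ₗ s, rfl⟩) trivial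
      have h2 := Submodule.mem_map_of_mem (f := LinearMap.mulLeft A y) h1
      rw [Submodule.map_smul''] at h2
      have h3 := Submodule.smul_mono le_rfl le_top h2
      simpa using h3
    obtain ⟨k, hk⟩ := hu
    obtain ⟨l, hl⟩ := hC
    let J' : Ideal (A' ⊗[A] C) := J.map (Algebra.TensorProduct.includeRight : C →ₐ[A] A' ⊗[A] C)
    have hJ' : J' ^ 2 = ⊥ := by rw [← Ideal.map_pow, hJ, Ideal.map_bot]
    let φ : C ⧸ J →ₐ[A] (A' ⊗[A] C) ⧸ J' :=
      Ideal.Quotient.liftₐ J ((Ideal.Quotient.mkₐ A J').comp Algebra.TensorProduct.includeRight)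
        (fun c hc => Ideal.Quotient.eq_zero_iff_mem.2 (Ideal.mem_map_of_mem _ hc))
    let u' : A' ⊗[A] B →ₐ[A'] (A' ⊗[A] C) ⧸ J' :=
      Algebra.TensorProduct.lift (Algebra.ofId A' _) (φ.comp u) fun _ _ => Commute.all _ _
    have hu'F : ∀ x, u' (F x) = φ (u x) := fun x => by
      simp [u', F]
    have hA'C : ((𝔞.map (algebraMap A A')) ^ l).map (algebraMap A' (A' ⊗[A] C)) = ⊥ := by
      rw [← Ideal.map_pow, Ideal.map_map, ← IsScalarTower.algebraMap_eq,
        ← (Algebra.TensorProduct.includeRight : C →ₐ[A] A' ⊗[A] C).comp_algebraMap, ← Ideal.map_map, hl,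
        Ideal.map_bot]
    obtain ⟨v', hv'⟩ := h (A' ⊗[A] C) J' ⟨2, hJ'⟩ ⟨l, hA'C⟩ u' ⟨l + k, fun x hx => by
      have h1 := Ideal.sup_pow_add_le_pow_sup_pow hx
      obtain ⟨a, ha, b, hb, rfl⟩ := Submodule.mem_sup.1 h1
      have h2 : ((𝔞.map (algebraMap A A')).map (algebraMap A' (A' ⊗[A] B))) ^ l ≤ RingHom.ker u'.toRingHom := by
        rw [← Ideal.map_pow, Ideal.map_le_iff_le_comap]
        intro y hy
        show u' (algebraMap A' _ y) = 0
        rw [AlgHom.commutes, IsScalarTower.algebraMap_apply A' (A' ⊗[A] C) ((A' ⊗[A] C) ⧸ J'),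
          show algebraMap A' (A' ⊗[A] C) y = 0 from Ideal.mem_bot.1 (hA'C ▸ Ideal.mem_map_of_mem _ hy), map_zero]
      have h3 : (𝔟.map F.toRingHom) ^ k ≤ RingHom.ker u'.toRingHom := by
        rw [← Ideal.map_pow, Ideal.map_le_iff_le_comap]
        intro y hy
        show u' (F y) = 0
        rw [hu'F, hk y hy, map_zero]
      rw [map_add, show u' a = 0 from h2 ha, show u' b = 0 from h3 hb, add_zero]⟩
    let ρ : A' ⊗[A] C →ₗ[A] C := (TensorProduct.lid A C).toLinearMap ∘ₗ r.rTensor C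
    have hρ1 : ∀ c : C, ρ ((1 : A') ⊗ₜ c) = c := fun c => by simp [ρ, hr]
    have hρmul : ∀ (c : C) (z : A' ⊗[A] C), ρ ((1 : A') ⊗ₜ c * z) = c * ρ z := fun c z => by
      induction z using TensorProduct.induction_on with
      | zero => simp
      | tmul a d => simp [ρ, mul_smul_comm]
      | add a b ha hb => simp [mul_add, ha, hb]
    have hρJ : ∀ z ∈ J', ρ z ∈ J := by
      intro z hz
      have : ∀ y : A' ⊗[A] C, ρ (y * z) ∈ J := by
        refine Submodule.span_induction (p := fun z _ => ∀ y : A' ⊗[A] C, ρ (y * z) ∈ J) ?_ ?_ ?_ ?_ hz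
        · rintro _ ⟨j, hj, rfl⟩ y
          rw [mul_comm]
          show ρ ((1 : A') ⊗ₜ j * y) ∈ J
          rw [hρmul]
          exact Ideal.mul_mem_right _ _ hj
        · simp
        · intro a b _ _ ha hb y; rw [mul_add, map_add]; exact add_mem (ha y) (hb y)
        · intro a b _ hb y; rw [smul_eq_mul, ← mul_assoc]; exact hb _
      simpa using this 1
    choose c hc using fun x => Ideal.Quotient.mk_surjective (u x)
    have hd : ∀ x, v' (F x) - (1 : A') ⊗ₜ c x ∈ J' := fun x => by
      have h1 := (AlgHom.congr_fun hv' (F x)).trans (hu'F x)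
      rw [← hc x] at h1
      exact Ideal.Quotient.eq.1 h1
    let v0 : B → C := fun x => ρ (v' (F x))
    have hv0 : ∀ x, v0 x - c x ∈ J := fun x => by
      show ρ (v' (F x)) - c x ∈ J
      conv => enter [2, 2]; rw [← hρ1 (c x)]
      rw [← map_sub]
      exact hρJ _ (hd x)
    have hmul : ∀ x y, v0 (x * y) = v0 x * v0 y := fun x y => by
      have h1 : (v' (F x) - (1 : A') ⊗ₜ c x) * (v' (F y) - (1 : A') ⊗ₜ c y) = 0 := by
        have := Ideal.mul_mem_mul (hd x) (hd y)
        rwa [← sq, hJ', Ideal.mem_bot] at this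
      have h2 : (v0 x - c x) * (v0 y - c y) = 0 := by
        have := Ideal.mul_mem_mul (hv0 x) (hv0 y)
        rwa [← sq, hJ, Ideal.mem_bot] at this
      have h3 : v' (F (x * y)) = (1 : A') ⊗ₜ c x * v' (F y) + (1 : A') ⊗ₜ c y * v' (F x)
          - (1 : A') ⊗ₜ (c x * c y) := by
        rw [map_mul, map_mul, show (1 : A') ⊗ₜ[A] (c x * c y) = (1 : A') ⊗ₜ c x * (1 : A') ⊗ₜ c y by simp]
        linear_combination h1
      show ρ (v' (F (x * y))) = v0 x * v0 y
      rw [h3, map_sub, map_add, hρmul, hρmul, hρ1]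
      linear_combination (-1 : C) * h2
    refine ⟨AlgHom.ofLinearMap (ρ ∘ₗ (v'.toLinearMap.restrictScalars A) ∘ₗ F.toLinearMap) ?_ hmul, AlgHom.ext fun x => ?_⟩
    · show ρ (v' (F 1)) = 1
      rw [map_one, map_one, Algebra.TensorProduct.one_def, hρ1]
    · show Ideal.Quotient.mk J (v0 x) = u x
      rw [← hc x, Ideal.Quotient.eq]
      exact hv0 x
  · intro h C _ _ J hJ hC u hu
    letI : Algebra A C := ((algebraMap A' C).comp (algebraMap A A')).toAlgebra
    haveI : IsScalarTower A A' C := IsScalarTower.of_algebraMap_eq fun _ => rfl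
    obtain ⟨k, hk⟩ := hu
    obtain ⟨l, hl⟩ := hC
    obtain ⟨v, hv⟩ := h C J hJ ⟨l, by
        rw [IsScalarTower.algebraMap_eq A A' C, ← Ideal.map_map, Ideal.map_pow]; exact hl⟩
      ((u.restrictScalars A).comp F) ⟨k, fun x hx => hk _ (by
        refine Ideal.pow_right_mono le_sup_right k ?_
        rw [← Ideal.map_pow]
        exact Ideal.mem_map_of_mem _ hx)⟩
    refine ⟨Algebra.TensorProduct.lift (Algebra.ofId A' C) v fun _ _ => Commute.all _ _, ?_⟩
    refine Algebra.TensorProduct.ext (by ext) (AlgHom.ext fun x => ?_)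
    have := AlgHom.congr_fun hv x
    simpa [F] using this

end Groth.Agent.S4554
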