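import Groth.Statements.S4555
import Mathlib

set_option autoImplicit false
universe u
open EGA41

namespace Groth.Agent.S4555

open MvPowerSeries

variable {A : Type u} [CommRing A] {n : ℕ}

/-- The exponent `(N, …, N)`. -/
noncomputable def box (n N : ℕ) : Fin n →₀ ℕ := Finsupp.equivFunOnFinite.symm fun _ => N

theorem le_box {N : ℕ} (d : Fin n →₀ ℕ) : d ≤ box n N ↔ ∀ i, d i ≤ N := Iff.rfl

/-- A power series is its truncation up to multiples of high powers of the variables. -/
theorem exists_decomp (N : ℕ) (f : MvPowerSeries (Fin n) A) :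
    ∃ H : Fin n → MvPowerSeries (Fin n) A,
      f = ↑(trunc' A (box n N) f) + ∑ i, (X i : MvPowerSeries (Fin n) A) ^ (N + 1) * H i := by
  classical
  let H : Fin n → MvPowerSeries (Fin n) A := fun i e =>
    if ∀ j < i, e j ≤ N then coeff (e + Finsupp.single i (N + 1)) f else 0
  have hH : ∀ i d, coeff d ((X i : MvPowerSeries (Fin n) A) ^ (N + 1) * H i) =
      if N < d i ∧ ∀ j < i, d j ≤ N then coeff d f else 0 := by
    intro i d
    rw [X_pow_eq, coeff_monomial_mul, one_mul]
    have h1 : Finsupp.single i (N + 1) ≤ d ↔ N < d i := Finsupp.single_le_iff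
    by_cases hd : N < d i
    · have h2 : d - Finsupp.single i (N + 1) + Finsupp.single i (N + 1) = d :=
        tsub_add_cancel_of_le (h1.2 hd)
      have h3 : (∀ j < i, (d - Finsupp.single i (N + 1)) j ≤ N) ↔ ∀ j < i, d j ≤ N := by
        refine forall₂_congr fun j hj => ?_
        rw [Finsupp.tsub_apply, Finsupp.single_eq_of_ne hj.ne, Nat.sub_zero]
      rw [if_pos (h1.2 hd), coeff_apply]
      simp only [H, h2]
      by_cases hall : ∀ j < i, d j ≤ N
      · rw [if_pos (h3.2 hall), if_pos ⟨hd, hall⟩]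
      · rw [if_neg fun h => hall (h3.1 h), if_neg fun h => hall h.2]
    · rw [if_neg fun h => hd (h1.1 h), if_neg fun h => hd h.1]
  refine ⟨H, MvPowerSeries.ext fun d => ?_⟩
  rw [map_add, map_sum, MvPolynomial.coeff_coe, coeff_trunc', Finset.sum_congr rfl fun i _ => hH i d]
  by_cases hd : d ≤ box n N
  · rw [if_pos hd, Finset.sum_eq_zero fun i _ => ?_, add_zero]
    exact if_neg fun h => absurd ((le_box d).1 hd i) (not_le.2 h.1)
  · rw [if_neg hd, zero_add]
    have hne : (Finset.univ.filter fun i => N < d i).Nonempty := by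
      obtain ⟨i, hi⟩ := not_forall.1 (mt (le_box d).2 hd)
      exact ⟨i, Finset.mem_filter.2 ⟨Finset.mem_univ _, not_le.1 hi⟩⟩
    let i₀ := (Finset.univ.filter fun i => N < d i).min' hne
    have hi₀ : N < d i₀ := (Finset.mem_filter.1 (Finset.min'_mem _ hne)).2
    have hmin : ∀ j < i₀, d j ≤ N := fun j hj => not_lt.1 fun h =>
      hj.not_ge (Finset.min'_le _ j (Finset.mem_filter.2 ⟨Finset.mem_univ _, h⟩))
    rw [Finset.sum_eq_single i₀, if_pos ⟨hi₀, hmin⟩]
    · intro i _ hne'
      refine if_neg fun h => ?_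
      rcases lt_or_gt_of_ne hne' with hlt | hgt
      · exact absurd (hmin i hlt) (not_le.2 h.1)
      · exact absurd (h.2 i₀ hgt) (not_le.2 hi₀)
    · exact fun h => absurd (Finset.mem_univ _) h

variable {E : Type u} [CommRing E] [Algebra A E]

theorem aeval_trunc' {z : Fin n → E} {N : ℕ} (hz : ∀ i, z i ^ (N + 1) = 0) (P : MvPolynomial (Fin n) A) :
    MvPolynomial.aeval z (trunc' A (box n N) (P : MvPowerSeries (Fin n) A)) = MvPolynomial.aeval z P := by
  classical
  induction P using MvPolynomial.induction_on' with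
  | monomial d a =>
    rw [MvPolynomial.coe_monomial]
    by_cases hd : d ≤ box n N
    · congr 1
      ext e
      rw [coeff_trunc', MvPowerSeries.coeff_monomial, MvPolynomial.coeff_monomial]
      by_cases he : e = d
      · subst he; rw [if_pos hd, if_pos rfl]
      · rw [if_neg he, ite_self, if_neg fun h => he h.symm]
    · rw [show trunc' A (box n N) (monomial d a) = 0 from ?_, map_zero, MvPolynomial.aeval_monomial]
      · obtain ⟨i, hi⟩ := not_forall.1 (mt (le_box d).2 hd)
        have : (z i) ^ d i = 0 := pow_eq_zero_of_le (not_le.1 hi) (hz i)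
        rw [Finsupp.prod_fintype _ _ (fun _ => pow_zero _), Finset.prod_eq_zero (Finset.mem_univ i) this,
          mul_zero]
      · ext e
        rw [coeff_trunc', MvPowerSeries.coeff_monomial, MvPolynomial.coeff_zero]
        by_cases he : e = d
        · subst he; rw [if_neg hd]
        · rw [if_neg he, ite_self]
  | add p q hp hq => rw [MvPolynomial.coe_add, map_add, map_add, map_add, hp, hq]

/-- Evaluation at nilpotent elements. -/
noncomputable def evalNil (z : Fin n → E) (N : ℕ) (hz : ∀ i, z i ^ (N + 1) = 0) :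
    MvPowerSeries (Fin n) A →ₐ[A] E :=
  AlgHom.ofLinearMap ((MvPolynomial.aeval z).toLinearMap ∘ₗ trunc' A (box n N))
    (by simp [trunc'_one])
    fun f g => by
      classical
      show MvPolynomial.aeval z (trunc' A (box n N) (f * g)) =
        MvPolynomial.aeval z (trunc' A (box n N) f) * MvPolynomial.aeval z (trunc' A (box n N) g)
      rw [← map_mul, ← aeval_trunc' hz (trunc' A (box n N) f * trunc' A (box n N) g)]
      congr 1
      ext m
      rw [coeff_trunc', coeff_trunc']
      split_ifs with hm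
      · rw [MvPolynomial.coeff_coe, coeff_mul_eq_coeff_trunc'_mul_trunc' _ _ _ hm]
      · rfl

theorem evalNil_apply (z : Fin n → E) (N : ℕ) (hz : ∀ i, z i ^ (N + 1) = 0) (P : MvPolynomial (Fin n) A) :
    evalNil z N hz (P : MvPowerSeries (Fin n) A) = MvPolynomial.aeval z P := aeval_trunc' hz P


/-- Let A carry the 𝔞-adic topology, B = A[[T_1, …, T_n]] the product topology (the adic topology of 𝔞B
+ (T_1, …, T_n)), and let E be a discrete topological A-algebra (a power of 𝔞 kills E). (i) If f : B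
→ E is a continuous A-algebra homomorphism then each f(T_i) is nilpotent. (ii) Conversely, for every
family (z_i) of nilpotent elements of E there is one and only one continuous A-algebra homomorphism
g : B → E with g(T_i) = z_i for all i. -/
theorem result (A : Type u) [CommRing A] (𝔞 : Ideal A) (n : ℕ) (E : Type u) [CommRing E]
    [Algebra A E] (hE : ∃ k : ℕ, (𝔞 ^ k).map (algebraMap A E) = ⊥) :
    (∀ f : MvPowerSeries (Fin n) A →ₐ[A] E,
      (∃ m : ℕ, ∀ x ∈ (𝔞.map (MvPowerSeries.C : A →+* MvPowerSeries (Fin n) A) ⊔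
        RingHom.ker (MvPowerSeries.constantCoeff : MvPowerSeries (Fin n) A →+* A)) ^ m, f x = 0) →
      ∀ i, IsNilpotent (f (MvPowerSeries.X i))) ∧
    ∀ z : Fin n → E, (∀ i, IsNilpotent (z i)) →
      ∃! g : MvPowerSeries (Fin n) A →ₐ[A] E,
        (∃ m : ℕ, ∀ x ∈ (𝔞.map (MvPowerSeries.C : A →+* MvPowerSeries (Fin n) A) ⊔
          RingHom.ker (MvPowerSeries.constantCoeff : MvPowerSeries (Fin n) A →+* A)) ^ m, g x = 0) ∧
        ∀ i, g (MvPowerSeries.X i) = z i := by
  classical
  let Q : Ideal (MvPowerSeries (Fin n) A) := 𝔞.map (MvPowerSeries.C : A →+* MvPowerSeries (Fin n) A) ⊔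
    RingHom.ker (MvPowerSeries.constantCoeff : MvPowerSeries (Fin n) A →+* A)
  have hX : ∀ i, (MvPowerSeries.X i : MvPowerSeries (Fin n) A) ∈ Q := fun i =>
    Ideal.mem_sup_right (MvPowerSeries.constantCoeff_X i)
  refine ⟨fun f ⟨m, hm⟩ i => ⟨m, by rw [← map_pow]; exact hm _ (Ideal.pow_mem_pow (hX i) m)⟩, fun z hz => ?_⟩
  choose e he using hz
  let N := ∑ i, e i
  have hzN : ∀ i, z i ^ (N + 1) = 0 := fun i =>
    pow_eq_zero_of_le (Nat.le_succ_of_le (Finset.single_le_sum (fun j _ => Nat.zero_le (e j))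
      (Finset.mem_univ i))) (he i)
  obtain ⟨k, hk⟩ := hE
  let Z : Ideal E := Ideal.span (Set.range z)
  obtain ⟨l, hl⟩ : IsNilpotent Z := by
    refine Ideal.FG.isNilpotent_iff_le_nilradical ⟨Finset.univ.image z, by simp [Z]⟩ |>.2 ?_
    refine Ideal.span_le.2 ?_
    rintro _ ⟨i, rfl⟩
    exact ⟨N + 1, hzN i⟩
  let g : MvPowerSeries (Fin n) A →ₐ[A] E := evalNil z N hzN
  have hgX : ∀ i, g (MvPowerSeries.X i) = z i := fun i => by
    rw [← MvPolynomial.coe_X]
    exact (evalNil_apply z N hzN _).trans (MvPolynomial.aeval_X z i)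
  have hker : (RingHom.ker (MvPowerSeries.constantCoeff : MvPowerSeries (Fin n) A →+* A)).map g ≤ Z := by
    refine Ideal.map_le_iff_le_comap.2 fun f hf => ?_
    obtain ⟨H, hH⟩ := exists_decomp 0 f
    have h0 : (trunc' A (box n 0) f) = 0 := by
      ext d
      rw [MvPowerSeries.coeff_trunc', MvPolynomial.coeff_zero]
      split_ifs with hd
      · obtain rfl : d = 0 := Finsupp.ext fun i => Nat.le_zero.1 ((le_box d).1 hd i)
        rw [MvPowerSeries.coeff_zero_eq_constantCoeff]
        exact hf
      · rfl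
    rw [h0, MvPolynomial.coe_zero, zero_add] at hH
    rw [Ideal.mem_comap, hH, map_sum]
    refine Ideal.sum_mem _ fun i _ => ?_
    rw [map_mul, zero_add, pow_one, hgX]
    exact Ideal.mul_mem_right _ _ (Ideal.subset_span ⟨i, rfl⟩)
  refine ⟨g, ⟨⟨k + l, fun x hx => ?_⟩, hgX⟩, fun g' hg' => ?_⟩
  · have h1 : Q.map g ≤ 𝔞.map (algebraMap A E) ⊔ Z := by
      rw [Ideal.map_sup]
      refine sup_le_sup ?_ hker
      refine Ideal.map_le_iff_le_comap.2 (Ideal.map_le_iff_le_comap.2 fun a ha => ?_)
      rw [Ideal.mem_comap, Ideal.mem_comap]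
      show g (algebraMap A (MvPowerSeries (Fin n) A) a) ∈ _
      rw [g.commutes]
      exact Ideal.mem_map_of_mem _ ha
    have h2 : (Q ^ (k + l)).map g ≤ ⊥ := by
      rw [Ideal.map_pow]
      refine (Ideal.pow_right_mono h1 _).trans (Ideal.sup_pow_add_le_pow_sup_pow.trans ?_)
      rw [← Ideal.map_pow, hk, hl, Ideal.zero_eq_bot, sup_idem]
    exact (Submodule.mem_bot _).1 (h2 (Ideal.mem_map_of_mem g hx))
  · obtain ⟨⟨m, hm⟩, hg'X⟩ := hg'
    ext f
    have hpoly : ∀ P : MvPolynomial (Fin n) A, g' P = g P := fun P => by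
      induction P using MvPolynomial.induction_on with
      | C a =>
        rw [MvPolynomial.coe_C, show (MvPowerSeries.C a : MvPowerSeries (Fin n) A) =
          algebraMap A (MvPowerSeries (Fin n) A) a from rfl, g'.commutes, g.commutes]
      | add p q hp hq => rw [MvPolynomial.coe_add, map_add, map_add, hp, hq]
      | mul_X p i hp => rw [MvPolynomial.coe_mul, MvPolynomial.coe_X, map_mul, map_mul, hp, hg'X, hgX]
    obtain ⟨H, hH⟩ := exists_decomp (N + m) f
    have hz' : ∀ i, z i ^ (N + m + 1) = 0 := fun i => pow_eq_zero_of_le (by omega) (hzN i)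
    rw [hH, map_add, map_add, hpoly, map_sum, map_sum]
    congr 1
    refine Finset.sum_congr rfl fun i _ => ?_
    rw [map_mul, map_mul, map_pow, map_pow, hg'X, hgX, hz', zero_mul, zero_mul]

end Groth.Agent.S4555
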