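import Groth.Statements.S4556
import Mathlib
-- import your own Groth.Agent.* helpers here

set_option autoImplicit false
universe u
open EGA41

namespace Groth.Agent.S4556

/-- Let B be a formally smooth A-algebra, E and E' two A-algebras, R (resp. R') a nilpotent ideal of E
(resp. E'), f : E → E' a surjective A-algebra homomorphism with f(R) = R', and f' : E/R → E'/R' the
induced homomorphism. Let u : B → E/R be an A-algebra homomorphism and v' : B → E' an A-algebra
homomorphism through which f' ∘ u factors (v' followed by E' → E'/R' equals f' ∘ u). Then there is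
an A-algebra homomorphism v : B → E with f ∘ v = v'. (The published statement assumes only f(R) ⊆
R'; in that form it fails for B = ℚ[x, x⁻¹], E = ℚ[t], E' = ℚ[t]/(t²), R = 0, R' = (t), u : x ↦ 1
and v' : x ↦ 1 + t, since any v sends x to a unit of ℚ[t], a constant; the argument identifies R'
with the image of R, and that equality is assumed here.) -/
theorem result {A B E E' : Type u} [CommRing A] [CommRing B] [Algebra A B]
    [Algebra.FormallySmooth A B] [CommRing E] [CommRing E'] [Algebra A E] [Algebra A E']
    (R : Ideal E) (R' : Ideal E') (hR : IsNilpotent R) (hR' : IsNilpotent R')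
    (f : E →ₐ[A] E') (hf : Function.Surjective f) (hfR : R.map f.toRingHom = R')
    (u : B →ₐ[A] E ⧸ R) (v' : B →ₐ[A] E')
    (huv : (Ideal.Quotient.mkₐ A R').comp v' =
      (Ideal.quotientMapₐ R' f (fun x hx => hfR.le (Ideal.mem_map_of_mem f.toRingHom hx))).comp u) :
    ∃ v : B →ₐ[A] E, f.comp v = v' := by
  let g0 : E →ₐ[A] (E ⧸ R) × E' := (Ideal.Quotient.mkₐ A R).prod f
  have hmem : ∀ b, (u b, v' b) ∈ g0.range := by
    intro b
    obtain ⟨e, he⟩ := Ideal.Quotient.mk_surjective (u b)
    have h1 := AlgHom.congr_fun huv b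
    simp only [AlgHom.comp_apply, ← he] at h1
    have h2 : v' b - f e ∈ R' := Ideal.Quotient.eq.1 (h1.trans (Ideal.quotient_map_mkₐ (A := E) (B := E') R' f _ ))
    rw [← hfR, Ideal.mem_map_iff_of_surjective f.toRingHom hf] at h2
    obtain ⟨r, hr, hfr⟩ := h2
    refine ⟨e + r, Prod.ext ?_ ?_⟩
    · show Ideal.Quotient.mk R (e + r) = u b
      rw [map_add, he, Ideal.Quotient.eq_zero_iff_mem.2 hr, add_zero]
    · show f (e + r) = v' b
      have : f r = v' b - f e := hfr
      rw [map_add, this, add_sub_cancel]
  let w : B →ₐ[A] g0.range := (u.prod v').codRestrict g0.range hmem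
  have hs : Function.Surjective g0.rangeRestrict := g0.rangeRestrict_surjective
  have hn : IsNilpotent (RingHom.ker (g0.rangeRestrict : E →+* g0.range)) := by
    obtain ⟨k, hk⟩ := hR
    refine ⟨k, le_bot_iff.1 ((Ideal.pow_right_mono ?_ k).trans hk.le)⟩
    intro x hx
    have : g0 x = 0 := congrArg Subtype.val hx
    exact Ideal.Quotient.eq_zero_iff_mem.1 (congrArg Prod.fst this)
  let v := Algebra.FormallySmooth.liftOfSurjective w g0.rangeRestrict hs hn
  refine ⟨v, AlgHom.ext fun b => ?_⟩
  have h3 : g0.rangeRestrict (v b) = w b :=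
    Algebra.FormallySmooth.liftOfSurjective_apply w g0.rangeRestrict hs hn b
  exact congrArg Prod.snd (congrArg Subtype.val h3)

end Groth.Agent.S4556
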