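import Groth.Statements.S4557
import Groth.Agent.CKaehlerLib.Lower
import Groth.Agent.NagataLib.Truncation
import Groth.Agent.WeilLib.Dim
-- import your own Groth.Agent.* helpers here

set_option autoImplicit false
universe u
open EGA41

namespace Groth.Agent.S4557

open IsLocalRing TensorProduct in
/-- Let A be a complete Noetherian local integral domain, A₀ a subring of A isomorphic to a power series
ring k[[T_1, …, T_r]] over a field k such that A is a finite A₀-algebra and the field of fractions E
of A is a separable extension of the field of fractions L₀ of A₀ (here: A₀ = k[[T]] → A injective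
and finite, A a k-algebra through A₀, and every element of A is a root of a polynomial over A₀ which
is separable over L₀). Then rk_A Ω̂_{A/k} = rk_E (Ω̂_{A/k} ⊗_A E) = dim A = r, where Ω̂_{A/k} is the
𝔪-adic completion of Ω_{A/k}; stated as dim_E (E ⊗_A Ω̂_{A/k}) = r. -/
theorem result (k : Type u) [Field k] (r : ℕ) (A : Type u) [CommRing A]
    [IsDomain A] [IsLocalRing A] [IsNoetherianRing A] [IsAdicComplete (maximalIdeal A) A]
    [Algebra (MvPowerSeries (Fin r) k) A] [Algebra k A] [IsScalarTower k (MvPowerSeries (Fin r) k) A]
    (hinj : Function.Injective (algebraMap (MvPowerSeries (Fin r) k) A)) [Module.Finite (MvPowerSeries (Fin r) k) A]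
    (hsep : ∀ a : A, ∃ P : Polynomial (MvPowerSeries (Fin r) k), Polynomial.aeval a P = 0 ∧
      (P.map (algebraMap (MvPowerSeries (Fin r) k) (FractionRing (MvPowerSeries (Fin r) k)))).Separable) :
    Module.finrank (FractionRing A) (FractionRing A ⊗[A] AdicCompletion (maximalIdeal A) (Ω[A⁄k])) = r := by
  classical
  let R := MvPowerSeries (Fin r) k
  let E := FractionRing A
  haveI := CohenLib.isRegularLocalRing_mvPowerSeries k r
  haveI : IsDomain R := NoZeroDivisors.to_isDomain _
  have hdim : ringKrullDim A = r := by
    rw [WeilLib.ringKrullDim_eq_of_integral R A hinj, CohenLib.ringKrullDim_mvPowerSeries_field]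
  haveI : ((maximalIdeal A).comap (algebraMap R A)).IsMaximal :=
    Ideal.isMaximal_comap_of_isIntegral_of_isMaximal _
  have hcomap : (maximalIdeal A).comap (algebraMap R A) = maximalIdeal R := IsLocalRing.eq_maximalIdeal this
  have hX : ∀ j, algebraMap R A (MvPowerSeries.X j) ∈ maximalIdeal A := fun j => by
    rw [← Ideal.mem_comap, hcomap, CohenLib.maximalIdeal_mvPowerSeries_field]
    exact Ideal.subset_span ⟨j, rfl⟩
  haveI : Module.Finite k (ResidueField A) := by
    obtain ⟨t, ht⟩ := (inferInstance : Module.Finite R A).fg_top
    refine ⟨⟨t.image (residue A), eq_top_iff.2 fun z hz0 => ?_⟩⟩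
    clear hz0
    obtain ⟨a, rfl⟩ := residue_surjective z
    rw [Finset.coe_image]
    have ha : a ∈ Submodule.span R (t : Set A) := ht ▸ Submodule.mem_top
    induction ha using Submodule.span_induction with
    | mem y hy => exact Submodule.subset_span ⟨y, hy, rfl⟩
    | zero => rw [map_zero]; exact zero_mem _
    | add _ _ _ _ ha hb => rw [map_add]; exact add_mem ha hb
    | smul g y _ hy =>
      have h : residue A (g • y) = MvPowerSeries.constantCoeff g • residue A y := by
        rw [Algebra.smul_def, map_mul, Algebra.smul_def, IsScalarTower.algebraMap_apply k A (ResidueField A),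
          IsScalarTower.algebraMap_apply k R A]
        congr 1
        refine Ideal.Quotient.eq.2 ?_
        rw [← map_sub, ← Ideal.mem_comap, hcomap, mem_maximalIdeal, mem_nonunits_iff,
          MvPowerSeries.isUnit_iff_constantCoeff, map_sub, MvPowerSeries.algebraMap_apply,
          MvPowerSeries.constantCoeff_C]
        simp
      rw [h]
      exact Submodule.smul_mem _ _ hy
  haveI := CKaehlerLib.finite_completedKaehler k A
  refine le_antisymm ?_ ?_
  · rw [CKaehlerLib.finrank_fibre_eq_hom]
    let Φ : (AdicCompletion (maximalIdeal A) (Ω[A⁄k]) →ₗ[A] E) →ₗ[E] (Fin r → E) :=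
      { toFun := fun g j => g (CKaehlerLib.dHat k A (algebraMap R A (MvPowerSeries.X j)))
        map_add' := fun _ _ => rfl
        map_smul' := fun _ _ => rfl }
    have hΦ : Function.Injective Φ := by
      rw [injective_iff_map_eq_zero]
      intro g hg
      refine CKaehlerLib.hom_ext k A fun a => ?_
      rw [LinearMap.zero_apply]
      let δ : Derivation ℤ A E :=
        NagataLib.mkDerTo (g.toAddMonoidHom.comp (CKaehlerLib.dHat k A).toLinearMap.toAddMonoidHom) fun a b => by
          show g (CKaehlerLib.dHat k A (a * b)) = a • g _ + b • g _
          rw [Derivation.leibniz, map_add, map_smul, map_smul]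
          rfl
      have hN : ∀ x, δ x ∈ LinearMap.range g := fun x => ⟨_, rfl⟩
      have hδR : ∀ f, δ (algebraMap R A f) = 0 := fun f =>
        NagataLib.derivation_series_eq_zero (algebraMap R A) hX δ (LinearMap.range g)
          (Module.Finite.iff_fg.1 (Module.Finite.range g)) hN 1 (fun j => by rw [pow_one]; exact congrFun hg j) f
          (fun I => by
            show g (CKaehlerLib.dHat k A (algebraMap R A (MvPowerSeries.C _))) = 0
            rw [show (MvPowerSeries.C (MvPowerSeries.coeff I f) : R) = algebraMap k R (MvPowerSeries.coeff I f) by
              rw [MvPowerSeries.algebraMap_apply]; rfl, ← IsScalarTower.algebraMap_apply, Derivation.map_algebraMap,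
              map_zero]) fun I _ i => one_dvd _
      show δ a = 0
      obtain ⟨P, hP, hsepP⟩ := hsep a
      have hev : ∀ Q : Polynomial R, δ (Polynomial.aeval a Q) = Polynomial.aeval a Q.derivative • δ a := fun Q => by
        induction Q using Polynomial.induction_on' with
        | add P Q hP hQ => rw [map_add, map_add, hP, hQ, Polynomial.derivative_add, map_add, add_smul]
        | monomial n c =>
          rw [Polynomial.aeval_monomial, Polynomial.derivative_monomial, Polynomial.aeval_monomial, Derivation.leibniz,
            hδR, smul_zero, add_zero, Derivation.leibniz_pow, map_mul, map_natCast, mul_smul, mul_smul,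
            ← Nat.cast_smul_eq_nsmul A, smul_comm (n : A)]
      have h := hev P
      rw [hP, map_zero, eq_comm, Algebra.smul_def, mul_eq_zero] at h
      refine h.resolve_left fun h0 => ?_
      let K' := FractionRing R
      haveI : FaithfulSMul R E := (faithfulSMul_iff_algebraMap_injective R E).2 (by
        rw [IsScalarTower.algebraMap_eq R A E]; exact (IsFractionRing.injective A E).comp hinj)
      letI : Algebra K' E := FractionRing.liftAlgebra R E
      refine hsepP.aeval_derivative_ne_zero (S := E) (x := algebraMap A E a) ?_ ?_
      · rw [Polynomial.aeval_map_algebraMap, Polynomial.aeval_algebraMap_apply, hP, map_zero]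
      · rw [Polynomial.derivative_map, Polynomial.aeval_map_algebraMap, Polynomial.aeval_algebraMap_apply]
        exact h0
    have h := LinearMap.finrank_le_finrank_of_injective hΦ
    rwa [Module.finrank_fin_fun] at h
  · obtain ⟨δ, hfg, hli⟩ := CKaehlerLib.exists_derivations (k := k) (C := A) hdim E
    exact CKaehlerLib.card_le_finrank_of_derivations δ hfg hli

end Groth.Agent.S4557
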