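import Groth.Statements.S4559
import Mathlib.RingTheory.Kaehler.Basic
import Mathlib.RingTheory.AdicCompletion.Basic
import Mathlib.Algebra.TrivSqZeroExt.Basic
-- import your own Groth.Agent.* helpers here

set_option autoImplicit false
universe u
open EGA41

namespace Groth.Agent.S4559

/-- Let A be 𝔞-adic and B a topological A-algebra for the 𝔟-adic topology (a power of 𝔞 maps into 𝔟).
Then B is a formally unramified A-algebra (for every homomorphism E → C of discrete A-algebras with
nilpotent kernel and every continuous u : B → C there is at most one continuous lift B → E; here E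
discrete means killed by a power of 𝔞, and one may take C = E/J) if and only if the separated
completion of Ω_{B/A}, i.e. its 𝔟-adic completion, is zero. -/
theorem result {A B : Type u} [CommRing A] [CommRing B] [Algebra A B]
    (𝔞 : Ideal A) (𝔟 : Ideal B) (hAB : ∃ k : ℕ, (𝔞 ^ k).map (algebraMap A B) ≤ 𝔟) :
    (∀ (E : Type u) [CommRing E] [Algebra A E], (∃ k : ℕ, (𝔞 ^ k).map (algebraMap A E) = ⊥) →
      ∀ J : Ideal E, IsNilpotent J → ∀ v₁ v₂ : B →ₐ[A] E,
        (∃ m : ℕ, ∀ x ∈ 𝔟 ^ m, v₁ x = 0) → (∃ m : ℕ, ∀ x ∈ 𝔟 ^ m, v₂ x = 0) →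
        (∀ b : B, Ideal.Quotient.mk J (v₁ b) = Ideal.Quotient.mk J (v₂ b)) → v₁ = v₂) ↔
    Subsingleton (AdicCompletion 𝔟 (Ω[B⁄A])) := by
  obtain ⟨k, hk⟩ := hAB
  constructor
  · intro H
    let R0 := B ⧸ 𝔟
    let M := (Ω[B⁄A]) ⧸ (𝔟 • ⊤ : Submodule B (Ω[B⁄A]))
    letI : Module R0ᵐᵒᵖ M := Module.compHom M ((RingHom.id R0).fromOpposite mul_comm)
    haveI : IsCentralScalar R0 M := ⟨fun _ _ => rfl⟩
    let d : B → M := fun b => Submodule.Quotient.mk (KaehlerDifferential.D A B b)
    have hd : ∀ a : A, d (algebraMap A B a) = 0 := fun a => by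
      simp [d]
    have hsm : ∀ (b : B) (m : M), (Ideal.Quotient.mk 𝔟 b) • m = b • m := fun b m => by
      rw [← Ideal.Quotient.algebraMap_eq, algebraMap_smul]
    let v₁ : B →ₐ[A] (TrivSqZeroExt R0 M) := (IsScalarTower.toAlgHom A R0 (TrivSqZeroExt R0 M)).comp (Ideal.Quotient.mkₐ A 𝔟)
    have hv₁ : ∀ b, v₁ b = TrivSqZeroExt.inl (Ideal.Quotient.mk 𝔟 b) := fun b => rfl
    let f₂ : B →+* (TrivSqZeroExt R0 M) :=
      { toFun := fun b => TrivSqZeroExt.inl (Ideal.Quotient.mk 𝔟 b) + TrivSqZeroExt.inr (d b)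
        map_one' := by simp [d]
        map_zero' := by simp [d]
        map_add' := fun x y => by
          refine TrivSqZeroExt.ext ?_ ?_
          · simp [d]
          · simp [d]
            abel
        map_mul' := fun x y => by
          refine TrivSqZeroExt.ext ?_ ?_
          · simp
          · simp [d, Derivation.leibniz, hsm, op_smul_eq_smul, add_comm] }
    let v₂ : B →ₐ[A] (TrivSqZeroExt R0 M) :=
      { f₂ with
        commutes' := fun a => by
          show TrivSqZeroExt.inl (Ideal.Quotient.mk 𝔟 (algebraMap A B a)) + TrivSqZeroExt.inr (d (algebraMap A B a)) = _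
          rw [hd, TrivSqZeroExt.inr_zero, add_zero]
          rfl }
    have hv₂ : ∀ b, v₂ b = TrivSqZeroExt.inl (Ideal.Quotient.mk 𝔟 b) + TrivSqZeroExt.inr (d b) := fun b => rfl
    let J : Ideal (TrivSqZeroExt R0 M) := RingHom.ker (TrivSqZeroExt.fstHom R0 R0 M).toRingHom
    have hdsq : ∀ x ∈ 𝔟 ^ 2, d x = 0 := fun x hx => by
      rw [pow_two] at hx
      refine Submodule.mul_induction_on hx (fun a ha b hb => ?_) fun a b ha hb => by
        show Submodule.Quotient.mk (KaehlerDifferential.D A B (a + b)) = 0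
        rw [map_add, Submodule.Quotient.mk_add]
        simp only [d] at ha hb
        rw [ha, hb, add_zero]
      refine (Submodule.Quotient.mk_eq_zero _).2 ?_
      rw [Derivation.leibniz]
      exact add_mem (Submodule.smul_mem_smul ha trivial) (Submodule.smul_mem_smul hb trivial)
    have hJ : IsNilpotent J := ⟨2, by
      rw [pow_two, Ideal.zero_eq_bot, eq_bot_iff, Ideal.mul_le]
      intro a ha b hb
      have ha' : a.fst = 0 := ha
      have hb' : b.fst = 0 := hb
      rw [Ideal.mem_bot]
      refine TrivSqZeroExt.ext ?_ ?_ <;> simp [ha', hb']⟩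
    have heq := H (TrivSqZeroExt R0 M) ⟨k, eq_bot_iff.2 (Ideal.map_le_iff_le_comap.2 fun a ha => by
      rw [Ideal.mem_comap, Ideal.mem_bot]
      show algebraMap R0 (TrivSqZeroExt R0 M) (algebraMap A R0 a) = 0
      rw [show algebraMap A R0 a = 0 from Ideal.Quotient.eq_zero_iff_mem.2 (hk (Ideal.mem_map_of_mem _ ha)), map_zero])⟩
      J hJ v₁ v₂ ⟨1, fun x hx => by
        rw [pow_one] at hx
        rw [hv₁, Ideal.Quotient.eq_zero_iff_mem.2 hx, TrivSqZeroExt.inl_zero]⟩
      ⟨2, fun x hx => by
        rw [hv₂, Ideal.Quotient.eq_zero_iff_mem.2 (Ideal.pow_le_self two_ne_zero hx), hdsq x hx,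
          TrivSqZeroExt.inl_zero, TrivSqZeroExt.inr_zero, add_zero]⟩
      (fun b => by
        rw [Ideal.Quotient.eq]
        show (TrivSqZeroExt.fst (v₁ b - v₂ b) : R0) = 0
        rw [hv₁, hv₂]
        simp)
    have htop : (𝔟 • ⊤ : Submodule B (Ω[B⁄A])) = ⊤ := by
      rw [eq_top_iff, ← KaehlerDifferential.span_range_derivation, Submodule.span_le]
      rintro _ ⟨b, rfl⟩
      refine (Submodule.Quotient.mk_eq_zero _).1 ?_
      have h := congrArg TrivSqZeroExt.snd (AlgHom.congr_fun heq b)
      rw [hv₁, hv₂] at h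
      simp only [TrivSqZeroExt.snd_inl, TrivSqZeroExt.snd_add, TrivSqZeroExt.snd_inr, zero_add] at h
      rw [KaehlerDifferential.span_range_derivation]
      exact h.symm
    have hn : ∀ n : ℕ, (𝔟 ^ n • ⊤ : Submodule B (Ω[B⁄A])) = ⊤ := fun n => by
      induction n with
      | zero => rw [pow_zero, Ideal.one_eq_top, Submodule.top_smul]
      | succ n ih => rw [pow_succ, Submodule.mul_smul, htop, ih]
    refine ⟨fun x y => AdicCompletion.ext fun {n} => ?_⟩
    haveI : Subsingleton ((Ω[B⁄A]) ⧸ (𝔟 ^ n • ⊤ : Submodule B (Ω[B⁄A]))) := by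
      rw [Submodule.Quotient.subsingleton_iff]; exact hn n
    exact Subsingleton.elim _ _
  · intro hs E _ _ _ J hJ v₁ v₂ hv₁ _ hv
    obtain ⟨m, hm⟩ := hv₁
    have htop : (𝔟 ^ m • ⊤ : Submodule B (Ω[B⁄A])) = ⊤ := by
      rw [← Submodule.Quotient.subsingleton_iff]
      exact (AdicCompletion.eval_surjective 𝔟 (Ω[B⁄A]) m).subsingleton
    have key : ∀ i, ∀ b, v₁ b - v₂ b ∈ J ^ (i + 1) := by
      intro i
      induction i with
      | zero => intro b; rw [zero_add, pow_one]; exact Ideal.Quotient.eq.1 (hv b)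
      | succ i ih =>
        let J' := J ^ (i + 1 + 1)
        let Q := E ⧸ J'
        letI : Algebra B Q := ((Ideal.Quotient.mk J').comp v₁.toRingHom).toAlgebra
        haveI : IsScalarTower A B Q := IsScalarTower.of_algebraMap_eq fun a =>
          (congrArg (Ideal.Quotient.mk J') (v₁.commutes a)).symm
        let δ : Derivation A B Q := Derivation.mk' ((Ideal.Quotient.mkₐ A J').toLinearMap ∘ₗ (v₁.toLinearMap - v₂.toLinearMap))
          fun x y => by
            rw [Algebra.smul_def, Algebra.smul_def]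
            show Ideal.Quotient.mk J' (v₁ (x * y) - v₂ (x * y)) =
              Ideal.Quotient.mk J' (v₁ x) * Ideal.Quotient.mk J' (v₁ y - v₂ y) +
                Ideal.Quotient.mk J' (v₁ y) * Ideal.Quotient.mk J' (v₁ x - v₂ x)
            rw [← map_mul, ← map_mul, ← map_add, Ideal.Quotient.eq, map_mul, map_mul,
              show v₁ x * v₁ y - v₂ x * v₂ y - (v₁ x * (v₁ y - v₂ y) + v₁ y * (v₁ x - v₂ x)) =
                -((v₁ y - v₂ y) * (v₁ x - v₂ x)) by ring]
            refine neg_mem ?_
            show _ ∈ J ^ (i + 1 + 1)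
            rw [pow_succ' J (i + 1)]
            exact Ideal.mul_mem_mul (Ideal.Quotient.eq.1 (hv y)) (ih x)
        have hg : ∀ z, δ.liftKaehlerDifferential z = 0 := fun z => by
          have hz : z ∈ (𝔟 ^ m • ⊤ : Submodule B (Ω[B⁄A])) := htop.symm ▸ Submodule.mem_top
          refine Submodule.smul_induction_on hz (fun a ha w _ => ?_) fun a b ha hb => by rw [map_add, ha, hb, add_zero]
          rw [map_smul, Algebra.smul_def, show algebraMap B Q a = Ideal.Quotient.mk J' (v₁ a) from rfl, hm a ha,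
            map_zero, zero_mul]
        intro b
        refine Ideal.Quotient.eq_zero_iff_mem.1 ?_
        exact (δ.liftKaehlerDifferential_comp_D b).symm.trans (hg _)
    obtain ⟨N, hN⟩ := hJ
    refine AlgHom.ext fun b => sub_eq_zero.1 ?_
    have h := Ideal.pow_le_pow_right (Nat.le_succ N) (key N b)
    rw [hN, Ideal.zero_eq_bot, Ideal.mem_bot] at h
    exact h

end Groth.Agent.S4559
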