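import Mathlib
import Groth.Statements.S4560
-- import your own Groth.Agent.* helpers here

set_option autoImplicit false
universe u
open EGA41
open scoped TensorProduct

namespace Groth.Agent.S4560

/-- Let A be a ring, 𝔪 an ideal of A, B an A-algebra; give A the 𝔪-adic topology and B the topology
deduced from it (the 𝔪B-adic topology), and put A₀ = A/𝔪, B₀ = B/𝔪B. Then B is a formally unramified
A-algebra (for these topologies: E discrete means killed by a power of 𝔪, and continuity of maps B →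
E is then automatic) if and only if Ω_{B₀/A₀} = 0, i.e. B₀ is a formally unramified A₀-algebra. -/
theorem result {A B : Type u} [CommRing A] [CommRing B] [Algebra A B] (𝔪 : Ideal A) :
    (∀ (E : Type u) [CommRing E] [Algebra A E], (∃ k : ℕ, (𝔪 ^ k).map (algebraMap A E) = ⊥) →
      ∀ J : Ideal E, IsNilpotent J → ∀ v₁ v₂ : B →ₐ[A] E,
        (∀ b : B, Ideal.Quotient.mk J (v₁ b) = Ideal.Quotient.mk J (v₂ b)) → v₁ = v₂) ↔
    Subsingleton (Ω[B ⧸ 𝔪.map (algebraMap A B)⁄A ⧸ 𝔪]) := by
  classical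
  let 𝔫 := 𝔪.map (algebraMap A B)
  rw [← Algebra.formallyUnramified_iff]
  constructor
  · intro h
    rw [Algebra.FormallyUnramified.iff_comp_injective]
    intro E _ _ I hI f g hfg
    letI : Algebra A E := ((algebraMap (A ⧸ 𝔪) E).comp (Ideal.Quotient.mk 𝔪)).toAlgebra
    haveI : IsScalarTower A (A ⧸ 𝔪) E := IsScalarTower.of_algebraMap_eq fun _ => rfl
    have := h E ⟨1, by
        rw [pow_one, eq_bot_iff, Ideal.map_le_iff_le_comap]
        intro a ha
        rw [Ideal.mem_comap, IsScalarTower.algebraMap_apply A (A ⧸ 𝔪) E, Ideal.Quotient.algebraMap_eq,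
          Ideal.Quotient.eq_zero_iff_mem.2 ha, map_zero]
        exact zero_mem _⟩ I ⟨2, hI⟩
      ((f.restrictScalars A).comp (Ideal.Quotient.mkₐ A 𝔫)) ((g.restrictScalars A).comp (Ideal.Quotient.mkₐ A 𝔫))
      (fun b => AlgHom.congr_fun hfg (Ideal.Quotient.mk 𝔫 b))
    refine AlgHom.ext fun x => ?_
    obtain ⟨b, rfl⟩ := Ideal.Quotient.mk_surjective x
    exact AlgHom.congr_fun this b
  · intro h E _ _ hE
    obtain ⟨k, hk⟩ := hE
    haveI : Algebra.FormallyUnramified A (A ⧸ 𝔪) := inferInstance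
    haveI : Algebra.FormallyUnramified A (B ⧸ 𝔫) := Algebra.FormallyUnramified.comp A (A ⧸ 𝔪) (B ⧸ 𝔫)
    -- `Ω = 𝔫 Ω`
    have hΩ : ∀ ω : Ω[B⁄A], ω ∈ 𝔫 • (⊤ : Submodule B Ω[B⁄A]) := by
      intro ω
      have hex := KaehlerDifferential.exact_kerCotangentToTensor_mapBaseChange A B (B ⧸ 𝔫) Ideal.Quotient.mk_surjective
      obtain ⟨c, hc⟩ := (hex ((1 : B ⧸ 𝔫) ⊗ₜ[B] ω)).1 (Subsingleton.elim _ _)
      have hz : KaehlerDifferential.kerCotangentToTensor A B (B ⧸ 𝔫) c = 0 := by
        obtain ⟨⟨x, hx⟩, rfl⟩ := Ideal.toCotangent_surjective _ c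
        rw [KaehlerDifferential.kerCotangentToTensor_toCotangent]
        have hx' : x ∈ 𝔫 := by
          rwa [RingHom.mem_ker, Ideal.Quotient.algebraMap_eq, Ideal.Quotient.eq_zero_iff_mem] at hx
        refine Submodule.span_induction (p := fun x _ => (1 : B ⧸ 𝔫) ⊗ₜ[B] KaehlerDifferential.D A B x = 0) ?_ ?_ ?_ ?_ hx'
        · rintro _ ⟨a, -, rfl⟩
          rw [Derivation.map_algebraMap, TensorProduct.tmul_zero]
        · rw [map_zero, TensorProduct.tmul_zero]
        · intro a b _ _ ha hb; rw [map_add, TensorProduct.tmul_add, ha, hb, add_zero]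
        · intro b y hy ih
          rw [smul_eq_mul, Derivation.leibniz, TensorProduct.tmul_add, ← TensorProduct.smul_tmul,
            ← TensorProduct.smul_tmul]
          have : y • (1 : B ⧸ 𝔫) = 0 := by
            rw [Algebra.smul_def, mul_one, Ideal.Quotient.algebraMap_eq, Ideal.Quotient.eq_zero_iff_mem]
            exact hy
          rw [this, TensorProduct.zero_tmul, add_zero, TensorProduct.smul_tmul, TensorProduct.tmul_smul, ih, smul_zero]
      rw [hz] at hc
      have h2 := congrArg (TensorProduct.quotTensorEquivQuotSMul Ω[B⁄A] 𝔫) hc.symm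
      rw [map_zero, ← map_one (Ideal.Quotient.mk 𝔫), TensorProduct.quotTensorEquivQuotSMul_mk_tmul, one_smul] at h2
      exact (Submodule.Quotient.mk_eq_zero _).1 h2
    have hΩk : ∀ (j : ℕ) (ω : Ω[B⁄A]), ω ∈ 𝔫 ^ j • (⊤ : Submodule B Ω[B⁄A]) := by
      intro j
      induction j with
      | zero => intro ω; simp [Ideal.one_eq_top]
      | succ j ih =>
        intro ω
        rw [pow_succ, ← smul_eq_mul (𝔫 ^ j) 𝔫, Submodule.smul_assoc]
        refine Submodule.smul_mono le_rfl (fun x _ => hΩ x) (ih ω)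
    -- square-zero step
    have step : ∀ (E : Type u) [CommRing E] [Algebra A E], (𝔪 ^ k).map (algebraMap A E) = ⊥ →
        ∀ J : Ideal E, J ^ 2 = ⊥ → ∀ v₁ v₂ : B →ₐ[A] E,
        (∀ b : B, Ideal.Quotient.mk J (v₁ b) = Ideal.Quotient.mk J (v₂ b)) → v₁ = v₂ := by
      intro E _ _ hk J hJ v₁ v₂ hv
      letI : Module B E := Module.compHom E v₁.toRingHom
      have hsm : ∀ (b : B) (e : E), b • e = v₁ b * e := fun _ _ => rfl
      haveI : IsScalarTower A B E := ⟨fun a b e => by
        rw [hsm, hsm, map_smul, smul_mul_assoc]⟩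
      let δ : Derivation A B E := Derivation.mk' (v₁.toLinearMap - v₂.toLinearMap) fun a b => by
        show v₁ (a * b) - v₂ (a * b) = a • (v₁ b - v₂ b) + b • (v₁ a - v₂ a)
        have h0 : (v₁ a - v₂ a) * (v₁ b - v₂ b) = 0 := by
          have := Ideal.mul_mem_mul (Ideal.Quotient.eq.1 (hv a)) (Ideal.Quotient.eq.1 (hv b))
          rwa [← sq, hJ, Ideal.mem_bot] at this
        rw [hsm, hsm, map_mul, map_mul]
        linear_combination (-1 : E) * h0
      refine AlgHom.ext fun b => sub_eq_zero.1 (show δ b = 0 from ?_)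
      rw [← δ.liftKaehlerDifferential_comp_D b]
      have h1 := Submodule.mem_map_of_mem (f := δ.liftKaehlerDifferential) (hΩk k (KaehlerDifferential.D A B b))
      rw [Submodule.map_smul''] at h1
      have h2 : (𝔫 ^ k) • (Submodule.map δ.liftKaehlerDifferential ⊤) = ⊥ := by
        refine le_bot_iff.1 (Submodule.smul_le.2 fun c hc e _ => ?_)
        rw [Submodule.mem_bot, hsm]
        have : v₁ c ∈ (𝔪 ^ k).map (algebraMap A E) := by
          rw [← Ideal.map_pow] at hc
          have := Ideal.mem_map_of_mem v₁.toRingHom hc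
          have hcomp : v₁.toRingHom.comp (algebraMap A B) = algebraMap A E := v₁.comp_algebraMap
          rwa [Ideal.map_map, hcomp] at this
        rw [hk, Ideal.mem_bot] at this
        rw [this, zero_mul]
      rw [h2, Submodule.mem_bot] at h1
      exact h1
    intro J hJ
    refine Ideal.IsNilpotent.induction_on (I := J) hJ
      (P := fun S _ J => ∀ [Algebra A S], (𝔪 ^ k).map (algebraMap A S) = ⊥ → ∀ v₁ v₂ : B →ₐ[A] S,
        (∀ b : B, Ideal.Quotient.mk J (v₁ b) = Ideal.Quotient.mk J (v₂ b)) → v₁ = v₂)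
      (fun S _ I hI _ hk => step S hk I hI) ?_ hk
    intro S _ I J hIJ h1 h2 _ hk v₁ v₂ hv
    refine h1 hk v₁ v₂ fun b => ?_
    have hk' : (𝔪 ^ k).map (algebraMap A (S ⧸ I)) = ⊥ := by
      rw [IsScalarTower.algebraMap_eq A S (S ⧸ I), ← Ideal.map_map, hk, Ideal.map_bot]
    refine AlgHom.congr_fun (h2 hk' ((Ideal.Quotient.mkₐ A I).comp v₁) ((Ideal.Quotient.mkₐ A I).comp v₂) fun b => ?_) b
    rw [← sub_eq_zero, ← map_sub, Ideal.Quotient.eq_zero_iff_mem]
    exact Ideal.mem_map_of_mem _ (Ideal.Quotient.eq.1 (hv b))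

end Groth.Agent.S4560
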