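import Groth.Statements.S4566
import Groth.Agent.NormalLib.CompletionReduced

set_option autoImplicit false
universe u
open CAlg

namespace Groth.Agent.S4566

open scoped TensorProduct

/-- Let A be a Noetherian local domain with fraction field K whose adic completion Â is reduced, and R
the total ring of fractions of Â with its K-algebra structure. If R is geometrically reduced over K
then A is Japanese (N-2). (The published statement asks R to be a separable K-algebra; what is used
is that K' ⊗_K R is reduced for every finite extension K' of K, which geometric reducedness gives.) -/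
theorem result {A R : Type u}
    [CommRing A] [IsDomain A] [IsLocalRing A] [IsNoetherianRing A]
    (hred : IsReduced (AdicCompletion (IsLocalRing.maximalIdeal A) A))
    [CommRing R] [Algebra (AdicCompletion (IsLocalRing.maximalIdeal A) A) R]
    [IsFractionRing (AdicCompletion (IsLocalRing.maximalIdeal A) A) R] [Algebra A R]
    [IsScalarTower A (AdicCompletion (IsLocalRing.maximalIdeal A) A) R]
    [Algebra (FractionRing A) R] [IsScalarTower A (FractionRing A) R]
    (h : Algebra.IsGeometricallyReduced (FractionRing A) R) :
    CAlg.IsN2 A := by
  intro K' _ _ _ _ _
  have hinj : Function.Injective (Algebra.TensorProduct.map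
      (IsScalarTower.toAlgHom A (AdicCompletion (IsLocalRing.maximalIdeal A) A) R) (AlgHom.id A K')) := by
    have : Module.Flat A K' := Module.Flat.trans A (FractionRing A) K'
    exact Module.Flat.rTensor_preserves_injective_linearMap
      (IsScalarTower.toAlgHom A (AdicCompletion (IsLocalRing.maximalIdeal A) A) R).toLinearMap
      (IsFractionRing.injective (AdicCompletion (IsLocalRing.maximalIdeal A) A) R)
  have := h
  have : TensorProduct.CompatibleSMul A (FractionRing A) K' R :=
    IsLocalization.tensorProduct_compatibleSMul (nonZeroDivisors A) ..
  let e : K' ⊗[FractionRing A] R ≃ₗ[FractionRing A] K' ⊗[A] R :=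
    IsLocalization.moduleTensorEquiv (nonZeroDivisors A) (FractionRing A) K' R
  let f : K' ⊗[A] R →+* K' ⊗[FractionRing A] R :=
    (Algebra.TensorProduct.lift
      ((Algebra.TensorProduct.includeLeft : K' →ₐ[FractionRing A] K' ⊗[FractionRing A] R).restrictScalars A)
      ((Algebra.TensorProduct.includeRight : R →ₐ[FractionRing A] K' ⊗[FractionRing A] R).restrictScalars A)
      fun _ _ => Commute.all _ _).toRingHom
  have hf : ∀ z, e (f z) = z := by
    intro z
    induction z using TensorProduct.induction_on with
    | zero => rw [map_zero, map_zero]
    | add x y hx hy => rw [map_add, map_add, hx, hy]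
    | tmul x y =>
      show e ((x ⊗ₜ[FractionRing A] (1 : R)) * ((1 : K') ⊗ₜ[FractionRing A] y)) = _
      rw [Algebra.TensorProduct.tmul_mul_tmul, mul_one, one_mul]
      rfl
  have : IsReduced (K' ⊗[A] R) := isReduced_of_injective f (Function.LeftInverse.injective hf)
  have : IsReduced (R ⊗[A] K') := isReduced_of_injective (Algebra.TensorProduct.comm A R K')
    (Algebra.TensorProduct.comm A R K').injective
  have : IsReduced (AdicCompletion (IsLocalRing.maximalIdeal A) A ⊗[A] K') := isReduced_of_injective _ hinj
  exact NormalLib.finite_integralClosure_of_isReduced_completion_tensor A (FractionRing A) K' 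

end Groth.Agent.S4566
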