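import Groth.Statements.S4567
import Groth.Agent.BirUnibLib.Scheme
import Groth.Agent.ApproxLib.ChartPoint
-- import your own Groth.Agent.* helpers here

set_option autoImplicit false
universe u
open AlgebraicGeometry
open CAlg2

namespace Groth.Agent.S4567

set_option backward.isDefEq.respectTransparency false in
open AlgebraicGeometry in
theorem stalk_iff {R : Type u} [CommRing R] (p : PrimeSpectrum R) :
    CAlg2.IsGeomUnibranch ((Spec (CommRingCat.of R)).presheaf.stalk (p : Spec (CommRingCat.of R))) ↔
      CAlg2.IsGeomUnibranch (Localization.AtPrime p.asIdeal) := by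
  letI : Algebra R ((Spec (CommRingCat.of R)).presheaf.stalk (p : Spec (CommRingCat.of R))) := StructureSheaf.stalkAlgebra R p
  haveI : IsLocalization.AtPrime ((Spec (CommRingCat.of R)).presheaf.stalk (p : Spec (CommRingCat.of R))) p.asIdeal :=
    StructureSheaf.IsLocalization.to_stalk R p
  let e := (IsLocalization.algEquiv p.asIdeal.primeCompl ((Spec (CommRingCat.of R)).presheaf.stalk (p : Spec (CommRingCat.of R)))
    (Localization.AtPrime p.asIdeal)).toRingEquiv
  exact ⟨BirUnibLib.isGeomUnibranch_of_ringEquiv e, BirUnibLib.isGeomUnibranch_of_ringEquiv e.symm⟩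


/-- Let A be a domain with integral closure A' (in its fraction field) and f : Spec A' → Spec A the
canonical morphism. Then f is radicial (universally injective) if and only if every local ring A_p
is geometrically unibranch; when this holds f is a homeomorphism. -/
theorem result {A : Type u} [CommRing A] [IsDomain A] :
    (UniversallyInjective (Spec.map (CommRingCat.ofHom (algebraMap A (integralClosure A (FractionRing A))))) ↔
      ∀ (p : Ideal A) [p.IsPrime], CAlg2.IsGeomUnibranch (Localization.AtPrime p)) ∧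
    ((∀ (p : Ideal A) [p.IsPrime], CAlg2.IsGeomUnibranch (Localization.AtPrime p)) →
      IsHomeomorph (PrimeSpectrum.comap (algebraMap A (integralClosure A (FractionRing A))))) := by
  let B := integralClosure A (FractionRing A)
  let φ : CommRingCat.of A ⟶ CommRingCat.of B := CommRingCat.ofHom (algebraMap A B)
  let f := Spec.map φ
  haveI : IsIntegralHom f := IsIntegralHom.SpecMap_iff.2 (algebraMap_isIntegral_iff.mpr inferInstance)
  haveI : FaithfulSMul A B := (faithfulSMul_iff_algebraMap_injective A B).2 fun a b h =>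
    IsFractionRing.injective A (FractionRing A) (congrArg Subtype.val h)
  haveI : IsFractionRing B (FractionRing A) := integralClosure.isFractionRing_of_finite_extension (FractionRing A) (FractionRing A)
  have hgen : ∀ (R : Type u) [CommRing R] [IsDomain R] (x : Spec (CommRingCat.of R)),
      x ∈ genericPoints (Spec (CommRingCat.of R)) ↔ x.asIdeal = ⊥ := fun R _ _ x => by
    rw [BirUnibLib.genericPoints_iff]
    constructor
    · intro h
      have h0 : (⟨⊥, Ideal.isPrime_bot⟩ : PrimeSpectrum R) = x :=
        h ⟨⊥, Ideal.isPrime_bot⟩ ((PrimeSpectrum.le_iff_specializes (⟨⊥, Ideal.isPrime_bot⟩ : PrimeSpectrum R) x).1 (fun a ha => by rw [show a = 0 from ha]; exact zero_mem _))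
      exact (congrArg PrimeSpectrum.asIdeal h0).symm
    · intro h y hy
      refine PrimeSpectrum.ext ?_
      have h1 : y.asIdeal ≤ x.asIdeal := (PrimeSpectrum.le_iff_specializes (y : PrimeSpectrum R) x).2 hy
      rw [h] at h1 ⊢
      exact le_antisymm h1 bot_le
  have hbot : ∀ x : Spec (CommRingCat.of B), (f x).asIdeal = ⊥ ↔ x.asIdeal = ⊥ := fun x => by
    show x.asIdeal.comap (algebraMap A B) = ⊥ ↔ _
    exact ⟨fun h => Ideal.eq_bot_of_comap_eq_bot h, fun h => by
      rw [h]; exact Ideal.comap_bot_of_injective _ (FaithfulSMul.algebraMap_injective A B)⟩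
  have hf : RadPt.IsBirational f := by
    refine ⟨⟨fun x hx => (hgen A _).2 ((hbot x).2 ((hgen B x).1 hx)), fun x hx y hy _ => ?_, fun y hy => ?_⟩,
      fun y hy => ⟨fun x x' hx hx' => ?_, fun x hx => ?_⟩⟩
    · exact PrimeSpectrum.ext (((hgen B x).1 hx).trans ((hgen B y).1 hy).symm)
    · refine ⟨⟨⊥, Ideal.isPrime_bot⟩, (hgen B _).2 rfl, PrimeSpectrum.ext ?_⟩
      exact ((hbot ⟨⊥, Ideal.isPrime_bot⟩).2 rfl).trans ((hgen A y).1 hy).symm
    · exact PrimeSpectrum.ext (((hbot x).1 (hx ▸ (hgen A y).1 hy)).trans ((hbot x').1 (hx' ▸ (hgen A y).1 hy)).symm)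
    · have hx0 : x.asIdeal = ⊥ := (hbot x).1 (hx ▸ (hgen A y).1 hy)
      refine ApproxLib.residueFieldMap_bijective_specMap φ x fun e => ?_
      obtain ⟨a, s, hs, hz⟩ := IsFractionRing.div_surjective A ((e : B) : FractionRing A)
      have hs0 : algebraMap A B s ≠ 0 :=
        (map_ne_zero_iff _ (FaithfulSMul.algebraMap_injective A B)).2 (nonZeroDivisors.ne_zero hs)
      refine ⟨a, s, fun h => hs0 (by rw [hx0] at h; exact h), ?_⟩
      rw [hx0]
      show e * algebraMap A B s - algebraMap A B a = 0
      rw [sub_eq_zero]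
      refine Subtype.ext ?_
      show ((e : B) : FractionRing A) * algebraMap A _ s = algebraMap A _ a
      rw [← hz, div_mul_cancel₀ _ (IsFractionRing.to_map_ne_zero_of_mem_nonZeroDivisors hs)]
  haveI : IsIntegrallyClosed B := integralClosure.isIntegrallyClosedOfFiniteExtension (FractionRing A)
  have hX : ∀ x : Spec (CommRingCat.of B), CAlg2.IsGeomUnibranch ((Spec (CommRingCat.of B)).presheaf.stalk x) :=
    fun (x : PrimeSpectrum B) => by
      haveI : IsIntegrallyClosed (Localization.AtPrime x.asIdeal) :=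
        isIntegrallyClosed_of_isLocalization _ x.asIdeal.primeCompl x.asIdeal.primeCompl_le_nonZeroDivisors
      exact (stalk_iff x).2 (BranchLib.isGeomUnibranch_of_isIntegrallyClosed (Localization.AtPrime x.asIdeal))
  have hA := fun p : PrimeSpectrum A => stalk_iff p
  have main : UniversallyInjective f ↔ ∀ (p : Ideal A) [p.IsPrime], CAlg2.IsGeomUnibranch (Localization.AtPrime p) := by
    constructor
    · intro hu p hp
      refine (hA ⟨p, hp⟩).1 ((BirUnibLib.isGeomUnibranch_stalk_iff f hf ⟨p, hp⟩).2 ⟨?_, fun x _ => hX x⟩)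
      obtain ⟨hi, hr⟩ := ((tfae_universallyInjective f).out 0 2).1 hu
      exact ⟨fun x x' h h' => hi (h.trans h'.symm), fun x _ => hr x⟩
    · intro h
      rw [((tfae_universallyInjective f).out 0 2 :)]
      refine ⟨fun x x' e => ?_, fun x => ?_⟩
      · exact ((BirUnibLib.isGeomUnibranch_stalk_iff f hf (f x')).1 ((hA _).2 (@h (f x').asIdeal (f x').isPrime))).1.1 x x' e rfl
      · exact ((BirUnibLib.isGeomUnibranch_stalk_iff f hf (f x)).1 ((hA _).2 (@h (f x).asIdeal (f x).isPrime))).1.2 x rfl
  refine ⟨main, fun h => ?_⟩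
  haveI := main.2 h
  have hs : Function.Surjective f := fun (p : PrimeSpectrum A) => by
    obtain ⟨x, -, hx, hxp⟩ := Ideal.exists_ideal_over_prime_of_isIntegral p.asIdeal (⊥ : Ideal B)
      (by rw [← RingHom.ker_eq_comap_bot, (RingHom.injective_iff_ker_eq_bot _).1 (FaithfulSMul.algebraMap_injective A B)]; exact bot_le)
    exact ⟨⟨x, hx⟩, PrimeSpectrum.ext hxp⟩
  exact isHomeomorph_iff_continuous_isClosedMap_bijective.2 ⟨f.continuous,
    f.isClosedMap, f.injective, hs⟩

end Groth.Agent.S4567
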