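import Groth.Statements.S4568
import Groth.Agent.MoriLib.Final
-- import your own Groth.Agent.* helpers here

set_option autoImplicit false
universe u
open CAlg

namespace Groth.Agent.S4568

/-- Mori's description of the integral closure, for any model of the fraction field. -/
theorem mori_frac (R : Type u) [CommRing R] [IsDomain R] [IsNoetherianRing R] [IsLocalRing R]
    (L : Type u) [Field L] [Algebra R L] [IsFractionRing R L] :
    ∃ C : Subalgebra R L, Module.Finite R C ∧
      ∀ x : L, (∀ (p : Ideal C) [p.IsPrime], p.height = 1 → ∃ s : C, s ∉ p ∧ IsIntegral R ((s : L) * x)) →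
        IsIntegral R x := by
  obtain ⟨C₀, hfin, -, hmem, -⟩ := MoriLib.mori R
  let e : FractionRing R ≃ₐ[R] L := FractionRing.algEquiv R L
  let C : Subalgebra R L := C₀.map (e : FractionRing R →ₐ[R] L)
  let φ : C₀ ≃ₐ[R] C := C₀.equivMapOfInjective (e : FractionRing R →ₐ[R] L) e.injective
  refine ⟨C, Module.Finite.equiv φ.toLinearEquiv, fun x hx => ?_⟩
  have key : e.symm x ∈ integralClosure R (FractionRing R) := by
    rw [hmem]
    intro p hp hp1
    have hpC : (p.comap (φ.symm : C →+* C₀)).IsPrime := inferInstance
    have hh : (p.comap (φ.symm : C →+* C₀)).height = 1 := by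
      rw [← hp1]
      exact RingEquiv.height_comap φ.symm.toRingEquiv p
    obtain ⟨s, hs, hsx⟩ := @hx _ hpC hh
    refine ⟨φ.symm s, hs, ?_⟩
    have h1 : (s : L) = e (φ.symm s : C₀) := by
      conv_lhs => rw [← φ.apply_symm_apply s]
      rfl
    have h2 : e.symm ((s : L) * x) = ((φ.symm s : C₀) : FractionRing R) * e.symm x := by
      rw [map_mul, h1, e.symm_apply_apply]
    exact (h2 ▸ hsx.map e.symm.toAlgHom : IsIntegral R _).tower_top
  have := (key : IsIntegral R (e.symm x)).map e.toAlgHom
  simpa using this

variable {A : Type u} [CommRing A] [IsDomain A] [IsNoetherianRing A]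

/-- The local step: an element of all `A'_p` becomes integral after multiplying by some `t ∉ m`. -/
theorem local_step
    (h : ∀ C : Subalgebra A (FractionRing A), C ≤ integralClosure A (FractionRing A) → Module.Finite A C →
      ∀ (q : Ideal C) [q.IsPrime], q.height = 1 → (q.comap (algebraMap A C)).height = 1)
    (m : Ideal A) [m.IsPrime] (x : FractionRing A)
    (hx : ∀ p : PrimeSpectrum A, p.asIdeal.height = 1 → ∃ s : A, s ∉ p.asIdeal ∧
      IsIntegral A (algebraMap A (FractionRing A) s * x)) :
    ∃ t : A, t ∉ m ∧ IsIntegral A (algebraMap A (FractionRing A) t * x) := by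
  classical
  let K := FractionRing A
  let Am := Localization.AtPrime m
  have : IsFractionRing Am K :=
    IsFractionRing.isFractionRing_of_isDomain_of_isLocalization m.primeCompl Am K
  have hloc : ∀ z : K, IsIntegral Am z → ∃ t : A, t ∉ m ∧ IsIntegral A (algebraMap A K t * z) := fun z hz => by
    obtain ⟨t, ht⟩ := IsIntegral.exists_multiple_integral_of_isLocalization (R := A) m.primeCompl z hz
    exact ⟨t, t.2, by rwa [Submonoid.smul_def, Algebra.smul_def] at ht⟩
  obtain ⟨Cm, hfin, hmem⟩ := mori_frac Am K
  obtain ⟨G, hG⟩ := Module.Finite.fg_top (R := Am) (M := Cm)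
  have hint : ∀ g : Cm, IsIntegral Am (g : K) := fun g => (Algebra.IsIntegral.isIntegral g).map Cm.val
  choose t ht1 ht2 using fun g : Cm => hloc (g : K) (hint g)
  let S : Set K := (fun g : Cm => algebraMap A K (t g) * (g : K)) '' (G : Set Cm)
  have hS : ∀ z ∈ S, IsIntegral A z := by
    rintro z ⟨g, -, rfl⟩
    exact ht2 g
  let C : Subalgebra A K := Algebra.adjoin A S
  have hCle : C ≤ integralClosure A K := Algebra.adjoin_le hS
  have hCfin : Module.Finite A C :=
    Module.Finite.iff_fg.2 (fg_adjoin_of_finite (G.finite_toSet.image _) hS)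
  have hsub : C ≤ Cm.restrictScalars A := by
    refine Algebra.adjoin_le ?_
    rintro z ⟨g, -, rfl⟩
    refine mul_mem ?_ g.2
    show algebraMap A K (t g) ∈ Cm
    rw [IsScalarTower.algebraMap_apply A Am K]
    exact Cm.algebraMap_mem _
  let ι : C →+* Cm :=
    { toFun := fun c => ⟨c.1, hsub c.2⟩
      map_one' := rfl
      map_mul' := fun _ _ => rfl
      map_zero' := rfl
      map_add' := fun _ _ => rfl }
  let _ : Algebra C Cm := ι.toAlgebra
  have hsurj : ∀ z : Cm, ∃ u : A, u ∉ m ∧ algebraMap A K u * (z : K) ∈ C := by
    intro z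
    have hz : z ∈ Submodule.span Am (G : Set Cm) := by rw [hG]; trivial
    induction hz using Submodule.span_induction with
    | mem g hg => exact ⟨t g, ht1 g, Algebra.subset_adjoin ⟨g, hg, rfl⟩⟩
    | zero => exact ⟨1, (Ideal.ne_top_iff_one m).1 ‹m.IsPrime›.ne_top, by simp⟩
    | add a b _ _ ha hb =>
      obtain ⟨u, hu, hua⟩ := ha
      obtain ⟨v, hv, hvb⟩ := hb
      refine ⟨u * v, fun h' => ((‹m.IsPrime›.mem_or_mem h').elim hu hv), ?_⟩
      have e1 : algebraMap A K (u * v) * ((a + b : Cm) : K) =
          algebraMap A K v * (algebraMap A K u * (a : K)) + algebraMap A K u * (algebraMap A K v * (b : K)) := by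
        rw [map_mul]; push_cast; ring
      rw [e1]
      exact add_mem (mul_mem (C.algebraMap_mem v) hua) (mul_mem (C.algebraMap_mem u) hvb)
    | smul r a _ ha =>
      obtain ⟨u, hu, hua⟩ := ha
      obtain ⟨b, w, hrw⟩ := IsLocalization.exists_mk'_eq m.primeCompl r
      refine ⟨u * w, fun h' => ((‹m.IsPrime›.mem_or_mem h').elim hu w.2), ?_⟩
      have hw : algebraMap A K w * algebraMap Am K r = algebraMap A K b := by
        rw [IsScalarTower.algebraMap_apply A Am K (w : A), ← map_mul, ← hrw,
          IsLocalization.mk'_spec', ← IsScalarTower.algebraMap_apply]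
      have e1 : algebraMap A K (u * w) * ((r • a : Cm) : K) = algebraMap A K b * (algebraMap A K u * (a : K)) := by
        rw [← hw, map_mul, Subalgebra.coe_smul, Algebra.smul_def]; ring
      rw [e1]
      exact mul_mem (C.algebraMap_mem b) hua
  have : IsLocalization (Algebra.algebraMapSubmonoid C m.primeCompl) Cm := by
    constructor
    refine ⟨?_, fun z => ?_, fun {a b} hab => ⟨1, ?_⟩⟩
    · rintro ⟨-, u, hu, rfl⟩
      have h1 : algebraMap C Cm (algebraMap A C u) = algebraMap Am Cm (algebraMap A Am u) := Subtype.ext (by
        show algebraMap A K u = algebraMap Am K (algebraMap A Am u)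
        rw [← IsScalarTower.algebraMap_apply])
      show IsUnit (algebraMap C Cm (algebraMap A C u))
      rw [h1]
      exact (IsLocalization.map_units Am (⟨u, hu⟩ : m.primeCompl)).map _
    · obtain ⟨u, hu, huz⟩ := hsurj z
      refine ⟨(⟨_, huz⟩, ⟨algebraMap A C u, u, hu, rfl⟩), Subtype.ext ?_⟩
      show (z : K) * algebraMap A K u = algebraMap A K u * (z : K)
      ring
    · have : a = b := Subtype.ext (congrArg (fun w : Cm => (w : K)) hab :)
      rw [this]
  obtain ⟨t, ht, hti⟩ := hloc x (hmem x fun p hp hp1 => by
    have hq : (p.comap (algebraMap C Cm)).height = 1 := by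
      rw [← hp1]
      exact IsLocalization.height_under (Algebra.algebraMapSubmonoid C m.primeCompl) p
    have hq' := h C hCle hCfin (p.comap (algebraMap C Cm)) hq
    obtain ⟨s, hs, hsx⟩ := hx ⟨(p.comap (algebraMap C Cm)).comap (algebraMap A C), inferInstance⟩ hq'
    exact ⟨algebraMap C Cm (algebraMap A C s), hs, (hsx.tower_top : IsIntegral Am _)⟩)
  exact ⟨t, ht, hti⟩

/-- Let A be a Noetherian domain with fraction field K and A' its integral closure in K. Assume that for
every sub-A-algebra C of A' which is finite over A, every height-one prime of C lies over a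
height-one prime of A. Then A' is the intersection in K of the localizations A'_p over the
height-one primes p of A. -/
theorem result {A : Type u} [CommRing A] [IsDomain A] [IsNoetherianRing A]
    (h : ∀ C : Subalgebra A (FractionRing A), C ≤ integralClosure A (FractionRing A) → Module.Finite A C →
      ∀ (q : Ideal C) [q.IsPrime], q.height = 1 → (q.comap (algebraMap A C)).height = 1) :
    (integralClosure A (FractionRing A) : Set (FractionRing A)) =
      ⋂ (p : PrimeSpectrum A) (_ : p.asIdeal.height = 1),
        {x : FractionRing A | ∃ s : A, s ∉ p.asIdeal ∧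
          algebraMap A (FractionRing A) s * x ∈ integralClosure A (FractionRing A)} := by
  ext x
  simp only [Set.mem_iInter, Set.mem_setOf_eq, SetLike.mem_coe]
  constructor
  · intro hx p _
    exact ⟨1, (Ideal.ne_top_iff_one _).1 p.isPrime.ne_top, by simpa using hx⟩
  · intro hx
    let I : Ideal A :=
      { carrier := {a | algebraMap A (FractionRing A) a * x ∈ integralClosure A (FractionRing A)}
        zero_mem' := by simp
        add_mem' := fun {a b} ha hb => by
          show algebraMap A (FractionRing A) (a + b) * x ∈ integralClosure A (FractionRing A)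
          rw [map_add, add_mul]; exact add_mem ha hb
        smul_mem' := fun c a ha => by
          show algebraMap A (FractionRing A) (c * a) * x ∈ integralClosure A (FractionRing A)
          rw [map_mul, mul_assoc]; exact mul_mem (Subalgebra.algebraMap_mem _ c) ha }
    have hI : I = ⊤ := by
      by_contra hne
      obtain ⟨m, hm, hle⟩ := I.exists_le_maximal hne
      obtain ⟨t, ht, hti⟩ := local_step h m x hx
      exact ht (hle hti)
    have h1 : (1 : A) ∈ I := hI ▸ trivial
    have h2 : algebraMap A (FractionRing A) 1 * x ∈ integralClosure A (FractionRing A) := h1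
    simpa using h2

end Groth.Agent.S4568
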