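import Groth.Statements.S4569
import Mathlib.RingTheory.Localization.AtPrime.Basic
import Mathlib.RingTheory.Localization.Ideal

set_option autoImplicit false
universe u
open CAlg

namespace Groth.Agent.S4569

theorem mul_right_cancel₀' {A : Type u} [CommRing A] {x a b : A} (hx : x ∈ nonZeroDivisors A)
    (h : a * x = b * x) : a = b := (mul_cancel_right_mem_nonZeroDivisors hx).1 h

/-- Let A be a ring, x a non-zero-divisor of A with p = xA prime. For every n > 0 the inverse image in A
of x^n A_p is x^n A. -/
theorem result {A : Type u} [CommRing A] (x : A)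
    (hx : x ∈ nonZeroDivisors A) [(Ideal.span ({x} : Set A)).IsPrime] (n : ℕ) (hn : 0 < n) :
    Ideal.comap (algebraMap A (Localization.AtPrime (Ideal.span ({x} : Set A))))
      (Ideal.map (algebraMap A (Localization.AtPrime (Ideal.span ({x} : Set A)))) (Ideal.span ({x ^ n} : Set A))) =
      Ideal.span ({x ^ n} : Set A) := by
  have key : ∀ (n : ℕ) (a s : A), s ∉ Ideal.span {x} → s * a ∈ Ideal.span {x ^ n} →
      a ∈ Ideal.span {x ^ n} := by
    intro n
    induction n with
    | zero => exact fun a s _ _ => by simp [Ideal.span_singleton_one]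
    | succ n ih =>
      intro a s hs h
      have hxa : s * a ∈ Ideal.span ({x} : Set A) :=
        Ideal.span_singleton_le_span_singleton.2 (dvd_pow_self x n.succ_ne_zero) h
      rcases Ideal.IsPrime.mem_or_mem ‹_› hxa with h' | h'
      · exact absurd h' hs
      obtain ⟨a', rfl⟩ := Ideal.mem_span_singleton'.1 h'
      obtain ⟨c, hc⟩ := Ideal.mem_span_singleton'.1 h
      have : s * a' ∈ Ideal.span {x ^ n} := by
        refine Ideal.mem_span_singleton'.2 ⟨c, mul_right_cancel₀' hx ?_⟩
        rw [mul_assoc, ← pow_succ, hc, mul_assoc]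
      obtain ⟨d, hd⟩ := Ideal.mem_span_singleton'.1 (ih a' s hs this)
      exact Ideal.mem_span_singleton'.2 ⟨d, by rw [← hd, pow_succ, mul_assoc]⟩
  refine le_antisymm (fun a ha => ?_) Ideal.le_comap_map
  rw [Ideal.mem_comap, IsLocalization.algebraMap_mem_map_algebraMap_iff
    (Ideal.span ({x} : Set A)).primeCompl] at ha
  obtain ⟨s, hs, h⟩ := ha
  exact key n a s hs h

end Groth.Agent.S4569
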