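import Groth.Statements.S4570
import Mathlib
import Groth.Agent.AdicJacLib.Jacobian

set_option autoImplicit false
universe u
open TensorProduct KaehlerDifferential
open EGA41

namespace Groth.Agent.S4570

/-- Let Λ → A → B be ring homomorphisms, J an ideal of B and C = B/J, with C formally smooth over Λ for
the discrete topologies. Consider the conditions: (α) J/J² is a projective C-module; (β) the
canonical maps Sym^n_C(J/J²) → J^n/J^(n+1) are bijective for n ≥ 1; (γ') Ω_{A/Λ} ⊗_A C → Ω_{B/Λ} ⊗_B
C is injective (equivalent to the injectivity of the characteristic homomorphism used in the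
published (γ)); (δ) Ω_{B/A} ⊗_B C is a projective C-module. (i) If they hold then B, with the J-adic
topology, is formally smooth over the discrete ring A. (ii) Conversely if B is formally smooth over
A for the J-adic topology and A is formally smooth over Λ for the discrete topology, the four
conditions hold. -/
theorem result {Λ A B : Type u} [CommRing Λ]
    [CommRing A] [CommRing B] [Algebra Λ A] [Algebra A B] [Algebra Λ B] [IsScalarTower Λ A B] (J : Ideal B)
    [Algebra.FormallySmooth Λ (B ⧸ J)] :
    ((Module.Projective (B ⧸ J) J.Cotangent ∧ PP16.SymGrBijective B J ∧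
        Function.Injective ((mapBaseChange Λ A B).lTensor (B ⧸ J)) ∧
        Module.Projective (B ⧸ J) ((B ⧸ J) ⊗[B] (Ω[B⁄A]))) →
      CAlgX.IsAdicFormallySmooth A B J) ∧
    (Algebra.FormallySmooth Λ A → CAlgX.IsAdicFormallySmooth A B J →
      (Module.Projective (B ⧸ J) J.Cotangent ∧ PP16.SymGrBijective B J ∧
        Function.Injective ((mapBaseChange Λ A B).lTensor (B ⧸ J)) ∧
        Module.Projective (B ⧸ J) ((B ⧸ J) ⊗[B] (Ω[B⁄A])))) := by
  constructor
  · rintro ⟨h1, h2, h3, h4⟩
    have hB : CAlgX.IsAdicFormallySmooth Λ B J :=
      AdicJacLib.isAdicFormallySmooth_of_projective J h2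
    obtain ⟨l, hl⟩ := AdicJacLib.exists_retraction_of_injective (Λ := Λ) (A := A) J
      ((AdicJacLib.toBase_injective_iff J).2 h3)
    exact AdicJacLib.isAdicFormallySmooth_of_retraction J l hl hB
  · intro hA h
    have hB : CAlgX.IsAdicFormallySmooth Λ B J := AdicJacLib.isAdicFormallySmooth_comp (Λ := Λ) J h
    have h1 := AdicJacLib.projective_cotangent_of_adic J hB
    obtain ⟨l, hl⟩ := AdicJacLib.exists_retraction_of_adic (Λ := Λ) J h
    have hP := AdicJacLib.projective_base (Λ := Λ) J
    exact ⟨h1, AdicJacLib.symGrBijective_of_adic J hB,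
      (AdicJacLib.toBase_injective_iff J).1
        (Function.LeftInverse.injective (g := l) fun x => LinearMap.congr_fun hl x),
      AdicJacLib.projective_rel_of_retraction J l hl⟩

end Groth.Agent.S4570
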