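import Groth.Statements.S4571
import Mathlib
import Groth.Agent.S4570
import Groth.Agent.CohenLib.DerExt

set_option autoImplicit false
universe u
open TensorProduct KaehlerDifferential IsLocalRing
open EGA41

namespace Groth.Agent.S4571

/-- For an arbitrary local algebra: let k be a field and A a local k-algebra with maximal ideal m and
residue field K. Then A is formally smooth over k for the m-adic topology if and only if the
canonical maps Sym^n_K(m/m²) → m^n/m^(n+1) are bijective for n ≥ 1 and the canonical map Ω_{k/ℤ} ⊗_k
K → Ω_{A/ℤ} ⊗_A K is injective (absolute differentials, which agree with differentials over the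
prime field). -/
theorem result {k A : Type u} [Field k] [CommRing A]
    [IsLocalRing A] [Algebra k A] :
    CAlgX.IsAdicFormallySmooth k A (maximalIdeal A) ↔
      (PP16.SymGrBijective A (maximalIdeal A) ∧
        Function.Injective ((mapBaseChange ℤ k A).lTensor (ResidueField A))) := by
  obtain ⟨P, hP, hPD⟩ := CohenLib.exists_perfect_subfield k
  have : IsScalarTower P k A := IsScalarTower.of_algebraMap_eq fun _ => rfl
  have hR : Algebra.FormallySmooth P (ResidueField A) :=
    Groth.Agent.PerfectFieldLib.formallySmooth_of_perfectField P (ResidueField A)
  have hk : Algebra.FormallySmooth P k := Groth.Agent.PerfectFieldLib.formallySmooth_of_perfectField P k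
  have : Algebra.FormallySmooth P (A ⧸ maximalIdeal A) := hR
  have hinj : Function.Injective ((mapBaseChange P k A).lTensor (ResidueField A)) ↔
      Function.Injective ((mapBaseChange ℤ k A).lTensor (ResidueField A)) := by
    rw [CohenLib.injective_lTensor_iff, CohenLib.injective_lTensor_iff]
    constructor
    · intro h D
      obtain ⟨D', hD'⟩ := h (Derivation.mk'
        { toFun := D
          map_add' := map_add D
          map_smul' := fun p c => by
            show D (p • c) = p • D c
            rw [Algebra.smul_def, D.leibniz]
            have h0 : D (algebraMap P k p) = 0 := hPD (ResidueField A) D _ p.2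
            rw [h0, smul_zero, add_zero]
            rfl } D.leibniz)
      exact ⟨D'.restrictScalars ℤ, hD'⟩
    · intro h D
      obtain ⟨D', hD'⟩ := h (D.restrictScalars ℤ)
      refine ⟨Derivation.mk'
        { toFun := D'
          map_add' := map_add D'
          map_smul' := fun p a => ?_ } D'.leibniz, hD'⟩
      rw [RingHom.id_apply, Algebra.smul_def, D'.leibniz, IsScalarTower.algebraMap_apply P k A, hD']
      show algebraMap k A (algebraMap P k p) • D' a + a • D (algebraMap P k p) = _
      rw [D.map_algebraMap, smul_zero, add_zero, ← IsScalarTower.algebraMap_apply, IsScalarTower.algebraMap_smul]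
      rfl
  rw [← hinj]
  obtain ⟨h1, h2⟩ := S4570.result (Λ := P) (A := k) (maximalIdeal A)
  constructor
  · intro h
    obtain ⟨-, hβ, hγ, -⟩ := h2 hk h
    exact ⟨hβ, hγ⟩
  · rintro ⟨hβ, hγ⟩
    letI := Ideal.Quotient.field (maximalIdeal A)
    exact h1 ⟨Module.Projective.of_free, hβ, hγ, Module.Projective.of_free⟩

end Groth.Agent.S4571
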