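import Groth.Statements.S4578
import Groth.Agent.JacFSLib.GeomReg

set_option autoImplicit false
universe u
open IsLocalRing
open EGA41

namespace Groth.Agent.S4578

/-- Let k₀ be a field, k an extension field of k₀ which is separable (formally smooth) over k₀, C a
k-algebra of finite type and p a prime ideal of C. The following are equivalent: C_p is formally
smooth over k₀ (discrete topologies); C_p is formally smooth over k₀ for the adic topology of its
maximal ideal; C_f is formally smooth over k₀ for some f ∉ p; C_p is geometrically regular over k₀.
(The published statement adds that the set of primes p having these properties is open in Spec C;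
that openness is not stated here.) -/
theorem result {k₀ k C : Type u} [Field k₀] [Field k] [Algebra k₀ k]
    [Algebra.FormallySmooth k₀ k] [CommRing C] [Algebra k C] [Algebra k₀ C] [IsScalarTower k₀ k C]
    [Algebra.FiniteType k C]
    (p : Ideal C) [p.IsPrime] :
    [Algebra.FormallySmooth k₀ (Localization.AtPrime p),
     CAlgX.IsAdicFormallySmooth k₀ (Localization.AtPrime p) (maximalIdeal (Localization.AtPrime p)),
     ∃ f : C, f ∉ p ∧ Algebra.FormallySmooth k₀ (Localization.Away f),
     CAlg.IsGeometricallyRegular k₀ (Localization.AtPrime p)].TFAE := by
  obtain ⟨n, φ, hφ⟩ := Algebra.FiniteType.iff_quotient_mvPolynomial''.1 (inferInstance : Algebra.FiniteType k C)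
  let B := MvPolynomial (Fin n) k
  let _ : Algebra B C := φ.toRingHom.toAlgebra
  have : IsScalarTower k B C := IsScalarTower.of_algebraMap_eq fun x => (φ.commutes x).symm
  have : IsScalarTower k₀ B C := IsScalarTower.of_algebraMap_eq fun x => by
    rw [IsScalarTower.algebraMap_apply k₀ k B, IsScalarTower.algebraMap_apply k₀ k C,
      ← IsScalarTower.algebraMap_apply k B C]
  have hsurj : Function.Surjective (algebraMap B C) := hφ
  have : Algebra.FormallySmooth k₀ B := Algebra.FormallySmooth.comp k₀ k B
  have : IsNoetherianRing C := isNoetherianRing_of_surjective B C _ hsurj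
  have : Module.Finite B (RingHom.ker (algebraMap B C)).Cotangent :=
    have : Module.Finite B (RingHom.ker (algebraMap B C)) := Module.Finite.of_fg (IsNoetherian.noetherian _)
    Module.Finite.of_surjective _ (Ideal.toCotangent_surjective _)
  have : IsNoetherianRing (Localization.AtPrime p) :=
    IsLocalization.isNoetherianRing p.primeCompl _ inferInstance
  tfae_have 1 → 4 := fun h => JacFSLib.isGeometricallyRegular_of_formallySmooth
  tfae_have 4 → 2 := fun h => JacFSLib.adic_of_isGeometricallyRegular h
  tfae_have 2 → 1 := fun h => JacFSLib.formallySmooth_atPrime_of_adic hsurj p h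
  tfae_have 1 → 3 := fun h => by
    obtain ⟨g, hg, hg', -⟩ := JacFSLib.exists_away_of_injective hsurj p
      ((JacFSLib.formallySmooth_atPrime_iff hsurj p).1 h)
    exact ⟨g, hg, hg'⟩
  tfae_have 3 → 1 := by
    rintro ⟨f, hf, hfs⟩
    let P := IsLocalization.Away.lift (S := Localization.Away f) f
      (g := algebraMap C (Localization.AtPrime p)) (IsLocalization.map_units _ (⟨f, hf⟩ : p.primeCompl))
    let _ : Algebra (Localization.Away f) (Localization.AtPrime p) := P.toAlgebra
    have : IsScalarTower C (Localization.Away f) (Localization.AtPrime p) :=
      IsScalarTower.of_algebraMap_eq fun x => (IsLocalization.Away.lift_eq f _ x).symm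
    have : IsScalarTower k₀ (Localization.Away f) (Localization.AtPrime p) :=
      IsScalarTower.to₁₃₄ k₀ C (Localization.Away f) (Localization.AtPrime p)
    have : IsLocalization (p.primeCompl.map (algebraMap C (Localization.Away f))) (Localization.AtPrime p) :=
      IsLocalization.isLocalization_of_submonoid_le (Localization.Away f) (Localization.AtPrime p)
        (Submonoid.powers f) p.primeCompl ((Submonoid.powers_le).2 hf)
    have : Algebra.FormallySmooth (Localization.Away f) (Localization.AtPrime p) :=
      Algebra.FormallySmooth.of_isLocalization (p.primeCompl.map (algebraMap C (Localization.Away f)))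
    exact Algebra.FormallySmooth.comp k₀ (Localization.Away f) (Localization.AtPrime p)
  tfae_finish

end Groth.Agent.S4578
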