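import Groth.Statements.S4579
import Groth.Agent.JacFSLib.GeomReg

set_option autoImplicit false
universe u
open EGA41

namespace Groth.Agent.S4579

/-- Let k₀ be a field, k a separable (formally smooth) extension field of k₀ and C a k-algebra of finite
type. The following are equivalent: C is formally smooth over k₀ (discrete topologies); every C_p, p
prime, is formally smooth over k₀; every C_m, m maximal, is; C is geometrically regular over k₀.
(Geometric regularity is tested on finite extensions of k₀. The published statement quantifies the
last condition over all extensions k' of k₀; for infinite ones the base change need not be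
Noetherian, so it need not be regular in the Noetherian sense, and the printed proof passes through
the local rings as here.) -/
theorem result {k₀ k C : Type u} [Field k₀] [Field k] [Algebra k₀ k]
    [Algebra.FormallySmooth k₀ k] [CommRing C] [Algebra k C] [Algebra k₀ C] [IsScalarTower k₀ k C]
    [Algebra.FiniteType k C] :
    [Algebra.FormallySmooth k₀ C,
     ∀ (p : Ideal C) [p.IsPrime], Algebra.FormallySmooth k₀ (Localization.AtPrime p),
     ∀ (m : Ideal C) [m.IsMaximal], Algebra.FormallySmooth k₀ (Localization.AtPrime m),
     CAlg.IsGeometricallyRegular k₀ C].TFAE := by
  obtain ⟨n, φ, hφ⟩ := Algebra.FiniteType.iff_quotient_mvPolynomial''.1 (inferInstance : Algebra.FiniteType k C)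
  let B := MvPolynomial (Fin n) k
  let _ : Algebra B C := φ.toRingHom.toAlgebra
  have : IsScalarTower k B C := IsScalarTower.of_algebraMap_eq fun x => (φ.commutes x).symm
  have : IsScalarTower k₀ B C := IsScalarTower.of_algebraMap_eq fun x => by
    rw [IsScalarTower.algebraMap_apply k₀ k B, IsScalarTower.algebraMap_apply k₀ k C,
      ← IsScalarTower.algebraMap_apply k B C]
  have hsurj : Function.Surjective (algebraMap B C) := hφ
  have : Algebra.FormallySmooth k₀ B := Algebra.FormallySmooth.comp k₀ k B
  have : IsNoetherianRing C := isNoetherianRing_of_surjective B C _ hsurj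
  have : Module.Finite B (RingHom.ker (algebraMap B C)).Cotangent :=
    have : Module.Finite B (RingHom.ker (algebraMap B C)) := Module.Finite.of_fg (IsNoetherian.noetherian _)
    Module.Finite.of_surjective _ (Ideal.toCotangent_surjective _)
  tfae_have 1 → 4 := fun h => JacFSLib.isGeometricallyRegular_of_formallySmooth
  tfae_have 4 → 2 := fun h p _ => by
    have : IsNoetherianRing (Localization.AtPrime p) :=
      IsLocalization.isNoetherianRing p.primeCompl _ inferInstance
    exact JacFSLib.formallySmooth_atPrime_of_adic hsurj p
      (JacFSLib.adic_of_isGeometricallyRegular (JacFSLib.isGeometricallyRegular_of_isLocalization p.primeCompl h))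
  tfae_have 2 → 3 := fun h m _ => h m
  tfae_have 3 → 1 := fun h => JacFSLib.formallySmooth_of_forall_maximal hsurj fun m _ =>
    (JacFSLib.formallySmooth_atPrime_iff hsurj m).1 (h m)
  tfae_finish

end Groth.Agent.S4579
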