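import Groth.Statements.S4580
import Groth.Agent.JacFSLib.Basic

set_option autoImplicit false
universe u
open EGA41

namespace Groth.Agent.S4580

/-- Let k₀ be a field, k a separable (formally smooth) extension field of k₀, B = k[T_1, ..., T_r], J an
ideal of B and q a prime of B containing J, with image p in C = B/J. Then C_p is formally smooth
over k₀ for the discrete topologies if and only if there exist f_1, ..., f_m ∈ J whose images
generate J B_q and k₀-derivations D_1, ..., D_m of B with det(D_j f_i) ∉ q. -/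
theorem result {k₀ k : Type u} [Field k₀] [Field k] [Algebra k₀ k]
    [Algebra.FormallySmooth k₀ k] (r : ℕ) (J q : Ideal (MvPolynomial (Fin r) k)) [q.IsPrime] (hJq : J ≤ q)
    [(q.map (Ideal.Quotient.mk J)).IsPrime] :
    Algebra.FormallySmooth k₀ (Localization.AtPrime (q.map (Ideal.Quotient.mk J))) ↔
      ∃ (m : ℕ) (f : Fin m → MvPolynomial (Fin r) k) (D : Fin m → Derivation k₀ (MvPolynomial (Fin r) k) (MvPolynomial (Fin r) k)),
        (∀ i, f i ∈ J) ∧
        J.map (algebraMap (MvPolynomial (Fin r) k) (Localization.AtPrime q)) =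
          Ideal.span (Set.range fun i => algebraMap (MvPolynomial (Fin r) k) (Localization.AtPrime q) (f i)) ∧
        Matrix.det (Matrix.of fun i j => D j (f i)) ∉ q := by
  let B := MvPolynomial (Fin r) k
  let p := q.map (Ideal.Quotient.mk J)
  let Bq := Localization.AtPrime q
  let C := Localization.AtPrime p
  haveI : Algebra.FormallySmooth k₀ B := Algebra.FormallySmooth.comp k₀ k B
  have hp : q = p.comap (Ideal.Quotient.mk J) := by
    rw [Ideal.comap_map_of_surjective _ Ideal.Quotient.mk_surjective, ← RingHom.ker_eq_comap_bot, Ideal.mk_ker,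
      sup_eq_left.2 hJq]
  let π : Bq →+* C := Localization.localRingHom q p (Ideal.Quotient.mk J) hp
  letI : Algebra Bq C := π.toAlgebra
  have hπ : ∀ b, π (algebraMap B Bq b) = algebraMap (B ⧸ J) C (Ideal.Quotient.mk J b) := fun b =>
    Localization.localRingHom_to_map q p (Ideal.Quotient.mk J) hp b
  haveI : IsScalarTower k₀ Bq C := IsScalarTower.of_algebraMap_eq fun x => by
    show _ = π (algebraMap k₀ Bq x)
    rw [IsScalarTower.algebraMap_apply k₀ B Bq, hπ, Ideal.Quotient.mk_algebraMap,
      ← IsScalarTower.algebraMap_apply k₀ (B ⧸ J) C]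
  have hsurj : Function.Surjective (algebraMap Bq C) := fun z => by
    obtain ⟨t, ⟨u, hu⟩, rfl⟩ := IsLocalization.exists_mk'_eq p.primeCompl z
    obtain ⟨t, rfl⟩ := Ideal.Quotient.mk_surjective t
    obtain ⟨u, rfl⟩ := Ideal.Quotient.mk_surjective u
    have hu' : u ∈ q.primeCompl := fun h => hu (Ideal.mem_map_of_mem _ h)
    exact ⟨IsLocalization.mk' Bq t ⟨u, hu'⟩, Localization.localRingHom_mk' q p (Ideal.Quotient.mk J) hp t ⟨u, hu'⟩⟩
  have hker : RingHom.ker (algebraMap Bq C) = J.map (algebraMap B Bq) := by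
    refine le_antisymm (fun z hz => ?_) (Ideal.map_le_iff_le_comap.2 fun b hb => ?_)
    · obtain ⟨t, s, rfl⟩ := IsLocalization.exists_mk'_eq q.primeCompl z
      have h1 : π (algebraMap B Bq t) = 0 := by
        rw [← IsLocalization.mk'_spec Bq t s, map_mul, (RingHom.mem_ker.1 hz : π _ = 0), zero_mul]
      rw [hπ, IsLocalization.map_eq_zero_iff p.primeCompl] at h1
      obtain ⟨⟨w, hw⟩, hw0⟩ := h1
      obtain ⟨w, rfl⟩ := Ideal.Quotient.mk_surjective w
      have hw' : w ∈ q.primeCompl := fun h => hw (Ideal.mem_map_of_mem _ h)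
      rw [← map_mul, Ideal.Quotient.eq_zero_iff_mem] at hw0
      exact (IsLocalization.mk'_mem_map_algebraMap_iff q.primeCompl Bq J t s).2 ⟨w, hw', hw0⟩
    · rw [Ideal.mem_comap, RingHom.mem_ker]
      show π _ = 0
      rw [hπ, Ideal.Quotient.eq_zero_iff_mem.2 hb, map_zero]
  constructor
  · intro h
    haveI : Algebra.FormallySmooth k₀ C := h
    obtain ⟨m, f, φ, hf, hgen, hdet⟩ := JacFSLib.exists_jacobian (k₀ := k₀) q C hsurj J hJq hker
    exact ⟨m, f, fun j => (φ j).compDer (KaehlerDifferential.D k₀ B), hf, hgen, hdet⟩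
  · rintro ⟨m, f, D, hf, hgen, hdet⟩
    refine JacFSLib.formallySmooth_of_jacobian (k₀ := k₀) q C hsurj J hker m f
      (fun j => (D j).liftKaehlerDifferential) hf hgen ?_
    simpa only [Derivation.liftKaehlerDifferential_comp_D] using hdet

end Groth.Agent.S4580
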