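import Groth.Statements.S4581
import Mathlib

set_option autoImplicit false
universe u
open EGA41
open scoped TensorProduct

namespace Groth.Agent.S4581

open scoped TensorProduct in
lemma mem_pow_smul_top {A₀ A : Type u} [CommRing A₀] [CommRing A] [Algebra A₀ A] (I : Ideal A₀)
    (n : ℕ) (x : A) :
    x ∈ (I ^ n • ⊤ : Submodule A₀ A) ↔ x ∈ I.map (algebraMap A₀ A) ^ n := by
  rw [Ideal.smul_top_eq_map, Submodule.restrictScalars_mem, Ideal.map_pow]

lemma map_jacobson_le {A₀ A : Type u} [CommRing A₀] [CommRing A] [Algebra A₀ A] [Algebra.IsIntegral A₀ A] :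
    (Ideal.jacobson (⊥ : Ideal A₀)).map (algebraMap A₀ A) ≤ Ideal.jacobson (⊥ : Ideal A) := by
  refine le_sInf fun m hm => Ideal.map_le_iff_le_comap.2 ?_
  have := hm.2
  exact sInf_le ⟨bot_le, Ideal.isMaximal_comap_of_isIntegral_of_isMaximal (R := A₀) m⟩

lemma jacobson_le_radical_map {A₀ A : Type u} [CommRing A₀] [Finite (MaximalSpectrum A₀)]
    [CommRing A] [Algebra A₀ A] [Algebra.IsIntegral A₀ A] :
    Ideal.jacobson (⊥ : Ideal A) ≤
      ((Ideal.jacobson (⊥ : Ideal A₀)).map (algebraMap A₀ A)).radical := by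
  cases nonempty_fintype (MaximalSpectrum A₀)
  rw [Ideal.radical_eq_sInf]
  refine le_sInf fun P hP => ?_
  have := hP.2
  have h1 : (Finset.univ : Finset (MaximalSpectrum A₀)).inf (fun m => m.asIdeal) ≤
      P.comap (algebraMap A₀ A) := by
    refine le_trans ?_ (Ideal.map_le_iff_le_comap.1 hP.1)
    refine le_sInf fun m hm => ?_
    exact Finset.inf_le (Finset.mem_univ (⟨m, hm.2⟩ : MaximalSpectrum A₀))
  obtain ⟨m, -, hm⟩ := (Ideal.IsPrime.inf_le' inferInstance).1 h1
  have : (P.comap (algebraMap A₀ A)).IsMaximal := by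
    rw [← m.isMaximal.eq_of_le Ideal.IsPrime.ne_top' hm]; exact m.isMaximal
  exact sInf_le ⟨bot_le, Ideal.isMaximal_of_isIntegral_of_isMaximal_comap P this⟩

open scoped TensorProduct in
theorem exists_algEquiv_tensor_completion {A₀ A : Type u} [CommRing A₀] [IsNoetherianRing A₀]
    [CommRing A] [Algebra A₀ A] [Module.Finite A₀ A] (I : Ideal A₀) (J : Ideal A)
    (hIJ : I.map (algebraMap A₀ A) ≤ J) (k : ℕ) (hJI : J ^ k ≤ I.map (algebraMap A₀ A)) :
    Nonempty ((A ⊗[A₀] AdicCompletion I A₀) ≃ₐ[A] AdicCompletion J A) := by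
  set K := I.map (algebraMap A₀ A) with hK
  let gn : ∀ n, AdicCompletion I A₀ →ₐ[A₀] A ⧸ J ^ n := fun n =>
    (Ideal.quotientMapₐ (J ^ n) (Algebra.ofId A₀ A) (Ideal.map_le_iff_le_comap.1
      (by rw [Ideal.map_pow]; exact Ideal.pow_right_mono hIJ n))).comp (AdicCompletion.evalₐ I n)
  have hgn : ∀ {m n : ℕ} (hle : m ≤ n),
      (Ideal.Quotient.factorₐ A₀ (Ideal.pow_le_pow_right hle)).comp (gn n) = gn m := by
    intro m n hle
    refine AlgHom.ext fun x => ?_
    induction x using AdicCompletion.induction_on with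
    | _ f =>
      simp only [gn, AlgHom.comp_apply, AdicCompletion.evalₐ_mk]
      show Ideal.Quotient.mk (J ^ m) (algebraMap A₀ A (f.1 n)) =
        Ideal.Quotient.mk (J ^ m) (algebraMap A₀ A (f.1 m))
      refine Ideal.Quotient.eq.2 ?_
      rw [← map_sub, ← neg_sub, map_neg]
      refine neg_mem (Ideal.pow_right_mono hIJ m ?_)
      rw [← Ideal.map_pow]
      refine Ideal.mem_map_of_mem _ ?_
      have := SModEq.sub_mem.1 (f.2 hle)
      rwa [smul_eq_mul, Ideal.mul_top] at this
  let g := AdicCompletion.liftAlgHom J gn hgn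
  let e : A ⊗[A₀] AdicCompletion I A₀ →ₐ[A] AdicCompletion J A :=
    Algebra.TensorProduct.lift (Algebra.ofId A (AdicCompletion J A)) g (fun _ _ => Commute.all _ _)
  -- evaluation of module completion
  let θ : ∀ n, AdicCompletion I A →ₗ[A₀] A ⧸ J ^ n := fun n =>
    (Submodule.liftQ (I ^ n • ⊤ : Submodule A₀ A) (Ideal.Quotient.mkₐ A₀ (J ^ n)).toLinearMap
      (fun x hx => by
        rw [LinearMap.mem_ker, AlgHom.toLinearMap_apply, Ideal.Quotient.mkₐ_eq_mk,
          Ideal.Quotient.eq_zero_iff_mem]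
        exact Ideal.pow_right_mono hIJ n ((mem_pow_smul_top I n x).1 hx))).comp
      (AdicCompletion.eval I A n)
  have hθmk : ∀ n f, θ n (AdicCompletion.mk I A f) = Ideal.Quotient.mk (J ^ n) (f.1 n) :=
    fun n f => rfl
  set ψ : A ⊗[A₀] AdicCompletion I A₀ → AdicCompletion I A := fun t =>
    AdicCompletion.ofTensorProduct I A (TensorProduct.comm A₀ A (AdicCompletion I A₀) t) with hψ
  have hψbij : Function.Bijective ψ :=
    (AdicCompletion.ofTensorProduct_bijective_of_finite_of_isNoetherian I A).comp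
      (LinearEquiv.bijective _)
  have hcomp : ∀ n t, θ n (ψ t) = AdicCompletion.evalₐ J n (e t) := by
    intro n t
    induction t using TensorProduct.induction_on with
    | zero => simp [hψ]
    | add x y hx hy => simp only [hψ, map_add] at *; rw [hx, hy]
    | tmul a r =>
      induction r using AdicCompletion.induction_on with
      | _ f =>
        simp only [hψ, TensorProduct.comm_tmul, AdicCompletion.ofTensorProduct_tmul]
        have h1 : θ n (AdicCompletion.mk I A₀ f • AdicCompletion.of I A a) =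
            Ideal.Quotient.mk (J ^ n) (f.1 n • a) := rfl
        rw [h1]
        simp only [e, Algebra.TensorProduct.lift_tmul, map_mul, g, AdicCompletion.evalₐ_liftAlgHom,
          gn, AlgHom.comp_apply, AdicCompletion.evalₐ_mk, Algebra.ofId_apply, AlgHom.commutes]
        rw [Algebra.smul_def, map_mul, mul_comm]
        rfl
  refine ⟨AlgEquiv.ofBijective e ⟨(injective_iff_map_eq_zero _).2 fun t ht => ?_, fun y => ?_⟩⟩
  · refine hψbij.1 ?_
    have h0 : ψ 0 = 0 := by simp [hψ]
    rw [h0]
    have h2 : ∀ n, θ n (ψ t) = 0 := fun n => by rw [hcomp, ht, map_zero]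
    generalize ψ t = y at h2 ⊢
    induction y using AdicCompletion.induction_on with
    | _ f =>
      ext n
      rw [AdicCompletion.val_zero, AdicCompletion.mk_apply_coe, Submodule.mkQ_apply,
        Pi.zero_apply, Submodule.Quotient.mk_eq_zero, mem_pow_smul_top]
      have h3 := h2 ((k + 1) * n)
      rw [hθmk, Ideal.Quotient.eq_zero_iff_mem] at h3
      have h4 : f.1 ((k + 1) * n) ∈ K ^ n := by
        refine Ideal.pow_right_mono hJI n ?_
        rw [← pow_mul]
        exact Ideal.pow_le_pow_right (Nat.mul_le_mul_right n k.le_succ) h3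
      have h5 := (mem_pow_smul_top I n _).1
        (SModEq.sub_mem.1 (f.2 (show n ≤ (k + 1) * n from Nat.le_mul_of_pos_left n k.succ_pos)))
      simpa using add_mem h5 h4
  · induction y using AdicCompletion.induction_on with
    | _ f =>
      have hf : AdicCompletion.IsAdicCauchy I A (fun n => f.1 ((k + 1) * n)) := by
        intro m n hmn
        rw [SModEq.sub_mem, mem_pow_smul_top]
        have h3 := SModEq.sub_mem.1 (f.2 (Nat.mul_le_mul_left (k + 1) hmn))
        rw [smul_eq_mul, Ideal.mul_top] at h3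
        refine Ideal.pow_right_mono hJI m ?_
        rw [← pow_mul]
        exact Ideal.pow_le_pow_right (Nat.mul_le_mul_right m k.le_succ) h3
      obtain ⟨t, ht⟩ := hψbij.2 (AdicCompletion.mk I A ⟨_, hf⟩)
      refine ⟨t, AdicCompletion.ext_evalₐ fun n => ?_⟩
      rw [← hcomp, ht, hθmk, AdicCompletion.evalₐ_mk, Ideal.Quotient.eq]
      have h3 := SModEq.sub_mem.1 (f.2 (show n ≤ (k + 1) * n from Nat.le_mul_of_pos_left n k.succ_pos))
      rw [smul_eq_mul, Ideal.mul_top] at h3
      rw [← neg_sub]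
      exact neg_mem h3

/-- Let A₀ be a semi-local Noetherian ring, A a module-finite A₀-algebra and Â the completion of A for
the adic topology of its Jacobson radical. For the discrete topologies, Â is a formally smooth
A-algebra relative to A₀. -/
theorem result {A₀ A : Type u} [CommRing A₀]
    [IsNoetherianRing A₀] [Finite (MaximalSpectrum A₀)] [CommRing A] [Algebra A₀ A] [Module.Finite A₀ A] :
    EGA41.IsFormallySmoothRel A₀ A (AdicCompletion (Ideal.jacobson (⊥ : Ideal A)) A) := by
  obtain ⟨k, hk⟩ : ∃ k, Ideal.jacobson (⊥ : Ideal A) ^ k ≤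
      (Ideal.jacobson (⊥ : Ideal A₀)).map (algebraMap A₀ A) := by
    have : IsNoetherian A₀ A := isNoetherian_of_isNoetherianRing_of_finite A₀ A
    have : IsNoetherianRing A := isNoetherian_of_tower A₀ this
    obtain ⟨k, hk⟩ := Ideal.exists_radical_pow_le_of_fg
      ((Ideal.jacobson (⊥ : Ideal A₀)).map (algebraMap A₀ A)) (IsNoetherian.noetherian _)
    exact ⟨k, le_trans (Ideal.pow_right_mono jacobson_le_radical_map k) hk⟩
  obtain ⟨E⟩ := exists_algEquiv_tensor_completion (Ideal.jacobson (⊥ : Ideal A₀))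
    (Ideal.jacobson (⊥ : Ideal A)) map_jacobson_le k hk
  intro C _ _ _ _ J hJ u₀ hu
  obtain ⟨u, hu⟩ := hu
  let r : AdicCompletion (Ideal.jacobson (⊥ : Ideal A₀)) A₀ →ₐ[A₀] C :=
    u.comp ((E.toAlgHom.restrictScalars A₀).comp Algebra.TensorProduct.includeRight)
  let v₁ := Algebra.TensorProduct.lift (Algebra.ofId A C) r (fun _ _ => Commute.all _ _)
  refine ⟨v₁.comp E.symm.toAlgHom, ?_⟩
  have h : (Ideal.Quotient.mkₐ A J).comp v₁ = u₀.comp E.toAlgHom := by
    refine Algebra.TensorProduct.ext (Subsingleton.elim _ _) (AlgHom.ext fun x => ?_)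
    show Ideal.Quotient.mk J (v₁ (1 ⊗ₜ x)) = u₀ (E (1 ⊗ₜ x))
    rw [Algebra.TensorProduct.lift_tmul, map_one, one_mul]
    exact AlgHom.congr_fun hu (E (1 ⊗ₜ x))
  rw [← AlgHom.comp_assoc, h, AlgHom.comp_assoc]
  exact AlgHom.ext fun x => by simp

end Groth.Agent.S4581
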