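import Groth.Statements.S4582
import Groth.Agent.AdicFSLib.Main
import Groth.Agent.GRingLib.RegHom
import Groth.Agent.S0598
-- import your own Groth.Agent.* helpers here

set_option autoImplicit false
universe u
open IsLocalRing
open EGA41

namespace Groth.Agent.S4582

/-- Let A be a complete Noetherian local ring, p a prime of A, B = A_p, B̂ the completion of B, q a
prime of B̂ and r its contraction to B. Then B̂_q is formally smooth over B_r for the adic
topologies of the maximal ideals. -/
theorem result {A : Type u} [CommRing A]
    [IsLocalRing A] [IsNoetherianRing A] [IsAdicComplete (maximalIdeal A) A] (p : Ideal A) [p.IsPrime]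
    (q : Ideal (AdicCompletion (maximalIdeal (Localization.AtPrime p)) (Localization.AtPrime p))) [q.IsPrime]
    [Algebra (Localization.AtPrime (q.comap (algebraMap (Localization.AtPrime p)
        (AdicCompletion (maximalIdeal (Localization.AtPrime p)) (Localization.AtPrime p)))))
      (Localization.AtPrime q)]
    [IsScalarTower (Localization.AtPrime p)
      (Localization.AtPrime (q.comap (algebraMap (Localization.AtPrime p)
        (AdicCompletion (maximalIdeal (Localization.AtPrime p)) (Localization.AtPrime p)))))
      (Localization.AtPrime q)] :
    EGA41.IsFormallySmoothAdic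
      (Localization.AtPrime (q.comap (algebraMap (Localization.AtPrime p)
        (AdicCompletion (maximalIdeal (Localization.AtPrime p)) (Localization.AtPrime p)))))
      (maximalIdeal _) (Localization.AtPrime q) (maximalIdeal _) := by
  let Ap := Localization.AtPrime p
  let Ah := AdicCompletion (maximalIdeal Ap) Ap
  haveI : IsNoetherianRing Ah := GeomRedFibLib.isNoetherianRing_cpl Ap
  have h := (Groth.Agent.S0598.result A).2 p
  haveI : IsNoetherianRing (Localization.AtPrime q) := IsLocalization.isNoetherianRing q.primeCompl _ inferInstance
  let r := q.comap (algebraMap Ap Ah)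
  have h1 : CAlg.IsRegularHom (Localization.AtPrime r) (Localization.AtPrime q) :=
    GRingLib.isRegularHom_localRingHom Ap Ah h q r
  haveI : IsLocalHom (algebraMap (Localization.AtPrime r) (Localization.AtPrime q)) := by
    have heq : algebraMap (Localization.AtPrime r) (Localization.AtPrime q) =
        Localization.localRingHom r q (algebraMap Ap Ah) rfl :=
      IsLocalization.ringHom_ext r.primeCompl (RingHom.ext fun x => by
        simp only [RingHom.comp_apply, Localization.localRingHom_to_map]
        rw [← IsScalarTower.algebraMap_apply, IsScalarTower.algebraMap_apply Ap Ah (Localization.AtPrime q)])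
    rw [heq]
    infer_instance
  haveI := h1.1
  have h2 := (CohenLib.isFormallySmoothAdic_bot_iff _).1 (AdicFSLib.adicFS_of_flat (h1.2 _).2)
  exact fun C _ _ J hJ _ u hu => h2 C J hJ ⟨1, by simp⟩ u hu

end Groth.Agent.S4582
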