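import Groth.Statements.S4583
import Groth.Agent.AdicFSLib.Main
import Groth.Agent.GRingLib.RegHom
import Groth.Agent.S0598
-- import your own Groth.Agent.* helpers here

set_option autoImplicit false
universe u
open IsLocalRing
open EGA41

namespace Groth.Agent.S4583

/-- Let A be a complete Noetherian local domain with fraction field K, p a prime of A, B = A_p, q a
prime of the completion B̂ of B with q ∩ B = 0. Then B̂_q is a K-algebra formally smooth over K for
the adic topology of its maximal ideal (the published statement adds that it is then geometrically
regular over K; that consequence is not stated). -/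
theorem result {A : Type u} [CommRing A]
    [IsDomain A] [IsLocalRing A] [IsNoetherianRing A] [IsAdicComplete (maximalIdeal A) A] (p : Ideal A) [p.IsPrime]
    (q : Ideal (AdicCompletion (maximalIdeal (Localization.AtPrime p)) (Localization.AtPrime p))) [q.IsPrime]
    (hq : q.comap (algebraMap (Localization.AtPrime p)
      (AdicCompletion (maximalIdeal (Localization.AtPrime p)) (Localization.AtPrime p))) = ⊥)
    [Algebra A (Localization.AtPrime q)]
    [IsScalarTower A (AdicCompletion (maximalIdeal (Localization.AtPrime p)) (Localization.AtPrime p))
      (Localization.AtPrime q)]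
    [Algebra (FractionRing A) (Localization.AtPrime q)] [IsScalarTower A (FractionRing A) (Localization.AtPrime q)] :
    CAlgX.IsAdicFormallySmooth (FractionRing A) (Localization.AtPrime q) (maximalIdeal (Localization.AtPrime q)) := by
  haveI : IsNoetherianRing (AdicCompletion (maximalIdeal (Localization.AtPrime p)) (Localization.AtPrime p)) := GeomRedFibLib.isNoetherianRing_cpl (Localization.AtPrime p)
  haveI : IsNoetherianRing (Localization.AtPrime q) := IsLocalization.isNoetherianRing q.primeCompl _ inferInstance
  have hA : ∀ a : A, algebraMap (FractionRing A) (Localization.AtPrime q) (algebraMap A (FractionRing A) a) =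
      algebraMap (AdicCompletion (maximalIdeal (Localization.AtPrime p)) (Localization.AtPrime p)) (Localization.AtPrime q)
        (algebraMap A (AdicCompletion (maximalIdeal (Localization.AtPrime p)) (Localization.AtPrime p)) a) := fun a => by
    have h1 := smul_assoc a (1 : FractionRing A) (1 : Localization.AtPrime q)
    rw [one_smul] at h1
    rw [Algebra.algebraMap_eq_smul_one a, Algebra.algebraMap_eq_smul_one (a • (1 : FractionRing A)), h1,
      Algebra.algebraMap_eq_smul_one (R := A) (A := AdicCompletion (maximalIdeal (Localization.AtPrime p))
        (Localization.AtPrime p)) a, Algebra.algebraMap_eq_smul_one (a • (1 : AdicCompletion (maximalIdeal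
          (Localization.AtPrime p)) (Localization.AtPrime p))), smul_assoc, one_smul]
  letI instA : Algebra A (Localization.AtPrime q) :=
    ((algebraMap (AdicCompletion (maximalIdeal (Localization.AtPrime p)) (Localization.AtPrime p))
      (Localization.AtPrime q)).comp (algebraMap A _)).toAlgebra
  letI : SMul A (Localization.AtPrime q) := instA.toSMul
  haveI : IsScalarTower A (AdicCompletion (maximalIdeal (Localization.AtPrime p)) (Localization.AtPrime p))
      (Localization.AtPrime q) := .of_algebraMap_eq fun _ => rfl
  haveI : IsScalarTower A (FractionRing A) (Localization.AtPrime q) := .of_algebraMap_eq fun a => (hA a).symm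
  have h : CAlg.IsRegularHom A (AdicCompletion (maximalIdeal (Localization.AtPrime p)) (Localization.AtPrime p)) := GRingLib.isRegularHom_comp A (Localization.AtPrime p) (AdicCompletion (maximalIdeal (Localization.AtPrime p)) (Localization.AtPrime p))
    (GRingLib.isRegularHom_of_isLocalization A (Localization.AtPrime p) p.primeCompl) ((Groth.Agent.S0598.result A).2 p)
  have h1 : CAlg.IsRegularHom A (Localization.AtPrime q) :=
    GRingLib.isRegularHom_comp A (AdicCompletion (maximalIdeal (Localization.AtPrime p)) (Localization.AtPrime p)) (Localization.AtPrime q) h (GRingLib.isRegularHom_of_isLocalization (AdicCompletion (maximalIdeal (Localization.AtPrime p)) (Localization.AtPrime p)) (Localization.AtPrime q) q.primeCompl)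
  have h2 : CAlg.IsRegularHom (FractionRing A) (Localization.AtPrime q) :=
    GRingLib.isRegularHom_of_isLocalization_base A (FractionRing A) (Localization.AtPrime q) (nonZeroDivisors A) h1
  haveI : IsLocalHom (algebraMap (FractionRing A) (Localization.AtPrime q)) :=
    ⟨fun x hx => isUnit_iff_ne_zero.2 fun hx0 => not_isUnit_zero (M₀ := (Localization.AtPrime q)) (by simpa [hx0] using hx)⟩
  haveI := h2.1
  exact AdicFSLib.adicFS_of_flat (h2.2 _).2

end Groth.Agent.S4583
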