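import Groth.Statements.S4585
import Mathlib
import Groth.Agent.FlatLib.GenericFree

set_option autoImplicit false
universe u
open AlgebraicGeometry CategoryTheory
open EGA41

namespace Groth.Agent.S4585
open TensorProduct

lemma exists_basicOpen_subset_range {A B : Type u} [CommRing A] [CommRing B] [Algebra A B]
    [Algebra.FiniteType A B] (q : PrimeSpectrum B)
    (hmin : ∀ r : PrimeSpectrum A, (PrimeSpectrum.comap (algebraMap A B) q).asIdeal ≤ r.asIdeal) :
    ∃ f : A, f ∉ (PrimeSpectrum.comap (algebraMap A B) q).asIdeal ∧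
      (PrimeSpectrum.basicOpen f : Set (PrimeSpectrum A)) ⊆ Set.range (PrimeSpectrum.comap (algebraMap A B)) := by
  let p := (PrimeSpectrum.comap (algebraMap A B) q).asIdeal
  let Bp := B ⧸ p.map (algebraMap A B)
  have : Algebra.FiniteType (A ⧸ p) Bp := Algebra.FiniteType.of_restrictScalars_finiteType A (A ⧸ p) Bp
  obtain ⟨fb, hfb, hfree⟩ := FlatLib.gfree_of_finite (R := A ⧸ p) Bp Bp
  obtain ⟨f, rfl⟩ := Ideal.Quotient.mk_surjective fb
  have hf : f ∉ p := fun h => hfb ((Ideal.Quotient.eq_zero_iff_mem).mpr h)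
  refine ⟨f, hf, fun r hr => ?_⟩
  let R' := Localization.Away (Ideal.Quotient.mk p f)
  have hle : p.map (algebraMap A B) ≤ q.asIdeal := Ideal.map_le_iff_le_comap.mpr le_rfl
  let ψ : Bp →+* q.asIdeal.ResidueField :=
    Ideal.Quotient.lift _ (algebraMap B q.asIdeal.ResidueField) fun b hb =>
      Ideal.algebraMap_residueField_eq_zero.mpr (hle hb)
  let Kq := q.asIdeal.ResidueField
  letI : Algebra (A ⧸ p) Kq := (ψ.comp (algebraMap (A ⧸ p) Bp)).toAlgebra
  let ψ' : Bp →ₐ[A ⧸ p] Kq := { ψ with commutes' := fun _ => rfl }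
  have hu : IsUnit (algebraMap (A ⧸ p) Kq (Ideal.Quotient.mk p f)) := by
    rw [isUnit_iff_ne_zero]
    show algebraMap B Kq (algebraMap A B f) ≠ 0
    rw [Ne, Ideal.algebraMap_residueField_eq_zero]
    exact hf
  letI : Algebra R' Kq :=
    (IsLocalization.Away.lift (S := R') (Ideal.Quotient.mk p f) hu).toAlgebra
  have : IsScalarTower (A ⧸ p) R' Kq :=
    IsScalarTower.of_algebraMap_eq fun x => (IsLocalization.Away.lift_eq _ hu x).symm
  have : Nontrivial (R' ⊗[A ⧸ p] Bp) :=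
    (Algebra.TensorProduct.lift (Algebra.ofId R' Kq) ψ' fun _ _ => Commute.all _ _).toRingHom.domain_nontrivial
  have : Module.FaithfullyFlat R' (R' ⊗[A ⧸ p] Bp) := inferInstance
  obtain ⟨r₀, hr₀⟩ : r ∈ Set.range (PrimeSpectrum.comap (Ideal.Quotient.mk p)) := by
    rw [range_comap_of_surjective _ _ Ideal.Quotient.mk_surjective, Ideal.mk_ker]
    exact hmin r
  obtain ⟨r₁, hr₁⟩ : r₀ ∈ Set.range (PrimeSpectrum.comap (algebraMap (A ⧸ p) R')) := by
    rw [PrimeSpectrum.localization_away_comap_range _ (Ideal.Quotient.mk p f)]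
    rw [← hr₀] at hr
    exact hr
  obtain ⟨Q, hQ⟩ := PrimeSpectrum.comap_surjective_of_faithfullyFlat (A := R') (B := R' ⊗[A ⧸ p] Bp) r₁
  refine ⟨PrimeSpectrum.comap ((Algebra.TensorProduct.includeRight (R := A ⧸ p) (A := R') (B := Bp)).toRingHom.comp
    (Ideal.Quotient.mk _)) Q, ?_⟩
  rw [← hr₀, ← hr₁, ← hQ]
  ext a
  show Algebra.TensorProduct.includeRight (algebraMap (A ⧸ p) Bp (Ideal.Quotient.mk p a)) ∈ Q.asIdeal ↔
    algebraMap R' (R' ⊗[A ⧸ p] Bp) (algebraMap (A ⧸ p) R' (Ideal.Quotient.mk p a)) ∈ Q.asIdeal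
  rw [AlgHom.commutes, ← IsScalarTower.algebraMap_apply]


/-- Let Y be an irreducible scheme with generic point η and f : X → Y locally of finite type with
nonempty fibre over η. Then some open neighbourhood of η is contained in f(X). (The second
assertion, on fibres of a quasi-coherent module of finite type, is not stated.) -/
theorem result {X Y : Scheme.{u}} (f : X ⟶ Y)
    [LocallyOfFiniteType f] [IrreducibleSpace Y] (h : genericPoint Y ∈ Set.range f.base) :
    genericPoint Y ∈ interior (Set.range f.base) := by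
  obtain ⟨x, hx⟩ := h
  obtain ⟨V, hV, hxV, -⟩ := exists_isAffineOpen_mem_and_subset (X := Y) (x := f.base x) (U := ⊤) trivial
  obtain ⟨U, hU, hxU, hUV⟩ := exists_isAffineOpen_mem_and_subset (X := X) (x := x) (U := f ⁻¹ᵁ V) hxV
  let _ : Algebra Γ(Y, V) Γ(X, U) := (f.appLE V U hUV).hom.toAlgebra
  have : Algebra.FiniteType Γ(Y, V) Γ(X, U) := f.finiteType_appLE hV hU hUV
  obtain ⟨q, hq⟩ : x ∈ Set.range hU.fromSpec := by rw [hU.range_fromSpec]; exact hxU
  have hcomm : ∀ z : Spec Γ(X, U), hV.fromSpec (Spec.map (f.appLE V U hUV) z) = f.base (hU.fromSpec z) := by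
    intro z
    rw [← Scheme.Hom.comp_apply, IsAffineOpen.SpecMap_appLE_fromSpec]
    rfl
  have hp : hV.fromSpec (Spec.map (f.appLE V U hUV) q) = genericPoint Y := by rw [hcomm, hq]; exact hx
  obtain ⟨g, hg, hgr⟩ := exists_basicOpen_subset_range (A := Γ(Y, V)) (B := Γ(X, U)) q fun r => by
    have hs : (Spec.map (f.appLE V U hUV) q) ⤳ (r : Spec Γ(Y, V)) := by
      rw [← hV.fromSpec.isOpenEmbedding.isInducing.specializes_iff, hp]
      exact genericPoint_specializes _
    exact (PrimeSpectrum.le_iff_specializes _ r).mpr hs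
  rw [mem_interior]
  refine ⟨hV.fromSpec '' (PrimeSpectrum.basicOpen g : Set (PrimeSpectrum Γ(Y, V))), ?_,
    hV.fromSpec.isOpenEmbedding.isOpenMap _ (PrimeSpectrum.basicOpen g).isOpen, ⟨_, hg, hp⟩⟩
  rintro _ ⟨r, hr, rfl⟩
  obtain ⟨z, hz⟩ := hgr hr
  exact ⟨hU.fromSpec z, by rw [← hcomm]; exact congrArg _ hz⟩

end Groth.Agent.S4585
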