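import Groth.Statements.S4586
import Groth.Agent.ProConsLib.Sch

set_option autoImplicit false
universe u
open AlgebraicGeometry CategoryTheory Topology
open EGA41

namespace Groth.Agent.S4586

/-- Let f : X → Y be surjective and either quasi-compact or locally of finite presentation, E ⊆ Y. Then
E is locally constructible (resp. pro-constructible, resp. ind-constructible) if and only if f⁻¹(E)
is. -/
theorem result {X Y : Scheme.{u}} (f : X ⟶ Y) [Surjective f]
    (hf : QuasiCompact f ∨ LocallyOfFinitePresentation f) (E : Set Y) :
    (IsLocallyConstructible E ↔ IsLocallyConstructible (f.base ⁻¹' E)) ∧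
    (ProCons.IsProConstructible E ↔ ProCons.IsProConstructible (f.base ⁻¹' E)) ∧
    (ProCons.IsIndConstructible E ↔ ProCons.IsIndConstructible (f.base ⁻¹' E)) := by
  have himg : ∀ F : Set Y, f.base '' (f.base ⁻¹' F) = F := fun F =>
    Set.image_preimage_eq F f.surjective
  have hpro : ProCons.IsProConstructible E ↔ ProCons.IsProConstructible (f.base ⁻¹' E) := by
    refine ⟨fun h => ProConsLib.isProConstructible_preimage f h, fun h => ?_⟩
    rcases hf with hf | hf
    · rw [← himg E]
      exact ProConsLib.isProConstructible_image f h
    · rw [← compl_compl E, ProConsLib.isProConstructible_compl_iff, ← himg Eᶜ]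
      exact ProConsLib.isIndConstructible_image f (by
        rw [Set.preimage_compl]; exact ProConsLib.isIndConstructible_compl_iff.mpr h)
  have hind : ProCons.IsIndConstructible E ↔ ProCons.IsIndConstructible (f.base ⁻¹' E) := by
    refine ⟨fun h => ProConsLib.isIndConstructible_preimage f h, fun h => ?_⟩
    rcases hf with hf | hf
    · rw [← compl_compl E, ProConsLib.isIndConstructible_compl_iff, ← himg Eᶜ]
      exact ProConsLib.isProConstructible_image f (by
        rw [Set.preimage_compl]; exact ProConsLib.isProConstructible_compl_iff.mpr h)
    · rw [← himg E]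
      exact ProConsLib.isIndConstructible_image f h
  refine ⟨?_, hpro, hind⟩
  rw [ProConsLib.isLocallyConstructible_iff_ind_and_pro, ProConsLib.isLocallyConstructible_iff_ind_and_pro,
    hpro, hind]

end Groth.Agent.S4586
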