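import Groth.Statements.S4587
import Mathlib
-- import your own Groth.Agent.* helpers here

set_option autoImplicit false
universe u
open AlgebraicGeometry CategoryTheory
open EGA41

namespace Groth.Agent.S4587

/-- A morphism of schemes f : X → Y is generizing if and only if, for every irreducible closed subset Y'
of Y, each irreducible component of f⁻¹(Y') has dense image in Y'. -/
theorem result {X Y : Scheme.{u}} (f : X ⟶ Y) :
    GeneralizingMap f.base ↔
      ∀ Y' : Set Y, IsClosed Y' → IsIrreducible Y' →
        ∀ Z ∈ irreducibleComponents ↥(f.base ⁻¹' Y'), closure (f.base '' (Subtype.val '' Z)) = Y' := by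
  constructor
  · intro hf Y' hY' hY'i Z hZ
    have hT : IsClosed (f.base ⁻¹' Y') := hY'.preimage f.continuous
    have hWc : IsClosed (Subtype.val '' Z : Set X) :=
      hT.isClosedEmbedding_subtypeVal.isClosedMap _ (isClosed_of_mem_irreducibleComponents _ hZ)
    have hWi : IsIrreducible (Subtype.val '' Z : Set X) :=
      hZ.1.image _ continuous_subtype_val.continuousOn
    have hz := hWi.isGenericPoint_genericPoint hWc
    have hzY : f.base hWi.genericPoint ∈ Y' := by
      obtain ⟨t, -, ht⟩ := hz.mem
      rw [← ht]; exact t.2
    have hη := hY'i.isGenericPoint_genericPoint hY'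
    obtain ⟨x', hx', hfx'⟩ := hf (hη.specializes hzY)
    have hx'T : x' ∈ f.base ⁻¹' Y' := by
      change f.base x' ∈ Y'
      rw [hfx']; exact hη.mem
    have hsub : Z ⊆ closure {(⟨x', hx'T⟩ : ↥(f.base ⁻¹' Y'))} := fun t ht =>
      Specializes.mem_closed (Topology.IsInducing.subtypeVal.specializes_iff.1
        (hx'.trans (hz.specializes ⟨t, ht, rfl⟩))) isClosed_closure (subset_closure rfl)
    have hZeq := hZ.eq_of_le isIrreducible_singleton.closure hsub
    apply subset_antisymm
    · refine closure_minimal ?_ hY'
      rintro _ ⟨_, ⟨t, -, rfl⟩, rfl⟩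
      exact t.2
    · refine hη.def.symm.subset.trans (closure_mono ?_)
      rw [Set.singleton_subset_iff]
      refine ⟨x', ⟨⟨x', hx'T⟩, ?_, rfl⟩, hfx'⟩
      rw [hZeq]; exact subset_closure rfl
  · intro h x y hy
    have hgen : IsGenericPoint y (closure ({y} : Set Y)) := rfl
    have hY'i : IsIrreducible (closure ({y} : Set Y)) := isIrreducible_singleton.closure
    have hxT : x ∈ f.base ⁻¹' closure ({y} : Set Y) := hy.mem_closure
    let x0 : ↥(f.base ⁻¹' closure ({y} : Set Y)) := ⟨x, hxT⟩
    have hZ := irreducibleComponent_mem_irreducibleComponents x0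
    have hT : IsClosed (f.base ⁻¹' closure ({y} : Set Y)) := isClosed_closure.preimage f.continuous
    have hWc : IsClosed (Subtype.val '' irreducibleComponent x0 : Set X) :=
      hT.isClosedEmbedding_subtypeVal.isClosedMap _ (isClosed_of_mem_irreducibleComponents _ hZ)
    have hWi : IsIrreducible (Subtype.val '' irreducibleComponent x0 : Set X) :=
      hZ.1.image _ continuous_subtype_val.continuousOn
    have hz := hWi.isGenericPoint_genericPoint hWc
    refine ⟨hWi.genericPoint, hz.specializes ⟨x0, mem_irreducibleComponent, rfl⟩, ?_⟩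
    have hd := h _ isClosed_closure hY'i _ hZ
    have hzY : f.base hWi.genericPoint ∈ closure ({y} : Set Y) := by
      obtain ⟨t, -, ht⟩ := hz.mem
      rw [← ht]; exact t.2
    have hle : closure ({y} : Set Y) ⊆ closure {f.base hWi.genericPoint} := by
      refine hd.symm.subset.trans (closure_minimal ?_ isClosed_closure)
      rintro _ ⟨w, hw, rfl⟩
      exact ((hz.specializes hw).map f.continuous).mem_closure
    exact ((specializes_iff_mem_closure.2 (hle (subset_closure rfl))).antisymm
      (specializes_iff_mem_closure.2 hzY)).eq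

end Groth.Agent.S4587
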