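import Groth.Statements.S4588
import Mathlib
import Groth.Agent.CommAlgDim.Integral
import Groth.Agent.CommAlgDim.GlobalDim
import Groth.Agent.CommAlgDim.Regular

set_option autoImplicit false
set_option linter.style.haveILetI false
set_option maxHeartbeats 800000
universe u
open IsLocalRing
open EGA41

namespace Groth.Agent.S4588

/-- Let A be a regular local ring with maximal ideal m and residue field K, and F_i(T_i) = T_i^{d_i} +
Σ_{k<d_i} c_{ik} T_i^k (1 ≤ i ≤ r) monic one-variable polynomials of degrees d_i ≥ 2 with all
non-leading coefficients in m; put A' = A[T_1, …, T_r]/(F_1, …, F_r). Then (i) A' is local with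
residue field K, and (ii) A' is regular if and only if the classes in m/m² of the constant terms
c_{i0} are linearly independent over K. -/
theorem result {A : Type u} [CommRing A]
    [IsRegularLocalRing A] {r : ℕ} (d : Fin r → ℕ) (hd : ∀ i, 2 ≤ d i) (c : Fin r → ℕ → A)
    (hc : ∀ i k, c i k ∈ maximalIdeal A) :
    let F : Fin r → MvPolynomial (Fin r) A := fun i =>
      MvPolynomial.X i ^ d i + (Finset.range (d i)).sum fun k => MvPolynomial.C (c i k) * MvPolynomial.X i ^ k
    IsLocalRing (MvPolynomial (Fin r) A ⧸ Ideal.span (Set.range F)) ∧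
    (∀ (M : Ideal (MvPolynomial (Fin r) A ⧸ Ideal.span (Set.range F))) [M.IsMaximal],
      Function.Surjective ((Ideal.Quotient.mk M).comp (algebraMap A _))) ∧
    (IsRegularRing (MvPolynomial (Fin r) A ⧸ Ideal.span (Set.range F)) ↔
      LinearIndependent (ResidueField A) (fun i => (maximalIdeal A).toCotangent ⟨c i 0, hc i 0⟩)) := by
  classical
  intro F
  let B := (MvPolynomial (Fin r) A) ⧸ Ideal.span (Set.range F)
  let mk := Ideal.Quotient.mk (Ideal.span (Set.range F))
  let x : Fin r → B := fun i => mk (MvPolynomial.X i)
  haveI : IsNoetherianRing B := inferInstance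
  haveI hAdom : IsDomain A := CommAlgDim.isDomain_of_isRegularLocalRing A
  have hFx : ∀ i, x i ^ d i + ∑ k ∈ Finset.range (d i), algebraMap A B (c i k) * x i ^ k = 0 := fun i => by
    have h : mk (F i) = 0 := Ideal.Quotient.eq_zero_iff_mem.2 (Ideal.subset_span ⟨i, rfl⟩)
    simp only [F, map_add, map_pow, map_sum, map_mul] at h
    exact h
  have hint : ∀ i, IsIntegral A (x i) := fun i => by
    refine ⟨Polynomial.X ^ d i + ∑ k : Fin (d i), Polynomial.C (c i k) * Polynomial.X ^ (k : ℕ),
      Polynomial.monic_X_pow_add (Polynomial.degree_sum_fin_lt _), ?_⟩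
    rw [Polynomial.eval₂_add, Polynomial.eval₂_pow, Polynomial.eval₂_X, Polynomial.eval₂_finsetSum]
    simp only [Polynomial.eval₂_mul, Polynomial.eval₂_pow, Polynomial.eval₂_X, Polynomial.eval₂_C]
    rw [Fin.sum_univ_eq_sum_range fun k => algebraMap A B (c i k) * x i ^ k]
    exact hFx i
  haveI : Algebra.IsIntegral A B := ⟨fun b => by
    obtain ⟨P, rfl⟩ := Ideal.Quotient.mk_surjective b
    induction P using MvPolynomial.induction_on with
    | C a => exact isIntegral_algebraMap
    | add P R hP hR => rw [map_add]; exact hP.add hR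
    | mul_X P i hP => rw [map_mul]; exact hP.mul (hint i)⟩
  have hinj : Function.Injective (algebraMap A B) := by
    let Ω := AlgebraicClosure (FractionRing A)
    have hroot : ∀ i, ∃ z : Ω, z ^ d i + ∑ k ∈ Finset.range (d i), algebraMap A Ω (c i k) * z ^ k = 0 := fun i => by
      let g : Polynomial Ω := Polynomial.X ^ d i + ∑ k : Fin (d i), Polynomial.C (algebraMap A Ω (c i k)) * Polynomial.X ^ (k : ℕ)
      have hg : g.degree ≠ 0 := by
        show (Polynomial.X ^ d i + _).degree ≠ 0
        rw [Polynomial.degree_add_eq_left_of_degree_lt (by rw [Polynomial.degree_X_pow]; exact Polynomial.degree_sum_fin_lt _),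
          Polynomial.degree_X_pow]
        exact_mod_cast (show d i ≠ 0 by have := hd i; omega)
      obtain ⟨z, hz⟩ := IsAlgClosed.exists_root g hg
      refine ⟨z, ?_⟩
      simp only [g, Polynomial.IsRoot, Polynomial.eval_add, Polynomial.eval_finsetSum, Polynomial.eval_mul,
        Polynomial.eval_pow, Polynomial.eval_X, Polynomial.eval_C] at hz
      rwa [Fin.sum_univ_eq_sum_range fun k => algebraMap A Ω (c i k) * z ^ k] at hz
    choose z hz using hroot
    let ev : (MvPolynomial (Fin r) A) →ₐ[A] Ω := MvPolynomial.aeval z
    have hev : Ideal.span (Set.range F) ≤ RingHom.ker ev := by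
      rw [Ideal.span_le]
      rintro _ ⟨i, rfl⟩
      show ev (F i) = 0
      simp only [F, ev, map_add, map_pow, map_sum, map_mul, MvPolynomial.aeval_X, MvPolynomial.aeval_C]
      exact hz i
    have h : Function.Injective (algebraMap A Ω) := by
      rw [IsScalarTower.algebraMap_eq A (FractionRing A) Ω]
      exact (algebraMap (FractionRing A) Ω).injective.comp (IsFractionRing.injective A (FractionRing A))
    refine fun a b hab => h ?_
    have := Ideal.Quotient.eq.1 (show mk (MvPolynomial.C a) = mk (MvPolynomial.C b) from hab)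
    have := hev this
    have h2 : ev (MvPolynomial.C a - MvPolynomial.C b) = 0 := this
    rw [map_sub, MvPolynomial.aeval_C, MvPolynomial.aeval_C, sub_eq_zero] at h2
    exact h2
  let n : Ideal B := (maximalIdeal A).map (algebraMap A B) ⊔ Ideal.span (Set.range x)
  have hX : ∀ (M : Ideal B), M.IsMaximal → n ≤ M := by
    intro M hM
    have hMc : M.comap (algebraMap A B) = maximalIdeal A :=
      IsLocalRing.eq_maximalIdeal (Ideal.isMaximal_comap_of_isIntegral_of_isMaximal (R := A) M)
    have hm : (maximalIdeal A).map (algebraMap A B) ≤ M := Ideal.map_le_iff_le_comap.2 hMc.ge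
    refine sup_le hm (Ideal.span_le.2 ?_)
    rintro _ ⟨i, rfl⟩
    refine hM.isPrime.mem_of_pow_mem (d i) ?_
    rw [eq_neg_of_add_eq_zero_left (hFx i), SetLike.mem_coe.symm, SetLike.mem_coe, neg_mem_iff]
    exact sum_mem fun k _ => Ideal.mul_mem_right _ _ (hm (Ideal.mem_map_of_mem _ (hc i k)))
  have hres : ∀ b : B, ∃ a : A, b - algebraMap A B a ∈ n := fun b => by
    obtain ⟨P, rfl⟩ := Ideal.Quotient.mk_surjective b
    induction P using MvPolynomial.induction_on with
    | C a => exact ⟨a, by rw [show mk (MvPolynomial.C a) = algebraMap A B a from rfl, sub_self]; exact zero_mem _⟩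
    | add P R hP hR =>
      obtain ⟨a, ha⟩ := hP
      obtain ⟨a', ha'⟩ := hR
      exact ⟨a + a', by rw [map_add, map_add, add_sub_add_comm]; exact add_mem ha ha'⟩
    | mul_X P i _ => exact ⟨0, by rw [map_mul, map_zero, sub_zero]; exact Ideal.mem_sup_right (Ideal.mul_mem_left _ _ (Ideal.subset_span ⟨i, rfl⟩))⟩
  haveI : Nontrivial B := hinj.nontrivial
  have hmax : ∀ (M : Ideal B), M.IsMaximal → M = n := by
    intro M hM
    refine le_antisymm (fun b hb => ?_) (hX M hM)
    obtain ⟨a, ha⟩ := hres b
    have haM : algebraMap A B a ∈ M := by simpa using sub_mem hb (hX M hM ha)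
    have hMc : M.comap (algebraMap A B) = maximalIdeal A :=
      IsLocalRing.eq_maximalIdeal (Ideal.isMaximal_comap_of_isIntegral_of_isMaximal (R := A) M)
    have : algebraMap A B a ∈ n := Ideal.mem_sup_left (Ideal.mem_map_of_mem _ (hMc ▸ haM : a ∈ maximalIdeal A))
    simpa using add_mem ha this
  obtain ⟨M₀, hM₀⟩ := Ideal.exists_maximal B
  haveI hloc : IsLocalRing B := IsLocalRing.of_unique_max_ideal ⟨M₀, hM₀, fun M hM => (hmax M hM).trans (hmax M₀ hM₀).symm⟩
  refine ⟨hloc, fun M hM z => ?_, ?_⟩
  · obtain ⟨b, rfl⟩ := Ideal.Quotient.mk_surjective z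
    obtain ⟨a, ha⟩ := hres b
    exact ⟨a, (Ideal.Quotient.eq.2 (hX M hM ha)).symm⟩
  have hn : maximalIdeal B = n := hmax _ (maximalIdeal.isMaximal B)
  obtain ⟨dd, hdd⟩ := CommAlgDim.exists_ringKrullDim_eq (R := A)
  have hdimB : ringKrullDim B = (dd : WithBot ℕ∞) := (CommAlgDim.ringKrullDim_eq_of_integral A B hinj).trans hdd
  have hcot : Module.finrank (ResidueField A) (CotangentSpace A) = dd := by
    have := (IsRegularLocalRing.iff_finrank_cotangentSpace A).1 inferInstance
    rw [hdd] at this
    exact_mod_cast this
  let cb : Fin r → CotangentSpace A := fun i => (maximalIdeal A).toCotangent ⟨c i 0, hc i 0⟩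
  have hiff : IsRegularRing B ↔ IsRegularLocalRing B := by
    refine ⟨fun h => ?_, fun _ => CommAlgDim.isRegularRing_of_isRegularLocalRing B⟩
    haveI : IsLocalization.AtPrime B (maximalIdeal B) := IsLocalization.self fun y hy => notMem_maximalIdeal.1 hy
    exact IsRegularLocalRing.of_ringEquiv (R := Localization.AtPrime (maximalIdeal B))
      (IsLocalization.algEquiv (maximalIdeal B).primeCompl (Localization.AtPrime (maximalIdeal B)) B).toRingEquiv
  rw [hiff]
  constructor
  · intro hreg
    let S := Submodule.span (ResidueField A) (Set.range cb)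
    let nt : Ideal (MvPolynomial (Fin r) A) := (maximalIdeal A).comap MvPolynomial.constantCoeff
    let Φ : nt → ((CotangentSpace A ⧸ S) × (Fin r → ResidueField A)) := fun P => (S.mkQ ((maximalIdeal A).toCotangent ⟨MvPolynomial.constantCoeff P.1, P.2⟩),
      fun i => residue A (MvPolynomial.constantCoeff (MvPolynomial.pderiv i P.1)))
    have hΦadd : ∀ P R : nt, Φ (P + R) = Φ P + Φ R := fun P R => by
      refine Prod.ext ?_ (funext fun i => ?_)
      · show S.mkQ _ = S.mkQ _ + S.mkQ _
        rw [← map_add, ← map_add]
        exact congrArg _ (congrArg _ (Subtype.ext (by simp)))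
      · simp [Φ]
    have hΦmul : ∀ (q : (MvPolynomial (Fin r) A)) (P : nt), Φ (q • P) = residue A (MvPolynomial.constantCoeff q) • Φ P := fun q P => by
      have hp : residue A (MvPolynomial.constantCoeff P.1) = 0 := (residue_eq_zero_iff _).2 P.2
      refine Prod.ext ?_ (funext fun i => ?_)
      · show S.mkQ _ = residue A _ • S.mkQ _
        rw [← map_smul, ← ResidueField.algebraMap_eq, algebraMap_smul, ← map_smul]
        congr 2
        exact Subtype.ext (by simp)
      · simp [Φ, Derivation.leibniz, hp, mul_comm]
    have hΦF : ∀ i, ∃ h : F i ∈ nt, Φ ⟨F i, h⟩ = 0 := fun i => by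
      have h0 : MvPolynomial.constantCoeff (F i) = c i 0 := by
        have hdi : d i ≠ 0 := by have := hd i; omega
        rw [show F i = MvPolynomial.X i ^ d i + _ from rfl]
        simp [zero_pow hdi]
        rw [Finset.sum_eq_single_of_mem 0 (Finset.mem_range.2 (Nat.pos_of_ne_zero hdi))
          (fun k _ hk => by simp [zero_pow hk])]
        simp
      have hmem : F i ∈ nt := show _ ∈ maximalIdeal A from h0.symm ▸ hc i 0
      refine ⟨hmem, Prod.ext ?_ (funext fun j => ?_)⟩
      · show S.mkQ _ = 0
        rw [Submodule.mkQ_apply, Submodule.Quotient.mk_eq_zero]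
        exact Submodule.subset_span ⟨i, congrArg _ (Subtype.ext h0.symm)⟩
      · show residue A _ = 0
        rw [residue_eq_zero_iff]
        show MvPolynomial.constantCoeff (MvPolynomial.pderiv j (MvPolynomial.X i ^ d i +
          ∑ k ∈ Finset.range (d i), MvPolynomial.C (c i k) * MvPolynomial.X i ^ k)) ∈ maximalIdeal A
        rw [map_add, map_sum, map_add, map_sum]
        refine add_mem ?_ (sum_mem fun k _ => ?_)
        · have : d i - 1 ≠ 0 := by have := hd i; omega
          simp [zero_pow this]
        · rw [Derivation.leibniz, smul_eq_mul, smul_eq_mul, MvPolynomial.pderiv_C, mul_zero, add_zero, map_mul,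
            MvPolynomial.constantCoeff_C]
          exact Ideal.mul_mem_right _ _ (hc i k)
    obtain ⟨gs, hgs, hgspan⟩ :=
      (IsNoetherian.noetherian (maximalIdeal B)).exists_span_finset_card_eq_spanFinrank
    have hcard : gs.card = dd := by
      have := (isRegularLocalRing_iff B).1 hreg
      rw [hdimB, ← hgs] at this
      exact_mod_cast this
    have hlift : ∀ g : gs, ∃ P : nt, mk P.1 = g.1 := fun g => by
      obtain ⟨P, hP⟩ := Ideal.Quotient.mk_surjective g.1
      refine ⟨⟨P, ?_⟩, hP⟩
      have hg : mk P ∈ n := hn ▸ hgspan ▸ (show mk P = g.1 from hP).symm ▸ Submodule.subset_span g.2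
      have hnle : n.comap mk ≤ nt := by
        intro R hR
        have hsub : n ≤ nt.map mk := by
          refine sup_le (Ideal.map_le_iff_le_comap.2 fun a ha => ?_) (Ideal.span_le.2 ?_)
          · exact Ideal.mem_map_of_mem mk (show MvPolynomial.C a ∈ nt by simpa [nt] using ha)
          · rintro _ ⟨j, rfl⟩
            exact Ideal.mem_map_of_mem mk (show MvPolynomial.X j ∈ nt by simp [nt])
        have := hsub hR
        rw [← Ideal.mem_comap, Ideal.comap_map_quotientMk, sup_eq_right.2 (Ideal.span_le.2 (by
          rintro _ ⟨j, rfl⟩; exact (hΦF j).1))] at this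
        exact this
      exact hnle hg
    choose P hP using hlift
    let S₀ := Submodule.span (ResidueField A) (Set.range fun g => Φ (P g))
    have hall : ∀ R : nt, Φ R ∈ S₀ := by
      let T : Submodule (MvPolynomial (Fin r) A) nt :=
        { carrier := {R | Φ R ∈ S₀}
          add_mem' := fun {a b} ha hb => by show Φ (a + b) ∈ S₀; rw [hΦadd]; exact add_mem ha hb
          zero_mem' := by
            have := hΦmul 0 (0 : nt)
            rw [zero_smul, map_zero, map_zero, zero_smul] at this
            show Φ 0 ∈ S₀
            rw [this]; exact zero_mem _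
          smul_mem' := fun q a ha => by show Φ (q • a) ∈ S₀; rw [hΦmul]; exact Submodule.smul_mem _ _ ha }
      intro R
      have hR : mk R.1 ∈ (Ideal.span (Set.range fun g => (P g).1)).map mk := by
        rw [Ideal.map_span, ← Set.range_comp, show (mk ∘ fun g => (P g).1) = fun g : gs => g.1 from funext hP,
          Subtype.range_coe_subtype, show {z | z ∈ gs} = (gs : Set B) from rfl,
          show Ideal.span (gs : Set B) = Submodule.span B (gs : Set B) from rfl, hgspan, hn]
        have hle : nt ≤ n.comap mk := by
          intro U hU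
          obtain ⟨a, ha⟩ : ∃ a, U - MvPolynomial.C a ∈ Ideal.span (Set.range (MvPolynomial.X : Fin r → (MvPolynomial (Fin r) A))) ∧
              a = MvPolynomial.constantCoeff U := by
            clear hU
            induction U using MvPolynomial.induction_on with
            | C a => exact ⟨a, by simp, by simp⟩
            | add U W hU hW =>
              obtain ⟨a, ha, rfl⟩ := hU
              obtain ⟨a', ha', rfl⟩ := hW
              exact ⟨_, by rw [map_add, map_add, add_sub_add_comm]; exact add_mem ha ha', rfl⟩
            | mul_X U j _ => exact ⟨0, by rw [map_zero, sub_zero]; exact Ideal.mul_mem_left _ _ (Ideal.subset_span ⟨j, rfl⟩), by simp⟩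
          have h1 : mk (U - MvPolynomial.C a) ∈ n := Ideal.mem_sup_right (by
            have := Ideal.mem_map_of_mem mk ha.1
            rwa [Ideal.map_span, ← Set.range_comp] at this)
          have h2 : mk (MvPolynomial.C a) ∈ n := Ideal.mem_sup_left (Ideal.mem_map_of_mem (algebraMap A B) (ha.2 ▸ hU : a ∈ maximalIdeal A))
          rw [map_sub] at h1
          show mk U ∈ n
          simpa using add_mem h1 h2
        exact hle R.2
      rw [← Ideal.mem_comap, Ideal.comap_map_quotientMk, ← Ideal.span_union] at hR
      let emb : Submodule (MvPolynomial (Fin r) A) (MvPolynomial (Fin r) A) := Submodule.map nt.subtype T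
      have hle : Ideal.span (Set.range F ∪ Set.range fun g => (P g).1) ≤ emb := by
        refine Ideal.span_le.2 ?_
        rintro _ (⟨i, rfl⟩ | ⟨g, rfl⟩)
        · obtain ⟨h, h0⟩ := hΦF i
          exact ⟨⟨F i, h⟩, (show Φ _ ∈ S₀ by rw [h0]; exact zero_mem _), rfl⟩
        · exact ⟨P g, Submodule.subset_span ⟨g, rfl⟩, rfl⟩
      obtain ⟨R', hR', he⟩ := hle hR
      rwa [← show R' = R from Subtype.ext he]
    have htop : S₀ = ⊤ := top_le_iff.1 fun v _ => by
      obtain ⟨a, ha⟩ := S.mkQ_surjective v.1
      obtain ⟨⟨a, ham⟩, rfl⟩ := (maximalIdeal A).toCotangent_surjective a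
      choose w hw using fun i => residue_surjective (v.2 i)
      let R : (MvPolynomial (Fin r) A) := MvPolynomial.C a + ∑ i, MvPolynomial.C (w i) * MvPolynomial.X i
      have hRc : MvPolynomial.constantCoeff R = a := by simp [R]
      have := hall ⟨R, show _ ∈ maximalIdeal A from hRc.symm ▸ ham⟩
      convert this using 1
      refine Prod.ext ?_ (funext fun i => ?_)
      · rw [← ha]
        exact congrArg _ (congrArg _ (Subtype.ext hRc.symm))
      · simp [Φ, R, hw, MvPolynomial.pderiv_X, Pi.single_apply, Derivation.leibniz]
    have hfr : Module.finrank (ResidueField A) ((CotangentSpace A ⧸ S) × (Fin r → ResidueField A)) ≤ dd := by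
      rw [← finrank_top (ResidueField A) ((CotangentSpace A ⧸ S) × (Fin r → ResidueField A)), ← htop, ← hcard, ← Fintype.card_coe gs]
      exact finrank_range_le_card _
    rw [Module.finrank_prod, Module.finrank_fintype_fun_eq_card, Fintype.card_fin] at hfr
    have hq := Submodule.finrank_quotient_add_finrank S
    rw [linearIndependent_iff_card_eq_finrank_span, Fintype.card_fin]
    refine le_antisymm ?_ ((finrank_range_le_card cb).trans_eq (Fintype.card_fin r))
    show r ≤ Module.finrank (ResidueField A) S
    omega
  · intro hind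
    let S := Submodule.span (ResidueField A) (Set.range cb)
    obtain ⟨W, hW⟩ := S.exists_isCompl
    let bW := Module.finBasis (ResidueField A) W
    choose e he using fun j => (maximalIdeal A).toCotangent_surjective ((bW j : W) : CotangentSpace A)
    let s : Set (maximalIdeal A) := (Set.range fun i => (⟨c i 0, hc i 0⟩ : maximalIdeal A)) ∪ Set.range e
    have hs : Submodule.span (ResidueField A) ((maximalIdeal A).toCotangent '' s) = ⊤ := by
      rw [Set.image_union, ← Set.range_comp, ← Set.range_comp, Submodule.span_union]
      refine top_le_iff.1 (hW.sup_eq_top.ge.trans (sup_le_sup le_rfl ?_))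
      rw [show ((maximalIdeal A).toCotangent ∘ e) = fun j => ((bW j : W) : CotangentSpace A) from funext he,
        show (fun j => ((bW j : W) : CotangentSpace A)) = W.subtype ∘ bW from rfl, Set.range_comp,
        Submodule.span_image, bW.span_eq, Submodule.map_subtype_top]
    rw [CotangentSpace.span_image_eq_top_iff] at hs
    let gens : Finset B := Finset.univ.image x ∪ Finset.univ.image fun j => algebraMap A B (e j).1
    have hle : maximalIdeal B ≤ Ideal.span (gens : Set B) := by
      rw [hn]
      refine sup_le (Ideal.map_le_iff_le_comap.2 fun a ha => ?_) (Ideal.span_le.2 ?_)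
      · have hmem : (⟨a, ha⟩ : maximalIdeal A) ∈ Submodule.span A s := hs ▸ trivial
        have : a ∈ Ideal.span (Subtype.val '' s) := by
          have h2 := Submodule.mem_map_of_mem (f := (maximalIdeal A).subtype) hmem
          rwa [← Submodule.span_image] at h2
        refine (Ideal.map_le_iff_le_comap.1 (?_ : (Ideal.span (Subtype.val '' s)).map (algebraMap A B) ≤ _)) this
        rw [Ideal.map_span, Ideal.span_le]
        rintro _ ⟨_, ⟨y, hy | hy, rfl⟩, rfl⟩
        · obtain ⟨i, rfl⟩ := hy
          have h0 := hFx i
          have hdi : d i ≠ 0 := by have := hd i; omega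
          rw [← Finset.add_sum_erase _ _ (Finset.mem_range.2 (Nat.pos_of_ne_zero hdi)), pow_zero, mul_one,
            add_left_comm] at h0
          show algebraMap A B (c i 0) ∈ Ideal.span (gens : Set B)
          rw [eq_neg_of_add_eq_zero_left h0]
          have hxi : x i ∈ Ideal.span (gens : Set B) := Ideal.subset_span (by simp [gens])
          refine neg_mem (add_mem (Ideal.pow_mem_of_mem _ hxi _ (Nat.pos_of_ne_zero hdi)) (sum_mem fun k hk => ?_))
          exact Ideal.mul_mem_left _ _ (Ideal.pow_mem_of_mem _ hxi _ (Nat.pos_of_ne_zero (Finset.mem_erase.1 hk).1))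
        · obtain ⟨j, rfl⟩ := hy
          exact Ideal.subset_span (by simp [gens])
      · rintro _ ⟨i, rfl⟩
        exact Ideal.subset_span (by simp [gens])
    have heq : maximalIdeal B = Ideal.span (gens : Set B) := by
      refine le_antisymm hle (Ideal.span_le.2 ?_)
      intro z hz
      rw [hn]
      rcases Finset.mem_union.1 hz with h | h
      · obtain ⟨i, -, rfl⟩ := Finset.mem_image.1 h
        exact Ideal.mem_sup_right (Ideal.subset_span ⟨i, rfl⟩)
      · obtain ⟨j, -, rfl⟩ := Finset.mem_image.1 h
        exact Ideal.mem_sup_left (Ideal.mem_map_of_mem _ (e j).2)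
    refine IsRegularLocalRing.of_spanFinrank_maximalIdeal_le B ?_
    rw [hdimB]
    have h1 : (maximalIdeal B).spanFinrank ≤ gens.card := by
      rw [heq]
      exact (Submodule.spanFinrank_span_le_ncard_of_finite gens.finite_toSet).trans_eq (Set.ncard_coe_finset _)
    have h2 : gens.card ≤ r + Module.finrank (ResidueField A) W := by
      refine (Finset.card_union_le _ _).trans (add_le_add ?_ ?_)
      · exact Finset.card_image_le.trans_eq (by simp)
      · exact Finset.card_image_le.trans_eq (by simp)
    have h3 : r + Module.finrank (ResidueField A) W = dd := by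
      rw [← hcot, ← Submodule.finrank_add_eq_of_isCompl hW, finrank_span_eq_card hind, Fintype.card_fin]
    exact_mod_cast h1.trans (h2.trans h3.le)

end Groth.Agent.S4588
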