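import Groth.Statements.S4589
import Groth.Agent.NagataLib.Criterion
-- import your own Groth.Agent.* helpers here

set_option autoImplicit false
universe u
open IsLocalRing
open EGA41

namespace Groth.Agent.S4589

/-- Under the hypotheses of Nagata's Jacobian criterion — k a field of characteristic exponent p with k
finite over k^p, A a complete Noetherian local ring with residue field finite over a separable
extension K₀ of k, A a K₀-algebra formally smooth for its adic topology, q an ideal of A and B = A/q
— the set of primes n of B with B_n formally smooth over k for the adic topology of its maximal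
ideal is open in Spec B. -/
theorem result (p : ℕ) {k K₀ A : Type u} [Field k] [ExpChar k p]
    (hk : p = 1 ∨ Module.Finite (frobenius k p).fieldRange k)
    [Field K₀] [Algebra k K₀] [Algebra.IsGeometricallyReduced k K₀]
    [CommRing A] [IsLocalRing A] [IsNoetherianRing A] [IsAdicComplete (maximalIdeal A) A]
    [Algebra k A] [Algebra K₀ A] [IsScalarTower k K₀ A] [Module.Finite K₀ (ResidueField A)]
    (hA : CAlgX.IsAdicFormallySmooth K₀ A (maximalIdeal A))
    (q : Ideal A) :
    IsOpen {n : PrimeSpectrum (A ⧸ q) |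
      CAlgX.IsAdicFormallySmooth k (Localization.AtPrime n.asIdeal) (maximalIdeal (Localization.AtPrime n.asIdeal))} := by
  classical
  have hA' := NagataLib.adicFS_of_separable (k := k) (maximalIdeal A) hA
  rw [isOpen_iff_forall_mem_open]
  intro n hn
  let 𝔭 := n.asIdeal.comap (Ideal.Quotient.mk q)
  have hle : ∀ n' : PrimeSpectrum (A ⧸ q), q ≤ n'.asIdeal.comap (Ideal.Quotient.mk q) := fun n' a ha => by
    rw [Ideal.mem_comap, Ideal.Quotient.eq_zero_iff_mem.2 ha]
    exact zero_mem _
  have hmap : ∀ n' : PrimeSpectrum (A ⧸ q),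
      (n'.asIdeal.comap (Ideal.Quotient.mk q)).map (Ideal.Quotient.mk q) = n'.asIdeal := fun n' =>
    Ideal.map_comap_of_surjective _ Ideal.Quotient.mk_surjective _
  have hiff : ∀ n' : PrimeSpectrum (A ⧸ q),
      CAlgX.IsAdicFormallySmooth k (Localization.AtPrime n'.asIdeal) (maximalIdeal (Localization.AtPrime n'.asIdeal)) ↔
      ∃ (m : ℕ) (D : Fin m → Derivation k A A) (f : Fin m → A), (∀ i, f i ∈ q) ∧
        q.map (algebraMap A (Localization.AtPrime (n'.asIdeal.comap (Ideal.Quotient.mk q)))) =
          Ideal.span (Set.range fun i =>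
            algebraMap A (Localization.AtPrime (n'.asIdeal.comap (Ideal.Quotient.mk q))) (f i)) ∧
        Matrix.det (Matrix.of fun i j => D i (f j)) ∉ n'.asIdeal.comap (Ideal.Quotient.mk q) := fun n' => by
    haveI : ((n'.asIdeal.comap (Ideal.Quotient.mk q)).map (Ideal.Quotient.mk q)).IsPrime := by
      rw [hmap]; exact n'.isPrime
    rw [← NagataLib.adicFS_iff_jacobian p hk hA' q _ (hle n')]
    suffices key : ∀ (I J : Ideal (A ⧸ q)) [I.IsPrime] [J.IsPrime], I = J →
        (CAlgX.IsAdicFormallySmooth k (Localization.AtPrime I) (maximalIdeal (Localization.AtPrime I)) ↔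
          CAlgX.IsAdicFormallySmooth k (Localization.AtPrime J) (maximalIdeal (Localization.AtPrime J))) from
      key _ _ (hmap n').symm
    rintro I J _ _ rfl
    exact Iff.rfl
  obtain ⟨m, D, f, hf, hgen, hdet⟩ := (hiff n).1 hn
  obtain ⟨g, hg⟩ := (IsNoetherian.noetherian q : q.FG)
  have hu : ∀ a : (g : Set A), ∃ u ∉ 𝔭, u * a.1 ∈ Ideal.span (Set.range f) := fun a => by
    have h := Ideal.mem_map_of_mem (algebraMap A (Localization.AtPrime 𝔭))
      (show a.1 ∈ q from hg ▸ Submodule.subset_span a.2)
    rw [hgen, show (Set.range fun i => algebraMap A (Localization.AtPrime 𝔭) (f i)) =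
      algebraMap A (Localization.AtPrime 𝔭) '' Set.range f by rw [← Set.range_comp]; rfl, ← Ideal.map_span] at h
    exact (IsLocalization.algebraMap_mem_map_algebraMap_iff 𝔭.primeCompl _ _ _).1 h
  choose u hu hum using hu
  let w := (∏ a, u a) * Matrix.det (Matrix.of fun i j => D i (f j))
  have hw : w ∉ 𝔭 := fun h => by
    rcases Ideal.IsPrime.mem_or_mem inferInstance h with h | h
    · obtain ⟨a, -, ha⟩ := Ideal.IsPrime.prod_mem_iff.1 h
      exact hu a ha
    · exact hdet h
  refine ⟨PrimeSpectrum.basicOpen (Ideal.Quotient.mk q w), fun n' hn' => ?_, (PrimeSpectrum.basicOpen _).2, ?_⟩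
  · refine (hiff n').2 ⟨m, D, f, hf, le_antisymm ?_ ?_, fun h => hn' (Ideal.mul_mem_left _ (∏ a, u a) h)⟩
    · rw [Ideal.map_le_iff_le_comap]
      refine hg.ge.trans (Submodule.span_le.2 fun a ha => ?_)
      have h : u ⟨a, ha⟩ ∉ n'.asIdeal.comap (Ideal.Quotient.mk q) := fun h =>
        hn' (Ideal.mul_mem_right _ (n'.asIdeal.comap (Ideal.Quotient.mk q))
          (Ideal.mem_of_dvd _ (Finset.dvd_prod_of_mem u (Finset.mem_univ _)) h))
      have h1 := Ideal.mem_map_of_mem
        (algebraMap A (Localization.AtPrime (n'.asIdeal.comap (Ideal.Quotient.mk q)))) (hum ⟨a, ha⟩)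
      rw [Ideal.map_span, ← Set.range_comp, map_mul] at h1
      rw [SetLike.mem_coe, Ideal.mem_comap]
      exact (Ideal.unit_mul_mem_iff_mem _ (IsLocalization.map_units _
        (⟨_, h⟩ : (n'.asIdeal.comap (Ideal.Quotient.mk q)).primeCompl))).1 h1
    · rw [Ideal.span_le]
      rintro _ ⟨i, rfl⟩
      exact Ideal.mem_map_of_mem _ (hf i)
  · exact hw

end Groth.Agent.S4589
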