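import Groth.Statements.S4590
import Mathlib.RingTheory.Flat.TorsionFree
import Mathlib.RingTheory.Flat.FaithfullyFlat.Algebra
import Mathlib.RingTheory.Localization.FractionRing
import Mathlib.RingTheory.Polynomial.ScaleRoots
import Mathlib.RingTheory.Nilpotent.Lemmas
import Mathlib.RingTheory.IntegralClosure.IsIntegral.Basic
import Mathlib.RingTheory.Ideal.Quotient.Operations

set_option autoImplicit false
universe u
open CAlg

namespace Groth.Agent.S4590

/-- Let A be a domain with fraction field K, B a faithfully flat A-algebra, C = B_red and R the total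
ring of fractions of C. Then A → C is injective with nonzero elements going to non-zero-divisors, so
that K embeds in R, and an element of K is integral over C in R if and only if it is integral over
A. -/
theorem result {A B : Type u} [CommRing A] [IsDomain A]
    [CommRing B] [Algebra A B] [Module.FaithfullyFlat A B] :
    Function.Injective (algebraMap A (B ⧸ nilradical B)) ∧
    (∀ a : A, a ≠ 0 → algebraMap A (B ⧸ nilradical B) a ∈ nonZeroDivisors (B ⧸ nilradical B)) ∧
    ∀ (R : Type u) [CommRing R] [Algebra (B ⧸ nilradical B) R] [IsFractionRing (B ⧸ nilradical B) R]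
      [Algebra A R] [IsScalarTower A (B ⧸ nilradical B) R] [Algebra (FractionRing A) R]
      [IsScalarTower A (FractionRing A) R] (x : FractionRing A),
      IsIntegral (B ⧸ nilradical B) (algebraMap (FractionRing A) R x) ↔ IsIntegral A x := by
  classical
  have hinjB : Function.Injective (algebraMap A B) := FaithfulSMul.algebraMap_injective A B
  have hreg : ∀ a : A, a ≠ 0 → ∀ z : B, algebraMap A B a * z = 0 → z = 0 := by
    intro a ha z hz
    refine Module.Flat.isSMulRegular_of_nonZeroDivisors (M := B) (mem_nonZeroDivisors_of_ne_zero ha) ?_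
    simpa [Algebra.smul_def] using hz
  have hCinj : Function.Injective (algebraMap A (B ⧸ nilradical B)) := by
    rw [injective_iff_map_eq_zero]
    intro a ha
    obtain ⟨k, hk⟩ : IsNilpotent (algebraMap A B a) := Ideal.Quotient.eq_zero_iff_mem.1 ha
    rw [← map_pow] at hk
    exact eq_zero_of_pow_eq_zero ((injective_iff_map_eq_zero _).1 hinjB _ hk)
  have hnzd : ∀ a : A, a ≠ 0 → algebraMap A (B ⧸ nilradical B) a ∈ nonZeroDivisors (B ⧸ nilradical B) := by
    intro a ha
    rw [mem_nonZeroDivisors_iff_right]
    intro c hc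
    obtain ⟨z, rfl⟩ := Ideal.Quotient.mk_surjective c
    obtain ⟨k, hk⟩ : IsNilpotent (z * algebraMap A B a) := by
      show z * algebraMap A B a ∈ nilradical B
      refine Ideal.Quotient.eq_zero_iff_mem.1 ?_
      rw [map_mul]
      exact hc
    rw [mul_pow, ← map_pow, mul_comm] at hk
    exact Ideal.Quotient.eq_zero_iff_mem.2 ⟨k, hreg _ (pow_ne_zero k ha) _ hk⟩
  refine ⟨hCinj, hnzd, ?_⟩
  intro R _ _ _ _ _ _ _ x
  refine ⟨fun hx => ?_, fun hx => ?_⟩
  swap
  · exact (hx.map (IsScalarTower.toAlgHom A (FractionRing A) R)).tower_top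
  obtain ⟨P, hPm, hP⟩ := hx
  obtain ⟨a, b, hb, hab⟩ := IsFractionRing.div_surjective A x
  have hb0 : b ≠ 0 := nonZeroDivisors.ne_zero hb
  have hbK : algebraMap A (FractionRing A) b ≠ 0 := IsFractionRing.to_map_ne_zero_of_mem_nonZeroDivisors hb
  have hbx : algebraMap A (FractionRing A) b * x = algebraMap A (FractionRing A) a := by
    rw [← hab, mul_div_cancel₀ _ hbK]
  have hzero : Polynomial.eval (algebraMap A (B ⧸ nilradical B) a)
      (P.scaleRoots (algebraMap A (B ⧸ nilradical B) b)) = 0 := by
    refine IsFractionRing.injective (B ⧸ nilradical B) R ?_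
    rw [map_zero, ← Polynomial.eval₂_at_apply, ← IsScalarTower.algebraMap_apply,
      IsScalarTower.algebraMap_apply A (FractionRing A) R, ← hbx, map_mul,
      ← IsScalarTower.algebraMap_apply, IsScalarTower.algebraMap_apply A (B ⧸ nilradical B) R]
    exact Polynomial.scaleRoots_eval₂_eq_zero _ hP
  have hlift : P ∈ Polynomial.lifts (Ideal.Quotient.mk (nilradical B)) :=
    (Polynomial.lifts_iff_coeff_lifts P).2 fun n => Ideal.Quotient.mk_surjective _
  rcases subsingleton_or_nontrivial (B ⧸ nilradical B) with hC | hC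
  · exact absurd (Subsingleton.elim (algebraMap A (B ⧸ nilradical B) 1) (algebraMap A _ 0))
      (hCinj.ne one_ne_zero)
  obtain ⟨Q, hQ, -, hQm⟩ := Polynomial.lifts_and_degree_eq_and_monic hlift hPm
  have hnil : IsNilpotent (Polynomial.eval (algebraMap A B a) (Q.scaleRoots (algebraMap A B b))) := by
    show _ ∈ nilradical B
    refine Ideal.Quotient.eq_zero_iff_mem.1 ?_
    rw [← Polynomial.eval₂_at_apply, ← Polynomial.eval_map,
      Polynomial.map_scaleRoots _ _ _ (by simp [hQm.leadingCoeff]), hQ]
    exact hzero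
  obtain ⟨m, hm⟩ := hnil
  have : Nontrivial B := (Ideal.Quotient.mk (nilradical B)).domain_nontrivial
  rw [← Polynomial.eval_pow, ← Polynomial.pow_scaleRoots' _ _ _ (by simp [hQm.leadingCoeff])] at hm
  have hM : (Q ^ m).Monic := hQm.pow m
  generalize hN : (Q ^ m).natDegree = N at *
  generalize hq : Q ^ m = q at *
  let v : Fin N → A := fun i => b ^ (N - i.val) * a ^ i.val
  let J : Ideal A := Ideal.span (Set.range v)
  have haN : algebraMap A B (a ^ N) ∈ J.map (algebraMap A B) := by
    have h1 : (q.scaleRoots (algebraMap A B b)).natDegree = N := by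
      rw [Polynomial.natDegree_scaleRoots, hN]
    rw [Polynomial.eval_eq_sum_range, h1, Finset.sum_range_succ, Polynomial.coeff_scaleRoots, ← hN,
      hM.coeff_natDegree, hN, Nat.sub_self, pow_zero, one_mul, one_mul] at hm
    rw [map_pow, eq_neg_of_add_eq_zero_right hm]
    refine (Submodule.neg_mem _ (sum_mem fun i hi => ?_))
    rw [Polynomial.coeff_scaleRoots, hN, mul_assoc, ← map_pow, ← map_pow, ← map_mul]
    exact Ideal.mul_mem_left _ _ (Ideal.mem_map_of_mem _
      (Ideal.subset_span ⟨⟨i, Finset.mem_range.1 hi⟩, rfl⟩))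
  rw [← Ideal.mem_comap, Ideal.comap_map_eq_self_of_faithfullyFlat] at haN
  obtain ⟨r, hr⟩ := (Ideal.mem_span_range_iff_exists_fun).1 haN
  refine ⟨Polynomial.X ^ N - ∑ i : Fin N, Polynomial.C (r i) * Polynomial.X ^ i.val,
    Polynomial.monic_X_pow_sub (Polynomial.degree_sum_fin_lt r), ?_⟩
  rw [← Polynomial.aeval_def]
  refine mul_left_cancel₀ (pow_ne_zero N hbK) ?_
  rw [mul_zero, map_sub, map_pow, Polynomial.aeval_X, mul_sub, ← mul_pow, hbx, ← map_pow, ← hr,
    map_sum, map_sum, Finset.mul_sum, sub_eq_zero]
  refine Finset.sum_congr rfl fun i _ => ?_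
  simp only [v, map_mul, map_pow, Polynomial.aeval_C, Polynomial.aeval_X]
  have hi : i.val ≤ N := i.2.le
  calc algebraMap A (FractionRing A) (r i) *
        (algebraMap A (FractionRing A) b ^ (N - i.val) * algebraMap A (FractionRing A) a ^ i.val)
      = algebraMap A (FractionRing A) (r i) *
        ((algebraMap A (FractionRing A) b ^ (N - i.val) * algebraMap A (FractionRing A) b ^ i.val) * x ^ i.val) := by
        rw [mul_assoc (_ ^ (N - i.val)), ← mul_pow, hbx]
    _ = _ := by rw [← pow_add, Nat.sub_add_cancel hi]; ring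

end Groth.Agent.S4590
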