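import Groth.Statements.S4592
import Mathlib

set_option autoImplicit false
universe u
open CategoryTheory CategoryTheory.Limits
open EGA41

namespace Groth.Agent.S4592

/-- A filtered colimit of commutative rings is the zero ring if and only if some ring of the system is
zero (the clause that all later rings of the system are then zero is not restated). -/
theorem result {I : Type u} [SmallCategory I] [IsFiltered I]
    (D : I ⥤ CommRingCat.{u}) (c : Cocone D) (hc : IsColimit c) :
    Subsingleton c.pt ↔ ∃ i : I, Subsingleton (D.obj i) := by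
  refine ⟨fun h => ?_, fun ⟨i, hi⟩ => ?_⟩
  · obtain ⟨i₀⟩ := (IsFiltered.nonempty : Nonempty I)
    have h01 : (c.ι.app i₀).hom (1 : D.obj i₀) = (c.ι.app i₀).hom 0 := Subsingleton.elim (α := c.pt) _ _
    obtain ⟨k, a, hk⟩ := (Types.FilteredColimit.isColimit_eq_iff' (isColimitOfPreserves (forget CommRingCat) hc) _ _).1 h01
    refine ⟨k, ⟨fun x y => ?_⟩⟩
    have h1 : (1 : D.obj k) = 0 := by
      have hk' : (D.map a).hom 1 = (D.map a).hom 0 := hk
      rwa [map_one, map_zero] at hk'
    rw [← one_mul x, ← one_mul y, h1, zero_mul, zero_mul]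
  · have h0 : (1 : c.pt) = 0 := by rw [← map_one (c.ι.app i).hom, Subsingleton.elim (1 : D.obj i) 0, map_zero]
    exact subsingleton_of_zero_eq_one h0.symm

end Groth.Agent.S4592
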