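import Groth.Statements.S4593
import Mathlib

set_option autoImplicit false
universe u
open CategoryTheory CategoryTheory.Limits AlgebraicGeometry
open EGA41

namespace Groth.Agent.S4593

/-- Let B be a ring, (A_i) a filtered system of B-algebras with colimit A. The image of Spec A in Spec B
is the intersection of the images of the Spec A_i. -/
theorem result {I : Type u} [SmallCategory I] [IsFiltered I]
    (B : CommRingCat.{u}) (D : I ⥤ CommRingCat.{u}) (s : (Functor.const I).obj B ⟶ D) (c : Cocone D)
    (hc : IsColimit c) (i₀ : I) :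
    Set.range (Spec.map (s.app i₀ ≫ c.ι.app i₀)).base = ⋂ i : I, Set.range (Spec.map (s.app i)).base := by
  have hι : ∀ i, s.app i ≫ c.ι.app i = s.app i₀ ≫ c.ι.app i₀ := by
    intro i
    have h : ∀ {a b : I} (m : a ⟶ b), s.app a ≫ c.ι.app a = s.app b ≫ c.ι.app b := fun {a b} m => by
      have h1 := s.naturality m
      erw [Category.id_comp] at h1
      rw [h1, Category.assoc, c.w]
    rw [h (IsFiltered.leftToMax i i₀), h (IsFiltered.rightToMax i i₀)]
  refine Set.Subset.antisymm (Set.subset_iInter fun i => ?_) fun p hp => ?_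
  · rw [← hι i, Spec.map_comp, Scheme.Hom.comp_base, TopCat.coe_comp]
    exact Set.range_comp_subset_range _ _
  · replace hp := fun i => (PrimeSpectrum.mem_range_comap_iff (s.app i).hom).mp (Set.mem_iInter.mp hp i)
    refine (PrimeSpectrum.mem_range_comap_iff (s.app i₀ ≫ c.ι.app i₀).hom).mpr
      (le_antisymm (fun b hb => ?_) Ideal.le_comap_map)
    have key : ∀ a ∈ Ideal.map (s.app i₀ ≫ c.ι.app i₀).hom p.asIdeal,
        ∃ (i : I) (a' : D.obj i), a' ∈ Ideal.map (s.app i).hom p.asIdeal ∧ c.ι.app i a' = a := by
      intro a ha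
      induction ha using Submodule.span_induction with
      | mem x hx =>
        obtain ⟨y, hy, rfl⟩ := hx
        exact ⟨i₀, _, Ideal.mem_map_of_mem _ hy, rfl⟩
      | zero => exact ⟨i₀, 0, Submodule.zero_mem _, map_zero _⟩
      | add x y _ _ hx hy =>
        obtain ⟨i, a, ha, rfl⟩ := hx
        obtain ⟨j, a', ha', rfl⟩ := hy
        refine ⟨IsFiltered.max i j, D.map (IsFiltered.leftToMax i j) a + D.map (IsFiltered.rightToMax i j) a',
          Ideal.add_mem _ ?_ ?_, ?_⟩
        · have h1 := s.naturality (IsFiltered.leftToMax i j)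
          erw [Category.id_comp] at h1
          rw [h1, CommRingCat.hom_comp, ← Ideal.map_map]
          exact Ideal.mem_map_of_mem _ ha
        · have h1 := s.naturality (IsFiltered.rightToMax i j)
          erw [Category.id_comp] at h1
          rw [h1, CommRingCat.hom_comp, ← Ideal.map_map]
          exact Ideal.mem_map_of_mem _ ha'
        · rw [map_add, ← ConcreteCategory.comp_apply, c.w, ← ConcreteCategory.comp_apply, c.w]
      | smul r x _ hx =>
        obtain ⟨i, a, ha, rfl⟩ := hx
        obtain ⟨j, r', rfl⟩ := Concrete.isColimit_exists_rep D hc r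
        refine ⟨IsFiltered.max i j, D.map (IsFiltered.rightToMax i j) r' * D.map (IsFiltered.leftToMax i j) a,
          Ideal.mul_mem_left _ _ ?_, ?_⟩
        · have h1 := s.naturality (IsFiltered.leftToMax i j)
          erw [Category.id_comp] at h1
          rw [h1, CommRingCat.hom_comp, ← Ideal.map_map]
          exact Ideal.mem_map_of_mem _ ha
        · rw [map_mul, ← ConcreteCategory.comp_apply, c.w, ← ConcreteCategory.comp_apply, c.w, smul_eq_mul]
    obtain ⟨i, a, ha, hab⟩ := key _ hb
    have hba : c.ι.app i (s.app i b) = c.ι.app i a := by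
      rw [hab, ← ConcreteCategory.comp_apply, hι i]
    obtain ⟨k, f, g, hfg⟩ := Concrete.isColimit_exists_of_rep_eq D hc _ _ hba
    have hgb : D.map f (s.app i b) = s.app k b := by
      rw [← ConcreteCategory.comp_apply, ← s.naturality f]
      rfl
    rw [← hp k, Ideal.mem_comap]
    have h1 := s.naturality g
    erw [Category.id_comp] at h1
    show s.app k b ∈ _
    rw [← hgb, hfg, h1, CommRingCat.hom_comp, ← Ideal.map_map]
    exact Ideal.mem_map_of_mem _ ha

end Groth.Agent.S4593
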