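import Groth.Statements.S4594
-- import your own Groth.Agent.* helpers here

set_option autoImplicit false
universe u
open TensorProduct KaehlerDifferential
open EGA41

namespace Groth.Agent.S4594

/-- Let Λ be a ring, A → C a surjection of Λ-algebras with kernel J, C of characteristic p > 0, and π
the class of p·1 in J/J². If C is formally smooth over Λ/pΛ for the discrete topologies, then 0 →
(J/J²)/Cπ → Ω_{A/Λ} ⊗_A C → Ω_{C/Λ} → 0 is exact: the kernel of the conormal map J/J² → Ω_{A/Λ} ⊗_A
C is the span of π, and the base-change map to Ω_{C/Λ} is surjective with kernel the image of J/J². -/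
theorem result {Λ A C : Type u} [CommRing Λ] [CommRing A]
    [CommRing C] [Algebra Λ A] [Algebra A C] [Algebra Λ C] [IsScalarTower Λ A C]
    (hsurj : Function.Surjective (algebraMap A C)) (p : ℕ) [Fact p.Prime] [CharP C p]
    [Algebra (Λ ⧸ Ideal.span {(p : Λ)}) C] [IsScalarTower Λ (Λ ⧸ Ideal.span {(p : Λ)}) C]
    [Algebra.FormallySmooth (Λ ⧸ Ideal.span {(p : Λ)}) C]
    (hp : (p : A) ∈ RingHom.ker (algebraMap A C)) :
    LinearMap.ker (kerCotangentToTensor Λ A C) =
        Submodule.span A {(RingHom.ker (algebraMap A C)).toCotangent ⟨(p : A), hp⟩} ∧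
      LinearMap.range (kerCotangentToTensor Λ A C) = (LinearMap.ker (mapBaseChange Λ A C)).restrictScalars A ∧
      Function.Surjective (mapBaseChange Λ A C) := by
  refine ⟨le_antisymm ?_ ?_, KaehlerDifferential.range_kerCotangentToTensor Λ A C hsurj,
    KaehlerDifferential.mapBaseChange_surjective Λ A C hsurj⟩
  · intro z hz
    obtain ⟨x, rfl⟩ := Ideal.toCotangent_surjective _ z
    rw [LinearMap.mem_ker, KaehlerDifferential.kerCotangentToTensor_toCotangent] at hz
    let J := RingHom.ker (algebraMap A C)
    let I : Ideal A := Ideal.span {(p : A)} ⊔ J ^ 2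
    let Λ' := Λ ⧸ Ideal.span {(p : Λ)}
    have hIJ : I ≤ J := sup_le (Ideal.span_le.mpr (Set.singleton_subset_iff.mpr hp)) (Ideal.pow_le_self two_ne_zero)
    let φ : Λ' →+* A ⧸ I := Ideal.Quotient.lift _ ((Ideal.Quotient.mk I).comp (algebraMap Λ A)) fun a ha => by
      obtain ⟨c, rfl⟩ := Ideal.mem_span_singleton'.mp ha
      rw [RingHom.comp_apply, map_mul, map_natCast, Ideal.Quotient.eq_zero_iff_mem]
      exact Ideal.mul_mem_left _ _ (Ideal.mem_sup_left (Ideal.mem_span_singleton_self _))
    letI : Algebra Λ' (A ⧸ I) := φ.toAlgebra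
    let g : (A ⧸ I) →ₐ[Λ'] C :=
      { Ideal.Quotient.lift I (algebraMap A C) (fun a ha => hIJ ha) with
        commutes' := fun r => by
          obtain ⟨r, rfl⟩ := Ideal.Quotient.mk_surjective r
          show Ideal.Quotient.lift I (algebraMap A C) _ (Ideal.Quotient.mk I (algebraMap Λ A r)) = _
          rw [Ideal.Quotient.lift_mk, ← IsScalarTower.algebraMap_apply, IsScalarTower.algebraMap_apply Λ Λ' C]
          rfl }
    have hg : Function.Surjective g := fun c => by
      obtain ⟨a, rfl⟩ := hsurj c
      exact ⟨Ideal.Quotient.mk I a, rfl⟩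
    let N : Ideal (A ⧸ I) := J.map (Ideal.Quotient.mk I)
    have hkerN : RingHom.ker (g : (A ⧸ I) →+* C) ≤ N := fun q hq => by
      obtain ⟨a, rfl⟩ := Ideal.Quotient.mk_surjective q
      exact Ideal.mem_map_of_mem _ (hq : algebraMap A C a = 0)
    have hN2 : N * N = ⊥ := by
      rw [← Ideal.map_mul, ← pow_two, eq_bot_iff, Ideal.map_le_iff_le_comap]
      intro a ha
      exact Ideal.Quotient.eq_zero_iff_mem.mpr (Ideal.mem_sup_right ha)
    have hnil : IsNilpotent (RingHom.ker (g : (A ⧸ I) →+* C)) := ⟨2, le_bot_iff.mp (by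
      rw [pow_two]
      exact (Ideal.mul_mono hkerN hkerN).trans hN2.le)⟩
    obtain ⟨s, hs⟩ : ∃ s : C →ₐ[Λ'] A ⧸ I, g.comp s = AlgHom.id Λ' C :=
      ⟨Algebra.FormallySmooth.liftOfSurjective (AlgHom.id Λ' C) g hg hnil,
        Algebra.FormallySmooth.comp_liftOfSurjective (AlgHom.id Λ' C) g hg hnil⟩
    have hgs : ∀ c, g (s c) = c := fun c => DFunLike.congr_fun hs c
    let c₀ : A → A ⧸ I := fun a => Ideal.Quotient.mk I a - s (algebraMap A C a)
    have hc₀ : ∀ a, c₀ a ∈ N := fun a => hkerN (by
      rw [RingHom.mem_ker]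
      show g (Ideal.Quotient.mk I a - s (algebraMap A C a)) = 0
      rw [map_sub, hgs]
      exact sub_self _)
    let Dl : A →ₗ[Λ] A ⧸ I :=
      { toFun := c₀
        map_add' := fun a b => by simp only [c₀, map_add]; ring
        map_smul' := fun r a => by
          have h1 : s (algebraMap Λ C r) = Ideal.Quotient.mk I (algebraMap Λ A r) := by
            rw [IsScalarTower.algebraMap_apply Λ Λ' C, s.commutes]
            rfl
          simp only [c₀, RingHom.id_apply, Algebra.smul_def, map_mul, ← IsScalarTower.algebraMap_apply Λ A C, h1]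
          rw [IsScalarTower.algebraMap_apply Λ A (A ⧸ I) r]
          show _ = Ideal.Quotient.mk I (algebraMap Λ A r) * _
          ring }
    let D : Derivation Λ A (A ⧸ I) := Derivation.mk' Dl fun a b => by
      show c₀ (a * b) = a • c₀ b + b • c₀ a
      have h0 : c₀ a * c₀ b = 0 := by
        have := Ideal.mul_mem_mul (hc₀ a) (hc₀ b)
        rwa [hN2] at this
      simp only [c₀, Algebra.smul_def, Ideal.Quotient.algebraMap_eq, map_mul] at h0 ⊢
      linear_combination -h0
    have hrange : ∀ w, D.liftKaehlerDifferential w ∈ N := by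
      intro w
      induction ((KaehlerDifferential.span_range_derivation Λ A).ge (Submodule.mem_top (x := w))) using
        Submodule.span_induction with
      | mem y hy =>
        obtain ⟨a, rfl⟩ := hy
        rw [Derivation.liftKaehlerDifferential_comp_D]
        exact hc₀ a
      | zero => rw [map_zero]; exact zero_mem _
      | add a b _ _ ha hb => rw [map_add]; exact add_mem ha hb
      | smul r y _ hy => rw [map_smul]; exact Submodule.smul_of_tower_mem N r hy
    have hdx : KaehlerDifferential.D Λ A (x : A) ∈ J • (⊤ : Submodule A (KaehlerDifferential Λ A)) := by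
      let e : (A ⧸ J) ≃ₐ[A] C := Ideal.quotientKerAlgEquivOfSurjective (f := Algebra.ofId A C) hsurj
      have h2 := congrArg ((TensorProduct.congr e.symm.toLinearEquiv (LinearEquiv.refl A _)) ≪≫ₗ
        TensorProduct.quotTensorEquivQuotSMul (KaehlerDifferential Λ A) J) hz
      rw [map_zero, LinearEquiv.trans_apply, TensorProduct.congr_tmul, AlgEquiv.toLinearEquiv_apply, map_one,
        LinearEquiv.refl_apply] at h2
      replace h2 := (TensorProduct.quotTensorEquivQuotSMul_mk_tmul J (1 : A) _).symm.trans h2
      rwa [one_smul, Submodule.Quotient.mk_eq_zero] at h2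
    have hzero : D.liftKaehlerDifferential (KaehlerDifferential.D Λ A (x : A)) = 0 := by
      refine Submodule.smul_induction_on hdx (fun r hr w _ => ?_) fun a b ha hb => by rw [map_add, ha, hb, add_zero]
      rw [map_smul, Algebra.smul_def]
      have := Ideal.mul_mem_mul (Ideal.mem_map_of_mem (Ideal.Quotient.mk I) hr) (hrange w)
      rwa [show J.map (Ideal.Quotient.mk I) = N from rfl, hN2] at this
    rw [Derivation.liftKaehlerDifferential_comp_D] at hzero
    have hxI : (x : A) ∈ I := by
      rw [← Ideal.Quotient.eq_zero_iff_mem]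
      have h3 : Ideal.Quotient.mk I (x : A) - s (algebraMap A C (x : A)) = 0 := hzero
      rwa [RingHom.mem_ker.mp x.2, map_zero, sub_zero] at h3
    obtain ⟨u, hu, v, hv, huv⟩ := Submodule.mem_sup.mp hxI
    obtain ⟨a, rfl⟩ := Ideal.mem_span_singleton'.mp hu
    refine Submodule.mem_span_singleton.mpr ⟨a, ?_⟩
    rw [← map_smul, Ideal.toCotangent_eq]
    show a * (p : A) - (x : A) ∈ _
    rw [← huv, sub_add_cancel_left]
    exact neg_mem hv
  · rw [Submodule.span_singleton_le_iff_mem, LinearMap.mem_ker, KaehlerDifferential.kerCotangentToTensor_toCotangent]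
    show TensorProduct.tmul A (1 : C) (KaehlerDifferential.D Λ A (p : A)) = 0
    rw [show (p : A) = algebraMap Λ A (p : Λ) from (map_natCast _ _).symm, Derivation.map_algebraMap,
      TensorProduct.tmul_zero]

end Groth.Agent.S4594
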