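import Groth.Statements.S4598
import Mathlib.AlgebraicGeometry.PullbackCarrier


-- import your own Groth.Agent.* helpers here

set_option autoImplicit false
universe u
open AlgebraicGeometry CategoryTheory CategoryTheory.Limits
open EGA41

namespace Groth.Agent.S4598

/-- If g : Y' → Y is quasi-compact and surjective and the base change X ×_Y Y' → Y' of f : X → Y is
quasi-separated, then f is quasi-separated. -/
theorem result {X Y Y' : Scheme.{u}} (f : X ⟶ Y)
    (g : Y' ⟶ Y) [QuasiCompact g] [Surjective g] [QuasiSeparated (pullback.snd f g)] :
    QuasiSeparated f := by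
  constructor
  let q := pullback.fst f g
  let g' := pullback.snd f g
  let Δ := pullback.diagonal f
  let Δ' := pullback.diagonal g'
  let p : pullback g' g' ⟶ pullback f f := pullback.lift (pullback.fst g' g' ≫ q) (pullback.snd g' g' ≫ q)
    (by rw [Category.assoc, Category.assoc, pullback.condition (f := f) (g := g), ← Category.assoc,
      pullback.condition (f := g') (g := g'), Category.assoc])
  have hc : Δ' ≫ p = q ≫ Δ := by
    apply pullback.hom_ext
    · rw [Category.assoc, pullback.lift_fst, ← Category.assoc, pullback.diagonal_fst, Category.id_comp,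
        Category.assoc, pullback.diagonal_fst, Category.comp_id]
    · rw [Category.assoc, pullback.lift_snd, ← Category.assoc, pullback.diagonal_snd, Category.id_comp,
        Category.assoc, pullback.diagonal_snd, Category.comp_id]
  let r := pullback.fst (pullback.fst f f ≫ f) g
  let w := pullback.snd (pullback.fst f f ≫ f) g
  let k : pullback (pullback.fst f f ≫ f) g ⟶ pullback g' g' := pullback.lift
    (pullback.lift (r ≫ pullback.fst f f) w (by rw [Category.assoc]; exact pullback.condition))
    (pullback.lift (r ≫ pullback.snd f f) w (by
      rw [Category.assoc, ← pullback.condition (f := f) (g := f)]; exact pullback.condition))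
    (by rw [pullback.lift_snd, pullback.lift_snd])
  let l : pullback g' g' ⟶ pullback (pullback.fst f f ≫ f) g := pullback.lift p (pullback.fst g' g' ≫ g')
    (by rw [pullback.lift_fst_assoc, Category.assoc, Category.assoc]; congr 1; exact pullback.condition)
  have hl : l ≫ k = 𝟙 _ := by
    apply pullback.hom_ext <;> apply pullback.hom_ext <;>
      simp only [k, l, r, w, Category.assoc, Category.id_comp, pullback.lift_fst, pullback.lift_snd,
        pullback.lift_fst_assoc, p, q]
    all_goals first
      | rfl
      | exact pullback.condition (f := g') (g := g')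
  have hkp : k ≫ p = r := by
    apply pullback.hom_ext
    · rw [Category.assoc, pullback.lift_fst, ← Category.assoc, pullback.lift_fst, pullback.lift_fst]
    · rw [Category.assoc, pullback.lift_snd, ← Category.assoc, pullback.lift_snd, pullback.lift_fst]
  have hksurj : Function.Surjective k := fun z => ⟨l z, by
    rw [← Scheme.Hom.comp_apply, hl]; rfl⟩
  haveI : QuasiCompact r := inferInstance
  haveI : Surjective q := MorphismProperty.pullback_fst (P := @Surjective) _ _ ‹Surjective g›
  haveI : QuasiCompact Δ' := inferInstance
  refine ⟨fun U hU hUc => ?_⟩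
  have h1 : IsCompact (r ⁻¹' U) := QuasiCompact.isCompact_preimage _ hU hUc
  have h2 : IsCompact (p ⁻¹' U) := by
    have e : p ⁻¹' U = k '' (r ⁻¹' U) := by
      ext z
      constructor
      · intro hz
        obtain ⟨v, rfl⟩ := hksurj z
        exact ⟨v, by rwa [Set.mem_preimage, ← hkp, Scheme.Hom.comp_apply], rfl⟩
      · rintro ⟨v, hv, rfl⟩
        rwa [Set.mem_preimage, ← Scheme.Hom.comp_apply, hkp]
    rw [e]; exact h1.image k.continuous
  have h3 : IsCompact (Δ' ⁻¹' (p ⁻¹' U)) := QuasiCompact.isCompact_preimage _ (hU.preimage p.continuous) h2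
  have e : Δ ⁻¹' U = q '' (Δ' ⁻¹' (p ⁻¹' U)) := by
    ext z
    constructor
    · intro hz
      obtain ⟨v, rfl⟩ := q.surjective z
      refine ⟨v, ?_, rfl⟩
      rw [Set.mem_preimage, Set.mem_preimage, ← Scheme.Hom.comp_apply, hc]
      exact hz
    · rintro ⟨v, hv, rfl⟩
      rw [Set.mem_preimage, Set.mem_preimage, ← Scheme.Hom.comp_apply, hc] at hv
      exact hv
  rw [e]; exact h3.image q.continuous

end Groth.Agent.S4598
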