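import Groth.Statements.S4600
import Mathlib.RingTheory.Extension.Presentation.Core
import Mathlib.Algebra.Category.Ring.FilteredColimits
import Mathlib.CategoryTheory.Limits.ConcreteCategory.Basic
-- import your own Groth.Agent.* helpers here

set_option autoImplicit false
universe u
open CategoryTheory CategoryTheory.Limits TensorProduct
open EGA41

namespace Groth.Agent.S4600

/-- Let (A_i) be a filtered system of rings with colimit A and B a finitely presented A-algebra. Then
some stage A_i carries a finitely presented algebra B_i with B isomorphic to A ⊗_{A_i} B_i as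
A-algebras (existence of an isomorphism; the base change is along the colimit map A_i → A). -/
theorem result {I : Type u} [SmallCategory I] [IsFiltered I]
    (D : I ⥤ CommRingCat.{u}) (c : Cocone D) (hc : IsColimit c) (B : Type u) [CommRing B] [Algebra c.pt B]
    [Algebra.FinitePresentation c.pt B] :
    ∃ (i : I) (Bi : Type u) (_ : CommRing Bi) (_ : Algebra (D.obj i) Bi),
      Algebra.FinitePresentation (D.obj i) Bi ∧
      (letI : Algebra (D.obj i) c.pt := (c.ι.app i).hom.toAlgebra
       Nonempty (B ≃ₐ[c.pt] (c.pt ⊗[D.obj i] Bi))) := by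
  classical
  obtain ⟨n, m, ⟨P⟩⟩ := Algebra.Presentation.exists_presentation_fin c.pt B
  choose j a ha using fun x : c.pt => Concrete.isColimit_exists_rep D hc x
  let s := P.finite_coeffs.toFinset
  obtain ⟨i, hi⟩ := IsFiltered.sup_objs_exists (s.image j)
  let φ := (c.ι.app i).hom
  letI : Algebra (D.obj i) c.pt := φ.toAlgebra
  letI : Algebra (D.obj i) B := ((algebraMap c.pt B).comp φ).toAlgebra
  haveI : IsScalarTower (D.obj i) c.pt B := IsScalarTower.of_algebraMap_eq fun _ => rfl
  haveI : P.HasCoeffs (D.obj i) := ⟨fun x hx => by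
    obtain ⟨g⟩ := hi (Finset.mem_image_of_mem j (P.finite_coeffs.mem_toFinset.2 hx))
    exact ⟨(D.map g).hom (a x), (ConcreteCategory.congr_hom (c.w g) (a x)).trans (ha x)⟩⟩
  exact ⟨i, P.ModelOfHasCoeffs (D.obj i), inferInstance, inferInstance, inferInstance,
    ⟨(P.tensorModelOfHasCoeffsEquiv (D.obj i)).symm⟩⟩


end Groth.Agent.S4600
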