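import Groth.Statements.S4602
import Groth.Agent.AdicFSLib.Main
import Groth.Agent.GRingLib.CompleteLocal
import Groth.Agent.S2035
-- import your own Groth.Agent.* helpers here

set_option autoImplicit false
universe u
open IsLocalRing
open EGA41

namespace Groth.Agent.S4602

theorem isRegularLocalRing_of_genReg (R C : Type u) [CommRing R] [IsDomain R] [CommRing C] [Algebra R C]
    (hgen : GRingLib.GenReg R C) (q : Ideal C) [q.IsPrime] (hq : q.comap (algebraMap R C) = ⊥) :
    IsRegularLocalRing (Localization.AtPrime q) := by
  have h := (GeomRedFibLib.ringP_fractionRing_iff GeomRedFibLib.isFlatLocalProp_regular R C R (FractionRing R)).1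
    (hgen.ringP (FractionRing R))
  let e : TensorProduct R R C ≃+* C := (Algebra.TensorProduct.lid R C).toRingEquiv
  have h1 : IsRegularLocalRing (Localization.AtPrime (q.comap e.toRingHom)) :=
    h (q.comap e.toRingHom) (le_bot_iff.1 fun x hx => by
      rw [← hq]
      show algebraMap R C x ∈ q
      have h2 : e (algebraMap R (TensorProduct R R C) x) ∈ q := hx
      rwa [show e (algebraMap R (TensorProduct R R C) x) = algebraMap R C x from
        (Algebra.TensorProduct.lid R C).commutes x] at h2)
  haveI := h1
  exact IsRegularLocalRing.of_ringEquiv (R := Localization.AtPrime (q.comap e.toRingHom)) (IsLocalization.ringEquivOfRingEquiv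
    (M := (q.comap e.toRingHom).primeCompl) (T := q.primeCompl)
    (Localization.AtPrime (q.comap e.toRingHom)) (Localization.AtPrime q) e (by
      ext y
      constructor
      · rintro ⟨x, hx, rfl⟩ hy
        exact hx hy
      · exact fun hy => ⟨e.symm y, fun hm => hy (by simpa using hm), e.apply_symm_apply y⟩))

/-- Let A be a regular local ring with fraction field of characteristic zero, B a domain containing A
and module-finite over it, with fraction field L, n a prime of B, C = B_n, q a prime of the
completion Ĉ with q ∩ C = 0. Then Ĉ_q is formally smooth over L for the adic topology of its maximal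
ideal. (Case (ii) of the published statement, in characteristic p with a suitable filtered family of
subrings, is not stated.) -/
theorem result
    {A B : Type u} [CommRing A] [IsRegularLocalRing A] [CharZero A] [CommRing B] [IsDomain B] [Algebra A B]
    [Module.Finite A B] (hinj : Function.Injective (algebraMap A B)) (n : Ideal B) [n.IsPrime]
    (q : Ideal (AdicCompletion (maximalIdeal (Localization.AtPrime n)) (Localization.AtPrime n))) [q.IsPrime]
    (hq : q.comap (algebraMap (Localization.AtPrime n)
      (AdicCompletion (maximalIdeal (Localization.AtPrime n)) (Localization.AtPrime n))) = ⊥)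
    [Algebra B (Localization.AtPrime q)]
    [IsScalarTower B (AdicCompletion (maximalIdeal (Localization.AtPrime n)) (Localization.AtPrime n))
      (Localization.AtPrime q)]
    [Algebra (FractionRing B) (Localization.AtPrime q)] [IsScalarTower B (FractionRing B) (Localization.AtPrime q)] :
    CAlgX.IsAdicFormallySmooth (FractionRing B) (Localization.AtPrime q) (maximalIdeal (Localization.AtPrime q)) := by
  haveI : IsDomain A := CommAlgDim.isDomain_of_isRegularLocalRing A
  haveI : IsRegularRing A := CommAlgDim.isRegularRing_of_isRegularLocalRing A
  haveI : IsNoetherianRing B := IsNoetherianRing.of_finite A B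
  haveI : IsDomain (Localization.AtPrime n) := IsLocalization.isDomain_localization n.primeCompl_le_nonZeroDivisors
  haveI : IsNoetherianRing (AdicCompletion (maximalIdeal (Localization.AtPrime n)) (Localization.AtPrime n)) := GeomRedFibLib.isNoetherianRing_cpl (Localization.AtPrime n)
  haveI : CharZero B := charZero_of_injective_ringHom hinj
  haveI : CharZero (FractionRing B) := charZero_of_injective_ringHom (IsFractionRing.injective B (FractionRing B))
  have hgen : GRingLib.GenReg (Localization.AtPrime n) (AdicCompletion (maximalIdeal (Localization.AtPrime n)) (Localization.AtPrime n)) := GRingLib.genReg_of_finite A B hinj n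
    (GRingLib.genReg_of_regular A (fun p hp hpA =>
      absurd (CharP.eq A (CharP.ofCharZero A) hpA).symm hp.out.ne_zero) _)
  haveI : IsRegularLocalRing (Localization.AtPrime q) := isRegularLocalRing_of_genReg _ _ hgen q hq
  exact Groth.Agent.S2035.result.1 inferInstance

end Groth.Agent.S4602
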