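import Groth.Statements.S4603
import Groth.Agent.DvrDom.Points
import Mathlib.Topology.Sober
-- import your own Groth.Agent.* helpers here

set_option autoImplicit false
universe u
open AlgebraicGeometry CategoryTheory
open EGA41

namespace Groth.Agent.S4603

/-- Let f : X → Y be quasi-compact. The following are equivalent: f is dominant; the fibre of f over
every maximal point of Y (a point with no proper generization, i.e. the generic point of an
irreducible component) is nonempty; every maximal point of Y is the image of a maximal point of X. -/
theorem result {X Y : Scheme.{u}} (f : X ⟶ Y) [QuasiCompact f] :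
    [IsDominant f,
     ∀ y : Y, (∀ y' : Y, y' ⤳ y → y' = y) → y ∈ Set.range f.base,
     ∀ y : Y, (∀ y' : Y, y' ⤳ y → y' = y) → ∃ x : X, (∀ x' : X, x' ⤳ x → x' = x) ∧ f.base x = y].TFAE := by
  have hgen : ∀ {Z : Scheme.{u}} (z : Z), ∃ w : Z, w ⤳ z ∧ ∀ w' : Z, w' ⤳ w → w' = w := by
    intro Z z
    refine ⟨(isIrreducible_irreducibleComponent (x := z)).genericPoint,
      ((isIrreducible_irreducibleComponent (x := z)).isGenericPoint_genericPoint
        isClosed_irreducibleComponent).specializes mem_irreducibleComponent, fun w' hw' => ?_⟩
    have hg := (isIrreducible_irreducibleComponent (x := z)).isGenericPoint_genericPoint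
        isClosed_irreducibleComponent
    have h1 : irreducibleComponent z ⊆ closure {w'} := hg.def ▸ hw'.closure_subset
    have h2 : closure {w'} = irreducibleComponent z :=
      eq_irreducibleComponent isPreirreducible_singleton.closure h1
    exact (IsGenericPoint.eq hg (show IsGenericPoint w' (irreducibleComponent z) from h2)).symm
  tfae_have 1 → 3 := fun h y hy => by
    obtain ⟨x, hx⟩ := DvrDomLib.exists_specializes_of_mem_closure_range f y (h.denseRange y)
    obtain ⟨w, hw, hwmax⟩ := hgen x
    exact ⟨w, hwmax, hy _ ((hw.map f.continuous).trans hx)⟩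
  tfae_have 3 → 2 := fun h y hy => by
    obtain ⟨x, -, hx⟩ := h y hy
    exact ⟨x, hx⟩
  tfae_have 2 → 1 := fun h => ⟨fun y => by
    obtain ⟨w, hw, hwmax⟩ := hgen y
    exact hw.mem_closed isClosed_closure (subset_closure (h w hwmax))⟩
  tfae_finish


end Groth.Agent.S4603
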