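import Groth.Statements.S4604
import Mathlib.RingTheory.LocalRing.ResidueField.Basic
import Mathlib.RingTheory.Ideal.Quotient.Operations
-- import your own Groth.Agent.* helpers here

set_option autoImplicit false
universe u
open IsLocalRing
open EGA41

namespace Groth.Agent.S4604

/-- (i) and the kernel statement of (ii): let A be a local ring with maximal ideal m of square zero,
F_i(T_i) = T_i^{d_i} + Σ_{k<d_i} c_{ik} T_i^k (1 ≤ i ≤ r) monic of degrees d_i ≥ 2 with non-leading
coefficients in m, and A' = A[T_1, …, T_r]/(F_1, …, F_r). Then A' is local with residue field K, and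
the kernel of m → m'/m'² (m' the maximal ideal of A') is the ideal generated by the constant terms
c_{i0}. -/
theorem result {A : Type u} [CommRing A] [IsLocalRing A]
    (hm : maximalIdeal A ^ 2 = ⊥) {r : ℕ} (d : Fin r → ℕ) (hd : ∀ i, 2 ≤ d i) (c : Fin r → ℕ → A)
    (hc : ∀ i k, c i k ∈ maximalIdeal A) :
    let F : Fin r → MvPolynomial (Fin r) A := fun i =>
      MvPolynomial.X i ^ d i + (Finset.range (d i)).sum fun k => MvPolynomial.C (c i k) * MvPolynomial.X i ^ k
    ∃ _ : IsLocalRing (MvPolynomial (Fin r) A ⧸ Ideal.span (Set.range F)),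
      Function.Surjective ((Ideal.Quotient.mk (maximalIdeal (MvPolynomial (Fin r) A ⧸ Ideal.span (Set.range F)))).comp
        (algebraMap A (MvPolynomial (Fin r) A ⧸ Ideal.span (Set.range F)))) ∧
      maximalIdeal A ⊓ Ideal.comap (algebraMap A (MvPolynomial (Fin r) A ⧸ Ideal.span (Set.range F)))
          (maximalIdeal (MvPolynomial (Fin r) A ⧸ Ideal.span (Set.range F)) ^ 2) =
        Ideal.span (Set.range fun i => c i 0) := by
  classical
  intro F
  set I := Ideal.span (Set.range F) with hI
  let Q := MvPolynomial (Fin r) A ⧸ I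
  let e₀ : MvPolynomial (Fin r) A →+* A := MvPolynomial.eval₂Hom (RingHom.id A) 0
  have he₀F : ∀ i, e₀ (F i) = c i 0 := by
    intro i
    have h1 : (0 : A) ^ d i = 0 := zero_pow (by have := hd i; omega)
    simp only [F, e₀, map_add, map_sum, map_mul, map_pow, MvPolynomial.eval₂Hom_X', MvPolynomial.eval₂Hom_C, Pi.zero_apply, RingHom.id_apply, h1, zero_add]
    rw [Finset.sum_eq_single 0]
    · simp
    · intro b _ hb; simp [zero_pow hb]
    · intro h; exact absurd (Finset.mem_range.mpr (by have := hd i; omega)) h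
  let ε : MvPolynomial (Fin r) A →+* IsLocalRing.ResidueField A := (IsLocalRing.residue A).comp e₀
  have hIε : I ≤ RingHom.ker ε := Ideal.span_le.mpr (by
    rintro _ ⟨i, rfl⟩
    show IsLocalRing.residue A (e₀ (F i)) = 0
    rw [he₀F, IsLocalRing.residue_eq_zero_iff]; exact hc i 0)
  let εQ : Q →+* IsLocalRing.ResidueField A := Ideal.Quotient.lift I ε hIε
  have hεA : ∀ a, εQ (algebraMap A Q a) = IsLocalRing.residue A a := fun a => by
    show IsLocalRing.residue A (e₀ (MvPolynomial.C a)) = _
    simp [e₀]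
  have hεs : Function.Surjective εQ := fun y => by
    obtain ⟨a, rfl⟩ := IsLocalRing.residue_surjective y; exact ⟨_, hεA a⟩
  set M := RingHom.ker εQ with hM
  haveI hMmax : M.IsMaximal := RingHom.ker_isMaximal_of_surjective εQ hεs
  have hgen : ∀ (P : Ideal (MvPolynomial (Fin r) A)), (∀ a ∈ maximalIdeal A, MvPolynomial.C a ∈ P) →
      (∀ i, MvPolynomial.X i ∈ P) → RingHom.ker ε ≤ P := by
    intro P h1 h2 q hq
    have hall : ∀ q : MvPolynomial (Fin r) A, q - MvPolynomial.C (e₀ q) ∈ P := by
      intro q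
      induction q using MvPolynomial.induction_on with
      | C a => simp [e₀]
      | add p q hp hq => rw [map_add, map_add, add_sub_add_comm]; exact add_mem hp hq
      | mul_X p i hp =>
        have : e₀ (p * MvPolynomial.X i) = 0 := by simp [e₀]
        rw [this, map_zero, sub_zero]
        exact Ideal.mul_mem_left _ _ (h2 i)
    rw [show q = (q - MvPolynomial.C (e₀ q)) + MvPolynomial.C (e₀ q) by ring]
    exact add_mem (hall q) (h1 _ ((IsLocalRing.residue_eq_zero_iff _).mp hq))
  have hFsplit : ∀ i, algebraMap A Q (c i 0) = - ((Ideal.Quotient.mk I (MvPolynomial.X i)) ^ d i +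
      ((Finset.range (d i)).erase 0).sum fun k => algebraMap A Q (c i k) * (Ideal.Quotient.mk I (MvPolynomial.X i)) ^ k) := by
    intro i
    have h0 : Ideal.Quotient.mk I (F i) = 0 := Ideal.Quotient.eq_zero_iff_mem.mpr (Ideal.subset_span ⟨i, rfl⟩)
    simp only [F, map_add, map_sum, map_mul, map_pow] at h0
    rw [← Finset.add_sum_erase _ _ (Finset.mem_range.mpr (show 0 < d i by have := hd i; omega))] at h0
    simp only [pow_zero, mul_one] at h0
    rw [eq_neg_iff_add_eq_zero]
    rw [add_left_comm]; exact h0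
  have hmnil : ∀ a ∈ maximalIdeal A, ∀ P : Ideal Q, P.IsPrime → algebraMap A Q a ∈ P := fun a ha P hP =>
    hP.mem_of_pow_mem 2 (by
      rw [← map_pow, show a ^ 2 = 0 by rw [← Ideal.mem_bot, ← hm]; exact Ideal.pow_mem_pow ha 2, map_zero]
      exact zero_mem P)
  have huniq : ∀ P : Ideal Q, P.IsMaximal → P = M := by
    intro P hP
    have hle : RingHom.ker ε ≤ P.comap (Ideal.Quotient.mk I) := by
      refine hgen _ (fun a ha => hmnil a ha P hP.isPrime) (fun i => hP.isPrime.mem_of_pow_mem (d i) ?_)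
      have := hFsplit i
      rw [eq_neg_iff_add_eq_zero, add_left_comm, add_eq_zero_iff_eq_neg] at this
      rw [this]
      exact neg_mem (add_mem (hmnil _ (hc i 0) P hP.isPrime) (sum_mem fun k _ => Ideal.mul_mem_right _ _ (hmnil _ (hc i k) P hP.isPrime)))
    refine (hMmax.eq_of_le hP.ne_top fun x hx => ?_).symm
    obtain ⟨q, rfl⟩ := Ideal.Quotient.mk_surjective x
    exact hle hx
  haveI hloc : IsLocalRing Q := IsLocalRing.of_unique_max_ideal ⟨M, hMmax, huniq⟩
  have hmax : maximalIdeal Q = M := (IsLocalRing.eq_maximalIdeal hMmax).symm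
  refine ⟨hloc, fun y => ?_, le_antisymm ?_ ?_⟩
  · obtain ⟨q, rfl⟩ := Ideal.Quotient.mk_surjective y
    obtain ⟨a, ha⟩ := IsLocalRing.residue_surjective (εQ q)
    refine ⟨a, Ideal.Quotient.eq.mpr ?_⟩
    show _ ∈ maximalIdeal Q
    rw [hmax, hM, RingHom.mem_ker, map_sub, hεA, ha, sub_self]
  · rintro a ⟨-, ha2⟩
    have ha2' : algebraMap A Q a ∈ M ^ 2 := hmax ▸ ha2
    have hMmap : M ≤ (RingHom.ker ε).map (Ideal.Quotient.mk I) := by
      intro x hx
      obtain ⟨q, rfl⟩ := Ideal.Quotient.mk_surjective x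
      exact Ideal.mem_map_of_mem _ hx
    have h := Ideal.pow_right_mono hMmap 2 ha2'
    rw [← Ideal.map_pow] at h
    obtain ⟨q, hq, hqa⟩ := (Ideal.mem_map_iff_of_surjective _ Ideal.Quotient.mk_surjective).mp h
    have hdiff : q - MvPolynomial.C a ∈ I := Ideal.Quotient.eq.mp hqa
    have h1 : e₀ q = 0 := by
      have : RingHom.ker ε ≤ (maximalIdeal A).comap e₀ := fun z hz => (IsLocalRing.residue_eq_zero_iff _).mp hz
      have h2 := Ideal.mem_comap.mp ((Ideal.le_comap_pow e₀ 2) (Ideal.pow_right_mono this 2 hq))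
      rw [hm] at h2
      exact h2
    have h3 : I.map e₀ ≤ Ideal.span (Set.range fun i => c i 0) := by
      rw [hI, Ideal.map_span, ← Set.range_comp]
      exact le_of_eq (congrArg Ideal.span (congrArg Set.range (funext he₀F)))
    have h4 := h3 (Ideal.mem_map_of_mem e₀ hdiff)
    rw [map_sub, h1, show e₀ (MvPolynomial.C a) = a by simp [e₀], zero_sub] at h4
    exact neg_mem_iff.mp h4
  · rw [Ideal.span_le]
    rintro _ ⟨i, rfl⟩
    refine ⟨hc i 0, ?_⟩
    show algebraMap A Q (c i 0) ∈ maximalIdeal Q ^ 2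
    rw [hmax, hFsplit i]
    have hx : Ideal.Quotient.mk I (MvPolynomial.X i) ∈ M := by
      show IsLocalRing.residue A (e₀ (MvPolynomial.X i)) = 0
      simp [e₀]
    refine neg_mem (add_mem (Ideal.pow_le_pow_right (hd i) (Ideal.pow_mem_pow hx _)) (sum_mem fun k hk => ?_))
    obtain ⟨k', rfl⟩ := Nat.exists_eq_succ_of_ne_zero (Finset.mem_erase.mp hk).1
    rw [pow_two, pow_succ, ← mul_assoc]
    refine Ideal.mul_mem_mul (Ideal.mul_mem_right _ _ ?_) hx
    show εQ (algebraMap A Q (c i _)) = 0
    rw [hεA, IsLocalRing.residue_eq_zero_iff]; exact hc i _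

end Groth.Agent.S4604
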