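import Groth.Statements.S4605
import Mathlib

set_option autoImplicit false
set_option linter.style.haveILetI false
universe u
open IsLocalRing
open EGA41

namespace Groth.Agent.S4605

open IsLocalRing MvPolynomial in
/-- The residual algebra: an element killed by the twisted evaluation lies in the ideal of relations, and in
general its `p`-th power is congruent to that evaluation. -/
theorem residual {K : Type u} [Field K] (p : ℕ) [Fact p.Prime] [CharP K p] {ι : Type u} [Finite ι] (a : ι → K)
    (hind : LinearIndependent (↥(frobenius K p).fieldRange)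
      (fun e : {e : ι →₀ ℕ // ∀ i, e i < p} => EGA41.pMonomial a e.1)) :
    let J := Ideal.span (Set.range fun i => (X i : MvPolynomial ι K) ^ p - C (a i))
    let φ := (eval a).comp (MvPolynomial.map (frobenius K p))
    J ≤ RingHom.ker φ ∧ (∀ P, P ^ p - C (φ P) ∈ J) ∧ ∀ P, φ P = 0 → P ∈ J := by
  classical
  intro J φ
  let q := Ideal.Quotient.mk J
  have hq : ∀ i, q (X i) ^ p = q (C (a i)) := fun i => by
    rw [← map_pow]; exact Ideal.Quotient.eq.2 (Ideal.subset_span ⟨i, rfl⟩)
  have hker : J ≤ RingHom.ker φ := by
    rw [Ideal.span_le]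
    rintro _ ⟨i, rfl⟩
    simp [φ, frobenius_def]
  have hpow : ∀ P, P ^ p - C (φ P) ∈ J := by
    intro P
    have h : (q.comp (frobenius (MvPolynomial ι K) p)) = q.comp ((C : K →+* MvPolynomial ι K).comp φ) := by
      refine MvPolynomial.ringHom_ext (fun c => ?_) fun i => ?_
      · simp [φ, frobenius_def]
      · simp [φ, frobenius_def, hq]
    have h1 := congrArg (fun g : MvPolynomial ι K →+* _ => g P) h
    exact Ideal.Quotient.eq.1 (by simpa [frobenius_def] using h1)
  refine ⟨hker, hpow, fun P hP => ?_⟩
  have hsmall : ∀ P : MvPolynomial ι K, ∃ P' : MvPolynomial ι K, P - P' ∈ J ∧ ∀ e ∈ P'.support, ∀ i, e i < p := by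
    intro P
    induction P using MvPolynomial.induction_on' with
    | monomial e c =>
      haveI := Fintype.ofFinite ι
      let r : ι →₀ ℕ := Finsupp.equivFunOnFinite.symm fun i => e i % p
      refine ⟨monomial r (c * ∏ i, a i ^ (e i / p)), ?_, fun e' he' i => ?_⟩
      · refine Ideal.Quotient.eq.1 ?_
        show q _ = q _
        rw [monomial_eq, monomial_eq, Finsupp.prod_fintype _ _ (fun _ => pow_zero _),
          Finsupp.prod_fintype _ _ (fun _ => pow_zero _), map_mul, map_mul, map_mul, map_mul]
        rw [map_prod, map_prod, map_prod, map_prod, mul_assoc, ← Finset.prod_mul_distrib]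
        congr 1
        refine Finset.prod_congr rfl fun i _ => ?_
        rw [map_pow, map_pow, map_pow, map_pow, ← hq i, ← pow_mul, ← pow_add]
        exact congrArg (q (X i) ^ ·) (by simp [r, Nat.div_add_mod])
      · have he := Finset.mem_singleton.1 (support_monomial_subset he')
        subst he
        simpa [r] using Nat.mod_lt _ (Fact.out : p.Prime).pos
    | add P Q hP hQ =>
      obtain ⟨P', h1, h2⟩ := hP
      obtain ⟨Q', h3, h4⟩ := hQ
      refine ⟨P' + Q', by simpa [add_sub_add_comm] using add_mem h1 h3, fun e he i => ?_⟩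
      rcases Finset.mem_union.1 (support_add he) with h | h
      · exact h2 e h i
      · exact h4 e h i
  obtain ⟨P', hPP', hs⟩ := hsmall P
  have hP' : φ P' = 0 := by
    have h := RingHom.mem_ker.1 (hker hPP')
    rw [map_sub, hP, zero_sub, neg_eq_zero] at h
    exact h
  suffices P' = 0 by rwa [this, sub_zero] at hPP'
  rw [linearIndependent_iff'] at hind
  let s : Finset {e : ι →₀ ℕ // ∀ i, e i < p} := P'.support.subtype _
  have h0 := hind s (fun e => ⟨frobenius K p (coeff e.1 P'), RingHom.mem_fieldRange.2 ⟨_, rfl⟩⟩) (by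
    show ∑ e ∈ s, frobenius K p (coeff e.1 P') * EGA41.pMonomial a e.1 = 0
    rw [Finset.sum_subtype_of_mem (f := fun e => frobenius K p (coeff e P') * EGA41.pMonomial a e) hs]
    refine Eq.trans ?_ hP'
    show _ = eval a (MvPolynomial.map (frobenius K p) P')
    rw [eval_map, eval₂_eq]
    rfl)
  ext e
  rw [coeff_zero]
  by_contra he
  have hmem : e ∈ P'.support := mem_support_iff.2 he
  have h1 := congrArg Subtype.val (h0 ⟨e, hs e hmem⟩ (Finset.mem_subtype.2 hmem))
  exact he (frobenius_inj K p (h1.trans (map_zero _).symm))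

/-- Let A be a local ring with maximal ideal m of square zero and residue field K of characteristic p >
0, F_i(T_i) = T_i^p + p Σ_{k=1}^{p-1} c_{ik} T_i^{p-k} − f_i (i in a finite index set) with c_{ik},
f_i ∈ A, and suppose the residues of the f_i in K are p-independent over K^p. Then A' = A[T_i]/(F_i)
is local with maximal ideal m A'. (The identification of the residue field with K(a_i^{1/p}) is not
restated.) -/
theorem result {A : Type u} [CommRing A]
    [IsLocalRing A] (hm : maximalIdeal A ^ 2 = ⊥) (p : ℕ) [Fact p.Prime] [CharP (ResidueField A) p]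
    {ι : Type u} [Finite ι] (c : ι → Fin p → A) (f : ι → A)
    (hind : LinearIndependent (↥(frobenius (ResidueField A) p).fieldRange)
      (fun e : {e : ι →₀ ℕ // ∀ i, e i < p} => EGA41.pMonomial (fun i => residue A (f i)) e.1)) :
    let F : ι → MvPolynomial ι A := fun i =>
      MvPolynomial.X i ^ p + (p : MvPolynomial ι A) * (Finset.univ.sum fun j : Fin p =>
        if (j : ℕ) = 0 then 0 else MvPolynomial.C (c i j) * MvPolynomial.X i ^ (p - (j : ℕ))) - MvPolynomial.C (f i)
    ∃ _ : IsLocalRing (MvPolynomial ι A ⧸ Ideal.span (Set.range F)),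
      maximalIdeal (MvPolynomial ι A ⧸ Ideal.span (Set.range F)) =
        (maximalIdeal A).map (algebraMap A (MvPolynomial ι A ⧸ Ideal.span (Set.range F))) := by
  classical
  intro F
  let a : ι → ResidueField A := fun i => residue A (f i)
  obtain ⟨hker, hpow, hzero⟩ := residual p a hind
  let π : MvPolynomial ι A →+* MvPolynomial ι (ResidueField A) := MvPolynomial.map (residue A)
  have hπs : Function.Surjective π := MvPolynomial.map_surjective _ residue_surjective
  have hπk : RingHom.ker π = (maximalIdeal A).map MvPolynomial.C := by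
    show RingHom.ker (MvPolynomial.map (residue A)) = _
    rw [MvPolynomial.ker_map, ker_residue]
  have hπF : (Ideal.span (Set.range F)).map π =
      Ideal.span (Set.range fun i => (MvPolynomial.X i : MvPolynomial ι (ResidueField A)) ^ p - MvPolynomial.C (a i)) := by
    rw [Ideal.map_span, ← Set.range_comp]
    congr 1
    refine congrArg Set.range (funext fun i => ?_)
    have hp0 : (p : MvPolynomial ι (ResidueField A)) = 0 := CharP.cast_eq_zero _ p
    simp [F, π, a, hp0]
  let A' := MvPolynomial ι A ⧸ Ideal.span (Set.range F)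
  let mk := Ideal.Quotient.mk (Ideal.span (Set.range F))
  let M : Ideal A' := (maximalIdeal A).map (algebraMap A A')
  have hM : M = ((maximalIdeal A).map MvPolynomial.C).map mk := by
    rw [Ideal.map_map]; rfl
  have hmemM : ∀ P, π P ∈ (Ideal.span (Set.range F)).map π ↔ mk P ∈ M := fun P => by
    rw [← Ideal.mem_comap, Ideal.comap_map_of_surjective π hπs, ← RingHom.ker_eq_comap_bot, hπk, hM,
      Ideal.mem_quotient_iff_mem_sup, sup_comm]
  have hone : (1 : A') ∉ M := fun h => by
    rw [← map_one mk, ← hmemM, hπF, map_one] at h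
    simpa using hker h
  have hnil : ∀ x ∈ M, IsNilpotent x := fun x hx => ⟨2, by
    have h2 : x ^ 2 ∈ M ^ 2 := Ideal.pow_mem_pow hx 2
    rwa [← Ideal.map_pow, hm, Ideal.map_bot, Ideal.mem_bot] at h2⟩
  have hunit : ∀ x : A', x ∉ M → IsUnit x := by
    intro x hx
    obtain ⟨P, rfl⟩ := Ideal.Quotient.mk_surjective x
    rw [← hmemM, hπF] at hx
    have hc : ((MvPolynomial.eval a).comp (MvPolynomial.map (frobenius (ResidueField A) p))) (π P) ≠ 0 :=
      fun h0 => hx (hzero _ h0)
    obtain ⟨u, hu⟩ := residue_surjective (((MvPolynomial.eval a).comp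
      (MvPolynomial.map (frobenius (ResidueField A) p))) (π P))
    have hmem : mk (P ^ p - MvPolynomial.C u) ∈ M := by
      rw [← hmemM, hπF, map_sub, map_pow, show π (MvPolynomial.C u) = MvPolynomial.C (residue A u) from
        MvPolynomial.map_C _ _, hu]
      exact hpow _
    have huu : IsUnit (mk (MvPolynomial.C u)) :=
      ((notMem_maximalIdeal.1 fun h => hc (hu ▸ (residue_eq_zero_iff u).2 h)).map MvPolynomial.C).map mk
    have h2 : IsUnit (mk (P ^ p)) := by
      have := (hnil _ hmem).isUnit_add_left_of_commute huu (mul_comm _ _)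
      rwa [map_sub, add_sub_cancel] at this
    rw [map_pow] at h2
    exact (isUnit_pow_iff (Fact.out : p.Prime).ne_zero).1 h2
  have hsub : ∀ x : A', ¬ IsUnit x ↔ x ∈ M := fun x =>
    ⟨fun h => by_contra fun h' => h (hunit x h'), fun h hu => hone (by
      rw [(Ideal.eq_top_of_isUnit_mem _ h hu)]; trivial)⟩
  haveI : Nontrivial A' := nontrivial_of_ne 1 0 fun h => hone (h ▸ M.zero_mem)
  haveI hloc : IsLocalRing A' := IsLocalRing.of_nonunits_add fun x y hx hy => (hsub _).2 (M.add_mem ((hsub _).1 hx) ((hsub _).1 hy))
  exact ⟨hloc, Ideal.ext fun x => hsub x⟩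

end Groth.Agent.S4605
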