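import Groth.Statements.S4606
import Groth.Agent.JacFSLib.Adic

set_option autoImplicit false
universe u
open TensorProduct KaehlerDifferential IsLocalRing
open EGA41

namespace Groth.Agent.S4606

/-- Let B be a Noetherian A-algebra formally smooth for the discrete topologies, B → C a surjection with
kernel J, p a prime of C and q its contraction to A. Then C_p is formally smooth over A_q (A_q
discrete, C_p with the adic topology of its maximal ideal) if and only if κ(p) ⊗ J/J² → κ(p) ⊗ (C
⊗_B Ω_{B/A}) is injective. (The equivalent variant with the q-adic topology on A_q is not stated.) -/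
theorem result {A B C : Type u} [CommRing A]
    [CommRing B] [CommRing C] [Algebra A B] [Algebra B C] [Algebra A C] [IsScalarTower A B C] [IsNoetherianRing B]
    [Algebra.FormallySmooth A B] (hsurj : Function.Surjective (algebraMap B C)) (p : Ideal C) [p.IsPrime]
    [Algebra (Localization.AtPrime (p.comap (algebraMap A C))) (Localization.AtPrime p)]
    [IsScalarTower A (Localization.AtPrime (p.comap (algebraMap A C))) (Localization.AtPrime p)] :
    CAlgX.IsAdicFormallySmooth (Localization.AtPrime (p.comap (algebraMap A C))) (Localization.AtPrime p)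
        (maximalIdeal (Localization.AtPrime p)) ↔
      Function.Injective ((kerCotangentToTensor A B C).lTensor p.ResidueField) := by
  let q := p.comap (algebraMap A C)
  let Aq := Localization.AtPrime q
  let Cp := Localization.AtPrime p
  have : Module.Finite B (RingHom.ker (algebraMap B C)).Cotangent :=
    have : Module.Finite B (RingHom.ker (algebraMap B C)) := Module.Finite.of_fg (IsNoetherian.noetherian _)
    Module.Finite.of_surjective _ (Ideal.toCotangent_surjective _)
  rw [← JacFSLib.formallySmooth_atPrime_iff (A := A) hsurj p]
  constructor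
  · intro h
    let P := Localization.AtPrime (p.comap (algebraMap B C))
    let f₀ : P →+* Cp := Localization.localRingHom _ p (algebraMap B C) rfl
    let f : P →ₐ[A] Cp :=
      { f₀ with
        commutes' := fun a => by
          show f₀ (algebraMap A P a) = _
          rw [IsScalarTower.algebraMap_apply A B P, Localization.localRingHom_to_map,
            IsScalarTower.algebraMap_apply A C Cp, IsScalarTower.algebraMap_apply A B C] }
    have hf : Function.Surjective f := fun z => by
      obtain ⟨c, s, rfl⟩ := IsLocalization.exists_mk'_eq p.primeCompl z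
      obtain ⟨b, rfl⟩ := hsurj c
      obtain ⟨t, ht⟩ := hsurj (s : C)
      refine ⟨IsLocalization.mk' P b (⟨t, fun h => s.2 (ht ▸ h)⟩ : (p.comap (algebraMap B C)).primeCompl), ?_⟩
      show f₀ _ = _
      rw [Localization.localRingHom_mk']
      congr
    refine JacFSLib.formallySmooth_of_adic_of_surjective f hf ?_
    intro T _ _ J hJ ψ hψ
    have hu : ∀ y : q.primeCompl, IsUnit (algebraMap A T y) := fun y => by
      apply (IsNilpotent.isUnit_quotient_mk_iff ⟨2, hJ⟩).mp
      rw [show Ideal.Quotient.mk J (algebraMap A T y) = algebraMap A (T ⧸ J) y from rfl, ← ψ.commutes,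
        IsScalarTower.algebraMap_apply A Aq Cp]
      exact ((IsLocalization.map_units Aq y).map _).map ψ
    let _ : Algebra Aq T := (IsLocalization.lift hu).toAlgebra
    have : IsScalarTower A Aq T := IsScalarTower.of_algebraMap_eq fun a => (IsLocalization.lift_eq hu a).symm
    have hh : ψ.toRingHom.comp (algebraMap Aq Cp) = algebraMap Aq (T ⧸ J) := by
      refine IsLocalization.ringHom_ext q.primeCompl (RingHom.ext fun a => ?_)
      show ψ (algebraMap Aq Cp (algebraMap A Aq a)) = algebraMap Aq (T ⧸ J) (algebraMap A Aq a)
      rw [← IsScalarTower.algebraMap_apply, ← IsScalarTower.algebraMap_apply, ψ.commutes]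
    let ψ' : Cp →ₐ[Aq] T ⧸ J := { ψ.toRingHom with commutes' := fun a => RingHom.congr_fun hh a }
    obtain ⟨χ, hχ⟩ := h T J hJ ψ' hψ
    exact ⟨χ.restrictScalars A, AlgHom.ext fun z => AlgHom.congr_fun hχ z⟩
  · intro _
    have : IsLocalization (q.primeCompl.map (algebraMap A Aq)) Aq :=
      IsLocalization.self (by rintro _ ⟨y, hy, rfl⟩; exact IsLocalization.map_units Aq (⟨y, hy⟩ : q.primeCompl))
    have : Algebra.FormallySmooth Aq Cp := Algebra.FormallySmooth.localization_base q.primeCompl
    intro T _ _ J hJ ψ _
    exact Algebra.FormallySmooth.comp_surjective Aq Cp J hJ ψ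

end Groth.Agent.S4606
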