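import Groth.Statements.S4607
import Mathlib

set_option autoImplicit false
universe u
open TensorProduct
open EGA41

namespace Groth.Agent.S4607

/-- First assertion, case of two factors: for A-algebras A' and A'' the image of Spec(A' ⊗_A A'') in
Spec A is the intersection of the images of Spec A' and Spec A''. -/
theorem result {A A' A'' : Type u} [CommRing A] [CommRing A'] [CommRing A'']
    [Algebra A A'] [Algebra A A''] :
    Set.range (PrimeSpectrum.comap (algebraMap A (A' ⊗[A] A''))) =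
      Set.range (PrimeSpectrum.comap (algebraMap A A')) ∩ Set.range (PrimeSpectrum.comap (algebraMap A A'')) := by
  refine Set.Subset.antisymm ?_ ?_
  · rintro _ ⟨P, rfl⟩
    refine ⟨⟨PrimeSpectrum.comap (Algebra.TensorProduct.includeLeftRingHom) P, ?_⟩,
      ⟨PrimeSpectrum.comap (Algebra.TensorProduct.includeRight : A'' →ₐ[A] A' ⊗[A] A'').toRingHom P, ?_⟩⟩
    · rw [← PrimeSpectrum.comap_comp_apply]; rfl
    · rw [← PrimeSpectrum.comap_comp_apply, AlgHom.toRingHom_eq_coe, AlgHom.comp_algebraMap]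
  · rintro p ⟨h1, h2⟩
    let κ := p.asIdeal.ResidueField
    haveI : Nontrivial (κ ⊗[A] A') := (PrimeSpectrum.nontrivial_iff_mem_rangeComap p).2 h1
    haveI : Nontrivial (κ ⊗[A] A'') := (PrimeSpectrum.nontrivial_iff_mem_rangeComap p).2 h2
    haveI : Nontrivial ((κ ⊗[A] A') ⊗[κ] (κ ⊗[A] A'')) :=
      (Module.FaithfullyFlat.nontrivial_tensorProduct_iff_right _ _).2 inferInstance
    let φ : A' ⊗[A] A'' →ₐ[A] (κ ⊗[A] A') ⊗[κ] (κ ⊗[A] A'') := Algebra.TensorProduct.lift
      (((Algebra.TensorProduct.includeLeft : κ ⊗[A] A' →ₐ[κ] _).restrictScalars A).comp Algebra.TensorProduct.includeRight)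
      (((Algebra.TensorProduct.includeRight : κ ⊗[A] A'' →ₐ[κ] _).restrictScalars A).comp Algebra.TensorProduct.includeRight)
      fun _ _ => Commute.all _ _
    obtain ⟨M, hM⟩ := Ideal.exists_maximal ((κ ⊗[A] A') ⊗[κ] (κ ⊗[A] A''))
    haveI := hM.isPrime
    refine ⟨PrimeSpectrum.comap φ.toRingHom ⟨M, inferInstance⟩, ?_⟩
    rw [← PrimeSpectrum.comap_comp_apply, AlgHom.toRingHom_eq_coe, AlgHom.comp_algebraMap,
      IsScalarTower.algebraMap_eq A κ, PrimeSpectrum.comap_comp_apply]
    refine PrimeSpectrum.ext ?_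
    show (Ideal.comap (algebraMap κ _) M).comap (algebraMap A κ) = p.asIdeal
    rw [Ideal.eq_bot_of_prime (Ideal.comap (algebraMap κ _) M), ← RingHom.ker_eq_comap_bot,
      Ideal.ker_algebraMap_residueField]

end Groth.Agent.S4607
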