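import Groth.Statements.S4608
import Mathlib

set_option autoImplicit false
universe u
open AlgebraicGeometry CategoryTheory CategoryTheory.Limits
open EGA41

namespace Groth.Agent.S4608

/-- A morphism from a disjoint union X' ⨿ X'' → Y is quasi-compact if and only if its two components
are. -/
theorem result {X' X'' Y : Scheme.{u}} (f' : X' ⟶ Y) (f'' : X'' ⟶ Y) :
    QuasiCompact (coprod.desc f' f'') ↔ QuasiCompact f' ∧ QuasiCompact f'' := by
  have hpre : ∀ U : Set Y, (coprod.desc f' f'').base ⁻¹' U =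
      (coprod.inl : X' ⟶ X' ⨿ X'').base '' (f'.base ⁻¹' U) ∪ (coprod.inr : X'' ⟶ X' ⨿ X'').base '' (f''.base ⁻¹' U) := by
    intro U
    ext z
    obtain ⟨w, rfl⟩ := (coprodMk X' X'').surjective z
    rcases w with w | w
    · rw [coprodMk_inl]
      have h1 : (coprod.desc f' f'').base ((coprod.inl : X' ⟶ X' ⨿ X'').base w) = f'.base w := by
        rw [← Scheme.Hom.comp_apply, coprod.inl_desc]
      refine ⟨fun h => Or.inl ⟨w, by show f'.base w ∈ U; rw [← h1]; exact h, rfl⟩, ?_⟩
      rintro (⟨v, hv, hvw⟩ | ⟨v, hv, hvw⟩)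
      · obtain rfl := (coprod.inl : X' ⟶ X' ⨿ X'').isOpenEmbedding.injective hvw
        show _ ∈ U; rw [h1]; exact hv
      · exact absurd hvw (inr_ne_inl X' X'' w v)
    · rw [coprodMk_inr]
      have h1 : (coprod.desc f' f'').base ((coprod.inr : X'' ⟶ X' ⨿ X'').base w) = f''.base w := by
        rw [← Scheme.Hom.comp_apply, coprod.inr_desc]
      refine ⟨fun h => Or.inr ⟨w, by show f''.base w ∈ U; rw [← h1]; exact h, rfl⟩, ?_⟩
      rintro (⟨v, hv, hvw⟩ | ⟨v, hv, hvw⟩)
      · exact absurd hvw (inl_ne_inr X' X'' v w)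
      · obtain rfl := (coprod.inr : X'' ⟶ X' ⨿ X'').isOpenEmbedding.injective hvw
        show _ ∈ U; rw [h1]; exact hv
  constructor
  · intro h
    have hc := isCompl_range_inl_inr X' X''
    refine ⟨⟨fun U hU hcU => ?_⟩, ⟨fun U hU hcU => ?_⟩⟩
    · have h2 : Topology.IsClosedEmbedding (coprod.inl : X' ⟶ X' ⨿ X'').base :=
        ⟨(coprod.inl : X' ⟶ X' ⨿ X'').isOpenEmbedding.isEmbedding, by
          rw [← compl_compl (Set.range _), hc.compl_eq]
          exact (coprod.inr : X'' ⟶ X' ⨿ X'').isOpenEmbedding.isOpen_range.isClosed_compl⟩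
      have h3 := h2.isCompact_preimage (h.isCompact_preimage U hU hcU)
      rwa [← Set.preimage_comp, ← TopCat.coe_comp, ← Scheme.Hom.comp_base, coprod.inl_desc] at h3
    · have h2 : Topology.IsClosedEmbedding (coprod.inr : X'' ⟶ X' ⨿ X'').base :=
        ⟨(coprod.inr : X'' ⟶ X' ⨿ X'').isOpenEmbedding.isEmbedding, by
          rw [← compl_compl (Set.range _), hc.symm.compl_eq]
          exact (coprod.inl : X' ⟶ X' ⨿ X'').isOpenEmbedding.isOpen_range.isClosed_compl⟩
      have h3 := h2.isCompact_preimage (h.isCompact_preimage U hU hcU)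
      rwa [← Set.preimage_comp, ← TopCat.coe_comp, ← Scheme.Hom.comp_base, coprod.inr_desc] at h3
  · intro ⟨h1, h2⟩
    constructor
    intro U hU hcU
    rw [hpre]
    exact ((h1.isCompact_preimage U hU hcU).image (coprod.inl : X' ⟶ X' ⨿ X'').continuous).union
      ((h2.isCompact_preimage U hU hcU).image (coprod.inr : X'' ⟶ X' ⨿ X'').continuous)

end Groth.Agent.S4608
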