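import Groth.Statements.S4609
import Groth.Agent.MiscFlat6.MorSmall
-- import your own Groth.Agent.* helpers here

set_option autoImplicit false
universe u
open AlgebraicGeometry CategoryTheory CategoryTheory.Limits
open EGA41

namespace Groth.Agent.S4609

/-- A morphism from a disjoint union X' ⨿ X'' → Y is quasi-separated if and only if its two components
are. -/
theorem result {X' X'' Y : Scheme.{u}} (f' : X' ⟶ Y) (f'' : X'' ⟶ Y) :
    QuasiSeparated (coprod.desc f' f'') ↔ QuasiSeparated f' ∧ QuasiSeparated f'' := by
  constructor
  · intro _
    constructor
    · have : QuasiSeparated (coprod.inl ≫ coprod.desc f' f'') := inferInstance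
      rwa [coprod.inl_desc] at this
    · have : QuasiSeparated (coprod.inr ≫ coprod.desc f' f'') := inferInstance
      rwa [coprod.inr_desc] at this
  · rintro ⟨_, _⟩
    exact MiscFlat6.quasiSeparated_coprod_desc f' f''

end Groth.Agent.S4609
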