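import Groth.Statements.S4610
import Mathlib

-- import your own Groth.Agent.* helpers here

set_option autoImplicit false
universe u
open EGA41

namespace Groth.Agent.S4610

/-- Let A be a nonzero ring and F_1, …, F_r monic one-variable polynomials of degrees d_1, …, d_r; then
A[T_1, …, T_r]/(F_1(T_1), …, F_r(T_r)) is a free A-module of rank ∏ d_i. (The published statement
assumes A local with maximal ideal of square zero and A' local, which this assertion does not use;
its bound [K' : K] ≤ d and part (ii) are not stated.) -/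
theorem result {A : Type u} [CommRing A] [Nontrivial A]
    {r : ℕ} (F : Fin r → Polynomial A) (hF : ∀ i, (F i).Monic) :
    Module.Free A (MvPolynomial (Fin r) A ⧸ Ideal.span (Set.range fun i => Polynomial.aeval (MvPolynomial.X i : MvPolynomial (Fin r) A) (F i))) ∧
      Module.finrank A (MvPolynomial (Fin r) A ⧸ Ideal.span (Set.range fun i => Polynomial.aeval (MvPolynomial.X i : MvPolynomial (Fin r) A) (F i))) =
        Finset.univ.prod fun i => (F i).natDegree := by
  classical
  suffices H : ∀ (n : ℕ) (G : Fin n → Polynomial A), (∀ i, (G i).Monic) → Module.Free A (MvPolynomial (Fin n) A ⧸ Ideal.span (Set.range fun i => Polynomial.aeval (MvPolynomial.X i : MvPolynomial (Fin n) A) (G i))) ∧ Module.Finite A (MvPolynomial (Fin n) A ⧸ Ideal.span (Set.range fun i => Polynomial.aeval (MvPolynomial.X i : MvPolynomial (Fin n) A) (G i))) ∧ Module.finrank A (MvPolynomial (Fin n) A ⧸ Ideal.span (Set.range fun i => Polynomial.aeval (MvPolynomial.X i : MvPolynomial (Fin n) A) (G i))) = Finset.univ.prod fun i => (G i).natDegree from ⟨(H r F hF).1, (H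 r F hF).2.2⟩
  intro n
  induction n with
  | zero =>
    intro G _
    have h0 : Ideal.span (Set.range fun i => Polynomial.aeval (MvPolynomial.X i : MvPolynomial (Fin 0) A) (G i)) = ⊥ := by simp [Set.range_eq_empty]
    let e := ((Ideal.quotientEquivAlgOfEq A h0).trans (AlgEquiv.quotientBot A (MvPolynomial (Fin 0) A))).trans (MvPolynomial.isEmptyAlgEquiv A (Fin 0))
    refine ⟨Module.Free.of_equiv e.symm.toLinearEquiv, Module.Finite.equiv e.symm.toLinearEquiv, ?_⟩
    rw [e.toLinearEquiv.finrank_eq]; simp
  | succ m ih =>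
    intro G hG
    obtain ⟨hfree, hfin, hrk⟩ := ih (fun i => G i.succ) (fun i => hG _)
    let J : Ideal (MvPolynomial (Fin m) A) := Ideal.span (Set.range fun i => Polynomial.aeval (MvPolynomial.X i : MvPolynomial (Fin m) A) (G i.succ))
    let Q := MvPolynomial (Fin m) A ⧸ J
    let I : Ideal (MvPolynomial (Fin (m + 1)) A) := Ideal.span (Set.range fun i => Polynomial.aeval (MvPolynomial.X i : MvPolynomial (Fin (m + 1)) A) (G i))
    haveI : Module.Free A Q := hfree
    haveI : Module.Finite A Q := hfin
    let P : Polynomial Q := (G 0).map (algebraMap A Q)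
    have hP : P.Monic := (hG 0).map _
    let T := MvPolynomial (Fin (m + 1)) A ⧸ I
    let mkT : MvPolynomial (Fin (m + 1)) A →ₐ[A] T := Ideal.Quotient.mkₐ A I
    let mkQ : MvPolynomial (Fin m) A →ₐ[A] Q := Ideal.Quotient.mkₐ A J
    have hT : ∀ i, Polynomial.aeval (mkT (MvPolynomial.X i)) (G i) = 0 := fun i => by
      rw [Polynomial.aeval_algHom_apply]
      exact Ideal.Quotient.eq_zero_iff_mem.2 (Ideal.subset_span ⟨i, rfl⟩)
    let ofA : Q →ₐ[A] AdjoinRoot P := IsScalarTower.toAlgHom A Q (AdjoinRoot P)
    let vals : Fin (m + 1) → AdjoinRoot P := Fin.cons (AdjoinRoot.root P) (fun i => ofA (mkQ (MvPolynomial.X i)))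
    have hkill : ∀ x ∈ I, MvPolynomial.aeval vals x = 0 := by
      intro x hx
      induction hx using Submodule.span_induction with
      | mem x hx =>
        obtain ⟨i, rfl⟩ := hx
        rw [← Polynomial.aeval_algHom_apply, MvPolynomial.aeval_X]
        refine Fin.cases ?_ (fun j => ?_) i
        · simp only [vals, Fin.cons_zero]
          rw [← Polynomial.aeval_map_algebraMap Q]
          exact (Polynomial.aeval_def _ _).trans (AdjoinRoot.eval₂_root P)
        · simp only [vals, Fin.cons_succ]
          rw [Polynomial.aeval_algHom_apply, Polynomial.aeval_algHom_apply]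
          rw [show mkQ (Polynomial.aeval (MvPolynomial.X j : MvPolynomial (Fin m) A) (G j.succ)) = 0 from Ideal.Quotient.eq_zero_iff_mem.2 (Ideal.subset_span ⟨j, rfl⟩), map_zero]
      | zero => exact map_zero _
      | add x y _ _ hx hy => rw [map_add, hx, hy, add_zero]
      | smul c x _ hx => rw [smul_eq_mul, map_mul, hx, mul_zero]
    let φ : T →ₐ[A] AdjoinRoot P := Ideal.Quotient.liftₐ I (MvPolynomial.aeval vals) hkill
    let ι₀ : Q →ₐ[A] T := Ideal.Quotient.liftₐ J (MvPolynomial.aeval fun i : Fin m => mkT (MvPolynomial.X i.succ)) (by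
      intro x hx
      induction hx using Submodule.span_induction with
      | mem x hx =>
        obtain ⟨j, rfl⟩ := hx
        rw [← Polynomial.aeval_algHom_apply, MvPolynomial.aeval_X]
        exact hT _
      | zero => exact map_zero _
      | add x y _ _ hx hy => rw [map_add, hx, hy, add_zero]
      | smul c x _ hx => rw [smul_eq_mul, map_mul, hx, mul_zero])
    let ψ : AdjoinRoot P →ₐ[A] T := AdjoinRoot.liftAlgHom P ι₀ (mkT (MvPolynomial.X 0)) (by
      rw [Polynomial.eval₂_map]
      have e : (ι₀ : Q →+* T).comp (algebraMap A Q) = algebraMap A T := ι₀.comp_algebraMap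
      rw [show ((RingHomClass.toRingHom ι₀).comp (algebraMap A Q)) = algebraMap A T from e]
      exact (Polynomial.aeval_def _ _).symm.trans (hT 0))
    have hιX : ∀ i, ι₀ (mkQ (MvPolynomial.X i)) = mkT (MvPolynomial.X i.succ) := fun i => MvPolynomial.aeval_X _ i
    have hψof : ∀ q, ψ (ofA q) = ι₀ q := fun q => AdjoinRoot.liftAlgHom_of _ _ _ _ q
    have hψroot : ψ (AdjoinRoot.root P) = mkT (MvPolynomial.X 0) := AdjoinRoot.liftAlgHom_root _ _ _ _
    have hφmk : ∀ x, φ (mkT x) = MvPolynomial.aeval vals x := fun x => rfl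
    let E : T ≃ₐ[A] AdjoinRoot P := by
      refine AlgEquiv.ofAlgHom φ ψ ?_ ?_
      · have hQ : (φ.comp ι₀).comp mkQ = ofA.comp mkQ := MvPolynomial.algHom_ext fun j => by
          change φ (ι₀ (mkQ _)) = ofA (mkQ _)
          rw [hιX, hφmk, MvPolynomial.aeval_X]; rfl
        refine AlgHom.ext fun z => ?_
        change φ (ψ z) = z
        induction z using AdjoinRoot.induction_on with
        | ih p =>
          induction p using Polynomial.induction_on' with
          | add p q hp hq => rw [map_add, map_add, map_add, hp, hq]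
          | monomial k q =>
            obtain ⟨x, rfl⟩ := Ideal.Quotient.mk_surjective q
            rw [← Polynomial.C_mul_X_pow_eq_monomial, map_mul, map_pow, AdjoinRoot.mk_C, AdjoinRoot.mk_X, map_mul, map_mul, map_pow, map_pow,
              show ψ (AdjoinRoot.of P (Ideal.Quotient.mk J x)) = ι₀ (mkQ x) from hψof (mkQ x), hψroot, show φ (ι₀ (mkQ x)) = ofA (mkQ x) from DFunLike.congr_fun hQ x, hφmk, MvPolynomial.aeval_X]
            rfl
      · refine Ideal.Quotient.algHom_ext A (MvPolynomial.algHom_ext fun i => ?_)
        change ψ (φ (mkT _)) = mkT _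
        rw [hφmk, MvPolynomial.aeval_X]
        refine Fin.cases ?_ (fun j => ?_) i
        · simp only [vals, Fin.cons_zero, hψroot]
        · simp only [vals, Fin.cons_succ, hψof, hιX]
    let pb := AdjoinRoot.powerBasis' hP
    haveI : Module.Free Q (AdjoinRoot P) := Module.Free.of_basis pb.basis
    haveI : Module.Finite Q (AdjoinRoot P) := pb.finite
    haveI : Module.Free A (AdjoinRoot P) := Module.Free.trans (R := A) (S := Q) (M := AdjoinRoot P)
    haveI : Module.Finite A (AdjoinRoot P) := Module.Finite.trans Q _
    refine ⟨Module.Free.of_equiv E.symm.toLinearEquiv, Module.Finite.equiv E.symm.toLinearEquiv, ?_⟩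
    rw [show Module.finrank A T = Module.finrank A (AdjoinRoot P) from E.toLinearEquiv.finrank_eq, Fin.prod_univ_succ]
    rcases subsingleton_or_nontrivial Q with hQ | hQ
    · haveI : Subsingleton (AdjoinRoot P) := Module.subsingleton Q _
      rw [← hrk, show Module.finrank A (MvPolynomial (Fin m) A ⧸ J) = 0 from Module.finrank_zero_of_subsingleton (R := A) (M := Q), mul_zero]
      exact Module.finrank_zero_of_subsingleton
    · rw [← Module.finrank_mul_finrank A Q (AdjoinRoot P), pb.finrank, mul_comm, ← hrk]
      congr 1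
      exact (AdjoinRoot.powerBasis'_dim hP).trans ((hG 0).natDegree_map _)

end Groth.Agent.S4610
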