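import Groth.Statements.S4611
import Mathlib


-- import your own Groth.Agent.* helpers here

set_option autoImplicit false
universe u
open EGA41

namespace Groth.Agent.S4611

/-- A local algebra essentially of finite type over a ring A is A-isomorphic to a quotient of a
localization A[T_1, …, T_n]_q of a polynomial algebra at a prime ideal q; stated as the existence of
a surjective A-algebra map from such a localization. -/
theorem result {A B : Type u} [CommRing A]
    [CommRing B] [IsLocalRing B] [Algebra A B] [Algebra.EssFiniteType A B] :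
    ∃ (n : ℕ) (q : Ideal (MvPolynomial (Fin n) A)) (_ : q.IsPrime)
      (φ : Localization.AtPrime q →ₐ[A] B), Function.Surjective φ := by
  obtain ⟨s, hs⟩ := Algebra.EssFiniteType.cond (R := A) (S := B)
  let v : Fin s.card → B := fun i => (s.equivFin.symm i : B)
  have hv : Set.range v = (s : Set B) := by
    ext b
    refine ⟨?_, fun hb => ⟨s.equivFin ⟨b, hb⟩, by simp [v]⟩⟩
    rintro ⟨i, rfl⟩
    exact (s.equivFin.symm i).2
  let φ : MvPolynomial (Fin s.card) A →ₐ[A] B := MvPolynomial.aeval v
  have hrange : φ.range = Algebra.adjoin A (s : Set B) := by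
    rw [← hv, Algebra.adjoin_range_eq_range_aeval]
  let q : Ideal (MvPolynomial (Fin s.card) A) := (IsLocalRing.maximalIdeal B).comap φ
  haveI hq : q.IsPrime := inferInstance
  have hu : ∀ y : q.primeCompl, IsUnit (φ y) := fun y => IsLocalRing.notMem_maximalIdeal.1 y.2
  refine ⟨s.card, q, hq, IsLocalization.liftAlgHom (M := q.primeCompl) (f := φ) hu, ?_⟩
  intro b
  haveI := hs
  obtain ⟨⟨⟨a, ha⟩, ⟨⟨c, hc⟩, hcu⟩⟩, hb⟩ := IsLocalization.surj ((IsUnit.submonoid B).comap (algebraMap (Algebra.adjoin A (s : Set B)) B)) b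
  rw [← hrange] at ha hc
  obtain ⟨P, rfl⟩ := ha
  obtain ⟨Q, rfl⟩ := hc
  have hcu' : IsUnit (φ Q) := hcu
  have hQ : Q ∈ q.primeCompl := fun hh => IsLocalRing.notMem_maximalIdeal.2 hcu' hh
  refine ⟨IsLocalization.mk' _ P ⟨Q, hQ⟩, ?_⟩
  change IsLocalization.lift (M := q.primeCompl) (S := Localization.AtPrime q) (g := φ.toRingHom) hu (IsLocalization.mk' _ P ⟨Q, hQ⟩) = b
  rw [IsLocalization.lift_mk'_spec]
  exact (hb.symm.trans (mul_comm _ _) :)

end Groth.Agent.S4611
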