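import Groth.Statements.S4612
import Groth.Agent.NagataLib.PowerSeries
import Groth.Agent.S4574
import Groth.Agent.ImperfLib.Section
import Groth.Agent.CohenLib.DerExt
-- import your own Groth.Agent.* helpers here

set_option autoImplicit false
universe u
open IsLocalRing
open EGA41

namespace Groth.Agent.S4612

/-- Nagata's Jacobian criterion for quotients of power series rings: let k be a field, A = k[[T_1, …,
T_r]], q ⊆ p ideals of A with p prime, B = A/q. Suppose A/p contains a sub-k-algebra isomorphic to a
power series algebra k[[X_1, …, X_s]] over which A/p is finite and such that the fraction field L of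
A/p is a separable extension of the fraction field L' of k[[X_1, …, X_s]]; here this is given as an
injective k-algebra map k[[X_1, …, X_s]] → A/p making A/p a finite module, with fraction fields L',
L and a compatible L'-algebra structure on L. Then the following are equivalent: B_p is formally
smooth over k for the adic topology of its maximal ideal; there are k-derivations D_1, …, D_m of A
into itself and f_1, …, f_m ∈ q generating qA_p with det(D_i f_j) ∉ p; B_p is a regular local ring.
(The published statement remarks that the hypothesis on A/p always holds when k has characteristic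
zero.) -/
theorem result {k : Type u} [Field k] (r : ℕ)
    (q p : Ideal (MvPowerSeries (Fin r) k)) [p.IsPrime] (hqp : q ≤ p) [(p.map (Ideal.Quotient.mk q)).IsPrime]
    (s : ℕ) [Algebra (MvPowerSeries (Fin s) k) (MvPowerSeries (Fin r) k ⧸ p)]
    [IsScalarTower k (MvPowerSeries (Fin s) k) (MvPowerSeries (Fin r) k ⧸ p)]
    [Module.Finite (MvPowerSeries (Fin s) k) (MvPowerSeries (Fin r) k ⧸ p)]
    (hinj : Function.Injective (algebraMap (MvPowerSeries (Fin s) k) (MvPowerSeries (Fin r) k ⧸ p)))
    {L' L : Type u} [Field L'] [Field L]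
    [Algebra (MvPowerSeries (Fin s) k) L'] [IsFractionRing (MvPowerSeries (Fin s) k) L']
    [Algebra (MvPowerSeries (Fin r) k ⧸ p) L] [IsFractionRing (MvPowerSeries (Fin r) k ⧸ p) L]
    [Algebra L' L] [Algebra (MvPowerSeries (Fin s) k) L]
    [IsScalarTower (MvPowerSeries (Fin s) k) (MvPowerSeries (Fin r) k ⧸ p) L]
    [IsScalarTower (MvPowerSeries (Fin s) k) L' L] [Algebra.IsSeparable L' L] :
    [CAlgX.IsAdicFormallySmooth k (Localization.AtPrime (p.map (Ideal.Quotient.mk q)))
        (maximalIdeal (Localization.AtPrime (p.map (Ideal.Quotient.mk q)))),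
     ∃ (m : ℕ) (D : Fin m → Derivation k (MvPowerSeries (Fin r) k) (MvPowerSeries (Fin r) k))
        (f : Fin m → MvPowerSeries (Fin r) k), (∀ i, f i ∈ q) ∧
        q.map (algebraMap (MvPowerSeries (Fin r) k) (Localization.AtPrime p)) =
          Ideal.span (Set.range fun i => algebraMap (MvPowerSeries (Fin r) k) (Localization.AtPrime p) (f i)) ∧
        Matrix.det (Matrix.of fun i j => D i (f j)) ∉ p,
     IsRegularLocalRing (Localization.AtPrime (p.map (Ideal.Quotient.mk q)))].TFAE := by
  classical
  haveI := NagataLib.isRegularLocalRing_atPrime p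
  haveI := CohenLib.isRegularLocalRing_mvPowerSeries k r
  haveI : IsNoetherianRing (MvPowerSeries (Fin r) k) := CohenLib.isNoetherianRing_mvPowerSeries (n := r) k
  let φ := algebraMap (MvPowerSeries (Fin s) k) (MvPowerSeries (Fin r) k ⧸ p)
  have hdet : NagataLib.DetectsPrime p (NagataLib.partials k r) :=
    NagataLib.detectsPrime_partials p (L := L) (IsFractionRing.injective (MvPowerSeries (Fin r) k ⧸ p) L) s φ hinj
      (RingHom.finite_algebraMap.2 inferInstance)
      (fun c => by
        rw [Ideal.Quotient.mk_algebraMap, IsScalarTower.algebraMap_apply k (MvPowerSeries (Fin s) k)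
          (MvPowerSeries (Fin r) k ⧸ p), MvPowerSeries.algebraMap_apply, Algebra.algebraMap_self, RingHom.id_apply])
      L' (fun g => by rw [← IsScalarTower.algebraMap_apply, ← IsScalarTower.algebraMap_apply])
  have hres : ∀ f : MvPowerSeries (Fin r) k,
      residue (MvPowerSeries (Fin r) k) f = algebraMap k (ResidueField (MvPowerSeries (Fin r) k))
        (MvPowerSeries.constantCoeff f) := fun f => by
    rw [IsScalarTower.algebraMap_apply k (MvPowerSeries (Fin r) k) (ResidueField (MvPowerSeries (Fin r) k))]
    refine Ideal.Quotient.eq.2 ((mem_maximalIdeal _).2 fun h => ?_)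
    have h0 := (MvPowerSeries.isUnit_iff_constantCoeff).1 h
    rw [map_sub, MvPowerSeries.algebraMap_apply, MvPowerSeries.constantCoeff_C, Algebra.algebraMap_self,
      RingHom.id_apply, sub_self] at h0
    exact not_isUnit_zero h0
  have hfs := ImperfLib.adicFS_of_retraction (k := k) (A := MvPowerSeries (Fin r) k) MvPowerSeries.constantCoeff
    (fun x => by rw [MvPowerSeries.algebraMap_apply, MvPowerSeries.constantCoeff_C]; rfl) hres
  have hp := Groth.Agent.S4574.result hfs p
  tfae_have 1 → 3 := fun h =>
    CohenLib.isRegularLocalRing_of_liftsAdic' (fun C _ _ J hJ ψ hψ => h C J hJ ψ hψ)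
  tfae_have 3 → 2 := fun h => by
    obtain ⟨m, σ, f, hf, hgen, hd⟩ := NagataLib.hasJacobian_of_regular q p hqp _ hdet h
    exact ⟨m, fun i => MvPowerSeries.pderiv k (σ i), f, hf, hgen, hd⟩
  tfae_have 2 → 1 := by
    rintro ⟨m, D, f, hf, hgen, hd⟩
    exact NagataLib.adicFS_of_hasJacobian q p hqp hp (fun i => NagataLib.toAbs (D i))
      (fun i c => (D i).map_algebraMap c) ⟨m, id, f, hf, hgen, hd⟩
  tfae_finish

end Groth.Agent.S4612
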