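import Groth.Statements.S4614
import Groth.Agent.RedTensLib.Basic

set_option autoImplicit false
universe u
open TensorProduct AlgebraicGeometry
open CAlg

namespace Groth.Agent.S4614
open RedTensLib in
theorem aux {A B K' : Type u} [CommRing A]
    [IsDomain A] [CommRing B] [Algebra A B] [IsNoetherianRing B] [Module.Flat A B]
    (hJ : ∀ (q : Ideal B) [q.IsPrime], q ∈ minimalPrimes B → CAlg.IsN2 (B ⧸ q))
    [Field K'] [Algebra A K'] [Algebra (FractionRing A) K'] [IsScalarTower A (FractionRing A) K']
    [FiniteDimensional (FractionRing A) K'] :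
    ∃ Cα : Subalgebra A K', (Module.Finite A Cα ∧ ∀ x : K', ∃ a b : Cα, (b : K') ≠ 0 ∧ x * b = a) ∧
      (∀ C : Subalgebra A K', Module.Finite A C → ∀ hle : Cα ≤ C,
        (∀ x : ↥Cα ⊗[A] B, IsNilpotent (Algebra.TensorProduct.map (Subalgebra.inclusion hle) (AlgHom.id A B) x) →
          IsNilpotent x) ∧
        (∀ y : ↥C ⊗[A] B, ∃ x : ↥Cα ⊗[A] B,
          IsNilpotent (Algebra.TensorProduct.map (Subalgebra.inclusion hle) (AlgHom.id A B) x - y))) ∧
      (Module.FaithfullyFlat A B → ∀ hint : Cα ≤ integralClosure A K',
        UniversallyInjective (Spec.map (CommRingCat.ofHom (Subalgebra.inclusion hint).toRingHom))) := by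
  obtain ⟨Cα, hα, hsurj⟩ := exists_max (A := A) (K' := K') hJ
  refine ⟨Cα, hα, fun C hC hle => ⟨fun x hx => ?_, fun y => ?_⟩, fun hff hint => ?_⟩
  · exact (IsNilpotent.map_iff (f := Algebra.TensorProduct.map (Subalgebra.inclusion hle) (AlgHom.id A B))
      (Module.Flat.rTensor_preserves_injective_linearMap (M := B) (Subalgebra.inclusion hle).toLinearMap
        (Subalgebra.inclusion_injective hle))).mp hx
  · obtain ⟨x, hx⟩ := hsurj C hC hle (Algebra.TensorProduct.comm A C B y)
    refine ⟨Algebra.TensorProduct.comm A B Cα x, ?_⟩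
    have key : ∀ x : B ⊗[A] Cα, Algebra.TensorProduct.comm A B C
        (Algebra.TensorProduct.map (AlgHom.id A B) (Subalgebra.inclusion hle) x) =
        Algebra.TensorProduct.map (Subalgebra.inclusion hle) (AlgHom.id A B) (Algebra.TensorProduct.comm A B Cα x) := by
      intro x
      induction x using TensorProduct.induction_on with
      | zero => simp
      | add y z hy hz => simp only [map_add, hy, hz]
      | tmul b w => rfl
    have h2 := hx.map (Algebra.TensorProduct.comm A B C)
    rw [map_sub, key] at h2
    rw [show Algebra.TensorProduct.comm A B C (Algebra.TensorProduct.comm A C B y) = y from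
      (Algebra.TensorProduct.comm A C B).symm_apply_apply y] at h2
    exact h2
  · letI := (Subalgebra.inclusion hint).toRingHom.toAlgebra
    refine universallyInjective_of_ker (R := Cα) (S := integralClosure A K') fun s => ?_
    let C : Subalgebra A K' := Cα ⊔ Algebra.adjoin A {(s : K')}
    haveI := hα.1
    haveI : Module.Finite A (Algebra.adjoin A {(s : K')}) := Algebra.finite_adjoin_simple_of_isIntegral s.2
    have hC : Module.Finite A C := Subalgebra.finite_sup _ _
    have hle : Cα ≤ C := le_sup_left
    have hCint : C ≤ integralClosure A K' := sup_le hint (Algebra.adjoin_le (Set.singleton_subset_iff.mpr s.2))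
    have h := nilpotent_diag hle (hsurj C hC hle)
      ⟨(s : K'), (le_sup_right : Algebra.adjoin A {(s : K')} ≤ C) (Algebra.subset_adjoin rfl)⟩
    letI := (Subalgebra.inclusion hle).toRingHom.toAlgebra
    let ι : C →ₐ[Cα] integralClosure A K' :=
      { (Subalgebra.inclusion hCint).toRingHom with commutes' := fun _ => rfl }
    have h2 := h.map (Algebra.TensorProduct.map ι ι)
    rw [map_sub, Algebra.TensorProduct.map_tmul, Algebra.TensorProduct.map_tmul, map_one] at h2
    exact h2

/-- Let A be a domain with fraction field K, B a Noetherian flat A-algebra with B/q Japanese for every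
minimal prime q, K' a finite extension of K, and consider the sub-A-algebras C of K' finite over A
with fraction field K' (a filtered family with union the integral closure A' of A in K'). (i) Some
member C_α is such that for every member C ⊇ C_α the map (C_α ⊗_A B)_red → (C ⊗_A B)_red is
bijective. (ii) If B is faithfully flat over A then Spec A' → Spec C_α is radicial. -/
theorem result {A B K' : Type u} [CommRing A]
    [IsDomain A] [CommRing B] [Algebra A B] [IsNoetherianRing B] [Module.Flat A B]
    (hJ : ∀ (q : Ideal B) [q.IsPrime], q ∈ minimalPrimes B → CAlg.IsN2 (B ⧸ q))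
    [Field K'] [Algebra A K'] [Algebra (FractionRing A) K'] [IsScalarTower A (FractionRing A) K']
    [FiniteDimensional (FractionRing A) K'] :
    let P : Subalgebra A K' → Prop := fun C : Subalgebra A K' => Module.Finite A C ∧ ∀ x : K', ∃ a b : C, (b : K') ≠ 0 ∧ x * b = a
    ∃ Cα : Subalgebra A K', P Cα ∧
      (∀ C : Subalgebra A K', P C → ∀ hle : Cα ≤ C,
        (∀ x : ↥Cα ⊗[A] B, IsNilpotent (Algebra.TensorProduct.map (Subalgebra.inclusion hle) (AlgHom.id A B) x) →
          IsNilpotent x) ∧
        (∀ y : ↥C ⊗[A] B, ∃ x : ↥Cα ⊗[A] B,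
          IsNilpotent (Algebra.TensorProduct.map (Subalgebra.inclusion hle) (AlgHom.id A B) x - y))) ∧
      (Module.FaithfullyFlat A B → ∀ hint : Cα ≤ integralClosure A K',
        UniversallyInjective (Spec.map (CommRingCat.ofHom (Subalgebra.inclusion hint).toRingHom))) := by
  intro P
  obtain ⟨Cα, hα, h1, h2⟩ := aux (A := A) (K' := K') hJ
  exact ⟨Cα, hα, fun C hC hle => h1 C hC.1 hle, h2⟩

end Groth.Agent.S4614
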