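import Groth.Statements.S4622
import Groth.Agent.S0415
import Mathlib
-- import your own Groth.Agent.* helpers here

set_option autoImplicit false
open CategoryTheory AlgebraicGeometry
universe u
open FBase

namespace Groth.Agent.S4622

/-- Let k be a separably closed field, k' an algebraic closure of k and X a scheme over k. Then the
projection X ⊗_k k' → X is a universal homeomorphism. -/
theorem result {k k' : Type u} [Field k] [IsSepClosed k] [Field k'] [Algebra k k']
    [IsAlgClosure k k'] {X : Scheme.{u}} (f : X ⟶ Spec (CommRingCat.of k)) :
    FlatMor.IsUnivHomeo (FBase.bcπ f k') := by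
  haveI : Algebra.IsAlgebraic k k' := IsAlgClosure.isAlgebraic
  haveI : IsAlgClosed k' := IsAlgClosure.isAlgClosed k
  haveI : IsPurelyInseparable k k' := by
    rw [← separableClosure.eq_bot_iff, IsSepClosed.separableClosure_eq_bot_iff]
    infer_instance
  let s := Spec.map (CommRingCat.ofHom (algebraMap k k'))
  haveI : UniversallyInjective s := ((tfae_universallyInjective s).out 0 1).mpr (by
    intro L iL g₁ g₂ h
    obtain ⟨a, rfl⟩ := Spec.map_surjective g₁
    obtain ⟨b, rfl⟩ := Spec.map_surjective g₂
    simp only [s, ← Spec.map_comp] at h
    have h' := congrArg CommRingCat.Hom.hom (Spec.map_injective h)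
    letI := iL
    exact congrArg Spec.map (CommRingCat.hom_ext (IsPurelyInseparable.injective_comp_algebraMap k k' _ h')))
  haveI : IsIntegralHom s :=
    (IsIntegralHom.SpecMap_iff (φ := CommRingCat.ofHom (algebraMap k k'))).mpr
      (algebraMap_isIntegral_iff.mpr inferInstance)
  exact (Groth.Agent.S0415.result (FBase.bcπ f k')).mpr
    ⟨MorphismProperty.pullback_fst _ _ ‹IsIntegralHom s›,
      MorphismProperty.pullback_fst _ _ ‹UniversallyInjective s›,
      MorphismProperty.pullback_fst _ _ (inferInstance : Surjective s)⟩

end Groth.Agent.S4622
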