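import Groth.Statements.S4631
import Groth.Agent.SweepSix.FieldsRed
import Groth.Agent.S4628
-- import your own Groth.Agent.* helpers here

set_option autoImplicit false
open CategoryTheory AlgebraicGeometry
universe u
open FBase

namespace Groth.Agent.S4631

/-- Let X be a scheme over an algebraically closed field k and x a point of X. Then X is geometrically
pointwise integral at x over k if and only if the local ring of X at x is a domain. -/
theorem result {k : Type u} [Field k] [IsAlgClosed k] {X : Scheme.{u}}
    (f : X ⟶ Spec (CommRingCat.of k)) (x : X) :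
    FBase.IsGeomPtIntegralAt f x ↔ IsDomain ↑(X.presheaf.stalk x) := by
  refine ⟨fun h => ?_, fun h K _ _ x' hx => SweepSix.FieldsRed.isDomain_stalk_of_isAlgClosed f x h K x' hx⟩
  haveI : IsIso (Spec.map (CommRingCat.ofHom (algebraMap k k))) := by
    rw [show CommRingCat.ofHom (algebraMap k k) = 𝟙 _ from rfl, Spec.map_id]; infer_instance
  haveI : IsIso (FBase.bcπ f k) := MorphismProperty.pullback_fst (P := MorphismProperty.isomorphisms Scheme.{u}) f _
    (inferInstance : IsIso (Spec.map (CommRingCat.ofHom (algebraMap k k))))
  obtain ⟨x', hx⟩ := (FBase.bcπ f k).surjective x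
  subst hx
  have := h k x' rfl
  exact Function.Injective.isDomain ((FBase.bcπ f k).stalkMap x').hom
    (ConcreteCategory.bijective_of_isIso ((FBase.bcπ f k).stalkMap x')).1

end Groth.Agent.S4631
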