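import Groth.Statements.S4635
import Groth.Agent.IntTensorLib.NoEmb
import Groth.Agent.AssPointLib.Dense

set_option autoImplicit false
set_option backward.isDefEq.respectTransparency false
set_option backward.isDefEq.respectTransparency.types false
open CategoryTheory AlgebraicGeometry
universe u
open FBase

namespace Groth.Agent.S4635

open CategoryTheory.Limits in
/-- Let X and Y be integral locally Noetherian schemes over a field k such that X ×_k Y is locally
Noetherian. Then the structure sheaf of X ×_k Y has no embedded associated points. -/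
theorem result {k : Type u} [Field k] {X Y : Scheme.{u}}
    (f : X ⟶ Spec (CommRingCat.of k)) (g : Y ⟶ Spec (CommRingCat.of k)) [IsIntegral X] [IsIntegral Y]
    [IsLocallyNoetherian X] [IsLocallyNoetherian Y] [IsLocallyNoetherian (pullback f g)] :
    AssSch.NoEmbedded (Coh.structureModule (pullback f g)) := by
  intro x hx y hy hyx
  obtain ⟨U, hU, hxU⟩ := QCohLib.exists_affine_nhd (pullback.fst f g x)
  obtain ⟨W, hW, hxW⟩ := QCohLib.exists_affine_nhd (pullback.snd f g x)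
  let φA : CommRingCat.of k ⟶ Γ(X, U) := Spec.preimage (hU.fromSpec ≫ f)
  let φB : CommRingCat.of k ⟶ Γ(Y, W) := Spec.preimage (hW.fromSpec ≫ g)
  letI : Algebra k Γ(X, U) := φA.hom.toAlgebra
  letI : Algebra k Γ(Y, W) := φB.hom.toAlgebra
  haveI : Nonempty U := ⟨⟨_, hxU⟩⟩
  haveI : Nonempty W := ⟨⟨_, hxW⟩⟩
  have h1 : Spec.map (CommRingCat.ofHom (algebraMap k Γ(X, U))) ≫ 𝟙 _ = hU.fromSpec ≫ f :=
    (Category.comp_id _).trans (Spec.map_preimage _)
  have h2 : Spec.map (CommRingCat.ofHom (algebraMap k Γ(Y, W))) ≫ 𝟙 _ = hW.fromSpec ≫ g :=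
    (Category.comp_id _).trans (Spec.map_preimage _)
  let m := pullback.map _ _ f g hU.fromSpec hW.fromSpec (𝟙 _) h1 h2
  let j := (pullbackSpecIso k Γ(X, U) Γ(Y, W)).inv ≫ m
  have hxj : x ∈ Set.range m := by
    rw [Scheme.Pullback.range_map]
    exact ⟨by rw [Set.mem_preimage, hU.range_fromSpec]; exact hxU,
      by rw [Set.mem_preimage, hW.range_fromSpec]; exact hxW⟩
  obtain ⟨z, hz⟩ := hxj
  have hxV : x ∈ j ''ᵁ ⊤ := by
    refine ⟨(pullbackSpecIso k Γ(X, U) Γ(Y, W)).hom z, trivial, ?_⟩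
    rw [← hz]
    simp [j, ← Scheme.Hom.comp_apply]
  have hyV : y ∈ j ''ᵁ ⊤ := hyx.mem_open (j ''ᵁ ⊤).isOpen hxV
  have hV : IsAffineOpen (j ''ᵁ ⊤) := (isAffineOpen_top _).image_of_isOpenImmersion j
  have hN : IntTensorLib.NoEmb Γ(pullback f g, j ''ᵁ ⊤) :=
    (IntTensorLib.noEmb_domains k Γ(X, U) Γ(Y, W)).of_ringEquiv
      ((j.appIso ⊤) ≪≫ Scheme.ΓSpecIso _).commRingCatIsoToRingEquiv
  haveI : IsNoetherianRing Γ(pullback f g, j ''ᵁ ⊤) := IsLocallyNoetherian.component_noetherian ⟨_, hV⟩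
  haveI : Coh.IsQCoh (Coh.structureModule (pullback f g)) := QCohLib.isQCoh_unit
  have key : ∀ w (hw : w ∈ j ''ᵁ ⊤), w ∈ AssSch.Ass (Coh.structureModule (pullback f g)) →
      (hV.primeIdealOf ⟨w, hw⟩).asIdeal ∈
        associatedPrimes Γ(pullback f g, j ''ᵁ ⊤) Γ(pullback f g, j ''ᵁ ⊤) := by
    intro w hw h
    obtain ⟨(s : Γ(pullback f g, j ''ᵁ ⊤)), hs⟩ :=
      (AssPointLib.weak_iff hV hw).mp ((AssPointLib.assPoint_iff_weak _ w).mp h)
    haveI := (hV.primeIdealOf ⟨w, hw⟩).2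
    exact AssPointLib.isAssociatedPrime_of_fg (IsNoetherian.noetherian _) hs
  have hpx := key x hxV hx
  have hpy := key y hyV hy
  have hle : (hV.primeIdealOf ⟨y, hyV⟩).asIdeal ≤ (hV.primeIdealOf ⟨x, hxV⟩).asIdeal := by
    rw [PrimeSpectrum.asIdeal_le_asIdeal, PrimeSpectrum.le_iff_specializes]
    refine hV.fromSpec.isOpenEmbedding.isInducing.specializes_iff.mp ?_
    rw [hV.fromSpec_primeIdealOf, hV.fromSpec_primeIdealOf]
    exact hyx
  have h := PrimeSpectrum.ext (hN _ hpy _ hpx hle)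
  have h' := congr(hV.fromSpec $h)
  rw [hV.fromSpec_primeIdealOf, hV.fromSpec_primeIdealOf] at h'
  exact h'.symm

end Groth.Agent.S4635
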