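import Groth.Statements.S4638
import Groth.Agent.AssPointLib.Basic

-- import your own Groth.Agent.* helpers here

set_option autoImplicit false
open CategoryTheory AlgebraicGeometry
universe u
open AssSch

namespace Groth.Agent.S4638



/-- Let X be a locally Noetherian scheme, F a quasi-coherent O_X-module and f a global section of O_X.
Then f is F-regular, i.e. multiplication by the germ of f is injective on every stalk of F, if and
only if every associated point of F lies in the open subset X_f where f does not vanish. -/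
theorem result {X : Scheme.{u}} [IsLocallyNoetherian X] (F : X.Modules)
    (hF : Coh.IsQCoh F) (f : Γ(X, ⊤)) :
    (∀ x : X, IsSMulRegular ↑(F.presheaf.stalk x) (X.presheaf.germ ⊤ x trivial f)) ↔
      AssSch.Ass F ⊆ (X.basicOpen f : Set ↥X) := by
  haveI := hF
  constructor
  · intro hreg x hx
    by_contra hxf
    obtain ⟨a, ha⟩ := (AssPointLib.weak_def F x).mp ((AssPointLib.assPoint_iff_weak F x).1 hx)
    have hm : X.presheaf.germ ⊤ x trivial f ∈ IsLocalRing.maximalIdeal (X.presheaf.stalk x) := fun h =>
      hxf ((X.mem_basicOpen f x trivial).2 h)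
    obtain ⟨n, hn⟩ := ha.symm ▸ hm
    have h0 : a = 0 := (hreg x).pow n ((show (X.presheaf.germ ⊤ x trivial f) ^ n • a = 0 from hn).trans (smul_zero _).symm)
    refine (IsLocalRing.maximalIdeal.isMaximal (X.presheaf.stalk x)).ne_top ?_
    rw [← ha, h0, Ideal.eq_top_iff_one]
    exact Ideal.le_radical (show (1 : X.presheaf.stalk x) • (0 : (DevissLib.St x).obj F) = 0 from smul_zero _)
  · intro hass x
    refine isSMulRegular_iff_right_eq_zero_of_smul.2 fun (a : (DevissLib.St x).obj F) ha => ?_
    by_contra hne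
    obtain ⟨U, hU, hxU⟩ := QCohLib.exists_affine_nhd x
    obtain ⟨v, s, hv, hs⟩ := AssPointLib.exists_smul_eq_gm hU hxU a
    let g : Γ(X, U) := X.presheaf.map (homOfLE (le_top : U ≤ ⊤)).op f
    have hg : ∀ y (hy : y ∈ U), X.presheaf.germ U y hy g = X.presheaf.germ ⊤ y trivial f := fun y hy =>
      TopCat.Presheaf.germ_res_apply X.presheaf _ y hy f
    obtain ⟨y, hyU, hyx, hw, hsy⟩ := AssPointLib.exists_weak_specializes hU hxU s fun h0 =>
      hne (hv.smul_eq_zero.mp (hs.trans h0))
    have h1 : DevissLib.gm F x hxU (g • s) = 0 := by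
      rw [DevissLib.gm_smul, ← hs, hg, smul_smul, mul_comm, ← smul_smul]
      exact hv.smul_eq_zero.mpr ha
    obtain ⟨t, ht, hts⟩ := (DevissLib.gm_eq_zero_iff hU x hxU _).mp h1
    have hu : IsUnit (X.presheaf.germ U y hyU t) := by
      have h := (X.mem_basicOpen t x hxU).2 (AssPointLib.isUnit_germ hU hxU ht)
      exact (X.mem_basicOpen t y hyU).1 (hyx.mem_open (X.basicOpen t).isOpen h)
    have h2 : DevissLib.gm F y hyU (t • g • s) = 0 := by rw [hts]; exact DevissLib.gm_zero F y hyU
    rw [DevissLib.gm_smul, DevissLib.gm_smul, hu.smul_eq_zero, hg] at h2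
    exact hsy ((((X.mem_basicOpen f y trivial).1 (hass ((AssPointLib.assPoint_iff_weak F y).2 hw))).smul_eq_zero).mp h2)


end Groth.Agent.S4638
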