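import Groth.Statements.S4639
import Groth.Agent.SweepSix.EmbDesc
-- import your own Groth.Agent.* helpers here

set_option autoImplicit false
open CategoryTheory AlgebraicGeometry
universe u
open FDesc

namespace Groth.Agent.S4639

/-- The property of being quasi-compact and universally bicontinuous (every base change is a
homeomorphism onto its image) descends along a surjective, flat and quasi-compact base change. -/
theorem result :
    MorphismProperty.DescendsAlong
      (MorphismProperty.universally (topologically (fun f => Topology.IsEmbedding f)) ⊓ @QuasiCompact : MorphismProperty Scheme.{u})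
      (@Surjective ⊓ @Flat ⊓ @QuasiCompact : MorphismProperty Scheme.{u}) := by
  refine ⟨fun {A X Y Z fst snd f g} h hf hfst => ?_⟩
  obtain ⟨⟨_, _⟩, _⟩ := hf
  have : QuasiCompact fst := hfst.2
  have hq := SweepSix.quasiCompact_descends h
  exact ⟨SweepSix.universally_isEmbedding_descends h hfst.1, hq⟩

end Groth.Agent.S4639
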