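import Groth.Statements.S4640
import Mathlib


-- import your own Groth.Agent.* helpers here

set_option autoImplicit false
universe u
open FDesc

namespace Groth.Agent.S4640

open TensorProduct in
/-- Let A be a Dedekind domain with fraction field K, M an A-module and P' a K-submodule of K ⊗_A M. Let
φ : M → (K ⊗_A M)/P' be m ↦ class of 1 ⊗ m. Then a submodule Q of M equals ker φ if and only if M/Q
is a flat A-module and the kernel of the induced surjection K ⊗_A M → K ⊗_A (M/Q) is P'. Thus M/ker
φ is the unique flat quotient of M with generic fibre (K ⊗_A M)/P'. (The published statement takes A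
Noetherian, regular and of dimension 1; a field is allowed here, where the statement is immediate.) -/
theorem result {A K : Type u} [CommRing A] [IsDedekindDomain A] [Field K]
    [Algebra A K] [IsFractionRing A K] {M : Type u} [AddCommGroup M] [Module A M]
    (P' : Submodule K (K ⊗[A] M)) (Q : Submodule A M) :
    Q = LinearMap.ker ((P'.restrictScalars A).mkQ ∘ₗ TensorProduct.mk A K M 1) ↔
      (Module.Flat A (M ⧸ Q) ∧ LinearMap.ker (Q.mkQ.baseChange K) = P') := by
  set φ := (P'.restrictScalars A).mkQ ∘ₗ TensorProduct.mk A K M 1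
  have hmem : ∀ m, m ∈ LinearMap.ker φ ↔ (1 : K) ⊗ₜ[A] m ∈ P' := fun m => by simp [φ]
  constructor
  · rintro rfl
    constructor
    · rw [IsDedekindDomain.flat_iff_torsion_eq_bot, eq_bot_iff]
      rintro x ⟨⟨s, hs⟩, hsx⟩
      obtain ⟨m, rfl⟩ := Submodule.mkQ_surjective _ x
      have h1 : s • m ∈ LinearMap.ker φ := (Submodule.Quotient.mk_eq_zero _).1 (by rw [Submodule.Quotient.mk_smul]; exact hsx)
      rw [hmem, TensorProduct.tmul_smul, ← algebraMap_smul K s ((1 : K) ⊗ₜ[A] m)] at h1
      have hs0 : algebraMap A K s ≠ 0 := (map_ne_zero_iff _ (IsFractionRing.injective A K)).2 (nonZeroDivisors.ne_zero hs)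
      exact (Submodule.Quotient.mk_eq_zero _).2 ((hmem m).2 ((Submodule.smul_mem_iff _ hs0).1 h1))
    · refine le_antisymm (fun z hz => ?_) (fun z hz => ?_)
      · have hex := lTensor_exact K (LinearMap.exact_subtype_mkQ (LinearMap.ker φ)) (Submodule.mkQ_surjective _)
        obtain ⟨w, hw⟩ := (hex z).1 hz
        rw [← hw]
        clear hw hz
        induction w with
        | zero => simp
        | tmul c m =>
          rw [LinearMap.lTensor_tmul, Submodule.subtype_apply, show c ⊗ₜ[A] (m : M) = c • ((1 : K) ⊗ₜ[A] (m : M)) by rw [TensorProduct.smul_tmul', smul_eq_mul, mul_one]]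
          exact P'.smul_mem c ((hmem _).1 m.2)
        | add a b ha hb => rw [map_add]; exact add_mem ha hb
      · haveI : IsLocalizedModule (nonZeroDivisors A) (TensorProduct.mk A K M 1) :=
          (isLocalizedModule_iff_isBaseChange (nonZeroDivisors A) K _).2 (TensorProduct.isBaseChange A M K)
        obtain ⟨⟨m, s⟩, hms⟩ := IsLocalizedModule.surj (nonZeroDivisors A) (TensorProduct.mk A K M 1) z
        have hs0 : algebraMap A K s.1 ≠ 0 := (map_ne_zero_iff _ (IsFractionRing.injective A K)).2 (nonZeroDivisors.ne_zero s.2)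
        have hms' : algebraMap A K s.1 • z = (1 : K) ⊗ₜ[A] m := by rw [algebraMap_smul]; exact hms
        have hm : m ∈ LinearMap.ker φ := (hmem m).2 (hms' ▸ P'.smul_mem _ hz)
        rw [← Submodule.smul_mem_iff _ hs0, hms', LinearMap.mem_ker, LinearMap.baseChange_tmul, show (LinearMap.ker φ).mkQ m = 0 from (Submodule.Quotient.mk_eq_zero _).2 hm, TensorProduct.tmul_zero]
  · rintro ⟨hflat, hker⟩
    ext m
    rw [hmem, ← hker, LinearMap.mem_ker, LinearMap.baseChange_tmul]
    constructor
    · intro hm; rw [Submodule.mkQ_apply, (Submodule.Quotient.mk_eq_zero _).2 hm, TensorProduct.tmul_zero]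
    · intro h
      have hinj := Module.Flat.rTensor_preserves_injective_linearMap (M := M ⧸ Q) (Algebra.linearMap A K) (IsFractionRing.injective A K)
      have h0 : (1 : A) ⊗ₜ[A] Q.mkQ m = (0 : TensorProduct A A (M ⧸ Q)) := hinj (by rw [LinearMap.rTensor_tmul, Algebra.linearMap_apply, map_one, map_zero]; exact h)
      have := congrArg (TensorProduct.lid A (M ⧸ Q)) h0
      rw [TensorProduct.lid_tmul, one_smul, map_zero] at this
      exact (Submodule.Quotient.mk_eq_zero _).1 this

end Groth.Agent.S4640
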