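import Groth.Statements.S4641
import Groth.Agent.AssPointLib.Basic
import Groth.Agent.CurvLib.EulerTensor
import Groth.Agent.CommAlgDim.Depth
import Mathlib.RingTheory.Flat.Basic

set_option autoImplicit false
open CategoryTheory AlgebraicGeometry
universe u
open AssSch

namespace Groth.Agent.S4641

open IsLocalRing TensorProduct

/-- Let f : X → Y be a morphism of locally Noetherian schemes such that Y has no embedded associated
points, and let F be a quasi-coherent O_X-module which is flat over Y. Then for every associated
point x of F, f(x) is a maximal point of Y (every point of Y specialising to f(x) equals f(x)). (The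
published statement assumes only Y locally Noetherian; X is taken locally Noetherian here so that
associated points are those whose maximal ideal is an annihilator.) -/
theorem result {X Y : Scheme.{u}} (f : X ⟶ Y) [IsLocallyNoetherian X]
    [IsLocallyNoetherian Y] (hY : AssSch.NoEmbedded (Coh.structureModule Y)) (F : X.Modules) (hF : Coh.IsQCoh F)
    (hfl : FlatMod.IsFlatOver f F) (x : X) (hx : x ∈ AssSch.Ass F) (y : Y) (hy : y ⤳ f x) : y = f x := by
  let e := CurvLib.stalkStructureEquiv (X := Y) (f x)
  haveI : Coh.IsQCoh (Coh.structureModule Y) := QCohLib.isQCoh_unit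
  by_cases ha : f x ∈ AssSch.Ass (Coh.structureModule Y)
  · have hsy : y ∈ CohB1.support (Coh.structureModule Y) := fun hs => by
      haveI : Subsingleton ↑((DevissLib.St y).obj (Coh.structureModule Y)) := hs
      haveI : Subsingleton (Y.presheaf.stalk y) := (CurvLib.stalkStructureEquiv (X := Y) y).toEquiv.symm.subsingleton
      exact false_of_nontrivial_of_subsingleton (Y.presheaf.stalk y)
    obtain ⟨z, hzy, hz⟩ := AssPointLib.exists_weak_of_mem_support hsy
    obtain rfl := hY (f x) ha z ((AssPointLib.assPoint_iff_weak _ z).2 hz) (hzy.trans hy)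
    exact (hy.antisymm hzy).eq
  · exfalso
    have hna : ¬ IsAssociatedPrime (maximalIdeal (Y.presheaf.stalk (f x))) (Y.presheaf.stalk (f x)) :=
      fun h => ha ((LinearEquiv.AssociatedPrimes.eq e).ge h)
    obtain ⟨r, hr, hreg⟩ := CommAlgDim.exists_isSMulRegular_mem (R := Y.presheaf.stalk (f x))
      (M := Y.presheaf.stalk (f x)) (I := maximalIdeal _) fun p hp hle =>
        hna ((IsLocalRing.maximalIdeal.isMaximal _).eq_of_le hp.isPrime.ne_top hle ▸ hp)
    letI : Algebra (Y.presheaf.stalk (f x)) (X.presheaf.stalk x) := (f.stalkMap x).hom.toAlgebra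
    letI : Module (Y.presheaf.stalk (f x)) (F.presheaf.stalk x) := FlatMod.moduleStalkOver f F x
    haveI : IsScalarTower (Y.presheaf.stalk (f x)) (X.presheaf.stalk x) (F.presheaf.stalk x) :=
      IsScalarTower.of_algebraMap_smul fun _ _ => rfl
    haveI : Module.Flat (Y.presheaf.stalk (f x)) (F.presheaf.stalk x) := hfl x
    have hregN : IsSMulRegular (F.presheaf.stalk x) r := fun a b hab =>
      (Module.Flat.rTensor_preserves_injective_linearMap (M := F.presheaf.stalk x) (LinearMap.lsmul (Y.presheaf.stalk (f x)) (Y.presheaf.stalk (f x)) r) hreg).comp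
        (TensorProduct.lid (Y.presheaf.stalk (f x)) (F.presheaf.stalk x)).symm.injective
        (by simp only [Function.comp_apply, TensorProduct.lid_symm_apply, LinearMap.rTensor_tmul, LinearMap.lsmul_apply,
              ← smul_eq_mul, TensorProduct.smul_tmul]
            exact congrArg (fun w => (1 : Y.presheaf.stalk (f x)) ⊗ₜ[Y.presheaf.stalk (f x)] w) hab)
    obtain ⟨-, m, hm⟩ := isAssociatedPrime_iff.1 hx
    have hrm : algebraMap _ (X.presheaf.stalk x) r ∈ maximalIdeal (X.presheaf.stalk x) :=
      map_nonunit (f.stalkMap x).hom r hr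
    rw [hm, Submodule.mem_colon_singleton, Submodule.mem_bot, algebraMap_smul] at hrm
    have hm0 : m = 0 := hregN (hrm.trans (smul_zero r).symm)
    exact (maximalIdeal.isMaximal (X.presheaf.stalk x)).ne_top
      (hm.trans (by rw [hm0, Ideal.eq_top_iff_one, Submodule.mem_colon_singleton, Submodule.mem_bot, smul_zero]))

end Groth.Agent.S4641
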