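import Groth.Statements.S4644
import Groth.Agent.FibDimLib.Pure
import Groth.Agent.FibDimLib.ClosureDim

set_option autoImplicit false
open CategoryTheory AlgebraicGeometry
universe u
open FBase

namespace Groth.Agent.S4644

/-- Let Y be a nonempty scheme locally of finite type over a field k whose irreducible components all
have the same dimension, and let Z be a locally closed subset of Y (the underlying set of a
subscheme). Then Z is nowhere dense in Y if and only if dim Z < dim Y. (For Y empty the left side
holds and the right side fails, so Y is taken nonempty; dimensions are Krull dimensions of the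
underlying spaces.) -/
theorem result {k : Type u} [Field k] {Y : Scheme.{u}} [Nonempty ↥Y]
    (g : Y ⟶ Spec (CommRingCat.of k)) [LocallyOfFiniteType g]
    (heq : ∀ T ∈ irreducibleComponents ↥Y, topologicalKrullDim ↥T = topologicalKrullDim ↥Y)
    (Z : Set ↥Y) (hZ : IsLocallyClosed Z) :
    IsNowhereDense Z ↔ topologicalKrullDim ↥Z < topologicalKrullDim ↥Y := by
  haveI : IsLocallyNoetherian Y := LocallyOfFiniteType.isLocallyNoetherian g
  let y0 : Y := Classical.arbitrary _
  obtain ⟨g0, hg0, -, -⟩ := FibDimLib.exists_generic_localDim g y0
  haveI : LocallyOfFiniteType (Over.mk g).hom := ‹LocallyOfFiniteType g›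
  obtain ⟨e, he, -⟩ := WeilLib.pdim_eq_trdeg (Over.mk g) g0
  change topologicalKrullDim (closure ({g0} : Set Y)) = _ at he
  have hdim : topologicalKrullDim Y = (e : WithBot ℕ∞) := (heq _ hg0).symm.trans he
  have hpure : FibDimLib.IsPureDim Y e := fun T hT ↦ (heq T hT).trans hdim
  constructor
  · intro hnd
    rw [hdim]
    have hsub : topologicalKrullDim Z ≤ topologicalKrullDim (closure Z) :=
      (Topology.IsEmbedding.inclusion subset_closure).isInducing.topologicalKrullDim_le
    refine hsub.trans_lt ?_
    haveI : QuasiSober (closure Z) := isClosed_closure.isClosedEmbedding_subtypeVal.quasiSober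
    have hpt : ∀ z : closure Z, topologicalKrullDim (closure ({z} : Set (closure Z))) < (e : WithBot ℕ∞) := by
      intro z
      have h1 : topologicalKrullDim (closure ({z} : Set (closure Z))) ≤ topologicalKrullDim (closure ({(z : Y)} : Set Y)) :=
        (Topology.IsInducing.of_comp
          (g := (Subtype.val : closure ({(z : Y)} : Set Y) → Y))
          (f := fun w : closure ({z} : Set (closure Z)) ↦ (⟨(w.1 : Y),
            map_mem_closure continuous_subtype_val w.2 (fun a ha ↦ congrArg Subtype.val ha)⟩ :
              closure ({(z : Y)} : Set Y)))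
          ((continuous_subtype_val.comp continuous_subtype_val).subtype_mk _) continuous_subtype_val
          (show Topology.IsInducing ((Subtype.val : closure Z → Y) ∘ (Subtype.val : closure ({z} : Set (closure Z)) → closure Z)) from
            Topology.IsInducing.subtypeVal.comp Topology.IsInducing.subtypeVal)).topologicalKrullDim_le
      refine h1.trans_lt ?_
      have hd := hpure.localDim_eq g (z : Y)
      rw [FibDimLib.localDim_eq_closure_add_stalk g] at hd
      have hc : 0 ≤ topologicalKrullDim (closure ({(z : Y)} : Set Y)) :=
        (FibDimLib.localDim_nonneg (⟨(z : Y), subset_closure rfl⟩ : closure ({(z : Y)} : Set Y))).trans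
          (FibDimLib.localDim_le _)
      have hc' : topologicalKrullDim (closure ({(z : Y)} : Set Y)) ≤ (e : WithBot ℕ∞) :=
        (topologicalKrullDim_subspace_le Y _).trans hdim.le
      refine lt_of_le_of_ne hc' fun hce ↦ ?_
      have hO : ringKrullDim (Y.presheaf.stalk (z : Y)) ≤ 0 := by
        rw [hce] at hd
        revert hd
        generalize ringKrullDim (Y.presheaf.stalk (z : Y)) = o
        induction o with
        | bot => simp
        | coe o =>
          induction o using ENat.recTopCoe with
          | top =>
            intro hd
            have h' : (e : ℕ∞) + ⊤ = (e : ℕ∞) := WithBot.coe_injective hd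
            simp at h'
          | coe o =>
            intro hd
            norm_cast at hd ⊢
            omega
      have hmax : ∀ w : Y, w ⤳ (z : Y) → w = z := fun w hw ↦ by
        by_contra hne
        exact absurd ((FibDimLib.ringKrullDim_stalk_lt hw hne).trans_le hO)
          (not_lt.mpr ringKrullDim_nonneg_of_nontrivial)
      obtain ⟨U, G, hzU, -, hG, hcov⟩ := FibDimLib.exists_nhd_components (z : Y)
      have hU : (U : Set Y) ⊆ closure Z := fun w hw ↦ by
        obtain ⟨a, ha, haw⟩ := hcov w hw
        rw [hmax a (hG a ha).2] at haw
        exact isClosed_closure.closure_subset_iff.mpr (Set.singleton_subset_iff.mpr z.2) haw.mem_closure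
      have h0 : (z : Y) ∈ interior (closure Z) := interior_maximal hU U.isOpen hzU
      rw [show interior (closure Z) = ∅ from hnd] at h0
      exact h0
    by_cases he0 : e = 0
    · subst he0
      haveI : IsEmpty (closure Z) := ⟨fun z ↦ absurd (hpt z) (not_lt.mpr
        ((FibDimLib.localDim_nonneg (⟨z, subset_closure rfl⟩ : closure ({z} : Set (closure Z)))).trans
          (FibDimLib.localDim_le _)))⟩
      refine lt_of_le_of_lt (FibDimLib.topologicalKrullDim_le_of_generic (c := ⊥) fun z _ ↦ isEmptyElim z) ?_
      exact WithBot.bot_lt_coe _
    · obtain ⟨e', rfl⟩ : ∃ e', e = e' + 1 := ⟨e - 1, by omega⟩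
      refine lt_of_le_of_lt (FibDimLib.topologicalKrullDim_le_of_generic (c := (e' : WithBot ℕ∞)) fun z _ ↦ ?_)
        (by exact_mod_cast Nat.lt_succ_self e')
      have h2 := hpt z
      revert h2
      generalize topologicalKrullDim (closure ({z} : Set (closure Z))) = c
      induction c with
      | bot => simp
      | coe c =>
        induction c using ENat.recTopCoe with
        | top => intro h2; exact absurd (WithBot.coe_lt_coe.mp h2) (by simp)
        | coe c => intro h2; norm_cast at h2 ⊢; omega
  · intro hlt
    by_contra hnd
    obtain ⟨a, ha⟩ := Set.nonempty_iff_ne_empty.mpr (show interior (closure Z) ≠ ∅ from hnd)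
    obtain ⟨U, C, hU, hC, rfl⟩ := hZ
    obtain ⟨b, hb, hbU, hbC⟩ := mem_closure_iff.mp (interior_subset ha) _ isOpen_interior ha
    let V : TopologicalSpace.Opens Y := ⟨interior (closure (U ∩ C)) ∩ U, isOpen_interior.inter hU⟩
    have hV : (V : Set Y) ⊆ U ∩ C := fun w hw ↦
      ⟨hw.2, closure_minimal Set.inter_subset_right hC (interior_subset hw.1)⟩
    have hb' : b ∈ V := ⟨hb, hbU⟩
    have h1 := FibDimLib.localDim_le_of_open (U := V) hb'
    rw [hpure.localDim_eq g b, ← hdim] at h1
    exact absurd (h1.trans ((Topology.IsEmbedding.inclusion hV).isInducing.topologicalKrullDim_le)) (not_le.mpr hlt)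
end Groth.Agent.S4644
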