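import Groth.Statements.S4645
import Groth.Agent.SweepSix.GeomConn
import Mathlib
-- import your own Groth.Agent.* helpers here

set_option autoImplicit false
open CategoryTheory AlgebraicGeometry
universe u
open FBase

namespace Groth.Agent.S4645

open CategoryTheory.Limits in
theorem component_gc {k : Type u} [Field k] {X : Scheme.{u}} (f : X ⟶ Spec (CommRingCat.of k))
    (k₂ : Type u) [Field k₂] [Algebra k k₂] (L : Type u) [Field L] [Algebra k L] [Normal k k₂]
    [Algebra.IsAlgebraic k L] (ι : L →ₐ[k] k₂) (x : X) (ψ : L →+* X.residueField x)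
    (hψ : Spec.map (CommRingCat.ofHom ψ) ≫ Spec.map (CommRingCat.ofHom (algebraMap k L)) =
      X.fromSpecResidueField x ≫ f)
    (hgc : GeometricallyConnected (Spec.map (CommRingCat.ofHom ψ)))
    (z : ↥(FBase.bc f k₂)) (hz : FBase.bcπ f k₂ z = x) :
    ∃ (T : Scheme.{u}) (j : T ⟶ FBase.bc f k₂) (t : T),
      GeometricallyConnected (j ≫ FBase.bcStr f k₂) ∧ j t = z := by
  subst hz
  let B := FBase.bc f k₂
  let η := (FBase.bcπ f k₂).residueFieldMap z
  obtain ⟨φ, hφ⟩ := Spec.map_surjective (B.fromSpecResidueField z ≫ FBase.bcStr f k₂)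
  let ψ' : L →+* B.residueField z := η.hom.comp ψ
  have hcond : FBase.bcπ f k₂ ≫ f = FBase.bcStr f k₂ ≫ Spec.map (CommRingCat.ofHom (algebraMap k k₂)) :=
    pullback.condition
  have hk : ψ'.comp (algebraMap k L) = φ.hom.comp (algebraMap k k₂) := by
    refine congrArg CommRingCat.Hom.hom (Spec.map_injective
      (?_ : Spec.map (CommRingCat.ofHom (ψ'.comp (algebraMap k L))) =
        Spec.map (CommRingCat.ofHom (φ.hom.comp (algebraMap k k₂)))))
    simp only [ψ', CommRingCat.ofHom_comp, CommRingCat.ofHom_hom, Spec.map_comp, hφ, η, Category.assoc, hψ]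
    rw [← hcond, Scheme.Hom.SpecMap_residueFieldMap_fromSpecResidueField_assoc]
  let aκ : Algebra k (B.residueField z) := (φ.hom.comp (algebraMap k k₂)).toAlgebra
  have hmem : ∀ a, ψ' a ∈ φ.hom.range := fun a => by
    have hint : IsIntegral k a := Algebra.IsIntegral.isIntegral a
    have hsp : ((minpoly k a).map (algebraMap k k₂)).Splits :=
      minpoly.algHom_eq ι ι.injective a ▸ Normal.splits inferInstance (ι a)
    refine hsp.mem_range_of_isRoot (Polynomial.map_ne_zero (minpoly.ne_zero hint)) ?_
    rw [Polynomial.map_map, ← hk, ← Polynomial.map_map]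
    refine Polynomial.IsRoot.map ?_
    rw [Polynomial.IsRoot.def, Polynomial.eval_map, ← Polynomial.aeval_def, minpoly.aeval]
  choose σ hσ using hmem
  let σ' : L →+* k₂ :=
    { toFun := σ
      map_one' := φ.hom.injective (by rw [hσ, map_one, map_one])
      map_mul' := fun a b => φ.hom.injective (by rw [map_mul, hσ, hσ, hσ, map_mul])
      map_zero' := φ.hom.injective (by rw [hσ, map_zero, map_zero])
      map_add' := fun a b => φ.hom.injective (by rw [map_add, hσ, hσ, hσ, map_add]) }
  have hσ' : φ.hom.comp σ' = ψ' := RingHom.ext hσ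
  have hσk : σ'.comp (algebraMap k L) = algebraMap k k₂ := by
    ext c
    exact φ.hom.injective ((hσ _).trans (RingHom.congr_fun hk c))
  let gψ := Spec.map (CommRingCat.ofHom ψ)
  let gσ := Spec.map (CommRingCat.ofHom σ')
  let T := pullback gψ gσ
  let j : T ⟶ B := pullback.lift (pullback.fst gψ gσ ≫ X.fromSpecResidueField _) (pullback.snd gψ gσ) (by
    rw [Category.assoc, ← hψ, pullback.condition_assoc, ← Spec.map_comp, ← CommRingCat.ofHom_comp, hσk])
  let p : Spec (B.residueField z) ⟶ T := pullback.lift (Spec.map η) (Spec.map φ) (by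
    simp only [gψ, gσ, ← Spec.map_comp]
    exact congrArg Spec.map (CommRingCat.hom_ext hσ'.symm))
  have hjp : p ≫ j = B.fromSpecResidueField z := by
    apply pullback.hom_ext
    · refine (Category.assoc _ _ _).trans ?_
      refine (congrArg (p ≫ ·) (pullback.lift_fst _ _ _)).trans ?_
      refine (Category.assoc _ _ _).symm.trans ((congrArg (· ≫ _) (pullback.lift_fst _ _ _)).trans ?_)
      exact Scheme.Hom.SpecMap_residueFieldMap_fromSpecResidueField _ z
    · refine (Category.assoc _ _ _).trans ?_
      refine (congrArg (p ≫ ·) (pullback.lift_snd _ _ _)).trans ((pullback.lift_snd _ _ _).trans ?_)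
      exact hφ
  refine ⟨T, j, p (IsLocalRing.closedPoint _), ?_, ?_⟩
  · rw [show j ≫ FBase.bcStr f k₂ = pullback.snd gψ gσ from pullback.lift_snd _ _ _]
    exact MorphismProperty.pullback_snd _ _ hgc
  · rw [← Scheme.Hom.comp_apply, hjp, Scheme.fromSpecResidueField_apply]

/-- Let X be a scheme over a field k with finitely many connected components, each of which contains a
point x such that the separable algebraic closure of k in κ(x) has finite degree over k. Then there
is a finite separable extension k'' of k such that all connected components of X ⊗_k k'' are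
geometrically connected over k'': for every extension field K of k'' and every point x' of X ⊗_k
k'', the inverse image in (X ⊗_k k'') ⊗_{k''} K of the connected component of x' is connected. -/
theorem result {k : Type u} [Field k] {X : Scheme.{u}}
    (f : X ⟶ Spec (CommRingCat.of k)) [Finite (_root_.ConnectedComponents ↥X)]
    (hx : ∀ c : _root_.ConnectedComponents ↥X, ∃ x : X, _root_.ConnectedComponents.mk x = c ∧
      FBase.ResidueFieldProp f x (fun K _ _ => FiniteDimensional k (separableClosure k K))) :
    ∃ (k'' : Type u) (_ : Field k'') (_ : Algebra k k''), FiniteDimensional k k'' ∧ Algebra.IsSeparable k k'' ∧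
      ∀ (K : Type u) [Field K] [Algebra k'' K] (x' : ↥(FBase.bc f k'')),
        _root_.IsConnected (⇑(FBase.bcπ (FBase.bcStr f k'') K) ⁻¹' connectedComponent x') := by
  classical
  have : Fintype (_root_.ConnectedComponents ↥X) := Fintype.ofFinite _
  choose x hxc φ hφ hfin using hx
  let al : ∀ c, Algebra k (X.residueField (x c)) := fun c => (φ c).toAlgebra
  let L : ∀ c, IntermediateField k (X.residueField (x c)) := fun c => separableClosure k (X.residueField (x c))
  have : ∀ c, FiniteDimensional k (L c) := hfin
  let ks := SeparableClosure k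
  let e : ∀ c, L c →ₐ[k] ks := fun c => IsSepClosed.lift
  let M : IntermediateField k ks := ⨆ c, (e c).fieldRange
  have : ∀ c, FiniteDimensional k (e c).fieldRange := fun c => (e c).toLinearMap.finiteDimensional_range
  have : FiniteDimensional k M := IntermediateField.finiteDimensional_iSup_of_finite
  let N := IntermediateField.normalClosure k M ks
  refine ⟨N, inferInstance, inferInstance, inferInstance, inferInstance, fun K _ _ z => ?_⟩
  let c := ConnectedComponents.mk (FBase.bcπ f N z)
  let ι : L c →ₐ[k] N := (e c).codRestrict N.toSubalgebra fun a =>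
    IntermediateField.le_normalClosure M ((le_iSup (fun c => (e c).fieldRange) c) ⟨a, rfl⟩)
  have hcc : x c ∈ connectedComponent (FBase.bcπ f N z) := ConnectedComponents.coe_eq_coe'.mp (hxc c)
  obtain ⟨w, hw, hwx⟩ : ∃ w : ↥(FBase.bc f N), w ∈ connectedComponent z ∧ FBase.bcπ f N w = x c :=
    (ConnBC.image_connectedComponent f N z).ge hcc
  obtain ⟨T, j, t, hT, hjt⟩ := component_gc f N (L c) ι (x c) (algebraMap (L c) (X.residueField (x c))) (by
    rw [← Spec.map_comp, ← CommRingCat.ofHom_comp, ← IsScalarTower.algebraMap_eq]
    exact hφ c) (SweepSix.GeomConn.gc_specMap (k := L c) (X.residueField (x c))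
      (separableClosure.separableClosure_eq_bot k (X.residueField (x c)))) w hwx
  have hfin' := SweepSix.GeomConn.isConnected_preimage_cc_of_source (FBase.bcStr f N) K j _ rfl t
  rw [hjt, ← connectedComponent_eq hw] at hfin'
  exact hfin' 

end Groth.Agent.S4645
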