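import Groth.Statements.S4647
import Mathlib
-- import your own Groth.Agent.* helpers here

set_option autoImplicit false
open CategoryTheory AlgebraicGeometry
universe u
open FDesc

namespace Groth.Agent.S4647
set_option linter.all false
theorem exists_irreducible_nhd {X : Scheme.{u}} (x : X) [IsDomain (X.presheaf.stalk x)]
    (W : X.Opens) (hxW : x ∈ W) [hN : TopologicalSpace.NoetherianSpace ↥W] :
    ∃ U : X.Opens, x ∈ U ∧ IsIrreducible (U : Set X) := by
  let η : X := X.fromSpecStalk x ((⟨⊥, Ideal.isPrime_bot⟩ : PrimeSpectrum (X.presheaf.stalk x)) :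
    ↥(Spec (X.presheaf.stalk x)))
  have hη : ∀ z : X, z ⤳ x → η ⤳ z := by
    intro z hz
    obtain ⟨p, rfl⟩ : z ∈ Set.range (X.fromSpecStalk x) := by
      rw [Scheme.range_fromSpecStalk]; exact hz
    exact ((PrimeSpectrum.le_iff_specializes ⟨_, Ideal.isPrime_bot⟩ p).1 bot_le).map
      (X.fromSpecStalk x).continuous
  have hηx : η ⤳ x := Scheme.range_fromSpecStalk.subset ⟨_, rfl⟩
  have hfin := TopologicalSpace.NoetherianSpace.finite_irreducibleComponents (α := ↥W)
  let bad := {C ∈ irreducibleComponents ↥W | (⟨x, hxW⟩ : W) ∉ C}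
  have hbad : IsClosed (⋃ C ∈ bad, C) :=
    (hfin.subset (fun C h => h.1)).isClosed_biUnion fun C hC => isClosed_of_mem_irreducibleComponents C hC.1
  let ηW : ↥W := ⟨η, hηx.mem_open W.isOpen hxW⟩
  have hqs : QuasiSober ↥W := inferInstanceAs (QuasiSober ↥(W : Scheme.{u}))
  have hsub : (⋃ C ∈ bad, C)ᶜ ⊆ closure ({ηW} : Set ↥W) := by
    intro w hw
    have hC := irreducibleComponent_mem_irreducibleComponents w
    have hxC : (⟨x, hxW⟩ : W) ∈ irreducibleComponent w := by
      by_contra h
      exact hw (Set.mem_biUnion (x := irreducibleComponent w) ⟨hC, h⟩ mem_irreducibleComponent)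
    have hg := hC.1.isGenericPoint_genericPoint_closure
    have h1 : hC.1.genericPoint ⤳ (⟨x, hxW⟩ : W) := hg.specializes (subset_closure hxC)
    have h2 : ηW ⤳ hC.1.genericPoint :=
      (Topology.IsInducing.subtypeVal.specializes_iff).1 (hη _ (h1.map continuous_subtype_val))
    exact specializes_iff_mem_closure.1 (h2.trans (hg.specializes (subset_closure mem_irreducibleComponent)))
  have hxU : (⟨x, hxW⟩ : W) ∈ (⋃ C ∈ bad, C)ᶜ := by
    intro h
    obtain ⟨C, hC, hx'⟩ := Set.mem_iUnion₂.1 h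
    exact hC.2 hx'
  refine ⟨W.ι ''ᵁ ⟨(⋃ C ∈ bad, C)ᶜ, hbad.isOpen_compl⟩, ⟨⟨x, hxW⟩, hxU, rfl⟩, ?_⟩
  refine IsIrreducible.image ⟨⟨_, hxU⟩, ?_⟩ _ W.ι.continuous.continuousOn
  intro A B hA hB ha hb
  obtain ⟨a, haU, haA⟩ := ha
  obtain ⟨b, hbU, hbB⟩ := hb
  refine ⟨ηW, ?_, (specializes_iff_mem_closure.2 (hsub haU)).mem_open hA haA,
    (specializes_iff_mem_closure.2 (hsub hbU)).mem_open hB hbB⟩
  exact (specializes_iff_mem_closure.2 (hsub haU)).mem_open hbad.isOpen_compl haU


/-- Let f : X → Y be a faithfully flat (flat and surjective) morphism. If all local rings of X are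
domains (in particular if X is locally integral) and the underlying space of Y is locally
Noetherian, then Y is locally integral: every point of Y has an open neighbourhood which is an
integral scheme. -/
theorem result {X Y : Scheme.{u}} (f : X ⟶ Y) [Flat f] [Surjective f]
    (hX : ∀ x : X, IsDomain ↑(X.presheaf.stalk x))
    (hY : ∀ y : Y, ∃ U : Y.Opens, y ∈ U ∧ TopologicalSpace.NoetherianSpace ↥U) (y : Y) :
    ∃ U : Y.Opens, y ∈ U ∧ IsIntegral (U : Scheme.{u}) := by
  have hd : ∀ z : Y, IsDomain (Y.presheaf.stalk z) := by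
    intro z
    obtain ⟨x, rfl⟩ := f.surjective z
    letI := (f.stalkMap x).hom.toAlgebra
    haveI : Module.Flat (Y.presheaf.stalk (f.base x)) (X.presheaf.stalk x) := Flat.stalkMap f x
    haveI : IsLocalHom (algebraMap (Y.presheaf.stalk (f.base x)) (X.presheaf.stalk x)) :=
      inferInstanceAs (IsLocalHom (f.stalkMap x).hom)
    haveI := Module.FaithfullyFlat.of_flat_of_isLocalHom
      (A := Y.presheaf.stalk (f.base x)) (B := X.presheaf.stalk x)
    haveI := hX x
    exact (FaithfulSMul.algebraMap_injective (Y.presheaf.stalk (f.base x)) (X.presheaf.stalk x)).isDomain _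
  haveI : ∀ z : Y, _root_.IsReduced (Y.presheaf.stalk z) := fun z => haveI := hd z; inferInstance
  haveI : IsReduced Y := isReduced_of_isReduced_stalk Y
  obtain ⟨W, hyW, hW⟩ := hY y
  haveI := hd y
  obtain ⟨U, hyU, hU⟩ := exists_irreducible_nhd y W hyW
  refine ⟨U, hyU, ?_⟩
  haveI : IrreducibleSpace ↥(U : Scheme.{u}) :=
    (Subtype.irreducibleSpace hU : IrreducibleSpace (U : Set Y))
  exact isIntegral_of_irreducibleSpace_of_isReduced _

end Groth.Agent.S4647
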