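import Groth.Statements.S4649
import Groth.Agent.S4630
import Groth.Agent.S4631
import Groth.Agent.S2535
import Groth.Agent.S4628
import Groth.Agent.MiscFlat6.FinCond
-- import your own Groth.Agent.* helpers here

set_option autoImplicit false
set_option maxHeartbeats 1000000
set_option backward.isDefEq.respectTransparency false
set_option backward.isDefEq.respectTransparency.types false
open CategoryTheory AlgebraicGeometry
universe u
open FBase

namespace Groth.Agent.S4649
open CategoryTheory.Limits

theorem card_eq_iff_pairwiseDisjoint (T : Type u) [TopologicalSpace T] [TopologicalSpace.NoetherianSpace T] :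
    Nat.card ↥(irreducibleComponents T) = Nat.card (_root_.ConnectedComponents T) ↔
      (irreducibleComponents T).PairwiseDisjoint id := by
  classical
  have hfin : (irreducibleComponents T).Finite := TopologicalSpace.NoetherianSpace.finite_irreducibleComponents
  haveI : Finite ↥(irreducibleComponents T) := hfin.to_subtype
  let g : ↥(irreducibleComponents T) → _root_.ConnectedComponents T := fun Z =>
    ConnectedComponents.mk Z.2.1.nonempty.choose
  have hg : ∀ (Z : ↥(irreducibleComponents T)) (x : T), x ∈ Z.1 → g Z = ConnectedComponents.mk x := by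
    intro Z x hx
    refine ConnectedComponents.coe_eq_coe'.2 ?_
    exact Z.2.1.isConnected.isPreconnected.subset_connectedComponent hx Z.2.1.nonempty.choose_spec
  have hsurj : Function.Surjective g := by
    intro c
    obtain ⟨x, rfl⟩ := ConnectedComponents.surjective_coe c
    exact ⟨⟨_, irreducibleComponent_mem_irreducibleComponents x⟩, hg _ x mem_irreducibleComponent⟩
  constructor
  · intro h
    have hb : Function.Bijective g :=
      (Nat.bijective_iff_surjective_and_card g).2 ⟨hsurj, h⟩
    intro Z hZ Z' hZ' hne
    refine Set.disjoint_left.2 fun x hx hx' => hne ?_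
    exact congrArg Subtype.val (hb.1 ((hg ⟨Z, hZ⟩ x hx).trans (hg ⟨Z', hZ'⟩ x hx').symm))
  · intro hd
    refine Nat.card_eq_of_bijective g ⟨fun Z Z' hZZ => ?_, hsurj⟩
    have hclopen : IsClopen Z.1 := by
      refine ⟨isClosed_of_mem_irreducibleComponents _ Z.2, ?_⟩
      have hu : Z.1 = (⋃₀ (irreducibleComponents T \ {Z.1}))ᶜ := by
        ext x
        refine ⟨fun hx => ?_, fun hx => ?_⟩
        · rintro ⟨W, ⟨hW, hWne⟩, hxW⟩
          exact Set.disjoint_left.1 (hd hW Z.2 hWne) hxW hx
        · by_contra hxZ
          exact hx ⟨irreducibleComponent x, ⟨irreducibleComponent_mem_irreducibleComponents x,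
            fun he => hxZ (he ▸ mem_irreducibleComponent)⟩, mem_irreducibleComponent⟩
      rw [hu, isOpen_compl_iff, Set.sUnion_eq_biUnion]
      exact (hfin.subset Set.diff_subset).isClosed_biUnion fun W hW => isClosed_of_mem_irreducibleComponents W hW.1
    obtain ⟨x, hx⟩ := Z.2.1.nonempty
    obtain ⟨y, hy⟩ := Z'.2.1.nonempty
    rw [hg Z x hx, hg Z' y hy, ConnectedComponents.coe_eq_coe] at hZZ
    have hyZ : y ∈ Z.1 := hclopen.connectedComponent_subset hx (by rw [hZZ]; exact mem_connectedComponent)
    by_contra hne
    exact Set.disjoint_left.1 (hd Z.2 Z'.2 fun he => hne (Subtype.ext he)) hyZ hy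



/-- Let X be a scheme of finite type over a field k and Ω an algebraically closed extension field of k.
Then X is geometrically pointwise integral over k (every local ring of every X ⊗_k K is a domain) if
and only if X is geometrically reduced over k and the number of irreducible components of X ⊗_k Ω
equals the number of connected components of X ⊗_k Ω (the geometric numbers of irreducible and of
connected components agree). -/
theorem result {k Ω : Type u} [Field k] [Field Ω] [Algebra k Ω] [IsAlgClosed Ω]
    {X : Scheme.{u}} (f : X ⟶ Spec (CommRingCat.of k)) [LocallyOfFiniteType f] [QuasiCompact f] :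
    (∀ x : X, FBase.IsGeomPtIntegralAt f x) ↔
      (GeometricallyReduced f ∧
        Nat.card ↥(irreducibleComponents ↥(FBase.bc f Ω)) = Nat.card (_root_.ConnectedComponents ↥(FBase.bc f Ω))) := by
  haveI hl : LocallyOfFiniteType (FBase.bcStr f Ω) := by delta FBase.bcStr; infer_instance
  haveI hq : QuasiCompact (FBase.bcStr f Ω) := by delta FBase.bcStr; infer_instance
  haveI : IsLocallyNoetherian (FBase.bc f Ω) := LocallyOfFiniteType.isLocallyNoetherian (FBase.bcStr f Ω)
  haveI : CompactSpace ↥(FBase.bc f Ω) := QuasiCompact.compactSpace_of_compactSpace (FBase.bcStr f Ω)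
  haveI : AlgebraicGeometry.IsNoetherian (FBase.bc f Ω) := {}
  have hsurj : Function.Surjective (FBase.bcπ f Ω) := by
    haveI : Surjective (Spec.map (CommRingCat.ofHom (algebraMap k Ω))) :=
      ⟨fun _ => ⟨Classical.arbitrary _, Subsingleton.elim _ _⟩⟩
    haveI : Surjective (FBase.bcπ f Ω) := by delta FBase.bcπ; infer_instance
    exact (FBase.bcπ f Ω).surjective
  have key : (∀ x : X, FBase.IsGeomPtIntegralAt f x) ↔
      ∀ y : ↥(FBase.bc f Ω), IsDomain ↑((FBase.bc f Ω).presheaf.stalk y) := by
    constructor
    · intro h y
      exact (Groth.Agent.S4631.result _ y).1 ((Groth.Agent.S4630.result f y).1 (h _))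
    · intro h x
      obtain ⟨y, rfl⟩ := hsurj x
      exact (Groth.Agent.S4630.result f y).2 ((Groth.Agent.S4631.result _ y).2 (h y))
  rw [key, card_eq_iff_pairwiseDisjoint, MiscFlat6.pairwiseDisjoint_irreducibleComponents_iff]
  constructor
  · intro h
    haveI : ∀ y : ↥(FBase.bc f Ω), _root_.IsReduced ↑((FBase.bc f Ω).presheaf.stalk y) := fun y => by
      haveI := h y
      infer_instance
    haveI : AlgebraicGeometry.IsReduced (FBase.bc f Ω) := isReduced_of_isReduced_stalk _
    refine ⟨Groth.Agent.S2535.result (Ω := Ω) f, fun y => ?_⟩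
    haveI := h y
    rw [nilradical_eq_zero]
    exact Ideal.isPrime_bot
  · rintro ⟨hgr, hd⟩ y
    haveI : GeometricallyReduced f := hgr
    haveI : AlgebraicGeometry.IsReduced (Spec (CommRingCat.of Ω)) := inferInstance
    haveI : AlgebraicGeometry.IsReduced (FBase.bc f Ω) :=
      Groth.Agent.S4628.result f (Spec.map (CommRingCat.ofHom (algebraMap k Ω)))
    have h0 := hd y
    rw [nilradical_eq_zero] at h0
    exact @IsDomain.of_bot_isPrime _ _ h0


end Groth.Agent.S4649
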