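import Groth.Statements.S4650
import Mathlib
-- import your own Groth.Agent.* helpers here

set_option autoImplicit false
open CategoryTheory AlgebraicGeometry
universe u
open FDesc

namespace Groth.Agent.S4650

/-- Let f : X → Y be a morphism of schemes along which generizations lift (this holds for flat,
quasi-flat or open morphisms). Then every irreducible component of X dominates an irreducible
component of Y: the closure of its image is an irreducible component of Y. -/
theorem result {X Y : Scheme.{u}} (f : X ⟶ Y)
    (hf : GeneralizingMap ⇑f) (T : Set ↥X) (hT : T ∈ irreducibleComponents ↥X) :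
    closure (⇑f '' T) ∈ irreducibleComponents ↥Y := by
  have hTi := hT.1
  have hTc : IsClosed T := isClosed_of_mem_irreducibleComponents T hT
  set t := hTi.genericPoint with ht
  have htT : closure {t} = T := by rw [ht, hTi.closure_genericPoint hTc]
  have hmax : ∀ y, y ⤳ f t → y = f t := fun y hy => by
    obtain ⟨t', ht', he⟩ := hf hy
    have hsub : closure {t} ⊆ closure {t'} := (specializes_iff_closure_subset).1 ht'
    have : closure {t'} = T := le_antisymm
      (hT.2 isIrreducible_singleton.closure (htT ▸ hsub)) (htT ▸ hsub)
    rw [← he, (show Inseparable t' t from inseparable_iff_closure_eq.2 (this.trans htT.symm)).eq]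
  have hcl : closure (⇑f '' T) = closure {f t} := by
    refine le_antisymm (closure_minimal ?_ isClosed_closure) (closure_mono ?_)
    · rintro _ ⟨x, hx, rfl⟩
      rw [← htT] at hx
      exact specializes_iff_mem_closure.1 ((specializes_iff_mem_closure.2 hx).map f.continuous)
    · exact Set.singleton_subset_iff.2 ⟨t, htT ▸ subset_closure rfl, rfl⟩
  rw [hcl]
  refine ⟨isIrreducible_singleton.closure, fun S hS hle => ?_⟩
  have hg : IsGenericPoint hS.genericPoint (closure S) := hS.isGenericPoint_genericPoint_closure
  have hsp : hS.genericPoint ⤳ f t := hg.specializes (subset_closure (hle (subset_closure rfl)))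
  rw [hmax _ hsp] at hg
  exact fun z hz => hg.def.symm ▸ subset_closure hz

end Groth.Agent.S4650
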