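import Groth.Statements.S4651
import Groth.Agent.SweepSix.MaxPts
-- import your own Groth.Agent.* helpers here

set_option autoImplicit false
open CategoryTheory AlgebraicGeometry
universe u
open FDesc

namespace Groth.Agent.S4651

theorem closure_mem_of_maximal {X : Scheme.{u}} {x : X} (hx : ∀ y, y ⤳ x → y = x) :
    closure {x} ∈ irreducibleComponents X := by
  refine ⟨isIrreducible_singleton.closure, fun S hS hle => ?_⟩
  have hg : IsGenericPoint hS.genericPoint (closure S) := hS.isGenericPoint_genericPoint_closure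
  have hsp : hS.genericPoint ⤳ x := hg.specializes (subset_closure (hle (subset_closure rfl)))
  rw [hx _ hsp] at hg
  exact fun z hz => hg.def.symm ▸ subset_closure hz

theorem maximal_genericPoint {X : Scheme.{u}} {Z : Set X} (hZ : Z ∈ irreducibleComponents X) :
    ∃ t, IsGenericPoint t Z ∧ ∀ y, y ⤳ t → y = t := by
  have hg : IsGenericPoint hZ.1.genericPoint Z := by
    have := hZ.1.isGenericPoint_genericPoint_closure
    rwa [(isClosed_of_mem_irreducibleComponents Z hZ).closure_eq] at this
  refine ⟨_, hg, fun y hy => ?_⟩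
  have hsub : Z ⊆ closure {y} := hg.def ▸ specializes_iff_closure_subset.1 hy
  have : closure {y} = Z := le_antisymm (hZ.2 isIrreducible_singleton.closure hsub) hsub
  exact (show Inseparable y hZ.1.genericPoint from
    inseparable_iff_closure_eq.2 (this.trans hg.def.symm)).eq

/-- Let Y be a scheme whose family of irreducible components is locally finite (every point has an open
neighbourhood meeting only finitely many irreducible components), and let f : X → Y be a morphism
along which generizations lift (e.g. flat, quasi-flat or open) such that every fibre f⁻¹(y) is a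
finite set (e.g. f quasi-finite or radicial). Then the family of irreducible components of X is
locally finite. -/
theorem result {X Y : Scheme.{u}} (f : X ⟶ Y)
    (hY : ∀ y : Y, ∃ U : Set ↥Y, IsOpen U ∧ y ∈ U ∧ {Z ∈ irreducibleComponents ↥Y | (Z ∩ U).Nonempty}.Finite)
    (hf : GeneralizingMap ⇑f) (hfin : ∀ y : Y, (⇑f ⁻¹' {y}).Finite) (x : X) :
    ∃ U : Set ↥X, IsOpen U ∧ x ∈ U ∧ {T ∈ irreducibleComponents ↥X | (T ∩ U).Nonempty}.Finite := by
  obtain ⟨U, hU, hxU, hfin'⟩ := hY (f x)
  refine ⟨f ⁻¹' U, hU.preimage f.continuous, hxU, ?_⟩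
  refine ((hfin'.biUnion fun Z _ => (?_ : {T : Set X | ∃ ξ η : _, IsGenericPoint ξ T ∧
    IsGenericPoint η Z ∧ f ξ = η}.Finite))).subset ?_
  · by_cases h : ∃ η, IsGenericPoint η Z
    · obtain ⟨η, hη⟩ := h
      refine ((hfin η).image fun ξ => closure {ξ}).subset ?_
      rintro T ⟨ξ, η', hξ, hη', h⟩
      exact ⟨ξ, h.trans (hη'.eq hη), hξ.def⟩
    · refine Set.finite_empty.subset ?_
      rintro T ⟨ξ, η, -, hη, -⟩
      exact h ⟨η, hη⟩
  · rintro T ⟨hT, hne⟩
    obtain ⟨ξ, hξ, hξmax⟩ := maximal_genericPoint hT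
    have hξU : f ξ ∈ U := (hξ.mem_open_set_iff (hU.preimage f.continuous)).2 hne
    have hmax : ∀ y, y ⤳ f ξ → y = f ξ := fun y hy => by
      obtain ⟨ξ', h1, h2⟩ := hf hy
      rw [← h2, hξmax ξ' h1]
    simp only [Set.mem_iUnion]
    exact ⟨closure {f ξ}, ⟨closure_mem_of_maximal hmax, ⟨f ξ, subset_closure rfl, hξU⟩⟩,
      ξ, f ξ, hξ, rfl, rfl⟩

end Groth.Agent.S4651
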