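import Groth.Statements.S4653
import Groth.Agent.S4357
import Groth.Agent.DepthLib.FlatGenerization
import Groth.Agent.KFlatLib.StalkTensor
import Groth.Agent.KFlatLib.QCohPull
import Groth.Agent.ConsLib.ModLoci
import Mathlib

set_option autoImplicit false
open CategoryTheory AlgebraicGeometry
universe u
open FDesc

namespace Groth.Agent.S4653

/-- Let f : X → Y be a morphism of schemes, F a quasi-coherent O_X-module of finite type which is flat
over Y, E a quasi-coherent O_Y-module of finite type, and x a point of X with image y. Then x is a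
maximal point of the support of f^*E ⊗ F (a point of the support admitting no proper generization in
it) if and only if y is a maximal point of Supp E and x, viewed in the fibre f⁻¹(y), is a maximal
point of the support of the restriction of F to that fibre. -/
theorem result {X Y : Scheme.{u}} (f : X ⟶ Y) (F : X.Modules) (hF : Coh.IsCoh F)
    (hfl : FlatMod.IsFlatOver f F) (E : Y.Modules) (hE : Coh.IsCoh E) (x : X) :
    (x ∈ CohB1.support (CohB1.tensorMod ((Scheme.Modules.pullback f).obj E) F) ∧
        ∀ z ∈ CohB1.support (CohB1.tensorMod ((Scheme.Modules.pullback f).obj E) F), z ⤳ x → z = x) ↔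
      ((f x ∈ CohB1.support E ∧ ∀ w ∈ CohB1.support E, w ⤳ f x → w = f x) ∧
        (f.asFiber x ∈ CohB1.support ((Scheme.Modules.pullback (f.fiberι (f x))).obj F) ∧
          ∀ z ∈ CohB1.support ((Scheme.Modules.pullback (f.fiberι (f x))).obj F), z ⤳ f.asFiber x → z = f.asFiber x)) := by
  haveI : Coh.IsQCoh F := hF.1
  haveI : Coh.IsQCoh E := hE.1
  have hmem : ∀ z : X, z ∈ CohB1.support (CohB1.tensorMod ((Scheme.Modules.pullback f).obj E) F) ↔
      f z ∈ CohB1.support E ∧ z ∈ CohB1.support F := by
    intro z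
    let A := (Scheme.Modules.pullback f).obj E
    haveI : Coh.IsQCoh A := KFlatLib.isQCoh_pullback _ _
    haveI := DepthLib.finite_stalk A (ConsLib.isFT_pullback _ E hE.2) z
    haveI := DepthLib.finite_stalk F hF.2 z
    have h0 : z ∈ CohB1.support A ↔ f z ∈ CohB1.support E := by rw [S4357.result f E hE.2]; rfl
    rw [← h0]
    let R := X.presheaf.stalk z
    let M := A.presheaf.stalk z
    let N := F.presheaf.stalk z
    let e : TensorProduct R M N ≃ₗ[R] (KFlatLib.tens A F).presheaf.stalk z :=
      LinearEquiv.ofBijective (KFlatLib.stalkTensorLin A F z) (KFlatLib.stalkTensorLin_bijective A F z)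
    change ¬ Subsingleton ((KFlatLib.tens A F).presheaf.stalk z) ↔ ¬ Subsingleton M ∧ ¬ Subsingleton N
    rw [← e.toEquiv.subsingleton_congr]
    refine ⟨fun h => ⟨fun hM => h inferInstance, fun hN => h inferInstance⟩, fun ⟨hM, hN⟩ h => ?_⟩
    let k := IsLocalRing.ResidueField R
    rw [← IsLocalRing.subsingleton_tensorProduct (R := R)] at hM hN
    haveI : Nontrivial (TensorProduct R k M) := not_subsingleton_iff_nontrivial.mp hM
    haveI : Subsingleton (TensorProduct k (TensorProduct R k M) (TensorProduct R k N)) :=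
      (TensorProduct.AlgebraTensorModule.distribBaseChange R k M N).symm.toEquiv.subsingleton
    exact hN ((Module.FaithfullyFlat.subsingleton_tensorProduct_iff_right k (TensorProduct R k M)).mp this)
  have hfib : ∀ z : f.fiber (f x), z ∈ CohB1.support ((Scheme.Modules.pullback (f.fiberι (f x))).obj F) ↔
      f.fiberι (f x) z ∈ CohB1.support F := fun z => by rw [S4357.result _ F hF.2]; rfl
  have hspec : ∀ z : f.fiber (f x), z ⤳ f.asFiber x ↔ f.fiberι (f x) z ⤳ x := fun z => by
    rw [← (f.fiberι (f x)).isEmbedding.toIsInducing.specializes_iff, f.fiberι_asFiber]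
  constructor
  · rintro ⟨hx, hmax⟩
    obtain ⟨hy, hxF⟩ := (hmem x).1 hx
    refine ⟨⟨hy, fun w hw hwy => ?_⟩, ?_, fun z hz hzx => ?_⟩
    · obtain ⟨x', hx', rfl, hx'x⟩ := DepthLib.exists_support_generization f F hF.2 hxF (hfl x) hwy
      rw [hmax x' ((hmem x').2 ⟨hw, hx'⟩) hx'x]
    · rw [hfib, f.fiberι_asFiber]; exact hxF
    · have h1 : f (f.fiberι (f x) z) = f x := by
        have : f.fiberι (f x) z ∈ Set.range (f.fiberι (f x)) := ⟨z, rfl⟩
        rw [f.range_fiberι] at this
        exact this
      refine (f.fiberι (f x)).isEmbedding.injective ?_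
      rw [hmax _ ((hmem _).2 ⟨by rw [h1]; exact hy, (hfib z).1 hz⟩) ((hspec z).1 hzx), f.fiberι_asFiber]
  · rintro ⟨⟨hy, hymax⟩, hxF, hxmax⟩
    rw [hfib, f.fiberι_asFiber] at hxF
    refine ⟨(hmem x).2 ⟨hy, hxF⟩, fun z hz hzx => ?_⟩
    obtain ⟨hz1, hz2⟩ := (hmem z).1 hz
    have h1 : f z = f x := hymax _ hz1 (hzx.map f.continuous)
    have h2 : z ∈ Set.range (f.fiberι (f x)) := by rw [f.range_fiberι]; exact h1
    obtain ⟨z', rfl⟩ := h2
    rw [hxmax z' ((hfib z').2 hz2) ((hspec z').2 hzx), f.fiberι_asFiber]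
end Groth.Agent.S4653
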