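import Groth.Statements.S4657
import Groth.Agent.AssPointLib.Basic
import Groth.Agent.CycSpLib.Sheaf
import Groth.Agent.DvrLenLib.Stalks
import Groth.Agent.KFlatLib.QCohPull
import Groth.Agent.S4636

set_option autoImplicit false
open CategoryTheory AlgebraicGeometry
universe u
open AssSch

namespace Groth.Agent.S4657

open IsLocalRing TensorProduct

theorem ass_open_iff {X : Scheme.{u}} [IsLocallyNoetherian X] (U : X.Opens) (F : X.Modules) (u : (U : Scheme.{u})) :
    (u ∈ AssSch.Ass ((Scheme.Modules.pullback U.ι).obj F) ↔ U.ι u ∈ AssSch.Ass F) ∧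
    Module.length ((U : Scheme.{u}).presheaf.stalk u) (((Scheme.Modules.pullback U.ι).obj F).presheaf.stalk u) =
      Module.length (X.presheaf.stalk (U.ι u)) (F.presheaf.stalk (U.ι u)) := by
  letI : Algebra (X.presheaf.stalk (U.ι u)) ((U : Scheme.{u}).presheaf.stalk u) := (U.ι.stalkMap u).hom.toAlgebra
  have hb := ConcreteCategory.bijective_of_isIso (U.ι.stalkMap u)
  have hs : Function.Surjective (algebraMap (X.presheaf.stalk (U.ι u)) ((U : Scheme.{u}).presheaf.stalk u)) := hb.2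
  have hk : RingHom.ker (U.ι.stalkMap u).hom = ⊥ := (RingHom.injective_iff_ker_eq_bot _).1 hb.1
  let e : ((Scheme.Modules.pullback U.ι).obj F).presheaf.stalk u ≃ₗ[(U : Scheme.{u}).presheaf.stalk u]
      (U : Scheme.{u}).presheaf.stalk u ⊗[X.presheaf.stalk (U.ι u)] F.presheaf.stalk (U.ι u) :=
    ((KFlatLib.stalkPullIso U.ι u).app F).toLinearEquiv
  let e' : ((U : Scheme.{u}).presheaf.stalk u ⊗[X.presheaf.stalk (U.ι u)] F.presheaf.stalk (U.ι u))
      ≃ₗ[X.presheaf.stalk (U.ι u)] F.presheaf.stalk (U.ι u) :=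
    (DvrLenLib.tensorEquivQuot hs (F.presheaf.stalk (U.ι u))).trans
      (Submodule.quotEquivOfEqBot _ ((congrArg (· • _) hk).trans (Submodule.bot_smul _)))
  refine ⟨(Set.ext_iff.1 (LinearEquiv.AssociatedPrimes.eq e) _).trans
    ((DvrLenLib.isAssociatedPrime_maximal_of_surjective hs _).trans
      (Set.ext_iff.1 (LinearEquiv.AssociatedPrimes.eq e') _)), ?_⟩
  rw [e.length_eq, ← Module.length_eq_of_surjective (R := (U : Scheme.{u}).presheaf.stalk u)
    (S := X.presheaf.stalk (U.ι u)) hs, e'.length_eq]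

/-- Let X be a locally Noetherian scheme, U an open subset of X and F a coherent O_X-module such that U
∩ Supp F is dense in Supp F. Then F is a reduced module if and only if its restriction to U is a
reduced module and F has no embedded associated points. -/
theorem result {X : Scheme.{u}} [IsLocallyNoetherian X] (U : X.Opens) (F : X.Modules)
    (hF : Coh.IsCoh F) (hdense : CohB1.support F ⊆ closure ((U : Set ↥X) ∩ CohB1.support F)) :
    AssSch.IsReducedMod F ↔ AssSch.IsReducedMod ((Scheme.Modules.pullback U.ι).obj F) ∧ AssSch.NoEmbedded F := by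
  haveI := hF.1
  constructor
  · rintro ⟨hne, hlen⟩
    refine ⟨⟨fun u hu v hv hvu => U.ι.isEmbedding.injective
      (hne _ ((ass_open_iff U F u).1.1 hu) _ ((ass_open_iff U F v).1.1 hv) (hvu.map U.ι.continuous)),
      fun u hu => ?_⟩, hne⟩
    rw [(ass_open_iff U F u).2]
    exact hlen _ ((ass_open_iff U F u).1.1 hu)
  · rintro ⟨⟨-, hlen⟩, hne⟩
    refine ⟨hne, fun x hx => ?_⟩
    have hxU : x ∈ U := by
      obtain ⟨hsupp, hmax⟩ := (Groth.Agent.S4636.result F hF x).1 ⟨hx, fun y hy hyx => (hne x hx y hy hyx).symm⟩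
      obtain ⟨V, hV, hxV⟩ := QCohLib.exists_affine_nhd x
      have hfin := AssPointLib.finite_assPoints hF.2 V hV.isCompact
      let W : Set X := (V : Set X) \ ⋃ z ∈ {z ∈ {z : X | z ∈ V ∧ Curv2.IsWeakAssPoint F z} | ¬ z ⤳ x}, closure {z}
      have hW : IsOpen W := V.isOpen.sdiff ((hfin.subset (Set.sep_subset _ _)).isClosed_biUnion fun _ _ => isClosed_closure)
      have hxW : x ∈ W := ⟨hxV, fun h => by
        obtain ⟨z, hz, hxz⟩ := Set.mem_iUnion₂.1 h
        exact hz.2 (specializes_iff_mem_closure.2 hxz)⟩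
      obtain ⟨w, hwW, hwU, hws⟩ := mem_closure_iff.1 (hdense (not_subsingleton_iff_nontrivial.2 hsupp)) W hW hxW
      obtain ⟨T, hT, hwT, hTle⟩ := exists_isAffineOpen_mem_and_subset (show w ∈ (⟨W, hW⟩ : X.Opens) ⊓ U from ⟨hwW, hwU⟩)
      obtain ⟨a, ha⟩ := (DevissLib.mem_support_iff_nonzero F w).1 hws
      obtain ⟨v, s, hv, hs⟩ := AssPointLib.exists_smul_eq_gm hT hwT a
      obtain ⟨z, hzT, hzw, hz, -⟩ := AssPointLib.exists_weak_specializes hT hwT s fun h0 =>
        ha (hv.smul_eq_zero.mp (hs.trans h0))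
      have hzW : z ∈ W := (hTle hzT).1
      by_cases hzx : z ⤳ x
      · exact hmax z (not_subsingleton_iff_nontrivial.1 (AssPointLib.weak_iff_mem_support hz)) hzx ▸ (hTle hzT).2
      · exact absurd (Set.mem_biUnion (s := {z ∈ {z : X | z ∈ V ∧ Curv2.IsWeakAssPoint F z} | ¬ z ⤳ x}) (t := fun z => closure {z})
          ⟨⟨hzW.1, hz⟩, hzx⟩ (subset_closure rfl)) hzW.2
    obtain ⟨u, rfl⟩ : ∃ u : (U : Scheme.{u}), U.ι u = x := ⟨⟨x, hxU⟩, rfl⟩
    rw [← (ass_open_iff U F u).2]
    exact hlen u ((ass_open_iff U F u).1.2 hx)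

end Groth.Agent.S4657
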