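import Groth.Statements.S4658
import Groth.Agent.AssPointLib.Basic
import Groth.Agent.DevissLib.Filtration
import Groth.Agent.DevissLib.Basic
import Groth.Agent.QCohLib.Gen

set_option autoImplicit false
set_option linter.style.haveILetI false
set_option backward.isDefEq.respectTransparency false
set_option backward.isDefEq.respectTransparency.types false
open CategoryTheory AlgebraicGeometry
universe u
open AssSch

namespace Groth.Agent.S4658


open CategoryTheory.Limits TopologicalSpace Opposite DevissLib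

set_option maxHeartbeats 1600000

noncomputable section

variable {X : Scheme.{u}}

abbrev IZ (x : X) : X.IdealSheafData := Scheme.IdealSheafData.vanishingIdeal ⟨closure {x}, isClosed_closure⟩

abbrev GZ (x : X) : X.Modules :=
  (Scheme.Modules.pushforward (IZ x).subschemeι).obj (Coh.structureModule (IZ x).subscheme)

/-- The canonical map to the structure sheaf of the closure. -/
def piZ (x : X) : Coh.structureModule X ⟶ GZ x :=
  QCohLib.unitHom (GZ x) (1 : Γ((IZ x).subscheme, (IZ x).subschemeι ⁻¹ᵁ ⊤))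

theorem piZ_app (x : X) (V : X.Opens) (c : Γ(X, V)) :
    (piZ x).app V c = ((IZ x).subschemeι.app V).hom c := by
  rw [piZ, QCohLib.unitHom_app]
  have key : ∀ z : Γ((IZ x).subscheme, (IZ x).subschemeι ⁻¹ᵁ V), z = 1 →
      ((IZ x).subschemeι.app V).hom c * z = ((IZ x).subschemeι.app V).hom c := fun z hz => by rw [hz, mul_one]
  exact key _ (map_one ((IZ x).subscheme.presheaf.map _).hom)

theorem piZ_app_eq_zero (x : X) {V : X.Opens} (hV : IsAffineOpen V) (c : Γ(X, V)) :
    (piZ x).app V c = 0 ↔ c ∈ (IZ x).ideal ⟨V, hV⟩ := by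
  rw [piZ_app, ← (IZ x).ker_subschemeι_app ⟨V, hV⟩, RingHom.mem_ker]

theorem piZ_surjective (x : X) {V : X.Opens} (hV : IsAffineOpen V) :
    Function.Surjective ((piZ x).app V) := fun b => by
  obtain ⟨c, hc⟩ := (IZ x).subschemeι_app_surjective ⟨V, hV⟩ b
  exact ⟨c, (piZ_app x V c).trans hc⟩

theorem ideal_IZ (x : X) {U : X.Opens} (hU : IsAffineOpen U) (hx : x ∈ U) :
    (IZ x).ideal ⟨U, hU⟩ = (hU.primeIdealOf ⟨x, hx⟩).asIdeal := by
  rw [Scheme.IdealSheafData.vanishingIdeal_ideal]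
  show PrimeSpectrum.vanishingIdeal (hU.fromSpec ⁻¹' closure {x}) = _
  rw [hU.fromSpec.isOpenEmbedding.isOpenMap.preimage_closure_eq_closure_preimage hU.fromSpec.continuous]
  have : hU.fromSpec ⁻¹' {x} = {hU.primeIdealOf ⟨x, hx⟩} := by
    ext q
    refine ⟨fun h => ?_, fun h => ?_⟩
    · exact hU.fromSpec.isOpenEmbedding.injective (h.trans (hU.fromSpec_primeIdealOf ⟨x, hx⟩).symm)
    · rw [Set.mem_singleton_iff.1 h]; exact hU.fromSpec_primeIdealOf ⟨x, hx⟩
  rw [this, PrimeSpectrum.vanishingIdeal_closure, PrimeSpectrum.vanishingIdeal_singleton]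

/-- On a basic open, a function kills the section exactly when it vanishes on the closure. -/
theorem key {F : X.Modules} [Coh.IsQCoh F] {x : X} {U : X.Opens} (hU : IsAffineOpen U) (hx : x ∈ U)
    (s : Γ(F, U)) (hs : ∀ a, a • s = 0 ↔ a ∈ (hU.primeIdealOf ⟨x, hx⟩).asIdeal) (r : Γ(X, U))
    (c : Γ(X, X.basicOpen r)) :
    c • F.presheaf.map (homOfLE (X.basicOpen_le r)).op s = 0 ↔ c ∈ (IZ x).ideal ⟨X.basicOpen r, hU.basicOpen r⟩ := by
  letI := (X.presheaf.map (homOfLE (X.basicOpen_le r)).op).hom.toAlgebra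
  haveI := hU.isLocalization_basicOpen r
  obtain ⟨⟨a, t⟩, e⟩ := IsLocalization.surj (Submonoid.powers r) c
  have hu := IsLocalization.map_units Γ(X, X.basicOpen r) t
  show _ ↔ c ∈ (IZ x).ideal (X.affineBasicOpen (U := ⟨U, hU⟩) r)
  rw [← (IZ x).map_ideal_basicOpen ⟨U, hU⟩ r, ideal_IZ x hU hx]
  show _ ↔ c ∈ Ideal.map (algebraMap Γ(X, U) Γ(X, X.basicOpen r)) _
  rw [← Ideal.unit_mul_mem_iff_mem _ hu, mul_comm, e,
    IsLocalization.algebraMap_mem_map_algebraMap_iff (Submonoid.powers r),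
    ← hu.smul_eq_zero, smul_smul, mul_comm, e]
  show (X.presheaf.map (homOfLE (X.basicOpen_le r)).op).hom a • _ = 0 ↔ _
  rw [← QCohLib.map_smul']
  refine ⟨fun h => ?_, ?_⟩
  · obtain ⟨n, hn⟩ := (QCohLib.localizingAt_of_isQCoh hU F r).eq_zero _ h
    rw [show (X.presheaf.map (homOfLE (le_refl U)).op).hom r = r by
      rw [Subsingleton.elim (homOfLE (le_refl U)).op (𝟙 _)]; simp, smul_smul] at hn
    exact ⟨r ^ n, ⟨n, rfl⟩, (hs _).1 hn⟩
  · rintro ⟨m, hm, hma⟩
    refine (IsLocalization.map_units Γ(X, X.basicOpen r) (⟨m, hm⟩ : Submonoid.powers r)).smul_eq_zero.1 ?_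
    show (X.presheaf.map (homOfLE (X.basicOpen_le r)).op).hom m • _ = 0
    rw [← QCohLib.map_smul', smul_smul, (hs _).2 hma, map_zero]

/-- The kernels of the two maps coincide on every open of `U`. -/
theorem key' {F : X.Modules} [Coh.IsQCoh F] {x : X} {U : X.Opens} (hU : IsAffineOpen U) (hx : x ∈ U)
    (s : Γ(F, U)) (hs : ∀ a, a • s = 0 ↔ a ∈ (hU.primeIdealOf ⟨x, hx⟩).asIdeal) {V : X.Opens} (hV : V ≤ U)
    (c : Γ(X, V)) :
    c • F.presheaf.map (homOfLE hV).op s = 0 ↔ (piZ x).app V c = 0 := by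
  constructor <;> intro h
  · refine TopCat.Presheaf.section_ext (F := ⟨(GZ x).presheaf, (GZ x).isSheaf⟩) V _ _ fun p hp => ?_
    obtain ⟨r, hr, hpr⟩ := QCohLib.exists_basicOpen_nhd hU hp (hV hp)
    have h1 := congrArg (F.presheaf.map (homOfLE hr).op) h
    rw [QCohLib.map_smul', map_zero, QCohLib.map_map', show homOfLE hr ≫ homOfLE hV = homOfLE (X.basicOpen_le r) from rfl] at h1
    erw [key hU hx s hs r] at h1
    rw [ ← piZ_app_eq_zero x (hU.basicOpen r)] at h1
    show gm (GZ x) p hp _ = gm (GZ x) p hp 0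
    rw [← gm_map (GZ x) hr p hpr]
    erw [← QCohLib.app_map, h1]
    rw [gm_zero, gm_zero]
  · refine TopCat.Presheaf.section_ext (F := ⟨F.presheaf, F.isSheaf⟩) V _ _ fun p hp => ?_
    obtain ⟨r, hr, hpr⟩ := QCohLib.exists_basicOpen_nhd hU hp (hV hp)
    have h1 := congrArg ((GZ x).presheaf.map (homOfLE hr).op) h
    rw [← QCohLib.app_map, map_zero, piZ_app_eq_zero x (hU.basicOpen r), ← key hU hx s hs r] at h1
    show gm F p hp _ = gm F p hp 0
    rw [← gm_map F hr p hpr, QCohLib.map_smul', QCohLib.map_map']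
    erw [h1]
    rw [gm_zero, gm_zero]

end


/-- Let X be a locally Noetherian scheme, F a quasi-coherent O_X-module and x a point of X; let Z be the
reduced closed subscheme of X whose underlying space is the closure of x, and O_Z its structure
sheaf viewed as an O_X-module. Then x is an associated point of F if and only if x has an open
neighbourhood U over which there is a monomorphism of O_U-modules O_Z|_U → F|_U. -/
theorem result {X : Scheme.{u}} [IsLocallyNoetherian X] (F : X.Modules)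
    (hF : Coh.IsQCoh F) (x : X) :
    x ∈ AssSch.Ass F ↔ ∃ (U : X.Opens), x ∈ U ∧
      ∃ φ : (Scheme.Modules.pullback U.ι).obj
              ((Scheme.Modules.pushforward (Scheme.IdealSheafData.vanishingIdeal ⟨closure {x}, isClosed_closure⟩).subschemeι).obj
                (Coh.structureModule (Scheme.IdealSheafData.vanishingIdeal ⟨closure {x}, isClosed_closure⟩).subscheme)) ⟶
            (Scheme.Modules.pullback U.ι).obj F, Mono φ := by
  haveI := hF
  constructor
  · intro hxA
    obtain ⟨U, hU, hxU⟩ := QCohLib.exists_affine_nhd x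
    haveI : IsNoetherianRing Γ(X, U) := IsLocallyNoetherian.component_noetherian ⟨U, hU⟩
    obtain ⟨s₀, hs₀⟩ := (AssPointLib.weak_iff hU hxU).1 ((AssPointLib.assPoint_iff_weak F x).1 hxA)
    rw [AssPointLib.ann_eq_colon] at hs₀
    obtain ⟨s, hs'⟩ := Submodule.exists_eq_colon_of_mem_minimalPrimes hs₀
    have hs : ∀ c, c • s = 0 ↔ c ∈ (hU.primeIdealOf ⟨x, hxU⟩).asIdeal := fun c => by
      rw [hs', Submodule.mem_colon_singleton, Submodule.mem_bot]
    let O' := (Scheme.Modules.restrictFunctor U.ι).obj (Coh.structureModule X)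
    let π' : O' ⟶ (Scheme.Modules.restrictFunctor U.ι).obj (GZ x) := (Scheme.Modules.restrictFunctor U.ι).map (piZ x)
    have hle : ∀ W : (U : Scheme.{u}).Opens, U.ι ''ᵁ W ≤ U := fun W => U.ι_image_le W
    let σ : O' ⟶ (Scheme.Modules.restrictFunctor U.ι).obj F :=
      (Scheme.Modules.restrictUnitIso U.ι).hom ≫ QCohLib.unitHom ((Scheme.Modules.restrictFunctor U.ι).obj F)
        (F.presheaf.map (homOfLE (hle ⊤)).op s : Γ(F, U.ι ''ᵁ ⊤))
    have hσ : ∀ (W : (U : Scheme.{u}).Opens) (c : Γ(X, U.ι ''ᵁ W)),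
        σ.app W c = (c • F.presheaf.map (homOfLE (hle W)).op s : Γ(F, U.ι ''ᵁ W)) := by
      intro W c
      show (QCohLib.unitHom _ _).app W ((Scheme.Modules.restrictUnitIso U.ι).hom.app W c) = _
      rw [QCohLib.unitHom_app]
      show ((U.ι.appIso W).inv ((U.ι.appIso W).hom c) : Γ(X, U.ι ''ᵁ W)) •
        (F.presheaf.map (U.ι.opensFunctor.map (homOfLE (le_top : W ≤ ⊤))).op
          (F.presheaf.map (homOfLE (hle ⊤)).op s) : Γ(F, U.ι ''ᵁ W)) = _
      rw [Iso.hom_inv_id_apply]
      exact congrArg (c • ·) (QCohLib.map_map' F _ _ s)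
    have hkey : ∀ (W : (U : Scheme.{u}).Opens) (c : Γ(O', W)), π'.app W c = 0 ↔ σ.app W c = 0 := by
      intro W c
      refine Iff.trans ?_ (by rw [hσ W c])
      exact (key' hU hxU s hs (hle W) c).symm
    haveI : Epi (piZ x) := by
      refine Preadditive.epi_of_cokernel_zero ?_
      refine zero_of_target_iso_zero _ (IsZero.isoZero (isZero_of_support_empty
        (Set.eq_empty_of_forall_notMem fun p hp => ?_)))
      refine notMem_support_cokernel (piZ x) p (fun b => ?_) hp
      obtain ⟨W, hW, b', rfl⟩ := exists_gm_eq (GZ x) p b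
      obtain ⟨V, hV, hpV, hVW⟩ := exists_isAffineOpen_mem_and_subset (U := W) hW
      obtain ⟨c, hc⟩ := piZ_surjective x hV ((GZ x).presheaf.map (homOfLE hVW).op b')
      exact ⟨gm _ p hpV c, by rw [gm_app, hc]; exact gm_map (GZ x) (V := V) hVW p hpV b'⟩
    haveI : Epi π' := (Scheme.Modules.restrictFunctor U.ι).map_epi _
    have h1 : Limits.kernel.ι π' ≫ σ = 0 := Scheme.Modules.hom_ext _ _ fun W => ConcreteCategory.hom_ext _ _ fun z =>
      (hkey W _).1 (congr($(Limits.kernel.condition π').app W z))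
    have h2 : Limits.kernel.ι σ ≫ π' = 0 := Scheme.Modules.hom_ext _ _ fun W => ConcreteCategory.hom_ext _ _ fun z =>
      (hkey W _).2 (congr($(Limits.kernel.condition σ).app W z))
    let φ := Abelian.epiDesc π' σ h1
    have hφ : π' ≫ φ = σ := Abelian.comp_epiDesc π' σ h1
    let ψ := Abelian.epiDesc (Abelian.factorThruImage σ) π' (by
      rw [← cancel_mono (𝟙 _)]
      have hh : Limits.kernel.ι (Abelian.factorThruImage σ) ≫ σ = 0 := by
        conv_lhs => arg 2; rw [← Abelian.image.fac σ]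
        rw [Limits.kernel.condition_assoc, zero_comp]
      rw [← Limits.kernel.lift_ι σ _ hh, Category.assoc, Category.assoc, Category.comp_id, h2, comp_zero, zero_comp])
    have hψ : Abelian.factorThruImage σ ≫ ψ = π' := Abelian.comp_epiDesc _ _ _
    have hmono : Mono φ := by
      refine Preadditive.mono_of_cancel_zero _ fun {A} w hw => ?_
      have e2 : φ = Abelian.epiDesc π' (Abelian.factorThruImage σ) (by
          rw [← cancel_mono (Abelian.image.ι σ), Category.assoc, Abelian.image.fac, h1, zero_comp]) ≫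
            Abelian.image.ι σ := by
        rw [← cancel_epi π', hφ, ← Category.assoc, Abelian.comp_epiDesc, Abelian.image.fac]
      have e3 : ∀ hh, Abelian.epiDesc π' (Abelian.factorThruImage σ) hh ≫ ψ = 𝟙 _ := fun hh => by
        rw [← cancel_epi π', ← Category.assoc, Abelian.comp_epiDesc, hψ, Category.comp_id]
      rw [e2, ← Category.assoc] at hw
      replace hw := (cancel_mono (Abelian.image.ι σ)).1 (hw.trans zero_comp.symm)
      have := congrArg (· ≫ ψ) hw
      simpa [e3] using this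
    haveI := hmono
    let eG := (Scheme.Modules.restrictFunctorIsoPullback U.ι).app (GZ x)
    let eF := (Scheme.Modules.restrictFunctorIsoPullback U.ι).app F
    exact ⟨U, hxU, eG.inv ≫ φ ≫ eF.hom, inferInstance⟩
  · rintro ⟨U, hxU, φ₀, hφ₀⟩
    haveI := hφ₀
    let φ := ((Scheme.Modules.restrictFunctorIsoPullback U.ι).app (GZ x)).hom ≫ φ₀ ≫
      ((Scheme.Modules.restrictFunctorIsoPullback U.ι).app F).inv
    haveI : Mono φ := inferInstanceAs (Mono (_ ≫ _ ≫ _))
    obtain ⟨V₀, hV₀, hxV₀, hVU⟩ := exists_isAffineOpen_mem_and_subset (U := U) hxU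
    let W : (U : Scheme.{u}).Opens := U.ι ⁻¹ᵁ V₀
    have hW : IsAffineOpen (U.ι ''ᵁ W) := by
      rw [Scheme.Hom.image_preimage_eq_opensRange_inf, Scheme.Opens.opensRange_ι, inf_eq_right.2 (show V₀ ≤ U from hVU)]
      exact hV₀
    have hxW : x ∈ U.ι ''ᵁ W := ⟨⟨x, hxU⟩, hxV₀, rfl⟩
    let one : Γ(GZ x, U.ι ''ᵁ W) := (1 : Γ((IZ x).subscheme, (IZ x).subschemeι ⁻¹ᵁ (U.ι ''ᵁ W)))
    let σ : Γ(F, U.ι ''ᵁ W) := φ.app W one
    have hlin : ∀ a : Γ(X, U.ι ''ᵁ W), φ.app W (a • one : Γ(GZ x, U.ι ''ᵁ W)) = (a • σ : Γ(F, U.ι ''ᵁ W)) := by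
      intro a
      have := QCohLib.app_smul φ W ((U.ι.appIso W).hom a) one
      change φ.app W ((((U.ι.appIso W).inv ((U.ι.appIso W).hom a)) • one : Γ(GZ x, U.ι ''ᵁ W))) =
        (((U.ι.appIso W).inv ((U.ι.appIso W).hom a)) • σ : Γ(F, U.ι ''ᵁ W)) at this
      rwa [Iso.hom_inv_id_apply] at this
    have hann : ∀ a, a • σ = 0 ↔ a ∈ (hW.primeIdealOf ⟨x, hxW⟩).asIdeal := by
      intro a
      rw [← ideal_IZ x hW hxW, ← piZ_app_eq_zero x hW, ← hlin]
      have h1 : (piZ x).app (U.ι ''ᵁ W) a = a • one := by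
        rw [piZ_app]
        exact (mul_one (((IZ x).subschemeι.app (U.ι ''ᵁ W)).hom a)).symm
      rw [h1]
      exact ⟨fun h => QCohLib.app_injective_of_mono φ W (h.trans (map_zero _).symm),
        fun h => by rw [h]; exact map_zero _⟩
    refine (AssPointLib.assPoint_iff_weak F x).2 ((AssPointLib.weak_iff hW hxW).2 ⟨σ, ?_⟩)
    have e : AssPointLib.ann Γ(X, U.ι ''ᵁ W) σ = (hW.primeIdealOf ⟨x, hxW⟩).asIdeal := by
      ext a; exact hann a
    rw [e, Ideal.minimalPrimes_eq_subsingleton_self]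
    rfl

end Groth.Agent.S4658
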