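import Groth.Statements.S4660
import Groth.Agent.RedModLib.Integral
-- import your own Groth.Agent.* helpers here

set_option autoImplicit false
set_option maxHeartbeats 1000000
set_option maxSynthPendingDepth 4
set_option backward.isDefEq.respectTransparency false
set_option backward.isDefEq.respectTransparency.types false
open CategoryTheory AlgebraicGeometry
universe u
open FBase

namespace Groth.Agent.S4660
open CategoryTheory.Limits

open RedModLib in
/-- The two conditions on a coherent module that make all its base changes integral. -/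
theorem geomInt_of_forall {k : Type u} [Field k] {X : Scheme.{u}} [IsLocallyNoetherian X]
    (f : X ⟶ Spec (CommRingCat.of k)) (F : X.Modules) (hF : Coh.IsCoh F)
    (h : ∀ (k' : Type u) [Field k'] [Algebra k k'] [FiniteDimensional k k'],
        ∃ x' : ↥(FBase.bc f k'), AssSch.Ass ((Scheme.Modules.pullback (FBase.bcπ f k')).obj F) = {x'} ∧
          Module.length ↑((FBase.bc f k').presheaf.stalk x') ↑(((Scheme.Modules.pullback (FBase.bcπ f k')).obj F).presheaf.stalk x') = 1) :
    GeomRedAt f F ∧ ∃ x, AssSch.Ass F = {x} ∧ GeometricallyIrreducible (X.fromSpecResidueField x ≫ f) := by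
  have hgr : GeomRedAt f F := geomRedAt_of_forall f hF fun k' _ _ _ _ => by
    obtain ⟨x', hA, hl⟩ := h k'
    refine ⟨fun a ha b hb _ => ?_, fun a ha => ?_⟩
    · rw [hA, Set.mem_singleton_iff] at ha hb
      rw [ha, hb]
    · rw [hA, Set.mem_singleton_iff] at ha
      rw [ha]; exact hl
  refine ⟨hgr, ?_⟩
  have key : ∀ (k' : Type u) [Field k'] [Algebra k k'] [FiniteDimensional k k'],
      ∃ x : X, AssSch.Ass F = {x} ∧
        IrreducibleSpace ↥(pullback (X.fromSpecResidueField x ≫ f) (Spec.map (CommRingCat.ofHom (algebraMap k k')))) := by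
    intro k' _ _ _
    haveI : IsFinite (Spec.map (CommRingCat.ofHom (algebraMap k k'))) :=
      (IsFinite.SpecMap_iff _).2 (RingHom.finite_algebraMap.2 inferInstance)
    haveI : Surjective (Spec.map (CommRingCat.ofHom (algebraMap k k'))) :=
      ⟨fun _ => ⟨Classical.arbitrary _, Subsingleton.elim _ _⟩⟩
    haveI : LocallyOfFiniteType (FBase.bcπ f k') := by delta FBase.bcπ; infer_instance
    haveI : Surjective (FBase.bcπ f k') := by delta FBase.bcπ; infer_instance
    haveI : Flat (FBase.bcπ f k') := by
      haveI := flat_to_spec_field (Spec.map (CommRingCat.ofHom (algebraMap k k')))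
      delta FBase.bcπ; infer_instance
    haveI : IsLocallyNoetherian (FBase.bc f k') := LocallyOfFiniteType.isLocallyNoetherian (FBase.bcπ f k')
    obtain ⟨x', hA, -⟩ := h k'
    have hx : FBase.bcπ f k' x' ∈ AssSch.Ass F :=
      ((mem_ass_pullback_iff (FBase.bcπ f k') F hF x').1 (hA ▸ rfl)).1
    have hsub : (AssSch.Ass ((Scheme.Modules.pullback (FBase.bcπ f k')).obj F)).Subsingleton :=
      hA ▸ Set.subsingleton_singleton
    have hred : ∀ y ∈ AssSch.Ass F, AlgebraicGeometry.IsReduced ((FBase.bcπ f k').fiber y) := fun y hy =>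
      isReduced_fiber_baseChange f (FBase.bcπ f k') (FBase.bcStr f k') _ (IsPullback.of_hasPullback _ _) y (hgr y hy).2.2
    have hne : ∀ y, Nonempty ↥((FBase.bcπ f k').fiber y) := fun y => by
      obtain ⟨a, rfl⟩ := (FBase.bcπ f k').surjective y
      exact ⟨(FBase.bcπ f k').asFiber a⟩
    refine ⟨FBase.bcπ f k' x', Set.eq_singleton_iff_unique_mem.2 ⟨hx, fun y hy => ?_⟩, ?_⟩
    · haveI := hred y hy
      haveI := isLocallyNoetherian_fiber (FBase.bcπ f k') y
      obtain ⟨u, hu, -, -⟩ := exists_ass_structure_specializes (hne y).some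
      have := exists_mem_ass_pullback (FBase.bcπ f k') F hF y hy u hu
      rw [hA, Set.mem_singleton_iff] at this
      rw [← this, AssFlatLib.f_fiberι]
    · set y := FBase.bcπ f k' x'
      haveI := hred y hx
      haveI := hne y
      haveI := isLocallyNoetherian_fiber (FBase.bcπ f k') y
      haveI := subsingleton_ass_structure_iff.1 (subsingleton_ass_fiber (FBase.bcπ f k') F hF hsub y hx)
      let e : (FBase.bcπ f k').fiber y ≅ pullback (X.fromSpecResidueField y ≫ f)
          (Spec.map (CommRingCat.ofHom (algebraMap k k'))) :=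
        (IsPullback.of_hasPullback (FBase.bcπ f k') (X.fromSpecResidueField y)).flip.paste_vert
          (IsPullback.of_hasPullback f (Spec.map (CommRingCat.ofHom (algebraMap k k')))) |>.isoPullback
      exact (irreducibleSpace_def _).2 (by
        show IsIrreducible (Set.univ : Set _)
        rw [← Set.range_eq_univ.2 e.hom.surjective, ← Set.image_univ]
        exact ((irreducibleSpace_def _).1 inferInstance).image _ e.hom.continuous.continuousOn)
  obtain ⟨x, hx, -⟩ := key k
  refine ⟨x, hx, GeomIrrLib.gi_of_finite_separable _ fun k' _ _ _ _ => ?_⟩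
  obtain ⟨x', hx', hirr⟩ := key k'
  obtain rfl : x = x' := Set.singleton_eq_singleton_iff.1 (hx.symm.trans hx')
  exact hirr



/-- Let X be a locally Noetherian scheme over a field k and F a coherent O_X-module. A coherent module
is called integral when it has exactly one associated point and its stalk at that point has length
one over the local ring. Then F ⊗_k k' is integral on X ⊗_k k' for every finite extension k' of k if
and only if F ⊗_k K is integral on X ⊗_k K for every extension K of k such that X ⊗_k K is locally
Noetherian. (The published statement takes K finitely generated over k, a hypothesis used only to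
make X ⊗_k K locally Noetherian.) -/
theorem result {k : Type u} [Field k] {X : Scheme.{u}} [IsLocallyNoetherian X]
    (f : X ⟶ Spec (CommRingCat.of k)) (F : X.Modules) (hF : Coh.IsCoh F) :
    (∀ (k' : Type u) [Field k'] [Algebra k k'] [FiniteDimensional k k'],
        ∃ x' : ↥(FBase.bc f k'), AssSch.Ass ((Scheme.Modules.pullback (FBase.bcπ f k')).obj F) = {x'} ∧
          Module.length ↑((FBase.bc f k').presheaf.stalk x') ↑(((Scheme.Modules.pullback (FBase.bcπ f k')).obj F).presheaf.stalk x') = 1) ↔
      ∀ (K : Type u) [Field K] [Algebra k K] [IsLocallyNoetherian (FBase.bc f K)],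
        ∃ x' : ↥(FBase.bc f K), AssSch.Ass ((Scheme.Modules.pullback (FBase.bcπ f K)).obj F) = {x'} ∧
          Module.length ↑((FBase.bc f K).presheaf.stalk x') ↑(((Scheme.Modules.pullback (FBase.bcπ f K)).obj F).presheaf.stalk x') = 1 := by
  constructor
  · intro h K _ _ _
    obtain ⟨hgr, x, hx, hgi⟩ := geomInt_of_forall f F hF h
    haveI : Flat (FBase.bcπ f K) := by
      haveI := RedModLib.flat_to_spec_field (Spec.map (CommRingCat.ofHom (algebraMap k K)))
      delta FBase.bcπ; infer_instance
    have hxA : x ∈ AssSch.Ass F := hx ▸ rfl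
    haveI := RedModLib.isReduced_fiber_baseChange f (FBase.bcπ f K) (FBase.bcStr f K) _
      (IsPullback.of_hasPullback _ _) x (hgr x hxA).2.2
    haveI := hgi
    let e : (FBase.bcπ f K).fiber x ≅ pullback (X.fromSpecResidueField x ≫ f)
        (Spec.map (CommRingCat.ofHom (algebraMap k K))) :=
      (IsPullback.of_hasPullback (FBase.bcπ f K) (X.fromSpecResidueField x)).flip.paste_vert
        (IsPullback.of_hasPullback f (Spec.map (CommRingCat.ofHom (algebraMap k K)))) |>.isoPullback
    haveI : IrreducibleSpace ↥((FBase.bcπ f K).fiber x) := (irreducibleSpace_def _).2 (by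
        show IsIrreducible (Set.univ : Set _)
        rw [← Set.range_eq_univ.2 e.inv.surjective, ← Set.image_univ]
        exact ((irreducibleSpace_def _).1 inferInstance).image _ e.inv.continuous.continuousOn)
    obtain ⟨x', hx'⟩ := RedModLib.ass_pullback_eq_singleton (FBase.bcπ f K) F hF x hx
    exact ⟨x', hx', (RedModLib.isReducedMod_baseChange f hF hgr (FBase.bcπ f K) (FBase.bcStr f K) _
      (IsPullback.of_hasPullback _ _)).2 x' (hx' ▸ rfl)⟩
  · intro h k' _ _ _
    haveI : IsFinite (Spec.map (CommRingCat.ofHom (algebraMap k k'))) :=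
      (IsFinite.SpecMap_iff _).2 (RingHom.finite_algebraMap.2 inferInstance)
    haveI : LocallyOfFiniteType (FBase.bcπ f k') := by delta FBase.bcπ; infer_instance
    haveI : IsLocallyNoetherian (FBase.bc f k') := LocallyOfFiniteType.isLocallyNoetherian (FBase.bcπ f k')
    exact h k'


end Groth.Agent.S4660
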