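import Groth.Statements.S4661
import Groth.Agent.RedModLib.Basic
import Groth.Agent.ConsLib.ModLoci
import Groth.Agent.MiscFlat6.QuasiFlat
import Groth.Agent.GeomRedFieldLib.Generic
import Groth.Agent.CycPushLib.SheafPush
-- import your own Groth.Agent.* helpers here

set_option autoImplicit false
set_option maxHeartbeats 1000000
set_option maxSynthPendingDepth 4
set_option backward.isDefEq.respectTransparency false
set_option backward.isDefEq.respectTransparency.types false
open CategoryTheory AlgebraicGeometry
universe u
open FBase

namespace Groth.Agent.S4661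
open CategoryTheory.Limits


open CategoryTheory.Limits in
/-- Let X and Y be locally Noetherian schemes over a field k such that X ×_k Y is locally Noetherian, F
a coherent O_X-module which is geometrically reduced over k (F ⊗_k k' is a reduced module for every
finite purely inseparable extension k' of k) and G a coherent O_Y-module which is a reduced module.
Then F ⊗_k G, i.e. the tensor product on X ×_k Y of the inverse images of F and G, is a reduced
module. -/
theorem result {k : Type u} [Field k] {X Y : Scheme.{u}}
    [IsLocallyNoetherian X] [IsLocallyNoetherian Y] (f : X ⟶ Spec (CommRingCat.of k)) (g : Y ⟶ Spec (CommRingCat.of k))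
    [IsLocallyNoetherian (pullback f g)] (F : X.Modules) (hF : Coh.IsCoh F) (G : Y.Modules) (hG : Coh.IsCoh G)
    (hFgr : ∀ (k' : Type u) [Field k'] [Algebra k k'] [FiniteDimensional k k'] [IsPurelyInseparable k k'],
      AssSch.IsReducedMod ((Scheme.Modules.pullback (FBase.bcπ f k')).obj F))
    (hGr : AssSch.IsReducedMod G) :
    AssSch.IsReducedMod (CohB1.tensorMod ((Scheme.Modules.pullback (pullback.fst f g)).obj F)
      ((Scheme.Modules.pullback (pullback.snd f g)).obj G)) := by
  have hgr := RedModLib.geomRedAt_of_forall f hF hFgr
  haveI := hF.1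
  haveI := hG.1
  set F' := (Scheme.Modules.pullback (pullback.fst f g)).obj F with hF'
  set G' := (Scheme.Modules.pullback (pullback.snd f g)).obj G with hG'
  have hcomm : ∀ x, Nonempty ((CohB1.tensorMod F' G').presheaf.stalk x ≃ₗ[(pullback f g).presheaf.stalk x]
      (CohB1.tensorMod G' F').presheaf.stalk x) := fun x =>
    ⟨((LinearEquiv.ofBijective (KFlatLib.stalkTensorLin F' G' x)
        (KFlatLib.stalkTensorLin_bijective F' G' x)).symm).trans
      ((_root_.TensorProduct.comm _ _ _).trans
        (LinearEquiv.ofBijective (KFlatLib.stalkTensorLin G' F' x) (KFlatLib.stalkTensorLin_bijective G' F' x)))⟩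
  have hflatF : FlatMod.IsFlatOver f F := by
    intro x
    letI : Module ((Spec (CommRingCat.of k)).presheaf.stalk (f x)) (F.presheaf.stalk x) :=
      FlatMod.moduleStalkOver f F x
    letI := (GeomRedFieldLib.isField_stalk_generic (Y := Spec (CommRingCat.of k)) (y := f x)
      (Subsingleton.elim _ _)).toField
    show Module.Flat ((Spec (CommRingCat.of k)).presheaf.stalk (f x)) (F.presheaf.stalk x)
    infer_instance
  have hflat : FlatMod.IsFlatOver (pullback.snd f g) F' :=
    MiscFlat6.QFlat.isFlatOver_pullback f F hflatF g
  rw [RedModLib.isReducedMod_congr hcomm,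
    Groth.Agent.S2546.result (pullback.snd f g) G hG F' (ConsLib.isCoh_pullback _ hF) hflat]
  intro y hy
  refine ⟨fun y' hy' h => (hGr.1 y hy.1 y' hy' h).symm, hGr.2 y hy.1, ?_⟩
  haveI := RedModLib.isLocallyNoetherian_fiber (pullback.snd f g) y
  have hsq : IsPullback ((pullback.snd f g).fiberι y ≫ pullback.fst f g)
      ((pullback.snd f g).fiberToSpecResidueField y) f (Y.fromSpecResidueField y ≫ g) :=
    (IsPullback.of_hasPullback (pullback.snd f g) (Y.fromSpecResidueField y)).paste_horiz
      (IsPullback.of_hasPullback f g)
  have h := RedModLib.isReducedMod_baseChange f hF hgr _ _ _ hsq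
  refine (RedModLib.isReducedMod_congr fun z => ⟨?_⟩).1 h
  exact ((DerSch.stalkFunctor _ z).mapIso
    ((Scheme.Modules.pullbackComp ((pullback.snd f g).fiberι y) (pullback.fst f g)).app F).symm).toLinearEquiv


end Groth.Agent.S4661
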