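import Groth.Statements.S4664
import Mathlib
-- import your own Groth.Agent.* helpers here

set_option autoImplicit false
open CategoryTheory AlgebraicGeometry
universe u
open FBase

namespace Groth.Agent.S4664

open Limits MorphismProperty

open CategoryTheory.Limits in
/-- Let f : X → Y and g : Y' → Y be morphisms of schemes with g surjective, and let f' : X ×_Y Y' → Y'
be the base change of f. If every fibre of f' is geometrically irreducible, then every fibre of f is
geometrically irreducible. -/
theorem result {X Y Y' : Scheme.{u}} (f : X ⟶ Y)
    (g : Y' ⟶ Y) [Surjective g] [GeometricallyIrreducible (pullback.snd f g)] : GeometricallyIrreducible f := by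
  refine ⟨geometrically_iff_of_isClosedUnderIsomorphisms.mpr fun K _ x => ?_⟩
  obtain ⟨s₀⟩ : Nonempty ↥(Spec (.of K)) := inferInstance
  obtain ⟨p, -⟩ := (pullback.fst x g).surjective s₀
  let l := (pullback x g).fromSpecResidueField p
  let k := l ≫ pullback.fst x g
  have hk : Surjective k := ⟨fun s => by
    have : Subsingleton ↥(Spec (.of K)) := inferInstanceAs (Subsingleton (PrimeSpectrum K))
    exact ⟨Classical.arbitrary _, Subsingleton.elim _ _⟩⟩
  have h1 : IrreducibleSpace ↥(pullback (pullback.snd f g) (l ≫ pullback.snd x g)) :=
    GeometricallyIrreducible.geometrically_irreducibleSpace _ _ _ (.of_hasPullback _ _)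
  let e := pullbackLeftPullbackSndIso f g (l ≫ pullback.snd x g) ≪≫
    pullback.congrHom rfl (show (l ≫ pullback.snd x g) ≫ g = k ≫ x by
      simp [k, pullback.condition]) ≪≫ (pullbackLeftPullbackSndIso f x k).symm
  have h2 := e.hom.homeomorph.irreducibleSpace_iff.1 h1
  exact (pullback.fst (pullback.snd f x) k).surjective.irreducibleSpace
    (pullback.fst (pullback.snd f x) k).continuous

end Groth.Agent.S4664
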