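import Groth.Statements.S4665
import Mathlib
-- import your own Groth.Agent.* helpers here

set_option autoImplicit false
open CategoryTheory AlgebraicGeometry
universe u
open FBase

namespace Groth.Agent.S4665

open CategoryTheory.Limits in
/-- Let f : X → Y and g : Y' → Y be morphisms of schemes with g surjective, and let f' : X ×_Y Y' → Y'
be the base change of f. Say that a morphism has geometrically connected fibres when, for every
field K and every morphism from Spec K to its target, the base change to Spec K is empty or
connected (so an empty fibre counts as geometrically connected). If f' has geometrically connected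
fibres in this sense, then so has f. -/
theorem result {X Y Y' : Scheme.{u}} (f : X ⟶ Y)
    (g : Y' ⟶ Y) [Surjective g]
    (h : geometrically (fun Z : Scheme.{u} => IsEmpty ↥Z ∨ ConnectedSpace ↥Z) (pullback.snd f g)) :
    geometrically (fun Z : Scheme.{u} => IsEmpty ↥Z ∨ ConnectedSpace ↥Z) f := by
  have : ObjectProperty.IsClosedUnderIsomorphisms
      (fun Z : Scheme.{u} => IsEmpty ↥Z ∨ ConnectedSpace ↥Z) :=
    ⟨fun e h => h.imp (fun h => @Function.isEmpty _ _ h e.inv.homeomorph)
      (fun h => e.hom.homeomorph.connectedSpace_iff.1 h)⟩
  refine geometrically_iff_of_isClosedUnderIsomorphisms.mpr fun K _ x => ?_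
  obtain ⟨s₀⟩ : Nonempty ↥(Spec (.of K)) := inferInstance
  obtain ⟨p, -⟩ := (Limits.pullback.fst x g).surjective s₀
  let l := (Limits.pullback x g).fromSpecResidueField p
  let k := l ≫ Limits.pullback.fst x g
  have hk : Surjective k := ⟨fun s => by
    have : Subsingleton ↥(Spec (.of K)) := inferInstanceAs (Subsingleton (PrimeSpectrum K))
    exact ⟨Classical.arbitrary _, Subsingleton.elim _ _⟩⟩
  have h1 : IsEmpty _ ∨ ConnectedSpace _ :=
    h (l ≫ Limits.pullback.snd x g) _ _ (.of_hasPullback (Limits.pullback.snd f g) _)
  let e := Limits.pullbackLeftPullbackSndIso f g (l ≫ Limits.pullback.snd x g) ≪≫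
    Limits.pullback.congrHom rfl (show (l ≫ Limits.pullback.snd x g) ≫ g = k ≫ x by
      simp [k, Limits.pullback.condition]) ≪≫ (Limits.pullbackLeftPullbackSndIso f x k).symm
  have hm : Function.Surjective (e.hom ≫ Limits.pullback.fst (Limits.pullback.snd f x) k) :=
    (e.hom ≫ Limits.pullback.fst (Limits.pullback.snd f x) k).surjective
  rcases h1 with h1 | h1
  · exact Or.inl ⟨fun z => h1.false (hm z).choose⟩
  · have : ConnectedSpace ↥(Limits.pullback (Limits.pullback.snd f g) (l ≫ Limits.pullback.snd x g)) := h1
    exact Or.inr (hm.connectedSpace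
      (e.hom ≫ Limits.pullback.fst (Limits.pullback.snd f x) k).continuous)

end Groth.Agent.S4665
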