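import Groth.Statements.S4674
import Mathlib
-- import your own Groth.Agent.* helpers here

set_option autoImplicit false
open scoped TensorProduct
universe u v w
open FDesc

namespace Groth.Agent.S4674

theorem aux {A : Type u} {B : Type v} [CommRing A] [CommRing B] [Algebra A B] [Module.Flat A B]
    (M : Type w) [AddCommGroup M] [Module A M] {n : ℕ} (m : Fin n → M)
    (hm : Submodule.span A (Set.range m) = ⊤) (b : B) (hb : ∀ x : B ⊗[A] M, b • x = 0) :
    b ∈ (Module.annihilator A M).map (algebraMap A B) := by
  let φ : A →ₗ[A] (Fin n → M) := LinearMap.pi fun i => LinearMap.toSpanSingleton A M (m i)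
  have hker : LinearMap.ker φ ≤ Module.annihilator A M := fun a ha => by
    rw [Module.mem_annihilator]
    intro x
    have hx : x ∈ Submodule.span A (Set.range m) := hm ▸ Submodule.mem_top
    induction hx using Submodule.span_induction with
    | mem y hy => obtain ⟨i, rfl⟩ := hy; exact congrFun ha i
    | zero => exact smul_zero a
    | add y z _ _ h1 h2 => rw [smul_add, h1, h2, add_zero]
    | smul r y _ h1 => rw [smul_comm, h1, smul_zero]
  have hex := Module.Flat.lTensor_exact (M := B) (LinearMap.exact_subtype_ker_map φ)
  have h0 : φ.lTensor B (b ⊗ₜ (1 : A)) = 0 := by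
    apply (TensorProduct.piRight A A B fun _ : Fin n => M).injective
    ext i
    have := hb ((1 : B) ⊗ₜ m i)
    rw [TensorProduct.smul_tmul', smul_eq_mul, mul_one] at this
    simpa [φ] using this
  obtain ⟨x, hx⟩ := (hex _).1 h0
  have key : ∀ x : B ⊗[A] LinearMap.ker φ,
      TensorProduct.rid A B ((LinearMap.ker φ).subtype.lTensor B x) ∈
        (Module.annihilator A M).map (algebraMap A B) := fun x => by
    induction x using TensorProduct.induction_on with
    | zero => simp
    | tmul c a =>
      simp only [LinearMap.lTensor_tmul, Submodule.coe_subtype, TensorProduct.rid_tmul,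
        Algebra.smul_def]
      exact Ideal.mul_mem_right _ _ (Ideal.mem_map_of_mem _ (hker a.2))
    | add y z h1 h2 => rw [map_add, map_add]; exact Ideal.add_mem _ h1 h2
  have := key x
  rw [hx] at this
  simpa using this

/-- Let B be a flat A-algebra and M a finitely presented A-module. Then the annihilator of the B-module
B ⊗_A M is the ideal of B generated by the image of the annihilator of M. -/
theorem result {A : Type u} {B : Type v} [CommRing A] [CommRing B] [Algebra A B]
    [Module.Flat A B] (M : Type w) [AddCommGroup M] [Module A M] [Module.FinitePresentation A M] :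
    Module.annihilator B (B ⊗[A] M) = (Module.annihilator A M).map (algebraMap A B) := by
  refine le_antisymm (fun b hb => ?_) ?_
  · obtain ⟨n, m, hm⟩ := Module.Finite.exists_fin (R := A) (M := M)
    exact aux M m hm b (Module.mem_annihilator.1 hb)
  · rw [Ideal.map_le_iff_le_comap]
    intro a ha
    rw [Ideal.mem_comap, Module.mem_annihilator]
    intro x
    induction x using TensorProduct.induction_on with
    | zero => rw [smul_zero]
    | tmul c y =>
      rw [algebraMap_smul, ← TensorProduct.tmul_smul, Module.mem_annihilator.1 ha y,
        TensorProduct.tmul_zero]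
    | add y z h1 h2 => rw [smul_add, h1, h2, add_zero]

end Groth.Agent.S4674
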