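import Groth.Statements.S4675
import Mathlib
-- import your own Groth.Agent.* helpers here

set_option autoImplicit false
universe u v
open FDesc

namespace Groth.Agent.S4675

/-- Let B be a ring, not necessarily commutative, and V, W two left B-modules which are isomorphic. For
a B-linear map u : V → W the following are equivalent: every B-linear map V → W can be written
uniquely as u ∘ c with c a B-linear endomorphism of V (that is, u is a basis of Hom_B(V, W) for its
right module structure over End_B(V)); u is bijective. -/
theorem result {B : Type u} [Ring B] {V W : Type v} [AddCommGroup V] [AddCommGroup W]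
    [Module B V] [Module B W] (e : V ≃ₗ[B] W) (u : V →ₗ[B] W) :
    (∀ v : V →ₗ[B] W, ∃! c : V →ₗ[B] V, v = u ∘ₗ c) ↔ Function.Bijective u := by
  constructor
  · intro h
    obtain ⟨c, hc, -⟩ := h e.toLinearMap
    have hc' : ∀ x, u (c x) = e x := fun x => (LinearMap.congr_fun hc x).symm
    refine ⟨?_, fun y => ⟨c (e.symm y), by rw [hc', e.apply_symm_apply]⟩⟩
    obtain ⟨z, -, huniq⟩ := h 0
    let p : V →ₗ[B] V := LinearMap.id - c ∘ₗ e.symm.toLinearMap ∘ₗ u
    have hp : (0 : V →ₗ[B] W) = u ∘ₗ p := by
      ext x
      simp [p, hc']
    have hp0 : p = 0 := (huniq p hp).trans (huniq 0 (by simp)).symm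
    intro x y hxy
    have h1 : ∀ z, z = c (e.symm (u z)) := fun z => by
      have := LinearMap.congr_fun hp0 z
      simpa [p, sub_eq_zero] using this
    rw [h1 x, h1 y, hxy]
  · intro h v
    refine ⟨(LinearEquiv.ofBijective u h).symm.toLinearMap ∘ₗ v, ?_, fun c hc => ?_⟩
    · ext x; simp
    · ext x
      apply h.1
      simp [hc]

end Groth.Agent.S4675
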