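import Groth.Statements.S4681
import Groth.Agent.FDescTensLib.Basic

set_option autoImplicit false
set_option backward.isDefEq.respectTransparency false
set_option backward.isDefEq.respectTransparency.types false
set_option maxHeartbeats 1000000
open CategoryTheory AlgebraicGeometry
universe u
open FDesc

namespace Groth.Agent.S4681


section Helpers

open IsLocalRing TensorProduct

theorem smul_top_ne {A B M : Type u} [CommRing A] [IsLocalRing A] [CommRing B] [IsLocalRing B] [Algebra A B]
    [IsLocalHom (algebraMap A B)] [AddCommGroup M] [Module B M] [Module A M] [IsScalarTower A B M]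
    (h : maximalIdeal B • (⊤ : Submodule B M) ≠ ⊤) : maximalIdeal A • (⊤ : Submodule A M) ≠ ⊤ := by
  intro h0
  refine h (eq_top_iff.2 fun x _ => ?_)
  have hx : x ∈ maximalIdeal A • (⊤ : Submodule A M) := by rw [h0]; trivial
  refine Submodule.smul_induction_on hx (fun a ha m _ => ?_) fun a b ha hb => add_mem ha hb
  rw [← algebraMap_smul B a m]
  have hle : (maximalIdeal A).map (algebraMap A B) ≤ maximalIdeal B :=
    ((IsLocalRing.local_hom_TFAE (algebraMap A B)).out 0 2).1 ‹_›
  exact Submodule.smul_mem_smul (hle (Ideal.mem_map_of_mem _ ha)) trivial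

theorem faithfullyFlat_of_local {B M : Type u} [CommRing B] [IsLocalRing B] [AddCommGroup M] [Module B M]
    [Module.Flat B M] (h : maximalIdeal B • (⊤ : Submodule B M) ≠ ⊤) : Module.FaithfullyFlat B M :=
  ⟨fun m hm => by
    obtain rfl := IsLocalRing.eq_maximalIdeal hm
    exact h⟩

theorem flat_of_comp {A B M : Type u} [CommRing A] [CommRing B] [Algebra A B] [AddCommGroup M] [Module B M]
    [Module A M] [IsScalarTower A B M] [Module.FaithfullyFlat B M] [Module.Flat A M] : Module.Flat A B := by
  haveI : Module.Flat A (M ⊗[B] B) := Module.Flat.of_linearEquiv ((TensorProduct.rid B M).restrictScalars A)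
  exact FDescTensLib.flat_of_module_tensor (D := A) (A := B) (N := M) (G := B)

theorem flatAt_comp_iff {X Y Z : Scheme.{u}} (f : X ⟶ Y) (g : Y ⟶ Z) (F : X.Modules) (x : X)
    (hfl : FlatMod.IsFlatOverAt f F x)
    (hne : letI := FlatMod.moduleStalkOver f F x
      maximalIdeal (Y.presheaf.stalk (f x)) • (⊤ : Submodule (Y.presheaf.stalk (f x)) (F.presheaf.stalk x)) ≠ ⊤) :
    ((g.stalkMap (f x)).hom.Flat ↔ FlatMod.IsFlatOverAt (f ≫ g) F x) ∧
      (letI := FlatMod.moduleStalkOver (f ≫ g) F x
      maximalIdeal (Z.presheaf.stalk ((f ≫ g) x)) • (⊤ : Submodule (Z.presheaf.stalk ((f ≫ g) x)) (F.presheaf.stalk x)) ≠ ⊤) := by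
  let A := Z.presheaf.stalk (g (f x))
  let B := Y.presheaf.stalk (f x)
  let M := F.presheaf.stalk x
  letI : Module B M := FlatMod.moduleStalkOver f F x
  letI : Algebra A B := (g.stalkMap (f x)).hom.toAlgebra
  letI : Module A M := FlatMod.moduleStalkOver (f ≫ g) F x
  haveI : IsScalarTower A B M := IsScalarTower.of_algebraMap_smul fun a n => by
    show (f.stalkMap x).hom ((g.stalkMap (f x)).hom a) • n = ((f ≫ g).stalkMap x).hom a • n
    rw [Scheme.Hom.stalkMap_comp f g x]
    rfl
  haveI : IsLocalHom (algebraMap A B) := inferInstanceAs (IsLocalHom (g.stalkMap (f x)).hom)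
  haveI : Module.Flat B M := hfl
  haveI : Module.FaithfullyFlat B M := faithfullyFlat_of_local hne
  refine ⟨⟨fun h => ?_, fun h => ?_⟩, smul_top_ne (A := A) hne⟩
  · haveI : Module.Flat A B := h
    exact (Module.Flat.trans A B M : Module.Flat A M)
  · haveI : Module.Flat A M := h
    exact (flat_of_comp (A := A) (B := B) (M := M) : Module.Flat A B)

end Helpers

/-- Let f : X → Y and g : Y → Z be morphisms of schemes and F a quasi-coherent O_X-module which is
faithfully flat relative to Y: flat over Y, and for every point y of Y there is a point x over y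
with F_x ⊗ κ(y) ≠ 0. Then g is flat and surjective (faithfully flat) if and only if F is faithfully
flat relative to Z for the morphism f followed by g: flat over Z, and for every point z of Z there
is a point x of X over z with F_x ⊗ κ(z) ≠ 0. -/
theorem result {X Y Z : Scheme.{u}} (f : X ⟶ Y) (g : Y ⟶ Z)
    (F : X.Modules) (hF : Coh.IsQCoh F) (hFfl : FlatMod.IsFlatOver f F)
    (hFff : (∀ y : ↥Y, ∃ x : ↥X, f x = y ∧
      letI := FlatMod.moduleStalkOver f F x
      IsLocalRing.maximalIdeal (Y.presheaf.stalk (f x)) • (⊤ : Submodule (Y.presheaf.stalk (f x)) (F.presheaf.stalk x)) ≠ ⊤)) :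
    (Flat g ∧ Surjective g) ↔
      (FlatMod.IsFlatOver (f ≫ g) F ∧
        (∀ z : ↥Z, ∃ x : ↥X, (f ≫ g) x = z ∧
      letI := FlatMod.moduleStalkOver (f ≫ g) F x
      IsLocalRing.maximalIdeal (Z.presheaf.stalk ((f ≫ g) x)) • (⊤ : Submodule (Z.presheaf.stalk ((f ≫ g) x)) (F.presheaf.stalk x)) ≠ ⊤)) := by
  constructor
  · rintro ⟨hg, hs⟩
    refine ⟨fun x => ?_, fun z => ?_⟩
    · letI := FlatMod.moduleStalkOver f F x
      letI : Algebra (Z.presheaf.stalk ((f ≫ g) x)) (Y.presheaf.stalk (f x)) := (g.stalkMap (f x)).hom.toAlgebra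
      letI := FlatMod.moduleStalkOver (f ≫ g) F x
      haveI : IsScalarTower (Z.presheaf.stalk ((f ≫ g) x)) (Y.presheaf.stalk (f x)) (F.presheaf.stalk x) :=
        IsScalarTower.of_algebraMap_smul fun a n => by
          show (f.stalkMap x).hom ((g.stalkMap (f x)).hom a) • n = ((f ≫ g).stalkMap x).hom a • n
          rw [Scheme.Hom.stalkMap_comp f g x]
          rfl
      haveI : Module.Flat (Z.presheaf.stalk ((f ≫ g) x)) (Y.presheaf.stalk (f x)) := Flat.stalkMap g (f x)
      haveI : Module.Flat (Y.presheaf.stalk (f x)) (F.presheaf.stalk x) := hFfl x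
      exact (Module.Flat.trans (Z.presheaf.stalk ((f ≫ g) x)) (Y.presheaf.stalk (f x)) (F.presheaf.stalk x) :)
    · obtain ⟨y, rfl⟩ := g.surjective z
      obtain ⟨x, rfl, hne⟩ := hFff y
      exact ⟨x, rfl, (flatAt_comp_iff f g F x (hFfl x) hne).2⟩
  · rintro ⟨hfl, hff⟩
    refine ⟨(Flat.iff_flat_stalkMap g).2 fun y => ?_, ⟨fun z => ?_⟩⟩
    · obtain ⟨x, rfl, hne⟩ := hFff y
      exact (flatAt_comp_iff f g F x (hFfl x) hne).1.2 (hfl x)
    · obtain ⟨x, hx, -⟩ := hff z
      exact ⟨f x, hx⟩

end Groth.Agent.S4681
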