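import Groth.Statements.S4682
import Groth.Agent.S4628
import Groth.Agent.DevissLib.ClosedImm
import Mathlib
-- import your own Groth.Agent.* helpers here

set_option autoImplicit false
open CategoryTheory AlgebraicGeometry
universe u
open FBase

namespace Groth.Agent.S4682
set_option linter.all false

/-- Let Y be a scheme over a field K', let K be an extension field of K' which is separable over K'
(Spec K → Spec K' is geometrically reduced), let g : Y ⊗_{K'} K → Y be the projection and T a closed
subset of Y ⊗_{K'} K. Then T is defined over K' as a closed subset, that is T = g⁻¹(T') for some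
closed subset T' of Y, if and only if the reduced closed subscheme of Y ⊗_{K'} K with support T is
defined over K', that is, there is a quasi-coherent ideal sheaf of O_Y whose inverse image in Y
⊗_{K'} K is the vanishing ideal sheaf of T. -/
theorem result {K' K : Type u} [Field K'] [Field K] [Algebra K' K]
    {Y : Scheme.{u}} (fY : Y ⟶ Spec (CommRingCat.of K'))
    [GeometricallyReduced (Spec.map (CommRingCat.ofHom (algebraMap K' K)))]
    (T : TopologicalSpace.Closeds ↥(FBase.bc fY K)) :
    (∃ T' : TopologicalSpace.Closeds ↥Y, (T : Set ↥(FBase.bc fY K)) = ⇑(FBase.bcπ fY K) ⁻¹' (T' : Set ↥Y)) ↔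
      ∃ J : Y.IdealSheafData, J.comap (FBase.bcπ fY K) = Scheme.IdealSheafData.vanishingIdeal T := by
  constructor
  · rintro ⟨T', hT⟩
    let J := Scheme.IdealSheafData.vanishingIdeal T'
    refine ⟨J, ?_⟩
    let π := FBase.bcπ fY K
    let pK := Spec.map (CommRingCat.ofHom (algebraMap K' K))
    haveI : IsReduced J.subscheme := DevissLib.isReduced_vanishingIdeal' T'
    have H : IsPullback (Limits.pullback.fst π J.subschemeι ≫ Limits.pullback.snd fY pK)
        (Limits.pullback.snd π J.subschemeι) pK (J.subschemeι ≫ fY) :=
      ((IsPullback.of_hasPullback π J.subschemeι).flip.paste_vert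
        (IsPullback.of_hasPullback fY pK)).flip |>.flip.flip
    haveI : IsReduced (Limits.pullback pK (J.subschemeι ≫ fY)) := Groth.Agent.S4628.result pK _
    haveI : IsReduced (Limits.pullback π J.subschemeι) :=
      isReduced_of_isOpenImmersion H.isoPullback.hom
    have hI : (J.comap π).radical = J.comap π := by
      refine le_antisymm (fun U => ?_) (Scheme.IdealSheafData.le_radical _)
      rw [Scheme.IdealSheafData.radical_ideal]
      show ((Limits.pullback.fst π J.subschemeι).ker.ideal U).radical ≤ _
      intro a ha
      obtain ⟨n, hn⟩ := ha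
      show a ∈ (Limits.pullback.fst π J.subschemeι).ker.ideal U
      rw [Scheme.Hom.ker_apply, RingHom.mem_ker] at hn ⊢
      exact eq_zero_of_pow_eq_zero (by rw [← map_pow]; exact hn)
    rw [← hI, ← Scheme.IdealSheafData.vanishingIdeal_support]
    congr 1
    rw [Scheme.IdealSheafData.support_comap]
    refine TopologicalSpace.Closeds.ext ?_
    rw [TopologicalSpace.Closeds.coe_preimage, Scheme.IdealSheafData.coe_support_vanishingIdeal, hT]
  · rintro ⟨J, hJ⟩
    refine ⟨J.support, ?_⟩
    have h := congrArg (fun I : (FBase.bc fY K).IdealSheafData => (I.support : Set ↥(FBase.bc fY K))) hJ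
    simp only [Scheme.IdealSheafData.support_comap, TopologicalSpace.Closeds.coe_preimage,
      Scheme.IdealSheafData.coe_support_vanishingIdeal] at h
    exact h.symm

end Groth.Agent.S4682
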