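import Groth.Statements.S4683
import Groth.Agent.AssPointLib.Basic
import Groth.Agent.KFlatLib.FreeOpen

-- import your own Groth.Agent.* helpers here

set_option autoImplicit false
open CategoryTheory AlgebraicGeometry
universe u
open AssSch CategoryTheory CategoryTheory.Limits AlgebraicGeometry

namespace Groth.Agent.S4683

open CategoryTheory CategoryTheory.Limits AlgebraicGeometry TopologicalSpace Opposite DevissLib in
/-- A module with a single associated point `x` has support in the closure of `x`. -/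
theorem specializes_of_mem_support {X : Scheme.{u}} {G : X.Modules} [Coh.IsQCoh G] {x z : X}
    (hA : AssSch.Ass G = {x}) (hz : z ∈ CohB1.support G) : x ⤳ z := by
  obtain ⟨y, hyz, hy⟩ := AssPointLib.exists_weak_of_mem_support hz
  have : y ∈ AssSch.Ass G := (AssPointLib.assPoint_iff_weak G y).2 hy
  rw [hA, Set.mem_singleton_iff] at this
  exact this ▸ hyz

open CategoryTheory CategoryTheory.Limits AlgebraicGeometry TopologicalSpace Opposite DevissLib in
/-- A germ vanishing at the unique associated point vanishes everywhere. -/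
theorem gm_eq_zero_of_generic {X : Scheme.{u}} {G : X.Modules} [Coh.IsQCoh G] {x : X}
    (hA : AssSch.Ass G = {x}) {U : X.Opens} (hU : IsAffineOpen U) (s : Γ(G, U))
    (h : ∀ hx : x ∈ U, gm G x hx s = 0) (z : X) (hz : z ∈ U) : gm G z hz s = 0 := by
  by_contra hne
  obtain ⟨y, hy, -, hw, hne'⟩ := AssPointLib.exists_weak_specializes hU hz s hne
  have hyA : y ∈ AssSch.Ass G := (AssPointLib.assPoint_iff_weak G y).2 hw
  rw [hA, Set.mem_singleton_iff] at hyA
  subst hyA
  exact hne' (h hy)

open CategoryTheory CategoryTheory.Limits AlgebraicGeometry TopologicalSpace Opposite DevissLib in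
/-- Without embedded points, the component at `x` is injective on the stalk at `x`. -/
theorem gm_eq_zero_of_component {X : Scheme.{u}} [IsLocallyNoetherian X] {M : X.Modules}
    (hM : Coh.IsCoh M) (hne : AssSch.NoEmbedded M)
    (G : ↥(AssSch.Ass M) → X.Modules) (q : ∀ x, M ⟶ G x) (hG : ∀ x, Coh.IsCoh (G x))
    (hA : ∀ x, AssSch.Ass (G x) = {x.1})
    (hm : ∀ (T : X.Modules) (a b : T ⟶ M), (∀ x, a ≫ q x = b ≫ q x) → a = b)
    (x : ↥(AssSch.Ass M)) {U : X.Opens} (hU : IsAffineOpen U) (hxU : x.1 ∈ U) (s : Γ(M, U))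
    (h : gm (G x) x.1 hxU ((q x).app U s) = 0) : gm M x.1 hxU s = 0 := by
  haveI : ∀ z, Coh.IsQCoh (G z) := fun z => (hG z).1
  haveI : Coh.IsQCoh M := hM.1
  have hfin : {z : ↥(AssSch.Ass M) | z.1 ∈ U}.Finite :=
    ((AssPointLib.finite_assPoints hM.2 U hU.isCompact).preimage Subtype.val_injective.injOn).subset
      fun z hz => ⟨hz, (AssPointLib.assPoint_iff_weak M z.1).1 z.2⟩
  have hg : ∀ z, gm (G z) x.1 hxU ((q z).app U s) = 0 := fun z => by
    by_cases hzx : z = x
    · subst hzx; exact h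
    · by_contra hne'
      exact hzx (Subtype.ext (hne x.1 x.2 z.1 z.2
        (specializes_of_mem_support (hA z) ((mem_support_iff_nonzero _ _).2 ⟨_, hne'⟩))).symm)
  choose W hxW i₁ i₂ hW using fun z => TopCat.Presheaf.germ_eq (G z).presheaf x.1 hxU hxU
    ((q z).app U s) 0 ((hg z).trans (gm_zero _ _ _).symm)
  let O : Set X := (U : Set X) ∩ ⋂ z ∈ {z : ↥(AssSch.Ass M) | z.1 ∈ U}, (W z : Set X)
  have hO : IsOpen O := U.2.inter (hfin.isOpen_biInter fun z _ => (W z).2)
  have hxO : x.1 ∈ O := ⟨hxU, Set.mem_iInter₂.2 fun z _ => hxW z⟩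
  obtain ⟨V, hV, hxV, hVO⟩ := exists_isAffineOpen_mem_and_subset (x := x.1) (U := ⟨O, hO⟩) hxO
  have hVU : V ≤ U := fun y hy => (hVO hy).1
  let t := M.presheaf.map (homOfLE hVU).op s
  have ht : ∀ z, (q z).app V t = 0 := fun z => by
    refine TopCat.Presheaf.section_ext (F := ⟨(G z).presheaf, (G z).isSheaf⟩) V _ _ fun y hy => ?_
    refine Eq.trans ?_ (map_zero _).symm
    change gm (G z) y hy ((q z).app V t) = 0
    rw [← gm_app, gm_map, gm_app]
    by_cases hz : z.1 ∈ U
    · have hyW : y ∈ W z := Set.mem_iInter₂.1 (hVO hy).2 z hz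
      have h1 : gm (G z) y hyW ((G z).presheaf.map (i₁ z).op ((q z).app U s)) = 0 := by
        erw [hW z, map_zero]
        exact gm_zero _ _ _
      exact (TopCat.Presheaf.germ_res_apply (G z).presheaf (i₁ z) y hyW _).symm.trans h1
    · by_contra hne'
      exact hz ((specializes_of_mem_support (hA z) ((mem_support_iff_nonzero _ _).2 ⟨_, hne'⟩)).mem_open
        U.2 (hVU hy))
  have ht0 : t = 0 := by
    have e := hm _ (KFlatLib.secMap t) (0 : KFlatLib.freeU V ⟶ M) fun z => by
      rw [KFlatLib.secMap_comp, ht, KFlatLib.secMap_zero, zero_comp]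
    rw [← KFlatLib.secMap_gen t, e]
    rfl
  rw [← gm_map M hVU x.1 hxV s]
  exact (congrArg (gm M x.1 hxV) ht0).trans (gm_zero _ _ _)

open CategoryTheory CategoryTheory.Limits AlgebraicGeometry TopologicalSpace Opposite DevissLib in
/-- The kernel of one component is contained in that of the other. -/
theorem kernel_comp_eq_zero {X : Scheme.{u}} [IsLocallyNoetherian X] {M : X.Modules}
    (hM : Coh.IsCoh M) (hne : AssSch.NoEmbedded M)
    (G : ↥(AssSch.Ass M) → X.Modules) (q : ∀ x, M ⟶ G x) (hG : ∀ x, Coh.IsCoh (G x))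
    (hA : ∀ x, AssSch.Ass (G x) = {x.1})
    (hm : ∀ (T : X.Modules) (a b : T ⟶ M), (∀ x, a ≫ q x = b ≫ q x) → a = b)
    (x : ↥(AssSch.Ass M)) {N : X.Modules} [Coh.IsQCoh N] (hN : AssSch.Ass N = {x.1}) (r : M ⟶ N) :
    kernel.ι (q x) ≫ r = 0 := by
  refine Scheme.Modules.hom_ext _ _ fun O => ?_
  refine ConcreteCategory.hom_ext _ _ fun s => ?_
  refine TopCat.Presheaf.section_ext (F := ⟨N.presheaf, N.isSheaf⟩) O _ _ fun y hy => ?_
  refine Eq.trans ?_ (map_zero _).symm
  obtain ⟨U, hU, hyU, hUO⟩ := exists_isAffineOpen_mem_and_subset (x := y) (U := O) hy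
  change gm N y (hUO hyU) ((kernel.ι (q x) ≫ r).app O s) = 0
  rw [← gm_app, ← gm_map _ hUO y hyU s, gm_app]
  change gm N y hyU (r.app U ((kernel.ι (q x)).app U ((kernel (q x)).presheaf.map (homOfLE hUO).op s))) = 0
  let t := (kernel (q x)).presheaf.map (homOfLE hUO).op s
  refine gm_eq_zero_of_generic hN hU _ (fun hx => ?_) y hyU
  have h0 : gm M x.1 hx ((kernel.ι (q x)).app U t) = 0 := by
    refine gm_eq_zero_of_component hM hne G q hG hA hm x hU hx _ ?_
    change gm (G x) x.1 hx ((kernel.ι (q x) ≫ q x).app U t) = 0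
    rw [kernel.condition]
    exact gm_zero _ _ _
  rw [← gm_app, h0, map_zero]



/-- Let X be a locally Noetherian scheme and M a coherent O_X-module without embedded associated points.
Then M has only one reduced irredundant decomposition: if (q_x : M → G_x) and (q'_x : M → G'_x) are
two families of coherent quotients of M indexed by the associated points x of M, with Ass(G_x) =
Ass(G'_x) = {x} for every x and each family jointly monomorphic (M embeds in the product), then for
every x there is an isomorphism G_x ≅ G'_x under M (it is unique, q_x being an epimorphism). -/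
theorem result {X : Scheme.{u}} [IsLocallyNoetherian X] (M : X.Modules)
    (hM : Coh.IsCoh M) (hne : AssSch.NoEmbedded M)
    (G G' : ↥(AssSch.Ass M) → X.Modules) (q : ∀ x, M ⟶ G x) (q' : ∀ x, M ⟶ G' x)
    (hq : ∀ x, Epi (q x)) (hq' : ∀ x, Epi (q' x)) (hG : ∀ x, Coh.IsCoh (G x)) (hG' : ∀ x, Coh.IsCoh (G' x))
    (hA : ∀ x, AssSch.Ass (G x) = {x.1}) (hA' : ∀ x, AssSch.Ass (G' x) = {x.1})
    (hm : ∀ (T : X.Modules) (a b : T ⟶ M), (∀ x, a ≫ q x = b ≫ q x) → a = b)
    (hm' : ∀ (T : X.Modules) (a b : T ⟶ M), (∀ x, a ≫ q' x = b ≫ q' x) → a = b) (x : ↥(AssSch.Ass M)) :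
    ∃ e : G x ≅ G' x, q x ≫ e.hom = q' x := by
  haveI := hq x
  haveI := hq' x
  haveI : Coh.IsQCoh (G' x) := (hG' x).1
  haveI : Coh.IsQCoh (G x) := (hG x).1
  have h1 := kernel_comp_eq_zero hM hne G q hG hA hm x (hA' x) (q' x)
  have h2 := kernel_comp_eq_zero hM hne G' q' hG' hA' hm' x (hA x) (q x)
  refine ⟨⟨Abelian.epiDesc (q x) (q' x) h1, Abelian.epiDesc (q' x) (q x) h2, ?_, ?_⟩, Abelian.comp_epiDesc _ _ _⟩
  · rw [← cancel_epi (q x), Abelian.comp_epiDesc_assoc, Abelian.comp_epiDesc, Category.comp_id]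
  · rw [← cancel_epi (q' x), Abelian.comp_epiDesc_assoc, Abelian.comp_epiDesc, Category.comp_id]


end Groth.Agent.S4683
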