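import Groth.Statements.S4685
import Groth.Agent.AssTensLib.Base

set_option autoImplicit false
open CategoryTheory AlgebraicGeometry
universe u
open AssSch

namespace Groth.Agent.S4685

open CategoryTheory.Limits in
/-- Let f : X → S and g : Y → S be morphisms of schemes with X, Y and X ×_S Y locally Noetherian, F a
quasi-coherent O_X-module without embedded associated points, and G a quasi-coherent O_Y-module,
flat over S, whose restriction to every fibre g⁻¹(s) has no embedded associated points. Then F ⊗_S G
(the tensor product on X ×_S Y of the pull-backs of F and G along the two projections) has no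
embedded associated points. (The published statement assumes only X, the fibres of g and the schemes
Spec κ(x) ×_S Spec κ(y) locally Noetherian; this row assumes Y and X ×_S Y locally Noetherian, which
implies all of these, so that associated points are those whose maximal ideal is the annihilator of
an element of the stalk.) -/
theorem result {X Y S : Scheme.{u}} (f : X ⟶ S) (g : Y ⟶ S)
    [IsLocallyNoetherian X] [IsLocallyNoetherian Y] [IsLocallyNoetherian (pullback f g)]
    (F : X.Modules) (hF : Coh.IsQCoh F) (G : Y.Modules) (hG : Coh.IsQCoh G) (hGfl : FlatMod.IsFlatOver g G)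
    (hFne : AssSch.NoEmbedded F)
    (hGne : ∀ s : ↥S, AssSch.NoEmbedded ((Scheme.Modules.pullback (g.fiberι s)).obj G)) :
    AssSch.NoEmbedded (CohB1.tensorMod ((Scheme.Modules.pullback (pullback.fst f g)).obj F) ((Scheme.Modules.pullback (pullback.snd f g)).obj G)) := by
  intro a ha b hb hba
  obtain ⟨x, hx, v, hv, t, ht, rfl⟩ := (AssTensLib.mem_ass_iff f g F G hG hGfl a).1 ha
  obtain ⟨x', hx', v', hv', t', ht', rfl⟩ := (AssTensLib.mem_ass_iff f g F G hG hGfl b).1 hb
  have e1 : ∀ (x : X) (v : g.fiber (f x)) t, pullback.fst f g (AssTensLib.incl f g x (g.fiberι (f x) v) t) = x := fun x v t => by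
    rw [← Scheme.Hom.comp_apply, pullback.lift_fst, Scheme.Hom.comp_apply, Scheme.fromSpecResidueField_apply]
  have e2 : ∀ (x : X) (v : g.fiber (f x)) t,
      pullback.snd f g (AssTensLib.incl f g x (g.fiberι (f x) v) t) = g.fiberι (f x) v := fun x v t => by
    rw [← Scheme.Hom.comp_apply, pullback.lift_snd, Scheme.Hom.comp_apply, Scheme.fromSpecResidueField_apply]
  have hxx : x' ⤳ x := by simpa only [e1] using hba.map (pullback.fst f g).continuous
  obtain rfl : x = x' := hFne x hx x' hx' hxx
  have hyy : g.fiberι (f x) v' ⤳ g.fiberι (f x) v := by simpa only [e2] using hba.map (pullback.snd f g).continuous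
  obtain rfl : v = v' := hGne (f x) v hv v' hv' ((g.fiberι (f x)).isEmbedding.isInducing.specializes_iff.1 hyy)
  exact AssTensLib.eq_of_specializes f g ht ht' hba

end Groth.Agent.S4685
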