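import Groth.Statements.S4687
import Groth.Agent.IntTensorLib.Length
import Groth.Agent.S4686

set_option autoImplicit false
set_option maxSynthPendingDepth 4
set_option backward.isDefEq.respectTransparency false
set_option backward.isDefEq.respectTransparency.types false
open CategoryTheory.Limits
open CategoryTheory AlgebraicGeometry
universe u
open FBase

namespace Groth.Agent.S4687

/-- Let X be an integral locally Noetherian scheme over a field k, k′ an extension field of k such that
X′ = X ⊗_k k′ is locally Noetherian, and k″ an extension field of k′ which is separable over k′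
(Spec k″ → Spec k′ geometrically reduced) and such that (X′)_red ⊗_{k′} k″ is locally Noetherian.
Then for every maximal point x″ of X″ = X′ ⊗_{k′} k″ (generic point of an irreducible component),
with image x′ in X′, the local rings O_{X″,x″} and O_{X′,x′} have the same length, each as a module
over itself, with values in ℕ∞. -/
theorem result {k k' k'' : Type u} [Field k] [Field k'] [Field k''] [Algebra k k']
    [Algebra k' k''] {X : Scheme.{u}} (f : X ⟶ Spec (CommRingCat.of k)) [IsIntegral X] [IsLocallyNoetherian X]
    [IsLocallyNoetherian (FBase.bc f k')] [GeometricallyReduced (Spec.map (CommRingCat.ofHom (algebraMap k' k'')))]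
    [IsLocallyNoetherian (FBase.bc ((FBase.bc f k').nilradical.subschemeι ≫ FBase.bcStr f k') k'')]
    (x'' : ↥(FBase.bc (FBase.bcStr f k') k'')) (hx'' : ∀ z : ↥(FBase.bc (FBase.bcStr f k') k''), z ⤳ x'' → z = x'') :
    Module.length ((FBase.bc (FBase.bcStr f k') k'').presheaf.stalk x'') ((FBase.bc (FBase.bcStr f k') k'').presheaf.stalk x'') =
      Module.length ((FBase.bc f k').presheaf.stalk (FBase.bcπ (FBase.bcStr f k') k'' x''))
        ((FBase.bc f k').presheaf.stalk (FBase.bcπ (FBase.bcStr f k') k'' x'')) := by
  let s : FBase.bc f k' ⟶ Spec (CommRingCat.of k') := FBase.bcStr f k'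
  let g : Spec (CommRingCat.of k'') ⟶ Spec (CommRingCat.of k') := Spec.map (CommRingCat.ofHom (algebraMap k' k''))
  let i := Limits.pullback.map ((FBase.bc f k').nilradical.subschemeι ≫ s) g s g
    (FBase.bc f k').nilradical.subschemeι (𝟙 _) (𝟙 _) (Category.comp_id _) ((Category.comp_id _).trans (Category.id_comp _).symm)
  have hp := IntTensorLib.isPullback_reduction_bc (k'' := k'') s
  haveI : IsClosedImmersion i := MorphismProperty.of_isPullback hp.flip inferInstance
  haveI : Surjective (FBase.bc f k').nilradical.subschemeι := ⟨fun x => by
    have hx : x ∈ Set.range (FBase.bc f k').nilradical.subschemeι := by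
      rw [Scheme.IdealSheafData.range_subschemeι, Scheme.support_nilradical]
      trivial
    exact hx⟩
  haveI : Surjective i := MorphismProperty.of_isPullback hp.flip inferInstance
  obtain ⟨z'', hz''⟩ := i.surjective x''
  have h := Groth.Agent.S4686.result f x'' hx'' z'' hz''
  rw [h]
  let N : Scheme.{u} := (FBase.bc f k').nilradical.subscheme
  haveI : IsReduced N := GeomRedFieldLib.isReduced_nilradical _
  haveI : IsLocallyNoetherian N := LocallyOfFiniteType.isLocallyNoetherian (FBase.bc f k').nilradical.subschemeι
  haveI : IsReduced (FBase.bc ((FBase.bc f k').nilradical.subschemeι ≫ FBase.bcStr f k') k'') :=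
    inferInstanceAs (IsReduced (Limits.pullback ((FBase.bc f k').nilradical.subschemeι ≫ s) g))
  have hz : ∀ y, y ⤳ z'' → y = z'' := fun y hy => i.isClosedEmbedding.injective (by
    rw [hz'']
    exact hx'' (i y) (hz'' ▸ hy.map i.continuous))
  have hF : IsField ((FBase.bc ((FBase.bc f k').nilradical.subschemeι ≫ FBase.bcStr f k') k'').presheaf.stalk z'') := by
    refine IsLocalRing.isField_iff_maximalIdeal_eq.mpr (eq_bot_iff.mpr fun a ha => ?_)
    exact (Submodule.mem_bot _).mpr (IntTensorLib.isNilpotent_of_mem_maximal hz ha).eq_zero
  letI := hF.toField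
  conv_lhs => arg 2; rw [Module.length_eq_one_iff.mpr inferInstance]
  exact mul_one _

end Groth.Agent.S4687
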