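import Groth.Statements.S4691
import Mathlib
import Groth.Agent.DimIneqLib.StalkFibre
import Groth.Agent.DimIneqLib.Dim
-- import your own Groth.Agent.* helpers here

set_option autoImplicit false
universe u
open EGA4

namespace Groth.Agent.S4691

open AlgebraicGeometry CategoryTheory in
/-- Let Y be a locally Noetherian scheme, f : X → Y a morphism locally of finite type and n a natural
number such that every fibre of f has dimension at most n. Then dim X ≤ dim Y + n. -/
theorem result {X Y : Scheme.{u}} (f : X ⟶ Y) [IsLocallyNoetherian Y]
    [LocallyOfFiniteType f] (n : ℕ) (h : ∀ y : Y, topologicalKrullDim (f.fiber y) ≤ n) :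
    topologicalKrullDim X ≤ topologicalKrullDim Y + n := by
  have key : ∀ m : ℕ, (m : WithBot ℕ∞) ≤ topologicalKrullDim X → (m : WithBot ℕ∞) ≤ topologicalKrullDim Y + n := by
    intro m hm
    obtain ⟨x, hx⟩ := DimIneqLib.exists_stalk_of_chain hm
    exact hx.trans ((DimIneqLib.ringKrullDim_stalk_le_add_fibre f x).trans
      (add_le_add (DimIneqLib.stalk_dim_le_dim _) ((DimIneqLib.stalk_dim_le_dim _).trans (h _))))
  generalize topologicalKrullDim X = a at key
  generalize topologicalKrullDim Y + (n : WithBot ℕ∞) = b at key
  induction a using WithBot.recBotCoe with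
  | bot => exact bot_le
  | coe a =>
    induction b using WithBot.recBotCoe with
    | bot => exact absurd (key 0 (WithBot.coe_le_coe.mpr zero_le)) (by simp)
    | coe b =>
      refine WithBot.coe_le_coe.mpr (ENat.forall_natCast_le_iff_le.mp fun m hm => ?_)
      exact WithBot.coe_le_coe.mp (key m (WithBot.coe_le_coe.mpr hm))

end Groth.Agent.S4691
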