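import Groth.Statements.S4692
import Groth.Agent.DimFibreLib.Main
import Groth.Agent.S4691

set_option autoImplicit false
universe u
open EGA4

namespace Groth.Agent.S4692

open AlgebraicGeometry CategoryTheory in
/-- Let Y be a locally Noetherian scheme all of whose local rings are universally catenary, X an
irreducible scheme, f : X → Y a morphism locally of finite type and n a natural number. If every
fibre of f has dimension at least n then dim X ≥ dim Y + n; if every fibre has dimension exactly n
then dim X = dim Y + n. (The empty scheme has dimension ⊥, so either hypothesis forces f to be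
surjective.) -/
theorem result {X Y : Scheme.{u}} (f : X ⟶ Y) [IsLocallyNoetherian Y]
    [LocallyOfFiniteType f] [IrreducibleSpace X] (hY : ∀ y : Y, CAlg.IsUniversallyCatenary (Y.presheaf.stalk y))
    (n : ℕ) :
    ((∀ y : Y, (n : WithBot ℕ∞) ≤ topologicalKrullDim (f.fiber y)) →
        topologicalKrullDim Y + n ≤ topologicalKrullDim X) ∧
      ((∀ y : Y, topologicalKrullDim (f.fiber y) = n) →
        topologicalKrullDim X = topologicalKrullDim Y + n) := by
  have key : (∀ y : Y, (n : WithBot ℕ∞) ≤ topologicalKrullDim (f.fiber y)) →
      topologicalKrullDim Y + n ≤ topologicalKrullDim X := by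
    intro hn
    have hsurj : Function.Surjective f.base := by
      intro y
      have hne : Nonempty (f.fiber y) := by
        by_contra h
        haveI := not_nonempty_iff.mp h
        haveI : IsEmpty (TopologicalSpace.IrreducibleCloseds (f.fiber y)) :=
          ⟨fun T => isEmptyElim T.isIrreducible.nonempty.some⟩
        have h1 := hn y
        rw [topologicalKrullDim, Order.krullDim_eq_bot] at h1
        exact absurd (le_bot_iff.mp h1) (by simp)
      obtain ⟨z⟩ := hne
      obtain ⟨w, hw⟩ := (f.fiberHomeo y) z
      exact ⟨w, hw⟩
    haveI : IrreducibleSpace Y :=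
      { toPreirreducibleSpace := ⟨by
          rw [← hsurj.range_eq, ← Set.image_univ]
          exact (IrreducibleSpace.isIrreducible_univ X).2.image f.base f.continuous.continuousOn⟩
        toNonempty := ⟨f.base (genericPoint X)⟩ }
    obtain ⟨e, he⟩ := DimFibreLib.exists_generic_fibre_dim f hsurj.denseRange
    have hne : (n : WithBot ℕ∞) ≤ e := he ▸ hn _
    have hsup : (⨆ y ∈ Set.range f.base, ringKrullDim (Y.presheaf.stalk y)) + e ≤ topologicalKrullDim X :=
      DimFibreLib.biSup_add_le _ _ e _ ⟨f.base (genericPoint X), genericPoint X, rfl⟩
        (fun y _ => ringKrullDim_nonneg_of_nontrivial)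
        fun y hy => DimFibreLib.exists_stalk_eq f hsurj.denseRange e he hy (hY y)
    refine le_trans (add_le_add (DimFibreLib.dim_le_of_stalks _ fun y => ?_) hne) hsup
    exact le_iSup₂ (f := fun y (_ : y ∈ Set.range f.base) => ringKrullDim (Y.presheaf.stalk y)) y (hsurj y)
  exact ⟨key, fun h => le_antisymm (Groth.Agent.S4691.result f n fun y => (h y).le) (key fun y => (h y).ge)⟩

end Groth.Agent.S4692
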