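import Groth.Statements.S4693
import Groth.Agent.S5769

set_option autoImplicit false
universe u
open EGA4

namespace Groth.Agent.S4693

open TensorProduct in
/-- A flat module with full support gives going down. -/
theorem hasGoingDown_of_flat_of_support {A B : Type u} [CommRing A] [CommRing B] [Algebra A B] (N : Type u)
    [AddCommGroup N] [Module B N] [Module A N] [IsScalarTower A B N] [Module.Finite B N] [Module.Flat A N]
    (hsupp : Module.support B N = Set.univ) : Algebra.HasGoingDown A B := by
  refine ⟨fun {p} _ Q _ hlt => ?_⟩
  let J := p.map (algebraMap A B)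
  have hJQ : J ≤ Q := Ideal.map_le_iff_le_comap.2 hlt.le
  let S : Submonoid B := p.primeCompl.map (algebraMap A B) ⊔ Q.primeCompl
  have hdis : Disjoint (J : Set B) (S : Set B) := by
    rw [Set.disjoint_left]
    intro b hbJ hbS
    obtain ⟨_, ⟨a, ha, rfl⟩, s, hs, rfl⟩ := Submonoid.mem_sup.1 hbS
    have hinj : ∀ n : N, a • n ∈ (p • (⊤ : Submodule A N)) → n ∈ (p • (⊤ : Submodule A N)) := by
      intro n hn
      have hμ : Function.Injective ((LinearMap.lsmul A (A ⧸ p) a).rTensor N) := by
        refine Module.Flat.rTensor_preserves_injective_linearMap _ ?_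
        rw [injective_iff_map_eq_zero]
        intro x hx
        obtain ⟨x, rfl⟩ := Ideal.Quotient.mk_surjective x
        change Ideal.Quotient.mk p (a * x) = 0 at hx
        rw [Ideal.Quotient.eq_zero_iff_mem] at hx ⊢
        exact ((‹p.IsPrime›).mem_or_mem hx).resolve_left ha
      let e := quotTensorEquivQuotSMul N p
      have he : ∀ z, e ((LinearMap.lsmul A (A ⧸ p) a).rTensor N z) = a • e z := fun z => by
        rw [show (LinearMap.lsmul A (A ⧸ p) a).rTensor N z = a • z by
          induction z using TensorProduct.induction_on with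
          | zero => simp
          | tmul x y => rfl
          | add x y hx hy => rw [map_add, hx, hy, smul_add], map_smul]
      rw [← Submodule.Quotient.mk_eq_zero]
      have h0 : e.symm (Submodule.Quotient.mk n) = 0 := by
        apply hμ
        apply e.injective
        rw [he, LinearEquiv.apply_symm_apply, map_zero, map_zero, ← Submodule.Quotient.mk_smul,
          Submodule.Quotient.mk_eq_zero]
        exact hn
      exact e.symm.map_eq_zero_iff.1 h0
    have hkill : ∀ n : N, s • n ∈ (J • (⊤ : Submodule B N)) := by
      intro n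
      have hres : (J • (⊤ : Submodule B N)).restrictScalars A = p • (⊤ : Submodule A N) := by
        exact Ideal.smul_restrictScalars p (⊤ : Submodule B N)
      have h1 : a • (s • n) ∈ (p • (⊤ : Submodule A N)) := by
        rw [← hres]
        show a • (s • n) ∈ J • (⊤ : Submodule B N)
        rw [← algebraMap_smul B a, smul_smul]
        exact Submodule.smul_mem_smul hbJ trivial
      have h2 := hinj _ h1
      rw [← hres] at h2
      exact h2
    have hmem : (⟨Q, inferInstance⟩ : PrimeSpectrum B) ∈ Module.support B (N ⧸ (J • (⊤ : Submodule B N))) := by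
      rw [Module.support_quotient, hsupp, Set.univ_inter]
      exact hJQ
    rw [Module.support_eq_zeroLocus] at hmem
    refine hs (hmem (Module.mem_annihilator.2 fun z => ?_))
    obtain ⟨n, rfl⟩ := Submodule.Quotient.mk_surjective _ z
    rw [← Submodule.Quotient.mk_smul, Submodule.Quotient.mk_eq_zero]
    exact hkill n
  obtain ⟨P, hP, hJP, hPS⟩ := Ideal.exists_le_prime_disjoint J S hdis
  have hPQ : P ≤ Q := fun b hb => by
    by_contra h
    exact Set.disjoint_left.1 hPS hb (Submonoid.mem_sup_right (show b ∈ Q.primeCompl from h))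
  refine ⟨P, hPQ, hP, ⟨le_antisymm (fun a ha => hJP (Ideal.mem_map_of_mem _ ha)) fun a ha => ?_⟩⟩
  by_contra h
  exact Set.disjoint_left.1 hPS ha (Submonoid.mem_sup_left ⟨a, h, rfl⟩)

/-- Let A → B be a local homomorphism of Noetherian local rings such that the closed fibre ring B/m_A B
has Krull dimension 0 (that is, m_A B is an ideal of definition of B). Then dim B ≤ dim A. If
moreover some finite B-module which is flat over A has support equal to all of Spec B (for instance
if B is flat over A), then dim B = dim A. -/
theorem result (A B : Type u) [CommRing A] [CommRing B] [IsNoetherianRing A]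
    [IsNoetherianRing B] [IsLocalRing A] [IsLocalRing B] [Algebra A B] [IsLocalHom (algebraMap A B)]
    (h0 : ringKrullDim (EGA4.FibRing A B) = 0) :
    ringKrullDim B ≤ ringKrullDim A ∧
      (∀ (N : Type u) [AddCommGroup N] [Module B N] [Module A N] [IsScalarTower A B N] [Module.Finite B N]
          [Module.Flat A N], Module.support B N = Set.univ → ringKrullDim B = ringKrullDim A) := by
  have hle : ringKrullDim B ≤ ringKrullDim A := by
    have h := Groth.Agent.S5769.result A B
    rwa [show ringKrullDim (B ⧸ (IsLocalRing.maximalIdeal A).map (algebraMap A B)) = 0 from h0, add_zero] at h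
  refine ⟨hle, fun N _ _ _ _ _ _ hN => le_antisymm hle ?_⟩
  haveI : Algebra.HasGoingDown A B := hasGoingDown_of_flat_of_support (A := A) (B := B) N hN
  rw [ringKrullDim, ringKrullDim, Order.krullDim]
  refine iSup_le fun l => ?_
  obtain ⟨l', hlast, hlen⟩ : ∃ l' : LTSeries (PrimeSpectrum A),
      l'.last.asIdeal = IsLocalRing.maximalIdeal A ∧ l.length ≤ l'.length := by
    by_cases h : l.last.asIdeal = IsLocalRing.maximalIdeal A
    · exact ⟨l, h, le_rfl⟩
    · refine ⟨l.snoc ⟨IsLocalRing.maximalIdeal A, inferInstance⟩
        ((PrimeSpectrum.asIdeal_lt_asIdeal _ _).1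
          (lt_of_le_of_ne (IsLocalRing.le_maximalIdeal l.last.isPrime.ne_top) h)),
        by simp, by simp⟩
  haveI : (IsLocalRing.maximalIdeal B).LiesOver l'.last.asIdeal :=
    ⟨by rw [hlast]; exact (IsLocalRing.maximalIdeal_comap (algebraMap A B)).symm⟩
  obtain ⟨L, hL, -, -⟩ := Ideal.exists_ltSeries_of_hasGoingDown l' (IsLocalRing.maximalIdeal B)
  refine le_trans ?_ (Order.LTSeries.length_le_krullDim L)
  rw [hL]
  exact_mod_cast hlen

end Groth.Agent.S4693
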