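import Groth.Statements.S4694
import Groth.Agent.S2062
import Groth.Agent.S5752

set_option autoImplicit false
universe u
open EGA4

namespace Groth.Agent.S4694

open TensorProduct in
/-- Let A → B be a local homomorphism of Noetherian local rings, M a finite A-module and N a nonzero
finite B-module, flat over A, whose closed-fibre module N/m_A N has finite length. Then the depth of
the B-module N ⊗_A M equals the depth of the A-module M. (The companion equality of codepths in the
published item is not restated.) -/
theorem result {A B M N : Type u} [CommRing A] [CommRing B]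
    [IsNoetherianRing A] [IsNoetherianRing B] [IsLocalRing A] [IsLocalRing B] [Algebra A B]
    [IsLocalHom (algebraMap A B)] [AddCommGroup M] [Module A M] [Module.Finite A M]
    [AddCommGroup N] [Module B N] [Module A N] [IsScalarTower A B N] [Module.Finite B N] [Nontrivial N]
    [Module.Flat A N] (hN : IsFiniteLength B (EGA4.FibMod A B N)) :
    LocCoh.depth B (N ⊗[A] M) = LocCoh.depth A M := by
  rw [Groth.Agent.S2062.result (R := A) (S := B) (M := M) (N := N)]
  suffices h : LocCoh.depth B (N ⧸ (IsLocalRing.maximalIdeal A).map (algebraMap A B) • (⊤ : Submodule B N)) = 0 by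
    rw [h, add_zero]
  haveI : Nontrivial (N ⧸ (IsLocalRing.maximalIdeal A).map (algebraMap A B) • (⊤ : Submodule B N)) := by
    refine Submodule.Quotient.nontrivial_iff.2 fun h => top_ne_bot (α := Submodule B N) ?_
    exact Submodule.eq_bot_of_le_smul_of_le_jacobson_bot _ ⊤ Module.Finite.fg_top h.ge
      (le_trans (((IsLocalRing.local_hom_TFAE (algebraMap A B)).out 0 2).1 (by infer_instance))
        (IsLocalRing.maximalIdeal_le_jacobson _))
  rw [Groth.Agent.S5752.result]
  haveI : IsArtinian B (N ⧸ (IsLocalRing.maximalIdeal A).map (algebraMap A B) • (⊤ : Submodule B N)) :=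
    (isFiniteLength_iff_isNoetherian_isArtinian.1 hN).2
  obtain ⟨P, hP, -⟩ := (IsAtomic.eq_bot_or_exists_atom_le (⊤ : Submodule B
    (N ⧸ (IsLocalRing.maximalIdeal A).map (algebraMap A B) • (⊤ : Submodule B N)))).resolve_left top_ne_bot
  haveI : IsSimpleModule B P := isSimpleModule_iff_isAtom.2 hP
  obtain ⟨I, hI, ⟨e⟩⟩ := isSimpleModule_iff_quot_maximal.1 (inferInstance : IsSimpleModule B P)
  obtain rfl := IsLocalRing.eq_maximalIdeal hI
  haveI : Nontrivial P := IsSimpleModule.nontrivial B P
  obtain ⟨q, hq⟩ := associatedPrimes.nonempty B P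
  have hq' := associatedPrimes.subset_of_injective (f := P.subtype) Subtype.val_injective hq
  suffices hqm : q = IsLocalRing.maximalIdeal B from hqm ▸ hq'
  rw [LinearEquiv.AssociatedPrimes.eq e] at hq
  refine (IsLocalRing.le_maximalIdeal hq.isPrime.ne_top).antisymm ?_
  have h3 := IsAssociatedPrime.annihilator_le hq
  rw [Submodule.annihilator_top, Ideal.annihilator_quotient] at h3
  exact h3

end Groth.Agent.S4694
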