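import Groth.Statements.S4696
import Groth.Agent.GeomRedFibLib.LocalPropLocal
-- import your own Groth.Agent.* helpers here

set_option autoImplicit false
universe u
open EGA4

namespace Groth.Agent.S4696

/-- Case of normal morphisms, affine form: let A → B → C be homomorphisms of Noetherian rings. If A → B
and B → C are normal (flat, with geometrically normal fibres) then the composite A → C is normal. -/
theorem result (A B C : Type u) [CommRing A] [CommRing B] [CommRing C] [IsNoetherianRing A]
    [IsNoetherianRing B] [IsNoetherianRing C] [Algebra A B] [Algebra B C] [Algebra A C] [IsScalarTower A B C]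
    (hAB : EGA4.IsNormalHom A B) (hBC : EGA4.IsNormalHom B C) : EGA4.IsNormalHom A C := by
  haveI := hAB.1
  haveI := hBC.1
  refine ⟨Module.Flat.trans A B C, fun p _ k' _ _ hk ↦ ?_⟩
  haveI := hk
  haveI := GeomRedFibLib.isNoetherianRing_fiber A C p
  haveI := GeomRedFibLib.isNoetherianRing_fiber A B p
  rw [GeomRedFibLib.isNormalRing_finite_bc_iff]
  obtain ⟨h1, h2⟩ := (GeomRedFibLib.isNormalRing_finite_bc_iff _ _ _).mp (hAB.2 p k' hk)
  have h3 : ∀ (q : Ideal B) [q.IsPrime] (L : Type u) [Field L] [Algebra q.ResidueField L],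
      Module.Finite q.ResidueField L → GeomRedFibLib.RingP (GeomRedFibLib.RkLoc 1) (TensorProduct q.ResidueField L (q.Fiber C)) ∧
        GeomRedFibLib.RingP (GeomRedFibLib.SkLoc 2) (TensorProduct q.ResidueField L (q.Fiber C)) := fun q _ L _ _ hL ↦ by
    haveI := GeomRedFibLib.isNoetherianRing_fiber B C q
    exact (GeomRedFibLib.isNormalRing_finite_bc_iff _ _ _).mp (hBC.2 q L hL)
  exact ⟨GeomRedFibLib.geomRingP_comp (GeomRedFibLib.isFlatLocalProp_rkLoc 1) A B C p
      (fun q _ L _ _ hL ↦ (h3 q L hL).1) k' h1,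
    GeomRedFibLib.geomRingP_comp (GeomRedFibLib.isFlatLocalProp_skLoc 2) A B C p
      (fun q _ L _ _ hL ↦ (h3 q L hL).2) k' h2⟩

end Groth.Agent.S4696
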