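import Groth.Statements.S4699
import Groth.Agent.GenAddLib.Main

set_option autoImplicit false
set_option linter.style.haveILetI false
universe u
open EGA4

namespace Groth.Agent.S4699

/-- Let A be a Noetherian ring, M a finite A-module and I an ideal of A whose radical p is a prime ideal
lying in the support of M (so V(I) is an irreducible closed subset whose generic point is in Supp
M). Then there is an element f outside p such that, for every prime q containing I with f outside q,
the dimension of M_q is the dimension of M_p plus the dimension of (A/I)_q, and the depth of M_q is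
the depth of M_p plus the depth of (A/I)_q (the module (A/I)_q = A_q / I A_q being regarded over
A_q). -/
theorem result (A : Type u) [CommRing A] [IsNoetherianRing A]
    (M : Type u) [AddCommGroup M] [Module A M] [Module.Finite A M] (I : Ideal A) [I.radical.IsPrime]
    (hp : (⟨I.radical, inferInstance⟩ : PrimeSpectrum A) ∈ Module.support A M) :
    ∃ f : A, f ∉ I.radical ∧ ∀ (q : Ideal A) [q.IsPrime], I ≤ q → f ∉ q →
      Module.supportDim (Localization.AtPrime q) (LocalizedModule q.primeCompl M) =
          Module.supportDim (Localization.AtPrime I.radical) (LocalizedModule I.radical.primeCompl M) +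
            Module.supportDim (Localization.AtPrime q)
              (Localization.AtPrime q ⧸ I.map (algebraMap A (Localization.AtPrime q))) ∧
        LocCoh.depth (Localization.AtPrime q) (LocalizedModule q.primeCompl M) =
          LocCoh.depth (Localization.AtPrime I.radical) (LocalizedModule I.radical.primeCompl M) +
            LocCoh.depth (Localization.AtPrime q)
              (Localization.AtPrime q ⧸ I.map (algebraMap A (Localization.AtPrime q))) := by
  let p := I.radical
  have hsupp : Module.support A (A ⧸ I) = Module.support A (A ⧸ p) := by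
    rw [Module.support_eq_zeroLocus, Module.support_eq_zeroLocus, Ideal.annihilator_quotient,
      Ideal.annihilator_quotient, PrimeSpectrum.zeroLocus_radical]
  have hpI : (⟨p, inferInstance⟩ : PrimeSpectrum A) ∈ Module.support A (A ⧸ I) := by
    rw [hsupp, Module.support_eq_zeroLocus, Ideal.annihilator_quotient, PrimeSpectrum.mem_zeroLocus]
  obtain ⟨f₁, hf₁, H₁⟩ := GenAddLib.exists_sdim_eq p M hp
  obtain ⟨f₂, hf₂, H₂⟩ := GenAddLib.exists_sdep_eq p M hp
  obtain ⟨f₃, hf₃, H₃⟩ := GenAddLib.exists_sdep_eq p (A ⧸ I) hpI
  refine ⟨f₁ * f₂ * f₃, fun h => ?_, fun q _ hIq hfq => ?_⟩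
  · rcases (inferInstance : p.IsPrime).mem_or_mem h with h | h
    · exact ((inferInstance : p.IsPrime).mem_or_mem h).elim hf₁ hf₂
    · exact hf₃ h
  have hpq : p ≤ q := (inferInstance : q.IsPrime).radical_le_iff.2 hIq
  have h0 : SkOpenLib.sdep (A ⧸ I) p = 0 := by
    by_contra h
    haveI : IsNoetherianRing (Localization.AtPrime p) := IsLocalization.isNoetherianRing p.primeCompl _ inferInstance
    have h1 := (SkOpenLib.hasSeqAt_iff (A ⧸ I) p 1).2 (Order.one_le_iff_ne_zero.2 h)
    have hmin : p ∈ (Module.annihilator A (A ⧸ I)).minimalPrimes := by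
      rw [Ideal.annihilator_quotient]
      exact ⟨⟨inferInstance, Ideal.le_radical⟩, fun r hr _ => hr.1.radical_le_iff.2 hr.2⟩
    exact (CommAlgDim.hasSeqIn_one_iff _).1 h1 _
      (Module.associatedPrimes.mem_associatedPrimes_atPrime_of_mem_associatedPrimes
        (Module.associatedPrimes.minimalPrimes_annihilator_subset_associatedPrimes A (A ⧸ I) hmin)) le_rfl
  obtain ⟨e1, e2⟩ := GenAddLib.quot_eq_sdim_sdep I q
  rw [e1, e2, GenAddLib.sdim_eq_of_support hsupp q,
    H₃ q hpq (fun h => hfq (Ideal.mul_mem_left _ _ h)), h0, zero_add]
  exact ⟨H₁ q hpq (fun h => hfq (Ideal.mul_mem_right _ _ (Ideal.mul_mem_right _ _ h))),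
    H₂ q hpq (fun h => hfq (Ideal.mul_mem_right _ _ (Ideal.mul_mem_left _ _ h)))⟩

end Groth.Agent.S4699
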