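import Groth.Statements.S4701
import Groth.Agent.J2Lib.Criterion
-- import your own Groth.Agent.* helpers here

set_option autoImplicit false
universe u
open EGA4

namespace Groth.Agent.S4701

/-- Let A be a Noetherian ring. The regular locus of every quotient ring A/I is open in its spectrum if
and only if, for every prime ideal p, the regular locus of the domain A/p contains a nonempty open
subset of Spec(A/p). (The published statement quantifies over all subschemes of Spec A; open
subschemes of the closed ones add nothing, so closed subschemes are used here.) -/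
theorem result (A : Type u) [CommRing A] [IsNoetherianRing A] :
    (∀ I : Ideal A, IsOpen (EGA4.regLocus (A ⧸ I))) ↔
      ∀ (p : Ideal A) [p.IsPrime],
        ∃ U : Set (PrimeSpectrum (A ⧸ p)), IsOpen U ∧ U.Nonempty ∧ U ⊆ EGA4.regLocus (A ⧸ p) := by
  refine ⟨fun h p _ ↦ ⟨_, h p, ⟨⟨⊥, Ideal.isPrime_bot⟩, ?_⟩, subset_refl _⟩, fun h I ↦ ?_⟩
  · show IsRegularLocalRing _
    letI : Field (Localization.AtPrime (⊥ : Ideal (A ⧸ p))) := by
      refine IsField.toField ((IsLocalRing.isField_iff_maximalIdeal_eq).2 ?_)
      rw [← Localization.AtPrime.map_eq_maximalIdeal]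
      exact Ideal.map_bot
    infer_instance
  · refine J2Lib.isOpen_regLocus fun q _ ↦ ?_
    let p := q.asIdeal.comap (Ideal.Quotient.mk I)
    have hle : I ≤ p := fun x hx ↦ by
      show Ideal.Quotient.mk I x ∈ q.asIdeal
      rw [Ideal.Quotient.eq_zero_iff_mem.mpr hx]; exact zero_mem _
    have hmap : p.map (Ideal.Quotient.mk I) = q.asIdeal :=
      Ideal.map_comap_of_surjective _ Ideal.Quotient.mk_surjective _
    let e : (A ⧸ p) ≃+* ((A ⧸ I) ⧸ q.asIdeal) :=
      (DoubleQuot.quotQuotEquivQuotOfLE hle).symm.trans (Ideal.quotEquivOfEq hmap)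
    obtain ⟨U, hU, ⟨x, hx⟩, hsub⟩ := h p
    refine ⟨PrimeSpectrum.comap e.toRingHom ⁻¹' U, hU.preimage (PrimeSpectrum.continuous_comap _),
      ⟨PrimeSpectrum.comap e.symm.toRingHom x, ?_⟩, fun w hw ↦ ?_⟩
    · show PrimeSpectrum.comap e.toRingHom (PrimeSpectrum.comap e.symm.toRingHom x) ∈ U
      rwa [← PrimeSpectrum.comap_comp_apply, show e.symm.toRingHom.comp e.toRingHom = RingHom.id _ from RingHom.ext e.symm_apply_apply, PrimeSpectrum.comap_id]
    · haveI : IsRegularLocalRing (Localization.AtPrime (PrimeSpectrum.comap e.toRingHom w).asIdeal) := hsub hw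
      refine IsRegularLocalRing.of_ringEquiv (R := Localization.AtPrime (PrimeSpectrum.comap e.toRingHom w).asIdeal)
        (IsLocalization.ringEquivOfRingEquiv (M := (PrimeSpectrum.comap e.toRingHom w).asIdeal.primeCompl)
          (T := w.asIdeal.primeCompl) (Localization.AtPrime _) (Localization.AtPrime w.asIdeal) e ?_)
      ext y
      refine ⟨?_, fun hy ↦ ⟨e.symm y, by show e (e.symm y) ∉ w.asIdeal; simpa using hy, e.apply_symm_apply y⟩⟩
      rintro ⟨z, hz, rfl⟩
      exact hz

end Groth.Agent.S4701
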