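import Groth.Statements.S4702
import Groth.Agent.DimFibreLib.Main
import Groth.Agent.S2639
import Groth.Agent.CatLib.Univ

set_option autoImplicit false
universe u
open EGA4

namespace Groth.Agent.S4702

open AlgebraicGeometry CategoryTheory in
/-- Let Y be an irreducible locally Noetherian scheme of dimension 1, X an irreducible scheme and f : X
→ Y a dominant morphism of finite type. Then for every point y in the image of f, every irreducible
component of the fibre of f at y has dimension equal to the dimension of the generic fibre. -/
theorem result {X Y : Scheme.{u}} (f : X ⟶ Y) [IsLocallyNoetherian Y]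
    [IrreducibleSpace Y] [IrreducibleSpace X] (hY : topologicalKrullDim Y = 1) [LocallyOfFiniteType f]
    [QuasiCompact f] (hf : DenseRange f.base) (y : Y) (hy : y ∈ Set.range f.base)
    (Z : Set ↥(f.fiber y)) (hZ : Z ∈ irreducibleComponents ↥(f.fiber y)) :
    topologicalKrullDim Z = topologicalKrullDim ↥(f.fiber (genericPoint Y)) := by
  haveI : IsLocallyNoetherian X := LocallyOfFiniteType.isLocallyNoetherian f
  obtain ⟨z, hz⟩ := QuasiSober.sober hZ.1 (isClosed_of_mem_irreducibleComponents _ hZ)
  rw [← hz.def, ← UOpenLib.fibreClosureDim_fiberι, DimFibreLib.generic_fibre_dim f hf]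
  have hw : f.base ((f.fiberι y).base z) = y := by
    have h := Set.mem_range_self (f := (f.fiberι y).base) z
    rw [f.range_fiberι] at h
    exact h
  set w := (f.fiberι y).base z with hwdef
  have hmax : ∀ w' : X, f.base w' = f.base w → w ∈ closure {w'} → w' = w := by
    intro w' hw' hmem
    obtain ⟨z', rfl⟩ : w' ∈ Set.range (f.fiberι y).base := by
      rw [f.range_fiberι]; exact hw'.trans hw
    have hs : z' ⤳ z := (f.fiberι y).isEmbedding.isInducing.specializes_iff.mp (specializes_iff_mem_closure.mpr hmem)
    have hle : closure {z} ≤ closure {z'} := hs.closure_subset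
    have : closure {z'} ≤ closure {z} := by
      rw [hz.def]; exact hZ.2 isIrreducible_singleton.closure (hz.def ▸ hle)
    exact congrArg (f.fiberι y).base (hs.antisymm (specializes_iff_mem_closure.mpr (this (subset_closure rfl)))).eq
  by_cases hyη : y = genericPoint Y
  · have hs : genericPoint X ⤳ w := genericPoint_specializes w
    have := hmax (genericPoint X) (by rw [DimFibreLib.image_genericPoint f hf, hw, hyη])
      (specializes_iff_mem_closure.mp hs)
    rw [← this]
  obtain ⟨c, hc⟩ := UOpenLib.exists_fibreClosureDim_eq_nat f w
  obtain ⟨e, he⟩ := UOpenLib.exists_fibreClosureDim_eq_nat f (genericPoint X)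
  have h0 : ringKrullDim ((f.fiber (f.base w)).presheaf.stalk (f.asFiber w)) = 0 := by
    have h := EquidimLib.fibreDimAt_eq_add_stalk f w
    rw [UOpenLib.fibreDimAt_eq_of_max f hmax, hc, add_comm] at h
    refine (EquidimLib.withBot_add_natCast_cancel (c := c) ?_).symm
    rwa [zero_add]
  have hy1 : ringKrullDim (Y.presheaf.stalk (f.base w)) = 1 := by
    refine le_antisymm (hY ▸ DimIneqLib.stalk_dim_le_dim _) ?_
    rw [← EquidimLib.dimBetween_genericPoint]
    exact EquidimLib.one_le_dimBetween (genericPoint_specializes _) fun h => hyη (hw ▸ h.symm)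
  have hx1 : ringKrullDim (X.presheaf.stalk w) = 1 := by
    refine le_antisymm ?_ ?_
    · have h := DimIneqLib.ringKrullDim_stalk_le_add_fibre f w
      rwa [h0, hy1, add_zero] at h
    · rw [← EquidimLib.dimBetween_genericPoint]
      refine EquidimLib.one_le_dimBetween (genericPoint_specializes _) fun h => hyη ?_
      rw [← hw, ← h, DimFibreLib.image_genericPoint f hf]
  have hcat : CAlg.IsUniversallyCatenary (Y.presheaf.stalk (f.base w)) := by
    haveI : IsNoetherianRing (Y.presheaf.stalk (f.base w)) := inferInstance
    refine CatLib.isUniversallyCatenary_of_isFormallyCatenary fun p hp => ?_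
    haveI := CatLib.isNoetherianRing_cpl (Y.presheaf.stalk (f.base w) ⧸ p)
    intro P hP
    refine Groth.Agent.S2639.result _ hy1.le p P
      (Module.associatedPrimes.minimalPrimes_annihilator_subset_associatedPrimes _ _ ?_)
    rw [Module.annihilator_eq_bot.mpr inferInstance]
    exact hP
  have h1 := EquidimLib.dimBetween_add_fibreClosureDim_eq f (genericPoint_specializes w) hcat
  rw [DimFibreLib.image_genericPoint f hf, EquidimLib.dimBetween_genericPoint, EquidimLib.dimBetween_genericPoint,
    hc, he, hx1, hy1, add_comm, add_comm (1 : WithBot ℕ∞)] at h1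
  rw [hc, he]
  have h2 : c + 1 = e + 1 := by exact_mod_cast h1
  exact_mod_cast (show c = e by omega)

end Groth.Agent.S4702
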