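import Groth.Statements.S4703
import Groth.Agent.GeomRedFibLib.FiniteDomainsP
import Groth.Agent.GeomRedFibLib.CplFibres
-- import your own Groth.Agent.* helpers here

set_option autoImplicit false
universe u
open EGA4

namespace Groth.Agent.S4703

open TensorProduct in
/-- For the property 'geometrically regular', case of a local ring: let A be a Noetherian local ring
with completion Â. Then the formal fibres of A are geometrically regular (the completion map A → Â
is a regular homomorphism) if and only if, for every finite A-algebra B which is a domain and every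
prime ideal q of B ⊗_A Â whose contraction to B is zero, the local ring of B ⊗_A Â at q is regular.
(The published statement is for semi-local rings; this row takes A local.) -/
theorem result (A : Type u) [CommRing A] [IsNoetherianRing A] [IsLocalRing A] :
    CAlg.IsRegularHom A (EGA4.Cpl A) ↔
      ∀ (B : Type u) [CommRing B] [IsDomain B] [Algebra A B] [Module.Finite A B]
        (q : Ideal (B ⊗[A] EGA4.Cpl A)) [q.IsPrime],
        q.comap (algebraMap B (B ⊗[A] EGA4.Cpl A)) = ⊥ → IsRegularLocalRing (Localization.AtPrime q) := by
  haveI := GeomRedFibLib.isNoetherianRing_cpl A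
  constructor
  · intro h B _ _ _ _ q _ hq
    obtain ⟨p, hp, ia, ht, hf⟩ := GeomRedFibLib.exists_residueField_algebra A B
    haveI := GeomRedFibLib.isNoetherianRing_fiber A (EGA4.Cpl A) p
    have h1 := GeomRedFibLib.RingP.congr GeomRedFibLib.isFlatLocalProp_regular
      (Algebra.TensorProduct.cancelBaseChange A p.ResidueField p.ResidueField (FractionRing B) (EGA4.Cpl A)).toRingEquiv
      ((GeomRedFibLib.isRegularRing_finite_bc_iff _ _ _).mp ((h.2 p).2 (FractionRing B) hf))
    exact (GeomRedFibLib.ringP_fractionRing_iff GeomRedFibLib.isFlatLocalProp_regular A (EGA4.Cpl A) B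
      (FractionRing B)).mp h1 q hq
  · intro h
    refine ⟨(GeomRedFibLib.faithfullyFlat_hat A).toFlat, fun p _ ↦ ?_⟩
    haveI := GeomRedFibLib.isNoetherianRing_fiber A (EGA4.Cpl A) p
    refine ⟨inferInstance, fun L _ _ hL ↦ ?_⟩
    rw [GeomRedFibLib.isRegularRing_finite_bc_iff]
    letI : Algebra A L := ((algebraMap p.ResidueField L).comp (algebraMap A p.ResidueField)).toAlgebra
    haveI : IsScalarTower A p.ResidueField L := .of_algebraMap_eq fun _ ↦ rfl
    obtain ⟨B, hB, hBL⟩ := GeomRedFibLib.exists_finite_domain A p L
    exact GeomRedFibLib.RingP.congr GeomRedFibLib.isFlatLocalProp_regular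
      (Algebra.TensorProduct.cancelBaseChange A p.ResidueField p.ResidueField L (EGA4.Cpl A)).toRingEquiv.symm
      ((GeomRedFibLib.ringP_fractionRing_iff GeomRedFibLib.isFlatLocalProp_regular A (EGA4.Cpl A) B L).mpr (h B))

end Groth.Agent.S4703
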