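import Groth.Statements.S4705
import Groth.Agent.GeomRedFibLib.CplMap
import Groth.Agent.GeomRedFibLib.Comp
import Groth.Agent.HopfFFLib.Nilradical
-- import your own Groth.Agent.* helpers here

set_option autoImplicit false
universe u
open EGA4

namespace Groth.Agent.S4705

/-- Let A → A' be a flat local homomorphism of Noetherian local rings all of whose fibre rings k(p) ⊗_A
A' are geometrically reduced over k(p). If the completion map of A' is regular (the formal fibres of
A' are geometrically regular), then the formal fibres of A are geometrically reduced. -/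
theorem result (A A' : Type u) [CommRing A] [CommRing A']
    [IsNoetherianRing A] [IsNoetherianRing A'] [IsLocalRing A] [IsLocalRing A'] [Algebra A A']
    [IsLocalHom (algebraMap A A')] [Module.Flat A A']
    (hf : ∀ (p : Ideal A) [p.IsPrime], Algebra.IsGeometricallyReduced p.ResidueField (p.Fiber A'))
    (hA' : CAlg.IsRegularHom A' (EGA4.Cpl A')) : EGA4.HasGeomReducedFormalFibres A := by
  obtain ⟨ψ, hψ⟩ := GeomRedFibLib.exists_cplMap A A'
  letI := ψ.toAlgebra
  haveI : IsScalarTower A (EGA4.Cpl A) (EGA4.Cpl A') :=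
    .of_algebraMap_eq fun a ↦ RingHom.congr_fun (GeomRedFibLib.comp_eq ψ hψ).symm a
  haveI : Module.Flat (EGA4.Cpl A) (EGA4.Cpl A') := GeomRedFibLib.flat_cplMap ψ hψ
  haveI : IsLocalHom (algebraMap (EGA4.Cpl A) (EGA4.Cpl A')) := GeomRedFibLib.isLocalHom_cplMap ψ hψ
  haveI : Module.FaithfullyFlat (EGA4.Cpl A) (EGA4.Cpl A') := Module.FaithfullyFlat.of_flat_of_isLocalHom
  haveI := hA'.1
  intro p _
  refine GeomRedFibLib.isGeometricallyReduced_fiber_of_comp A (EGA4.Cpl A) (EGA4.Cpl A') p ?_
  refine GeomRedFibLib.isGeometricallyReduced_fiber_comp A A' (EGA4.Cpl A') p (hf p) fun q _ ↦ ?_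
  refine ((Groth.Agent.S9634.result (k := q.ResidueField) (S := q.Fiber (EGA4.Cpl A'))).out 0 1).mp ?_
  intro k' _ _ _ _
  haveI := (hA'.2 q).2 k' inferInstance
  exact Groth.Agent.HopfFF.isReduced_of_isRegularRing _

end Groth.Agent.S4705
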