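import Groth.Statements.S4706
import Groth.Agent.GeomRedFibLib.LocalPropLocal
-- import your own Groth.Agent.* helpers here

set_option autoImplicit false
universe u
open EGA4

namespace Groth.Agent.S4706

/-- Let A → A' be a local homomorphism of Noetherian local rings which is normal (flat, with
geometrically normal fibres). If the completion map of A' is regular (the formal fibres of A' are
geometrically regular), then the formal fibres of A are geometrically normal. -/
theorem result (A A' : Type u) [CommRing A] [CommRing A']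
    [IsNoetherianRing A] [IsNoetherianRing A'] [IsLocalRing A] [IsLocalRing A'] [Algebra A A']
    [IsLocalHom (algebraMap A A')] (hf : EGA4.IsNormalHom A A') (hA' : CAlg.IsRegularHom A' (EGA4.Cpl A')) :
    EGA4.HasGeomNormalFormalFibres A := by
  haveI := hf.1
  obtain ⟨_, _, _⟩ := GeomRedFibLib.exists_cplTower A A'
  haveI := GeomRedFibLib.isNoetherianRing_cpl A
  haveI := GeomRedFibLib.isNoetherianRing_cpl A'
  haveI := hA'.1
  intro p _ k' _ _ hk
  haveI := hk
  haveI := GeomRedFibLib.isNoetherianRing_fiber A (EGA4.Cpl A) p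
  haveI := GeomRedFibLib.isNoetherianRing_fiber A A' p
  rw [GeomRedFibLib.isNormalRing_finite_bc_iff]
  obtain ⟨h1, h2⟩ := (GeomRedFibLib.isNormalRing_finite_bc_iff _ _ _).mp (hf.2 p k' hk)
  constructor
  · refine GeomRedFibLib.geomRingP_cancel (GeomRedFibLib.isFlatLocalProp_rkLoc 1) A (EGA4.Cpl A) (EGA4.Cpl A') p k' ?_
    refine GeomRedFibLib.geomRingP_comp (GeomRedFibLib.isFlatLocalProp_rkLoc 1) A A' (EGA4.Cpl A') p
      (fun q _ L _ _ hL ↦ ?_) k' h1
    haveI := (hA'.2 q).2 L hL
    exact GeomRedFibLib.rkLoc_of_regular 1 _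
  · refine GeomRedFibLib.geomRingP_cancel (GeomRedFibLib.isFlatLocalProp_skLoc 2) A (EGA4.Cpl A) (EGA4.Cpl A') p k' ?_
    refine GeomRedFibLib.geomRingP_comp (GeomRedFibLib.isFlatLocalProp_skLoc 2) A A' (EGA4.Cpl A') p
      (fun q _ L _ _ hL ↦ ?_) k' h2
    haveI := (hA'.2 q).2 L hL
    exact GeomRedFibLib.skLoc_of_regular 2 _

end Groth.Agent.S4706
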