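import Groth.Statements.S4707
import Groth.Agent.GeomRedFibLib.IntClosedBC
import Groth.Agent.GeomRedFibLib.TensorNormal
-- import your own Groth.Agent.* helpers here

set_option autoImplicit false
universe u
open EGA4

namespace Groth.Agent.S4707

open TensorProduct in
/-- Let A be a Noetherian ring and A' a Noetherian A-algebra such that A → A' is a normal homomorphism
(flat, with geometrically normal fibres). Let B → C be a homomorphism of A-algebras and D the
integral closure of B in C. Then the integral closure in A' ⊗_A C of the image of A' ⊗_A B is the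
image of A' ⊗_A D. (No finiteness is assumed on B or C.) -/
theorem result (A A' : Type u) [CommRing A] [CommRing A']
    [IsNoetherianRing A] [IsNoetherianRing A'] [Algebra A A'] (h : EGA4.IsNormalHom A A')
    (B C : Type u) [CommRing B] [CommRing C] [Algebra A B] [Algebra A C] [Algebra B C] [IsScalarTower A B C] :
    (integralClosure
          ↥(Algebra.TensorProduct.map (AlgHom.id A' A') (IsScalarTower.toAlgHom A B C)).range (A' ⊗[A] C) :
        Set (A' ⊗[A] C)) =
      Set.range (Algebra.TensorProduct.map (AlgHom.id A' A')
        ((integralClosure B C).val.restrictScalars A)) := by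
  haveI := h.1
  let D : Subalgebra A C := (integralClosure B C).restrictScalars A
  let iBD : B →ₐ[A] D := AlgHom.codRestrict (IsScalarTower.toAlgHom A B C) D fun b ↦ isIntegral_algebraMap
  let φB := Algebra.TensorProduct.map (AlgHom.id A' A') (IsScalarTower.toAlgHom A B C)
  refine Set.ext fun z ↦ ⟨fun hz ↦ ?_, ?_⟩
  · obtain ⟨p, hp, hpz⟩ := hz
    obtain ⟨q, hq, -, hqm⟩ := Polynomial.lifts_and_natDegree_eq_and_monic (f := φB.rangeRestrict.toRingHom)
      (Polynomial.map_surjective _ φB.rangeRestrict_surjective p) hp
    have hzB : φB.toRingHom.IsIntegralElem z := ⟨q, hqm, by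
      rw [← hq, Polynomial.eval₂_map] at hpz; exact hpz⟩
    obtain ⟨c, hc⟩ := GeomRedFibLib.intClosedMap_bc_subalgebra
      (fun p _ ↦ GeomRedFibLib.geomRed_of_isGeomNormal _ (h.2 p)) C D
      (fun x hx ↦ by
        have : Algebra.IsIntegral B (integralClosure B C) := inferInstance
        exact isIntegral_trans (R := B) (A := integralClosure B C) x hx) z
      (GeomRedFibLib.isIntegralElem_of_comm (g := RingHom.id _)
        (h := (Algebra.TensorProduct.map (AlgHom.id A A') iBD).toRingHom) (fun v ↦ by
          induction v using TensorProduct.induction_on with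
          | zero => simp
          | add x y hx hy => simp only [map_add, hx, hy]
          | tmul a b => rfl) hzB)
    refine ⟨c, ?_⟩
    rw [← hc]
    clear hc
    induction c using TensorProduct.induction_on with
    | zero => exact (map_zero _).trans (map_zero (Algebra.TensorProduct.map (AlgHom.id A A') D.val).toRingHom).symm
    | add x y hx hy => exact (map_add _ x y).trans ((congrArg₂ (· + ·) hx hy).trans (map_add (Algebra.TensorProduct.map (AlgHom.id A A') D.val).toRingHom x y).symm)
    | tmul a b => rfl
  · rintro ⟨v, rfl⟩
    induction v using TensorProduct.induction_on with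
    | zero => rw [map_zero]; exact Subalgebra.zero_mem _
    | add x y hx hy => rw [map_add]; exact Subalgebra.add_mem _ hx hy
    | tmul a d =>
      have ha : φB (a ⊗ₜ 1) ∈ φB.range := ⟨_, rfl⟩
      have hd : IsIntegral φB.range ((1 : A') ⊗ₜ[A] (d : C)) :=
        GeomRedFibLib.isIntegralElem_of_comm
          (g := (Algebra.TensorProduct.includeRight : C →ₐ[A] A' ⊗[A] C).toRingHom)
          (h := φB.rangeRestrict.toRingHom.comp (Algebra.TensorProduct.includeRight : B →ₐ[A] A' ⊗[A] B).toRingHom)
          (fun b ↦ by show _ = φB ((1 : A') ⊗ₜ b); simp [φB]) d.2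
      have := (isIntegral_algebraMap (x := (⟨_, ha⟩ : φB.range))).mul hd
      rw [show Algebra.TensorProduct.map (AlgHom.id A' A') ((integralClosure B C).val.restrictScalars A) (a ⊗ₜ d) =
        φB (a ⊗ₜ 1) * ((1 : A') ⊗ₜ[A] (d : C)) by simp [φB, Algebra.TensorProduct.tmul_mul_tmul]]
      exact this

end Groth.Agent.S4707
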