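import Groth.Statements.S4708
import Groth.Agent.CplExcLib.ClosedFibreApps
-- import your own Groth.Agent.* helpers here

set_option autoImplicit false
universe u
open EGA4

namespace Groth.Agent.S4708

/-- Let A → B be a local homomorphism of Noetherian local rings making B a flat A-module, such that the
residue field of B is a finite extension of the residue field k of A, and such that the formal
fibres of A are geometrically regular (the completion map A → Â is regular). If the k-algebra k ⊗_A
B̂, where B̂ is the completion of B, is geometrically regular over k, then every fibre of A → B is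
geometrically regular, that is, A → B is a regular homomorphism. -/
theorem result (A B : Type u) [CommRing A] [CommRing B]
    [IsNoetherianRing A] [IsNoetherianRing B] [IsLocalRing A] [IsLocalRing B] [Algebra A B]
    [IsLocalHom (algebraMap A B)] [Module.Flat A B]
    [Module.Finite (IsLocalRing.ResidueField A) (IsLocalRing.ResidueField B)]
    (hA : CAlg.IsRegularHom A (EGA4.Cpl A))
    (h : CAlg.IsGeometricallyRegular (IsLocalRing.maximalIdeal A).ResidueField
      ((IsLocalRing.maximalIdeal A).Fiber (EGA4.Cpl B))) :
    CAlg.IsRegularHom A B := by
  haveI := GeomRedFibLib.isNoetherianRing_cpl A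
  haveI := GeomRedFibLib.isNoetherianRing_cpl B
  haveI : ∀ (p : Ideal A) [p.IsPrime], IsNoetherianRing (p.Fiber B) := fun p _ ↦ GeomRedFibLib.isNoetherianRing_fiber A B p
  haveI : IsNoetherianRing ((IsLocalRing.maximalIdeal A).Fiber (EGA4.Cpl B)) := GeomRedFibLib.isNoetherianRing_fiber A _ _
  exact ⟨inferInstance, fun p _ ↦ ⟨inferInstance, (GeomRedFibLib.geomP_regular_iff _ _).mpr
    (CplExcLib.geomP_fibre_of_flat_local CplExcLib.isLiftProp_regular A B
      (fun q _ ↦ haveI := (hA.2 q).1; (GeomRedFibLib.geomP_regular_iff _ _).mp (hA.2 q).2)
      ((GeomRedFibLib.geomP_regular_iff _ _).mp h) p)⟩⟩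

end Groth.Agent.S4708
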