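import Groth.Statements.S4717
import Groth.Agent.TopDimLib.QuasiFinite
-- import your own Groth.Agent.* helpers here

set_option autoImplicit false
universe u
open EGA4

namespace Groth.Agent.S4717

open AlgebraicGeometry CategoryTheory in
/-- Let f : X → Y be a finite morphism of locally Noetherian schemes. Then dim X equals the dimension of
the image f(X); in particular if f is surjective then dim X = dim Y. -/
theorem result {X Y : Scheme.{u}} (f : X ⟶ Y) [IsLocallyNoetherian X] [IsLocallyNoetherian Y]
    [IsFinite f] :
    topologicalKrullDim X = topologicalKrullDim (Set.range f.base) ∧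
      (Function.Surjective f.base → topologicalKrullDim X = topologicalKrullDim Y) := by
  refine ⟨Groth.Agent.TopDimLib.topologicalKrullDim_eq_range_of_isFinite f, fun hs => ?_⟩
  rw [Groth.Agent.TopDimLib.topologicalKrullDim_eq_range_of_isFinite f]
  exact IsHomeomorph.topologicalKrullDim_eq _
    ((Homeomorph.setCongr hs.range_eq).trans (Homeomorph.Set.univ Y)).isHomeomorph

end Groth.Agent.S4717
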