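import Groth.Statements.S4719
import Groth.Agent.RestrictFinLib.Main

set_option autoImplicit false
set_option linter.style.haveILetI false
universe u
open EGA4

open SkOpenLib

namespace Groth.Agent.S4719

/-- Let A → B be a homomorphism of Noetherian rings and M a B-module which is finite as an A-module. (i)
If M satisfies (S_k) as an A-module, it satisfies (S_k) as a B-module. (ii) If for every two primes
q, q' of B in the support of M having the same contraction to A the modules M_q and M_{q'} have the
same dimension, then (S_k) for M as a B-module implies (S_k) for M as an A-module. (The published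
statement asks the equal-dimension condition for all pairs of primes of B with the same contraction;
this row asks it only for primes in the support of M, which is all its proof uses.) -/
theorem result (k : ℕ) (A B : Type u) [CommRing A] [CommRing B] [IsNoetherianRing A]
    [IsNoetherianRing B] [Algebra A B] (M : Type u) [AddCommGroup M] [Module B M] [Module A M]
    [IsScalarTower A B M] [Module.Finite A M] :
    (LocCoh.HasSk k A M → LocCoh.HasSk k B M) ∧
      ((∀ q ∈ Module.support B M, ∀ q' ∈ Module.support B M,
          q.asIdeal.comap (algebraMap A B) = q'.asIdeal.comap (algebraMap A B) →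
            Module.supportDim (Localization.AtPrime q.asIdeal) (LocalizedModule q.asIdeal.primeCompl M) =
              Module.supportDim (Localization.AtPrime q'.asIdeal) (LocalizedModule q'.asIdeal.primeCompl M)) →
        LocCoh.HasSk k B M → LocCoh.HasSk k A M) := by
  refine ⟨fun h q hq => ?_, fun hd h p hp => ?_⟩
  · by_cases hs : (⟨q, hq⟩ : PrimeSpectrum B) ∈ Module.support B M
    · obtain ⟨h1, h2⟩ := RestrictFinLib.sdim_sdep (A := A) (B := B) M (q.comap (algebraMap A B))
      have hmem : (⟨q, hq⟩ : PrimeSpectrum B) ∈ {r : PrimeSpectrum B |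
          r.asIdeal.comap (algebraMap A B) = q.comap (algebraMap A B) ∧ r ∈ Module.support B M} := ⟨rfl, hs⟩
      have e1 : sdim M q ≤ sdim M (q.comap (algebraMap A B)) := h1.symm ▸
        le_iSup₂ (f := fun (r : PrimeSpectrum B) (_ : r ∈ {r : PrimeSpectrum B |
          r.asIdeal.comap (algebraMap A B) = q.comap (algebraMap A B) ∧ r ∈ Module.support B M}) =>
            sdim M r.asIdeal) ⟨q, hq⟩ hmem
      have e2 : sdep M (q.comap (algebraMap A B)) ≤ sdep M q := h2.symm ▸
        iInf₂_le (f := fun (r : PrimeSpectrum B) (_ : r ∈ {r : PrimeSpectrum B |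
          r.asIdeal.comap (algebraMap A B) = q.comap (algebraMap A B) ∧ r ∈ Module.support B M}) =>
            sdep M r.asIdeal) ⟨q, hq⟩ hmem
      exact ((min_le_min_left _ e1).trans (h (q.comap (algebraMap A B)))).trans (WithBot.coe_le_coe.2 e2)
    · haveI := Module.notMem_support_iff.1 hs
      rw [Module.supportDim_eq_bot_of_subsingleton]
      exact (min_le_right _ _).trans bot_le
  · obtain ⟨h1, h2⟩ := RestrictFinLib.sdim_sdep (A := A) (B := B) M p
    show min _ (sdim M p) ≤ ((sdep M p : ℕ∞) : WithBot ℕ∞)
    rw [h1, h2]
    by_cases he : ∃ q : PrimeSpectrum B, q.asIdeal.comap (algebraMap A B) = p ∧ q ∈ Module.support B M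
    · obtain ⟨q₀, hq₀, hs₀⟩ := he
      haveI : Nontrivial (LocalizedModule q₀.asIdeal.primeCompl M) := Module.mem_support_iff.1 hs₀
      haveI : Module.Finite B M := Module.Finite.of_restrictScalars_finite A B M
      obtain ⟨d, hd₀⟩ := WithBot.ne_bot_iff_exists.1
        (Module.supportDim_ne_bot_of_nontrivial (Localization.AtPrime q₀.asIdeal)
          (LocalizedModule q₀.asIdeal.primeCompl M))
      calc min (k : WithBot ℕ∞) _ ≤ min (k : WithBot ℕ∞) (d : WithBot ℕ∞) := min_le_min_left _
            (iSup₂_le fun q hq => le_of_eq ((hd q hq.2 q₀ hs₀ (hq.1.trans hq₀.symm)).trans hd₀.symm))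
        _ = ((min (k : ℕ∞) d : ℕ∞) : WithBot ℕ∞) := (WithBot.coe_min _ _).symm
        _ ≤ _ := WithBot.coe_le_coe.2 (le_iInf₂ fun q hq => WithBot.coe_le_coe.1 (by
              rw [WithBot.coe_min, hd₀, ← hd q hq.2 q₀ hs₀ (hq.1.trans hq₀.symm)]
              exact h q.asIdeal))
    · exact (min_le_right _ _).trans ((iSup₂_le fun q hq => (he ⟨q, hq⟩).elim).trans bot_le)

end Groth.Agent.S4719
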