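import Groth.Statements.S4721
import Groth.Agent.PunctConnLib.Main

set_option autoImplicit false
set_option linter.style.haveILetI false
universe u
open EGA4

namespace Groth.Agent.S4721

/-- Let A be a Noetherian ring whose spectrum is connected and d a natural number such that for every
prime p of height at least d the local ring A_p has depth at least 2. Then for any two distinct
minimal primes p', p'' of A there is a finite chain of minimal primes starting at p' and ending at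
p'' such that any two consecutive members are both contained in a prime ideal of height at most d −
1 (the spectrum is connected in codimension at most d − 1). -/
theorem result (A : Type u) [CommRing A] [IsNoetherianRing A]
    [ConnectedSpace (PrimeSpectrum A)] (d : ℕ)
    (h : ∀ (p : Ideal A) [p.IsPrime], (d : ℕ∞) ≤ p.height →
      (2 : ℕ∞) ≤ LocCoh.depth (Localization.AtPrime p) (Localization.AtPrime p))
    (p' p'' : Ideal A) (hp' : p' ∈ minimalPrimes A) (hp'' : p'' ∈ minimalPrimes A) (hne : p' ≠ p'') :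
    ∃ (n : ℕ) (c : Fin (n + 1) → Ideal A), c 0 = p' ∧ c (Fin.last n) = p'' ∧ (∀ i, c i ∈ minimalPrimes A) ∧
      ∀ i : Fin n, ∃ (q : Ideal A) (_ : q.IsPrime),
        c i.castSucc ≤ q ∧ c i.succ ≤ q ∧ q.height + 1 ≤ (d : ℕ∞) := by
  classical
  let Adj : Ideal A → Ideal A → Prop := fun c c' => c ∈ minimalPrimes A ∧ c' ∈ minimalPrimes A ∧
    ∃ (q : Ideal A) (_ : q.IsPrime), c ≤ q ∧ c' ≤ q ∧ q.height + 1 ≤ (d : ℕ∞)
  suffices hr : Relation.ReflTransGen Adj p' p'' by
    clear hne hp''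
    induction hr with
    | refl => exact ⟨0, fun _ => p', rfl, rfl, fun _ => hp', fun i => i.elim0⟩
    | tail _ hstep ih =>
      obtain ⟨n, c, h0, hl, hmin, hadj⟩ := ih
      refine ⟨n + 1, Fin.snoc c _, ?_, Fin.snoc_last _ _, fun i => ?_, fun i => ?_⟩
      · rw [← Fin.castSucc_zero, Fin.snoc_castSucc, h0]
      · refine Fin.lastCases ?_ (fun j => ?_) i
        · rw [Fin.snoc_last]; exact hstep.2.1
        · rw [Fin.snoc_castSucc]; exact hmin j
      · refine Fin.lastCases ?_ (fun j => ?_) i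
        · rw [Fin.snoc_castSucc, Fin.succ_last, Fin.snoc_last, hl]; exact hstep.2.2
        · rw [Fin.snoc_castSucc, Fin.succ_castSucc, Fin.snoc_castSucc]; exact hadj j
  by_contra hnot
  let S₁ := (minimalPrimes.finite_of_isNoetherianRing A).toFinset.filter fun c => Relation.ReflTransGen Adj p' c
  let S₂ := (minimalPrimes.finite_of_isNoetherianRing A).toFinset.filter fun c => ¬ Relation.ReflTransGen Adj p' c
  let I : Ideal A := S₁.inf id
  let J : Ideal A := S₂.inf id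
  have hS₁ : ∀ c, c ∈ S₁ ↔ c ∈ minimalPrimes A ∧ Relation.ReflTransGen Adj p' c := fun c => by simp [S₁]
  have hS₂ : ∀ c, c ∈ S₂ ↔ c ∈ minimalPrimes A ∧ ¬ Relation.ReflTransGen Adj p' c := fun c => by simp [S₂]
  have hI : ∀ P : Ideal A, P.IsPrime → (I ≤ P ↔ ∃ c ∈ S₁, c ≤ P) := fun P hP => hP.inf_le'
  have hJ : ∀ P : Ideal A, P.IsPrime → (J ≤ P ↔ ∃ c ∈ S₂, c ≤ P) := fun P hP => hP.inf_le'
  have hp'S : p' ∈ S₁ := (hS₁ p').2 ⟨hp', .refl⟩
  have hp''S : p'' ∈ S₂ := (hS₂ p'').2 ⟨hp'', hnot⟩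
  have hcov : ∀ P : Ideal A, P.IsPrime → I ≤ P ∨ J ≤ P := fun P hP => by
    obtain ⟨c, hc, hcP⟩ := Ideal.exists_minimalPrimes_le (I := (⊥ : Ideal A)) (J := P) bot_le
    by_cases hr : Relation.ReflTransGen Adj p' c
    · exact Or.inl ((hI P hP).2 ⟨c, (hS₁ c).2 ⟨hc, hr⟩, hcP⟩)
    · exact Or.inr ((hJ P hP).2 ⟨c, (hS₂ c).2 ⟨hc, hr⟩, hcP⟩)
  haveI hp'P : p'.IsPrime := hp'.1.1
  haveI hp''P : p''.IsPrime := hp''.1.1
  obtain ⟨x, hxI, hxJ⟩ : ∃ x : PrimeSpectrum A, I ≤ x.asIdeal ∧ J ≤ x.asIdeal := by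
    by_contra hno
    push_neg at hno
    have hcompl : (PrimeSpectrum.zeroLocus (I : Set A))ᶜ = PrimeSpectrum.zeroLocus (J : Set A) := by
      ext y
      simp only [Set.mem_compl_iff, PrimeSpectrum.mem_zeroLocus, SetLike.coe_subset_coe]
      exact ⟨fun hy => (hcov _ y.2).resolve_left hy, fun hy hy' => hno y hy' hy⟩
    have hclopen : IsClopen (PrimeSpectrum.zeroLocus (I : Set A)) :=
      ⟨PrimeSpectrum.isClosed_zeroLocus _, isClosed_compl_iff.1 (hcompl ▸ PrimeSpectrum.isClosed_zeroLocus _)⟩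
    rcases isClopen_iff.1 hclopen with he | he
    · exact Set.eq_empty_iff_forall_notMem.1 he ⟨p', hp'P⟩ ((hI p' hp'P).2 ⟨p', hp'S, le_rfl⟩)
    · have hin : (⟨p'', hp''P⟩ : PrimeSpectrum A) ∈ PrimeSpectrum.zeroLocus (I : Set A) := by rw [he]; trivial
      exact hno ⟨p'', hp''P⟩ hin ((hJ p'' hp''P).2 ⟨p'', hp''S, le_rfl⟩)
  obtain ⟨P, hP, -⟩ := Ideal.exists_minimalPrimes_le (I := I ⊔ J) (J := x.asIdeal) (sup_le hxI hxJ)
  haveI hPp : P.IsPrime := hP.1.1
  obtain ⟨c, hc, hcP⟩ := (hI P hPp).1 (le_sup_left.trans hP.1.2)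
  obtain ⟨c', hc', hc'P⟩ := (hJ P hPp).1 (le_sup_right.trans hP.1.2)
  rw [hS₁] at hc
  rw [hS₂] at hc'
  have hcne : c ≠ c' := fun e => hc'.2 (e ▸ hc.2)
  have hPc : P ≠ c := fun e => hcne (le_antisymm (hc.1.2 ⟨hc'.1.1.1, bot_le⟩ (e ▸ hc'P)) (e ▸ hc'P))
  have hPc' : P ≠ c' := fun e => hcne (le_antisymm (e ▸ hcP) (hc'.1.2 ⟨hc.1.1.1, bot_le⟩ (e ▸ hcP)))
  have hht : (d : ℕ∞) ≤ P.height := by
    by_contra hlt
    exact hc'.2 (hc.2.tail ⟨hc.1, hc'.1, P, hPp, hcP, hc'P, Order.add_one_le_of_lt (not_le.1 hlt)⟩)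
  let R := Localization.AtPrime P
  have key : ∀ W : Ideal R, W.IsPrime → (W.comap (algebraMap A R)).IsPrime := fun W hW => hW.comap _
  have hlift : ∀ e : Ideal A, e ∈ minimalPrimes A → e ≤ P → P ≠ e →
      (e.map (algebraMap A R)).IsPrime ∧ e.map (algebraMap A R) ≠ IsLocalRing.maximalIdeal R := fun e he heP hne' => by
    haveI := he.1.1
    have hdis : Disjoint (P.primeCompl : Set A) (e : Set A) :=
      Set.disjoint_left.2 fun a ha ha' => ha (heP ha')
    refine ⟨IsLocalization.isPrime_of_isPrime_disjoint P.primeCompl _ _ inferInstance hdis, fun h' => hne' ?_⟩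
    have h2 := congrArg (Ideal.comap (algebraMap A R)) h'
    rw [show Ideal.comap (algebraMap A R) (e.map (algebraMap A R)) = e from
      IsLocalization.under_map_of_isPrime_disjoint P.primeCompl R inferInstance hdis] at h2
    rw [h2]
    exact Localization.AtPrime.under_maximalIdeal.symm
  refine PunctConnLib.not_disconnected (h P hht) (I.map (algebraMap A R)) (J.map (algebraMap A R))
    (fun W hW => (hcov _ (key W hW)).imp Ideal.map_le_iff_le_comap.2 Ideal.map_le_iff_le_comap.2) ?_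
    ⟨c.map _, (hlift c hc.1 hcP hPc).1, Ideal.map_mono (Finset.inf_le ((hS₁ c).2 hc)), (hlift c hc.1 hcP hPc).2⟩
    ⟨c'.map _, (hlift c' hc'.1 hc'P hPc').1, Ideal.map_mono (Finset.inf_le ((hS₂ c').2 hc')), (hlift c' hc'.1 hc'P hPc').2⟩
  rw [Ideal.radical_eq_sInf]
  refine le_sInf fun W hW => ?_
  obtain ⟨hIW, hW'⟩ := hW
  rw [← Ideal.map_sup] at hIW
  have hle : W.comap (algebraMap A R) ≤ P :=
    le_of_le_of_eq (Ideal.comap_mono (IsLocalRing.le_maximalIdeal hW'.ne_top)) Localization.AtPrime.under_maximalIdeal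
  have heq := le_antisymm hle (hP.2 ⟨key W hW', Ideal.map_le_iff_le_comap.1 hIW⟩ hle)
  rw [← Localization.AtPrime.map_eq_maximalIdeal, Ideal.map_le_iff_le_comap, heq]

end Groth.Agent.S4721
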