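import Groth.Statements.S4722
import Mathlib

-- import your own Groth.Agent.* helpers here

set_option autoImplicit false
universe u
open EGA4

namespace Groth.Agent.S4722

/-- Let A be a Noetherian ring and M a finite A-module whose set of associated primes is a single prime
p. Then M has a finite decreasing filtration by submodules M = M_0 ⊇ M_1 ⊇ ⋯ ⊇ M_m = 0 such that
each quotient M_h/M_{h+1} is isomorphic to a submodule of A/p (i.e. embeds A-linearly into A/p). -/
theorem result (A : Type u) [CommRing A] [IsNoetherianRing A]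
    (M : Type u) [AddCommGroup M] [Module A M] [Module.Finite A M] (p : Ideal A)
    (hp : associatedPrimes A M = {p}) :
    ∃ (m : ℕ) (F : Fin (m + 1) → Submodule A M), Antitone F ∧ F 0 = ⊤ ∧ F (Fin.last m) = ⊥ ∧
      ∀ i : Fin m, ∃ g : (↥(F i.castSucc) ⧸ Submodule.comap (F i.castSucc).subtype (F i.succ)) →ₗ[A] (A ⧸ p),
        Function.Injective g := by
  classical
  have hpA : p ∈ associatedPrimes A M := by rw [hp]; exact rfl
  haveI hpp : p.IsPrime := IsAssociatedPrime.isPrime hpA
  have hreg : ∀ s, s ∉ p → ∀ x : M, s • x = 0 → x = 0 := by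
    intro s hs x hx
    by_contra hx0
    have : s ∈ ⋃ q ∈ associatedPrimes A M, (q : Set A) := by
      rw [biUnion_associatedPrimes_eq_zero_divisors]; exact ⟨x, hx0, hx⟩
    simp [hp] at this
    exact hs this
  have hann : Module.annihilator A M ≤ p := by
    intro r hr
    by_contra hrp
    obtain ⟨-, x, hx⟩ := isAssociatedPrime_iff.1 hpA
    have hx0 : x = 0 := hreg r hrp x (Module.mem_annihilator.1 hr x)
    exact hpp.ne_top (by rw [hx, hx0]; simp)
  obtain ⟨n, hn⟩ : ∃ n, p ^ n ≤ Module.annihilator A M := by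
    refine Ideal.exists_pow_le_of_le_radical_of_fg ?_ ((isNoetherianRing_iff_ideal_fg A).1 inferInstance p)
    rw [← Ideal.sInf_minimalPrimes]
    refine le_sInf fun q hq => le_of_eq ?_
    have : q ∈ associatedPrimes A M := Module.associatedPrimes.minimalPrimes_annihilator_subset_associatedPrimes A M hq
    rw [hp] at this
    exact (Set.mem_singleton_iff.1 this).symm
  suffices key : ∀ K : Submodule A M, (∀ s, s ∉ p → ∀ x, s • x ∈ K → x ∈ K) → ∃ (m : ℕ) (F : Fin (m + 1) → Submodule A M), Antitone F ∧ F 0 = ⊤ ∧ F (Fin.last m) = K ∧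
      ∀ i : Fin m, ∃ g : (↥(F i.castSucc) ⧸ Submodule.comap (F i.castSucc).subtype (F i.succ)) →ₗ[A] (A ⧸ p), Function.Injective g from
    key ⊥ (fun s hs x hx => (Submodule.mem_bot A).2 (hreg s hs x ((Submodule.mem_bot A).1 hx)))
  intro K
  induction K using IsNoetherian.induction with
  | hgt K ih =>
    intro hK
    by_cases htop : K = ⊤
    · exact ⟨0, fun _ => ⊤, fun _ _ _ => le_rfl, rfl, htop.symm, fun i => i.elim0⟩
    obtain ⟨x, hx, hpx⟩ : ∃ x, x ∉ K ∧ ∀ a ∈ p, a • x ∈ K := by
      obtain ⟨y, -, hy⟩ := SetLike.exists_of_lt (lt_top_iff_ne_top.2 htop)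
      by_contra hcon
      push Not at hcon
      have : ∀ j, ∃ z, z ∉ K ∧ ∀ a ∈ p ^ (n - j), a • z ∈ K := by
        intro j
        induction j with
        | zero => exact ⟨y, hy, fun a ha => by rw [Module.mem_annihilator.1 (hn (by simpa using ha))]; exact zero_mem _⟩
        | succ j ihj =>
          obtain ⟨z, hz, hz'⟩ := ihj
          by_cases hj : n - j = 0
          · exact ⟨z, hz, fun a ha => hz' a (by rw [hj, pow_zero, Ideal.one_eq_top]; trivial)⟩
          obtain ⟨b, hb, hbz⟩ := hcon z hz
          refine ⟨b • z, hbz, fun a ha => ?_⟩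
          rw [smul_smul]
          exact hz' _ (by rw [show n - j = n - (j + 1) + 1 by omega, pow_succ]; exact Ideal.mul_mem_mul ha hb)
      obtain ⟨z, hz, hz'⟩ := this n
      exact hz (by simpa using hz' 1 (by simp))
    let L : Submodule A M :=
      { carrier := {m | ∃ s, s ∉ p ∧ ∃ r : A, s • m - r • x ∈ K}
        zero_mem' := ⟨1, fun h => hpp.ne_top ((Ideal.eq_top_iff_one _).2 h), 0, by simp⟩
        add_mem' := by
          rintro a b ⟨s, hs, r, h⟩ ⟨s', hs', r', h'⟩
          refine ⟨s * s', fun e => (hpp.mem_or_mem e).elim hs hs', s' * r + s * r', ?_⟩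
          convert K.add_mem (K.smul_mem s' h) (K.smul_mem s h') using 1
          module
        smul_mem' := by
          rintro c a ⟨s, hs, r, h⟩
          refine ⟨s, hs, c * r, ?_⟩
          convert K.smul_mem c h using 1
          module }
    have hKL : K < L := lt_of_le_of_ne (fun m hm => ⟨1, fun h => hpp.ne_top ((Ideal.eq_top_iff_one _).2 h), 0, by simpa using hm⟩)
      fun h => hx (h ▸ ⟨1, fun h => hpp.ne_top ((Ideal.eq_top_iff_one _).2 h), 1, by simp⟩)
    have hL : ∀ s, s ∉ p → ∀ m, s • m ∈ L → m ∈ L := by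
      rintro s hs m ⟨s', hs', r, h⟩
      exact ⟨s' * s, fun e => (hpp.mem_or_mem e).elim hs' hs, r, by rwa [mul_smul]⟩
    obtain ⟨m, F, hF, h0, hlast, hstep⟩ := ih L hKL hL
    -- the quotient `L / K` embeds into `A / p`
    have hrx : ∀ r, r • x ∈ K ↔ r ∈ p := fun r => ⟨fun h => by_contra fun hr => hx (hK r hr x h), fun h => hpx r h⟩
    obtain ⟨T, hT⟩ := IsNoetherian.noetherian L
    have hmemT : ∀ l : T, ∃ s, s ∉ p ∧ ∃ r : A, s • (l : M) - r • x ∈ K := fun l =>
      (show (l : M) ∈ L from hT ▸ Submodule.subset_span l.2)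
    choose s hs r hr using hmemT
    let S := ∏ l : T, s l
    have hS : S ∉ p := fun h => by
      obtain ⟨l, -, hl⟩ := Ideal.IsPrime.prod_mem_iff.1 h
      exact hs l hl
    have hSL : ∀ l ∈ L, ∃ c : A, S • l - c • x ∈ K := by
      intro l hl
      rw [← hT] at hl
      induction hl using Submodule.span_induction with
      | mem l hl =>
        refine ⟨(∏ l' ∈ Finset.univ.erase (⟨l, hl⟩ : T), s l') * r ⟨l, hl⟩, ?_⟩
        have := K.smul_mem (∏ l' ∈ Finset.univ.erase (⟨l, hl⟩ : T), s l') (hr ⟨l, hl⟩)
        rw [smul_sub, smul_smul, smul_smul, Finset.prod_erase_mul _ _ (Finset.mem_univ _)] at this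
        exact this
      | zero => exact ⟨0, by simp⟩
      | add u v _ _ hu hv =>
        obtain ⟨c, hc⟩ := hu
        obtain ⟨c', hc'⟩ := hv
        exact ⟨c + c', by convert K.add_mem hc hc' using 1; module⟩
      | smul q u _ hu =>
        obtain ⟨c, hc⟩ := hu
        exact ⟨q * c, by convert K.smul_mem q hc using 1; module⟩
    choose c hc using hSL
    have hcu : ∀ l (hl : l ∈ L) c', S • l - c' • x ∈ K → Ideal.Quotient.mk p (c l hl) = Ideal.Quotient.mk p c' := fun l hl c' h => by
      rw [Ideal.Quotient.eq, ← hrx, sub_smul]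
      convert K.sub_mem h (hc l hl) using 1
      abel
    let g : L →ₗ[A] A ⧸ p :=
      { toFun := fun l => Ideal.Quotient.mk p (c l.1 l.2)
        map_add' := fun u v => by
          rw [← map_add]
          exact hcu _ _ _ (by convert K.add_mem (hc u.1 u.2) (hc v.1 v.2) using 1; rw [Submodule.coe_add]; module)
        map_smul' := fun q u => by
          rw [RingHom.id_apply, Algebra.smul_def, Ideal.Quotient.algebraMap_eq, ← map_mul]
          exact hcu _ _ _ (by convert K.smul_mem q (hc u.1 u.2) using 1; rw [Submodule.coe_smul]; module) }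
    have hgK : K.comap L.subtype = LinearMap.ker g := by
      ext ⟨l, hl⟩
      simp only [Submodule.mem_comap, Submodule.subtype_apply, LinearMap.mem_ker]
      constructor
      · intro h
        exact (hcu l hl 0 (by simpa using K.smul_mem S h)).trans (map_zero _)
      · intro h
        have hcp : c l hl ∈ p := Ideal.Quotient.eq_zero_iff_mem.1 h
        exact hK S hS l (by simpa using K.add_mem (hc l hl) (hpx _ hcp))
    have hcomap : K.comap L.subtype ≤ LinearMap.ker g := hgK.le
    refine ⟨m + 1, Fin.snoc F K, ?_, ?_, Fin.snoc_last _ _, fun i => ?_⟩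
    · refine Fin.antitone_iff_succ_le.2 fun i => ?_
      induction i using Fin.lastCases with
      | last => rw [Fin.succ_last, Fin.snoc_last, Fin.snoc_castSucc, hlast]; exact hKL.le
      | cast i => rw [Fin.succ_castSucc, Fin.snoc_castSucc, Fin.snoc_castSucc]; exact Fin.antitone_iff_succ_le.1 hF i
    · rw [← Fin.castSucc_zero, Fin.snoc_castSucc, h0]
    · induction i using Fin.lastCases with
      | last =>
        rw [Fin.succ_last, Fin.snoc_last, Fin.snoc_castSucc, hlast]
        refine ⟨(K.comap L.subtype).liftQ g hcomap, ?_⟩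
        rw [← LinearMap.ker_eq_bot, Submodule.ker_liftQ_eq_bot']
        exact hgK
      | cast i => rw [Fin.succ_castSucc, Fin.snoc_castSucc, Fin.snoc_castSucc]; exact hstep i

end Groth.Agent.S4722
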