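import Groth.Statements.S4728
import Groth.Agent.GeomRedFibLib.GeomApps
import Groth.Agent.GeomRedFibLib.Normal
-- import your own Groth.Agent.* helpers here

set_option autoImplicit false
universe u
open EGA4

namespace Groth.Agent.S4728

/-- Let A be a Noetherian local domain of dimension 1 with maximal ideal m, A' a Noetherian local ring
and A → A' a local homomorphism which is normal (flat, with geometrically normal fibres). Then the
ideal m A' of A' is prime and the local ring of A' at m A' has dimension 1. (The remaining clauses
of the published item, describing A' inside its total ring of fractions, are not restated.) -/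
theorem result (A A' : Type u) [CommRing A] [CommRing A']
    [IsNoetherianRing A] [IsNoetherianRing A'] [IsLocalRing A] [IsLocalRing A'] [IsDomain A]
    (hA : ringKrullDim A = 1) [Algebra A A'] [IsLocalHom (algebraMap A A')] (h : EGA4.IsNormalHom A A') :
    ((IsLocalRing.maximalIdeal A).map (algebraMap A A')).IsPrime ∧
      ((IsLocalRing.maximalIdeal A).map (algebraMap A A')).height = 1 := by
  haveI := h.1
  let m' := IsLocalRing.maximalIdeal A'
  let p := m'.comap (algebraMap A A')
  have hp : p = IsLocalRing.maximalIdeal A := IsLocalRing.maximalIdeal_comap (algebraMap A A')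
  obtain ⟨Q, hQ, hQq⟩ := CMFlatLib.exists_fibre_point (R := A) (B := A') ⟨m', inferInstance⟩
  obtain ⟨θ, -⟩ := CMFlatLib.exists_fibreLocal_equiv p Q m' hQq
  have hN : EGA4.IsNormalRing (p.Fiber A') :=
    GeomRedFibLib.isNormalRing_of_ringEquiv _ _ (Algebra.TensorProduct.lid p.ResidueField (p.Fiber A')).toRingEquiv
      (h.2 p p.ResidueField inferInstance)
  haveI := (hN Q).1
  haveI hdom : IsDomain (Localization.AtPrime m' ⧸ p.map (algebraMap A (Localization.AtPrime m'))) :=
    θ.toMulEquiv.isDomain
  have hpr := (Ideal.Quotient.isDomain_iff_prime _).mp hdom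
  let e := IsLocalization.atUnits A' m'.primeCompl (S := Localization.AtPrime m')
    (fun x hx ↦ by simpa [IsUnit.mem_submonoid_iff, m'] using hx)
  have hP : ((IsLocalRing.maximalIdeal A).map (algebraMap A A')).IsPrime := by
    have h1 : ((p.map (algebraMap A A')).map (algebraMap A' (Localization.AtPrime m'))).IsPrime := by
      rw [Ideal.map_map, ← IsScalarTower.algebraMap_eq]
      exact hpr
    have h2 := Ideal.IsPrime.comap (algebraMap A' (Localization.AtPrime m')) (hK := h1)
    rw [Ideal.comap_map_of_bijective _ (by
      have : (algebraMap A' (Localization.AtPrime m') : A' → Localization.AtPrime m') = e := by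
        funext x; exact (e.commutes x).symm
      rw [this]; exact e.bijective)] at h2
    rwa [hp] at h2
  refine ⟨hP, ?_⟩
  haveI := hP
  let P := (IsLocalRing.maximalIdeal A).map (algebraMap A A')
  have hcomap : IsLocalRing.maximalIdeal A = P.comap (algebraMap A A') := by
    refine le_antisymm Ideal.le_comap_map (IsLocalRing.le_maximalIdeal ?_)
    exact (Ideal.IsPrime.comap (algebraMap A A') (hK := hP)).ne_top
  haveI : IsLocalHom (algebraMap A (Localization.AtPrime P)) := ⟨fun x hx ↦ by
    by_contra hc
    have hxm : x ∈ IsLocalRing.maximalIdeal A := hc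
    have : algebraMap A (Localization.AtPrime P) x ∈ IsLocalRing.maximalIdeal (Localization.AtPrime P) := by
      rw [IsScalarTower.algebraMap_apply A A' (Localization.AtPrime P), ← IsLocalization.AtPrime.map_eq_maximalIdeal P]
      exact Ideal.mem_map_of_mem _ (Ideal.mem_map_of_mem _ hxm)
    exact this hx⟩
  haveI : Module.Flat A (Localization.AtPrime P) := Module.Flat.trans A A' (Localization.AtPrime P)
  have hd : ringKrullDim (Localization.AtPrime P) = ringKrullDim A := by
    refine GeomRedFibLib.ringKrullDim_eq_of_fib_dim_zero A (Localization.AtPrime P) ?_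
    have hmax : (IsLocalRing.maximalIdeal A).map (algebraMap A (Localization.AtPrime P)) =
        IsLocalRing.maximalIdeal (Localization.AtPrime P) := by
      rw [IsScalarTower.algebraMap_eq A A' (Localization.AtPrime P), ← Ideal.map_map,
        IsLocalization.AtPrime.map_eq_maximalIdeal]
    haveI : ((IsLocalRing.maximalIdeal A).map (algebraMap A (Localization.AtPrime P))).IsMaximal :=
      hmax ▸ IsLocalRing.maximalIdeal.isMaximal _
    exact ringKrullDim_eq_zero_of_isField ((Ideal.Quotient.maximal_ideal_iff_isField_quotient _).mp this)
  rw [hA, IsLocalization.AtPrime.ringKrullDim_eq_height P (Localization.AtPrime P)] at hd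
  exact_mod_cast hd

end Groth.Agent.S4728
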