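import Groth.Statements.S4729
import Mathlib


-- import your own Groth.Agent.* helpers here

set_option autoImplicit false
universe u
open EGA4

namespace Groth.Agent.S4729

/-- Let A be a commutative ring, M a finite A-module and p ⊆ q prime ideals of A (so that p is a
generization of q). Then the dimension of the A_p-module M_p is at most the dimension of the
A_q-module M_q. -/
theorem result (A : Type u) [CommRing A] (M : Type u) [AddCommGroup M] [Module A M]
    [Module.Finite A M] (p q : Ideal A) [p.IsPrime] [q.IsPrime] (hpq : p ≤ q) :
    Module.supportDim (Localization.AtPrime p) (LocalizedModule p.primeCompl M) ≤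
      Module.supportDim (Localization.AtPrime q) (LocalizedModule q.primeCompl M) := by
  classical
  have hsupp : ∀ (r : Ideal A) [r.IsPrime] (P : PrimeSpectrum (Localization.AtPrime r)),
      P ∈ Module.support (Localization.AtPrime r) (LocalizedModule r.primeCompl M) ↔
        PrimeSpectrum.comap (algebraMap A (Localization.AtPrime r)) P ∈ Module.support A M := by
    intro r _ P
    simp only [Module.mem_support_iff_exists_annihilator, PrimeSpectrum.comap_asIdeal]
    constructor
    · rintro ⟨z, hz⟩
      induction z using LocalizedModule.induction_on with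
      | h m s =>
        refine ⟨m, fun a ha => ?_⟩
        rw [Submodule.mem_annihilator_span_singleton] at ha
        refine hz ((Submodule.mem_annihilator_span_singleton _ _).2 ?_)
        rw [algebraMap_smul, LocalizedModule.smul'_mk, ha, LocalizedModule.zero_mk]
    · rintro ⟨m, hm⟩
      refine ⟨LocalizedModule.mk m 1, fun z hz => ?_⟩
      rw [Submodule.mem_annihilator_span_singleton] at hz
      induction z using Localization.induction_on with
      | H y =>
        obtain ⟨a, t⟩ := y
        rw [LocalizedModule.mk_smul_mk, ← LocalizedModule.zero_mk 1, LocalizedModule.mk_eq] at hz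
        obtain ⟨u, hu⟩ := hz
        simp only [mul_one, one_smul, smul_zero] at hu
        have hua : (u : A) * a ∈ P.asIdeal.comap (algebraMap A (Localization.AtPrime r)) := hm (by
          rw [Submodule.mem_annihilator_span_singleton, mul_smul]
          exact hu)
        have hP : P.asIdeal ≠ ⊤ := P.isPrime.ne_top
        have hunit : IsUnit (algebraMap A (Localization.AtPrime r) (u : A)) :=
          IsLocalization.map_units (Localization.AtPrime r) u
        rw [Ideal.mem_comap, map_mul, Ideal.unit_mul_mem_iff_mem _ hunit] at hua
        rw [Localization.mk_eq_mk', IsLocalization.mk'_eq_mul_mk'_one]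
        exact Ideal.mul_mem_right _ _ hua
  unfold Module.supportDim
  refine Order.krullDim_le_of_strictMono
    (fun P => ⟨(IsLocalization.AtPrime.orderIsoOfPrime (Localization.AtPrime q) q).symm
      ⟨(PrimeSpectrum.comap (algebraMap A (Localization.AtPrime p)) P.1).asIdeal,
        ⟨(PrimeSpectrum.comap (algebraMap A (Localization.AtPrime p)) P.1).isPrime,
          ((IsLocalization.AtPrime.orderIsoOfPrime (Localization.AtPrime p) p) ⟨P.1.asIdeal, P.1.isPrime⟩).2.2.trans hpq⟩⟩
        |> fun Q => ⟨Q.1, Q.2⟩, ?_⟩) ?_
  · rw [hsupp]
    have h := (hsupp p P.1).1 P.2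
    convert h using 1
    refine PrimeSpectrum.ext ?_
    exact congrArg Subtype.val ((IsLocalization.AtPrime.orderIsoOfPrime (Localization.AtPrime q) q).apply_symm_apply _)
  · intro P P' hlt
    refine (IsLocalization.AtPrime.orderIsoOfPrime (Localization.AtPrime q) q).symm.strictMono ?_
    exact (IsLocalization.AtPrime.orderIsoOfPrime (Localization.AtPrime p) p).strictMono
      (a := ⟨P.1.asIdeal, P.1.isPrime⟩) (b := ⟨P'.1.asIdeal, P'.1.isPrime⟩) hlt

end Groth.Agent.S4729
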