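import Groth.Statements.S4730
import Mathlib.RingTheory.KrullDimension.Polynomial
import Mathlib.RingTheory.AlgebraicIndependent.TranscendenceBasis
import Mathlib.RingTheory.Algebraic.Integral
import Mathlib.RingTheory.Polynomial.Quotient

set_option autoImplicit false
universe u
open EGA4

namespace Groth.Agent.S4730

open Polynomial in
attribute [local instance] Polynomial.algebra in
theorem height_le_one_of_comap_C_eq_bot {R : Type u} [CommRing R] [IsDomain R] [IsNoetherianRing R] (Q : Ideal R[X])
    [Q.IsPrime] (hQ : Q.comap Polynomial.C = ⊥) : Q.height ≤ 1 := by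
  let K := FractionRing R
  let M := (nonZeroDivisors R).map (Polynomial.C : R →+* R[X])
  haveI : IsLocalization M K[X] := Polynomial.isLocalization (nonZeroDivisors R) K
  have hd : Disjoint (M : Set R[X]) Q := by
    refine Set.disjoint_left.2 fun a ⟨b, hb, hba⟩ ha => nonZeroDivisors.ne_zero hb ?_
    have : b ∈ Q.comap Polynomial.C := by rw [Ideal.mem_comap, hba]; exact ha
    rwa [hQ, Ideal.mem_bot] at this
  haveI := IsLocalization.isPrime_of_isPrime_disjoint M K[X] Q inferInstance hd
  rw [← IsLocalization.height_map_of_disjoint (S := K[X]) M Q hd]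
  obtain ⟨z, hz⟩ := (IsPrincipalIdealRing.principal (Q.map (algebraMap R[X] K[X]))).principal
  rw [hz]
  refine Ideal.height_span_singleton_le_one fun hu => ?_
  refine (IsLocalization.isPrime_of_isPrime_disjoint M K[X] Q inferInstance hd).ne_top ?_
  exact hz.trans (Ideal.span_singleton_eq_top.2 hu)


open Polynomial in
/-- Let A be a Noetherian ring, p a prime ideal of A and q a prime ideal of the polynomial ring A[T]
lying over p. Then ht(p) + 1 = ht(q) + deg.tr_{κ(p)} κ(q), the transcendence degree being that of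
the domain A[T]/q over the domain A/p. -/
theorem result (A : Type u) [CommRing A] [IsNoetherianRing A]
    (p : Ideal A) [p.IsPrime] (q : Ideal A[X]) [q.IsPrime] [q.LiesOver p] :
    (p.height : Cardinal.{u}) + 1 = (q.height : Cardinal.{u}) + Algebra.trdeg (A ⧸ p) (A[X] ⧸ q) := by
  classical
  have hp : (algebraMap A A[X]) = Polynomial.C := rfl
  have hle : p.map Polynomial.C ≤ q := by
    rw [Ideal.map_le_iff_le_comap, Ideal.LiesOver.over (P := q) (p := p)]; rfl
  let R := A ⧸ p
  let e : A[X] ⧸ p.map Polynomial.C ≃+* R[X] := (Ideal.polynomialQuotientEquivQuotientPolynomial p).symm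
  let Q : Ideal R[X] := (q.map (Ideal.Quotient.mk (p.map Polynomial.C))).map e
  haveI hq1 : (q.map (Ideal.Quotient.mk (p.map Polynomial.C))).IsPrime :=
    Ideal.map_isPrime_of_surjective Ideal.Quotient.mk_surjective (by rw [Ideal.mk_ker]; exact hle)
  haveI : Q.IsPrime := Ideal.map_isPrime_of_equiv e
  have hQC : Q.comap Polynomial.C = ⊥ := by
    refine eq_bot_iff.2 fun r hr => ?_
    obtain ⟨a, rfl⟩ := Ideal.Quotient.mk_surjective r
    have h1 : e (Ideal.Quotient.mk _ (Polynomial.C a)) = Polynomial.C (Ideal.Quotient.mk p a) := by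
      simp [e, Ideal.polynomialQuotientEquivQuotientPolynomial]
    rw [Ideal.mem_comap, ← h1] at hr
    have h2 : Ideal.Quotient.mk (p.map Polynomial.C) (Polynomial.C a) ∈ q.map (Ideal.Quotient.mk _) := by
      obtain ⟨y, hy, hye⟩ := (Ideal.mem_map_iff_of_surjective e e.surjective).1 hr
      rwa [← e.injective hye]
    rw [Ideal.mem_quotient_iff_mem hle] at h2
    rw [Submodule.mem_bot, Ideal.Quotient.eq_zero_iff_mem, Ideal.LiesOver.over (P := q) (p := p)]
    exact h2
  have hht : q.height = p.height + Q.height := by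
    rw [Ideal.height_eq_height_add_of_liesOver_of_hasGoingDown p q]
    exact congrArg _ (e.height_map _).symm
  let x : A[X] ⧸ q := Ideal.Quotient.mk q Polynomial.X
  by_cases h : q = p.map Polynomial.C
  · have hQ0 : Q = ⊥ := by simp [Q, h, Ideal.map_quotient_self]
    have hh : q.height = p.height := by rw [hht, hQ0, Ideal.height_bot, add_zero]
    let g : (A[X] ⧸ q) ≃ₐ[A ⧸ p] R[X] :=
      AlgEquiv.ofRingEquiv (f := (Ideal.quotEquivOfEq h).trans e) fun r => by
        obtain ⟨a, rfl⟩ := Ideal.Quotient.mk_surjective r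
        show e (Ideal.quotEquivOfEq h (Ideal.Quotient.mk q (Polynomial.C a))) = Polynomial.C (Ideal.Quotient.mk p a)
        rw [Ideal.quotEquivOfEq_mk]
        simp [e, Ideal.polynomialQuotientEquivQuotientPolynomial]
    rw [hh, g.trdeg_eq, Polynomial.trdeg_of_isDomain]
  · obtain ⟨F, hFq, hFp⟩ := Set.not_subset.1 fun hs : (q : Set A[X]) ⊆ (p.map Polynomial.C : Ideal A[X]) =>
      h (le_antisymm hs hle)
    have hQ1 : Q.height = 1 := by
      refine le_antisymm (height_le_one_of_comap_C_eq_bot Q hQC) (Order.one_le_iff_pos.2 (pos_iff_ne_zero.2 ?_))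
      rw [Ne, Ideal.height_eq_zero_iff_eq_bot]
      intro hQ0
      refine hFp (Ideal.Quotient.eq_zero_iff_mem.1 (e.injective ?_))
      rw [map_zero]
      exact (Submodule.mem_bot _).1 (hQ0.le (show e (Ideal.Quotient.mk _ F) ∈ Q from Ideal.mem_map_of_mem e (Ideal.mem_map_of_mem _ hFq)))
    have halg : Algebra.IsAlgebraic (A ⧸ p) (A[X] ⧸ q) := by
      have hx : IsAlgebraic (A ⧸ p) x := by
        refine ⟨F.map (Ideal.Quotient.mk p), fun h0 => hFp ?_, ?_⟩
        · rwa [← Polynomial.coe_mapRingHom, ← RingHom.mem_ker, Polynomial.ker_mapRingHom, Ideal.mk_ker] at h0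
        · rw [show Ideal.Quotient.mk p = algebraMap A (A ⧸ p) from rfl, Polynomial.aeval_map_algebraMap]
          have hae : Polynomial.aeval x F = Ideal.Quotient.mkₐ A q F := by
            rw [show x = Ideal.Quotient.mkₐ A q Polynomial.X from rfl, Polynomial.aeval_algHom_apply, Polynomial.aeval_X_left_apply]
          rw [hae]
          exact Ideal.Quotient.eq_zero_iff_mem.2 hFq
      have hgen : Algebra.adjoin (A ⧸ p) {x} = ⊤ := by
        refine eq_top_iff.2 fun z _ => ?_
        obtain ⟨G, rfl⟩ := Ideal.Quotient.mk_surjective z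
        induction G using Polynomial.induction_on with
        | C a =>
          rw [show Ideal.Quotient.mk q (Polynomial.C a) = algebraMap (A ⧸ p) (A[X] ⧸ q) (Ideal.Quotient.mk p a) from rfl]
          exact Subalgebra.algebraMap_mem _ _
        | add f g hf hg => rw [map_add]; exact add_mem (hf trivial) (hg trivial)
        | monomial n a hn =>
          rw [pow_succ, ← mul_assoc, map_mul]
          exact mul_mem (hn trivial) (Algebra.subset_adjoin rfl)
      have := Algebra.isAlgebraic_adjoin_singleton_iff.2 hx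
      exact ⟨fun z => this z (hgen.ge trivial)⟩
    rw [hht, hQ1, trdeg_eq_zero, add_zero, Cardinal.ofENat_add, Cardinal.ofENat_one]

end Groth.Agent.S4730
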