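import Groth.Statements.S4731
import Mathlib


-- import your own Groth.Agent.* helpers here

set_option autoImplicit false
universe u
open EGA4

namespace Groth.Agent.S4731

/-- Let S → R be an injective homomorphism of commutative rings making R a finite S-module, with R
Noetherian; let c be the conductor of S in R, the ideal of those s in S with s R contained in (the
image of) S. If S/c is Noetherian, then every increasing sequence of ideals of S contained in c is
eventually constant. -/
theorem result (S R : Type u) [CommRing S] [CommRing R] [Algebra S R]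
    [FaithfulSMul S R] [IsNoetherianRing R] [Module.Finite S R] (c : Ideal S)
    (hc : ∀ s : S, s ∈ c ↔ ∀ r : R, ∃ s' : S, algebraMap S R s' = algebraMap S R s * r)
    [IsNoetherianRing (S ⧸ c)] (a : ℕ →o Ideal S) (ha : ∀ n, a n ≤ c) :
    ∃ N : ℕ, ∀ n, N ≤ n → a n = a N := by
  classical
  let b : ℕ →o Ideal R := ⟨fun n => (a n).map (algebraMap S R), fun i j h => Ideal.map_mono (a.monotone h)⟩
  obtain ⟨N₀, hN₀⟩ := monotone_stabilizes_iff_noetherian.2 (inferInstance : IsNoetherian R R) b
  let B : Submodule S R := (b N₀).restrictScalars S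
  let C : Submodule S R := c • B
  let a' : ℕ → Submodule S R := fun n => Submodule.map (Algebra.linearMap S R) (a n)
  have hub : ∀ n, N₀ ≤ n → a' n ≤ B := by
    rintro n hn _ ⟨s, hs, rfl⟩
    change algebraMap S R s ∈ b N₀
    rw [hN₀ n hn]; exact Ideal.mem_map_of_mem _ hs
  have hlb : ∀ n, N₀ ≤ n → C ≤ a' n := by
    intro n hn
    refine Submodule.smul_le.2 fun s hs y hy => ?_
    change y ∈ b N₀ at hy
    rw [hN₀ n hn] at hy
    induction hy using Submodule.span_induction generalizing s with
    | mem x hx =>
      obtain ⟨t, ht, rfl⟩ := hx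
      exact ⟨s * t, (a n).mul_mem_left s ht, by simp [Algebra.smul_def]⟩
    | zero => simp
    | add x y _ _ hx hy => rw [smul_add]; exact add_mem (hx s hs) (hy s hs)
    | smul r x _ ih =>
      obtain ⟨s', hs'⟩ := (hc s).1 hs r
      have hs'c : s' ∈ c := (hc s').2 fun r' => by
        obtain ⟨s'', h''⟩ := (hc s).1 hs (r * r')
        exact ⟨s'', by rw [h'', hs', mul_assoc]⟩
      have : s • (r • x) = s' • x := by rw [smul_eq_mul, Algebra.smul_def, Algebra.smul_def, hs', mul_assoc]
      rw [this]; exact ih s' hs'c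
  haveI hSc : IsNoetherian S (S ⧸ c) := by
    let i : (S ⧸ c) →ₛₗ[Ideal.Quotient.mk c] (S ⧸ c) :=
      { toFun := id, map_add' := fun _ _ => rfl, map_smul' := fun s x => by
          obtain ⟨x, rfl⟩ := Ideal.Quotient.mk_surjective x
          rfl }
    haveI : RingHomSurjective (Ideal.Quotient.mk c) := ⟨Ideal.Quotient.mk_surjective⟩
    exact (i.isNoetherian_iff_of_bijective Function.bijective_id).2 inferInstance
  haveI : IsNoetherian R R := inferInstance
  haveI : Module.Finite R ((b N₀) : Ideal R) := Module.Finite.of_fg (IsNoetherian.noetherian _)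
  haveI : Module.Finite S ((b N₀) : Ideal R) := Module.Finite.trans R _
  haveI : Module.Finite S B := this
  obtain ⟨k, g, hg⟩ := Module.Finite.exists_fin' S (B ⧸ C.comap B.subtype)
  have hgk : ∀ v : Fin k → S, (∀ i, v i ∈ c) → g v = 0 := by
    intro v hv
    rw [pi_eq_sum_univ v, map_sum]
    refine Finset.sum_eq_zero fun i _ => ?_
    obtain ⟨y, hy⟩ := Submodule.mkQ_surjective _ (g fun j => if i = j then 1 else 0)
    rw [map_smul, ← hy, ← map_smul]
    exact (Submodule.Quotient.mk_eq_zero _).2 (Submodule.smul_mem_smul (hv i) y.2)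
  haveI : IsNoetherian S (B ⧸ C.comap B.subtype) := by
    let π : (Fin k → S) →ₗ[S] (Fin k → S ⧸ c) := LinearMap.pi fun i => (Submodule.mkQ c) ∘ₗ LinearMap.proj i
    have hπ : Function.Surjective π := fun w => ⟨fun i => (w i).out, funext fun i => Ideal.Quotient.mk_out (w i)⟩
    have hker : LinearMap.ker π ≤ LinearMap.ker g := fun v hv => hgk v fun i => Ideal.Quotient.eq_zero_iff_mem.1 (congrFun hv i)
    let h : (Fin k → S ⧸ c) →ₗ[S] (B ⧸ C.comap B.subtype) := (LinearMap.ker π).liftQ g hker ∘ₗ (π.quotKerEquivOfSurjective hπ).symm.toLinearMap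
    refine isNoetherian_of_surjective h (LinearMap.range_eq_top.2 ?_)
    intro z
    obtain ⟨v, rfl⟩ := hg z
    refine ⟨π v, ?_⟩
    have e : (π.quotKerEquivOfSurjective hπ).symm (π v) = Submodule.Quotient.mk v := (LinearEquiv.symm_apply_eq _).2 rfl
    simp only [h, LinearMap.coe_comp, LinearEquiv.coe_coe, Function.comp_apply, e]
    rfl
  let Q : ℕ →o Submodule S (B ⧸ C.comap B.subtype) := ⟨fun n => ((a' (N₀ + n)).comap B.subtype).map (C.comap B.subtype).mkQ,
    fun i j h => Submodule.map_mono (Submodule.comap_mono (Submodule.map_mono (a.monotone (by omega))))⟩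
  obtain ⟨N₁, hN₁⟩ := monotone_stabilizes_iff_noetherian.2 this Q
  refine ⟨N₀ + N₁, fun n hn => ?_⟩
  have hcomap : ∀ m, N₀ ≤ m → (((a' m).comap B.subtype).map (C.comap B.subtype).mkQ).comap (C.comap B.subtype).mkQ = (a' m).comap B.subtype := fun m hm => by
    rw [Submodule.comap_map_mkQ, sup_eq_right]
    exact Submodule.comap_mono (hlb m hm)
  have heq : (a' n).comap B.subtype = (a' (N₀ + N₁)).comap B.subtype := by
    rw [← hcomap n (by omega), ← hcomap (N₀ + N₁) (by omega)]
    congr 1
    have := hN₁ (n - N₀) (by omega)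
    simp only [Q, OrderHom.coe_mk, show N₀ + (n - N₀) = n by omega] at this
    exact this.symm
  have heq' : a' n = a' (N₀ + N₁) := by
    have h1 := congrArg (Submodule.map B.subtype) heq
    rwa [Submodule.map_comap_eq, Submodule.map_comap_eq, Submodule.range_subtype, inf_eq_right.2 (hub n (by omega)), inf_eq_right.2 (hub _ (by omega))] at h1
  exact Submodule.map_injective_of_injective (f := Algebra.linearMap S R) (FaithfulSMul.algebraMap_injective S R) heq'

end Groth.Agent.S4731
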