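import Groth.Statements.S4732
import Mathlib

set_option autoImplicit false
universe u
open EGA4

namespace Groth.Agent.S4732

open AlgebraicGeometry CategoryTheory in
/-- Let k be a field, X a scheme locally of finite type over k and x a point of X. Then there are an
open neighbourhood U of x, a k-scheme Y all of whose local rings are regular, and an immersion U → Y
compatible with the structure morphisms to Spec k. -/
theorem result (k : Type u) [Field k] {X : Scheme.{u}}
    (f : X ⟶ Spec (CommRingCat.of k)) [LocallyOfFiniteType f] (x : X) :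
    ∃ (U : X.Opens) (_ : x ∈ U) (Y : Scheme.{u}) (g : Y ⟶ Spec (CommRingCat.of k)) (i : (U : Scheme.{u}) ⟶ Y),
      IsImmersion i ∧ i ≫ g = U.ι ≫ f ∧ ∀ y : Y, IsRegularLocalRing (Y.presheaf.stalk y) := by
  obtain ⟨_, ⟨U, hU, rfl⟩, hxU, -⟩ := X.isBasis_affineOpens.exists_subset_of_mem_open (Set.mem_univ x) isOpen_univ
  obtain ⟨φ, hφ⟩ : ∃ φ : CommRingCat.of k ⟶ Γ(X, U), Spec.map φ = hU.isoSpec.inv ≫ Scheme.Opens.ι U ≫ f :=
    ⟨_, Spec.map_preimage _⟩
  have hft : φ.hom.FiniteType := by
    haveI : LocallyOfFiniteType (Spec.map φ) := by rw [hφ]; infer_instance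
    exact (HasRingHomProperty.Spec_iff (P := @LocallyOfFiniteType)).1 inferInstance
  letI := φ.hom.toAlgebra
  haveI : Algebra.FiniteType k Γ(X, U) := hft
  obtain ⟨n, σ, hσ⟩ := Algebra.FiniteType.iff_quotient_mvPolynomial''.1 (inferInstance : Algebra.FiniteType k Γ(X, U))
  let i : (U : Scheme.{u}) ⟶ Spec (CommRingCat.of (MvPolynomial (Fin n) k)) :=
    hU.isoSpec.hom ≫ Spec.map (CommRingCat.ofHom σ.toRingHom)
  haveI : IsClosedImmersion (Spec.map (CommRingCat.ofHom σ.toRingHom)) := IsClosedImmersion.spec_of_surjective _ hσ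
  refine ⟨U, hxU, _, Spec.map (CommRingCat.ofHom (algebraMap k (MvPolynomial (Fin n) k))), i, inferInstance, ?_, fun y => ?_⟩
  · rw [Category.assoc, ← Spec.map_comp]
    have : CommRingCat.ofHom (algebraMap k (MvPolynomial (Fin n) k)) ≫ CommRingCat.ofHom σ.toRingHom = φ :=
      CommRingCat.hom_ext (RingHom.ext fun r => σ.commutes r)
    rw [this, hφ, Iso.hom_inv_id_assoc]
  · haveI : IsRegularLocalRing (Localization.AtPrime y.asIdeal) := inferInstance
    exact IsRegularLocalRing.of_ringEquiv (Spec.stalkIso (CommRingCat.of (MvPolynomial (Fin n) k)) y).commRingCatIsoToRingEquiv.symm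

end Groth.Agent.S4732
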