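import Groth.Statements.S4733
import Groth.Agent.GeomRedFibLib.GeomApps
import Groth.Agent.S0565
-- import your own Groth.Agent.* helpers here

set_option autoImplicit false
universe u
open EGA4

namespace Groth.Agent.S4733

open TensorProduct in
/-- For the property 'regular' (affine form): let k be a field, S a Noetherian k-algebra and k' an
extension field of k such that S is of finite type over k or k' is essentially of finite type over
k; let q' be a prime of S ⊗_k k' and q its contraction to S. If (S ⊗_k k')_{q'} is a regular local
ring then so is S_q; conversely, if k' is separable over k (geometrically reduced) and S_q is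
regular, then (S ⊗_k k')_{q'} is regular. -/
theorem result (k S k' : Type u) [Field k] [CommRing S] [Algebra k S]
    [IsNoetherianRing S] [Field k'] [Algebra k k'] (hft : Algebra.FiniteType k S ∨ Algebra.EssFiniteType k k')
    [IsNoetherianRing (S ⊗[k] k')] (q' : Ideal (S ⊗[k] k')) [q'.IsPrime] :
    (IsRegularLocalRing (Localization.AtPrime q') →
        IsRegularLocalRing (Localization.AtPrime (q'.comap (algebraMap S (S ⊗[k] k'))))) ∧
      (Algebra.IsGeometricallyReduced k k' →
        IsRegularLocalRing (Localization.AtPrime (q'.comap (algebraMap S (S ⊗[k] k')))) →
          IsRegularLocalRing (Localization.AtPrime q')) := by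
  refine ⟨fun h ↦ ?_, fun hK h ↦ ?_⟩
  · let p := q'.comap (algebraMap S (TensorProduct k S k'))
    haveI : q'.LiesOver p := ⟨rfl⟩
    letI := Localization.AtPrime.algebraOfLiesOver p q'
    haveI : IsLocalHom (algebraMap (Localization.AtPrime p) (Localization.AtPrime q')) :=
      inferInstanceAs (IsLocalHom (Localization.localRingHom p q' (algebraMap S (TensorProduct k S k')) rfl))
    haveI : Module.Flat (Localization.AtPrime p) (Localization.AtPrime q') :=
      RingHom.flat_algebraMap_iff.mp <| RingHom.Flat.localRingHom (RingHom.flat_algebraMap_iff.mpr inferInstance) ..
    haveI := h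
    exact Groth.Agent.S0565.result (Localization.AtPrime p) (Localization.AtPrime q')
  · haveI := hK
    exact GeomRedFibLib.asc_at GeomRedFibLib.isFlatLocalProp_regular S (TensorProduct k S k') q' h
      (GeomRedFibLib.fibLocRing_separable GeomRedFibLib.isGeomProp_regular k S k' q')

end Groth.Agent.S4733
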