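import Groth.Statements.S4734
import Mathlib
import Groth.Agent.S2612
import Groth.Agent.GenNormFlatLib.Main
-- import your own Groth.Agent.* helpers here

set_option autoImplicit false
set_option maxHeartbeats 2000000
set_option backward.isDefEq.respectTransparency false
universe u
open EGA4

namespace Groth.Agent.S4734

open scoped TensorProduct

theorem isNormallyFlat_localized {A : Type u} [CommRing A] {p : Ideal A} {M : Type u} [AddCommGroup M] [Module A M]
    (S : Submonoid A) (hM : EGA4.IsNormallyFlat p M) :
    EGA4.IsNormallyFlat (p.map (algebraMap A (Localization S))) (LocalizedModule S M) := by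
  intro n
  let A' := Localization S
  let g := LocalizedModule.mkLinearMap S M
  let p' := p.map (algebraMap A A')
  let C' := A' ⧸ p'
  let W : Submodule A M := p ^ n • ⊤
  have hW : W.localized' A' S g = p' ^ n • ⊤ :=
    (GenNormFlat.localized_smul_top S A' g (p ^ n)).trans (by rw [Ideal.map_pow])
  suffices h : ∀ W' : Submodule A' (LocalizedModule S M), W.localized' A' S g = W' →
      Module.Flat C' (W' ⧸ (p' • (⊤ : Submodule A' W'))) from h _ hW
  rintro _ rfl
  let W' := W.localized' A' S g
  have hQ : (p • (⊤ : Submodule A W)).localized' A' S (W.toLocalized' A' S g) = p' • ⊤ :=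
    GenNormFlat.localized_smul_top S A' (W.toLocalized' A' S g) p
  suffices h : ∀ Q' : Submodule A' W', (p • (⊤ : Submodule A W)).localized' A' S (W.toLocalized' A' S g) = Q' →
      ∀ [Module C' (W' ⧸ Q')] [IsScalarTower A' C' (W' ⧸ Q')], Module.Flat C' (W' ⧸ Q') from h _ hQ
  rintro _ rfl _ _
  let ψ₀ := (p • (⊤ : Submodule A W)).toLocalizedQuotient' A' S (W.toLocalized' A' S g)
  let G' := W' ⧸ (p • (⊤ : Submodule A W)).localized' A' S (W.toLocalized' A' S g)
  let C := A ⧸ p
  haveI : IsLocalization (Algebra.algebraMapSubmonoid (A ⧸ p) S) (A' ⧸ p.map (algebraMap A A')) := inferInstance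
  letI : Module C G' := Module.compHom G' (algebraMap C C')
  haveI : IsScalarTower C C' G' := ⟨fun a b x => by rw [Algebra.smul_def, mul_smul]; rfl⟩
  have hca : ∀ (a : A) (x : G'), Ideal.Quotient.mk p a • x = a • x := fun a x => by
    show algebraMap C C' (Ideal.Quotient.mk p a) • x = a • x
    rw [show algebraMap C C' (Ideal.Quotient.mk p a) = algebraMap A' C' (algebraMap A A' a) from rfl,
      algebraMap_smul, algebraMap_smul]
  haveI : IsScalarTower A C G' := IsScalarTower.of_algebraMap_smul fun a x => hca a x
  let ψ : (↥(p ^ n • (⊤ : Submodule A M)) ⧸ (p • (⊤ : Submodule A ↥(p ^ n • (⊤ : Submodule A M))))) →ₗ[C] G' :=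
    { ψ₀ with
      map_smul' := fun c x => by
        obtain ⟨a, rfl⟩ := Ideal.Quotient.mk_surjective c
        show ψ₀ (Ideal.Quotient.mk p a • x) = Ideal.Quotient.mk p a • ψ₀ x
        rw [← Ideal.Quotient.algebraMap_eq, algebraMap_smul, algebraMap_smul, map_smul] }
  haveI : IsLocalizedModule (Algebra.algebraMapSubmonoid C S) ψ := by
    refine ⟨fun c => ?_, fun y => ?_, fun {x y} h => ?_⟩
    · obtain ⟨_, a, ha, rfl⟩ := c
      rw [Module.End.isUnit_iff]
      have h := (Module.End.isUnit_iff _).1 (IsLocalizedModule.map_units ψ₀ ⟨a, ha⟩)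
      show Function.Bijective fun x : G' => algebraMap A C a • x
      rw [show (fun x : G' => algebraMap A C a • x) = fun x : G' => a • x from funext fun x => algebraMap_smul C a x]
      exact h
    · obtain ⟨⟨x, s⟩, hs⟩ := IsLocalizedModule.surj S ψ₀ y
      exact ⟨⟨x, ⟨_, s.1, s.2, rfl⟩⟩, (algebraMap_smul C s.1 y).trans hs⟩
    · obtain ⟨s, hs⟩ := IsLocalizedModule.exists_of_eq (S := S) (f := ψ₀) h
      exact ⟨⟨_, s.1, s.2, rfl⟩, ((algebraMap_smul C s.1 x).trans hs).trans (algebraMap_smul C s.1 y).symm⟩
  haveI := hM n
  exact GenNormFlat.flat_of_isLocalizedModule (Algebra.algebraMapSubmonoid C S) C' ψ inferInstance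

/-- The localisation of `A / I`. -/
theorem nonempty_quot_equiv {A : Type u} [CommRing A] (I : Ideal A) (S : Submonoid A) :
    Nonempty (LocalizedModule S (A ⧸ I) ≃ₗ[Localization S]
      (Localization S ⧸ I.map (algebraMap A (Localization S)))) := by
  let g := Algebra.linearMap A (Localization S)
  have hJ : (I : Submodule A A).localized' (Localization S) S g = I.map (algebraMap A (Localization S)) :=
    Ideal.localized'_eq_map _ _ _
  rw [← hJ]
  exact ⟨(IsLocalizedModule.linearEquiv S (LocalizedModule.mkLinearMap S (A ⧸ I))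
    ((I : Submodule A A).toLocalizedQuotient' (Localization S) S g)).extendScalarsOfIsLocalization S _⟩

theorem key {A : Type u} [CommRing A] [IsNoetherianRing A] (I : Ideal A) (hI : IsNilpotent I) (M : Type u)
    [AddCommGroup M] [Module A M] [Module.Finite A M] (hM : EGA4.IsNormallyFlat I M) (q : Ideal A) [q.IsPrime]
    (hq : (⟨q, inferInstance⟩ : PrimeSpectrum A) ∈ Module.support A M) :
    Module.supportDim (Localization.AtPrime q) (LocalizedModule q.primeCompl M) =
        Module.supportDim (Localization.AtPrime q) (LocalizedModule q.primeCompl (A ⧸ I)) ∧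
      LocCoh.depth (Localization.AtPrime q) (LocalizedModule q.primeCompl M) =
        LocCoh.depth (Localization.AtPrime q) (LocalizedModule q.primeCompl (A ⧸ I)) := by
  obtain ⟨e⟩ := nonempty_quot_equiv I q.primeCompl
  haveI : Nontrivial (LocalizedModule q.primeCompl M) := Module.mem_support_iff.1 hq
  obtain ⟨h1, h2⟩ := Groth.Agent.S2612.result (Localization.AtPrime q) (I.map (algebraMap A (Localization.AtPrime q)))
    (hI.map (Ideal.mapHom (algebraMap A (Localization.AtPrime q))))
    (LocalizedModule q.primeCompl M) (isNormallyFlat_localized q.primeCompl hM)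
  rw [h1, h2, Module.supportDim_eq_of_equiv e, CommAlgDim.depth_congr e,
    Module.supportDim_quotient_eq_ringKrullDim]
  exact ⟨rfl, rfl⟩


/-- Let A be a Noetherian ring, I a nilpotent ideal of A and M a finite A-module whose support is all of
Spec A and which is normally flat along I. Then for every prime p of A: M satisfies Serre's
condition (S_n) at p if and only if the A-module A/I does; and the codepth of M_p is at most n if
and only if the codepth of the A_p-module (A/I)_p is at most n (codepth written additively as dim ≤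
depth + n). -/
theorem result (n : ℕ) (A : Type u) [CommRing A] [IsNoetherianRing A]
    (I : Ideal A) (hI : IsNilpotent I) (M : Type u) [AddCommGroup M] [Module A M] [Module.Finite A M]
    (hsupp : Module.support A M = Set.univ) (hM : EGA4.IsNormallyFlat I M) (p : Ideal A) [p.IsPrime] :
    (EGA4.HasSkAt n A M p ↔ EGA4.HasSkAt n A (A ⧸ I) p) ∧
      (Module.supportDim (Localization.AtPrime p) (LocalizedModule p.primeCompl M) ≤
          ((LocCoh.depth (Localization.AtPrime p) (LocalizedModule p.primeCompl M) : ℕ∞) : WithBot ℕ∞) + n ↔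
        Module.supportDim (Localization.AtPrime p) (LocalizedModule p.primeCompl (A ⧸ I)) ≤
          ((LocCoh.depth (Localization.AtPrime p) (LocalizedModule p.primeCompl (A ⧸ I)) : ℕ∞) : WithBot ℕ∞) + n) := by
  have hp : ∀ q : PrimeSpectrum A, q ∈ Module.support A M := fun q => by rw [hsupp]; trivial
  obtain ⟨h1, h2⟩ := key I hI M hM p (hp ⟨p, inferInstance⟩)
  refine ⟨?_, by rw [h1, h2]⟩
  let R := Localization.AtPrime p
  let J := I.map (algebraMap A R)
  obtain ⟨e⟩ := nonempty_quot_equiv I p.primeCompl
  have hsuppR : ∀ P : PrimeSpectrum R, P ∈ Module.support R (LocalizedModule p.primeCompl M) := by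
    intro P
    rw [Module.support_eq_zeroLocus]
    intro x hx
    rw [SetLike.mem_coe, Module.mem_annihilator] at hx
    by_contra hxP
    obtain ⟨⟨a, s⟩, rfl⟩ := IsLocalization.mk'_surjective p.primeCompl x
    have hnil : a ∈ (P.asIdeal.comap (algebraMap A R)) := by
      have hq : (⟨P.asIdeal.comap (algebraMap A R), inferInstance⟩ : PrimeSpectrum A) ∈ Module.support A M := hp _
      by_contra ha
      obtain ⟨m, hm⟩ := Module.mem_support_iff'.1 hq
      have hx' := hx (LocalizedModule.mkLinearMap p.primeCompl M m)
      rw [LocalizedModule.mkLinearMap_apply] at hx'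
      have hx2 : LocalizedModule.mkLinearMap p.primeCompl M (a • m) = 0 := by
        rw [map_smul, LocalizedModule.mkLinearMap_apply, ← algebraMap_smul R a, ← IsLocalization.mk'_spec R a s,
          mul_comm, mul_smul, hx', smul_zero]
      obtain ⟨t, ht⟩ := (IsLocalizedModule.eq_zero_iff p.primeCompl (LocalizedModule.mkLinearMap p.primeCompl M)).1 hx2
      refine hm (t * a) ?_ (by rw [mul_smul]; exact ht)
      refine fun h => (Ideal.IsPrime.mem_or_mem inferInstance h).elim (fun ht' => ?_) ha
      exact P.isPrime.ne_top (Ideal.eq_top_of_isUnit_mem _ ht' (IsLocalization.map_units R t))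
    refine hxP ?_
    rw [SetLike.mem_coe, IsLocalization.mk'_mem_iff]
    exact hnil
  show LocCoh.HasSk n R (LocalizedModule p.primeCompl M) ↔ LocCoh.HasSk n R (LocalizedModule p.primeCompl (A ⧸ I))
  have hJ : IsNilpotent J := hI.map (Ideal.mapHom (algebraMap A R))
  refine forall_congr' fun P => forall_congr' fun _ => ?_
  obtain ⟨k1, k2⟩ := key J hJ (LocalizedModule p.primeCompl M) (isNormallyFlat_localized p.primeCompl hM) P
    (hsuppR ⟨P, inferInstance⟩)
  let e' : LocalizedModule P.primeCompl (LocalizedModule p.primeCompl (A ⧸ I)) ≃ₗ[Localization.AtPrime P]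
      LocalizedModule P.primeCompl (R ⧸ J) :=
    IsLocalizedModule.mapEquiv P.primeCompl (LocalizedModule.mkLinearMap P.primeCompl _)
      (LocalizedModule.mkLinearMap P.primeCompl _) (Localization.AtPrime P) e
  have h3 : Module.supportDim (Localization.AtPrime P) (LocalizedModule P.primeCompl (LocalizedModule p.primeCompl (A ⧸ I))) =
      Module.supportDim (Localization.AtPrime P) (LocalizedModule P.primeCompl (R ⧸ J)) :=
    @Module.supportDim_eq_of_equiv (Localization.AtPrime P) _ _ _ _ _ _ _ e'
  have h4 : LocCoh.depth (Localization.AtPrime P) (LocalizedModule P.primeCompl (LocalizedModule p.primeCompl (A ⧸ I))) =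
      LocCoh.depth (Localization.AtPrime P) (LocalizedModule P.primeCompl (R ⧸ J)) :=
    CommAlgDim.depth_congr (B := Localization.AtPrime P) e'
  rw [k1, k2, h3, h4]

end Groth.Agent.S4734
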