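import Groth.Statements.S4737
import Groth.Agent.GeomRedFibLib.BaseChange
import Groth.Agent.GeomRedFibLib.CplQuot
-- import your own Groth.Agent.* helpers here

set_option autoImplicit false
universe u
open EGA4

namespace Groth.Agent.S4737

/-- The property 'geometrically regular', case of a local ring: let A be a Noetherian local ring whose
completion map A → Â is regular (the formal fibres of A are geometrically regular). Then for every
proper ideal I of A, the completion map of the local ring A/I is regular. -/
theorem result (A : Type u) [CommRing A] [IsNoetherianRing A] [IsLocalRing A]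
    (hA : CAlg.IsRegularHom A (EGA4.Cpl A)) (I : Ideal A) [Nontrivial (A ⧸ I)] :
    CAlg.IsRegularHom (A ⧸ I) (EGA4.Cpl (A ⧸ I)) := by
  obtain ⟨e⟩ := GeomRedFibLib.exists_cplQuotEquiv A I
  haveI := hA.1
  have hs := RingHom.surjectiveOnStalks_of_surjective
    (Ideal.Quotient.mk_surjective (I := I))
  exact ⟨GeomRedFibLib.flat_baseChange e, fun p' _ ↦
    ⟨GeomRedFibLib.fiber_baseChange e _ p' (fun R _ ↦ IsNoetherianRing R)
        (fun R _ _ _ σ h ↦ @isNoetherianRing_of_ringEquiv R _ _ _ σ h) hs rfl
        (hA.2 (p'.comap (algebraMap A (A ⧸ I)))).1,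
      fun k' _ _ hk ↦ GeomRedFibLib.forall_finite_fiber_baseChange e _ p' (fun R _ ↦ IsRegularRing R)
        (fun _ _ _ _ σ h ↦ @IsRegularRing.of_ringEquiv _ _ _ _ σ h) hs rfl
        (hA.2 (p'.comap (algebraMap A (A ⧸ I)))).2 k' hk⟩⟩

end Groth.Agent.S4737
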