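import Groth.Statements.S4738
import Groth.Agent.GeomRedFibLib.BaseChange
import Groth.Agent.GeomRedFibLib.CplQuot
-- import your own Groth.Agent.* helpers here

set_option autoImplicit false
universe u
open EGA4

namespace Groth.Agent.S4738

/-- For the property 'geometrically reduced', case of a local ring: if the formal fibres of a Noetherian
local ring A are geometrically reduced, then so are the formal fibres of A/I for every proper ideal
I of A. -/
theorem result (A : Type u) [CommRing A] [IsNoetherianRing A] [IsLocalRing A]
    (hA : EGA4.HasGeomReducedFormalFibres A) (I : Ideal A) [Nontrivial (A ⧸ I)] :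
    EGA4.HasGeomReducedFormalFibres (A ⧸ I) := by
  obtain ⟨e⟩ := GeomRedFibLib.exists_cplQuotEquiv A I
  exact fun p' _ ↦
    GeomRedFibLib.isGeometricallyReduced_fiber_baseChange e _ p' (hA (p'.comap (algebraMap A (A ⧸ I)))) rfl

end Groth.Agent.S4738
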