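import Groth.Statements.S4741
import Mathlib

-- import your own Groth.Agent.* helpers here

set_option autoImplicit false
universe u
open EGA4

namespace Groth.Agent.S4741

open CategoryTheory AlgebraicGeometry IsLocalRing

theorem fromSpecStalk_mapped {X Y : Scheme.{u}} (f : X ⟶ Y) (x : X) (Q : PrimeSpectrum (X.presheaf.stalk x)) :
    f (X.fromSpecStalk x Q) = Y.fromSpecStalk (f x) (PrimeSpectrum.comap (f.stalkMap x).hom Q) := by
  rw [← Scheme.Hom.comp_apply, ← Scheme.SpecMap_stalkMap_fromSpecStalk, Scheme.Hom.comp_apply]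
  rfl

theorem exists_small {X Y : Scheme.{u}} (f : X ⟶ Y) [IsLocallyNoetherian X] [IsLocallyNoetherian Y] (x₁ : X) :
    ∃ x : X, f x = f x₁ ∧ ringKrullDim (X.presheaf.stalk x) ≤ ringKrullDim (Y.presheaf.stalk (f x)) := by
  let φ := (f.stalkMap x₁).hom
  obtain ⟨P, hP⟩ := Ideal.nonempty_minimalPrimes (I := (maximalIdeal (Y.presheaf.stalk (f x₁))).map φ)
    (ne_top_of_le_ne_top (maximalIdeal.isMaximal _).ne_top (map_maximalIdeal_le φ))
  haveI := hP.1.1
  have hc : PrimeSpectrum.comap φ ⟨P, hP.1.1⟩ = closedPoint _ := PrimeSpectrum.ext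
    ((maximalIdeal.isMaximal _).eq_of_le (Ideal.IsPrime.ne_top inferInstance) (Ideal.map_le_iff_le_comap.1 hP.1.2)).symm
  obtain ⟨x, hxdef⟩ : ∃ x, X.fromSpecStalk x₁ ⟨P, hP.1.1⟩ = x := ⟨_, rfl⟩
  have hfx : f x = f x₁ := by
    rw [← hxdef, fromSpecStalk_mapped, hc, Scheme.fromSpecStalk_closedPoint]
  refine ⟨x, hfx, ?_⟩
  have hmax : ∀ z, z ⤳ x → f z = f x → z = x := by
    intro z hz hfz
    obtain ⟨Q, rfl⟩ : z ∈ Set.range (X.fromSpecStalk x₁) := by
      rw [Scheme.range_fromSpecStalk]; exact hz.trans (hxdef ▸ (by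
        have : ∀ R, X.fromSpecStalk x₁ R ⤳ x₁ := fun R => (Set.ext_iff.1 (X.range_fromSpecStalk (x := x₁)) _).1 ⟨R, rfl⟩
        exact this _))
    have hQP : Q.asIdeal ≤ P :=
      (PrimeSpectrum.le_iff_specializes (Q : PrimeSpectrum (X.presheaf.stalk x₁)) ⟨P, hP.1.1⟩).2
        ((X.fromSpecStalk x₁).isEmbedding.toIsInducing.specializes_iff.1 (hxdef.symm ▸ hz))
    have hfz' : Y.fromSpecStalk (f x₁) (PrimeSpectrum.comap φ Q) = Y.fromSpecStalk (f x₁) (closedPoint _) := by
      rw [Scheme.fromSpecStalk_closedPoint, ← fromSpecStalk_mapped, hfz, hfx]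
    have hQ : (maximalIdeal _).map φ ≤ Q.asIdeal := Ideal.map_le_iff_le_comap.2
      (le_of_eq (congrArg PrimeSpectrum.asIdeal ((Y.fromSpecStalk (f x₁)).isEmbedding.injective hfz')).symm)
    rw [← hxdef]
    exact congrArg _ (PrimeSpectrum.ext (le_antisymm hQP (hP.2 ⟨Q.2, hQ⟩ hQP)))
  algebraize [(f.stalkMap x).hom]
  haveI : IsLocalHom (algebraMap (Y.presheaf.stalk (f x)) (X.presheaf.stalk x)) :=
    inferInstanceAs (IsLocalHom (f.stalkMap x).hom)
  set m := maximalIdeal (Y.presheaf.stalk (f x))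
  set M := maximalIdeal (X.presheaf.stalk x)
  set I := m.map (algebraMap (Y.presheaf.stalk (f x)) (X.presheaf.stalk x))
  have hIM : I ≤ M := map_maximalIdeal_le (f.stalkMap x).hom
  have hmin : M ∈ I.minimalPrimes := by
    refine ⟨⟨inferInstance, hIM⟩, fun Q ⟨hQ, hIQ⟩ _ => ?_⟩
    have hz := hmax (X.fromSpecStalk x ⟨Q, hQ⟩) ((Set.ext_iff.1 (X.range_fromSpecStalk (x := x)) _).1 ⟨_, rfl⟩) (by
      have hc2 : PrimeSpectrum.comap (f.stalkMap x).hom ⟨Q, hQ⟩ = closedPoint _ := by
        refine PrimeSpectrum.ext ((maximalIdeal.isMaximal _).eq_of_le ?_ (Ideal.map_le_iff_le_comap.1 hIQ)).symm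
        exact Ideal.IsPrime.ne_top (PrimeSpectrum.comap (f.stalkMap x).hom ⟨Q, hQ⟩).2
      rw [fromSpecStalk_mapped, hc2, Scheme.fromSpecStalk_closedPoint])
    have := (X.fromSpecStalk x).isEmbedding.injective (hz.trans (X.fromSpecStalk_closedPoint (x := x)).symm)
    exact (congrArg PrimeSpectrum.asIdeal this).ge
  haveI : M.LiesOver m := ⟨(maximalIdeal_comap (algebraMap (Y.presheaf.stalk (f x)) (X.presheaf.stalk x))).symm⟩
  have h0 : (M.map (Ideal.Quotient.mk I)).height = 0 := by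
    haveI : (M.map (Ideal.Quotient.mk I)).IsPrime :=
      Ideal.map_isPrime_of_surjective Ideal.Quotient.mk_surjective (by rwa [Ideal.mk_ker])
    rw [Ideal.height_eq_zero_iff]
    refine ⟨⟨inferInstance, bot_le⟩, fun Q ⟨hQ, _⟩ hle => ?_⟩
    have h1 := hmin.2 ⟨hQ.comap (Ideal.Quotient.mk I), fun z hz => by simp [Ideal.mem_comap, Ideal.Quotient.eq_zero_iff_mem.2 hz]⟩
      ((Ideal.comap_mono hle).trans (by rw [Ideal.comap_map_of_surjective _ Ideal.Quotient.mk_surjective, ← RingHom.ker_eq_comap_bot, Ideal.mk_ker]; exact sup_le le_rfl hIM))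
    rw [Ideal.map_le_iff_le_comap]
    exact h1
  have := Ideal.height_le_height_add_of_liesOver m M
  rw [h0, add_zero] at this
  rw [← maximalIdeal_height_eq_ringKrullDim, ← maximalIdeal_height_eq_ringKrullDim]
  exact WithBot.coe_le_coe.2 this

theorem dim_le_of_flat {X Y : Scheme.{u}} (f : X ⟶ Y) [IsLocallyNoetherian X] [IsLocallyNoetherian Y] [Flat f] (x : X) :
    ringKrullDim (Y.presheaf.stalk (f x)) ≤ ringKrullDim (X.presheaf.stalk x) := by
  algebraize [(f.stalkMap x).hom]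
  haveI : IsLocalHom (algebraMap (Y.presheaf.stalk (f x)) (X.presheaf.stalk x)) :=
    inferInstanceAs (IsLocalHom (f.stalkMap x).hom)
  haveI : Module.Flat (Y.presheaf.stalk (f x)) (X.presheaf.stalk x) := Flat.stalkMap f x
  haveI : (maximalIdeal (X.presheaf.stalk x)).LiesOver (maximalIdeal (Y.presheaf.stalk (f x))) :=
    ⟨(maximalIdeal_comap (algebraMap (Y.presheaf.stalk (f x)) (X.presheaf.stalk x))).symm⟩
  have := Ideal.height_eq_height_add_of_liesOver_of_hasGoingDown (maximalIdeal (Y.presheaf.stalk (f x))) (maximalIdeal (X.presheaf.stalk x))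
  rw [← maximalIdeal_height_eq_ringKrullDim, ← maximalIdeal_height_eq_ringKrullDim, this]
  exact WithBot.coe_le_coe.2 le_self_add



open AlgebraicGeometry CategoryTheory in
/-- Suppose X and Y are locally Noetherian schemes, f : X → Y is a morphism that is surjective, and Z is
a closed subset of Y. Then codim(f⁻¹(Z), X) ≤ codim(Z, Y), where the codimension of a closed subset
means the infimum over its points of the dimensions of the local rings there; when f is in addition
flat, these two codimensions coincide. (In the published version the equality part assumes f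
quasi-flat; here f is taken to be flat.) -/
theorem result {X Y : Scheme.{u}} (f : X ⟶ Y) [IsLocallyNoetherian X]
    [IsLocallyNoetherian Y] (hf : Function.Surjective f.base) (Z : Set Y) (hZ : IsClosed Z) :
    (⨅ x ∈ f.base ⁻¹' Z, ringKrullDim (X.presheaf.stalk x)) ≤ ⨅ y ∈ Z, ringKrullDim (Y.presheaf.stalk y) ∧
      (Flat f → (⨅ x ∈ f.base ⁻¹' Z, ringKrullDim (X.presheaf.stalk x)) = ⨅ y ∈ Z, ringKrullDim (Y.presheaf.stalk y)) := by
  have h1 : (⨅ x ∈ f.base ⁻¹' Z, ringKrullDim (X.presheaf.stalk x)) ≤ ⨅ y ∈ Z, ringKrullDim (Y.presheaf.stalk y) := by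
    refine le_iInf₂ fun y hy => ?_
    obtain ⟨x₁, rfl⟩ := hf y
    obtain ⟨x, hx, hle⟩ := exists_small f x₁
    rw [hx] at hle
    exact iInf₂_le_of_le x (show f x ∈ Z by rw [hx]; exact hy) hle
  refine ⟨h1, fun _ => le_antisymm h1 (le_iInf₂ fun x hx => iInf₂_le_of_le (f x) hx (dim_le_of_flat f x))⟩

end Groth.Agent.S4741
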