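import Groth.Statements.S4742
import Groth.Agent.HironakaLib.Main
import Groth.Agent.CatLib.CM

set_option autoImplicit false
set_option linter.style.haveILetI false
universe u
open EGA4

namespace Groth.Agent.S4742

/-- Let A be a Noetherian local ring which is equidimensional and catenary, t an element of A belonging
to a system of parameters (dim A/tA + 1 = dim A), and Z a set of prime ideals of A stable under
specialization. Write X = Spec A, X₀ = V(t), X₁ = X ∖ X₀ and Z₀ = Z ∩ X₀, Z₁ = Z ∩ X₁. Then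
codim(Z₀, X₀) ≤ codim(Z, X) ≤ codim(Z₁, X₁), where each codimension is the infimum of the heights of
the primes concerned, heights for Z₀ being taken in A/tA. -/
theorem result (A : Type u) [CommRing A] [IsNoetherianRing A] [IsLocalRing A]
    (hA : EGA4.IsEquidim A) (hA' : CAlg.IsCatenary A) (t : A)
    (ht : ringKrullDim (A ⧸ Ideal.span {t}) + 1 = ringKrullDim A) (Z : Set (PrimeSpectrum A))
    (hZ : StableUnderSpecialization Z) :
    (⨅ p ∈ {p ∈ Z | t ∈ p.asIdeal}, (p.asIdeal.map (Ideal.Quotient.mk (Ideal.span {t}))).height) ≤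
        ⨅ p ∈ Z, p.asIdeal.height ∧
      (⨅ p ∈ Z, p.asIdeal.height) ≤ ⨅ p ∈ {p ∈ Z | t ∉ p.asIdeal}, p.asIdeal.height := by
  refine ⟨le_iInf₂ fun p hp => ?_, le_iInf₂ fun p hp => iInf₂_le p hp.1⟩
  by_cases htp : t ∈ p.asIdeal
  · refine le_trans (iInf₂_le p ⟨hp, htp⟩) ?_
    have hle : Ideal.span {t} ≤ p.asIdeal := (Ideal.span_singleton_le_iff_mem _).2 htp
    haveI : (p.asIdeal.map (Ideal.Quotient.mk (Ideal.span {t}))).IsPrime :=
      Ideal.map_isPrime_of_surjective Ideal.Quotient.mk_surjective (by rwa [Ideal.mk_ker])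
    have h : Order.height (⟨_, this⟩ : PrimeSpectrum (A ⧸ Ideal.span {t})) ≤
        Order.height (CatLib.quotEmb (Ideal.span {t}) ⟨_, this⟩) :=
      Order.height_le_height_apply_of_strictMono _ (CatLib.quotEmb _).strictMono _
    rw [← PrimeSpectrum.height_eq_orderHeight, ← PrimeSpectrum.height_eq_orderHeight] at h
    refine h.trans_eq (congrArg Ideal.height ?_)
    show (p.asIdeal.map (Ideal.Quotient.mk _)).comap (Ideal.Quotient.mk _) = p.asIdeal
    rw [Ideal.comap_map_quotientMk, sup_eq_right.2 hle]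
  have htm : t ∈ IsLocalRing.maximalIdeal A := by
    by_contra hu
    have hu' : IsUnit t := of_not_not hu
    haveI : Subsingleton (A ⧸ Ideal.span {t}) :=
      Ideal.Quotient.subsingleton_iff.2 (Ideal.span_singleton_eq_top.2 hu')
    rw [ringKrullDim_eq_bot_of_subsingleton, WithBot.bot_add] at ht
    exact ringKrullDim_ne_bot (R := A) ht.symm
  obtain ⟨q, hq, -⟩ := Ideal.exists_minimalPrimes_le (I := p.asIdeal ⊔ Ideal.span {t})
    (J := IsLocalRing.maximalIdeal A)
    (sup_le (IsLocalRing.le_maximalIdeal p.2.ne_top) ((Ideal.span_singleton_le_iff_mem _).2 htm))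
  haveI := hq.1.1
  have htq : t ∈ q := hq.1.2 (Ideal.mem_sup_right (Ideal.mem_span_singleton_self t))
  have hqZ : (⟨q, inferInstance⟩ : PrimeSpectrum A) ∈ Z :=
    hZ ((PrimeSpectrum.le_iff_specializes p _).1 (show p.asIdeal ≤ q from le_sup_left.trans hq.1.2)) hp
  refine le_trans (iInf₂_le (⟨q, inferInstance⟩ : PrimeSpectrum A) ⟨hqZ, htq⟩) ?_
  show (q.map (Ideal.Quotient.mk (Ideal.span {t}))).height ≤ p.asIdeal.height
  have hle : Ideal.span {t} ≤ q := (Ideal.span_singleton_le_iff_mem _).2 htq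
  haveI : (q.map (Ideal.Quotient.mk (Ideal.span {t}))).IsPrime :=
    Ideal.map_isPrime_of_surjective Ideal.Quotient.mk_surjective (by rwa [Ideal.mk_ker])
  have hb := J2Lib.ringKrullDim_quotient_add_height_le (q.map (Ideal.Quotient.mk (Ideal.span {t})))
  rw [CatLib.ringKrullDim_quotient_quotient_map hle] at hb
  obtain ⟨d, hd⟩ := CommAlgDim.exists_ringKrullDim_eq (R := A)
  obtain ⟨m, hm⟩ := HironakaAux.exists_dim q
  obtain ⟨n, hn⟩ := HironakaAux.exists_dim p.asIdeal
  obtain ⟨h, hh⟩ := HironakaAux.exists_height q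
  obtain ⟨h', hh'⟩ := HironakaAux.exists_height p.asIdeal
  haveI : Nontrivial (A ⧸ Ideal.span {t}) := Ideal.Quotient.nontrivial_iff.2
    fun e => (IsLocalRing.maximalIdeal.isMaximal A).ne_top
      (top_le_iff.1 (e ▸ (Ideal.span_singleton_le_iff_mem _).2 htm))
  haveI : IsLocalRing (A ⧸ Ideal.span {t}) := IsLocalRing.of_surjective' _ Ideal.Quotient.mk_surjective
  obtain ⟨g, hg⟩ := HironakaAux.exists_height (q.map (Ideal.Quotient.mk (Ideal.span {t})))
  have e1 := HironakaAux.dim_succ hA' htp hq hm hn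
  have e2 := HironakaAux.dim_add_height hA hA' hm hh hd
  have e3 := HironakaAux.dim_add_height hA hA' hn hh' hd
  obtain ⟨d', hd'⟩ := CommAlgDim.exists_ringKrullDim_eq (R := A ⧸ Ideal.span {t})
  rw [hm, hg, hd'] at hb
  rw [hd', hd] at ht
  have e4 : d' + 1 = d := by exact_mod_cast ht
  have e5 : m + g ≤ d' := by exact_mod_cast hb
  rw [hg, hh']
  exact_mod_cast (show g ≤ h' by omega)

end Groth.Agent.S4742
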