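import Groth.Statements.S4744
import Groth.Agent.GeomRedFibLib.CplFibres
-- import your own Groth.Agent.* helpers here

set_option autoImplicit false
universe u
open EGA4

namespace Groth.Agent.S4744

/-- Let A → A' be a flat local homomorphism of Noetherian local rings all of whose fibre rings k(p) ⊗_A
A' are Cohen–Macaulay. If the completion map of A' is regular (the formal fibres of A' are
geometrically regular), then the formal fibres of A are Cohen–Macaulay. -/
theorem result (A A' : Type u) [CommRing A] [CommRing A'] [IsNoetherianRing A]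
    [IsNoetherianRing A'] [IsLocalRing A] [IsLocalRing A'] [Algebra A A'] [IsLocalHom (algebraMap A A')]
    [Module.Flat A A'] (hf : ∀ (p : Ideal A) [p.IsPrime], LocCoh.IsCohenMacaulayRing (p.Fiber A'))
    (hA' : CAlg.IsRegularHom A' (EGA4.Cpl A')) : EGA4.HasCMFormalFibres A := by
  obtain ⟨_, _, _⟩ := GeomRedFibLib.exists_cplTower A A'
  haveI := GeomRedFibLib.isNoetherianRing_cpl A
  haveI := GeomRedFibLib.isNoetherianRing_cpl A'
  haveI := hA'.1
  intro p _
  haveI := GeomRedFibLib.isNoetherianRing_fiber A (EGA4.Cpl A) p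
  rw [GeomRedFibLib.isCohenMacaulayRing_iff]
  refine GeomRedFibLib.fibreRingP_cancel GeomRedFibLib.isFlatLocalProp_cm A (EGA4.Cpl A) (EGA4.Cpl A') p ?_
  haveI := GeomRedFibLib.isNoetherianRing_fiber A A' p
  exact GeomRedFibLib.fibreRingP_comp GeomRedFibLib.isFlatLocalProp_cm A A' (EGA4.Cpl A') p
    (fun q _ ↦ GeomRedFibLib.cm_fiber_of_geometricallyRegular q (hA'.2 q).2)
    ((GeomRedFibLib.isCohenMacaulayRing_iff _).mp (hf p))

end Groth.Agent.S4744
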