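import Groth.Statements.S4746
import Groth.Agent.CplExcLib.ClosedFibreApps
-- import your own Groth.Agent.* helpers here

set_option autoImplicit false
universe u
open EGA4

namespace Groth.Agent.S4746

/-- For the property 'reduced': let A → B be a local homomorphism of Noetherian local rings making B a
flat A-module, such that the residue field of B is a finite extension of the residue field k of A,
and such that the formal fibres of A are geometrically reduced. If the k-algebra k ⊗_A B̂, where B̂
is the completion of B, is geometrically reduced over k, then every fibre k(p) ⊗_A B of A → B is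
geometrically reduced over k(p). -/
theorem result (A B : Type u) [CommRing A] [CommRing B]
    [IsNoetherianRing A] [IsNoetherianRing B] [IsLocalRing A] [IsLocalRing B] [Algebra A B]
    [IsLocalHom (algebraMap A B)] [Module.Flat A B]
    [Module.Finite (IsLocalRing.ResidueField A) (IsLocalRing.ResidueField B)]
    (hA : EGA4.HasGeomReducedFormalFibres A)
    (h : Algebra.IsGeometricallyReduced (IsLocalRing.maximalIdeal A).ResidueField
      ((IsLocalRing.maximalIdeal A).Fiber (EGA4.Cpl B))) :
    ∀ (p : Ideal A) [p.IsPrime], Algebra.IsGeometricallyReduced p.ResidueField (p.Fiber B) := by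
  haveI := GeomRedFibLib.isNoetherianRing_cpl A
  haveI := GeomRedFibLib.isNoetherianRing_cpl B
  haveI : ∀ (p : Ideal A) [p.IsPrime], IsNoetherianRing (p.Fiber B) := fun p _ ↦ GeomRedFibLib.isNoetherianRing_fiber A B p
  haveI : IsNoetherianRing ((IsLocalRing.maximalIdeal A).Fiber (EGA4.Cpl B)) := GeomRedFibLib.isNoetherianRing_fiber A _ _
  exact fun p _ ↦ (CplExcLib.geomP_redLoc_iff _ _).mpr
    (CplExcLib.geomP_fibre_of_flat_local CplExcLib.isLiftProp_redLoc A B
      (fun q _ ↦ haveI : IsNoetherianRing (EGA4.formalFibre A q) := GeomRedFibLib.isNoetherianRing_fiber A _ q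
        (CplExcLib.geomP_redLoc_iff _ _).mp (hA q))
      ((CplExcLib.geomP_redLoc_iff _ _).mp h) p)

end Groth.Agent.S4746
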