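import Groth.Statements.S4748
import Groth.Agent.GeomRedFibLib.GeomApps
-- import your own Groth.Agent.* helpers here

set_option autoImplicit false
universe u
open EGA4

namespace Groth.Agent.S4748

open TensorProduct in
/-- For the property 'normal' (affine form): let k be a field, S a Noetherian k-algebra and k' an
extension field of k such that S is of finite type over k or k' is essentially of finite type over
k; let q' be a prime of S ⊗_k k' and q its contraction to S. If (S ⊗_k k')_{q'} is an integrally
closed domain then so is S_q; conversely, if k' is separable over k (geometrically reduced) and S_q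
is an integrally closed domain, then so is (S ⊗_k k')_{q'}. -/
theorem result (k S k' : Type u) [Field k] [CommRing S] [Algebra k S]
    [IsNoetherianRing S] [Field k'] [Algebra k k'] (hft : Algebra.FiniteType k S ∨ Algebra.EssFiniteType k k')
    [IsNoetherianRing (S ⊗[k] k')] (q' : Ideal (S ⊗[k] k')) [q'.IsPrime] :
    ((IsDomain (Localization.AtPrime q') ∧ IsIntegrallyClosed (Localization.AtPrime q')) →
        (IsDomain (Localization.AtPrime (q'.comap (algebraMap S (S ⊗[k] k')))) ∧
          IsIntegrallyClosed (Localization.AtPrime (q'.comap (algebraMap S (S ⊗[k] k')))))) ∧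
      (Algebra.IsGeometricallyReduced k k' →
        (IsDomain (Localization.AtPrime (q'.comap (algebraMap S (S ⊗[k] k')))) ∧
          IsIntegrallyClosed (Localization.AtPrime (q'.comap (algebraMap S (S ⊗[k] k'))))) →
          (IsDomain (Localization.AtPrime q') ∧ IsIntegrallyClosed (Localization.AtPrime q'))) := by
  refine ⟨fun h ↦ ?_, fun hK h ↦ ?_⟩
  · obtain ⟨h1, h2⟩ := (GeomRedFibLib.normal_local_iff _).mp h
    exact (GeomRedFibLib.normal_local_iff _).mpr
      ⟨GeomRedFibLib.ringP_desc_at (GeomRedFibLib.isFlatLocalProp_rkLoc 1) S _ q' h1,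
        GeomRedFibLib.ringP_desc_at (GeomRedFibLib.isFlatLocalProp_skLoc 2) S _ q' h2⟩
  · haveI := hK
    obtain ⟨h1, h2⟩ := (GeomRedFibLib.normal_local_iff _).mp h
    exact (GeomRedFibLib.normal_local_iff _).mpr
      ⟨GeomRedFibLib.ringP_asc_at (GeomRedFibLib.isFlatLocalProp_rkLoc 1) S _ q' h1 fun q _ _ ↦
          GeomRedFibLib.fibLocRing_separable (GeomRedFibLib.isGeomProp_rkLoc 1) k S k' q,
        GeomRedFibLib.ringP_asc_at (GeomRedFibLib.isFlatLocalProp_skLoc 2) S _ q' h2 fun q _ _ ↦
          GeomRedFibLib.fibLocRing_separable (GeomRedFibLib.isGeomProp_skLoc 2) k S k' q⟩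

end Groth.Agent.S4748
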