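import Groth.Statements.S4749
import Groth.Agent.GeomRedFibLib.GeomApps
-- import your own Groth.Agent.* helpers here

set_option autoImplicit false
universe u
open EGA4

namespace Groth.Agent.S4749

open TensorProduct in
/-- Case of normal morphisms, affine form: let A → B be a homomorphism of Noetherian rings and A' a
Noetherian A-algebra, and assume that B or A' is of finite type over A. If A → B is normal then the
base change A' → A' ⊗_A B is normal; the converse holds when A' is faithfully flat over A. -/
theorem result (A B A' : Type u) [CommRing A] [CommRing B] [CommRing A']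
    [IsNoetherianRing A] [IsNoetherianRing B] [IsNoetherianRing A'] [Algebra A B] [Algebra A A']
    (hft : Algebra.FiniteType A B ∨ Algebra.FiniteType A A') :
    (EGA4.IsNormalHom A B → EGA4.IsNormalHom A' (A' ⊗[A] B)) ∧
      (Module.FaithfullyFlat A A' → EGA4.IsNormalHom A' (A' ⊗[A] B) → EGA4.IsNormalHom A B) := by
  haveI : IsNoetherianRing (TensorProduct A A' B) := by
    rcases hft with h | h
    · haveI := h
      exact Algebra.FiniteType.isNoetherianRing A' _
    · haveI := h
      haveI : IsNoetherianRing (TensorProduct A B A') := Algebra.FiniteType.isNoetherianRing B _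
      exact isNoetherianRing_of_ringEquiv _ (Algebra.TensorProduct.comm A B A').toRingEquiv
  refine ⟨fun h ↦ ?_, fun hff h ↦ ?_⟩
  · haveI := h.1
    refine ⟨inferInstance, fun p' _ ↦ ?_⟩
    haveI := GeomRedFibLib.isNoetherianRing_fiber A' (TensorProduct A A' B) p'
    haveI := GeomRedFibLib.isNoetherianRing_fiber A B (p'.comap (algebraMap A A'))
    obtain ⟨h1, h2⟩ := (GeomRedFibLib.geomP_normal_iff _ _).mp (h.2 (p'.comap (algebraMap A A')))
    rw [GeomRedFibLib.geomP_normal_iff]
    exact ⟨GeomRedFibLib.geomP_fiber_baseChange (GeomRedFibLib.isGeomProp_rkLoc 1) AlgEquiv.refl _ p' rfl h1,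
      GeomRedFibLib.geomP_fiber_baseChange (GeomRedFibLib.isGeomProp_skLoc 2) AlgEquiv.refl _ p' rfl h2⟩
  · haveI := hff
    haveI := h.1
    refine ⟨Module.Flat.of_flat_tensorProduct A B A', fun p hp ↦ ?_⟩
    obtain ⟨⟨p', hp'⟩, hpp⟩ := PrimeSpectrum.comap_surjective_of_faithfullyFlat (A := A) (B := A') ⟨p, hp⟩
    haveI := GeomRedFibLib.isNoetherianRing_fiber A' (TensorProduct A A' B) p'
    haveI := GeomRedFibLib.isNoetherianRing_fiber A B p
    obtain ⟨h1, h2⟩ := (GeomRedFibLib.geomP_normal_iff _ _).mp (h.2 p')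
    rw [GeomRedFibLib.geomP_normal_iff]
    exact ⟨GeomRedFibLib.geomP_fiber_of_baseChange (GeomRedFibLib.isGeomProp_rkLoc 1) AlgEquiv.refl p p'
        (congrArg PrimeSpectrum.asIdeal hpp).symm h1,
      GeomRedFibLib.geomP_fiber_of_baseChange (GeomRedFibLib.isGeomProp_skLoc 2) AlgEquiv.refl p p'
        (congrArg PrimeSpectrum.asIdeal hpp).symm h2⟩

end Groth.Agent.S4749
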