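import Groth.Statements.S4755
import Groth.Agent.GeomRedFibLib.BaseChange
import Groth.Agent.SMTLib.CMQuot
import Groth.Agent.GeomRedFibLib.CplQuot
-- import your own Groth.Agent.* helpers here

set_option autoImplicit false
universe u
open EGA4

namespace Groth.Agent.S4755

/-- For the property 'Cohen–Macaulay', case of a local ring: if the formal fibres of a Noetherian local
ring A are Cohen–Macaulay, then so are the formal fibres of A/I for every proper ideal I of A. -/
theorem result (A : Type u) [CommRing A] [IsNoetherianRing A] [IsLocalRing A]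
    (hA : EGA4.HasCMFormalFibres A) (I : Ideal A) [Nontrivial (A ⧸ I)] :
    EGA4.HasCMFormalFibres (A ⧸ I) := by
  obtain ⟨e⟩ := GeomRedFibLib.exists_cplQuotEquiv A I
  exact fun p' _ ↦
    GeomRedFibLib.fiber_baseChange e _ p' (fun R _ ↦ LocCoh.IsCohenMacaulayRing R)
      (fun _ _ _ _ σ h ↦ SMTLib.isCohenMacaulayRing_of_ringEquiv σ h)
      (RingHom.surjectiveOnStalks_of_surjective Ideal.Quotient.mk_surjective) rfl
      (hA (p'.comap (algebraMap A (A ⧸ I))))

end Groth.Agent.S4755
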