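import Groth.Statements.S4765
import Mathlib
import Groth.Agent.RichLib.LimOpen
-- import your own Groth.Agent.* helpers here

set_option autoImplicit false
universe u
open CategoryTheory AlgebraicGeometry
open Lim8

namespace Groth.Agent.S4765

/-- Let S = lim S_i be a cofiltered limit of schemes with affine transition maps and let i be an index
such that the projection S ⟶ S_j is surjective for every j over i. Then the projection S ⟶ S_i is an
open map if and only if every transition map S_j ⟶ S_i is an open map. This is the case of open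
morphisms. -/
theorem result {I : Type u} [SmallCategory I] [IsCofiltered I]
    (D : I ⥤ Scheme.{u}) (c : Limits.Cone D) (hc : Limits.IsLimit c)
    [∀ (i j : I) (f : i ⟶ j), IsAffineHom (D.map f)] (i : I)
    (hs : ∀ (j : I) (φ : j ⟶ i), Surjective (c.π.app j)) :
    IsOpenMap ⇑(c.π.app i) ↔ ∀ (j : I) (φ : j ⟶ i), IsOpenMap ⇑(D.map φ) := by
  let A := RichLib.LimBC.ofStage D c hc i
  have hsur : ∀ φ : Over i, Function.Surjective (A.c.π.app φ) := fun φ => (hs φ.left φ.hom).surj
  constructor
  · intro H j φ V hV
    have e : ⇑(D.map φ) '' V = ⇑(c.π.app i) '' (⇑(c.π.app j) ⁻¹' V) := by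
      ext y
      constructor
      · rintro ⟨v, hv, rfl⟩
        obtain ⟨x, rfl⟩ := (hs j φ).surj v
        exact ⟨x, hv, by rw [← c.w φ]; rfl⟩
      · rintro ⟨x, hx, rfl⟩
        exact ⟨c.π.app j x, hx, by rw [← c.w φ]; rfl⟩
    rw [e]
    exact H _ (hV.preimage (c.π.app j).continuous)
  · exact fun H => RichLib.LimOpen.isOpenMap_s A hsur fun φ => H φ.left φ.hom

end Groth.Agent.S4765
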