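import Groth.Statements.S4766
import Mathlib
import Groth.Agent.RichLib.LimOpen
-- import your own Groth.Agent.* helpers here

set_option autoImplicit false
universe u
open CategoryTheory AlgebraicGeometry
open Lim8 CategoryTheory.Limits

namespace Groth.Agent.S4766

/-- Let S = lim S_i be a cofiltered limit of schemes with affine transition maps and let i be an index
such that the projection S ⟶ S_j is surjective for every j over i. Then the projection S ⟶ S_i is
universally open if and only if every transition map S_j ⟶ S_i is universally open. This is the case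
of universally open morphisms. -/
theorem result {I : Type u} [SmallCategory I] [IsCofiltered I]
    (D : I ⥤ Scheme.{u}) (c : Limits.Cone D) (hc : Limits.IsLimit c)
    [∀ (i j : I) (f : i ⟶ j), IsAffineHom (D.map f)] (i : I)
    (hs : ∀ (j : I) (φ : j ⟶ i), Surjective (c.π.app j)) :
    UniversallyOpen (c.π.app i) ↔ ∀ (j : I) (φ : j ⟶ i), UniversallyOpen (D.map φ) := by
  let A := RichLib.LimBC.ofStage D c hc i
  constructor
  · intro H j φ
    refine ⟨fun {X' Y'} i₁ i₂ f' sq => ?_⟩
    haveI := hs j φ
    have sq2 : IsPullback (pullback.snd (c.π.app j) i₁ ≫ f') (pullback.fst (c.π.app j) i₁)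
        i₂ (c.π.app i) := by
      rw [← c.w φ]
      exact (IsPullback.of_hasPullback (c.π.app j) i₁).flip.paste_horiz sq
    have ho : IsOpenMap (pullback.snd (c.π.app j) i₁ ≫ f') := H.universally_isOpenMap _ _ _ sq2
    haveI : Surjective (pullback.snd (c.π.app j) i₁) := MorphismProperty.pullback_snd _ _ (hs j φ)
    intro V hV
    have e : ⇑f' '' V = ⇑(pullback.snd (c.π.app j) i₁ ≫ f') '' (⇑(pullback.snd (c.π.app j) i₁) ⁻¹' V) := by
      rw [Scheme.Hom.comp_base, TopCat.coe_comp, Set.image_comp,
        Set.image_preimage_eq _ (pullback.snd (c.π.app j) i₁).surjective]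
    rw [e]
    exact ho _ (hV.preimage (pullback.snd (c.π.app j) i₁).continuous)
  · intro H
    refine ⟨fun {X' Y'} i₁ i₂ f' sq => ?_⟩
    let B := RichLib.LimBC.pb A i₂
    have hB : IsOpenMap (pullback.fst i₂ (c.π.app i)) := by
      refine RichLib.LimOpen.isOpenMap_s B (fun φ => ?_) fun φ => ?_
      · exact (MorphismProperty.of_isPullback (P := @Surjective)
          (RichLib.LimBC.isPullback_cone A i₂ φ).flip (hs φ.left φ.hom)).surj
      · haveI := H φ.left φ.hom
        exact (H φ.left φ.hom).universally_isOpenMap _ _ _ (IsPullback.of_hasPullback i₂ (A.t φ))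
    show IsOpenMap f'
    rw [← sq.isoPullback_hom_fst]
    exact hB.comp (Scheme.Hom.homeomorph sq.isoPullback.hom).isOpenMap

end Groth.Agent.S4766
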