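import Groth.Statements.S4767
import Mathlib
import Groth.Agent.RichLib.LimTop2

set_option autoImplicit false
universe u
open CategoryTheory AlgebraicGeometry
open Lim8

namespace Groth.Agent.S4767

open AlgebraicGeometry CategoryTheory Limits in
theorem exists_two_stage {I : Type u} [SmallCategory I] [IsCofiltered I]
    (D : I ⥤ Scheme.{u}) (c : Limits.Cone D) (hc : Limits.IsLimit c)
    [∀ (i j : I) (f : i ⟶ j), IsAffineHom (D.map f)] (i₀ : I) (U₁ U₂ : c.pt.Opens)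
    (h₁ : IsCompact (U₁ : Set c.pt)) (h₂ : IsCompact (U₂ : Set c.pt)) :
    ∃ (k : I) (_ : k ⟶ i₀) (V₁ V₂ : (D.obj k).Opens), IsCompact (V₁ : Set (D.obj k)) ∧
      IsCompact (V₂ : Set (D.obj k)) ∧ c.π.app k ⁻¹ᵁ V₁ = U₁ ∧ c.π.app k ⁻¹ᵁ V₂ = U₂ := by
  obtain ⟨j₁, a₁, V₁, hV₁, e₁⟩ := RichLib.LimTop.exists_preimage_eq_over D c hc i₀ U₁ h₁
  obtain ⟨j₂, a₂, V₂, hV₂, e₂⟩ := RichLib.LimTop.exists_preimage_eq_over D c hc i₀ U₂ h₂
  obtain ⟨k, b₁, b₂, -⟩ := IsCofiltered.cospan a₁ a₂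
  refine ⟨k, b₁ ≫ a₁, D.map b₁ ⁻¹ᵁ V₁, D.map b₂ ⁻¹ᵁ V₂, QuasiCompact.isCompact_preimage _ V₁.2 hV₁,
    QuasiCompact.isCompact_preimage _ V₂.2 hV₂, ?_, ?_⟩
  · rw [← Scheme.Hom.comp_preimage, c.w, e₁]
  · rw [← Scheme.Hom.comp_preimage, c.w, e₂]


/-- Let S = lim S_i be a cofiltered limit of schemes with affine transition maps, some stage S_{i₀}
being quasi-compact and quasi-separated, and assume that the underlying topological space of S is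
Noetherian. If S is not irreducible, then there is an index i over i₀ such that S_j is not
irreducible for every index j over i. -/
theorem result {I : Type u} [SmallCategory I] [IsCofiltered I]
    (D : I ⥤ Scheme.{u}) (c : Limits.Cone D) (hc : Limits.IsLimit c)
    [∀ (i j : I) (f : i ⟶ j), IsAffineHom (D.map f)] (i₀ : I)
    [CompactSpace (D.obj i₀)] [QuasiSeparatedSpace (D.obj i₀)]
    [TopologicalSpace.NoetherianSpace c.pt] (h : ¬ IrreducibleSpace c.pt) :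
    ∃ (i : I) (_ : i ⟶ i₀), ∀ (j : I) (_ : j ⟶ i), ¬ IrreducibleSpace (D.obj j) := by
  classical
  by_cases hne : Nonempty c.pt
  · have hpre : ¬ IsPreirreducible (Set.univ : Set c.pt) := fun hp =>
      h { toPreirreducibleSpace := ⟨hp⟩, toNonempty := hne }
    simp only [IsPreirreducible, Set.univ_inter] at hpre
    push Not at hpre
    obtain ⟨U₁, U₂, hU₁, hU₂, ⟨s₁, hs₁⟩, ⟨s₂, hs₂⟩, hd'⟩ := hpre
    have hd : ∀ s, s ∈ U₁ → s ∈ U₂ → False := fun s hs hs' => by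
      have : s ∈ U₁ ∩ U₂ := ⟨hs, hs'⟩
      rw [hd'] at this
      exact this
    obtain ⟨k, a, V₁, V₂, hV₁, hV₂, e₁, e₂⟩ := exists_two_stage D c hc i₀ ⟨U₁, hU₁⟩ ⟨U₂, hU₂⟩
      (TopologicalSpace.NoetherianSpace.isCompact _) (TopologicalSpace.NoetherianSpace.isCompact _)
    haveI : CompactSpace (D.obj k) := QuasiCompact.compactSpace_of_compactSpace (D.map a)
    haveI : QuasiSeparatedSpace (D.obj k) := quasiSeparatedSpace_of_quasiSeparated (D.map a)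
    haveI : ∀ {x y : I} (f : x ⟶ y), IsAffineHom (D.map f) := fun f => inferInstance
    obtain ⟨l, b, hl⟩ := exists_map_preimage_le_map_preimage D c hc (U := V₁ ⊓ V₂)
      (QuasiSeparatedSpace.inter_isCompact _ _ V₁.2 hV₁ V₂.2 hV₂ : IsCompact ((V₁ ⊓ V₂ : (D.obj k).Opens) : Set (D.obj k)))
      (V := ⊥) (fun s hs => (hd s ((SetLike.ext_iff.mp e₁ s).mp hs.1) ((SetLike.ext_iff.mp e₂ s).mp hs.2)).elim)
    refine ⟨l, b ≫ a, fun j φ hirr => ?_⟩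
    have h1 : c.π.app j s₁ ∈ D.map (φ ≫ b) ⁻¹ᵁ V₁ := by
      show D.map (φ ≫ b) (c.π.app j s₁) ∈ V₁
      rw [RichLib.LimTop.π_map_apply]
      exact (e₁.symm ▸ hs₁ : s₁ ∈ c.π.app k ⁻¹ᵁ V₁)
    have h2 : c.π.app j s₂ ∈ D.map (φ ≫ b) ⁻¹ᵁ V₂ := by
      show D.map (φ ≫ b) (c.π.app j s₂) ∈ V₂
      rw [RichLib.LimTop.π_map_apply]
      exact (e₂.symm ▸ hs₂ : s₂ ∈ c.π.app k ⁻¹ᵁ V₂)
    obtain ⟨z, hz₁, hz₂⟩ := nonempty_preirreducible_inter (X := D.obj j) (D.map (φ ≫ b) ⁻¹ᵁ V₁).2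
      (D.map (φ ≫ b) ⁻¹ᵁ V₂).2 ⟨_, h1⟩ ⟨_, h2⟩
    have hz : D.map φ z ∈ D.map b ⁻¹ᵁ (V₁ ⊓ V₂) := by
      constructor
      · show D.map b (D.map φ z) ∈ V₁
        rw [← RichLib.LimTop.map_comp_apply]; exact hz₁
      · show D.map b (D.map φ z) ∈ V₂
        rw [← RichLib.LimTop.map_comp_apply]; exact hz₂
    exact (hl hz : D.map φ z ∈ (D.map b ⁻¹ᵁ ⊥ : (D.obj l).Opens)).elim
  · obtain ⟨j, φ, hφ⟩ := RichLib.LimTop.exists_inter_range_subset' D c hc (i := i₀) (E := ∅)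
      (RichLib.LimTop.isIndConstructible_of_isOpen isOpen_empty) (fun _ ⟨s, _⟩ => (hne ⟨s⟩).elim)
    refine ⟨j, φ, fun k ψ hirr => ?_⟩
    obtain ⟨z⟩ := hirr.toNonempty
    exact hφ ⟨D.map ψ z, rfl⟩

end Groth.Agent.S4767
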