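import Groth.Statements.S4768
import Mathlib
import Groth.Agent.RichLib.LimTop2

set_option autoImplicit false
universe u
open CategoryTheory AlgebraicGeometry
open Lim8

namespace Groth.Agent.S4768

open AlgebraicGeometry CategoryTheory Limits in
theorem exists_two_stage {I : Type u} [SmallCategory I] [IsCofiltered I]
    (D : I ⥤ Scheme.{u}) (c : Limits.Cone D) (hc : Limits.IsLimit c)
    [∀ (i j : I) (f : i ⟶ j), IsAffineHom (D.map f)] (i₀ : I) (U₁ U₂ : c.pt.Opens)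
    (h₁ : IsCompact (U₁ : Set c.pt)) (h₂ : IsCompact (U₂ : Set c.pt)) :
    ∃ (k : I) (_ : k ⟶ i₀) (V₁ V₂ : (D.obj k).Opens), IsCompact (V₁ : Set (D.obj k)) ∧
      IsCompact (V₂ : Set (D.obj k)) ∧ c.π.app k ⁻¹ᵁ V₁ = U₁ ∧ c.π.app k ⁻¹ᵁ V₂ = U₂ := by
  obtain ⟨j₁, a₁, V₁, hV₁, e₁⟩ := RichLib.LimTop.exists_preimage_eq_over D c hc i₀ U₁ h₁
  obtain ⟨j₂, a₂, V₂, hV₂, e₂⟩ := RichLib.LimTop.exists_preimage_eq_over D c hc i₀ U₂ h₂
  obtain ⟨k, b₁, b₂, -⟩ := IsCofiltered.cospan a₁ a₂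
  refine ⟨k, b₁ ≫ a₁, D.map b₁ ⁻¹ᵁ V₁, D.map b₂ ⁻¹ᵁ V₂, QuasiCompact.isCompact_preimage _ V₁.2 hV₁,
    QuasiCompact.isCompact_preimage _ V₂.2 hV₂, ?_, ?_⟩
  · rw [← Scheme.Hom.comp_preimage, c.w, e₁]
  · rw [← Scheme.Hom.comp_preimage, c.w, e₂]


/-- Let S = lim S_i be a cofiltered limit of schemes with affine transition maps, some stage S_{i₀}
being quasi-compact and quasi-separated. If S is not preconnected (that is, S is the disjoint union
of two nonempty open subsets), then there is an index i over i₀ such that S_j is not preconnected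
for every index j over i. (The published statement assumes the stage only quasi-compact, which is
not enough: over the affine space in infinitely many variables with a doubled origin, the closed
subschemes cut out by the first n coordinates form a system with affine transition maps in which
every stage is connected while the limit consists of two disjoint points. The published proof
descends the two pieces of S to quasi-compact open subsets of a stage and needs their intersection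
to become empty at a later stage, which uses that quasi-compact open subsets of the stage are
constructible; so the stage is taken quasi-separated here, as in part (i).) -/
theorem result {I : Type u} [SmallCategory I] [IsCofiltered I]
    (D : I ⥤ Scheme.{u}) (c : Limits.Cone D) (hc : Limits.IsLimit c)
    [∀ (i j : I) (f : i ⟶ j), IsAffineHom (D.map f)] (i₀ : I)
    [CompactSpace (D.obj i₀)] [QuasiSeparatedSpace (D.obj i₀)] (h : ¬ PreconnectedSpace c.pt) :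
    ∃ (i : I) (_ : i ⟶ i₀), ∀ (j : I) (_ : j ⟶ i), ¬ PreconnectedSpace (D.obj j) := by
  classical
  obtain ⟨U, hU, hne, hnu⟩ : ∃ U : Set c.pt, IsClopen U ∧ U.Nonempty ∧ U ≠ Set.univ := by
    by_contra hno
    push Not at hno
    exact h (preconnectedSpace_iff_clopen.mpr fun U hU =>
      (Set.eq_empty_or_nonempty U).imp id fun hne => hno U hU hne)
  haveI := RichLib.LimTop.compactSpace_pt D c hc i₀
  obtain ⟨s₁, hs₁⟩ := hne
  obtain ⟨s₂, hs₂⟩ := (Set.ne_univ_iff_exists_notMem U).mp hnu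
  obtain ⟨k, a, V₁, V₂, hV₁, hV₂, e₁, e₂⟩ := exists_two_stage D c hc i₀ ⟨U, hU.2⟩ ⟨Uᶜ, hU.1.isOpen_compl⟩
    hU.1.isCompact hU.compl.1.isCompact
  obtain ⟨l, b, hl⟩ : ∃ (l : I) (b : l ⟶ k), D.map b ⁻¹ᵁ (V₁ ⊓ V₂) ≤ D.map b ⁻¹ᵁ ⊥ := by
    have hd : ∀ s, s ∈ U → s ∈ Uᶜ → False := fun s hs hs' => hs' hs
    haveI : CompactSpace (D.obj k) := QuasiCompact.compactSpace_of_compactSpace (D.map a)
    haveI : QuasiSeparatedSpace (D.obj k) := quasiSeparatedSpace_of_quasiSeparated (D.map a)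
    haveI : ∀ {x y : I} (f : x ⟶ y), IsAffineHom (D.map f) := fun f => inferInstance
    obtain ⟨l, b, hl⟩ := exists_map_preimage_le_map_preimage D c hc (U := V₁ ⊓ V₂)
      (QuasiSeparatedSpace.inter_isCompact _ _ V₁.2 hV₁ V₂.2 hV₂ : IsCompact ((V₁ ⊓ V₂ : (D.obj k).Opens) : Set (D.obj k)))
      (V := ⊥) (fun s hs => (hd s ((SetLike.ext_iff.mp e₁ s).mp hs.1) ((SetLike.ext_iff.mp e₂ s).mp hs.2)).elim)
    exact ⟨l, b, hl⟩
  haveI : CompactSpace (D.obj k) := QuasiCompact.compactSpace_of_compactSpace (D.map a)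
  obtain ⟨m, e, hm⟩ := RichLib.LimTop.exists_inter_range_subset' D c hc (i := k)
    (E := (V₁ : Set (D.obj k)) ∪ V₂) (RichLib.LimTop.isIndConstructible_of_isOpen (V₁.2.union V₂.2)) (by
      rintro _ ⟨s, rfl⟩
      by_cases hs : s ∈ U
      · exact Or.inl (show s ∈ c.π.app k ⁻¹ᵁ V₁ from e₁.symm ▸ hs)
      · exact Or.inr (show s ∈ c.π.app k ⁻¹ᵁ V₂ from e₂.symm ▸ hs))
  obtain ⟨n, p, q, hpq⟩ := IsCofiltered.cospan b e
  refine ⟨n, p ≫ b ≫ a, fun j φ hpc => ?_⟩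
  let W₁ : (D.obj j).Opens := D.map (φ ≫ p ≫ b) ⁻¹ᵁ V₁
  let W₂ : (D.obj j).Opens := D.map (φ ≫ p ≫ b) ⁻¹ᵁ V₂
  have h1 : c.π.app j s₁ ∈ W₁ := by
    show D.map (φ ≫ p ≫ b) (c.π.app j s₁) ∈ V₁
    rw [RichLib.LimTop.π_map_apply]
    exact (e₁.symm ▸ hs₁ : s₁ ∈ c.π.app k ⁻¹ᵁ V₁)
  have h2 : c.π.app j s₂ ∈ W₂ := by
    show D.map (φ ≫ p ≫ b) (c.π.app j s₂) ∈ V₂
    rw [RichLib.LimTop.π_map_apply]
    exact (e₂.symm ▸ hs₂ : s₂ ∈ c.π.app k ⁻¹ᵁ V₂)
  obtain ⟨z, -, hz₁, hz₂⟩ := hpc.isPreconnected_univ W₁ W₂ W₁.2 W₂.2 (fun z _ => by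
    show D.map (φ ≫ p ≫ b) z ∈ V₁ ∨ D.map (φ ≫ p ≫ b) z ∈ V₂
    exact hm ⟨D.map (φ ≫ q) z, by rw [← RichLib.LimTop.map_comp_apply, Category.assoc, ← hpq]⟩)
    ⟨_, trivial, h1⟩ ⟨_, trivial, h2⟩
  have hz : D.map (φ ≫ p) z ∈ D.map b ⁻¹ᵁ (V₁ ⊓ V₂) := by
    constructor
    · show D.map b (D.map (φ ≫ p) z) ∈ V₁
      rw [← RichLib.LimTop.map_comp_apply, Category.assoc]; exact hz₁
    · show D.map b (D.map (φ ≫ p) z) ∈ V₂
      rw [← RichLib.LimTop.map_comp_apply, Category.assoc]; exact hz₂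
  exact (hl hz : D.map (φ ≫ p) z ∈ (D.map b ⁻¹ᵁ ⊥ : (D.obj l).Opens)).elim

end Groth.Agent.S4768
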