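import Groth.Statements.S4771
import Mathlib
import Groth.Agent.RichLib.LimTop2

set_option autoImplicit false
universe u
open CategoryTheory AlgebraicGeometry
open Lim8

namespace Groth.Agent.S4771

open AlgebraicGeometry CategoryTheory Limits in
theorem exists_two_stage {I : Type u} [SmallCategory I] [IsCofiltered I]
    (D : I ⥤ Scheme.{u}) (c : Limits.Cone D) (hc : Limits.IsLimit c)
    [∀ (i j : I) (f : i ⟶ j), IsAffineHom (D.map f)] (i₀ : I) (U₁ U₂ : c.pt.Opens)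
    (h₁ : IsCompact (U₁ : Set c.pt)) (h₂ : IsCompact (U₂ : Set c.pt)) :
    ∃ (k : I) (_ : k ⟶ i₀) (V₁ V₂ : (D.obj k).Opens), IsCompact (V₁ : Set (D.obj k)) ∧
      IsCompact (V₂ : Set (D.obj k)) ∧ c.π.app k ⁻¹ᵁ V₁ = U₁ ∧ c.π.app k ⁻¹ᵁ V₂ = U₂ := by
  obtain ⟨j₁, a₁, V₁, hV₁, e₁⟩ := RichLib.LimTop.exists_preimage_eq_over D c hc i₀ U₁ h₁
  obtain ⟨j₂, a₂, V₂, hV₂, e₂⟩ := RichLib.LimTop.exists_preimage_eq_over D c hc i₀ U₂ h₂
  obtain ⟨k, b₁, b₂, -⟩ := IsCofiltered.cospan a₁ a₂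
  refine ⟨k, b₁ ≫ a₁, D.map b₁ ⁻¹ᵁ V₁, D.map b₂ ⁻¹ᵁ V₂, QuasiCompact.isCompact_preimage _ V₁.2 hV₁,
    QuasiCompact.isCompact_preimage _ V₂.2 hV₂, ?_, ?_⟩
  · rw [← Scheme.Hom.comp_preimage, c.w, e₁]
  · rw [← Scheme.Hom.comp_preimage, c.w, e₂]


/-- Let S = lim S_i be a cofiltered limit of schemes whose transition maps are affine and dominant, some
stage S_{i₀} being quasi-compact, and assume that the underlying topological space of S is
Noetherian. Then S is irreducible if and only if there is an index i over i₀ such that S_j is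
irreducible for every j over i. -/
theorem result {I : Type u} [SmallCategory I] [IsCofiltered I]
    (D : I ⥤ Scheme.{u}) (c : Limits.Cone D) (hc : Limits.IsLimit c)
    [∀ (i j : I) (f : i ⟶ j), IsAffineHom (D.map f)] (i₀ : I)
    [CompactSpace (D.obj i₀)] [TopologicalSpace.NoetherianSpace c.pt]
    (hd : ∀ (i j : I) (φ : i ⟶ j), IsDominant (D.map φ)) :
    IrreducibleSpace c.pt ↔ ∃ (i : I) (_ : i ⟶ i₀), ∀ (j : I) (_ : j ⟶ i), IrreducibleSpace (D.obj j) := by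
  classical
  have hπ : ∀ i : I, IsDominant (c.π.app i) := fun i => RichLib.LimTop.isDominant_π D c hc i fun j φ => hd j i φ
  refine ⟨fun h => ⟨i₀, 𝟙 i₀, fun j _ => (irreducibleSpace_def _).mpr (by
      have := ((irreducibleSpace_def c.pt).mp h).image (c.π.app j) (c.π.app j).continuous.continuousOn
      have := this.closure
      rw [Set.top_eq_univ, Set.image_univ, (hπ j).denseRange.closure_range] at this
      rw [Set.top_eq_univ]
      exact this)⟩,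
    fun ⟨i, a, h⟩ => ?_⟩
  haveI := RichLib.LimTop.compactSpace_pt D c hc i₀
  have hne : Nonempty c.pt := by
    haveI := (h i (𝟙 i)).toNonempty
    obtain ⟨_, -, s, rfl⟩ := (hπ i).denseRange.inter_open_nonempty Set.univ isOpen_univ Set.univ_nonempty
    exact ⟨s⟩
  refine { toPreirreducibleSpace := ⟨fun U₁ U₂ hU₁ hU₂ hne₁ hne₂ => ?_⟩, toNonempty := hne }
  obtain ⟨s₁, -, hs₁⟩ := hne₁
  obtain ⟨s₂, -, hs₂⟩ := hne₂
  obtain ⟨k, b, V₁, V₂, hV₁, hV₂, e₁, e₂⟩ := exists_two_stage D c hc i ⟨U₁, hU₁⟩ ⟨U₂, hU₂⟩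
    (TopologicalSpace.NoetherianSpace.isCompact _) (TopologicalSpace.NoetherianSpace.isCompact _)
  haveI := (h k b).toPreirreducibleSpace
  have hne' := nonempty_preirreducible_inter (X := D.obj k) V₁.2 V₂.2
    ⟨_, (e₁.symm ▸ hs₁ : s₁ ∈ c.π.app k ⁻¹ᵁ V₁)⟩ ⟨_, (e₂.symm ▸ hs₂ : s₂ ∈ c.π.app k ⁻¹ᵁ V₂)⟩
  obtain ⟨_, hy, s, rfl⟩ := (hπ k).denseRange.inter_open_nonempty _ (V₁.2.inter V₂.2) hne'
  exact ⟨s, trivial, (e₁ ▸ hy.1 : s ∈ (⟨U₁, hU₁⟩ : c.pt.Opens)), (e₂ ▸ hy.2 : s ∈ (⟨U₂, hU₂⟩ : c.pt.Opens))⟩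

end Groth.Agent.S4771
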