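import Groth.Statements.S4772
import Mathlib
import Groth.Agent.RichLib.LimTop2

set_option autoImplicit false
universe u
open CategoryTheory AlgebraicGeometry
open Lim8

namespace Groth.Agent.S4772

open AlgebraicGeometry CategoryTheory Limits in
theorem exists_two_stage {I : Type u} [SmallCategory I] [IsCofiltered I]
    (D : I ⥤ Scheme.{u}) (c : Limits.Cone D) (hc : Limits.IsLimit c)
    [∀ (i j : I) (f : i ⟶ j), IsAffineHom (D.map f)] (i₀ : I) (U₁ U₂ : c.pt.Opens)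
    (h₁ : IsCompact (U₁ : Set c.pt)) (h₂ : IsCompact (U₂ : Set c.pt)) :
    ∃ (k : I) (_ : k ⟶ i₀) (V₁ V₂ : (D.obj k).Opens), IsCompact (V₁ : Set (D.obj k)) ∧
      IsCompact (V₂ : Set (D.obj k)) ∧ c.π.app k ⁻¹ᵁ V₁ = U₁ ∧ c.π.app k ⁻¹ᵁ V₂ = U₂ := by
  obtain ⟨j₁, a₁, V₁, hV₁, e₁⟩ := RichLib.LimTop.exists_preimage_eq_over D c hc i₀ U₁ h₁
  obtain ⟨j₂, a₂, V₂, hV₂, e₂⟩ := RichLib.LimTop.exists_preimage_eq_over D c hc i₀ U₂ h₂
  obtain ⟨k, b₁, b₂, -⟩ := IsCofiltered.cospan a₁ a₂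
  refine ⟨k, b₁ ≫ a₁, D.map b₁ ⁻¹ᵁ V₁, D.map b₂ ⁻¹ᵁ V₂, QuasiCompact.isCompact_preimage _ V₁.2 hV₁,
    QuasiCompact.isCompact_preimage _ V₂.2 hV₂, ?_, ?_⟩
  · rw [← Scheme.Hom.comp_preimage, c.w, e₁]
  · rw [← Scheme.Hom.comp_preimage, c.w, e₂]


/-- Let S = lim S_i be a cofiltered limit of schemes whose transition maps are affine and dominant, some
stage S_{i₀} being quasi-compact. Then S is connected (in particular nonempty) if and only if there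
is an index i over i₀ such that S_j is connected for every j over i. -/
theorem result {I : Type u} [SmallCategory I] [IsCofiltered I]
    (D : I ⥤ Scheme.{u}) (c : Limits.Cone D) (hc : Limits.IsLimit c)
    [∀ (i j : I) (f : i ⟶ j), IsAffineHom (D.map f)] (i₀ : I)
    [CompactSpace (D.obj i₀)] (hd : ∀ (i j : I) (φ : i ⟶ j), IsDominant (D.map φ)) :
    ConnectedSpace c.pt ↔ ∃ (i : I) (_ : i ⟶ i₀), ∀ (j : I) (_ : j ⟶ i), ConnectedSpace (D.obj j) := by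
  classical
  have hπ : ∀ i : I, IsDominant (c.π.app i) := fun i => RichLib.LimTop.isDominant_π D c hc i fun j φ => hd j i φ
  refine ⟨fun h => ⟨i₀, 𝟙 i₀, fun j _ =>
    { toPreconnectedSpace := ⟨by
        haveI : PreconnectedSpace c.pt := h.toPreconnectedSpace
        have := (isPreconnected_range (α := c.pt) (f := c.π.app j) (c.π.app j).continuous).closure
        rwa [(hπ j).denseRange.closure_range] at this⟩
      toNonempty := ⟨c.π.app j (Classical.arbitrary c.pt)⟩ }⟩, fun ⟨i, a, h⟩ => ?_⟩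
  haveI := RichLib.LimTop.compactSpace_pt D c hc i₀
  have hne : Nonempty c.pt := by
    haveI := (h i (𝟙 i)).toNonempty
    obtain ⟨_, -, s, rfl⟩ := (hπ i).denseRange.inter_open_nonempty Set.univ isOpen_univ Set.univ_nonempty
    exact ⟨s⟩
  refine { toPreconnectedSpace := preconnectedSpace_iff_clopen.mpr fun U hU => ?_, toNonempty := hne }
  by_contra hcon
  push Not at hcon
  obtain ⟨hne₁, hne₂⟩ := hcon
  obtain ⟨s₁, hs₁⟩ := (hne₁ : U.Nonempty)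
  obtain ⟨s₂, hs₂⟩ := (Set.ne_univ_iff_exists_notMem U).mp hne₂
  obtain ⟨k, b, V₁, V₂, hV₁, hV₂, e₁, e₂⟩ := exists_two_stage D c hc i ⟨U, hU.2⟩ ⟨Uᶜ, hU.1.isOpen_compl⟩
    hU.1.isCompact hU.compl.1.isCompact
  haveI : CompactSpace (D.obj i₀) := inferInstance
  haveI : CompactSpace (D.obj k) := QuasiCompact.compactSpace_of_compactSpace (D.map (b ≫ a))
  obtain ⟨m, e, hm⟩ := RichLib.LimTop.exists_inter_range_subset' D c hc (i := k)
    (E := (V₁ : Set (D.obj k)) ∪ V₂) (RichLib.LimTop.isIndConstructible_of_isOpen (V₁.2.union V₂.2)) (by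
      rintro _ ⟨s, rfl⟩
      by_cases hs : s ∈ U
      · exact Or.inl (show s ∈ c.π.app k ⁻¹ᵁ V₁ from e₁.symm ▸ hs)
      · exact Or.inr (show s ∈ c.π.app k ⁻¹ᵁ V₂ from e₂.symm ▸ hs))
  haveI := (h m (e ≫ b)).toPreconnectedSpace
  let W₁ : (D.obj m).Opens := D.map e ⁻¹ᵁ V₁
  let W₂ : (D.obj m).Opens := D.map e ⁻¹ᵁ V₂
  have h1 : c.π.app m s₁ ∈ W₁ := by
    show D.map e (c.π.app m s₁) ∈ V₁
    rw [RichLib.LimTop.π_map_apply]
    exact (e₁.symm ▸ hs₁ : s₁ ∈ c.π.app k ⁻¹ᵁ V₁)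
  have h2 : c.π.app m s₂ ∈ W₂ := by
    show D.map e (c.π.app m s₂) ∈ V₂
    rw [RichLib.LimTop.π_map_apply]
    exact (e₂.symm ▸ hs₂ : s₂ ∈ c.π.app k ⁻¹ᵁ V₂)
  obtain ⟨z, -, hz⟩ := isPreconnected_univ (α := D.obj m) W₁ W₂ W₁.2 W₂.2
    (fun z _ => hm ⟨z, rfl⟩) ⟨_, trivial, h1⟩ ⟨_, trivial, h2⟩
  obtain ⟨_, hy, s, rfl⟩ := (hπ m).denseRange.inter_open_nonempty _ (W₁.2.inter W₂.2) ⟨z, hz⟩
  have hy₁ : c.π.app k s ∈ V₁ := by rw [← RichLib.LimTop.π_map_apply D c e]; exact hy.1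
  have hy₂ : c.π.app k s ∈ V₂ := by rw [← RichLib.LimTop.π_map_apply D c e]; exact hy.2
  exact (e₂ ▸ hy₂ : s ∈ (⟨Uᶜ, hU.1.isOpen_compl⟩ : c.pt.Opens)) (e₁ ▸ hy₁ : s ∈ (⟨U, hU.2⟩ : c.pt.Opens))

end Groth.Agent.S4772
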