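import Groth.Statements.S4774
import Mathlib
import Groth.Agent.RichLib.LimStalk
-- import your own Groth.Agent.* helpers here

set_option autoImplicit false
universe u
open CategoryTheory AlgebraicGeometry
open Lim8

namespace Groth.Agent.S4774

/-- Let S = lim S_i be a cofiltered limit of schemes with affine transition maps. If S is not reduced,
then there is an index i such that S_j is not reduced for every index j over i. -/
theorem result {I : Type u} [SmallCategory I] [IsCofiltered I]
    (D : I ⥤ Scheme.{u}) (c : Limits.Cone D) (hc : Limits.IsLimit c)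
    [∀ (i j : I) (f : i ⟶ j), IsAffineHom (D.map f)] (h : ¬ IsReduced c.pt) :
    ∃ (i : I), ∀ (j : I) (_ : j ⟶ i), ¬ IsReduced (D.obj j) := by
  classical
  obtain ⟨s, hs⟩ : ∃ s : c.pt, ¬ _root_.IsReduced (c.pt.presheaf.stalk s) := by
    by_contra hno
    push Not at hno
    exact h (@isReduced_of_isReduced_stalk _ hno)
  obtain ⟨x, hx, hx0⟩ : ∃ x : c.pt.presheaf.stalk s, IsNilpotent x ∧ x ≠ 0 := by
    by_contra hno
    push Not at hno
    exact hs ⟨hno⟩
  obtain ⟨n, hn⟩ := hx
  obtain ⟨i₀⟩ := IsCofiltered.nonempty (C := I)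
  obtain ⟨j, φ, b, rfl⟩ := RichLib.LimStalk.exists_stalkMap_eq D c hc i₀ s x
  rw [← map_pow] at hn
  obtain ⟨k, ψ, hk⟩ := RichLib.LimStalk.exists_trans_eq_zero D c hc s _ hn
  refine ⟨k, fun l e hred => ?_⟩
  haveI := hred
  refine hx0 ?_
  have hl : RichLib.LimStalk.trans D c (e ≫ ψ) s (b ^ n) = 0 := by
    rw [← RichLib.LimStalk.trans_comp, hk, map_zero]
  have h0 : RichLib.LimStalk.trans D c (e ≫ ψ) s b = 0 :=
    _root_.IsNilpotent.eq_zero ⟨n, by rw [← map_pow]; exact hl⟩
  rw [← RichLib.LimStalk.stalkMap_trans D c (e ≫ ψ) s b, h0, map_zero]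

end Groth.Agent.S4774
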