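import Groth.Statements.S4775
import Mathlib
import Groth.Agent.RichLib.LimStalk

set_option autoImplicit false
universe u
open CategoryTheory AlgebraicGeometry
open Lim8

namespace Groth.Agent.S4775

/-- Let S = lim S_i be a cofiltered limit of schemes whose transition maps are affine, flat and
surjective. Then S is reduced if and only if every S_i is reduced. -/
theorem result {I : Type u} [SmallCategory I] [IsCofiltered I]
    (D : I ⥤ Scheme.{u}) (c : Limits.Cone D) (hc : Limits.IsLimit c)
    [∀ (i j : I) (f : i ⟶ j), IsAffineHom (D.map f)]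
    (hf : ∀ (i j : I) (φ : i ⟶ j), Flat (D.map φ) ∧ Surjective (D.map φ)) :
    IsReduced c.pt ↔ ∀ (i : I), IsReduced (D.obj i) := by
  have hπflat : ∀ i, Flat (c.π.app i) := fun i => RichLib.LimStalk.flat_π D c hc fun j φ => (hf j i φ).1
  have hπsurj : ∀ i, Surjective (c.π.app i) := fun i => ⟨fun x => by
    show x ∈ Set.range (c.π.app i)
    rw [RichLib.LimTop.range_π D c hc i]
    exact Set.mem_iInter₂.mpr fun j φ => (hf j i φ).2.surj x⟩
  refine ⟨fun h i => ?_, fun h => ?_⟩
  · have : ∀ x : D.obj i, _root_.IsReduced ((D.obj i).presheaf.stalk x) := fun x => by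
      obtain ⟨(s : c.pt), rfl⟩ := (hπsurj i).surj x
      haveI := hπflat i
      have hfl : ((c.π.app i).stalkMap s).hom.Flat := Flat.stalkMap (c.π.app i) s
      letI : Algebra ((D.obj i).presheaf.stalk (c.π.app i s)) (c.pt.presheaf.stalk s) :=
        ((c.π.app i).stalkMap s).hom.toAlgebra
      haveI : Module.Flat ((D.obj i).presheaf.stalk (c.π.app i s)) (c.pt.presheaf.stalk s) := hfl
      haveI : IsLocalHom (algebraMap ((D.obj i).presheaf.stalk (c.π.app i s)) (c.pt.presheaf.stalk s)) :=
        inferInstanceAs (IsLocalHom ((c.π.app i).stalkMap s).hom)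
      haveI := Module.FaithfullyFlat.of_flat_of_isLocalHom
        (A := (D.obj i).presheaf.stalk (c.π.app i s)) (B := c.pt.presheaf.stalk s)
      haveI : IsReduced c.pt := h
      exact isReduced_of_injective (algebraMap ((D.obj i).presheaf.stalk (c.π.app i s)) (c.pt.presheaf.stalk s))
        (FaithfulSMul.algebraMap_injective _ _)
    exact isReduced_of_isReduced_stalk _
  · have : ∀ s : c.pt, _root_.IsReduced (c.pt.presheaf.stalk s) := fun s => ⟨fun a ⟨n, hn⟩ => by
      obtain ⟨i₀⟩ := IsCofiltered.nonempty (C := I)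
      obtain ⟨j, -, b, rfl⟩ := RichLib.LimStalk.exists_stalkMap_eq D c hc i₀ s a
      rw [← map_pow] at hn
      obtain ⟨k, φ, hk⟩ := RichLib.LimStalk.exists_trans_eq_zero D c hc s _ hn
      haveI := h k
      have h0 : RichLib.LimStalk.trans D c φ s b = 0 :=
        _root_.IsNilpotent.eq_zero ⟨n, by rw [← map_pow]; exact hk⟩
      rw [← RichLib.LimStalk.stalkMap_trans D c φ s b, h0, map_zero]⟩
    exact isReduced_of_isReduced_stalk _

end Groth.Agent.S4775
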