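import Groth.Statements.S4776
import Mathlib
import Groth.Agent.S4771
import Groth.Agent.S4775

set_option autoImplicit false
universe u
open CategoryTheory AlgebraicGeometry
open Lim8

namespace Groth.Agent.S4776

/-- Let S = lim S_i be a cofiltered limit of schemes whose transition maps are affine, flat and
surjective, some stage S_{i₀} being quasi-compact, and assume that the underlying topological space
of S is Noetherian. Then S is integral if and only if there is an index i over i₀ such that S_j is
integral for every j over i. (The published statement carries neither the quasi-compactness nor the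
Noetherian hypothesis; its proof combines the reducedness criterion with the irreducibility
criterion for limits, and the latter is proved only under these two hypotheses, so they are assumed
here.) -/
theorem result {I : Type u} [SmallCategory I] [IsCofiltered I]
    (D : I ⥤ Scheme.{u}) (c : Limits.Cone D) (hc : Limits.IsLimit c)
    [∀ (i j : I) (f : i ⟶ j), IsAffineHom (D.map f)] (i₀ : I)
    [CompactSpace (D.obj i₀)] [TopologicalSpace.NoetherianSpace c.pt]
    (hf : ∀ (i j : I) (φ : i ⟶ j), Flat (D.map φ) ∧ Surjective (D.map φ)) :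
    IsIntegral c.pt ↔ ∃ (i : I) (_ : i ⟶ i₀), ∀ (j : I) (_ : j ⟶ i), IsIntegral (D.obj j) := by
  have hd : ∀ (i j : I) (φ : i ⟶ j), IsDominant (D.map φ) := fun i j φ => ⟨(hf i j φ).2.surj.denseRange⟩
  rw [isIntegral_iff_irreducibleSpace_and_isReduced, Groth.Agent.S4771.result D c hc i₀ hd,
    Groth.Agent.S4775.result D c hc hf]
  constructor
  · rintro ⟨⟨i, a, h⟩, hr⟩
    exact ⟨i, a, fun j φ => (isIntegral_iff_irreducibleSpace_and_isReduced _).mpr ⟨h j φ, hr j⟩⟩
  · rintro ⟨i, a, h⟩
    refine ⟨⟨i, a, fun j φ => ((isIntegral_iff_irreducibleSpace_and_isReduced _).mp (h j φ)).1⟩, ?_⟩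
    have hS : IsReduced c.pt := by
      have : ∀ s : c.pt, _root_.IsReduced (c.pt.presheaf.stalk s) := fun s => ⟨fun x ⟨n, hn⟩ => by
        obtain ⟨j, φ, b, rfl⟩ := RichLib.LimStalk.exists_stalkMap_eq D c hc i s x
        rw [← map_pow] at hn
        obtain ⟨k, ψ, hk⟩ := RichLib.LimStalk.exists_trans_eq_zero D c hc s _ hn
        haveI := h k (ψ ≫ φ)
        have h0 : RichLib.LimStalk.trans D c ψ s b = 0 :=
          _root_.IsNilpotent.eq_zero ⟨n, by rw [← map_pow]; exact hk⟩
        rw [← RichLib.LimStalk.stalkMap_trans D c ψ s b, h0, map_zero]⟩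
      exact isReduced_of_isReduced_stalk _
    exact (Groth.Agent.S4775.result D c hc hf).mp hS

end Groth.Agent.S4776
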