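import Groth.Statements.S4777
import Mathlib
import Groth.Agent.FPColimLib.Algebra
import Groth.Agent.FactorRangeLib.Alg
import Mathlib.CategoryTheory.Limits.Types.Colimits
-- import your own Groth.Agent.* helpers here

set_option autoImplicit false
universe u
open CategoryTheory
open Lim8

namespace Groth.Agent.S4777

open CategoryTheory Limits

/-- Let B be an algebra over a commutative ring A. If, for every inductive system (C_λ) of A-algebras
indexed by a nonempty directed preordered set, the canonical map colim Hom_A(B, C_λ) → Hom_A(B,
colim C_λ) is bijective (that is, Hom_A(B, -) preserves the colimit of the system), then B is an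
A-algebra of finite presentation. (This is the necessity half of the characterization of algebras of
finite presentation by this property; the converse is standard.) -/
theorem result {A B : CommRingCat.{u}} (f : A ⟶ B)
    (h : ∀ (J : Type u) [Preorder J] [IsDirected J (· ≤ ·)] [Nonempty J] (F : J ⥤ Under A),
      Limits.PreservesColimit F (coyoneda.obj (Opposite.op (Under.mk f)))) :
    f.hom.FinitePresentation := by
  algebraize [f.hom]
  haveI := h (FPColimLib.Stage A B) FPColimLib.diagram
  obtain ⟨i, y, hy⟩ := Types.jointly_surjective _
    (isColimitOfPreserves (coyoneda.obj (Opposite.op (Under.mk f))) FPColimLib.isColimit)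
    (𝟙 (Under.mk f))
  let s : (B : Type u) →ₐ[A] FPColimLib.Q i :=
    { y.right.hom with commutes' := fun r => congr($(Under.w y).hom r) }
  haveI : Algebra.FinitePresentation A (FPColimLib.Q i) :=
    Algebra.FinitePresentation.quotient ⟨i.t, rfl⟩
  show Algebra.FinitePresentation A B
  refine FactorRange.finitePresentation_of_retract s (FPColimLib.toA i) (AlgHom.ext fun b => ?_)
  exact congr(($hy).right.hom b)

end Groth.Agent.S4777
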