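import Groth.Statements.S4778
import Mathlib
import Groth.Agent.FPColimLib.Algebra
import Groth.Agent.FactorRangeLib.Alg

set_option autoImplicit false
universe u
open CategoryTheory AlgebraicGeometry
open Lim8

namespace Groth.Agent.S4778
open CategoryTheory.Limits TopologicalSpace Opposite

/-- A stage at which a given ideal becomes the unit ideal. -/
theorem exists_stage_eq_top {R A : Type u} [CommRing R] [CommRing A] [Algebra R A]
    (i : FPColimLib.Stage R A) (I : Ideal (FPColimLib.Q i))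
    (hI : I.map (FPColimLib.toA i) = ⊤) :
    ∃ (j : FPColimLib.Stage R A) (h : i ≤ j), I.map (FPColimLib.tr h) = ⊤ := by
  classical
  haveI : IsFiltered (FPColimLib.Stage R A) := inferInstance
  let F := FPColimLib.diagram (R := R) (A := A) ⋙ Under.forget (CommRingCat.of R) ⋙ forget CommRingCat
  have hc := isColimitOfPreserves (Under.forget (CommRingCat.of R) ⋙ forget CommRingCat)
    (FPColimLib.isColimit (R := R) (A := A))
  have htr : ∀ {a b c : FPColimLib.Stage R A} (h₁ : a ≤ b) (h₂ : b ≤ c) (x : FPColimLib.Q a),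
      FPColimLib.tr h₂ (FPColimLib.tr h₁ x) = FPColimLib.tr (h₁.trans h₂) x := by
    intro a b c h₁ h₂ x
    obtain ⟨q, rfl⟩ := Ideal.Quotient.mk_surjective x
    rw [FPColimLib.tr_mk, FPColimLib.tr_mk, FPColimLib.tr_mk, MvPolynomial.rename_rename]
    rfl
  have htoA : ∀ {a b : FPColimLib.Stage R A} (h₁ : a ≤ b) (x : FPColimLib.Q a),
      FPColimLib.toA b (FPColimLib.tr h₁ x) = FPColimLib.toA a x := by
    intro a b h₁ x
    obtain ⟨q, rfl⟩ := Ideal.Quotient.mk_surjective x
    rw [FPColimLib.tr_mk, FPColimLib.toA_mk, FPColimLib.toA_mk, MvPolynomial.aeval_rename]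
    rfl
  have hmap : ∀ {a b : FPColimLib.Stage R A} (h₁ : i ≤ a) (h₂ : a ≤ b) (x : FPColimLib.Q a),
      x ∈ I.map (FPColimLib.tr h₁) → FPColimLib.tr h₂ x ∈ I.map (FPColimLib.tr (h₁.trans h₂)) := by
    intro a b h₁ h₂ x hx
    have := Ideal.mem_map_of_mem (FPColimLib.tr h₂) hx
    rw [← Ideal.map_coe (FPColimLib.tr h₂), ← Ideal.map_coe (FPColimLib.tr h₁), Ideal.map_map] at this
    rw [← Ideal.map_coe]
    convert this using 2
    exact RingHom.ext fun y => (htr h₁ h₂ y).symm
  suffices key : ∀ x ∈ I.map (FPColimLib.toA i), ∃ (j : FPColimLib.Stage R A) (h : i ≤ j)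
      (b : FPColimLib.Q j), b ∈ I.map (FPColimLib.tr h) ∧ FPColimLib.toA j b = x by
    obtain ⟨j, h, b, hb, hb1⟩ := key 1 (hI ▸ Submodule.mem_top)
    obtain ⟨k, fj, fj', hk⟩ := (Types.FilteredColimit.isColimit_eq_iff _ hc).mp
      (show ((Under.forget (CommRingCat.of R) ⋙ forget CommRingCat).mapCocone
          (FPColimLib.cocone (R := R) (A := A))).ι.app j b =
        ((Under.forget (CommRingCat.of R) ⋙ forget CommRingCat).mapCocone
          (FPColimLib.cocone (R := R) (A := A))).ι.app j (1 : FPColimLib.Q j) from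
        hb1.trans (map_one (FPColimLib.toA j)).symm)
    refine ⟨k, h.trans (leOfHom fj), (Ideal.eq_top_iff_one _).mpr ?_⟩
    have h1 : FPColimLib.tr (leOfHom fj) b = 1 := hk.trans (map_one (FPColimLib.tr (leOfHom fj')))
    exact h1 ▸ hmap h (leOfHom fj) b hb
  intro x hx
  induction hx using Submodule.span_induction with
  | mem x hx =>
    obtain ⟨y, hy, rfl⟩ := hx
    exact ⟨i, le_rfl, FPColimLib.tr le_rfl y, Ideal.mem_map_of_mem _ hy, htoA _ _⟩
  | zero => exact ⟨i, le_rfl, 0, zero_mem _, map_zero _⟩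
  | add x y _ _ hx hy =>
    obtain ⟨j₁, h₁, b₁, hb₁, rfl⟩ := hx
    obtain ⟨j₂, h₂, b₂, hb₂, rfl⟩ := hy
    obtain ⟨k, k₁, k₂⟩ := exists_ge_ge j₁ j₂
    exact ⟨k, h₁.trans k₁, FPColimLib.tr k₁ b₁ + FPColimLib.tr k₂ b₂,
      add_mem (hmap h₁ k₁ b₁ hb₁) (hmap h₂ k₂ b₂ hb₂), by rw [map_add, htoA, htoA]⟩
  | smul r x _ hx =>
    obtain ⟨j₁, h₁, b₁, hb₁, rfl⟩ := hx
    obtain ⟨j₂, r', hr⟩ := Types.jointly_surjective _ hc r
    obtain ⟨k, k₁, k₂⟩ := exists_ge_ge j₁ j₂
    refine ⟨k, h₁.trans k₁, FPColimLib.tr k₂ r' * FPColimLib.tr k₁ b₁,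
      Ideal.mul_mem_left _ _ (hmap h₁ k₁ b₁ hb₁), ?_⟩
    rw [map_mul, htoA, htoA]
    exact congrArg (· * _) hr

/-- Let f : X ⟶ S be a morphism of schemes. Suppose that for every affine open U of S and every
projective system (Z_λ) of U-schemes indexed by a nonempty directed preordered set, with every Z_λ
an affine scheme, the functor Hom_S(-, X) takes the limit of the system to the colimit of the
Hom_S(Z_λ, X) (the canonical map from the colimit is bijective). Then f is locally of finite
presentation. -/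
theorem result {X S : Scheme.{u}} (f : X ⟶ S)
    (h : ∀ (U : S.Opens), IsAffineOpen U →
      ∀ (J : Type u) [Preorder J] [IsDirected J (· ≤ ·)] [Nonempty J] (Z : Jᵒᵖ ⥤ Over (U : Scheme.{u})),
      (∀ j, IsAffine (Z.obj j).left) →
      Limits.PreservesColimit (Z ⋙ Over.map U.ι).op (yoneda.obj (Over.mk f))) :
    LocallyOfFinitePresentation f := by
  refine ⟨fun {U} hU {V} hV e => ?_⟩
  let R := Γ(S, U)
  let A := Γ(X, V)
  algebraize [(f.appLE U V e).hom]
  let D : FPColimLib.Stage R A ⥤ Under (CommRingCat.of R) := FPColimLib.diagram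
  let Z : (FPColimLib.Stage R A)ᵒᵖ ⥤ Over (U : Scheme.{u}) :=
    { obj := fun i => Over.mk (Spec.map (D.obj i.unop).hom ≫ hU.isoSpec.inv)
      map := fun {i j} m => Over.homMk (Spec.map (D.map m.unop).right) (by
        show Spec.map (D.map m.unop).right ≫ Spec.map (D.obj j.unop).hom ≫ _ = Spec.map (D.obj i.unop).hom ≫ _
        rw [← Spec.map_comp_assoc, Under.w (D.map m.unop)])
      map_id := fun i => by ext1; simp
      map_comp := fun m n => by ext1; simp }
  haveI := h U hU (FPColimLib.Stage R A) Z (fun i => inferInstanceAs (IsAffine (Spec _)))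
  let Y := Z ⋙ Over.map U.ι
  let c : Cone Y :=
    { pt := Over.mk (Spec.map (f.appLE U V e) ≫ hU.fromSpec)
      π :=
        { app := fun i => Over.homMk (Spec.map ((FPColimLib.cocone (R := R) (A := A)).ι.app i.unop).right) (by
            show Spec.map _ ≫ (Spec.map (D.obj i.unop).hom ≫ hU.isoSpec.inv) ≫ U.ι = _
            rw [Category.assoc, IsAffineOpen.isoSpec_inv_ι, ← Spec.map_comp_assoc]
            exact congrArg (fun φ => Spec.map φ ≫ hU.fromSpec)
              (Under.w ((FPColimLib.cocone (R := R) (A := A)).ι.app i.unop)))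
          naturality := fun i j m => by
            ext1
            show 𝟙 _ ≫ Spec.map _ = Spec.map _ ≫ Spec.map (D.map m.unop).right
            rw [Category.id_comp, ← Spec.map_comp]
            exact congrArg Spec.map (congrArg CommaMorphism.right
              ((FPColimLib.cocone (R := R) (A := A)).w m.unop)).symm } }
  haveI : IsFiltered (FPColimLib.Stage R A) := inferInstance
  haveI : IsConnected (FPColimLib.Stage R A)ᵒᵖ := IsCofiltered.isConnected _
  have hc : IsLimit c := by
    refine isLimitOfReflects (Over.forget S) ?_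
    have h0 := isLimitOfPreserves Scheme.Spec
      (isColimitOfPreserves (Under.forget (CommRingCat.of R)) (FPColimLib.isColimit (R := R) (A := A))).op
    exact (IsLimit.equivOfNatIsoOfIso (NatIso.ofComponents (fun i => Iso.refl _)
      (fun m => by simp [Y, Z, D]))
      _ _ (Cone.ext (Iso.refl _) fun i => by simp [c])) h0
  let g₀ : c.pt ⟶ Over.mk f := Over.homMk hV.fromSpec (by
    show hV.fromSpec ≫ f = Spec.map (f.appLE U V e) ≫ hU.fromSpec
    exact (IsAffineOpen.SpecMap_appLE_fromSpec f hU hV e).symm)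
  obtain ⟨i, y, hy⟩ := Types.jointly_surjective _
    (isColimitOfPreserves (yoneda.obj (Over.mk f)) hc.op) g₀
  obtain ⟨i⟩ := i
  obtain ⟨i⟩ := i
  have hyl : Spec.map (CommRingCat.ofHom (FPColimLib.toA i).toRingHom) ≫ y.left = hV.fromSpec :=
    congrArg Over.Hom.left hy
  obtain ⟨I, hI⟩ : ∃ I : Ideal (FPColimLib.Q i),
      ((y.left ⁻¹ᵁ V).carrier : Set (PrimeSpectrum (FPColimLib.Q i)))ᶜ =
        PrimeSpectrum.zeroLocus (I : Set (FPColimLib.Q i)) :=
    (PrimeSpectrum.isClosed_iff_zeroLocus_ideal _).mp ((y.left ⁻¹ᵁ V).isOpen.isClosed_compl)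
  have hItop : I.map (FPColimLib.toA i) = ⊤ := by
    by_contra hne
    obtain ⟨p, hp, hle⟩ := Ideal.exists_le_maximal _ hne
    let q : Spec A := ⟨p, hp.isPrime⟩
    have h1 : y.left (Spec.map (CommRingCat.ofHom (FPColimLib.toA i).toRingHom) q) ∈ V := by
      show (Spec.map (CommRingCat.ofHom (FPColimLib.toA i).toRingHom) ≫ y.left) q ∈ V
      rw [hyl]
      exact (hV.range_fromSpec.le ⟨q, rfl⟩ : _)
    have h2 : Spec.map (CommRingCat.ofHom (FPColimLib.toA i).toRingHom) q ∈
        PrimeSpectrum.zeroLocus (I : Set (FPColimLib.Q i)) := fun x hx => hle (Ideal.mem_map_of_mem _ hx)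
    exact (hI.ge h2) h1
  obtain ⟨j, hij, hj⟩ := exists_stage_eq_top i I hItop
  let g := Spec.map (CommRingCat.ofHom (FPColimLib.tr hij).toRingHom) ≫ y.left
  have hg : Set.range g ⊆ Set.range hV.fromSpec := by
    rintro _ ⟨q, rfl⟩
    rw [IsAffineOpen.range_fromSpec]
    by_contra hq
    have h2 : Spec.map (CommRingCat.ofHom (FPColimLib.tr hij).toRingHom) q ∈
        PrimeSpectrum.zeroLocus (I : Set (FPColimLib.Q i)) := hI.le hq
    exact q.isPrime.ne_top (top_le_iff.mp (hj.ge.trans (Ideal.map_le_iff_le_comap.mpr h2)))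
  obtain ⟨s, hs⟩ := Spec.map_surjective (IsOpenImmersion.lift hV.fromSpec g hg)
  have hsg : Spec.map s ≫ hV.fromSpec = g := by rw [hs, IsOpenImmersion.lift_fac]
  have htri : Spec.map (CommRingCat.ofHom (FPColimLib.toA j).toRingHom) ≫
      Spec.map (CommRingCat.ofHom (FPColimLib.tr hij).toRingHom) =
      Spec.map (CommRingCat.ofHom (FPColimLib.toA i).toRingHom) := by
    rw [← Spec.map_comp]
    refine congrArg Spec.map ?_
    refine CommRingCat.hom_ext (RingHom.ext fun x => ?_)
    obtain ⟨q, rfl⟩ := Ideal.Quotient.mk_surjective x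
    show FPColimLib.toA j (FPColimLib.tr hij (Ideal.Quotient.mk _ q)) = FPColimLib.toA i (Ideal.Quotient.mk _ q)
    rw [FPColimLib.tr_mk, FPColimLib.toA_mk, FPColimLib.toA_mk, MvPolynomial.aeval_rename]
    rfl
  have hid : s ≫ CommRingCat.ofHom (FPColimLib.toA j).toRingHom = 𝟙 _ := by
    apply Spec.map_injective
    rw [← cancel_mono hV.fromSpec, Spec.map_comp, Category.assoc, hsg]
    show _ ≫ Spec.map (CommRingCat.ofHom (FPColimLib.tr hij).toRingHom) ≫ y.left = _
    rw [reassoc_of% htri, hyl, Spec.map_id]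
    exact (Category.id_comp _).symm
  have hcomm : f.appLE U V e ≫ s = CommRingCat.ofHom (algebraMap R (FPColimLib.Q j)) := by
    apply Spec.map_injective
    rw [← cancel_mono hU.fromSpec, Spec.map_comp, Category.assoc,
      IsAffineOpen.SpecMap_appLE_fromSpec f hU hV e, reassoc_of% hsg]
    show (Spec.map _ ≫ y.left) ≫ f = _
    have hw : y.left ≫ f = (Spec.map (D.obj i).hom ≫ hU.isoSpec.inv) ≫ U.ι := Over.w y
    rw [Category.assoc, hw, Category.assoc, IsAffineOpen.isoSpec_inv_ι, ← Spec.map_comp_assoc]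
    congr 2
    exact CommRingCat.hom_ext (FPColimLib.tr hij).comp_algebraMap
  let sA : (A : Type u) →ₐ[R] FPColimLib.Q j :=
    { s.hom with commutes' := fun r => congr($(hcomm).hom r) }
  haveI : Algebra.FinitePresentation R (FPColimLib.Q j) :=
    Algebra.FinitePresentation.quotient ⟨j.t, rfl⟩
  show Algebra.FinitePresentation R A
  exact FactorRange.finitePresentation_of_retract sA (FPColimLib.toA j)
    (AlgHom.ext fun b => congr($(hid).hom b))

end Groth.Agent.S4778
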