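import Groth.Statements.S4779
import Mathlib
import Groth.Agent.RichLib.LimOpen
-- import your own Groth.Agent.* helpers here

set_option autoImplicit false
universe u
open CategoryTheory AlgebraicGeometry
open Lim8 CategoryTheory.Limits

namespace Groth.Agent.S4779

/-- Let S = lim S_i be a cofiltered limit of schemes with affine transition maps, let f₀ : X₀ ⟶ Y₀ be a
morphism of schemes over a stage S_{i₀}, and let f : X ⟶ Y be its base change along S ⟶ S_{i₀} (all
base changes are expressed by pullback squares). If there is an index i over i₀ such that, for every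
j over i, the base change f_j : X_j ⟶ Y_j of f₀ along S_j ⟶ S_{i₀} is an open map, then f is an open
map. (The corresponding statement for universally open morphisms follows from this one by base
change.) -/
theorem result {I : Type u} [SmallCategory I] [IsCofiltered I]
    (D : I ⥤ Scheme.{u}) (c : Limits.Cone D) (hc : Limits.IsLimit c)
    [∀ (i j : I) (f : i ⟶ j), IsAffineHom (D.map f)] (i₀ : I)
    {X₀ Y₀ : Scheme.{u}} (f₀ : X₀ ⟶ Y₀) (g₀ : Y₀ ⟶ D.obj i₀)
    {X Y : Scheme.{u}} (f : X ⟶ Y) (g : Y ⟶ c.pt) (qY : Y ⟶ Y₀) (qX : X ⟶ X₀)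
    (hY : IsPullback qY g g₀ (c.π.app i₀)) (hX : IsPullback qX f f₀ qY)
    (h : ∃ (i : I) (φ : i ⟶ i₀), ∀ (j : I) (ψ : j ⟶ i) (Xj Yj : Scheme.{u}) (fj : Xj ⟶ Yj)
      (gj : Yj ⟶ D.obj j) (pY : Yj ⟶ Y₀) (pX : Xj ⟶ X₀),
      IsPullback pY gj g₀ (D.map (ψ ≫ φ)) → IsPullback pX fj f₀ pY → IsOpenMap ⇑fj) :
    IsOpenMap ⇑f := by
  let A := RichLib.LimBC.ofStage D c hc i₀
  let B := RichLib.LimBC.pb A g₀
  obtain ⟨i, φ, h⟩ := h
  let B' := RichLib.LimBC.restart B (Over.mk φ)
  let f₁ := pullback.snd f₀ (B.t (Over.mk φ))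
  have hB : IsOpenMap (pullback.snd f₁ B'.s) := RichLib.LimOpen.isOpenMap_base_change B' f₁ fun ψ => by
    have sq0 : IsPullback (RichLib.LimBC.pbMap B f₀ ψ.hom) (pullback.snd f₀ (B.t ψ.left))
        f₁ (B.D.map ψ.hom) := RichLib.LimBC.isPullback_map B f₀ ψ.hom
    have ho : IsOpenMap (pullback.snd f₀ (pullback.fst g₀ (D.map ψ.left.hom))) :=
      h ψ.left.left ψ.hom.left _ _ _ (pullback.snd g₀ (D.map ψ.left.hom)) (pullback.fst g₀ (D.map ψ.left.hom))
        (pullback.fst _ _) (by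
          have : ψ.hom.left ≫ φ = ψ.left.hom := Over.w ψ.hom
          rw [this]
          exact IsPullback.of_hasPullback g₀ (D.map ψ.left.hom))
        (IsPullback.of_hasPullback _ _)
    show IsOpenMap (pullback.snd f₁ (B.D.map ψ.hom))
    rw [← sq0.isoPullback_inv_snd]
    exact ho.comp (Scheme.Hom.homeomorph sq0.isoPullback.inv).isOpenMap
  have hX' : IsPullback qX (f ≫ hY.isoPullback.hom) f₀ (pullback.fst g₀ (c.π.app i₀)) :=
    hX.of_iso (Iso.refl _) (Iso.refl _) hY.isoPullback (Iso.refl _) (by simp) (by simp) (by simp) (by simp)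
  have sqL : IsPullback (RichLib.LimBC.pbπ B f₀ (Over.mk φ)) (pullback.snd f₀ B.s) f₁
      (B.c.π.app (Over.mk φ)) := RichLib.LimBC.isPullback_cone B f₀ (Over.mk φ)
  have hL : IsOpenMap (pullback.snd f₀ B.s) := by
    rw [← sqL.isoPullback_hom_snd]
    exact hB.comp (Scheme.Hom.homeomorph sqL.isoPullback.hom).isOpenMap
  have e : f = hX'.isoPullback.hom ≫ pullback.snd f₀ B.s ≫ hY.isoPullback.inv := by
    rw [← Category.assoc]
    exact (Iso.eq_comp_inv _).mpr hX'.isoPullback_hom_snd.symm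
  rw [e]
  exact ((Scheme.Hom.homeomorph hY.isoPullback.inv).isOpenMap.comp hL).comp
    (Scheme.Hom.homeomorph hX'.isoPullback.hom).isOpenMap

end Groth.Agent.S4779
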