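import Groth.Statements.S4781
import Groth.Agent.FibDimLib.ClosureDim

set_option autoImplicit false
universe u
open CategoryTheory AlgebraicGeometry
open Cons9

namespace Groth.Agent.S4781

/-- Let S be a Noetherian irreducible scheme with generic point η, let X be an irreducible scheme and f
: X ⟶ S a dominant morphism of finite type. Then there is an open neighbourhood U of η in S such
that, for every s ∈ U, all irreducible components of the fibre f⁻¹(s) have dimension equal to dim
f⁻¹(η). Fibres are taken as subspaces of X and dimensions are topological Krull dimensions. -/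
theorem result {X S : Scheme.{u}} (f : X ⟶ S)
    [IsNoetherian S] [IrreducibleSpace S] [IrreducibleSpace X] [IsDominant f]
    [LocallyOfFiniteType f] [QuasiCompact f] :
    ∃ U : S.Opens, genericPoint S ∈ U ∧ ∀ s ∈ U, ∀ T ∈ irreducibleComponents ↥(⇑f ⁻¹' {s}),
      topologicalKrullDim ↥T = topologicalKrullDim ↥(⇑f ⁻¹' {genericPoint S}) := by
  obtain ⟨V, hV, hVd⟩ := FibDimLib.exists_open_fiber_dim_of_irreducible f
  refine ⟨V, hV, fun s hs T hT => ?_⟩
  let h := f.fiberHomeo s
  have hT' : h ⁻¹' T ∈ irreducibleComponents ↥(f.fiber s) :=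
    preimage_mem_irreducibleComponents hT h.isOpenEmbedding
      (by rw [h.surjective.range_eq, Set.inter_univ]; exact hT.1.nonempty)
  have e1 : topologicalKrullDim ↥T = topologicalKrullDim ↥(h ⁻¹' T) :=
    (IsHomeomorph.topologicalKrullDim_eq _ (h.subtype (p := fun a => a ∈ h ⁻¹' T) (q := fun a => a ∈ T)
      (fun a => Iff.rfl)).isHomeomorph).symm
  have e2 : ∀ t : S, topologicalKrullDim ↥(⇑f ⁻¹' {t}) = topologicalKrullDim ↥(f.fiber t) := fun t =>
    (IsHomeomorph.topologicalKrullDim_eq _ (f.fiberHomeo t).isHomeomorph).symm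
  rw [e1, e2]
  obtain ⟨x, hx, hd⟩ := FibDimLib.exists_point_of_fibre_component f s hT'
  refine le_antisymm ?_ ?_
  · exact (topologicalKrullDim_subspace_le _ _).trans (hVd s hs).le
  · rw [hd]
    exact FibDimLib.generic_fiber_dim_le f x


end Groth.Agent.S4781
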