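import Groth.Statements.S4782
import Mathlib
import Groth.Agent.RichLib.LimStalk

set_option autoImplicit false
universe u
open CategoryTheory AlgebraicGeometry
open Lim8

namespace Groth.Agent.S4782

open AlgebraicGeometry CategoryTheory Limits in
theorem bijective_trans {I : Type u} [SmallCategory I] [IsCofiltered I]
    (D : I ⥤ Scheme.{u}) (c : Limits.Cone D) [∀ (i j : I) (f : i ⟶ j), IsAffineHom (D.map f)]
    {i j : I} (φ : j ⟶ i) [IsOpenImmersion (D.map φ)] (s : c.pt) :
    Function.Bijective (RichLib.LimStalk.trans D c φ s) := by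
  have : IsIso ((D.obj i).presheaf.stalkSpecializes
      (specializes_of_eq (RichLib.LimTop.π_map_apply D c φ s))) :=
    inferInstanceAs (IsIso ((D.obj i).presheaf.stalkCongr (.of_eq (RichLib.LimTop.π_map_apply D c φ s).symm)).hom)
  exact (ConcreteCategory.bijective_of_isIso ((D.map φ).stalkMap (c.π.app j s))).comp
    (ConcreteCategory.bijective_of_isIso ((D.obj i).presheaf.stalkSpecializes
      (specializes_of_eq (RichLib.LimTop.π_map_apply D c φ s))))

open AlgebraicGeometry CategoryTheory Limits in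
theorem bijective_stalkMap {I : Type u} [SmallCategory I] [IsCofiltered I]
    (D : I ⥤ Scheme.{u}) (c : Limits.Cone D) (hc : Limits.IsLimit c)
    [∀ (i j : I) (f : i ⟶ j), IsAffineHom (D.map f)]
    (hoi : ∀ (i j : I) (φ : i ⟶ j), IsOpenImmersion (D.map φ)) (i : I) (s : c.pt) :
    Function.Bijective ((c.π.app i).stalkMap s) := by
  refine ⟨(injective_iff_map_eq_zero ((c.π.app i).stalkMap s).hom).mpr fun b hb => ?_, fun a => ?_⟩
  · obtain ⟨j, φ, hj⟩ := RichLib.LimStalk.exists_trans_eq_zero D c hc s b hb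
    haveI := hoi j i φ
    exact (bijective_trans D c φ s).1 (hj.trans (map_zero _).symm)
  · obtain ⟨j, φ, b, rfl⟩ := RichLib.LimStalk.exists_stalkMap_eq D c hc i s a
    haveI := hoi j i φ
    obtain ⟨b', rfl⟩ := (bijective_trans D c φ s).2 b
    exact ⟨b', (RichLib.LimStalk.stalkMap_trans D c φ s b').symm⟩


/-- Let S = lim S_i be a cofiltered limit of schemes whose transition maps are open immersions (in
particular affine), and let S_{i₀} be a quasi-compact stage whose nilradical is an ideal of finite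
type, i.e. for every affine open U of S_{i₀} the nilradical of Γ(S_{i₀}, U) is finitely generated
(automatic when S_{i₀} is Noetherian). Then S is reduced if and only if there is an index i over i₀
such that S_j is reduced for every j over i. -/
theorem result {I : Type u} [SmallCategory I] [IsCofiltered I]
    (D : I ⥤ Scheme.{u}) (c : Limits.Cone D) (hc : Limits.IsLimit c)
    [∀ (i j : I) (f : i ⟶ j), IsAffineHom (D.map f)] (i₀ : I)
    [CompactSpace (D.obj i₀)] (hoi : ∀ (i j : I) (φ : i ⟶ j), IsOpenImmersion (D.map φ))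
    (hN : ∀ U : (D.obj i₀).affineOpens, (nilradical Γ(D.obj i₀, U)).FG) :
    IsReduced c.pt ↔ ∃ (i : I) (_ : i ⟶ i₀), ∀ (j : I) (_ : j ⟶ i), IsReduced (D.obj j) := by
  classical
  refine ⟨fun h => ?_, fun ⟨i, a, h⟩ => ?_⟩
  swap
  · haveI := h i (𝟙 i)
    have : ∀ s : c.pt, _root_.IsReduced (c.pt.presheaf.stalk s) := fun s =>
      isReduced_of_injective (RingEquiv.ofBijective _ (bijective_stalkMap D c hc hoi i s)).symm.toRingHom
        (RingEquiv.injective _)
    exact isReduced_of_isReduced_stalk _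
  -- finitely many affine opens cover the stage
  haveI : IsReduced c.pt := h
  haveI : ∀ {a b : I} (f : a ⟶ b), IsAffineHom (D.map f) := fun f => inferInstance
  choose U hU hxU _h using fun x : D.obj i₀ =>
    exists_isAffineOpen_mem_and_subset (X := D.obj i₀) (x := x) (U := ⊤) trivial
  obtain ⟨T, hT⟩ := isCompact_univ.elim_finite_subcover (fun x => (U x : Set (D.obj i₀))) (fun x => (U x).2)
    (fun x _ => Set.mem_iUnion.mpr ⟨x, hxU x⟩)
  choose G hG using fun x : D.obj i₀ => hN ⟨U x, hU x⟩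
  have hkill : ∀ x (g : Γ(D.obj i₀, U x)), g ∈ G x → ∃ (j : I) (φ : j ⟶ i₀), (D.map φ).app (U x) g = 0 := by
    intro x g hg
    refine exists_app_map_eq_zero_of_isLimit D c hc (hU x).isCompact g ?_
    have hn : IsNilpotent g := mem_nilradical.mp (hG x ▸ Submodule.subset_span hg)
    haveI : _root_.IsReduced Γ(c.pt, c.π.app i₀ ⁻¹ᵁ U x) := IsReduced.component_reduced _
    exact (hn.map ((c.π.app i₀).app (U x)).hom).eq_zero (R := Γ(c.pt, c.π.app i₀ ⁻¹ᵁ U x))
  choose j φ hφ using hkill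
  let J : Finset I := (T.biUnion fun x => (G x).attach.image fun g => j x g.1 g.2) ∪ {i₀}
  let H : Finset (Σ' (X Y : I) (_ : X ∈ J) (_ : Y ∈ J), (X ⟶ Y)) := T.attach.biUnion fun x =>
    (G x.1).attach.image fun g => ⟨j x.1 g.1 g.2, i₀, Finset.mem_union_left _
      (Finset.mem_biUnion.mpr ⟨x.1, x.2, Finset.mem_image_of_mem (fun g => j x.1 g.1 g.2) (Finset.mem_attach _ g)⟩),
      Finset.mem_union_right _ (Finset.mem_singleton_self i₀), φ x.1 g.1 g.2⟩
  obtain ⟨k, lk, hlk⟩ := IsCofiltered.inf_exists J H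
  let ψ : k ⟶ i₀ := lk (Finset.mem_union_right _ (Finset.mem_singleton_self i₀))
  refine ⟨k, ψ, fun m a => ?_⟩
  have : ∀ y : D.obj m, _root_.IsReduced ((D.obj m).presheaf.stalk y) := fun y => ⟨fun b hb => by
    haveI := hoi m i₀ (a ≫ ψ)
    obtain ⟨b', rfl⟩ := (ConcreteCategory.bijective_of_isIso ((D.map (a ≫ ψ)).stalkMap y)).2 b
    have hb' : IsNilpotent b' := (IsNilpotent.map_iff (f := ((D.map (a ≫ ψ)).stalkMap y).hom)
      (ConcreteCategory.bijective_of_isIso ((D.map (a ≫ ψ)).stalkMap y)).1).mp hb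
    obtain ⟨x, hxT, hyx⟩ := Set.mem_iUnion₂.mp (hT (Set.mem_univ (D.map (a ≫ ψ) y)))
    letI : Algebra Γ(D.obj i₀, U x) ((D.obj i₀).presheaf.stalk (D.map (a ≫ ψ) y)) :=
      ((D.obj i₀).presheaf.germ (U x) _ hyx).hom.toAlgebra
    haveI : IsLocalization.AtPrime ((D.obj i₀).presheaf.stalk (D.map (a ≫ ψ) y))
        ((hU x).primeIdealOf ⟨_, hyx⟩).asIdeal := (hU x).isLocalization_stalk ⟨_, hyx⟩
    have hmem : b' ∈ (nilradical Γ(D.obj i₀, U x)).map
        (algebraMap Γ(D.obj i₀, U x) ((D.obj i₀).presheaf.stalk (D.map (a ≫ ψ) y))) := by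
      obtain ⟨⟨r, t⟩, rfl⟩ := IsLocalization.mk'_surjective ((hU x).primeIdealOf ⟨_, hyx⟩).asIdeal.primeCompl b'
      obtain ⟨n, hn⟩ := hb'
      rw [← IsLocalization.mk'_pow, IsLocalization.mk'_eq_zero_iff] at hn
      obtain ⟨v, hv⟩ := hn
      have hnil : IsNilpotent ((v : Γ(D.obj i₀, U x)) * r) := ⟨n + 1, by
        rw [mul_pow, pow_succ (v : Γ(D.obj i₀, U x)), mul_assoc, pow_succ r, ← mul_assoc (v : Γ(D.obj i₀, U x)),
          hv, zero_mul, mul_zero]⟩
      rw [IsLocalization.mem_map_algebraMap_iff ((hU x).primeIdealOf ⟨_, hyx⟩).asIdeal.primeCompl]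
      refine ⟨⟨⟨_, mem_nilradical.mpr hnil⟩, v * t⟩, ?_⟩
      rw [Submonoid.coe_mul, map_mul, map_mul]
      show IsLocalization.mk' ((D.obj i₀).presheaf.stalk (D.map (a ≫ ψ) y)) r t * _ = _
      linear_combination (algebraMap Γ(D.obj i₀, U x) ((D.obj i₀).presheaf.stalk (D.map (a ≫ ψ) y)) (v : Γ(D.obj i₀, U x))) *
        IsLocalization.mk'_spec ((D.obj i₀).presheaf.stalk (D.map (a ≫ ψ) y)) r t
    have hle : (nilradical Γ(D.obj i₀, U x)).map
        (algebraMap Γ(D.obj i₀, U x) ((D.obj i₀).presheaf.stalk (D.map (a ≫ ψ) y))) ≤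
        RingHom.ker ((D.map (a ≫ ψ)).stalkMap y).hom := by
      rw [← hG x, Ideal.map_span, Ideal.span_le]
      rintro _ ⟨g, hg, rfl⟩
      have hin : j x g hg ∈ J := Finset.mem_union_left _ (Finset.mem_biUnion.mpr
        ⟨x, hxT, Finset.mem_image_of_mem (fun g => j x g.1 g.2) (Finset.mem_attach _ ⟨g, hg⟩)⟩)
      have hcomp : lk hin ≫ φ x g hg = ψ := hlk hin _ (Finset.mem_biUnion.mpr ⟨⟨x, hxT⟩, Finset.mem_attach _ _,
        Finset.mem_image_of_mem _ (Finset.mem_attach _ ⟨g, hg⟩)⟩)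
      show (D.map (a ≫ ψ)).stalkMap y ((D.obj i₀).presheaf.germ (U x) _ hyx g) = 0
      rw [Scheme.Hom.germ_stalkMap_apply]
      have h0 : ((D.map (a ≫ ψ)).app (U x)) g = 0 := by
        rw [← hcomp, ← Category.assoc, D.map_comp, Scheme.Hom.comp_app]
        exact ((congrArg _ (hφ x g hg)).trans (map_zero ((D.map (a ≫ lk hin)).app _).hom))
      rw [h0, map_zero]
    exact hle hmem⟩
  exact isReduced_of_isReduced_stalk _

end Groth.Agent.S4782
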