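import Groth.Statements.S4785
import Mathlib
import Groth.Agent.RichLib.LimStalk

set_option autoImplicit false
universe u
open CategoryTheory AlgebraicGeometry
open Lim8

namespace Groth.Agent.S4785

open AlgebraicGeometry CategoryTheory Limits in
theorem bijective_trans {I : Type u} [SmallCategory I] [IsCofiltered I]
    (D : I ⥤ Scheme.{u}) (c : Limits.Cone D) [∀ (i j : I) (f : i ⟶ j), IsAffineHom (D.map f)]
    {i j : I} (φ : j ⟶ i) [IsOpenImmersion (D.map φ)] (s : c.pt) :
    Function.Bijective (RichLib.LimStalk.trans D c φ s) := by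
  have : IsIso ((D.obj i).presheaf.stalkSpecializes
      (specializes_of_eq (RichLib.LimTop.π_map_apply D c φ s))) :=
    inferInstanceAs (IsIso ((D.obj i).presheaf.stalkCongr (.of_eq (RichLib.LimTop.π_map_apply D c φ s).symm)).hom)
  exact (ConcreteCategory.bijective_of_isIso ((D.map φ).stalkMap (c.π.app j s))).comp
    (ConcreteCategory.bijective_of_isIso ((D.obj i).presheaf.stalkSpecializes
      (specializes_of_eq (RichLib.LimTop.π_map_apply D c φ s))))

open AlgebraicGeometry CategoryTheory Limits in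
theorem bijective_stalkMap {I : Type u} [SmallCategory I] [IsCofiltered I]
    (D : I ⥤ Scheme.{u}) (c : Limits.Cone D) (hc : Limits.IsLimit c)
    [∀ (i j : I) (f : i ⟶ j), IsAffineHom (D.map f)]
    (hoi : ∀ (i j : I) (φ : i ⟶ j), IsOpenImmersion (D.map φ)) (i : I) (s : c.pt) :
    Function.Bijective ((c.π.app i).stalkMap s) := by
  refine ⟨(injective_iff_map_eq_zero ((c.π.app i).stalkMap s).hom).mpr fun b hb => ?_, fun a => ?_⟩
  · obtain ⟨j, φ, hj⟩ := RichLib.LimStalk.exists_trans_eq_zero D c hc s b hb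
    haveI := hoi j i φ
    exact (bijective_trans D c φ s).1 (hj.trans (map_zero _).symm)
  · obtain ⟨j, φ, b, rfl⟩ := RichLib.LimStalk.exists_stalkMap_eq D c hc i s a
    haveI := hoi j i φ
    obtain ⟨b', rfl⟩ := (bijective_trans D c φ s).2 b
    exact ⟨b', (RichLib.LimStalk.stalkMap_trans D c φ s b').symm⟩


/-- Let S = lim S_i be a cofiltered limit of schemes whose transition maps are open immersions, so that
each S_j with j over i is an open subscheme of S_i. Then, for every index i, the projection S ⟶ S_i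
is a topological embedding and every stalk map O_{S_i, π(s)} ⟶ O_{S, s} is an isomorphism; that is,
S is the subspace ⋂_j S_j of S_i with the induced structure sheaf. -/
theorem result {I : Type u} [SmallCategory I] [IsCofiltered I]
    (D : I ⥤ Scheme.{u}) (c : Limits.Cone D) (hc : Limits.IsLimit c)
    [∀ (i j : I) (f : i ⟶ j), IsAffineHom (D.map f)]
    (hoi : ∀ (i j : I) (φ : i ⟶ j), IsOpenImmersion (D.map φ)) (i : I) :
    Topology.IsEmbedding ⇑(c.π.app i) ∧ ∀ s : c.pt, IsIso ((c.π.app i).stalkMap s) := by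
  refine ⟨?_, fun s => (ConcreteCategory.isIso_iff_bijective _).mpr (bijective_stalkMap D c hc hoi i s)⟩
  have hind : Topology.IsInducing ⇑(c.π.app i) := by
    refine ⟨le_antisymm (continuous_iff_le_induced.mp (c.π.app i).continuous) fun U hU => ?_⟩
    refine (@isOpen_iff_forall_mem_open _ (TopologicalSpace.induced _ _) _).mpr fun s hs => ?_
    obtain ⟨j, φ, V, -, hsV, hVU⟩ := RichLib.LimTop.exists_basis_over D c hc i (U := ⟨U, hU⟩) hs
    haveI := hoi j i φ
    refine ⟨(c.π.app i) ⁻¹' ((D.map φ) '' V), ?_,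
      isOpen_induced_iff.mpr ⟨_, (D.map φ).isOpenEmbedding.isOpenMap _ V.2, rfl⟩,
      ⟨c.π.app j s, hsV, RichLib.LimTop.π_map_apply D c φ s⟩⟩
    rintro z ⟨y, hy, hyz⟩
    have : y = c.π.app j z := (D.map φ).isOpenEmbedding.injective
      (hyz.trans (RichLib.LimTop.π_map_apply D c φ z).symm)
    exact hVU (show c.π.app j z ∈ V from this ▸ hy)
  exact hind.isEmbedding

end Groth.Agent.S4785
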