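import Groth.Statements.S4783
import Mathlib
import Groth.Agent.S4782
import Groth.Agent.S4785

set_option autoImplicit false
universe u
open CategoryTheory AlgebraicGeometry
open Lim8

namespace Groth.Agent.S4783

/-- Let S = lim S_i be a cofiltered limit of schemes whose transition maps are open immersions (in
particular affine), and let S_{i₀} be a Noetherian stage. Then S is integral if and only if there is
an index i over i₀ such that S_j is integral for every j over i. -/
theorem result {I : Type u} [SmallCategory I] [IsCofiltered I]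
    (D : I ⥤ Scheme.{u}) (c : Limits.Cone D) (hc : Limits.IsLimit c)
    [∀ (i j : I) (f : i ⟶ j), IsAffineHom (D.map f)] (i₀ : I)
    [IsNoetherian (D.obj i₀)] (hoi : ∀ (i j : I) (φ : i ⟶ j), IsOpenImmersion (D.map φ)) :
    IsIntegral c.pt ↔ ∃ (i : I) (_ : i ⟶ i₀), ∀ (j : I) (_ : j ⟶ i), IsIntegral (D.obj j) := by
  classical
  have hN : ∀ U : (D.obj i₀).affineOpens, (nilradical Γ(D.obj i₀, U)).FG := fun U =>
    haveI : IsNoetherianRing Γ(D.obj i₀, U.1) := IsLocallyNoetherian.component_noetherian U
    IsNoetherian.noetherian _
  have hred := Groth.Agent.S4782.result D c hc i₀ hoi hN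
  rw [isIntegral_iff_irreducibleSpace_and_isReduced, hred]
  haveI : ∀ {a b : I} (f : a ⟶ b), IsOpenImmersion (D.map f) := fun f => hoi _ _ f
  constructor
  · rintro ⟨hirr, i, a, hr⟩
    let η := genericPoint c.pt
    -- the generic points of the stage which are not in the image disappear
    have hfin : {m : D.obj i₀ | ∀ z, z ⤳ m → z = m}.Finite := by
      refine (TopologicalSpace.NoetherianSpace.finite_irreducibleComponents (α := D.obj i₀)).preimage
        (f := fun m => closure ({m} : Set (D.obj i₀))) (fun m _ m' _ e => ?_) |>.subset fun m hm => ?_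
      · exact (inseparable_iff_closure_eq.mpr e).eq
      · refine ⟨isIrreducible_singleton.closure, fun T hT hle => ?_⟩
        obtain ⟨z, hz⟩ := QuasiSober.sober hT.closure isClosed_closure
        have hzm : z ⤳ m := by
          rw [specializes_iff_mem_closure, hz.def]
          exact subset_closure (hle (subset_closure rfl))
        obtain rfl := hm z hzm
        exact subset_closure.trans hz.def.ge
    have hout : ∀ m, (∀ z, z ⤳ m → z = m) → m ≠ c.π.app i₀ η →
        ∃ (j : I) (φ : j ⟶ i₀), m ∉ Set.range (D.map φ) := fun m hm hne => by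
      by_contra hno
      push Not at hno
      have hr : m ∈ Set.range (c.π.app i₀) := by
        rw [RichLib.LimTop.range_π D c hc i₀]
        exact Set.mem_iInter₂.mpr hno
      obtain ⟨s, rfl⟩ := hr
      exact hne (hm _ ((genericPoint_specializes (α := c.pt) s).map (c.π.app i₀).continuous)).symm
    obtain ⟨k, ψ, hψ⟩ : ∃ (k : I) (ψ : k ⟶ i), ∀ m ∈ hfin.toFinset, m ≠ c.π.app i₀ η →
        m ∉ Set.range (D.map (ψ ≫ a)) := by
      have key : ∀ F : Finset (D.obj i₀), (∀ m ∈ F, ∀ z, z ⤳ m → z = m) →
          ∃ (k : I) (ψ : k ⟶ i), ∀ m ∈ F, m ≠ c.π.app i₀ η → m ∉ Set.range (D.map (ψ ≫ a)) := fun F => by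
        induction F using Finset.induction_on with
        | empty => exact fun _ => ⟨i, 𝟙 i, fun m hm => absurd hm (Finset.notMem_empty m)⟩
        | insert m F _ ih =>
          intro hF
          obtain ⟨k, ψ, hk⟩ := ih fun m' hm' => hF m' (Finset.mem_insert_of_mem hm')
          by_cases hm : m = c.π.app i₀ η
          · refine ⟨k, ψ, fun m' hm' hne => ?_⟩
            rcases Finset.mem_insert.mp hm' with rfl | h'
            · exact absurd hm hne
            · exact hk m' h' hne
          · obtain ⟨j, φ, hj⟩ := hout m (hF m (Finset.mem_insert_self m F)) hm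
            obtain ⟨l, p, q, hpq⟩ := IsCofiltered.cospan (ψ ≫ a) φ
            refine ⟨l, p ≫ ψ, fun m' hm' hne hmem => ?_⟩
            obtain ⟨y, rfl⟩ := hmem
            rcases Finset.mem_insert.mp hm' with h' | h'
            · refine hj ⟨D.map q y, ?_⟩
              rw [← h', ← RichLib.LimTop.map_comp_apply, ← hpq, Category.assoc]
            · refine hk _ h' hne ⟨D.map p y, ?_⟩
              rw [← RichLib.LimTop.map_comp_apply, Category.assoc]
      exact key _ fun m hm => hfin.mem_toFinset.mp hm
    refine ⟨k, ψ ≫ a, fun l b => (isIntegral_iff_irreducibleSpace_and_isReduced _).mpr ⟨?_, hr l (b ≫ ψ)⟩⟩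
    rw [irreducibleSpace_def]
    have hcl : closure {c.π.app l η} = (⊤ : Set (D.obj l)) := by
      refine Set.eq_univ_of_forall fun y => ?_
      rw [← specializes_iff_mem_closure]
      -- the generic point of a component through `y`
      obtain ⟨T, hT, hyT⟩ : ∃ T ∈ irreducibleComponents (D.obj l), y ∈ T :=
        ⟨irreducibleComponent y, irreducibleComponent_mem_irreducibleComponents y, mem_irreducibleComponent⟩
      obtain ⟨z, hz⟩ := QuasiSober.sober hT.1 (isClosed_of_mem_irreducibleComponents T hT)
      have hzy : z ⤳ y := by rw [specializes_iff_mem_closure, hz.def]; exact hyT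
      have hzmax : ∀ w, w ⤳ z → w = z := fun w hw => by
        have h1 : T ⊆ closure {w} := by
          rw [← hz.def]
          exact closure_minimal (Set.singleton_subset_iff.mpr hw.mem_closure) isClosed_closure
        exact (hw.antisymm (by
          rw [specializes_iff_mem_closure, hz.def]
          exact hT.2 isIrreducible_singleton.closure h1 (subset_closure rfl))).eq
      -- transport to the base stage
      let χ : l ⟶ i₀ := b ≫ ψ ≫ a
      have hm : ∀ w, w ⤳ D.map χ z → w = D.map χ z := fun w hw => by
        obtain ⟨w', rfl⟩ : w ∈ Set.range (D.map χ) :=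
          hw.mem_open (D.map χ).isOpenEmbedding.isOpen_range ⟨z, rfl⟩
        rw [hzmax w' ((D.map χ).isOpenEmbedding.isInducing.specializes_iff.mp hw)]
      have heq : D.map χ z = c.π.app i₀ η := by
        by_contra hne
        exact hψ _ (hfin.mem_toFinset.mpr hm) hne ⟨D.map b z, (RichLib.LimTop.map_comp_apply D b (ψ ≫ a) z).symm⟩
      have : z = c.π.app l η := (D.map χ).isOpenEmbedding.injective
        (heq.trans (RichLib.LimTop.π_map_apply D c χ η).symm)
      exact this ▸ hzy
    rw [← hcl]
    exact isIrreducible_singleton.closure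
  · rintro ⟨i, a, h⟩
    refine ⟨?_, i, a, fun j φ => ((isIntegral_iff_irreducibleSpace_and_isReduced _).mp (h j φ)).2⟩
    haveI := h i (𝟙 i)
    have hη : genericPoint (D.obj i) ∈ Set.range (c.π.app i) := by
      rw [RichLib.LimTop.range_π D c hc i]
      refine Set.mem_iInter₂.mpr fun j φ => ?_
      haveI := h j φ
      obtain ⟨y⟩ := (inferInstance : Nonempty (D.obj j))
      exact (genericPoint_spec (D.obj i)).mem_open_set_iff (D.map φ).isOpenEmbedding.isOpen_range |>.mpr
        ⟨_, trivial, y, rfl⟩
    obtain ⟨s, hs⟩ := hη
    have hemb := (Groth.Agent.S4785.result D c hc hoi i).1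
    rw [irreducibleSpace_def]
    have hcl : closure {s} = (⊤ : Set c.pt) := Set.eq_univ_of_forall fun t => by
      rw [← specializes_iff_mem_closure, ← hemb.isInducing.specializes_iff, hs]
      exact genericPoint_specializes _
    rw [← hcl]
    exact isIrreducible_singleton.closure

end Groth.Agent.S4783
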