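import Groth.Statements.S4786
import Mathlib
import Groth.Agent.RichLib.LimTop
import Groth.Agent.RichLib.LimStalk
-- import your own Groth.Agent.* helpers here

set_option autoImplicit false
universe u
open CategoryTheory AlgebraicGeometry
open Lim8

namespace Groth.Agent.S4786

/-- Let S = lim S_i be a cofiltered limit of schemes whose transition maps are affine and flat, let
S_{i₁} be a quasi-compact stage, and let Z' and Z'' be pro-constructible subsets of S_{i₁} such that
the closure of Z' is constructible. Then the preimage of Z'' in S is contained in the closure of the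
preimage of Z' in S if and only if there is an index j over i₁ such that the preimage of Z'' in S_j
is contained in the closure of the preimage of Z' in S_j. -/
theorem result {I : Type u} [SmallCategory I] [IsCofiltered I]
    (D : I ⥤ Scheme.{u}) (c : Limits.Cone D) (hc : Limits.IsLimit c)
    [∀ (i j : I) (f : i ⟶ j), IsAffineHom (D.map f)] (i₁ : I) [CompactSpace (D.obj i₁)]
    (hfl : ∀ (i j : I) (φ : i ⟶ j), Flat (D.map φ))
    (Z' Z'' : Set (D.obj i₁)) (hZ' : ProCons.IsProConstructible Z') (hZ'' : ProCons.IsProConstructible Z'')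
    (hcl : Topology.IsConstructible (closure Z')) :
    (⇑(c.π.app i₁) ⁻¹' Z'' : Set c.pt) ⊆ closure (⇑(c.π.app i₁) ⁻¹' Z' : Set c.pt) ↔
      ∃ (j : I) (φ : j ⟶ i₁), ⇑(D.map φ) ⁻¹' Z'' ⊆ closure (⇑(D.map φ) ⁻¹' Z') := by
  have key : ∀ {T : Scheme.{u}} (g : T ⟶ D.obj i₁) [Flat g], closure (⇑g ⁻¹' Z') = ⇑g ⁻¹' closure Z' := by
    intro T g _
    refine (g.continuous.closure_preimage_subset _).antisymm fun x hx => ?_
    obtain ⟨z, hz, hzx⟩ := Groth.Agent.ProConsLib.exists_specializes_of_mem_closure_sch hZ' hx
    obtain ⟨y, hyx, rfl⟩ := Flat.generalizingMap g hzx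
    exact hyx.mem_closed isClosed_closure (subset_closure hz) |> id
  haveI : Flat (c.π.app i₁) := RichLib.LimStalk.flat_π D c hc fun j φ => hfl j i₁ φ
  rw [key (c.π.app i₁)]
  constructor
  · intro H
    obtain ⟨j, φ, h⟩ := RichLib.LimTop.exists_inter_range_subset' D c hc (i := i₁) (E := Z''ᶜ ∪ closure Z')
      (RichLib.LimTop.isIndConstructible_union (Groth.Agent.ProConsLib.isIndConstructible_compl_iff.mpr hZ'')
        (Groth.Agent.ProConsLib.isIndConstructible_of_isLocallyConstructible hcl.isLocallyConstructible))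
      (by
        rintro _ ⟨s, rfl⟩
        by_cases hs : c.π.app i₁ s ∈ Z''
        · exact Or.inr (H hs)
        · exact Or.inl hs)
    refine ⟨j, φ, ?_⟩
    haveI := hfl j i₁ φ
    rw [key (D.map φ)]
    intro y hy
    rcases h ⟨y, rfl⟩ with h' | h'
    · exact absurd hy h'
    · exact h'
  · rintro ⟨j, φ, h⟩ s hs
    haveI := hfl j i₁ φ
    rw [key (D.map φ)] at h
    have := @h (c.π.app j s) (by rw [Set.mem_preimage, RichLib.LimTop.π_map_apply]; exact hs)
    rw [Set.mem_preimage, RichLib.LimTop.π_map_apply] at this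
    exact this

end Groth.Agent.S4786
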