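import Groth.Statements.S4787
import Mathlib
import Groth.Agent.RichLib.LimTop
-- import your own Groth.Agent.* helpers here

set_option autoImplicit false
universe u
open CategoryTheory AlgebraicGeometry
open Lim8

namespace Groth.Agent.S4787

/-- Let S = lim S_i be a cofiltered limit of schemes with affine transition maps, some stage S_{i₀}
being quasi-compact. For every index let E_i be a pro-constructible and F_i an ind-constructible
subset of S_i such that, for every transition map S_i ⟶ S_j, E_i lies in the preimage of E_j and F_i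
contains the preimage of F_j. Put E = ⋂ (preimage of E_i in S) and F = ⋃ (preimage of F_i in S).
Then E ⊆ F if and only if there is an index i over i₀ such that E_j ⊆ F_j for every j over i. -/
theorem result {I : Type u} [SmallCategory I] [IsCofiltered I]
    (D : I ⥤ Scheme.{u}) (c : Limits.Cone D) (hc : Limits.IsLimit c)
    [∀ (i j : I) (f : i ⟶ j), IsAffineHom (D.map f)] (i₀ : I)
    [CompactSpace (D.obj i₀)] (E F : ∀ i : I, Set (D.obj i))
    (hE : ∀ i, ProCons.IsProConstructible (E i)) (hF : ∀ i, ProCons.IsIndConstructible (F i))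
    (hEm : ∀ (i j : I) (φ : i ⟶ j), E i ⊆ ⇑(D.map φ) ⁻¹' E j)
    (hFm : ∀ (i j : I) (φ : i ⟶ j), ⇑(D.map φ) ⁻¹' F j ⊆ F i) :
    (⋂ i, ⇑(c.π.app i) ⁻¹' E i : Set c.pt) ⊆ (⋃ i, ⇑(c.π.app i) ⁻¹' F i : Set c.pt) ↔
      ∃ (i : I) (_ : i ⟶ i₀), ∀ (j : I) (_ : j ⟶ i), E j ⊆ F j := by
  classical
  have hdir : ∀ {i j : I} (φ : i ⟶ j) (s : c.pt),
      (c.π.app i s ∈ E i → c.π.app j s ∈ E j) ∧ (c.π.app j s ∈ F j → c.π.app i s ∈ F i) := by
    intro i j φ s
    refine ⟨fun h => ?_, fun h => hFm i j φ ?_⟩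
    · rw [← RichLib.LimTop.π_map_apply D c φ s]; exact hEm i j φ h
    · rw [Set.mem_preimage, RichLib.LimTop.π_map_apply]; exact h
  constructor
  · intro H
    haveI := RichLib.LimTop.compactSpace_pt D c hc i₀
    let K : I → Set c.pt := fun i => ⇑(c.π.app i) ⁻¹' (E i ∩ (F i)ᶜ)
    have hB : ∀ i, ProCons.IsIndConstructible ((E i ∩ (F i)ᶜ)ᶜ : Set (D.obj i)) := fun i => by
      rw [Set.compl_inter, compl_compl]
      exact RichLib.LimTop.isIndConstructible_union
        (Groth.Agent.ProConsLib.isIndConstructible_compl_iff.mpr (hE i)) (hF i)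
    obtain ⟨J, hJ⟩ := Groth.Agent.ProConsLib.exists_finset_inter_subset (E := (∅ : Set c.pt))
      (Groth.Agent.ProConsLib.isIndConstructible_of_isLocallyConstructible
        (Topology.IsConstructible.empty.isLocallyConstructible)) K
      (fun i => Groth.Agent.ProConsLib.isProConstructible_preimage _
        (Groth.Agent.ProConsLib.isIndConstructible_compl_iff.mp (hB i)))
      (fun s hs => by
        have hF' := H (Set.mem_iInter.mpr fun i => (Set.mem_iInter.mp hs i).1)
        obtain ⟨i, hi⟩ := Set.mem_iUnion.mp hF'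
        exact (Set.mem_iInter.mp hs i).2 hi)
    obtain ⟨k, hk⟩ := IsCofiltered.inf_objs_exists (insert i₀ J)
    let a : k ⟶ i₀ := (hk (Finset.mem_insert_self i₀ J)).some
    haveI : CompactSpace (D.obj k) := QuasiCompact.compactSpace_of_compactSpace (D.map a)
    obtain ⟨j, φ, h⟩ := RichLib.LimTop.exists_inter_range_subset' D c hc (i := k) (hB k) (by
      rintro _ ⟨s, rfl⟩ ⟨h1, h2⟩
      refine hJ (Set.mem_iInter₂.mpr fun i hi => ?_ : s ∈ _)
      obtain ⟨e⟩ := hk (Finset.mem_insert_of_mem hi)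
      exact ⟨(hdir e s).1 h1, fun hx => h2 ((hdir e s).2 hx)⟩)
    refine ⟨j, φ ≫ a, fun l ψ y hy => ?_⟩
    by_contra hyF
    refine h ⟨D.map ψ y, (RichLib.LimTop.map_comp_apply D ψ φ y).symm⟩ ⟨?_, fun hx => ?_⟩
    · exact hEm l k (ψ ≫ φ) hy
    · exact hyF (hFm l k (ψ ≫ φ) hx)
  · rintro ⟨i, a, h⟩ s hs
    exact Set.mem_iUnion.mpr ⟨i, h i (𝟙 i) (Set.mem_iInter.mp hs i)⟩

end Groth.Agent.S4787
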