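import Groth.Statements.S4793
import Groth.Agent.FlatFunLimLib.Main
import Groth.Agent.CohGenLib.Pro
import Groth.Agent.RichLib.LimStalk
-- import your own Groth.Agent.* helpers here

set_option autoImplicit false
set_option backward.isDefEq.respectTransparency false
set_option linter.all false
universe u
open CategoryTheory AlgebraicGeometry
open Lim8

namespace Groth.Agent.S4793

open CategoryTheory CategoryTheory.Limits AlgebraicGeometry TopologicalSpace RichLib.LimBC

/-- Let S = lim S_i be a cofiltered limit of schemes with affine transition maps and S_{i₀} a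
quasi-compact stage; let F₀ be a quasi-coherent O-module and G₀ a quasi-coherent O-module of finite
type on S_{i₀}, and f₀ : F₀ ⟶ G₀ a homomorphism. Then the pullback of f₀ along S ⟶ S_{i₀} is
surjective (an epimorphism of O_S-modules) if and only if, for some index j over i₀, the pullback of
f₀ along S_j ⟶ S_{i₀} is surjective. -/
theorem result {I : Type u} [SmallCategory I] [IsCofiltered I]
    (D : I ⥤ Scheme.{u}) (c : Limits.Cone D) (hc : Limits.IsLimit c)
    [∀ (i j : I) (f : i ⟶ j), IsAffineHom (D.map f)] (i₀ : I) [CompactSpace (D.obj i₀)]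
    {F₀ G₀ : (D.obj i₀).Modules} [Coh.IsQCoh F₀]
    [Coh.IsQCoh G₀] (hG₀ft : CohB1.IsFT G₀) (f₀ : F₀ ⟶ G₀) :
    Epi ((Scheme.Modules.pullback (c.π.app i₀)).map f₀) ↔
      ∃ (j : I) (φ : j ⟶ i₀), Epi ((Scheme.Modules.pullback (D.map φ)).map f₀) := by
  constructor
  · intro h
    obtain ⟨j, hj⟩ := FlatFunLimLib.exists_stage_epi f₀ hG₀ft (ofStage D c hc i₀) h
    exact ⟨j.left, j.hom, hj⟩
  · rintro ⟨j, φ, h⟩
    haveI := h
    haveI := (Scheme.Modules.pullbackPushforwardAdjunction (c.π.app j)).leftAdjoint_preservesColimits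
    exact ((MorphismProperty.epimorphisms _).arrow_mk_iso_iff
      (FlatFunLimLib.compArrowIso f₀ (c.π.app j) (D.map φ) (c.w φ))).1
      (inferInstanceAs (Epi ((Scheme.Modules.pullback (c.π.app j)).map ((Scheme.Modules.pullback (D.map φ)).map f₀))))

end Groth.Agent.S4793
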