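import Groth.Statements.S4794
import Groth.Agent.FlatFunLimLib.Main
import Groth.Agent.CohGenLib.Pro
import Groth.Agent.RichLib.LimStalk
-- import your own Groth.Agent.* helpers here

set_option autoImplicit false
set_option backward.isDefEq.respectTransparency false
set_option linter.all false
universe u
open CategoryTheory AlgebraicGeometry
open Lim8

namespace Groth.Agent.S4794

open CategoryTheory CategoryTheory.Limits AlgebraicGeometry TopologicalSpace RichLib.LimBC

theorem zero_comp_of {W Z Z' : Scheme.{u}} {F G : W.Modules} (v : F ⟶ G) (h : Z ⟶ W) (m : Z' ⟶ Z)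
    {r : Z' ⟶ W} (e : m ≫ h = r) (hz : (Scheme.Modules.pullback h).map v = 0) :
    (Scheme.Modules.pullback r).map v = 0 :=
  (FlatFunLimLib.map_eq_zero_iff v r).mpr fun z => FlatFunLimLib.zeroAt_comp v m h e z
    ((FlatFunLimLib.map_eq_zero_iff v h).mp hz _)

theorem mono_iff {W T : Scheme.{u}} {F G : W.Modules} (h : T ⟶ W) [Flat h] (f : F ⟶ G) :
    Mono ((Scheme.Modules.pullback h).map f) ↔ (Scheme.Modules.pullback h).map (kernel.ι f) = 0 := by
  haveI := (Scheme.Modules.pullbackPushforwardAdjunction h).left_adjoint_additive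
  haveI := CohGenLib.preservesFiniteLimits_pullback_flat h
  constructor
  · intro hm
    rw [← cancel_mono ((Scheme.Modules.pullback h).map f), zero_comp, ← Functor.map_comp, kernel.condition,
      Functor.map_zero]
  · intro hz
    rw [Preadditive.mono_iff_isZero_kernel, ← Iso.isZero_iff (PreservesKernel.iso (Scheme.Modules.pullback h) f)]
    exact IsZero.of_mono_eq_zero ((Scheme.Modules.pullback h).map (kernel.ι f)) hz

/-- Let S = lim S_i be a cofiltered limit of schemes whose transition maps are affine and flat, and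
S_{i₀} a quasi-compact stage; let f₀ : F₀ ⟶ G₀ be a homomorphism of quasi-coherent O-modules on
S_{i₀} whose kernel is an O-module of finite type. Then the pullback of f₀ along S ⟶ S_{i₀} is
injective (a monomorphism of O_S-modules) if and only if, for some index j over i₀, the pullback of
f₀ along S_j ⟶ S_{i₀} is injective. -/
theorem result {I : Type u} [SmallCategory I] [IsCofiltered I]
    (D : I ⥤ Scheme.{u}) (c : Limits.Cone D) (hc : Limits.IsLimit c)
    [∀ (i j : I) (f : i ⟶ j), IsAffineHom (D.map f)] (i₀ : I) [CompactSpace (D.obj i₀)]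
    (hfl : ∀ (i j : I) (φ : i ⟶ j), Flat (D.map φ))
    {F₀ G₀ : (D.obj i₀).Modules} [Coh.IsQCoh F₀]
    [Coh.IsQCoh G₀] (f₀ : F₀ ⟶ G₀)
    (hker : CohB1.IsFT (Limits.kernel f₀)) :
    Mono ((Scheme.Modules.pullback (c.π.app i₀)).map f₀) ↔
      ∃ (j : I) (φ : j ⟶ i₀), Mono ((Scheme.Modules.pullback (D.map φ)).map f₀) := by
  haveI : Coh.IsQCoh (kernel f₀) := QCohLib.isQCoh_kernel f₀
  haveI : Flat (c.π.app i₀) := RichLib.LimStalk.flat_π D c hc fun j φ => hfl _ _ φ
  constructor
  · intro h
    obtain ⟨j, hj⟩ := FlatFunLimLib.exists_stage_zero (kernel.ι f₀) (ofStage D c hc i₀) hker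
      ((mono_iff (c.π.app i₀) f₀).mp h)
    haveI := hfl _ _ j.hom
    exact ⟨j.left, j.hom, (mono_iff (D.map j.hom) f₀).mpr hj⟩
  · rintro ⟨j, φ, h⟩
    haveI := hfl _ _ φ
    exact (mono_iff (c.π.app i₀) f₀).mpr
      (zero_comp_of _ (D.map φ) (c.π.app j) (c.w φ) ((mono_iff (D.map φ) f₀).mp h))

end Groth.Agent.S4794
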