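import Groth.Statements.S4798
import Groth.Agent.CompSetLib.Main
-- import your own Groth.Agent.* helpers here

set_option autoImplicit false
set_option backward.isDefEq.respectTransparency false
set_option linter.all false
universe u
open CategoryTheory AlgebraicGeometry
open Cons9

namespace Groth.Agent.S4798

/-- Let f : X ⟶ S be a morphism of finite presentation and Z a locally constructible subset of X such
that, for every s ∈ S, Z_s = Z ∩ f⁻¹(s) is locally closed in the fibre f⁻¹(s). For s ∈ S let D(s) be
the set of dimensions of the irreducible components of Z_s (fibres as subspaces of X, dimensions as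
topological Krull dimensions). Then every level set {s | D(s) = Φ} of the function D is locally
constructible in S. (The published statement asserts that the function s ↦ D(s) is locally
constructible; this row states that each of its level sets is locally constructible.) -/
theorem result {X S : Scheme.{u}} (f : X ⟶ S)
    [LocallyOfFinitePresentation f] [QuasiCompact f] [QuasiSeparated f]
    (Z : Set X) (hZ : Topology.IsLocallyConstructible Z)
    (hZs : ∀ s : S, IsLocallyClosed (Subtype.val ⁻¹' Z : Set ↥(⇑f ⁻¹' {s})))
    (Φ : Set (WithBot ℕ∞)) :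
    Topology.IsLocallyConstructible {s : S |
      (fun T : Set ↥(Z ∩ ⇑f ⁻¹' {s}) => topologicalKrullDim ↥T) '' irreducibleComponents ↥(Z ∩ ⇑f ⁻¹' {s}) = Φ} := by
  classical
  have hD : ∀ (s : S) d, d ∈ (fun T : Set ↥(Z ∩ ⇑f ⁻¹' {s}) => topologicalKrullDim ↥T) ''
      irreducibleComponents ↥(Z ∩ ⇑f ⁻¹' {s}) ↔ ∃ n : ℕ, d = n ∧ s ∈ f.base '' CompSetLib.compSet f Z n := by
    intro s d
    let h := f.fiberHomeo s
    let e : ↥(Z ∩ ⇑f ⁻¹' {s}) → f.fiber s := fun z => h.symm ⟨z.1, z.2.2⟩
    have he : Topology.IsEmbedding e :=
      h.symm.isEmbedding.comp (Topology.IsEmbedding.inclusion Set.inter_subset_right)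
    have hh : ∀ w, (h w).1 = f.fiberι s w := fun w => rfl
    have hr : Set.range e = (f.fiberι s).base ⁻¹' Z := by
      ext w
      constructor
      · rintro ⟨z, rfl⟩
        show f.fiberι s (e z) ∈ Z
        rw [← hh]
        simp only [e, Homeomorph.apply_symm_apply]
        exact z.2.1
      · intro hw
        exact ⟨⟨(h w).1, (hh w).symm ▸ hw, (h w).2⟩, h.symm_apply_apply w⟩
    refine CompSetLib.componentDims_iff f Z e he hr ?_ d
    rw [hr]
    exact (hZs s).preimage h.continuous
  by_cases hΦ : Φ.Finite
  · exact CompSetLib.isLocallyConstructible_levelSet f _ (CompSetLib.compSet f Z)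
      (CompSetLib.isLocallyConstructible_compSet f hZ) (CompSetLib.compSet_le_fibreDimAt f Z) hD Φ hΦ
  · have h0 : {s : S | (fun T : Set ↥(Z ∩ ⇑f ⁻¹' {s}) => topologicalKrullDim ↥T) ''
        irreducibleComponents ↥(Z ∩ ⇑f ⁻¹' {s}) = Φ} = ∅ := by
      refine Set.eq_empty_iff_forall_notMem.2 fun s hs => hΦ ?_
      rw [← hs]
      haveI := UOpenLib.lft_fiberToSpec f s
      haveI : IsLocallyNoetherian (f.fiber s) :=
        LocallyOfFiniteType.isLocallyNoetherian (f.fiberToSpecResidueField s)
      haveI : AlgebraicGeometry.IsNoetherian (f.fiber s) := {}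
      haveI : TopologicalSpace.NoetherianSpace ↥(⇑f ⁻¹' {s}) :=
        (f.fiberHomeo s).symm.isInducing.noetherianSpace
      haveI : TopologicalSpace.NoetherianSpace ↥(Z ∩ ⇑f ⁻¹' {s}) :=
        (Topology.IsEmbedding.inclusion (Set.inter_subset_right : Z ∩ ⇑f ⁻¹' {s} ⊆ _)).isInducing.noetherianSpace
      exact TopologicalSpace.NoetherianSpace.finite_irreducibleComponents.image _
    rw [h0]
    exact Topology.IsLocallyConstructible.empty

end Groth.Agent.S4798
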