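import Groth.Statements.S4800
import Groth.Agent.RichLib.LimitDescent
import Groth.Agent.FFDescLib.Closure
-- import your own Groth.Agent.* helpers here

set_option autoImplicit false
set_option backward.isDefEq.respectTransparency false
set_option linter.all false
universe u
open CategoryTheory AlgebraicGeometry
open Lim8

namespace Groth.Agent.S4800

open CategoryTheory CategoryTheory.Limits AlgebraicGeometry TopologicalSpace Topology RichLib.LimBC

theorem isCompact_of_isConstructible {X : Type u} [TopologicalSpace X] [CompactSpace X] {s : Set X}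
    (hs : IsConstructible s) : IsCompact s := by
  induction s, hs using BooleanSubalgebra.closure_sdiff_sup_induction with
  | isSublattice =>
    exact ⟨fun s hs t ht ↦ ⟨hs.1.union ht.1, hs.2.union ht.2⟩,
      fun s hs t ht ↦ ⟨hs.1.inter ht.1, hs.2.inter_isOpen ht.2 ht.1⟩⟩
  | bot_mem => exact ⟨isOpen_empty, .empty⟩
  | top_mem => exact ⟨isOpen_univ, .univ⟩
  | sdiff U hU V hV => exact hU.2.isCompact.diff hV.1
  | sup s hs t ht hs' ht' => exact hs'.union ht'

/-- Along a flat map the closure of the image of a quasi-compact morphism commutes with base change. -/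
theorem closure_range_snd {X G G' : Scheme.{u}} (f : X ⟶ G) [QuasiCompact f] (g : G' ⟶ G) [Flat g]
    {P : Scheme.{u}} {p : P ⟶ X} {q : P ⟶ G'} (sq : IsPullback p q f g) :
    closure (Set.range q) = g ⁻¹' closure (Set.range f) := by
  have hr : Set.range q = g ⁻¹' Set.range f := by
    ext y
    constructor
    · rintro ⟨z, rfl⟩
      exact ⟨p z, by rw [← Scheme.Hom.comp_apply, sq.w, Scheme.Hom.comp_apply]⟩
    · rintro ⟨x, hx⟩
      obtain ⟨z, -, hz⟩ := Scheme.exists_preimage_of_isPullback sq x y hx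
      exact ⟨z, hz⟩
  refine subset_antisymm ?_ fun y hy => ?_
  · exact closure_minimal (by rw [hr]; exact Set.preimage_mono subset_closure) (isClosed_closure.preimage g.continuous)
  · obtain ⟨x, hx⟩ := FFDescLib.exists_specializes_of_mem_closure_range f hy
    obtain ⟨z, hz, hzx⟩ := Flat.generalizingMap g hx
    exact hz.mem_closed isClosed_closure (subset_closure (hr ▸ ⟨x, hzx.symm⟩))

/-- Let S = lim S_i be a cofiltered limit of schemes whose transition maps are affine and flat, and
S_{i₀} a quasi-compact stage; let X₀ ⟶ S_{i₀} be quasi-compact, Y₀ ⟶ S_{i₀} quasi-compact and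
quasi-separated, and f₀ : X₀ ⟶ Y₀ a morphism over S_{i₀} such that the closure of its image f₀(X₀)
is a constructible subset of Y₀. Let f : X ⟶ Y be the base change of f₀ along S ⟶ S_{i₀} (base
changes are expressed by pullback squares). Then f is dominant if and only if, for some index j over
i₀ and the base change f_j : X_j ⟶ Y_j of f₀ along S_j ⟶ S_{i₀}, f_j is dominant. (The published
statement asks instead that the image f₀(X₀) itself be constructible, which is not enough: let R be
the ring of locally constant functions from the Cantor set to a field, take for stages the spectra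
of the rings of locally constant functions on the clopen neighbourhoods of a point p, so that the
limit is the spectrum of the residue field at p, and take Y₀ = Spec R[t]/(m_p t) and X₀ its basic
open subset where t is invertible; the image of X₀ is constructible, the limit morphism is the
inclusion of the punctured affine line into the affine line, which is dominant, and no stage
morphism is dominant. The published proof applies the criterion for a preimage to lie in the closure
of the preimage of a pro-constructible subset along a flat limit, whose hypothesis is that the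
closure of that subset is constructible; the image f₀(X₀) is pro-constructible because f₀ is
quasi-compact, so constructibility of its closure is the hypothesis taken here.) -/
theorem result {I : Type u} [SmallCategory I] [IsCofiltered I]
    (D : I ⥤ Scheme.{u}) (c : Limits.Cone D) (hc : Limits.IsLimit c)
    [∀ (i j : I) (f : i ⟶ j), IsAffineHom (D.map f)] (i₀ : I) [CompactSpace (D.obj i₀)]
    (hfl : ∀ (i j : I) (φ : i ⟶ j), Flat (D.map φ))
    {X₀ Y₀ : Scheme.{u}} (f₀ : X₀ ⟶ Y₀) (g₀ : Y₀ ⟶ D.obj i₀)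
    [QuasiCompact (f₀ ≫ g₀)] [QuasiCompact g₀] [QuasiSeparated g₀]
    (hcl : Topology.IsConstructible (closure (Set.range ⇑f₀)))
    {X Y : Scheme.{u}} (f : X ⟶ Y) (g : Y ⟶ c.pt) (qY : Y ⟶ Y₀) (qX : X ⟶ X₀)
    (hY : IsPullback qY g g₀ (c.π.app i₀)) (hX : IsPullback qX f f₀ qY) :
    IsDominant f ↔ ∃ (j : I) (φ : j ⟶ i₀) (Xj Yj : Scheme.{u}) (fj : Xj ⟶ Yj) (gj : Yj ⟶ D.obj j)
      (pY : Yj ⟶ Y₀) (pX : Xj ⟶ X₀), IsPullback pY gj g₀ (D.map φ) ∧ IsPullback pX fj f₀ pY ∧
      IsDominant fj := by
  haveI : QuasiCompact f₀ := QuasiCompact.of_comp f₀ g₀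
  haveI : CompactSpace Y₀ := QuasiCompact.compactSpace_of_compactSpace g₀
  let A := ofStage D c hc i₀
  let B := pb A g₀
  haveI : ∀ {i j : Over i₀} (a : i ⟶ j), IsAffineHom (B.D.map a) := fun a => B.affine_map a
  have hflt : ∀ φ : Over i₀, Flat (B.t φ) := fun φ =>
    MorphismProperty.pullback_fst (P := @Flat) g₀ (A.t φ) (hfl _ _ φ.hom)
  have hflm : ∀ {φ ψ : Over i₀} (a : φ ⟶ ψ), Flat (B.D.map a) := fun a =>
    MorphismProperty.of_isPullback (P := @Flat) (isPullback_map A g₀ a).flip (hfl _ _ a.left)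
  have hto : AtLim B f₀ @IsDominant → ∃ φ, At B f₀ @IsDominant φ := by
    intro hd
    let U : Y₀.Opens := ⟨(closure (Set.range f₀))ᶜ, isClosed_closure.isOpen_compl⟩
    have hU : IsCompact (U : Set Y₀) := isCompact_of_isConstructible hcl.compl
    obtain ⟨φ₀⟩ := IsCofiltered.nonempty (C := Over i₀)
    haveI := B.affine φ₀
    obtain ⟨φ, a, ha⟩ := exists_map_preimage_le_map_preimage B.D B.c B.hc (U := B.t φ₀ ⁻¹ᵁ U) (V := ⊥)
      ((B.t φ₀).isCompact_preimage hU) (by
        intro z hz
        exfalso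
        have hz' : (B.c.π.app φ₀ ≫ B.t φ₀) z ∈ U := hz
        rw [B.hs φ₀] at hz'
        have hd' : DenseRange (pullback.snd f₀ B.s) := (isDominant_iff _).mp hd
        have hsub : closure (Set.range (pullback.snd f₀ B.s)) ⊆ B.s ⁻¹' closure (Set.range f₀) :=
          closure_minimal (by
            rintro _ ⟨x, rfl⟩
            refine subset_closure ⟨pullback.fst f₀ B.s x, ?_⟩
            rw [← Scheme.Hom.comp_apply, pullback.condition, Scheme.Hom.comp_apply])
            (isClosed_closure.preimage B.s.continuous)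
        exact hz' (hsub (hd' z)))
    refine ⟨φ, (isDominant_iff _).mpr fun y => ?_⟩
    haveI := hflt φ
    rw [closure_range_snd f₀ (B.t φ) (IsPullback.of_hasPullback f₀ (B.t φ))]
    by_contra hy
    have hy' : (B.D.map a ≫ B.t φ₀) y ∈ U := by rw [B.w a]; exact hy
    exact ha (x := y) hy'
  have hfrom : ∀ φ₀, At B f₀ @IsDominant φ₀ → AtLim B f₀ @IsDominant := by
    intro φ₀ hd
    let C := pb B f₀
    haveI : ∀ {i j : Over i₀} (a : i ⟶ j), IsAffineHom (C.D.map a) := fun a => C.affine_map a
    refine (isDominant_iff _).mpr fun y => mem_closure_iff.mpr fun O hO hyO => ?_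
    by_contra hne
    obtain ⟨_, ⟨⟨i, V, hV, rfl⟩, hyV, hVO⟩⟩ := Opens.isBasis_iff_nbhd.mp
      (isBasis_preimage_isAffineOpen B.D B.c B.hc) (show y ∈ (⟨O, hO⟩ : B.c.pt.Opens) from hyO)
    obtain ⟨k, ai, a0, -⟩ := IsCofilteredOrEmpty.cone_objs i φ₀
    have hVk : IsCompact ((B.D.map ai ⁻¹ᵁ V : (B.D.obj k).Opens) : Set (B.D.obj k)) :=
      (B.D.map ai).isCompact_preimage hV.isCompact
    haveI : QuasiCompact (pullback.snd f₀ (B.t k)) := MorphismProperty.pullback_snd _ _ inferInstance
    obtain ⟨m, b, hb⟩ := exists_map_preimage_le_map_preimage C.D C.c C.hc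
      (U := pullback.snd f₀ (B.t k) ⁻¹ᵁ (B.D.map ai ⁻¹ᵁ V)) (V := ⊥)
      ((pullback.snd f₀ (B.t k)).isCompact_preimage hVk) (by
        intro z hz
        exfalso
        have hz' : (pbπ B f₀ k ≫ pullback.snd f₀ (B.t k) ≫ B.D.map ai) z ∈ V := hz
        rw [pbπ_snd_assoc, B.c.w ai] at hz'
        exact hne ⟨pullback.snd f₀ B.s z, hVO hz', ⟨z, rfl⟩⟩)
    haveI := hflm (b ≫ a0)
    haveI : QuasiCompact (pullback.snd f₀ (B.t φ₀)) := MorphismProperty.pullback_snd _ _ inferInstance
    have hd0 : DenseRange (pullback.snd f₀ (B.t φ₀)) := (isDominant_iff _).mp hd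
    have hdm : DenseRange (pullback.snd f₀ (B.t m)) := fun p => by
      rw [closure_range_snd (pullback.snd f₀ (B.t φ₀)) (B.D.map (b ≫ a0)) (isPullback_map B f₀ (b ≫ a0))]
      exact hd0 _
    let W : (B.D.obj m).Opens := B.D.map b ⁻¹ᵁ (B.D.map ai ⁻¹ᵁ V)
    have hyW : B.c.π.app m y ∈ W := by
      show (B.c.π.app m ≫ B.D.map b ≫ B.D.map ai) y ∈ V
      rw [B.c.w_assoc b, B.c.w ai]
      exact hyV
    obtain ⟨p, hp, q, rfl⟩ := mem_closure_iff.mp (hdm (B.c.π.app m y)) W W.2 hyW
    refine hb (x := q) ?_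
    show (pbMap B f₀ b ≫ pullback.snd f₀ (B.t k)) q ∈ B.D.map ai ⁻¹ᵁ V
    rw [pbMap_snd]
    exact hp
  have conj : ∀ {T : Scheme.{u}} (s : T ⟶ D.obj i₀) {X' Y' : Scheme.{u}} {f' : X' ⟶ Y'} {g' : Y' ⟶ T}
      {pY : Y' ⟶ Y₀} {pX : X' ⟶ X₀}, IsPullback pY g' g₀ s → IsPullback pX f' f₀ pY →
      (IsDominant f' ↔ IsDominant (pullback.snd f₀ (pullback.fst g₀ s))) := by
    intro T s X' Y' f' g' pY pX h1 h2
    have h3 : IsPullback pX (f' ≫ h1.isoPullback.hom) f₀ (pullback.fst g₀ s) :=
      h2.of_iso (Iso.refl _) (Iso.refl _) h1.isoPullback (Iso.refl _) (by simp) (by simp) (by simp) (by simp)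
    show (@IsDominant : MorphismProperty Scheme.{u}) f' ↔ (@IsDominant : MorphismProperty Scheme.{u}) _
    rw [← h3.isoPullback_inv_snd, MorphismProperty.cancel_left_of_respectsIso @IsDominant,
      MorphismProperty.cancel_right_of_respectsIso @IsDominant]
  constructor
  · intro h
    obtain ⟨φ, hφ⟩ := hto ((conj (c.π.app i₀) hY hX).mp h)
    exact ⟨φ.left, φ.hom, _, _, pullback.snd f₀ (pullback.fst g₀ (D.map φ.hom)),
      pullback.snd g₀ (D.map φ.hom), pullback.fst g₀ (D.map φ.hom), pullback.fst _ _,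
      IsPullback.of_hasPullback _ _, IsPullback.of_hasPullback _ _, hφ⟩
  · rintro ⟨j, φ, Xj, Yj, fj, gj, pY, pX, sY, sX, hd⟩
    exact (conj (c.π.app i₀) hY hX).mpr (hfrom (Over.mk φ) ((conj (D.map φ) sY sX).mp hd))

end Groth.Agent.S4800
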