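import Groth.Statements.S4806
import Mathlib
import Groth.Agent.S10861
-- import your own Groth.Agent.* helpers here

set_option autoImplicit false
universe u
open CategoryTheory AlgebraicGeometry
open Lim8

namespace Groth.Agent.S4806

/-- Let f : X ⟶ Y be a proper morphism of finite presentation. Then f is a closed immersion if and only
if, for every point y of Y, the scheme-theoretic fibre of f at y is empty or its structure morphism
to Spec κ(y) is an isomorphism. -/
theorem result {X Y : Scheme.{u}} (f : X ⟶ Y) [IsProper f]
    [LocallyOfFinitePresentation f] :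
    IsClosedImmersion f ↔ ∀ y : Y, IsEmpty (f.fiber y) ∨ IsIso (f.fiberToSpecResidueField y) := by
  refine ⟨fun hf y => ?_, fun hy => ?_⟩
  · rcases isEmpty_or_nonempty ↥(f.fiber y) with he | ⟨⟨x⟩⟩
    · exact Or.inl he
    haveI : IsClosedImmersion (f.fiberToSpecResidueField y) :=
      MorphismProperty.pullback_snd (P := @IsClosedImmersion) _ _ hf
    haveI : Surjective (f.fiberToSpecResidueField y) := ⟨fun z => ⟨x, Subsingleton.elim _ z⟩⟩
    exact Or.inr (isIso_of_isClosedImmersion_of_surjective _)
  · have hfib : ∀ y, IsClosedImmersion (CohIII.fiberMapOver f f (𝟙 Y) (Category.comp_id f) y) := fun y => by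
      rcases hy y with he | hiso
      · haveI := he
        exact inferInstance
      · let k := CohIII.fiberMapOver f f (𝟙 Y) (Category.comp_id f) y
        haveI : IsIso ((𝟙 Y : Y ⟶ Y).fiberToSpecResidueField y) :=
          MorphismProperty.pullback_snd (P := MorphismProperty.isomorphisms Scheme.{u}) _ _
            (show IsIso (𝟙 Y) from inferInstance)
        have hk : k ≫ (𝟙 Y : Y ⟶ Y).fiberToSpecResidueField y = f.fiberToSpecResidueField y :=
          (Limits.pullback.lift_snd _ _ _).trans (Category.comp_id _)
        haveI : IsIso (k ≫ (𝟙 Y : Y ⟶ Y).fiberToSpecResidueField y) := hk ▸ hiso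
        haveI : IsIso k := IsIso.of_isIso_comp_right k ((𝟙 Y : Y ⟶ Y).fiberToSpecResidueField y)
        exact inferInstance
    choose U hU hfU using fun y => (Groth.Agent.S10861.result f f (𝟙 Y) (Category.comp_id f) y).2 (hfib y)
    refine IsZariskiLocalAtTarget.of_iSup_eq_top (P := @IsClosedImmersion) (fun y => (𝟙 Y : Y ⟶ Y) ⁻¹ᵁ U y) ?_ hfU
    exact TopologicalSpace.Opens.ext (Set.eq_univ_of_forall fun y => TopologicalSpace.Opens.mem_iSup.mpr ⟨y, hU y⟩)

end Groth.Agent.S4806
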