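import Groth.Statements.S4809
import Mathlib

-- import your own Groth.Agent.* helpers here

set_option autoImplicit false
universe u
open CategoryTheory AlgebraicGeometry
open Lim8

namespace Groth.Agent.S4809

open CategoryTheory AlgebraicGeometry TopologicalSpace

set_option maxHeartbeats 1600000 in
theorem isLocalIso_at {X Y : Scheme.{u}} [IsIntegral X] [IsIntegral Y]
    (hN : ∀ y : Y, IsIntegrallyClosed (Y.presheaf.stalk y)) (f : X ⟶ Y) [LocallyQuasiFinite f]
    [LocallyOfFiniteType f] (hgen : f (genericPoint X) = genericPoint Y)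
    (hbir : IsIso (f.stalkMap (genericPoint X))) (x : X) :
    ∃ V : X.Opens, x ∈ V ∧ IsOpenImmersion (V.ι ≫ f) := by
  obtain ⟨U, hU, hyU, -⟩ := exists_isAffineOpen_mem_and_subset (X := Y) (x := f x) (U := ⊤) trivial
  obtain ⟨V, hV, hxV, hVU⟩ := exists_isAffineOpen_mem_and_subset (X := X) (x := x) (U := f ⁻¹ᵁ U) hyU
  haveI : Nonempty U := ⟨⟨f x, hyU⟩⟩
  haveI : Nonempty V := ⟨⟨x, hxV⟩⟩
  let φ := (f.appLE U V hVU).hom
  have hq : φ.QuasiFinite := HasRingHomProperty.appLE (P := @LocallyQuasiFinite) f inferInstance ⟨U, hU⟩ ⟨V, hV⟩ hVU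
  have hft : φ.FiniteType := HasRingHomProperty.appLE (P := @LocallyOfFiniteType) f inferInstance ⟨U, hU⟩ ⟨V, hV⟩ hVU
  haveI hnorm : IsIntegrallyClosed Γ(Y, U) := by
    apply IsIntegrallyClosed.of_localization_maximal
    intro m _ hm
    let y : U := ⟨hU.fromSpec ⟨m, hm.isPrime⟩, (Set.ext_iff.1 hU.range_fromSpec _).1 ⟨_, rfl⟩⟩
    have hp : (hU.primeIdealOf y).asIdeal = m := congrArg PrimeSpectrum.asIdeal
      (hU.fromSpec.isOpenEmbedding.injective (hU.fromSpec_primeIdealOf y) :)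
    letI := TopCat.Presheaf.algebra_section_stalk Y.presheaf y
    haveI : IsLocalization.AtPrime (Y.presheaf.stalk y.1) (hU.primeIdealOf y).asIdeal := hU.isLocalization_stalk y
    haveI : IsLocalization.AtPrime (Y.presheaf.stalk y.1) m := by simpa [hp] using ‹IsLocalization.AtPrime (Y.presheaf.stalk y.1) (hU.primeIdealOf y).asIdeal›
    haveI := hN y.1
    exact IsIntegrallyClosed.of_equiv (IsLocalization.algEquiv m.primeCompl (Y.presheaf.stalk y.1) (Localization.AtPrime m)).toRingEquiv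
  have hηV : genericPoint X ∈ V := ((genericPoint_spec X).mem_open_set_iff V.2).2 ⟨x, trivial, hxV⟩
  have hηU : genericPoint Y ∈ U := ((genericPoint_spec Y).mem_open_set_iff U.2).2 ⟨f x, trivial, hyU⟩
  let gX : Γ(X, V) →+* X.presheaf.stalk (genericPoint X) := (X.presheaf.germ V _ hηV).hom
  let gY : Γ(Y, U) →+* Y.presheaf.stalk (f (genericPoint X)) := (Y.presheaf.germ U _ (hgen.symm ▸ hηU)).hom
  have hgX : Function.Injective gX := germ_injective_of_isIntegral X _ hηV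
  have hgY : Function.Injective gY := germ_injective_of_isIntegral Y _ _
  let σ := (f.stalkMap (genericPoint X)).hom
  have hσ : Function.Bijective σ := ConcreteCategory.bijective_of_isIso (f.stalkMap (genericPoint X))
  have hcomm : ∀ a, σ (gY a) = gX (φ a) := fun a => by
    simp only [σ, gY, gX, φ, Scheme.Hom.germ_stalkMap_apply, Scheme.Hom.appLE, CommRingCat.comp_apply,
      X.presheaf.germ_res_apply]
  have hφinj : Function.Injective φ := fun a b h => hgY (hσ.1 (by rw [hcomm, hcomm, h]))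
  have hfrac : ∀ b, ∃ a c : Γ(Y, U), c ≠ 0 ∧ φ c * b = φ a := by
    intro b
    obtain ⟨z, hz⟩ := hσ.2 (gX b)
    have key : ∀ (η : Y) (_ : η = genericPoint Y) (hη : η ∈ U) (z : Y.presheaf.stalk η),
        ∃ a c : Γ(Y, U), c ≠ 0 ∧ z * Y.presheaf.germ U η hη c = Y.presheaf.germ U η hη a := by
      intro η hη hη' z
      subst hη
      haveI := functionField_isFractionRing_of_isAffineOpen Y U hU
      obtain ⟨a, ⟨c, hc⟩, h⟩ := IsLocalization.exists_mk'_eq (nonZeroDivisors Γ(Y, U)) (S := Y.functionField) z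
      exact ⟨a, c, nonZeroDivisors.ne_zero hc, IsLocalization.mk'_eq_iff_eq_mul.1 h |>.symm⟩
    obtain ⟨a, c, hc, h⟩ := key _ hgen (hgen.symm ▸ hηU) z
    refine ⟨a, c, hc, hgX ?_⟩
    rw [map_mul, ← hcomm, ← hcomm, ← hz, ← map_mul]
    congr 1
    rw [mul_comm]; exact h
  algebraize [(f.appLE U V hVU).hom]
  let q : Ideal Γ(X, V) := (hV.primeIdealOf ⟨x, hxV⟩).asIdeal
  have hzmt : Algebra.ZariskisMainProperty Γ(Y, U) q := Algebra.ZariskisMainProperty.of_finiteType q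
  rw [Algebra.zariskisMainProperty_iff] at hzmt
  obtain ⟨r, hrq, hr, hsat⟩ := hzmt
  have hint : ∀ b : Γ(X, V), IsIntegral Γ(Y, U) b → ∃ a, φ a = b := by
    intro b hb
    obtain ⟨a, c, hc, h⟩ := hfrac b
    obtain ⟨p, hp, hpb⟩ := hb
    let ψ : Γ(X, V) →+* X.presheaf.stalk (genericPoint X) := gX
    let L := FractionRing Γ(Y, U)
    let ι : L →+* X.presheaf.stalk (genericPoint X) :=
      IsLocalization.lift (M := nonZeroDivisors Γ(Y, U)) (g := gX.comp φ) (fun d => by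
        have : gX (φ d) ≠ 0 := fun h0 => nonZeroDivisors.ne_zero d.2 (hφinj (hgX (h0.trans (by simp))))
        exact (isUnit_iff_ne_zero (G₀ := X.functionField)).2 this)
    let q' : L := IsLocalization.mk' L a ⟨c, mem_nonZeroDivisors_of_ne_zero hc⟩
    have hq' : ι q' = gX b := by
      rw [IsLocalization.lift_mk'_spec]
      show gX (φ a) = gX (φ c) * gX b
      rw [← map_mul, h]
    have hqint : IsIntegral Γ(Y, U) q' := by
      refine ⟨p, hp, ?_⟩
      have hιinj : Function.Injective ι := RingHom.injective ι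
      apply hιinj
      rw [map_zero, Polynomial.hom_eval₂, hq', IsLocalization.lift_comp, ← Polynomial.hom_eval₂]
      rw [show Polynomial.eval₂ φ b p = 0 from hpb, map_zero]
    obtain ⟨a', ha'⟩ := IsIntegrallyClosed.isIntegral_iff.1 hqint
    refine ⟨a', hgX ?_⟩
    rw [← hq', ← ha', IsLocalization.lift_eq]; rfl
  obtain ⟨g, rfl⟩ := hint r hr
  have hWV : X.basicOpen (φ g) ≤ f ⁻¹ᵁ Y.basicOpen g := by
    show X.basicOpen (f.appLE U V hVU g) ≤ _
    rw [Scheme.Hom.appLE, CommRingCat.comp_apply, Scheme.basicOpen_res, ← Scheme.preimage_basicOpen]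
    exact inf_le_right
  have hxW : x ∈ X.basicOpen (φ g) := by
    have h9 : hV.fromSpec (hV.primeIdealOf ⟨x, hxV⟩) ∈ X.basicOpen (φ g) := by
      show hV.primeIdealOf ⟨x, hxV⟩ ∈ hV.fromSpec ⁻¹ᵁ X.basicOpen (φ g)
      rw [hV.fromSpec_preimage_basicOpen]
      exact hrq
    rwa [hV.fromSpec_primeIdealOf] at h9
  refine ⟨X.basicOpen (φ g), hxW, ?_⟩
  haveI := hV.isLocalization_basicOpen (φ g)
  haveI := hU.isLocalization_basicOpen g
  have hW' : IsAffineOpen (X.basicOpen (φ g)) := hV.basicOpen _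
  haveI : Nonempty (X.basicOpen (φ g)) := ⟨⟨x, hxW⟩⟩
  let χ := (f.appLE (Y.basicOpen g) (X.basicOpen (φ g)) hWV).hom
  have hχ : ∀ a : Γ(Y, U), χ (algebraMap _ _ a) = algebraMap Γ(X, V) _ (φ a) := fun a => by
    show (Y.presheaf.map _ ≫ f.appLE (Y.basicOpen g) (X.basicOpen (φ g)) hWV) a = (f.appLE U V hVU ≫ X.presheaf.map _) a
    rw [Scheme.Hom.map_appLE, Scheme.Hom.appLE_map]
  haveI : IsIso (f.appLE (Y.basicOpen g) (X.basicOpen (φ g)) hWV) := by
    rw [ConcreteCategory.isIso_iff_bijective]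
    constructor
    · have hc2 : ∀ a, σ ((Y.presheaf.germ (Y.basicOpen g) _ (hWV (((genericPoint_spec X).mem_open_set_iff (X.basicOpen (φ g)).2).2 ⟨x, trivial, hxW⟩))) a) =
          X.presheaf.germ (X.basicOpen (φ g)) (genericPoint X) (((genericPoint_spec X).mem_open_set_iff (X.basicOpen (φ g)).2).2 ⟨x, trivial, hxW⟩) (χ a) := fun a => by
        simp only [σ, χ, Scheme.Hom.germ_stalkMap_apply, Scheme.Hom.appLE, CommRingCat.comp_apply,
          X.presheaf.germ_res_apply]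
      haveI : Nonempty (Y.basicOpen g) := ⟨⟨f x, hWV hxW⟩⟩
      intro a b h
      apply germ_injective_of_isIntegral Y (f (genericPoint X))
      apply hσ.1
      rw [hc2, hc2]
      exact congrArg _ h
    · intro z
      obtain ⟨b, ⟨_, n, rfl⟩, rfl⟩ := IsLocalization.exists_mk'_eq (Submonoid.powers (φ g)) z
      obtain ⟨m, hm⟩ := hsat b
      obtain ⟨a, ha⟩ := hint _ hm
      refine ⟨IsLocalization.mk' _ a (⟨g ^ (m + n), m + n, rfl⟩ : Submonoid.powers g), ?_⟩
      rw [IsLocalization.eq_mk'_iff_mul_eq]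
      have h1 := congrArg χ (IsLocalization.mk'_spec Γ(Y, Y.basicOpen g) a (⟨g ^ (m + n), m + n, rfl⟩ : Submonoid.powers g))
      rw [map_mul, hχ, hχ, ha] at h1
      simp only [map_mul, map_pow] at h1
      apply ((IsLocalization.map_units _ (⟨φ g, 1, pow_one _⟩ : Submonoid.powers (φ g))).pow m).mul_left_cancel
      simp only [map_pow]
      linear_combination h1
  haveI : IsIso (Spec.map (f.appLE (Y.basicOpen g) (X.basicOpen (φ g)) hWV)) := inferInstance
  have h2 : IsOpenImmersion (hW'.fromSpec ≫ f) := by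
    rw [← (hU.basicOpen g).SpecMap_appLE_fromSpec f hW' hWV]
    infer_instance
  have e : (X.basicOpen (φ g)).ι ≫ f = hW'.isoSpec.hom ≫ hW'.fromSpec ≫ f := by
    rw [← Category.assoc, hW'.isoSpec_hom_fromSpec]
  rw [e]
  exact inferInstance



/-- Let Y be an integral normal scheme (every local ring integrally closed), X an integral scheme, and f
: X ⟶ Y a locally quasi-finite morphism (locally of finite type with discrete fibres) which is
birational: f maps the generic point of X to that of Y and its stalk map at the generic point of X,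
the induced homomorphism of function fields, is an isomorphism. Then f is a local isomorphism, and f
is an open immersion as soon as it is separated. -/
theorem result {X Y : Scheme.{u}} [IsIntegral X] [IsIntegral Y]
    (hN : ∀ y : Y, IsIntegrallyClosed (Y.presheaf.stalk y)) (f : X ⟶ Y) [LocallyQuasiFinite f]
    [LocallyOfFiniteType f] (hgen : f (genericPoint X) = genericPoint Y)
    (hbir : IsIso (f.stalkMap (genericPoint X))) :
    IsLocalIso f ∧ (IsSeparated f → IsOpenImmersion f) := by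
  have key := isLocalIso_at hN f hgen hbir
  haveI hl : IsLocalIso f := ⟨key⟩
  refine ⟨hl, fun _ => ?_⟩
  have hopen : IsOpenMap f := fun O hO => isOpen_iff_forall_mem_open.2 fun y ⟨x, hx, hxy⟩ => by
    obtain ⟨V, hxV, hV⟩ := key x
    refine ⟨(V.ι ≫ f) '' (V.ι ⁻¹' O), ?_, (V.ι ≫ f).isOpenEmbedding.isOpenMap _ (hO.preimage V.ι.continuous), ⟨⟨x, hxV⟩, hx, hxy⟩⟩
    rintro _ ⟨w, hw, rfl⟩; exact ⟨V.ι w, hw, rfl⟩
  have hinj : Function.Injective f := by
    intro x₁ x₂ h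
    obtain ⟨V₁, h₁, hV₁⟩ := key x₁
    obtain ⟨V₂, h₂, hV₂⟩ := key x₂
    let W : Y.Opens := (V₁.ι ≫ f).opensRange ⊓ (V₂.ι ≫ f).opensRange
    have hW₁ : Set.range W.ι ⊆ Set.range (V₁.ι ≫ f) := by rw [Scheme.Opens.range_ι]; exact fun _ h => h.1
    have hW₂ : Set.range W.ι ⊆ Set.range (V₂.ι ≫ f) := by rw [Scheme.Opens.range_ι]; exact fun _ h => h.2
    let s₁ := IsOpenImmersion.lift (V₁.ι ≫ f) W.ι hW₁
    let s₂ := IsOpenImmersion.lift (V₂.ι ≫ f) W.ι hW₂
    have e₁ : s₁ ≫ V₁.ι ≫ f = W.ι := IsOpenImmersion.lift_fac _ _ _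
    have e₂ : s₂ ≫ V₂.ι ≫ f = W.ι := IsOpenImmersion.lift_fac _ _ _
    let W' : Y.Opens := (V₁ ⊓ V₂ |> fun O => ⟨f '' (O : Set X), hopen _ O.2⟩)
    have hW'W : W' ≤ W := by
      rintro _ ⟨z, ⟨hz₁, hz₂⟩, rfl⟩
      exact ⟨⟨⟨z, hz₁⟩, rfl⟩, ⟨⟨z, hz₂⟩, rfl⟩⟩
    have hne : (W' : Set Y).Nonempty :=
      ⟨_, genericPoint X, ⟨((genericPoint_spec X).mem_open_set_iff V₁.2).2 ⟨x₁, trivial, h₁⟩, ((genericPoint_spec X).mem_open_set_iff V₂.2).2 ⟨x₂, trivial, h₂⟩⟩, rfl⟩
    have hagree : Y.homOfLE hW'W ≫ s₁ ≫ V₁.ι = Y.homOfLE hW'W ≫ s₂ ≫ V₂.ι := by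
      haveI := hV₁; haveI := hV₂
      let O := V₁ ⊓ V₂
      haveI : IsOpenImmersion (O.ι ≫ f) := by
        rw [← X.homOfLE_ι (inf_le_left : O ≤ V₁), Category.assoc]; infer_instance
      have hO : Set.range W'.ι ⊆ Set.range (O.ι ≫ f) := by
        rw [Scheme.Opens.range_ι]; rintro _ ⟨z, hz, rfl⟩; exact ⟨⟨z, hz⟩, rfl⟩
      let s := IsOpenImmersion.lift (O.ι ≫ f) W'.ι hO
      have es : s ≫ O.ι ≫ f = W'.ι := IsOpenImmersion.lift_fac _ _ _
      have a₁ : Y.homOfLE hW'W ≫ s₁ = s ≫ X.homOfLE (inf_le_left : O ≤ V₁) := by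
        rw [← cancel_mono (V₁.ι ≫ f)]
        simp only [Category.assoc, e₁, Scheme.homOfLE_ι, Scheme.homOfLE_ι_assoc]
        exact es.symm
      have a₂ : Y.homOfLE hW'W ≫ s₂ = s ≫ X.homOfLE (inf_le_right : O ≤ V₂) := by
        rw [← cancel_mono (V₂.ι ≫ f)]
        simp only [Category.assoc, e₂, Scheme.homOfLE_ι, Scheme.homOfLE_ι_assoc]
        exact es.symm
      rw [reassoc_of% a₁, reassoc_of% a₂, X.homOfLE_ι, X.homOfLE_ι]
    haveI : IsDominant (Y.homOfLE hW'W) := by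
      constructor
      have hd : DenseRange (Y.homOfLE hW'W) := by
        haveI : Nonempty (W : Scheme.{u}) := ⟨⟨_, hW'W hne.some_mem⟩⟩
        haveI : IsIntegral (W : Scheme.{u}) := isIntegral_of_isOpenImmersion W.ι
        exact (Y.homOfLE hW'W).isOpenEmbedding.isOpen_range.dense (by
          obtain ⟨y, hy⟩ := hne; exact ⟨_, ⟨⟨y, hy⟩, rfl⟩⟩)
      exact hd
    have hs := ext_of_isDominant_of_isSeparated f (f := s₁ ≫ V₁.ι) (g := s₂ ≫ V₂.ι)
      (by rw [Category.assoc, Category.assoc, e₁, e₂]) (Y.homOfLE hW'W) hagree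
    have hy : f x₁ ∈ W := ⟨⟨⟨x₁, h₁⟩, rfl⟩, ⟨⟨x₂, h₂⟩, h.symm⟩⟩
    have b₁ : s₁ ⟨f x₁, hy⟩ = ⟨x₁, h₁⟩ := (V₁.ι ≫ f).isOpenEmbedding.injective (by rw [← Scheme.Hom.comp_apply, e₁]; rfl)
    have b₂ : s₂ ⟨f x₁, hy⟩ = ⟨x₂, h₂⟩ := (V₂.ι ≫ f).isOpenEmbedding.injective (by rw [← Scheme.Hom.comp_apply, e₂]; exact h)
    have := congrArg (fun k => k ⟨f x₁, hy⟩) hs
    simp only [Scheme.Hom.comp_apply, b₁, b₂] at this
    exact this
  haveI : ∀ x, IsIso (f.stalkMap x) := fun x => by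
    obtain ⟨V, hxV, hV⟩ := key x
    haveI := hV
    have h' := Scheme.Hom.stalkMap_comp V.ι f ⟨x, hxV⟩
    have h0 : IsIso ((V.ι ≫ f).stalkMap ⟨x, hxV⟩) :=
      LocallyRingedSpace.IsOpenImmersion.stalk_iso (V.ι ≫ f).toLRSHom _
    haveI : IsIso (f.stalkMap (V.ι ⟨x, hxV⟩) ≫ V.ι.stalkMap ⟨x, hxV⟩) := h' ▸ h0
    exact IsIso.of_isIso_comp_right (f.stalkMap (V.ι ⟨x, hxV⟩)) (V.ι.stalkMap ⟨x, hxV⟩)
  exact IsOpenImmersion.of_isIso_stalkMap f (.of_continuous_injective_isOpenMap f.continuous hinj hopen)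

end Groth.Agent.S4809
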