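import Groth.Statements.S4812
import Groth.Agent.FlatFunLimLib.Main
-- import your own Groth.Agent.* helpers here

set_option autoImplicit false
set_option backward.isDefEq.respectTransparency false
set_option linter.all false
universe u
open CategoryTheory AlgebraicGeometry
open Lim8

namespace Groth.Agent.S4812

open CategoryTheory CategoryTheory.Limits AlgebraicGeometry TopologicalSpace RichLib.LimBC

/-- the pulled-back sequence is right exact -/
def RE {W T : Scheme.{u}} {F G H : W.Modules} (h : T ⟶ W) (f : F ⟶ G) (g : G ⟶ H) : Prop :=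
  ∃ w : (Scheme.Modules.pullback h).map f ≫ (Scheme.Modules.pullback h).map g = 0,
    (ShortComplex.mk _ _ w).Exact ∧ Epi ((Scheme.Modules.pullback h).map g)

theorem re_comp {W Z Z' : Scheme.{u}} {F G H : W.Modules} (f : F ⟶ G) (g : G ⟶ H) (m : Z' ⟶ Z) (h : Z ⟶ W)
    {r : Z' ⟶ W} (e : m ≫ h = r) :
    RE m ((Scheme.Modules.pullback h).map f) ((Scheme.Modules.pullback h).map g) ↔ RE r f g := by
  let ψ : Scheme.Modules.pullback h ⋙ Scheme.Modules.pullback m ≅ Scheme.Modules.pullback r :=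
    Scheme.Modules.pullbackComp m h ≪≫ Scheme.Modules.pullbackCongr e
  have nat : ∀ {A B : W.Modules} (u : A ⟶ B), (Scheme.Modules.pullback m).map ((Scheme.Modules.pullback h).map u) ≫ (ψ.app B).hom =
      (ψ.app A).hom ≫ (Scheme.Modules.pullback r).map u := fun u => ψ.hom.naturality u
  constructor
  · rintro ⟨w, hx, he⟩
    have w' : (Scheme.Modules.pullback r).map f ≫ (Scheme.Modules.pullback r).map g = 0 := by
      rw [← cancel_epi (ψ.app F).hom, ← Category.assoc, ← nat, Category.assoc, ← nat, ← Category.assoc, w]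
      simp
    let i : ShortComplex.mk _ _ w ≅ ShortComplex.mk _ _ w' :=
      ShortComplex.isoMk (ψ.app F) (ψ.app G) (ψ.app H) (nat f).symm (nat g).symm
    exact ⟨w', (ShortComplex.exact_iff_of_iso i).1 hx, ((MorphismProperty.epimorphisms _).arrow_mk_iso_iff
      (Arrow.isoMk (ψ.app G) (ψ.app H) (nat g).symm)).1 he⟩
  · rintro ⟨w', hx, he⟩
    have w : (Scheme.Modules.pullback m).map ((Scheme.Modules.pullback h).map f) ≫
        (Scheme.Modules.pullback m).map ((Scheme.Modules.pullback h).map g) = 0 := by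
      rw [← cancel_mono (ψ.app H).hom, Category.assoc, nat, ← Category.assoc, nat, Category.assoc, w']
      simp
    let i : ShortComplex.mk _ _ w ≅ ShortComplex.mk _ _ w' :=
      ShortComplex.isoMk (ψ.app F) (ψ.app G) (ψ.app H) (nat f).symm (nat g).symm
    exact ⟨w, (ShortComplex.exact_iff_of_iso i).2 hx, ((MorphismProperty.epimorphisms _).arrow_mk_iso_iff
      (Arrow.isoMk (ψ.app G) (ψ.app H) (nat g).symm)).2 he⟩

theorem re_map {W T : Scheme.{u}} {F G H : W.Modules} (h : T ⟶ W) (f : F ⟶ G) (g : G ⟶ H) (w : f ≫ g = 0)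
    (hx : (ShortComplex.mk f g w).Exact) [Epi g] : RE h f g := by
  haveI := (Scheme.Modules.pullbackPushforwardAdjunction h).leftAdjoint_preservesColimits
  haveI := (Scheme.Modules.pullbackPushforwardAdjunction h).left_adjoint_additive
  haveI : Epi (ShortComplex.mk f g w).g := inferInstanceAs (Epi g)
  have hl := isColimitCoforkMapOfIsColimit' (Scheme.Modules.pullback h) w hx.gIsCokernel
  refine ⟨by rw [← Functor.map_comp, w, Functor.map_zero], ?_⟩
  exact (ShortComplex.mk _ _ _).exact_and_epi_g_iff_g_is_cokernel.2 ⟨hl⟩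

theorem re_iff_isIso {W T : Scheme.{u}} {F G H : W.Modules} (h : T ⟶ W) (f : F ⟶ G) (g : G ⟶ H) (w0 : f ≫ g = 0) :
    RE h f g ↔ IsIso ((Scheme.Modules.pullback h).map (cokernel.desc f g w0)) := by
  haveI := (Scheme.Modules.pullbackPushforwardAdjunction h).leftAdjoint_preservesColimits
  haveI := (Scheme.Modules.pullbackPushforwardAdjunction h).left_adjoint_additive
  have hl0 := isColimitCoforkMapOfIsColimit' (Scheme.Modules.pullback h) (cokernel.condition f) (cokernelIsCokernel f)
  constructor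
  · rintro ⟨w, hx, he⟩
    obtain ⟨l⟩ := (ShortComplex.mk _ _ w).exact_and_epi_g_iff_g_is_cokernel.1 ⟨hx, he⟩
    have : (Scheme.Modules.pullback h).map (cokernel.desc f g w0) = (hl0.coconePointUniqueUpToIso l).hom := by
      refine Cofork.IsColimit.hom_ext hl0 ?_
      refine Eq.trans ?_ (hl0.comp_coconePointUniqueUpToIso_hom l WalkingParallelPair.one).symm
      show (Scheme.Modules.pullback h).map (cokernel.π f) ≫ (Scheme.Modules.pullback h).map (cokernel.desc f g w0) = _
      rw [← Functor.map_comp, cokernel.π_desc]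
      rfl
    rw [this]
    infer_instance
  · intro hi
    refine ⟨by rw [← Functor.map_comp, w0, Functor.map_zero], ?_⟩
    refine (ShortComplex.mk _ _ _).exact_and_epi_g_iff_g_is_cokernel.2 ⟨IsColimit.ofIsoColimit hl0
      (Cofork.ext (@asIso _ _ _ _ _ hi) ?_)⟩
    show (Scheme.Modules.pullback h).map (cokernel.π f) ≫ (Scheme.Modules.pullback h).map (cokernel.desc f g w0) = _
    rw [← Functor.map_comp, cokernel.π_desc]
    rfl

/-- Let S = lim S_i be a cofiltered limit of schemes with affine transition maps and S_{i₀} a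
quasi-compact stage; let f₀ : F₀ ⟶ G₀ and g₀ : G₀ ⟶ H₀ be homomorphisms of quasi-coherent O-modules
on S_{i₀}, with F₀ and G₀ of finite type and H₀ of finite presentation. Then the pulled-back
sequence F ⟶ G ⟶ H ⟶ 0 on S is exact (the composite is zero, the sequence is exact at G, and G ⟶ H
is an epimorphism) if and only if, for some index j over i₀, the pulled-back sequence F_j ⟶ G_j ⟶
H_j ⟶ 0 on S_j is exact. -/
theorem result {I : Type u} [SmallCategory I] [IsCofiltered I]
    (D : I ⥤ Scheme.{u}) (c : Limits.Cone D) (hc : Limits.IsLimit c)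
    [∀ (i j : I) (f : i ⟶ j), IsAffineHom (D.map f)] (i₀ : I) [CompactSpace (D.obj i₀)]
    {F₀ G₀ H₀ : (D.obj i₀).Modules} [Coh.IsQCoh F₀] [Coh.IsQCoh G₀] [Coh.IsQCoh H₀]
    (hF₀ : CohB1.IsFT F₀) (hG₀ : CohB1.IsFT G₀) (hH₀ : CohB1.IsFP H₀) (f₀ : F₀ ⟶ G₀) (g₀ : G₀ ⟶ H₀) :
    (∃ w : (Scheme.Modules.pullback (c.π.app i₀)).map f₀ ≫ (Scheme.Modules.pullback (c.π.app i₀)).map g₀ = 0,
        (ShortComplex.mk _ _ w).Exact ∧ Epi ((Scheme.Modules.pullback (c.π.app i₀)).map g₀)) ↔
      ∃ (j : I) (φ : j ⟶ i₀) (w : (Scheme.Modules.pullback (D.map φ)).map f₀ ≫ (Scheme.Modules.pullback (D.map φ)).map g₀ = 0),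
        (ShortComplex.mk _ _ w).Exact ∧ Epi ((Scheme.Modules.pullback (D.map φ)).map g₀) := by
  constructor
  · intro hRE
    let A := ofStage D c hc i₀
    have hfg : (Scheme.Modules.pullback A.s).map (f₀ ≫ g₀) = 0 := by
      rw [Functor.map_comp]; exact hRE.1
    obtain ⟨i, hi⟩ := FlatFunLimLib.exists_stage_zero (f₀ ≫ g₀) A hF₀ hfg
    set fi := (Scheme.Modules.pullback (A.t i)).map f₀ with hfi
    set gi := (Scheme.Modules.pullback (A.t i)).map g₀ with hgi
    have wi : fi ≫ gi = 0 := by rw [hfi, hgi, ← Functor.map_comp]; exact hi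
    haveI := A.compactSpace_obj i
    haveI := KFlatLib.isQCoh_pullback (A.t i) F₀
    haveI := KFlatLib.isQCoh_pullback (A.t i) G₀
    haveI := KFlatLib.isQCoh_pullback (A.t i) H₀
    haveI : Coh.IsQCoh (cokernel fi) := QCohLib.isQCoh_cokernel fi
    have hC : CohB1.IsFT (cokernel fi) :=
      QCohLib.isFT_of_epi (cokernel.π fi) (ConsLib.isFT_pullback (A.t i) G₀ hG₀)
    have hHi := RichLib.ModFlat.isFP_pullback (A.t i) hH₀
    have hre : RE (A.c.π.app i) fi gi := (re_comp f₀ g₀ (A.c.π.app i) (A.t i) (A.hs i)).2 hRE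
    obtain ⟨φ, hφ⟩ := FlatFunLimLib.exists_stage_isIso (cokernel.desc fi gi wi) (restart A i) hC hHi
      (FlatFunLimLib.isFT_of_isFP' hHi) ((re_iff_isIso _ fi gi wi).1 hre)
    exact ⟨φ.left.left, φ.left.hom,
      (re_comp f₀ g₀ (A.D.map φ.hom) (A.t i) (A.w φ.hom)).1 ((re_iff_isIso _ fi gi wi).2 hφ)⟩
  · rintro ⟨j, φ, w, hx, he⟩
    haveI := he
    exact (re_comp f₀ g₀ (c.π.app j) (D.map φ) (c.w φ)).1 (re_map (c.π.app j) _ _ w hx)

end Groth.Agent.S4812
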