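import Groth.Statements.S4813
import Groth.Agent.FlatFunLimLib.Main
import Groth.Agent.CohGenLib.Pro
import Groth.Agent.RichLib.LimStalk
-- import your own Groth.Agent.* helpers here

set_option autoImplicit false
set_option backward.isDefEq.respectTransparency false
set_option linter.all false
universe u
open CategoryTheory AlgebraicGeometry
open Lim8

namespace Groth.Agent.S4813

open CategoryTheory CategoryTheory.Limits AlgebraicGeometry TopologicalSpace RichLib.LimBC

theorem zero_comp_of {W Z Z' : Scheme.{u}} {F G : W.Modules} (v : F ⟶ G) (h : Z ⟶ W) (m : Z' ⟶ Z)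
    {r : Z' ⟶ W} (e : m ≫ h = r) (hz : (Scheme.Modules.pullback h).map v = 0) :
    (Scheme.Modules.pullback r).map v = 0 :=
  (FlatFunLimLib.map_eq_zero_iff v r).mpr fun z => FlatFunLimLib.zeroAt_comp v m h e z
    ((FlatFunLimLib.map_eq_zero_iff v h).mp hz _)

theorem factors_iff {W T : Scheme.{u}} {F G₁ G₂ : W.Modules} (h : T ⟶ W) (p₁ : F ⟶ G₁) (p₂ : F ⟶ G₂) [Epi p₁] :
    (∃ k, (Scheme.Modules.pullback h).map p₁ ≫ k = (Scheme.Modules.pullback h).map p₂) ↔
      (Scheme.Modules.pullback h).map (kernel.ι p₁ ≫ p₂) = 0 := by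
  haveI := (Scheme.Modules.pullbackPushforwardAdjunction h).left_adjoint_additive
  haveI := (Scheme.Modules.pullbackPushforwardAdjunction h).leftAdjoint_preservesColimits
  constructor
  · rintro ⟨k, hk⟩
    rw [Functor.map_comp, ← hk, ← Category.assoc, ← Functor.map_comp, kernel.condition, Functor.map_zero, zero_comp]
  · intro hz
    have hcol := ShortComplex.exact_of_f_is_kernel
      (ShortComplex.mk (kernel.ι p₁) p₁ (kernel.condition p₁)) (kernelIsKernel p₁)
    haveI : Epi (ShortComplex.mk (kernel.ι p₁) p₁ (kernel.condition p₁)).g := ‹Epi p₁›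
    have hc := isColimitCoforkMapOfIsColimit' (Scheme.Modules.pullback h) (kernel.condition p₁) hcol.gIsCokernel
    obtain ⟨l, hl⟩ := CokernelCofork.IsColimit.desc' hc ((Scheme.Modules.pullback h).map p₂)
      (by rw [← Functor.map_comp]; exact hz)
    exact ⟨l, hl⟩

/-- Let S = lim S_i be a cofiltered limit of schemes with affine transition maps and S_{i₀} a
quasi-compact stage; let F₀ be a quasi-coherent O-module of finite type on S_{i₀} and p₁ : F₀ ⟶ G₁,
p₂ : F₀ ⟶ G₂ two surjective homomorphisms onto quasi-coherent O-modules, G₁ being of finite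
presentation. Then, on S, the pullback of p₂ factors through the pullback of p₁ (the quotient G₂
becomes a quotient of G₁ after pullback to S) if and only if, for some index j over i₀, the pullback
of p₂ to S_j factors through the pullback of p₁ to S_j. -/
theorem result {I : Type u} [SmallCategory I] [IsCofiltered I]
    (D : I ⥤ Scheme.{u}) (c : Limits.Cone D) (hc : Limits.IsLimit c)
    [∀ (i j : I) (f : i ⟶ j), IsAffineHom (D.map f)] (i₀ : I) [CompactSpace (D.obj i₀)]
    {F₀ G₁ G₂ : (D.obj i₀).Modules} [Coh.IsQCoh F₀] [Coh.IsQCoh G₁] [Coh.IsQCoh G₂]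
    (hF₀ : CohB1.IsFT F₀) (hG₁ : CohB1.IsFP G₁) (p₁ : F₀ ⟶ G₁) (p₂ : F₀ ⟶ G₂) [Epi p₁] [Epi p₂] :
    (∃ k : (Scheme.Modules.pullback (c.π.app i₀)).obj G₁ ⟶ (Scheme.Modules.pullback (c.π.app i₀)).obj G₂, (Scheme.Modules.pullback (c.π.app i₀)).map p₁ ≫ k = (Scheme.Modules.pullback (c.π.app i₀)).map p₂) ↔
      ∃ (j : I) (φ : j ⟶ i₀) (k : (Scheme.Modules.pullback (D.map φ)).obj G₁ ⟶ (Scheme.Modules.pullback (D.map φ)).obj G₂),
        (Scheme.Modules.pullback (D.map φ)).map p₁ ≫ k = (Scheme.Modules.pullback (D.map φ)).map p₂ := by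
  haveI : Coh.IsQCoh (kernel p₁) := QCohLib.isQCoh_kernel p₁
  have hK : CohB1.IsFT (kernel p₁) := FlatFunLimLib.isFT_kernel hF₀ hG₁ p₁
  constructor
  · intro h
    obtain ⟨j, hj⟩ := FlatFunLimLib.exists_stage_zero (kernel.ι p₁ ≫ p₂) (ofStage D c hc i₀) hK
      ((factors_iff (c.π.app i₀) p₁ p₂).mp h)
    exact ⟨j.left, j.hom, (factors_iff (D.map j.hom) p₁ p₂).mpr hj⟩
  · rintro ⟨j, φ, h⟩
    exact (factors_iff (c.π.app i₀) p₁ p₂).mpr
      (zero_comp_of _ (D.map φ) (c.π.app j) (c.w φ) ((factors_iff (D.map φ) p₁ p₂).mp h))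

end Groth.Agent.S4813
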