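import Groth.Statements.S4815
import Groth.Agent.RichLib.LimitDescent
import Groth.Agent.AlmostBlowLib.Stage
import Groth.Agent.PrinPartLib.FP
-- import your own Groth.Agent.* helpers here

set_option autoImplicit false
set_option backward.isDefEq.respectTransparency false
set_option linter.all false
universe u
open CategoryTheory AlgebraicGeometry
open Lim8

namespace Groth.Agent.S4815

open CategoryTheory CategoryTheory.Limits AlgebraicGeometry TopologicalSpace RichLib.LimBC

/-- Let S = lim S_i be a cofiltered limit of schemes with affine transition maps and S_{i₀} a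
quasi-compact quasi-separated stage. Then every subscheme of finite presentation of S, that is every
immersion ι : Z ⟶ S which is locally of finite presentation and quasi-compact, is the base change
along S ⟶ S_j of an immersion of finite presentation Z_j ⟶ S_j, for some index j over i₀ (the base
change is expressed by a pullback square). -/
theorem result {I : Type u} [SmallCategory I] [IsCofiltered I]
    (D : I ⥤ Scheme.{u}) (c : Limits.Cone D) (hc : Limits.IsLimit c)
    [∀ (i j : I) (f : i ⟶ j), IsAffineHom (D.map f)] (i₀ : I)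
    [CompactSpace (D.obj i₀)] [QuasiSeparatedSpace (D.obj i₀)]
    {Z : Scheme.{u}} (ι : Z ⟶ c.pt) [IsImmersion ι] [LocallyOfFinitePresentation ι] [QuasiCompact ι] :
    ∃ (j : I) (_ : j ⟶ i₀) (Zj : Scheme.{u}) (ιj : Zj ⟶ D.obj j) (q : Z ⟶ Zj),
      IsImmersion ιj ∧ LocallyOfFinitePresentation ιj ∧ QuasiCompact ιj ∧ IsPullback q ι ιj (c.π.app j) := by
  haveI : ∀ {a b : I} (f : a ⟶ b), IsAffineHom (D.map f) := fun f => inferInstance
  haveI := isAffineHom_π_app D c hc i₀
  haveI : CompactSpace c.pt := QuasiCompact.compactSpace_of_compactSpace (c.π.app i₀)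
  haveI : CompactSpace Z := QuasiCompact.compactSpace_of_compactSpace ι
  have hV : ∀ y : Set.range ι, ∃ V : c.pt.affineOpens, y.1 ∈ V.1 ∧ V.1 ≤ ι.coborderRange := fun y => by
    obtain ⟨V, hV, hyV, hVU⟩ := exists_isAffineOpen_mem_and_subset (U := ι.coborderRange)
      (show y.1 ∈ ι.coborderRange from subset_coborder y.2)
    exact ⟨⟨V, hV⟩, hyV, hVU⟩
  choose V hyV hVU using hV
  obtain ⟨T, hT⟩ := (isCompact_range ι.continuous).elim_finite_subcover (fun y => ((V y).1 : Set c.pt))
    (fun y => (V y).1.2) (fun y hy => Set.mem_iUnion.mpr ⟨⟨y, hy⟩, hyV ⟨y, hy⟩⟩)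
  let U : c.pt.Opens := ⨆ y : T, (V y.1).1
  have hUc : IsCompact (U : Set c.pt) := by
    rw [Opens.coe_iSup]
    exact isCompact_iUnion fun y => (V y.1).2.isCompact
  have hle : U ≤ ι.coborderRange := iSup_le fun y => hVU y.1
  have hr : Set.range ι ⊆ U := fun y hy => by
    obtain ⟨z, hz, hyz⟩ := Set.mem_iUnion₂.mp (hT hy)
    exact Opens.mem_iSup.mpr ⟨⟨z, hz⟩, hyz⟩
  -- the open at a stage, after passing to the diagram over `i₀`
  let A₀ := ofStage D c hc i₀
  haveI := A₀.compactSpace_obj
  haveI := A₀.quasiSeparatedSpace_obj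
  haveI : ∀ {a b : Over i₀} (f : a ⟶ b), IsAffineHom (A₀.D.map f) := fun f => A₀.affine_map f
  obtain ⟨i₁, V₁', hV₁, hU⟩ := exists_preimage_eq A₀.D A₀.c A₀.hc U hUc
  let V₁ : (D.obj i₁.left).Opens := V₁'
  haveI : QuasiSeparatedSpace (D.obj i₁.left) := inferInstanceAs (QuasiSeparatedSpace (A₀.D.obj i₁))
  let A₁ := ofStage D c hc i₁.left
  let B := pb A₁ V₁.ι
  haveI : CompactSpace V₁.toScheme := isCompact_iff_compactSpace.mp hV₁
  haveI : QuasiSeparatedSpace V₁.toScheme := QuasiSeparatedSpace.of_isOpenEmbedding V₁.ι.isOpenEmbedding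
  haveI := B.compactSpace_obj
  haveI := B.quasiSeparatedSpace_obj
  haveI : ∀ (a b : Over i₁.left) (f : a ⟶ b), IsAffineHom (B.D.map f) := fun a b f => B.affine_map f
  let ν : pullback V₁.ι (c.π.app i₁.left) ⟶ c.pt := pullback.snd _ _
  have hν : ν.opensRange = U := by
    rw [Scheme.Hom.opensRange_pullbackSnd, Scheme.Opens.opensRange_ι]
    exact hU
  have hιν : Set.range ι ⊆ Set.range ν := by
    rw [← ν.coe_opensRange, hν]; exact hr
  let ι' : Z ⟶ pullback V₁.ι (c.π.app i₁.left) := IsOpenImmersion.lift ν ι hιν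
  have hι' : ι' ≫ ν = ι := IsOpenImmersion.lift_fac _ _ _
  haveI : IsImmersion (ι' ≫ ν) := by rw [hι']; infer_instance
  haveI : IsImmersion ι' := IsImmersion.of_comp ι' ν
  haveI : IsClosedImmersion ι' := by
    refine IsClosedImmersion.of_isPreimmersion ι' ?_
    have he : Set.range ι' = ν ⁻¹' Set.range ι := by
      ext x
      constructor
      · rintro ⟨z, rfl⟩; exact ⟨z, by rw [← Scheme.Hom.comp_apply, hι']⟩
      · rintro ⟨z, hz⟩
        exact ⟨z, ν.isOpenEmbedding.injective (by rw [← Scheme.Hom.comp_apply, hι', hz])⟩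
    have hcl : IsClosed ((Subtype.val : coborder (Set.range ι) → c.pt) ⁻¹' Set.range ι) := isClosed_preimage_val_coborder
    rw [isClosed_induced_iff] at hcl
    obtain ⟨K, hK, hKe⟩ := hcl
    have hx : ∀ x, ν x ∈ coborder (Set.range ι) := fun x => hle (hν ▸ ⟨x, rfl⟩ : ν x ∈ U)
    have he2 : Set.range ι' = ν ⁻¹' K := by
      rw [he]
      ext x
      exact (Set.ext_iff.mp hKe ⟨ν x, hx x⟩).symm
    rw [he2]
    exact hK.preimage ν.continuous
  haveI : LocallyOfFinitePresentation ι' := by
    haveI : LocallyOfFinitePresentation (ι' ≫ ν) := by rw [hι']; infer_instance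
    exact MorphismProperty.of_postcomp @LocallyOfFinitePresentation (W' := @IsOpenImmersion) ι' ν
      inferInstance ‹_›
  obtain ⟨φ, Zj, ij, g, h1, h2, sq⟩ := AlmostBlowLib.exists_stage_closed B.D B.c B.hc ι'
  haveI := h1
  haveI := h2
  let νj : pullback V₁.ι (D.map φ.hom) ⟶ D.obj φ.left := pullback.snd _ _
  haveI : QuasiCompact V₁.ι := quasiCompact_iff_forall_isAffineOpen.mpr fun W hW => by
    have h3 := QuasiSeparatedSpace.inter_isCompact (W : Set (D.obj i₁.left)) V₁ W.2 hW.isCompact V₁.2 hV₁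
    rw [V₁.ι.isOpenEmbedding.isInducing.isCompact_iff]
    convert h3 using 1
    show V₁.ι '' (V₁.ι ⁻¹' W) = _
    rw [Set.image_preimage_eq_inter_range, Scheme.Opens.range_ι]
  haveI : QuasiCompact νj := inferInstanceAs (QuasiCompact (pullback.snd _ _))
  refine ⟨φ.left, φ.hom ≫ i₁.hom, Zj, ij ≫ νj, g, inferInstance, inferInstance, inferInstance, ?_⟩
  rw [← hι']
  exact sq.paste_vert (isPullback_cone A₁ V₁.ι φ)

end Groth.Agent.S4815
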