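import Groth.Statements.S4816
import Groth.Agent.RichLib.LimitDescentProps
-- import your own Groth.Agent.* helpers here

set_option autoImplicit false
set_option backward.isDefEq.respectTransparency false
set_option linter.all false
universe u
open CategoryTheory AlgebraicGeometry
open Lim8

namespace Groth.Agent.S4816

open CategoryTheory CategoryTheory.Limits AlgebraicGeometry TopologicalSpace RichLib.LimBC

theorem factors_iff {S T Z₁ Z₂ : Scheme.{u}} (ι₁ : Z₁ ⟶ S) (ι₂ : Z₂ ⟶ S) [Mono ι₂] (s : T ⟶ S) :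
    (∃ k : pullback ι₁ s ⟶ pullback ι₂ s, k ≫ pullback.snd ι₂ s = pullback.snd ι₁ s) ↔
      IsIso (pullback.snd (pullback.fst ι₁ ι₂) (pullback.fst ι₁ s)) := by
  constructor
  · rintro ⟨k, hk⟩
    have hw : pullback.fst ι₁ s ≫ ι₁ = (k ≫ pullback.fst ι₂ s) ≫ ι₂ := by
      rw [Category.assoc, pullback.condition (f := ι₂) (g := s), ← Category.assoc, hk, pullback.condition]
    let σ : pullback ι₁ s ⟶ pullback (pullback.fst ι₁ ι₂) (pullback.fst ι₁ s) :=
      pullback.lift (pullback.lift (pullback.fst ι₁ s) (k ≫ pullback.fst ι₂ s) hw) (𝟙 _)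
        (by rw [pullback.lift_fst, Category.id_comp])
    refine ⟨σ, ?_, pullback.lift_snd _ _ _⟩
    rw [← cancel_mono (pullback.snd (pullback.fst ι₁ ι₂) (pullback.fst ι₁ s)), Category.assoc,
      pullback.lift_snd, Category.comp_id, Category.id_comp]
  · intro h
    refine ⟨pullback.lift (inv (pullback.snd (pullback.fst ι₁ ι₂) (pullback.fst ι₁ s)) ≫
      pullback.fst (pullback.fst ι₁ ι₂) (pullback.fst ι₁ s) ≫ pullback.snd ι₁ ι₂) (pullback.snd ι₁ s) ?_,
      pullback.lift_snd _ _ _⟩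
    rw [Category.assoc, Category.assoc, ← pullback.condition (f := ι₁) (g := ι₂),
      pullback.condition_assoc, IsIso.inv_hom_id_assoc, pullback.condition]

open CategoryTheory.Limits in
/-- Let S = lim S_i be a cofiltered limit of schemes with affine transition maps and S_{i₀} a
quasi-compact stage; let ι₁ : Z₁ ⟶ S_{i₀} and ι₂ : Z₂ ⟶ S_{i₀} be two subschemes of finite
presentation of S_{i₀} (immersions which are locally of finite presentation and quasi-compact), with
base changes Z₁ ×_{S_{i₀}} T ⟶ T to T = S and to T = S_j. Then Z₁ ×_{S_{i₀}} S is a subscheme of Z₂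
×_{S_{i₀}} S (its immersion into S factors through that of Z₂ ×_{S_{i₀}} S) if and only if, for some
index j over i₀, Z₁ ×_{S_{i₀}} S_j is a subscheme of Z₂ ×_{S_{i₀}} S_j. -/
theorem result {I : Type u} [SmallCategory I] [IsCofiltered I]
    (D : I ⥤ Scheme.{u}) (c : Limits.Cone D) (hc : Limits.IsLimit c)
    [∀ (i j : I) (f : i ⟶ j), IsAffineHom (D.map f)] (i₀ : I) [CompactSpace (D.obj i₀)]
    {Z₁ Z₂ : Scheme.{u}} (ι₁ : Z₁ ⟶ D.obj i₀) (ι₂ : Z₂ ⟶ D.obj i₀)
    [IsImmersion ι₁] [LocallyOfFinitePresentation ι₁] [QuasiCompact ι₁]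
    [IsImmersion ι₂] [LocallyOfFinitePresentation ι₂] [QuasiCompact ι₂] :
    (∃ k : pullback ι₁ (c.π.app i₀) ⟶ pullback ι₂ (c.π.app i₀),
        k ≫ pullback.snd ι₂ (c.π.app i₀) = pullback.snd ι₁ (c.π.app i₀)) ↔
      ∃ (j : I) (φ : j ⟶ i₀) (k : pullback ι₁ (D.map φ) ⟶ pullback ι₂ (D.map φ)),
        k ≫ pullback.snd ι₂ (D.map φ) = pullback.snd ι₁ (D.map φ) := by
  let A := ofStage D c hc i₀
  let B := pb A ι₁
  haveI : CompactSpace Z₁ := QuasiCompact.compactSpace_of_compactSpace ι₁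
  haveI : LocallyOfFinitePresentation (pullback.fst ι₁ ι₂) := MorphismProperty.pullback_fst _ _ inferInstance
  haveI : QuasiCompact (pullback.fst ι₁ ι₂) := MorphismProperty.pullback_fst _ _ inferInstance
  haveI : QuasiSeparated (pullback.fst ι₁ ι₂) := MorphismProperty.pullback_fst _ _ inferInstance
  refine ⟨fun h => ?_, ?_⟩
  · obtain ⟨φ, hφ⟩ := exists_at_isIso B (pullback.fst ι₁ ι₂) ((factors_iff ι₁ ι₂ (c.π.app i₀)).mp h)
    exact ⟨φ.left, φ.hom, (factors_iff ι₁ ι₂ (D.map φ.hom)).mpr hφ⟩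
  · rintro ⟨j, φ, h⟩
    exact (factors_iff ι₁ ι₂ (c.π.app i₀)).mpr (MorphismProperty.of_isPullback
      (P := MorphismProperty.isomorphisms Scheme.{u}) (isPullback_cone B (pullback.fst ι₁ ι₂) (Over.mk φ))
      ((factors_iff ι₁ ι₂ (D.map φ)).mp h))

end Groth.Agent.S4816
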