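import Groth.Statements.S4822
import Groth.Agent.RelAmpConsLib.Proper
import Groth.Agent.S12442
-- import your own Groth.Agent.* helpers here

set_option autoImplicit false
set_option backward.isDefEq.respectTransparency false
set_option linter.all false
set_option maxHeartbeats 1000000
open CategoryTheory AlgebraicGeometry
universe u
open Cons9

namespace Groth.Agent.S4822

open CategoryTheory.Limits in
/-- Let g : Y ⟶ S and f : X ⟶ Y be morphisms such that X and Y are of finite presentation over S
(locally of finite presentation, quasi-compact and quasi-separated) and f is proper, and let L be an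
invertible O_X-module. For each point s of S let f_s : X_s ⟶ Y_s be the morphism induced on the
fibres over s and L_s the pullback of L to X_s. Then the set of s for which L_s is ample relative to
f_s is locally constructible in S. This is the case of relative ampleness (the very ample case is
not stated here). -/
theorem result {X Y S : Scheme.{u}} (f : X ⟶ Y) (g : Y ⟶ S)
    [LocallyOfFinitePresentation g] [QuasiCompact g] [QuasiSeparated g]
    [LocallyOfFinitePresentation (f ≫ g)] [QuasiCompact (f ≫ g)] [QuasiSeparated (f ≫ g)] [IsProper f]
    (L : X.Modules) (hL : PicF.IsInvertible L) :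
    Topology.IsLocallyConstructible {s : S |
      RelAmple.IsRelAmple
        (pullback.lift (pullback.fst (f ≫ g) (S.fromSpecResidueField s) ≫ f) (pullback.snd (f ≫ g) (S.fromSpecResidueField s))
          ((Category.assoc _ _ _).trans pullback.condition) :
          pullback (f ≫ g) (S.fromSpecResidueField s) ⟶ pullback g (S.fromSpecResidueField s))
        ((Scheme.Modules.pullback (pullback.fst (f ≫ g) (S.fromSpecResidueField s))).obj L)} := by
  haveI : LocallyOfFinitePresentation f := Groth.Agent.S12442.result f g
  haveI : QuasiCompact f := inferInstance
  obtain ⟨-, hc, -⟩ := RelAmpConsLib.exists_open_amp f L hL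
  let G : Set Y := {y : Y | RelAmpConsLib.Amp f (𝟙 Y) L (Y.fromSpecResidueField y)}
  have h : {s : S |
      RelAmple.IsRelAmple
        (pullback.lift (pullback.fst (f ≫ g) (S.fromSpecResidueField s) ≫ f) (pullback.snd (f ≫ g) (S.fromSpecResidueField s))
          ((Category.assoc _ _ _).trans pullback.condition) :
          pullback (f ≫ g) (S.fromSpecResidueField s) ⟶ pullback g (S.fromSpecResidueField s))
        ((Scheme.Modules.pullback (pullback.fst (f ≫ g) (S.fromSpecResidueField s))).obj L)} =
      (g.base '' Gᶜ)ᶜ := by
    ext s
    refine (RelAmpConsLib.mem_amp_iff hL s).trans ?_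
    let t := S.fromSpecResidueField s
    let i := pullback.fst g t
    let fs := pullback.snd f i
    let a := pullback.fst f i
    have hLs : PicF.IsInvertible ((Scheme.Modules.pullback a).obj L) := AmpleDevLib.isInvertible_pb a hL
    haveI : IsPreimmersion i := inferInstanceAs (IsPreimmersion (pullback.fst g (S.fromSpecResidueField s)))
    haveI : IsProper fs := inferInstanceAs (IsProper (pullback.snd f i))
    haveI : LocallyOfFinitePresentation fs := MorphismProperty.pullback_snd _ _ inferInstance
    have key : ∀ w, RelAmpConsLib.Amp fs (𝟙 _) ((Scheme.Modules.pullback a).obj L)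
        ((pullback g t).fromSpecResidueField w) ↔ i.base w ∈ G := by
      intro w
      refine Iff.trans ?_ (RelAmpConsLib.amp_residueField_congr hL i w)
      let t' := (pullback g t).fromSpecResidueField w
      rw [← RelAmpConsLib.amp_id_iff_of_affine fs _ hLs (IsPullback.of_hasPullback fs t'),
        ← RelAmpConsLib.amp_id_iff_of_affine f L hL
          ((IsPullback.of_hasPullback fs t').paste_horiz (IsPullback.of_hasPullback f i))]
      let e := (Scheme.Modules.pullbackComp (pullback.fst fs t') a).app L
      exact ⟨fun h => AmpleDevLib.isAmple_of_iso h.1 (AmpleDevLib.isInvertible_pb _ hL) e h,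
        fun h => AmpleDevLib.isAmple_of_iso h.1 (AmpleDevLib.isInvertible_pb _ hLs) e.symm h⟩
    have hrange : Set.range i.base = g.base ⁻¹' {s} := g.range_fiberι s
    constructor
    · rintro h ⟨y, hy, hgy⟩
      obtain ⟨w, rfl⟩ : y ∈ Set.range i.base := hrange.ge hgy
      exact hy ((key w).1 (RelAmpConsLib.amp_of_isRelAmple fs _ hLs h w))
    · intro h
      exact RelAmpConsLib.isRelAmple_of_forall fs _ hLs fun w =>
        (key w).2 (by_contra fun hw => h ⟨_, hw, hrange.le ⟨w, rfl⟩⟩)
  rw [h]
  exact ProConsLib.isLocallyConstructible_compl (g.isLocallyConstructible_image (ProConsLib.isLocallyConstructible_compl hc))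

end Groth.Agent.S4822
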