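import Groth.Statements.S4823
import Groth.Agent.S4790
import Groth.Agent.ConsLib.FGSystem
import Groth.Agent.KFlatLib.QCohPull
import Groth.Agent.RichLib.ModFlatGlobal

set_option linter.style.haveILetI false
set_option backward.isDefEq.respectTransparency false
set_option backward.isDefEq.respectTransparency.types false
set_option maxHeartbeats 1000000

set_option autoImplicit false
open CategoryTheory AlgebraicGeometry
universe u
open Cons9

namespace Groth.Agent.S4823

open CategoryTheory.Limits in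
/-- Let k be a field, Ω an algebraically closed extension field of k, X a scheme of finite type over k
and F, G two coherent O_X-modules (quasi-coherent of finite presentation). If the pullbacks of F and
G to X ⊗_k Ω are isomorphic, then there is a finite extension k' of k such that the pullbacks of F
and G to X ⊗_k k' are already isomorphic (base changes are the chosen fibre products with Spec of
the extension, and the modules are pulled back along the first projection). -/
theorem result {k : Type u} [Field k] {X : Scheme.{u}}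
    (p : X ⟶ Spec (CommRingCat.of k)) [LocallyOfFiniteType p] [QuasiCompact p]
    (F G : X.Modules) [Coh.IsQCoh F] [Coh.IsQCoh G] (hF : CohB1.IsFP F) (hG : CohB1.IsFP G)
    (Ω : Type u) [Field Ω] [Algebra k Ω] [IsAlgClosed Ω]
    (e : (Scheme.Modules.pullback (pullback.fst p (Spec.map (CommRingCat.ofHom (algebraMap k Ω))))).obj F ≅
      (Scheme.Modules.pullback (pullback.fst p (Spec.map (CommRingCat.ofHom (algebraMap k Ω))))).obj G) :
    ∃ (k' : Type u) (_ : Field k') (_ : Algebra k k') (_ : Module.Finite k k'),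
      Nonempty ((Scheme.Modules.pullback (pullback.fst p (Spec.map (CommRingCat.ofHom (algebraMap k k'))))).obj F ≅
        (Scheme.Modules.pullback (pullback.fst p (Spec.map (CommRingCat.ofHom (algebraMap k k'))))).obj G) := by
  classical
  let A := ConsLib.fgSys k Ω (Iso.refl (Spec (CommRingCat.of k)))
  let P := RichLib.LimBC.pb A p
  haveI hA : ∀ i, IsAffineHom (A.t i) := A.affine
  haveI : IsLocallyNoetherian X := LocallyOfFiniteType.isLocallyNoetherian p
  haveI : CompactSpace X := QuasiCompact.compactSpace_of_compactSpace p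
  haveI : QuasiSeparatedSpace X := inferInstance
  haveI : ∀ (i j : (ConsLib.FGSub k Ω)ᵒᵖ) (a : i ⟶ j), IsAffineHom (P.D.map a) := fun _ _ a => P.affine_map a
  let i₀ : (ConsLib.FGSub k Ω)ᵒᵖ := Opposite.op ⟨⊥, Subalgebra.fg_bot⟩
  haveI := P.compactSpace_obj i₀
  haveI := P.quasiSeparatedSpace_obj i₀
  let q₀ : P.D.obj i₀ ⟶ X := P.t i₀
  let F₀ := (Scheme.Modules.pullback q₀).obj F
  let G₀ := (Scheme.Modules.pullback q₀).obj G
  haveI : Coh.IsQCoh F₀ := KFlatLib.isQCoh_pullback q₀ F
  haveI : Coh.IsQCoh G₀ := KFlatLib.isQCoh_pullback q₀ G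
  let σ : P.c.pt ⟶ pullback p (Spec.map (CommRingCat.ofHom (algebraMap k Ω))) :=
    (pullback.congrHom rfl (Category.comp_id _)).hom
  have hσ : ∀ i, P.c.π.app i ≫ P.t i = σ ≫ pullback.fst p (Spec.map (CommRingCat.ofHom (algebraMap k Ω))) := fun i => by
    rw [P.hs i]
    show pullback.fst p A.s = _
    simp [σ, pullback.congrHom]
    rfl
  have tr : ∀ (M : X.Modules), Nonempty ((Scheme.Modules.pullback (P.c.π.app i₀)).obj ((Scheme.Modules.pullback q₀).obj M) ≅
      (Scheme.Modules.pullback σ).obj ((Scheme.Modules.pullback (pullback.fst p (Spec.map (CommRingCat.ofHom (algebraMap k Ω))))).obj M)) :=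
    fun M => ⟨(Scheme.Modules.pullbackComp _ _).app M ≪≫ (Scheme.Modules.pullbackCongr (hσ i₀)).app M ≪≫
      ((Scheme.Modules.pullbackComp _ _).app M).symm⟩
  obtain ⟨tF⟩ := tr F
  obtain ⟨tG⟩ := tr G
  obtain ⟨j, φ, ⟨ej⟩⟩ := (Groth.Agent.S4790.result P.D P.c P.hc i₀ F₀ G₀ (RichLib.ModFlat.isFP_pullback q₀ hF)
    (RichLib.ModFlat.isFP_pullback q₀ hG)).1 ⟨tF ≪≫ (Scheme.Modules.pullback σ).mapIso e ≪≫ tG.symm⟩
  let B : Subalgebra k Ω := j.unop.1
  haveI : Algebra.FiniteType k B := ⟨(Subalgebra.fg_top _).mpr j.unop.2⟩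
  obtain ⟨m, hm⟩ := Ideal.exists_maximal B
  letI : Field (B ⧸ m) := Ideal.Quotient.field m
  haveI : Module.Finite k (B ⧸ m) := finite_of_finite_type_of_isJacobsonRing k (B ⧸ m)
  refine ⟨B ⧸ m, inferInstance, inferInstance, inferInstance, ?_⟩
  have hw : Spec.map (CommRingCat.ofHom (Ideal.Quotient.mk m)) ≫ A.t j =
      Spec.map (CommRingCat.ofHom (algebraMap k (B ⧸ m))) := by
    show Spec.map _ ≫ Spec.map (CommRingCat.ofHom (algebraMap k B)) ≫ 𝟙 _ = _
    rw [Category.comp_id, ← Spec.map_comp]
    rfl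
  let ρ : pullback p (Spec.map (CommRingCat.ofHom (algebraMap k (B ⧸ m)))) ⟶ P.D.obj j :=
    pullback.lift (pullback.fst _ _) (pullback.snd _ _ ≫ Spec.map (CommRingCat.ofHom (Ideal.Quotient.mk m)))
      (by rw [Category.assoc, hw]; exact pullback.condition)
  have hρ : ρ ≫ P.D.map φ ≫ q₀ = pullback.fst p (Spec.map (CommRingCat.ofHom (algebraMap k (B ⧸ m)))) := by
    rw [P.w φ]
    exact pullback.lift_fst _ _ _
  let T : ∀ M : X.Modules, (Scheme.Modules.pullback ρ).obj ((Scheme.Modules.pullback (P.D.map φ)).obj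
      ((Scheme.Modules.pullback q₀).obj M)) ≅
      (Scheme.Modules.pullback (pullback.fst p (Spec.map (CommRingCat.ofHom (algebraMap k (B ⧸ m)))))).obj M := fun M =>
    (Scheme.Modules.pullback ρ).mapIso ((Scheme.Modules.pullbackComp _ _).app M) ≪≫
      (Scheme.Modules.pullbackComp _ _).app M ≪≫ (Scheme.Modules.pullbackCongr hρ).app M
  exact ⟨(T F).symm ≪≫ (Scheme.Modules.pullback ρ).mapIso ej ≪≫ T G⟩

end Groth.Agent.S4823
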