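import Groth.Statements.S4824
import Groth.Agent.AlbLib.AlgClosed

set_option autoImplicit false
open CategoryTheory AlgebraicGeometry
universe u
open Cons9

open scoped TensorProduct
set_option maxHeartbeats 1000000
namespace Groth.Agent.S4824

noncomputable def quotEquiv {k : Type u} [Field k] {n : ℕ} (F : MvPolynomial (Fin n) k) (K : Type u) [Field K] [Algebra k K] :
    K ⊗[k] (MvPolynomial (Fin n) k ⧸ Ideal.span ({F} : Set (MvPolynomial (Fin n) k))) ≃+*
      MvPolynomial (Fin n) K ⧸ Ideal.span ({MvPolynomial.map (algebraMap k K) F} : Set (MvPolynomial (Fin n) K)) :=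
  (Algebra.TensorProduct.tensorQuotientEquiv (R := k) K (MvPolynomial (Fin n) k) K _).toRingEquiv.trans
    (Ideal.quotientEquiv _ _ (MvPolynomial.algebraTensorAlgEquiv k K).toRingEquiv (by
      rw [Ideal.map_span, Ideal.map_span, Set.image_singleton, Set.image_singleton]
      simp))

lemma isDomain_quot_iff {k : Type u} [Field k] {n : ℕ} (F : MvPolynomial (Fin n) k) (K : Type u) [Field K] [Algebra k K] :
    IsDomain ((MvPolynomial (Fin n) k ⧸ Ideal.span ({F} : Set (MvPolynomial (Fin n) k))) ⊗[k] K) ↔
      IsDomain (MvPolynomial (Fin n) K ⧸ Ideal.span ({MvPolynomial.map (algebraMap k K) F} : Set (MvPolynomial (Fin n) K))) := by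
  let e := ((Algebra.TensorProduct.comm k (MvPolynomial (Fin n) k ⧸ Ideal.span ({F} : Set (MvPolynomial (Fin n) k))) K).toRingEquiv).trans
    (quotEquiv F K)
  exact ⟨fun h => MulEquiv.isDomain _ e.symm.toMulEquiv, fun h => MulEquiv.isDomain _ e.toMulEquiv⟩

lemma integral_of_iso {X Y : Scheme.{u}} (e : X ≅ Y) [IsIntegral X] : IsIntegral Y := by
  haveI : Nonempty Y := ⟨e.hom.base (Nonempty.some inferInstance)⟩
  exact isIntegral_of_isOpenImmersion e.inv

instance : ObjectProperty.IsClosedUnderIsomorphisms (C := Scheme.{u}) IsIntegral :=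
  ⟨fun e h => @integral_of_iso _ _ e h⟩

lemma geomInt_iff {k : Type u} [Field k] (A : Type u) [CommRing A] [Algebra k A] :
    GeometricallyIntegral (Spec.map (CommRingCat.ofHom (algebraMap k A))) ↔
      ∀ (K : Type u) [Field K] [Algebra k K], IsDomain (A ⊗[k] K) := by
  rw [geometricallyIntegral_iff, geometrically_iff_of_commRing_of_isClosedUnderIsomorphisms]
  refine forall₃_congr fun K _ _ => ?_
  refine ⟨fun h => ?_, fun h => ?_⟩
  · haveI := @integral_of_iso _ _ (pullbackSpecIso k A K) h
    exact (affine_isIntegral_iff (CommRingCat.of (A ⊗[k] K))).1 inferInstance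
  · haveI := (affine_isIntegral_iff (CommRingCat.of (A ⊗[k] K))).2 h
    exact integral_of_iso (pullbackSpecIso k A K).symm

lemma irreducible_of_isDomain {n : ℕ} {K : Type u} [Field K] (G : MvPolynomial (Fin n) K) (hG : 0 < G.totalDegree)
    (h : IsDomain (MvPolynomial (Fin n) K ⧸ Ideal.span ({G} : Set (MvPolynomial (Fin n) K)))) : Irreducible G := by
  have hG0 : G ≠ 0 := by rintro rfl; simp at hG
  exact ((Ideal.span_singleton_prime hG0).1 ((Ideal.Quotient.isDomain_iff_prime _).1 h)).irreducible

lemma geomInt_of_alg_closed {n : ℕ} (L : Type u) [Field L] [IsAlgClosed L] (G : MvPolynomial (Fin n) L) (hG : Irreducible G)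
    (M : Type u) [Field M] [Algebra L M] : Irreducible (MvPolynomial.map (algebraMap L M) G) ∨ G.totalDegree = 0 := by
  rcases Nat.eq_zero_or_pos G.totalDegree with h0 | hpos
  · exact Or.inr h0
  left
  haveI : (Ideal.span ({G} : Set (MvPolynomial (Fin n) L))).IsPrime :=
    (Ideal.span_singleton_prime hG.ne_zero).2 hG.prime
  let A := MvPolynomial (Fin n) L ⧸ Ideal.span ({G} : Set (MvPolynomial (Fin n) L))
  haveI : IsDomain A := Ideal.Quotient.isDomain _
  haveI : Algebra.FiniteType L A := Algebra.FiniteType.quotient L _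
  let X : Over (Spec (CommRingCat.of L)) := Over.mk (Spec.map (CommRingCat.ofHom (algebraMap L A)))
  haveI : LocallyOfFiniteType X.hom := by
    show LocallyOfFiniteType (Spec.map (CommRingCat.ofHom (algebraMap L A)))
    rw [HasRingHomProperty.Spec_iff (P := @LocallyOfFiniteType)]
    exact RingHom.finiteType_algebraMap.2 inferInstance
  haveI : IsIntegral X.left := (affine_isIntegral_iff (CommRingCat.of A)).2 inferInstance
  have h : GeometricallyIntegral (Spec.map (CommRingCat.ofHom (algebraMap L A))) :=
    AlbLib.geometricallyIntegral_of_isIntegral X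
  refine irreducible_of_isDomain _ ?_ ((isDomain_quot_iff G M).1 ((geomInt_iff A).1 h M))
  rwa [MvPolynomial.totalDegree, MvPolynomial.support_map_of_injective _ (algebraMap L M).injective]

lemma irreducible_descend {n : ℕ} {K L : Type u} [Field K] [Field L] (i : K →+* L) (G : MvPolynomial (Fin n) K)
    (h : Irreducible (MvPolynomial.map i G)) : Irreducible G := by
  refine ⟨fun hu => h.not_isUnit (hu.map _), fun a b hab => ?_⟩
  have hm : MvPolynomial.map i G = MvPolynomial.map i a * MvPolynomial.map i b := by rw [hab, map_mul]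
  have key : ∀ c : MvPolynomial (Fin n) K, c ≠ 0 → IsUnit (MvPolynomial.map i c) → IsUnit c := by
    intro c hc hu
    rw [MvPolynomial.isUnit_iff_totalDegree_of_isReduced] at hu ⊢
    have hd : c.totalDegree = 0 := by
      have := hu.2
      rwa [MvPolynomial.totalDegree, MvPolynomial.support_map_of_injective _ i.injective] at this
    refine ⟨?_, hd⟩
    rw [isUnit_iff_ne_zero]
    intro h0
    apply hc
    rw [(MvPolynomial.totalDegree_eq_zero_iff_eq_C).1 hd, h0, map_zero]
  have hne : a ≠ 0 ∧ b ≠ 0 := mul_ne_zero_iff.1 (hab ▸ fun h0 => h.ne_zero (by rw [h0, map_zero]))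
  exact (h.isUnit_or_isUnit hm).imp (key a hne.1) (key b hne.2)

/-- Let k be a field, Ω an algebraically closed extension of k and F a non-constant polynomial in k[T_1,
…, T_n]. The following are equivalent: (a) the k-scheme Spec(k[T_1, …, T_n]/(F)) is geometrically
integral; (b) for every extension field K of k the image of F in K[T_1, …, T_n] is irreducible; (c)
the image of F in Ω[T_1, …, T_n] is irreducible. (Such an F is called geometrically irreducible.) -/
theorem result {k : Type u} [Field k] (Ω : Type u) [Field Ω] [Algebra k Ω]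
    [IsAlgClosed Ω] {n : ℕ} (F : MvPolynomial (Fin n) k) (hF : 0 < F.totalDegree) :
    List.TFAE [
      GeometricallyIntegral (Spec.map (CommRingCat.ofHom
        (algebraMap k (MvPolynomial (Fin n) k ⧸ Ideal.span ({F} : Set (MvPolynomial (Fin n) k)))))),
      ∀ (K : Type u) [Field K] [Algebra k K], Irreducible (MvPolynomial.map (algebraMap k K) F),
      Irreducible (MvPolynomial.map (algebraMap k Ω) F)] := by
  tfae_have 1 → 2 := by
    intro h K _ _
    refine irreducible_of_isDomain _ ?_ ((isDomain_quot_iff F K).1 ((geomInt_iff _).1 h K))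
    rwa [MvPolynomial.totalDegree, MvPolynomial.support_map_of_injective _ (algebraMap k K).injective]
  tfae_have 2 → 3 := fun h => h Ω
  tfae_have 3 → 1 := by
    intro h
    rw [geomInt_iff]
    intro K _ _
    obtain ⟨m, hm⟩ := Ideal.exists_maximal (K ⊗[k] Ω)
    letI : Field ((K ⊗[k] Ω) ⧸ m) := Ideal.Quotient.field m
    let L := (K ⊗[k] Ω) ⧸ m
    let iK : K →+* L := (Ideal.Quotient.mk m).comp (Algebra.TensorProduct.includeLeftRingHom)
    let iΩ : Ω →+* L := (Ideal.Quotient.mk m).comp (Algebra.TensorProduct.includeRight : Ω →ₐ[k] K ⊗[k] Ω).toRingHom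
    have hcomm : iK.comp (algebraMap k K) = iΩ.comp (algebraMap k Ω) := by
      ext x
      show Ideal.Quotient.mk m ((algebraMap k K x) ⊗ₜ[k] (1 : Ω)) = Ideal.Quotient.mk m ((1 : K) ⊗ₜ[k] algebraMap k Ω x)
      rw [Algebra.algebraMap_eq_smul_one, Algebra.algebraMap_eq_smul_one, TensorProduct.smul_tmul]
    have hirrL : Irreducible (MvPolynomial.map (iK.comp (algebraMap k K)) F) := by
      letI : Algebra Ω L := iΩ.toAlgebra
      rcases geomInt_of_alg_closed Ω (MvPolynomial.map (algebraMap k Ω) F) h L with h' | h'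
      · rw [MvPolynomial.map_map] at h'
        rw [hcomm]
        exact h'
      · exfalso
        rw [MvPolynomial.totalDegree, MvPolynomial.support_map_of_injective _ (algebraMap k Ω).injective] at h'
        exact hF.ne' h'
    rw [← MvPolynomial.map_map] at hirrL
    have hK : Irreducible (MvPolynomial.map (algebraMap k K) F) := irreducible_descend iK _ hirrL
    haveI : (Ideal.span ({MvPolynomial.map (algebraMap k K) F} : Set (MvPolynomial (Fin n) K))).IsPrime :=
      (Ideal.span_singleton_prime hK.ne_zero).2 hK.prime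
    exact (isDomain_quot_iff F K).2 (Ideal.Quotient.isDomain _)
  tfae_finish

end Groth.Agent.S4824
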