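import Groth.Statements.S4825
import Groth.Agent.S0385
import Mathlib.AlgebraicGeometry.ValuativeCriterion
import Mathlib.AlgebraicGeometry.Morphisms.QuasiFinite
import Mathlib.AlgebraicGeometry.Noetherian

set_option autoImplicit false
open CategoryTheory AlgebraicGeometry
universe u
open Lim8

namespace Groth.Agent.S4825

open CategoryTheory.Limits in
/-- Let Y be a Noetherian scheme and f : X ⟶ Y a morphism of finite type. Then f admits a factorization
into an immersion followed by a finite morphism if and only if, for every point y of Y, the base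
change X ×_Y Spec O_{Y,y} ⟶ Spec O_{Y,y} of f to the local scheme of Y at y admits such a
factorization. (Pointwise criterion for pseudo-finite morphisms.) -/
theorem result {X Y : Scheme.{u}} (f : X ⟶ Y) [IsNoetherian Y]
    [LocallyOfFiniteType f] [QuasiCompact f] :
    (∃ (Y' : Scheme.{u}) (f' : X ⟶ Y') (u : Y' ⟶ Y), IsImmersion f' ∧ IsFinite u ∧ f' ≫ u = f) ↔
      ∀ y : Y, ∃ (Z : Scheme.{u}) (g : pullback f (Y.fromSpecStalk y) ⟶ Z) (u : Z ⟶ Spec (Y.presheaf.stalk y)),
        IsImmersion g ∧ IsFinite u ∧ g ≫ u = pullback.snd f (Y.fromSpecStalk y) := by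
  refine ⟨fun ⟨Y', f', u, hf', hu, e⟩ y => ?_, fun h => ?_⟩
  · haveI := hf'
    haveI := hu
    let p := pullback.snd u (Y.fromSpecStalk y)
    let g : pullback f (Y.fromSpecStalk y) ⟶ pullback u (Y.fromSpecStalk y) :=
      pullback.lift (pullback.fst f (Y.fromSpecStalk y) ≫ f') (pullback.snd f (Y.fromSpecStalk y))
        (by rw [Category.assoc, e]; exact pullback.condition)
    have hg : IsPullback (pullback.fst f (Y.fromSpecStalk y)) g f' (pullback.fst u (Y.fromSpecStalk y)) :=
      IsPullback.of_bot (by rw [pullback.lift_snd, e]; exact IsPullback.of_hasPullback f _)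
        (pullback.lift_fst ..).symm (IsPullback.of_hasPullback u _)
    exact ⟨_, g, p, MorphismProperty.of_isPullback hg hf', inferInstance, pullback.lift_snd _ _ _⟩
  · choose Z g u hg hu e using h
    have hsep : ∀ y, IsSeparated (pullback.snd f (Y.fromSpecStalk y)) := fun y => by
      haveI := hg y; haveI := hu y; rw [← e y]; infer_instance
    have hqf : ∀ y, LocallyQuasiFinite (pullback.snd f (Y.fromSpecStalk y)) := fun y => by
      haveI := hg y; haveI := hu y; rw [← e y]; infer_instance
    haveI : LocallyQuasiFinite f := by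
      rw [locallyQuasiFinite_iff_finite_preimage_singleton]
      intro y
      haveI := hqf y
      let c : ↥(Spec (Y.presheaf.stalk y)) := IsLocalRing.closedPoint (Y.presheaf.stalk y)
      refine (((pullback.snd f (Y.fromSpecStalk y)).finite_preimage_singleton c).image
        (pullback.fst f (Y.fromSpecStalk y))).subset fun x hx => ?_
      obtain ⟨z, hz₁, hz₂⟩ := Scheme.Pullback.exists_preimage_pullback (f := f)
        (g := Y.fromSpecStalk y) x c (by rw [Scheme.fromSpecStalk_closedPoint]; exact hx)
      exact ⟨z, hz₂, hz₁⟩
    haveI : IsNoetherian X := by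
      haveI : IsLocallyNoetherian X := LocallyOfFiniteType.isLocallyNoetherian f
      haveI : CompactSpace X := QuasiCompact.compactSpace_of_compactSpace f
      constructor
    haveI : QuasiSeparated f := inferInstance
    haveI : IsSeparated f := IsSeparated.of_valuativeCriterion f fun S => ⟨fun l₁ l₂ => by
      let y := S.i₂ (IsLocalRing.closedPoint S.R)
      let φ : Spec (CommRingCat.of S.R) ⟶ Spec (Y.presheaf.stalk y) :=
        Spec.map (Scheme.stalkClosedPointTo S.i₂)
      have hφ : φ ≫ Y.fromSpecStalk y = S.i₂ := Scheme.Spec_stalkClosedPointTo_fromSpecStalk _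
      let i₁ : Spec (CommRingCat.of S.K) ⟶ pullback f (Y.fromSpecStalk y) :=
        pullback.lift S.i₁ (Spec.map (CommRingCat.ofHom (algebraMap S.R S.K)) ≫ φ)
          (by rw [Category.assoc, hφ]; exact S.commSq.w)
      let S' : ValuativeCommSq (pullback.snd f (Y.fromSpecStalk y)) :=
        { R := S.R, K := S.K, i₁ := i₁, i₂ := φ, commSq := ⟨pullback.lift_snd _ _ _⟩ }
      haveI := hsep y
      haveI := IsSeparated.valuativeCriterion (pullback.snd f (Y.fromSpecStalk y)) S'
      let mk : S.commSq.LiftStruct → S'.commSq.LiftStruct := fun l =>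
        { l := pullback.lift l.l φ (by rw [l.fac_right, hφ])
          fac_left := by
            apply pullback.hom_ext
            · rw [Category.assoc, pullback.lift_fst, l.fac_left]; exact (pullback.lift_fst _ _ _).symm
            · rw [Category.assoc, pullback.lift_snd]; exact (pullback.lift_snd _ _ _).symm
          fac_right := pullback.lift_snd _ _ _ }
      have h12 := congrArg (fun l => CommSq.LiftStruct.l l ≫ pullback.fst f (Y.fromSpecStalk y))
        (Subsingleton.elim (mk l₁) (mk l₂))
      simp only [mk, pullback.lift_fst] at h12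
      exact CommSq.LiftStruct.ext h12⟩
    obtain ⟨T, j, π, hj, -, hπ, hjπ⟩ := Groth.Agent.S0385.result f
    haveI := hj
    exact ⟨T, j, π, inferInstance, hπ, hjπ⟩

end Groth.Agent.S4825
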