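import Groth.Statements.S5863
import Groth.Agent.BirUnibLib.Radicial
-- import your own Groth.Agent.* helpers here

set_option autoImplicit false
universe u
open RadPt

namespace Groth.Agent.S5863

open CategoryTheory AlgebraicGeometry in
/-- Let f : X → Y and h : Y' → Y be morphisms of schemes, f' : X ×_Y Y' → Y' the base change of f (any
cartesian square), y' a point of Y' and y = h(y'). Then f is radicial at y if and only if f' is
radicial at y'. -/
theorem result {X Y X' Y' : Scheme.{u}} {f : X ⟶ Y} {h : Y' ⟶ Y} {f' : X' ⟶ Y'} {h' : X' ⟶ X}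
    (sq : IsPullback h' f' f h) (y' : Y') :
    RadPt.IsRadicialAt f (h y') ↔ RadPt.IsRadicialAt f' y' := by
  simp only [BirUnibLib.isRadicialAt_iff]
  refine ⟨fun hf K _ g₁ g₂ he hy => ?_, fun hf K _ g₁ g₂ he hy => ?_⟩
  · refine sq.hom_ext (hf K _ _ ?_ fun s => ?_) he
    · simp only [Category.assoc, sq.w]
      rw [← Category.assoc, he, Category.assoc]
    · rw [← Scheme.Hom.comp_apply, Category.assoc, sq.w, Scheme.Hom.comp_apply, Scheme.Hom.comp_apply, hy]
  · have hp : (g₁ ≫ f) (IsLocalRing.closedPoint K) = h y' := hy _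
    obtain ⟨L, hL, i, g', hg', hs⟩ := BirUnibLib.exists_lift h (g₁ ≫ f) y' hp
    refine BirUnibLib.cancel_field i _ _ ?_
    have e₂ : (Spec.map (CommRingCat.ofHom i) ≫ g₂) ≫ f = g' ≫ h := by
      rw [hg', Category.assoc, he]
    have e₁ : (Spec.map (CommRingCat.ofHom i) ≫ g₁) ≫ f = g' ≫ h := by rw [hg', Category.assoc]
    have e := hf L (sq.lift _ g' e₁) (sq.lift _ g' e₂) (by rw [sq.lift_snd, sq.lift_snd]) fun s => by
      rw [← Scheme.Hom.comp_apply, sq.lift_snd, hs]
    rw [← sq.lift_fst _ g' e₁, ← sq.lift_fst _ g' e₂, e]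

end Groth.Agent.S5863
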