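import Groth.Statements.S4826
import Groth.Agent.HenselBranchLib.NormTensor
import Groth.Agent.BirUnibLib.Scheme
import Groth.Agent.ApproxLib.ChartPoint
import Groth.Agent.S5863
import Groth.Agent.S3444
-- import your own Groth.Agent.* helpers here

set_option autoImplicit false
open CategoryTheory AlgebraicGeometry
universe u
open Cons9

namespace Groth.Agent.S4826

open CategoryTheory CategoryTheory.Limits AlgebraicGeometry

theorem disjoint_minimalPrimes_nzd {B : Type u} [CommRing B] (P : Ideal B) (hP : P ∈ minimalPrimes B) (b : B)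
    (hb : b ∈ P) : b ∉ nonZeroDivisors B :=
  notMem_nonZeroDivisors_of_mem_mem_minimalPrimes hb hP

set_option backward.isDefEq.respectTransparency false in
theorem stalk_iff {R : Type u} [CommRing R] (p : PrimeSpectrum R) :
    CAlg2.IsGeomUnibranch ((Spec (CommRingCat.of R)).presheaf.stalk (p : Spec (CommRingCat.of R))) ↔
      CAlg2.IsGeomUnibranch (Localization.AtPrime p.asIdeal) := by
  letI : Algebra R ((Spec (CommRingCat.of R)).presheaf.stalk (p : Spec (CommRingCat.of R))) := StructureSheaf.stalkAlgebra R p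
  haveI : IsLocalization.AtPrime ((Spec (CommRingCat.of R)).presheaf.stalk (p : Spec (CommRingCat.of R))) p.asIdeal :=
    StructureSheaf.IsLocalization.to_stalk R p
  let e := (IsLocalization.algEquiv p.asIdeal.primeCompl ((Spec (CommRingCat.of R)).presheaf.stalk (p : Spec (CommRingCat.of R)))
    (Localization.AtPrime p.asIdeal)).toRingEquiv
  exact ⟨BirUnibLib.isGeomUnibranch_of_ringEquiv e, BirUnibLib.isGeomUnibranch_of_ringEquiv e.symm⟩

set_option backward.isDefEq.respectTransparency false in
theorem stalk_iff' {X : Scheme.{u}} {U : X.Opens} (hU : IsAffineOpen U) {x : X} (hx : x ∈ U) :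
    CAlg2.IsGeomUnibranch (X.presheaf.stalk x) ↔
      CAlg2.IsGeomUnibranch ((Spec (CommRingCat.of Γ(X, U))).presheaf.stalk (hU.primeIdealOf ⟨x, hx⟩)) := by
  rw [stalk_iff]
  letI := TopCat.Presheaf.algebra_section_stalk X.presheaf (⟨x, hx⟩ : U)
  haveI := hU.isLocalization_stalk ⟨x, hx⟩
  let e := (IsLocalization.algEquiv (hU.primeIdealOf ⟨x, hx⟩).asIdeal.primeCompl (X.presheaf.stalk x)
    (Localization.AtPrime (hU.primeIdealOf ⟨x, hx⟩).asIdeal)).toRingEquiv
  exact ⟨BirUnibLib.isGeomUnibranch_of_ringEquiv e, BirUnibLib.isGeomUnibranch_of_ringEquiv e.symm⟩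

set_option backward.isDefEq.respectTransparency false in
/-- The normalization of the reduction is birational. -/
theorem bir_normRed (A : Type u) [CommRing A] (hfin : (minimalPrimes A).Finite) :
    BirUnibLib.Bir A (CAlg2.normRed A) := by
  classical
  have hN := HenselBranchLib.isNormRed_normRed A hfin
  haveI := hN.isIntegral
  have hnzd : ∀ p ∈ minimalPrimes A, ∀ n : A, Ideal.Quotient.mk (nilradical A) n ∈ nonZeroDivisors (CAlg2.red A) →
      n ∉ p := fun p hp n hn hnp => by
    have hp' : p ∈ (nilradical A).minimalPrimes := by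
      rw [nilradical, Ideal.zero_eq_bot, Ideal.radical_minimalPrimes]; exact hp
    rw [Ideal.minimalPrimes_eq_comap] at hp'
    obtain ⟨q, hq, rfl⟩ := hp'
    exact notMem_nonZeroDivisors_of_mem_mem_minimalPrimes (Ideal.mem_comap.1 hnp) hq hn
  have hker : ∀ (P : Ideal (CAlg2.normRed A)), Ideal.comap (algebraMap A (CAlg2.normRed A)) P ∈ minimalPrimes A →
      ∀ n : A, Ideal.Quotient.mk (nilradical A) n ∈ nonZeroDivisors (CAlg2.red A) →
      algebraMap A (CAlg2.normRed A) n ∉ P := fun P hP n hn hnP => hnzd _ hP n hn hnP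
  refine ⟨fun P hP => ?_, fun P P' hP hP' hm he => ?_, fun p hp => ?_, fun P hP hm b => ?_⟩
  · haveI := hP.1.1
    have hsub : (Ideal.comap (algebraMap A (CAlg2.normRed A)) P : Set A) ⊆
        ⋃ p ∈ (hfin.toFinset : Set (Ideal A)), (p : Set A) := fun a ha => by
      by_contra hno
      simp only [Set.Finite.coe_toFinset, Set.mem_iUnion, exists_prop, not_exists, not_and] at hno
      have hn : Ideal.Quotient.mk (nilradical A) a ∈ nonZeroDivisors (CAlg2.red A) :=
        mem_nonZeroDivisors_iff_right.2 fun y hy => by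
          obtain ⟨y, rfl⟩ := Ideal.Quotient.mk_surjective y
          rw [← map_mul, Ideal.Quotient.eq_zero_iff_mem] at hy
          rw [Ideal.Quotient.eq_zero_iff_mem]
          show y ∈ (⊥ : Ideal A).radical
          rw [← Ideal.sInf_minimalPrimes, Ideal.mem_sInf]
          intro p hp
          haveI := hp.1.1
          exact (hp.1.1.mem_or_mem (nilradical_le_prime p hy)).resolve_right (hno p hp)
      exact disjoint_minimalPrimes_nzd P hP (algebraMap A (CAlg2.normRed A) a) ha (hN.nzd a hn)
    obtain ⟨p, hp, hle⟩ := (Ideal.subset_union_prime ⊥ ⊥ fun p hp _ _ => ((hfin.mem_toFinset).1 hp).1.1).1 hsub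
    rw [Set.Finite.mem_toFinset] at hp
    rwa [le_antisymm hle (hp.2 ⟨Ideal.IsPrime.comap _, bot_le⟩ hle)]
  · refine le_antisymm (fun b hb => ?_) fun b hb => ?_
    · obtain ⟨n, a, hn, hnb⟩ := hN.frac b
      refine (hP'.mem_or_mem ?_).resolve_left (hker P' (he ▸ hm) n hn)
      rw [hnb]
      exact (SetLike.ext_iff.1 he a).1 (show algebraMap A _ a ∈ P from hnb ▸ P.mul_mem_left _ hb)
    · obtain ⟨n, a, hn, hnb⟩ := hN.frac b
      refine (hP.mem_or_mem ?_).resolve_left (hker P hm n hn)
      rw [hnb]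
      exact (SetLike.ext_iff.1 he a).2 (show algebraMap A _ a ∈ P' from hnb ▸ P'.mul_mem_left _ hb)
  · haveI := hp.1.1
    obtain ⟨Q, -, hQ, hQp⟩ := Ideal.exists_ideal_over_prime_of_isIntegral p (⊥ : Ideal (CAlg2.normRed A))
      (by rw [← RingHom.ker_eq_comap_bot, hN.ker_le]; exact nilradical_le_prime p)
    exact ⟨Q, hQ, hQp⟩
  · obtain ⟨n, a, hn, hnb⟩ := hN.frac b
    exact ⟨a, n, hker P hm n hn, by rw [hnb, sub_self]; exact zero_mem _⟩

set_option backward.isDefEq.respectTransparency false in
theorem spec_case (A : Type u) [CommRing A] [IsNoetherianRing A]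
    (hfin : Module.Finite (CAlg2.red A) (CAlg2.normRed A)) :
    Topology.IsLocallyConstructible {y : Spec (CommRingCat.of A) |
      CAlg2.IsGeomUnibranch ((Spec (CommRingCat.of A)).presheaf.stalk y)} := by
  have hm := minimalPrimes.finite_of_isNoetherianRing A
  have hbir := bir_normRed A hm
  haveI : Module.Finite A (CAlg2.normRed A) := Module.Finite.trans (CAlg2.red A) _
  let φ : CommRingCat.of A ⟶ CommRingCat.of (CAlg2.normRed A) := CommRingCat.ofHom (algebraMap A (CAlg2.normRed A))
  let f := Spec.map φ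
  haveI : IsFinite f := (IsFinite.SpecMap_iff φ).2 (RingHom.finite_algebraMap.2 inferInstance)
  have hgen : ∀ (R : Type u) [CommRing R] (x : Spec (CommRingCat.of R)),
      x ∈ genericPoints (Spec (CommRingCat.of R)) ↔ x.asIdeal ∈ minimalPrimes R := fun R _ x => by
    rw [BirUnibLib.genericPoints_iff]
    constructor
    · intro h
      refine ⟨⟨x.isPrime, bot_le⟩, fun q hq hle => ?_⟩
      have h0 : (⟨q, hq.1⟩ : PrimeSpectrum R) = x :=
        h ⟨q, hq.1⟩ ((PrimeSpectrum.le_iff_specializes (⟨q, hq.1⟩ : PrimeSpectrum R) x).1 hle)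
      exact (congrArg PrimeSpectrum.asIdeal h0).symm.le
    · intro h y hy
      refine PrimeSpectrum.ext ?_
      have h1 : y.asIdeal ≤ x.asIdeal := (PrimeSpectrum.le_iff_specializes (y : PrimeSpectrum R) x).2 hy
      exact le_antisymm h1 (h.2 ⟨y.isPrime, bot_le⟩ h1)
  have hf : RadPt.IsBirational f := by
    refine ⟨⟨fun x hx => (hgen A _).2 (hbir.min _ ((hgen _ x).1 hx)), fun x hx y hy e => ?_, fun y hy => ?_⟩,
      fun y hy => ⟨fun x x' hx hx' => ?_, fun x hx => ?_⟩⟩
    · exact PrimeSpectrum.ext (hbir.uniq _ _ x.isPrime y.isPrime (hbir.min _ ((hgen _ x).1 hx))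
        (congrArg PrimeSpectrum.asIdeal e))
    · obtain ⟨Q, hQ, hQy⟩ := hbir.surj _ ((hgen A y).1 hy)
      exact ⟨⟨Q, hQ⟩, (hgen _ _).2 (hbir.mem_minimalPrimes hQ (hQy ▸ (hgen A y).1 hy)), PrimeSpectrum.ext hQy⟩
    · subst hx
      exact PrimeSpectrum.ext (hbir.uniq _ _ x.isPrime x'.isPrime ((hgen A _).1 hy)
        (congrArg PrimeSpectrum.asIdeal hx').symm)
    · subst hx
      refine ApproxLib.residueFieldMap_bijective_specMap φ x fun e => ?_
      obtain ⟨a, s, hs, hz⟩ := hbir.res _ x.isPrime ((hgen A _).1 hy) e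
      exact ⟨a, s, hs, by rw [mul_comm]; exact hz⟩
  have hX : ∀ x : Spec (CommRingCat.of (CAlg2.normRed A)),
      CAlg2.IsGeomUnibranch ((Spec (CommRingCat.of (CAlg2.normRed A))).presheaf.stalk x) :=
    fun (x : PrimeSpectrum (CAlg2.normRed A)) => by
      obtain ⟨h1, h2⟩ := (HenselBranchLib.isNormRed_normRed A hm).normal x.asIdeal
      exact (stalk_iff x).2 (BranchLib.isGeomUnibranch_of_isIntegrallyClosed (Localization.AtPrime x.asIdeal))
  haveI : LocallyOfFinitePresentation (f ≫ 𝟙 _) := by
    rw [Category.comp_id]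
    exact HasRingHomProperty.Spec_iff.2 (RingHom.FinitePresentation.of_finiteType.1
      (RingHom.finiteType_algebraMap.2 inferInstance))
  have key := Groth.Agent.S3444.result f (𝟙 (Spec (CommRingCat.of A)))
  convert key using 1
  ext y
  rw [Set.mem_ofPred_eq, Set.mem_ofPred_eq, BirUnibLib.isGeomUnibranch_stalk_iff f hf y,
    and_iff_left fun x _ => hX x]
  let σ := (Spec (CommRingCat.of A)).fromSpecResidueField y
  haveI : IsIso (pullback.snd (𝟙 (Spec (CommRingCat.of A))) σ) := inferInstance
  rw [← MorphismProperty.cancel_right_of_respectsIso @UniversallyInjective _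
    (pullback.snd (𝟙 (Spec (CommRingCat.of A))) σ), pullback.lift_snd]
  have hsq := (IsPullback.of_hasPullback (f ≫ 𝟙 _) σ)
  have hy : σ (IsLocalRing.closedPoint _) = y := Scheme.fromSpecResidueField_apply _ _
  have h63 := Groth.Agent.S5863.result hsq (IsLocalRing.closedPoint _)
  rw [hy, show RadPt.IsRadicialAt (f ≫ 𝟙 _) y ↔ RadPt.IsRadicialAt f y by rw [Category.comp_id]] at h63
  rw [h63, ((tfae_universallyInjective _).out 0 2 :)]
  haveI : Subsingleton ↥(Spec ((Spec (CommRingCat.of A)).residueField y)) :=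
    inferInstanceAs (Subsingleton (PrimeSpectrum _))
  exact ⟨fun h => ⟨fun a b _ => h.1 a b (Subsingleton.elim _ _) (Subsingleton.elim _ _), fun a => h.2 a (Subsingleton.elim _ _)⟩,
    fun h => ⟨fun a b ha hb => h.1 (ha.trans hb.symm), fun a _ => h.2 a⟩⟩

/-- Let X be a locally Noetherian scheme whose reduction has a normalization finite over X: for every
affine open U of X, the integral closure of Γ(U)_red in its total ring of fractions is a finite
module over Γ(U)_red. Then the set of points x of X at which X is geometrically unibranch (the local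
ring O_{X,x} is geometrically unibranch) is locally constructible in X. -/
theorem result (X : Scheme.{u}) [IsLocallyNoetherian X]
    (hfin : ∀ U : X.affineOpens, Module.Finite (CAlg2.red Γ(X, U.1)) (CAlg2.normRed Γ(X, U.1))) :
    Topology.IsLocallyConstructible {x : X | CAlg2.IsGeomUnibranch (X.presheaf.stalk x)} := by
  refine .of_isOpenCover (U := fun U : X.affineOpens => U.1) (iSup_affineOpens_eq_top X) fun U => ?_
  haveI : IsNoetherianRing Γ(X, U.1) := IsLocallyNoetherian.component_noetherian U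
  have h := (spec_case Γ(X, U.1) (hfin U)).preimage_of_isOpenEmbedding U.2.isoSpec.hom.isOpenEmbedding
  have e : ((↑) : (U.1 : Set X) → X) ⁻¹' {x : X | CAlg2.IsGeomUnibranch (X.presheaf.stalk x)} =
      U.2.isoSpec.hom ⁻¹' {y | CAlg2.IsGeomUnibranch ((Spec (CommRingCat.of Γ(X, U.1))).presheaf.stalk y)} := by
    refine Set.ext fun x => ?_
    exact stalk_iff' U.2 x.2
  rw [e]
  exact h

end Groth.Agent.S4826
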