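import Groth.Statements.S4830
import Mathlib
import Groth.Agent.AmpleExtLib.Main
import Groth.Agent.AmpleLib.Ample
import Groth.Agent.S4360
import Groth.Agent.S4381
import Groth.Agent.S2330
import Groth.Agent.S0081
-- import your own Groth.Agent.* helpers here

set_option autoImplicit false
open CategoryTheory AlgebraicGeometry
universe u
open Cons9

namespace Groth.Agent.S4830

open CategoryTheory.Limits in
/-- Let k be a field, X a scheme over k and K an extension field of k. If the base change X ⊗_k K admits
an immersion over K into a projective space P^n_K (X ⊗_k K is quasi-projective over K), then X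
admits an immersion over k into some projective space P^n_k (X is quasi-projective over k). This is
the quasi-projective case (projective spaces are Proj of polynomial rings base-changed to the base;
the base change X ⊗_k K is the chosen fibre product). -/
theorem result {k : Type u} [Field k] {X : Scheme.{u}}
    (p : X ⟶ Spec (CommRingCat.of k)) (K : Type u) [Field K] [Algebra k K]
    (h : ∃ (n : ℕ) (i : pullback p (Spec.map (CommRingCat.ofHom (algebraMap k K))) ⟶ CohB1.ProjSpaceOver n (Spec (CommRingCat.of K))),
      IsImmersion i ∧ i ≫ CohB1.ProjSpaceOver.toBase n (Spec (CommRingCat.of K)) = pullback.snd p (Spec.map (CommRingCat.ofHom (algebraMap k K)))) :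
    ∃ (n : ℕ) (i : X ⟶ CohB1.ProjSpaceOver n (Spec (CommRingCat.of k))),
      IsImmersion i ∧ i ≫ CohB1.ProjSpaceOver.toBase n (Spec (CommRingCat.of k)) = p := by
  obtain ⟨n, i, hi, he⟩ := h
  let q := Spec.map (CommRingCat.ofHom (algebraMap k K))
  haveI : IsImmersion i := hi
  haveI := ChowLib.isProper_toBase n (Spec (CommRingCat.of K))
  haveI : IsLocallyNoetherian (CohB1.ProjSpaceOver n (Spec (CommRingCat.of K))) :=
    LocallyOfFiniteType.isLocallyNoetherian (CohB1.ProjSpaceOver.toBase n _)
  haveI : CompactSpace (CohB1.ProjSpaceOver n (Spec (CommRingCat.of K))) :=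
    QuasiCompact.compactSpace_of_compactSpace (CohB1.ProjSpaceOver.toBase n (Spec (CommRingCat.of K)))
  haveI : IsNoetherian (CohB1.ProjSpaceOver n (Spec (CommRingCat.of K))) := ⟨⟩
  haveI : QuasiCompact i := Groth.Agent.S4360.result i fun y => ⟨⊤, trivial, TopologicalSpace.NoetherianSpace.set _⟩
  obtain ⟨h1, h2, L', hL'⟩ := AmpleLib.isQuasiProjective_of_immersion i he
  haveI : LocallyOfFiniteType (pullback.snd p q) := h1
  haveI : QuasiCompact (pullback.snd p q) := h2
  haveI : IsSeparated (pullback.snd p q) := by rw [← he]; infer_instance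
  have hA : CohB1.IsAmple L' := (Groth.Agent.S4381.result (pullback.snd p q) L').mp hL'
  obtain ⟨M, hM⟩ := AmpleExtLib.exists_isAmple_of_pullback p K hA
  haveI : CompactSpace X := hM.2.1
  obtain ⟨hq1, hq2⟩ := AmpleExtLib.specMap_flat_surjective (k := k) K
  have hq : (@Surjective ⊓ @Flat ⊓ @QuasiCompact : MorphismProperty Scheme.{u}) q :=
    ⟨⟨hq2, hq1⟩, inferInstance⟩
  haveI : LocallyOfFiniteType p :=
    MorphismProperty.of_pullback_snd_of_descendsAlong (P := @LocallyOfFiniteType) (Q := @Surjective ⊓ @Flat ⊓ @QuasiCompact) (f := p) (g := q) hq h1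
  haveI : MorphismProperty.DescendsAlong @IsSeparated (@Surjective ⊓ @Flat ⊓ @QuasiCompact : MorphismProperty Scheme.{u}) :=
    Groth.Agent.S0081.result
  haveI : IsSeparated p :=
    MorphismProperty.of_pullback_snd_of_descendsAlong (P := @IsSeparated) (Q := @Surjective ⊓ @Flat ⊓ @QuasiCompact) (f := p) (g := q) hq inferInstance
  haveI : QuasiCompact p := inferInstance
  obtain ⟨m, -, N, j, hj, hje, -⟩ := (Groth.Agent.S2330.result p M hM.1).1.1 hM
  exact ⟨N, j, hj, hje⟩

end Groth.Agent.S4830
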