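import Groth.Statements.S4829
import Mathlib
import Groth.Agent.S4830
import Groth.Agent.S0086
-- import your own Groth.Agent.* helpers here

set_option autoImplicit false
open CategoryTheory AlgebraicGeometry
universe u
open Cons9

namespace Groth.Agent.S4829

open CategoryTheory.Limits in
/-- Let k be a field, X a scheme over k and K an extension field of k. If the base change X ⊗_k K admits
a closed immersion over K into a projective space P^n_K (X ⊗_k K is projective over K), then X
admits a closed immersion over k into some projective space P^n_k (X is projective over k). This is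
the projective case (projective spaces are Proj of polynomial rings base-changed to the base; the
base change X ⊗_k K is the chosen fibre product). -/
theorem result {k : Type u} [Field k] {X : Scheme.{u}}
    (p : X ⟶ Spec (CommRingCat.of k)) (K : Type u) [Field K] [Algebra k K]
    (h : ∃ (n : ℕ) (i : pullback p (Spec.map (CommRingCat.ofHom (algebraMap k K))) ⟶ CohB1.ProjSpaceOver n (Spec (CommRingCat.of K))),
      IsClosedImmersion i ∧ i ≫ CohB1.ProjSpaceOver.toBase n (Spec (CommRingCat.of K)) = pullback.snd p (Spec.map (CommRingCat.ofHom (algebraMap k K)))) :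
    ∃ (n : ℕ) (i : X ⟶ CohB1.ProjSpaceOver n (Spec (CommRingCat.of k))),
      IsClosedImmersion i ∧ i ≫ CohB1.ProjSpaceOver.toBase n (Spec (CommRingCat.of k)) = p := by
  obtain ⟨n, i, hi, he⟩ := h
  let q := Spec.map (CommRingCat.ofHom (algebraMap k K))
  haveI : IsClosedImmersion i := hi
  obtain ⟨N, j, hj, hje⟩ := Groth.Agent.S4830.result p K ⟨n, i, inferInstance, he⟩
  obtain ⟨hq1, hq2⟩ := AmpleExtLib.specMap_flat_surjective (k := k) K
  have hq : (@Surjective ⊓ @Flat ⊓ @QuasiCompact : MorphismProperty Scheme.{u}) q :=
    ⟨⟨hq2, hq1⟩, inferInstance⟩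
  haveI := ChowLib.isProper_toBase n (Spec (CommRingCat.of K))
  haveI := ChowLib.isProper_toBase N (Spec (CommRingCat.of k))
  haveI : IsProper (pullback.snd p q) := by rw [← he]; infer_instance
  haveI : MorphismProperty.DescendsAlong @IsProper (@Surjective ⊓ @Flat ⊓ @QuasiCompact : MorphismProperty Scheme.{u}) :=
    Groth.Agent.S0086.result
  haveI : IsProper p :=
    MorphismProperty.of_pullback_snd_of_descendsAlong (P := @IsProper) (Q := @Surjective ⊓ @Flat ⊓ @QuasiCompact) (f := p) (g := q) hq inferInstance
  haveI : IsImmersion j := hj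
  haveI : IsProper (j ≫ CohB1.ProjSpaceOver.toBase N (Spec (CommRingCat.of k))) := hje ▸ (inferInstance : IsProper p)
  haveI : IsProper j := IsProper.of_comp j (CohB1.ProjSpaceOver.toBase N (Spec (CommRingCat.of k)))
  exact ⟨N, j, IsClosedImmersion.of_isPreimmersion j j.isClosedMap.isClosed_range, hje⟩

end Groth.Agent.S4829
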