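import Groth.Statements.S4833
import Groth.Agent.FibFlatConsLib.Locus
import Groth.Agent.ProConsLib.Top
import Groth.Agent.DepthLib.NoEmbLoci

set_option autoImplicit false
open CategoryTheory AlgebraicGeometry
universe u
open Cons9

namespace Groth.Agent.S4833

open CategoryTheory.Limits in
/-- Let S be an integral Noetherian scheme with generic point η, let g : X ⟶ Y be an S-morphism between
schemes of finite type over S (structure morphisms h : Y ⟶ S and g ≫ h), and let F be a coherent
O_X-module. For s in S write g_s : X_s ⟶ Y_s for the morphism induced on the fibres over s and F_s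
for the pullback of F to X_s. If F_η is not flat relative to g_η (not flat over O_{Y_η, g_η(x)} at
some point x of X_η), then there is an open neighbourhood U of η such that for every s in U the
module F_s is not flat relative to g_s. -/
theorem result {X Y S : Scheme.{u}} [IsIntegral S] [IsNoetherian S]
    (g : X ⟶ Y) (h : Y ⟶ S) [LocallyOfFiniteType h] [QuasiCompact h]
    [LocallyOfFiniteType (g ≫ h)] [QuasiCompact (g ≫ h)]
    (F : X.Modules) [Coh.IsQCoh F] (hF : CohB1.IsFP F)
    (hη : ¬ FlatMod.IsFlatOver
      (pullback.lift (pullback.fst (g ≫ h) (S.fromSpecResidueField (genericPoint S)) ≫ g)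
          (pullback.snd (g ≫ h) (S.fromSpecResidueField (genericPoint S)))
          ((Category.assoc _ _ _).trans pullback.condition) :
        pullback (g ≫ h) (S.fromSpecResidueField (genericPoint S)) ⟶ pullback h (S.fromSpecResidueField (genericPoint S)))
      ((Scheme.Modules.pullback (pullback.fst (g ≫ h) (S.fromSpecResidueField (genericPoint S)))).obj F)) :
    ∃ U : S.Opens, genericPoint S ∈ U ∧ ∀ s ∈ U, ¬ FlatMod.IsFlatOver
      (pullback.lift (pullback.fst (g ≫ h) (S.fromSpecResidueField s) ≫ g) (pullback.snd (g ≫ h) (S.fromSpecResidueField s))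
          ((Category.assoc _ _ _).trans pullback.condition) :
        pullback (g ≫ h) (S.fromSpecResidueField s) ⟶ pullback h (S.fromSpecResidueField s))
      ((Scheme.Modules.pullback (pullback.fst (g ≫ h) (S.fromSpecResidueField s))).obj F) := by
  haveI : LocallyOfFinitePresentation (g ≫ h) := inferInstance
  haveI : LocallyOfFinitePresentation h := inferInstance
  have hsq : ∀ s : S, IsPullback (pullback.fst (g ≫ h) (S.fromSpecResidueField s))
      (pullback.lift (pullback.fst (g ≫ h) (S.fromSpecResidueField s) ≫ g) (pullback.snd (g ≫ h) (S.fromSpecResidueField s))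
          ((Category.assoc _ _ _).trans pullback.condition) :
        pullback (g ≫ h) (S.fromSpecResidueField s) ⟶ pullback h (S.fromSpecResidueField s))
      g (pullback.fst h (S.fromSpecResidueField s)) := fun s => by
    refine IsPullback.of_bot ?_ (pullback.lift_fst _ _ _).symm (IsPullback.of_hasPullback h (S.fromSpecResidueField s))
    rw [pullback.lift_snd]
    exact IsPullback.of_hasPullback (g ≫ h) _
  have hpt : ∀ (s : S) (x' : ↥(pullback (g ≫ h) (S.fromSpecResidueField s))),
      h (g (pullback.fst (g ≫ h) (S.fromSpecResidueField s) x')) = s := fun s x' => by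
    have h1 : (g ≫ h) (pullback.fst (g ≫ h) (S.fromSpecResidueField s) x') ∈ Set.range (S.fromSpecResidueField s) := by
      rw [← Scheme.Hom.comp_apply, pullback.condition, Scheme.Hom.comp_apply]
      exact ⟨_, rfl⟩
    rw [S.range_fromSpecResidueField] at h1
    exact Set.mem_singleton_iff.mp h1
  let E : Set S := (g ≫ h).base '' {x | FibFlatConsLib.FibFlatAt g h F x}ᶜ
  have hE : Topology.IsLocallyConstructible E :=
    (g ≫ h).isLocallyConstructible_image
      (Groth.Agent.ProConsLib.isLocallyConstructible_compl (FibFlatConsLib.locus g h F hF).1)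
  have hmem : genericPoint S ∈ E := by
    by_contra hη'
    refine hη fun x' => ?_
    refine (FibFlatConsLib.fibFlatAt_iff_square g h F (Field.toIsField _) (IsPullback.of_hasPullback h _) (hsq _) x').mp ?_
    by_contra hx
    exact hη' ⟨_, hx, hpt _ x'⟩
  obtain ⟨U, h1, h2⟩ := DepthLib.exists_opens_subset_of_genericPoint_mem hE hmem
  refine ⟨U, h1, fun s hs hflat => ?_⟩
  obtain ⟨x, hx, hxs⟩ := h2 hs
  obtain ⟨x', rfl⟩ : x ∈ Set.range (pullback.fst (g ≫ h) (S.fromSpecResidueField s)) := by
    rw [Scheme.Pullback.range_fst, S.range_fromSpecResidueField]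
    exact hxs
  exact hx ((FibFlatConsLib.fibFlatAt_iff_square g h F (Field.toIsField _) (IsPullback.of_hasPullback h _) (hsq _) x').mpr
    (hflat x'))

end Groth.Agent.S4833
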