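import Groth.Statements.S4834
import Mathlib.Algebra.Category.ModuleCat.FilteredColimits
import Mathlib.CategoryTheory.Limits.ConcreteCategory.Basic

-- import your own Groth.Agent.* helpers here

set_option autoImplicit false
open CategoryTheory CategoryTheory.Limits
universe u
open Lim8

namespace Groth.Agent.S4834

/-- Let A be a commutative ring, M an A-module of finite type and (N_λ) an inductive system of A-modules
indexed by a nonempty directed preordered set. Then the canonical map colim_λ Hom_A(M, N_λ) →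
Hom_A(M, colim_λ N_λ), sending a compatible system of homomorphisms to its inductive limit, is
injective. This is the finite type case, in the form its proof gives. -/
theorem result {A : Type u} [CommRing A] (M : ModuleCat.{u} A)
    [Module.Finite A M] {J : Type u} [Preorder J] [IsDirected J (· ≤ ·)] [Nonempty J]
    (N : J ⥤ ModuleCat.{u} A) :
    Function.Injective (colimit.post N (coyoneda.obj (Opposite.op M))) := by
  classical
  intro a b hab
  obtain ⟨i, φ, rfl⟩ := Types.jointly_surjective' a
  obtain ⟨j, ψ, rfl⟩ := Types.jointly_surjective' b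
  have key : ∀ (i : J) (φ : (N ⋙ coyoneda.obj (Opposite.op M)).obj i),
      colimit.post N (coyoneda.obj (Opposite.op M)) (colimit.ι (N ⋙ coyoneda.obj (Opposite.op M)) i φ)
        = (φ ≫ colimit.ι N i : M ⟶ colimit N) := fun i φ =>
    ConcreteCategory.congr_hom (colimit.ι_post N (coyoneda.obj (Opposite.op M)) i) φ
  rw [key, key] at hab
  let φ' : M ⟶ N.obj i := φ
  let ψ' : M ⟶ N.obj j := ψ
  obtain ⟨s, hs⟩ := Module.Finite.fg_top (R := A) (M := M)
  have hx : ∀ x : s, ∃ k : J, ∃ (hik : i ≤ k) (hjk : j ≤ k),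
      N.map (homOfLE hik) (φ' x.1) = N.map (homOfLE hjk) (ψ' x.1) := by
    intro x
    obtain ⟨k, f, g, hk⟩ := CategoryTheory.Limits.Concrete.colimit_exists_of_rep_eq N _ _
      (ConcreteCategory.congr_hom hab x.1)
    exact ⟨k, leOfHom f, leOfHom g, hk⟩
  choose k hik hjk hk using hx
  obtain ⟨l₀, hl₀⟩ := (Finset.univ.image k).exists_le
  obtain ⟨l, hl, hil⟩ := directed_of (· ≤ ·) l₀ i
  obtain ⟨m, hm, hjm⟩ := directed_of (· ≤ ·) l j
  have him : i ≤ m := hil.trans hm
  refine (Types.FilteredColimit.colimit_eq_iff _).2 ⟨m, homOfLE him, homOfLE hjm, ?_⟩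
  show φ' ≫ N.map (homOfLE him) = ψ' ≫ N.map (homOfLE hjm)
  apply ModuleCat.hom_ext
  apply LinearMap.ext_on hs
  intro x hxs
  have hkm : k ⟨x, hxs⟩ ≤ m :=
    (hl₀ _ (Finset.mem_image_of_mem k (Finset.mem_univ _))).trans (hl.trans hm)
  have e1 := congrArg (N.map (homOfLE hkm)) (hk ⟨x, hxs⟩)
  have hmap : ∀ {a b c : J} (h1 : a ≤ b) (h2 : b ≤ c) (y : N.obj a),
      N.map (homOfLE h2) (N.map (homOfLE h1) y) = N.map (homOfLE (h1.trans h2)) y := by
    intro a b c h1 h2 y
    rw [← ConcreteCategory.comp_apply, ← Functor.map_comp]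
    rfl
  rw [hmap, hmap] at e1
  exact e1

end Groth.Agent.S4834
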