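import Groth.Statements.S4835
import Mathlib.Algebra.Category.ModuleCat.FilteredColimits
import Mathlib.CategoryTheory.Limits.ConcreteCategory.Basic
import Groth.Agent.S4834
-- import your own Groth.Agent.* helpers here

set_option autoImplicit false
open CategoryTheory CategoryTheory.Limits
universe u
open Lim8

namespace Groth.Agent.S4835

/-- Let A be a commutative ring, M an A-module of finite presentation and (N_λ) an inductive system of
A-modules indexed by a nonempty directed preordered set. Then the canonical map colim_λ Hom_A(M,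
N_λ) → Hom_A(M, colim_λ N_λ), sending a compatible system of homomorphisms to its inductive limit,
is bijective. This is the form established in the source's proof (finite presentation case). -/
theorem result {A : Type u} [CommRing A] (M : ModuleCat.{u} A)
    [Module.FinitePresentation A M] {J : Type u} [Preorder J] [IsDirected J (· ≤ ·)] [Nonempty J]
    (N : J ⥤ ModuleCat.{u} A) :
    Function.Bijective (colimit.post N (coyoneda.obj (Opposite.op M))) := by
  classical
  refine ⟨Groth.Agent.S4834.result M N, ?_⟩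
  intro g
  let g' : M ⟶ colimit N := g
  obtain ⟨n, K, e, hK⟩ := Module.FinitePresentation.exists_fin A M
  let π : (Fin n → A) →ₗ[A] M := e.symm.toLinearMap ∘ₗ K.mkQ
  let gens : Fin n → M := fun t => π (Pi.single t 1)
  have hrep : ∀ t, ∃ (i : J) (y : N.obj i), colimit.ι N i y = g' (gens t) :=
    fun t => CategoryTheory.Limits.Concrete.colimit_exists_rep N _
  choose it yt hyt using hrep
  obtain ⟨i₀, hi₀⟩ := (Finset.univ.image it).exists_le
  have hit : ∀ t, it t ≤ i₀ := fun t => hi₀ _ (Finset.mem_image_of_mem it (Finset.mem_univ _))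
  let c : Fin n → N.obj i₀ := fun t => N.map (homOfLE (hit t)) (yt t)
  let ψ : (Fin n → A) →ₗ[A] N.obj i₀ := (Pi.basisFun A (Fin n)).constr A c
  have hψ : (colimit.ι N i₀).hom ∘ₗ ψ = g'.hom ∘ₗ π := by
    apply (Pi.basisFun A (Fin n)).ext
    intro t
    rw [LinearMap.comp_apply, LinearMap.comp_apply, Module.Basis.constr_basis, Pi.basisFun_apply]
    show colimit.ι N i₀ (N.map (homOfLE (hit t)) (yt t)) = _
    rw [← ConcreteCategory.comp_apply, colimit.w]
    exact hyt t
  obtain ⟨s, hs⟩ := hK
  have hker : ∀ x : s, ∃ (k : J) (h : i₀ ≤ k), N.map (homOfLE h) (ψ x.1) = 0 := by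
    intro x
    have h0 : colimit.ι N i₀ (ψ x.1) = colimit.ι N i₀ 0 := by
      have := LinearMap.congr_fun hψ x.1
      rw [LinearMap.comp_apply, LinearMap.comp_apply] at this
      have hx : K.mkQ x.1 = 0 := (Submodule.Quotient.mk_eq_zero K).2 (hs ▸ Submodule.subset_span x.2)
      refine this.trans ?_
      simp only [π, LinearMap.comp_apply, hx, map_zero]
    obtain ⟨k, f, f', hk⟩ := CategoryTheory.Limits.Concrete.colimit_exists_of_rep_eq N _ _ h0
    exact ⟨k, leOfHom f, hk.trans (map_zero _)⟩
  choose k hk hk0 using hker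
  obtain ⟨l₀, hl₀⟩ := (Finset.univ.image k).exists_le
  obtain ⟨m, hm, him⟩ := directed_of (· ≤ ·) l₀ i₀
  let ψm : (Fin n → A) →ₗ[A] N.obj m := (N.map (homOfLE him)).hom ∘ₗ ψ
  have hKle : K ≤ LinearMap.ker ψm := by
    rw [← hs, Submodule.span_le]
    intro x hx
    have hkm : k ⟨x, hx⟩ ≤ m := (hl₀ _ (Finset.mem_image_of_mem k (Finset.mem_univ _))).trans hm
    have e1 := congrArg (N.map (homOfLE hkm)) (hk0 ⟨x, hx⟩)
    rw [← ConcreteCategory.comp_apply, ← Functor.map_comp, map_zero] at e1
    exact e1
  let φ : M →ₗ[A] N.obj m := (K.liftQ ψm hKle) ∘ₗ e.toLinearMap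
  refine ⟨colimit.ι (N ⋙ coyoneda.obj (Opposite.op M)) m (ModuleCat.ofHom φ), ?_⟩
  refine (ConcreteCategory.congr_hom (colimit.ι_post N (coyoneda.obj (Opposite.op M)) m) _).trans ?_
  show (ModuleCat.ofHom φ ≫ colimit.ι N m : M ⟶ colimit N) = g'
  apply ModuleCat.hom_ext
  have hπ : Function.Surjective π := e.symm.surjective.comp K.mkQ_surjective
  apply LinearMap.ext
  intro x
  obtain ⟨v, rfl⟩ := hπ x
  have : φ (π v) = ψm v := by
    simp only [φ, π, LinearMap.comp_apply, LinearEquiv.coe_coe, LinearEquiv.apply_symm_apply,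
      Submodule.mkQ_apply, Submodule.liftQ_apply]
  show colimit.ι N m (φ (π v)) = _
  rw [this]
  show colimit.ι N m (N.map (homOfLE him) (ψ v)) = _
  rw [← ConcreteCategory.comp_apply, colimit.w]
  exact LinearMap.congr_fun hψ v

end Groth.Agent.S4835
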