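import Groth.Statements.S4837
import Mathlib
import Groth.Agent.CycBdlLib.Pts
-- import your own Groth.Agent.* helpers here

set_option autoImplicit false
open CategoryTheory AlgebraicGeometry
universe u
open Lim8

namespace Groth.Agent.S4837

/-- Let f : X ⟶ Y be a quasi-compact quasi-separated morphism, C a quasi-coherent O_Y-algebra with
relative spectrum Z = Spec(C) over Y, g : X ⟶ Z a Y-morphism which is an immersion, and φ : C ⟶
f_*O_X the homomorphism of O_Y-algebras corresponding to g (the canonical identification of C with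
the direct image of O_Z followed by the map induced by g). Then the scheme-theoretic image of g is
the whole of Z, i.e. the kernel ideal of g vanishes, if and only if φ is injective; and when this
holds g is an open immersion. -/
theorem result {X Y : Scheme.{u}} (f : X ⟶ Y)
    [QuasiCompact f] [QuasiSeparated f] (C : RelSpec.QCAlg Y) (g : X ⟶ C.spec) (w : g ≫ C.π = f)
    [IsImmersion g] (φ : C ⟶ RelSpec.QCAlg.directImage f)
    (hφ : C.gammaMap ≫ φ.hom = AffAlg.algHom C.π f g w) :
    (g.ker = ⊥ ↔ ∀ U : Y.Opens, Function.Injective (φ.hom.app (Opposite.op U)).hom) ∧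
      (g.ker = ⊥ → IsOpenImmersion g) := by
  haveI : IsAffineHom C.π := inferInstance
  haveI : QuasiCompact (g ≫ C.π) := w.symm ▸ inferInstance
  haveI : QuasiCompact g := QuasiCompact.of_comp g C.π
  haveI := CycBdlLib.isIso_gammaMap C
  subst w
  have key : ∀ (U : Y.Opens) (b : Γ(C.spec, C.π ⁻¹ᵁ U)),
      (φ.hom.app (Opposite.op U)).hom ((C.gammaMap.app (Opposite.op U)).hom b) = g.app (C.π ⁻¹ᵁ U) b := by
    intro U b
    rw [← CommRingCat.comp_apply, ← NatTrans.comp_app, hφ]
    rfl
  have hsurj : ∀ U : Y.Opens, Function.Bijective (C.gammaMap.app (Opposite.op U)).hom := fun U =>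
    ConcreteCategory.bijective_of_isIso _
  refine ⟨⟨fun h U => ?_, fun h => ?_⟩, fun h => ?_⟩
  · haveI : IsSchemeTheoreticallyDominant g := ⟨h⟩
    intro a a' e
    obtain ⟨b, rfl⟩ := (hsurj U).2 a
    obtain ⟨b', rfl⟩ := (hsurj U).2 a'
    rw [key, key] at e
    rw [g.app_injective _ e]
  · refine Scheme.IdealSheafData.ext_of_iSup_eq_top
      (fun U : Y.affineOpens => ⟨C.π ⁻¹ᵁ U.1, U.2.preimage C.π⟩) ?_ fun U => ?_
    · refine TopologicalSpace.Opens.ext (Set.eq_univ_of_forall fun z => ?_)
      obtain ⟨U, hU, hzU, -⟩ := exists_isAffineOpen_mem_and_subset (x := C.π z) (U := (⊤ : Y.Opens)) trivial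
      exact TopologicalSpace.Opens.mem_iSup.mpr ⟨⟨U, hU⟩, hzU⟩
    · rw [Scheme.Hom.ker_apply, Scheme.IdealSheafData.ideal_bot]
      refine (RingHom.injective_iff_ker_eq_bot _).mp fun b b' e => (hsurj U.1).1 (h U.1 ?_)
      rw [key, key]
      exact e
  · haveI : IsSchemeTheoreticallyDominant g := ⟨h⟩
    have hj : g.liftCoborder.ker = ⊥ := by
      refine Scheme.IdealSheafData.ext (funext fun V => ?_)
      rw [Scheme.Hom.ker_apply, Scheme.IdealSheafData.ideal_bot]
      refine (RingHom.injective_iff_ker_eq_bot _).mp ?_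
      rw [liftCoborder_app]
      exact (ConcreteCategory.bijective_of_isIso (X.presheaf.map
        (eqToHom <| g.liftCoborder_preimage V.1).op)).1.comp (g.app_injective _)
    haveI : IsIso g.liftCoborder := IsClosedImmersion.isIso_iff_ker_eq_bot.mpr hj
    rw [← g.liftCoborder_ι]
    infer_instance

end Groth.Agent.S4837
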