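import Groth.Statements.S4838
import Groth.Agent.GeomPtIntLib.Cons

set_option autoImplicit false
set_option backward.isDefEq.respectTransparency false
set_option backward.isDefEq.respectTransparency.types false
open CategoryTheory AlgebraicGeometry
universe u
open Cons9

namespace Groth.Agent.S4838

/-- Let f : X ⟶ S be a morphism of finite presentation (locally of finite presentation, quasi-compact
and quasi-separated). Then the set of points s of S whose fibre X_s is geometrically pointwise
integral over κ(s), i.e. such that for every extension field K of κ(s) all local rings of X_s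
⊗_{κ(s)} K are integral domains, is locally constructible in S. -/
theorem result {X S : Scheme.{u}} (f : X ⟶ S)
    [LocallyOfFinitePresentation f] [QuasiCompact f] [QuasiSeparated f] :
    Topology.IsLocallyConstructible {s : S |
      ∀ x : ↥(f.fiber s), FBase.IsGeomPtIntegralAt (f.fiberToSpecResidueField s) x} := by
  have hset : {s : S | ∀ x : ↥(f.fiber s), FBase.IsGeomPtIntegralAt (f.fiberToSpecResidueField s) x} =
      (f '' {x : X | GeomPtIntLib.GP f x}ᶜ)ᶜ := by
    ext s
    constructor
    · rintro h ⟨x, hx, rfl⟩
      exact hx (h (f.asFiber x))
    · intro h b
      refine (GeomPtIntLib.gp_iff_fiber f s b).1 ?_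
      by_contra hb
      exact h ⟨f.fiberι s b, hb, (f.range_fiberι s).le ⟨b, rfl⟩⟩
  rw [hset]
  exact DepthLib.isLocallyConstructible_compl
    (f.isLocallyConstructible_image (DepthLib.isLocallyConstructible_compl (GeomPtIntLib.isLocallyConstructible_gp f)))

end Groth.Agent.S4838
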