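import Groth.Statements.S4839
import Mathlib
import Groth.Agent.ConsLib.FGSystem
import Groth.Agent.DescFP.Model

set_option autoImplicit false
open CategoryTheory AlgebraicGeometry
open CategoryTheory.Limits
universe u
open Cons9

namespace Groth.Agent.S4839

open RichLib.LimBC

/-- the projection of the iterated base change to the original field -/
theorem isPullback_iterated {X T T' S : Scheme.{u}} (p : X ⟶ S) (t : T ⟶ S) (a : T' ⟶ T) (t' : T' ⟶ S)
    (h : a ≫ t = t') :
    IsPullback (pullback.fst (pullback.snd p t) a ≫ pullback.fst p t) (pullback.snd (pullback.snd p t) a) p t' :=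
  h ▸ (IsPullback.of_hasPullback _ _).paste_horiz (IsPullback.of_hasPullback p t)

theorem transport {X Y T S : Scheme.{u}} (p : X ⟶ S) (q : Y ⟶ S) {t t' : T ⟶ S} (h : t = t')
    (e : pullback p t' ≅ pullback q t') (he : e.hom ≫ pullback.snd q t' = pullback.snd p t') :
    ∃ e₁ : pullback p t ≅ pullback q t, e₁.hom ≫ pullback.snd q t = pullback.snd p t := by
  subst h; exact ⟨e, he⟩

theorem exists_iso {k : Type u} [Field k] {X Y : Scheme.{u}}
    (p : X ⟶ Spec (CommRingCat.of k)) (q : Y ⟶ Spec (CommRingCat.of k))
    [LocallyOfFiniteType p] [QuasiCompact p] [LocallyOfFiniteType q] [QuasiCompact q]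
    (K : Type u) [Field K] [Algebra k K]
    (e : pullback p (Spec.map (CommRingCat.ofHom (algebraMap k K))) ≅ pullback q (Spec.map (CommRingCat.ofHom (algebraMap k K))))
    (he : e.hom ≫ pullback.snd q (Spec.map (CommRingCat.ofHom (algebraMap k K))) = pullback.snd p (Spec.map (CommRingCat.ofHom (algebraMap k K)))) :
    ∃ (k' : Type u) (_ : Field k') (_ : Algebra k k') (_ : Module.Finite k k')
      (e' : pullback p (Spec.map (CommRingCat.ofHom (algebraMap k k'))) ≅ pullback q (Spec.map (CommRingCat.ofHom (algebraMap k k')))),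
      e'.hom ≫ pullback.snd q (Spec.map (CommRingCat.ofHom (algebraMap k k'))) = pullback.snd p (Spec.map (CommRingCat.ofHom (algebraMap k k'))) := by
  haveI := LocallyOfFiniteType.isLocallyNoetherian p
  haveI := LocallyOfFiniteType.isLocallyNoetherian q
  haveI : QuasiSeparated p := inferInstance
  haveI : QuasiSeparated q := inferInstance
  haveI : LocallyOfFinitePresentation p := by
    rw [HasRingHomProperty.iff_appLE (P := @LocallyOfFinitePresentation)]
    intro U V h
    haveI := IsLocallyNoetherian.component_noetherian U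
    exact RingHom.FinitePresentation.of_finiteType.mp
      ((HasRingHomProperty.iff_appLE (P := @LocallyOfFiniteType)).mp ‹_› U V h)
  haveI : LocallyOfFinitePresentation q := by
    rw [HasRingHomProperty.iff_appLE (P := @LocallyOfFinitePresentation)]
    intro U V h
    haveI := IsLocallyNoetherian.component_noetherian U
    exact RingHom.FinitePresentation.of_finiteType.mp
      ((HasRingHomProperty.iff_appLE (P := @LocallyOfFiniteType)).mp ‹_› U V h)
  let A := ConsLib.fgSys k K (Iso.refl (Spec (CommRingCat.of k)))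
  haveI : ∀ (i j) (a : i ⟶ j), IsAffineHom (A.D.map a) := fun _ _ a => A.affine_map a
  haveI := A.compactSpace_obj
  haveI := A.quasiSeparatedSpace_obj
  let i : (ConsLib.FGSub k K)ᵒᵖ := Classical.arbitrary _
  let eK : A.s = Spec.map (CommRingCat.ofHom (algebraMap k K)) := Category.comp_id _
  let f : pullback p A.s ⟶ A.c.pt := pullback.snd p A.s
  obtain ⟨e₁, he₁⟩ : ∃ e₁ : pullback p A.s ≅ pullback q A.s, e₁.hom ≫ pullback.snd q A.s = f :=
    transport p q eK e he
  let M : DescFP.Model A.c f i :=
    { Z := pullback p (A.t i), p := pullback.snd p (A.t i), g := pbπ A p i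
      lfp := inferInstance, qc := inferInstance, qs := inferInstance
      sq := isPullback_cone A p i }
  let N : DescFP.Model A.c f i :=
    { Z := pullback q (A.t i), p := pullback.snd q (A.t i), g := e₁.hom ≫ pbπ A q i
      lfp := inferInstance, qc := inferInstance, qs := inferInstance
      sq := (isPullback_cone A q i).of_iso e₁.symm (Iso.refl _) (Iso.refl _) (Iso.refl _) (by simp)
        (by simp [← he₁]) (by simp) (by simp) }
  obtain ⟨j, a, γ, hγ, hγg⟩ := DescFP.exists_hom A.hc M N
  obtain ⟨l, b, hl⟩ := DescFP.exists_isIso A.hc (M.push a) (N.push a) γ hγ hγg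
  let γl := (M.push a).pushMap (N.push a) γ hγ b
  haveI : IsIso γl := hl
  let B := l.unop.1
  haveI : Algebra.FiniteType k B := ⟨(Subalgebra.fg_top _).mpr l.unop.2⟩
  haveI : Nontrivial B := inferInstance
  obtain ⟨m, hm⟩ := Ideal.exists_maximal B
  haveI := hm
  letI : Field (B ⧸ m) := Ideal.Quotient.field m
  haveI : Algebra.FiniteType k (B ⧸ m) :=
    Algebra.FiniteType.of_surjective (Ideal.Quotient.mkₐ k m) (Ideal.Quotient.mkₐ_surjective k m)
  haveI : Module.Finite k (B ⧸ m) := finite_of_finite_type_of_isJacobsonRing k (B ⧸ m)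
  let z : Spec (CommRingCat.of (B ⧸ m)) ⟶ A.D.obj l := Spec.map (CommRingCat.ofHom (Ideal.Quotient.mk m))
  have hz : z ≫ A.D.map (b ≫ a) ≫ A.t i = Spec.map (CommRingCat.ofHom (algebraMap k (B ⧸ m))) := by
    rw [A.w (b ≫ a)]
    show Spec.map _ ≫ Spec.map (CommRingCat.ofHom (algebraMap k B)) ≫ (Iso.refl _).inv = _
    rw [Iso.refl_inv, Category.comp_id, ← Spec.map_comp]
    rfl
  have sqX : IsPullback
      (pullback.fst ((M.push a).push b).p z ≫ ((M.push a).pfst b ≫ M.pfst a) ≫ pullback.fst p (A.t i))
      (pullback.snd ((M.push a).push b).p z) p (Spec.map (CommRingCat.ofHom (algebraMap k (B ⧸ m)))) := by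
    rw [← hz]
    refine (IsPullback.of_hasPullback _ z).paste_horiz ?_
    rw [A.D.map_comp]
    exact (((M.push a).isPullback_pfst b).paste_horiz (M.isPullback_pfst a)).paste_horiz
      (IsPullback.of_hasPullback p (A.t i))
  have sqY : IsPullback
      (pullback.fst ((N.push a).push b).p z ≫ ((N.push a).pfst b ≫ N.pfst a) ≫ pullback.fst q (A.t i))
      (pullback.snd ((N.push a).push b).p z) q (Spec.map (CommRingCat.ofHom (algebraMap k (B ⧸ m)))) := by
    rw [← hz]
    refine (IsPullback.of_hasPullback _ z).paste_horiz ?_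
    rw [A.D.map_comp]
    exact (((N.push a).isPullback_pfst b).paste_horiz (N.isPullback_pfst a)).paste_horiz
      (IsPullback.of_hasPullback q (A.t i))
  let w : pullback ((M.push a).push b).p z ⟶ pullback ((N.push a).push b).p z :=
    pullback.map _ _ _ _ γl (𝟙 _) (𝟙 _)
      (by rw [Category.comp_id]; exact ((M.push a).pushMap_p (N.push a) γ hγ b).symm)
      (by rw [Category.comp_id, Category.id_comp])
  haveI : IsIso w := inferInstance
  refine ⟨B ⧸ m, inferInstance, inferInstance, inferInstance,
    sqX.isoPullback.symm ≪≫ asIso w ≪≫ sqY.isoPullback, ?_⟩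
  simp [w, pullback.map]
  rw [pullback.lift_snd, IsPullback.isoPullback_inv_snd]

theorem result {k : Type u} [Field k] {X Y : Scheme.{u}}
    (p : X ⟶ Spec (CommRingCat.of k)) (q : Y ⟶ Spec (CommRingCat.of k))
    [LocallyOfFiniteType p] [QuasiCompact p] [LocallyOfFiniteType q] [QuasiCompact q]
    (K : Type u) [Field K] [Algebra k K]
    (e : pullback p (Spec.map (CommRingCat.ofHom (algebraMap k K))) ≅ pullback q (Spec.map (CommRingCat.ofHom (algebraMap k K))))
    (he : e.hom ≫ pullback.snd q (Spec.map (CommRingCat.ofHom (algebraMap k K))) = pullback.snd p (Spec.map (CommRingCat.ofHom (algebraMap k K)))) :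
    ∃ (k' : Type u) (_ : Field k') (_ : Algebra k k') (_ : Module.Finite k k')
      (e' : pullback p (Spec.map (CommRingCat.ofHom (algebraMap k k'))) ≅ pullback q (Spec.map (CommRingCat.ofHom (algebraMap k k')))),
      e'.hom ≫ pullback.snd q (Spec.map (CommRingCat.ofHom (algebraMap k k'))) = pullback.snd p (Spec.map (CommRingCat.ofHom (algebraMap k k'))) :=
  exists_iso p q K e he

end Groth.Agent.S4839
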