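import Groth.Statements.S4840
import Groth.Agent.FlatFunLimLib.Main
import Groth.Agent.CohGenLib.Pro
import Groth.Agent.RichLib.LimStalk
-- import your own Groth.Agent.* helpers here

set_option autoImplicit false
set_option backward.isDefEq.respectTransparency false
set_option linter.all false
universe u
open CategoryTheory AlgebraicGeometry
open Lim8

namespace Groth.Agent.S4840

open CategoryTheory CategoryTheory.Limits AlgebraicGeometry TopologicalSpace RichLib.LimBC

theorem zero_comp_of {W Z Z' : Scheme.{u}} {F G : W.Modules} (v : F ⟶ G) (h : Z ⟶ W) (m : Z' ⟶ Z)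
    {r : Z' ⟶ W} (e : m ≫ h = r) (hz : (Scheme.Modules.pullback h).map v = 0) :
    (Scheme.Modules.pullback r).map v = 0 :=
  (FlatFunLimLib.map_eq_zero_iff v r).mpr fun z => FlatFunLimLib.zeroAt_comp v m h e z
    ((FlatFunLimLib.map_eq_zero_iff v h).mp hz _)

theorem exact_iff {W T : Scheme.{u}} {F G H : W.Modules} (h : T ⟶ W) [Flat h] (f : F ⟶ G) (g : G ⟶ H) :
    (∃ w : (Scheme.Modules.pullback h).map f ≫ (Scheme.Modules.pullback h).map g = 0, (ShortComplex.mk _ _ w).Exact) ↔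
      (Scheme.Modules.pullback h).map (Abelian.image.ι f ≫ g) = 0 ∧
        (Scheme.Modules.pullback h).map (kernel.ι g ≫ cokernel.π f) = 0 := by
  haveI := (Scheme.Modules.pullbackPushforwardAdjunction h).left_adjoint_additive
  haveI := (Scheme.Modules.pullbackPushforwardAdjunction h).leftAdjoint_preservesColimits
  haveI := CohGenLib.preservesFiniteLimits_pullback_flat h
  set P := Scheme.Modules.pullback h
  have h1 : P.map f ≫ P.map g = 0 ↔ P.map (Abelian.image.ι f ≫ g) = 0 := by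
    rw [← Functor.map_comp]
    conv_lhs => rw [← Abelian.image.fac f, Category.assoc, P.map_comp]

    haveI : Epi (P.map (Abelian.factorThruImage f)) := inferInstance
    exact ⟨fun h => (cancel_epi (P.map (Abelian.factorThruImage f))).1 (by rw [h, comp_zero]), fun h => by rw [h, comp_zero]⟩
  have h2 : kernel.ι (P.map g) ≫ cokernel.π (P.map f) = 0 ↔ P.map (kernel.ι g ≫ cokernel.π f) = 0 := by
    rw [← PreservesKernel.iso_inv_ι, ← PreservesCokernel.π_iso_hom, P.map_comp]
    rw [Category.assoc, Preadditive.IsIso.comp_left_eq_zero, ← Category.assoc,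
      Preadditive.IsIso.comp_right_eq_zero]
  constructor
  · rintro ⟨w, hw⟩
    exact ⟨h1.mp w, h2.mp ((ShortComplex.mk _ _ w).exact_iff_kernel_ι_comp_cokernel_π_zero.mp hw)⟩
  · rintro ⟨ha, hb⟩
    exact ⟨h1.mpr ha, (ShortComplex.mk _ _ (h1.mpr ha)).exact_iff_kernel_ι_comp_cokernel_π_zero.mpr (h2.mpr hb)⟩

/-- Let S = lim S_i be a cofiltered limit of schemes whose transition maps are affine and flat, and
S_{i₀} a quasi-compact stage; let f₀ : F₀ ⟶ G₀ and g₀ : G₀ ⟶ H₀ be homomorphisms of quasi-coherent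
O-modules on S_{i₀} such that the image of f₀ and the kernel of g₀ are O-modules of finite type.
Then the pulled-back sequence F ⟶ G ⟶ H on S is exact (the composite is zero and the sequence is
exact at G) if and only if, for some index j over i₀, the pulled-back sequence F_j ⟶ G_j ⟶ H_j on
S_j is exact. -/
theorem result {I : Type u} [SmallCategory I] [IsCofiltered I]
    (D : I ⥤ Scheme.{u}) (c : Limits.Cone D) (hc : Limits.IsLimit c)
    [∀ (i j : I) (f : i ⟶ j), IsAffineHom (D.map f)] (i₀ : I) [CompactSpace (D.obj i₀)]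
    [∀ (i j : I) (f : i ⟶ j), Flat (D.map f)]
    {F₀ G₀ H₀ : (D.obj i₀).Modules} [Coh.IsQCoh F₀] [Coh.IsQCoh G₀] [Coh.IsQCoh H₀]
    (f₀ : F₀ ⟶ G₀) (g₀ : G₀ ⟶ H₀)
    (hIm : CohB1.IsFT (Limits.image f₀)) (hKer : CohB1.IsFT (Limits.kernel g₀)) :
    (∃ w : (Scheme.Modules.pullback (c.π.app i₀)).map f₀ ≫ (Scheme.Modules.pullback (c.π.app i₀)).map g₀ = 0, (ShortComplex.mk _ _ w).Exact) ↔
      ∃ (j : I) (φ : j ⟶ i₀) (w : (Scheme.Modules.pullback (D.map φ)).map f₀ ≫ (Scheme.Modules.pullback (D.map φ)).map g₀ = 0),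
        (ShortComplex.mk _ _ w).Exact := by
  haveI : Coh.IsQCoh (cokernel f₀) := QCohLib.isQCoh_cokernel f₀
  haveI : Coh.IsQCoh (Abelian.image f₀) := QCohLib.isQCoh_kernel (cokernel.π f₀)
  haveI : Coh.IsQCoh (kernel g₀) := QCohLib.isQCoh_kernel g₀
  have hIm' : CohB1.IsFT (Abelian.image f₀) := QCohLib.isFT_of_epi (Abelian.imageIsoImage f₀).inv hIm
  haveI : Flat (c.π.app i₀) := RichLib.LimStalk.flat_π D c hc fun j φ => inferInstance
  constructor
  · intro h
    obtain ⟨ha, hb⟩ := (exact_iff (c.π.app i₀) f₀ g₀).mp h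
    obtain ⟨j₁, hj₁⟩ := FlatFunLimLib.exists_stage_zero _ (ofStage D c hc i₀) hIm' ha
    obtain ⟨j₂, hj₂⟩ := FlatFunLimLib.exists_stage_zero _ (ofStage D c hc i₀) hKer hb
    obtain ⟨k, a, b, -⟩ := IsCofilteredOrEmpty.cone_objs j₁ j₂
    exact ⟨k.left, k.hom, (exact_iff (D.map k.hom) f₀ g₀).mpr
      ⟨zero_comp_of _ _ (D.map a.left) ((ofStage D c hc i₀).w a) hj₁,
        zero_comp_of _ _ (D.map b.left) ((ofStage D c hc i₀).w b) hj₂⟩⟩
  · rintro ⟨j, φ, h⟩
    obtain ⟨ha, hb⟩ := (exact_iff (D.map φ) f₀ g₀).mp h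
    exact (exact_iff (c.π.app i₀) f₀ g₀).mpr
      ⟨zero_comp_of _ _ (c.π.app j) (c.w φ) ha, zero_comp_of _ _ (c.π.app j) (c.w φ) hb⟩

end Groth.Agent.S4840
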