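import Groth.Statements.S4846
import Groth.Agent.LimAmpleLib.RelAmple

set_option autoImplicit false
universe u
open CategoryTheory AlgebraicGeometry
open Lim8

namespace Groth.Agent.S4846

/-- Let S = lim S_i be a cofiltered limit of schemes with affine transition maps and S_{i₀} a
quasi-compact stage; let X₀ and Y₀ be schemes of finite presentation over S_{i₀}, f₀ : X₀ ⟶ Y₀ an
S_{i₀}-morphism and L₀ an invertible O_{X₀}-module. Let f : X ⟶ Y be the base change of f₀ along S ⟶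
S_{i₀} and L the pullback of L₀ to X (base changes are expressed by pullback squares). Then L is
ample relative to f if and only if, for some index j over i₀, the pullback L_j of L₀ to X_j is ample
relative to the base change f_j : X_j ⟶ Y_j of f₀ along S_j ⟶ S_{i₀}. This is the case of relative
ampleness (the very ample case is not stated here). -/
theorem result {I : Type u} [SmallCategory I] [IsCofiltered I]
    (D : I ⥤ Scheme.{u}) (c : Limits.Cone D) (hc : Limits.IsLimit c)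
    [∀ (i j : I) (f : i ⟶ j), IsAffineHom (D.map f)] (i₀ : I) [CompactSpace (D.obj i₀)]
    {X₀ Y₀ : Scheme.{u}} (f₀ : X₀ ⟶ Y₀) (g₀ : Y₀ ⟶ D.obj i₀)
    [LocallyOfFinitePresentation g₀] [QuasiCompact g₀] [QuasiSeparated g₀]
    [LocallyOfFinitePresentation (f₀ ≫ g₀)] [QuasiCompact (f₀ ≫ g₀)] [QuasiSeparated (f₀ ≫ g₀)]
    (L₀ : X₀.Modules) (hL₀ : PicF.IsInvertible L₀)
    {X Y : Scheme.{u}} (f : X ⟶ Y) (g : Y ⟶ c.pt) (qY : Y ⟶ Y₀) (qX : X ⟶ X₀)
    (hY : IsPullback qY g g₀ (c.π.app i₀)) (hX : IsPullback qX f f₀ qY) :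
    RelAmple.IsRelAmple f ((Scheme.Modules.pullback qX).obj L₀) ↔
      ∃ (j : I) (φ : j ⟶ i₀) (Xj Yj : Scheme.{u}) (fj : Xj ⟶ Yj) (gj : Yj ⟶ D.obj j) (pY : Yj ⟶ Y₀)
        (pX : Xj ⟶ X₀), IsPullback pY gj g₀ (D.map φ) ∧ IsPullback pX fj f₀ pY ∧
          RelAmple.IsRelAmple fj ((Scheme.Modules.pullback pX).obj L₀) := by
  haveI : QuasiCompact f₀ := QuasiCompact.of_comp f₀ g₀
  haveI : QuasiSeparated f₀ := QuasiSeparated.of_comp f₀ g₀
  haveI : CompactSpace Y₀ := QuasiCompact.compactSpace_of_compactSpace g₀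
  constructor
  · intro hR
    let B := RichLib.LimBC.pb (RichLib.LimBC.ofStage D c hc i₀) g₀
    let e : Y ≅ B.c.pt := hY.isoPullback
    have hX' : IsPullback qX (f ≫ e.hom) f₀ B.s :=
      hX.of_iso (Iso.refl _) (Iso.refl _) e (Iso.refl _) (by simp) (by simp) (by simp)
        (by rw [Iso.refl_hom, Category.comp_id]; exact (hY.isoPullback_hom_fst).symm)
    have hR' : RelAmple.IsRelAmple (f ≫ e.hom) ((Scheme.Modules.pullback qX).obj L₀) :=
      LimAmpleLib.relAmple_comp_iso f e hR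
    obtain ⟨φ, hφ⟩ := LimAmpleLib.exists_relAmple_stage B f₀ hL₀ hX' hR'
    exact ⟨φ.left, φ.hom, _, _, Limits.pullback.snd f₀ (Limits.pullback.fst g₀ (D.map φ.hom)),
      Limits.pullback.snd g₀ (D.map φ.hom), Limits.pullback.fst g₀ (D.map φ.hom), Limits.pullback.fst _ _,
      IsPullback.of_hasPullback _ _, IsPullback.of_hasPullback _ _, hφ⟩
  · rintro ⟨j, φ, Xj, Yj, fj, gj, pY, pX, hYj, hXj, hR⟩
    let ν : Y ⟶ Yj := hYj.lift qY (g ≫ c.π.app j) (by rw [Category.assoc, c.w φ]; exact hY.w)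
    have hν : ν ≫ pY = qY := hYj.lift_fst _ _ _
    let μ : X ⟶ Xj := hXj.lift qX (f ≫ ν) (by rw [Category.assoc, hν]; exact hX.w)
    have hμ : μ ≫ pX = qX := hXj.lift_fst _ _ _
    have hsq : IsPullback μ f fj ν := IsPullback.of_right (by rw [hμ, hν]; exact hX) (hXj.lift_snd _ _ _) hXj
    haveI : QuasiCompact fj := MorphismProperty.of_isPullback hXj ‹QuasiCompact f₀›
    obtain ⟨e⟩ := LimAmpleLib.pb_pb_iso μ pX qX hμ L₀
    exact LimAmpleLib.relAmple_of_iso f e (AmpleDevLib.isInvertible_pb qX hL₀)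
      (LimAmpleLib.relAmple_baseChange' hsq hR)

end Groth.Agent.S4846
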