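import Groth.Statements.S4847
import Mathlib
import Groth.Agent.FlatLib.FibreLocal
import Groth.Agent.FlatLib.FibMaster
import Groth.Agent.DevissLib.Induction

set_option autoImplicit false
universe u
open EGA43

namespace Groth.Agent.S4847

open TensorProduct in
theorem alg {R S S' M : Type u} [CommRing R] [CommRing S] [CommRing S'] [IsLocalRing R] [IsLocalRing S]
    [IsLocalRing S'] [Algebra R S] [Algebra S S'] [Algebra R S'] [IsScalarTower R S S']
    [IsLocalHom (algebraMap R S)] [IsLocalHom (algebraMap S S')] [IsNoetherianRing S] [IsNoetherianRing S']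
    [AddCommGroup M] [Module S' M] [Module S M] [Module R M] [IsScalarTower S S' M] [IsScalarTower R S' M]
    [IsScalarTower R S M] [Module.Finite S' M] [Nontrivial M] :
    (Module.Flat R M ∧ Module.Flat (S ⧸ (IsLocalRing.maximalIdeal R).map (algebraMap R S))
      (M ⧸ (IsLocalRing.maximalIdeal R).map (algebraMap R S) • (⊤ : Submodule S M))) ↔
    (Module.Flat R S ∧ Module.Flat S M) := by
  let J := (IsLocalRing.maximalIdeal R).map (algebraMap R S)
  let e : (S ⧸ J) ⊗[S] M ≃ₗ[S ⧸ J] M ⧸ (J • ⊤ : Submodule S M) :=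
    (TensorProduct.quotTensorEquivQuotSMul M J).extendScalarsOfSurjective Ideal.Quotient.mk_surjective
  constructor
  · rintro ⟨h1, h2⟩
    haveI := h1
    haveI := h2
    exact FlatLib.flat_and_flat_of_fibre (R := R) (S' := S') (Module.Flat.of_linearEquiv e)
  · rintro ⟨h1, h2⟩
    haveI := h1
    haveI := h2
    exact ⟨Module.Flat.trans R S M, Module.Flat.of_linearEquiv e.symm⟩

open AlgebraicGeometry CategoryTheory Limits in
/-- Case 1° (fibrewise flatness criterion for locally Noetherian schemes): let S, X and Y be locally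
Noetherian schemes, f : X ⟶ Y and h : Y ⟶ S arbitrary morphisms, F a coherent O_X-module and x a
point of X with images y in Y and s in S, such that the stalk F_x is nonzero. Then F is flat over S
at x and F_x / m_s F_x is flat over O_{Y,y} / m_s O_{Y,y} (that is, the fibre module F_s is flat
over the fibre Y_s at x) if and only if h is flat at y and F is flat over Y at x. No finiteness
hypothesis on f or h is required in this case. -/
theorem result {X Y S : Scheme.{u}}
    [IsLocallyNoetherian X] [IsLocallyNoetherian Y] [IsLocallyNoetherian S]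
    (f : X ⟶ Y) (h : Y ⟶ S) (F : X.Modules) (hF : Coh.IsCoh F) (x : X)
    (hx : Nontrivial ↑(F.presheaf.stalk x)) :
    letI := FlatMod.moduleStalkOver f F x
    (FlatMod.IsFlatOverAt (f ≫ h) F x ∧
      Module.Flat (↑(Y.presheaf.stalk (f x)) ⧸ Ideal.map (h.stalkMap (f x)).hom (IsLocalRing.maximalIdeal ↑(S.presheaf.stalk (h (f x)))))
        (↑(F.presheaf.stalk x) ⧸ (Ideal.map (h.stalkMap (f x)).hom (IsLocalRing.maximalIdeal ↑(S.presheaf.stalk (h (f x)))) •
          (⊤ : Submodule ↑(Y.presheaf.stalk (f x)) ↑(F.presheaf.stalk x))))) ↔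
    ((h.stalkMap (f x)).hom.Flat ∧ FlatMod.IsFlatOverAt f F x) := by
  letI hYX := FlatMod.moduleStalkOver f F x
  haveI : IsNoetherian (X.presheaf.stalk x) (F.presheaf.stalk x) := DevissLib.isNoetherian_stalk hF x
  letI : Algebra (S.presheaf.stalk (h (f x))) (Y.presheaf.stalk (f x)) := (h.stalkMap (f x)).hom.toAlgebra
  letI : Algebra (Y.presheaf.stalk (f x)) (X.presheaf.stalk x) := (f.stalkMap x).hom.toAlgebra
  letI : Algebra (S.presheaf.stalk (h (f x))) (X.presheaf.stalk x) := ((f ≫ h).stalkMap x).hom.toAlgebra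
  letI hSX : Module (S.presheaf.stalk (h (f x))) (F.presheaf.stalk x) := FlatMod.moduleStalkOver (f ≫ h) F x
  haveI : IsLocalHom (algebraMap (S.presheaf.stalk (h (f x))) (Y.presheaf.stalk (f x))) :=
    inferInstanceAs (IsLocalHom (h.stalkMap (f x)).hom)
  haveI : IsLocalHom (algebraMap (Y.presheaf.stalk (f x)) (X.presheaf.stalk x)) :=
    inferInstanceAs (IsLocalHom (f.stalkMap x).hom)
  haveI : IsScalarTower (S.presheaf.stalk (h (f x))) (Y.presheaf.stalk (f x)) (X.presheaf.stalk x) :=
    IsScalarTower.of_algebraMap_eq fun r => by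
      show ((f ≫ h).stalkMap x).hom r = f.stalkMap x (h.stalkMap (f x) r)
      rw [Scheme.Hom.stalkMap_comp]
      rfl
  haveI : IsScalarTower (Y.presheaf.stalk (f x)) (X.presheaf.stalk x) (F.presheaf.stalk x) :=
    IsScalarTower.of_algebraMap_smul fun _ _ => rfl
  haveI : IsScalarTower (S.presheaf.stalk (h (f x))) (X.presheaf.stalk x) (F.presheaf.stalk x) :=
    IsScalarTower.of_algebraMap_smul fun _ _ => rfl
  haveI : IsScalarTower (S.presheaf.stalk (h (f x))) (Y.presheaf.stalk (f x)) (F.presheaf.stalk x) :=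
    IsScalarTower.of_algebraMap_smul fun r m => by
      show algebraMap (Y.presheaf.stalk (f x)) (X.presheaf.stalk x) (algebraMap _ _ r) • m = _
      rw [← IsScalarTower.algebraMap_apply]
      rfl
  have key := alg (R := S.presheaf.stalk (h (f x))) (S := Y.presheaf.stalk (f x)) (S' := X.presheaf.stalk x)
    (M := F.presheaf.stalk x)
  refine Iff.trans (and_congr ?_ ?_) (key.trans (and_congr ?_ ?_))
  · exact Iff.rfl
  · exact Iff.rfl
  · exact Iff.rfl
  · exact Iff.rfl

end Groth.Agent.S4847
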