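import Groth.Statements.S4849
import Mathlib
import Groth.Agent.RichLib.ModFlatLimit
-- import your own Groth.Agent.* helpers here

set_option autoImplicit false
universe u
open CategoryTheory AlgebraicGeometry
open EGA43 AlgebraicGeometry CategoryTheory Limits

namespace Groth.Agent.S4849

/-- Let S be the limit of a cofiltered system (S_i) of schemes with affine transition morphisms, S_{i₀}
a quasi-compact stage, f₀ : X₀ ⟶ Y₀ an S_{i₀}-morphism between schemes of finite presentation over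
S_{i₀}, and F₀ a quasi-coherent O_{X₀}-module of finite presentation. Let f : X ⟶ Y and F be
obtained by base change to S. Then F is f-flat if and only if there are an index i over i₀ and base
changes f_i : X_i ⟶ Y_i, F_i of f₀, F₀ to S_i with F_i f_i-flat. (Base changes are expressed by
pullback squares; the stage S_{i₀} is only assumed quasi-compact.) -/
theorem result {I : Type u} [SmallCategory I] [IsCofiltered I]
    (D : I ⥤ Scheme.{u}) (c : Limits.Cone D) (hc : Limits.IsLimit c)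
    [∀ (i j : I) (φ : i ⟶ j), IsAffineHom (D.map φ)] (i₀ : I) [CompactSpace (D.obj i₀)]
    {X₀ Y₀ : Scheme.{u}} (f₀ : X₀ ⟶ Y₀) (g₀ : Y₀ ⟶ D.obj i₀)
    [LocallyOfFinitePresentation g₀] [QuasiCompact g₀] [QuasiSeparated g₀]
    [LocallyOfFinitePresentation (f₀ ≫ g₀)] [QuasiCompact (f₀ ≫ g₀)] [QuasiSeparated (f₀ ≫ g₀)]
    (F₀ : X₀.Modules) [Coh.IsQCoh F₀] (hF₀ : CohB1.IsFP F₀)
    {X Y : Scheme.{u}} (f : X ⟶ Y) (g : Y ⟶ c.pt) (qY : Y ⟶ Y₀) (qX : X ⟶ X₀)
    (hY : IsPullback qY g g₀ (c.π.app i₀)) (hX : IsPullback qX f f₀ qY) :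
    FlatMod.IsFlatOver f ((Scheme.Modules.pullback qX).obj F₀) ↔
      ∃ (i : I) (φ : i ⟶ i₀) (Xi Yi : Scheme.{u}) (fi : Xi ⟶ Yi) (gi : Yi ⟶ D.obj i)
        (pY : Yi ⟶ Y₀) (pX : Xi ⟶ X₀),
        IsPullback pY gi g₀ (D.map φ) ∧ IsPullback pX fi f₀ pY ∧
          FlatMod.IsFlatOver fi ((Scheme.Modules.pullback pX).obj F₀) := by
  haveI : LocallyOfFinitePresentation f₀ := Groth.Agent.S12442.result f₀ g₀
  let B := RichLib.LimBC.pb (RichLib.LimBC.ofStage D c hc i₀) g₀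
  obtain ⟨eY, eX, hYf, hYs, hXf, hXs⟩ := RichLib.ModFlat.exists_iso_canonical f₀ g₀ hY hX
  haveI : CompactSpace ↥X₀ := QuasiCompact.compactSpace_of_compactSpace (f₀ ≫ g₀)
  have key : FlatMod.IsFlatOver f ((Scheme.Modules.pullback qX).obj F₀) ↔ FlatMod.IsFlatOver (pullback.snd f₀ B.s)
      ((Scheme.Modules.pullback (pullback.fst f₀ B.s)).obj F₀) := by
    refine ⟨fun h y => ?_, fun h y => (RichLib.ModFlat.isFlatOverAt_canonical eY eX hXf hXs F₀ y).mpr (h _)⟩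
    obtain ⟨x, rfl⟩ := eX.hom.surjective y
    exact (RichLib.ModFlat.isFlatOverAt_canonical eY eX hXf hXs F₀ x).mp (h x)
  rw [key]
  constructor
  · intro h
    obtain ⟨φ, hφ⟩ := RichLib.ModFlat.exists_isFlatOver_stage B f₀ F₀ hF₀ h
    exact ⟨φ.left, φ.hom, _, _, _, _, _, _, IsPullback.of_hasPullback g₀ (D.map φ.hom),
      IsPullback.of_hasPullback f₀ (B.t φ), hφ⟩
  · rintro ⟨i, φ, Xi, Yi, fi, gi, pY, pX, hYi, hXi, hflat⟩ x
    obtain ⟨dY, dX, hdYf, hdYs, hdXf, hdXs⟩ := RichLib.ModFlat.exists_iso_canonical f₀ g₀ hYi hXi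
    refine (RichLib.ModFlat.isFlatOverAt_iff_exists_stage B f₀ F₀ hF₀ x).mpr ⟨CategoryTheory.Over.mk φ, ?_⟩
    obtain ⟨z, hz⟩ := dX.hom.surjective ((RichLib.LimBC.pbπ B f₀ (CategoryTheory.Over.mk φ)).base x)
    exact hz ▸ (RichLib.ModFlat.isFlatOverAt_canonical dY dX hdXf hdXs F₀ z).mp (hflat z)

end Groth.Agent.S4849
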