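import Groth.Statements.S4850
import Groth.Agent.RelFlatLib.FibreStalk
import Groth.Agent.FlatInjLib.FibreFree
import Groth.Agent.KFlatLib.Stalk

set_option autoImplicit false
set_option backward.isDefEq.respectTransparency false
set_option backward.isDefEq.respectTransparency.types false
set_option backward.isDefEq.respectTransparency false
set_option backward.isDefEq.respectTransparency.types false
universe u
open EGA43

namespace Groth.Agent.S4850

open AlgebraicGeometry CategoryTheory Limits in
/-- Flatness of the stalk of a cokernel. -/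
theorem flat_coker_iff {X Y : Scheme.{u}} (f : X ⟶ Y) {F F' : X.Modules} (u : F' ⟶ F) (x : X) :
    letI := (f.stalkMap x).hom.toAlgebra
    letI : Module (Y.presheaf.stalk (f x)) (F.presheaf.stalk x) := FlatMod.moduleStalkOver f F x
    haveI : IsScalarTower (Y.presheaf.stalk (f x)) (X.presheaf.stalk x) (F.presheaf.stalk x) :=
      IsScalarTower.of_algebraMap_smul fun _ _ => rfl
    FlatMod.IsFlatOverAt f (cokernel u) x ↔
      Module.Flat (Y.presheaf.stalk (f x))
        (F.presheaf.stalk x ⧸ LinearMap.range ((DerSch.stalkFunctor X x).map u).hom) := by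
  letI := (f.stalkMap x).hom.toAlgebra
  letI : Module (Y.presheaf.stalk (f x)) (F.presheaf.stalk x) := FlatMod.moduleStalkOver f F x
  haveI : IsScalarTower (Y.presheaf.stalk (f x)) (X.presheaf.stalk x) (F.presheaf.stalk x) :=
    IsScalarTower.of_algebraMap_smul fun _ _ => rfl
  letI : Module (Y.presheaf.stalk (f x)) ((cokernel u).presheaf.stalk x) :=
    FlatMod.moduleStalkOver f (cokernel u) x
  haveI : IsScalarTower (Y.presheaf.stalk (f x)) (X.presheaf.stalk x) ((cokernel u).presheaf.stalk x) :=
    IsScalarTower.of_algebraMap_smul fun _ _ => rfl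
  let e : (DerSch.stalkFunctor X x).obj (cokernel u) ≅ _ :=
    PreservesCokernel.iso (DerSch.stalkFunctor X x) u ≪≫
      ModuleCat.cokernelIsoRangeQuotient ((DerSch.stalkFunctor X x).map u)
  let e' : (cokernel u).presheaf.stalk x ≃ₗ[X.presheaf.stalk x]
      (F.presheaf.stalk x ⧸ LinearMap.range ((DerSch.stalkFunctor X x).map u).hom) := e.toLinearEquiv
  exact Module.Flat.equiv_iff (e'.restrictScalars (Y.presheaf.stalk (f x)))

open AlgebraicGeometry CategoryTheory Limits in
/-- Equivalence of a: and b)): let f : X ⟶ Y be locally of finite presentation, F and F' quasi-coherent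
O_X-modules of finite presentation, u : F' ⟶ F a homomorphism and x a point with y = f x, such that
F is f-flat at x. Then the stalk map u_x is injective and Coker u is f-flat at x, if and only if u_x
induces an injective map F'_x / m_y F'_x → F_x / m_y F_x. The second condition is written out: an
element of F'_x whose image under u_x lies in m_y F_x already lies in m_y F'_x. (The vanishing of
the stalk (Ker u)_x is expressed as injectivity of u_x.) -/
theorem result {X Y : Scheme.{u}} (f : X ⟶ Y)
    [LocallyOfFinitePresentation f] (F F' : X.Modules) [Coh.IsQCoh F] [Coh.IsQCoh F']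
    (hF : CohB1.IsFP F) (hF' : CohB1.IsFP F') (u : F' ⟶ F) (x : X) (hflat : FlatMod.IsFlatOverAt f F x) :
    letI J : Ideal ↑(X.presheaf.stalk x) :=
      Ideal.map (f.stalkMap x).hom (IsLocalRing.maximalIdeal ↑(Y.presheaf.stalk (f x)))
    letI ux := (TopCat.Presheaf.stalkFunctor Ab x).map (Scheme.Modules.Hom.mapPresheaf u)
    (Function.Injective ux ∧ FlatMod.IsFlatOverAt f (cokernel u) x) ↔
      ∀ m : ↑(F'.presheaf.stalk x),
        ux m ∈ (J • (⊤ : Submodule ↑(X.presheaf.stalk x) ↑(F.presheaf.stalk x))) →
          m ∈ (J • (⊤ : Submodule ↑(X.presheaf.stalk x) ↑(F'.presheaf.stalk x))) := by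
  let A := Y.presheaf.stalk (f x)
  let B := X.presheaf.stalk x
  letI := (f.stalkMap x).hom.toAlgebra
  letI : Module A (F'.presheaf.stalk x) := FlatMod.moduleStalkOver f F' x
  letI : Module A (F.presheaf.stalk x) := FlatMod.moduleStalkOver f F x
  haveI : IsScalarTower A B (F'.presheaf.stalk x) := IsScalarTower.of_algebraMap_smul fun _ _ => rfl
  haveI : IsScalarTower A B (F.presheaf.stalk x) := IsScalarTower.of_algebraMap_smul fun _ _ => rfl
  haveI : IsLocalHom (algebraMap A B) := inferInstanceAs (IsLocalHom (f.stalkMap x).hom)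
  haveI := FlatInjLib.finitePresentation_stalk hF x
  haveI := FlatInjLib.finitePresentation_stalk hF' x
  haveI : Module.Flat A (F.presheaf.stalk x) := hflat
  let ul : F'.presheaf.stalk x →ₗ[B] F.presheaf.stalk x := ((DerSch.stalkFunctor X x).map u).hom
  have hc := flat_coker_iff f u x
  have key := RelFlatLib.injective_and_flat_coker_iff (RelFlatLib.isEssFP_stalkMap f x) ul
  show (Function.Injective ul ∧ FlatMod.IsFlatOverAt f (cokernel u) x) ↔ _
  rw [hc]
  exact key

end Groth.Agent.S4850
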