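import Groth.Statements.S4852
import Mathlib

set_option autoImplicit false
universe u
open TensorProduct
open EGA43

namespace Groth.Agent.S4852

theorem eq_bot_of_le_smul_of_isNilpotent {R M : Type u} [CommRing R] [AddCommGroup M] [Module R M] {I : Ideal R}
    (hI : IsNilpotent I) {N : Submodule R M} (h : N ≤ I • N) : N = ⊥ := by
  obtain ⟨n, hn⟩ := hI
  have h2 : ∀ k : ℕ, N ≤ I ^ k • N := fun k => by
    induction k with
    | zero => rw [pow_zero, Ideal.one_eq_top, Submodule.top_smul]
    | succ k ih => rw [pow_succ, Submodule.mul_smul]; exact ih.trans (Submodule.smul_mono le_rfl h)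
  have h3 := h2 n
  rw [hn, Submodule.zero_eq_bot, Submodule.bot_smul] at h3
  exact le_bot_iff.mp h3

/-- a lift of a module free modulo a nilpotent ideal, with flat target, is bijective if it is so modulo the ideal -/
theorem injective_of_injective_mod {R F N : Type u} [CommRing R] [AddCommGroup F] [Module R F] [AddCommGroup N]
    [Module R N] [Module.Flat R N] (I : Ideal R) (hI : IsNilpotent I) (π : F →ₗ[R] N) (hπ : Function.Surjective π)
    (hmod : Function.Injective (π.lTensor (R ⧸ I))) : Function.Injective π := by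
  rw [← LinearMap.ker_eq_bot]
  refine eq_bot_of_le_smul_of_isNilpotent hI fun z hz => ?_
  have h1 : Function.Injective ((LinearMap.ker π).subtype.lTensor (R ⧸ I)) :=
    LinearMap.lTensor_injective_of_exact_of_flat π hπ (LinearMap.ker π).subtype Subtype.val_injective
      (LinearMap.exact_subtype_ker_map π) (R ⧸ I)
  have h2 : ((1 : R ⧸ I) ⊗ₜ[R] (⟨z, hz⟩ : LinearMap.ker π)) = 0 := by
    refine h1 ((hmod ?_).trans (map_zero _).symm)
    rw [LinearMap.lTensor_tmul, LinearMap.lTensor_tmul, map_zero, Submodule.subtype_apply, LinearMap.mem_ker.mp hz,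
      tmul_zero]
  have h3 := congrArg (TensorProduct.quotTensorEquivQuotSMul (LinearMap.ker π) I) h2
  rw [← map_one (Ideal.Quotient.mk I), TensorProduct.quotTensorEquivQuotSMul_mk_tmul, one_smul, map_zero,
    Submodule.Quotient.mk_eq_zero] at h3
  have h4 : (⟨z, hz⟩ : LinearMap.ker π) ∈ (I • ⊤ : Submodule R (LinearMap.ker π)) := h3
  have h5 := Submodule.mem_map_of_mem (f := (LinearMap.ker π).subtype) h4
  rw [Submodule.map_smul'', Submodule.map_subtype_top] at h5
  exact h5

/-- Case of a ring with nilpotent maximal ideal -/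
theorem flat_of_nilpotent_maximal {A : Type u} [CommRing A] [IsLocalRing A]
    (hm : IsNilpotent (IsLocalRing.maximalIdeal A)) {ι : Type u} (B : ι → Type u) [∀ i, CommRing (B i)]
    [∀ i, Algebra A (B i)] (hB : ∀ a : A, (∀ i, algebraMap A (B i) a = 0) → a = 0)
    (M : Type u) [AddCommGroup M] [Module A M] (h : ∀ i, Module.Flat (B i) (B i ⊗[A] M)) : Module.Flat A M := by
  classical
  let m := IsLocalRing.maximalIdeal A
  let Q := (A ⧸ m) ⊗[A] M
  haveI : Module.Free (A ⧸ m) Q :=
    letI := Ideal.Quotient.field m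
    Module.Free.of_divisionRing (A ⧸ m) Q
  let b := Module.Free.chooseBasis (A ⧸ m) Q
  have hmk : Function.Surjective (TensorProduct.mk A (A ⧸ m) M 1) :=
    TensorProduct.mk_surjective A M (A ⧸ m) Ideal.Quotient.mk_surjective
  choose l hl using fun j => hmk (b j)
  let F := Module.Free.ChooseBasisIndex (A ⧸ m) Q →₀ A
  let π : F →ₗ[A] M := Finsupp.linearCombination A l
  let π' : (A ⧸ m) ⊗[A] F →ₗ[A ⧸ m] Q := π.baseChange (A ⧸ m)
  have hπ'b : Function.Bijective π' := by
    let bF := (Finsupp.basisSingleOne : Module.Basis (Module.Free.ChooseBasisIndex (A ⧸ m) Q) A F).baseChange (A ⧸ m)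
    have heq : π' = (bF.equiv b (Equiv.refl _)).toLinearMap := by
      refine bF.ext fun j => ?_
      rw [LinearEquiv.coe_coe, Module.Basis.equiv_apply, Equiv.refl_apply, ← hl j]
      simp [π', π, bF]
      exact (LinearMap.baseChange_tmul _ _ _).trans
        (congrArg _ ((Finsupp.linearCombination_single _ _ _).trans (one_smul _ _)))
    rw [heq]
    exact LinearEquiv.bijective _
  have hπ : Function.Surjective π := by
    rw [← LinearMap.range_eq_top, eq_top_iff]
    have hsub : Submodule.map (LinearMap.range π).mkQ ⊤ = ⊥ := by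
      refine eq_bot_of_le_smul_of_isNilpotent hm fun z hz => ?_
      obtain ⟨x, -, rfl⟩ := hz
      obtain ⟨w, hw⟩ := hπ'b.2 ((1 : A ⧸ m) ⊗ₜ[A] x)
      obtain ⟨v, rfl⟩ := TensorProduct.mk_surjective A F (A ⧸ m) Ideal.Quotient.mk_surjective w
      have h2 : ((1 : A ⧸ m) ⊗ₜ[A] (x - π v)) = 0 := by
        rw [tmul_sub, ← hw]
        exact sub_self _
      have h3 := congrArg (TensorProduct.quotTensorEquivQuotSMul M m) h2
      rw [← map_one (Ideal.Quotient.mk m), TensorProduct.quotTensorEquivQuotSMul_mk_tmul, one_smul, map_zero,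
        Submodule.Quotient.mk_eq_zero] at h3
      have h4 : x - π v ∈ (m • ⊤ : Submodule A M) := h3
      have h5 := Submodule.mem_map_of_mem (f := (LinearMap.range π).mkQ) h4
      rw [Submodule.map_smul'', map_sub, show (LinearMap.range π).mkQ (π v) = 0 from
        (Submodule.Quotient.mk_eq_zero _).mpr ⟨v, rfl⟩, sub_zero] at h5
      exact h5
    intro x _
    have hx : (LinearMap.range π).mkQ x ∈ (⊥ : Submodule A _) := hsub ▸ Submodule.mem_map_of_mem Submodule.mem_top
    exact (Submodule.Quotient.mk_eq_zero _).mp ((Submodule.mem_bot A).mp hx)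
  have hinj : Function.Injective π := by
    refine (injective_iff_map_eq_zero π).mpr fun v hv => Finsupp.ext fun j => hB _ fun i => ?_
    haveI := h i
    let πi : B i ⊗[A] F →ₗ[B i] B i ⊗[A] M := π.baseChange (B i)
    let mi := m.map (algebraMap A (B i))
    have hmi : IsNilpotent mi := by
      obtain ⟨n, hn⟩ := hm
      exact ⟨n, by rw [Submodule.zero_eq_bot, ← Ideal.map_pow, hn, Submodule.zero_eq_bot, Ideal.map_bot]⟩
    have hmodi : Function.Injective (πi.lTensor (B i ⧸ mi)) := by
      letI : Algebra (A ⧸ m) (B i ⧸ mi) := (Ideal.quotientMap mi (algebraMap A (B i)) Ideal.le_comap_map).toAlgebra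
      haveI : IsScalarTower A (A ⧸ m) (B i ⧸ mi) := IsScalarTower.of_algebraMap_eq fun _ => rfl
      let eF := AlgebraTensorModule.cancelBaseChange A (B i) (B i) (B i ⧸ mi) F
      let eM := AlgebraTensorModule.cancelBaseChange A (B i) (B i) (B i ⧸ mi) M
      let gF := AlgebraTensorModule.cancelBaseChange A (A ⧸ m) (A ⧸ m) (B i ⧸ mi) F
      let gM := AlgebraTensorModule.cancelBaseChange A (A ⧸ m) (A ⧸ m) (B i ⧸ mi) M
      have hsq1 : ∀ z, eM (πi.lTensor (B i ⧸ mi) z) = π.lTensor (B i ⧸ mi) (eF z) := fun z => by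
        induction z using TensorProduct.induction_on with
        | zero => simp
        | add a b ha hb => simp only [map_add, ha, hb]
        | tmul c t =>
          induction t using TensorProduct.induction_on with
          | zero => simp
          | add a b ha hb => simp only [tmul_add, map_add, ha, hb]
          | tmul c' v => simp [eM, eF, πi]
      have hsq2 : ∀ z, gM (π'.lTensor (B i ⧸ mi) z) = π.lTensor (B i ⧸ mi) (gF z) := fun z => by
        induction z using TensorProduct.induction_on with
        | zero => simp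
        | add a b ha hb => simp only [map_add, ha, hb]
        | tmul c t =>
          induction t using TensorProduct.induction_on with
          | zero => simp
          | add a b ha hb => simp only [tmul_add, map_add, ha, hb]
          | tmul c' v =>
            have e1 : π'.lTensor (B i ⧸ mi) (c ⊗ₜ[A ⧸ m] (c' ⊗ₜ[A] v)) = c ⊗ₜ[A ⧸ m] (c' ⊗ₜ[A] π v) :=
              congrArg (c ⊗ₜ[A ⧸ m] ·) (LinearMap.baseChange_tmul _ _ _)
            rw [e1]
            simp [gM, gF]
      have hbij : Function.Injective (π.lTensor (B i ⧸ mi)) := by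
        intro a b hab
        obtain ⟨a, rfl⟩ := gF.surjective a
        obtain ⟨b, rfl⟩ := gF.surjective b
        rw [← hsq2, ← hsq2] at hab
        have h2 : Function.Injective (π'.lTensor (B i ⧸ mi)) :=
          (LinearEquiv.lTensor (B i ⧸ mi) (LinearEquiv.ofBijective π' hπ'b)).injective
        rw [h2 (gM.injective hab)]
      intro a b hab
      exact eF.injective (hbij (by rw [← hsq1, ← hsq1, hab]))
    have hzero : (1 : B i) ⊗ₜ[A] v = 0 := by
      refine injective_of_injective_mod mi hmi πi (LinearMap.lTensor_surjective (B i) hπ) hmodi ?_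
      rw [map_zero]
      simp [πi, hv]
    have h6 := congrArg (fun z => (TensorProduct.finsuppScalarRight A A (B i) _ z) j) hzero
    have h7 : (TensorProduct.finsuppScalarRight A A (B i) _ ((1 : B i) ⊗ₜ[A] v)) j = v j • (1 : B i) :=
      TensorProduct.finsuppScalarRight_apply_tmul_apply _ _ _
    rw [Algebra.algebraMap_eq_smul_one, ← h7]
    exact h6.trans (by rw [map_zero, Finsupp.zero_apply])
  exact Module.Flat.of_linearEquiv (LinearEquiv.ofBijective π ⟨hinj, hπ⟩).symm

/-- Let A be a semi-local ring (finitely many maximal ideals) whose Jacobson radical is nilpotent, for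
instance an Artinian ring, and let (u_i : A → B_i) be a family of ring homomorphisms whose kernels
have zero intersection. Then an A-module M is flat if and only if, for every i, the B_i-module B_i
⊗_A M is flat. -/
theorem result {A : Type u} [CommRing A]
    [Finite (MaximalSpectrum A)] (hnil : IsNilpotent (Ring.jacobson A))
    {ι : Type u} (B : ι → Type u) [∀ i, CommRing (B i)] [∀ i, Algebra A (B i)]
    (hB : ∀ a : A, (∀ i, algebraMap A (B i) a = 0) → a = 0)
    (M : Type u) [AddCommGroup M] [Module A M] :
    Module.Flat A M ↔ ∀ i, Module.Flat (B i) (B i ⊗[A] M) := by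
  refine ⟨fun _ i => inferInstance, fun h => ?_⟩
  classical
  refine Module.flat_of_localized_maximal M fun P hP => ?_
  haveI := hP
  obtain ⟨N, hN⟩ := hnil
  have hfin : {I : Ideal A | I.IsMaximal}.Finite := by
    refine Set.Finite.subset (Set.finite_range (fun m : MaximalSpectrum A => m.asIdeal)) fun I hI => ?_
    exact ⟨⟨I, hI⟩, rfl⟩
  let ms : Finset (Ideal A) := hfin.toFinset
  have hms : ∀ I : Ideal A, I ∈ ms ↔ I.IsMaximal := fun I => by simp [ms]
  -- an element outside `P` which is deep in all the other maximal ideals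
  obtain ⟨e, he1, he2⟩ : ∃ e : A, e ∈ ∏ I ∈ ms.erase P, I ^ N ∧ e ∉ P := by
    by_contra hne
    push Not at hne
    have hle : ∏ I ∈ ms.erase P, I ^ N ≤ P := hne
    obtain ⟨I, hI, hIP⟩ := (Ideal.IsPrime.prod_le inferInstance).mp hle
    obtain ⟨hne', hI'⟩ := Finset.mem_erase.mp hI
    exact hne' (((hms I).mp hI').eq_of_le hP.ne_top (Ideal.IsPrime.le_of_pow_le hIP))
  have hkill : ∀ y ∈ P ^ N, e * y = 0 := by
    intro y hy
    have h1 : e * y ∈ ∏ I ∈ ms, I ^ N := by
      rw [← Finset.prod_erase_mul ms _ ((hms P).mpr hP)]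
      exact Ideal.mul_mem_mul he1 hy
    have h2 : ∏ I ∈ ms, I ^ N ≤ (Ring.jacobson A) ^ N := by
      rw [Finset.prod_pow]
      refine Ideal.pow_right_mono ?_ N
      rw [Ring.jacobson_eq_sInf_isMaximal]
      refine le_sInf fun I hI => le_trans Ideal.prod_le_inf ?_
      exact Finset.inf_le ((hms I).mpr hI)
    have h3 := h2 h1
    rw [hN] at h3
    exact (Submodule.mem_bot A).mp h3
  let AP := Localization.AtPrime P
  let BP := fun i => LocalizedModule P.primeCompl A ⊗[A] B i
  have hnilP : IsNilpotent (IsLocalRing.maximalIdeal AP) := by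
    refine ⟨N, ?_⟩
    rw [← IsLocalization.AtPrime.map_eq_maximalIdeal P AP, ← Ideal.map_pow, Submodule.zero_eq_bot,
      Ideal.map_eq_bot_iff_le_ker]
    intro y hy
    rw [RingHom.mem_ker, IsLocalization.map_eq_zero_iff P.primeCompl]
    exact ⟨⟨e, he2⟩, hkill y hy⟩
  haveI : Module.Flat AP (LocalizedModule P.primeCompl M) := ?_
  · exact Module.Flat.trans A AP _
  refine flat_of_nilpotent_maximal hnilP (fun i => Localization (Algebra.algebraMapSubmonoid (B i) P.primeCompl))
    ?_ (LocalizedModule P.primeCompl M) fun i => ?_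
  · intro a ha
    obtain ⟨⟨a, s⟩, rfl⟩ := IsLocalization.mk'_surjective P.primeCompl a
    show IsLocalization.mk' AP a s = 0
    rw [IsLocalization.mk'_eq_zero_iff]
    refine ⟨⟨e, he2⟩, hB _ fun i => ?_⟩
    have h1 := ha i
    change algebraMap AP _ (IsLocalization.mk' AP a s) = 0 at h1
    rw [IsLocalization.algebraMap_mk' (B i) (Localization.AtPrime P)
      (Localization (Algebra.algebraMapSubmonoid (B i) P.primeCompl)), IsLocalization.mk'_eq_zero_iff] at h1
    obtain ⟨⟨_, t, ht, rfl⟩, h2⟩ := h1
    obtain ⟨r, hr⟩ : ∃ r, 1 - r * t ∈ P ^ N := by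
      have hco : Ideal.span {t} ⊔ P ^ N = ⊤ :=
        Ideal.sup_pow_eq_top (hP.out.2 _ (right_lt_sup.mpr fun hle => ht (hle (Ideal.mem_span_singleton_self t))))
      obtain ⟨a', ha', b', hb', hab⟩ := Submodule.mem_sup.mp (hco.ge (Submodule.mem_top (x := (1 : A))))
      obtain ⟨r, rfl⟩ := Ideal.mem_span_singleton'.mp ha'
      exact ⟨r, by rw [← hab, add_sub_cancel_left]; exact hb'⟩
    have he : e = e * (r * t) := by
      have := hkill _ hr
      rw [mul_sub, mul_one, sub_eq_zero] at this
      exact this
    show algebraMap A (B i) (e * a) = 0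
    rw [he, map_mul, map_mul, map_mul, mul_assoc, mul_assoc, h2, mul_zero, mul_zero]
  · haveI := h i
    exact Module.Flat.of_linearEquiv (M := Localization (Algebra.algebraMapSubmonoid (B i) P.primeCompl) ⊗[B i]
        (B i ⊗[A] M))
      ((AlgebraTensorModule.congr (LinearEquiv.refl _ _) (LocalizedModule.equivTensorProduct P.primeCompl M)) ≪≫ₗ
        AlgebraTensorModule.cancelBaseChange A AP (Localization (Algebra.algebraMapSubmonoid (B i) P.primeCompl))
          (Localization (Algebra.algebraMapSubmonoid (B i) P.primeCompl)) M ≪≫ₗ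
        (AlgebraTensorModule.cancelBaseChange A (B i) (Localization (Algebra.algebraMapSubmonoid (B i) P.primeCompl))
          (Localization (Algebra.algebraMapSubmonoid (B i) P.primeCompl)) M).symm)

end Groth.Agent.S4852
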