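import Groth.Statements.S4853
import Mathlib
import Groth.Agent.RichLib.NilpLift

set_option autoImplicit false
universe u
open TensorProduct
open EGA43

namespace Groth.Agent.S4853

open RichLib.NilpLift

/-- Let A be a commutative ring and M an A-module such that (A/J) ⊗_A M is free over A/J for some
nilpotent ideal J of A. Then among the ideals R of A such that (A/R) ⊗_A M is free over A/R there is
a least one, R₀, which is also the least ideal R such that (A/R) ⊗_A M is flat over A/R; and for
every commutative A-algebra A', the module A' ⊗_A M is free over A' if and only if it is flat over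
A', if and only if R₀ generates the zero ideal of A'. -/
theorem result {A : Type u} [CommRing A]
    (M : Type u) [AddCommGroup M] [Module A M]
    (J : Ideal A) (hJ : IsNilpotent J) (hfree : Module.Free (A ⧸ J) ((A ⧸ J) ⊗[A] M)) :
    ∃ R₀ : Ideal A,
      IsLeast {R : Ideal A | Module.Free (A ⧸ R) ((A ⧸ R) ⊗[A] M)} R₀ ∧
      IsLeast {R : Ideal A | Module.Flat (A ⧸ R) ((A ⧸ R) ⊗[A] M)} R₀ ∧
      ∀ (A' : Type u) [CommRing A'] [Algebra A A'],
        (Module.Free A' (A' ⊗[A] M) ↔ Ideal.map (algebraMap A A') R₀ = ⊥) ∧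
        (Module.Flat A' (A' ⊗[A] M) ↔ Ideal.map (algebraMap A A') R₀ = ⊥) := by
  classical
  haveI := hfree
  obtain ⟨σ, π, hb⟩ := exists_lift_basis J M
  have hπ : Function.Surjective π := surjective_of_surjective_mod J hJ π hb.2
  let R₀ : Ideal A := Ideal.span {a | ∃ v j, π v = 0 ∧ v j = a}
  have key : ∀ (A' : Type u) [CommRing A'] [Algebra A A'],
      (Module.Free A' (A' ⊗[A] M) → Module.Flat A' (A' ⊗[A] M)) ∧
      (Module.Flat A' (A' ⊗[A] M) → Ideal.map (algebraMap A A') R₀ = ⊥) ∧
      (Ideal.map (algebraMap A A') R₀ = ⊥ → Module.Free A' (A' ⊗[A] M)) := by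
    intro A' _ _
    refine ⟨fun h => inferInstance, fun h => ?_, fun h => ?_⟩
    · haveI := h
      have hnil : IsNilpotent (J.map (algebraMap A A')) := by
        obtain ⟨n, hn⟩ := hJ
        exact ⟨n, by rw [Submodule.zero_eq_bot, ← Ideal.map_pow, hn, Submodule.zero_eq_bot, Ideal.map_bot]⟩
      have hinj : Function.Injective (π.baseChange A') :=
        injective_of_injective_mod _ hnil _ (LinearMap.lTensor_surjective A' hπ) (injective_mod_baseChange J π hb)
      rw [Ideal.map_eq_bot_iff_le_ker, Ideal.span_le]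
      rintro _ ⟨v, j, hv, rfl⟩
      have h0 : (1 : A') ⊗ₜ[A] v = 0 := hinj (by rw [map_zero, LinearMap.baseChange_tmul, hv, tmul_zero])
      have h6 := congrArg (fun z => (TensorProduct.finsuppScalarRight A A A' σ z) j) h0
      have h7 : (TensorProduct.finsuppScalarRight A A A' σ ((1 : A') ⊗ₜ[A] v)) j = v j • (1 : A') :=
        TensorProduct.finsuppScalarRight_apply_tmul_apply _ _ _
      show algebraMap A A' (v j) = 0
      rw [Algebra.algebraMap_eq_smul_one, ← h7]
      exact h6.trans (by rw [map_zero, Finsupp.zero_apply])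
    · have hker : (LinearMap.ker π).subtype.lTensor A' = 0 := by
        refine TensorProduct.ext' fun a v => ?_
        refine (TensorProduct.finsuppScalarRight A A A' σ).injective (Finsupp.ext fun j => ?_)
        have h0 : algebraMap A A' (v.1 j) = 0 := by
          rw [← Ideal.mem_bot (R := A'), ← h]
          exact Ideal.mem_map_of_mem _ (Ideal.subset_span ⟨v.1, j, v.2, rfl⟩)
        rw [LinearMap.lTensor_tmul, LinearMap.zero_apply, map_zero, Finsupp.zero_apply,
          Submodule.subtype_apply, TensorProduct.finsuppScalarRight_apply_tmul_apply, Algebra.smul_def, h0, zero_mul]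
      have hexk : Function.Exact (LinearMap.ker π).subtype π := LinearMap.exact_subtype_ker_map π
      have hex := lTensor_exact A' (M := (LinearMap.ker π : Submodule A (σ →₀ A))) (f := (LinearMap.ker π).subtype) hexk hπ
      have hinj : Function.Injective (π.baseChange A') := by
        refine (injective_iff_map_eq_zero _).mpr fun z hz => ?_
        obtain ⟨y, rfl⟩ := (hex z).mp hz
        rw [hker, LinearMap.zero_apply]
      exact Module.Free.of_equiv (LinearEquiv.ofBijective (π.baseChange A') ⟨hinj, LinearMap.lTensor_surjective A' hπ⟩)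
  have hq : Ideal.map (algebraMap A (A ⧸ R₀)) R₀ = ⊥ := Ideal.map_quotient_self R₀
  have hle : ∀ R : Ideal A, Module.Flat (A ⧸ R) ((A ⧸ R) ⊗[A] M) → R₀ ≤ R := fun R h => by
    have h1 := (key (A ⧸ R)).2.1 h
    rw [Ideal.map_eq_bot_iff_le_ker] at h1
    exact h1.trans (le_of_eq Ideal.mk_ker)
  refine ⟨R₀, ⟨(key _).2.2 hq, fun R h => hle R ((key _).1 h)⟩, ⟨(key _).1 ((key _).2.2 hq), fun R h => hle R h⟩,
    fun A' _ _ => ⟨⟨fun h => (key A').2.1 ((key A').1 h), (key A').2.2⟩,
      ⟨(key A').2.1, fun h => (key A').1 ((key A').2.2 h)⟩⟩⟩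

end Groth.Agent.S4853
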