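import Groth.Statements.S4855
import Groth.Agent.ProperFlatLib.Main
import Groth.Agent.DepthLib.SkOpen
import Groth.Agent.MiscFlat6.FreeStalks

set_option autoImplicit false
set_option backward.isDefEq.respectTransparency false
set_option backward.isDefEq.respectTransparency.types false
set_option maxHeartbeats 1000000
universe u
open CategoryTheory AlgebraicGeometry
open EGA43

namespace Groth.Agent.S4855

open CategoryTheory.Limits
section Helpers
end Helpers

open CategoryTheory.Limits in
/-- Let f : X ⟶ Y be a proper morphism of finite presentation such that the map O_Y → f_* O_X is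
injective (on sections over every open subset of Y). Then f is flat if and only if the first
projection X ×_Y X ⟶ X is flat. -/
theorem result {X Y : Scheme.{u}} (f : X ⟶ Y)
    [IsProper f] [LocallyOfFinitePresentation f] (hinj : ∀ V : Y.Opens, Function.Injective (f.app V)) :
    Flat f ↔ Flat (pullback.fst f f) := by
  constructor
  · intro h
    exact MorphismProperty.pullback_fst f f h
  · intro h
    haveI : Flat (pullback.snd f f) := by
      rw [← pullbackSymmetry_hom_comp_fst f f]
      infer_instance
    haveI : Coh.IsQCoh (Coh.structureModule X) := QCohLib.isQCoh_unit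
    refine Flat.of_stalkMap f fun x => (DepthLib.isFlatOverAt_structureModule_iff f x).1 ?_
    refine ProperFlatLib.flat_descent f (Coh.structureModule X) ?_ x f ?_ fun x' _ => ?_
    · exact (MiscFlat6.isFlat_and_isFP_iff.2 (fun y => ⟨⊤, 1, trivial, (RankLocusLib.freeAlong_restrict_iff _ _).1 ⟨KFlatLib.pullUnitIso _ ≪≫ (coproductUniqueIso fun _ : Fin 1 => Coh.structureModule _).symm⟩⟩)).2
    · exact fun V s hy hs => ⟨V, hy, le_rfl, by
        rw [hinj V (hs.trans (map_zero _).symm), map_zero]⟩
    · refine (RichLib.ModFlat.isFlatOverAt_iso _ (KFlatLib.pullUnitIso (pullback.fst f f)) x').2 ?_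
      exact (DepthLib.isFlatOverAt_structureModule_iff _ x').2 (Flat.stalkMap _ x')

end Groth.Agent.S4855
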