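import Groth.Statements.S4856
import Mathlib
import Groth.Agent.RichLib.FlatFamily
import Groth.Agent.RichLib.ModFlatStage
import Groth.Agent.FlatLib.QStalk
import Groth.Agent.QCohLib.Coherent

set_option autoImplicit false
universe u
open CategoryTheory AlgebraicGeometry
open EGA43

namespace Groth.Agent.S4856

/-- the closed point of the spectrum of a local ring -/
theorem closed_of_primeIdealOf {A : Type u} [CommRing A] [IsLocalRing A]
    [IsLocalRing Γ(Spec (CommRingCat.of A), ⊤)] {z : Spec (CommRingCat.of A)}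
    (h : ((isAffineOpen_top (Spec (CommRingCat.of A))).primeIdealOf ⟨z, trivial⟩).asIdeal =
      IsLocalRing.maximalIdeal Γ(Spec (CommRingCat.of A), ⊤)) : z = IsLocalRing.closedPoint A := by
  have hc : IsClosed {(isAffineOpen_top (Spec (CommRingCat.of A))).primeIdealOf ⟨z, trivial⟩} :=
    (PrimeSpectrum.isClosed_singleton_iff_isMaximal _).mpr (h ▸ IsLocalRing.maximalIdeal.isMaximal _)
  have hz : IsClosed ({⟨z, trivial⟩} : Set ↥(⊤ : (Spec (CommRingCat.of A)).Opens)) := by
    refine (isAffineOpen_top (Spec (CommRingCat.of A))).isoSpec.hom.homeomorph.isClosed_image.mp ?_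
    erw [Set.image_singleton]
    exact hc
  have hz' : IsClosed ({z} : Set (Spec (CommRingCat.of A))) := by
    have h2 := (Homeomorph.Set.univ (Spec (CommRingCat.of A))).isClosedMap _ hz
    rw [Set.image_singleton] at h2
    exact h2
  exact PrimeSpectrum.ext (IsLocalRing.eq_maximalIdeal ((PrimeSpectrum.isClosed_singleton_iff_isMaximal z).mp hz'))

open CategoryTheory.Limits in
/-- Let A be an Artinian local ring, f : X ⟶ Spec A locally of finite type, F a coherent O_X-module and
x a point of X. Let (u_i : A → A_i) be a family of ring homomorphisms into local rings such that an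
element of A killed by every u_i is zero. If, for every i, the pullback of F to X_i = X ×_{Spec A}
Spec A_i is flat over Spec A_i at every point of X_i whose images are x in X and the closed point in
Spec A_i, then F is f-flat at x. -/
theorem result {A : Type u} [CommRing A]
    [IsArtinianRing A] [IsLocalRing A] {X : Scheme.{u}} (f : X ⟶ Spec (CommRingCat.of A))
    [LocallyOfFiniteType f] (F : X.Modules) (hF : Coh.IsCoh F) (x : X)
    {ι : Type u} (A' : ι → Type u) [∀ i, CommRing (A' i)] [∀ i, IsLocalRing (A' i)] (u : ∀ i, A →+* A' i)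
    (hu : ∀ a : A, (∀ i, u i a = 0) → a = 0)
    (hflat : ∀ (i : ι) (x' : ↥(pullback f (Spec.map (CommRingCat.ofHom (u i))))),
      pullback.fst f (Spec.map (CommRingCat.ofHom (u i))) x' = x →
      pullback.snd f (Spec.map (CommRingCat.ofHom (u i))) x' = IsLocalRing.closedPoint (A' i) →
      FlatMod.IsFlatOverAt (pullback.snd f (Spec.map (CommRingCat.ofHom (u i))))
        ((Scheme.Modules.pullback (pullback.fst f (Spec.map (CommRingCat.ofHom (u i))))).obj F) x') :
    FlatMod.IsFlatOverAt f F x := by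
  classical
  haveI hq : Coh.IsQCoh F := hF.1
  haveI : IsLocallyNoetherian X := LocallyOfFiniteType.isLocallyNoetherian f
  let S := Spec (CommRingCat.of A)
  let R := Γ(S, ⊤)
  let εA : R ≃+* A := (Scheme.ΓSpecIso (CommRingCat.of A)).commRingCatIsoToRingEquiv
  haveI : IsLocalRing R := εA.symm.isLocalRing
  haveI : IsArtinianRing R := εA.symm.isArtinianRing
  have hmnil : IsNilpotent (IsLocalRing.maximalIdeal R) := by
    rw [← IsLocalRing.jacobson_eq_maximalIdeal (⊥ : Ideal R) bot_ne_top]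
    exact IsArtinianRing.isNilpotent_jacobson_bot
  obtain ⟨V, hV, hxV⟩ := QCohLib.exists_affine_nhd x
  haveI : IsNoetherianRing Γ(X, V) := IsLocallyNoetherian.component_noetherian ⟨V, hV⟩
  haveI : Module.Finite Γ(X, V) Γ(F, V) := QCohLib.finite_of_isFT hF.2 hV
  have hle : V ≤ f ⁻¹ᵁ (⊤ : S.Opens) := le_top
  letI : Algebra R Γ(X, V) := (f.appLE ⊤ V hle).hom.toAlgebra
  letI : Module R Γ(F, V) := Module.compHom Γ(F, V) (f.appLE ⊤ V hle).hom
  haveI : IsScalarTower R Γ(X, V) Γ(F, V) := IsScalarTower.of_algebraMap_smul fun _ _ => rfl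
  rw [FlatLib.isFlatOverAt_iff f F ⊤ (isAffineOpen_top S) V hV hle hxV rfl]
  refine RichLib.FlatFamily.mem_flatLocus_of_family hmnil _ _ fun {σ} l hl v hv j => ?_
  refine (map_eq_zero_iff εA εA.injective).mp (hu _ fun i => ?_)
  let T := Spec (CommRingCat.of (A' i))
  let g' : T ⟶ S := Spec.map (CommRingCat.ofHom (u i))
  let R' := Γ(T, ⊤)
  let εT : R' ≃+* A' i := (Scheme.ΓSpecIso (CommRingCat.of (A' i))).commRingCatIsoToRingEquiv
  haveI : IsLocalRing R' := εT.symm.isLocalRing
  have hle' : (⊤ : T.Opens) ≤ g' ⁻¹ᵁ (⊤ : S.Opens) := le_top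
  letI : Algebra R R' := (g'.appLE ⊤ ⊤ hle').hom.toAlgebra
  have hnat : ∀ r : R, εT (algebraMap R R' r) = u i (εA r) := fun r => by
    show εT (g'.appLE ⊤ ⊤ hle' r) = _
    rw [show g'.appLE ⊤ ⊤ hle' = g'.appTop from by simp [Scheme.Hom.appLE]]
    exact congr($(Scheme.ΓSpecIso_naturality (CommRingCat.ofHom (u i))) r)
  haveI : IsLocalHom (algebraMap R R') := ⟨fun r hr => by
    by_contra hnu
    obtain ⟨n, hn⟩ := hmnil
    have h0 : r ^ n = 0 := by
      have := Ideal.pow_mem_pow ((IsLocalRing.mem_maximalIdeal r).mpr hnu) n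
      rwa [hn, Submodule.zero_eq_bot, Submodule.mem_bot] at this
    exact not_isUnit_zero (M₀ := R') (by rw [← map_zero (algebraMap R R'), ← h0, map_pow]; exact hr.pow n)⟩
  rw [← hnat, map_eq_zero_iff εT εT.injective]
  let P := pullback f g'
  haveI : IsAffineHom g' := inferInstance
  let fst : P ⟶ X := pullback.fst f g'
  haveI : IsAffineHom fst := MorphismProperty.pullback_fst (P := @IsAffineHom) _ _ inferInstance
  let snd : P ⟶ T := pullback.snd f g'
  let V' : P.Opens := fst ⁻¹ᵁ V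
  have hV' : IsAffineOpen V' := hV.preimage fst
  have hV'T : V' ≤ snd ⁻¹ᵁ (⊤ : T.Opens) := le_top
  let M' := KFlatLib.pb fst F
  haveI : Coh.IsQCoh M' := KFlatLib.isQCoh_pullback fst F
  letI : Algebra R' Γ(P, V') := (snd.appLE ⊤ V' hV'T).hom.toAlgebra
  letI : Algebra Γ(X, V) Γ(P, V') := (fst.appLE V V' le_rfl).hom.toAlgebra
  letI : Algebra R Γ(P, V') := ((fst.appLE V V' le_rfl).hom.comp (algebraMap R Γ(X, V))).toAlgebra
  haveI : IsScalarTower R Γ(X, V) Γ(P, V') := IsScalarTower.of_algebraMap_eq fun _ => rfl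
  haveI : IsScalarTower R R' Γ(P, V') := IsScalarTower.of_algebraMap_eq fun r => by
    show (f.appLE ⊤ V hle ≫ fst.appLE V V' le_rfl) r = (g'.appLE ⊤ ⊤ hle' ≫ snd.appLE ⊤ V' hV'T) r
    simp only [Scheme.Hom.appLE_comp_appLE, fst, snd, pullback.condition]
  haveI : Algebra.IsPushout R R' Γ(X, V) Γ(P, V') := by
    have hUY : V' = fst ⁻¹ᵁ V ⊓ snd ⁻¹ᵁ (⊤ : T.Opens) := by simp [V']
    have h := (isIso_pushoutSection_iff (IsPullback.of_hasPullback f g') hle' hle hUY).mp
      (isIso_pushoutSection_of_isAffineOpen (IsPullback.of_hasPullback f g') hle' hle hUY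
        (isAffineOpen_top S) (isAffineOpen_top T) hV)
    exact CommRingCat.isPushout_iff_isPushout.mp h.flip
  letI : Module Γ(X, V) Γ(M', V') := Module.compHom Γ(M', V') (fst.appLE V V' le_rfl).hom
  haveI : IsScalarTower Γ(X, V) Γ(P, V') Γ(M', V') := IsScalarTower.of_algebraMap_smul fun _ _ => rfl
  letI : Module R' Γ(M', V') := Module.compHom Γ(M', V') (snd.appLE ⊤ V' hV'T).hom
  haveI : IsScalarTower R' Γ(P, V') Γ(M', V') := IsScalarTower.of_algebraMap_smul fun _ _ => rfl
  let ψ : Γ(F, V) →ₗ[Γ(X, V)] Γ(M', V') :=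
    { toFun := KFlatLib.puSecLE fst F le_rfl
      map_add' := map_add _
      map_smul' := fun r m => by rw [KFlatLib.puSecLE_smul, RingHom.id_apply]; rfl }
  have hψ : IsBaseChange Γ(P, V') ψ :=
    KFlatLib.isBaseChange_puSec fst F hV hV' le_rfl (fun _ => rfl) ψ fun _ => rfl
  refine RichLib.FlatFamily.relation_mem (hV.primeIdealOf ⟨x, hxV⟩).asIdeal Γ(F, V) ψ hψ
    (fun Q hQp hQm => ?_) l hl v hv j
  obtain ⟨⟨y, hy⟩, rfl⟩ := hV'.isoSpec.hom.surjective Q
  change (hV'.primeIdealOf ⟨y, hy⟩).asIdeal.comap (algebraMap R' Γ(P, V')) = _ at hQm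
  change (hV'.primeIdealOf ⟨y, hy⟩).asIdeal.comap (algebraMap Γ(X, V) Γ(P, V')) = _ at hQp
  refine (FlatLib.isFlatOverAt_iff snd M' ⊤ (isAffineOpen_top T) V' hV' hV'T hy rfl).mp (hflat i y ?_ ?_)
  · have h1 : hV.primeIdealOf ⟨fst y, hy⟩ = hV.primeIdealOf ⟨x, hxV⟩ := by
      rw [← IsAffineOpen.comap_primeIdealOf_appLE V hV V' hV' (f := fst) le_rfl hy]
      exact PrimeSpectrum.ext hQp
    exact congrArg Subtype.val (hV.isoSpec.hom.homeomorph.injective h1)
  · have h1 : ((isAffineOpen_top T).primeIdealOf ⟨snd y, trivial⟩).asIdeal = IsLocalRing.maximalIdeal R' := by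
      rw [← IsAffineOpen.comap_primeIdealOf_appLE ⊤ (isAffineOpen_top T) V' hV' (f := snd) hV'T hy]
      exact hQm
    exact closed_of_primeIdealOf h1

end Groth.Agent.S4856
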