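import Groth.Statements.S4859
import Mathlib

set_option autoImplicit false
universe u
open EGA43

namespace Groth.Agent.S4859

/-- Conditions a), a′), b) (quasi-homeomorphisms): for a continuous map f : X₀ → X the following are
equivalent: taking preimages is a bijection from the open subsets of X onto the open subsets of X₀;
taking preimages is a bijection from the closed subsets of X onto the closed subsets of X₀; the
topology of X₀ is induced from X through f and the image f(X₀) is very dense in X, in the sense that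
two open subsets of X with the same trace on f(X₀) coincide. -/
theorem result {X₀ X : Type u} [TopologicalSpace X₀] [TopologicalSpace X]
    (f : X₀ → X) (hf : Continuous f) :
    [Function.Bijective (fun U : TopologicalSpace.Opens X =>
        (⟨f ⁻¹' (U : Set X), U.isOpen.preimage hf⟩ : TopologicalSpace.Opens X₀)),
      Function.Bijective (fun F : TopologicalSpace.Closeds X =>
        (⟨f ⁻¹' (F : Set X), F.isClosed.preimage hf⟩ : TopologicalSpace.Closeds X₀)),
      Topology.IsInducing f ∧
        ∀ U V : Set X, IsOpen U → IsOpen V → U ∩ Set.range f = V ∩ Set.range f → U = V].TFAE := by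
  tfae_have 1 → 2 := by
    intro h
    refine ⟨fun F F' he => ?_, fun F => ?_⟩
    · apply TopologicalSpace.Closeds.ext
      have h1 : F.compl = F'.compl := h.1 (TopologicalSpace.Opens.ext (by
        show f ⁻¹' (F : Set X)ᶜ = f ⁻¹' (F' : Set X)ᶜ
        rw [Set.preimage_compl, Set.preimage_compl]
        exact congrArg compl (congrArg SetLike.coe he)))
      exact compl_injective (congrArg SetLike.coe h1)
    · obtain ⟨U, hU⟩ := h.2 F.compl
      refine ⟨U.compl, TopologicalSpace.Closeds.ext ?_⟩
      show f ⁻¹' (U : Set X)ᶜ = F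
      rw [Set.preimage_compl, show f ⁻¹' (U : Set X) = (F : Set X₀)ᶜ from congrArg SetLike.coe hU, compl_compl]
  tfae_have 2 → 3 := by
    intro h
    refine ⟨⟨TopologicalSpace.ext_iff.2 fun s => ?_⟩, fun U V hU hV he => ?_⟩
    · rw [isOpen_induced_iff]
      refine ⟨fun hs => ?_, fun ⟨t, ht, hts⟩ => hts ▸ ht.preimage hf⟩
      obtain ⟨F, hF⟩ := h.2 ⟨sᶜ, hs.isClosed_compl⟩
      refine ⟨(F : Set X)ᶜ, F.isClosed.isOpen_compl, ?_⟩
      rw [Set.preimage_compl, show f ⁻¹' (F : Set X) = sᶜ from congrArg SetLike.coe hF, compl_compl]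
    · have h1 := @h.1 ⟨Uᶜ, hU.isClosed_compl⟩ ⟨Vᶜ, hV.isClosed_compl⟩ (TopologicalSpace.Closeds.ext (by
        show f ⁻¹' Uᶜ = f ⁻¹' Vᶜ
        ext x
        have h2 := Set.ext_iff.1 he (f x)
        simp only [Set.mem_inter_iff, Set.mem_range_self, and_true] at h2
        simp [h2]))
      exact compl_injective (congrArg SetLike.coe h1)
  tfae_have 3 → 1 := by
    rintro ⟨hi, h⟩
    refine ⟨fun U V he => TopologicalSpace.Opens.ext (h _ _ U.2 V.2 ?_), fun W => ?_⟩
    · have h1 : f ⁻¹' (U : Set X) = f ⁻¹' (V : Set X) := congrArg SetLike.coe he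
      rw [← Set.image_preimage_eq_inter_range, ← Set.image_preimage_eq_inter_range, h1]
    · obtain ⟨t, ht, htW⟩ := hi.isOpen_iff.1 W.2
      exact ⟨⟨t, ht⟩, TopologicalSpace.Opens.ext htW⟩
  tfae_finish

end Groth.Agent.S4859
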