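import Groth.Statements.S4860
import Mathlib

set_option autoImplicit false
universe u
open EGA43

namespace Groth.Agent.S4860

theorem exists_away_isField (B K : Type u) [CommRing B] [IsDomain B] [Field K] [Algebra B K] [FaithfulSMul B K]
    [Algebra.FiniteType B K] : ∃ f : B, f ≠ 0 ∧ IsField (Localization.Away f) := by
  classical
  letI : Algebra (FractionRing B) K := FractionRing.liftAlgebra B K
  haveI : Algebra.FiniteType (FractionRing B) K := Algebra.FiniteType.of_restrictScalars_finiteType B _ K
  haveI : Module.Finite (FractionRing B) K := finite_of_finite_type_of_isJacobsonRing _ _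
  haveI : Algebra.IsAlgebraic B K := (IsFractionRing.comap_isAlgebraic_iff (A := B) (K := FractionRing B)).2 inferInstance
  obtain ⟨G, hG⟩ := Algebra.FiniteType.out (R := B) (A := K)
  obtain ⟨f, hf, hint⟩ := Algebra.IsAlgebraic.exists_integral_multiples B G
  refine ⟨f, hf, ?_⟩
  haveI : IsDomain (Localization.Away f) :=
    IsLocalization.isDomain_localization (powers_le_nonZeroDivisors_of_noZeroDivisors hf)
  have hfu : IsUnit (algebraMap B K f) :=
    IsUnit.mk0 _ ((map_ne_zero_iff _ (FaithfulSMul.algebraMap_injective B K)).2 hf)
  letI : Algebra (Localization.Away f) K := (IsLocalization.Away.lift (g := algebraMap B K) f hfu).toAlgebra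
  haveI : IsScalarTower B (Localization.Away f) K :=
    IsScalarTower.of_algebraMap_eq fun b => (IsLocalization.Away.lift_eq f hfu b).symm
  have hinj : Function.Injective (algebraMap (Localization.Away f) K) := by
    refine (injective_iff_map_eq_zero _).2 fun z hz => ?_
    obtain ⟨b, t, rfl⟩ := IsLocalization.exists_mk'_eq (Submonoid.powers f) z
    have h1 := congrArg (algebraMap (Localization.Away f) K) (IsLocalization.mk'_spec (Localization.Away f) b t)
    rw [map_mul, hz, zero_mul, ← IsScalarTower.algebraMap_apply, eq_comm,
      map_eq_zero_iff _ (FaithfulSMul.algebraMap_injective B K)] at h1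
    rw [h1, IsLocalization.mk'_zero]
  haveI : Algebra.IsIntegral (Localization.Away f) K := by
    refine ⟨fun x => ?_⟩
    have hx : x ∈ Algebra.adjoin B (G : Set K) := hG ▸ Algebra.mem_top
    induction hx using Algebra.adjoin_induction with
    | mem z hz =>
      have h1 : IsIntegral (Localization.Away f) (f • z) := (hint z hz).tower_top
      have hu : IsUnit (algebraMap B (Localization.Away f) f) := IsLocalization.Away.algebraMap_isUnit f
      have h2 : z = (hu.unit⁻¹ : (Localization.Away f)ˣ).val • (f • z) := by
        rw [← algebraMap_smul (Localization.Away f) f z, smul_smul, IsUnit.val_inv_mul, one_smul]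
      rw [h2]
      exact h1.smul _
    | algebraMap r => rw [IsScalarTower.algebraMap_apply B (Localization.Away f) K]; exact isIntegral_algebraMap
    | add _ _ _ _ h1 h2 => exact h1.add h2
    | mul _ _ _ _ h1 h2 => exact h1.mul h2
  exact isField_of_isIntegral_of_isField hinj (Field.toIsField K)


/-- For an integral domain B the following are equivalent: a) the localization B_f is a field for some
nonzero f; b) the fraction field of B is a finitely generated B-algebra; c) there is a field
containing B (an injective algebra map from B) which is a finitely generated B-algebra; d) the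
generic point of Spec B is open. -/
theorem result (B : Type u) [CommRing B] [IsDomain B] :
    [∃ f : B, f ≠ 0 ∧ IsField (Localization.Away f),
      Algebra.FiniteType B (FractionRing B),
      ∃ (K : Type u) (_ : Field K) (_ : Algebra B K), Function.Injective (algebraMap B K) ∧ Algebra.FiniteType B K,
      IsOpen ({⟨⊥, Ideal.bot_prime⟩} : Set (PrimeSpectrum B))].TFAE := by
  tfae_have 1 → 2 := by
    rintro ⟨f, hf, hF⟩
    letI := hF.toField
    let g : Localization.Away f →ₐ[B] FractionRing B := IsLocalization.liftAlgHom (M := Submonoid.powers f)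
      (f := Algebra.ofId B (FractionRing B)) (by
        rintro ⟨_, n, rfl⟩
        exact IsUnit.mk0 _ ((map_ne_zero_iff _ (IsFractionRing.injective B (FractionRing B))).2 (pow_ne_zero n hf)))
    haveI : Algebra.FinitePresentation B (Localization.Away f) := IsLocalization.Away.finitePresentation f
    haveI : Algebra.FiniteType B (Localization.Away f) := inferInstance
    refine Algebra.FiniteType.of_surjective g fun y => ?_
    obtain ⟨a, b, hb, rfl⟩ := IsFractionRing.div_surjective B y
    refine ⟨algebraMap B _ a / algebraMap B _ b, ?_⟩
    rw [map_div₀, AlgHom.commutes, AlgHom.commutes]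
  tfae_have 2 → 3 := fun h => ⟨FractionRing B, inferInstance, inferInstance, IsFractionRing.injective B _, h⟩
  tfae_have 3 → 1 := by
    rintro ⟨K, _, _, hinj, hft⟩
    haveI : FaithfulSMul B K := (faithfulSMul_iff_algebraMap_injective B K).2 hinj
    haveI := hft
    obtain ⟨f, hf, hF⟩ := exists_away_isField B K
    exact ⟨f, hf, hF⟩
  tfae_have 1 → 4 := by
    rintro ⟨f, hf, hF⟩
    convert PrimeSpectrum.isOpen_basicOpen (a := f)
    ext p
    refine ⟨fun hp => by rw [Set.mem_singleton_iff.1 hp]; exact hf, fun hp => Set.mem_singleton_iff.2 ?_⟩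
    letI := hF.toField
    have hdisj : Disjoint (Submonoid.powers f : Set B) p.asIdeal := by
      rw [Set.disjoint_left]; rintro _ ⟨n, rfl⟩ h; exact hp (p.2.mem_of_pow_mem n h)
    have h1 := IsLocalization.isPrime_of_isPrime_disjoint (Submonoid.powers f) (Localization.Away f) p.asIdeal p.2 hdisj
    have h2 : p.asIdeal.map (algebraMap B (Localization.Away f)) = ⊥ :=
      (Ideal.eq_bot_or_top _).resolve_right h1.ne_top
    refine PrimeSpectrum.ext (show p.asIdeal = ⊥ from ?_)
    rw [← IsLocalization.comap_map_of_isPrime_disjoint (Submonoid.powers f) (Localization.Away f) p.2 hdisj, h2]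
    exact Ideal.comap_bot_of_injective _ (IsLocalization.injective _ (powers_le_nonZeroDivisors_of_noZeroDivisors hf))
  tfae_have 4 → 1 := by
    intro h
    obtain ⟨_, ⟨f, rfl⟩, hf, hsub⟩ := PrimeSpectrum.isTopologicalBasis_basic_opens.exists_subset_of_mem_open
      (Set.mem_singleton _) h
    have hf0 : f ≠ 0 := fun h0 => hf (h0 ▸ zero_mem _)
    haveI : IsDomain (Localization.Away f) :=
      IsLocalization.isDomain_localization (powers_le_nonZeroDivisors_of_noZeroDivisors hf0)
    refine ⟨f, hf0, ?_⟩
    by_contra hnf
    obtain ⟨M, hM, hM'⟩ := Ring.not_isField_iff_exists_prime.1 hnf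
    haveI := hM'
    have h1 := IsLocalization.isPrime_iff_isPrime_disjoint (Submonoid.powers f) (Localization.Away f) M |>.1 hM'
    have h2 : (⟨M.comap (algebraMap B _), h1.1⟩ : PrimeSpectrum B) = ⟨⊥, Ideal.bot_prime⟩ :=
      hsub (fun h => Set.disjoint_left.1 h1.2 ⟨1, pow_one f⟩ h)
    refine hM ?_
    have h3 : M.comap (algebraMap B (Localization.Away f)) = ⊥ := congrArg PrimeSpectrum.asIdeal h2
    have h4 := IsLocalization.map_comap (Submonoid.powers f) (Localization.Away f) M
    rw [Ideal.under, h3, Ideal.map_bot] at h4
    exact h4.symm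
  tfae_finish

end Groth.Agent.S4860
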