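import Groth.Statements.S4861
import Mathlib.RingTheory.Ideal.KrullsHeightTheorem
import Mathlib.RingTheory.Ideal.Height
import Mathlib.RingTheory.Spectrum.Maximal.Topology

set_option autoImplicit false
universe u
open EGA43

namespace Groth.Agent.S4861

/-- For a Noetherian integral domain B the following are equivalent (and hence equivalent to: the
fraction field of B is a finitely generated B-algebra; the generic point of Spec B is open): a) the
localization B_f is a field for some nonzero f; e) Spec B is finite; f) B is semi-local (finitely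
many maximal ideals) of Krull dimension at most 1. -/
theorem result (B : Type u) [CommRing B] [IsDomain B]
    [IsNoetherianRing B] :
    [∃ f : B, f ≠ 0 ∧ IsField (Localization.Away f),
      Finite (PrimeSpectrum B),
      Finite (MaximalSpectrum B) ∧ ringKrullDim B ≤ 1].TFAE := by
  classical
  have hzero : ∀ {q : Ideal B}, q.IsPrime → q.height = 0 → q = ⊥ := fun {q} hq h => by
    rw [Ideal.height_eq_zero_iff, IsDomain.minimalPrimes_eq_singleton_bot] at h
    exact h
  -- a finite cover of a nonzero prime by primes of height one bounds its height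
  have key : ∀ (S : Set (Ideal B)), S.Finite → (∀ q : Ideal B, q.IsPrime → q ≠ ⊥ → q.height ≤ 1 → q ∈ S) →
      (∀ q ∈ S, q.IsPrime) → ∀ p : Ideal B, p.IsPrime → p ≠ ⊥ → ∃ q ∈ S, p ≤ q := by
    intro S hS hmem hpr p hp hp0
    obtain ⟨x, hxp, hx0⟩ := Submodule.exists_mem_ne_zero_of_ne_bot hp0
    have hsub : (p : Set B) ⊆ ⋃ q ∈ (↑hS.toFinset : Set (Ideal B)), (q : Set B) := by
      intro y hy
      rcases eq_or_ne y 0 with rfl | hy0
      · obtain ⟨q, hq, -⟩ := Ideal.exists_minimalPrimes_le ((Ideal.span_singleton_le_iff_mem _).2 hxp)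
        haveI := hq.1.1
        simp only [Set.Finite.coe_toFinset, Set.mem_iUnion, SetLike.mem_coe, exists_prop]
        exact ⟨q, hmem q hq.1.1 (fun h => hx0 (by simpa [h] using hq.1.2 (Ideal.mem_span_singleton_self x)))
          (Ideal.height_le_one_of_isPrincipal_of_mem_minimalPrimes _ _ hq), zero_mem _⟩
      · obtain ⟨q, hq, hqp⟩ := Ideal.exists_minimalPrimes_le ((Ideal.span_singleton_le_iff_mem _).2 hy)
        haveI := hq.1.1
        simp only [Set.Finite.coe_toFinset, Set.mem_iUnion, SetLike.mem_coe, exists_prop]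
        exact ⟨q, hmem q hq.1.1 (fun h => hy0 (by simpa [h] using hq.1.2 (Ideal.mem_span_singleton_self y)))
          (Ideal.height_le_one_of_isPrincipal_of_mem_minimalPrimes _ _ hq), hq.1.2 (Ideal.mem_span_singleton_self y)⟩
    obtain ⟨q, hq, hle⟩ := (Ideal.subset_union_prime (⊥ : Ideal B) ⊥
      (fun q hq _ _ => hpr q (hS.mem_toFinset.1 hq))).1 hsub
    exact ⟨q, hS.mem_toFinset.1 hq, hle⟩
  tfae_have 1 → 2 := by
    rintro ⟨f, hf, hfield⟩
    have hall : ∀ q : Ideal B, q.IsPrime → q ≠ ⊥ → f ∈ q := by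
      intro q hq hq0
      by_contra hfq
      have hd : Disjoint (Submonoid.powers f : Set B) (q : Set B) := by
        rwa [Ideal.disjoint_powers_iff_notMem_of_isPrime]
      letI := hfield.toField
      have h1 := IsLocalization.under_map_of_isPrime_disjoint (.powers f) (Localization.Away f) hq hd
      rcases Ideal.eq_bot_or_top (q.map (algebraMap B (Localization.Away f))) with h | h
      · rw [h] at h1
        refine hq0 (h1.symm.trans ?_)
        exact (RingHom.ker_eq_comap_bot _).symm.trans ((RingHom.injective_iff_ker_eq_bot _).1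
          (IsLocalization.injective _ (powers_le_nonZeroDivisors_of_noZeroDivisors hf)))
      · exact (IsLocalization.isPrime_of_isPrime_disjoint (.powers f) _ q hq hd).ne_top h
    have hS : (Ideal.span {f}).minimalPrimes.Finite :=
      (Ideal.span {f}).finite_minimalPrimes_of_isNoetherianRing B
    have hone : ∀ q : Ideal B, q.IsPrime → q ≠ ⊥ → q.height ≤ 1 → q ∈ (Ideal.span {f}).minimalPrimes := by
      intro q hq hq0 hq1
      haveI := hq
      haveI : q.FiniteHeight := (Ideal.finiteHeight_iff _).2 (Or.inr (hq1.trans_lt (by simp)).ne)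
      obtain ⟨q', hq', hle⟩ := Ideal.exists_minimalPrimes_le
        ((Ideal.span_singleton_le_iff_mem _).2 (hall q hq hq0))
      rcases hle.eq_or_lt with rfl | hlt
      · exact hq'
      · haveI := hq'.1.1
        have := hzero hq'.1.1 (by simpa using (Ideal.height_strict_mono_of_isPrime_of_isPrime hlt).trans_le hq1)
        exact absurd (by simpa [this] using hq'.1.2 (Ideal.mem_span_singleton_self f)) hf
    refine Set.finite_univ_iff.1 (Set.Finite.of_finite_image (f := PrimeSpectrum.asIdeal)
      ((hS.insert ⊥).subset ?_) fun a _ b _ h => PrimeSpectrum.ext h)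
    rintro _ ⟨⟨p, hp⟩, -, rfl⟩
    rcases eq_or_ne p ⊥ with h | h
    · exact Or.inl h
    · refine Or.inr ?_
      obtain ⟨q, hq, hle⟩ := key _ hS hone (fun q hq => hq.1.1) p hp h
      exact (le_antisymm hle (hq.2 ⟨hp, (Ideal.span_singleton_le_iff_mem _).2 (hall p hp h)⟩ hle)) ▸ hq
  tfae_have 2 → 3 := by
    intro h
    refine ⟨Finite.of_injective MaximalSpectrum.toPrimeSpectrum MaximalSpectrum.toPrimeSpectrum_injective,
      (ringKrullDim_le_iff_height_le 1).2 fun p hp => ?_⟩
    norm_cast
    rcases eq_or_ne p ⊥ with rfl | h0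
    · simp
    · have hfin : {q : Ideal B | q.IsPrime ∧ q.height ≤ 1}.Finite :=
        (Set.finite_range (PrimeSpectrum.asIdeal : PrimeSpectrum B → Ideal B)).subset
          fun q hq => ⟨⟨q, hq.1⟩, rfl⟩
      obtain ⟨q, hq, hle⟩ := key _ hfin (fun q hq _ h1 => ⟨hq, h1⟩) (fun q hq => hq.1) p hp h0
      exact (Ideal.height_mono hle).trans hq.2
  tfae_have 3 → 1 := by
    rintro ⟨hfin, hdim⟩
    haveI := hfin
    haveI := Fintype.ofFinite (MaximalSpectrum B)
    have hch : ∀ m : MaximalSpectrum B, ∃ x : B, x ≠ 0 ∧ (m.asIdeal ≠ ⊥ → x ∈ m.asIdeal) := fun m => by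
      rcases eq_or_ne m.asIdeal ⊥ with h | h
      · exact ⟨1, one_ne_zero, fun h' => absurd h h'⟩
      · obtain ⟨x, hx, hx0⟩ := Submodule.exists_mem_ne_zero_of_ne_bot h
        exact ⟨x, hx0, fun _ => hx⟩
    choose x hx0 hx using hch
    refine ⟨∏ m, x m, Finset.prod_ne_zero_iff.2 fun m _ => hx0 m, ?_⟩
    have hf : ∏ m, x m ∈ nonZeroDivisors B := mem_nonZeroDivisors_of_ne_zero (Finset.prod_ne_zero_iff.2 fun m _ => hx0 m)
    haveI : IsDomain (Localization.Away (∏ m, x m)) :=
      IsLocalization.isDomain_localization (powers_le_nonZeroDivisors_of_noZeroDivisors (nonZeroDivisors.ne_zero hf))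
    by_contra hnf
    obtain ⟨P, hP0, hP⟩ := Ring.not_isField_iff_exists_prime.1 hnf
    haveI := hP
    let p := P.comap (algebraMap B (Localization.Away (∏ m, x m)))
    have hp0 : p ≠ ⊥ := fun h => hP0 (by
      rw [← IsLocalization.map_comap (Submonoid.powers (∏ m, x m)) _ P]; exact (congrArg (Ideal.map _) h).trans Ideal.map_bot)
    have hfp : ∏ m, x m ∉ p := fun h => hP.ne_top (Ideal.eq_top_of_isUnit_mem _ h
      (IsLocalization.map_units (M := Submonoid.powers (∏ m, x m)) _ ⟨_, Submonoid.mem_powers _⟩))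
    obtain ⟨m, hm, hle⟩ := p.exists_le_maximal (Ideal.IsPrime.ne_top inferInstance)
    have hm1 : m.height ≤ 1 := by exact_mod_cast (ringKrullDim_le_iff_height_le 1).1 hdim hm.isPrime
    rcases hle.eq_or_lt with h | hlt
    · refine hfp (p.mem_of_dvd (Finset.dvd_prod_of_mem x (Finset.mem_univ (⟨m, hm⟩ : MaximalSpectrum B))) ?_)
      rw [h]
      exact hx ⟨m, hm⟩ (h ▸ hp0)
    · haveI : m.FiniteHeight := (Ideal.finiteHeight_iff _).2 (Or.inr (hm1.trans_lt (by simp)).ne)
      haveI := hm.isPrime
      exact hp0 (hzero inferInstance (by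
        simpa using (Ideal.height_strict_mono_of_isPrime_of_isPrime hlt).trans_le hm1))
  tfae_finish

end Groth.Agent.S4861
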