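import Groth.Statements.S4862
import Mathlib


-- import your own Groth.Agent.* helpers here

set_option autoImplicit false
universe u
open EGA43

namespace Groth.Agent.S4862

/-- For a commutative ring A the following are equivalent: a) A is a Jacobson ring; b) for every prime
ideal p of A which is not maximal and every nonzero f of B = A/p, the localization B_f is not a
field; b′) every finitely generated A-algebra which is a field is a finite A-module. -/
theorem result (A : Type u) [CommRing A] :
    [IsJacobsonRing A,
      ∀ (p : Ideal A) [p.IsPrime], ¬ p.IsMaximal → ∀ f : A ⧸ p, f ≠ 0 → ¬ IsField (Localization.Away f),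
      ∀ (K : Type u) [Field K] [Algebra A K], Algebra.FiniteType A K → Module.Finite A K].TFAE := by
  tfae_have 1 → 3 := fun h K _ _ hft => finite_of_finite_type_of_isJacobsonRing A K
  tfae_have 3 → 2 := by
    intro h p hp hmax f hf hfield
    haveI : Algebra.FiniteType A (Localization.Away f) :=
      Algebra.FiniteType.trans (S := A ⧸ p) inferInstance
        (IsLocalization.finiteType_of_monoid_fg (Submonoid.powers f) (Localization.Away f))
    letI := hfield.toField
    haveI := h (Localization.Away f) inferInstance
    haveI : Module.Finite (A ⧸ p) (Localization.Away f) := Module.Finite.of_restrictScalars_finite A _ _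
    have hinj : Function.Injective (algebraMap (A ⧸ p) (Localization.Away f)) :=
      IsLocalization.injective _ (powers_le_nonZeroDivisors_of_noZeroDivisors hf)
    haveI : Algebra.IsIntegral (A ⧸ p) (Localization.Away f) := Algebra.IsIntegral.of_finite _ _
    exact hmax (Ideal.Quotient.maximal_of_isField p
      (isField_of_isIntegral_of_isField hinj hfield))
  tfae_have 2 → 1 := by
    intro h
    rw [isJacobsonRing_iff_prime_eq]
    intro p hp
    refine le_antisymm (fun f hf => ?_) Ideal.le_jacobson
    by_contra hfp
    set g : A ⧸ p := Ideal.Quotient.mk p f with hg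
    have hg0 : g ≠ 0 := fun h0 => hfp (Ideal.Quotient.eq_zero_iff_mem.mp h0)
    let B := Localization.Away g
    haveI : Nontrivial B := (IsLocalization.injective B (powers_le_nonZeroDivisors_of_noZeroDivisors hg0)).nontrivial
    obtain ⟨m, hm⟩ := Ideal.exists_maximal B
    letI := Ideal.Quotient.field m
    set q : Ideal A := m.comap (algebraMap A B) with hq
    haveI : q.IsPrime := Ideal.IsPrime.comap _
    have hu : IsUnit (algebraMap A B f) := IsLocalization.map_units B (⟨g, 1, pow_one g⟩ : Submonoid.powers g)
    have hfq : f ∉ q := fun hc => hm.ne_top (Ideal.eq_top_of_isUnit_mem _ hc hu)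
    have hpq : p ≤ q := fun a ha => by
      rw [hq, Ideal.mem_comap, IsScalarTower.algebraMap_apply A (A ⧸ p) B,
        Ideal.Quotient.algebraMap_eq, Ideal.Quotient.eq_zero_iff_mem.mpr ha, map_zero]
      exact m.zero_mem
    have hqmax : ¬ q.IsMaximal := fun hqm => hfq (Ideal.mem_jacobson_iff.mp hf |> fun _ =>
      (Submodule.mem_sInf.mp hf) q ⟨hpq, hqm⟩)
    let ψ : A ⧸ q →+* B ⧸ m := Ideal.quotientMap m (algebraMap A B) le_rfl
    have hψ : Function.Injective ψ := Ideal.quotientMap_injective' le_rfl
    set f' : A ⧸ q := Ideal.Quotient.mk q f with hf'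
    have hf0 : f' ≠ 0 := fun h0 => hfq (Ideal.Quotient.eq_zero_iff_mem.mp h0)
    have hu' : IsUnit (ψ f') := by
      rw [hf', Ideal.quotientMap_mk]
      exact hu.map _
    let φ : Localization.Away f' →+* B ⧸ m := IsLocalization.Away.lift f' hu'
    refine h q hqmax f' hf0 (MulEquiv.isField (Field.toIsField (B ⧸ m))
      (RingEquiv.ofBijective φ ⟨?_, ?_⟩).toMulEquiv)
    · refine (injective_iff_map_eq_zero φ).mpr fun z hz => ?_
      obtain ⟨⟨a, s⟩, rfl⟩ := IsLocalization.mk'_surjective (Submonoid.powers f') z
      have h1 := congrArg φ (IsLocalization.mk'_spec (Localization.Away f') a s)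
      rw [map_mul, hz, zero_mul] at h1
      rw [IsLocalization.Away.lift_eq] at h1
      obtain rfl : a = 0 := hψ (h1.symm.trans (map_zero ψ).symm)
      exact IsLocalization.mk'_zero s
    · intro x
      obtain ⟨b, rfl⟩ := Ideal.Quotient.mk_surjective x
      obtain ⟨⟨a, s⟩, hb⟩ := IsLocalization.surj (Submonoid.powers g) b
      obtain ⟨a, rfl⟩ := Ideal.Quotient.mk_surjective a
      obtain ⟨_, k, rfl⟩ := s
      refine ⟨IsLocalization.mk' (Localization.Away f') (Ideal.Quotient.mk q a) (⟨f' ^ k, k, rfl⟩ : Submonoid.powers f'), ?_⟩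
      refine mul_right_cancel₀ (b := ψ (f' ^ k)) (by rw [map_pow]; exact (hu'.pow k).ne_zero) ?_
      have h1 := congrArg φ (IsLocalization.mk'_spec (Localization.Away f')
        (Ideal.Quotient.mk q a) (⟨f' ^ k, k, rfl⟩ : Submonoid.powers f'))
      rw [map_mul, IsLocalization.Away.lift_eq, IsLocalization.Away.lift_eq] at h1
      rw [h1]
      simp only [hg, ← map_pow, hf', Ideal.quotientMap_mk, ψ] at hb ⊢
      rw [← Ideal.Quotient.algebraMap_eq p, ← IsScalarTower.algebraMap_apply,
        ← IsScalarTower.algebraMap_apply] at hb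
      rw [← map_mul, hb]
  tfae_finish

end Groth.Agent.S4862
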