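import Groth.Statements.S4868
import Groth.Agent.FibFlatConsLib.Locus
import Groth.Agent.ProConsLib.Top

set_option autoImplicit false
universe u
open EGA43

namespace Groth.Agent.S4868

open AlgebraicGeometry CategoryTheory Limits in
/-- Let g : X ⟶ S and h : Y ⟶ S be morphisms of finite presentation, f : X ⟶ Y an S-morphism and F a
quasi-coherent O_X-module of finite presentation. Then the set E of points s of S such that the
fibre module F_s is f_s-flat, i.e. such that for every point x of X over s the module F_x / m_s F_x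
is flat over O_{Y,f x} / m_s O_{Y,f x}, is locally constructible in S. -/
theorem result {X Y S : Scheme.{u}} (f : X ⟶ Y) (h : Y ⟶ S) (g : X ⟶ S)
    (w : f ≫ h = g)
    [LocallyOfFinitePresentation g] [QuasiCompact g] [QuasiSeparated g]
    [LocallyOfFinitePresentation h] [QuasiCompact h] [QuasiSeparated h]
    (F : X.Modules) [Coh.IsQCoh F] (hF : CohB1.IsFP F) :
    Topology.IsLocallyConstructible {s : S | ∀ x : X, g x = s →
      letI := FlatMod.moduleStalkOver f F x
      Module.Flat (↑(Y.presheaf.stalk (f x)) ⧸ Ideal.map (h.stalkMap (f x)).hom (IsLocalRing.maximalIdeal ↑(S.presheaf.stalk (h (f x)))))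
        (↑(F.presheaf.stalk x) ⧸ (Ideal.map (h.stalkMap (f x)).hom (IsLocalRing.maximalIdeal ↑(S.presheaf.stalk (h (f x)))) •
          (⊤ : Submodule ↑(Y.presheaf.stalk (f x)) ↑(F.presheaf.stalk x))))} := by
  subst w
  have h1 := FibFlatConsLib.locus f h F hF
  have hset : {s : S | ∀ x : X, (f ≫ h) x = s → FibFlatConsLib.StalkFibFlatAt f h F x} =
      ((f ≫ h).base '' {x | FibFlatConsLib.FibFlatAt f h F x}ᶜ)ᶜ := by
    ext s
    constructor
    · rintro hs ⟨x, hx, hxs⟩
      exact hx ((h1.2 x).mpr (hs x hxs))
    · intro hs x hxs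
      by_contra hx
      exact hs ⟨x, fun hx' => hx ((h1.2 x).mp hx'), hxs⟩
  show Topology.IsLocallyConstructible {s : S | ∀ x : X, (f ≫ h) x = s → FibFlatConsLib.StalkFibFlatAt f h F x}
  rw [hset]
  exact Groth.Agent.ProConsLib.isLocallyConstructible_compl
    ((f ≫ h).isLocallyConstructible_image (Groth.Agent.ProConsLib.isLocallyConstructible_compl h1.1))

end Groth.Agent.S4868
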