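import Groth.Statements.S4872
import Mathlib

set_option autoImplicit false
universe u
open CategoryTheory AlgebraicGeometry
open EGA43

namespace Groth.Agent.S4872

/-- Conditions b), c), d) (schematically dominant families): let p : X ⟶ S be a morphism and (f_i : Z_i
⟶ X) a family of morphisms. The following are equivalent: b) for every open V of X, a section of O_X
over V whose images in all the Γ(f_i⁻¹(V), O_{Z_i}) are zero is zero; c) for every open U of X, a
closed immersion j : Y ⟶ U through which each restriction f_i⁻¹(U) ⟶ U factors is an isomorphism; d)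
for every separated S-scheme X', every open U of X and every pair of S-morphisms u, v : U ⟶ X'
having the same composite with each f_i⁻¹(U) ⟶ U, one has u = v. -/
theorem result {X S : Scheme.{u}} (p : X ⟶ S) {ι : Type u} (Z : ι → Scheme.{u})
    (f : ∀ i, Z i ⟶ X) :
    [(∀ (V : (X).Opens) (t : Γ(X, V)), (∀ i, (f i).app V t = 0) → t = 0),
      ∀ (U : X.Opens) (Y : Scheme.{u}) (j : Y ⟶ (U : Scheme.{u})), IsClosedImmersion j →
        (∀ i, ∃ g : ((f i) ⁻¹ᵁ U : Scheme.{u}) ⟶ Y, g ≫ j = (f i) ∣_ U) → IsIso j,
      ∀ (X' : Scheme.{u}) (q : X' ⟶ S), IsSeparated q → ∀ (U : X.Opens) (u v : (U : Scheme.{u}) ⟶ X'),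
        u ≫ q = U.ι ≫ p → v ≫ q = U.ι ≫ p → (∀ i, ((f i) ∣_ U) ≫ u = ((f i) ∣_ U) ≫ v) → u = v].TFAE := by
  tfae_have 1 → 2 := by
    intro hb U Y j hj hg
    haveI := hj
    rw [IsClosedImmersion.isIso_iff_ker_eq_bot]
    refine Scheme.IdealSheafData.ext (funext fun W => ?_)
    rw [Scheme.Hom.ker_apply, Scheme.IdealSheafData.ideal_bot, Pi.bot_apply,
      eq_bot_iff]
    intro t ht
    rw [RingHom.mem_ker] at ht
    refine hb (U.ι ''ᵁ W.1) t fun i => ?_
    obtain ⟨g, hg⟩ := hg i
    have h1 : ((f i) ∣_ U).app W.1 t = 0 := by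
      rw [Scheme.Hom.congr_app hg.symm W.1, Scheme.Hom.comp_app]
      erw [CommRingCat.comp_apply]
      refine (congrArg _ (show (j.app W.1 ≫ g.app _) t = 0 from ?_)).trans (map_zero _)
      exact (congrArg (g.app (j ⁻¹ᵁ W.1)).hom ht).trans (map_zero _)
    rw [morphismRestrict_app] at h1
    erw [CommRingCat.comp_apply] at h1
    exact (map_eq_zero_iff _ (ConcreteCategory.bijective_of_isIso
      ((Z i).presheaf.map (eqToHom (image_morphismRestrict_preimage (f i) U W.1)).op)).1).1 h1
  tfae_have 2 → 3 := by
    intro hc X' q hq U u v hu hv h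
    haveI := hq
    let d : (U : Scheme.{u}) ⟶ Limits.pullback q q := Limits.pullback.lift u v (hu.trans hv.symm)
    let j := Limits.pullback.fst d (Limits.pullback.diagonal q)
    haveI : IsClosedImmersion j := MorphismProperty.pullback_fst _ _ inferInstance
    haveI := hc U _ j inferInstance fun i => ⟨Limits.pullback.lift ((f i) ∣_ U) ((f i) ∣_ U ≫ u) (by
      refine Limits.pullback.hom_ext ?_ ?_
      · simp only [d, Category.assoc, Limits.pullback.diagonal_fst, Category.comp_id]
        erw [Limits.pullback.lift_fst]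
      · simp only [d, Category.assoc, Limits.pullback.diagonal_snd, Category.comp_id]
        erw [Limits.pullback.lift_snd]
        exact (h i).symm), Limits.pullback.lift_fst _ _ _⟩
    have h1 : j ≫ d = Limits.pullback.snd d (Limits.pullback.diagonal q) ≫ Limits.pullback.diagonal q :=
      Limits.pullback.condition
    have hu' := congrArg (· ≫ Limits.pullback.fst q q) h1
    have hv' := congrArg (· ≫ Limits.pullback.snd q q) h1
    simp only [Category.assoc, Limits.pullback.diagonal_fst, Limits.pullback.diagonal_snd,
      d, Limits.pullback.lift_fst, Limits.pullback.lift_snd] at hu' hv'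
    rw [← cancel_epi j, hu', hv']
  tfae_have 3 → 1 := by
    intro hd V t ht
    let u := AffineSpace.homOfVector (n := PUnit.{u + 1}) (V.ι ≫ p) (fun _ => V.topIso.inv t)
    let v := AffineSpace.homOfVector (n := PUnit.{u + 1}) (V.ι ≫ p) (fun _ => (0 : Γ((V : Scheme.{u}), ⊤)))
    have huv : u = v := by
      refine hd _ (AffineSpace PUnit.{u + 1} S ↘ S) inferInstance V u v
        (AffineSpace.homOfVector_over _ _) (AffineSpace.homOfVector_over _ _) fun i => ?_
      rw [AffineSpace.comp_homOfVector, AffineSpace.comp_homOfVector]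
      congr 1
      funext k
      show ((f i) ∣_ V).appTop (V.topIso.inv t) = ((f i) ∣_ V).appTop 0
      rw [map_zero, Scheme.Hom.appTop, morphismRestrict_app]
      erw [CommRingCat.comp_apply]
      rw [show V.topIso.inv = X.presheaf.map (eqToHom V.ι_image_top).op from rfl]
      have h2 := congrArg (fun w => (ConcreteCategory.hom w) t) ((f i).naturality (eqToHom V.ι_image_top).op)
      have h3 := h2.trans (congrArg ((Z i).presheaf.map ((TopologicalSpace.Opens.map (f i).base).map (eqToHom V.ι_image_top).op.unop).op).hom (ht i))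
      erw [map_zero] at h3
      exact (congrArg _ h3).trans (map_zero _)
    have h1 := congrArg (fun w : (V : Scheme.{u}) ⟶ AffineSpace PUnit.{u + 1} S =>
      w.appTop (AffineSpace.coord S PUnit.unit)) huv
    simp only [u, v, AffineSpace.homOfVector_appTop_coord] at h1
    exact (map_eq_zero_iff _ (ConcreteCategory.bijective_of_isIso V.topIso.inv).1).1 h1
  tfae_finish

end Groth.Agent.S4872
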