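import Groth.Statements.S4873

-- import your own Groth.Agent.* helpers here

set_option autoImplicit false
universe u
open CategoryTheory AlgebraicGeometry
open EGA43

namespace Groth.Agent.S4873

/-- Let (f_i : Z_i ⟶ X) be a family of morphisms. If the family is schematically dominant, i.e. a
section of O_X over an open V whose pullback to every f_i⁻¹(V) vanishes is zero, then the union of
the images f_i(Z_i) is dense in X. Conversely, if X is reduced and this union is dense, the family
is schematically dominant. -/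
theorem result {X : Scheme.{u}} {ι : Type u} (Z : ι → Scheme.{u})
    (f : ∀ i, Z i ⟶ X) :
    ((∀ (V : (X).Opens) (t : Γ(X, V)), (∀ i, (f i).app V t = 0) → t = 0) → Dense (⋃ i, Set.range (f i))) ∧
    (IsReduced X → Dense (⋃ i, Set.range (f i)) → (∀ (V : (X).Opens) (t : Γ(X, V)), (∀ i, (f i).app V t = 0) → t = 0)) := by
  constructor
  · intro h
    rw [dense_iff_inter_open]
    intro U hU hne
    by_contra hempty
    obtain ⟨x, hx⟩ := hne
    let V : X.Opens := ⟨U, hU⟩
    have h0 : ∀ i, IsEmpty ↥((f i) ⁻¹ᵁ V) := fun i => ⟨fun z => hempty ⟨(f i) z.1,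
      z.2, Set.mem_iUnion.2 ⟨i, z.1, rfl⟩⟩⟩
    have h1 : (1 : Γ(X, V)) = 0 := h V 1 (fun i => by
      have : Subsingleton Γ(Z i, (f i) ⁻¹ᵁ V) := by
        have hbot : (f i) ⁻¹ᵁ V = ⊥ := by
          ext z
          simp only [TopologicalSpace.Opens.coe_bot, Set.mem_empty_iff_false, iff_false]
          exact fun hz => (h0 i).false ⟨z, hz⟩
        rw [hbot]; infer_instance
      exact Subsingleton.elim _ _)
    have h2 := congrArg (X.presheaf.germ V x hx).hom h1
    simp only [map_one, map_zero] at h2
    exact one_ne_zero h2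
  · intro hred hd V t ht
    rw [← AlgebraicGeometry.basicOpen_eq_bot_iff]
    by_contra hne
    obtain ⟨y, hy⟩ : (X.basicOpen t : Set X).Nonempty := by
      rw [Set.nonempty_iff_ne_empty]; intro he; exact hne (TopologicalSpace.Opens.ext he)
    obtain ⟨z, hz1, hz2⟩ := hd.inter_open_nonempty _ (X.basicOpen t).2 ⟨y, hy⟩
    simp only [Set.mem_iUnion, Set.mem_range] at hz2
    obtain ⟨i, w, rfl⟩ := hz2
    have hw : w ∈ (f i) ⁻¹ᵁ X.basicOpen t := hz1
    rw [Scheme.preimage_basicOpen, ht i, Scheme.basicOpen_zero] at hw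
    exact hw

end Groth.Agent.S4873
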