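import Groth.Statements.S4874
import Mathlib
-- import your own Groth.Agent.* helpers here

set_option autoImplicit false
universe u
open CategoryTheory AlgebraicGeometry
open EGA43

namespace Groth.Agent.S4874

/-- Let (f_i : Z_i ⟶ X) be a family of morphisms, g : X' ⟶ X a faithfully flat morphism and f'_i : Z_i
×_X X' ⟶ X' the base changes. If the family (f'_i) is schematically dominant, then so is the family
(f_i). (Schematically dominant: a section of the structure sheaf over an open whose pullback along
every member of the family vanishes is zero.) -/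
theorem result {X X' : Scheme.{u}} {ι : Type u} (Z : ι → Scheme.{u})
    (f : ∀ i, Z i ⟶ X) (g : X' ⟶ X) [Flat g] [Surjective g]
    (h : (∀ (V : (X').Opens) (t : Γ(X', V)), (∀ i, (Limits.pullback.snd (f i) g).app V t = 0) → t = 0)) :
    (∀ (V : (X).Opens) (t : Γ(X, V)), (∀ i, (f i).app V t = 0) → t = 0) := by
  intro V t ht
  have h0 : g.app V t = 0 := h _ _ fun i => by
    have e : ∀ {W : Scheme.{u}} (a b : W ⟶ X), a = b → a.app V t = 0 → b.app V t = 0 := by
      rintro W a b rfl h'; exact h'
    have := e (Limits.pullback.fst (f i) g ≫ f i) (Limits.pullback.snd (f i) g ≫ g) Limits.pullback.condition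
      (by show (Limits.pullback.fst (f i) g).app _ ((f i).app V t) = 0
          rw [ht i]; exact map_zero _)
    exact this
  refine TopCat.Presheaf.section_ext X.sheaf V t 0 fun x hx => ?_
  obtain ⟨x', rfl⟩ := g.surjective x
  algebraize [(g.stalkMap x').hom]
  haveI : Module.Flat (X.presheaf.stalk (g x')) (X'.presheaf.stalk x') := Flat.stalkMap g x'
  haveI : IsLocalHom (algebraMap (X.presheaf.stalk (g x')) (X'.presheaf.stalk x')) :=
    inferInstanceAs (IsLocalHom (g.stalkMap x').hom)
  haveI := Module.FaithfullyFlat.of_flat_of_isLocalHom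
    (A := X.presheaf.stalk (g x')) (B := X'.presheaf.stalk x')
  refine (FaithfulSMul.algebraMap_injective (X.presheaf.stalk (g x')) (X'.presheaf.stalk x')) ?_
  show g.stalkMap x' (X.presheaf.germ V (g x') hx t) = g.stalkMap x' (X.presheaf.germ V (g x') hx 0)
  rw [Scheme.Hom.germ_stalkMap_apply, h0, map_zero]
  simp

end Groth.Agent.S4874
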