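import Groth.Statements.S4876
import Groth.Agent.SchDomLib.Residue
-- import your own Groth.Agent.* helpers here

set_option autoImplicit false
universe u
open CategoryTheory AlgebraicGeometry
open EGA43

namespace Groth.Agent.S4876

/-- Let p : X ⟶ S be a morphism with X locally Noetherian and (f_i : Z_i ⟶ X) a family of morphisms with
every Z_i flat over S. Then the family (f_i) is universally schematically dominant relative to S,
i.e. for every base change S' ⟶ S the family Z_i ×_S S' ⟶ X ×_S S' is schematically dominant, if and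
only if for every point s of S the family of fibres (Z_i)_s ⟶ X_s is schematically dominant.
(Schematically dominant: a section of the structure sheaf over an open whose pullback along every
member vanishes is zero.) -/
theorem result {X S : Scheme.{u}} [IsLocallyNoetherian X]
    (p : X ⟶ S) {ι : Type u} (Z : ι → Scheme.{u}) (f : ∀ i, Z i ⟶ X) [∀ i, Flat (f i ≫ p)] :
    (∀ (S' : Scheme.{u}) (g : S' ⟶ S),
      (∀ (V : (Limits.pullback p g).Opens) (t : Γ(Limits.pullback p g, V)), (∀ i, (Limits.pullback.map (f i ≫ p) g p g (f i) (𝟙 S') (𝟙 S) (Category.comp_id _) ((Category.comp_id _).trans (Category.id_comp _).symm)).app V t = 0) → t = 0)) ↔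
    ∀ s : S, (∀ (V : (p.fiber s).Opens) (t : Γ(p.fiber s, V)), (∀ i, (MoreMor.fiberMap (f i) p s).app V t = 0) → t = 0) := by
  have hfib : ∀ (s : S) (i : ι), MoreMor.fiberMap (f i) p s = SchDomLib.famMap p f (S.fromSpecResidueField s) i :=
    fun s i => by
      apply Limits.pullback.hom_ext
      · unfold MoreMor.fiberMap SchDomLib.famMap Limits.pullback.map
        exact (Limits.pullback.lift_fst _ _ _).trans (Limits.pullback.lift_fst _ _ _).symm
      · unfold MoreMor.fiberMap SchDomLib.famMap Limits.pullback.map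
        exact (Limits.pullback.lift_snd _ _ _).trans
          ((Category.comp_id _).symm.trans (Limits.pullback.lift_snd _ _ _).symm)
  constructor
  · intro h s V t ht
    exact h _ (S.fromSpecResidueField s) V t fun i => SchDomLib.app_eq_zero_congr (hfib s i) (ht i)
  intro h S' g
  have hs : ∀ s : S, SchDomLib.SDom (SchDomLib.famMap p f (S.fromSpecResidueField s)) := fun s V t ht =>
    h s V t fun i => SchDomLib.app_eq_zero_congr (hfib s i).symm (ht i)
  refine (SchDomLib.SDom.of_cover fun w => ?_ : SchDomLib.SDom (SchDomLib.famMap p f g))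
  obtain ⟨UA, hUA, hwA, -⟩ := exists_isAffineOpen_mem_and_subset (X := S) (U := ⊤)
    (x := p (Limits.pullback.fst p g w)) trivial
  obtain ⟨UB, hUB, hwB, hle⟩ := exists_isAffineOpen_mem_and_subset (X := X) (U := p ⁻¹ᵁ UA)
    (x := Limits.pullback.fst p g w) hwA
  have hwA' : Limits.pullback.snd p g w ∈ g ⁻¹ᵁ UA := by
    show g (Limits.pullback.snd p g w) ∈ UA
    rw [← Scheme.Hom.comp_apply, ← Limits.pullback.condition, Scheme.Hom.comp_apply]
    exact hwA
  obtain ⟨UT, hUT, hwT, hleT⟩ := exists_isAffineOpen_mem_and_subset (X := S') (U := g ⁻¹ᵁ UA) hwA'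
  letI : Algebra Γ(S, UA) Γ(X, UB) := (p.appLE UA UB hle).hom.toAlgebra
  letI : ∀ l : SchDomLib.Pieces f UB, Algebra Γ(S, UA) (SchDomLib.pieceRing l) := fun l =>
    ((f l.1 ≫ p).appLE UA l.2.1 (SchDomLib.piece_le p hle l)).hom.toAlgebra
  letI : Algebra Γ(S, UA) Γ(S', UT) := (g.appLE UA UT hleT).hom.toAlgebra
  haveI : ∀ l : SchDomLib.Pieces f UB, Module.Flat Γ(S, UA) (SchDomLib.pieceRing l) := fun l =>
    RingHom.flat_algebraMap_iff.1 (HasRingHomProperty.appLE (P := @Flat) (f l.1 ≫ p) inferInstance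
      ⟨UA, hUA⟩ ⟨l.2.1, l.2.2.1⟩ (SchDomLib.piece_le p hle l))
  haveI : IsNoetherianRing Γ(X, UB) := IsLocallyNoetherian.component_noetherian ⟨UB, hUB⟩
  let u : ∀ l : SchDomLib.Pieces f UB, Γ(X, UB) →ₐ[Γ(S, UA)] SchDomLib.pieceRing l := fun l =>
    { toRingHom := ((f l.1).appLE UB l.2.1 l.2.2.2).hom
      commutes' := fun a => by
        change (p.appLE UA UB hle ≫ (f l.1).appLE UB l.2.1 l.2.2.2) a = _
        rw [Scheme.Hom.appLE_comp_appLE]
        rfl }
  have hu : ∀ l, (u l).toRingHom = ((f l.1).appLE UB l.2.1 l.2.2.2).hom := fun l => rfl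
  have hdom := SchDomLib.dom_univ u (fun P hP => by
    obtain ⟨s, η, hη, hjk⟩ := SchDomLib.exists_residueField_iso hUA P
    haveI := hη
    exact SchDomLib.dom_of_sdom hUA hUB hle rfl (fun _ => rfl) u hu (S.fromSpecResidueField s) (Spec.map η)
      hjk (hs s)) Γ(S', UT)
  have hT : hUT.fromSpec ≫ g = Spec.map (CommRingCat.ofHom (algebraMap Γ(S, UA) Γ(S', UT))) ≫ hUA.fromSpec :=
    (IsAffineOpen.SpecMap_appLE_fromSpec g hUA hUT hleT).symm
  obtain ⟨e, el, heo, -, her, -, hcomm⟩ := SchDomLib.exists_charts hUA hUB hle rfl (fun _ => rfl) u hu g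
    hUT.fromSpec hT
  refine ⟨Spec (CommRingCat.of (TensorProduct Γ(S, UA) Γ(S', UT) Γ(X, UB))), e, SchDomLib.Pieces f UB,
    fun l => Spec (CommRingCat.of (TensorProduct Γ(S, UA) Γ(S', UT) (SchDomLib.pieceRing l))),
    fun l => Spec.map (CommRingCat.ofHom (SchDomLib.bc u Γ(S', UT) l).toRingHom), heo, ?_, ?_,
    fun l => ⟨l.1, el l, hcomm l⟩⟩
  rotate_left
  · exact (SchDomLib.sdom_spec_iff (R := CommRingCat.of (TensorProduct Γ(S, UA) Γ(S', UT) Γ(X, UB)))
      (C := fun l => CommRingCat.of (TensorProduct Γ(S, UA) Γ(S', UT) (SchDomLib.pieceRing l)))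
      fun l => CommRingCat.ofHom (SchDomLib.bc u Γ(S', UT) l).toRingHom).2 hdom
  rw [her, IsAffineOpen.range_fromSpec]
  exact ⟨hwB, hwT⟩

end Groth.Agent.S4876
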