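import Groth.Statements.S4877
import Groth.Agent.SchDomFieldLib.Alg
import Groth.Agent.SchDomLib.Charts
import Groth.Agent.SchDomLib.Scheme

set_option autoImplicit false
universe u
open CategoryTheory AlgebraicGeometry
open EGA43

namespace Groth.Agent.S4877

/-- Let k be a field, X a k-scheme, (f_i : Z_i ⟶ X) a schematically dominant family of morphisms and S'
an arbitrary k-scheme. Then the family of base changes Z_i ×_k S' ⟶ X ×_k S' is schematically
dominant. (Schematically dominant: a section of the structure sheaf over an open whose pullback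
along every member vanishes is zero.) -/
theorem result {k : Type u} [Field k] {X S' : Scheme.{u}}
    (p : X ⟶ Spec (CommRingCat.of k)) (q : S' ⟶ Spec (CommRingCat.of k))
    {ι : Type u} (Z : ι → Scheme.{u}) (f : ∀ i, Z i ⟶ X)
    (h : (∀ (V : (X).Opens) (t : Γ(X, V)), (∀ i, (f i).app V t = 0) → t = 0)) :
    (∀ (V : (Limits.pullback p q).Opens) (t : Γ(Limits.pullback p q, V)), (∀ i, (Limits.pullback.map (f i ≫ p) q p q (f i) (𝟙 S') (𝟙 _) (Category.comp_id _) ((Category.comp_id _).trans (Category.id_comp _).symm)).app V t = 0) → t = 0) := by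
  refine (SchDomLib.SDom.of_cover fun w => ?_ : SchDomLib.SDom (SchDomLib.famMap p f q))
  let UA : (Spec (CommRingCat.of k)).Opens := ⊤
  have hUA : IsAffineOpen UA := isAffineOpen_top _
  letI : Field Γ(Spec (CommRingCat.of k), UA) :=
    ((Scheme.ΓSpecIso (CommRingCat.of k)).commRingCatIsoToRingEquiv.toMulEquiv.isField (Field.toIsField k)).toField
  obtain ⟨UB, hUB, hwB, -⟩ := exists_isAffineOpen_mem_and_subset (X := X) (U := ⊤)
    (x := Limits.pullback.fst p q w) trivial
  have hle : UB ≤ p ⁻¹ᵁ UA := fun _ _ => trivial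
  obtain ⟨UT, hUT, hwT, -⟩ := exists_isAffineOpen_mem_and_subset (X := S') (U := ⊤)
    (x := Limits.pullback.snd p q w) trivial
  have hleT : UT ≤ q ⁻¹ᵁ UA := fun _ _ => trivial
  letI : Algebra Γ(Spec (CommRingCat.of k), UA) Γ(X, UB) := (p.appLE UA UB hle).hom.toAlgebra
  letI : ∀ l : SchDomLib.Pieces f UB, Algebra Γ(Spec (CommRingCat.of k), UA) (SchDomLib.pieceRing l) := fun l =>
    ((f l.1 ≫ p).appLE UA l.2.1 (SchDomLib.piece_le p hle l)).hom.toAlgebra
  letI : Algebra Γ(Spec (CommRingCat.of k), UA) Γ(S', UT) := (q.appLE UA UT hleT).hom.toAlgebra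
  let u : ∀ l : SchDomLib.Pieces f UB, Γ(X, UB) →ₐ[Γ(Spec (CommRingCat.of k), UA)] SchDomLib.pieceRing l := fun l =>
    { toRingHom := ((f l.1).appLE UB l.2.1 l.2.2.2).hom
      commutes' := fun a => by
        change (p.appLE UA UB hle ≫ (f l.1).appLE UB l.2.1 l.2.2.2) a = _
        rw [Scheme.Hom.appLE_comp_appLE]
        rfl }
  have hu : ∀ l, (u l).toRingHom = ((f l.1).appLE UB l.2.1 l.2.2.2).hom := fun l => rfl
  have hX : SchDomLib.Dom fun l => (u l).toRingHom := by
    refine (SchDomLib.sdom_spec_iff (R := Γ(X, UB)) (C := fun l => CommRingCat.of (SchDomLib.pieceRing l))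
      fun l => CommRingCat.ofHom (u l).toRingHom).1 ?_
    refine SchDomLib.SDom.restrict (h : SchDomLib.SDom f) hUB.fromSpec _ fun i z hz => ?_
    rw [IsAffineOpen.range_fromSpec] at hz
    obtain ⟨W, hW, hzW, hWU⟩ := exists_isAffineOpen_mem_and_subset (X := Z i) (U := f i ⁻¹ᵁ UB) hz
    refine ⟨⟨i, W, hW, hWU⟩, hW.fromSpec, IsAffineOpen.isOpenImmersion_fromSpec hW,
      hW.range_fromSpec.ge hzW, ?_⟩
    exact (IsAffineOpen.SpecMap_appLE_fromSpec (f i) hUB hW hWU).symm
  have hdom := SchDomFieldLib.dom_univ u hX Γ(S', UT)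
  have hT : hUT.fromSpec ≫ q = Spec.map (CommRingCat.ofHom (algebraMap Γ(Spec (CommRingCat.of k), UA) Γ(S', UT))) ≫
      hUA.fromSpec :=
    (IsAffineOpen.SpecMap_appLE_fromSpec q hUA hUT hleT).symm
  obtain ⟨e, el, heo, -, her, -, hcomm⟩ := SchDomLib.exists_charts hUA hUB hle rfl (fun _ => rfl) u hu q
    hUT.fromSpec hT
  refine ⟨Spec (CommRingCat.of (TensorProduct Γ(Spec (CommRingCat.of k), UA) Γ(S', UT) Γ(X, UB))), e,
    SchDomLib.Pieces f UB,
    fun l => Spec (CommRingCat.of (TensorProduct Γ(Spec (CommRingCat.of k), UA) Γ(S', UT) (SchDomLib.pieceRing l))),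
    fun l => Spec.map (CommRingCat.ofHom (SchDomLib.bc u Γ(S', UT) l).toRingHom), heo, ?_, ?_,
    fun l => ⟨l.1, el l, hcomm l⟩⟩
  rotate_left
  · exact (SchDomLib.sdom_spec_iff (R := CommRingCat.of (TensorProduct Γ(Spec (CommRingCat.of k), UA) Γ(S', UT) Γ(X, UB)))
      (C := fun l => CommRingCat.of (TensorProduct Γ(Spec (CommRingCat.of k), UA) Γ(S', UT) (SchDomLib.pieceRing l)))
      fun l => CommRingCat.ofHom (SchDomLib.bc u Γ(S', UT) l).toRingHom).2 hdom
  rw [her, IsAffineOpen.range_fromSpec]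
  exact ⟨hwB, hwT⟩

end Groth.Agent.S4877
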