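import Groth.Statements.S4878
import Mathlib

set_option autoImplicit false
universe u
open TensorProduct
open EGA43

namespace Groth.Agent.S4878

/-- Let A be a commutative ring, (u_i : M → M_i) a family of A-linear maps whose kernels have zero
intersection, and N a projective A-module. Then the kernels of the maps u_i ⊗ 1 : M ⊗_A N → M_i ⊗_A
N have zero intersection. -/
theorem result {A : Type u} [CommRing A]
    {M : Type u} [AddCommGroup M] [Module A M] {ι : Type u} (M' : ι → Type u)
    [∀ i, AddCommGroup (M' i)] [∀ i, Module A (M' i)] (u : ∀ i, M →ₗ[A] M' i)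
    (hu : ⨅ i, LinearMap.ker (u i) = ⊥)
    (N : Type u) [AddCommGroup N] [Module A N] [Module.Projective A N] :
    ⨅ i, LinearMap.ker ((u i).rTensor N) = ⊥ := by
  obtain ⟨s, hs⟩ := Module.projective_def'.1 (inferInstance : Module.Projective A N)
  refine eq_bot_iff.2 fun z hz => ?_
  rw [Submodule.mem_iInf] at hz
  let z' := s.lTensor M z
  have hz' : ∀ i, (u i).rTensor (N →₀ A) z' = 0 := fun i => by
    have := congrArg (s.lTensor (M' i)) (LinearMap.mem_ker.1 (hz i))
    rw [map_zero, ← LinearMap.comp_apply, LinearMap.lTensor_comp_rTensor, ← LinearMap.rTensor_comp_lTensor] at this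
    exact this
  classical
  let e := TensorProduct.finsuppScalarRight A A M N
  have h0 : e z' = 0 := by
    ext j
    rw [Finsupp.zero_apply, ← Submodule.mem_bot A, ← hu, Submodule.mem_iInf]
    intro i
    rw [LinearMap.mem_ker]
    have key : ∀ w : M ⊗[A] (N →₀ A), u i (TensorProduct.finsuppScalarRight A A M N w j) =
        TensorProduct.finsuppScalarRight A A (M' i) N ((u i).rTensor _ w) j := by
      intro w
      induction w using TensorProduct.induction_on with
      | zero => simp
      | tmul m g => simp [TensorProduct.finsuppScalarRight_apply_tmul_apply]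
      | add a b ha hb => simp [ha, hb]
    rw [key z', hz' i, map_zero, Finsupp.zero_apply]
  have hz'' : z' = 0 := e.injective (by rw [h0, map_zero])
  have h1 : ((Finsupp.linearCombination A (id : N → N)).lTensor M) z' = z := by
    rw [← LinearMap.comp_apply, ← LinearMap.lTensor_comp, hs, LinearMap.lTensor_id]
    rfl
  rw [Submodule.mem_bot, ← h1, hz'', map_zero]

end Groth.Agent.S4878
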