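import Groth.Statements.S4882


set_option autoImplicit false
universe u
open EGA43

namespace Groth.Agent.S4882

/-- Let X be a Jacobson space and Z a locally quasi-constructible subset of X, i.e. every point of X has
an open neighbourhood U such that U ∩ Z is a finite union of locally closed subsets of X. Then the
subspace Z is a Jacobson space, and a point of Z is closed in Z if and only if it is closed in X. -/
theorem result {X : Type u} [TopologicalSpace X] [JacobsonSpace X]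
    (Z : Set X)
    (hZ : ∀ x : X, ∃ U : Set X, IsOpen U ∧ x ∈ U ∧
      ∃ T : Set (Set X), T.Finite ∧ (∀ t ∈ T, IsLocallyClosed t) ∧ U ∩ Z = ⋃₀ T) :
    JacobsonSpace ↥Z ∧ ∀ z : ↥Z, IsClosed ({z} : Set ↥Z) ↔ IsClosed ({(z : X)} : Set X) := by
  have key : ∀ S : Set ↥Z, IsLocallyClosed S → S.Nonempty →
      ∃ z ∈ S, IsClosed ({(z : X)} : Set X) := by
    intro S hS hne
    obtain ⟨z, hz⟩ := hne
    obtain ⟨U, hU, hzU, T, -, hTlc, hTU⟩ := hZ z.1
    have hzUZ : z.1 ∈ U ∩ Z := ⟨hzU, z.2⟩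
    rw [hTU] at hzUZ
    obtain ⟨t, htT, hzt⟩ := hzUZ
    obtain ⟨U', Z', hU', hZ', rfl⟩ := hS
    obtain ⟨A, hA, rfl⟩ := isOpen_induced_iff.mp hU'
    obtain ⟨B, hB, rfl⟩ := isClosed_induced_iff.mp hZ'
    have hlc : IsLocallyClosed ((A ∩ B) ∩ t) :=
      IsLocallyClosed.inter (show IsLocallyClosed (A ∩ B) from ⟨A, B, hA, hB, rfl⟩) (hTlc t htT)
    obtain ⟨x, ⟨⟨hxA, hxB⟩, hxt⟩, hxc⟩ := nonempty_inter_closedPoints (Z := A ∩ B ∩ t) ⟨z.1, ⟨hz, hzt⟩⟩ hlc
    have hxZ : x ∈ U ∩ Z := by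
      rw [hTU]; exact ⟨t, htT, hxt⟩
    exact ⟨⟨x, hxZ.2⟩, ⟨hxA, hxB⟩, hxc⟩
  have hsing : ∀ z : ↥Z, IsClosed ({(z : X)} : Set X) → IsClosed ({z} : Set ↥Z) := fun z hz => by
    have := hz.preimage (continuous_subtype_val : Continuous (Subtype.val : ↥Z → X))
    convert this using 1
    ext w; simp [Subtype.ext_iff]
  refine ⟨jacobsonSpace_iff_locallyClosed.mpr fun S hne hS => ?_, fun z => ⟨fun hz => ?_, hsing z⟩⟩
  · obtain ⟨z, hzS, hzc⟩ := key S hS hne
    exact ⟨z, hzS, hsing z hzc⟩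
  · obtain ⟨w, hw, hwc⟩ := key {z} hz.isLocallyClosed ⟨z, rfl⟩
    rw [Set.mem_singleton_iff] at hw
    subst hw
    exact hwc

end Groth.Agent.S4882
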