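import Groth.Statements.S4885
import Mathlib
-- import your own Groth.Agent.* helpers here

set_option autoImplicit false
universe u
open EGA43

namespace Groth.Agent.S4885

theorem aux {A P A' : Type u} [CommRing A] [CommRing P] [CommRing A'] [Algebra A P] [Algebra A A']
    (π₀ : P →ₐ[A] A') (hπ₀ : Function.Surjective π₀) (N : Set P) (hN : N.Finite) (hN0 : ∀ x ∈ N, π₀ x = 0)
    (hQ : ∀ I : Ideal P, I.FG → N ⊆ I → Module.Finite A (P ⧸ I) ∧ Algebra.FinitePresentation A (P ⧸ I)) :
    ∃ (ι : Type u) (_ : Preorder ι) (G : ι → Type u) (_ : ∀ i, CommRing (G i)) (_ : ∀ i, Algebra A (G i))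
      (g : ∀ i j, i ≤ j → G i →ₐ[A] G j) (_ : ∀ i, Algebra (G i) A') (_ : ∀ i, IsScalarTower A (G i) A'),
      FlatCA.IsDirectedColimitRing G (fun i j h => (g i j h).toRingHom) A' ∧
        ∀ i, Module.Finite A (G i) ∧ Algebra.FinitePresentation A (G i) := by
  classical
  let ι : Type u := {J : Finset P // ↑J ⊆ (RingHom.ker π₀ : Set P)}
  let I : ι → Ideal P := fun J => Ideal.span (N ∪ ↑J.1)
  have hI : ∀ J, I J ≤ RingHom.ker π₀ := fun J => Ideal.span_le.2 (Set.union_subset hN0 J.2)
  have hmono : ∀ J K : ι, J ≤ K → I J ≤ I K := fun J K h =>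
    Ideal.span_mono (Set.union_subset_union_right _ (Finset.coe_subset.2 h))
  let toA' : ∀ J, (P ⧸ I J) →ₐ[A] A' := fun J =>
    Ideal.Quotient.liftₐ (I J) π₀ fun x hx => hI J hx
  letI alg : ∀ J, Algebra (P ⧸ I J) A' := fun J => (toA' J).toRingHom.toAlgebra
  refine ⟨ι, inferInstance, fun J => P ⧸ I J, fun _ => inferInstance,
    fun _ => inferInstance, fun J K h => Ideal.Quotient.factorₐ A (hmono J K h), alg,
    fun J => IsScalarTower.of_algebraMap_eq' (toA' J).comp_algebraMap.symm, ?_, fun J =>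
      hQ _ (Submodule.fg_span (hN.union J.1.finite_toSet))
        (fun x hx => Ideal.subset_span (Or.inl hx))⟩
  refine ⟨⟨fun J K => ⟨⟨J.1 ∪ K.1, by rw [Finset.coe_union]; exact Set.union_subset J.2 K.2⟩,
    Finset.subset_union_left, Finset.subset_union_right⟩⟩, ⟨⟨∅, by simp⟩⟩,
    fun J => ?_, fun i j k hij hjk => ?_, fun i j h => ?_, fun a => ?_, fun J x hx => ?_⟩
  · exact Ideal.Quotient.ringHom_ext (RingHom.ext fun _ => rfl)
  · exact Ideal.Quotient.ringHom_ext (RingHom.ext fun _ => rfl)
  · exact Ideal.Quotient.ringHom_ext (RingHom.ext fun _ => rfl)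
  · obtain ⟨x, hx⟩ := hπ₀ a
    exact ⟨⟨∅, by simp⟩, Ideal.Quotient.mk _ x, hx⟩
  · obtain ⟨x, rfl⟩ := Ideal.Quotient.mk_surjective x
    let K : ι := ⟨insert x J.1, by
      rw [Finset.coe_insert]; exact Set.insert_subset hx J.2⟩
    refine ⟨K, Finset.subset_insert x J.1, Ideal.Quotient.eq_zero_iff_mem.2 ?_⟩
    exact Ideal.subset_span (Or.inr (Finset.mem_insert_self x J.1))

/-- Every finite algebra A' over a commutative ring A is a directed colimit (filtered inductive limit)
of A-algebras which are finite and of finite presentation over A. -/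
theorem result (A A' : Type u) [CommRing A] [CommRing A']
    [Algebra A A'] [Module.Finite A A'] :
    ∃ (ι : Type u) (_ : Preorder ι) (G : ι → Type u) (_ : ∀ i, CommRing (G i)) (_ : ∀ i, Algebra A (G i))
      (g : ∀ i j, i ≤ j → G i →ₐ[A] G j) (_ : ∀ i, Algebra (G i) A') (_ : ∀ i, IsScalarTower A (G i) A'),
      FlatCA.IsDirectedColimitRing G (fun i j h => (g i j h).toRingHom) A' ∧
        ∀ i, Module.Finite A (G i) ∧ Algebra.FinitePresentation A (G i) := by
  classical
  obtain ⟨n, s, hs⟩ := Module.Finite.exists_fin (R := A) (M := A')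
  have hint : ∀ i, IsIntegral A (s i) := fun i => Algebra.IsIntegral.isIntegral (s i)
  choose p hpm hp0 using hint
  let F : Fin n → MvPolynomial (Fin n) A := fun i => Polynomial.aeval (MvPolynomial.X i) (p i)
  refine aux (MvPolynomial.aeval s) ?_ (Set.range F) (Set.finite_range F) ?_ ?_
  · intro y
    obtain ⟨c, hc⟩ := (Submodule.mem_span_range_iff_exists_fun A).1 (hs ▸ Submodule.mem_top : y ∈ Submodule.span A (Set.range s))
    exact ⟨∑ i, c i • MvPolynomial.X i, by simp [map_sum, hc]⟩
  · rintro _ ⟨i, rfl⟩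
    show MvPolynomial.aeval s (Polynomial.aeval (MvPolynomial.X i) (p i)) = 0
    rw [← Polynomial.aeval_algHom_apply, MvPolynomial.aeval_X, Polynomial.aeval_def]
    exact hp0 i
  · intro I hfg hFI
    haveI hfp : Algebra.FinitePresentation A (MvPolynomial (Fin n) A ⧸ I) :=
      Algebra.FinitePresentation.quotient hfg
    refine ⟨?_, hfp⟩
    haveI : Algebra.IsIntegral A (MvPolynomial (Fin n) A ⧸ I) := by
      refine ⟨fun y => ?_⟩
      obtain ⟨x, rfl⟩ := Ideal.Quotient.mk_surjective y
      induction x using MvPolynomial.induction_on with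
      | C a => exact isIntegral_algebraMap
      | add f g hf hg => rw [map_add]; exact hf.add hg
      | mul_X f i hf =>
        rw [map_mul]
        refine hf.mul ⟨p i, hpm i, ?_⟩
        rw [← Polynomial.aeval_def]
        show Polynomial.aeval (Ideal.Quotient.mkₐ A I (MvPolynomial.X i)) (p i) = 0
        rw [Polynomial.aeval_algHom_apply]
        exact Ideal.Quotient.eq_zero_iff_mem.2 (hFI ⟨i, rfl⟩)
    exact Algebra.IsIntegral.finite

end Groth.Agent.S4885
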