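import Groth.Statements.S4886
import Mathlib
import Groth.Agent.PointCount.Ring
-- import your own Groth.Agent.* helpers here

set_option autoImplicit false
universe u
open CategoryTheory AlgebraicGeometry
open EGA43

namespace Groth.Agent.S4886

set_option maxHeartbeats 400000
attribute [local instance] PointCount.isJacobsonRing_int

lemma hom_finite (A F : Type*) [CommRing A] [CommRing F] [Finite F] [Algebra.FiniteType ℤ A] :
    Finite (A →+* F) := by
  obtain ⟨T, hT⟩ := (inferInstance : Algebra.FiniteType ℤ A).out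
  refine Finite.of_injective (fun φ : A →+* F => fun t : T => φ t.1) fun φ ψ h => RingHom.ext fun b => ?_
  have hb : b ∈ Algebra.adjoin ℤ (T : Set A) := hT ▸ Algebra.mem_top
  induction hb using Algebra.adjoin_induction with
  | mem x hx => exact congrFun h ⟨x, hx⟩
  | algebraMap z => simp
  | add x y _ _ hx hy => rw [map_add, map_add, hx, hy]
  | mul x y _ _ hx hy => rw [map_mul, map_mul, hx, hy]

lemma field_finite (K : Type*) [Field K] [h : Algebra.FiniteType ℤ K] : Finite K := by
  haveI : Module.Finite ℤ K := finite_of_finite_type_of_isJacobsonRing ℤ K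
  by_cases hinj : Function.Injective (algebraMap ℤ K)
  · exact absurd (isField_of_isIntegral_of_isField hinj (Field.toIsField K)) Int.not_isField
  · obtain ⟨p, hp⟩ := CharP.exists K
    have hp0 : p ≠ 0 := by
      rintro rfl
      haveI := CharP.charP_to_charZero K
      exact hinj Int.cast_injective
    haveI : Fact p.Prime := ⟨(CharP.char_is_prime_or_zero K p).resolve_right hp0⟩
    letI := ZMod.algebra K p
    haveI : Module.Finite (ZMod p) K := Module.Finite.of_restrictScalars_finite ℤ (ZMod p) K
    exact Module.finite_of_finite (ZMod p)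

lemma spec_finiteType_iff (K : CommRingCat.{u}) :
    LocallyOfFiniteType (Limits.IsTerminal.from specULiftZIsTerminal (Spec K)) ↔
      Algebra.FiniteType ℤ K := by
  obtain ⟨φ, hφ⟩ := Spec.map_surjective (Limits.IsTerminal.from specULiftZIsTerminal (Spec K))
  rw [← hφ, HasRingHomProperty.Spec_iff (P := @LocallyOfFiniteType), ← RingHom.finiteType_algebraMap (A := ℤ) (B := K)]
  have : algebraMap ℤ K = φ.hom.comp (ULift.ringEquiv.{0, u}.symm : ℤ ≃+* ULift.{u} ℤ).toRingHom :=
    RingHom.ext_int _ _
  rw [this]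
  refine ⟨fun h => h.comp (RingHom.FiniteType.of_surjective _ (RingEquiv.surjective _)), fun h => ?_⟩
  exact RingHom.FiniteType.of_comp_finiteType h


/-- Let Y be a scheme of finite type over ℤ. (i) A point y of Y is closed if and only if the residue
field k(y) is finite. (ii) For every prime number p and every integer d ≥ 1, the set of points y of
Y such that k(y) is an extension of 𝔽_p of degree dividing d, i.e. admits a ring homomorphism into
the field with p^d elements, is finite. -/
theorem result (Y : Scheme.{u}) [CompactSpace Y]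
    [LocallyOfFiniteType (Limits.IsTerminal.from specULiftZIsTerminal Y)] :
    (∀ y : Y, IsClosed ({y} : Set Y) ↔ Finite ↑(Y.residueField y)) ∧
    ∀ (p d : ℕ) [Fact p.Prime], 0 < d →
      {y : Y | Nonempty (↑(Y.residueField y) →+* GaloisField p d)}.Finite := by
  haveI hf := ‹LocallyOfFiniteType (Limits.IsTerminal.from specULiftZIsTerminal Y)›
  haveI : IsJacobsonRing (ULift.{u} ℤ) :=
    isJacobsonRing_of_surjective ⟨(ULift.ringEquiv.{0, u}.symm : ℤ ≃+* ULift.{u} ℤ).toRingHom,
      RingEquiv.surjective _⟩
  haveI : JacobsonSpace Y :=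
    LocallyOfFiniteType.jacobsonSpace (Limits.IsTerminal.from specULiftZIsTerminal Y)
  have hres : ∀ y : Y, LocallyOfFiniteType (Y.fromSpecResidueField y) ↔
      Algebra.FiniteType ℤ (Y.residueField y) := fun y => by
    rw [← spec_finiteType_iff, Limits.IsTerminal.hom_ext specULiftZIsTerminal
      (Limits.IsTerminal.from specULiftZIsTerminal (Spec (Y.residueField y)))
      (Y.fromSpecResidueField y ≫ Limits.IsTerminal.from specULiftZIsTerminal Y)]
    exact ⟨fun h => inferInstance, fun h => locallyOfFiniteType_of_comp _ (Limits.IsTerminal.from specULiftZIsTerminal Y)⟩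
  refine ⟨fun y => ?_, fun p d _ hd => ?_⟩
  · rw [isClosed_singleton_iff_locallyOfFiniteType, hres]
    refine ⟨fun h => field_finite _, fun h => ?_⟩
    haveI := Module.Finite.of_finite (R := ℤ) (M := Y.residueField y)
    infer_instance
  · obtain ⟨s, hs, he⟩ := (isCompact_univ (X := Y)).elim_finite_subcover_image (b := Y.affineOpens)
      (c := fun U => (U : Set Y)) (fun U _ => U.isOpen) (by
        intro y _
        obtain ⟨U, hU, hy, -⟩ := exists_isAffineOpen_mem_and_subset (Set.mem_univ y |> fun _ => (show y ∈ (⊤ : Y.Opens) from trivial))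
        exact Set.mem_biUnion hU hy)
    refine Set.Finite.subset (s := ⋃ U ∈ s,
      {y : Y | y ∈ U ∧ Nonempty (↑(Y.residueField y) →+* GaloisField p d)})
      (he.1.biUnion fun U hU => ?_) ?_
    rotate_left
    · intro y hy
      obtain ⟨U, hU, hyU⟩ := Set.mem_iUnion₂.mp (he.2 (Set.mem_univ y))
      exact Set.mem_biUnion hU ⟨hyU, hy⟩
    have hUa : IsAffineOpen U := hs hU
    haveI : Algebra.FiniteType ℤ Γ(Y, U) := by
      have h := Scheme.Hom.finiteType_appLE (Limits.IsTerminal.from specULiftZIsTerminal Y)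
        (U := ⊤) (isAffineOpen_top _) hUa (V := U) le_top
      rw [← RingHom.finiteType_algebraMap]
      have hsurj : Function.Surjective (Int.castRingHom Γ(Spec (.of (ULift.{u} ℤ)), ⊤)) := by
        intro x
        obtain ⟨n, hn⟩ : ∃ n, n = (Scheme.ΓSpecIso (.of (ULift.{u} ℤ))).commRingCatIsoToRingEquiv x :=
          ⟨_, rfl⟩
        refine ⟨n.down, (Scheme.ΓSpecIso (.of (ULift.{u} ℤ))).commRingCatIsoToRingEquiv.injective ?_⟩
        rw [eq_intCast, map_intCast, ← hn]
        exact ULift.ext _ _ (by simp)
      rw [show algebraMap ℤ Γ(Y, U) = (Scheme.Hom.appLE _ ⊤ U le_top).hom.comp (Int.castRingHom _) from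
        RingHom.ext_int _ _]
      exact h.comp (RingHom.FiniteType.of_surjective _ hsurj)
    haveI := hom_finite Γ(Y, U) (GaloisField p d)
    haveI : Finite ({y : Y | y ∈ U ∧ Nonempty (↑(Y.residueField y) →+* GaloisField p d)} : Set Y) := by
      refine Finite.of_injective (fun y => y.2.2.some.comp (Y.evaluation U y.1 y.2.1).hom) fun a b hab => ?_
      have key : ∀ g : Γ(Y, U), a.1 ∈ Y.basicOpen g ↔ b.1 ∈ Y.basicOpen g := fun g => by
        rw [← Scheme.evaluation_ne_zero_iff_mem_basicOpen Y a.1 a.2.1 g,
          ← Scheme.evaluation_ne_zero_iff_mem_basicOpen Y b.1 b.2.1 g,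
          ← map_ne_zero a.2.2.some, ← map_ne_zero b.2.2.some]
        exact iff_of_eq (congrArg (· ≠ 0) (RingHom.congr_fun hab g))
      have h2 : ∀ (a b : Y), a ∈ U → b ∈ U → (∀ g : Γ(Y, U), a ∈ Y.basicOpen g → b ∈ Y.basicOpen g) →
          ∀ V : Y.Opens, a ∈ V → b ∈ V := by
        intro a b ha hb hg V hV
        obtain ⟨g, hgV, hag⟩ := hUa.exists_basicOpen_le (V := V) ⟨a, hV⟩ ha
        exact hgV (hg g hag)
      refine Subtype.ext (inseparable_iff_forall_isOpen.mpr fun V hV => ⟨?_, ?_⟩).eq
      · exact h2 a.1 b.1 a.2.1 b.2.1 (fun g => (key g).mp) ⟨V, hV⟩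
      · exact h2 b.1 a.1 b.2.1 a.2.1 (fun g => (key g).mpr) ⟨V, hV⟩
    exact Set.toFinite _

end Groth.Agent.S4886
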