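import Groth.Statements.S4888
import Mathlib
import Groth.Agent.JacDimLib.LocalDim
-- import your own Groth.Agent.* helpers here

set_option autoImplicit false
universe u
open CategoryTheory AlgebraicGeometry
open EGA43

namespace Groth.Agent.S4888

/-- Let X be a locally Noetherian Jacobson scheme whose local rings are universally catenary and whose
irreducible components are equidimensional (for every irreducible component X' and closed point x of
X', dim X' equals the dimension of the space of generizations of x in X'); let Y be a closed subset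
of X and x a point of Y. Then dim_x(Y) = dim(U ∩ Y) = dim cl{x} + codim(cl{x}, Y) = sup_i dim(Y_i);
that is, the local dimension of Y at x equals the dimension of the closure of x plus the codimension
of that closure in Y (the Krull dimension of the space of generizations of x in Y), equals the
supremum of the dimensions of the irreducible components Y_i of Y through x, and equals dim(U ∩ Y)
for every open neighbourhood U of x meeting no irreducible component of Y that avoids x. (The
published statement assumes only the Jacobson and universally-catenary conditions; its proof applies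
the dimension formula for dense opens to the irreducible components, which needs their
equidimensionality, and for an irreducible Noetherian Jacobson scheme with universally catenary
local rings having two closed points with local rings of different dimensions n − 1 and n — such
schemes exist — the two sides differ at the first of these points; so equidimensionality of the
components is assumed here.) -/
theorem result (X : Scheme.{u}) [IsLocallyNoetherian X] [JacobsonSpace X]
    (h2 : ∀ x : X, CAlg.IsUniversallyCatenary (X.presheaf.stalk x))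
    (h3 : ∀ X' ∈ irreducibleComponents (X : Type u), ∀ x ∈ X', IsClosed ({x} : Set X) →
      topologicalKrullDim (↥X' : Type u) = topologicalKrullDim ↥{t : X | t ∈ X' ∧ t ⤳ x})
    (Y : Set X) (hY : IsClosed Y) (x : X) (hx : x ∈ Y) :
    FlatMor.localDim ↥Y ⟨x, hx⟩ =
        topologicalKrullDim ↥(closure ({x} : Set X)) + topologicalKrullDim ↥{t : X | t ∈ Y ∧ t ⤳ x} ∧
      FlatMor.localDim ↥Y ⟨x, hx⟩ =
        ⨆ C ∈ {C : Set ↥Y | C ∈ irreducibleComponents ↥Y ∧ (⟨x, hx⟩ : ↥Y) ∈ C}, topologicalKrullDim ↥C ∧
      ∀ U : Set X, IsOpen U → x ∈ U →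
        (∀ C ∈ irreducibleComponents ↥Y, (⟨x, hx⟩ : ↥Y) ∉ C → Disjoint (Subtype.val ⁻¹' U) C) →
        topologicalKrullDim ↥(U ∩ Y) = FlatMor.localDim ↥Y ⟨x, hx⟩ := by
  haveI := hY.isClosedEmbedding_subtypeVal.quasiSober
  let x' : ↥Y := ⟨x, hx⟩
  set A := topologicalKrullDim ↥(closure ({x} : Set X)) + topologicalKrullDim ↥{t : X | t ∈ Y ∧ t ⤳ x} with hA
  have e : ∀ U : Set X, topologicalKrullDim ↥(U ∩ Y) = topologicalKrullDim ↥((Subtype.val : Y → X) ⁻¹' U) := by
    intro U
    let e : ((Subtype.val : Y → X) ⁻¹' U) ≃ₜ ↥(U ∩ Y) :=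
      { toFun := fun w ↦ ⟨w.1.1, w.2, w.1.2⟩
        invFun := fun w ↦ ⟨⟨w.1, w.2.2⟩, w.2.1⟩
        left_inv := fun _ ↦ rfl
        right_inv := fun _ ↦ rfl
        continuous_toFun := (continuous_subtype_val.comp continuous_subtype_val).subtype_mk _
        continuous_invFun := (continuous_subtype_val.subtype_mk _).subtype_mk _ }
    exact (IsHomeomorph.topologicalKrullDim_eq e e.isHomeomorph).symm
  obtain ⟨U₀, hU₀, hxU₀, hgen⟩ := JacDimLib.exists_nhd_generic hY hx
  have hdim : FlatMor.localDim ↥Y x' = A := by
    refine le_antisymm ?_ (le_iInf fun U ↦ ?_)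
    · rw [hA, ← JacDimLib.dim_inter_eq h2 h3 hY hx hU₀ hxU₀ hgen, e]
      exact FibDimLib.localDim_le_of_open (U := ⟨_, hU₀.preimage continuous_subtype_val⟩) hxU₀
    · obtain ⟨U, hxU⟩ := U
      obtain ⟨W, hW, hWU⟩ := isOpen_induced_iff.1 U.isOpen
      have hxW : x ∈ W := by
        have : x' ∈ (Subtype.val : Y → X) ⁻¹' W := hWU ▸ hxU
        exact this
      rw [hA, ← JacDimLib.dim_inter_eq h2 h3 hY hx (hW.inter hU₀) ⟨hxW, hxU₀⟩ fun v hv ↦ hgen v hv.2, e]
      have hsub : (Subtype.val : Y → X) ⁻¹' (W ∩ U₀) ⊆ (U : Set ↥Y) := fun v hv ↦ hWU ▸ hv.1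
      exact (Topology.IsEmbedding.inclusion hsub).isInducing.topologicalKrullDim_le
  have hcomp : ∀ (C : Set ↥Y) (g : ↥Y), IsGenericPoint g C →
      topologicalKrullDim ↥C = topologicalKrullDim ↥(closure ({(g : X)} : Set X)) := by
    intro C g hg
    have himg : (Subtype.val : Y → X) '' C = closure ({(g : X)} : Set X) := by
      rw [← hg.def, ← hY.isClosedEmbedding_subtypeVal.closure_image_eq, Set.image_singleton]
    let e := ((hY.isClosedEmbedding_subtypeVal.isEmbedding).homeomorphImage C).trans (Homeomorph.setCongr himg)
    exact IsHomeomorph.topologicalKrullDim_eq e e.isHomeomorph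
  refine ⟨hdim, hdim.trans (le_antisymm ?_ (iSup₂_le ?_)), fun U hU hxU hdis ↦ ?_⟩
  · obtain ⟨η, hη, hηx, hd⟩ := JacDimLib.exists_dimBetween_eq_dim hY hx
    let η' : ↥Y := ⟨η, hη⟩
    have hC := irreducibleComponent_mem_irreducibleComponents η'
    obtain ⟨g, hg⟩ := QuasiSober.sober (isIrreducible_irreducibleComponent (x := η')) isClosed_irreducibleComponent
    have hgη : (g : X) ⤳ η := (hg.specializes mem_irreducibleComponent).map continuous_subtype_val
    have hxC : x' ∈ irreducibleComponent η' :=
      (show η' ⤳ x' from Topology.IsInducing.subtypeVal.specializes_iff.1 hηx).mem_closed isClosed_irreducibleComponent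
        mem_irreducibleComponent
    refine le_iSup₂_of_le (irreducibleComponent η') ⟨hC, hxC⟩ ?_
    rw [hcomp _ g hg, JacDimLib.dim_closure_add h2 h3 (hgη.trans hηx), hA, ← hd]
    exact add_le_add le_rfl (JacDimLib.dimBetween_mono hgη)
  · rintro C ⟨hC, hxC⟩
    obtain ⟨g, hg⟩ := QuasiSober.sober hC.1 (isClosed_of_mem_irreducibleComponents C hC)
    rw [hcomp C g hg]
    exact JacDimLib.dim_closure_le h2 h3 hY g.2 ((hg.specializes hxC).map continuous_subtype_val)
  · rw [hdim, hA]
    refine JacDimLib.dim_inter_eq h2 h3 hY hx hU hxU fun v hv hvY ↦ ?_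
    let v' : ↥Y := ⟨v, hvY⟩
    have hC := irreducibleComponent_mem_irreducibleComponents v'
    have hxC : x' ∈ irreducibleComponent v' := by
      by_contra hcon
      exact Set.disjoint_left.1 (hdis _ hC hcon) (show v' ∈ Subtype.val ⁻¹' U from hv) mem_irreducibleComponent
    obtain ⟨g, hg⟩ := QuasiSober.sober (isIrreducible_irreducibleComponent (x := v')) isClosed_irreducibleComponent
    exact ⟨g, g.2, (hg.specializes hxC).map continuous_subtype_val,
      (hg.specializes mem_irreducibleComponent).map continuous_subtype_val⟩

end Groth.Agent.S4888
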