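import Groth.Statements.S4891
import Groth.Agent.S0400
import Mathlib.RingTheory.Flat.FaithfullyFlat.Basic

set_option autoImplicit false
universe u
open TensorProduct
open EGA43

namespace Groth.Agent.S4891

/-- Let A be a commutative ring, J a nilpotent ideal of A, B a commutative A-algebra and M a B-module.
If M is flat over A, M/JM is flat over B/JB, B/JB is flat over A/J and mM ≠ M for every maximal
ideal m of B containing JB, then B is flat over A. (Under the first two hypotheses M is also flat
over B; that implication is stated elsewhere and not repeated here.) -/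
theorem result {A B : Type u} [CommRing A] [CommRing B] [Algebra A B]
    (J : Ideal A) (hJ : IsNilpotent J) (M : Type u) [AddCommGroup M] [Module B M] [Module A M] [IsScalarTower A B M]
    (hc1 : Module.Flat A M)
    (hc2 : Module.Flat (B ⧸ J.map (algebraMap A B)) ((B ⧸ J.map (algebraMap A B)) ⊗[B] M))
    (hd1 : Module.Flat (A ⧸ J) ((A ⧸ J) ⊗[A] B))
    (hd2 : ∀ m : Ideal B, m.IsMaximal → J.map (algebraMap A B) ≤ m → (m • (⊤ : Submodule B M)) ≠ ⊤) :
    Module.Flat A B := by
  haveI := hc1
  haveI hMB : Module.Flat B M := Groth.Agent.S0400.result J hJ hc2
  have hnil : ∀ m : Ideal B, m.IsMaximal → J.map (algebraMap A B) ≤ m := fun m hm => by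
    obtain ⟨n, hn⟩ := hJ
    haveI := hm.isPrime
    refine (Ideal.IsPrime.pow_le_iff (n := n + 1) (Nat.succ_ne_zero n)).1 ?_
    rw [← Ideal.map_pow, pow_succ, hn]
    simp
  haveI : Module.FaithfullyFlat B M :=
    { submodule_ne_top := fun {m} hm => hd2 m hm (hnil m hm) }
  refine Module.Flat.iff_lTensor_preserves_injective_linearMap.2 fun N N' _ _ _ _ g hg => ?_
  have h1 : Function.Injective ((g.baseChange B).lTensor M) := by
    have e : ∀ x, TensorProduct.AlgebraTensorModule.cancelBaseChange A B B M N' ((g.baseChange B).lTensor M x) =
        g.lTensor M (TensorProduct.AlgebraTensorModule.cancelBaseChange A B B M N x) := fun x => by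
      induction x using TensorProduct.induction_on with
      | zero => simp
      | add x y hx hy => simp only [map_add, hx, hy]
      | tmul m z =>
        induction z using TensorProduct.induction_on with
        | zero => simp
        | add x y hx hy => simp only [TensorProduct.tmul_add, map_add, hx, hy]
        | tmul b n => simp
    intro x y h
    have := congrArg (TensorProduct.AlgebraTensorModule.cancelBaseChange A B B M N') h
    rw [e, e] at this
    exact (TensorProduct.AlgebraTensorModule.cancelBaseChange A B B M N).injective
      (Module.Flat.lTensor_preserves_injective_linearMap g hg this)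
  exact (Module.FaithfullyFlat.lTensor_injective_iff_injective B M (g.baseChange B)).1 h1

end Groth.Agent.S4891
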