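import Groth.Statements.S4894


set_option autoImplicit false
universe u
open EGA43

namespace Groth.Agent.S4894

/-- Let f : X → Y be continuous and (W_i) an open covering of Y such that every restriction f⁻¹(W_i) →
W_i is a quasi-homeomorphism (taking preimages is a bijection on open subsets). Then f is a
quasi-homeomorphism. -/
theorem result {X Y : Type u} [TopologicalSpace X]
    [TopologicalSpace Y] (f : X → Y) (hf : Continuous f) {ι : Type u} (W : ι → Set Y)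
    (hWo : ∀ i, IsOpen (W i)) (hWc : ⋃ i, W i = Set.univ)
    (h : ∀ i, ((∀ U₁ U₂ : Set ↥(W i), IsOpen U₁ → IsOpen U₂ → ((W i).restrictPreimage f) ⁻¹' U₁ = ((W i).restrictPreimage f) ⁻¹' U₂ → U₁ = U₂) ∧ (∀ V : Set ↥(f ⁻¹' W i), IsOpen V → ∃ U : Set ↥(W i), IsOpen U ∧ ((W i).restrictPreimage f) ⁻¹' U = V))) :
    ((∀ U₁ U₂ : Set Y, IsOpen U₁ → IsOpen U₂ → (f) ⁻¹' U₁ = (f) ⁻¹' U₂ → U₁ = U₂) ∧ (∀ V : Set X, IsOpen V → ∃ U : Set Y, IsOpen U ∧ (f) ⁻¹' U = V)) := by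
  refine ⟨fun U₁ U₂ h₁ h₂ heq => ?_, fun V hV => ?_⟩
  · ext y
    obtain ⟨i, hi⟩ := Set.mem_iUnion.mp (hWc.symm ▸ Set.mem_univ y : y ∈ ⋃ i, W i)
    have := (h i).1 (Subtype.val ⁻¹' U₁) (Subtype.val ⁻¹' U₂) (h₁.preimage continuous_subtype_val)
      (h₂.preimage continuous_subtype_val) (by
        ext x
        exact Set.ext_iff.mp heq x.1)
    exact Set.ext_iff.mp this ⟨y, hi⟩
  · have hi : ∀ i, ∃ U : Set Y, IsOpen U ∧ U ⊆ W i ∧ f ⁻¹' U = V ∩ f ⁻¹' W i := fun i => by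
      obtain ⟨U, hU, hUV⟩ := (h i).2 (Subtype.val ⁻¹' V) (hV.preimage continuous_subtype_val)
      refine ⟨Subtype.val '' U, (hWo i).isOpenEmbedding_subtypeVal.isOpenMap _ hU,
        Subtype.coe_image_subset _ _, ?_⟩
      ext x
      constructor
      · rintro ⟨y, hy, hyx⟩
        have hxW : x ∈ f ⁻¹' W i := by
          show f x ∈ W i
          rw [← hyx]; exact y.2
        refine ⟨?_, hxW⟩
        have h2 : (⟨x, hxW⟩ : ↥(f ⁻¹' W i)) ∈ (W i).restrictPreimage f ⁻¹' U := by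
          show Set.restrictPreimage (W i) f ⟨x, hxW⟩ ∈ U
          convert hy using 1
          exact Subtype.ext hyx.symm
        rw [hUV] at h2
        exact h2
      · rintro ⟨hxV, hxW⟩
        have h2 : (⟨x, hxW⟩ : ↥(f ⁻¹' W i)) ∈ (W i).restrictPreimage f ⁻¹' U := by
          rw [hUV]; exact hxV
        exact ⟨_, h2, rfl⟩
    choose U hUo hUW hUV using hi
    refine ⟨⋃ i, U i, isOpen_iUnion hUo, ?_⟩
    ext x
    simp only [Set.preimage_iUnion, Set.mem_iUnion, hUV]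
    refine ⟨fun ⟨i, hx, _⟩ => hx, fun hx => ?_⟩
    obtain ⟨i, hi⟩ := Set.mem_iUnion.mp (hWc.symm ▸ Set.mem_univ (f x) : f x ∈ ⋃ i, W i)
    exact ⟨i, hx, hi⟩

end Groth.Agent.S4894
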