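import Groth.Statements.S4896
import Mathlib
import Groth.Agent.JacDimLib.RectOpen
import Groth.Agent.JacDimLib.SuppStalk
import Groth.Agent.CatLib.CM
import Groth.Agent.CatLib.Univ
import Groth.Agent.DepthLib.DepthAlongLoci
-- import your own Groth.Agent.* helpers here

set_option autoImplicit false
universe u
open CategoryTheory AlgebraicGeometry
open EGA43

namespace Groth.Agent.S4896

/-- Let S be locally Noetherian, Jacobson and regular with equidimensional irreducible components, g : X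
⟶ S locally of finite type and F a coherent O_X-module. For every point x of X the rectified depth
prof*_x(F) = prof(F_x) + dim cl{x} is the unique n (a natural number or ∞) such that, for some open
neighbourhood U of x, prof(F_{x'}) = n for every point x' of U ∩ cl{x} which is closed in U. -/
theorem result {X S : Scheme.{u}} [IsLocallyNoetherian S] [JacobsonSpace S]
    (hreg : ∀ s : S, IsRegularLocalRing ↑(S.presheaf.stalk s))
    (h3 : ∀ S' ∈ irreducibleComponents (S : Type u), ∀ s ∈ S', IsClosed ({s} : Set S) →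
      topologicalKrullDim (↥S' : Type u) = topologicalKrullDim ↥{t : S | t ∈ S' ∧ t ⤳ s})
    (g : X ⟶ S) [LocallyOfFiniteType g] (F : X.Modules) (hF : Coh.IsCoh F) (x : X) :
    letI pstar : WithBot ℕ∞ :=
      ((LocCoh.depth ↑(X.presheaf.stalk x) ↑(F.presheaf.stalk x) : ℕ∞) : WithBot ℕ∞) +
        topologicalKrullDim ↥(closure ({x} : Set X))
    ∀ n : ℕ∞,
      (∃ U : X.Opens, x ∈ U ∧ ∀ x' : ↥U, (x' : X) ∈ closure ({x} : Set X) → IsClosed ({x'} : Set ↥U) →
        LocCoh.depth ↑(X.presheaf.stalk (x' : X)) ↑(F.presheaf.stalk (x' : X)) = n) ↔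
      ((n : WithBot ℕ∞) = pstar) := by
  haveI : IsLocallyNoetherian X := LocallyOfFiniteType.isLocallyNoetherian g
  haveI := LocallyOfFiniteType.jacobsonSpace g
  haveI : Coh.IsQCoh F := hF.1
  have h2 : ∀ s : S, CAlg.IsUniversallyCatenary (S.presheaf.stalk s) := fun s ↦
    haveI := hreg s
    CatLib.isUniversallyCatenary_of_isCMRing (CatLib.isCMRing_of_isCM (CommAlgDim.isCM_of_isRegularLocalRing _))
  have hX2 := JacDimLib.h2_of_lft g h2
  have hX3 := JacDimLib.h3_of_lft g h2 h3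
  set P : X → WithBot ℕ∞ := fun y ↦ ((LocCoh.depth ↑(X.presheaf.stalk y) ↑(F.presheaf.stalk y) : ℕ∞) : WithBot ℕ∞) +
    topologicalKrullDim ↥(closure ({y} : Set X))
  have hopen := JacDimLib.isOpen_le_depth_add_closure hreg h2 h3 g F hF.2
  have hclosed : ∀ y : X, IsClosed ({y} : Set X) →
      P y = ((LocCoh.depth ↑(X.presheaf.stalk y) ↑(F.presheaf.stalk y) : ℕ∞) : WithBot ℕ∞) := fun y hy ↦ by
    show _ + _ = _
    rw [JacDimLib.dim_closure_eq hX2 hX3 specializes_rfl hy, EquidimLib.dimBetween_self, add_zero]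
  have hge : ∀ y, x ⤳ y → P y ≤ P x := fun y hy ↦
    UOpenLib.le_of_forall_nat_le fun m hm ↦ (hy.mem_open (hopen m) hm : x ∈ _)
  obtain ⟨s, hxs, hs⟩ := JacDimLib.exists_closed_specialization x
  obtain ⟨r, hr⟩ := EquidimLib.exists_dimBetween_eq_nat hxs
  have hcl : topologicalKrullDim ↥(closure ({x} : Set X)) = r :=
    (JacDimLib.dim_closure_eq hX2 hX3 hxs hs).trans hr
  obtain ⟨U₀, hxU₀, hU₀⟩ : ∃ U₀ : X.Opens, x ∈ U₀ ∧ ∀ y ∈ U₀, P x ≤ P y := by
    obtain ⟨hfin, hdim⟩ := JacDimLib.supportDim_stalk F hF.2 x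
    rcases subsingleton_or_nontrivial ↑(F.presheaf.stalk x) with h | h
    · refine ⟨⟨(CohB1.support F)ᶜ, (QCohLib.isClosed_support F hF.2).isOpen_compl⟩, not_not.2 h, fun y hy ↦ ?_⟩
      haveI : Subsingleton ↑(F.presheaf.stalk y) := not_not.1 hy
      obtain ⟨t, hyt, ht⟩ := JacDimLib.exists_closed_specialization y
      obtain ⟨r', hr'⟩ := EquidimLib.exists_dimBetween_eq_nat hyt
      have e : LocCoh.depth ↑(X.presheaf.stalk y) ↑(F.presheaf.stalk y) = ⊤ :=
        ENat.eq_top_iff_forall_ge.2 fun m ↦ DepthLib.le_depth_of_subsingleton _ _ m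
      show _ ≤ _ + _
      rw [e, (JacDimLib.dim_closure_eq hX2 hX3 hyt ht).trans hr',
        show ((⊤ : ℕ∞) : WithBot ℕ∞) + (r' : WithBot ℕ∞) = ⊤ by rfl]
      exact le_top
    · have h1 := InvLib.depth_le_supportDim (B := ↑(X.presheaf.stalk x)) (N := ↑(F.presheaf.stalk x))
      obtain ⟨N, hN⟩ := EquidimLib.exists_stalk_dim_eq_nat x
      have h2' := h1.trans (Module.supportDim_le_ringKrullDim _ _)
      rw [hN] at h2'
      obtain ⟨d, hd⟩ := ENat.ne_top_iff_exists.1 (ne_top_of_le_ne_top (ENat.natCast_ne_top N)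
        (by exact_mod_cast h2' : LocCoh.depth ↑(X.presheaf.stalk x) ↑(F.presheaf.stalk x) ≤ (N : ℕ∞)))
      have e : P x = ((d + r : ℕ) : WithBot ℕ∞) := by
        show _ + _ = _
        rw [hcl, ← hd]
        push_cast
        rfl
      exact ⟨⟨_, hopen (d + r)⟩, e.ge, fun y hy ↦ e.le.trans hy⟩
  intro n
  constructor
  · rintro ⟨U, hxU, hU⟩
    obtain ⟨y, ⟨⟨hyU, hyU₀⟩, hyx⟩, hy⟩ := nonempty_inter_closedPoints
      (Z := ((U : Set X) ∩ U₀) ∩ closure ({x} : Set X)) ⟨x, ⟨hxU, hxU₀⟩, subset_closure rfl⟩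
      ((U.2.inter U₀.2).isLocallyClosed.inter isClosed_closure.isLocallyClosed)
    have := hU ⟨y, hyU⟩ hyx (by
      have := (hy : IsClosed ({y} : Set X)).preimage (continuous_subtype_val (p := (· ∈ U)))
      convert this using 1
      ext z
      exact Subtype.ext_iff)
    rw [← this, ← hclosed y hy]
    exact le_antisymm (hge y (specializes_iff_mem_closure.2 hyx)) (hU₀ y hyU₀)
  · intro hn
    refine ⟨U₀, hxU₀, fun y hyx hy ↦ ?_⟩
    have hyc : IsClosed ({(y : X)} : Set X) := by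
      have h := U₀.isOpenEmbedding'.preimage_closedPoints
      exact (h.ge hy : (y : X) ∈ closedPoints X)
    have e : ((LocCoh.depth ↑(X.presheaf.stalk (y : X)) ↑(F.presheaf.stalk (y : X)) : ℕ∞) : WithBot ℕ∞) = n := by
      rw [← hclosed y hyc, hn]
      exact le_antisymm (hge y (specializes_iff_mem_closure.2 hyx)) (hU₀ y y.2)
    exact_mod_cast e

end Groth.Agent.S4896
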