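import Groth.Statements.S4897
import Groth.Agent.QuasiHomLib.Basic
-- import your own Groth.Agent.* helpers here

set_option autoImplicit false
universe u
open EGA43

namespace Groth.Agent.S4897

/-- Let f : X → Y be a quasi-homeomorphism, i.e. a continuous map such that U ↦ f⁻¹(U) is a bijection
from the open subsets of Y onto the open subsets of X. Then Z ↦ f⁻¹(Z) induces bijections from the
locally closed (resp. constructible, resp. locally constructible) subsets of Y onto those of X. -/
theorem result {X Y : Type u}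
    [TopologicalSpace X] [TopologicalSpace Y] (f : X → Y) (hf : Continuous f)
    (hq : Function.Bijective (fun U : TopologicalSpace.Opens Y =>
      (⟨f ⁻¹' (U : Set Y), U.isOpen.preimage hf⟩ : TopologicalSpace.Opens X))) :
    Function.Bijective (fun Z : {Z : Set Y // IsLocallyClosed Z} =>
        (⟨f ⁻¹' Z.1, Z.2.preimage hf⟩ : {Z : Set X // IsLocallyClosed Z})) ∧
      Set.BijOn (fun Z : Set Y => f ⁻¹' Z) {Z | Topology.IsConstructible Z} {Z | Topology.IsConstructible Z} ∧
      Set.BijOn (fun Z : Set Y => f ⁻¹' Z) {Z | Topology.IsLocallyConstructible Z}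
        {Z | Topology.IsLocallyConstructible Z} := by
  have H := QuasiHomLib.qh_of_bijective hf hq
  refine ⟨⟨fun Z Z' e => Subtype.ext (H.eq_of_preimage (QuasiHomLib.lqc_of_qc (QuasiHomLib.qc_of_isLocallyClosed Z.2))
      (QuasiHomLib.lqc_of_qc (QuasiHomLib.qc_of_isLocallyClosed Z'.2)) (congrArg Subtype.val e)), fun W => ?_⟩,
    ⟨fun Z hZ => H.isConstructible_preimage hZ, fun Z hZ Z' hZ' e =>
      H.eq_of_preimage (QuasiHomLib.lqc_of_qc (QuasiHomLib.qc_of_isConstructible hZ))
        (QuasiHomLib.lqc_of_qc (QuasiHomLib.qc_of_isConstructible hZ')) e, fun W hW => ?_⟩,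
    ⟨fun Z hZ => H.isLocallyConstructible_preimage hZ, fun Z hZ Z' hZ' e =>
      H.eq_of_preimage (QuasiHomLib.lqc_of_isLocallyConstructible hZ)
        (QuasiHomLib.lqc_of_isLocallyConstructible hZ') e, fun W hW => ?_⟩⟩
  · obtain ⟨Z, hZ, e⟩ := H.exists_locallyClosed W.2
    exact ⟨⟨Z, hZ⟩, Subtype.ext e⟩
  · exact (H.exists_constructible hW).imp fun Z h => ⟨h.1, h.2⟩
  · exact (H.exists_locallyConstructible hW).imp fun Z h => ⟨h.1, h.2⟩


end Groth.Agent.S4897
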