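import Groth.Statements.S4898
import Groth.Agent.FlatLib.NilFlatScheme

set_option autoImplicit false
universe u
open CategoryTheory AlgebraicGeometry
open EGA43

namespace Groth.Agent.S4898

open CategoryTheory.Limits in
/-- Over an affine irreducible base, tested on affine base changes, to which the general statement
reduces: let A be a commutative ring whose spectrum is irreducible, f : X ⟶ Spec A a morphism of
finite presentation and F a quasi-coherent O_X-module of finite presentation. Then there are an
element h of A which is not nilpotent (so that U = Spec A_h is a nonempty open subset of Spec A) and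
a finitely generated ideal J of A_h contained in the nilradical (so that the closed subscheme Z =
V(J) of U, of finite presentation over U, has the same underlying space as U) such that for every
A_h-algebra A' the pullback of F to X ×_{Spec A} Spec A' is flat over Spec A' if and only if J
generates the zero ideal of A', i.e. if and only if Spec A' ⟶ U factors through Z. (The published
statement also asserts that, for a finite affine open cover (W_i) of X, U can be chosen so that the
sections of the pullback of F over each W_i ×_{Spec A} Spec A' form a free A'-module whenever Spec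
A' ⟶ U factors through Z; this row omits that assertion.) -/
theorem result {A : Type u} [CommRing A] [IrreducibleSpace (PrimeSpectrum A)]
    {X : Scheme.{u}} (f : X ⟶ Spec (CommRingCat.of A))
    [LocallyOfFinitePresentation f] [QuasiCompact f] [QuasiSeparated f]
    (F : X.Modules) [Coh.IsQCoh F] (hF : CohB1.IsFP F) :
    ∃ (h : A) (_ : ¬ IsNilpotent h) (J : Ideal (Localization.Away h)) (_ : J.FG)
      (_ : J ≤ nilradical (Localization.Away h)),
      ∀ (A' : Type u) [CommRing A'] [Algebra (Localization.Away h) A'],
        letI g : Spec (CommRingCat.of A') ⟶ Spec (CommRingCat.of A) :=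
          Spec.map (CommRingCat.ofHom ((algebraMap (Localization.Away h) A').comp (algebraMap A (Localization.Away h))))
        (FlatMod.IsFlatOver (pullback.snd f g) ((Scheme.Modules.pullback (pullback.fst f g)).obj F) ↔
          Ideal.map (algebraMap (Localization.Away h) A') J = ⊥) := by
  let σ : Γ(Spec (CommRingCat.of A), ⊤) ≃+* A :=
    (Scheme.ΓSpecIso (CommRingCat.of A)).commRingCatIsoToRingEquiv
  haveI : IrreducibleSpace (PrimeSpectrum Γ(Spec (CommRingCat.of A), ⊤)) :=
    (PrimeSpectrum.homeomorphOfRingEquiv σ).irreducibleSpace_iff.mpr inferInstance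
  obtain ⟨h, hh, J, hfg, hJ, hiff⟩ := FlatLib.exists_flattening_ideal_affine f F hF
  refine ⟨σ h, fun hn => hh (mem_nilradical.mpr ((IsNilpotent.map_iff (f := σ) σ.injective).mp hn)),
    J.map ((algebraMap A (Localization.Away (σ h))).comp σ.toRingHom), Ideal.FG.map hfg _,
    Ideal.map_le_iff_le_comap.mpr fun x hx => mem_nilradical.mpr ((mem_nilradical.mp (hJ hx)).map _), ?_⟩
  intro A' _ _
  let φ : A →+* A' := (algebraMap (Localization.Away (σ h)) A').comp (algebraMap A (Localization.Away (σ h)))
  let τ : Γ(Spec (CommRingCat.of A'), ⊤) ≃+* A' :=
    (Scheme.ΓSpecIso (CommRingCat.of A')).commRingCatIsoToRingEquiv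
  let g : Spec (CommRingCat.of A') ⟶ Spec (CommRingCat.of A) := Spec.map (CommRingCat.ofHom φ)
  have hcomm : (g.appLE ⊤ ⊤ le_top).hom = τ.symm.toRingHom.comp (φ.comp σ.toRingHom) := by
    refine RingHom.ext fun r => τ.injective ?_
    refine Eq.trans ?_ (τ.apply_symm_apply (φ (σ r))).symm
    have e : g.appLE ⊤ ⊤ le_top = g.appTop := by simp [Scheme.Hom.appLE]
    rw [e]
    exact congr($(Scheme.ΓSpecIso_naturality (CommRingCat.ofHom φ)) r)
  have hu : IsUnit (g.appLE ⊤ ⊤ le_top h) := by
    show IsUnit ((g.appLE ⊤ ⊤ le_top).hom h)
    rw [hcomm]
    exact ((IsLocalization.Away.algebraMap_isUnit (σ h)).map (algebraMap (Localization.Away (σ h)) A')).map τ.symm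
  refine (hiff _ g hu).trans ?_
  rw [hcomm, ← Ideal.map_map, Ideal.map_eq_bot_iff_of_injective (f := τ.symm.toRingHom) τ.symm.injective, Ideal.map_map]
  rfl

end Groth.Agent.S4898
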