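import Groth.Statements.S4900
import Mathlib
import Groth.Agent.RichLib.ModFlatLimit
-- import your own Groth.Agent.* helpers here

set_option autoImplicit false
universe u
open CategoryTheory AlgebraicGeometry
open EGA43 AlgebraicGeometry CategoryTheory Limits

namespace Groth.Agent.S4900

/-- Let S be the limit of a cofiltered system (S_i) of schemes with affine transition morphisms, S_{i₀}
a quasi-compact stage, f₀ : X₀ ⟶ Y₀ an S_{i₀}-morphism between schemes of finite presentation over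
S_{i₀}, F₀ a quasi-coherent O_{X₀}-module of finite presentation, f : X ⟶ Y and F the base changes
to S, and x a point of X. Then F is f-flat at x if and only if there are an index i over i₀ and base
changes f_i : X_i ⟶ Y_i, F_i of f₀, F₀ to S_i (pullback squares, with the induced compatible
morphisms X ⟶ X_i, Y ⟶ Y_i) such that F_i is f_i-flat at the image x_i of x in X_i. -/
theorem result {I : Type u} [SmallCategory I] [IsCofiltered I]
    (D : I ⥤ Scheme.{u}) (c : Limits.Cone D) (hc : Limits.IsLimit c)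
    [∀ (i j : I) (φ : i ⟶ j), IsAffineHom (D.map φ)] (i₀ : I) [CompactSpace (D.obj i₀)]
    {X₀ Y₀ : Scheme.{u}} (f₀ : X₀ ⟶ Y₀) (g₀ : Y₀ ⟶ D.obj i₀)
    [LocallyOfFinitePresentation g₀] [QuasiCompact g₀] [QuasiSeparated g₀]
    [LocallyOfFinitePresentation (f₀ ≫ g₀)] [QuasiCompact (f₀ ≫ g₀)] [QuasiSeparated (f₀ ≫ g₀)]
    (F₀ : X₀.Modules) [Coh.IsQCoh F₀] (hF₀ : CohB1.IsFP F₀)
    {X Y : Scheme.{u}} (f : X ⟶ Y) (g : Y ⟶ c.pt) (qY : Y ⟶ Y₀) (qX : X ⟶ X₀)
    (hY : IsPullback qY g g₀ (c.π.app i₀)) (hX : IsPullback qX f f₀ qY) (x : X) :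
    FlatMod.IsFlatOverAt f ((Scheme.Modules.pullback qX).obj F₀) x ↔
      ∃ (i : I) (φ : i ⟶ i₀) (Xi Yi : Scheme.{u}) (fi : Xi ⟶ Yi) (gi : Yi ⟶ D.obj i)
        (pY : Yi ⟶ Y₀) (pX : Xi ⟶ X₀) (vY : Y ⟶ Yi) (vX : X ⟶ Xi),
        IsPullback pY gi g₀ (D.map φ) ∧ IsPullback pX fi f₀ pY ∧
          vY ≫ pY = qY ∧ vY ≫ gi = g ≫ c.π.app i ∧ vX ≫ pX = qX ∧ vX ≫ fi = f ≫ vY ∧
          FlatMod.IsFlatOverAt fi ((Scheme.Modules.pullback pX).obj F₀) (vX x) := by
  haveI : LocallyOfFinitePresentation f₀ := Groth.Agent.S12442.result f₀ g₀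
  let B := RichLib.LimBC.pb (RichLib.LimBC.ofStage D c hc i₀) g₀
  obtain ⟨eY, eX, hYf, hYs, hXf, hXs⟩ := RichLib.ModFlat.exists_iso_canonical f₀ g₀ hY hX
  refine (RichLib.ModFlat.isFlatOverAt_canonical eY eX hXf hXs F₀ x).trans
    ((RichLib.ModFlat.isFlatOverAt_iff_exists_stage B f₀ F₀ hF₀ (eX.hom x)).trans ?_)
  constructor
  · rintro ⟨φ, hφ⟩
    refine ⟨φ.left, φ.hom, pullback f₀ (B.t φ), pullback g₀ (D.map φ.hom), pullback.snd _ _, pullback.snd _ _,
      pullback.fst g₀ (D.map φ.hom), pullback.fst f₀ (B.t φ), eY.hom ≫ B.c.π.app φ,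
      eX.hom ≫ RichLib.LimBC.pbπ B f₀ φ, IsPullback.of_hasPullback _ _, IsPullback.of_hasPullback _ _,
      ?_, ?_, ?_, ?_, ?_⟩
    · exact (Category.assoc _ _ _).trans ((congrArg (eY.hom ≫ ·) (RichLib.LimBC.pbπ_fst _ g₀ φ)).trans hYf)
    · exact (Category.assoc _ _ _).trans (((congrArg (eY.hom ≫ ·) (RichLib.LimBC.pbπ_snd _ g₀ φ)).trans
        (Category.assoc _ _ _).symm).trans (congrArg (· ≫ c.π.app φ.left) hYs))
    · exact (Category.assoc _ _ _).trans ((congrArg (eX.hom ≫ ·) (RichLib.LimBC.pbπ_fst B f₀ φ)).trans hXf)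
    · exact (Category.assoc _ _ _).trans (((congrArg (eX.hom ≫ ·) (RichLib.LimBC.pbπ_snd B f₀ φ)).trans
        (Category.assoc _ _ _).symm).trans ((congrArg (· ≫ B.c.π.app φ) hXs).trans (Category.assoc _ _ _)))
    · exact hφ
  · rintro ⟨i, φ, Xi, Yi, fi, gi, pY, pX, vY, vX, hYi, hXi, h1, h2, h3, h4, hflat⟩
    obtain ⟨dY, dX, hdYf, hdYs, hdXf, hdXs⟩ := RichLib.ModFlat.exists_iso_canonical f₀ g₀ hYi hXi
    refine ⟨CategoryTheory.Over.mk φ, ?_⟩
    rw [RichLib.ModFlat.isFlatOverAt_canonical dY dX hdXf hdXs F₀ (vX x)] at hflat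
    have eqY : eY.hom ≫ B.c.π.app (CategoryTheory.Over.mk φ) = vY ≫ dY.hom := by
      apply pullback.hom_ext
      · refine (Category.assoc _ _ _).trans (Eq.trans ?_ (Category.assoc _ _ _).symm)
        exact ((congrArg (eY.hom ≫ ·) (RichLib.LimBC.pbπ_fst _ g₀ _)).trans hYf).trans
          ((congrArg (vY ≫ ·) hdYf).trans h1).symm
      · refine (Category.assoc _ _ _).trans (Eq.trans ?_ (Category.assoc _ _ _).symm)
        exact (((congrArg (eY.hom ≫ ·) (RichLib.LimBC.pbπ_snd _ g₀ _)).trans (Category.assoc _ _ _).symm).trans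
          (congrArg (· ≫ c.π.app i) hYs)).trans ((congrArg (vY ≫ ·) hdYs).trans h2).symm
    have eqX : eX.hom ≫ RichLib.LimBC.pbπ B f₀ (CategoryTheory.Over.mk φ) = vX ≫ dX.hom := by
      apply pullback.hom_ext
      · refine (Category.assoc _ _ _).trans (Eq.trans ?_ (Category.assoc _ _ _).symm)
        exact ((congrArg (eX.hom ≫ ·) (RichLib.LimBC.pbπ_fst B f₀ _)).trans hXf).trans
          ((congrArg (vX ≫ ·) hdXf).trans h3).symm
      · refine (Category.assoc _ _ _).trans (Eq.trans ?_ (Category.assoc _ _ _).symm)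
        refine (congrArg (eX.hom ≫ ·) (RichLib.LimBC.pbπ_snd B f₀ _)).trans ?_
        refine ((Category.assoc _ _ _).symm.trans ((congrArg (· ≫ B.c.π.app _) hXs).trans
          ((Category.assoc _ _ _).trans (congrArg (f ≫ ·) eqY)))).trans ?_
        exact (((congrArg (vX ≫ ·) hdXs).trans ((Category.assoc _ _ _).symm.trans (congrArg (· ≫ dY.hom) h4))).trans (Category.assoc _ _ _)).symm
    have hp : (RichLib.LimBC.pbπ B f₀ (CategoryTheory.Over.mk φ)).base (eX.hom x) = dX.hom (vX x) :=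
      congrArg (fun (h : X ⟶ pullback f₀ (B.t (CategoryTheory.Over.mk φ))) => h x) eqX
    exact hp.symm ▸ hflat

end Groth.Agent.S4900
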