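import Groth.Statements.S4901
import Groth.Agent.RichLib.InjStage
import Groth.Agent.RichLib.ModFlatLimit
-- import your own Groth.Agent.* helpers here

set_option autoImplicit false
universe u
open CategoryTheory AlgebraicGeometry
open EGA43

namespace Groth.Agent.S4901

open CategoryTheory.Limits FlatLib RichLib.LimBC

theorem stalkInj_comp {P Q R : Scheme.{u}} (a : P ⟶ Q) (b : Q ⟶ R) {c : P ⟶ R} (h : a ≫ b = c)
    {F G : R.Modules} (w : F ⟶ G) (y : P) :
    StalkInj ((Scheme.Modules.pullback a).map ((Scheme.Modules.pullback b).map w)) y ↔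
      StalkInj ((Scheme.Modules.pullback c).map w) y := by
  subst h
  exact stalkInj_natIso (Scheme.Modules.pullbackComp a b) w y

/-- the two conditions at a point, stated for the pullback of a map on the base -/
def Good {X Y X₀ : Scheme.{u}} (f : X ⟶ Y) (q : X ⟶ X₀) {F G : X₀.Modules} (w : F ⟶ G) (x : X) : Prop :=
  StalkInj ((Scheme.Modules.pullback q).map w) x ∧
    FlatMod.IsFlatOverAt f ((Scheme.Modules.pullback q).obj (cokernel w)) x

theorem good_iff {X Y X₀ : Scheme.{u}} (f : X ⟶ Y) (q : X ⟶ X₀) {F G : X₀.Modules} (w : F ⟶ G) (x : X) :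
    (StalkInj ((Scheme.Modules.pullback q).map w) x ∧
      FlatMod.IsFlatOverAt f (cokernel ((Scheme.Modules.pullback q).map w)) x) ↔ Good f q w x :=
  and_congr_right fun _ =>
    RichLib.ModFlat.isFlatOverAt_iso f (PreservesCokernel.iso (Scheme.Modules.pullback q) w).symm x

theorem good_canonical {X₀ X Y P Q : Scheme.{u}} {f : X ⟶ Y} {qX : X ⟶ X₀} {f' : P ⟶ Q} {p : P ⟶ X₀}
    (eY : Y ≅ Q) (eX : X ≅ P) (h₁ : eX.hom ≫ p = qX) (h₂ : eX.hom ≫ f' = f ≫ eY.hom)
    {F G : X₀.Modules} (w : F ⟶ G) (x : X) : Good f qX w x ↔ Good f' p w (eX.hom x) :=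
  and_congr ((stalkInj_comp eX.hom p h₁ w x).symm.trans (stalkInj_pullback_openImmersion eX.hom _ x))
    (RichLib.ModFlat.isFlatOverAt_canonical eY eX h₁ h₂ (cokernel w) x)

set_option maxHeartbeats 1000000 in
theorem good_iff_exists_stage {I : Type u} [SmallCategory I] [IsCofiltered I] {Y : Scheme.{u}}
    (B : Sys I Y) {X : Scheme.{u}} (g : X ⟶ Y) [LocallyOfFinitePresentation g] {F G : X.Modules}
    [Coh.IsQCoh F] [Coh.IsQCoh G] (hF : CohB1.IsFP F) (hG : CohB1.IsFP G) (w : F ⟶ G)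
    (x : ↥(pullback g B.s)) :
    Good (pullback.snd g B.s) (pullback.fst g B.s) w x ↔
      ∃ i, Good (pullback.snd g (B.t i)) (pullback.fst g (B.t i)) w (pbπ B g i x) := by
  haveI : Coh.IsQCoh (cokernel w) := QCohLib.isQCoh_cokernel w
  have hM := RichLib.InjStage.isFP_cokernel hF hG w
  haveI : ∀ i, IsAffineHom (B.t i) := B.affine
  constructor
  · rintro ⟨hinj, hflat⟩
    obtain ⟨i, hi⟩ := (RichLib.ModFlat.isFlatOverAt_iff_exists_stage B g _ hM x).mp hflat
    let wi := (Scheme.Modules.pullback (pullback.fst g (B.t i))).map w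
    haveI := KFlatLib.isQCoh_pullback (pullback.fst g (B.t i)) F
    haveI := KFlatLib.isQCoh_pullback (pullback.fst g (B.t i)) G
    have hi' : FlatMod.IsFlatOverAt (pullback.snd g (B.t i)) (cokernel wi) (pbπ B g i x) :=
      (RichLib.ModFlat.isFlatOverAt_iso _ (PreservesCokernel.iso _ w).symm _).mpr hi
    obtain ⟨j, a, hj⟩ := RichLib.InjStage.exists_stalkInj_stage B g i (RichLib.ModFlat.isFP_pullback _ hF)
      (RichLib.ModFlat.isFP_pullback _ hG) wi x hi' ((stalkInj_comp _ _ (pbπ_fst B g i) w x).mpr hinj)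
    refine ⟨j, (stalkInj_comp _ _ (pbMap_fst B g a) w _).mp hj, ?_⟩
    refine RichLib.ModFlat.isFlatOverAt_baseChange g (cokernel w) hM (B.t i) (B.D.map a) (B.t j) (B.w a)
      (pbMap B g a) (pbMap_fst B g a) (pbMap_snd B g a) (pbπ B g j x) ?_
    rw [← Scheme.Hom.comp_apply, pbπ_map]
    exact hi
  · rintro ⟨i, hinj, hflat⟩
    refine ⟨?_, (RichLib.ModFlat.isFlatOverAt_iff_exists_stage B g _ hM x).mpr ⟨i, hflat⟩⟩
    let wi := (Scheme.Modules.pullback (pullback.fst g (B.t i))).map w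
    haveI := KFlatLib.isQCoh_pullback (pullback.fst g (B.t i)) F
    haveI := KFlatLib.isQCoh_pullback (pullback.fst g (B.t i)) G
    haveI : ∀ {a b : I} (φ : a ⟶ b), IsAffineHom (B.D.map φ) := fun φ => B.affine_map φ
    haveI : IsAffineHom (B.c.π.app i) := isAffineHom_π_app B.D B.c B.hc i
    refine (stalkInj_comp _ _ (pbπ_fst B g i) w x).mp ?_
    exact RichLib.InjStage.stalkInj_pullback_of_flat_coker wi (isPullback_cone B g i)
      (RichLib.ModFlat.isFP_pullback _ hF) (RichLib.ModFlat.isFP_pullback _ hG) x hinj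
      ((RichLib.ModFlat.isFlatOverAt_iso _ (PreservesCokernel.iso _ w).symm _).mpr hflat)

open CategoryTheory.Limits in
/-- Let S be the limit of a cofiltered system (S_i) of schemes with affine transition morphisms, i₀ an
index, f₀ : X₀ ⟶ Y₀ a morphism locally of finite presentation of S_{i₀}-schemes, F₀ and G₀
quasi-coherent O_{X₀}-modules of finite presentation and h₀ : F₀ ⟶ G₀ a homomorphism; let f : X ⟶ Y
and h = q^*h₀ be the base changes to S and x a point of X. Then the stalk map h_x is injective and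
Coker h is f-flat at x if and only if there are an index i over i₀ and base changes f_i : X_i ⟶ Y_i,
h_i = p^*h₀ to S_i (pullback squares with the compatible morphisms X ⟶ X_i, Y ⟶ Y_i) such that
(h_i)_{x_i} is injective and Coker h_i is f_i-flat at the image x_i of x. -/
theorem result {I : Type u} [SmallCategory I] [IsCofiltered I]
    (D : I ⥤ Scheme.{u}) (c : Limits.Cone D) (hc : Limits.IsLimit c)
    [∀ (i j : I) (φ : i ⟶ j), IsAffineHom (D.map φ)] (i₀ : I)
    {X₀ Y₀ : Scheme.{u}} (f₀ : X₀ ⟶ Y₀) (g₀ : Y₀ ⟶ D.obj i₀) [LocallyOfFinitePresentation f₀]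
    (F₀ G₀ : X₀.Modules) [Coh.IsQCoh F₀] [Coh.IsQCoh G₀] (hF₀ : CohB1.IsFP F₀) (hG₀ : CohB1.IsFP G₀)
    (h₀ : F₀ ⟶ G₀)
    {X Y : Scheme.{u}} (f : X ⟶ Y) (g : Y ⟶ c.pt) (qY : Y ⟶ Y₀) (qX : X ⟶ X₀)
    (hY : IsPullback qY g g₀ (c.π.app i₀)) (hX : IsPullback qX f f₀ qY) (x : X) :
    (Function.Injective ((TopCat.Presheaf.stalkFunctor Ab x).map
        (Scheme.Modules.Hom.mapPresheaf ((Scheme.Modules.pullback qX).map h₀))) ∧
      FlatMod.IsFlatOverAt f (cokernel ((Scheme.Modules.pullback qX).map h₀)) x) ↔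
      ∃ (i : I) (φ : i ⟶ i₀) (Xi Yi : Scheme.{u}) (fi : Xi ⟶ Yi) (gi : Yi ⟶ D.obj i)
        (pY : Yi ⟶ Y₀) (pX : Xi ⟶ X₀) (vY : Y ⟶ Yi) (vX : X ⟶ Xi),
        IsPullback pY gi g₀ (D.map φ) ∧ IsPullback pX fi f₀ pY ∧
          vY ≫ pY = qY ∧ vY ≫ gi = g ≫ c.π.app i ∧ vX ≫ pX = qX ∧ vX ≫ fi = f ≫ vY ∧
          Function.Injective ((TopCat.Presheaf.stalkFunctor Ab (vX x)).map
            (Scheme.Modules.Hom.mapPresheaf ((Scheme.Modules.pullback pX).map h₀))) ∧
          FlatMod.IsFlatOverAt fi (cokernel ((Scheme.Modules.pullback pX).map h₀)) (vX x) := by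
  refine (good_iff f qX h₀ x).trans ?_
  let B := pb (ofStage D c hc i₀) g₀
  obtain ⟨eY, eX, hYf, hYs, hXf, hXs⟩ := RichLib.ModFlat.exists_iso_canonical f₀ g₀ hY hX
  refine (good_canonical eY eX hXf hXs h₀ x).trans
    ((good_iff_exists_stage B f₀ hF₀ hG₀ h₀ (eX.hom x)).trans ?_)
  constructor
  · rintro ⟨φ, hφ⟩
    refine ⟨φ.left, φ.hom, pullback f₀ (B.t φ), pullback g₀ (D.map φ.hom), pullback.snd _ _, pullback.snd _ _,
      pullback.fst g₀ (D.map φ.hom), pullback.fst f₀ (B.t φ), eY.hom ≫ B.c.π.app φ,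
      eX.hom ≫ pbπ B f₀ φ, IsPullback.of_hasPullback _ _, IsPullback.of_hasPullback _ _,
      ?_, ?_, ?_, ?_, (good_iff _ _ _ _).mpr hφ⟩
    · exact (Category.assoc _ _ _).trans ((congrArg (eY.hom ≫ ·) (pbπ_fst _ g₀ φ)).trans hYf)
    · exact (Category.assoc _ _ _).trans (((congrArg (eY.hom ≫ ·) (pbπ_snd _ g₀ φ)).trans
        (Category.assoc _ _ _).symm).trans (congrArg (· ≫ c.π.app φ.left) hYs))
    · exact (Category.assoc _ _ _).trans ((congrArg (eX.hom ≫ ·) (pbπ_fst B f₀ φ)).trans hXf)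
    · exact (Category.assoc _ _ _).trans (((congrArg (eX.hom ≫ ·) (pbπ_snd B f₀ φ)).trans
        (Category.assoc _ _ _).symm).trans ((congrArg (· ≫ B.c.π.app φ) hXs).trans (Category.assoc _ _ _)))
  · rintro ⟨i, φ, Xi, Yi, fi, gi, pY, pX, vY, vX, hYi, hXi, h1, h2, h3, h4, hgood⟩
    obtain ⟨dY, dX, hdYf, hdYs, hdXf, hdXs⟩ := RichLib.ModFlat.exists_iso_canonical f₀ g₀ hYi hXi
    refine ⟨CategoryTheory.Over.mk φ, ?_⟩
    have hgood' := (good_canonical dY dX hdXf hdXs h₀ (vX x)).mp ((good_iff _ _ _ _).mp hgood)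
    have eqY : eY.hom ≫ B.c.π.app (CategoryTheory.Over.mk φ) = vY ≫ dY.hom := by
      apply pullback.hom_ext
      · refine (Category.assoc _ _ _).trans (Eq.trans ?_ (Category.assoc _ _ _).symm)
        exact ((congrArg (eY.hom ≫ ·) (pbπ_fst _ g₀ _)).trans hYf).trans
          ((congrArg (vY ≫ ·) hdYf).trans h1).symm
      · refine (Category.assoc _ _ _).trans (Eq.trans ?_ (Category.assoc _ _ _).symm)
        exact (((congrArg (eY.hom ≫ ·) (pbπ_snd _ g₀ _)).trans (Category.assoc _ _ _).symm).trans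
          (congrArg (· ≫ c.π.app i) hYs)).trans ((congrArg (vY ≫ ·) hdYs).trans h2).symm
    have eqX : eX.hom ≫ pbπ B f₀ (CategoryTheory.Over.mk φ) = vX ≫ dX.hom := by
      apply pullback.hom_ext
      · refine (Category.assoc _ _ _).trans (Eq.trans ?_ (Category.assoc _ _ _).symm)
        exact ((congrArg (eX.hom ≫ ·) (pbπ_fst B f₀ _)).trans hXf).trans
          ((congrArg (vX ≫ ·) hdXf).trans h3).symm
      · refine (Category.assoc _ _ _).trans (Eq.trans ?_ (Category.assoc _ _ _).symm)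
        refine (congrArg (eX.hom ≫ ·) (pbπ_snd B f₀ _)).trans ?_
        refine ((Category.assoc _ _ _).symm.trans ((congrArg (· ≫ B.c.π.app _) hXs).trans
          ((Category.assoc _ _ _).trans (congrArg (f ≫ ·) eqY)))).trans ?_
        exact (((congrArg (vX ≫ ·) hdXs).trans ((Category.assoc _ _ _).symm.trans (congrArg (· ≫ dY.hom) h4))).trans (Category.assoc _ _ _)).symm
    have hp : (pbπ B f₀ (CategoryTheory.Over.mk φ)).base (eX.hom x) = dX.hom (vX x) :=
      congrArg (fun (h : X ⟶ pullback f₀ (B.t (CategoryTheory.Over.mk φ))) => h x) eqX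
    exact hp.symm ▸ hgood'

end Groth.Agent.S4901
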