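import Groth.Statements.S4903
import Groth.Agent.QuasiHomLib.Basic
-- import your own Groth.Agent.* helpers here

set_option autoImplicit false
universe u
open EGA43

namespace Groth.Agent.S4903

/-- Conditions a), b), b′), c″), c‴) and its last assertion: given a topological space X and a subset X₀
⊆ X, the statements below are equivalent. Every locally closed subset of X that is nonempty
intersects X₀. Every nonempty locally quasi-constructible subset of X intersects X₀; here a subset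
is locally quasi-constructible when each point of X has an open neighbourhood on which the subset's
trace can be written as a union of finitely many locally closed sets. Each locally
quasi-constructible Z ⊆ X is contained in the closure of Z ∩ X₀. Any two quasi-constructible subsets
of X (unions of finitely many locally closed sets) having equal traces on X₀ coincide. Any two
locally quasi-constructible subsets of X having equal traces on X₀ coincide. Assuming these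
conditions, each locally quasi-constructible subset of the subspace X₀ arises as the trace on X₀ of
some locally quasi-constructible subset of X. -/
theorem result {X : Type u} [TopologicalSpace X] (X₀ : Set X) :
    [∀ Z : Set X, IsLocallyClosed Z → Z.Nonempty → (Z ∩ X₀).Nonempty,
      ∀ Z : Set X, (∀ x : X, ∃ U : Set X, IsOpen U ∧ x ∈ U ∧ ∃ T : Set (Set X), T.Finite ∧ (∀ t ∈ T, IsLocallyClosed t) ∧ U ∩ Z = ⋃₀ T) → Z.Nonempty → (Z ∩ X₀).Nonempty,
      ∀ Z : Set X, (∀ x : X, ∃ U : Set X, IsOpen U ∧ x ∈ U ∧ ∃ T : Set (Set X), T.Finite ∧ (∀ t ∈ T, IsLocallyClosed t) ∧ U ∩ Z = ⋃₀ T) → Z ⊆ closure (Z ∩ X₀),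
      ∀ Z Z' : Set X, (∃ T : Set (Set X), T.Finite ∧ (∀ t ∈ T, IsLocallyClosed t) ∧ Z = ⋃₀ T) → (∃ T : Set (Set X), T.Finite ∧ (∀ t ∈ T, IsLocallyClosed t) ∧ Z' = ⋃₀ T) → Z ∩ X₀ = Z' ∩ X₀ → Z = Z',
      ∀ Z Z' : Set X, (∀ x : X, ∃ U : Set X, IsOpen U ∧ x ∈ U ∧ ∃ T : Set (Set X), T.Finite ∧ (∀ t ∈ T, IsLocallyClosed t) ∧ U ∩ Z = ⋃₀ T) → (∀ x : X, ∃ U : Set X, IsOpen U ∧ x ∈ U ∧ ∃ T : Set (Set X), T.Finite ∧ (∀ t ∈ T, IsLocallyClosed t) ∧ U ∩ Z' = ⋃₀ T) → Z ∩ X₀ = Z' ∩ X₀ → Z = Z'].TFAE ∧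
    ((∀ Z : Set X, IsLocallyClosed Z → Z.Nonempty → (Z ∩ X₀).Nonempty) →
      ∀ Z₀ : Set ↥X₀, (∀ x : ↥X₀, ∃ U : Set ↥X₀, IsOpen U ∧ x ∈ U ∧ ∃ T : Set (Set ↥X₀), T.Finite ∧ (∀ t ∈ T, IsLocallyClosed t) ∧ U ∩ Z₀ = ⋃₀ T) →
        ∃ Z : Set X, (∀ x : X, ∃ U : Set X, IsOpen U ∧ x ∈ U ∧ ∃ T : Set (Set X), T.Finite ∧ (∀ t ∈ T, IsLocallyClosed t) ∧ U ∩ Z = ⋃₀ T) ∧ Subtype.val ⁻¹' Z = Z₀) := by
  refine ⟨?_, fun h Z₀ hZ₀ => (QuasiHomLib.qh_subtypeVal h).exists_lqc hZ₀⟩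
  tfae_have 1 → 2 := fun h Z hZ hne => QuasiHomLib.VeryDense.lqc h hZ hne
  tfae_have 2 → 3 := fun h Z hZ z hz => by
    rw [mem_closure_iff]
    intro O hO hzO
    obtain ⟨w, ⟨hwO, hwZ⟩, hw₀⟩ := h (O ∩ Z)
      (QuasiHomLib.lqc_inter (QuasiHomLib.lqc_of_qc (QuasiHomLib.qc_of_isOpen hO)) hZ) ⟨z, hzO, hz⟩
    exact ⟨w, hwO, hwZ, hw₀⟩
  tfae_have 3 → 1 := fun h Z hZ hne => by
    by_contra hn
    obtain ⟨z, hz⟩ := hne
    have := h Z (QuasiHomLib.lqc_of_qc (QuasiHomLib.qc_of_isLocallyClosed hZ)) hz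
    rw [Set.not_nonempty_iff_eq_empty.1 hn, closure_empty] at this
    exact this
  tfae_have 1 → 5 := fun h Z Z' hZ hZ' e => QuasiHomLib.VeryDense.eq_of_inter_eq h hZ hZ' e
  tfae_have 5 → 4 := fun h Z Z' hZ hZ' e => h Z Z' (QuasiHomLib.lqc_of_qc hZ) (QuasiHomLib.lqc_of_qc hZ') e
  tfae_have 4 → 1 := fun h Z hZ hne => by
    by_contra hn
    refine hne.ne_empty (h Z ∅ (QuasiHomLib.qc_of_isLocallyClosed hZ) (QuasiHomLib.qc_of_isOpen isOpen_empty) ?_)
    rw [Set.not_nonempty_iff_eq_empty.1 hn, Set.empty_inter]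
  tfae_finish


end Groth.Agent.S4903
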