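import Groth.Statements.S4914


set_option autoImplicit false
open CategoryTheory AlgebraicGeometry
universe u v w
open EGA43

namespace Groth.Agent.S4914

/-- Let ψ : X → Y be a continuous map, x a point of X, and (Y_i) a locally finite covering of Y by
closed subsets. If for every index i with ψ x ∈ Y_i the restriction ψ⁻¹(Y_i) → Y_i of ψ is open at
x, then ψ is open at x. -/
theorem result {α : Type u} {β : Type v} {ι : Type w} [TopologicalSpace α]
    [TopologicalSpace β] (ψ : α → β) (hψ : Continuous ψ) (x : α) (Y : ι → Set β) (hY : LocallyFinite Y)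
    (hcl : ∀ i, IsClosed (Y i)) (hcov : ⋃ i, Y i = Set.univ)
    (h : ∀ i, ∀ hi : ψ x ∈ Y i, EGA43.IsOpenAt ((Y i).restrictPreimage ψ) ⟨x, hi⟩) :
    EGA43.IsOpenAt ψ x := by
  intro N hN
  have hfin : {i | ψ x ∈ Y i}.Finite := hY.point_finite _
  have h0 : (⋂ i, ⋂ (_ : ψ x ∉ Y i), (Y i)ᶜ) ∈ nhds (ψ x) := hY.iInter_compl_mem_nhds hcl (ψ x)
  have h1 : (⋂ i ∈ {i | ψ x ∈ Y i}, (ψ '' N ∪ (Y i)ᶜ)) ∈ nhds (ψ x) := by
    rw [Filter.biInter_mem hfin]
    intro i hi
    have := h i hi (Subtype.val ⁻¹' N) (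
      (continuous_subtype_val.continuousAt.preimage_mem_nhds hN))
    rw [nhds_subtype_eq_comap, Filter.mem_comap] at this
    obtain ⟨t, ht, hts⟩ := this
    refine Filter.mem_of_superset ht fun y hy => ?_
    by_cases hyY : y ∈ Y i
    · obtain ⟨z, hz, hzy⟩ := hts (show (⟨y, hyY⟩ : ↥(Y i)) ∈ Subtype.val ⁻¹' t from hy)
      exact Or.inl ⟨z.1, hz, congrArg Subtype.val hzy⟩
    · exact Or.inr hyY
  refine Filter.mem_of_superset (Filter.inter_mem h0 h1) fun y ⟨hy0, hy1⟩ => ?_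
  obtain ⟨i, hi⟩ := Set.mem_iUnion.mp (hcov.symm ▸ Set.mem_univ y : y ∈ ⋃ i, Y i)
  by_cases hxi : ψ x ∈ Y i
  · rcases Set.mem_iInter₂.mp hy1 i hxi with h2 | h2
    · exact h2
    · exact absurd hi h2
  · exact absurd hi (Set.mem_iInter₂.mp hy0 i hxi)

end Groth.Agent.S4914
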