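import Groth.Statements.S4916


set_option autoImplicit false
open CategoryTheory AlgebraicGeometry
universe u v w
open EGA43

namespace Groth.Agent.S4916

/-- Let ψ : X → Y be a continuous map of topological spaces and y a point of Y. The set of points x of
the fibre ψ⁻¹(y) at which ψ is open is a closed subset of ψ⁻¹(y). -/
theorem result {α : Type u} {β : Type v} [TopologicalSpace α] [TopologicalSpace β]
    (ψ : α → β) (hψ : Continuous ψ) (y : β) :
    IsClosed {x : ↥(ψ ⁻¹' {y}) | EGA43.IsOpenAt ψ x.1} := by
  rw [← isOpen_compl_iff, isOpen_iff_mem_nhds]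
  intro x hx
  simp only [Set.mem_compl_iff, Set.mem_ofPred_eq, EGA43.IsOpenAt, not_forall] at hx
  obtain ⟨N, hN, hN'⟩ := hx
  refine Filter.mem_of_superset (continuous_subtype_val.continuousAt.preimage_mem_nhds
    (interior_mem_nhds.mpr hN)) fun x' hx' hopen => hN' ?_
  have h1 := hopen N (mem_interior_iff_mem_nhds.mp hx')
  have h2 : ψ x.1 = ψ x'.1 := by
    have ha : ψ x.1 = y := x.2
    have hb : ψ x'.1 = y := x'.2
    rw [ha, hb]
  rwa [h2]

end Groth.Agent.S4916
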