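import Groth.Statements.S4917
import Mathlib
import Groth.Agent.EquidimLib.Points
import Groth.Agent.UOpenLib.UnibranchTFAE

set_option autoImplicit false
open CategoryTheory AlgebraicGeometry
universe u v w
open EGA43

namespace Groth.Agent.S4917

/-- Assume Y is a locally Noetherian scheme and X is an irreducible scheme, and consider a dominant
morphism f : X ⟶ Y that is locally of finite type. Fix a point x of X and write y = f x. If, for
every irreducible component of the fibre X_y that contains x, the morphism f is open at the generic
point of that component, then f is equidimensional at x. -/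
theorem result {X Y : Scheme.{u}} [IsLocallyNoetherian Y]
    [IrreducibleSpace X] (f : X ⟶ Y) [LocallyOfFiniteType f] [IsDominant f] (x : X)
    (h : ∀ z : ↥(f.fiber (f.base x)), f.asFiber x ∈ closure {z} →
      (∀ z' : ↥(f.fiber (f.base x)), z ∈ closure {z'} → z' = z) →
      EGA43.IsOpenAt f.base ((f.fiberι (f.base x)).base z)) :
    EGA43.IsEquidimAt f x := by
  obtain ⟨e, hd⟩ := UOpenLib.exists_fibreDimAt_eq_nat f x
  have : IsLocallyNoetherian X := LocallyOfFiniteType.isLocallyNoetherian f
  let ξ := genericPoint X
  have hη : closure {f.base ξ} = Set.univ := by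
    rw [← Set.image_singleton, ← closure_image_closure f.continuous, genericPoint_closure, Set.image_univ]
    exact (IsDominant.denseRange (f := f)).closure_range
  have hirr : IrreducibleSpace Y :=
    { isPreirreducible_univ := hη ▸ isIrreducible_singleton.closure.isPreirreducible
      toNonempty := ⟨f.base x⟩ }
  have hgen : f.base ξ = genericPoint Y := by
    refine UOpenLib.eq_genericPoint_of_specializes ?_
    exact specializes_iff_mem_closure.mpr (hη ▸ Set.mem_univ _)
  obtain ⟨z, hz, hzx, hzmax, hzd⟩ := UOpenLib.exists_max_fibreDimAt f x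
  -- transfer to the fibre of `x`
  let w : ↥(f.fiber (f.base x)) := (f.fiberHomeo (f.base x)).symm ⟨z, hz⟩
  have hw : (f.fiberι (f.base x)).base w = z := f.fiberι_fiberHomeo_symm _ _
  have hopen : EGA43.IsOpenAt f.base z := by
    refine hw ▸ h w ?_ fun w' hw' ↦ ?_
    · refine ((f.fiberι (f.base x)).isEmbedding.isInducing.specializes_iff.mp ?_).mem_closure
      rw [hw, f.fiberι_asFiber]
      exact hzx
    · refine (f.fiberι (f.base x)).isEmbedding.injective ((hzmax _ ?_ ?_).trans hw.symm)
      · rw [hz]
        have h1 := Set.mem_range_self (f := (f.fiberι (f.base x)).base) w'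
        rw [f.range_fiberι] at h1
        exact h1
      · have := (specializes_iff_mem_closure.mpr hw').map (f.fiberι (f.base x)).continuous
        rw [hw] at this
        exact this.mem_closure
  have hlift := (Groth.Agent.S3404.result f z).1 hopen
  obtain ⟨ζ, -, hgζ, hdim⟩ := UOpenLib.exists_generization_of_lift f hzmax (y₁ := genericPoint Y)
    (genericPoint_specializes _) fun y' _ hy' ↦ hlift y' hy'
  rw [UOpenLib.fibreDimAt_eq_of_max f hzmax, hzd, hd] at hdim
  obtain ⟨U, hxU, hUle⟩ := EquidimLib.exists_nhd_fibreClosureDim_le f x hd
  refine EquidimLib.isEquidimAt_of_bounds f x e U hxU hUle fun ζ' hζ'U hζ' ↦ ?_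
  obtain rfl : ζ' = ξ := (FibDimLib.eq_of_specializes_of_closure_mem hζ' (genericPoint_specializes ζ')).symm
  refine ⟨?_, hdim.trans (UOpenLib.fibreClosureDim_mono f (genericPoint_specializes ζ) (hgen.trans hgζ.symm))⟩
  rw [hη, irreducibleComponents_eq_singleton]
  rfl

end Groth.Agent.S4917
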