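import Groth.Statements.S4919
import Groth.Agent.EquidimLib.OpenComponent
-- import your own Groth.Agent.* helpers here

set_option autoImplicit false
open CategoryTheory AlgebraicGeometry
universe u v w
open EGA43

namespace Groth.Agent.S4919

/-- Let Y be an irreducible locally Noetherian scheme with generic point η, f : X ⟶ Y a morphism locally
of finite type, y a point of Y and Z an irreducible component of the fibre f⁻¹(y) (a maximal
irreducible subset of f⁻¹(y), with the topology induced from X) such that f is open at the generic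
point ζ of Z. Then there is an irreducible component X' of X containing Z and dominating Y such that
the local dimension of X' ∩ f⁻¹(y) at ζ equals dim Z, and dim Z = dim (X' ∩ f⁻¹(η)). (The published
statement writes the middle term as the dimension of the whole of X' ∩ f⁻¹(y); its proof yields only
the local dimension at the generic point of Z, and the global equality can fail: for the
endomorphism (a, b) ↦ (ab, b² − b) of the affine plane over a field, the fibre over the origin is
the line b = 0 together with the isolated point (0, 1), at which the map is étale, hence open; with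
Z that point, X' is the whole plane, X' ∩ f⁻¹(y) has dimension 1 and dim Z = 0. So the local form is
stated here.) -/
theorem result {X Y : Scheme.{u}} [IrreducibleSpace Y]
    [IsLocallyNoetherian Y] (f : X ⟶ Y) [LocallyOfFiniteType f] (y : Y) (Z : Set X)
    (hZy : Z ⊆ f.base ⁻¹' {y}) (hZ : IsIrreducible Z)
    (hZmax : ∀ Z' : Set X, IsIrreducible Z' → Z' ⊆ f.base ⁻¹' {y} → Z ⊆ Z' → Z' = Z)
    (hopen : ∀ ζ ∈ Z, Z ⊆ closure {ζ} → EGA43.IsOpenAt f.base ζ) :
    ∃ X' ∈ irreducibleComponents (X : Type u), Z ⊆ X' ∧ Dense (f.base '' X') ∧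
      (∀ ζ ∈ Z, Z ⊆ closure {ζ} → ∀ hζ : ζ ∈ X' ∩ f.base ⁻¹' {y},
        FlatMor.localDim ↥(X' ∩ f.base ⁻¹' {y}) ⟨ζ, hζ⟩ = topologicalKrullDim ↥Z) ∧
      topologicalKrullDim ↥Z = topologicalKrullDim ↥(X' ∩ f.base ⁻¹' {genericPoint Y}) := by
  obtain ⟨z, hzZ, hzy, hmax, hZeq⟩ := EquidimLib.exists_generic_of_fibre_component f hZy hZ hZmax
  subst hzy
  have hle : Z ⊆ closure {z} := fun w hw => (hZeq.subset hw).1
  have hdimZ : topologicalKrullDim ↥Z = UOpenLib.fibreClosureDim f z := by
    rw [UOpenLib.fibreClosureDim_eq_inter, hZeq]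
  obtain ⟨ξ, hξ, hξz, hη, hd⟩ := EquidimLib.exists_component_of_open f hmax (hopen z hzZ hle)
  refine ⟨closure {ξ}, hξ, fun w hw => (hξz.trans (specializes_iff_mem_closure.mpr (hle hw))).mem_closure, ?_, ?_, ?_⟩
  · refine Dense.mono (Set.singleton_subset_iff.mpr ⟨ξ, subset_closure rfl, hη⟩) ?_
    exact dense_iff_closure_eq.mpr (genericPoint_closure (α := Y))
  · intro ζ hζZ hζ hζ'
    obtain rfl : ζ = z := ((specializes_iff_mem_closure.mpr (hζ hzZ)).antisymm
      (specializes_iff_mem_closure.mpr (hle hζZ))).eq
    exact (EquidimLib.localDim_inter_of_max f hmax isClosed_closure hζ'.1).trans hdimZ.symm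
  · rw [hdimZ, ← hd, UOpenLib.fibreClosureDim_eq_inter, hη]

end Groth.Agent.S4919
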