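import Groth.Statements.S4920
import Groth.Agent.EquidimLib.OpenComponent
-- import your own Groth.Agent.* helpers here

set_option autoImplicit false
open CategoryTheory AlgebraicGeometry
universe u v w
open EGA43

namespace Groth.Agent.S4920

/-- Let Y be an irreducible locally Noetherian scheme with generic point η, f : X ⟶ Y a morphism locally
of finite type and y a point of Y such that f is open at every point of the fibre over y. For z in Y
write E(z) for the set of dimensions of the irreducible components of the fibre X_z. Then E(y) ⊆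
E(η), and consequently dim X_y ≤ dim X_η. -/
theorem result {X Y : Scheme.{u}} [IrreducibleSpace Y] [IsLocallyNoetherian Y]
    (f : X ⟶ Y) [LocallyOfFiniteType f] (y : Y) (h : ∀ x : X, f.base x = y → EGA43.IsOpenAt f.base x) :
    letI E : Y → Set (WithBot ℕ∞) := fun z =>
      (fun Z : Set ↥(f.fiber z) => topologicalKrullDim ↥Z) '' irreducibleComponents ↥(f.fiber z)
    E y ⊆ E (genericPoint Y) ∧
      topologicalKrullDim ↥(f.fiber y) ≤ topologicalKrullDim ↥(f.fiber (genericPoint Y)) := by
  have key : ∀ W ∈ irreducibleComponents ↥(f.fiber y), ∃ W' ∈ irreducibleComponents ↥(f.fiber (genericPoint Y)),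
      topologicalKrullDim ↥W' = topologicalKrullDim ↥W := by
    intro W hW
    obtain ⟨w, hw⟩ := QuasiSober.sober hW.1 (isClosed_of_mem_irreducibleComponents _ hW)
    obtain rfl : W = closure {w} := hw.def.symm
    let z := (f.fiberι y).base w
    have hzy : f.base z = y := by
      have h := Set.mem_range_self (f := (f.fiberι y).base) w
      rw [f.range_fiberι] at h
      exact h
    obtain ⟨ξ, hξ, -, hη, hd⟩ := EquidimLib.exists_component_of_open f (z := z)
      (UOpenLib.max_of_closure_mem f hW) (h z hzy)
    rw [UOpenLib.fibreClosureDim_fiberι] at hd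
    rw [← hη]
    exact ⟨_, UOpenLib.closure_asFiber_mem f (EquidimLib.isFibreMax_of_max f hξ), hd⟩
  refine ⟨?_, EquidimLib.topologicalKrullDim_le_of_components fun W hW => ?_⟩
  · rintro _ ⟨W, hW, rfl⟩
    obtain ⟨W', hW', e⟩ := key W hW
    exact ⟨W', hW', e⟩
  · obtain ⟨W', -, e⟩ := key W hW
    rw [← e]
    exact topologicalKrullDim_subspace_le _ W'

end Groth.Agent.S4920
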