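import Groth.Statements.S4921
import Groth.Agent.EquidimLib.OpenComponent
import Groth.Agent.FibDimLib.Semicont
-- import your own Groth.Agent.* helpers here

set_option autoImplicit false
open CategoryTheory AlgebraicGeometry
universe u v w
open EGA43

namespace Groth.Agent.S4921

/-- Let Y be a locally Noetherian scheme, f : X ⟶ Y a proper morphism and y a point of Y such that f is
open at every point of the fibre over y. Then the function z ↦ dim X_z is constant on a
neighbourhood of y. -/
theorem result {X Y : Scheme.{u}} [IsLocallyNoetherian Y] (f : X ⟶ Y)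
    [IsProper f] (y : Y) (h : ∀ x : X, f.base x = y → EGA43.IsOpenAt f.base x) :
    ∃ V ∈ nhds y, ∀ z ∈ V, topologicalKrullDim ↥(f.fiber z) = topologicalKrullDim ↥(f.fiber y) := by
  obtain ⟨U, hyU, -, hU⟩ := EquidimLib.exists_open_max_through y ⊤ trivial
  refine ⟨{z | topologicalKrullDim ↥(f.fiber z) ≤ topologicalKrullDim ↥(f.fiber y)} ∩ U,
    ((FibDimLib.isOpen_fiber_dim_le f f.isClosedMap _).inter U.isOpen).mem_nhds ⟨le_refl (topologicalKrullDim ↥(f.fiber y)), hyU⟩,
    fun z hz => le_antisymm hz.1 ?_⟩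
  obtain ⟨η, hη, hηz⟩ := DvrDomLib.exists_generic_specializes z
  have hηy : η ⤳ y := hU η (hηz.mem_open U.isOpen hz.2) hη
  refine (FibDimLib.topologicalKrullDim_fiber_le_iff f y _).mpr fun x hx => ?_
  obtain ⟨ξ, hξ, hd⟩ := EquidimLib.exists_generization_ge f y h x hx hηy
  have hzim : z ∈ f.base '' closure {ξ} :=
    hηz.mem_closed (f.isClosedMap _ isClosed_closure) ⟨ξ, subset_closure rfl, hξ⟩
  obtain ⟨w, hw, rfl⟩ := hzim
  exact hd.trans ((UOpenLib.fibreClosureDim_le_fibreDimAt f (specializes_iff_mem_closure.mpr hw)).trans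
    (FibDimLib.fibreDimAt_le_fiber f w))

end Groth.Agent.S4921
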