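import Groth.Statements.S4922
import Groth.Agent.EquidimLib.OpenComponent
import Groth.Agent.FibDimLib.DimLoci
import Groth.Agent.UOpenLib.Criterion
import Groth.Agent.S3403
-- import your own Groth.Agent.* helpers here

set_option autoImplicit false
open CategoryTheory AlgebraicGeometry
universe u v w
open EGA43

namespace Groth.Agent.S4922

/-- Let Y be a locally Noetherian scheme, f : X ⟶ Y an open morphism of finite type and y a point of Y.
If dim X_y = dim X_{η} for the generic point η of every irreducible component of Y containing y,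
then z ↦ dim X_z is constant on a neighbourhood of y. -/
theorem result {X Y : Scheme.{u}} [IsLocallyNoetherian Y]
    (f : X ⟶ Y) [LocallyOfFiniteType f] [QuasiCompact f] (hf : IsOpenMap f.base) (y : Y)
    (h : ∀ η : Y, y ∈ closure {η} → closure {η} ∈ irreducibleComponents (Y : Type u) →
      topologicalKrullDim ↥(f.fiber y) = topologicalKrullDim ↥(f.fiber η)) :
    ∃ V ∈ nhds y, ∀ z ∈ V, topologicalKrullDim ↥(f.fiber z) = topologicalKrullDim ↥(f.fiber y) := by
  haveI : IsLocallyNoetherian X := LocallyOfFiniteType.isLocallyNoetherian f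
  haveI : LocallyOfFinitePresentation f := UOpenLib.locallyOfFinitePresentation_of_isLocallyNoetherian f
  have hop : ∀ x : X, EGA43.IsOpenAt f.base x := fun x U hU => hf.image_mem_nhds hU
  let S := {z : Y | topologicalKrullDim ↥(f.fiber z) = topologicalKrullDim ↥(f.fiber y)}
  have hS : Topology.IsLocallyConstructible S :=
    FibDimLib.isLocallyConstructible_fiber_dim_mem f {topologicalKrullDim ↥(f.fiber y)}
  refine ⟨S, mem_interior_iff_mem_nhds.mp ((Groth.Agent.S3403.result Y S
    (ProConsLib.isLocallyConstructible_iff_ind_and_pro.mp hS).1 y).mpr fun y' hy' => ?_), fun z hz => hz⟩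
  obtain ⟨η, hη, hηy'⟩ := DvrDomLib.exists_generic_specializes y'
  refine le_antisymm ?_ (EquidimLib.fiber_dim_le_generization f y (fun x _ => hop x) hy')
  exact (EquidimLib.fiber_dim_le_generization f y' (fun x _ => hop x) hηy').trans
    (h η (hηy'.trans hy').mem_closure hη).ge

end Groth.Agent.S4922
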