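import Groth.Statements.S4923
import Mathlib
import Groth.Agent.EquidimLib.OpenComponent
import Groth.Agent.DepthLib.ModOpen
import Groth.Agent.FibDimLib.Apps
import Groth.Agent.UOpenLib.Criterion
import Groth.Agent.S3403
-- import your own Groth.Agent.* helpers here

set_option autoImplicit false
open CategoryTheory AlgebraicGeometry
universe u v w
open EGA43

namespace Groth.Agent.S4923

/-- Let Y be a locally Noetherian scheme, f : X ⟶ Y an open morphism of finite type and y a point of Y;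
for z in Y let E(z) be the set of dimensions of the irreducible components of the fibre X_z. If E(y)
= E(η) for the generic point η of every irreducible component of Y containing y, then E is constant
on a neighbourhood of y. -/
theorem result {X Y : Scheme.{u}}
    [IsLocallyNoetherian Y] (f : X ⟶ Y) [LocallyOfFiniteType f] [QuasiCompact f] (hf : IsOpenMap f.base) (y : Y) :
    letI E : Y → Set (WithBot ℕ∞) := fun z =>
      (fun Z : Set ↥(f.fiber z) => topologicalKrullDim ↥Z) '' irreducibleComponents ↥(f.fiber z)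
    (∀ η : Y, y ∈ closure {η} → closure {η} ∈ irreducibleComponents (Y : Type u) → E y = E η) →
      ∃ V ∈ nhds y, ∀ z ∈ V, E z = E y := by
  intro h
  let E : Y → Set (WithBot ℕ∞) := fun z =>
    (fun Z : Set ↥(f.fiber z) => topologicalKrullDim ↥Z) '' irreducibleComponents ↥(f.fiber z)
  haveI : IsLocallyNoetherian X := LocallyOfFiniteType.isLocallyNoetherian f
  haveI : LocallyOfFinitePresentation f := UOpenLib.locallyOfFinitePresentation_of_isLocallyNoetherian f
  have hop : ∀ x : X, EGA43.IsOpenAt f.base x := fun x U hU => hf.image_mem_nhds hU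
  have hE : ∀ z d, d ∈ E z ↔ ∃ x : X, f.base x = z ∧ FlatMor.fibreDimAt f x = d := by
    intro z d
    constructor
    · rintro ⟨W, hW, rfl⟩
      obtain ⟨x, hx, hd⟩ := FibDimLib.exists_point_of_fibre_component f z hW
      exact ⟨x, hx, hd.symm⟩
    · rintro ⟨x, rfl, rfl⟩
      obtain ⟨W, hW, hd⟩ := FibDimLib.exists_fibre_component f x
      exact ⟨W, hW, hd.symm⟩
  have hmono : ∀ {z z' : Y}, z' ⤳ z → E z ⊆ E z' := by
    intro z z' hzz d hd
    obtain ⟨x, rfl, rfl⟩ := (hE z d).mp hd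
    obtain ⟨ζ, hζ, -, hmax, hζd⟩ := UOpenLib.exists_max_fibreDimAt f x
    obtain ⟨x', -, hx', hmax', hd'⟩ := EquidimLib.exists_generization_dim f hmax (hop ζ)
      (hzz.trans (specializes_of_eq hζ.symm))
    obtain ⟨ξ, hξ, hξx', -, hξd⟩ := UOpenLib.exists_max_fibreDimAt f x'
    obtain rfl : ξ = x' := hmax' ξ hξ hξx'.mem_closure
    exact (hE z' _).mpr ⟨ξ, hx', hξd.symm.trans (hd'.trans hζd)⟩
  obtain ⟨_, ⟨W, hW, rfl⟩, hyW, -⟩ := Y.isBasis_affineOpens.exists_subset_of_mem_open (Set.mem_univ y) isOpen_univ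
  let O : ℕ → Set X := fun e => {x : X | FlatMor.fibreDimAt f x ≤ (e : WithBot ℕ∞)}
  obtain ⟨t, ht⟩ := (f.isCompact_preimage hW.isCompact).elim_finite_subcover O
    (fun e => FibDimLib.isOpen_fibreDimAt_le f _) (fun x _ => by
      obtain ⟨e, he⟩ := UOpenLib.exists_fibreDimAt_eq_nat f x
      exact Set.mem_iUnion.2 ⟨e, he.le⟩)
  let N := t.sup id
  have hN : ∀ z ∈ W, ∀ d ∈ E z, ∃ n : ℕ, n ∈ Finset.range (N + 1) ∧ d = (n : WithBot ℕ∞) := by
    intro z hz d hd
    obtain ⟨x, rfl, rfl⟩ := (hE z d).mp hd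
    obtain ⟨n, hn⟩ := UOpenLib.exists_fibreDimAt_eq_nat f x
    obtain ⟨e, het, hxe⟩ := Set.mem_iUnion₂.1 (ht hz)
    refine ⟨n, Finset.mem_range.2 (Nat.lt_succ_of_le ?_), hn⟩
    have h1 : (n : WithBot ℕ∞) ≤ (e : WithBot ℕ∞) := hn ▸ hxe
    exact (Nat.cast_le.mp h1).trans (Finset.le_sup (f := id) het)
  let A : ℕ → Set Y := fun n => f.base '' {x : X | FlatMor.fibreDimAt f x = (n : WithBot ℕ∞)}
  have hA : ∀ n z, z ∈ A n ↔ (n : WithBot ℕ∞) ∈ E z := fun n z => by
    rw [hE]
    exact ⟨fun ⟨x, h1, h2⟩ => ⟨x, h2, h1⟩, fun ⟨x, h1, h2⟩ => ⟨x, h2, h1⟩⟩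
  let D : ℕ → Set Y := fun n => {z | z ∈ A n ↔ y ∈ A n}
  have hD : ∀ n, D n ∈ nhds y := by
    intro n
    have hAc : Topology.IsLocallyConstructible (A n) :=
      f.isLocallyConstructible_image (DepthLib.isLocallyConstructible_fibreDimAt_eq f n)
    have hDc : Topology.IsLocallyConstructible (D n) := by
      by_cases hy : y ∈ A n
      · convert hAc using 1; ext z; simp [D, hy]
      · convert ProConsLib.isLocallyConstructible_compl hAc using 1; ext z; simp [D, hy]
    refine mem_interior_iff_mem_nhds.mp ((Groth.Agent.S3403.result Y (D n)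
      (ProConsLib.isLocallyConstructible_iff_ind_and_pro.mp hDc).1 y).mpr fun z hz => ?_)
    obtain ⟨η, hη, hηz⟩ := DvrDomLib.exists_generic_specializes z
    show z ∈ A n ↔ y ∈ A n
    rw [hA, hA]
    exact ⟨fun hd => (h η (hηz.trans hz).mem_closure hη).ge (hmono hηz hd), fun hd => hmono hz hd⟩
  refine ⟨(W : Set Y) ∩ ⋂ n ∈ Finset.range (N + 1), D n,
    Filter.inter_mem (W.2.mem_nhds hyW) ((Filter.biInter_finset_mem _).mpr fun n _ => hD n), fun z hz => ?_⟩
  ext d
  have key : ∀ n ∈ Finset.range (N + 1), ((n : WithBot ℕ∞) ∈ E z ↔ (n : WithBot ℕ∞) ∈ E y) := fun n hn => by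
    rw [← hA, ← hA]
    exact Set.mem_iInter₂.1 hz.2 n hn
  constructor
  · intro hd
    obtain ⟨n, hn, rfl⟩ := hN z hz.1 d hd
    exact (key n hn).mp hd
  · intro hd
    obtain ⟨n, hn, rfl⟩ := hN y hyW d hd
    exact (key n hn).mpr hd

end Groth.Agent.S4923
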