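import Groth.Statements.S4924
import Groth.Agent.EquidimLib.OpenComponent
import Groth.Agent.FibDimLib.DimLoci
import Groth.Agent.FibDimLib.Apps
import Groth.Agent.UOpenLib.Criterion
import Groth.Agent.S3403
-- import your own Groth.Agent.* helpers here

set_option autoImplicit false
open CategoryTheory AlgebraicGeometry
universe u v w
open EGA43

namespace Groth.Agent.S4924

/-- Let Y be a locally Noetherian scheme, f : X ⟶ Y an open morphism of finite type and y a point of Y.
Then there is an open neighbourhood U of the fibre f⁻¹(y) in X such that the function z ↦ dim (U ∩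
f⁻¹(z)) is constant on a neighbourhood of y. -/
theorem result {X Y : Scheme.{u}} [IsLocallyNoetherian Y]
    (f : X ⟶ Y) [LocallyOfFiniteType f] [QuasiCompact f] (hf : IsOpenMap f.base) (y : Y) :
    ∃ U : X.Opens, f.base ⁻¹' {y} ⊆ (U : Set X) ∧ ∃ V ∈ nhds y, ∀ z ∈ V,
      topologicalKrullDim ↥((U : Set X) ∩ f.base ⁻¹' {z}) = topologicalKrullDim ↥((U : Set X) ∩ f.base ⁻¹' {y}) := by
  haveI : IsLocallyNoetherian X := LocallyOfFiniteType.isLocallyNoetherian f
  let d := topologicalKrullDim ↥(f.fiber y)
  let U : X.Opens := ⟨_, FibDimLib.isOpen_fibreDimAt_le f d⟩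
  let g := U.ι ≫ f
  haveI : LocallyOfFinitePresentation g := UOpenLib.locallyOfFinitePresentation_of_isLocallyNoetherian g
  have hU : f.base ⁻¹' {y} ⊆ (U : Set X) := fun x hx => (FibDimLib.topologicalKrullDim_fiber_le_iff f y d).mp le_rfl x hx
  have hle : ∀ z, topologicalKrullDim ↥(g.fiber z) ≤ d := fun z =>
    (FibDimLib.topologicalKrullDim_fiber_le_iff g z d).mpr fun w _ => by
      rw [FibDimLib.fibreDimAt_comp_isOpenImmersion U.ι f w]
      exact w.2
  have hfib : ∀ z, topologicalKrullDim ↥(g.fiber z) = topologicalKrullDim ↥((U : Set X) ∩ f.base ⁻¹' {z}) := fun z => by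
    let e := (g.fiberHomeo z).trans ((U.ι.isEmbedding.homeomorphImage _).trans (Homeomorph.setCongr (by
      rw [show g.base ⁻¹' {z} = U.ι.base ⁻¹' (f.base ⁻¹' {z}) from rfl, Set.image_preimage_eq_inter_range,
        show Set.range U.ι.base = (U : Set X) from U.range_ι, Set.inter_comm])))
    exact IsHomeomorph.topologicalKrullDim_eq e e.isHomeomorph
  have hgy : topologicalKrullDim ↥(g.fiber y) = d := by
    rw [hfib, Set.inter_eq_right.mpr hU]
    exact (IsHomeomorph.topologicalKrullDim_eq _ (f.fiberHomeo y).isHomeomorph).symm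
  have hop : ∀ w, EGA43.IsOpenAt g.base w := fun w V hV =>
    (show IsOpenMap g.base from hf.comp U.ι.isOpenEmbedding.isOpenMap).image_mem_nhds hV
  let S := {z : Y | topologicalKrullDim ↥(g.fiber z) = d}
  have hS : Topology.IsLocallyConstructible S := FibDimLib.isLocallyConstructible_fiber_dim_mem g {d}
  refine ⟨U, hU, S, mem_interior_iff_mem_nhds.mp ((Groth.Agent.S3403.result Y S
    (ProConsLib.isLocallyConstructible_iff_ind_and_pro.mp hS).1 y).mpr fun y' hy' => ?_), fun z hz => ?_⟩
  · exact le_antisymm (hle y') (hgy ▸ EquidimLib.fiber_dim_le_generization g y (fun w _ => hop w) hy')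
  · rw [← hfib, ← hfib, hgy]
    exact hz

end Groth.Agent.S4924
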