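import Groth.Statements.S4929
import Mathlib
import Groth.Agent.UOpenLib.Criterion

set_option autoImplicit false
open CategoryTheory AlgebraicGeometry
universe u v w
open EGA43

namespace Groth.Agent.S4929

open CategoryTheory.Limits in
/-- Let f : X ⟶ Y be a morphism of schemes, x a point of X, and (Y_i ⟶ Y) a finite family of closed
immersions whose images cover Y. If for every i the base change X ×_Y Y_i ⟶ Y_i is universally open
at every point lying over x, then f is universally open at x. -/
theorem result {X Y : Scheme.{u}} (f : X ⟶ Y) (x : X) {ι : Type w}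
    [Finite ι] (T : ι → Scheme.{u}) (g : ∀ i, T i ⟶ Y) [∀ i, IsClosedImmersion (g i)]
    (hcov : ⋃ i, Set.range (g i).base = Set.univ)
    (h : ∀ i, ∀ x' : ↥(pullback f (g i)), (pullback.fst f (g i)).base x' = x →
      EGA43.IsUnivOpenAt (pullback.snd f (g i)) x') :
    EGA43.IsUnivOpenAt f x := by
  classical
  intro Y' k x' hx' W hW
  let p := pullback.snd f k
  have : ∀ i, ∃ O : Set Y', IsOpen O ∧ p.base x' ∈ O ∧
      O ∩ Set.range (pullback.fst k (g i)).base ⊆ p.base '' W := by
    intro i
    let v := pullback.fst k (g i)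
    by_cases hy : p.base x' ∈ Set.range v.base
    · obtain ⟨c, hc⟩ := hy
      obtain ⟨z, hz1, hz2⟩ := UOpenLib.image_fst_snd (IsPullback.of_hasPullback p v) x' c hc.symm
      have sq0 := (IsPullback.of_hasPullback p v).paste_horiz (IsPullback.of_hasPullback f k)
      have hvg : v ≫ k = pullback.snd k (g i) ≫ g i := pullback.condition
      rw [hvg] at sq0
      have sq1 := IsPullback.of_right' sq0 (IsPullback.of_hasPullback f (g i))
      have hopen := UOpenLib.IsUnivOpenAt.isOpenAt (h i _ (by
        rw [← Scheme.Hom.comp_apply, IsPullback.lift_fst, Scheme.Hom.comp_apply, hz1]; exact hx')) sq1 z rfl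
      have hN := hopen _ ((pullback.fst p v).continuous.continuousAt.preimage_mem_nhds (hz1.symm ▸ hW))
      rw [hz2] at hN
      obtain ⟨N, hNs, hNo, hcN⟩ := mem_nhds_iff.mp hN
      obtain ⟨O, hO, hON⟩ := v.isEmbedding.isInducing.isOpen_iff.mp hNo
      refine ⟨O, hO, ?_, ?_⟩
      · rw [← hc]
        exact (hON.ge hcN : c ∈ v.base ⁻¹' O)
      rintro _ ⟨hd, d, rfl⟩
      obtain ⟨w, hw, rfl⟩ := hNs (hON.le (show d ∈ v.base ⁻¹' O from hd))
      exact ⟨_, hw, by rw [← Scheme.Hom.comp_apply, ← Scheme.Hom.comp_apply, pullback.condition]⟩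
    · exact ⟨(Set.range v.base)ᶜ, v.isClosedEmbedding.isClosed_range.isOpen_compl, hy,
        fun d hd ↦ absurd hd.2 hd.1⟩
  choose O hO hmem hsub using this
  refine Filter.mem_of_superset ((isOpen_iInter_of_finite hO).mem_nhds (Set.mem_iInter.mpr hmem)) ?_
  intro d hd
  have hdu : k.base d ∈ ⋃ i, Set.range (g i).base := hcov ▸ trivial
  obtain ⟨i, t, ht⟩ := Set.mem_iUnion.mp hdu
  obtain ⟨c, hc, -⟩ := Scheme.Pullback.exists_preimage_pullback (f := k) (g := g i) d t ht.symm
  exact hsub i ⟨Set.mem_iInter.mp hd i, c, hc⟩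

end Groth.Agent.S4929
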