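import Groth.Statements.S4933
import Mathlib
import Groth.Agent.UOpenLib.Chevalley
import Groth.Agent.S3404

set_option autoImplicit false
open CategoryTheory AlgebraicGeometry
universe u v w
open EGA43

namespace Groth.Agent.S4933

/-- Let f : X ⟶ Y be a morphism locally of finite type, x a point of X which is a maximal point of its
fibre X_y, y = f x. Consider: a) f is universally open at x; b) for every irreducible component Y₀
of Y containing y, with generic point η, there is an irreducible component Z of X containing x and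
dominating Y₀ such that dim_x(X_y) = dim_x(Z ∩ X_y) = dim(Z ∩ X_η); b') for every open neighbourhood
U of x and every generization y' of y one has dim(U ∩ X_{y'}) ≥ dim_x(X_y). Then a) implies b'), and
b') implies b). (Subsets of X carry the induced topology; dim_x(U ∩ X_y) = dim_x(X_y). The published
statement asserts moreover that b) implies b'); that implication can fail, because a generization y'
of y need not lie under any point of U ∩ Z: for the finite birational morphism from the affine plane
onto the surface obtained from it by identifying two rational points p and q, at x = p condition b)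
holds with all dimensions equal to 0, while for U the complement of a line L through q avoiding p
and y' the image of the generic point of L the set U ∩ X_{y'} is empty. So only a) ⇒ b') and b') ⇒
b) are stated here.) -/
theorem result {X Y : Scheme.{u}} (f : X ⟶ Y) [LocallyOfFiniteType f]
    (x : X) (hmax : ∀ x' : X, f.base x' = f.base x → x ∈ closure {x'} → x' = x) :
    (EGA43.IsUnivOpenAt f x → (∀ U : X.Opens, x ∈ U → ∀ y' : Y, y' ⤳ f.base x →
        FlatMor.fibreDimAt f x ≤ topologicalKrullDim ↥((U : Set X) ∩ f.base ⁻¹' {y'}))) ∧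
    ((∀ U : X.Opens, x ∈ U → ∀ y' : Y, y' ⤳ f.base x →
        FlatMor.fibreDimAt f x ≤ topologicalKrullDim ↥((U : Set X) ∩ f.base ⁻¹' {y'})) →
      (∀ Y₀ ∈ irreducibleComponents (Y : Type u), f.base x ∈ Y₀ →
        ∃ Z ∈ irreducibleComponents (X : Type u), ∃ hx : x ∈ Z, closure (f.base '' Z) = Y₀ ∧
          ∀ η : Y, closure ({η} : Set Y) = Y₀ →
            FlatMor.fibreDimAt f x = FlatMor.localDim ↥(Z ∩ f.base ⁻¹' {f.base x}) ⟨x, ⟨hx, rfl⟩⟩ ∧
            FlatMor.localDim ↥(Z ∩ f.base ⁻¹' {f.base x}) ⟨x, ⟨hx, rfl⟩⟩ =
              topologicalKrullDim ↥(Z ∩ f.base ⁻¹' {η}))) := by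
  refine ⟨fun h U hxU y' hy' => ?_, fun h Y₀ hY₀ hxY₀ => ?_⟩
  · obtain ⟨ζ, hζx, rfl, hd⟩ := UOpenLib.exists_generization_of_isUnivOpenAt f hmax h hy'
    obtain ⟨n, hn⟩ := UOpenLib.exists_fibreDimAt_eq_nat f x
    rw [hn] at hd ⊢
    exact UOpenLib.le_dim_inter_of_le_fibreClosureDim f U (hζx.mem_open U.isOpen hxU) hd
  · have hirr : IsIrreducible Y₀ := hY₀.1
    have hgen := hirr.isGenericPoint_genericPoint_closure
    rw [closure_eq_iff_isClosed.mpr (isClosed_of_mem_irreducibleComponents _ hY₀)] at hgen
    obtain ⟨n, hn⟩ := UOpenLib.exists_fibreDimAt_eq_nat f x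
    obtain ⟨ζ, hζx, hζη, hd⟩ := UOpenLib.exists_generization_of_dim f x (n := n)
      (fun U hU => hn ▸ h U hU _ (hgen.specializes hxY₀))
    have hc : closure {f.base ζ} = Y₀ := by rw [hζη]; exact hgen.def
    obtain ⟨Z, hZ, hxZ, hdom, hdims⟩ := UOpenLib.exists_component_of_generization f (x := x)
      specializes_rfl rfl (UOpenLib.fibreDimAt_eq_of_max f hmax).symm hζx (hc.symm ▸ hY₀) (hn.symm ▸ hd)
    exact ⟨Z, hZ, hxZ, hdom.trans hc, fun η hη => hdims η (hη.trans hc.symm)⟩

end Groth.Agent.S4933
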