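import Groth.Statements.S4943
import Mathlib
import Groth.Agent.EquidimLib.Subvariety

set_option autoImplicit false
open CategoryTheory AlgebraicGeometry
universe u v w
open EGA43

namespace Groth.Agent.S4943

/-- Let Y be an irreducible locally Noetherian scheme, f : X ⟶ Y a morphism locally of finite type which
is equidimensional at the point x, y = f x and e = dim_x(X_y). Let X' be an irreducible closed
subset of X containing x, with generic point x', and n a natural number such that codim(X', X) ≤ n
(the codimension being dim O_{X,x'}) and dim_x(X' ∩ X_y) ≤ e − n. Then codim(X', X) = n, dim_x(X' ∩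
X_y) = e − n, and the restriction of f to X' with its reduced subscheme structure is equidimensional
at x. -/
theorem result {X Y : Scheme.{u}} [IrreducibleSpace Y]
    [IsLocallyNoetherian Y] (f : X ⟶ Y) [LocallyOfFiniteType f] (x : X) (hf : EGA43.IsEquidimAt f x)
    (X' : TopologicalSpace.Closeds X) (x' : X) (hx' : closure ({x'} : Set X) = (X' : Set X)) (hx : x ∈ X') (n : ℕ)
    (hcodim : ringKrullDim (X.presheaf.stalk x') ≤ n)
    (hdim : FlatMor.localDim ↥((X' : Set X) ∩ f.base ⁻¹' {f.base x}) ⟨x, ⟨hx, rfl⟩⟩ + n ≤ FlatMor.fibreDimAt f x) :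
    ringKrullDim (X.presheaf.stalk x') = n ∧
      FlatMor.localDim ↥((X' : Set X) ∩ f.base ⁻¹' {f.base x}) ⟨x, ⟨hx, rfl⟩⟩ + n = FlatMor.fibreDimAt f x ∧
      ∀ w : ↥(Scheme.IdealSheafData.vanishingIdeal X').subscheme,
        (Scheme.IdealSheafData.vanishingIdeal X').subschemeι.base w = x →
        EGA43.IsEquidimAt ((Scheme.IdealSheafData.vanishingIdeal X').subschemeι ≫ f) w := by
  let J := Scheme.IdealSheafData.vanishingIdeal X'
  let j := J.subschemeι
  have hrange : Set.range j.base = (X' : Set X) := by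
    rw [J.range_subschemeι, Scheme.IdealSheafData.coe_support_vanishingIdeal]
  obtain ⟨z, hz⟩ : x' ∈ Set.range j.base := hrange ▸ hx' ▸ subset_closure rfl
  have hgen : ∀ v, z ⤳ v := fun v ↦ j.isEmbedding.isInducing.specializes_iff.mp (by
    rw [hz, specializes_iff_mem_closure, hx', ← hrange]
    exact ⟨v, rfl⟩)
  haveI : IrreducibleSpace J.subscheme :=
    { isPreirreducible_univ := by
        have h : closure ({z} : Set J.subscheme) = Set.univ :=
          Set.eq_univ_of_forall fun v ↦ (hgen v).mem_closure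
        exact h ▸ isIrreducible_singleton.closure.isPreirreducible
      toNonempty := ⟨z⟩ }
  have hgz : genericPoint J.subscheme = z := ((genericPoint_specializes z).antisymm (hgen _)).eq
  obtain ⟨w₀, hw₀⟩ : x ∈ Set.range j.base := hrange ▸ hx
  have hkey : ∀ w, j.base w = x → FlatMor.fibreDimAt (j ≫ f) w =
      FlatMor.localDim ↥((X' : Set X) ∩ f.base ⁻¹' {f.base x}) ⟨x, ⟨hx, rfl⟩⟩ :=
    fun w hw ↦ EquidimLib.fibreDimAt_closedImmersion f j w x hw hrange hx
  have hmain : ∀ w, j.base w = x → ringKrullDim (X.presheaf.stalk (j.base (genericPoint J.subscheme))) = n ∧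
      FlatMor.fibreDimAt (j ≫ f) w + n = FlatMor.fibreDimAt f x ∧ EGA43.IsEquidimAt (j ≫ f) w :=
    fun w hw ↦ EquidimLib.codim_subvariety f x hf j w hw n (by rw [hgz, hz]; exact hcodim)
      (by rw [hkey w hw]; exact hdim)
  obtain ⟨h1, h2, -⟩ := hmain w₀ hw₀
  exact ⟨by rwa [hgz, hz] at h1, by rw [← hkey w₀ hw₀]; exact h2, fun w hw ↦ (hmain w hw).2.2⟩

end Groth.Agent.S4943
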