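import Groth.Statements.S4944
import Mathlib
import Groth.Agent.UOpenLib.QuasiSectionScheme
import Groth.Agent.FibDimLib.Pure
import Groth.Agent.DvrDom.Points

set_option autoImplicit false
open CategoryTheory AlgebraicGeometry
universe u v w
open EGA43

namespace Groth.Agent.S4944

/-- Suppose Y is an irreducible, locally Noetherian scheme and f : X ⟶ Y is locally of finite type. Take
a point x of X at which f is equidimensional and which is closed in its fibre f⁻¹(f x). Then one can
find an irreducible reduced scheme T together with an immersion i : T ⟶ X whose image contains x,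
such that the composite T ⟶ Y is dominant and quasi-finite (meaning locally quasi-finite and of
finite type). -/
theorem result {X Y : Scheme.{u}} [IrreducibleSpace Y]
    [IsLocallyNoetherian Y] (f : X ⟶ Y) [LocallyOfFiniteType f] (x : X) (hf : EGA43.IsEquidimAt f x)
    (hcl : ∀ x' : X, f.base x' = f.base x → x ⤳ x' → x' = x) :
    ∃ (T : Scheme.{u}) (i : T ⟶ X), IsImmersion i ∧ IrreducibleSpace ↥T ∧ IsReduced T ∧ x ∈ Set.range i.base ∧
        LocallyOfFiniteType (i ≫ f) ∧ LocallyQuasiFinite (i ≫ f) ∧ QuasiCompact (i ≫ f) ∧ IsDominant (i ≫ f) := by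
  obtain ⟨e, U, hxU, hdom, hfib⟩ := hf
  let g := U.ι ≫ f
  let x₀ : (U : Scheme.{u}) := ⟨x, hxU⟩
  have hlft : ∀ y, LocallyOfFiniteType (g.fiberToSpecResidueField y) := UOpenLib.lft_fiberToSpec g
  have hd : FlatMor.fibreDimAt g x₀ = e :=
    @FibDimLib.IsPureDim.localDim_eq _ _ _ _ (hlft _) _ (hfib x₀) _
  obtain ⟨ζ, hζ, hζx⟩ := DvrDomLib.exists_generic_specializes x₀
  obtain ⟨W, hW, -, hWeq⟩ := hdom _ hζ
  have hWuniv : W = Set.univ := by
    rw [irreducibleComponents_eq_singleton] at hW
    exact hW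
  have hη : closure {g.base ζ} = Set.univ := by
    rw [← hWuniv, ← hWeq, closure_image_closure g.continuous, Set.image_singleton]
  have hdim : FlatMor.fibreDimAt g x₀ ≤ UOpenLib.fibreClosureDim g ζ := by
    rw [hd]
    refine le_of_eq (hfib ζ _ (UOpenLib.closure_asFiber_mem g fun x' _ hx' => ?_)).symm
    exact FibDimLib.eq_of_specializes_of_closure_mem hζ (specializes_iff_mem_closure.mpr hx')
  obtain ⟨T, i, hi, hirr, hred, hxi, -, h1, h2, h3, h4⟩ :=
    UOpenLib.exists_quasiSection g x₀ (fun x' hx' hsp => Subtype.ext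
      (hcl x'.1 hx' (hsp.map U.ι.continuous))) ζ hζx hη hdim
  refine ⟨T, i ≫ U.ι, inferInstance, hirr, hred, ?_, ?_, ?_, ?_, ?_⟩
  · obtain ⟨t, ht⟩ := hxi
    exact ⟨t, (congrArg U.ι.base ht : U.ι.base (i.base t) = x)⟩
  all_goals rw [Category.assoc]
  · exact h1
  · exact h2
  · exact h3
  · exact h4

end Groth.Agent.S4944
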