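import Groth.Statements.S4945
import Mathlib
import Groth.Agent.UOpenLib.UnibranchTFAE

set_option autoImplicit false
open CategoryTheory AlgebraicGeometry
universe u v w
open EGA43

namespace Groth.Agent.S4945

/-- Let Y be an irreducible locally Noetherian scheme with generic point η, f : X ⟶ Y a morphism locally
of finite type and y a geometrically unibranch point of Y. The following are equivalent: a) f is
universally open at every point of X_y; b) f is open at every point of X_y; c) for every maximal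
point z of X_y there is an irreducible component Z of X containing z and dominating Y with dim_z(Z ∩
X_y) = dim(Z ∩ X_η); d) for every point x closed in X_y there are an irreducible reduced scheme T
and an immersion T ⟶ X with image containing x such that T ⟶ Y is quasi-finite and dominant. -/
theorem result {X Y : Scheme.{u}} [IrreducibleSpace Y]
    [IsLocallyNoetherian Y] (f : X ⟶ Y) [LocallyOfFiniteType f] (y : Y) (hy : CAlg2.IsGeomUnibranch (Y.presheaf.stalk y)) :
    List.TFAE [∀ x : X, f.base x = y → EGA43.IsUnivOpenAt f x,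
      ∀ x : X, f.base x = y → EGA43.IsOpenAt f.base x,
      ∀ z : X, ∀ hzy : f.base z = y, (∀ z' : X, f.base z' = y → z ∈ closure {z'} → z' = z) →
        ∃ Z ∈ irreducibleComponents (X : Type u), ∃ hz : z ∈ Z, Dense (f.base '' Z) ∧
          FlatMor.localDim ↥(Z ∩ f.base ⁻¹' {y}) ⟨z, ⟨hz, hzy⟩⟩ = topologicalKrullDim ↥(Z ∩ f.base ⁻¹' {genericPoint Y}),
      ∀ x : X, f.base x = y → (∀ x' : X, f.base x' = y → x ⤳ x' → x' = x) →
        ∃ (T : Scheme.{u}) (i : T ⟶ X), IsImmersion i ∧ IrreducibleSpace ↥T ∧ IsReduced T ∧ x ∈ Set.range i.base ∧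
        LocallyOfFiniteType (i ≫ f) ∧ LocallyQuasiFinite (i ≫ f) ∧ QuasiCompact (i ≫ f) ∧ IsDominant (i ≫ f)] := by
  tfae_have 1 → 2 := fun h x hx ↦ UOpenLib.isOpenAt_of_isUnivOpenAt f (h x hx)
  tfae_have 2 → 3 := fun h z hzy hmax ↦ by
    subst hzy
    exact UOpenLib.exists_component_of_isOpenAt f z hmax (h z rfl)
  tfae_have 3 → 4 := fun h x hx hcl ↦ UOpenLib.exists_quasiSection_of_component f y hy h x hx hcl
  tfae_have 4 → 1 := fun h x hx ↦ by
    refine UOpenLib.isUnivOpenAt_of_closed_points f y (fun x₀ hx₀ hcl ↦ ?_) x hx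
    obtain ⟨T, i, -, hT, -, ⟨t, rfl⟩, h1, h2, -, h3⟩ := h x₀ hx₀ hcl
    exact UOpenLib.isUnivOpenAt_of_quasiSection f i t (hx₀.symm ▸ hy)
  tfae_finish

end Groth.Agent.S4945
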