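import Groth.Statements.S4946
import Mathlib
import Groth.Agent.UOpenLib.QuasiSectionScheme
import Groth.Agent.UOpenLib.DimOne
import Groth.Agent.UOpenLib.Normal
import Groth.Agent.DevissLib.ClosedImm

set_option autoImplicit false
open CategoryTheory AlgebraicGeometry
universe u v w
open EGA43

namespace Groth.Agent.S4946

/-- Let Y be an irreducible locally Noetherian scheme which is regular of dimension 1 (all local rings
regular of dimension at most 1), f : X ⟶ Y a morphism locally of finite type and y a point of Y.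
Then the following are equivalent: d) every irreducible component of X meeting the fibre X_y
dominates Y; e) for every point x closed in X_y and every irreducible component X_i of X containing
x, there are an irreducible reduced scheme T and an immersion T ⟶ X with image containing x and
contained in X_i, such that T ⟶ Y is quasi-finite and dominant. -/
theorem result {X Y : Scheme.{u}} [IrreducibleSpace Y]
    [IsLocallyNoetherian Y] (hY : ∀ y : Y, IsRegularLocalRing (Y.presheaf.stalk y) ∧ ringKrullDim (Y.presheaf.stalk y) ≤ 1)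
    (f : X ⟶ Y) [LocallyOfFiniteType f] (y : Y) :
    (∀ Z ∈ irreducibleComponents (X : Type u), (Z ∩ f.base ⁻¹' {y}).Nonempty → Dense (f.base '' Z)) ↔
      ∀ x : X, f.base x = y → (∀ x' : X, f.base x' = y → x ⤳ x' → x' = x) →
        ∀ Xi ∈ irreducibleComponents (X : Type u), x ∈ Xi →
          ∃ (T : Scheme.{u}) (i : T ⟶ X), IsImmersion i ∧ IrreducibleSpace ↥T ∧ IsReduced T ∧ x ∈ Set.range i.base ∧
            Set.range i.base ⊆ Xi ∧
            LocallyOfFiniteType (i ≫ f) ∧ LocallyQuasiFinite (i ≫ f) ∧ QuasiCompact (i ≫ f) ∧ IsDominant (i ≫ f) := by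
  constructor
  · intro hd x hxy hcl Xi hXi hxXi
    let Zc : TopologicalSpace.Closeds X := ⟨Xi, isClosed_of_mem_irreducibleComponents _ hXi⟩
    let I := Scheme.IdealSheafData.vanishingIdeal Zc
    let ι := I.subschemeι
    let g := ι ≫ f
    have hrange : Set.range ι.base = Xi := by
      simp [ι, I, Scheme.IdealSheafData.range_subschemeι, Zc]
    have hirrZ : IrreducibleSpace ↥I.subscheme := by
      refine UOpenLib.irreducibleSpace_of_range ι.isEmbedding (hrange ▸ hXi.1)
    have : IsReduced I.subscheme := DevissLib.isReduced_vanishingIdeal' Zc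
    have hint : IsIntegral I.subscheme := isIntegral_of_irreducibleSpace_of_isReduced _
    obtain ⟨x₁, hx₁⟩ : x ∈ Set.range ι.base := hrange.symm ▸ hxXi
    have hdense : DenseRange g.base := by
      have h1 := hd Xi hXi ⟨x, hxXi, hxy⟩
      rw [← hrange, ← Set.range_comp] at h1
      exact h1
    have hflat : Flat g := UOpenLib.flat_of_dominant_regular_dim_one g hY hdense
    have : LocallyOfFinitePresentation g :=
      UOpenLib.locallyOfFinitePresentation_of_isLocallyNoetherian g
    have : UniversallyOpen g := inferInstance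
    obtain ⟨x₀, hx₀g, hx₀, hmax, hx₀d⟩ := UOpenLib.exists_max_fibreDimAt g x₁
    let η := genericPoint ↥Y
    obtain ⟨ζ', hζ', hζ'η, hdim⟩ := UOpenLib.exists_generization_of_isUnivOpenAt g hmax
      (UOpenLib.isUnivOpenAt_of_universallyOpen' g x₀) (y₁ := η)
      ((genericPoint_spec ↥Y).specializes trivial)
    rw [UOpenLib.fibreDimAt_eq_of_max g hmax, hx₀d] at hdim
    have hη : closure {g.base ζ'} = Set.univ := by rw [hζ'η]; exact (genericPoint_spec ↥Y).def
    obtain ⟨T, i, hi, hirr, hred, hxi, -, h1, h2, h3, h4⟩ :=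
      UOpenLib.exists_quasiSection g x₁ (fun x' hx' hsp => ι.isEmbedding.injective
        ((hcl (ι.base x') (by
          refine Eq.trans hx' ?_
          show f.base (ι.base x₁) = y
          rw [hx₁, hxy]) (hx₁ ▸ hsp.map ι.continuous)).trans hx₁.symm))
        ζ' (hζ'.trans hx₀) hη hdim
    refine ⟨T, i ≫ ι, inferInstance, hirr, hred, ?_, ?_, ?_, ?_, ?_, ?_⟩
    · obtain ⟨t, rfl⟩ := hxi
      exact ⟨t, hx₁⟩
    · rw [← hrange]
      rintro _ ⟨t, rfl⟩
      exact ⟨i.base t, rfl⟩
    all_goals rw [Category.assoc]
    · exact h1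
    · exact h2
    · exact h3
    · exact h4
  · intro he Z hZ hne
    obtain ⟨x, hxy, hxZ, hcl⟩ := UOpenLib.exists_closed_point_of_fibre f y
      (isClosed_of_mem_irreducibleComponents _ hZ) hne
    obtain ⟨T, i, -, -, -, -, hiZ, -, -, -, hdom⟩ := he x hxy hcl Z hZ hxZ
    refine hdom.denseRange.mono ?_
    rintro _ ⟨t, rfl⟩
    exact ⟨i.base t, hiZ ⟨t, rfl⟩, rfl⟩

end Groth.Agent.S4946
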