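import Groth.Statements.S4947
import Groth.Agent.CommAlgDim.QuasiRegular
import Mathlib.RingTheory.Localization.AsSubring
import Mathlib.RingTheory.DiscreteValuationRing.TFAE
import Mathlib.RingTheory.AlgebraicIndependent.Basic

set_option autoImplicit false
universe u
open EGA43

namespace Groth.Agent.S4947

open IsLocalRing MvPolynomial in
theorem ker_chart {A : Type u} [CommRing A] [IsRegularLocalRing A] {K : Type u} [Field K] [Algebra A K]
    {n : ℕ} (x : Fin (n + 1) → A) (hd : (maximalIdeal A).spanFinrank = n + 1)
    (hx : Ideal.span (Set.range x) = maximalIdeal A) (hinj : Function.Injective (algebraMap A K))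
    (G : MvPolynomial (Fin n) A)
    (hG : aeval (fun i => algebraMap A K (x i.succ) / algebraMap A K (x 0)) G = 0) :
    ∀ s, G.coeff s ∈ maximalIdeal A := by
  classical
  obtain ⟨hx0, hx02⟩ := CommAlgDim.rsop_head hd hx
  have hy : algebraMap A K (x 0) ≠ 0 := (map_ne_zero_iff _ hinj).2 fun h => hx02 (h ▸ zero_mem _)
  let N := G.totalDegree
  let e : (Fin n →₀ ℕ) → (Fin (n + 1) →₀ ℕ) := fun s => Finsupp.cons (N - s.degree) s
  let H : MvPolynomial (Fin (n + 1)) A := ∑ s ∈ G.support, monomial (e s) (G.coeff s)
  have hsdeg : ∀ s ∈ G.support, s.degree ≤ N := fun s hs => le_totalDegree hs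
  have hH : H.IsHomogeneous N := IsHomogeneous.sum _ _ _ fun s hs => isHomogeneous_monomial _ (by
    rw [CommAlgDim.degree_tail, Finsupp.cons_zero, Finsupp.tail_cons]
    have := hsdeg s hs
    omega)
  have he : algebraMap A K (eval x H) = 0 := by
    have : algebraMap A K (eval x H) = algebraMap A K (x 0) ^ N *
        aeval (fun i => algebraMap A K (x i.succ) / algebraMap A K (x 0)) G := by
      rw [aeval_def, eval₂_eq', map_sum, map_sum, Finset.mul_sum]
      refine Finset.sum_congr rfl fun s hs => ?_
      rw [eval_monomial, map_mul, Finsupp.prod_fintype _ _ (fun i => pow_zero _), Fin.prod_univ_succ,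
        map_mul, map_pow, map_prod]
      simp only [e, Finsupp.cons_zero, Finsupp.cons_succ, map_pow, div_pow, Finset.prod_div_distrib,
        Finset.prod_pow_eq_pow_sum]
      rw [← Finsupp.degree_eq_sum,
        show N = (N - s.degree) + s.degree from (Nat.sub_add_cancel (hsdeg s hs)).symm, pow_add,
        Nat.add_sub_cancel]
      field_simp
    rw [this, hG, mul_zero]
  intro s
  by_cases hs : s ∈ G.support
  · have h0 : eval x H = 0 := hinj (he.trans (map_zero _).symm)
    have := CommAlgDim.quasiRegular _ A x hd hx N H hH (h0 ▸ zero_mem _) (e s)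
    rw [coeff_sum, Finset.sum_eq_single s] at this
    · simpa using this
    · intro t _ hts
      rw [coeff_monomial, if_neg]
      intro h
      exact hts (by simpa [e] using congrArg Finsupp.tail h)
    · exact fun h => absurd hs h
  · rw [notMem_support_iff.1 hs]; exact zero_mem _

/-- Let A be a regular local ring which is not a field, K its fraction field and k its residue field.
Then there is a discrete valuation ring V between A and K, with fraction field K, dominating A,
whose residue field is a purely transcendental extension of k: for some ring map from k compatible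
with A → V there is an algebraically independent family generating the residue field of V as a field
over k. -/
theorem result (A : Type u) [CommRing A] [IsRegularLocalRing A]
    (hA : ¬ IsField A) :
    ∃ (V : Subalgebra A (FractionRing A)) (_ : IsDomain V) (_ : IsDiscreteValuationRing V), IsFractionRing V (FractionRing A) ∧
      (IsLocalRing.maximalIdeal V).comap (algebraMap A V) = IsLocalRing.maximalIdeal A ∧
      ∃ (φ : IsLocalRing.ResidueField A →+* IsLocalRing.ResidueField V),
        φ.comp (IsLocalRing.residue A) = (IsLocalRing.residue V).comp (algebraMap A V) ∧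
        letI := φ.toAlgebra
        ∃ (ι : Type u) (t : ι → IsLocalRing.ResidueField V), AlgebraicIndependent (IsLocalRing.ResidueField A) t ∧
          IntermediateField.adjoin (IsLocalRing.ResidueField A) (Set.range t) = ⊤ := by
  classical
  open IsLocalRing MvPolynomial in
  haveI := CommAlgDim.isDomain_of_isRegularLocalRing A
  obtain ⟨n, hn⟩ : ∃ n, (IsLocalRing.maximalIdeal A).spanFinrank = n + 1 := by
    refine ⟨(IsLocalRing.maximalIdeal A).spanFinrank - 1, (Nat.succ_pred_eq_of_ne_zero fun h => hA ?_).symm⟩
    exact (IsLocalRing.isField_iff_maximalIdeal_eq (R := A)).2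
      ((Submodule.spanFinrank_eq_zero_iff_eq_bot (IsNoetherian.noetherian _)).1 h)
  obtain ⟨tt, htt, httK⟩ := Submodule.FG.exists_span_finset_card_eq_spanFinrank
    (IsNoetherian.noetherian (IsLocalRing.maximalIdeal A))
  rw [Ideal.submodule_span_eq] at httK
  let x : Fin (n + 1) → A := fun i => ((tt.equivFinOfCardEq (htt.trans hn)).symm i).1
  have hx : Ideal.span (Set.range x) = IsLocalRing.maximalIdeal A := by
    rw [← httK]
    congr 1
    ext a
    exact ⟨fun ⟨i, hi⟩ => hi ▸ ((tt.equivFinOfCardEq (htt.trans hn)).symm i).2,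
      fun ha => ⟨tt.equivFinOfCardEq (htt.trans hn) ⟨a, ha⟩, by simp [x]⟩⟩
  obtain ⟨hx0, hx02⟩ := CommAlgDim.rsop_head hn hx
  set K := FractionRing A
  have hinj : Function.Injective (algebraMap A K) := IsFractionRing.injective A K
  have hy : algebraMap A K (x 0) ≠ 0 := (map_ne_zero_iff _ hinj).2 fun h => hx02 (h ▸ zero_mem _)
  let φ : MvPolynomial (Fin n) A →ₐ[A] K :=
    MvPolynomial.aeval fun i => algebraMap A K (x i.succ) / algebraMap A K (x 0)
  let A' := φ.range
  let φ' : MvPolynomial (Fin n) A →ₐ[A] A' := φ.rangeRestrict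
  have hφ' : Function.Surjective φ' := φ.rangeRestrict_surjective
  let P : Ideal (MvPolynomial (Fin n) A) := (IsLocalRing.maximalIdeal A).map MvPolynomial.C
  have hker : RingHom.ker φ' ≤ P := fun G hG => MvPolynomial.mem_map_C_iff.2
    (ker_chart x hn hx hinj G (congrArg Subtype.val hG))
  haveI hP : P.IsPrime := by
    have hK : P = RingHom.ker (MvPolynomial.map (σ := Fin n) (IsLocalRing.residue A)) := by
      rw [MvPolynomial.ker_map, IsLocalRing.ker_residue]
    rw [hK]
    exact RingHom.ker_isPrime _
  let q : Ideal A' := P.map φ'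
  haveI hq : q.IsPrime := Ideal.map_isPrime_of_surjective hφ' hker
  have hcomap : q.comap φ' = P :=
    (Ideal.comap_map_of_surjective φ' hφ' P).trans (sup_eq_left.2 (by rw [← RingHom.ker_eq_comap_bot]; exact hker))
  have hqspan : q = Ideal.span {algebraMap A A' (x 0)} := by
    refine le_antisymm (Ideal.map_le_iff_le_comap.2 ?_) ((Ideal.span_singleton_le_iff_mem _).2 ?_)
    · rw [show P = (Ideal.span (Set.range x)).map MvPolynomial.C by rw [hx], Ideal.map_span, Ideal.span_le]
      rintro _ ⟨_, ⟨i, rfl⟩, rfl⟩
      rw [SetLike.mem_coe, Ideal.mem_comap, Ideal.mem_span_singleton']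
      cases i using Fin.cases with
      | zero => exact ⟨1, (one_mul _).trans (φ'.commutes _).symm⟩
      | succ i =>
        refine ⟨φ' (MvPolynomial.X i), Subtype.ext ?_⟩
        show φ (MvPolynomial.X i) * algebraMap A K (x 0) = φ (MvPolynomial.C (x i.succ))
        simp [φ, div_mul_cancel₀ _ hy]
    · rw [← φ'.commutes]
      exact Ideal.mem_map_of_mem _ (Ideal.mem_map_of_mem _ hx0)
  let V0 : Subalgebra A' K := Localization.subalgebra.ofField K q.primeCompl q.primeCompl_le_nonZeroDivisors
  haveI : IsLocalization.AtPrime V0 q := Localization.subalgebra.isLocalization_ofField K q.primeCompl _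
  haveI hloc : IsLocalRing V0 := IsLocalization.AtPrime.isLocalRing V0 q
  haveI : IsNoetherianRing A' := isNoetherianRing_of_surjective _ _ φ'.toRingHom hφ'
  haveI : IsNoetherianRing V0 := IsLocalization.isNoetherianRing q.primeCompl V0 inferInstance
  have hmax : IsLocalRing.maximalIdeal V0 = Ideal.span {algebraMap A' V0 (algebraMap A A' (x 0))} := by
    rw [← IsLocalization.AtPrime.map_eq_maximalIdeal q V0, hqspan, Ideal.map_span, Set.image_singleton]
  haveI : IsDomain V0 := inferInstance
  haveI : IsPrincipalIdealRing V0 :=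
    ((tfae_of_isNoetherianRing_of_isLocalRing_of_isDomain (R := V0)).out 4 0).1
      (show (IsLocalRing.maximalIdeal V0).IsPrincipal from ⟨⟨_, hmax⟩⟩)
  have hne : IsLocalRing.maximalIdeal V0 ≠ ⊥ := fun h => hy (by
    have h1 := Ideal.mem_span_singleton_self (algebraMap A' V0 (algebraMap A A' (x 0)))
    rw [← hmax, h, Ideal.mem_bot] at h1
    exact congrArg Subtype.val h1)
  haveI hdvr : IsDiscreteValuationRing V0 := { not_a_field' := hne }
  let V : Subalgebra A K := V0.restrictScalars A
  haveI : IsDomain V := inferInstance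
  haveI : IsLocalRing V := hloc
  haveI hdvrV : IsDiscreteValuationRing V := hdvr
  refine ⟨V, inferInstance, hdvrV, inferInstance, ?_, ?_⟩
  · refine (IsLocalRing.eq_maximalIdeal ?_)
    have hle : IsLocalRing.maximalIdeal A ≤ (IsLocalRing.maximalIdeal V).comap (algebraMap A V) := by
      intro a ha
      rw [Ideal.mem_comap]
      show algebraMap A' V0 (algebraMap A A' a) ∈ IsLocalRing.maximalIdeal V0
      rw [IsLocalization.AtPrime.to_map_mem_maximal_iff V0 q, ← φ'.commutes]
      exact Ideal.mem_map_of_mem _ (Ideal.mem_map_of_mem _ ha)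
    rw [← (IsLocalRing.maximalIdeal.isMaximal A).eq_of_le (Ideal.comap_ne_top _
      (IsLocalRing.maximalIdeal.isMaximal V).ne_top) hle]
    exact IsLocalRing.maximalIdeal.isMaximal A
  let W : MvPolynomial (Fin n) A →+* V := (algebraMap A' V0).comp φ'.toRingHom
  have hWC : ∀ a, W (MvPolynomial.C a) = algebraMap A V a := fun a => Subtype.ext (φ.commutes a)
  have hWmem : ∀ G, W G ∈ IsLocalRing.maximalIdeal V ↔ G ∈ P := fun G => by
    show algebraMap A' V0 (φ' G) ∈ IsLocalRing.maximalIdeal V0 ↔ _
    rw [IsLocalization.AtPrime.to_map_mem_maximal_iff V0 q, ← hcomap]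
    rfl
  let ψ : IsLocalRing.ResidueField A →+* IsLocalRing.ResidueField V :=
    Ideal.Quotient.lift (IsLocalRing.maximalIdeal A) ((IsLocalRing.residue V).comp (algebraMap A V))
      (fun a ha => by
        rw [RingHom.comp_apply, IsLocalRing.residue_eq_zero_iff, ← hWC, hWmem]
        exact Ideal.mem_map_of_mem _ ha)
  refine ⟨ψ, RingHom.ext fun a => rfl, ?_⟩
  letI := ψ.toAlgebra
  let t : ULift.{u} (Fin n) → IsLocalRing.ResidueField V := fun i =>
    IsLocalRing.residue V (W (MvPolynomial.X i.down))
  have hev : ∀ G, IsLocalRing.residue V (W G) =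
      MvPolynomial.aeval t (MvPolynomial.rename ULift.up (G.map (IsLocalRing.residue A))) := by
    intro G
    rw [MvPolynomial.aeval_rename, MvPolynomial.aeval_def, MvPolynomial.eval₂_map]
    refine RingHom.congr_fun (show (IsLocalRing.residue V).comp W = MvPolynomial.eval₂Hom _ _ from
      MvPolynomial.ringHom_ext (fun a => ?_) (fun i => ?_)) G
    · rw [RingHom.comp_apply, MvPolynomial.eval₂Hom_C, hWC]; rfl
    · rw [RingHom.comp_apply, MvPolynomial.eval₂Hom_X']; rfl
  refine ⟨ULift.{u} (Fin n), t, ?_, ?_⟩
  · rw [algebraicIndependent_iff]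
    intro g hg
    obtain ⟨G, hG⟩ := MvPolynomial.map_surjective (IsLocalRing.residue A) IsLocalRing.residue_surjective
      (MvPolynomial.rename ULift.down g)
    have h1 := hev G
    rw [hG, MvPolynomial.rename_rename, show (ULift.up ∘ ULift.down : ULift.{u} (Fin n) → _) = id from rfl,
      MvPolynomial.rename_id_apply, hg, IsLocalRing.residue_eq_zero_iff, hWmem] at h1
    have h2 : MvPolynomial.rename ULift.down g = 0 := by
      rw [← hG, ← RingHom.mem_ker, MvPolynomial.ker_map, IsLocalRing.ker_residue]
      exact h1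
    exact MvPolynomial.rename_injective _ ULift.down_injective (h2.trans (map_zero _).symm)
  · rw [eq_top_iff]
    intro z _
    obtain ⟨z, rfl⟩ := IsLocalRing.residue_surjective z
    obtain ⟨a, b, rfl⟩ := IsLocalization.exists_mk'_eq q.primeCompl (show V0 from z)
    obtain ⟨Ga, rfl⟩ := hφ' a
    obtain ⟨Gb, hGb⟩ := hφ' b.1
    have hb : IsLocalRing.residue V (W Gb) ≠ 0 := by
      rw [Ne, IsLocalRing.residue_eq_zero_iff, hWmem, ← hcomap, Ideal.mem_comap, hGb]
      exact b.2
    have hmul : IsLocalRing.residue V (show V from IsLocalization.mk' V0 (φ' Ga) b) *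
        IsLocalRing.residue V (W Gb) = IsLocalRing.residue V (W Ga) := by
      refine (map_mul (IsLocalRing.residue V) _ _).symm.trans (congrArg _ ?_)
      show (IsLocalization.mk' V0 (φ' Ga) b) * algebraMap A' V0 (φ' Gb) = algebraMap A' V0 (φ' Ga)
      rw [hGb, IsLocalization.mk'_spec]
    have hadj : ∀ G, IsLocalRing.residue V (W G) ∈
        IntermediateField.adjoin (IsLocalRing.ResidueField A) (Set.range t) := fun G => by
      rw [hev]
      exact IntermediateField.algebra_adjoin_le_adjoin _ _
        ((Algebra.adjoin_range_eq_range_aeval (IsLocalRing.ResidueField A) t).ge ⟨_, rfl⟩)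
    rw [eq_div_of_mul_eq hb hmul] 
    exact div_mem (hadj Ga) (hadj Gb)

end Groth.Agent.S4947
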