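import Groth.Statements.S4950
import Groth.Agent.ProperConnLib.Main
import Mathlib

set_option autoImplicit false
open CategoryTheory AlgebraicGeometry
universe u v w
open EGA43

namespace Groth.Agent.S4950

open CategoryTheory.Limits in
/-- Let Y be a locally Noetherian scheme, f : X ⟶ Y a separated quasi-finite morphism, y a point of Y
and y' a generization of y distinct from y; write n(z) for the geometric number of points of the
fibre X_z. Then there are a discrete valuation ring A and a morphism g : Spec A ⟶ Y mapping the
closed point to y and the generic point to y', such that n(y) is the number of points of the fibre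
of X ×_Y Spec A ⟶ Spec A over the closed point and n(y') is the number of points of its fibre over
the generic point. -/
theorem result {X Y : Scheme.{u}} [IsLocallyNoetherian Y] (f : X ⟶ Y)
    [IsSeparated f] [LocallyQuasiFinite f] [LocallyOfFiniteType f] [QuasiCompact f] (y y' : Y) (hne : y' ≠ y)
    (hgen : y' ⤳ y) :
    ∃ (A : Type u) (_ : CommRing A) (_ : IsDomain A) (_ : IsDiscreteValuationRing A) (g : Spec (CommRingCat.of A) ⟶ Y),
      g.base (IsLocalRing.closedPoint A) = y ∧ g.base (genericPoint (Spec (CommRingCat.of A))) = y' ∧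
      MoreMor.nGeomConnComp f y = ENat.card ↥((pullback.snd f g).fiber (IsLocalRing.closedPoint A)) ∧
      MoreMor.nGeomConnComp f y' = ENat.card ↥((pullback.snd f g).fiber (genericPoint (Spec (CommRingCat.of A)))) := by
  have hdisc : ∀ {P S : Scheme.{u}} (b : P ⟶ S) [LocallyQuasiFinite b] (s : S),
      ENat.card ↥(b.fiber s) = ENat.card (_root_.ConnectedComponents ↥(b.base ⁻¹' {s})) := fun b _ s => by
    rw [← ProperConnLib.card_components_congr (b.fiberHomeo s)]
    exact ENat.card_congr (Equiv.ofBijective (fun x : ↥(b.fiber s) => ConnectedComponents.mk x)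
      ⟨fun p q h => by
        rw [ConnectedComponents.coe_eq_coe] at h
        have : p ∈ connectedComponent q := h ▸ mem_connectedComponent
        rwa [connectedComponent_eq_singleton, Set.mem_singleton_iff] at this,
      ConnectedComponents.surjective_coe⟩)
  let q : Spec (CommRingCat.of (Y.residueField y')) ⟶ Y := Y.fromSpecResidueField y'
  let f₀ : Limits.pullback f q ⟶ Spec (CommRingCat.of (Y.residueField y')) := Limits.pullback.snd f q
  haveI : LocallyOfFiniteType f₀ := MorphismProperty.pullback_snd _ _ inferInstance
  haveI : QuasiCompact f₀ := MorphismProperty.pullback_snd _ _ inferInstance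
  obtain ⟨F, _, hle⟩ := ProperConnLib.exists_finite_level f₀
  haveI : Module.Finite (Y.residueField y') F := ‹FiniteDimensional (Y.residueField y') F›
  obtain ⟨A, h₀, hA, hcl, hgenA⟩ := ProperConnLib.exists_dvr_extension hgen hne.symm F
  haveI := hA
  let K := AlgebraicClosure (IsLocalRing.ResidueField A)
  letI : Algebra A K := ((algebraMap (IsLocalRing.ResidueField A) K).comp (IsLocalRing.residue A)).toAlgebra
  have hk : RingHom.ker (algebraMap A K) = IsLocalRing.maximalIdeal A := by
    ext a
    show algebraMap (IsLocalRing.ResidueField A) K (IsLocalRing.residue A a) = 0 ↔ _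
    rw [map_eq_zero_iff _ (algebraMap (IsLocalRing.ResidueField A) K).injective, IsLocalRing.residue_eq_zero_iff]
  obtain ⟨Λ, _, _, _, _, ψ, hcomplete, hloc, hinj, hsurj, hker⟩ := UOpenLib.exists_complete_dvr_residue K hk
  haveI := hloc
  let j : Spec (CommRingCat.of Λ) ⟶ Spec (CommRingCat.of A) := Spec.map (CommRingCat.ofHom (algebraMap A Λ))
  let h := j ≫ h₀
  have hhs : h (IsLocalRing.closedPoint Λ) = y :=
    (Scheme.Hom.comp_apply j h₀ _).trans ((congrArg h₀ (IsLocalRing.comap_closedPoint (algebraMap A Λ))).trans hcl)
  let p₀ : Spec (CommRingCat.of F) ⟶ Spec (CommRingCat.of A) := Spec.map (CommRingCat.ofHom A.subtype)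
  haveI : IsFractionRing A F := inferInstance
  haveI : IsPreimmersion p₀ := IsPreimmersion.of_isLocalization (R := A) (S := F) (nonZeroDivisors A)
  have hη₀ : p₀ (IsLocalRing.closedPoint F) = ProperConnLib.genPt A := by
    refine PrimeSpectrum.ext ?_
    show Ideal.comap A.subtype (IsLocalRing.maximalIdeal F) = ⊥
    rw [IsLocalRing.maximalIdeal_eq_bot, ← RingHom.ker_eq_comap_bot]
    exact (RingHom.injective_iff_ker_eq_bot _).mp Subtype.val_injective
  have hjη : j (ProperConnLib.genPt Λ) = ProperConnLib.genPt A :=
    PrimeSpectrum.ext ((RingHom.ker_eq_comap_bot _).symm.trans ((RingHom.injective_iff_ker_eq_bot _).mp hinj))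
  have hgA : h₀ (ProperConnLib.genPt A) = y' :=
    (congrArg h₀ hη₀).symm.trans ((Scheme.Hom.comp_apply p₀ h₀ _).symm.trans
      ((congr($(hgenA) (IsLocalRing.closedPoint F))).trans (Y.fromSpecResidueField_apply y' _)))
  have hhη : h (ProperConnLib.genPt Λ) = y' :=
    (Scheme.Hom.comp_apply j h₀ _).trans ((congrArg h₀ hjη).trans hgA)
  have hgp : genericPoint (Spec (CommRingCat.of Λ)) = ProperConnLib.genPt Λ :=
    (genericPoint_spec (Spec (CommRingCat.of Λ))).eq (by
      show closure {ProperConnLib.genPt Λ} = Set.univ
      exact Set.eq_univ_of_forall fun z =>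
        ((PrimeSpectrum.le_iff_specializes (R := Λ) (ProperConnLib.genPt Λ) z).mp bot_le).mem_closure)
  refine ⟨Λ, inferInstance, inferInstance, inferInstance, h, hhs, hgp ▸ hhη, ?_, ?_⟩
  · rw [hdisc]
    let p : Spec (CommRingCat.of K) ⟶ Spec (CommRingCat.of Λ) := Spec.map (CommRingCat.ofHom ψ.toRingHom)
    haveI : IsClosedImmersion p := IsClosedImmersion.spec_of_surjective _ hsurj
    have hp : p (IsLocalRing.closedPoint K) = IsLocalRing.closedPoint Λ := by
      refine PrimeSpectrum.ext ?_
      show Ideal.comap ψ.toRingHom (IsLocalRing.maximalIdeal K) = IsLocalRing.maximalIdeal Λ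
      rw [IsLocalRing.maximalIdeal_eq_bot, ← RingHom.ker_eq_comap_bot]
      exact hker
    exact (((GISpreadLib.sameComp_geomFiber f K (p ≫ h) y
      ((Scheme.Hom.comp_apply p h _).trans ((congrArg h hp).trans hhs))).2).symm.trans
      (ProperConnLib.card_components_preimage_eq f h p).symm).trans
      (congrArg (fun s => ENat.card (_root_.ConnectedComponents ↥((Limits.pullback.snd f h) ⁻¹' {s}))) hp)
  · rw [hgp, hdisc]
    refine le_antisymm ?_ ((ProperConnLib.card_components_preimage_le f h _).trans (le_of_eq (congrArg _ hhη)))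
    rw [show MoreMor.nGeomConnComp f y' =
        ENat.card (_root_.ConnectedComponents ↥(GISpreadLib.BX f₀ (AlgebraicClosure (Y.residueField y')))) from
      ((GISpreadLib.sameComp_BX_geomFiber (R := (Y.residueField y' : Type u)) f q (AlgebraicClosure (Y.residueField y')) y'
        (Y.fromSpecResidueField_apply y' _)).2).symm]
    refine hle.trans ?_
    have hP : ENat.card (_root_.ConnectedComponents ↥(GISpreadLib.BX f₀ F)) =
        ENat.card (_root_.ConnectedComponents ↥((Limits.pullback.snd f h₀) ⁻¹' {ProperConnLib.genPt A})) := by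
      rw [← hη₀, ProperConnLib.card_components_preimage_eq f h₀ p₀]
      exact (GISpreadLib.sameComp_of_iso (Limits.pullbackLeftPullbackSndIso f q _ ≪≫ Limits.pullback.congrHom rfl hgenA.symm)).2
    rw [hP]
    let m : Limits.pullback f h ⟶ Limits.pullback f h₀ :=
      Limits.pullback.lift (Limits.pullback.fst f h) (Limits.pullback.snd f h ≫ j)
        (by rw [Category.assoc]; exact Limits.pullback.condition)
    have hm : IsPullback m (Limits.pullback.snd f h) (Limits.pullback.snd f h₀) j := by
      refine IsPullback.of_right ?_ (Limits.pullback.lift_snd _ _ _) (IsPullback.of_hasPullback f h₀)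
      rw [Limits.pullback.lift_fst]
      exact IsPullback.of_hasPullback f h
    refine ProperConnLib.card_components_le_of_surjective
      (m := fun z : ↥((Limits.pullback.snd f h) ⁻¹' {ProperConnLib.genPt Λ}) =>
        (⟨m z.1, ((Scheme.Hom.comp_apply m _ z.1).symm.trans ((congr($(hm.w) z.1)).trans
          ((Scheme.Hom.comp_apply _ j z.1).trans ((congrArg j z.2).trans hjη))) :)⟩ :
          ↥((Limits.pullback.snd f h₀) ⁻¹' {ProperConnLib.genPt A})))
      ((m.continuous.comp continuous_subtype_val).subtype_mk _) fun v => ?_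
    obtain ⟨z, hz1, hz2⟩ := UOpenLib.image_fst_snd hm v.1 (ProperConnLib.genPt Λ) (v.2.trans hjη.symm)
    exact ⟨⟨z, hz2⟩, Subtype.ext hz1⟩

end Groth.Agent.S4950
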