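import Groth.Statements.S4951
import Mathlib.Data.Set.Card
import Mathlib.Topology.Sober
import Mathlib.Topology.NoetherianSpace


-- import your own Groth.Agent.* helpers here

set_option autoImplicit false
universe u
open EGA43

namespace Groth.Agent.S4951

/-- Let X be a locally Noetherian topological space in which every irreducible closed subset has a
unique generic point (X quasi-sober and T₀), and Z a closed nowhere dense subset of X such that for
every point x of Z the set of generizations of x distinct from x is connected (possibly empty). If X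
is connected, then X − Z is connected. (Uniqueness of generic points, automatic for the underlying
space of a scheme, is needed: in the four-point space {u, v, z₁, z₂} whose open sets are ∅, {u},
{v}, {u, v} and the whole space, the closed nowhere dense set Z = {z₁, z₂} satisfies the hypothesis,
since z₂ is a generization of z₁ and conversely, yet X − Z = {u, v} is not connected.) -/
theorem result {X : Type u} [TopologicalSpace X]
    [QuasiSober X] [T0Space X] (hloc : ∀ x : X, ∃ U ∈ nhds x, TopologicalSpace.NoetherianSpace ↥U) [ConnectedSpace X]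
    (Z : Set X) (hZ : IsClosed Z) (hZn : IsNowhereDense Z)
    (hgen : ∀ x ∈ Z, IsPreconnected ({x' : X | x' ⤳ x} \ {x})) :
    IsConnected Zᶜ := by
  classical
  have hd : Dense Zᶜ := interior_eq_empty_iff_dense_compl.1 (hZ.closure_eq ▸ hZn)
  -- finitely many generic points for the closed sets near a point
  have hgen_pts : ∀ (W : Set X), IsClosed W → ∀ x : X, ∀ U₀ : Set X, IsOpen U₀ → x ∈ U₀ →
      TopologicalSpace.NoetherianSpace U₀ → ∃ G : Set X, G.Finite ∧ G ⊆ W ∩ U₀ ∧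
        ∀ y ∈ W ∩ U₀, ∃ η ∈ G, η ⤳ y ∧ ∀ V : Set X, IsOpen V → y ∈ closure (V ∩ W ∩ U₀) →
          ∃ η' ∈ G, η' ∈ V ∧ η' ⤳ y := by
    intro W hW x U₀ hU₀ hx hN
    obtain ⟨S, hSf, hSc, hSi, hSu⟩ := TopologicalSpace.NoetherianSpace.exists_finite_set_isClosed_irreducible
      (α := U₀) (hW.preimage continuous_subtype_val)
    have hT : ∀ t ∈ S, ∃ η, IsGenericPoint η (closure (Subtype.val '' t)) := fun t ht =>
      QuasiSober.sober ((hSi t ht).image _ continuous_subtype_val.continuousOn).closure isClosed_closure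
    choose! η hη using hT
    have hmem : ∀ t ∈ S, η t ∈ W ∩ U₀ := by
      intro t ht
      obtain ⟨a, ha⟩ := (hSi t ht).nonempty
      have hsp : η t ⤳ (a : X) := (hη t ht).specializes (subset_closure ⟨a, ha, rfl⟩)
      refine ⟨?_, hsp.mem_open hU₀ a.2⟩
      have : closure (Subtype.val '' t) ⊆ W := closure_minimal (by
        rintro _ ⟨b, hb, rfl⟩
        have : b ∈ ⋃₀ S := ⟨t, ht, hb⟩
        rwa [← hSu] at this) hW
      exact this (hη t ht).mem
    refine ⟨η '' S, hSf.image η, by rintro _ ⟨t, ht, rfl⟩; exact hmem t ht, fun y hy => ?_⟩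
    have hyS : (⟨y, hy.2⟩ : U₀) ∈ ⋃₀ S := hSu ▸ (show (⟨y, hy.2⟩ : U₀) ∈ Subtype.val ⁻¹' W from hy.1)
    obtain ⟨t, ht, hyt⟩ := hyS
    refine ⟨η t, ⟨t, ht, rfl⟩, (hη t ht).specializes (subset_closure ⟨_, hyt, rfl⟩), fun V hV hyV => ?_⟩
    have hcov : V ∩ W ∩ U₀ ⊆ ⋃ t ∈ S, V ∩ Subtype.val '' t := by
      rintro z ⟨⟨hzV, hzW⟩, hzU⟩
      obtain ⟨t', ht', hzt⟩ : (⟨z, hzU⟩ : U₀) ∈ ⋃₀ S := hSu ▸ (show (⟨z, hzU⟩ : U₀) ∈ Subtype.val ⁻¹' W from hzW)
      exact Set.mem_iUnion₂.2 ⟨t', ht', hzV, ⟨_, hzt, rfl⟩⟩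
    have := closure_mono hcov hyV
    rw [hSf.closure_biUnion] at this
    obtain ⟨t', ht', hy'⟩ := Set.mem_iUnion₂.1 this
    obtain ⟨z, hzV, hzt⟩ : (V ∩ Subtype.val '' t').Nonempty := closure_nonempty_iff.1 ⟨y, hy'⟩
    exact ⟨η t', ⟨t', ht', rfl⟩, ((hη t' ht').mem_open_set_iff hV).2 ⟨z, subset_closure hzt, hzV⟩,
      (hη t' ht').specializes (closure_mono Set.inter_subset_right hy')⟩
  refine ⟨hd.nonempty, fun U V hU hV hcov hnU hnV => ?_⟩
  by_contra hne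
  rw [Set.not_nonempty_iff_eq_empty] at hne
  let A := closure (U ∩ Zᶜ)
  let B := closure (V ∩ Zᶜ)
  have hAB : A ∪ B = Set.univ := by
    rw [← closure_union, ← Set.union_inter_distrib_right, Set.inter_eq_right.2 hcov, hd.closure_eq]
  have hnA : A.Nonempty := by obtain ⟨a, ha⟩ := hnU; exact ⟨a, subset_closure ⟨ha.2, ha.1⟩⟩
  have hnB : B.Nonempty := by obtain ⟨a, ha⟩ := hnV; exact ⟨a, subset_closure ⟨ha.2, ha.1⟩⟩
  obtain ⟨x₀, -, hx₀⟩ := isPreconnected_closed_iff.1 isPreconnected_univ A B isClosed_closure isClosed_closure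
    hAB.ge ⟨_, trivial, hnA.some_mem⟩ ⟨_, trivial, hnB.some_mem⟩
  obtain ⟨U₁, hU₁, hN⟩ := hloc x₀
  obtain ⟨U₀, hU₀s, hU₀, hxU₀⟩ := mem_nhds_iff.1 hU₁
  have hN₀ : TopologicalSpace.NoetherianSpace U₀ := TopologicalSpace.NoetherianSpace.of_subset hU₀s
  -- a generization-maximal point of `A ∩ B`
  obtain ⟨G, hGf, hGs, hG⟩ := hgen_pts (A ∩ B) (isClosed_closure.inter isClosed_closure) x₀ U₀ hU₀ hxU₀ hN₀
  obtain ⟨g₀, hg₀, -⟩ := hG x₀ ⟨hx₀, hxU₀⟩
  obtain ⟨x, hxG, hxmax⟩ := hGf.exists_maximalFor (fun g => {h ∈ G | g ⤳ h}.ncard) _ ⟨g₀, hg₀⟩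
  obtain ⟨hxW, hxU⟩ := hGs hxG
  have hmax : ∀ y ∈ A ∩ B, y ⤳ x → y = x := by
    intro y hy hyx
    obtain ⟨h, hh, hhy, -⟩ := hG y ⟨hy, hyx.mem_open hU₀ hxU⟩
    have hhx : h ⤳ x := hhy.trans hyx
    suffices h = x by subst this; exact (hyx.antisymm hhy).eq
    by_contra hne'
    have hlt : {k ∈ G | x ⤳ k}.ncard < {k ∈ G | h ⤳ k}.ncard := by
      refine Set.ncard_lt_ncard ⟨fun k hk => ⟨hk.1, hhx.trans hk.2⟩, fun hsub => hne' ?_⟩
        (hGf.subset (Set.sep_subset _ _))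
      exact ((hsub ⟨hh, specializes_rfl⟩).2.antisymm hhx).eq.symm
    exact absurd (hxmax hh hlt.le) hlt.not_ge
  have hxZ : x ∈ Z := by
    by_contra hxZ
    rcases hcov hxZ with h | h
    · have := mem_closure_iff.1 hxW.2 (U ∩ Zᶜ) (hU.inter hZ.isOpen_compl) ⟨h, hxZ⟩
      obtain ⟨z, hz, hz'⟩ := this
      exact Set.notMem_empty z (hne ▸ ⟨hz.2, hz.1, hz'.1⟩)
    · have := mem_closure_iff.1 hxW.1 (V ∩ Zᶜ) (hV.inter hZ.isOpen_compl) ⟨h, hxZ⟩
      obtain ⟨z, hz, hz'⟩ := this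
      exact Set.notMem_empty z (hne ▸ ⟨hz.2, hz'.1, hz.1⟩)
  have hside : ∀ O : Set X, IsOpen O → x ∈ closure (O ∩ Zᶜ) → ∃ y ∈ O ∩ Zᶜ, y ⤳ x := by
    intro O hO hx
    obtain ⟨G', -, -, hG'⟩ := hgen_pts _ (isClosed_closure (s := O ∩ Zᶜ)) x U₀ hU₀ hxU hN₀
    obtain ⟨η, -, -, hη⟩ := hG' x ⟨hx, hxU⟩
    obtain ⟨η', -, hη', hsp⟩ := hη (O ∩ Zᶜ) (hO.inter hZ.isOpen_compl) (by
      rw [Set.inter_eq_left.2 subset_closure, Set.inter_comm]
      exact hU₀.inter_closure ⟨hxU, hx⟩)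
    exact ⟨η', hη', hsp⟩
  obtain ⟨a, ha, hax⟩ := hside U hU hxW.1
  obtain ⟨b, hb, hbx⟩ := hside V hV hxW.2
  obtain ⟨y, ⟨hyx, hyne⟩, hy⟩ := isPreconnected_closed_iff.1 (hgen x hxZ) A B isClosed_closure isClosed_closure
    (fun _ _ => hAB ▸ trivial) ⟨a, ⟨hax, fun e => ha.2 (e ▸ hxZ)⟩, subset_closure ha⟩
    ⟨b, ⟨hbx, fun e => hb.2 (e ▸ hxZ)⟩, subset_closure hb⟩
  exact hyne (hmax y hy hyx)

end Groth.Agent.S4951
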