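import Groth.Statements.S4958
import Groth.Agent.EquidimLib.OpenComponent
-- import your own Groth.Agent.* helpers here

set_option autoImplicit false
open CategoryTheory AlgebraicGeometry
universe u v w
open EGA43

namespace Groth.Agent.S4958

/-- Let Y be an irreducible locally Noetherian scheme with generic point η, f : X ⟶ Y a morphism of
finite type and y a point of Y whose local ring O_{Y,y} is universally catenary. Suppose that dim
O_{X,z} = dim O_{Y,y} for every maximal point z of the fibre X_y. For z' in Y let E(z') be the set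
of dimensions of the irreducible components of X_{z'}. Then E(y) ⊆ E(η), and hence dim X_y ≤ dim
X_η. -/
theorem result {X Y : Scheme.{u}} [IrreducibleSpace Y]
    [IsLocallyNoetherian Y] (f : X ⟶ Y) [LocallyOfFiniteType f] [QuasiCompact f] (y : Y)
    (hcat : CAlg.IsUniversallyCatenary (Y.presheaf.stalk y))
    (hb : ∀ z : X, f.base z = y → (∀ z' : X, f.base z' = y → z ∈ closure {z'} → z' = z) →
      ringKrullDim (X.presheaf.stalk z) = ringKrullDim (Y.presheaf.stalk y)) :
    letI E : Y → Set (WithBot ℕ∞) := fun z =>
      (fun Z : Set ↥(f.fiber z) => topologicalKrullDim ↥Z) '' irreducibleComponents ↥(f.fiber z)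
    E y ⊆ E (genericPoint Y) ∧
      topologicalKrullDim ↥(f.fiber y) ≤ topologicalKrullDim ↥(f.fiber (genericPoint Y)) := by
  have key : ∀ W ∈ irreducibleComponents ↥(f.fiber y), ∃ W' ∈ irreducibleComponents ↥(f.fiber (genericPoint Y)),
      topologicalKrullDim ↥W' = topologicalKrullDim ↥W := by
    intro W hW
    obtain ⟨w, hw⟩ := QuasiSober.sober hW.1 (isClosed_of_mem_irreducibleComponents _ hW)
    obtain rfl : W = closure {w} := hw.def.symm
    let z := (f.fiberι y).base w
    have hzy : f.base z = y := by
      have h := Set.mem_range_self (f := (f.fiberι y).base) w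
      rw [f.range_fiberι] at h
      exact h
    have hmax : EquidimLib.IsFibreMax f z := UOpenLib.max_of_closure_mem f hW
    have hdim := hb z hzy fun z' hz' => hmax z' (hz'.trans hzy.symm)
    obtain ⟨c, hc⟩ := UOpenLib.exists_fibreClosureDim_eq_nat f z
    have h0 : ringKrullDim ((f.fiber (f.base z)).presheaf.stalk (f.asFiber z)) = 0 := by
      have h := EquidimLib.fibreDimAt_eq_add_stalk f z
      rw [UOpenLib.fibreDimAt_eq_of_max f hmax, hc, add_comm] at h
      refine (EquidimLib.withBot_add_natCast_cancel (c := c) ?_).symm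
      rwa [zero_add]
    obtain ⟨ξ, hξ, -, hη, hd, -⟩ := EquidimLib.component_of_dim_eq f z h0 (hdim.trans (by rw [hzy]))
    rw [UOpenLib.fibreDimAt_eq_of_max f hmax, UOpenLib.fibreClosureDim_fiberι] at hd
    rw [← hη]
    exact ⟨_, UOpenLib.closure_asFiber_mem f (EquidimLib.isFibreMax_of_max f hξ), hd⟩
  refine ⟨?_, EquidimLib.topologicalKrullDim_le_of_components fun W hW => ?_⟩
  · rintro _ ⟨W, hW, rfl⟩
    obtain ⟨W', hW', e⟩ := key W hW
    exact ⟨W', hW', e⟩
  · obtain ⟨W', -, e⟩ := key W hW
    rw [← e]
    exact topologicalKrullDim_subspace_le _ W'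

end Groth.Agent.S4958
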