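import Groth.Statements.S4959
import Mathlib

set_option autoImplicit false
open CategoryTheory AlgebraicGeometry
universe u v w
open EGA43

namespace Groth.Agent.S4959

open CategoryTheory.Limits in
/-- Let f : X ⟶ Y be a morphism of schemes and g : Y' ⟶ Y a surjective morphism which is either proper,
or flat and quasi-compact. If the base change f' : X ×_Y Y' ⟶ Y' is universally submersive (all of
its base changes are topological quotient maps), then f is universally submersive. -/
theorem result {X Y Y' : Scheme.{u}} (f : X ⟶ Y) (g : Y' ⟶ Y) [Surjective g]
    (hg : IsProper g ∨ (Flat g ∧ QuasiCompact g))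
    (h : MorphismProperty.universally (topologically @Topology.IsQuotientMap) (pullback.snd f g)) :
    MorphismProperty.universally (topologically @Topology.IsQuotientMap) f := by
  intro X' T i₁ i₂ f' H
  let a : pullback i₂ g ⟶ T := pullback.fst i₂ g
  let b : pullback i₂ g ⟶ Y' := pullback.snd i₂ g
  have ha : Topology.IsQuotientMap a.base := by
    have hs : Surjective a := inferInstance
    obtain hg | ⟨hg, hg'⟩ := hg
    · have : IsProper a := inferInstance
      exact IsClosedMap.isQuotientMap a.isClosedMap a.continuous a.surjective
    · exact Flat.isQuotientMap_of_surjective a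
  -- the pulled back morphism over `T ×_Y Y'`
  let P := pullback f' a
  have hbig : IsPullback (pullback.snd f' a) (pullback.fst f' a ≫ i₁) (b ≫ g) f := by
    have h1 := (IsPullback.of_hasPullback f' a).flip.paste_vert H
    rwa [show a ≫ i₂ = b ≫ g from pullback.condition] at h1
  have hsq : IsPullback (pullback.snd f g) (pullback.fst f g) g f :=
    (IsPullback.of_hasPullback f g).flip
  have hsmall := IsPullback.of_bot' hbig hsq
  have hq : Topology.IsQuotientMap (pullback.snd f' a).base := h _ _ _ hsmall
  have hcomp : Topology.IsQuotientMap (a.base ∘ (pullback.snd f' a).base) := ha.comp hq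
  have e : (a.base ∘ (pullback.snd f' a).base : P → T) = f'.base ∘ (pullback.fst f' a).base := by
    funext x
    have := congrArg (fun φ : P ⟶ T => φ.base x) (pullback.condition (f := f') (g := a))
    simpa using this.symm
  rw [e] at hcomp
  exact hcomp.of_comp (pullback.fst f' a).continuous f'.continuous

end Groth.Agent.S4959
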