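import Groth.Statements.S4966
import Mathlib
import Groth.Agent.DepthLib.CompDimsExact
-- import your own Groth.Agent.* helpers here

set_option autoImplicit false
open CategoryTheory AlgebraicGeometry
universe u v w
open EGA43

namespace Groth.Agent.S4966

/-- Let f : X ⟶ Y be a proper morphism of finite presentation and F a finitely presented O_X-module
which is f-flat; for y in Y write F_y for the restriction of F to the fibre X_y. Let Φ be a finite
set of natural numbers. Then the set of points y of Y such that F_y has no embedded associated point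
and the set of dimensions of the irreducible components of Supp(F_y) is exactly Φ is open in Y. -/
theorem result {X Y : Scheme.{u}} (f : X ⟶ Y) [IsProper f]
    [LocallyOfFinitePresentation f] (F : X.Modules) (hF : CohB1.IsFP F) (hflat : FlatMod.IsFlatOver f F) (Φ : Finset ℕ) :
    IsOpen {y : Y | AssSch.NoEmbedded ((Scheme.Modules.pullback (f.fiberι y)).obj F) ∧
      (fun Z : Set ↥{z : ↥(f.fiber y) | Nontrivial (((Scheme.Modules.pullback (f.fiberι y)).obj F).presheaf.stalk z)} => topologicalKrullDim ↥Z) '' irreducibleComponents ↥{z : ↥(f.fiber y) | Nontrivial (((Scheme.Modules.pullback (f.fiberι y)).obj F).presheaf.stalk z)} =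
        (fun n : ℕ => (n : WithBot ℕ∞)) '' (Φ : Set ℕ)} := by
  haveI := hF
  haveI : Coh.IsQCoh F := inferInstance
  have hFT : CohB1.IsFT F := inferInstance
  let O₁ : Set Y := {y | ∀ w : ↥(f.fiber y), ∀ z ∈ AssSch.Ass ((Scheme.Modules.pullback (f.fiberι y)).obj F), w ∈ closure {z} →
    ∀ z' ∈ AssSch.Ass ((Scheme.Modules.pullback (f.fiberι y)).obj F), z ∈ closure {z'} → z' = z}
  let O₂ : Set Y := {y | ∀ w : ↥(f.fiber y), ∀ z ∈ AssSch.Ass ((Scheme.Modules.pullback (f.fiberι y)).obj F), w ∈ closure {z} →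
    ∃ n ∈ Φ, topologicalKrullDim ↥(closure ({z} : Set ↥(f.fiber y))) = (n : WithBot ℕ∞)}
  have h₁ : IsOpen O₁ := DepthLib.isOpen_forall_fiber f (fun y w => ∀ z ∈ AssSch.Ass ((Scheme.Modules.pullback (f.fiberι y)).obj F), w ∈ closure {z} →
    ∀ z' ∈ AssSch.Ass ((Scheme.Modules.pullback (f.fiberι y)).obj F), z ∈ closure {z'} → z' = z) (by
      have h := DepthLib.isOpen_hasSk_mod f F hF hFT hflat 1
      simp only [← DepthLib.noEmbedded_at_iff_hasS1 f F hFT] at h
      exact h)
  have h₂ : IsOpen O₂ := DepthLib.isOpen_forall_fiber f _ (DepthLib.isOpen_assDims_mem f F hF hFT hflat Φ)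
  let O₃ : ℕ → Set Y := fun n => {y : Y | ∃ Z ∈ irreducibleComponents ↥{z : ↥(f.fiber y) | Nontrivial (((Scheme.Modules.pullback (f.fiberι y)).obj F).presheaf.stalk z)},
      topologicalKrullDim ↥Z = (n : WithBot ℕ∞)}
  convert h₁.inter (h₂.inter (isOpen_biInter_finset (s := Φ) fun n _ =>
    DepthLib.isOpen_exists_component_dim f F hF hFT hflat n)) using 1
  ext y
  simp only [Set.mem_setOf_eq, Set.mem_inter_iff, Set.mem_iInter]
  have hne : AssSch.NoEmbedded ((Scheme.Modules.pullback (f.fiberι y)).obj F) ↔ y ∈ O₁ :=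
    ⟨fun h w z hz _ z' hz' hzz' => (h z hz z' hz' (specializes_iff_mem_closure.2 hzz')).symm,
      fun h z hz z' hz' hsp => (h z z hz (subset_closure rfl) z' hz' hsp.mem_closure).symm⟩
  rw [← hne]
  refine and_congr_right fun hnoemb => ?_
  have hS1 := (DepthLib.noEmbedded_fibre_iff f F hFT y).1 hnoemb
  have hiff : ∀ n : ℕ, y ∈ O₃ n ↔ ∃ z ∈ AssSch.Ass ((Scheme.Modules.pullback (f.fiberι y)).obj F),
      topologicalKrullDim ↥(closure ({z} : Set ↥(f.fiber y))) = (n : WithBot ℕ∞) := fun n =>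
    (DepthLib.exists_component_dim_fibre_iff f F hFT y n).trans (DepthLib.componentDims_iff_assDims f F hFT y hS1 n)
  constructor
  · intro heq
    refine ⟨fun w z hz _ => ?_, fun n hn => heq.ge ⟨n, hn, rfl⟩⟩
    obtain ⟨m, hm⟩ : ∃ m : ℕ, topologicalKrullDim ↥(closure ({z} : Set ↥(f.fiber y))) = (m : WithBot ℕ∞) := by
      have hy : f (f.fiberι y z) = y := (f.range_fiberι y).le ⟨z, rfl⟩
      generalize hx : f.fiberι y z = v at hy
      subst hy
      obtain rfl : z = f.asFiber v := (f.fiberι (f v)).isEmbedding.injective (by rw [hx, f.fiberι_asFiber])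
      exact UOpenLib.exists_fibreClosureDim_eq_nat f v
    obtain ⟨Z, hZ, hZd⟩ := (hiff m).2 ⟨z, hz, hm⟩
    obtain ⟨n, hn, hnm⟩ := heq.le ⟨Z, hZ, rfl⟩
    exact ⟨n, hn, hm.trans (hZd.symm.trans hnm.symm)⟩
  · rintro ⟨ha, hb⟩
    refine Set.Subset.antisymm ?_ ?_
    · rintro _ ⟨Z, hZ, rfl⟩
      obtain ⟨m, hm⟩ : ∃ m : ℕ, topologicalKrullDim ↥Z = (m : WithBot ℕ∞) := by
        haveI : Coh.IsQCoh F := inferInstance
        obtain ⟨w, -, -, hwd⟩ := (DepthLib.exists_component_dim_iff _ (by
          rw [show {z : ↥(f.fiber y) | Nontrivial (((Scheme.Modules.pullback (f.fiberι y)).obj F).presheaf.stalk z)} =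
            (f.fiberι y).base ⁻¹' CohB1.support F from Set.ext fun w => DepthLib.supportDim_fibre_ne_bot_iff f F hFT y w]
          exact (QCohLib.isClosed_support F hFT).preimage (f.fiberι y).continuous) _).1 ⟨Z, hZ, rfl⟩
        rw [← hwd]
        have hy : f (f.fiberι y w) = y := (f.range_fiberι y).le ⟨w, rfl⟩
        generalize hx : f.fiberι y w = v at hy
        subst hy
        obtain rfl : w = f.asFiber v := (f.fiberι (f v)).isEmbedding.injective (by rw [hx, f.fiberι_asFiber])
        exact UOpenLib.exists_fibreClosureDim_eq_nat f v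
      obtain ⟨z, hz, hzd⟩ := (hiff m).1 ⟨Z, hZ, hm⟩
      obtain ⟨n, hn, hnd⟩ := ha z z hz (subset_closure rfl)
      exact ⟨n, hn, (hnd.symm.trans hzd).trans hm.symm⟩
    · rintro _ ⟨n, hn, rfl⟩
      exact hb n hn

end Groth.Agent.S4966
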