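import Groth.Statements.S4969
import Groth.Agent.DepthLib.CompDims
import Groth.Agent.EquidimLib.OpenComponent
-- import your own Groth.Agent.* helpers here

set_option autoImplicit false
open CategoryTheory AlgebraicGeometry
universe u v w
open EGA43

namespace Groth.Agent.S4969

/-- Let f : X ⟶ Y be a proper morphism of finite presentation and F a finitely presented O_X-module
which is f-flat; for y in Y let F_y be the restriction of F to the fibre X_y. Then the function y ↦
dim Supp(F_y) is locally constant on Y. -/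
theorem result {X Y : Scheme.{u}} (f : X ⟶ Y) [IsProper f]
    [LocallyOfFinitePresentation f] (F : X.Modules) (hF : CohB1.IsFP F) (hflat : FlatMod.IsFlatOver f F) :
    IsLocallyConstant (fun y : Y => topologicalKrullDim ↥{z : ↥(f.fiber y) | Nontrivial (((Scheme.Modules.pullback (f.fiberι y)).obj F).presheaf.stalk z)}) := by
  haveI : Coh.IsQCoh F := inferInstance
  have hFT : CohB1.IsFT F := inferInstance
  let C : ∀ y : Y, Set ↥(f.fiber y) := fun y =>
    {z : ↥(f.fiber y) | Nontrivial (((Scheme.Modules.pullback (f.fiberι y)).obj F).presheaf.stalk z)}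
  have hC : ∀ y, C y = (f.fiberι y).base ⁻¹' CohB1.support F := fun y =>
    Set.ext fun w => DepthLib.supportDim_fibre_ne_bot_iff f F hFT y w
  have hcl : ∀ y, IsClosed (C y) := fun y => hC y ▸ (QCohLib.isClosed_support F hFT).preimage (f.fiberι y).continuous
  -- the dimensions of the components are natural numbers
  have hnat : ∀ y, ∀ Z ∈ irreducibleComponents ↥(C y), ∃ m : ℕ, topologicalKrullDim ↥Z = (m : WithBot ℕ∞) := by
    intro y Z hZ
    obtain ⟨w, -, -, hwd⟩ := (DepthLib.exists_component_dim_iff _ (hcl y) _).1 ⟨Z, hZ, rfl⟩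
    rw [← hwd]
    have hy : f (f.fiberι y w) = y := (f.range_fiberι y).le ⟨w, rfl⟩
    generalize hx : f.fiberι y w = v at hy
    subst hy
    obtain rfl : w = f.asFiber v := (f.fiberι (f v)).isEmbedding.injective (by rw [hx, f.fiberι_asFiber])
    exact UOpenLib.exists_fibreClosureDim_eq_nat f v
  have hle : ∀ y (n : ℕ), (∀ x : X, f.base x = y → x ∈ CohB1.support F → DepthLib.suppDimAt f F x ≤ (n : WithBot ℕ∞)) →
      topologicalKrullDim ↥(C y) ≤ (n : WithBot ℕ∞) := by
    intro y n hn
    haveI : QuasiSober ↥(C y) := (hcl y).isClosedEmbedding_subtypeVal.quasiSober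
    refine EquidimLib.topologicalKrullDim_le_of_components fun Z hZ => ?_
    obtain ⟨m, hm⟩ := hnat y Z hZ
    obtain ⟨x, hxy, hxs, hxd⟩ := (DepthLib.exists_component_dim_fibre_iff f F hFT y m).1 ⟨Z, hZ, hm⟩
    exact hm.trans_le (hxd ▸ hn x hxy hxs)
  have hge : ∀ y (x : X), f.base x = y → x ∈ CohB1.support F →
      DepthLib.suppDimAt f F x ≤ topologicalKrullDim ↥(C y) := by
    intro y x hxy hxs
    obtain ⟨d, r, a, -, -, -, -, he, -⟩ := DepthLib.exists_mod_numbers f F hFT hxs
    obtain ⟨Z, -, hZd⟩ := (DepthLib.exists_component_dim_fibre_iff f F hFT y (d + r)).2 ⟨x, hxy, hxs, he⟩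
    rw [he, ← hZd]
    exact topologicalKrullDim_subspace_le _ Z
  -- upper semicontinuity
  have hup : ∀ n : ℕ, IsOpen {y : Y | ∀ x : X, f.base x = y → x ∈ CohB1.support F →
      DepthLib.suppDimAt f F x ≤ (n : WithBot ℕ∞)} := by
    intro n
    let G : Set X := {x | x ∈ CohB1.support F → DepthLib.suppDimAt f F x ≤ (n : WithBot ℕ∞)}
    have hG : IsOpen G := by
      refine DepthLib.isOpen_of_generization ?_ fun {x' x} hsp hx hx' => ?_
      · have : G = (CohB1.support F)ᶜ ∪ ⋃ m ∈ Finset.range (n + 1), {x | DepthLib.suppDimAt f F x = (m : WithBot ℕ∞)} := by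
          ext x
          simp only [G, Set.mem_setOf_eq, Set.mem_union, Set.mem_compl_iff, Set.mem_iUnion, Finset.mem_range]
          by_cases hxs : x ∈ CohB1.support F
          · obtain ⟨d, r, a, -, -, -, -, he, -⟩ := DepthLib.exists_mod_numbers f F hFT hxs
            simp only [hxs, not_true_eq_false, false_or, forall_true_left, he, Nat.cast_inj, Nat.cast_le]
            exact ⟨fun h => ⟨d + r, Nat.lt_succ_of_le h, rfl⟩, fun ⟨m, hm, hme⟩ => hme ▸ Nat.le_of_lt_succ hm⟩
          · simp [hxs]
        rw [this]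
        refine (DepthLib.isLocallyConstructible_compl (DepthLib.isLocallyConstructible_support f F hF hFT)).union ?_
        induction Finset.range (n + 1) using Finset.induction with
        | empty => simp
        | insert a s _ ih =>
          rw [Finset.set_biUnion_insert]
          exact (DepthLib.isLocallyConstructible_suppDimAt_eq f F hF hFT a).union ih
      · exact (DepthLib.suppDimAt_le_of_specializes f F hFT hsp).trans
          (hx (hsp.mem_closed (QCohLib.isClosed_support F hFT) hx'))
    have he : {y : Y | ∀ x : X, f.base x = y → x ∈ CohB1.support F → DepthLib.suppDimAt f F x ≤ (n : WithBot ℕ∞)} =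
        (f.base '' Gᶜ)ᶜ := by
      ext y
      simp only [Set.mem_setOf_eq, Set.mem_compl_iff, Set.mem_image, not_exists, not_and]
      exact ⟨fun h x hx hxy => hx (h x hxy), fun h x hxy => by_contra fun hx => h x hx hxy⟩
    rw [he]
    exact (f.isClosedMap _ hG.isClosed_compl).isOpen_compl
  refine (IsLocallyConstant.iff_eventually_eq _).mpr fun y => ?_
  show ∀ᶠ z in nhds y, topologicalKrullDim ↥(C z) = topologicalKrullDim ↥(C y)
  by_cases hy : ∀ x : X, f.base x = y → x ∉ CohB1.support F
  · have hopen : IsOpen (f.base '' CohB1.support F)ᶜ :=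
      (f.isClosedMap _ (QCohLib.isClosed_support F hFT)).isOpen_compl
    have hempty : ∀ z ∈ (f.base '' CohB1.support F)ᶜ, topologicalKrullDim ↥(C z) = ⊥ := by
      intro z hz
      have : IsEmpty ↥(C z) := ⟨fun w => hz ⟨_, (hC z).le w.2, (f.range_fiberι z).le ⟨w.1, rfl⟩⟩⟩
      have : IsEmpty (TopologicalSpace.IrreducibleCloseds ↥(C z)) := ⟨fun T => T.isIrreducible.nonempty.elim fun a _ => this.elim a⟩
      exact Order.krullDim_eq_bot
    have hy' : y ∈ (f.base '' CohB1.support F)ᶜ := fun ⟨x, hx, hxy⟩ => hy x hxy hx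
    filter_upwards [hopen.mem_nhds hy'] with z hz
    rw [hempty z hz, hempty y hy']
  · push Not at hy
    obtain ⟨x, hxy, hxs⟩ := hy
    haveI : QuasiSober ↥(C y) := (hcl y).isClosedEmbedding_subtypeVal.quasiSober
    obtain ⟨n, hn, Z, hZ, hZn⟩ : ∃ n : ℕ, topologicalKrullDim ↥(C y) = (n : WithBot ℕ∞) ∧
        ∃ Z ∈ irreducibleComponents ↥(C y), topologicalKrullDim ↥Z = (n : WithBot ℕ∞) := by
      obtain ⟨w, hw⟩ : ∃ w : ↥(f.fiber y), w ∈ C y := by
        obtain ⟨w, hw⟩ := (f.range_fiberι y).ge hxy
        exact ⟨w, (hC y).ge (show (f.fiberι y).base w ∈ CohB1.support F from hw ▸ hxs)⟩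
      haveI := UOpenLib.lft_fiberToSpec f y
      haveI : IsLocallyNoetherian (f.fiber y) := LocallyOfFiniteType.isLocallyNoetherian (f.fiberToSpecResidueField y)
      haveI : IsNoetherian (f.fiber y) := {}
      let D : Finset ℕ := ((TopologicalSpace.NoetherianSpace.finite_irreducibleComponents (α := ↥(C y))).toFinset.attach.image
        fun Z => (hnat y Z.1 ((Set.Finite.mem_toFinset _).mp Z.2)).choose)
      have hD : D.Nonempty := ⟨_, Finset.mem_image_of_mem _ (Finset.mem_attach _
        ⟨_, (Set.Finite.mem_toFinset _).mpr (irreducibleComponent_mem_irreducibleComponents (⟨w, hw⟩ : ↥(C y)))⟩)⟩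
      obtain ⟨Z, -, hZ⟩ := Finset.mem_image.mp (D.max'_mem hD)
      have hZd := (hnat y Z.1 ((Set.Finite.mem_toFinset _).mp Z.2)).choose_spec
      rw [hZ] at hZd
      refine ⟨D.max' hD, le_antisymm (EquidimLib.topologicalKrullDim_le_of_components fun W hW => ?_)
        (hZd ▸ topologicalKrullDim_subspace_le _ Z.1), Z.1, (Set.Finite.mem_toFinset _).mp Z.2, hZd⟩
      rw [(hnat y W hW).choose_spec]
      exact Nat.cast_le.mpr (D.le_max' _ (Finset.mem_image_of_mem _ (Finset.mem_attach _ ⟨W, (Set.Finite.mem_toFinset _).mpr hW⟩)))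
    have h1 := DepthLib.isOpen_exists_component_dim f F hF hFT hflat n
    filter_upwards [h1.mem_nhds ⟨Z, hZ, hZn⟩, (hup n).mem_nhds fun a ha has => hn ▸ hge y a ha has] with z hz hz'
    rw [hn]
    obtain ⟨W, -, hW⟩ := hz
    exact le_antisymm (hle z n hz') (hW ▸ topologicalKrullDim_subspace_le _ W)

end Groth.Agent.S4969
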