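import Groth.Statements.S4970
import Mathlib
import Groth.Agent.FlatLib.FibMaster

set_option autoImplicit false
universe u
open TensorProduct
open EGA43

namespace Groth.Agent.S4970

/-- Let A be a commutative ring, B a finitely presented A-algebra which is flat as an A-module, and M a
finitely presented B-module which is flat as an A-module. Then M is a flat B-module if and only if,
for every prime ideal p of A with residue field κ(p), the module (B ⊗_A κ(p)) ⊗_B M is projective
over the ring B ⊗_A κ(p). (Condition a) of the source, M projective over B, is equivalent to b) for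
finitely presented modules.) -/
theorem result (A B M : Type u) [CommRing A] [CommRing B] [Algebra A B]
    [Algebra.FinitePresentation A B] [Module.Flat A B] [AddCommGroup M] [Module B M] [Module A M]
    [IsScalarTower A B M] [Module.FinitePresentation B M] [Module.Flat A M] :
    Module.Flat B M ↔ ∀ (p : Ideal A) [p.IsPrime],
      Module.Projective (B ⊗[A] p.ResidueField) ((B ⊗[A] p.ResidueField) ⊗[B] M) := by
  constructor
  · intro h p _
    exact Module.Flat.projective_of_finitePresentation
  · intro h
    refine Module.flat_of_localized_maximal _ fun m hm => ?_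
    rcases subsingleton_or_nontrivial (LocalizedModule m.primeCompl M) with hs | hnt
    · exact Module.Flat.of_free
    let q : PrimeSpectrum B := ⟨m, hm.isPrime⟩
    haveI := hm.isPrime
    have hflat : q ∈ FlatLib.flatLocus A B M :=
      (FlatLib.flat_localized_iff q.asIdeal.primeCompl (LocalizedModule.mkLinearMap _ M)).mpr
        fun P _ _ N x hx => ⟨1, one_mem _, by
          rw [one_smul]
          exact Module.Flat.lTensor_preserves_injective_linearMap (M := M) N.subtype
            N.subtype_injective (hx.trans (map_zero _).symm)⟩
    let p := m.comap (algebraMap A B)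
    let I : Ideal B := p.map (algebraMap A B)
    let Q := B ⧸ I
    let Bm := Localization.AtPrime m
    let R' := Q ⊗[B] Bm
    let g : B →ₐ[A] R' := IsScalarTower.toAlgHom A B R'
    have hg0 : p ≤ RingHom.ker (algebraMap A R') := fun a ha => by
      rw [RingHom.mem_ker, IsScalarTower.algebraMap_apply A B R',
        IsScalarTower.algebraMap_apply B Q R', Ideal.Quotient.algebraMap_eq,
        Ideal.Quotient.eq_zero_iff_mem.mpr (Ideal.mem_map_of_mem _ ha), map_zero]
    have hgu : p.primeCompl ≤ (IsUnit.submonoid R').comap (algebraMap A R') := fun a ha => by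
      show IsUnit (algebraMap A R' a)
      have h1 := (IsLocalization.map_units Bm (⟨algebraMap A B a, ha⟩ : m.primeCompl)).map
        (Algebra.TensorProduct.includeRight : Bm →ₐ[B] R')
      rw [AlgHom.commutes] at h1
      rwa [IsScalarTower.algebraMap_apply A B R']
    let κ : p.ResidueField →ₐ[A] R' :=
      { Ideal.ResidueField.lift p (algebraMap A R') hg0 hgu with
        commutes' := fun a => Ideal.ResidueField.lift_algebraMap p (algebraMap A R') hg0 hgu a }
    let ψ : (B ⊗[A] p.ResidueField) →ₐ[A] R' :=
      Algebra.TensorProduct.lift g κ (fun _ _ => Commute.all _ _)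
    letI : Algebra (B ⊗[A] p.ResidueField) R' := ψ.toRingHom.toAlgebra
    haveI : IsScalarTower B (B ⊗[A] p.ResidueField) R' := IsScalarTower.of_algebraMap_eq fun b => by
      show g b = ψ (b ⊗ₜ 1)
      simp [ψ]
    haveI hP := h p
    haveI : Module.Flat (B ⊗[A] p.ResidueField) ((B ⊗[A] p.ResidueField) ⊗[B] M) :=
      Module.Flat.of_projective
    haveI : Module.Flat R' (R' ⊗[B] M) :=
      Module.Flat.of_linearEquiv (TensorProduct.AlgebraTensorModule.cancelBaseChange B
        (B ⊗[A] p.ResidueField) R' R' M).symm
    haveI : Module.Flat Q (R' ⊗[B] M) := Module.Flat.trans Q R' _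
    haveI : Module.Flat Q (Q ⊗[B] LocalizedModule m.primeCompl M) := by
      haveI := IsLocalizedModule.isBaseChange m.primeCompl Bm (LocalizedModule.mkLinearMap m.primeCompl M)
      let e : Bm ⊗[B] M ≃ₗ[B] LocalizedModule m.primeCompl M := (this.equiv).restrictScalars B
      exact Module.Flat.of_linearEquiv
        ((TensorProduct.AlgebraTensorModule.congr (LinearEquiv.refl Q Q) e.symm).trans
          (TensorProduct.AlgebraTensorModule.assoc B B Q Q Bm M).symm)
    have hfib : FlatLib.FibFlat B B M ((q.asIdeal.comap (algebraMap A B)).map (algebraMap A B)) q.asIdeal :=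
      (FlatLib.fibFlat_iff m (LocalizedModule.mkLinearMap m.primeCompl M)).mpr
        (inferInstanceAs (Module.Flat Q (Q ⊗[B] LocalizedModule m.primeCompl M)))
    obtain ⟨U, -, hqU, hU⟩ := FlatLib.exists_open_of_fibFlat (R := A) (S := B) (S' := B) q hflat hfib hnt
    exact (hU q hqU).1

end Groth.Agent.S4970
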