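import Groth.Statements.S4971
import Mathlib.RingTheory.Nakayama

set_option autoImplicit false
universe u
open EGA43

namespace Groth.Agent.S4971

/-- Let B be a Noetherian local ring, M, N, P three B-modules with N finitely generated, u : M → N and v
: N → P linear maps with v ∘ u = 0, and t an element of the maximal ideal of B which is P-regular.
If the induced sequence M/tM → N/tN → P/tP is exact, then M → N → P is exact. -/
theorem result {B : Type u} [CommRing B] [IsNoetherianRing B] [IsLocalRing B]
    {M N P : Type u} [AddCommGroup M] [Module B M] [AddCommGroup N] [Module B N] [Module.Finite B N]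
    [AddCommGroup P] [Module B P] (u : M →ₗ[B] N) (v : N →ₗ[B] P) (huv : v ∘ₗ u = 0) (t : B)
    (ht : t ∈ IsLocalRing.maximalIdeal B) (hreg : IsSMulRegular P t)
    (hu : (Ideal.span {t} • ⊤ : Submodule B M) ≤ (Ideal.span {t} • ⊤ : Submodule B N).comap u)
    (hv : (Ideal.span {t} • ⊤ : Submodule B N) ≤ (Ideal.span {t} • ⊤ : Submodule B P).comap v)
    (hex : LinearMap.ker ((Ideal.span {t} • ⊤ : Submodule B N).mapQ (Ideal.span {t} • ⊤ : Submodule B P) v hv) ≤
      LinearMap.range ((Ideal.span {t} • ⊤ : Submodule B M).mapQ (Ideal.span {t} • ⊤ : Submodule B N) u hu)) :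
    LinearMap.ker v ≤ LinearMap.range u := by
  refine Submodule.le_of_le_smul_of_le_jacobson_bot (IsNoetherian.noetherian (LinearMap.ker v))
    (I := Ideal.span {t}) ((Ideal.span_singleton_le_iff_mem _).2 ht |>.trans
      (IsLocalRing.jacobson_eq_maximalIdeal ⊥ bot_ne_top).ge) fun x hx => ?_
  have h1 : Submodule.Quotient.mk x ∈ LinearMap.range
      ((Ideal.span {t} • ⊤ : Submodule B M).mapQ (Ideal.span {t} • ⊤ : Submodule B N) u hu) := hex (by
    rw [LinearMap.mem_ker, Submodule.mapQ_apply, LinearMap.mem_ker.1 hx]; rfl)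
  obtain ⟨m, hm⟩ := h1
  obtain ⟨m, rfl⟩ := Submodule.Quotient.mk_surjective _ m
  rw [Submodule.mapQ_apply, Submodule.Quotient.eq, Submodule.ideal_span_singleton_smul] at hm
  obtain ⟨y, -, hy⟩ := Submodule.mem_smul_pointwise_iff_exists _ _ _ |>.1 hm
  have hy0 : v y = 0 := hreg (by
    show t • v y = t • 0
    rw [← map_smul, hy, map_sub, ← LinearMap.comp_apply, huv, LinearMap.zero_apply,
      LinearMap.mem_ker.1 hx, sub_zero, smul_zero])
  refine Submodule.mem_sup.2 ⟨u m, LinearMap.mem_range_self u m, -(t • y),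
    neg_mem (Submodule.smul_mem_smul (Ideal.mem_span_singleton_self t) (LinearMap.mem_ker.2 hy0)), ?_⟩
  rw [hy]; abel

end Groth.Agent.S4971
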