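import Groth.Statements.S4973
import Mathlib

set_option autoImplicit false
open CategoryTheory AlgebraicGeometry
universe u v w
open EGA43

namespace Groth.Agent.S4973

open CategoryTheory.Limits in
/-- Let Y₀ and Y be integral schemes, g : Y ⟶ Y₀ a dominant morphism, f₀ : X₀ ⟶ Y₀ a dominant morphism
whose fibre over the generic point of Y₀ is irreducible, and X'₀ an irreducible component of X₀
meeting that generic fibre (it is unique), regarded as a reduced closed subscheme of X₀. If X = X₀
×_{Y₀} Y is an integral scheme, then the morphism X'₀ ×_{Y₀} Y ⟶ X induced by the inclusion of X'₀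
is an isomorphism. -/
theorem result {X₀ Y₀ Y : Scheme.{u}} [IsIntegral Y₀] [IsIntegral Y]
    (g : Y ⟶ Y₀) [IsDominant g] (f₀ : X₀ ⟶ Y₀) [IsDominant f₀]
    (hirr : IsIrreducible (f₀.base ⁻¹' {genericPoint Y₀}))
    (C : TopologicalSpace.Closeds X₀) (hC : (C : Set X₀) ∈ irreducibleComponents (X₀ : Type u))
    (hCη : ((C : Set X₀) ∩ f₀.base ⁻¹' {genericPoint Y₀}).Nonempty) [IsIntegral (pullback f₀ g)]
    (e₁ : ((Scheme.IdealSheafData.vanishingIdeal C).subschemeι ≫ f₀) ≫ 𝟙 Y₀ =
      (Scheme.IdealSheafData.vanishingIdeal C).subschemeι ≫ f₀) (e₂ : g ≫ 𝟙 Y₀ = 𝟙 Y ≫ g) :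
    IsIso (pullback.map ((Scheme.IdealSheafData.vanishingIdeal C).subschemeι ≫ f₀) g f₀ g
      (Scheme.IdealSheafData.vanishingIdeal C).subschemeι (𝟙 Y) (𝟙 Y₀) e₁ e₂) := by
  set i := (Scheme.IdealSheafData.vanishingIdeal C).subschemeι with hi
  have hmap : IsClosedImmersion (pullback.map (i ≫ f₀) g f₀ g i (𝟙 Y) (𝟙 Y₀) e₁ e₂) :=
    MorphismProperty.pullback_map (P := @IsClosedImmersion) inferInstance
      (inferInstance : IsClosedImmersion (𝟙 Y)) e₁ e₂
  -- generic points
  have hgen : ∀ {Z : Scheme.{u}} [IsIntegral Z] (h : Z ⟶ Y₀) [IsDominant h],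
      h.base (genericPoint Z) = genericPoint Y₀ := by
    intro Z _ h _
    have h1 := (genericPoint_spec Z).image h.continuous
    rw [Set.image_univ, (Scheme.Hom.denseRange h).closure_range] at h1
    exact h1.eq (genericPoint_spec Y₀)
  -- the generic fibre lies in `C`
  obtain ⟨z₀, hz₀C, hz₀⟩ := hCη
  have hz₀' : f₀.base z₀ = genericPoint Y₀ := hz₀
  have hfib : f₀.base ⁻¹' {genericPoint Y₀} ⊆ (C : Set X₀) := by
    obtain ⟨ξ, hξ⟩ := QuasiSober.sober hC.1 C.isClosed
    have hξz : ξ ⤳ z₀ := hξ.specializes hz₀C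
    have hξη : f₀.base ξ = genericPoint Y₀ := by
      have h1 : f₀.base ξ ⤳ genericPoint Y₀ := hz₀' ▸ hξz.map f₀.continuous
      exact (h1.antisymm ((genericPoint_spec Y₀).specializes trivial)).eq
    have hle : (C : Set X₀) ⊆ closure (f₀.base ⁻¹' {genericPoint Y₀}) := by
      rw [← hξ.def]
      exact closure_mono (Set.singleton_subset_iff.2 hξη)
    have := hC.2 hirr.closure hle
    exact subset_closure.trans this
  let W := pullback f₀ g
  let x : W := genericPoint W
  obtain ⟨w, hw1, hw2⟩ := Scheme.Pullback.exists_preimage_pullback (f := f₀) (g := g) z₀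
    (genericPoint Y) (hz₀'.trans (hgen g).symm)
  have hx2 : (pullback.snd f₀ g).base x = genericPoint Y := by
    have h1 : (pullback.snd f₀ g).base x ⤳ genericPoint Y :=
      hw2 ▸ ((genericPoint_spec W).specializes trivial).map (pullback.snd f₀ g).continuous
    exact (h1.antisymm ((genericPoint_spec Y).specializes trivial)).eq
  have hx1 : (pullback.fst f₀ g).base x ∈ (C : Set X₀) := by
    refine hfib ?_
    change f₀.base ((pullback.fst f₀ g).base x) = genericPoint Y₀
    rw [← Scheme.Hom.comp_apply, pullback.condition, Scheme.Hom.comp_apply, hx2, hgen g]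
  have hsurj : Surjective (pullback.map (i ≫ f₀) g f₀ g i (𝟙 Y) (𝟙 Y₀) e₁ e₂) := by
    refine ⟨Set.range_eq_univ.1 ?_⟩
    rw [Scheme.Pullback.range_map]
    have hr : Set.range i = (C : Set X₀) := by
      rw [hi, Scheme.IdealSheafData.range_subschemeι, Scheme.IdealSheafData.coe_support_vanishingIdeal]
    rw [hr]
    refine Set.eq_univ_of_forall fun z => ⟨?_, ⟨_, rfl⟩⟩
    exact ((genericPoint_spec W).specializes trivial).mem_closed
      (C.isClosed.preimage (pullback.fst f₀ g).continuous) hx1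
  exact isIso_of_isClosedImmersion_of_surjective _

end Groth.Agent.S4973
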