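import Groth.Statements.S4974
import Mathlib
import Groth.Agent.S4944
import Groth.Agent.UOpenLib.CompleteSection

set_option autoImplicit false
open CategoryTheory AlgebraicGeometry
universe u v w
open EGA43

namespace Groth.Agent.S4974

/-- Consider a complete Noetherian local domain A and put Y = Spec A. Suppose f : X ⟶ Y is locally of
finite type, and take a point x ∈ X mapping to the closed point of Y, where f is equidimensional at
x and x is closed in the fibre containing it. Then one can find a local domain A' that contains A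
and is finite as an A-algebra, together with a Y-morphism h : Spec A' ⟶ X that is an immersion and
has x in its image. -/
theorem result {A : Type u} [CommRing A] [IsDomain A]
    [IsNoetherianRing A] [IsLocalRing A] [IsAdicComplete (IsLocalRing.maximalIdeal A) A] {X : Scheme.{u}}
    (f : X ⟶ Spec (CommRingCat.of A)) [LocallyOfFiniteType f] (x : X) (hx : f.base x = IsLocalRing.closedPoint A)
    (hf : EGA43.IsEquidimAt f x) (hcl : ∀ x' : X, f.base x' = f.base x → x ⤳ x' → x' = x) :
    ∃ (A' : Type u) (_ : CommRing A') (_ : IsDomain A') (_ : IsLocalRing A') (_ : Algebra A A') (_ : Module.Finite A A'),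
      Function.Injective (algebraMap A A') ∧
      ∃ h : Spec (CommRingCat.of A') ⟶ X, h ≫ f = Spec.map (CommRingCat.ofHom (algebraMap A A')) ∧
        IsImmersion h ∧ x ∈ Set.range h.base := by
  classical
  let Y := Spec (CommRingCat.of A)
  haveI : IsLocallyNoetherian X := LocallyOfFiniteType.isLocallyNoetherian f
  obtain ⟨T, i, hi, hirr, hredT, ⟨t, ht⟩, hlft, hqf, hqc, hdom⟩ := Groth.Agent.S4944.result f x hf hcl
  haveI := hi; haveI := hirr; haveI := hredT; haveI := hlft; haveI := hqf; haveI := hdom
  haveI : IsIntegral T := isIntegral_of_irreducibleSpace_of_isReduced T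
  obtain ⟨W, hW, htW, -⟩ := exists_isAffineOpen_mem_and_subset (x := t) (U := ⊤) trivial
  haveI : Nonempty W := ⟨⟨t, htW⟩⟩
  let C := Γ(T, W)
  obtain ⟨ρ, hρ⟩ := Spec.map_surjective (hW.fromSpec ≫ i ≫ f)
  letI : Algebra A C := ρ.hom.toAlgebra
  haveI : LocallyOfFiniteType (Spec.map ρ) := by rw [hρ]; infer_instance
  haveI : LocallyQuasiFinite (Spec.map ρ) := by rw [hρ]; infer_instance
  haveI : Algebra.FiniteType A C :=
    RingHom.finiteType_algebraMap.mp ((HasRingHomProperty.Spec_iff (P := @LocallyOfFiniteType)).mp ‹_›)
  haveI : Algebra.QuasiFinite A C :=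
    RingHom.quasiFinite_algebraMap.mp ((HasRingHomProperty.Spec_iff (P := @LocallyQuasiFinite)).mp ‹_›)
  haveI : IsNoetherianRing C := Algebra.FiniteType.isNoetherianRing A C
  obtain ⟨p, hp⟩ : t ∈ Set.range hW.fromSpec := by rw [hW.range_fromSpec]; exact htW
  let q : Ideal C := p.asIdeal
  have hq : q.comap (algebraMap A C) = IsLocalRing.maximalIdeal A := by
    have h1 : Spec.map ρ p = IsLocalRing.closedPoint A := by
      rw [hρ, Scheme.Hom.comp_apply, Scheme.Hom.comp_apply, hp, ht]; exact hx
    exact congrArg PrimeSpectrum.asIdeal h1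
  haveI hfin : Module.Finite A (Localization.AtPrime q) := UOpenLib.finite_localization_of_quasiFinite q hq
  haveI : Module.Finite C (Localization.AtPrime q) := Module.Finite.of_restrictScalars_finite A _ _
  haveI := UOpenLib.isOpenImmersion_of_finite_localization q
  haveI : IsDominant hW.fromSpec := ⟨by
    rw [DenseRange, hW.range_fromSpec]
    exact W.isOpen.dense ⟨t, htW⟩⟩
  haveI : IsDominant (Spec.map ρ) := by rw [hρ]; infer_instance
  have hinjC : Function.Injective (algebraMap A C) := by
    rw [RingHom.injective_iff_ker_eq_bot, eq_bot_iff]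
    have h1 : DenseRange (PrimeSpectrum.comap ρ.hom) := IsDominant.denseRange (f := Spec.map ρ)
    have h2 := (PrimeSpectrum.denseRange_comap_iff_ker_le_nilRadical ρ.hom).mp h1
    intro a ha
    have h3 : a ∈ nilradical A := h2 ha
    rwa [nilradical_eq_zero] at h3
  haveI : IsDomain (Localization.AtPrime q) :=
    IsLocalization.isDomain_of_le_nonZeroDivisors (Localization.AtPrime q) q.primeCompl_le_nonZeroDivisors
  refine ⟨Localization.AtPrime q, inferInstance, inferInstance, inferInstance, inferInstance, hfin, ?_,
    Spec.map (CommRingCat.ofHom (algebraMap C (Localization.AtPrime q))) ≫ hW.fromSpec ≫ i, ?_, inferInstance, ?_⟩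
  · rw [IsScalarTower.algebraMap_eq A C (Localization.AtPrime q)]
    exact (IsLocalization.injective _ q.primeCompl_le_nonZeroDivisors).comp hinjC
  · rw [Category.assoc, Category.assoc, ← hρ, ← Spec.map_comp]
    rfl
  · refine ⟨IsLocalRing.closedPoint (Localization.AtPrime q), ?_⟩
    rw [Scheme.Hom.comp_apply, Scheme.Hom.comp_apply, ← ht, ← hp]
    congr 2
    exact PrimeSpectrum.ext (IsLocalization.AtPrime.comap_maximalIdeal (Localization.AtPrime q) q)

end Groth.Agent.S4974
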