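import Groth.Statements.S4975
import Groth.Agent.SecNhdLib.DimOpen
import Mathlib

set_option autoImplicit false
open CategoryTheory AlgebraicGeometry
universe u v w
open EGA43

namespace Groth.Agent.S4975

/-- Let f : X ⟶ Y be a morphism locally of finite type with Y locally Noetherian, g : Y ⟶ X a section of
f, X_y^0 the connected component of f⁻¹(y) containing g y, and X^0 ⊆ X their union. Suppose every
X_y^0 is geometrically integral over κ(y) (its preimage in X_y ⊗ K is irreducible and has reduced
local rings, for every field extension K of κ(y)). Then y ↦ dim X_y^0 is locally constant on Y if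
and only if f is universally open at every point of X^0; and when this holds, X^0 is open in X. (The
published statement also lists, as a further equivalent condition, flatness of the base change of f
to the reduced closed subscheme Y_red at the points of X^0; that condition is not stated here.) -/
theorem result {X Y : Scheme.{u}}
    [IsLocallyNoetherian Y] (f : X ⟶ Y) [LocallyOfFiniteType f] (g : Y ⟶ X) (hg : g ≫ f = 𝟙 Y)
    (hint : ∀ y : Y, (∀ (K : Type u) [Field K] [Algebra (IsLocalRing.ResidueField (Y.presheaf.stalk y)) K],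
        IsIrreducible ((FBase.bcπ (f.fiberToSpecResidueField y) K ≫ f.fiberι y).base ⁻¹' connectedComponentIn (f.base ⁻¹' {y}) (g.base y)) ∧
        ∀ x' : ↥(FBase.bc (f.fiberToSpecResidueField y) K),
          (FBase.bcπ (f.fiberToSpecResidueField y) K ≫ f.fiberι y).base x' ∈ connectedComponentIn (f.base ⁻¹' {y}) (g.base y) →
          _root_.IsReduced ((FBase.bc (f.fiberToSpecResidueField y) K).presheaf.stalk x'))) :
    (IsLocallyConstant (fun y : Y => topologicalKrullDim ↥(connectedComponentIn (f.base ⁻¹' {y}) (g.base y))) ↔ ∀ x ∈ MoreMor.sectionComponents f g, EGA43.IsUnivOpenAt f x) ∧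
      (IsLocallyConstant (fun y : Y => topologicalKrullDim ↥(connectedComponentIn (f.base ⁻¹' {y}) (g.base y))) → IsOpen (MoreMor.sectionComponents f g)) := by
  have hgi : ∀ y, SecCompLib.GeomIrred f g y := fun y K _ _ => (hint y K).1
  have hirr := fun y => (hgi y).isIrreducible
  haveI := UOpenLib.locallyOfFinitePresentation_of_isLocallyNoetherian f
  have hred : ∀ {y : Y} {x : X}, x ∈ SecCompLib.comp f g y →
      FBase.IsGeomReducedAt (f.fiberToSpecResidueField (f x)) (f.asFiber x) := fun {y _} hx =>
    SecNhdLib.isGeomReducedAt_of_comp (fun K _ _ => (hint y K).2) hx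
  have hconst : IsLocallyConstant (fun y : Y => topologicalKrullDim ↥(connectedComponentIn (f.base ⁻¹' {y}) (g.base y))) →
      ∀ y, ∃ V ∈ nhds y, ∀ z ∈ V, topologicalKrullDim ↥(SecCompLib.comp f g z) = topologicalKrullDim ↥(SecCompLib.comp f g y) :=
    fun h y => ⟨_, (h.isOpen_fiber _).mem_nhds (rfl : y ∈ _), fun z hz => hz⟩
  refine ⟨⟨fun h x hx => ?_, fun h => ?_⟩, fun h => ?_⟩
  · obtain ⟨V, hV, hc⟩ := hconst h (f.base x)
    exact SecCompLib.isUnivOpenAt_of_dim_const f g hg hgi V hV hc hx
  · refine IsLocallyConstant.iff_eventually_eq _ |>.mpr fun y => ?_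
    have hopen : ∀ z ∈ SecCompLib.comp f g y, EGA43.IsUnivOpenAt f z := fun z hz => h z (by
      show z ∈ SecCompLib.comp f g (f z)
      rw [SecCompLib.map_of_mem hz]
      exact hz)
    obtain ⟨V, hV, hc⟩ := SecNhdLib.exists_nhd_dim_const hg hirr (y := y) fun y' hy' =>
      SecNhdLib.dim_eq_of_geomReduced hg hgi hy' (fun ξ hξ _ => hopen ξ hξ) (hred (SecCompLib.section_mem hg y))
    exact Filter.mem_of_superset hV hc
  · refine interior_eq_iff_isOpen.mp (Set.Subset.antisymm interior_subset fun x hx => ?_)
    exact SecNhdLib.mem_interior_of_constPt hg hgi ⟨hx, hconst h (f x), hred hx⟩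

end Groth.Agent.S4975
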