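import Groth.Statements.S4978
import Groth.Agent.DvrProperLib.Closure

set_option autoImplicit false
open CategoryTheory AlgebraicGeometry
universe u v w
open EGA43

namespace Groth.Agent.S4978

open CategoryTheory.Limits in
/-- Let Y be a Noetherian scheme, f : X ⟶ Y a separated morphism of finite type, Z a subset of X such
that every maximal point of the closure of Z belongs to Z, and y a point of Y. Then the closure of Z
is proper over Y at y (for some open U ∋ y, its trace on f⁻¹(U) is proper over U with the reduced
structure) if and only if: for every discrete valuation ring A' and every morphism g : Spec A' ⟶ Y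
mapping the closed point to y, every point x' of X' = X ×_Y Spec A' which projects into Z, lies over
the generic point η' of Spec A' and is rational over κ(η') is in the image of some section of X' ⟶
Spec A'. -/
theorem result {X Y : Scheme.{u}} [IsNoetherian Y] (f : X ⟶ Y) [IsSeparated f]
    [LocallyOfFiniteType f] [QuasiCompact f] (Z : Set X)
    (hZ : ∀ z ∈ closure Z, (∀ z' ∈ closure Z, z ∈ closure {z'} → z' = z) → z ∈ Z) (y : Y) :
    (∃ U : Y.Opens, y ∈ U ∧ ∃ hC : IsClosed ((f ⁻¹ᵁ U).ι.base ⁻¹' closure Z),
      IsProper ((Scheme.IdealSheafData.vanishingIdeal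
        (⟨(f ⁻¹ᵁ U).ι.base ⁻¹' closure Z, hC⟩ : TopologicalSpace.Closeds ↥(f ⁻¹ᵁ U))).subschemeι ≫ (f ∣_ U))) ↔
      ∀ (A' : Type u) [CommRing A'] [IsDomain A'] [IsDiscreteValuationRing A'] (g : Spec (CommRingCat.of A') ⟶ Y),
        g.base (IsLocalRing.closedPoint A') = y →
        ∀ x' : ↥(pullback f g), (pullback.fst f g).base x' ∈ Z →
          (pullback.snd f g).base x' = genericPoint (Spec (CommRingCat.of A')) →
          Function.Bijective ((pullback.snd f g).residueFieldMap x').hom →
          ∃ s : Spec (CommRingCat.of A') ⟶ pullback f g, s ≫ pullback.snd f g = 𝟙 _ ∧ x' ∈ Set.range s.base := by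
  constructor
  · rintro ⟨U, hyU, hC, hP⟩ A' _ _ _ g hg x' hxZ hxη hbij
    let K := FractionRing A'
    let j : Spec (CommRingCat.of K) ⟶ Spec (CommRingCat.of A') :=
      Spec.map (CommRingCat.ofHom (algebraMap A' K))
    let pK : Spec (CommRingCat.of K) := IsLocalRing.closedPoint K
    have hj : j pK = (pullback.snd f g) x' := by
      refine Eq.trans ?_ hxη.symm
      rw [genericPoint_eq_bot_of_affine]
      apply PrimeSpectrum.ext
      show (IsLocalRing.maximalIdeal K).comap (algebraMap A' K) = ⊥
      rw [IsLocalRing.maximalIdeal_eq_bot, ← RingHom.ker_eq_comap_bot]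
      exact (RingHom.injective_iff_ker_eq_bot _).mp (IsFractionRing.injective A' K)
    obtain ⟨φ, hφ⟩ : ∃ φ : (Spec (CommRingCat.of A')).residueField ((pullback.snd f g) x') ⟶
        CommRingCat.of K, j = Spec.map φ ≫ Scheme.fromSpecResidueField _ _ := by
      rw [← hj]
      exact ⟨_, ((Scheme.SpecToEquivOfField K (Spec (CommRingCat.of A'))).left_inv j).symm⟩
    have : IsIso ((pullback.snd f g).residueFieldMap x') :=
      (ConcreteCategory.isIso_iff_bijective _).mpr hbij
    let a : Spec (CommRingCat.of K) ⟶ pullback f g :=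
      Spec.map (inv ((pullback.snd f g).residueFieldMap x') ≫ φ) ≫
        (pullback f g).fromSpecResidueField x'
    have ha : a ≫ pullback.snd f g = j := by
      rw [Category.assoc, ← Scheme.Hom.SpecMap_residueFieldMap_fromSpecResidueField,
        ← Category.assoc, ← Spec.map_comp, IsIso.hom_inv_id_assoc, hφ]
    have hax : a pK = x' := by
      simp only [a, Scheme.Hom.comp_apply]
      exact Scheme.fromSpecResidueField_apply x' _
    let aX : Spec (CommRingCat.of K) ⟶ X := a ≫ pullback.fst f g
    have haX : aX ≫ f = j ≫ g := by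
      simp only [aX, Category.assoc, pullback.condition, reassoc_of% ha]
    have hgU : Set.range g ⊆ Set.range U.ι := by
      rw [Scheme.Opens.range_ι]
      exact DvrProperLib.range_subset_of_closedPoint_mem g (hg ▸ hyU)
    have har : Set.range aX ⊆ Set.range (f ⁻¹ᵁ U).ι := by
      rintro _ ⟨v, rfl⟩
      rw [Scheme.Opens.range_ι]
      show (aX ≫ f) v ∈ U
      rw [haX, ← SetLike.mem_coe, ← Scheme.Opens.range_ι]
      exact hgU ⟨_, rfl⟩
    let aU := IsOpenImmersion.lift (f ⁻¹ᵁ U).ι aX har
    let J : (f ⁻¹ᵁ U).toScheme.IdealSheafData :=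
      Scheme.IdealSheafData.vanishingIdeal (⟨_, hC⟩ : TopologicalSpace.Closeds ↥(f ⁻¹ᵁ U))
    have hrJ : Set.range J.subschemeι = (f ⁻¹ᵁ U).ι ⁻¹' closure Z :=
      DvrProperLib.range_subscheme_vanishingIdeal _
    have haUr : Set.range aU ⊆ Set.range J.subschemeι := by
      rintro _ ⟨v, rfl⟩
      rw [hrJ]
      show (aU ≫ (f ⁻¹ᵁ U).ι) v ∈ closure Z
      rw [IsOpenImmersion.lift_fac, show v = pK from Subsingleton.elim (α := PrimeSpectrum _) _ _]
      show pullback.fst f g (a pK) ∈ closure Z
      rw [hax]
      exact subset_closure hxZ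
    let aT := IsClosedImmersion.lift J.subschemeι aU
      (DvrProperLib.ker_le_ker_of_range_subset _ _ haUr)
    let gU := IsOpenImmersion.lift U.ι g hgU
    have hP' : IsProper (J.subschemeι ≫ (f ∣_ U)) := hP
    obtain ⟨l, hl₁, hl₂⟩ :=
      DvrDomLib.dvrExistence_of_universallyClosed (J.subschemeι ≫ (f ∣_ U)) A' aT gU (by
        rw [IsClosedImmersion.lift_fac_assoc, ← cancel_mono U.ι, Category.assoc,
          morphismRestrict_ι, IsOpenImmersion.lift_fac_assoc, haX, Category.assoc,
          IsOpenImmersion.lift_fac])
    let lX := l ≫ J.subschemeι ≫ (f ⁻¹ᵁ U).ι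
    have hlX : lX ≫ f = g := by
      simp only [lX, Category.assoc]
      rw [← morphismRestrict_ι, ← Category.assoc J.subschemeι, ← Category.assoc l, hl₁,
        IsOpenImmersion.lift_fac]
    have hjl : j ≫ lX = aX := by
      simp only [lX, ← Category.assoc]
      rw [show j ≫ l = aT from hl₂, IsClosedImmersion.lift_fac, IsOpenImmersion.lift_fac]
    refine ⟨pullback.lift lX (𝟙 _) (by rw [Category.id_comp]; exact hlX), pullback.lift_snd _ _ _,
      j pK, ?_⟩
    have hjs : j ≫ pullback.lift lX (𝟙 _) (by rw [Category.id_comp]; exact hlX) = a := by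
      refine pullback.hom_ext ?_ ?_
      · rw [Category.assoc, pullback.lift_fst, hjl]
      · rw [Category.assoc, pullback.lift_snd, Category.comp_id, ha]
    show (j ≫ pullback.lift lX (𝟙 _) _) pK = x'
    rw [hjs, hax]
  · intro H
    refine DvrProperLib.exists_proper_trace f (closure Z) isClosed_closure y ?_
    intro z hz hmax A hA h hh hhy
    have hzZ : z ∈ Z := hZ z hz fun z' hz' hzz' ↦
      hmax z' hz' (specializes_iff_mem_closure.mpr hzz')
    let L := X.residueField z
    let sA : CommRingCat.of A ⟶ X.residueField z := CommRingCat.ofHom A.subtype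
    replace hh : Spec.map sA ≫ h = X.fromSpecResidueField z ≫ f := hh
    let σ : Spec (X.residueField z) ⟶ pullback f h :=
      pullback.lift (X.fromSpecResidueField z) (Spec.map sA) hh.symm
    let pL : Spec (X.residueField z) := IsLocalRing.closedPoint (X.residueField z)
    let x' := σ pL
    have hfst : pullback.fst f h x' = z := by
      show (σ ≫ pullback.fst f h) pL = z
      rw [pullback.lift_fst]
      exact Scheme.fromSpecResidueField_apply _ _
    have hσ : σ ≫ pullback.snd f h = Spec.map sA := pullback.lift_snd _ _ _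
    have hgen : pullback.snd f h x' = genericPoint (Spec (CommRingCat.of A)) := by
      show (σ ≫ pullback.snd f h) pL = _
      rw [hσ, genericPoint_eq_bot_of_affine]
      apply PrimeSpectrum.ext
      show (IsLocalRing.maximalIdeal (X.residueField z)).comap A.subtype = ⊥
      rw [IsLocalRing.maximalIdeal_eq_bot, ← RingHom.ker_eq_comap_bot]
      exact (RingHom.injective_iff_ker_eq_bot _).mp Subtype.val_injective
    have : IsPreimmersion (σ ≫ pullback.snd f h) := by
      rw [hσ]
      exact IsPreimmersion.of_isLocalization (R := A) (S := X.residueField z) (nonZeroDivisors A)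
    have hbij : Function.Bijective ((pullback.snd f h).residueFieldMap x').hom := by
      refine ⟨RingHom.injective _, fun w ↦ ?_⟩
      obtain ⟨v, hv⟩ := (DvrProperLib.residueFieldMap_bijective (σ ≫ pullback.snd f h) pL).2
        ((σ.residueFieldMap pL).hom w)
      rw [Scheme.residueFieldMap_comp] at hv
      exact ⟨v, RingHom.injective (σ.residueFieldMap pL).hom hv⟩
    obtain ⟨s, hs, w, hw⟩ := H A h hhy x' (by rw [hfst]; exact hzZ) hgen hbij
    have hwη : w = pullback.snd f h x' := by
      rw [← hw, ← Scheme.Hom.comp_apply, hs]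
      rfl
    have hsσ : Spec.map sA ≫ s = σ := by
      refine DvrProperLib.hom_ext_of_residueFieldMap_bijective (pullback.snd f h) x' hbij _ _ ?_ rfl
        ((Category.assoc _ _ _).trans
          ((congrArg (Spec.map sA ≫ ·) hs).trans ((Category.comp_id _).trans hσ.symm)))
      show s ((Spec.map sA) pL) = x'
      rw [← hσ]
      show s (pullback.snd f h x') = x'
      rw [← hwη, hw]
    refine ⟨s ≫ pullback.fst f h, ?_, ?_⟩
    · rw [Category.assoc, pullback.condition, ← Category.assoc, hs, Category.id_comp]
    · show Spec.map sA ≫ _ = _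
      rw [← Category.assoc, hsσ, pullback.lift_fst]

end Groth.Agent.S4978
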