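import Groth.Statements.S4981
import Mathlib
import Groth.Agent.UOpenLib.Criterion
import Groth.Agent.UOpenLib.CompleteDvr

set_option autoImplicit false
open CategoryTheory AlgebraicGeometry
universe u v w
open EGA43

namespace Groth.Agent.S4981

/-- Let Y be a locally Noetherian scheme, f : X ⟶ Y a morphism locally of finite type, y a point of Y
and x a point of the fibre X_y. Then f is universally open at x if and only if the following holds:
for every complete discrete valuation ring A with algebraically closed residue field k, every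
morphism g : Spec A ⟶ Y sending the closed point to y, and every Y-morphism u₀ : Spec k ⟶ X with
image x, there exist a discrete valuation ring B which is a finite A-algebra through a local
homomorphism φ : A → B, and a Y-morphism u : Spec B ⟶ X, such that the restriction of u to the
closed point Spec κ(B) equals u₀ composed with the morphism Spec κ(B) ⟶ Spec k. -/
theorem result {X Y : Scheme.{u}} [IsLocallyNoetherian Y]
    (f : X ⟶ Y) [LocallyOfFiniteType f] (x : X) :
    EGA43.IsUnivOpenAt f x ↔
      ∀ (A : Type u) [CommRing A] [IsDomain A] [IsDiscreteValuationRing A]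
        [IsAdicComplete (IsLocalRing.maximalIdeal A) A] [IsAlgClosed (IsLocalRing.ResidueField A)]
        (g : Spec (CommRingCat.of A) ⟶ Y), g.base (IsLocalRing.closedPoint A) = f.base x →
        ∀ u₀ : Spec (CommRingCat.of (IsLocalRing.ResidueField A)) ⟶ X,
          u₀ ≫ f = Spec.map (CommRingCat.ofHom (IsLocalRing.residue A)) ≫ g → x ∈ Set.range u₀.base →
          ∃ (B : CommRingCat.{u}) (_ : IsDomain B) (_ : IsDiscreteValuationRing B) (φ : A →+* B)
            (_ : IsLocalHom φ) (v : Spec B ⟶ X),
            φ.Finite ∧ v ≫ f = Spec.map (CommRingCat.ofHom φ) ≫ g ∧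
            Spec.map (CommRingCat.ofHom (IsLocalRing.ResidueField.map φ)) ≫ u₀ =
              Spec.map (CommRingCat.ofHom (IsLocalRing.residue B)) ≫ v := by
  constructor
  · intro h A _ _ _ _ _ g hg u₀ hu₀ hxu
    classical
    let k := IsLocalRing.ResidueField A
    let w : Spec (CommRingCat.of k) ⟶ Limits.pullback f g :=
      Limits.pullback.lift u₀ (Spec.map (CommRingCat.ofHom (IsLocalRing.residue A))) hu₀
    let fst := Limits.pullback.fst f g
    let snd := Limits.pullback.snd f g
    have hwf : w ≫ fst = u₀ := Limits.pullback.lift_fst _ _ _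
    have hws : w ≫ snd = Spec.map (CommRingCat.ofHom (IsLocalRing.residue A)) := Limits.pullback.lift_snd _ _ _
    let x' := w (IsLocalRing.closedPoint k)
    have hx' : fst x' = x := by
      obtain ⟨p, hp⟩ := hxu
      show fst (w _) = x
      rw [← Scheme.Hom.comp_apply, hwf, ← hp, Subsingleton.elim (α := PrimeSpectrum k) (IsLocalRing.closedPoint k) p]
    have hcl : snd x' = IsLocalRing.closedPoint A := by
      show snd (w _) = _
      rw [← Scheme.Hom.comp_apply, hws]
      exact IsLocalRing.comap_closedPoint (IsLocalRing.residue A)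
    obtain ⟨V', hV', hxV', -⟩ := exists_isAffineOpen_mem_and_subset (x := x') (U := ⊤) trivial
    let C := Γ(Limits.pullback f g, V')
    obtain ⟨ρ, hρ⟩ := Spec.map_surjective (hV'.fromSpec ≫ snd)
    letI : Algebra A C := ρ.hom.toAlgebra
    haveI : LocallyOfFiniteType (Spec.map ρ) := by rw [hρ]; infer_instance
    haveI : Algebra.FiniteType A C :=
      RingHom.finiteType_algebraMap.mp ((HasRingHomProperty.Spec_iff (P := @LocallyOfFiniteType)).mp ‹_›)
    have hwr : Set.range w ⊆ Set.range hV'.fromSpec := by
      rw [hV'.range_fromSpec]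
      rintro _ ⟨p, rfl⟩
      rw [Subsingleton.elim (α := PrimeSpectrum k) p (IsLocalRing.closedPoint k)]
      exact hxV'
    obtain ⟨ψ₀, hψ₀⟩ := Spec.map_surjective (IsOpenImmersion.lift hV'.fromSpec w hwr)
    have hψw : Spec.map ψ₀ ≫ hV'.fromSpec = w := by rw [hψ₀, IsOpenImmersion.lift_fac]
    have hρψ : ρ ≫ ψ₀ = CommRingCat.ofHom (IsLocalRing.residue A) := Spec.map_injective (by
      rw [Spec.map_comp, hρ, ← Category.assoc, hψw, hws])
    let ψ : C →ₐ[A] k := { ψ₀.hom with commutes' := fun a => congr($hρψ a) }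
    have hnil : ∀ t ∈ IsLocalRing.maximalIdeal A, t ≠ 0 → ∀ c, ψ c ≠ 0 → ∀ n : ℕ,
        algebraMap A C t ^ n * c ≠ 0 := by
      intro t ht ht0 c hc n hn
      obtain ⟨z, hz, hzne⟩ := (UOpenLib.isUnivOpenAt_iff_dvr f x).mp h A g hg x' hx' hcl
      let p₀ : Spec C := Spec.map ψ₀ (IsLocalRing.closedPoint k)
      have hp₀ : hV'.fromSpec p₀ = x' := by
        show hV'.fromSpec (Spec.map ψ₀ _) = w _
        rw [← Scheme.Hom.comp_apply, hψw]
      obtain ⟨q, hq⟩ : z ∈ Set.range hV'.fromSpec := by
        rw [hV'.range_fromSpec]; exact hz.mem_open V'.2 hxV'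
      have hqp : q ⤳ p₀ := by
        rw [← hV'.fromSpec.isOpenEmbedding.isInducing.specializes_iff, hq, hp₀]; exact hz
      have hle : q.asIdeal ≤ p₀.asIdeal := (PrimeSpectrum.le_iff_specializes _ _).mpr hqp
      have hcp : c ∉ p₀.asIdeal := fun hc' => hc ((Ideal.mem_bot (R := k)).mp (by
        have h1 : ψ₀ c ∈ IsLocalRing.maximalIdeal k := hc'
        rwa [IsLocalRing.maximalIdeal_eq_bot] at h1))
      have hqA : q.asIdeal.comap (algebraMap A C) = ⊥ := by
        have h2 : Spec.map ρ q = (⟨⊥, Ideal.isPrime_bot⟩ : PrimeSpectrum A) := by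
          rw [hρ, Scheme.Hom.comp_apply, hq]
          exact (UOpenLib.eq_closedPoint_or_eq_bot _).resolve_left hzne
        exact congrArg PrimeSpectrum.asIdeal h2
      have htq : algebraMap A C t ∉ q.asIdeal := fun h3 => by
        have h4 : t ∈ q.asIdeal.comap (algebraMap A C) := h3
        rw [hqA] at h4
        exact ht0 h4
      exact (q.isPrime.mem_or_mem (show algebraMap A C t ^ n * c ∈ q.asIdeal from hn ▸ zero_mem _)).elim
        (fun h5 => htq (q.isPrime.mem_of_pow_mem n h5)) (fun h5 => hcp (hle h5))
    obtain ⟨B, _, _, _, _, _, θ, hfin, hres⟩ := UOpenLib.exists_finite_dvr_point ψ hnil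
    refine ⟨CommRingCat.of B, ‹_›, ‹_›, algebraMap A B, ‹_›,
      Spec.map (CommRingCat.ofHom θ.toRingHom) ≫ hV'.fromSpec ≫ fst, ?_, ?_, ?_⟩
    · exact RingHom.finite_algebraMap.mpr hfin
    · have h1 : hV'.fromSpec ≫ fst ≫ f = Spec.map ρ ≫ g := by
        rw [hρ, Category.assoc, Limits.pullback.condition]
      rw [Category.assoc, Category.assoc, h1, ← Category.assoc, ← Spec.map_comp]
      congr 2
      ext a
      exact θ.commutes a
    · rw [← hwf, ← hψw, Category.assoc, ← Category.assoc, ← Category.assoc (Spec.map _) (Spec.map _),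
        ← Spec.map_comp, ← Spec.map_comp]
      congr 2
      ext c
      exact (hres c).symm
  · intro H
    refine (UOpenLib.isUnivOpenAt_iff_dvr f x).mpr fun A _ _ _ g hg x' hx' hcl => ?_
    classical
    let P := Limits.pullback f g
    let fst := Limits.pullback.fst f g
    let snd := Limits.pullback.snd f g
    let κ := P.residueField x'
    let K := AlgebraicClosure κ
    obtain ⟨a, ha⟩ := Spec.map_surjective (P.fromSpecResidueField x' ≫ snd)
    letI : Algebra A K := ((algebraMap κ K).comp a.hom).toAlgebra
    have hk : RingHom.ker (algebraMap A K) = IsLocalRing.maximalIdeal A := by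
      have h1 : Spec.map a (IsLocalRing.closedPoint κ) = IsLocalRing.closedPoint A := by
        rw [ha, Scheme.Hom.comp_apply, Scheme.fromSpecResidueField_apply]; exact hcl
      show RingHom.ker ((algebraMap κ K).comp a.hom) = _
      rw [RingHom.ker_comp_of_injective _ (algebraMap κ K).injective, RingHom.ker_eq_comap_bot]
      have h2 : (IsLocalRing.maximalIdeal κ).comap a.hom = IsLocalRing.maximalIdeal A :=
        congrArg PrimeSpectrum.asIdeal h1
      rwa [IsLocalRing.maximalIdeal_eq_bot] at h2
    obtain ⟨Λ, _, _, _, _, ψ, hcomp, hloc, hinj, hψs, hψk⟩ := UOpenLib.exists_complete_dvr_residue K hk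
    let e : IsLocalRing.ResidueField Λ ≃+* K :=
      (Ideal.quotEquivOfEq hψk.symm).trans (RingHom.quotientKerEquivOfSurjective (f := ψ.toRingHom) hψs)
    have he : ∀ l, e (IsLocalRing.residue Λ l) = ψ l := fun _ => rfl
    haveI : IsAlgClosed (IsLocalRing.ResidueField Λ) := IsAlgClosed.of_ringEquiv K _ e.symm
    let a' : κ →+* IsLocalRing.ResidueField Λ := e.symm.toRingHom.comp (algebraMap κ K)
    have hsq : a ≫ CommRingCat.ofHom a' = CommRingCat.ofHom ((IsLocalRing.residue Λ).comp (algebraMap A Λ)) := by
      ext r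
      apply e.injective
      show e (e.symm (algebraMap κ K (a r))) = e (IsLocalRing.residue Λ (algebraMap A Λ r))
      rw [RingEquiv.apply_symm_apply, he, ψ.commutes]
      rfl
    let g₁ := Spec.map (CommRingCat.ofHom (algebraMap A Λ)) ≫ g
    let u₀ := Spec.map (CommRingCat.ofHom a') ≫ P.fromSpecResidueField x' ≫ fst
    have hu₀ : u₀ ≫ f = Spec.map (CommRingCat.ofHom (IsLocalRing.residue Λ)) ≫ g₁ := by
      show _ = Spec.map _ ≫ Spec.map _ ≫ g
      rw [← Category.assoc (Spec.map _) (Spec.map _), ← Spec.map_comp, ← CommRingCat.ofHom_comp, ← hsq,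
        Spec.map_comp, ha]
      simp only [u₀, fst, snd, Category.assoc, Limits.pullback.condition]
      rfl
    have hg₁ : g₁ (IsLocalRing.closedPoint Λ) = f x := by
      rw [Scheme.Hom.comp_apply, ← hg]
      congr 1
      exact IsLocalRing.comap_closedPoint (algebraMap A Λ)
    have hxr : x ∈ Set.range u₀ := ⟨IsLocalRing.closedPoint _, by
      rw [Scheme.Hom.comp_apply, Scheme.Hom.comp_apply, Scheme.fromSpecResidueField_apply]; exact hx'⟩
    obtain ⟨B, _, _, φ, _, v, hfin, hv, hres⟩ := H Λ g₁ hg₁ u₀ hu₀ hxr
    let τ : A →+* B := φ.comp (algebraMap A Λ)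
    let m : Spec B ⟶ P := Limits.pullback.lift v (Spec.map (CommRingCat.ofHom τ)) (by
      rw [hv]
      show _ = Spec.map (CommRingCat.ofHom (φ.comp _)) ≫ g
      rw [CommRingCat.ofHom_comp, Spec.map_comp, Category.assoc])
    have hm : Spec.map (CommRingCat.ofHom (IsLocalRing.residue B)) ≫ m =
        Spec.map (CommRingCat.ofHom (IsLocalRing.ResidueField.map φ)) ≫ Spec.map (CommRingCat.ofHom a') ≫
          P.fromSpecResidueField x' := by
      refine Limits.pullback.hom_ext ?_ ?_
      · simp only [Category.assoc]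
        rw [Limits.pullback.lift_fst, ← hres]
      · simp only [Category.assoc]
        rw [Limits.pullback.lift_snd, ← ha, ← Spec.map_comp a]
        erw [hsq]
        rw [← Spec.map_comp, ← Spec.map_comp]
        congr 1
    have hcl' : m (IsLocalRing.closedPoint B) = x' := by
      have h1 := congrArg (fun q => q (IsLocalRing.closedPoint (IsLocalRing.ResidueField B))) hm
      simp only [Scheme.Hom.comp_apply, Scheme.fromSpecResidueField_apply] at h1
      rw [show (Spec.map (CommRingCat.ofHom (IsLocalRing.residue B))) (IsLocalRing.closedPoint _) =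
        IsLocalRing.closedPoint B from IsLocalRing.comap_closedPoint (IsLocalRing.residue B)] at h1
      exact h1.trans (P.fromSpecResidueField_apply x' _)
    have hφ : Function.Injective φ := by
      rw [injective_iff_map_eq_zero]
      intro l hl
      by_contra hl0
      letI := φ.toAlgebra
      haveI : Module.Finite Λ B := hfin
      obtain ⟨ϖ, hϖ⟩ := IsDiscreteValuationRing.exists_irreducible Λ
      obtain ⟨n, u, rfl⟩ := IsDiscreteValuationRing.eq_unit_mul_pow_irreducible hl0 hϖ
      rw [map_mul, map_pow] at hl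
      have h1 : φ ϖ = 0 := (pow_eq_zero_iff'.mp ((u.isUnit.map φ).mul_right_eq_zero.mp hl)).1
      have h2 : RingHom.ker φ = IsLocalRing.maximalIdeal Λ := by
        refine le_antisymm (IsLocalRing.le_maximalIdeal (RingHom.ker_ne_top φ)) ?_
        rw [hϖ.maximalIdeal_eq, Ideal.span_singleton_le_iff_mem]
        exact h1
      haveI : (RingHom.ker φ).IsMaximal := h2 ▸ IsLocalRing.maximalIdeal.isMaximal Λ
      letI := Ideal.Quotient.field (RingHom.ker φ)
      let φ' := RingHom.kerLift φ
      letI := φ'.toAlgebra
      haveI : IsScalarTower Λ (Λ ⧸ RingHom.ker φ) B := IsScalarTower.of_algebraMap_eq fun _ => rfl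
      haveI : Module.Finite (Λ ⧸ RingHom.ker φ) B := Module.Finite.of_restrictScalars_finite Λ _ _
      haveI : Algebra.IsIntegral (Λ ⧸ RingHom.ker φ) B := Algebra.IsIntegral.of_finite _ _
      exact IsDiscreteValuationRing.not_isField B
        ((Algebra.IsIntegral.isField_iff_isField (RingHom.kerLift_injective φ)).mp (Field.toIsField _))
    refine ⟨m (⟨⊥, Ideal.isPrime_bot⟩ : PrimeSpectrum B), ?_, ?_⟩
    · rw [← hcl']
      exact Specializes.map ((PrimeSpectrum.le_iff_specializes _ _).mp bot_le) m.continuous
    · rw [← Scheme.Hom.comp_apply, Limits.pullback.lift_snd]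
      intro h1
      have h2 : (⊥ : Ideal B).comap τ = IsLocalRing.maximalIdeal A := congrArg PrimeSpectrum.asIdeal h1
      rw [← RingHom.ker_eq_comap_bot, (RingHom.injective_iff_ker_eq_bot τ).mp (hφ.comp hinj)] at h2
      exact IsDiscreteValuationRing.not_a_field A h2.symm

end Groth.Agent.S4981
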