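import Groth.Statements.S4985
import Mathlib
import Groth.Agent.DimIneqLib.Dim
import Groth.Agent.FibDimLib.Formula
import Groth.Agent.BMLib.Geom
-- import your own Groth.Agent.* helpers here

set_option autoImplicit false
open CategoryTheory AlgebraicGeometry
universe u v w
open EGA43

namespace Groth.Agent.S4985

/-- Let Y be a locally Noetherian scheme, f : X ⟶ Y a morphism of finite type, x a point of X with y = f
x, X' an irreducible closed subset of X containing x, regarded as a reduced closed subscheme, and Y'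
the closure of f(X') regarded as a reduced closed subscheme of Y, with generic point η'. Write A, B,
A', B' for the local rings of Y at y, of X at x, of Y' at y and of X' at x, and B ⊗ κ(y), B' ⊗ κ(y)
for the local rings at x of the fibres over y of X and of X'. Then dim B' = dim A + dim(B ⊗ κ(y)) if
and only if all of the following hold: (i) dim A' = dim A; (ii) dim(B' ⊗ κ(y)) = dim(B ⊗ κ(y));
(iii) X' is equidimensional over Y' at x, i.e. the local dimension at x of the fibre of X' over y
equals dim(X' ∩ f⁻¹(η')); (iv) dim B' = dim A' + dim(B' ⊗ κ(y)) (the published (iv) carries the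
correction term dim_x − dim of (iii), which vanishes under (iii)). -/
theorem result {X Y : Scheme.{u}} [IsLocallyNoetherian Y] (f : X ⟶ Y)
    [LocallyOfFiniteType f] [QuasiCompact f] (x : X) (X' : TopologicalSpace.Closeds X) (hirr : IsIrreducible (X' : Set X))
    (hx : x ∈ X') (w : ↥(Scheme.IdealSheafData.vanishingIdeal X').subscheme)
    (hw : (Scheme.IdealSheafData.vanishingIdeal X').subschemeι.base w = x)
    (v : ↥(Scheme.IdealSheafData.vanishingIdeal
      (⟨closure (f.base '' (X' : Set X)), isClosed_closure⟩ : TopologicalSpace.Closeds Y)).subscheme)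
    (hv : (Scheme.IdealSheafData.vanishingIdeal
      (⟨closure (f.base '' (X' : Set X)), isClosed_closure⟩ : TopologicalSpace.Closeds Y)).subschemeι.base v = f.base x)
    (η' : Y) (hη' : closure ({η'} : Set Y) = closure (f.base '' (X' : Set X))) :
    letI ιX := (Scheme.IdealSheafData.vanishingIdeal X').subschemeι
    letI dA := ringKrullDim (Y.presheaf.stalk (f.base x))
    letI dB := ringKrullDim (X.presheaf.stalk x)
    letI dA' := ringKrullDim ((Scheme.IdealSheafData.vanishingIdeal
      (⟨closure (f.base '' (X' : Set X)), isClosed_closure⟩ : TopologicalSpace.Closeds Y)).subscheme.presheaf.stalk v)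
    letI dB' := ringKrullDim ((Scheme.IdealSheafData.vanishingIdeal X').subscheme.presheaf.stalk w)
    letI dBk := ringKrullDim ((f.fiber (f.base x)).presheaf.stalk (f.asFiber x))
    letI dB'k := ringKrullDim (((ιX ≫ f).fiber ((ιX ≫ f).base w)).presheaf.stalk ((ιX ≫ f).asFiber w))
    letI e' := topologicalKrullDim ↥((X' : Set X) ∩ f.base ⁻¹' {η'})
    (dB' = dA + dBk ↔
      (dA' = dA ∧ dB'k = dBk ∧ FlatMor.fibreDimAt (ιX ≫ f) w = e' ∧ dB' = dA' + dB'k)) := by
  subst hw
  set ιX := (Scheme.IdealSheafData.vanishingIdeal X').subschemeι with hιX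
  let Y' : TopologicalSpace.Closeds Y := ⟨closure (f.base '' (X' : Set X)), isClosed_closure⟩
  let ιY := (Scheme.IdealSheafData.vanishingIdeal Y').subschemeι
  set g := ιX ≫ f with hg
  haveI : LocallyOfFiniteType g := inferInstance
  haveI := BMLib.isReduced_vanishingIdeal X'
  have hrX : Set.range ιX.base = (X' : Set X) := by
    rw [Scheme.IdealSheafData.range_subschemeι, Scheme.IdealSheafData.coe_support_vanishingIdeal]
  let X1 := (Scheme.IdealSheafData.vanishingIdeal X').subscheme
  haveI : IrreducibleSpace X1 := by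
    rw [irreducibleSpace_def]
    refine ⟨⟨w, trivial⟩, fun u u' hu hu' ⟨p, _, hp⟩ ⟨q, _, hq⟩ => ?_⟩
    obtain ⟨O, hO, rfl⟩ := ιX.isEmbedding.isInducing.isOpen_iff.mp hu
    obtain ⟨O', hO', rfl⟩ := ιX.isEmbedding.isInducing.isOpen_iff.mp hu'
    obtain ⟨z, hz, h1, h2⟩ := hirr.2 O O' hO hO' ⟨ιX.base p, hrX ▸ ⟨p, rfl⟩, hp⟩ ⟨ιX.base q, hrX ▸ ⟨q, rfl⟩, hq⟩
    rw [← hrX] at hz
    obtain ⟨z', rfl⟩ := hz
    exact ⟨z', trivial, h1, h2⟩
  let ξ := genericPoint X1
  -- the morphism to the closure of the image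
  have hker : ιY.ker ≤ g.ker := by
    rw [Scheme.IdealSheafData.ker_subschemeι]
    refine BMLib.vanishingIdeal_le_ker g Y' ?_
    rintro _ ⟨a, rfl⟩
    exact subset_closure ⟨ιX.base a, hrX ▸ ⟨a, rfl⟩, rfl⟩
  let h := IsClosedImmersion.lift ιY g hker
  have hh : h ≫ ιY = g := IsClosedImmersion.lift_fac _ _ _
  haveI : LocallyOfFiniteType (h ≫ ιY) := by rw [hh]; infer_instance
  haveI : LocallyOfFiniteType h := locallyOfFiniteType_of_comp h ιY
  haveI : IsLocallyNoetherian (Scheme.IdealSheafData.vanishingIdeal Y').subscheme :=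
    LocallyOfFiniteType.isLocallyNoetherian ιY
  have hhw : h w = v := ιY.isEmbedding.injective (by rw [← Scheme.Hom.comp_apply, hh]; exact hv.symm)
  obtain ⟨ξ', hmax, -, hineq⟩ := DimIneqLib.stalk_le h w
  obtain rfl : ξ' = ξ := (hmax _ (genericPoint_specializes ξ')).symm
  subst hhw
  have htr : ∀ z, DimIneqLib.trH (g.residueFieldMap z).hom = DimIneqLib.trH (h.residueFieldMap z).hom := fun z => by
    have e : ∀ (q : X1 ⟶ Y) (_ : h ≫ ιY = q), DimIneqLib.trH (q.residueFieldMap z).hom =
        DimIneqLib.trH (h.residueFieldMap z).hom := by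
      rintro q rfl
      have e2 : ((h ≫ ιY).residueFieldMap z).hom = (h.residueFieldMap z).hom.comp (ιY.residueFieldMap (h z)).hom := by
        rw [Scheme.residueFieldMap_comp]; rfl
      rw [e2]
      exact ((DimIneqLib.trH_comp _ _).trans (congrArg (· + _)
        (DimIneqLib.trH_of_bijective _ (DimIneqLib.bijective_residueFieldMap ιY (h z))))).trans (zero_add _)
    exact e g hh
  rw [← htr, ← htr, ← DimIneqLib.fibreClosureDim_eq_trH, ← DimIneqLib.fibreClosureDim_eq_trH] at hineq
  -- the dimension of the generic fibre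
  have he : topologicalKrullDim ↥((X' : Set X) ∩ f.base ⁻¹' {η'}) = UOpenLib.fibreClosureDim g ξ := by
    have hgξ : g.base ξ = η' := by
      have h1 : IsGenericPoint (g.base ξ) (closure (g.base '' ⊤)) := (genericPoint_spec X1).image g.continuous
      have h2 : IsGenericPoint η' (closure (g.base '' ⊤)) := by
        show closure {η'} = _
        rw [hη', ← hrX, ← Set.range_comp, Set.top_eq_univ, Set.image_univ]
        rfl
      exact h1.eq h2
    rw [UOpenLib.fibreClosureDim_eq_inter, (genericPoint_spec X1).def, Set.univ_inter, hgξ]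
    have him : ιX.base '' (g.base ⁻¹' {η'}) = (X' : Set X) ∩ f.base ⁻¹' {η'} := by
      rw [show g.base ⁻¹' {η'} = ιX.base ⁻¹' (f.base ⁻¹' {η'}) from rfl, Set.image_preimage_eq_inter_range, hrX,
        Set.inter_comm]
    exact (IsHomeomorph.topologicalKrullDim_eq _
      ((ιX.isEmbedding.homeomorphImage (g.base ⁻¹' {η'})).trans (Homeomorph.setCongr him)).isHomeomorph).symm
  have hle := UOpenLib.fibreClosureDim_le_fibreDimAt g (genericPoint_specializes w : ξ ⤳ w)
  have hδ : FlatMor.fibreDimAt g w = UOpenLib.fibreClosureDim g w +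
      ringKrullDim ((g.fiber (g.base w)).presheaf.stalk (g.asFiber w)) :=
    @FibDimLib.localDim_eq_closure_add_stalk _ _ _ _ (UOpenLib.lft_fiberToSpec g _) _
  have hdA : ringKrullDim ((Scheme.IdealSheafData.vanishingIdeal Y').subscheme.presheaf.stalk (h w)) ≤
      ringKrullDim (Y.presheaf.stalk (f.base (ιX.base w))) := by
    rw [← hv]
    exact ringKrullDim_le_of_surjective _ (ιY.stalkMap_surjective (h w))
  haveI hlnFf : IsLocallyNoetherian (f.fiber (f.base (ιX.base w))) :=
    @LocallyOfFiniteType.isLocallyNoetherian _ _ _ (UOpenLib.lft_fiberToSpec f _) _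
  haveI hlnFg : IsLocallyNoetherian (g.fiber (g.base w)) :=
    @LocallyOfFiniteType.isLocallyNoetherian _ _ _ (UOpenLib.lft_fiberToSpec g _) _
  have hdk : ringKrullDim ((g.fiber (g.base w)).presheaf.stalk (g.asFiber w)) ≤
      ringKrullDim ((f.fiber (f.base (ιX.base w))).presheaf.stalk (f.asFiber (ιX.base w))) := by
    let m : g.fiber (g.base w) ⟶ f.fiber (f.base (ιX.base w)) :=
      Limits.pullback.map g (Y.fromSpecResidueField (g.base w)) f (Y.fromSpecResidueField (g.base w)) ιX (𝟙 _) (𝟙 _)
        (Category.comp_id _) ((Category.comp_id _).trans (Category.id_comp _).symm)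
    have hmι : m ≫ f.fiberι (f.base (ιX.base w)) = g.fiberι (g.base w) ≫ ιX := Limits.pullback.lift_fst _ _ _
    haveI : IsPreimmersion (g.fiberι (g.base w)) := MorphismProperty.pullback_fst _ _ inferInstance
    haveI : IsPreimmersion (m ≫ f.fiberι (f.base (ιX.base w))) := by rw [hmι]; infer_instance
    haveI : IsPreimmersion (f.fiberι (f.base (ιX.base w))) := MorphismProperty.pullback_fst _ _ inferInstance
    haveI : IsPreimmersion m := IsPreimmersion.of_comp m (f.fiberι (f.base (ιX.base w)))
    have hm : m (g.asFiber w) = f.asFiber (ιX.base w) := by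
      apply (f.fiberι (f.base (ιX.base w))).isEmbedding.injective
      rw [f.fiberι_asFiber, ← Scheme.Hom.comp_apply]
      rw [hmι, Scheme.Hom.comp_apply]
      exact congrArg ιX.base (g.fiberι_asFiber w)
    rw [← hm]
    exact ringKrullDim_le_of_surjective _ (m.stalkMap_surjective (g.asFiber w))
  have fin : ∀ (R : Type u) [CommRing R] [IsLocalRing R] [IsNoetherianRing R], ∃ n : ℕ, ringKrullDim R = n := by
    intro R _ _ _
    obtain ⟨n, hn⟩ := ENat.ne_top_iff_exists.mp (Ideal.height_ne_top (I := IsLocalRing.maximalIdeal R) Ideal.IsPrime.ne_top')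
    exact ⟨n, by rw [← IsLocalRing.maximalIdeal_height_eq_ringKrullDim, ← hn]; rfl⟩
  haveI : IsLocallyNoetherian X := LocallyOfFiniteType.isLocallyNoetherian f
  haveI : IsLocallyNoetherian X1 := LocallyOfFiniteType.isLocallyNoetherian g
  obtain ⟨a, ha⟩ := fin (Y.presheaf.stalk (f.base (ιX.base w)))
  obtain ⟨a', ha'⟩ := fin ((Scheme.IdealSheafData.vanishingIdeal Y').subscheme.presheaf.stalk (h w))
  obtain ⟨b', hb'⟩ := fin (X1.presheaf.stalk w)
  obtain ⟨k, hk⟩ := fin ((f.fiber (f.base (ιX.base w))).presheaf.stalk (f.asFiber (ιX.base w)))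
  obtain ⟨k', hk'⟩ := fin ((g.fiber (g.base w)).presheaf.stalk (g.asFiber w))
  obtain ⟨t, ht⟩ := UOpenLib.exists_fibreClosureDim_eq_nat g w
  obtain ⟨e, he'⟩ := UOpenLib.exists_fibreClosureDim_eq_nat g ξ
  rw [hb', ha', ht, he'] at hineq
  rw [hδ, ht, hk', he'] at hle
  rw [ha, ha'] at hdA
  rw [hk, hk'] at hdk
  norm_cast at hineq hle hdA hdk
  show ringKrullDim (X1.presheaf.stalk w) = _ + _ ↔ _ ∧ _ ∧ _ ∧ _
  rw [hb', ha, hk, ha', hk', hδ, ht, hk', he, he']
  norm_cast
  omega

end Groth.Agent.S4985
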