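import Groth.Statements.S4986
import Mathlib
import Groth.Agent.S4985
import Groth.Agent.FibDimLib.QFScheme

set_option autoImplicit false
open CategoryTheory AlgebraicGeometry
universe u v w
open EGA43

namespace Groth.Agent.S4986

/-- Let Y be locally Noetherian, f : X ⟶ Y of finite type, x ∈ X, y = f x, X' an irreducible closed
subset containing x with its reduced structure, Y' the closure of f(X') with its reduced structure
and generic point η', and A, B, A', B' the local rings of Y at y, of X at x, of Y' at y and of X' at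
x. Suppose dim B = dim A + dim(B ⊗ κ(y)). Then X' satisfies the four conditions (i) dim A' = dim A,
(ii) dim_x(X' ∩ X_y) = dim_x(X_y), (iii) X' equidimensional over Y' at x, (iv) dim B' = dim A' +
dim(B' ⊗ κ(y)), if and only if dim B' = dim B. -/
theorem result {X Y : Scheme.{u}} [IsLocallyNoetherian Y] (f : X ⟶ Y)
    [LocallyOfFiniteType f] [QuasiCompact f] (x : X) (X' : TopologicalSpace.Closeds X) (hirr : IsIrreducible (X' : Set X))
    (hx : x ∈ X') (w : ↥(Scheme.IdealSheafData.vanishingIdeal X').subscheme)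
    (hw : (Scheme.IdealSheafData.vanishingIdeal X').subschemeι.base w = x)
    (v : ↥(Scheme.IdealSheafData.vanishingIdeal
      (⟨closure (f.base '' (X' : Set X)), isClosed_closure⟩ : TopologicalSpace.Closeds Y)).subscheme)
    (hv : (Scheme.IdealSheafData.vanishingIdeal
      (⟨closure (f.base '' (X' : Set X)), isClosed_closure⟩ : TopologicalSpace.Closeds Y)).subschemeι.base v = f.base x)
    (η' : Y) (hη' : closure ({η'} : Set Y) = closure (f.base '' (X' : Set X))) :
    letI ιX := (Scheme.IdealSheafData.vanishingIdeal X').subschemeι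
    letI dA := ringKrullDim (Y.presheaf.stalk (f.base x))
    letI dB := ringKrullDim (X.presheaf.stalk x)
    letI dA' := ringKrullDim ((Scheme.IdealSheafData.vanishingIdeal
      (⟨closure (f.base '' (X' : Set X)), isClosed_closure⟩ : TopologicalSpace.Closeds Y)).subscheme.presheaf.stalk v)
    letI dB' := ringKrullDim ((Scheme.IdealSheafData.vanishingIdeal X').subscheme.presheaf.stalk w)
    letI dBk := ringKrullDim ((f.fiber (f.base x)).presheaf.stalk (f.asFiber x))
    letI dB'k := ringKrullDim (((ιX ≫ f).fiber ((ιX ≫ f).base w)).presheaf.stalk ((ιX ≫ f).asFiber w))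
    letI e' := topologicalKrullDim ↥((X' : Set X) ∩ f.base ⁻¹' {η'})
    dB = dA + dBk →
      ((dA' = dA ∧ FlatMor.localDim ↥((X' : Set X) ∩ f.base ⁻¹' {f.base x}) ⟨x, ⟨hx, rfl⟩⟩ = FlatMor.fibreDimAt f x ∧
        FlatMor.fibreDimAt (ιX ≫ f) w = e' ∧ dB' = dA' + dB'k) ↔ dB' = dB) := by
  intro hB
  subst hw
  set ιX := (Scheme.IdealSheafData.vanishingIdeal X').subschemeι with hιX
  set g := ιX ≫ f with hg
  haveI : LocallyOfFiniteType g := inferInstance
  have key := Groth.Agent.S4985.result f (ιX.base w) X' hirr hx w rfl v hv η' hη'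
  rw [hB, key]
  have hrX : Set.range ιX.base = (X' : Set X) := by
    rw [Scheme.IdealSheafData.range_subschemeι, Scheme.IdealSheafData.coe_support_vanishingIdeal]
  let P : X → Prop := fun z => f.base z = f.base (ιX.base w)
  -- the two fibres
  let e1 := (g.fiberι (g.base w)).isEmbedding.toHomeomorph.trans (Homeomorph.setCongr (g.range_fiberι (g.base w)))
  have him : ιX.base '' (g.base ⁻¹' {g.base w}) = (X' : Set X) ∩ f.base ⁻¹' {f.base (ιX.base w)} := by
    rw [show g.base ⁻¹' {g.base w} = ιX.base ⁻¹' (f.base ⁻¹' {f.base (ιX.base w)}) from rfl,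
      Set.image_preimage_eq_inter_range, hrX, Set.inter_comm]
  let e2 := (ιX.isEmbedding.homeomorphImage (g.base ⁻¹' {g.base w})).trans (Homeomorph.setCongr him)
  have hloc : FlatMor.localDim ↥((X' : Set X) ∩ f.base ⁻¹' {f.base (ιX.base w)}) ⟨ιX.base w, ⟨hx, rfl⟩⟩ =
      FlatMor.fibreDimAt g w := by
    have h1 := FibDimLib.localDim_eq_of_isOpenEmbedding (e1.trans e2).isOpenEmbedding (g.asFiber w)
    rw [FlatMor.fibreDimAt]
    refine Eq.trans ?_ h1
    congr 1
    exact Subtype.ext (congrArg ιX.base (g.fiberι_asFiber w)).symm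
  have hδg : FlatMor.fibreDimAt g w = UOpenLib.fibreClosureDim g w +
      ringKrullDim ((g.fiber (g.base w)).presheaf.stalk (g.asFiber w)) :=
    @FibDimLib.localDim_eq_closure_add_stalk _ _ _ _ (UOpenLib.lft_fiberToSpec g _) _
  have hδf : FlatMor.fibreDimAt f (ιX.base w) = UOpenLib.fibreClosureDim f (ιX.base w) +
      ringKrullDim ((f.fiber (f.base (ιX.base w))).presheaf.stalk (f.asFiber (ιX.base w))) :=
    @FibDimLib.localDim_eq_closure_add_stalk _ _ _ _ (UOpenLib.lft_fiberToSpec f _) _
  have hcl : UOpenLib.fibreClosureDim g w = UOpenLib.fibreClosureDim f (ιX.base w) := by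
    rw [UOpenLib.fibreClosureDim_eq_inter, UOpenLib.fibreClosureDim_eq_inter]
    have h1 : ιX.base '' (closure {w} ∩ g.base ⁻¹' {g.base w}) =
        closure {ιX.base w} ∩ f.base ⁻¹' {f.base (ιX.base w)} := by
      rw [show g.base ⁻¹' {g.base w} = ιX.base ⁻¹' (f.base ⁻¹' {f.base (ιX.base w)}) from rfl,
        Set.image_inter_preimage, ← ιX.isClosedEmbedding.closure_image_eq, Set.image_singleton]
    let e := (ιX.isEmbedding.homeomorphImage (closure {w} ∩ g.base ⁻¹' {g.base w})).trans (Homeomorph.setCongr h1)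
    exact IsHomeomorph.topologicalKrullDim_eq e e.isHomeomorph
  have hiff : FlatMor.localDim ↥((X' : Set X) ∩ f.base ⁻¹' {f.base (ιX.base w)}) ⟨ιX.base w, ⟨hx, rfl⟩⟩ =
      FlatMor.fibreDimAt f (ιX.base w) ↔
      ringKrullDim ((g.fiber (g.base w)).presheaf.stalk (g.asFiber w)) =
        ringKrullDim ((f.fiber (f.base (ιX.base w))).presheaf.stalk (f.asFiber (ιX.base w))) := by
    obtain ⟨t, ht⟩ := UOpenLib.exists_fibreClosureDim_eq_nat g w
    have fin : ∀ (R : Type u) [CommRing R] [IsLocalRing R] [IsNoetherianRing R], ∃ n : ℕ, ringKrullDim R = n := by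
      intro R _ _ _
      obtain ⟨n, hn⟩ := ENat.ne_top_iff_exists.mp (Ideal.height_ne_top (I := IsLocalRing.maximalIdeal R) Ideal.IsPrime.ne_top')
      exact ⟨n, by rw [← IsLocalRing.maximalIdeal_height_eq_ringKrullDim, ← hn]; rfl⟩
    haveI : IsLocallyNoetherian (f.fiber (f.base (ιX.base w))) :=
      @LocallyOfFiniteType.isLocallyNoetherian _ _ _ (UOpenLib.lft_fiberToSpec f _) _
    haveI : IsLocallyNoetherian (g.fiber (g.base w)) :=
      @LocallyOfFiniteType.isLocallyNoetherian _ _ _ (UOpenLib.lft_fiberToSpec g _) _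
    obtain ⟨k, hk⟩ := fin ((f.fiber (f.base (ιX.base w))).presheaf.stalk (f.asFiber (ιX.base w)))
    obtain ⟨k', hk'⟩ := fin ((g.fiber (g.base w)).presheaf.stalk (g.asFiber w))
    rw [hloc, hδg, hδf, ← hcl, ht, hk, hk']
    norm_cast
    omega
  rw [hiff]

end Groth.Agent.S4986
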