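import Groth.Statements.S4987
-- import your own Groth.Agent.* helpers here

set_option autoImplicit false
universe u
open CategoryTheory CategoryTheory.Limits AlgebraicGeometry TopologicalSpace
open Unram17

namespace Groth.Agent.S4987

/-- Let h : Y ⟶ S be formally unramified and locally of finite type, let f, g : X ⟶ Y be two morphisms
over S whose common composite X ⟶ S is closed as a map of topological spaces, and let s be a point
of S such that f and g have the same restriction to the scheme-theoretic fibre of X over s. Then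
there is an open neighbourhood V of s such that f and g agree on the preimage of V. -/
theorem result {X Y S : Scheme.{u}} (h : Y ⟶ S)
    [FormallyUnramified h] [LocallyOfFiniteType h] (f g : X ⟶ Y) (w : g ≫ h = f ≫ h)
    (hc : IsClosedMap (f ≫ h).base) (s : ↥S)
    (hs : (f ≫ h).fiberι s ≫ f = (f ≫ h).fiberι s ≫ g) :
    ∃ V : S.Opens, s ∈ V ∧ ((f ≫ h) ⁻¹ᵁ V).ι ≫ f = ((f ≫ h) ⁻¹ᵁ V).ι ≫ g := by
  let d := pullback.diagonal h
  let U : X.Opens := pullback.lift f g w.symm ⁻¹ᵁ d.opensRange
  have hlift : ∀ x : ↥((f ≫ h).fiber s), (f ≫ h).fiberι s x ∈ U := by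
    intro x
    show pullback.lift f g w.symm ((f ≫ h).fiberι s x) ∈ d.opensRange
    refine ⟨f ((f ≫ h).fiberι s x), ?_⟩
    have e : (f ≫ h).fiberι s ≫ pullback.lift f g w.symm = ((f ≫ h).fiberι s ≫ f) ≫ d := by
      refine pullback.hom_ext ?_ ?_
      · rw [Category.assoc, Category.assoc, pullback.lift_fst]
        simp [d]
      · rw [Category.assoc, Category.assoc, pullback.lift_snd]
        simp [d, hs]
    exact (congrArg (fun k => k x) e).symm
  let C : Set S := (f ≫ h).base '' (U : Set X)ᶜ
  refine ⟨⟨Cᶜ, (hc _ U.isOpen.isClosed_compl).isOpen_compl⟩, ?_, ?_⟩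
  · rintro ⟨x, hx, hxs⟩
    obtain ⟨z, hz⟩ : x ∈ Set.range ((f ≫ h).fiberι s) := by
      rw [(f ≫ h).range_fiberι]
      exact hxs
    exact hx (hz ▸ hlift z)
  · let V : S.Opens := ⟨Cᶜ, (hc _ U.isOpen.isClosed_compl).isOpen_compl⟩
    let ι := ((f ≫ h) ⁻¹ᵁ V).ι
    have hr : Set.range (ι ≫ pullback.lift f g w.symm) ⊆ Set.range d := by
      rintro _ ⟨x, rfl⟩
      have hxU : ι x ∈ U := by
        by_contra hn
        exact (x.2 : (f ≫ h) x.1 ∈ V) ⟨x.1, hn, rfl⟩
      exact hxU
    let k := IsOpenImmersion.lift d (ι ≫ pullback.lift f g w.symm) hr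
    have hk : k ≫ d = ι ≫ pullback.lift f g w.symm := IsOpenImmersion.lift_fac d _ hr
    have h1 : ι ≫ f = k := by
      have := congrArg (fun m => m ≫ pullback.fst h h) hk
      rw [Category.assoc, Category.assoc, pullback.lift_fst] at this
      simpa [d] using this.symm
    have h2 : ι ≫ g = k := by
      have := congrArg (fun m => m ≫ pullback.snd h h) hk
      rw [Category.assoc, Category.assoc, pullback.lift_snd] at this
      simpa [d] using this.symm
    exact h1.trans h2.symm

end Groth.Agent.S4987
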