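import Groth.Statements.S4994
import Groth.Agent.QSecLib.Scheme

set_option autoImplicit false
universe u
open CategoryTheory CategoryTheory.Limits AlgebraicGeometry TopologicalSpace
open Unram17

namespace Groth.Agent.S4994

/-- Let f : X ⟶ Y be locally of finite presentation. The diagonal X ⟶ X ×_Y X is a quasi-regular
immersion (that is, f is differentially smooth) if and only if the second projection X ×_Y X ⟶ X is
smooth at every point of the image of the diagonal. -/
theorem result {X Y : Scheme.{u}} (f : X ⟶ Y)
    [LocallyOfFinitePresentation f] :
    RegImm.IsRegularImmersion RegImm.Kind.quasi (pullback.diagonal f) ↔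
      ∀ x : ↥X, (pullback.diagonal f).base x ∈ (pullback.snd f f).smoothLocus := by
  constructor
  · intro h x
    haveI : IsOpenImmersion (pullback.diagonal f ≫ pullback.snd f f) := by
      rw [pullback.diagonal_snd]
      infer_instance
    exact QSecLib.mem_smoothLocus_of_quasi (pullback.snd f f) (pullback.diagonal f) x (h.2 x)
  · intro h
    haveI : Smooth (pullback.diagonal f ≫ pullback.snd f f) := by
      rw [pullback.diagonal_snd]
      infer_instance
    exact ⟨inferInstance, fun z => QSecLib.quasi_of_mem_smoothLocus (pullback.snd f f) _ z (h z)⟩

end Groth.Agent.S4994
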