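import Groth.Statements.S4996
import Mathlib
import Groth.Agent.DiagLib.Smooth
-- import your own Groth.Agent.* helpers here

set_option autoImplicit false
universe u
open Unram17

namespace Groth.Agent.S4996

open TensorProduct in
/-- Let B be a finitely presented algebra over a commutative ring A. Then B is smooth over A if and only
if B is flat over A and every fibre ring κ(p) ⊗_A B, p a prime of A, is geometrically regular over
the residue field κ(p), i.e. stays a regular ring after base change to any finite extension of κ(p). -/
theorem result (A B : Type u) [CommRing A] [CommRing B]
    [Algebra A B] [Algebra.FinitePresentation A B] :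
    Algebra.Smooth A B ↔
      Module.Flat A B ∧ ∀ (p : Ideal A) [p.IsPrime], CAlg.IsGeometricallyRegular p.ResidueField (p.Fiber B) := by
  constructor
  · intro h
    haveI := h
    refine ⟨inferInstance, fun p _ => ?_⟩
    haveI : IsNoetherianRing (p.Fiber B) := Algebra.FiniteType.isNoetherianRing p.ResidueField _
    exact JacFSLib.isGeometricallyRegular_of_formallySmooth
  · rintro ⟨hflat, hreg⟩
    haveI := hflat
    refine Algebra.Smooth.of_formallySmooth_fiber fun I _ => ?_
    haveI : Algebra.FinitePresentation I.ResidueField (I.Fiber B) := inferInstance
    refine Algebra.smoothLocus_eq_univ_iff.1 (Set.eq_univ_iff_forall.2 fun q => ?_)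
    exact DiagLib.formallySmooth_of_isGeometricallyRegular (F := Localization.AtPrime q.asIdeal)
      (JacFSLib.isGeometricallyRegular_of_isLocalization q.asIdeal.primeCompl (hreg I))

end Groth.Agent.S4996
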