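import Groth.Statements.S5004
import Groth.Agent.RegImmKindLib.Mor

-- import your own Groth.Agent.* helpers here

set_option autoImplicit false
universe u
open CategoryTheory CategoryTheory.Limits AlgebraicGeometry TopologicalSpace
open Nrm16

namespace Groth.Agent.S5004



/-- On a locally Noetherian scheme, every quasi-regular (quasi-coherent) ideal sheaf is a regular ideal
sheaf. -/
theorem result {X : Scheme.{u}} [IsLocallyNoetherian X] (I : X.IdealSheafData)
    (h : RegImm.IsRegularIdeal RegImm.Kind.quasi I) : RegImm.IsRegularIdeal RegImm.Kind.regular I := by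
  intro x hx
  rw [← SetLike.mem_coe, ← I.range_subschemeι] at hx
  obtain ⟨z, rfl⟩ := hx
  have hz : I.subschemeι z ∈ I.support := by rw [← SetLike.mem_coe, ← I.range_subschemeι]; exact ⟨z, rfl⟩
  obtain ⟨U, hzU, rs, hrs, hI⟩ := h _ hz
  have hker : ∀ U : X.affineOpens, RingHom.ker (I.subschemeι.app U.1).hom = I.ideal U := fun U => by
    rw [← Scheme.Hom.ker_apply I.subschemeι U, I.ker_subschemeι]
  have h1 : RegImm.IsRegularImmersionAt .quasi I.subschemeι z :=
    ⟨U, hzU, MorphismProperty.of_isPullback (isPullback_morphismRestrict I.subschemeι U.1).flip inferInstance, rs, hrs,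
      (hker U).trans hI⟩
  obtain ⟨V, hzV, -, rs', hrs', hI'⟩ := (RegImmKindLib.isRegularImmersionAt_iff I.subschemeι .regular z).2
    ((RegImmKindLib.isRegularImmersionAt_iff I.subschemeι .quasi z).1 h1)
  exact ⟨V, hzV, rs', hrs', (hker V).symm.trans hI'⟩


end Groth.Agent.S5004
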