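import Groth.Statements.S5006
import Mathlib


-- import your own Groth.Agent.* helpers here

set_option autoImplicit false
universe u
open Nrm16

namespace Groth.Agent.S5006

/-- Let A be a commutative ring, I a finitely generated ideal and p a prime ideal containing I. Then
some basic open neighbourhood of p in Spec A is contained in the closed set V(I) (so that V(I) ⟶
Spec A is a local homeomorphism onto an open set near p) if and only if there is an integer n > 0
with I^n A_p = I^(n+1) A_p in the local ring at p. Affine form. -/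
theorem result (A : Type u) [CommRing A] (I : Ideal A) (hI : I.FG)
    (p : Ideal A) [p.IsPrime] (hp : I ≤ p) :
    (∃ f : A, f ∉ p ∧ ∀ q : Ideal A, q.IsPrime → f ∉ q → I ≤ q) ↔
      ∃ n : ℕ, 0 < n ∧
        (I ^ n).map (algebraMap A (Localization.AtPrime p)) =
          (I ^ (n + 1)).map (algebraMap A (Localization.AtPrime p)) := by
  set R := Localization.AtPrime p
  constructor
  · rintro ⟨f, hf, h⟩
    have hrad : I.map (algebraMap A R) ≤ (⊥ : Ideal R).radical := by
      rw [Ideal.map_le_iff_le_comap, Ideal.radical_eq_sInf]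
      intro a ha
      refine Submodule.mem_sInf.2 fun Q ⟨_, hQ⟩ => ?_
      haveI := hQ
      refine h (Ideal.comap (algebraMap A R) Q) inferInstance (fun hfQ => ?_) ha
      exact hQ.ne_top (Ideal.eq_top_of_isUnit_mem Q hfQ (IsLocalization.map_units R (⟨f, hf⟩ : p.primeCompl)))
    obtain ⟨n, hn⟩ := Ideal.exists_pow_le_of_le_radical_of_fg (J := (⊥ : Ideal R)) hrad (hI.map _)
    rw [← Ideal.map_pow, le_bot_iff] at hn
    refine ⟨n + 1, Nat.succ_pos n, ?_⟩
    rw [Ideal.map_pow, Ideal.map_pow, pow_succ _ (n + 1), pow_succ, ← Ideal.map_pow, hn, Ideal.bot_mul, Ideal.bot_mul]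
  · rintro ⟨n, -, hn⟩
    have h0 : (I ^ n).map (algebraMap A R) = ⊥ := by
      refine Submodule.eq_bot_of_le_smul_of_le_jacobson_bot (I.map (algebraMap A R)) _ ((hI.pow).map _) (le_of_eq ?_) ?_
      · rw [smul_eq_mul, ← Ideal.map_mul, ← pow_succ', hn]
      · rw [IsLocalRing.jacobson_eq_maximalIdeal _ bot_ne_top, ← IsLocalization.AtPrime.map_eq_maximalIdeal p R]
        exact Ideal.map_mono hp
    obtain ⟨G, hG⟩ := hI.pow (n := n)
    have hk : ∀ g : G, ∃ c : p.primeCompl, (c : A) * (g : A) = 0 := fun g => by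
      have : algebraMap A R (g : A) = 0 := by
        rw [← Ideal.mem_bot, ← h0]; exact Ideal.mem_map_of_mem _ (hG ▸ Ideal.subset_span g.2)
      exact (IsLocalization.map_eq_zero_iff p.primeCompl R _).1 this
    choose c hc using hk
    refine ⟨∏ g : G, (c g : A), fun hmem => ?_, fun q hq hfq => ?_⟩
    · obtain ⟨g, -, hg⟩ := Ideal.IsPrime.prod_mem_iff.1 hmem
      exact (c g).2 hg
    · refine Ideal.IsPrime.le_of_pow_le (n := n) (hP := hq) ?_
      rw [← hG, Ideal.span_le]
      intro g hg
      refine (hq.mem_or_mem ?_).resolve_left hfq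
      obtain ⟨w, hw⟩ := Finset.dvd_prod_of_mem (fun g : G => (c g : A)) (Finset.mem_univ ⟨g, hg⟩)
      rw [show (∏ g : G, (c g : A)) = c ⟨g, hg⟩ * w from hw, mul_right_comm, hc ⟨g, hg⟩, zero_mul]
      exact zero_mem q

end Groth.Agent.S5006
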