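import Groth.Statements.S5012
import Groth.Agent.GeomRedFieldLib.Local
-- import your own Groth.Agent.* helpers here

set_option autoImplicit false
universe u
open Unram17

namespace Groth.Agent.S5012

/-- Let A be an algebra of finite type over a field k. Then Spec A has a dense open subset consisting of
points at which A is smooth over k if and only if, for every minimal prime p of A, the local ring
A_p is geometrically reduced over k (that is, A_p is a field and a separable extension of k). -/
theorem result (k A : Type u) [Field k] [CommRing A] [Algebra k A]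
    [Algebra.FiniteType k A] :
    (∃ U : TopologicalSpace.Opens (PrimeSpectrum A), Dense (U : Set (PrimeSpectrum A)) ∧
        ∀ p ∈ U, Algebra.IsSmoothAt k p.asIdeal) ↔
      ∀ (p : Ideal A) [p.IsPrime], p ∈ minimalPrimes A →
        Algebra.IsGeometricallyReduced k (Localization.AtPrime p) := by
  haveI : IsNoetherianRing A := Algebra.FiniteType.isNoetherianRing k A
  haveI : Algebra.FinitePresentation k A := Algebra.FinitePresentation.of_finiteType.mp inferInstance
  constructor
  · rintro ⟨U, hU, hs⟩ p _ hp
    refine GeomRedFieldLib.isGeometricallyReduced_of_isSmoothAt p hp (hs ⟨p, inferInstance⟩ ?_)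
    have hfin : (minimalPrimes A).Finite := minimalPrimes.finite_of_isNoetherianRing A
    let V : Set (PrimeSpectrum A) := (⋃ q ∈ minimalPrimes A \ {p}, PrimeSpectrum.zeroLocus (q : Set A))ᶜ
    have hV : IsOpen V := isOpen_compl_iff.mpr
      (Set.Finite.isClosed_biUnion (hfin.subset Set.sdiff_subset) fun q _ ↦ PrimeSpectrum.isClosed_zeroLocus _)
    have hpV : (⟨p, inferInstance⟩ : PrimeSpectrum A) ∈ V := by
      simp only [V, Set.mem_compl_iff, Set.mem_iUnion, not_exists]
      rintro q ⟨hq, hne⟩ hle
      exact hne (le_antisymm hle (hp.2 hq.1 hle))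
    obtain ⟨u, huV, huU⟩ := hU.inter_open_nonempty V hV ⟨_, hpV⟩
    obtain ⟨q, hq, hqu⟩ := Ideal.exists_minimalPrimes_le (show (⊥ : Ideal A) ≤ u.asIdeal from bot_le)
    obtain rfl : q = p := by
      by_contra hne
      simp only [V, Set.mem_compl_iff, Set.mem_iUnion, not_exists] at huV
      exact huV q ⟨hq, hne⟩ hqu
    exact ((PrimeSpectrum.le_iff_specializes ⟨q, inferInstance⟩ u).mp hqu).mem_open U.2 huU
  · intro h
    refine ⟨⟨Algebra.smoothLocus k A, Algebra.isOpen_smoothLocus⟩, ?_, fun p hp ↦ hp⟩
    rw [dense_iff_closure_eq, Set.eq_univ_iff_forall]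
    intro x
    obtain ⟨P, hP, hPx⟩ := Ideal.exists_minimalPrimes_le (show (⊥ : Ideal A) ≤ x.asIdeal from bot_le)
    haveI := hP.1.1
    exact ((PrimeSpectrum.le_iff_specializes ⟨P, hP.1.1⟩ x).mp hPx).mem_closed isClosed_closure
      (subset_closure (GeomRedFieldLib.isSmoothAt_of_minimalPrime P hP (h P hP)))

end Groth.Agent.S5012
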