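import Groth.Statements.S5016
import Groth.Agent.S13458
import Groth.Agent.OmegaAffLib.Consequences
import Mathlib.RingTheory.Kaehler.JacobiZariski
import Mathlib.RingTheory.Smooth.Basic

set_option autoImplicit false
universe u
open CategoryTheory CategoryTheory.Limits AlgebraicGeometry TopologicalSpace
open Unram17

namespace Groth.Agent.S5016

/-- Let g : Y ⟶ S, h : X ⟶ S and f : X ⟶ Y with f ≫ g = h, and suppose f is formally smooth. Given
sheaves of differentials of Y over S and of X over S (universal derivations) and the canonical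
compatible map c from the pullback of the former to the latter, c is a monomorphism of O_X-modules.
(The published statement also identifies the cokernel of this map with the sheaf of differentials of
X over Y and splits the sequence locally; this row states only that the map is injective.) -/
theorem result {X Y S : Scheme.{u}} (g : Y ⟶ S) (h : X ⟶ S)
    (f : X ⟶ Y) (w : f ≫ g = h) (hf : MoreMor.IsFormallySmoothHom f)
    (ΩY : Y.Modules) (dY : OmegaSh.Der g ΩY) (hY : OmegaSh.IsUniversal dY)
    (ΩX : X.Modules) (dX : OmegaSh.Der h ΩX) (hX : OmegaSh.IsUniversal dX)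
    (c : (Scheme.Modules.pullback f).obj ΩY ⟶ ΩX) (hc : OmegaSh.IsDiffCompat f dY dX c) :
    Mono c := by
  haveI : Coh.IsQCoh ΩY := OmegaAffLib.isQCoh_of_isUniversal hY
  haveI : Coh.IsQCoh ΩX := OmegaAffLib.isQCoh_of_isUniversal hX
  haveI : Coh.IsQCoh ((Scheme.Modules.pullback f).obj ΩY) := KFlatLib.isQCoh_pullback f ΩY
  refine Groth.Agent.S13458.mono_of_injective_charts c fun x => ?_
  obtain ⟨V, hV, hxV, -⟩ := exists_isAffineOpen_mem_and_subset (show g (f x) ∈ (⊤ : S.Opens) from trivial)
  obtain ⟨U, hU, hxU, hUV⟩ := exists_isAffineOpen_mem_and_subset (show f x ∈ g ⁻¹ᵁ V from hxV)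
  obtain ⟨U', hU'a, hxU', hU'⟩ := exists_isAffineOpen_mem_and_subset (show x ∈ f ⁻¹ᵁ U from hxU)
  refine ⟨U', hU'a, hxU', ?_⟩
  have e₂ : U' ≤ h ⁻¹ᵁ V := fun z hz => by
    show h z ∈ V
    rw [← w, Scheme.Hom.comp_apply]
    exact hUV (hU' hz)
  letI := (g.appLE V U hUV).hom.toAlgebra
  letI := (h.appLE V U' e₂).hom.toAlgebra
  letI := (f.appLE U U' hU').hom.toAlgebra
  haveI : IsScalarTower Γ(S, V) Γ(Y, U) Γ(X, U') := IsScalarTower.of_algebraMap_eq' (by
    show (h.appLE V U' e₂).hom = (f.appLE U U' hU').hom.comp (g.appLE V U hUV).hom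
    rw [← CommRingCat.hom_comp]
    exact congrArg CommRingCat.Hom.hom
      ((OmegaSh.appLE_congr_hom w.symm _ _).trans (Scheme.Hom.appLE_comp_appLE f g V U U' hUV hU').symm))
  haveI : Algebra.FormallySmooth Γ(Y, U) Γ(X, U') := OmegaAffLib.formallySmooth_appLE' f hf hU hU'a hU'
  refine Groth.Agent.S13458.injective_app_of_algebra hY hX hc hV hU hUV hU'a e₂ hU' rfl rfl rfl ?_
  refine (injective_iff_map_eq_zero _).mpr fun t ht => ?_
  obtain ⟨s, rfl⟩ := (Algebra.H1Cotangent.exact_δ_mapBaseChange Γ(S, V) Γ(Y, U) Γ(X, U') t).mp ht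
  rw [Subsingleton.elim s 0, map_zero]

end Groth.Agent.S5016
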