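import Groth.Statements.S5027
import Groth.Agent.S2141
import Groth.Agent.S2469
import Groth.Agent.S4523

set_option autoImplicit false
universe u
open Unram17

namespace Groth.Agent.S5027

open scoped KaehlerDifferential

/-- Let A be an algebra of finite type over a field k, p a prime of A such that Spec A has local
dimension n at p, and r the Krull dimension of the local ring A_p. Then A_p is regular and the
residue field κ(p) is a separable extension of k (geometrically reduced over k) if and only if there
exist n elements of the local ring A_p (germs at p in place of sections over an open neighbourhood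
of p, which is equivalent) of which those with index < r generate the maximal ideal and the residue
classes of the remaining ones have differentials generating the module of differentials of κ(p) over
k. -/
theorem result (k A : Type u) [Field k]
    [CommRing A] [Algebra k A] [Algebra.FiniteType k A] (n r : ℕ) (p : Ideal A) [p.IsPrime]
    (hn : FlatMor.localDim (PrimeSpectrum A) ⟨p, inferInstance⟩ = (n : WithBot ℕ∞))
    (hr : ringKrullDim (Localization.AtPrime p) = (r : WithBot ℕ∞)) :
    (IsRegularLocalRing (Localization.AtPrime p) ∧ Algebra.IsGeometricallyReduced k p.ResidueField) ↔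
      ∃ g : Fin n → Localization.AtPrime p,
        Ideal.span (g '' {i : Fin n | (i : ℕ) < r}) = IsLocalRing.maximalIdeal (Localization.AtPrime p) ∧
          Submodule.span p.ResidueField ((fun i : Fin n =>
            KaehlerDifferential.D k p.ResidueField (IsLocalRing.residue (Localization.AtPrime p) (g i))) ''
              {i : Fin n | r ≤ (i : ℕ)}) = ⊤ := by
  classical
  haveI : IsNoetherianRing A := Algebra.FiniteType.isNoetherianRing k A
  haveI : IsNoetherianRing (Localization.AtPrime p) := IsLocalization.isNoetherianRing p.primeCompl _ inferInstance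
  haveI : Algebra.EssFiniteType A (Localization.AtPrime p) :=
    Algebra.EssFiniteType.of_isLocalization _ p.primeCompl
  haveI : Algebra.EssFiniteType k (Localization.AtPrime p) := Algebra.EssFiniteType.comp k A _
  haveI : Algebra.EssFiniteType k p.ResidueField :=
    Algebra.EssFiniteType.comp k (Localization.AtPrime p) p.ResidueField
  let K := p.ResidueField
  obtain ⟨hfin, hfinU, hU⟩ := Groth.Agent.S2469.result (K := k) (L := K)
  haveI := hfin
  haveI := hfinU
  have hfinite : Algebra.trdeg k K < Cardinal.aleph0 := by
    haveI : IsDomain (A ⧸ p) := Ideal.Quotient.isDomain p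
    haveI : Algebra.IsAlgebraic (A ⧸ p) K := IsLocalization.isAlgebraic K (nonZeroDivisors (A ⧸ p))
    haveI : FaithfulSMul (A ⧸ p) K :=
      (faithfulSMul_iff_algebraMap_injective _ _).mpr (IsFractionRing.injective (A ⧸ p) K)
    rw [← trdeg_add_eq k (A ⧸ p) (A := K), trdeg_eq_zero (R := A ⧸ p) (A := K), add_zero]
    exact trdeg_lt_aleph0_of_finiteType
  obtain ⟨t, ht⟩ := Cardinal.lt_aleph0.mp hfinite
  have hnrt : n = r + t := by
    have h := Groth.Agent.S2141.result p t ht
    rw [hn, hr] at h
    exact_mod_cast h
  rw [ht, Cardinal.toNat_natCast] at hU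
  have hsep : Algebra.IsGeometricallyReduced k K ↔ Module.finrank K (Ω[K⁄k]) ≤ t := by
    rw [(Groth.Agent.S4523.result (k := k) (K := K)).1, ← Submodule.finrank_eq_zero]
    omega
  have hD : Submodule.span K (Set.range (KaehlerDifferential.D k K)) = ⊤ :=
    KaehlerDifferential.span_range_derivation k K
  constructor
  · rintro ⟨hreg, hgr⟩
    have hrank : (IsLocalRing.maximalIdeal (Localization.AtPrime p)).spanFinrank = r := by
      have h := (isRegularLocalRing_iff (Localization.AtPrime p)).mp hreg
      rw [hr] at h
      exact_mod_cast h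
    obtain ⟨T, hTcard, hTspan⟩ := Submodule.FG.exists_span_finset_card_eq_spanFinrank
      (IsNoetherian.noetherian (IsLocalRing.maximalIdeal (Localization.AtPrime p)))
    rw [hrank] at hTcard
    let e := (Finset.equivFinOfCardEq hTcard).symm
    obtain ⟨f, hf, hfspan, -⟩ :=
      Submodule.exists_fun_fin_finrank_span_eq K (Set.range (KaehlerDifferential.D k K))
    choose y hy using hf
    choose z hz using fun i => IsLocalRing.residue_surjective (y i)
    have hle : Module.finrank K (Submodule.span K (Set.range (KaehlerDifferential.D k K))) ≤ t := by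
      rw [hD, finrank_top]
      exact hsep.mp hgr
    let g : Fin n → Localization.AtPrime p := fun i =>
      if h : (i : ℕ) < r then (e ⟨i, h⟩ : Localization.AtPrime p)
      else if h' : (i : ℕ) - r < Module.finrank K (Submodule.span K (Set.range (KaehlerDifferential.D k K)))
        then z ⟨(i : ℕ) - r, h'⟩ else 0
    refine ⟨g, ?_, ?_⟩
    · refine le_antisymm (Ideal.span_le.mpr ?_) ?_
      · rintro _ ⟨i, hi, rfl⟩
        have hi' : (i : ℕ) < r := hi
        simp only [g, dif_pos hi']
        rw [← hTspan]
        exact Submodule.subset_span (e ⟨i, hi'⟩).2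
      · rw [← hTspan]
        refine Submodule.span_mono ?_
        intro x hx
        obtain ⟨j, hj⟩ := e.surjective ⟨x, hx⟩
        refine ⟨⟨j, by omega⟩, j.2, ?_⟩
        simp only [g, dif_pos j.2, Fin.eta, hj]
    · rw [eq_top_iff, ← hD, ← hfspan]
      refine Submodule.span_mono ?_
      rintro _ ⟨j, rfl⟩
      have hjt : (j : ℕ) < t := lt_of_lt_of_le j.2 hle
      refine ⟨⟨r + j, by omega⟩, Nat.le_add_right r j, ?_⟩
      have h1 : ¬ r + (j : ℕ) < r := by omega
      have h2 : g ⟨r + j, by omega⟩ = z j := by
        simp only [g, dif_neg h1, Nat.add_sub_cancel_left, dif_pos j.2, Fin.eta]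
      show KaehlerDifferential.D k K (IsLocalRing.residue (Localization.AtPrime p) (g ⟨r + j, _⟩)) = f j
      rw [h2, hz, hy]
  · rintro ⟨g, hg, hspan⟩
    have hS : ({i : Fin n | (i : ℕ) < r}).ncard ≤ r := by
      rw [← Nat.card_coe_set_eq]
      refine (Nat.card_le_card_of_injective (fun i => (⟨(i.1 : ℕ), i.2⟩ : Fin r)) ?_).trans
        (Nat.card_eq_fintype_card.trans (Fintype.card_fin r)).le
      intro a b hab
      exact Subtype.ext (Fin.ext (congrArg Fin.val hab :))
    have hS' : ({i : Fin n | r ≤ (i : ℕ)}).ncard ≤ t := by
      rw [← Nat.card_coe_set_eq]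
      refine (Nat.card_le_card_of_injective (fun i => (⟨(i.1 : ℕ) - r, by
        have h1 : r ≤ (i.1 : ℕ) := i.2
        have h2 := i.1.2
        omega⟩ : Fin t)) ?_).trans
        (Nat.card_eq_fintype_card.trans (Fintype.card_fin t)).le
      intro a b hab
      have h1 : r ≤ (a.1 : ℕ) := a.2
      have h2 : r ≤ (b.1 : ℕ) := b.2
      have h3 : (a.1 : ℕ) - r = (b.1 : ℕ) - r := congrArg Fin.val hab
      exact Subtype.ext (Fin.ext (by omega))
    refine ⟨IsRegularLocalRing.of_spanFinrank_maximalIdeal_le _ ?_, hsep.mpr ?_⟩
    · rw [hr, ← hg]
      have := (Submodule.spanFinrank_span_le_ncard_of_finite (R := Localization.AtPrime p)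
        ((Set.toFinite _).image g)).trans ((Set.ncard_image_le (Set.toFinite _)).trans hS)
      exact_mod_cast this
    · have := Submodule.spanFinrank_span_le_ncard_of_finite (R := K)
        ((Set.toFinite {i : Fin n | r ≤ (i : ℕ)}).image (fun i : Fin n =>
          KaehlerDifferential.D k K (IsLocalRing.residue (Localization.AtPrime p) (g i))))
      rw [hspan] at this
      rw [Module.finrank_eq_spanFinrank_of_free (R := K) (M := Ω[K⁄k])]
      exact this.trans ((Set.ncard_image_le (Set.toFinite _)).trans hS')

end Groth.Agent.S5027
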