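import Groth.Statements.S5029
import Groth.Agent.SymAlgLib.Poly
import Groth.Agent.FittLib.Generated

set_option autoImplicit false
universe u
open CategoryTheory CategoryTheory.Limits AlgebraicGeometry TopologicalSpace
open Unram17

namespace Groth.Agent.S5029

/-- Let S be a scheme and E a quasi-coherent O_S-module that is finite locally free. If A is a
quasi-coherent O_S-algebra which is the symmetric algebra of E (through j : E ⟶ A), then the
structure morphism of the relative spectrum of A, i.e. of the vector bundle V(E), is smooth. -/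
theorem result {S : Scheme.{u}} (E : S.Modules) (hE : Coh.IsQCoh E)
    (hlf : FlatMod.IsFinLocFree E) (A : RelSpec.QCAlg S) (j : E ⟶ A.toModule) (hA : RelSpec.IsSymAlg E A j) :
    Smooth A.π := by
  haveI := hE
  have h : ∀ x : S, ∃ (r : ℕ) (c : SymAlgLib.PolyChart A r), x ∈ c.U := fun x ↦ by
    obtain ⟨U, n, hxU, ⟨φ⟩⟩ := hlf x
    obtain ⟨_, ⟨V, hV, rfl⟩, hxV, hVU⟩ :=
      S.isBasis_affineOpens.exists_subset_of_mem_open (show x ∈ (U : Set S) from hxU) U.isOpen
    obtain ⟨b⟩ := FittLib.nonempty_basis_of_iso E φ (V := V) hVU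
    obtain ⟨e, he, -⟩ := SymAlgLib.exists_polyChart hA hV (b.reindex Equiv.ulift.symm)
    exact ⟨n, ⟨V, hV, e, he⟩, hxV⟩
  refine IsZariskiLocalAtTarget.of_forall_exists_morphismRestrict (P := @Smooth) fun x => ?_
  obtain ⟨r, c, hx⟩ := h x
  refine ⟨c.hU.fromSpec.opensRange, by rw [IsAffineOpen.opensRange_fromSpec]; exact hx, ?_⟩
  refine SymAlgLib.prop_morphismRestrict c.isPullback_ch.flip ?_
  rw [HasRingHomProperty.Spec_iff (P := @Smooth)]
  exact RingHom.smooth_algebraMap.mpr ({ formallySmooth := (inferInstance : Algebra.FormallySmooth Γ(S, c.U) (MvPolynomial (ULift.{u} (Fin r)) Γ(S, c.U))), finitePresentation := (inferInstance : Algebra.FinitePresentation Γ(S, c.U) (MvPolynomial (ULift.{u} (Fin r)) Γ(S, c.U))) } : Algebra.Smooth Γ(S, c.U) (MvPolynomial (ULift.{u} (Fin r)) Γ(S, c.U)))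
end Groth.Agent.S5029
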