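import Groth.Statements.S5034
import Mathlib.RingTheory.LocalRing.Module
import Mathlib.RingTheory.AdjoinRoot
import Mathlib.RingTheory.Henselian


-- import your own Groth.Agent.* helpers here

set_option autoImplicit false
universe u
open Hensel

namespace Groth.Agent.S5034

/-- a') implies a): let R be a local ring such that for every monic polynomial F over R the quotient
ring R[T]/(F) is isomorphic, as a ring, to a finite product of local rings. Then R is henselian. -/
theorem result (R : Type u) [CommRing R] [IsLocalRing R]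
    (h : ∀ F : Polynomial R, F.Monic →
      ∃ (ι : Type u) (_ : Fintype ι) (A : ι → Type u) (_ : ∀ i, CommRing (A i)),
        (∀ i, IsLocalRing (A i)) ∧ Nonempty (AdjoinRoot F ≃+* (∀ i, A i))) :
    HenselianLocalRing R := by
  classical
  refine ⟨fun F hF a₀ hroot hder => ?_⟩
  obtain ⟨ι, hfin, A, hA, hloc, ⟨e⟩⟩ := h F hF
  haveI := hloc
  let k := IsLocalRing.ResidueField R
  let ψ : AdjoinRoot F →ₐ[R] k := AdjoinRoot.liftAlgHom F (Algebra.ofId R k) (IsLocalRing.residue R a₀) (by
    show F.eval₂ (algebraMap R k) (algebraMap R k a₀) = 0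
    rw [Polynomial.eval₂_at_apply]
    exact (IsLocalRing.residue_eq_zero_iff _).2 hroot)
  let ψ' : (∀ i, A i) →+* k := ψ.toRingHom.comp e.symm.toRingHom
  obtain ⟨i₀, hi₀⟩ : ∃ i, ψ' (Pi.single i 1) ≠ 0 := by
    by_contra hcon
    push_neg at hcon
    have := map_one ψ'
    rw [show (1 : ∀ i, A i) = ∑ i, Pi.single i 1 from (Finset.univ_sum_single (1 : ∀ i, A i)).symm, map_sum,
      Finset.sum_eq_zero fun i _ => hcon i] at this
    exact zero_ne_one this
  have hone : ψ' (Pi.single i₀ 1) = 1 := by
    have hid : ψ' (Pi.single i₀ 1) * ψ' (Pi.single i₀ 1) = ψ' (Pi.single i₀ 1) := by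
      rw [← map_mul, ← Pi.single_mul, one_mul]
    exact mul_left_cancel₀ hi₀ (hid.trans (mul_one _).symm)
  let π : AdjoinRoot F →+* A i₀ := (Pi.evalRingHom A i₀).comp e.toRingHom
  letI : Algebra R (A i₀) := (π.comp (algebraMap R (AdjoinRoot F))).toAlgebra
  let πA : AdjoinRoot F →ₐ[R] A i₀ := { π with commutes' := fun _ => rfl }
  let s : A i₀ →ₗ[R] AdjoinRoot F :=
    { toFun := fun y => e.symm (Pi.single i₀ y)
      map_add' := fun x y => by rw [Pi.single_add, map_add]
      map_smul' := fun r y => by
        apply e.injective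
        rw [RingHom.id_apply, Algebra.smul_def, Algebra.smul_def, map_mul, e.apply_symm_apply, e.apply_symm_apply]
        funext j
        by_cases hj : j = i₀
        · subst hj; simp [RingHom.algebraMap_toAlgebra, π]
        · simp [Pi.single_eq_of_ne hj] }
  have hs : ∀ y, πA (s y) = y := fun y => by
    show e (e.symm (Pi.single i₀ y)) i₀ = y
    rw [e.apply_symm_apply, Pi.single_eq_same]
  haveI := (AdjoinRoot.powerBasis' hF).finite
  haveI : Module.Free R (AdjoinRoot F) := Module.Free.of_basis (AdjoinRoot.powerBasis' hF).basis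
  haveI : Module.Projective R (A i₀) := Module.Projective.of_split s πA.toLinearMap (LinearMap.ext hs)
  haveI : Module.Finite R (A i₀) := Module.Finite.of_surjective πA.toLinearMap fun y => ⟨s y, hs y⟩
  haveI : Module.Free R (A i₀) := Module.free_of_flat_of_isLocalRing
  let χ : A i₀ →+* k :=
    { toFun := fun y => ψ' (Pi.single i₀ y)
      map_one' := hone
      map_mul' := fun x y => by rw [← map_mul, ← Pi.single_mul]
      map_zero' := by rw [Pi.single_zero, map_zero]
      map_add' := fun x y => by rw [← map_add, ← Pi.single_add] }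
  have hχ : ∀ z, χ (πA z) = ψ z := by
    intro z
    show ψ' (Pi.single i₀ (e z i₀)) = ψ z
    rw [show (Pi.single i₀ (e z i₀) : ∀ i, A i) = e z * Pi.single i₀ 1 from by
      funext j
      by_cases hj : j = i₀
      · subst hj; simp
      · simp [Pi.single_eq_of_ne hj], map_mul, hone, mul_one]
    show ψ (e.symm (e z)) = _
    rw [e.symm_apply_apply]
  let t : A i₀ := πA (AdjoinRoot.root F)
  obtain ⟨c, hc⟩ := (F.map (algebraMap R (A i₀))).binomExpansion (algebraMap R (A i₀) a₀) (t - algebraMap R (A i₀) a₀)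
  have ht0 : (F.map (algebraMap R (A i₀))).eval t = 0 := by
    rw [Polynomial.eval_map_algebraMap, Polynomial.aeval_algHom_apply, AdjoinRoot.aeval_eq, AdjoinRoot.mk_self, map_zero]
  rw [add_sub_cancel, ht0, Polynomial.derivative_map, Polynomial.eval_map, Polynomial.eval_map,
    Polynomial.eval₂_at_apply, Polynomial.eval₂_at_apply] at hc
  set d := t - algebraMap R (A i₀) a₀
  have hχalg : ∀ r : R, χ (algebraMap R (A i₀) r) = IsLocalRing.residue R r := fun r => by
    show χ (πA (algebraMap R (AdjoinRoot F) r)) = _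
    rw [hχ, AlgHom.commutes]; rfl
  have hχd : χ d = 0 := by
    show χ (t - _) = 0
    rw [map_sub, hχalg, show χ t = ψ (AdjoinRoot.root F) from hχ _]
    simp [ψ]
  have hmax : (RingHom.ker χ) = IsLocalRing.maximalIdeal (A i₀) :=
    IsLocalRing.eq_maximalIdeal (RingHom.ker_isMaximal_of_surjective χ fun y => by
      obtain ⟨r, rfl⟩ := IsLocalRing.residue_surjective y
      exact ⟨_, hχalg r⟩)
  obtain ⟨u, hu⟩ : IsUnit (algebraMap R (A i₀) (F.derivative.eval a₀) + c * d) := by
    by_contra hn
    have hmem : algebraMap R (A i₀) (F.derivative.eval a₀) + c * d ∈ RingHom.ker χ := hmax ▸ hn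
    rw [RingHom.mem_ker, map_add, map_mul, hχd, mul_zero, add_zero, hχalg] at hmem
    exact ((IsLocalRing.residue_ne_zero_iff_isUnit _).2 hder) hmem
  have hd : d = (-(F.eval a₀)) • (↑u⁻¹ : A i₀) := by
    rw [Algebra.smul_def, map_neg, Units.eq_mul_inv_iff_mul_eq, hu]
    linear_combination -hc
  let m : Ideal R := IsLocalRing.maximalIdeal R
  have hdm : ∀ y, d * y ∈ m • (⊤ : Submodule R (A i₀)) := fun y => by
    rw [hd, smul_mul_assoc]
    exact Submodule.smul_mem_smul (neg_mem hroot) Submodule.mem_top
  have hsurj : Function.Surjective (algebraMap R (A i₀)) := by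
    have htop : (⊤ : Submodule R (A i₀)) ≤ Submodule.span R {1} := by
      refine Submodule.le_of_le_smul_of_le_jacobson_bot Module.Finite.fg_top (IsLocalRing.maximalIdeal_le_jacobson _) ?_
      intro y _
      obtain ⟨q, hq⟩ := AdjoinRoot.mk_surjective (g := F) (s y)
      have hy : y = Polynomial.aeval t q := by
        rw [← hs y, ← hq, ← AdjoinRoot.aeval_eq, ← Polynomial.aeval_algHom_apply]
      obtain ⟨z, hz⟩ := (q.map (algebraMap R (A i₀))).evalSubFactor t (algebraMap R (A i₀) a₀)
      rw [Polynomial.eval_map_algebraMap, Polynomial.eval_map, Polynomial.eval₂_at_apply, sub_eq_iff_eq_add'] at hz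
      rw [hy, hz]
      refine Submodule.add_mem_sup ?_ ?_
      · exact Submodule.mem_span_singleton.2 ⟨q.eval a₀, (Algebra.algebraMap_eq_smul_one _).symm⟩
      · rw [mul_comm]; exact hdm _
    intro y
    obtain ⟨r, hr⟩ := Submodule.mem_span_singleton.1 (htop (Submodule.mem_top (x := y)))
    exact ⟨r, by rw [Algebra.algebraMap_eq_smul_one, hr]⟩
  have hinj : Function.Injective (algebraMap R (A i₀)) := by
    refine (injective_iff_map_eq_zero _).2 fun r hr => ?_
    let b := Module.Free.chooseBasis R (A i₀)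
    obtain ⟨i⟩ := b.index_nonempty
    have : r • b i = 0 := by rw [Algebra.smul_def, hr, zero_mul]
    simpa using congrArg (fun v => b.repr v i) this
  obtain ⟨a, ha⟩ := hsurj t
  refine ⟨a, hinj ?_, ?_⟩
  · rw [← Polynomial.eval₂_at_apply, ha, map_zero, ← Polynomial.eval_map, ht0]
  · rw [← IsLocalRing.residue_eq_zero_iff, ← hχalg, map_sub, ha]
    exact hχd

end Groth.Agent.S5034
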