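import Groth.Statements.S5036
import Groth.Agent.FinSurjLib.Zmt
import Groth.Agent.EtShLib.Noeth
import Groth.Agent.FFDescLib.EtaleGraph
import Mathlib.AlgebraicGeometry.Morphisms.FlatRank

set_option backward.isDefEq.respectTransparency false
set_option backward.isDefEq.respectTransparency.types false
set_option maxHeartbeats 1000000

set_option autoImplicit false
open CategoryTheory CategoryTheory.Limits AlgebraicGeometry
universe u
open Hensel

namespace Groth.Agent.S5036

/-- a) implies b): let S be a quasi-compact quasi-separated scheme and i : S₀ ⟶ S a closed immersion.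
Suppose that for every finite morphism g : S' ⟶ S, every open-closed subset of S' ×_S S₀ is the
inverse image under the first projection of exactly one open-closed subset of S'. Then for every
étale separated morphism g : S' ⟶ S and every section u₀ of S' ×_S S₀ ⟶ S₀ there is exactly one
section u of g whose restriction to S₀ is u₀ (that is, i ≫ u = u₀ followed by the first projection). -/
theorem result {S S₀ : Scheme.{u}} (i : S₀ ⟶ S) [IsClosedImmersion i]
    [CompactSpace ↥S] [QuasiSeparatedSpace ↥S]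
    (ha : ∀ (S' : Scheme.{u}) (g : S' ⟶ S), IsFinite g →
      ∀ V : Set ↥(pullback g i), IsClopen V → ∃! U : Set ↥S', IsClopen U ∧ (pullback.fst g i).base ⁻¹' U = V)
    {S' : Scheme.{u}} (g : S' ⟶ S) [Etale g] [IsSeparated g]
    (u₀ : S₀ ⟶ pullback g i) (hu₀ : u₀ ≫ pullback.snd g i = 𝟙 S₀) :
    ∃! u : S ⟶ S', u ≫ g = 𝟙 S ∧ i ≫ u = u₀ ≫ pullback.fst g i := by
  have hclosed : ∀ Z : Set ↥S, IsClosed Z → (∀ z, i.base z ∉ Z) → Z = ∅ := by
    intro Z hZ hdisj
    let I := Scheme.IdealSheafData.vanishingIdeal ⟨Z, hZ⟩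
    have hsupp : Set.range I.subschemeι.base = Z := by
      rw [Scheme.IdealSheafData.range_subschemeι, Scheme.IdealSheafData.coe_support_vanishingIdeal]
      rfl
    haveI : IsEmpty ↥(pullback I.subschemeι i) := ⟨fun p => hdisj ((pullback.snd I.subschemeι i).base p) (by
      rw [← hsupp]
      exact ⟨(pullback.fst I.subschemeι i).base p,
        congrArg (fun q : _ ⟶ S => q.base p) (pullback.condition (f := I.subschemeι) (g := i))⟩)⟩
    obtain ⟨U, -, hU⟩ := ha I.subscheme I.subschemeι inferInstance ∅ isClopen_empty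
    have h1 := hU ∅ ⟨isClopen_empty, Set.preimage_empty⟩
    have h2 := hU Set.univ ⟨isClopen_univ, Set.eq_empty_of_isEmpty _⟩
    rw [← hsupp]
    exact Set.range_eq_empty_iff.2 ⟨fun z => (h1.trans h2.symm).symm.le (Set.mem_univ z)⟩
  have huniq : ∀ u u' : S ⟶ S', u ≫ g = 𝟙 S → u' ≫ g = 𝟙 S → i ≫ u = i ≫ u' → u = u' := by
    intro u u' hu hu' he
    let j : S ⟶ pullback g g := pullback.lift u u' (hu.trans hu'.symm)
    let e := pullback.fst j (pullback.diagonal g)
    haveI : IsOpenImmersion e := MorphismProperty.pullback_fst _ _ inferInstance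
    haveI : IsClosedImmersion e := MorphismProperty.pullback_fst _ _ inferInstance
    haveI : Surjective e := ⟨Set.range_eq_univ.1 (Set.compl_empty_iff.1 (hclosed _
      e.isOpenEmbedding.isOpen_range.isClosed_compl fun z hz => hz ?_))⟩
    · haveI : IsIso e := (isIso_iff_isOpenImmersion_and_surjective e).2 ⟨inferInstance, inferInstance⟩
      rw [← cancel_epi e]
      have hc : e ≫ j = pullback.snd j (pullback.diagonal g) ≫ pullback.diagonal g := pullback.condition
      have h1 := congrArg (· ≫ pullback.fst g g) hc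
      have h2 := congrArg (· ≫ pullback.snd g g) hc
      simp only [j, Category.assoc, pullback.lift_fst, pullback.lift_snd, pullback.diagonal_fst,
        pullback.diagonal_snd, Category.comp_id] at h1 h2
      exact h1.trans h2.symm
    · refine ⟨(pullback.lift (f := j) (g := pullback.diagonal g) i (i ≫ u) ?_).base z,
        congrArg (fun q : S₀ ⟶ S => q.base z) (pullback.lift_fst _ _ _)⟩
      apply pullback.hom_ext <;> simp [j, he]
  let u₁ := u₀ ≫ pullback.fst g i
  have hu₁ : u₁ ≫ g = i := by
    rw [Category.assoc, pullback.condition, ← Category.assoc, hu₀, Category.id_comp]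
  haveI : CompactSpace ↥S₀ := QuasiCompact.compactSpace_of_compactSpace i
  obtain ⟨W, hW, hWu⟩ : ∃ W : S'.Opens, IsCompact (W : Set ↥S') ∧ Set.range u₁.base ⊆ (W : Set ↥S') := by
    have hex : ∀ x, ∃ V : S'.Opens, IsAffineOpen V ∧ x ∈ V := fun x => by
      obtain ⟨_, ⟨V, hV, rfl⟩, hxV, -⟩ :=
        S'.isBasis_affineOpens.exists_subset_of_mem_open (Set.mem_univ x) isOpen_univ
      exact ⟨V, hV, hxV⟩
    choose V hV hxV using hex
    obtain ⟨t, ht⟩ := (isCompact_range u₁.continuous).elim_finite_subcover (fun x => (V x : Set ↥S'))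
      (fun x => (V x).2) fun x _ => Set.mem_iUnion.2 ⟨x, hxV x⟩
    refine ⟨⨆ x ∈ t, V x, ?_, fun x hx => ?_⟩
    · rw [show ((⨆ x ∈ t, V x : S'.Opens) : Set ↥S') = ⋃ x ∈ t, (V x : Set ↥S') by simp]
      exact t.finite_toSet.isCompact_biUnion fun x _ => (hV x).isCompact
    · simpa using ht hx
  let g' : (W : Scheme.{u}) ⟶ S := W.ι ≫ g
  haveI : CompactSpace ↥(W : Scheme.{u}) := isCompact_iff_compactSpace.1 hW
  haveI : QuasiCompact g' := inferInstance
  haveI : LocallyQuasiFinite g' := EtShLib.locallyQuasiFinite_of_etale g'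
  obtain ⟨T, j, π, hj, -, hπ, -, hjπ⟩ := FinSurjLib.exists_finite_factorization g'
  haveI := hj; haveI := hπ
  have hsub : Set.range u₁.base ⊆ Set.range W.ι.base := by rwa [Scheme.Opens.range_ι]
  let w := IsOpenImmersion.lift W.ι u₁ hsub
  have hw : w ≫ W.ι = u₁ := IsOpenImmersion.lift_fac _ _ _
  have hwπ : (w ≫ j) ≫ π = i := by
    rw [Category.assoc, hjπ, ← Category.assoc, hw, hu₁]
  let v : S₀ ⟶ pullback π i := pullback.lift (w ≫ j) (𝟙 S₀) (by rw [hwπ, Category.id_comp])
  have hv : v ≫ pullback.snd π i = 𝟙 S₀ := pullback.lift_snd _ _ _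
  haveI : IsClosedImmersion (v ≫ pullback.snd π i) := by rw [hv]; infer_instance
  haveI : IsClosedImmersion v := IsClosedImmersion.of_comp v (pullback.snd π i)
  let v' : S₀ ⟶ pullback g' i := pullback.lift w (𝟙 S₀) (by
    show w ≫ W.ι ≫ g = _
    rw [← Category.assoc, hw, hu₁, Category.id_comp])
  haveI : IsOpenImmersion v' := FFDescLib.isOpenImmersion_of_section (pullback.snd g' i) v' (pullback.lift_snd _ _ _)
  let m : pullback g' i ⟶ pullback π i := pullback.map g' i π i j (𝟙 _) (𝟙 _) (by simp [hjπ]) (by simp)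
  haveI : IsOpenImmersion m := inferInstance
  have hvm : v' ≫ m = v := by
    apply pullback.hom_ext <;> simp [v, v', m]
  haveI : IsOpenImmersion v := by rw [← hvm]; infer_instance
  obtain ⟨C, ⟨hC, hpre⟩, -⟩ := ha T π hπ (Set.range v.base)
    ⟨v.isClosedEmbedding.isClosed_range, v.isOpenEmbedding.isOpen_range⟩
  let G : T.Opens := ⟨C, hC.2⟩
  haveI : IsClosedImmersion G.ι := IsClosedImmersion.of_isPreimmersion _ (by rw [Scheme.Opens.range_ι]; exact hC.1)
  let ρ : (G : Scheme.{u}) ⟶ S := G.ι ≫ π
  have hGj : Set.range G.ι.base ⊆ Set.range j.base := by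
    rw [Scheme.Opens.range_ι]
    have h := hclosed (π.base '' (C \ Set.range j.base))
      (π.isClosedMap _ (hC.1.inter j.isOpenEmbedding.isOpen_range.isClosed_compl))
      (by
        rintro z ⟨c, ⟨hc, hcj⟩, hcz⟩
        obtain ⟨p, hp1, -⟩ := Scheme.Pullback.exists_preimage_pullback (f := π) (g := i) c z hcz
        obtain ⟨s, hs⟩ : p ∈ Set.range v.base := by
          rw [← hpre, Set.mem_preimage, hp1]
          exact hc
        refine hcj ⟨w.base s, ?_⟩
        rw [← hp1, ← hs]
        exact (congrArg (fun q : S₀ ⟶ T => q.base s) (show v ≫ pullback.fst π i = w ≫ j from pullback.lift_fst _ _ _)).symm)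
    intro c hc
    by_contra hcj
    exact h.le ⟨c, ⟨hc, hcj⟩, rfl⟩
  let l := IsOpenImmersion.lift j G.ι hGj
  have hl : l ≫ j = G.ι := IsOpenImmersion.lift_fac _ _ _
  haveI : IsOpenImmersion l := by
    haveI : IsOpenImmersion (l ≫ j) := by rw [hl]; infer_instance
    exact IsOpenImmersion.of_comp l j
  have hρ' : ρ = l ≫ g' := by
    show G.ι ≫ π = _
    rw [← hl, Category.assoc, hjπ]
  haveI : Etale ρ := by rw [hρ']; infer_instance
  haveI : IsFinite ρ := inferInstance
  have hvG : Set.range (v ≫ pullback.fst π i).base ⊆ Set.range G.ι.base := by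
    rintro _ ⟨z, rfl⟩
    rw [Scheme.Opens.range_ι]
    exact (hpre.ge ⟨z, rfl⟩ : v.base z ∈ (pullback.fst π i).base ⁻¹' C)
  let vG := IsOpenImmersion.lift G.ι (v ≫ pullback.fst π i) hvG
  have hvG' : vG ≫ G.ι = v ≫ pullback.fst π i := IsOpenImmersion.lift_fac _ _ _
  let b : S₀ ⟶ pullback ρ i := pullback.lift vG (𝟙 _) (by
    show vG ≫ G.ι ≫ π = _
    rw [← Category.assoc, hvG', Category.assoc, pullback.condition, reassoc_of% hv, Category.id_comp])
  have hb : b ≫ pullback.snd ρ i = 𝟙 S₀ := pullback.lift_snd _ _ _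
  haveI : IsOpenImmersion b := FFDescLib.isOpenImmersion_of_section (pullback.snd ρ i) b hb
  haveI : Surjective b := ⟨fun p => by
    let mG : pullback ρ i ⟶ pullback π i := pullback.map ρ i π i G.ι (𝟙 _) (𝟙 _) (by simp [ρ]) (by simp)
    haveI : IsOpenImmersion mG := inferInstance
    obtain ⟨z, hz⟩ : mG.base p ∈ Set.range v.base := by
      rw [← hpre, Set.mem_preimage]
      have e : mG ≫ pullback.fst π i = pullback.fst ρ i ≫ G.ι := pullback.lift_fst _ _ _
      rw [show (pullback.fst π i).base (mG.base p) = G.ι.base ((pullback.fst ρ i).base p) from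
        congrArg (fun q : _ ⟶ T => q.base p) e]
      exact ((pullback.fst ρ i).base p).2
    refine ⟨z, mG.isOpenEmbedding.injective ?_⟩
    rw [← hz]
    refine congrArg (fun q : S₀ ⟶ pullback π i => q.base z) (show b ≫ mG = v from ?_)
    apply pullback.hom_ext
    · rw [Category.assoc, pullback.lift_fst, ← Category.assoc, pullback.lift_fst, hvG']
    · rw [Category.assoc, pullback.lift_snd, Category.comp_id, hb, hv]⟩
  haveI : IsIso b := (isIso_iff_isOpenImmersion_and_surjective b).2 ⟨inferInstance, inferInstance⟩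
  haveI : IsIso (pullback.snd ρ i) := by
    haveI : IsIso (b ≫ pullback.snd ρ i) := by rw [hb]; infer_instance
    exact IsIso.of_isIso_comp_left b _
  haveI : IsIso ρ := by
    rw [Scheme.Hom.isIso_iff_finrank_eq]
    funext x
    by_contra hne
    refine (hclosed {x | ρ.finrank x ≠ 1}
      ((Scheme.Hom.isLocallyConstant_finrank ρ).isClopen_fiber 1).compl.1 fun z hz => hz ?_).le
      (show x ∈ {x | ρ.finrank x ≠ 1} from hne)
    rw [← Scheme.Hom.finrank_of_isPullback _ _ _ _ (IsPullback.of_hasPullback ρ i) z,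
      Scheme.Hom.finrank_eq_one_of_isIso]
    rfl
  refine ⟨inv ρ ≫ l ≫ W.ι, ⟨?_, ?_⟩, fun u' hu' => ?_⟩
  · rw [Category.assoc, Category.assoc, show l ≫ W.ι ≫ g = ρ from hρ'.symm, IsIso.inv_hom_id]
  · have hi : i ≫ inv ρ = vG := by
      rw [IsIso.comp_inv_eq]
      show i = vG ≫ G.ι ≫ π
      rw [← Category.assoc, hvG', Category.assoc, pullback.condition, reassoc_of% hv]
    have hl' : vG ≫ l = w := by
      rw [← cancel_mono j, Category.assoc, hl, hvG']
      exact pullback.lift_fst _ _ _
    rw [← Category.assoc, hi, ← Category.assoc, hl', hw]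
  · refine huniq _ _ hu'.1 ?_ ?_
    · rw [Category.assoc, Category.assoc, show l ≫ W.ι ≫ g = ρ from hρ'.symm, IsIso.inv_hom_id]
    · have hi : i ≫ inv ρ = vG := by
        rw [IsIso.comp_inv_eq]
        show i = vG ≫ G.ι ≫ π
        rw [← Category.assoc, hvG', Category.assoc, pullback.condition, reassoc_of% hv]
      have hl' : vG ≫ l = w := by
        rw [← cancel_mono j, Category.assoc, hl, hvG']
        exact pullback.lift_fst _ _ _
      rw [hu'.2, ← Category.assoc i, hi, ← Category.assoc vG, hl', hw]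

end Groth.Agent.S5036
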