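import Groth.Statements.S5037
import Groth.Agent.IdemSchLib.Clopen

set_option autoImplicit false
open CategoryTheory CategoryTheory.Limits AlgebraicGeometry
universe u
open Hensel

namespace Groth.Agent.S5037

/-- b) implies a'): let i : S₀ ⟶ S be a closed immersion. Suppose that for every étale separated
morphism g : S' ⟶ S and every section u₀ of S' ×_S S₀ ⟶ S₀ there is exactly one section u of g with
i ≫ u = u₀ followed by the first projection. Then for every finite locally free morphism g : S' ⟶ S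
(finite, flat and locally of finite presentation), every open-closed subset of S' ×_S S₀ is the
inverse image under the first projection of exactly one open-closed subset of S'. -/
theorem result {S S₀ : Scheme.{u}} (i : S₀ ⟶ S) [IsClosedImmersion i]
    (hb : ∀ (S' : Scheme.{u}) (g : S' ⟶ S), Etale g → IsSeparated g →
      ∀ u₀ : S₀ ⟶ pullback g i, u₀ ≫ pullback.snd g i = 𝟙 S₀ →
        ∃! u : S ⟶ S', u ≫ g = 𝟙 S ∧ i ≫ u = u₀ ≫ pullback.fst g i)
    {S' : Scheme.{u}} (g : S' ⟶ S) [IsFinite g] [Flat g] [LocallyOfFinitePresentation g]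
    (V : Set ↥(pullback g i)) (hV : IsClopen V) :
    ∃! U : Set ↥S', IsClopen U ∧ (pullback.fst g i).base ⁻¹' U = V := by
  haveI : IsFinite (Over.mk g).hom := inferInstanceAs (IsFinite g)
  haveI : Flat (Over.mk g).hom := inferInstanceAs (Flat g)
  haveI : LocallyOfFinitePresentation (Over.mk g).hom := inferInstanceAs (LocallyOfFinitePresentation g)
  obtain ⟨M, ev, hM, hsep, huniv⟩ := Groth.Agent.IdemSch.exists_clopenScheme (Over.mk g)
  let T : Over S := Over.mk (𝟙 S)
  let T₀ : Over S := Over.mk i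
  let k : T₀ ⟶ T := Over.homMk i (Category.comp_id i)
  haveI : IsIso (pullback.fst g (𝟙 S)) := inferInstance
  let e := Scheme.homeoOfIso (asIso (pullback.fst g (𝟙 S)))
  have hfst : ∀ z : ↥(pullback g i), e ((MonoidalCategory.whiskerLeft (Over.mk g) k).left z) = pullback.fst g i z := fun z =>
    congrArg (fun f : pullback g i ⟶ S' => f z) (Over.whiskerLeft_left_fst (R := Over.mk g) k)
  obtain ⟨v₀, hv₀, hv₀'⟩ := huniv T₀ V hV
  let u₀ : S₀ ⟶ pullback M.hom i :=
    pullback.lift v₀.left (𝟙 S₀) (show v₀.left ≫ M.hom = 𝟙 S₀ ≫ i from (Over.w v₀).trans (Category.id_comp i).symm)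
  obtain ⟨s, ⟨hs₁, hs₂⟩, hs'⟩ := hb M.left M.hom hM hsep u₀ (pullback.lift_snd _ _ _)
  have hs₂' : i ≫ s = v₀.left := hs₂.trans (pullback.lift_fst _ _ _)
  let v : T ⟶ M := Over.homMk s hs₁
  let WT : Set ↥(MonoidalCategory.tensorObj (Over.mk g) T).left :=
    (MonoidalCategory.whiskerLeft (Over.mk g) v ≫ ev).left ⁻¹' Groth.Agent.IdemSch.one S
  have hWT : IsClopen WT := (Groth.Agent.IdemSch.isClopen_one S).preimage (Scheme.Hom.continuous _)
  have hres : ∀ w : T ⟶ M, (MonoidalCategory.whiskerLeft (Over.mk g) (k ≫ w) ≫ ev).left ⁻¹' Groth.Agent.IdemSch.one S =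
      (MonoidalCategory.whiskerLeft (Over.mk g) k).left ⁻¹'
        ((MonoidalCategory.whiskerLeft (Over.mk g) w ≫ ev).left ⁻¹' Groth.Agent.IdemSch.one S) := by
    intro w
    rw [MonoidalCategory.whiskerLeft_comp, Category.assoc]
    rfl
  have hk : k ≫ v = v₀ := Over.OverMorphism.ext hs₂'
  refine ⟨e '' WT, ⟨⟨e.isClosedMap _ hWT.1, e.isOpenMap _ hWT.2⟩, ?_⟩, ?_⟩
  · conv_rhs => rw [← hv₀, ← hk, hres]
    ext z
    show pullback.fst g i z ∈ e '' WT ↔ (MonoidalCategory.whiskerLeft (Over.mk g) k).left z ∈ WT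
    rw [← hfst]
    exact e.injective.mem_set_image
  · rintro U ⟨hU, hUV⟩
    obtain ⟨w, hw, -⟩ := huniv T (e ⁻¹' U) (hU.preimage e.continuous)
    have h1 : k ≫ w = v₀ := by
      refine hv₀' _ ?_
      dsimp only
      rw [hres, hw, ← hUV]
      ext z
      show e _ ∈ U ↔ pullback.fst g i z ∈ U
      rw [hfst]
    have h2 : w.left = s := hs' w.left ⟨Over.w w,
      (congrArg CommaMorphism.left h1).trans (pullback.lift_fst _ _ _).symm⟩
    obtain rfl : w = v := Over.OverMorphism.ext h2
    show U = e '' WT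
    rw [show WT = e ⁻¹' U from hw, Set.image_preimage_eq _ e.surjective]

end Groth.Agent.S5037
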