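import Groth.Statements.S5038
import Groth.Agent.S0536
import Groth.Agent.HenselLib.Basic
-- import your own Groth.Agent.* helpers here

set_option autoImplicit false
open CategoryTheory AlgebraicGeometry
set_option linter.style.haveILetI false
universe u
open Hensel

namespace Groth.Agent.S5038

/-- Let A be a henselian local ring with residue field k, S = Spec A, and f : X ⟶ S a smooth morphism.
Then the map from sections of f to k-points of the closed fibre is surjective: every u₀ : Spec k ⟶ X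
lying over the closed point extends to a section u of f. -/
theorem result (A : Type u) [CommRing A] [HenselianLocalRing A]
    {X : Scheme.{u}} (f : X ⟶ Spec (CommRingCat.of A)) [Smooth f]
    (u₀ : Spec (CommRingCat.of (IsLocalRing.ResidueField A)) ⟶ X)
    (h₀ : u₀ ≫ f = Spec.map (CommRingCat.ofHom (IsLocalRing.residue A))) :
    ∃ u : Spec (CommRingCat.of A) ⟶ X, u ≫ f = 𝟙 _ ∧
      Spec.map (CommRingCat.ofHom (IsLocalRing.residue A)) ≫ u = u₀ := by
  let A₀ := IsLocalRing.ResidueField A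
  let z : PrimeSpectrum A₀ := ⊥
  let x := u₀.base z
  obtain ⟨i, y, hy⟩ := X.affineCover.exists_eq x
  obtain ⟨B, hB⟩ : ∃ B : CommRingCat.{u}, X.affineCover.X i = Spec B := ⟨_, rfl⟩
  let j : Spec B ⟶ X := eqToHom hB.symm ≫ X.affineCover.f i
  haveI : IsOpenImmersion j := inferInstance
  have hr : Set.range u₀.base ⊆ Set.range j.base := by
    rintro _ ⟨s, rfl⟩
    obtain rfl : s = z := Subsingleton.elim (α := PrimeSpectrum A₀) s z
    refine ⟨(eqToHom hB).base y, ?_⟩
    rw [← Scheme.Hom.comp_apply, ← Category.assoc, eqToHom_trans, eqToHom_refl, Category.id_comp]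
    exact hy
  let v := IsOpenImmersion.lift j u₀ hr
  obtain ⟨σ₀, hσ₀⟩ : ∃ σ₀, Spec.map σ₀ = v := ⟨Spec.preimage v, Spec.map_preimage _⟩
  obtain ⟨φ, hφ⟩ : ∃ φ, Spec.map φ = j ≫ f := ⟨Spec.preimage (j ≫ f), Spec.map_preimage _⟩
  have hsm : φ.hom.Smooth := (HasRingHomProperty.Spec_iff (P := @Smooth)).1 (hφ ▸ inferInstanceAs (Smooth (j ≫ f)))
  letI algB : Algebra A B := φ.hom.toAlgebra
  haveI : Algebra.Smooth A B := hsm
  have hcomm : φ ≫ σ₀ = CommRingCat.ofHom (IsLocalRing.residue A) := by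
    apply Spec.map_injective
    rw [Spec.map_comp, hσ₀, hφ, IsOpenImmersion.lift_fac_assoc]
    exact h₀
  let σ : B →ₐ[A] A ⧸ IsLocalRing.maximalIdeal A :=
    { σ₀.hom with commutes' := fun a => congrArg (fun g => g.hom a) hcomm }
  obtain ⟨τ, hτ⟩ := Groth.Agent.S0536.result A B A (IsLocalRing.maximalIdeal A) σ
  have hτ' : CommRingCat.ofHom τ.toRingHom ≫ CommRingCat.ofHom (IsLocalRing.residue A) = σ₀ := by
    ext b
    exact AlgHom.congr_fun hτ b
  refine ⟨Spec.map (CommRingCat.ofHom τ.toRingHom) ≫ j, ?_, ?_⟩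
  · rw [Category.assoc, ← hφ, ← Spec.map_comp, ← Spec.map_id]
    congr 1
    ext a
    exact τ.commutes a
  · rw [← Category.assoc, ← Spec.map_comp, hτ', hσ₀]
    exact IsOpenImmersion.lift_fac _ _ _

end Groth.Agent.S5038
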