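import Groth.Statements.S5039
import Groth.Agent.HensGRingLib.Main
import Groth.Agent.GeomRedFibLib.Comp
import Groth.Agent.S2648
import Groth.Agent.S0567

set_option autoImplicit false
set_option synthInstance.maxHeartbeats 400000
set_option maxHeartbeats 1600000
universe u
open Hensel

namespace Groth.Agent.S5039
open TensorProduct IsLocalRing GeomRedFibLib CAlg HensGRingLib

theorem isReduced_of_flat_surjective {R S : Type u} [CommRing R] [CommRing S] [_root_.IsReduced R] (ρ : R →+* S)
    (hf : ρ.Flat) (hs : Function.Surjective ρ) : _root_.IsReduced S := by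
  refine isReduced_ofLocalizationMaximal S fun q _ => ?_
  obtain ⟨σ⟩ := exists_locEquiv ρ hf (RingHom.surjectiveOnStalks_of_surjective hs) q
  exact isReduced_of_injective σ.symm σ.symm.injective

theorem gr_of_flat_surjective (k k' X Y : Type u) [Field k] [Field k'] [Algebra k k']
    [Algebra.IsSeparable k k'] [CommRing X] [CommRing Y] [Algebra k X]
    [Algebra k Y] [Algebra k' Y] [IsScalarTower k k' Y] (θ : X →ₐ[k] Y) (hθs : Function.Surjective θ)
    (hθf : θ.toRingHom.Flat) (h : Algebra.IsGeometricallyReduced k X) : Algebra.IsGeometricallyReduced k' Y := by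
  refine ((Groth.Agent.S9634.result (k := k') (S := Y)).out 0 1).mp ?_
  intro L _ _ _ _
  refine isReduced_ofLocalizationMaximal (L ⊗[k'] Y) fun q _ => ?_
  refine GeomRedFibLib.ringP_of_sep_down (P := fun (R : Type u) _ => _root_.IsReduced R)
    (fun R S _ _ e hR => isReduced_of_injective e.symm e.symm.injective) k k' Y (fun L' _ _ _ => ?_) L q
  have hX : ∀ (K : Type u) [Field K] [Algebra k K], _root_.IsReduced (K ⊗[k] X) :=
    ((Groth.Agent.S9634.result (k := k) (S := X)).out 1 2).mp h
  haveI := hX L'
  let ρ : L' ⊗[k] X →+* L' ⊗[k] Y := (Algebra.TensorProduct.map (AlgHom.id k L') θ).toRingHom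
  have hρs : Function.Surjective ρ := Algebra.TensorProduct.map_surjective _ _ Function.surjective_id hθs
  have hρf : ρ.Flat := by
    have h1 : ρ = (Algebra.TensorProduct.comm k Y L').toRingEquiv.toRingHom.comp
        (((Algebra.TensorProduct.map θ (AlgHom.id k L')).toRingHom).comp
          (Algebra.TensorProduct.comm k L' X).toRingEquiv.toRingHom) := by
      refine RingHom.ext fun z => ?_
      induction z using TensorProduct.induction_on with
      | zero => simp
      | add x y hx hy => rw [map_add, map_add, hx, hy]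
      | tmul a b => simp [ρ]
    rw [h1]
    exact RingHom.Flat.comp (RingHom.Flat.comp
      (RingHom.Flat.of_bijective (Algebra.TensorProduct.comm k L' X).bijective)
      (flat_map_tensor k _ _ L' θ hθf))
      (RingHom.Flat.of_bijective (Algebra.TensorProduct.comm k Y L').bijective)
  haveI := isReduced_of_flat_surjective ρ hρf hρs
  intro Q _
  exact isReduced_localizationPreserves Q.primeCompl (Localization.AtPrime Q) inferInstance

theorem gr_fiber_of_separable (A B C : Type u) [CommRing A] [CommRing B] [CommRing C]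
    [Algebra A B] [Algebra B C] [Algebra A C] [IsScalarTower A B C] (p : Ideal A) [p.IsPrime] (Q : Ideal B)
    [Q.IsPrime] [IsReduced (p.Fiber B)] [Ring.KrullDimLE 0 (p.Fiber B)] [Algebra p.ResidueField Q.ResidueField]
    [IsScalarTower A p.ResidueField Q.ResidueField] [Algebra.IsSeparable p.ResidueField Q.ResidueField]
    (h : Algebra.IsGeometricallyReduced p.ResidueField (p.Fiber C)) :
    Algebra.IsGeometricallyReduced Q.ResidueField (Q.Fiber C) := by
  let g₀ : p.Fiber B →ₐ[p.ResidueField] Q.ResidueField :=
    Algebra.TensorProduct.lift (Algebra.ofId _ _) (IsScalarTower.toAlgHom A B Q.ResidueField) fun _ _ => .all _ _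
  letI := (Algebra.TensorProduct.includeRight (R := A) (A := p.ResidueField) (B := B)).toRingHom.toAlgebra
  let g : p.Fiber B →ₐ[B] Q.ResidueField :=
    { g₀.toRingHom with
      commutes' := fun b => by
        show g₀ ((1 : p.ResidueField) ⊗ₜ[A] b) = algebraMap B Q.ResidueField b
        simp [g₀] }
  have hgflat : g.toRingHom.Flat := by
    letI := g.toRingHom.toAlgebra
    exact flat_of_reduced_dim_zero (p.Fiber B) Q.ResidueField
  have hgsurj : Function.Surjective g := by
    haveI : Algebra.IsAlgebraic p.ResidueField Q.ResidueField := inferInstance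
    let L := g₀.range.toIntermediateField' (Subalgebra.isField_of_algebraic g₀.range)
    intro z
    have hB : ∀ b, algebraMap B Q.ResidueField b ∈ L := fun b => ⟨(1 : p.ResidueField) ⊗ₜ[A] b, g.commutes b⟩
    obtain ⟨a, s, -, rfl⟩ := IsFractionRing.div_surjective (A := B ⧸ Q) z
    obtain ⟨a, rfl⟩ := Ideal.Quotient.mk_surjective a
    obtain ⟨s, rfl⟩ := Ideal.Quotient.mk_surjective s
    obtain ⟨u, hu⟩ := L.div_mem (hB a) (hB s)
    exact ⟨u, hu⟩
  let c : B ⊗[A] p.ResidueField ≃ₐ[B] p.Fiber B :=
    AlgEquiv.ofRingEquiv (f := (Algebra.TensorProduct.comm A B p.ResidueField).toRingEquiv) fun b => by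
      show (Algebra.TensorProduct.comm A B p.ResidueField) (b ⊗ₜ[A] (1 : p.ResidueField)) = (1 : p.ResidueField) ⊗ₜ[A] b
      simp
  let e : p.Fiber C ≃+* p.Fiber B ⊗[B] C :=
    (((Algebra.TensorProduct.comm A p.ResidueField C).toRingEquiv.trans
      (Algebra.TensorProduct.cancelBaseChange A B B C p.ResidueField).symm.toRingEquiv).trans
      (Algebra.TensorProduct.congr (AlgEquiv.refl (R := B) (A₁ := C)) c).toRingEquiv).trans
      (Algebra.TensorProduct.comm B C (p.Fiber B)).toRingEquiv
  let θ₀ : p.Fiber C →+* Q.Fiber C :=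
    (Algebra.TensorProduct.map g (AlgHom.id B C)).toRingHom.comp e.toRingHom
  let θ : p.Fiber C →ₐ[p.ResidueField] Q.Fiber C :=
    { θ₀ with
      commutes' := fun x => by
        show θ₀ (x ⊗ₜ[A] (1 : C)) = (algebraMap p.ResidueField Q.ResidueField x) ⊗ₜ[B] (1 : C)
        have h0 : g (x ⊗ₜ[A] (1 : B)) = algebraMap p.ResidueField Q.ResidueField x := g₀.commutes x
        simp [θ₀, e, c, h0] }
  have hθflat : θ.toRingHom.Flat :=
    RingHom.Flat.comp (RingHom.Flat.of_bijective e.bijective) (flat_map_tensor B _ _ C g hgflat)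
  have hθsurj : Function.Surjective θ := by
    have h1 : Function.Surjective (Algebra.TensorProduct.map g (AlgHom.id B C)) := fun z => by
      induction z using TensorProduct.induction_on with
      | zero => exact ⟨0, map_zero _⟩
      | add x y hx hy =>
        obtain ⟨u, rfl⟩ := hx
        obtain ⟨v, rfl⟩ := hy
        exact ⟨u + v, map_add _ u v⟩
      | tmul x y =>
        obtain ⟨u, rfl⟩ := hgsurj x
        exact ⟨u ⊗ₜ y, Algebra.TensorProduct.map_tmul _ _ _ _⟩
    exact h1.comp e.surjective
  exact gr_of_flat_surjective p.ResidueField Q.ResidueField (p.Fiber C) (Q.Fiber C) θ hθsurj hθflat h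

theorem gr_congr {k X Y : Type u} [Field k] [CommRing X] [CommRing Y] [Algebra k X] [Algebra k Y] (e : X ≃ₐ[k] Y)
    (h : Algebra.IsGeometricallyReduced k X) : Algebra.IsGeometricallyReduced k Y :=
  gr_of_flat_surjective k k X Y e.toAlgHom e.surjective (RingHom.Flat.of_bijective e.bijective) h

theorem gr_fiber_henselization (R S : Type u) [CommRing R] [IsLocalRing R] [IsNoetherianRing R] [CommRing S]
    [IsLocalRing S] [Algebra R S] [IsLocalHom (algebraMap R S)] [Hensel.IsHenselization R S] (p : Ideal R) [p.IsPrime] :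
    Algebra.IsGeometricallyReduced p.ResidueField (p.Fiber S) := by
  obtain ⟨n, K, hF, hA, hsep, ⟨e⟩⟩ := Groth.Agent.S2736.result R S p
  refine gr_congr e.symm (((Groth.Agent.S9634.result (k := p.ResidueField) (S := Π i, K i)).out 0 1).mp ?_)
  intro L _ _ _ _
  haveI : ∀ i, _root_.IsReduced (L ⊗[p.ResidueField] K i) := fun i => by
    haveI := hsep i
    haveI : Algebra.FormallyEtale p.ResidueField (K i) := Algebra.FormallyEtale.of_isSeparable _ _
    haveI : Algebra.IsGeometricallyReduced p.ResidueField (K i) := CohenLib.isGeometricallyReduced_of_formallySmooth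
    have h2 : ∀ (F : Type u) [Field F] [Algebra p.ResidueField F], _root_.IsReduced (F ⊗[p.ResidueField] K i) :=
      ((Groth.Agent.S9634.result (k := p.ResidueField) (S := K i)).out 1 2).mp (by assumption)
    exact h2 L
  exact isReduced_of_injective (Algebra.TensorProduct.piRight p.ResidueField L L K) (AlgEquiv.injective _)

theorem nagata_iff (A : Type u) [CommRing A] [IsNoetherianRing A] [IsLocalRing A] :
    CAlg.IsNagata A ↔ EGA4.HasGeomReducedFormalFibres A :=
  ⟨fun hA => (Groth.Agent.S2648.result A).1 fun C _ _ hfin hred => NormalLib.isReduced_completion_jacobson hA C,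
    Groth.Agent.S2657.result A⟩

/-- Let R be a Noetherian local ring and S its henselization. Then S is universally Japanese if and only
if R is. -/
theorem result (R S : Type u) [CommRing R] [IsLocalRing R] [IsNoetherianRing R]
    [CommRing S] [IsLocalRing S] [Algebra R S] [IsLocalHom (algebraMap R S)] [Hensel.IsHenselization R S] :
    CAlg.IsUniversallyJapanese S ↔ CAlg.IsUniversallyJapanese R := by
  haveI : Module.FaithfullyFlat R S := Groth.Agent.S0509.result R S
  haveI : IsNoetherianRing S := (Groth.Agent.S0511.result R S).1 inferInstance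
  haveI := GeomRedFibLib.isNoetherianRing_cpl R
  haveI := GeomRedFibLib.isNoetherianRing_cpl S
  have hN : ∀ (A : Type u) [CommRing A] [IsNoetherianRing A] [IsLocalRing A],
      CAlg.IsUniversallyJapanese A ↔ EGA4.HasGeomReducedFormalFibres A := fun A _ _ _ =>
    ⟨fun h => (nagata_iff A).1 ((Groth.Agent.S0567.result A).2 ⟨inferInstance, h⟩),
      fun h => ((Groth.Agent.S0567.result A).1 ((nagata_iff A).2 h)).2⟩
  rw [hN S, hN R]
  obtain ⟨E⟩ := exists_cplAlgEquiv_henselization R S
  haveI : Module.FaithfullyFlat S (EGA4.Cpl S) := GeomRedFibLib.faithfullyFlat_hat S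
  constructor
  · intro h p _
    exact gr_congr (Algebra.TensorProduct.congr (AlgEquiv.refl (R := p.ResidueField) (A₁ := p.ResidueField)) E.symm)
      (GeomRedFibLib.isGeometricallyReduced_fiber_comp (A := R) (B := S) (C := EGA4.Cpl S) p
        (gr_fiber_henselization R S p) (fun q _ => h q))
  · intro h Q _
    let p := Q.comap (algebraMap R S)
    letI : Algebra p.ResidueField Q.ResidueField := (Ideal.ResidueField.map p Q (algebraMap R S) rfl).toAlgebra
    haveI : IsScalarTower R p.ResidueField Q.ResidueField := .of_algebraMap_eq fun r ↦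
      ((Ideal.ResidueField.map_algebraMap p Q _ rfl r).trans
        (IsScalarTower.algebraMap_apply R S Q.ResidueField r).symm).symm
    obtain ⟨n, K, hF, hA, hsep, ⟨e⟩⟩ := Groth.Agent.S2736.result R S p
    haveI : _root_.IsReduced (p.Fiber S) := isReduced_of_injective e e.injective
    haveI : IsArtinianRing (p.Fiber S) := e.symm.surjective.isArtinianRing (f := e.symm.toRingEquiv.toRingHom)
    let g : p.Fiber S →ₐ[p.ResidueField] Q.ResidueField :=
      Algebra.TensorProduct.lift (Algebra.ofId _ _) (IsScalarTower.toAlgHom R S Q.ResidueField) fun _ _ => .all _ _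
    haveI : Algebra.IsSeparable p.ResidueField Q.ResidueField := by
      let G : (Π i, K i) →ₐ[p.ResidueField] Q.ResidueField := g.comp e.symm.toAlgHom
      have hfield : IsField G.range := by
        haveI : IsArtinianRing G.range :=
          Function.Surjective.isArtinianRing (f := G.rangeRestrict.toRingHom) G.rangeRestrict_surjective
        exact IsArtinianRing.isField_of_isDomain G.range
      let L := G.range.toIntermediateField' hfield
      refine isSeparable_of_pi_surjective hsep G fun z => ?_
      have hB : ∀ b, algebraMap S Q.ResidueField b ∈ L := fun b =>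
        ⟨e ((1 : p.ResidueField) ⊗ₜ[R] b), by simp [G, g]⟩
      obtain ⟨a, s, -, rfl⟩ := IsFractionRing.div_surjective (A := S ⧸ Q) z
      obtain ⟨a, rfl⟩ := Ideal.Quotient.mk_surjective a
      obtain ⟨s, rfl⟩ := Ideal.Quotient.mk_surjective s
      obtain ⟨u, hu⟩ := L.div_mem (hB a) (hB s)
      exact ⟨u, hu⟩
    exact gr_fiber_of_separable R S (EGA4.Cpl S) p Q
      (gr_congr (Algebra.TensorProduct.congr (AlgEquiv.refl (R := p.ResidueField) (A₁ := p.ResidueField)) E) (h p))

end Groth.Agent.S5039
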