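import Groth.Statements.S5041
import Groth.Agent.CatLib.CplStrict
import Groth.Agent.S0507
import Groth.Agent.S0509
import Groth.Agent.S0510
import Groth.Agent.S0511
import Groth.Agent.HenselLib.LocalCover

set_option autoImplicit false
universe u
open Hensel
set_option maxHeartbeats 1600000

namespace Groth.Agent.S5041

/-- Let R be a Noetherian local ring with henselization S. If R is strictly formally catenary (for every
prime ideal p, every associated prime of the completion of R/p has quotient of dimension dim R/p),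
then so is S. -/
theorem result (R S : Type u) [CommRing R] [IsLocalRing R] [IsNoetherianRing R]
    [CommRing S] [IsLocalRing S] [Algebra R S] [IsLocalHom (algebraMap R S)] [Hensel.IsHenselization R S]
    (h : EGA4.IsFormallyStrictlyCatenary R) : EGA4.IsFormallyStrictlyCatenary S := by
  haveI : Module.FaithfullyFlat R S := Groth.Agent.S0509.result R S
  haveI : IsNoetherianRing S := (Groth.Agent.S0511.result R S).1 inferInstance
  obtain ⟨e⟩ := HenselLib.nonempty_algEquiv_HR (R := R) S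
  have hcov := HenselLib.etCov_of_algEquiv e (HenselLib.etCov_hens _)
  intro P hP
  let p := P.comap (algebraMap R S)
  let q : Ideal S := p.map (algebraMap R S)
  have hqP : q ≤ P := Ideal.map_comap_le
  haveI : Nontrivial (R ⧸ p) := Ideal.Quotient.nontrivial_iff.2 (Ideal.comap_isPrime _ _).ne_top
  haveI : IsLocalRing (R ⧸ p) := IsLocalRing.of_surjective' _ Ideal.Quotient.mk_surjective
  haveI : Nontrivial (S ⧸ q) := Ideal.Quotient.nontrivial_iff.2 (ne_top_of_le_ne_top hP.ne_top hqP)
  haveI : IsLocalRing (S ⧸ q) := IsLocalRing.of_surjective' _ Ideal.Quotient.mk_surjective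
  haveI : Module.Flat (R ⧸ p) (S ⧸ q) := CatLib.flat_quotient p
  have hm := Groth.Agent.S0507.result R S
  have hmq : (IsLocalRing.maximalIdeal (R ⧸ p)).map (algebraMap (R ⧸ p) (S ⧸ q)) = IsLocalRing.maximalIdeal (S ⧸ q) := by
    rw [← IsLocalRing.map_maximalIdeal_of_surjective (Ideal.Quotient.mk p) Ideal.Quotient.mk_surjective,
      ← IsLocalRing.map_maximalIdeal_of_surjective (Ideal.Quotient.mk q) Ideal.Quotient.mk_surjective, ← hm,
      Ideal.map_map, Ideal.map_map]
    rfl
  haveI : IsLocalHom (algebraMap (R ⧸ p) (S ⧸ q)) := ((IsLocalRing.local_hom_TFAE _).out 2 0).1 hmq.le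
  haveI : Module.FaithfullyFlat (R ⧸ p) (S ⧸ q) := Module.FaithfullyFlat.of_flat_of_isLocalHom
  obtain ⟨E⟩ := CatLib.exists_cpl_equiv_of_faithfullyFlat (R ⧸ p) (S ⧸ q) hmq fun n y => by
    obtain ⟨b, rfl⟩ := Ideal.Quotient.mk_surjective y
    obtain ⟨x, hx⟩ := (Groth.Agent.S0510.result R S n).2 (Ideal.Quotient.mk _ b)
    obtain ⟨a, rfl⟩ := Ideal.Quotient.mk_surjective x
    rw [Ideal.quotientMap_mk, Ideal.Quotient.eq, Ideal.map_pow, hm] at hx
    refine ⟨Ideal.Quotient.mk p a, ?_⟩
    rw [← IsLocalRing.map_maximalIdeal_of_surjective (Ideal.Quotient.mk q) Ideal.Quotient.mk_surjective, ← Ideal.map_pow]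
    exact map_sub (Ideal.Quotient.mk q) b (algebraMap R S a) ▸
      Ideal.mem_map_of_mem (Ideal.Quotient.mk q) (by simpa using neg_mem hx)
  haveI := CatLib.isNoetherianRing_cpl (R ⧸ p)
  haveI := CatLib.isNoetherianRing_cpl (S ⧸ q)
  have hmin : P ∈ q.minimalPrimes := ⟨⟨hP, hqP⟩, fun P0 hP0 hle => le_of_eq (by
    haveI := hP0.1
    exact (HenselLib.eq_of_le_of_comap_eq hcov P0 P hle (le_antisymm (Ideal.comap_mono hle)
      (Ideal.map_le_iff_le_comap.1 hP0.2))).symm)⟩
  let a := P.map (Ideal.Quotient.mk q)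
  have hmin' : a ∈ minimalPrimes (S ⧸ q) := CatLib.map_mem_minimalPrimes hmin
  have ha : a ∈ associatedPrimes (S ⧸ q) (S ⧸ q) :=
    Module.associatedPrimes.minimalPrimes_annihilator_subset_associatedPrimes _ _
      (by rwa [Module.annihilator_eq_bot.2 inferInstance])
  haveI := hmin'.1.1
  haveI : Nontrivial ((S ⧸ q) ⧸ a) := Ideal.Quotient.nontrivial_iff.2 hmin'.1.1.ne_top
  haveI : IsLocalRing ((S ⧸ q) ⧸ a) := IsLocalRing.of_surjective' _ Ideal.Quotient.mk_surjective
  have h1 := CatLib.isStrictlyEquidim_cpl_quotient (CatLib.isStrictlyEquidim_of_ringEquiv E (h p)) a ha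
  let e2 : ((S ⧸ q) ⧸ a) ≃+* S ⧸ P := DoubleQuot.quotQuotEquivQuotOfLE hqP
  haveI := CatLib.isNoetherianRing_cpl ((S ⧸ q) ⧸ a)
  haveI := CatLib.isNoetherianRing_cpl (S ⧸ P)
  obtain ⟨E2⟩ := CatLib.exists_cpl_equiv_of_bijective (IsLocalRing.maximalIdeal ((S ⧸ q) ⧸ a))
    (IsLocalRing.maximalIdeal (S ⧸ P))
    (fun n => Ideal.quotientEquiv _ _ e2 (by
      rw [Ideal.map_pow]
      exact congrArg (· ^ n) (IsLocalRing.map_maximalIdeal_of_surjective e2.toRingHom e2.surjective).symm))
    (fun h x => by obtain ⟨a, rfl⟩ := Ideal.Quotient.mk_surjective x; simp)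
  exact CatLib.isStrictlyEquidim_of_ringEquiv E2 h1

end Groth.Agent.S5041
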