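import Groth.Statements.S5046
import Groth.Agent.UnibranchConnLib.Conn
import Groth.Agent.FFDescLib.Closure
import Groth.Agent.AlgSpLib.ReducedStalk
-- import your own Groth.Agent.* helpers here

set_option autoImplicit false
set_option maxHeartbeats 2000000
set_option backward.isDefEq.respectTransparency false
open CategoryTheory AlgebraicGeometry
universe u
open Unram

namespace Groth.Agent.S5046

/-- Let A be a Noetherian local domain of Krull dimension at least 2 which is geometrically unibranch, X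
a connected locally Noetherian scheme and f : X ⟶ Spec A a flat morphism. Then for every closed
subset T of X lying over the closed point of Spec A, the complement of T in X is connected. -/
theorem result (A : Type u) [CommRing A]
    [IsNoetherianRing A] [IsLocalRing A] [IsDomain A] (hA : CAlg2.IsGeomUnibranch A) (hdim : 2 ≤ ringKrullDim A)
    {X : Scheme.{u}} [IsLocallyNoetherian X] [ConnectedSpace ↥X] (f : X ⟶ Spec (CommRingCat.of A)) [Flat f]
    (T : Set ↥X) (hT : IsClosed T) (hTy : ∀ x ∈ T, f.base x = IsLocalRing.closedPoint A) :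
    IsConnected Tᶜ := by
  classical
  let η : ↥(Spec (CommRingCat.of A)) := (⟨⊥, Ideal.isPrime_bot⟩ : PrimeSpectrum A)
  have hηne : η ≠ IsLocalRing.closedPoint A := fun h => by
    have h' : IsLocalRing.maximalIdeal A = ⊥ := (congrArg PrimeSpectrum.asIdeal h).symm
    rw [ringKrullDim_eq_zero_of_isField (IsLocalRing.isField_iff_maximalIdeal_eq.2 h')] at hdim
    exact absurd hdim (by decide)
  have hgen : ∀ x : X, ∃ y : X, y ⤳ x ∧ f y = η := by
    intro x
    have h : η ⤳ f x := (PrimeSpectrum.le_iff_specializes (⟨⊥, Ideal.isPrime_bot⟩ : PrimeSpectrum A) _).1 bot_le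
    obtain ⟨y, hy, hfy⟩ := Flat.generalizingMap f h
    exact ⟨y, hy, hfy⟩
  have hnotT : ∀ y : X, f y = η → y ∈ Tᶜ := fun y hy hyT => hηne (hy.symm.trans (hTy y hyT))
  refine ⟨?_, ?_⟩
  · obtain ⟨x⟩ := (inferInstance : Nonempty ↥X)
    obtain ⟨y, -, hy⟩ := hgen x
    exact ⟨y, hnotT y hy⟩
  intro u v hu hv hcov hne hne'
  by_contra hcon
  rw [Set.not_nonempty_iff_eq_empty] at hcon
  let U1 : X.Opens := ⟨Tᶜ ∩ u, hT.isOpen_compl.inter hu⟩
  let U2 : X.Opens := ⟨Tᶜ ∩ v, hT.isOpen_compl.inter hv⟩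
  have hdense : ∀ x : X, x ∈ closure (U1 : Set X) ∪ closure (U2 : Set X) := by
    intro x
    obtain ⟨y, hy, hfy⟩ := hgen x
    rcases hcov (hnotT y hfy) with h | h
    · exact Or.inl (hy.mem_closed isClosed_closure (subset_closure ⟨hnotT y hfy, h⟩))
    · exact Or.inr (hy.mem_closed isClosed_closure (subset_closure ⟨hnotT y hfy, h⟩))
  obtain ⟨x, -, hx1, hx2⟩ := isPreconnected_closed_iff.1 (PreconnectedSpace.isPreconnected_univ (α := ↥X))
    _ _ isClosed_closure isClosed_closure (fun x _ => hdense x)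
    (by obtain ⟨y, hy⟩ := hne; exact ⟨y, trivial, subset_closure hy⟩)
    (by obtain ⟨y, hy⟩ := hne'; exact ⟨y, trivial, subset_closure hy⟩)
  have hxT : x ∈ T := by
    by_contra hxT
    rcases hcov hxT with h | h
    · obtain ⟨z, hz, hz'⟩ := mem_closure_iff.1 hx2 _ U1.2 ⟨hxT, h⟩
      exact Set.eq_empty_iff_forall_notMem.1 hcon z ⟨hz.1, hz.2, hz'.2⟩
    · obtain ⟨z, hz, hz'⟩ := mem_closure_iff.1 hx1 _ U2.2 ⟨hxT, h⟩
      exact Set.eq_empty_iff_forall_notMem.1 hcon z ⟨hz.1, hz'.2, hz.2⟩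
  -- generic points of both parts near x
  have hnear : ∀ U : X.Opens, x ∈ closure (U : Set X) → ∃ y : X, y ⤳ x ∧ f y = η ∧ y ∈ U := by
    intro U hxU
    have : x ∈ closure (Set.range U.ι) := by rwa [Scheme.Opens.range_ι]
    obtain ⟨z, hz⟩ := FFDescLib.exists_specializes_of_mem_closure_range U.ι this
    obtain ⟨y, hy, hfy⟩ := hgen (U.ι z)
    exact ⟨y, hy.trans hz, hfy, hy.mem_open U.2 z.2⟩
  obtain ⟨y1, hy1x, hy1η, hy1U⟩ := hnear U1 hx1
  obtain ⟨y2, hy2x, hy2η, hy2U⟩ := hnear U2 hx2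
  let B := X.presheaf.stalk x
  obtain ⟨φ, hφ⟩ := Spec.map_surjective (X.fromSpecStalk x ≫ f)
  letI : Algebra A B := φ.hom.toAlgebra
  haveI : Flat (X.fromSpecStalk x) := AlgSpLib.flat_fromSpecStalk x
  have hfl : φ.hom.Flat := Flat.SpecMap_iff.1 (by rw [hφ]; infer_instance)
  haveI : Module.Flat A B := hfl
  have hcomap : ∀ Q : ↥(Spec (X.presheaf.stalk x)), (f (X.fromSpecStalk x Q)).asIdeal = Q.asIdeal.comap (algebraMap A B) := by
    intro Q
    rw [← Scheme.Hom.comp_apply, ← hφ]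
    rfl
  haveI : IsLocalHom (algebraMap A B) := by
    refine ((IsLocalRing.local_hom_TFAE (algebraMap A B)).out 0 4).2 ?_
    show (IsLocalRing.closedPoint B).asIdeal.comap (algebraMap A B) = _
    rw [← hcomap, Scheme.fromSpecStalk_closedPoint, hTy x hxT]
    rfl
  have hP := UnibranchConnLib.isPreconnected_compl_fibre A B hA hdim
  let π := X.fromSpecStalk x
  have himg : _root_.IsPreconnected (π '' {P : PrimeSpectrum B | P.asIdeal.comap (algebraMap A B) ≠ IsLocalRing.maximalIdeal A}) :=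
    hP.image π π.continuous.continuousOn
  have hsub : π '' {P : PrimeSpectrum B | P.asIdeal.comap (algebraMap A B) ≠ IsLocalRing.maximalIdeal A} ⊆ Tᶜ := by
    rintro _ ⟨Q, hQ, rfl⟩ hQT
    refine hQ ?_
    rw [← hcomap, hTy _ hQT]
    rfl
  have hmem : ∀ y : X, y ⤳ x → f y = η → y ∈ π '' {P : PrimeSpectrum B | P.asIdeal.comap (algebraMap A B) ≠ IsLocalRing.maximalIdeal A} := by
    intro y hy hfy
    obtain ⟨Q, rfl⟩ := (Scheme.range_fromSpecStalk (x := x)).ge hy
    refine ⟨Q, fun h => hηne ?_, rfl⟩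
    rw [← hfy]
    exact PrimeSpectrum.ext ((hcomap Q).trans h)
  obtain ⟨z, hz, hzu, hzv⟩ := himg u v hu hv (hsub.trans hcov) ⟨y1, hmem y1 hy1x hy1η, hy1U.2⟩
    ⟨y2, hmem y2 hy2x hy2η, hy2U.2⟩
  exact Set.eq_empty_iff_forall_notMem.1 hcon z ⟨hsub hz, hzu, hzv⟩

end Groth.Agent.S5046
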