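import Groth.Statements.S5047
import Groth.Agent.S2767
import Groth.Agent.Unram17Lib.Mono
import Groth.Agent.FibDimLib.Apps
-- import your own Groth.Agent.* helpers here

set_option autoImplicit false
open CategoryTheory AlgebraicGeometry
universe u
open Unram

namespace Groth.Agent.S5047

/-- Consider morphisms g : Y ⟶ S and h : X ⟶ S, both locally of finite presentation, where h is flat and
every local ring of every fibre of g is a normal domain (this holds, e.g., when g is smooth). Given
an S-morphism f : X ⟶ Y, the morphism f is an open immersion exactly when it is a monomorphism and,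
at each point x of X, the local dimension at x of the h-fibre containing x coincides with the local
dimension at f x of the g-fibre containing f x. -/
theorem result {X Y S : Scheme.{u}} (g : Y ⟶ S) (h : X ⟶ S)
    [LocallyOfFinitePresentation g] [LocallyOfFinitePresentation h] [Flat h]
    (hnorm : ∀ y : Y, IsDomain ((g.fiber (g.base y)).presheaf.stalk (g.asFiber y)) ∧
      IsIntegrallyClosed ((g.fiber (g.base y)).presheaf.stalk (g.asFiber y)))
    (f : X ⟶ Y) (w : f ≫ g = h) :
    IsOpenImmersion f ↔ (Mono f ∧ ∀ x : X, FlatMor.fibreDimAt h x = FlatMor.fibreDimAt g (f.base x)) := by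
  subst w
  constructor
  · intro _
    exact ⟨inferInstance, fun x => FibDimLib.fibreDimAt_comp_isOpenImmersion f g x⟩
  · rintro ⟨_, hdim⟩
    haveI : LocallyOfFiniteType f := locallyOfFiniteType_of_comp f g
    haveI : FormallyUnramified f := Groth.Agent.MonoFib.formallyUnramified_of_mono f
    have hflat : ∀ x, (f.stalkMap x).hom.Flat := fun x => by
      obtain ⟨U, hxU, _⟩ := (Groth.Agent.S2767.result g (f ≫ g) f rfl x (Flat.stalkMap (f ≫ g) x) (hnorm _)).2
        ⟨⟨⊤, trivial, inferInstance⟩, hdim x⟩
      exact Unram17Lib.flat_stalkMap_of_exists f ⟨U, hxU, inferInstance⟩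
    haveI : Flat f := Flat.iff_flat_stalkMap f |>.2 hflat
    haveI : LocallyOfFinitePresentation f := Unram17Lib.lfp_of_comp_lft f g
    exact IsOpenImmersion.of_flat_of_mono f

end Groth.Agent.S5047
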