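import Groth.Statements.S5048
import Groth.Agent.Unram17Lib.QFComponents
-- import your own Groth.Agent.* helpers here

set_option autoImplicit false
open CategoryTheory AlgebraicGeometry
universe u
open Unram

namespace Groth.Agent.S5048

/-- Let Y be an irreducible scheme with generic point η and f : X ⟶ Y flat, locally of finite type and
locally quasi-finite. Then a point x of X maps to η if and only if its closure is an irreducible
component of X; thus the irreducible components of X are in canonical bijection with the fibre over
η. -/
theorem result {X Y : Scheme.{u}} [IrreducibleSpace ↥Y] (f : X ⟶ Y)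
    [Flat f] [LocallyOfFiniteType f] [LocallyQuasiFinite f] (x : X) :
    f.base x = genericPoint Y ↔ closure ({x} : Set ↥X) ∈ irreducibleComponents ↥X := by
  constructor
  · intro hη
    refine Unram17Lib.QFComponents.closure_mem_irreducibleComponents fun z hz => ?_
    refine Unram17Lib.QFComponents.eq_of_specializes_of_eq f hz ?_
    have h1 : f.base z ⤳ genericPoint Y := hη ▸ hz.map f.continuous
    exact (h1.antisymm (genericPoint_specializes (f.base z))).eq.trans hη.symm
  · intro hx
    obtain ⟨z, hz, hfz⟩ := Flat.generalizingMap f (genericPoint_specializes (f.base x))
    rw [← Unram17Lib.QFComponents.eq_of_specializes hx hz]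
    exact hfz

end Groth.Agent.S5048
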