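import Groth.Statements.S5049
import Groth.Agent.Unram17Lib.QFComponents
-- import your own Groth.Agent.* helpers here

set_option autoImplicit false
open CategoryTheory AlgebraicGeometry
universe u
open Unram

namespace Groth.Agent.S5049

/-- Let f : X ⟶ Y be flat, locally of finite type and locally quasi-finite. If the irreducible
components of Y form a locally finite family of subsets, then so do the irreducible components of X. -/
theorem result {X Y : Scheme.{u}} (f : X ⟶ Y)
    [Flat f] [LocallyOfFiniteType f] [LocallyQuasiFinite f]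
    (hY : LocallyFinite (fun Z : ↥(irreducibleComponents ↥Y) => (Z : Set ↥Y))) :
    LocallyFinite (fun Z : ↥(irreducibleComponents ↥X) => (Z : Set ↥X)) := by
  classical
  intro x
  obtain ⟨N, hN, hfin⟩ := hY (f.base x)
  obtain ⟨U, hU, hxU, hUN⟩ := exists_isAffineOpen_mem_and_subset (x := f.base x) (U := ⟨interior N, isOpen_interior⟩)
    (mem_interior_iff_mem_nhds.mpr hN)
  obtain ⟨V, hV, hxV, hVU⟩ := exists_isAffineOpen_mem_and_subset (x := x) (U := f ⁻¹ᵁ U) hxU
  refine ⟨V, V.isOpen.mem_nhds hxV, ?_⟩
  haveI : IsAffine (V : Scheme.{u}) := hV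
  haveI : IsAffine (U : Scheme.{u}) := hU
  let g := f.resLE U V hVU
  haveI : LocallyQuasiFinite g := inferInstance
  haveI : QuasiCompact g := inferInstance
  let P : Set U := {u | ∃ W : ↥(irreducibleComponents ↥Y), ((W : Set ↥Y) ∩ N).Nonempty ∧ IsGenericPoint (U.ι u) (W : Set ↥Y)}
  have hP : P.Finite := by
    refine Set.Finite.of_finite_image (f := fun u : U => closure {U.ι u}) ?_ ?_
    · exact ((hfin.image fun W : ↥(irreducibleComponents ↥Y) => (W : Set ↥Y)).subset (by
        rintro _ ⟨u, ⟨W, hW, hu⟩, rfl⟩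
        exact ⟨W, hW, hu.def.symm⟩))
    · intro a _ b _ hab
      replace hab : closure {U.ι a} = closure {U.ι b} := hab
      refine U.ι.isOpenEmbedding.injective (Specializes.antisymm ?_ ?_).eq
      · rw [specializes_iff_mem_closure, hab]
        exact subset_closure rfl
      · rw [specializes_iff_mem_closure, ← hab]
        exact subset_closure rfl
  have hfinV : (g ⁻¹' P).Finite := g.finite_preimage hP
  refine Set.Finite.of_finite_image (f := fun Z : ↥(irreducibleComponents ↥X) => (Z : Set ↥X))
    ((hfinV.image fun v : V => closure ({V.ι v} : Set ↥X)).subset ?_) Subtype.val_injective.injOn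
  rintro _ ⟨⟨Z, hZ⟩, ⟨z, hzZ, hzV⟩, rfl⟩
  have hgp := hZ.1.isGenericPoint_genericPoint (isClosed_of_mem_irreducibleComponents Z hZ)
  let η := hZ.1.genericPoint
  have hηV : η ∈ V := (hgp.specializes hzZ).mem_open V.isOpen hzV
  have hηc : closure ({η} : Set ↥X) = Z := hgp.def
  have hmem := Unram17Lib.QFComponents.closure_image_mem f (x := η) (hηc.symm ▸ hZ)
  refine ⟨⟨η, hηV⟩, ?_, hηc⟩
  refine ⟨⟨_, hmem⟩, ⟨f.base η, subset_closure rfl, interior_subset (hUN (hVU hηV))⟩, ?_⟩
  rw [show U.ι (g ⟨η, hηV⟩) = f.base η from congr($(f.resLE_comp_ι hVU) ⟨η, hηV⟩)]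
  exact isGenericPoint_closure

end Groth.Agent.S5049
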