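import Groth.Statements.S5050
import Mathlib

set_option autoImplicit false
universe u v
open CInt

namespace Groth.Agent.S5050

/-- Let A be a Noetherian ring, N a finitely generated A-module, E and F submodules of N and Q an ideal
of A. For every natural number k there is h > 0 with E ⊓ (F ⊔ Q^h N) ≤ (E ⊓ F) ⊔ Q^k N. -/
theorem result {A : Type u} [CommRing A] [IsNoetherianRing A] {N : Type v} [AddCommGroup N]
    [Module A N] [Module.Finite A N] (E F : Submodule A N) (Q : Ideal A) (k : ℕ) :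
    ∃ h : ℕ, 0 < h ∧ E ⊓ (F ⊔ Q ^ h • (⊤ : Submodule A N)) ≤ (E ⊓ F) ⊔ Q ^ k • (⊤ : Submodule A N) := by
  obtain ⟨c, hc⟩ := Ideal.exists_pow_inf_eq_pow_smul Q (E.map F.mkQ)
  refine ⟨k + c + 1, Nat.succ_pos _, fun x ⟨hxE, hxF⟩ => ?_⟩
  have h1 : F.mkQ x ∈ Q ^ (k + c + 1) • (⊤ : Submodule A (N ⧸ F)) ⊓ E.map F.mkQ := by
    refine ⟨?_, Submodule.mem_map_of_mem hxE⟩
    obtain ⟨a, ha, b, hb, rfl⟩ := Submodule.mem_sup.mp hxF
    rw [map_add, show F.mkQ a = 0 from (Submodule.Quotient.mk_eq_zero F).mpr ha, zero_add]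
    exact Submodule.smul_top_le_comap_smul_top _ F.mkQ hb
  rw [hc _ (Nat.le_add_left c (k + 1) |>.trans_eq (by omega))] at h1
  have h2 : F.mkQ x ∈ (Q ^ k • E).map F.mkQ := by
    rw [Submodule.map_smul'']
    exact Submodule.smul_mono (Ideal.pow_le_pow_right (by omega)) inf_le_right h1
  obtain ⟨e, he, hex⟩ := Submodule.mem_map.mp h2
  have h3 : x - e ∈ E ⊓ F := ⟨E.sub_mem hxE (Submodule.smul_le_right he), (Submodule.Quotient.eq F).mp hex.symm⟩
  have := Submodule.add_mem_sup h3 (Submodule.smul_mono le_rfl le_top he)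
  rwa [sub_add_cancel] at this

end Groth.Agent.S5050
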