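import Groth.Statements.S5053
import Groth.Agent.GeomCountLib.Basic

set_option autoImplicit false
set_option backward.isDefEq.respectTransparency false
set_option backward.isDefEq.respectTransparency.types false
open CategoryTheory AlgebraicGeometry
universe u
open Unram

namespace Groth.Agent.S5053

/-- Let Y be a connected scheme and f : X ⟶ Y étale, separated and of finite type. Then f is finite if
and only if all geometric fibres of f have the same number of points. -/
theorem result {X Y : Scheme.{u}} [ConnectedSpace ↥Y] (f : X ⟶ Y)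
    [Etale f] [IsSeparated f] [LocallyOfFiniteType f] [QuasiCompact f] :
    IsFinite f ↔ ∃ n : ℕ∞, ∀ y : Y, ENat.card ↥(MoreMor.geomFiber f y) = n := by
  constructor
  · intro hfin
    haveI : IsFinite (f ∣_ (⊤ : Y.Opens)) := IsZariskiLocalAtTarget.restrict hfin _
    obtain ⟨y₀⟩ := ConnectedSpace.toNonempty (α := ↥Y)
    refine ⟨ENat.card ↥(MoreMor.geomFiber f y₀), fun y => ?_⟩
    have hlc : IsLocallyConstant fun y : Y => ENat.card ↥(MoreMor.geomFiber f y) :=
      (IsLocallyConstant.iff_exists_open _).2 fun z => by
        obtain ⟨U, hz, hU⟩ := (GeomCountLib.eventually_eq_iff f z).2 ⟨⊤, trivial, inferInstance⟩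
        exact ⟨U, U.isOpen, hz, hU⟩
    exact hlc.apply_eq_of_preconnectedSpace y y₀
  · rintro ⟨n, hn⟩
    choose U hU hfin using fun y => (GeomCountLib.eventually_eq_iff f y).1 ⟨⊤, trivial, fun z _ => by rw [hn, hn]⟩
    exact IsZariskiLocalAtTarget.of_iSup_eq_top U
      (TopologicalSpace.Opens.ext (Set.eq_univ_of_forall fun y => TopologicalSpace.Opens.mem_iSup.2 ⟨y, hU y⟩)) hfin

end Groth.Agent.S5053
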