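import Groth.Statements.S5057
import Mathlib.AlgebraicGeometry.IdealSheaf.Basic
import Mathlib.AlgebraicGeometry.IdealSheaf.Subscheme
import Mathlib.AlgebraicGeometry.Morphisms.Finite
import Mathlib.AlgebraicGeometry.PullbackCarrier
-- import your own Groth.Agent.* helpers here

set_option autoImplicit false
open CategoryTheory CategoryTheory.Limits AlgebraicGeometry
universe u
open Hensel

namespace Groth.Agent.S5057

/-- Let i : S₀ ⟶ S be a closed immersion such that for every finite morphism g : S' ⟶ S every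
open-closed subset of S' ×_S S₀ is the inverse image under the first projection of exactly one
open-closed subset of S'. Then for every finite morphism g : S' ⟶ S, every open subset of S'
containing the image of S' ×_S S₀ is all of S'. -/
theorem result {S S₀ : Scheme.{u}} (i : S₀ ⟶ S) [IsClosedImmersion i]
    (ha : ∀ (S' : Scheme.{u}) (g : S' ⟶ S), IsFinite g →
      ∀ V : Set ↥(pullback g i), IsClopen V → ∃! U : Set ↥S', IsClopen U ∧ (pullback.fst g i).base ⁻¹' U = V)
    {S' : Scheme.{u}} (g : S' ⟶ S) [IsFinite g] (U : Set ↥S') (hU : IsOpen U)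
    (hU₀ : Set.range (pullback.fst g i).base ⊆ U) : U = Set.univ := by
  let C : TopologicalSpace.Closeds ↥S' := ⟨Uᶜ, hU.isClosed_compl⟩
  let Z := (Scheme.IdealSheafData.vanishingIdeal C).subscheme
  let j : Z ⟶ S' := (Scheme.IdealSheafData.vanishingIdeal C).subschemeι
  have hj : Set.range j.base = Uᶜ := by
    show Set.range j.base = (C : Set ↥S')
    rw [Scheme.IdealSheafData.range_subschemeι, Scheme.IdealSheafData.coe_support_vanishingIdeal]
  haveI hZ : IsEmpty ↥(pullback (j ≫ g) i) := ⟨fun z => by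
    let φ : pullback (j ≫ g) i ⟶ pullback g i :=
      pullback.map _ _ _ _ j (𝟙 _) (𝟙 _) (by simp) (by simp)
    have h1 : φ ≫ pullback.fst g i = pullback.fst (j ≫ g) i ≫ j := pullback.lift_fst _ _ _
    have h2 : (pullback.fst g i).base (φ.base z) = j.base ((pullback.fst (j ≫ g) i).base z) :=
      congrArg (fun f : pullback (j ≫ g) i ⟶ S' => f.base z) h1
    have h3 : j.base ((pullback.fst (j ≫ g) i).base z) ∈ Uᶜ := hj ▸ ⟨_, rfl⟩
    exact h3 (hU₀ ⟨_, h2⟩)⟩
  obtain ⟨W, -, huniq⟩ := ha Z (j ≫ g) inferInstance ∅ isClopen_empty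
  have h0 : (∅ : Set ↥Z) = W := huniq ∅ ⟨isClopen_empty, Set.preimage_empty⟩
  have h1 : (Set.univ : Set ↥Z) = W := huniq Set.univ ⟨isClopen_univ, Set.eq_empty_of_isEmpty _⟩
  refine Set.eq_univ_of_forall fun y => ?_
  by_contra hy
  obtain ⟨z, -⟩ : y ∈ Set.range j.base := hj ▸ hy
  have : z ∈ (∅ : Set ↥Z) := by rw [h0, ← h1]; trivial
  exact this

end Groth.Agent.S5057
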