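import Groth.Statements.S5058
import Groth.Agent.ConsLib.AffineModel
import Groth.Agent.S0506
import Groth.Agent.S0507
import Groth.Agent.S0511

set_option autoImplicit false
open CategoryTheory CategoryTheory.Limits AlgebraicGeometry
universe u
open Hensel

namespace Groth.Agent.S5058


/-- The ring-theoretic step. -/
theorem exists_henselian_factor (B A : Type u) [CommRing B] [IsNoetherianRing B] [CommRing A]
    [HenselianLocalRing A] (ψ : B →+* A) :
    ∃ (A₀ : Type u) (_ : CommRing A₀) (_ : HenselianLocalRing A₀) (_ : IsNoetherianRing A₀)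
      (φ : A₀ →+* A) (_ : IsLocalHom φ) (j : B →+* A₀), φ.comp j = ψ := by
  let q : Ideal B := (IsLocalRing.maximalIdeal A).comap ψ
  haveI : q.IsPrime := Ideal.IsPrime.comap ψ
  let R := Localization.AtPrime q
  haveI : IsNoetherianRing R := IsLocalization.isNoetherianRing q.primeCompl R inferInstance
  let θ : R →+* A := IsLocalization.lift (M := q.primeCompl) (g := ψ) fun b => by
    by_contra h
    exact b.2 h
  have hθ : IsLocalHom θ := ⟨fun x hx => by
    obtain ⟨b, s, rfl⟩ := IsLocalization.exists_mk'_eq q.primeCompl x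
    rw [IsLocalization.AtPrime.isUnit_mk'_iff R q]
    intro hb
    rw [IsLocalization.lift_mk', Units.isUnit_mul_units] at hx
    exact hb hx⟩
  obtain ⟨H, iC, iL, iA, iH, hH⟩ := Groth.Agent.S0506.result R
  haveI : IsNoetherianRing H := (Groth.Agent.S0511.result R H).1 inferInstance
  haveI : HenselianLocalRing H := hH.henselian
  obtain ⟨φ, hφ, -⟩ := hH.universal A θ hθ
  refine ⟨H, iC, inferInstance, inferInstance, φ, ⟨fun x hx => ?_⟩, (algebraMap R H).comp (algebraMap B R), ?_⟩
  · by_contra hnu
    have hle : IsLocalRing.maximalIdeal H ≤ (IsLocalRing.maximalIdeal A).comap φ := by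
      rw [← Groth.Agent.S0507.result R H, Ideal.map_le_iff_le_comap, Ideal.comap_comap, hφ]
      exact fun r hr => map_nonunit θ r hr
    exact hle (show x ∈ IsLocalRing.maximalIdeal H from hnu) hx
  · rw [← RingHom.comp_assoc, hφ]
    exact IsLocalization.lift_comp _


attribute [local instance] ConsLib.zAlgebra

/-- Let A be a henselian local ring and f : X ⟶ Spec A a morphism of finite presentation. Then there
exist a Noetherian henselian local ring A₀, a local ring homomorphism φ : A₀ → A, a morphism of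
finite type f₀ : X₀ ⟶ Spec A₀ and a cartesian square exhibiting X as the base change of X₀ along
Spec φ. -/
theorem result (A : Type u) [CommRing A] [HenselianLocalRing A]
    {X : Scheme.{u}} (f : X ⟶ Spec (CommRingCat.of A)) [LocallyOfFinitePresentation f] [QuasiCompact f] [QuasiSeparated f] :
    ∃ (A₀ : Type u) (_ : CommRing A₀) (_ : HenselianLocalRing A₀) (_ : IsNoetherianRing A₀) (φ : A₀ →+* A) (_ : IsLocalHom φ)
      (X₀ : Scheme.{u}) (f₀ : X₀ ⟶ Spec (CommRingCat.of A₀)) (g : X ⟶ X₀),
      LocallyOfFiniteType f₀ ∧ QuasiCompact f₀ ∧ IsPullback g f f₀ (Spec.map (CommRingCat.ofHom φ)) := by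
  let A' := ConsLib.zSys A
  haveI : ∀ i j (a : i ⟶ j), IsAffineHom (A'.D.map a) := fun _ _ a => A'.affine_map a
  haveI : ∀ i, AlgebraicGeometry.IsNoetherian (A'.D.obj i) := fun i => ConsLib.zSys_obj _ i
  obtain ⟨i, ⟨N⟩⟩ := DescFP.exists_model A'.hc (f ≫ (ConsLib.zSysIso A).inv)
  haveI := N.lfp
  haveI := N.qc
  have sq : IsPullback N.g f N.p (Spec.map (CommRingCat.ofHom i.unop.1.val.toRingHom)) :=
    N.sq.of_iso (Iso.refl _) (Iso.refl _) (ConsLib.zSysIso A) (Iso.refl _) (by simp) (by simp) (by simp)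
      ((Category.comp_id _).trans (Category.id_comp _).symm)
  haveI : IsNoetherianRing (ULift.{u} ℤ) := isNoetherianRing_of_ringEquiv ℤ ULift.ringEquiv.symm
  haveI : Algebra.FiniteType (ULift.{u} ℤ) i.unop.1 := (Subalgebra.fg_iff_finiteType i.unop.1).1 i.unop.2
  haveI : IsNoetherianRing i.unop.1 := Algebra.FiniteType.isNoetherianRing (ULift.{u} ℤ) _
  obtain ⟨A₀, iC, iH, iN, φ, hφ, j, hj⟩ := exists_henselian_factor i.unop.1 A i.unop.1.val.toRingHom
  let J : Spec (CommRingCat.of A₀) ⟶ Spec (CommRingCat.of i.unop.1) := Spec.map (CommRingCat.ofHom j)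
  have hJ : Spec.map (CommRingCat.ofHom φ) ≫ J = Spec.map (CommRingCat.ofHom i.unop.1.val.toRingHom) := by
    rw [← Spec.map_comp, ← CommRingCat.ofHom_comp, hj]
  let p : N.Z ⟶ Spec (CommRingCat.of i.unop.1) := N.p
  haveI : LocallyOfFiniteType p := inferInstanceAs (LocallyOfFiniteType N.p)
  haveI : QuasiCompact p := N.qc
  let g : X ⟶ pullback p J := pullback.lift N.g (f ≫ Spec.map (CommRingCat.ofHom φ))
    (by rw [Category.assoc, hJ]; exact sq.w)
  refine ⟨A₀, iC, iH, iN, φ, hφ, pullback p J, pullback.snd p J, g, MorphismProperty.pullback_snd _ _ inferInstance,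
    MorphismProperty.pullback_snd _ _ inferInstance, IsPullback.of_right ?_ (pullback.lift_snd _ _ _)
      (IsPullback.of_hasPullback p J)⟩
  rw [pullback.lift_fst, hJ]
  exact sq

end Groth.Agent.S5058
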