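import Groth.Statements.S5061
import Groth.Agent.GeomRedFieldLib.Points
import Mathlib.RingTheory.Noetherian.OfPrime
-- import your own Groth.Agent.* helpers here

set_option autoImplicit false
open scoped TensorProduct
universe u
open EGA418

namespace Groth.Agent.S5061

/-- a) iff c): let k be a field of characteristic p > 0, P a perfect closure of k (a perfect field
purely inseparable over k) and K an extension field of k. Then the ring K ⊗_k P is Artinian if and
only if there exists a finite purely inseparable extension k' of k such that (k' ⊗_k K) modulo its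
nilradical is geometrically reduced over k'. -/
theorem result (p : ℕ) [Fact p.Prime]
    (k K : Type u) [Field k] [CharP k p] [Field K] [Algebra k K]
    (P : Type u) [Field P] [Algebra k P] [PerfectRing P p] [IsPRadical (algebraMap k P) p] :
    IsArtinianRing (K ⊗[k] P) ↔
      ∃ (k' : Type u) (_ : Field k') (_ : Algebra k k'), Module.Finite k k' ∧ IsPurelyInseparable k k' ∧
        Algebra.IsGeometricallyReduced k' ((k' ⊗[k] K) ⧸ nilradical (k' ⊗[k] K)) := by
  haveI : ExpChar k p := ExpChar.prime (Fact.out : p.Prime)
  haveI : ExpChar P p := expChar_of_injective_ringHom (algebraMap k P).injective p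
  haveI : PerfectField P := PerfectRing.toPerfectField P p
  haveI : IsPurelyInseparable k P := IsPRadical.isPurelyInseparable k P p
  let e := (Algebra.TensorProduct.comm k K P).toRingEquiv
  constructor
  · intro h
    haveI : IsNoetherianRing (K ⊗[k] P) := inferInstance
    haveI : IsNoetherianRing (P ⊗[k] K) := isNoetherianRing_of_ringEquiv (K ⊗[k] P) e
    obtain ⟨C, hC, hG⟩ := GeomRedFieldLib.exists_good (k := k) (P := P) K (IsNoetherian.noetherian _)
    exact ⟨C, inferInstance, inferInstance, hC, IsPurelyInseparable.tower_bot k C P, hG.isGeometricallyReduced⟩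
  · rintro ⟨k', _, _, hfin, hpi, hGR⟩
    haveI : ExpChar k' p := expChar_of_injective_ringHom (algebraMap k k').injective p
    let ι : k' →+* P := PerfectRing.lift (algebraMap k k') (algebraMap k P) p
    letI := ι.toAlgebra
    haveI : IsScalarTower k k' P := IsScalarTower.of_algebraMap_eq fun x ↦
      (PerfectRing.lift_comp_apply (algebraMap k k') (algebraMap k P) p x).symm
    have hG := GeomRedFieldLib.good_of_isGeometricallyReduced (k := k) P k' K hGR
    haveI : IsNoetherianRing (K ⊗[k] k') := IsNoetherianRing.of_finite K _
    haveI : IsNoetherianRing (k' ⊗[k] K) :=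
      isNoetherianRing_of_ringEquiv (K ⊗[k] k') (Algebra.TensorProduct.comm k K k').toRingEquiv
    have hfg : (nilradical (P ⊗[k] K)).FG := by
      have heq : nilradical (P ⊗[k] K) = (nilradical (k' ⊗[k] K)).map (GeomRedFieldLib.incl (k := k) P k' K) :=
        le_antisymm hG (Ideal.map_le_iff_le_comap.mpr fun y hy ↦
          mem_nilradical.mpr ((mem_nilradical.mp hy).map (GeomRedFieldLib.incl (k := k) P k' K)))
      rw [heq]
      exact Ideal.FG.map (IsNoetherian.noetherian _) _
    haveI := GeomRedFieldLib.subsingleton_primeSpectrum_tensor (k := k) P K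
    haveI : IsNoetherianRing (P ⊗[k] K) := IsNoetherianRing.of_prime fun I hI ↦ by
      rw [GeomRedFieldLib.eq_nilradical_of_subsingleton I]
      exact hfg
    haveI : Ring.KrullDimLE 0 (P ⊗[k] K) := Ring.KrullDimLE.mk₀ fun I hI ↦ by
      obtain ⟨M, hM, hle⟩ := Ideal.exists_le_maximal I hI.ne_top
      haveI := hM.isPrime
      rwa [GeomRedFieldLib.eq_nilradical_of_subsingleton I, ← GeomRedFieldLib.eq_nilradical_of_subsingleton M]
    haveI : IsArtinianRing (P ⊗[k] K) := isArtinianRing_iff_isNoetherianRing_krullDimLE_zero.mpr ⟨inferInstance, inferInstance⟩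
    exact Function.Surjective.isArtinianRing (f := e.symm.toRingHom) e.symm.surjective

end Groth.Agent.S5061
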