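import Groth.Statements.S5063
import Groth.Agent.S9696
import Groth.Agent.AlgSpLib.MonoScheme
-- import your own Groth.Agent.* helpers here

set_option autoImplicit false
open CategoryTheory CategoryTheory.Limits AlgebraicGeometry
universe u
open Unram

namespace Groth.Agent.S5063

/-- Let f : X ⟶ Y be locally of finite presentation. If f is unramified then there are étale morphisms
g_a : Y'_a ⟶ Y and opens U_a of the fibre products X ×_Y Y'_a whose images under the first
projections cover X, such that each U_a ⟶ Y'_a (inclusion followed by the second projection) is a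
closed immersion. Conversely, the existence of such a family with the g_a only assumed flat implies
that f is unramified. -/
theorem result {X Y : Scheme.{u}} (f : X ⟶ Y) [LocallyOfFinitePresentation f] :
    (FormallyUnramified f → ∃ (ι : Type u) (Y' : ι → Scheme.{u}) (g : ∀ a, Y' a ⟶ Y) (U : ∀ a, (pullback f (g a)).Opens),
      (∀ a, Etale (g a)) ∧ (∀ x : X, ∃ a, x ∈ (pullback.fst f (g a)).base '' (U a : Set ↥(pullback f (g a)))) ∧
        ∀ a, IsClosedImmersion ((U a).ι ≫ pullback.snd f (g a))) ∧
    ((∃ (ι : Type u) (Y' : ι → Scheme.{u}) (g : ∀ a, Y' a ⟶ Y) (U : ∀ a, (pullback f (g a)).Opens),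
      (∀ a, Flat (g a)) ∧ (∀ x : X, ∃ a, x ∈ (pullback.fst f (g a)).base '' (U a : Set ↥(pullback f (g a)))) ∧
        ∀ a, IsClosedImmersion ((U a).ι ≫ pullback.snd f (g a))) → FormallyUnramified f) := by
  constructor
  · intro hf
    haveI := hf
    have h : ∀ x : X, ∃ (T : Scheme.{u}) (g : T ⟶ Y) (U : (pullback f g).Opens),
        Etale g ∧ x ∈ (pullback.fst f g).base '' (U : Set ↥(pullback f g)) ∧
          IsClosedImmersion (U.ι ≫ pullback.snd f g) := fun x => by
      obtain ⟨_, ⟨W : Y.Opens, hW, rfl⟩, hxW, -⟩ := Y.isBasis_affineOpens.exists_subset_of_mem_open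
        (Set.mem_univ (f.base x)) isOpen_univ
      obtain ⟨_, ⟨V : X.Opens, hV, rfl⟩, hxV, hVW⟩ := X.isBasis_affineOpens.exists_subset_of_mem_open
        (show x ∈ f ⁻¹ᵁ W from hxW) (f ⁻¹ᵁ W).2
      haveI : IsAffine V.toScheme := hV
      haveI : IsAffine W.toScheme := hW
      have e : f.resLE W V hVW ≫ W.ι = V.ι ≫ f := Scheme.Hom.resLE_comp_ι _ _
      haveI : FormallyUnramified (f.resLE W V hVW) := by
        haveI : FormallyUnramified (f.resLE W V hVW ≫ W.ι) :=
          e ▸ MorphismProperty.comp_mem _ V.ι f inferInstance hf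
        exact FormallyUnramified.of_comp _ W.ι
      haveI : LocallyOfFiniteType (f.resLE W V hVW) := by
        haveI : LocallyOfFiniteType (f.resLE W V hVW ≫ W.ι) := e ▸ inferInstance
        exact locallyOfFiniteType_of_comp _ W.ι
      obtain ⟨U', T, j, ι, q, -, -, hj, hι, hq, ⟨u, hu⟩, hjq⟩ :=
        AlgSpLib.exists_etale_nbhd_closedImmersion (f.resLE W V hVW) ⟨x, hxV⟩
      have hw : (j ≫ V.ι) ≫ f = ι ≫ q ≫ W.ι := by
        rw [Category.assoc, ← e, ← Category.assoc, hjq, Category.assoc]
      let s : U' ⟶ pullback f (q ≫ W.ι) := pullback.lift (j ≫ V.ι) ι hw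
      haveI : Etale (pullback.fst f (q ≫ W.ι)) := MorphismProperty.pullback_fst _ _ inferInstance
      haveI : IsOpenImmersion (s ≫ pullback.fst f (q ≫ W.ι)) := by
        rw [pullback.lift_fst]
        infer_instance
      haveI : Etale s := Etale.of_comp s (pullback.fst f (q ≫ W.ι))
      haveI : Mono s := mono_of_mono s (pullback.fst f (q ≫ W.ι))
      haveI : IsOpenImmersion s := IsOpenImmersion.of_flat_of_mono _
      refine ⟨T, q ≫ W.ι, s.opensRange, inferInstance, ⟨s.base u, ⟨u, rfl⟩, ?_⟩, ?_⟩
      · rw [← Scheme.Hom.comp_apply, pullback.lift_fst, Scheme.Hom.comp_apply, hu]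
        rfl
      · rw [← MorphismProperty.cancel_left_of_respectsIso @IsClosedImmersion s.isoOpensRange.hom,
          ← Category.assoc, Scheme.Hom.isoOpensRange_hom_ι, pullback.lift_snd]
        exact hι
    choose T g U hg hxU hU using h
    exact ⟨X, T, g, U, hg, fun x => ⟨x, hxU x⟩, hU⟩
  · rintro ⟨ι, Y', g, U, hg, hcov, hU⟩
    have h : ∀ x : X, x ∈ RichLib.UnrLocus.locus f := fun x => by
      obtain ⟨a, x', hx', rfl⟩ := hcov x
      haveI := hU a
      exact Groth.Agent.S9696.mem_locus_fst f (g a) x' ⟨U a, hx', inferInstance⟩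
    choose V hV hV' using h
    have htop : ⨆ x, V x = ⊤ := eq_top_iff.mpr fun x _ => TopologicalSpace.Opens.mem_iSup.mpr ⟨x, hV x⟩
    exact IsZariskiLocalAtSource.of_iSup_eq_top (P := @FormallyUnramified) V htop hV'

end Groth.Agent.S5063
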