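import Groth.Statements.S5066
import Groth.Agent.S0536
import Groth.Agent.S0526
import Groth.Agent.HenselLib.Local
-- import your own Groth.Agent.* helpers here

set_option autoImplicit false
set_option linter.style.haveILetI false
set_option maxHeartbeats 1000000
set_option backward.isDefEq.respectTransparency false
universe u
open Hensel

namespace Groth.Agent.S5066

/-- Case of a local ring, affine étale schemes: a local ring A with maximal ideal m is henselian if and
only if, for every finite A-algebra C and every étale A-algebra E, composing with the projection C →
C/mC is a bijection from the set of A-algebra homomorphisms E → C onto the set of A-algebra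
homomorphisms E → C/mC. -/
theorem result (A : Type u) [CommRing A] [IsLocalRing A] :
    HenselianLocalRing A ↔
      ∀ (C : Type u) [CommRing C] [Algebra A C] [Module.Finite A C] (E : Type u) [CommRing E] [Algebra A E] [Algebra.Etale A E],
        Function.Bijective (fun φ : E →ₐ[A] C =>
          (Ideal.Quotient.mkₐ A (Ideal.map (algebraMap A C) (IsLocalRing.maximalIdeal A))).comp φ) := by
  let m := IsLocalRing.maximalIdeal A
  constructor
  · intro hA C _ _ _ E _ _ _
    haveI := hA
    haveI := Groth.Agent.S0526.result A m C
    refine ⟨fun f g hfg => ?_, fun σ => ?_⟩
    · refine HenselLib.algHom_ext_of_sub_mem (J := m.map (algebraMap A C))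
        (HenselianRing.jac (I := m.map (algebraMap A C))) f g fun x => ?_
      exact Ideal.Quotient.eq.1 (AlgHom.congr_fun hfg x)
    · exact Groth.Agent.S0536.result A E C (m.map (algebraMap A C)) σ
  · intro h
    refine HenselLib.henselianLocalRing_of_retraction fun S _ _ _ q _ hq hs => ?_
    let J := m.map (algebraMap A A)
    have hker : RingHom.ker (algebraMap A q.ResidueField) = J := by
      rw [show J = m from Ideal.map_id m, IsScalarTower.algebraMap_eq A S q.ResidueField, ← RingHom.comap_ker,
        Ideal.ker_algebraMap_residueField]
      exact hq.over.symm
    let e : (A ⧸ J) ≃ₐ[A] q.ResidueField :=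
      (Ideal.quotientEquivAlgOfEq A hker.symm).trans
        (Ideal.quotientKerAlgEquivOfSurjective (f := Algebra.ofId A q.ResidueField) hs)
    exact ⟨((h A S).2 (e.symm.toAlgHom.comp (IsScalarTower.toAlgHom A S q.ResidueField))).choose⟩

end Groth.Agent.S5066
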