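import Groth.Statements.S5069
import Mathlib.RingTheory.KrullDimension.Zero
import Mathlib.RingTheory.HopkinsLevitzki


-- import your own Groth.Agent.* helpers here

set_option autoImplicit false
universe u v
open Hensel

namespace Groth.Agent.S5069

/-- First assertion, phrased for the images of the inductive system: let B be a Noetherian commutative
ring and (C_i) a family of Artinian subrings of B, directed under inclusion, whose union is B. Then
B is an Artinian ring. -/
theorem result (B : Type u) [CommRing B] [IsNoetherianRing B]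
    {ι : Type v} [Nonempty ι] (C : ι → Subring B) (hdir : Directed (fun a b => a ≤ b) C)
    (hart : ∀ i, IsArtinianRing ↥(C i)) (hcov : ∀ b : B, ∃ i, b ∈ C i) : IsArtinianRing B := by
  classical
  refine isArtinianRing_iff_isNoetherianRing_krullDimLE_zero.2 ⟨inferInstance, Ring.krullDimLE_zero_iff.2 fun P hP => ?_⟩
  refine Ideal.Quotient.maximal_of_isField _ ⟨exists_pair_ne _, mul_comm, fun {z} hz => ?_⟩
  obtain ⟨b, rfl⟩ := Ideal.Quotient.mk_surjective z
  obtain ⟨i, hi⟩ := hcov b
  have := hart i
  let φ : C i →+* B ⧸ P := (Ideal.Quotient.mk P).comp (C i).subtype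
  have : (RingHom.ker φ).IsPrime := RingHom.ker_isPrime φ
  have hmax : (RingHom.ker φ).IsMaximal := IsArtinianRing.isMaximal_of_isPrime _
  obtain ⟨y, c, hc, hy⟩ := hmax.exists_inv (x := (⟨b, hi⟩ : C i)) fun h => hz (RingHom.mem_ker.1 h)
  refine ⟨φ y, ?_⟩
  have h1 := congrArg φ hy
  rw [map_add, map_mul, RingHom.mem_ker.1 hc, add_zero, map_one] at h1
  exact (mul_comm _ _).trans h1

end Groth.Agent.S5069
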