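import Groth.Statements.S5073
import Mathlib

set_option autoImplicit false
universe u
open EGA418

namespace Groth.Agent.S5073

theorem exists_add_notMem {A : Type u} [CommRing A] (x : A) (n : Ideal A) (S : Finset (Ideal A))
    (hS : ∀ q ∈ S, q.IsPrime) (hn : ∀ q ∈ S, ¬ n ≤ q) (hinc : ∀ a ∈ S, ∀ b ∈ S, a ≠ b → ¬ a ≤ b) :
    ∃ d ∈ n, ∀ q ∈ S, x + d ∉ q := by
  classical
  let T := S.filter fun q => x ∈ q
  have h1 : ∀ q ∈ S.filter (fun q => x ∉ q), ∀ r ∈ T, ¬ q ≤ r := fun q hq r hr hle => by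
    obtain ⟨hqS, hxq⟩ := Finset.mem_filter.1 hq
    obtain ⟨hrS, hxr⟩ := Finset.mem_filter.1 hr
    exact hinc q hqS r hrS (fun h => hxq (h ▸ hxr)) hle
  obtain ⟨J, hJ⟩ : ∃ J : Ideal A, J = n * ∏ q ∈ S.filter (fun q => x ∉ q), q := ⟨_, rfl⟩
  have h2 : ∀ r ∈ T, ¬ J ≤ r := fun r hr hle => by
    have hrS := (Finset.mem_filter.1 hr).1
    rcases (hS r hrS).mul_le.1 (hJ ▸ hle) with h | h
    · exact hn r hrS h
    · obtain ⟨q, hq, hqr⟩ := (Ideal.IsPrime.prod_le (hS r hrS)).1 h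
      exact h1 q hq r hr hqr
  obtain ⟨d, hd, hd'⟩ : ∃ d ∈ J, ∀ r ∈ T, d ∉ r := by
    by_contra hcon
    push Not at hcon
    obtain ⟨r, hr, hle⟩ := (Ideal.subset_union_prime ⊥ ⊥ (fun r hr _ _ => hS r (Finset.mem_filter.1 hr).1)).1
      (show (J : Set A) ⊆ ⋃ r ∈ (T : Set (Ideal A)), (r : Set A) from fun d hd => by simpa using hcon d hd)
    exact h2 r hr hle
  rw [hJ] at hd
  refine ⟨d, Ideal.mul_le_left (J := ∏ q ∈ S.filter (fun q => x ∉ q), q) hd, fun q hq hxd => ?_⟩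
  by_cases hxq : x ∈ q
  · exact hd' q (Finset.mem_filter.2 ⟨hq, hxq⟩) (by simpa using q.sub_mem hxd hxq)
  · have : d ∈ q := Ideal.le_of_dvd (Finset.dvd_prod_of_mem (fun r : Ideal A => r) (Finset.mem_filter.2 ⟨hq, hxq⟩)) (Ideal.mul_le_right (I := n) hd)
    exact hxq (by simpa using q.sub_mem hxd this)


/-- Let A be a Noetherian local ring, p a prime ideal and x an element of A. Then there is an element x'
of A whose image in A_p equals that of x and which belongs to no minimal prime ideal of A not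
contained in p. -/
theorem result (A : Type u) [CommRing A] [IsNoetherianRing A] [IsLocalRing A]
    (p : Ideal A) [p.IsPrime] (x : A) :
    ∃ x' : A, algebraMap A (Localization.AtPrime p) x' = algebraMap A (Localization.AtPrime p) x ∧
      ∀ q ∈ minimalPrimes A, ¬ q ≤ p → x' ∉ q := by
  classical
  have hfin := minimalPrimes.finite_of_isNoetherianRing A
  let S := hfin.toFinset.filter fun q => ¬ q ≤ p
  -- kernel of the localisation
  let n := RingHom.ker (algebraMap A (Localization.AtPrime p))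
  have hn : ∀ q ∈ S, ¬ n ≤ q := by
    intro q hq hle
    obtain ⟨hqm, hqp⟩ := Finset.mem_filter.1 hq
    have hqm' := hfin.mem_toFinset.1 hqm
    obtain ⟨s, hsq, hsp⟩ := SetLike.not_le_iff_exists.1 hqp
    obtain ⟨y, hy, hyq, hsy⟩ : ∃ y : A, True ∧ y ∉ q ∧ IsNilpotent (s * y) := by
      have h1 : ∀ Q ∈ hfin.toFinset.erase q, ∃ y ∈ Q, y ∉ q := fun Q hQ => by
        obtain ⟨hne, hQm⟩ := Finset.mem_erase.1 hQ
        exact SetLike.not_le_iff_exists.1 fun hle => hne (le_antisymm hle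
          (hqm'.2 ⟨(hfin.mem_toFinset.1 hQm).1.1, bot_le⟩ hle))
      choose y hy hyq using h1
      refine ⟨∏ Q ∈ (hfin.toFinset.erase q).attach, y Q.1 Q.2, trivial, fun hmem => ?_, ?_⟩
      · obtain ⟨Q, -, hQ⟩ := (hqm'.1.1.prod_mem_iff).1 hmem
        exact hyq Q.1 Q.2 hQ
      · rw [nilpotent_iff_mem_prime]
        intro J hJ
        obtain ⟨Q, hQ, hQJ⟩ := Ideal.exists_minimalPrimes_le (I := (⊥ : Ideal A)) (J := J) bot_le
        rcases eq_or_ne Q q with rfl | hne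
        · exact J.mul_mem_right _ (hQJ hsq)
        · exact J.mul_mem_left _ (J.mem_of_dvd (Finset.dvd_prod_of_mem (fun Q => y Q.1 Q.2)
            (Finset.mem_attach _ ⟨Q, Finset.mem_erase.2 ⟨hne, hfin.mem_toFinset.2 hQ⟩⟩)) (hQJ (hy _ _)))
    obtain ⟨N, hN⟩ := hsy
    have h2 : y ^ N ∈ n := RingHom.mem_ker.2 ((IsLocalization.map_eq_zero_iff p.primeCompl _ _).2
      ⟨⟨s ^ N, fun h => hsp ((inferInstance : p.IsPrime).mem_of_pow_mem N h)⟩, by rw [← mul_pow]; exact hN⟩)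
    exact hyq (hqm'.1.1.mem_of_pow_mem N (hle h2))
  obtain ⟨d, hd, hx⟩ := exists_add_notMem x n S (fun q hq => (hfin.mem_toFinset.1 (Finset.mem_filter.1 hq).1).1.1) hn
    (fun a ha b hb hne hle => hne (le_antisymm hle ((hfin.mem_toFinset.1 (Finset.mem_filter.1 hb).1).2
      ⟨(hfin.mem_toFinset.1 (Finset.mem_filter.1 ha).1).1.1, bot_le⟩ hle)))
  refine ⟨x + d, by rw [map_add, RingHom.mem_ker.1 hd, add_zero], fun q hq hqp => hx q ?_⟩
  exact Finset.mem_filter.2 ⟨hfin.mem_toFinset.2 hq, hqp⟩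

end Groth.Agent.S5073
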