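import Groth.Statements.S5074
import Groth.Agent.CKaehlerLib.Points
-- import your own Groth.Agent.* helpers here

set_option autoImplicit false
universe u
open EGA418

namespace Groth.Agent.S5074

/-- Let k be a field of characteristic exponent p such that k is finite over k^p (the Frobenius
endomorphism of k is a finite ring map), A a complete Noetherian local k-algebra whose residue field
is a finite extension of k, and P a prime ideal of A such that A_P is geometrically regular over k.
Then for every minimal prime q of A contained in P (there is exactly one), the A_P-module obtained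
by localising at P the completion of the module of differentials of A over k is free of rank equal
to dim(A/q). -/
theorem result (p : ℕ) (k A : Type u) [Field k] [ExpChar k p]
    (hk : (frobenius k p).Finite) [CommRing A] [IsLocalRing A] [IsNoetherianRing A] [Algebra k A]
    [IsAdicComplete (IsLocalRing.maximalIdeal A) A] [Module.Finite k (IsLocalRing.ResidueField A)]
    (P : Ideal A) [P.IsPrime] (hP : CAlg.IsGeometricallyRegular k (Localization.AtPrime P))
    (q : Ideal A) (hq : q ∈ minimalPrimes A) (hqP : q ≤ P) (n : ℕ) (hn : ringKrullDim (A ⧸ q) = n) :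
    Module.Free (Localization.AtPrime P) (LocalizedModule P.primeCompl (AdicCompletion (IsLocalRing.maximalIdeal A) (KaehlerDifferential k A))) ∧
      Module.finrank (Localization.AtPrime P) (LocalizedModule P.primeCompl (AdicCompletion (IsLocalRing.maximalIdeal A) (KaehlerDifferential k A))) = n := by
  classical
  have hk' : p = 1 ∨ Module.Finite (frobenius k p).fieldRange k := Or.inr
    (RingHom.finite_algebraMap.1 (RingHom.Finite.of_comp_finite (f := (frobenius k p).rangeRestrictField)
      (g := (frobenius k p).fieldRange.subtype) hk))
  obtain ⟨R, _, _, _, _, _, π, s, Y, D, hπ, hcov, hRfin⟩ := CKaehlerLib.exists_cover k A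
  letI : Algebra R A := π.toRingHom.toAlgebra
  haveI : IsScalarTower k R A := IsScalarTower.of_algebraMap_eq fun c => (π.commutes c).symm
  haveI := hRfin
  have hsurj : Function.Surjective (algebraMap R A) := hπ
  have hker : RingHom.ker (algebraMap R A) ≤ P.comap (algebraMap R A) := fun x hx => by
    rw [Ideal.mem_comap, RingHom.mem_ker.1 hx]; exact zero_mem _
  haveI : (P.comap (algebraMap R A)).IsPrime := Ideal.comap_isPrime _ P
  haveI : ((P.comap (algebraMap R A)).map (Ideal.Quotient.mk (RingHom.ker (algebraMap R A)))).IsPrime :=
    Ideal.map_isPrime_of_surjective Ideal.Quotient.mk_surjective (by rwa [Ideal.mk_ker])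
  haveI : IsNoetherianRing (Localization.AtPrime P) := IsLocalization.isNoetherianRing P.primeCompl _ inferInstance
  obtain ⟨E⟩ := CKaehlerLib.exists_algEquiv_localization (k := k) hsurj P
  have hB := CKaehlerLib.adicFS_of_algEquiv E.symm (AdicFSLib.isGeometricallyRegular_iff_adicFS.1 hP)
  obtain ⟨m, D', f, hf, hgen, hdet'⟩ := (NagataLib.adicFS_iff_jacobian p hk' hcov.1 _ _ hker).1 hB
  let ι := algebraMap R (P.comap (algebraMap R A)).ResidueField
  obtain ⟨σ, hσ⟩ := NagataLib.exists_minor (fun l j => ι (D l (f j))) fun c hc => funext fun j => by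
    have h : Matrix.det ((Matrix.of fun i j => D' i (f j)).map ι) ≠ 0 := fun h => hdet' <|
      Ideal.algebraMap_residueField_eq_zero.1 ((RingHom.map_det ι _).trans h)
    refine congrFun (Matrix.eq_zero_of_mulVec_eq_zero h (funext fun i => ?_)) j
    show ∑ j, ι (D' i (f j)) * c j = 0
    rw [Finset.sum_congr rfl fun j _ => congrArg (fun z => ι z * c j) (CKaehlerLib.derivation_eq_sum hcov (D' i) (f j))]
    simp only [smul_eq_mul, map_sum, map_mul, Finset.sum_mul]
    rw [Finset.sum_comm]
    refine Finset.sum_eq_zero fun l _ => ?_
    rw [← mul_zero (ι (D' i (Y l))), ← hc l, Finset.mul_sum]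
    exact Finset.sum_congr rfl fun j _ => by ring
  have hdet : Matrix.det (Matrix.of fun i j => D (σ i) (f j)) ∉ P.comap (algebraMap R A) := fun h => hσ <| by
    have h' := Ideal.algebraMap_residueField_eq_zero.2 h
    rw [RingHom.map_det] at h'
    exact h'
  have hmn := (CKaehlerLib.height_data hcov hsurj P q hq hqP hn σ f hf hdet).2 hgen
  obtain ⟨hfree, hrank⟩ := CKaehlerLib.free_of_jacobian hcov hsurj P σ f hf hgen hdet
  exact ⟨hfree, by omega⟩

end Groth.Agent.S5074
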