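import Groth.Statements.S5076
import Mathlib
-- import your own Groth.Agent.* helpers here

set_option autoImplicit false
universe u
open Unram

namespace Groth.Agent.S5076

/-- Let A be a local ring with maximal ideal m, C a finite A-algebra, r a maximal ideal of C, and u an
element of C which lies in every maximal ideal of C other than r, does not lie in r, and whose image
generates C_r modulo m C_r as an A-algebra. Let B = A[u] be the A-subalgebra of C generated by u and
n the inverse image of r in B. Then the canonical homomorphism B_n → C_r is bijective. -/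
theorem result (A C : Type u) [CommRing A] [IsLocalRing A]
    [CommRing C] [Algebra A C] [Module.Finite A C] (r : Ideal C) [r.IsMaximal] (u : C)
    (hu₁ : ∀ r' : Ideal C, r'.IsMaximal → r' ≠ r → u ∈ r') (hu₂ : u ∉ r)
    (hu₃ : Subalgebra.toSubmodule (Algebra.adjoin A {algebraMap C (Localization.AtPrime r) u}) ⊔
        Submodule.restrictScalars A (Ideal.map (algebraMap A (Localization.AtPrime r)) (IsLocalRing.maximalIdeal A)) = ⊤) :
    Function.Bijective (Localization.localRingHom (Ideal.comap (Algebra.adjoin A ({u} : Set C)).val.toRingHom r) r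
      (Algebra.adjoin A ({u} : Set C)).val.toRingHom rfl) := by
  classical
  set B : Subalgebra A C := Algebra.adjoin A ({u} : Set C) with hB
  let n : Ideal B := r.comap B.val.toRingHom
  haveI : r.LiesOver n := ⟨rfl⟩
  haveI : Module.Finite B C := Module.Finite.of_restrictScalars_finite A _ _
  haveI : n.IsMaximal := Ideal.isMaximal_comap_of_isIntegral_of_isMaximal (R := B) r
  have huB : u ∈ B := Algebra.self_mem_adjoin_singleton A u
  have hq : n.primesOver C = {r} := by
    refine Set.ext fun Q => ⟨fun ⟨hQp, hQl⟩ => ?_, fun e => ?_⟩
    · haveI := hQp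
      haveI := hQl
      haveI hQm : Q.IsMaximal := Ideal.IsMaximal.of_liesOver_isMaximal Q n
      by_contra hne
      have h1 : (⟨u, huB⟩ : B) ∈ n := by
        rw [hQl.over]
        exact hu₁ Q hQm hne
      exact hu₂ h1
    · rw [Set.mem_singleton_iff] at e
      subst e
      exact ⟨inferInstance, inferInstance⟩
  letI := Localization.AtPrime.algebraOfLiesOver n r
  haveI : Module.Finite (Localization.AtPrime n) (Localization.AtPrime r) :=
    Localization.finite_of_primesOver_eq_singleton hq
  refine ⟨Localization.localRingHom_injective_of_primesOver_eq_singleton hq, ?_⟩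
  show Function.Surjective (algebraMap (Localization.AtPrime n) (Localization.AtPrime r))
  let L := Localization.AtPrime r
  let f : Localization.AtPrime n →+* L := algebraMap _ _
  have hBC : ∀ b : B, f (algebraMap B _ b) = algebraMap C L b := fun b =>
    Localization.localRingHom_to_map n r (algebraMap B C) (Ideal.LiesOver.over) b
  have hAC : ∀ a : A, f (algebraMap A _ a) = algebraMap A L a := fun a => by
    rw [IsScalarTower.algebraMap_apply A B (Localization.AtPrime n), hBC, IsScalarTower.algebraMap_apply A C L]
    rfl
  have hm : ∀ a ∈ IsLocalRing.maximalIdeal A, algebraMap A (Localization.AtPrime n) a ∈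
      IsLocalRing.maximalIdeal (Localization.AtPrime n) := fun a ha => by
    rw [IsScalarTower.algebraMap_apply A B (Localization.AtPrime n), IsLocalization.AtPrime.to_map_mem_maximal_iff _ n]
    haveI : n.IsMaximal := inferInstance
    haveI : Module.Finite A B := Algebra.finite_adjoin_simple_of_isIntegral (Algebra.IsIntegral.isIntegral u)
    rw [← Ideal.mem_comap, IsLocalRing.eq_maximalIdeal (Ideal.isMaximal_comap_of_isIntegral_of_isMaximal (R := A) n)]
    exact ha
  suffices h : LinearMap.range (Algebra.linearMap (Localization.AtPrime n) L) = ⊤ from LinearMap.range_eq_top.mp h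
  rw [← top_le_iff]
  apply Submodule.le_of_le_smul_of_le_jacobson_bot Module.Finite.fg_top (IsLocalRing.maximalIdeal_le_jacobson _)
  rintro x -
  have hx := hu₃.ge (Submodule.mem_top (x := x))
  obtain ⟨y, hy, z, hz, rfl⟩ := Submodule.mem_sup.mp hx
  refine add_mem (Submodule.mem_sup_left ?_) (Submodule.mem_sup_right ?_)
  · obtain ⟨p, rfl⟩ := (Algebra.adjoin_singleton_eq_range_aeval A _).le hy
    refine ⟨algebraMap B _ (Polynomial.aeval (⟨u, huB⟩ : B) p), ?_⟩
    show f _ = _
    rw [hBC, Polynomial.aeval_subalgebra_coe]
    exact (Polynomial.aeval_algebraMap_apply L u p).symm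
  · rw [Ideal.smul_top_eq_map]
    refine (Ideal.map_le_iff_le_comap.mpr ?_) hz
    intro a ha
    rw [Ideal.mem_comap]
    rw [← hAC]
    exact Ideal.mem_map_of_mem _ (hm a ha)

end Groth.Agent.S5076
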