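import Groth.Statements.S5078
import Mathlib

set_option autoImplicit false
universe u v
open Hensel

namespace Groth.Agent.S5078

/-- Let A be a ring, I an ideal such that A is I-adically separated and complete, and M a finitely
generated projective A-module. Then M is I-adically separated and complete. -/
theorem result {A : Type u} [CommRing A] (I : Ideal A) [IsAdicComplete I A]
    (M : Type v) [AddCommGroup M] [Module A M] [Module.Finite A M] [Module.Projective A M] :
    IsAdicComplete I M := by
  obtain ⟨n, r, i, -, -, hri⟩ := Module.Finite.exists_comp_eq_id_of_projective A M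
  rw [← AdicCompletion.of_bijective_iff]
  have hR : Function.Bijective (AdicCompletion.of I A) := AdicCompletion.of_bijective_iff.mpr ‹_›
  have hF : Function.Bijective (AdicCompletion.of I (Fin n → A)) := by
    have hcomp : ∀ x, AdicCompletion.piEquivOfFintype I (fun _ : Fin n => A) (AdicCompletion.of I (Fin n → A) x) =
        fun j => AdicCompletion.of I A (x j) := fun x => by
      rw [AdicCompletion.piEquivOfFintype_apply]
      funext j
      rfl
    refine ⟨fun x y h => funext fun j => hR.1 ?_, fun z => ?_⟩
    · have := congrFun (congrArg (AdicCompletion.piEquivOfFintype I (fun _ : Fin n => A)) h) j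
      rwa [hcomp, hcomp] at this
    · choose x hx using fun j => hR.2 (AdicCompletion.piEquivOfFintype I (fun _ : Fin n => A) z j)
      refine ⟨x, (AdicCompletion.piEquivOfFintype I (fun _ : Fin n => A)).injective ?_⟩
      rw [hcomp]
      exact funext hx
  have hid : ∀ m, r (i m) = m := fun m => LinearMap.congr_fun hri m
  refine ⟨fun x y h => ?_, fun z => ?_⟩
  · have h1 : AdicCompletion.of I (Fin n → A) (i x) = AdicCompletion.of I (Fin n → A) (i y) := by
      rw [← AdicCompletion.map_of, ← AdicCompletion.map_of, h]
    rw [← hid x, ← hid y, hF.1 h1]
  · obtain ⟨v, hv⟩ := hF.2 (AdicCompletion.map I i z)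
    refine ⟨r v, ?_⟩
    rw [← AdicCompletion.map_of, hv, AdicCompletion.map_comp_apply, hri, AdicCompletion.map_id]
    rfl

end Groth.Agent.S5078
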