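import Groth.Statements.S5079
import Groth.Agent.MoriLib.Main
import Groth.Agent.NorLocLib.Normalization
import Mathlib

set_option autoImplicit false
open CategoryTheory AlgebraicGeometry Opposite
universe u
open Unram

namespace Groth.Agent.S5079
/-- The map to the fraction field of a branch. -/
theorem exists_branch {A : Type u} [CommRing A] [IsNoetherianRing A] [IsReduced A] (p : Ideal A) (hp : p ∈ minimalPrimes A) :
    haveI : p.IsPrime := hp.1.1
    ∃ Φ : FractionRing A →ₐ[A] FractionRing (A ⧸ p), Function.Surjective Φ := by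
  haveI : p.IsPrime := hp.1.1
  have hreg : ∀ y : nonZeroDivisors A, IsUnit (algebraMap A (FractionRing (A ⧸ p)) (y : A)) := fun y => by
    refine isUnit_iff_ne_zero.2 fun h => ?_
    rw [IsScalarTower.algebraMap_apply A (A ⧸ p) (FractionRing (A ⧸ p)),
      map_eq_zero_iff _ (IsFractionRing.injective (A ⧸ p) (FractionRing (A ⧸ p))), Ideal.Quotient.algebraMap_eq,
      Ideal.Quotient.eq_zero_iff_mem] at h
    exact Set.disjoint_left.1 (Ideal.disjoint_nonZeroDivisors_of_mem_minimalPrimes hp) h y.2
  let Φ : FractionRing A →ₐ[A] FractionRing (A ⧸ p) :=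
    IsLocalization.liftAlgHom (M := nonZeroDivisors A) (f := Algebra.ofId A (FractionRing (A ⧸ p))) hreg
  refine ⟨Φ, fun z => ?_⟩
  haveI := NorLocLib.isArtinianRing_fractionRing A
  haveI : (RingHom.ker Φ.toRingHom).IsMaximal := by
    haveI := RingHom.ker_isPrime Φ.toRingHom
    exact IsArtinianRing.isMaximal_of_isPrime _
  obtain ⟨a, b, hb, rfl⟩ := IsFractionRing.div_surjective (A := A ⧸ p) z
  obtain ⟨a, rfl⟩ := Ideal.Quotient.mk_surjective a
  obtain ⟨b, rfl⟩ := Ideal.Quotient.mk_surjective b
  have hbne : algebraMap A (FractionRing A) b ∉ RingHom.ker Φ.toRingHom := by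
    rw [RingHom.mem_ker, AlgHom.toRingHom_eq_coe, RingHom.coe_coe, Φ.commutes,
      IsScalarTower.algebraMap_apply A (A ⧸ p) (FractionRing (A ⧸ p))]
    exact IsFractionRing.to_map_ne_zero_of_mem_nonZeroDivisors hb
  obtain ⟨w, i, hi, hwi⟩ := Ideal.IsMaximal.exists_inv ‹_› hbne
  have h1 : Φ w * algebraMap A (FractionRing (A ⧸ p)) b = 1 := by
    have h2 := congrArg Φ hwi
    rwa [map_add, map_mul, Φ.commutes, RingHom.mem_ker.1 hi |> (fun h => show Φ i = 0 from h), add_zero, map_one] at h2
  refine ⟨algebraMap A (FractionRing A) a * w, ?_⟩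
  rw [map_mul, Φ.commutes, IsScalarTower.algebraMap_apply A (A ⧸ p) (FractionRing (A ⧸ p)) a, Ideal.Quotient.algebraMap_eq, eq_div_iff (IsFractionRing.to_map_ne_zero_of_mem_nonZeroDivisors hb), mul_assoc, ← Ideal.Quotient.algebraMap_eq,
    ← IsScalarTower.algebraMap_apply A (A ⧸ p) (FractionRing (A ⧸ p)) b, h1, mul_one]

open IsLocalRing in
/-- An element of the total ring of fractions carried into `A` by a power of each element of the maximal ideal is integral. -/
theorem isIntegral_of_pow_mul_mem {A : Type u} [CommRing A] [IsNoetherianRing A] [IsLocalRing A] [IsReduced A]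
    (hdim : ∀ (m' : Ideal ↥(integralClosure A (FractionRing A))) [m'.IsMaximal],
      m'.comap (algebraMap A ↥(integralClosure A (FractionRing A))) = maximalIdeal A →
        2 ≤ ringKrullDim (Localization.AtPrime m'))
    (x : FractionRing A) (hx : ∀ f ∈ maximalIdeal A, ∃ (n : ℕ) (c : A), algebraMap A (FractionRing A) f ^ n * x = algebraMap A _ c) :
    IsIntegral A x := by
  classical
  let Br := {p : Ideal A // p ∈ minimalPrimes A}
  haveI : Fintype Br := (minimalPrimes.finite_of_isNoetherianRing A).fintype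
  haveI : ∀ i : Br, i.1.IsPrime := fun i => i.2.1.1
  choose Φ hΦ using fun i : Br => exists_branch i.1 i.2
  -- the branches jointly detect zero
  have hjoint : ∀ z : FractionRing A, (∀ i, Φ i z = 0) → z = 0 := fun z hz => by
    obtain ⟨⟨a, b⟩, hab⟩ := IsLocalization.surj (nonZeroDivisors A) z
    have ha : a ∈ sInf (minimalPrimes A) := (Ideal.mem_sInf).2 fun {q} hq => by
      haveI : q.IsPrime := hq.1.1
      have h1 := congrArg (Φ ⟨q, hq⟩) hab
      rw [map_mul, hz, zero_mul, AlgHom.commutes, IsScalarTower.algebraMap_apply A (A ⧸ q) (FractionRing (A ⧸ q))] at h1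
      exact Ideal.Quotient.eq_zero_iff_mem.1 ((map_eq_zero_iff _ (IsFractionRing.injective (A ⧸ q) (FractionRing (A ⧸ q)))).1 h1.symm)
    rw [show sInf (minimalPrimes A) = nilradical A from Ideal.sInf_minimalPrimes, nilradical_eq_zero A] at ha
    rw [show a = 0 from ha, map_zero] at hab
    exact (IsLocalization.map_units (FractionRing A) b).mul_left_eq_zero.1 hab
  have hint : ∀ z : FractionRing A, (∀ i, IsIntegral (A ⧸ i.1) (Φ i z)) → IsIntegral A z := fun z hz => by
    have hz' : ∀ i, IsIntegral A (Φ i z) := fun i => isIntegral_trans _ (hz i)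
    choose P hPm hP using hz'
    refine ⟨∏ i, P i, Polynomial.monic_prod_of_monic _ _ fun i _ => hPm i, ?_⟩
    rw [← Polynomial.aeval_def]
    refine hjoint _ fun i => ?_
    rw [← Polynomial.aeval_algHom_apply, map_prod]
    exact Finset.prod_eq_zero (Finset.mem_univ i) (by rw [Polynomial.aeval_def]; exact hP i)
  refine hint x fun i => ?_
  let D := A ⧸ i.1
  haveI : IsLocalRing D := IsLocalRing.of_surjective' (Ideal.Quotient.mk i.1) Ideal.Quotient.mk_surjective
  let KD := FractionRing D
  let B := integralClosure D KD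
  let π : integralClosure A (FractionRing A) →+* B :=
    RingHom.codRestrict (((Φ i).comp (integralClosure A (FractionRing A)).val).toRingHom) B fun w =>
      IsIntegral.tower_top (A := D) (IsIntegral.map (Φ i) w.2)
  -- an idempotent of the branch
  obtain ⟨e, he, he0⟩ : ∃ e : FractionRing A, Φ i e = 1 ∧ ∀ j, j ≠ i → Φ j e = 0 := by
    have hns : ¬ (Finset.univ.erase i).inf (fun j : Br => j.1) ≤ i.1 := fun h => by
      obtain ⟨j, hj, hle⟩ := (Ideal.IsPrime.inf_le' (i.2.1.1)).1 h
      exact (Finset.mem_erase.1 hj).1 (Subtype.ext (le_antisymm hle (i.2.2 j.2.1 hle)))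
    obtain ⟨c, hc, hci⟩ := SetLike.not_le_iff_exists.1 hns
    obtain ⟨q, hq⟩ := hΦ i (algebraMap A KD c)⁻¹
    have hc0 : algebraMap A KD c ≠ 0 := fun h => hci (by
      rw [IsScalarTower.algebraMap_apply A D KD, map_eq_zero_iff _ (IsFractionRing.injective D KD)] at h
      exact Ideal.Quotient.eq_zero_iff_mem.1 h)
    refine ⟨algebraMap A _ c * q, by rw [map_mul, AlgHom.commutes, hq, mul_inv_cancel₀ hc0], fun j hj => ?_⟩
    have hcj : c ∈ j.1 := Finset.inf_le (f := fun j : Br => j.1) (Finset.mem_erase.2 ⟨hj, Finset.mem_univ j⟩) hc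
    rw [map_mul, AlgHom.commutes, IsScalarTower.algebraMap_apply A (A ⧸ j.1) (FractionRing (A ⧸ j.1)), Ideal.Quotient.algebraMap_eq,
      Ideal.Quotient.eq_zero_iff_mem.2 hcj, map_zero, zero_mul]
  have heint : IsIntegral A e := hint e fun j => by
    by_cases h : j = i
    · subst h; rw [he]; exact isIntegral_one
    · rw [he0 j h]; exact isIntegral_zero
  have hπ : Function.Surjective π := fun z => by
    obtain ⟨w, hw⟩ := hΦ i z
    have hwint : IsIntegral A (e * w) := hint _ fun j => by
      by_cases h : j = i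
      · subst h; rw [map_mul, he, one_mul, hw]; exact z.2
      · rw [map_mul, he0 j h, zero_mul]; exact isIntegral_zero
    exact ⟨⟨e * w, hwint⟩, Subtype.ext (show Φ i (e * w) = z by rw [map_mul, he, one_mul, hw])⟩
  let e' : integralClosure A (FractionRing A) := ⟨e, heint⟩
  have he' : π e' = 1 := Subtype.ext he
  refine (MoriLib.isFamily D).mem_of_forall_isH1 (Φ i x) fun O hO hH => ?_
  let P : Ideal B := MoriLib.center B.toSubring O ((MoriLib.isFamily D).mem hO)
  haveI : P.IsPrime := hH.1
  have hPm : ¬ maximalIdeal A ≤ P.comap (algebraMap A B) := fun hle => by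
    let m' := P.comap π
    haveI : m'.IsPrime := Ideal.comap_isPrime π P
    have hcomap : m'.comap (algebraMap A (integralClosure A (FractionRing A))) = maximalIdeal A := by
      refine ((maximalIdeal.isMaximal A).eq_of_le (Ideal.IsPrime.ne_top inferInstance) fun a ha => ?_).symm
      show π (algebraMap A _ a) ∈ P
      rw [show π (algebraMap A _ a) = algebraMap A B a from Subtype.ext ((Φ i).commutes a)]
      exact hle ha
    haveI : (m'.comap (algebraMap A (integralClosure A (FractionRing A)))).IsMaximal := by rw [hcomap]; infer_instance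
    haveI : m'.IsMaximal := Ideal.isMaximal_of_isIntegral_of_isMaximal_comap m' ‹_›
    have h2 := hdim m' hcomap
    rw [IsLocalization.AtPrime.ringKrullDim_eq_height m' (Localization.AtPrime m')] at h2
    have hker : ∀ Q : Ideal (integralClosure A (FractionRing A)), Q.IsPrime → Q ≤ m' → RingHom.ker π ≤ Q := fun Q hQ hQm k hk => by
      refine (hQ.mem_or_mem (x := k) (y := e') ?_).resolve_right fun h => hH.1.ne_top ((Ideal.eq_top_iff_one _).2 (he' ▸ hQm h))
      have h0 : k * e' = 0 := Subtype.ext (hjoint _ fun j => by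
        show Φ j (k.1 * e) = 0
        by_cases h : j = i
        · subst h; rw [map_mul, show Φ j k.1 = 0 from congrArg Subtype.val (RingHom.mem_ker.1 hk), zero_mul]
        · rw [map_mul, he0 j h, mul_zero])
      rw [h0]
      exact Q.zero_mem
    have h1 : m'.height ≤ ((1 : ℕ) : ℕ∞) := Ideal.height_le_iff.2 fun Q hQ hlt => by
      rw [Nat.cast_one, Order.lt_one_iff, Ideal.height_eq_zero_iff]
      refine ⟨⟨hQ, bot_le⟩, fun Q' hQ' hle' => ?_⟩
      have hk : Q = RingHom.ker π := by
        have hkQ := hker Q hQ hlt.le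
        have hQeq : Q = (Q.map π).comap π := by
          rw [Ideal.comap_map_of_surjective π hπ, ← RingHom.ker_eq_comap_bot, sup_eq_left.2 hkQ]
        haveI : (Q.map π).IsPrime := Ideal.map_isPrime_of_surjective hπ hkQ
        have hlt' : Q.map π < P := by
          refine lt_of_le_not_ge (Ideal.map_le_iff_le_comap.2 hlt.le) fun hge => hlt.not_ge ?_
          rw [hQeq]
          exact Ideal.comap_mono hge
        rw [hQeq, hH.2.2 _ inferInstance hlt', RingHom.ker_eq_comap_bot]
      rw [hk]
      exact hker Q' hQ'.1 (hle'.trans hlt.le)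
    have h3 : ((2 : ℕ∞) : WithBot ℕ∞) ≤ ((1 : ℕ∞) : WithBot ℕ∞) := le_trans h2 (WithBot.coe_le_coe.2 h1)
    exact absurd (WithBot.coe_le_coe.1 h3) (by norm_num)
  obtain ⟨f, hf, hfP⟩ := SetLike.not_le_iff_exists.1 hPm
  obtain ⟨n, c, hc⟩ := hx f hf
  have h1 := congrArg (Φ i) hc
  rw [map_mul, map_pow, AlgHom.commutes, AlgHom.commutes] at h1
  have hf0 : O.valuation (algebraMap A KD f) = 1 := le_antisymm
    ((O.valuation_le_one_iff _).2 ((MoriLib.isFamily D).mem hO (algebraMap A B f)))
    (not_lt.1 fun h => hfP h)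
  rw [← ValuationSubring.valuation_le_one_iff]
  have h2 := congrArg O.valuation h1
  rw [map_mul, map_pow, hf0, one_pow, one_mul] at h2
  rw [h2]
  exact (O.valuation_le_one_iff _).2 ((MoriLib.isFamily D).mem hO (algebraMap A B c))

open AlgebraicGeometry CategoryTheory Opposite in
/-- Constants on an open of the spectrum. -/
noncomputable def rho (A : Type u) [CommRing A] (V : (Spec (CommRingCat.of A)).Opens) : A →+* (Spec (CommRingCat.of A)).presheaf.obj (op V) :=
  ((Spec (CommRingCat.of A)).presheaf.map (homOfLE (le_top : V ≤ ⊤)).op).hom.comp (Scheme.ΓSpecIso (CommRingCat.of A)).inv.hom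

open AlgebraicGeometry CategoryTheory Opposite in
theorem res_rho (A : Type u) [CommRing A] {V W : (Spec (CommRingCat.of A)).Opens} (h : W ≤ V) (a : A) :
    (Spec (CommRingCat.of A)).presheaf.map (homOfLE h).op (rho A V a) = rho A W a := by
  show ((Spec (CommRingCat.of A)).presheaf.map (homOfLE (le_top : V ≤ ⊤)).op ≫ (Spec (CommRingCat.of A)).presheaf.map (homOfLE h).op) _ = _
  rw [← Functor.map_comp]
  rfl

open AlgebraicGeometry CategoryTheory Opposite in
theorem isLocalization_rho (A : Type u) [CommRing A] (f : A) :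
    @IsLocalization A _ (Submonoid.powers f) ((Spec (CommRingCat.of A)).presheaf.obj (op (PrimeSpectrum.basicOpen f))) _
      (rho A (PrimeSpectrum.basicOpen f)).toAlgebra := by
  letI I1 : Algebra A ((Spec (CommRingCat.of A)).presheaf.obj (op (PrimeSpectrum.basicOpen f))) := StructureSheaf.openAlgebra A (op (PrimeSpectrum.basicOpen f))
  have h : algebraMap A ((Spec (CommRingCat.of A)).presheaf.obj (op (PrimeSpectrum.basicOpen f))) = rho A (PrimeSpectrum.basicOpen f) := by
    ext a
    rfl
  have h2 : I1 = (rho A (PrimeSpectrum.basicOpen f)).toAlgebra := Algebra.algebra_ext _ _ fun a => RingHom.congr_fun h a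
  rw [← h2]
  exact @StructureSheaf.IsLocalization.to_basicOpen A _ f

/-- Let A be a reduced Noetherian local ring, A' the integral closure of A in its total ring of
fractions and U the punctured spectrum of A. Assume that for every maximal ideal m' of A' lying over
the maximal ideal of A the local ring A'_{m'} has dimension at least 2. Then, writing ρ for the
restriction map A = Γ(Spec A, O) → Γ(U, O), the ring Γ(U, O) is integral over A via ρ and there is
an injective ring homomorphism Γ(U, O) → A' compatible with ρ and the inclusion of A in A'. -/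
theorem result (A : Type u) [CommRing A] [IsNoetherianRing A]
    [IsLocalRing A] [IsReduced A]
    (hdim : ∀ (m' : Ideal ↥(integralClosure A (FractionRing A))) [m'.IsMaximal],
      m'.comap (algebraMap A ↥(integralClosure A (FractionRing A))) = IsLocalRing.maximalIdeal A →
        2 ≤ ringKrullDim (Localization.AtPrime m')) :
    (((Spec (CommRingCat.of A)).presheaf.map (homOfLE (le_top : FEt.puncturedSpec A ≤ ⊤)).op).hom.comp
        (Scheme.ΓSpecIso (CommRingCat.of A)).inv.hom).IsIntegral ∧
      ∃ φ : ↑((Spec (CommRingCat.of A)).presheaf.obj (op (FEt.puncturedSpec A))) →+* ↥(integralClosure A (FractionRing A)),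
        Function.Injective φ ∧
          φ.comp (((Spec (CommRingCat.of A)).presheaf.map (homOfLE (le_top : FEt.puncturedSpec A ≤ ⊤)).op).hom.comp
            (Scheme.ΓSpecIso (CommRingCat.of A)).inv.hom) = algebraMap A ↥(integralClosure A (FractionRing A)) := by
  classical
  let m := IsLocalRing.maximalIdeal A
  obtain ⟨a, ham, hareg⟩ : ∃ a ∈ m, a ∈ nonZeroDivisors A := by
    by_contra hcon
    push Not at hcon
    have hsub : (m : Set A) ⊆ ⋃ p ∈ ((minimalPrimes.finite_of_isNoetherianRing A).toFinset : Set (Ideal A)), (p : Set A) := fun b hb => by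
      by_contra hb'
      simp only [Set.mem_iUnion, Set.Finite.coe_toFinset, not_exists] at hb'
      refine hcon b hb (mem_nonZeroDivisors_iff_right.2 fun z hz => ?_)
      have hz' : z ∈ sInf (minimalPrimes A) := Ideal.mem_sInf.2 fun {q} hq => by
        refine (hq.1.1.mem_or_mem (show z * b ∈ q by rw [hz]; exact q.zero_mem)).resolve_right (hb' q hq)
      rw [show sInf (minimalPrimes A) = nilradical A from Ideal.sInf_minimalPrimes, nilradical_eq_zero A] at hz'
      exact hz'
    obtain ⟨p, hp, hle⟩ := (Ideal.subset_union_prime (f := fun p : Ideal A => p) ⊥ ⊥ fun p hp _ _ => ((Set.Finite.mem_toFinset _).1 hp).1.1).1 hsub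
    have hmin : m ∈ minimalPrimes A := by
      have hp' := (Set.Finite.mem_toFinset _).1 hp
      rwa [← (IsLocalRing.maximalIdeal.isMaximal A).eq_of_le hp'.1.1.ne_top hle] at hp'
    obtain ⟨m', hm', hc⟩ : ∃ m' : Ideal (integralClosure A (FractionRing A)), m'.IsMaximal ∧
        m'.comap (algebraMap A (integralClosure A (FractionRing A))) = m := by
      obtain ⟨m', hm1, hm2⟩ := Ideal.exists_ideal_over_maximal_of_isIntegral (S := integralClosure A (FractionRing A)) m
        (by rw [(RingHom.injective_iff_ker_eq_bot _).1 (fun u v h => IsFractionRing.injective A (FractionRing A) (congrArg Subtype.val h))]; exact bot_le)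
      exact ⟨m', hm1, hm2⟩
    have h2 := hdim m' hc
    rw [IsLocalization.AtPrime.ringKrullDim_eq_height m' (Localization.AtPrime m')] at h2
    have h0 : m'.height = 0 := by
      rw [Ideal.height_eq_zero_iff]
      refine ⟨⟨hm'.isPrime, bot_le⟩, fun Q hQ hle => ?_⟩
      haveI := hQ.1
      have hQc : Q.comap (algebraMap A (integralClosure A (FractionRing A))) = m :=
        le_antisymm ((Ideal.comap_mono hle).trans hc.le) (hmin.2 ⟨inferInstance, bot_le⟩ ((Ideal.comap_mono hle).trans hc.le))
      haveI : (Q.comap (algebraMap A (integralClosure A (FractionRing A)))).IsMaximal := by rw [hQc]; infer_instance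
      exact ((Ideal.isMaximal_of_isIntegral_of_isMaximal_comap Q ‹_›).eq_of_le hm'.ne_top hle).ge
    rw [h0] at h2
    exact absurd h2 (by norm_num)
  let X := Spec (CommRingCat.of A)
  let U := FEt.puncturedSpec A
  have hDU : ∀ f ∈ m, (PrimeSpectrum.basicOpen f : X.Opens) ≤ U := fun f hf z (hz : f ∉ z.asIdeal) (hz' : z = IsLocalRing.closedPoint A) => hz (by rw [hz']; exact hf)
  let res : ∀ {V W : X.Opens}, W ≤ V → X.presheaf.obj (op V) →+* X.presheaf.obj (op W) := fun h => (X.presheaf.map (homOfLE h).op).hom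
  have hrr : ∀ {V W W' : X.Opens} (h : W ≤ V) (h' : W' ≤ W) (s : X.presheaf.obj (op V)), res h' (res h s) = res (h'.trans h) s := fun h h' s => by
    show (X.presheaf.map _ ≫ X.presheaf.map _) s = _
    rw [← Functor.map_comp]
    rfl
  let Sa := X.presheaf.obj (op (PrimeSpectrum.basicOpen a))
  letI : Algebra A Sa := (rho A (PrimeSpectrum.basicOpen a)).toAlgebra
  haveI : IsLocalization.Away a Sa := isLocalization_rho A a
  have haunit : ∀ y : Submonoid.powers a, IsUnit (algebraMap A (FractionRing A) (y : A)) := fun y =>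
    IsLocalization.map_units (FractionRing A) ⟨(y : A), (Submonoid.powers_le (P := nonZeroDivisors A)).2 hareg y.2⟩
  let lam : Sa →+* FractionRing A := IsLocalization.lift (M := Submonoid.powers a) (g := algebraMap A (FractionRing A)) haunit
  have hlam : Function.Injective lam := (IsLocalization.lift_injective_iff haunit).2 fun u v => by
    rw [(IsLocalization.injective Sa ((Submonoid.powers_le (P := nonZeroDivisors A)).2 hareg)).eq_iff, (IsFractionRing.injective A (FractionRing A)).eq_iff]
  -- vanishing on `D(a)`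
  have hzero : ∀ (f : A) (z : X.presheaf.obj (op (PrimeSpectrum.basicOpen f))),
      res (PrimeSpectrum.basicOpen_mul_le_left f a) z = 0 → z = 0 := fun f z hz => by
    letI : Algebra A (X.presheaf.obj (op (PrimeSpectrum.basicOpen f))) := (rho A (PrimeSpectrum.basicOpen f)).toAlgebra
    haveI : IsLocalization.Away f (X.presheaf.obj (op (PrimeSpectrum.basicOpen f))) := isLocalization_rho A f
    obtain ⟨⟨w, ⟨_, k, rfl⟩⟩, hw⟩ := IsLocalization.surj (Submonoid.powers f) z
    have h1 : rho A (PrimeSpectrum.basicOpen (f * a)) w = 0 := by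
      rw [← res_rho A (PrimeSpectrum.basicOpen_mul_le_left f a)]
      show res _ (algebraMap A _ w) = 0
      rw [← hw, map_mul, hz, zero_mul]
    letI : Algebra A (X.presheaf.obj (op (PrimeSpectrum.basicOpen (f * a)))) := (rho A (PrimeSpectrum.basicOpen (f * a))).toAlgebra
    haveI : IsLocalization.Away (f * a) (X.presheaf.obj (op (PrimeSpectrum.basicOpen (f * a)))) := isLocalization_rho A (f * a)
    obtain ⟨⟨_, N, rfl⟩, hN⟩ := (IsLocalization.map_eq_zero_iff (Submonoid.powers (f * a)) _ w).1 h1
    have hfw : f ^ N * w = 0 := (nonZeroDivisors A).pow_mem hareg N |> fun h => (mem_nonZeroDivisors_iff.1 h).1 _ (by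
      rw [← hN]; show a ^ N * (f ^ N * w) = (f * a) ^ N * w; ring)
    have hw0 : algebraMap A (X.presheaf.obj (op (PrimeSpectrum.basicOpen f))) w = 0 :=
      (IsLocalization.map_eq_zero_iff (Submonoid.powers f) _ w).2 ⟨⟨f ^ N, N, rfl⟩, hfw⟩
    rw [hw0] at hw
    exact (IsLocalization.map_units _ (⟨f ^ k, k, rfl⟩ : Submonoid.powers f)).mul_left_eq_zero.1 hw
  have hinj : Function.Injective (res (hDU a ham)) := (injective_iff_map_eq_zero _).2 fun s hs => by
    refine X.sheaf.eq_of_locally_eq' (fun f : m => (PrimeSpectrum.basicOpen (f : A) : X.Opens)) U (fun f => homOfLE (hDU f.1 f.2)) ?_ s 0 fun f => ?_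
    · intro z hz
      obtain ⟨f, hf, hfz⟩ : ∃ f ∈ m, f ∉ z.asIdeal := SetLike.not_le_iff_exists.1 fun h => hz (PrimeSpectrum.ext ((IsLocalRing.maximalIdeal.isMaximal A).eq_of_le z.isPrime.ne_top h).symm)
      exact TopologicalSpace.Opens.mem_iSup.2 ⟨⟨f, hf⟩, hfz⟩
    · show res (hDU f.1 f.2) s = res (hDU f.1 f.2) 0
      rw [map_zero]
      refine hzero _ _ ?_
      have h2 := congrArg (res (PrimeSpectrum.basicOpen_mul_le_right f.1 a)) hs
      rw [hrr, map_zero] at h2
      rw [hrr]
      exact h2
  let ψ : X.presheaf.obj (op U) →+* FractionRing A := lam.comp (res (hDU a ham))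
  have hψρ : ∀ b : A, ψ (rho A U b) = algebraMap A (FractionRing A) b := fun b => by
    show lam (res _ (rho A U b)) = _
    rw [show res (hDU a ham) (rho A U b) = algebraMap A Sa b from res_rho A (hDU a ham) b]
    exact IsLocalization.lift_eq haunit b
  have hψint : ∀ s, IsIntegral A (ψ s) := fun s => by
    refine isIntegral_of_pow_mul_mem hdim _ fun f hf => ?_
    letI : Algebra A (X.presheaf.obj (op (PrimeSpectrum.basicOpen f))) := (rho A (PrimeSpectrum.basicOpen f)).toAlgebra
    haveI : IsLocalization.Away f (X.presheaf.obj (op (PrimeSpectrum.basicOpen f))) := isLocalization_rho A f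
    obtain ⟨⟨w, ⟨_, k, rfl⟩⟩, hw⟩ := IsLocalization.surj (Submonoid.powers f) (res (hDU f hf) s)
    let t := rho A U (f ^ k) * s - rho A U w
    have ht : res (hDU f hf) t = 0 := by
      simp only [t, map_sub, map_mul]
      rw [show res (hDU f hf) (rho A U (f ^ k)) = rho A _ (f ^ k) from res_rho A _ _,
        show res (hDU f hf) (rho A U w) = rho A _ w from res_rho A _ _, sub_eq_zero, mul_comm]
      exact hw
    obtain ⟨⟨v, ⟨_, l, rfl⟩⟩, hv⟩ := IsLocalization.surj (Submonoid.powers a) (res (hDU a ham) t)
    have h1 : rho A (PrimeSpectrum.basicOpen (f * a)) v = 0 := by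
      rw [← res_rho A (PrimeSpectrum.basicOpen_mul_le_right f a)]
      show res _ (algebraMap A Sa v) = 0
      rw [← hv, map_mul, hrr]
      have h2 := congrArg (res (PrimeSpectrum.basicOpen_mul_le_left f a)) ht
      rw [hrr, map_zero] at h2
      rw [h2, zero_mul]
    letI : Algebra A (X.presheaf.obj (op (PrimeSpectrum.basicOpen (f * a)))) := (rho A (PrimeSpectrum.basicOpen (f * a))).toAlgebra
    haveI : IsLocalization.Away (f * a) (X.presheaf.obj (op (PrimeSpectrum.basicOpen (f * a)))) := isLocalization_rho A (f * a)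
    obtain ⟨⟨_, N, rfl⟩, hN⟩ := (IsLocalization.map_eq_zero_iff (Submonoid.powers (f * a)) _ v).1 h1
    have hfv : f ^ N * v = 0 := (nonZeroDivisors A).pow_mem hareg N |> fun h => (mem_nonZeroDivisors_iff.1 h).1 _ (by
      rw [← hN]; show a ^ N * (f ^ N * v) = (f * a) ^ N * v; ring)
    have h3 := congrArg lam hv
    rw [map_mul, IsLocalization.lift_eq haunit, IsLocalization.lift_eq haunit] at h3
    have h4 : algebraMap A (FractionRing A) (f ^ N) * ψ t = 0 := by
      refine (haunit ⟨a ^ l, l, rfl⟩).mul_left_eq_zero.1 ?_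
      show algebraMap A (FractionRing A) (f ^ N) * lam (res (hDU a ham) t) * algebraMap A (FractionRing A) (a ^ l) = 0
      rw [mul_assoc, h3, ← map_mul, hfv, map_zero]
    simp only [t, map_sub, map_mul, hψρ, mul_sub, sub_eq_zero] at h4
    refine ⟨N + k, f ^ N * w, ?_⟩
    rw [← map_pow, map_mul, pow_add, map_mul, mul_assoc]
    exact h4
  refine ⟨fun s => ?_, RingHom.codRestrict ψ _ hψint, ?_, ?_⟩
  · obtain ⟨P, hP, hPs⟩ := hψint s
    refine ⟨P, hP, hlam.comp hinj ?_⟩
    show ψ _ = ψ 0
    rw [map_zero, Polynomial.hom_eval₂, show ψ.comp (((Spec (CommRingCat.of A)).presheaf.map (homOfLE (le_top : FEt.puncturedSpec A ≤ ⊤)).op).hom.comp (Scheme.ΓSpecIso (CommRingCat.of A)).inv.hom) = algebraMap A (FractionRing A) from RingHom.ext hψρ]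
    exact hPs
  · exact fun u v h => hlam.comp hinj (congrArg Subtype.val h)
  · exact RingHom.ext fun b => Subtype.ext (hψρ b)

end Groth.Agent.S5079
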