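import Groth.Statements.S5081
import Mathlib
-- import your own Groth.Agent.* helpers here

set_option autoImplicit false
universe u
open Unram

namespace Groth.Agent.S5081

/-- Let B be a finite A-algebra generated by a single element u and F a polynomial with coefficients in
A such that F(u) = 0. Then the ideal generated by F'(u) is contained in the annihilator of the
module of differentials of B over A, and equals it when the kernel of the surjection A[T] → B
sending T to u is generated by F. -/
theorem result (A B : Type u) [CommRing A] [CommRing B] [Algebra A B]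
    [Module.Finite A B] (u : B) (hu : Algebra.adjoin A ({u} : Set B) = ⊤) (F : Polynomial A) (hF : Polynomial.aeval u F = 0) :
    Ideal.span {Polynomial.aeval u (Polynomial.derivative F)} ≤ Module.annihilator B (KaehlerDifferential A B) ∧
      (RingHom.ker (Polynomial.aeval u : Polynomial A →ₐ[A] B) = Ideal.span {F} →
        Module.annihilator B (KaehlerDifferential A B) = Ideal.span {Polynomial.aeval u (Polynomial.derivative F)}) := by
  classical
  let I : Ideal B := Ideal.span {Polynomial.aeval u (Polynomial.derivative F)}
  have hu' : Function.Surjective (Polynomial.aeval u : Polynomial A →ₐ[A] B) :=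
    (AlgHom.range_eq_top _).mp ((Algebra.adjoin_singleton_eq_range_aeval A u).symm.trans hu)
  have hD : ∀ G : Polynomial A, KaehlerDifferential.D A B (Polynomial.aeval u G) =
      Polynomial.aeval u (Polynomial.derivative G) • KaehlerDifferential.D A B u := fun G =>
    (KaehlerDifferential.D A B).map_aeval G u
  have hgen : ∀ w : KaehlerDifferential A B, ∃ b : B, w = b • KaehlerDifferential.D A B u := by
    intro w
    induction ((KaehlerDifferential.span_range_derivation A B).ge (Submodule.mem_top (x := w)))
      using Submodule.span_induction with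
    | mem x hx =>
      obtain ⟨c, rfl⟩ := hx
      obtain ⟨G, rfl⟩ := hu' c
      exact ⟨_, hD G⟩
    | zero => exact ⟨0, (zero_smul _ _).symm⟩
    | add x y _ _ hx hy =>
      obtain ⟨a, rfl⟩ := hx
      obtain ⟨c, rfl⟩ := hy
      exact ⟨a + c, (add_smul _ _ _).symm⟩
    | smul c x _ hx =>
      obtain ⟨a, rfl⟩ := hx
      exact ⟨c * a, (mul_smul _ _ _).symm⟩
  have hle : I ≤ Module.annihilator B (KaehlerDifferential A B) := by
    rw [Ideal.span_singleton_le_iff_mem, Module.mem_annihilator]
    intro w
    obtain ⟨b, rfl⟩ := hgen w
    rw [smul_comm, ← hD F, hF, map_zero, smul_zero]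
  refine ⟨hle, fun hker => le_antisymm (fun c hc => ?_) hle⟩
  choose s hs using hu'
  let δ : B → B ⧸ I := fun b => Ideal.Quotient.mk I (Polynomial.aeval u (Polynomial.derivative (s b)))
  have hwd : ∀ G : Polynomial A, δ (Polynomial.aeval u G) =
      Ideal.Quotient.mk I (Polynomial.aeval u (Polynomial.derivative G)) := by
    intro G
    have hmem : s (Polynomial.aeval u G) - G ∈ RingHom.ker (Polynomial.aeval u : Polynomial A →ₐ[A] B) := by
      rw [RingHom.mem_ker, map_sub, hs, sub_self]
    rw [hker] at hmem
    obtain ⟨H, hH⟩ := Ideal.mem_span_singleton.mp hmem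
    show Ideal.Quotient.mk I _ = _
    rw [Ideal.Quotient.eq, ← map_sub, ← map_sub, hH, Polynomial.derivative_mul, map_add, map_mul, map_mul, hF,
      zero_mul, add_zero]
    exact I.mul_mem_right _ (Ideal.subset_span rfl)
  let δL : B →ₗ[A] B ⧸ I :=
    { toFun := δ
      map_add' := fun x y => by
        rw [← hs x, ← hs y, ← map_add, hwd, hwd, hwd, map_add, map_add, map_add]
      map_smul' := fun a x => by
        rw [← hs x, RingHom.id_apply, ← map_smul, hwd, hwd, Polynomial.derivative_smul, map_smul]
        rfl }
  let δD : Derivation A B (B ⧸ I) := Derivation.mk' δL fun x y => by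
    show δ (x * y) = x • δ y + y • δ x
    rw [← hs x, ← hs y, ← map_mul, hwd, hwd, hwd, Polynomial.derivative_mul, map_add, map_mul, map_mul, map_add,
      map_mul, map_mul, Algebra.smul_def, Algebra.smul_def]
    simp only [Ideal.Quotient.algebraMap_eq]
    ring
  have h1 : δD u = 1 := by
    show δ u = 1
    rw [show u = Polynomial.aeval u (Polynomial.X : Polynomial A) from (Polynomial.aeval_X u).symm, hwd,
      Polynomial.derivative_X, map_one, map_one]
  have h2 := congrArg δD.liftKaehlerDifferential ((Module.mem_annihilator.mp hc) (KaehlerDifferential.D A B u))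
  rw [map_zero, map_smul, Derivation.liftKaehlerDifferential_comp_D, h1, Algebra.smul_def, mul_one] at h2
  exact Ideal.Quotient.eq_zero_iff_mem.mp h2

end Groth.Agent.S5081
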