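import Groth.Statements.S5082
import Groth.Agent.MeroLib.DepthTwo

-- import your own Groth.Agent.* helpers here

set_option autoImplicit false
universe u
open CategoryTheory CategoryTheory.Limits AlgebraicGeometry TopologicalSpace
open Mero

namespace Groth.Agent.S5082




/-- Let A be a Noetherian local ring. Then the group of divisors of Spec A is trivial (every divisor
equals the unit divisor, divisors being written multiplicatively) if and only if A has depth 0, that
is, if and only if every element of the maximal ideal of A is a zero-divisor. -/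
theorem result (A : Type u) [CommRing A] [IsNoetherianRing A] [IsLocalRing A] :
    (∀ D : Mero.Divisor (Spec (CommRingCat.of A)), D = 1) ↔ LocCoh.depth A A = 0 := by
  let X := Spec (CommRingCat.of A)
  let e : Γ(X, ⊤) ≃+* A := (Scheme.ΓSpecIso (CommRingCat.of A)).commRingCatIsoToRingEquiv
  let x : X := IsLocalRing.closedPoint A
  have hxt : ∀ (V : X.Opens), x ∈ V → V = ⊤ := fun V hV =>
    top_le_iff.mp fun y _ => (IsLocalRing.specializes_closedPoint y).mem_open V.2 hV
  have hunit : ∀ c : Γ(X, ⊤), IsUnit (X.presheaf.germ ⊤ x trivial c) → IsUnit c := fun c hc => by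
    have h1 : X.basicOpen c = ⊤ := hxt _ ((X.mem_basicOpen c x trivial).2 hc)
    exact RingedSpace.isUnit_of_isUnit_germ X.toRingedSpace ⊤ c fun y hy =>
      (X.mem_basicOpen c y hy).1 (h1.ge hy)
  have hreg : Mero.regSub X ⊤ = nonZeroDivisors Γ(X, ⊤) := MeroLib.regSub_eq (isAffineOpen_top X)
  constructor
  · intro h
    by_contra hne
    have h1 : (1 : ℕ∞) ≤ LocCoh.depth A A := ENat.one_le_iff_ne_zero.2 hne
    obtain ⟨t, htm, htr⟩ := CommAlgDim.exists_isSMulRegular_mem (M := A)
      ((CommAlgDim.hasSeqIn_one_iff (IsLocalRing.maximalIdeal A)).1 ((CommAlgDim.le_depth_iff 1).1 h1))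
    let t' : Γ(X, ⊤) := e.symm t
    have ht' : t' ∈ Mero.regSub X ⊤ := hreg ▸ mem_nonZeroDivisors_iff_right.2 fun c hc => by
      refine e.injective ((htr ?_).trans (map_zero e).symm)
      show t • e c = t • 0
      rw [smul_eq_mul, smul_zero, ← e.apply_symm_apply t, ← map_mul, mul_comm, show c * e.symm t = 0 from hc, map_zero]
    let f : (Γ(Mero.kmod X, ⊤))ˣ := (MeroLib.isUnit_toK ⟨t', ht'⟩).unit
    have h2 := congrArg (fun D : Mero.Divisor X => D.1 x) (h (Mero.div f))
    obtain ⟨c, hc⟩ := (MeroLib.mk_eq_one_iff _).1 h2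
    have h3 : algebraMap _ (Mero.KStalk X x) (c : X.presheaf.stalk x) =
        algebraMap _ (Mero.KStalk X x) (X.presheaf.germ ⊤ x trivial t') := hc.trans (MeroLib.val_toK t' x trivial)
    have h4 : IsUnit t := e.apply_symm_apply t ▸ ((hunit t' (Mero.algebraMap_KStalk_injective x h3 ▸ c.isUnit)).map e)
    exact (IsLocalRing.mem_maximalIdeal t).1 htm h4
  · intro h D
    have hu : ∀ a : Mero.regStalk X x, IsUnit (a : X.presheaf.stalk x) := fun a => by
      have ha := Mero.regStalk_le_nonZeroDivisors x a.2
      obtain ⟨W, hxW, c, hc, hca⟩ := a.2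
      obtain rfl := hxt W hxW
      rw [← hca] at ha ⊢
      rw [hreg] at hc
      refine (?_ : IsUnit c).map _
      by_contra hcu
      have hm : e c ∈ IsLocalRing.maximalIdeal A := (IsLocalRing.mem_maximalIdeal _).2 fun hu =>
        hcu (e.symm_apply_apply c ▸ hu.map e.symm)
      have h1 : (1 : ℕ∞) ≤ LocCoh.depth A A := ZClosLib.depth_ge_one_iff.2 fun hass => by
        obtain ⟨-, v, hv⟩ := hass
        obtain ⟨n, hn⟩ := (hv ▸ hm : e c ∈ Ideal.radical ((⊥ : Submodule A A).colon {v}))
        rw [Submodule.mem_colon_singleton, Submodule.mem_bot, smul_eq_mul] at hn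
        have h5 : e.symm v = 0 := (mem_nonZeroDivisors_iff.1 (pow_mem hc n)).1 _ (by
          rw [← e.symm_apply_apply (c ^ n), ← map_mul, map_pow, hn, map_zero])
        have h6 : v = 0 := by rw [← e.apply_symm_apply v, h5, map_zero]
        refine (IsLocalRing.maximalIdeal.isMaximal A).ne_top ?_
        rw [hv, h6, Ideal.eq_top_iff_one]
        exact Ideal.le_radical (by simp)
      rw [h] at h1
      exact absurd h1 (by norm_num)
    have h1 : (⟨{y | D.1 y = 1}, MeroLib.isOpen_trivial D⟩ : X.Opens) = ⊤ :=
      hxt _ (MeroLib.eq_one_of_units hu D)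
    exact Subtype.ext (funext fun y => h1.ge (Opens.mem_top y))


end Groth.Agent.S5082
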