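import Groth.Statements.S5084
import Groth.Agent.AssPointLib.Basic
import Groth.Agent.FlatLib.QStalk

set_option autoImplicit false
universe u
open CategoryTheory CategoryTheory.Limits AlgebraicGeometry TopologicalSpace
open Mero

namespace Groth.Agent.S5084

open AlgebraicGeometry CategoryTheory TopologicalSpace in
theorem ZClosLib_le {X : Scheme.{u}} {U : X.Opens} (hU : IsAffineOpen U) {x y : X} (hx : x ∈ U) (hy : y ∈ U)
    (h : x ⤳ y) : (hU.primeIdealOf ⟨x, hx⟩).asIdeal ≤ (hU.primeIdealOf ⟨y, hy⟩).asIdeal := by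
  refine (PrimeSpectrum.le_iff_specializes _ _).mpr (hU.fromSpec.isOpenEmbedding.isInducing.specializes_iff.1 ?_)
  rw [hU.fromSpec_primeIdealOf, hU.fromSpec_primeIdealOf]
  exact h

open AlgebraicGeometry CategoryTheory TopologicalSpace
open scoped nonZeroDivisors

variable {X : Scheme.{u}}

/-- A nonzerodivisor at a point is a nonzerodivisor at the generalisations. -/
theorem mem_nzd_of_mul {U : X.Opens} (hU : IsAffineOpen U) {y : X} (hy : y ∈ U) (c : Γ(X, U))
    (h : ∀ b : Γ(X, U), c * b = 0 → X.presheaf.germ U y hy b = 0) :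
    X.presheaf.germ U y hy c ∈ (X.presheaf.stalk y)⁰ := by
  letI := X.presheaf.algebra_section_stalk (⟨y, hy⟩ : (U : Set X))
  set p := (hU.primeIdealOf ⟨y, hy⟩).asIdeal
  haveI : IsLocalization.AtPrime (X.presheaf.stalk y) p := hU.isLocalization_stalk ⟨y, hy⟩
  rw [mem_nonZeroDivisors_iff_right]
  intro a ha
  obtain ⟨b, w, rfl⟩ := IsLocalization.exists_mk'_eq p.primeCompl a
  change IsLocalization.mk' (X.presheaf.stalk y) b w * algebraMap Γ(X, U) (X.presheaf.stalk y) c = 0 at ha
  rw [mul_comm, IsLocalization.mul_mk'_eq_mk'_of_mul, IsLocalization.mk'_eq_zero_iff] at ha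
  obtain ⟨t, ht⟩ := ha
  have h1 := h ((t : Γ(X, U)) * b) (by rw [← ht]; ring)
  rw [map_mul] at h1
  have h2 : algebraMap Γ(X, U) (X.presheaf.stalk y) b = 0 :=
    (IsLocalization.map_units (X.presheaf.stalk y) t).mul_right_eq_zero.1 h1
  exact (IsLocalization.mk'_eq_zero_iff b w).2 ((IsLocalization.map_eq_zero_iff p.primeCompl _ _).1 h2)

theorem mul_eq_zero_of_nzd {U : X.Opens} {y : X} (hy : y ∈ U) (c b : Γ(X, U))
    (hc : X.presheaf.germ U y hy c ∈ (X.presheaf.stalk y)⁰) (h : c * b = 0) :
    X.presheaf.germ U y hy b = 0 := by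
  refine (mem_nonZeroDivisors_iff_right.1 hc) _ ?_
  rw [← map_mul, mul_comm, h, map_zero]

/-- Let X be a locally Noetherian scheme and F a quasi-coherent O_X-module. Then F is torsion-free — the
canonical map from F to its sheaf of meromorphic sections K_X(F), m ↦ m/1, is a monomorphism, i.e.
at every point no germ of a regular function kills a nonzero element of the stalk of F — if and only
if every associated point of F is an associated point of the structure sheaf (a point x such that
the maximal ideal of O_{X,x} is an associated prime of O_{X,x}). -/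
theorem result (X : Scheme.{u}) [IsLocallyNoetherian X]
    (F : X.Modules) (hF : Coh.IsQCoh F) :
    Mono (Mero.toMer F) ↔
      ∀ x : ↥X, Curv2.IsAssPoint F x →
        IsAssociatedPrime (IsLocalRing.maximalIdeal ↑(X.presheaf.stalk x)) ↑(X.presheaf.stalk x) := by
  haveI : Coh.IsQCoh F := hF
  constructor
  · intro hmono x hx
    by_contra hno
    obtain ⟨-, v, hv⟩ := hx
    set R := X.presheaf.stalk x
    obtain ⟨r, hrm, hr⟩ : ∃ r ∈ IsLocalRing.maximalIdeal R, r ∈ R⁰ := by
      by_contra hc
      push_neg at hc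
      refine hno ?_
      have hsub : ((IsLocalRing.maximalIdeal R : Ideal R) : Set R) ⊆
          ⋃ P ∈ ((associatedPrimes.finite R R).toFinset : Set (Ideal R)), (P : Set R) := fun a ha => by
        have := hc a ha
        have h1 := biUnion_associatedPrimes_eq_compl_nonZeroDivisors (R := R)
        rw [Set.Finite.coe_toFinset, h1]
        exact this
      obtain ⟨P, hP, hle⟩ := (Ideal.subset_union_prime (f := fun P => P) ⊥ ⊥ (fun P hP _ _ =>
        ((Set.Finite.mem_toFinset _).1 hP).isPrime)).1 hsub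
      have hP' := (Set.Finite.mem_toFinset _).1 hP
      rwa [(IsLocalRing.maximalIdeal.isMaximal R).eq_of_le hP'.isPrime.ne_top hle]
    have hv0 : v ≠ 0 := fun h0 => (IsLocalRing.maximalIdeal.isMaximal R).ne_top (by
      rw [hv, h0, Ideal.eq_top_iff_one, Ideal.mem_radical_iff]
      exact ⟨1, by simp⟩)
    obtain ⟨k, hk⟩ : ∃ k : ℕ, r ^ k • v = 0 := by
      rw [hv, Ideal.mem_radical_iff] at hrm
      obtain ⟨k, hk⟩ := hrm
      exact ⟨k, by simpa [Submodule.mem_colon_singleton] using hk⟩
    obtain ⟨U, hU, hxU, -⟩ := exists_isAffineOpen_mem_and_subset (x := x) (U := (⊤ : X.Opens)) trivial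
    haveI : IsNoetherianRing Γ(X, U) := IsLocallyNoetherian.component_noetherian ⟨U, hU⟩
    letI := X.presheaf.algebra_section_stalk (⟨x, hxU⟩ : (U : Set X))
    set p := (hU.primeIdealOf ⟨x, hxU⟩).asIdeal
    haveI : IsLocalization.AtPrime R p := hU.isLocalization_stalk ⟨x, hxU⟩
    obtain ⟨c, w, hcw⟩ := IsLocalization.exists_mk'_eq p.primeCompl (r ^ k)
    have hcr : X.presheaf.germ U x hxU c = X.presheaf.germ U x hxU (w : Γ(X, U)) * r ^ k := by
      rw [← hcw]; exact (IsLocalization.mk'_spec' R c w).symm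
    have hc : X.presheaf.germ U x hxU c ∈ R⁰ := by
      rw [hcr]
      exact mul_mem (IsLocalization.map_units R w).mem_nonZeroDivisors (pow_mem hr k)
    obtain ⟨u, s, hu, hs⟩ := AssPointLib.exists_smul_eq_gm hU hxU v
    have hs' : u • v = F.presheaf.germ U x hxU s := hs
    have hcs : F.presheaf.germ U x hxU (c • s) = 0 := by
      rw [Mero.germ_smul, ← hs', hcr, mul_smul, smul_comm (r ^ k), hk, smul_zero, smul_zero]
    obtain ⟨W₁, hxW₁, i₁, i₂, hW₁⟩ := F.presheaf.germ_eq x hxU hxU (c • s) 0 (hcs.trans (map_zero _).symm)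
    rw [map_zero] at hW₁
    -- `c` is a nonzerodivisor near `x`
    obtain ⟨G, hG⟩ := (IsNoetherian.noetherian (LinearMap.ker (LinearMap.mulLeft Γ(X, U) c)) :
      (LinearMap.ker (LinearMap.mulLeft Γ(X, U) c)).FG)
    have hK : ∀ a : G, ∃ t : p.primeCompl, (t : Γ(X, U)) * a.1 = 0 := fun a => by
      have ha : c * a.1 = 0 := LinearMap.mem_ker.1 (hG ▸ Submodule.subset_span a.2)
      exact (IsLocalization.map_eq_zero_iff p.primeCompl R _).1 (mul_eq_zero_of_nzd hxU c a.1 hc ha)
    choose tK htK using hK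
    let T : Γ(X, U) := ∏ a : G, (tK a).1
    have hT : T ∈ p.primeCompl := Submonoid.prod_mem _ fun a _ => (tK a).2
    let W : X.Opens := W₁ ⊓ X.basicOpen T
    have hxT : x ∈ X.basicOpen T := (X.mem_basicOpen T x hxU).2 (IsLocalization.map_units R ⟨T, hT⟩)
    have hWU : W ≤ U := inf_le_right.trans (X.basicOpen_le T)
    have hreg : ∀ y (hy : y ∈ W), X.presheaf.germ U y (hWU hy) c ∈ (X.presheaf.stalk y)⁰ := by
      intro y hy
      refine mem_nzd_of_mul hU (hWU hy) c fun b hb => ?_
      have hb' : b ∈ LinearMap.ker (LinearMap.mulLeft Γ(X, U) c) := LinearMap.mem_ker.2 hb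
      have hTb : T * b = 0 := by
        rw [← hG] at hb'
        clear hb
        induction hb' using Submodule.span_induction with
        | mem z hz =>
          obtain ⟨t', ht'⟩ : (tK ⟨z, hz⟩).1 ∣ T := Finset.dvd_prod_of_mem _ (Finset.mem_univ _)
          rw [ht', mul_right_comm, htK ⟨z, hz⟩, zero_mul]
        | zero => rw [mul_zero]
        | add a b _ _ ha hb => rw [mul_add, ha, hb, add_zero]
        | smul a z _ hz => rw [smul_eq_mul, mul_left_comm, hz, mul_zero]
      have h3 := congrArg (X.presheaf.germ U y (hWU hy)) hTb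
      rw [map_mul, map_zero] at h3
      exact ((X.mem_basicOpen T y (hWU hy)).1 hy.2).mul_right_eq_zero.1 h3
    let s' : Γ(F, W) := F.presheaf.map (homOfLE hWU).op s
    have hzero : (Mero.toMer F).app W s' = 0 := by
      refine Subtype.ext (funext fun y => ?_)
      change LocalizedModule.mk (F.presheaf.germ W y.1 y.2 s') 1 = 0
      rw [← LocalizedModule.zero_mk 1, LocalizedModule.mk_eq]
      refine ⟨⟨X.presheaf.germ U y.1 (hWU y.2) c, ⟨W, y.2, X.presheaf.map (homOfLE hWU).op c, fun z => ?_,
        TopCat.Presheaf.germ_res_apply X.presheaf (homOfLE hWU) y.1 y.2 c⟩⟩, ?_⟩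
      · rw [TopCat.Presheaf.germ_res_apply]
        exact hreg z.1 z.2
      simp only [one_smul, smul_zero, Submonoid.smul_def]
      rw [TopCat.Presheaf.germ_res_apply, ← Mero.germ_smul, ← TopCat.Presheaf.germ_res_apply F.presheaf i₁ y.1 y.2.1,
        hW₁, map_zero]
    haveI := hmono
    have hs0 : s' = 0 := by
      have hm : Mono ((Scheme.Modules.toPresheaf X).map (Mero.toMer F)) := inferInstance
      have hinj : Function.Injective ((Mero.toMer F).app W) :=
        (AddCommGrpCat.mono_iff_injective _).1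
          (inferInstanceAs (Mono (((Scheme.Modules.toPresheaf X).map (Mero.toMer F)).app (.op W))))
      exact hinj (hzero.trans (map_zero _).symm)
    have h5 := congrArg (F.presheaf.germ W x ⟨hxW₁, hxT⟩) hs0
    rw [TopCat.Presheaf.germ_res_apply, map_zero, ← hs'] at h5
    exact hv0 (hu.smul_eq_zero.1 h5)
  · intro h
    have hinj : ∀ V : X.Opens, Function.Injective ((Mero.toMer F).app V) := by
      intro V
      refine (injective_iff_map_eq_zero _).2 fun s hs => ?_
      refine TopCat.Presheaf.section_ext (F := ⟨F.presheaf, F.isSheaf⟩) V s 0 fun x hx => ?_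
      have h1 := congrArg (fun z : Γ(Mero.merMod F, V) => z.1 ⟨x, hx⟩) hs
      change LocalizedModule.mk (F.presheaf.germ V x hx s) 1 = 0 at h1
      rw [← LocalizedModule.zero_mk 1, LocalizedModule.mk_eq] at h1
      obtain ⟨r, hr⟩ := h1
      simp only [one_smul, smul_zero, Submonoid.smul_def] at hr
      show F.presheaf.germ V x hx s = F.presheaf.germ V x hx 0
      rw [map_zero]
      by_contra hne
      obtain ⟨U, hU, hxU, hUV⟩ := exists_isAffineOpen_mem_and_subset (x := x) (U := V) hx
      let s₀ := F.presheaf.map (homOfLE hUV).op s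
      have hs₀ : F.presheaf.germ U x hxU s₀ = F.presheaf.germ V x hx s :=
        TopCat.Presheaf.germ_res_apply F.presheaf (homOfLE hUV) x hxU s
      letI := X.presheaf.algebra_section_stalk (⟨x, hxU⟩ : (U : Set X))
      set p := (hU.primeIdealOf ⟨x, hxU⟩).asIdeal
      haveI : IsLocalization.AtPrime (X.presheaf.stalk x) p := hU.isLocalization_stalk ⟨x, hxU⟩
      obtain ⟨c, w, hcw⟩ := IsLocalization.exists_mk'_eq p.primeCompl (r : X.presheaf.stalk x)
      have hcr : X.presheaf.germ U x hxU c = X.presheaf.germ U x hxU (w : Γ(X, U)) * r := by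
        rw [← hcw]; exact (IsLocalization.mk'_spec' _ c w).symm
      have hcn : X.presheaf.germ U x hxU c ∈ (X.presheaf.stalk x)⁰ := by
        rw [hcr]; exact mul_mem (IsLocalization.map_units _ w).mem_nonZeroDivisors (Mero.regStalk_le_nonZeroDivisors x r.2)
      have hc0 : F.presheaf.germ U x hxU (c • s₀) = 0 := by
        rw [Mero.germ_smul, hs₀, hcr, mul_smul, hr, smul_zero]
      obtain ⟨t, ht, hts⟩ := (DevissLib.gm_eq_zero_iff hU x hxU _).1 hc0
      obtain ⟨y, hyU, hyx, hy, hne'⟩ := AssPointLib.exists_weak_specializes (M := F) hU hxU s₀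
        (fun e => hne (hs₀.symm.trans e))
      have hass := h y ((AssPointLib.assPoint_iff_weak F y).2 hy)
      have htu : IsUnit (X.presheaf.germ U y hyU t) := AssPointLib.isUnit_germ hU hyU fun hmem =>
        ht (ZClosLib_le hU hyU hxU hyx hmem)
      have hkill : X.presheaf.germ U y hyU c • F.presheaf.germ U y hyU s₀ = 0 := by
        have e := congrArg (F.presheaf.germ U y hyU) hts
        rw [Mero.germ_smul, Mero.germ_smul, map_zero] at e
        exact htu.smul_eq_zero.1 e
      have hnu : ¬ IsUnit (X.presheaf.germ U y hyU c) := fun hu => hne' (hu.smul_eq_zero.1 hkill)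
      have hnz : X.presheaf.germ U y hyU c ∈ (X.presheaf.stalk y)⁰ := mem_nzd_of_mul hU hyU c fun b hb => by
        obtain ⟨t', ht'⟩ := (IsLocalization.map_eq_zero_iff p.primeCompl (X.presheaf.stalk x) b).1
          (mul_eq_zero_of_nzd hxU c b hcn hb)
        have e := congrArg (X.presheaf.germ U y hyU) ht'
        rw [map_mul, map_zero] at e
        exact (AssPointLib.isUnit_germ hU hyU fun hmem => t'.2 (ZClosLib_le hU hyU hxU hyx hmem)).mul_right_eq_zero.1 e
      haveI : IsNoetherianRing (X.presheaf.stalk y) := inferInstance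
      obtain ⟨-, a, ha⟩ := isAssociatedPrime_iff.1 hass
      have hmem : X.presheaf.germ U y hyU c ∈ IsLocalRing.maximalIdeal (X.presheaf.stalk y) :=
        (IsLocalRing.mem_maximalIdeal _).2 hnu
      rw [ha, Submodule.mem_colon_singleton, Submodule.mem_bot, smul_eq_mul] at hmem
      have ha0 : a = 0 := mem_nonZeroDivisors_iff_right.1 hnz a (by rw [mul_comm]; exact hmem)
      refine (IsLocalRing.maximalIdeal.isMaximal (X.presheaf.stalk y)).ne_top ?_
      rw [ha, ha0, Ideal.eq_top_iff_one]
      simp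
    exact ⟨fun g g' e => Scheme.Modules.hom_ext _ _ fun V => ConcreteCategory.hom_ext _ _ fun z =>
      hinj V (congrArg (fun ψ => ψ.app V z) e)⟩

end Groth.Agent.S5084
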