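import Groth.Statements.S5085
import Groth.Agent.MeroLib.Basic

-- import your own Groth.Agent.* helpers here

set_option autoImplicit false
universe u
open CategoryTheory CategoryTheory.Limits AlgebraicGeometry TopologicalSpace
open Mero

namespace Groth.Agent.S5085




/-- Let X be a scheme, U an open subset and V an open subset of U which is schematically dense in U (for
every open W ⊆ U, restriction of functions from W to W ∩ V is injective). Then restriction of
sections of the sheaf of meromorphic functions K_X from U to V is injective: the canonical map from
meromorphic functions to pseudo-functions is injective. -/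
theorem result (X : Scheme.{u}) (U V : X.Opens) (hVU : V ≤ U)
    (hV : ∀ W : X.Opens, W ≤ U →
      Function.Injective ⇑(X.presheaf.map (homOfLE (inf_le_left : W ⊓ V ≤ W)).op)) :
    Function.Injective ⇑((Mero.kmod X).presheaf.map (homOfLE hVU).op) := by
  refine (injective_iff_map_eq_zero _).2 fun s hs => MeroLib.ext fun x hx => ?_
  obtain ⟨W, hW, a, b, hxW, hab⟩ := MeroLib.exists_frac s hx
  have ha : a = 0 := hV W hW (MeroLib.sec_ext _ _ fun y hy => by
    rw [MeroLib.germ_res, MeroLib.germ_res, map_zero]
    refine (MeroLib.frac_eq_zero_iff _ (Mero.regGerm ⟨y, hy.1⟩ b)).1 ((hab y hy.1).symm.trans ?_)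
    exact congrArg (fun t => MeroLib.val t y hy.2) hs)
  rw [hab x hxW, ha, map_zero, MeroLib.frac, IsLocalization.mk'_zero]
  rfl


end Groth.Agent.S5085
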