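import Groth.Statements.S5088
import Groth.Agent.MeroLib.RegExists

-- import your own Groth.Agent.* helpers here

set_option autoImplicit false
universe u
open CategoryTheory CategoryTheory.Limits AlgebraicGeometry TopologicalSpace
open Mero

namespace Groth.Agent.S5088

open MeroLib Opposite in
open AmpleLib (GenAt GenOn res) in
theorem genAt_coeff {X : Scheme.{u}} {L : X.Modules} {W U : X.Opens} (σ : Γ(L, W)) {g : Γ(L, U)} (hg : GenOn L g)
    {r : Γ(X, W ⊓ U)} (hr : r • res L (inf_le_right : W ⊓ U ≤ U) g = res L inf_le_left σ) {x : X} (hW : x ∈ W)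
    (hU : x ∈ U) : GenAt L σ hW ↔ x ∈ X.basicOpen r := by
  rw [← AmpleLib.genAt_res (inf_le_left : W ⊓ U ≤ W) σ (⟨hW, hU⟩ : x ∈ W ⊓ U), ← hr]
  exact AmpleLib.genAt_smul_iff _ _ _ ((hg.res _).genAt _)

open MeroLib Opposite in
open AmpleLib (GenAt GenOn res) in
theorem le_of_specializes {X : Scheme.{u}} {W : X.Opens} (hW : IsAffineOpen W) {y z : X} (hy : y ∈ W) (hz : z ∈ W)
    (h : y ⤳ z) : (hW.primeIdealOf ⟨y, hy⟩).asIdeal ≤ (hW.primeIdealOf ⟨z, hz⟩).asIdeal := by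
  refine (PrimeSpectrum.le_iff_specializes _ _).mpr (hW.fromSpec.isOpenEmbedding.isInducing.specializes_iff.1 ?_)
  rw [hW.fromSpec_primeIdealOf, hW.fromSpec_primeIdealOf]
  exact h

open MeroLib Opposite in
open AmpleLib (GenAt GenOn res) in
theorem specializes_of_le {X : Scheme.{u}} {W : X.Opens} (hW : IsAffineOpen W) {y z : X} (hy : y ∈ W) (hz : z ∈ W)
    (h : (hW.primeIdealOf ⟨y, hy⟩).asIdeal ≤ (hW.primeIdealOf ⟨z, hz⟩).asIdeal) : y ⤳ z := by
  have h1 := ((PrimeSpectrum.le_iff_specializes _ _).1 h).map hW.fromSpec.continuous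
  rw [hW.fromSpec_primeIdealOf, hW.fromSpec_primeIdealOf] at h1
  exact h1

open MeroLib Opposite in
open AmpleLib (GenAt GenOn res) in
theorem exists_gen {X : Scheme.{u}} {L : X.Modules} (hL : PicF.IsInvertible L) {W : X.Opens} (hW : IsAffineOpen W)
    {F : Set X} (hF : F.Finite) (hFW : F ⊆ W) :
    ∃ σ : Γ(L, W), ∀ y (hy : y ∈ W), y ∈ F → GenAt L σ hy := by
  classical
  haveI : Coh.IsQCoh L := TwistLib.isQCoh_of_isInvertible hL
  let p : ∀ y : F, Ideal Γ(X, W) := fun y => (hW.primeIdealOf ⟨y.1, hFW y.2⟩).asIdeal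
  let F₀ := {y : F | ∀ z : F, y.1 ⤳ z.1 → z = y}
  haveI : Finite F := hF.to_subtype
  haveI : Fintype F₀ := Fintype.ofFinite _
  have hs : ∀ y : F₀, ∃ s : Γ(L, W), GenAt L s (hFW y.1.2) := fun y => by
    obtain ⟨U, g, hyU, hg⟩ := TwistLib.exists_genOn hL y.1.1
    obtain ⟨v, s, hv, hs⟩ := AssPointLib.exists_smul_eq_gm (M := L) hW (hFW y.1.2) (L.presheaf.germ U y.1.1 hyU g)
    refine ⟨s, ?_⟩
    have h1 : GenAt L g hyU := hg.genAt hyU
    have e : (fun c => c • L.presheaf.germ W y.1.1 (hFW y.1.2) s) =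
        (fun c => c • L.presheaf.germ U y.1.1 hyU g) ∘ fun c => c * v := funext fun c => by
      change c • (L.presheaf.germ W y.1.1 (hFW y.1.2) s) = (c * v) • L.presheaf.germ U y.1.1 hyU g
      rw [mul_smul]
      exact congrArg (c • ·) hs.symm
    unfold AmpleLib.GenAt
    rw [e]
    exact h1.comp hv.unit.mulRight_bijective
  choose s hs using hs
  have ht : ∀ y : F₀, ∃ t : Γ(X, W), t ∉ p y.1 ∧ ∀ z : F₀, z ≠ y → t ∈ p z.1 := fun y => by
    by_contra hc
    push Not at hc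
    have h1 : (Finset.univ.erase y).inf (fun z : F₀ => p z.1) ≤ p y.1 := fun t ht => by
      by_contra hty
      obtain ⟨z, hz, hzt⟩ := hc t hty
      exact hzt ((Finset.inf_le (f := fun z : F₀ => p z.1) (Finset.mem_erase.2 ⟨hz, Finset.mem_univ z⟩)) ht)
    obtain ⟨z, hz, hle⟩ := (Ideal.IsPrime.inf_le' (hW.primeIdealOf _).isPrime).1 h1
    have h2 : y.1 = z.1 := z.2 y.1 (specializes_of_le hW _ _ hle)
    exact Finset.ne_of_mem_erase hz (Subtype.ext h2.symm)
  choose t ht ht' using ht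
  refine ⟨∑ y : F₀, t y • s y, fun y hy hyF => ?_⟩
  obtain ⟨w, ⟨hyw, hwmax⟩⟩ := Set.Finite.exists_maximalFor p {w : F | y ⤳ w.1} (Set.toFinite _)
    ⟨⟨y, hyF⟩, specializes_rfl⟩
  have hw₀ : w ∈ F₀ := fun z hwz => by
    have h1 := hwmax (hyw.trans hwz) (le_of_specializes hW _ _ hwz)
    exact Subtype.ext ((specializes_of_le hW _ _ h1).antisymm hwz).eq
  obtain ⟨U, g, hwU, hg⟩ := TwistLib.exists_genOn hL w.1
  choose r hr using fun z => (hg (W ⊓ U) inf_le_right).2 (res L inf_le_left (s z))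
  dsimp only at hr
  have hsum : (∑ z : F₀, X.presheaf.map (homOfLE (inf_le_left : W ⊓ U ≤ W)).op (t z) * r z) •
      res L (inf_le_right : W ⊓ U ≤ U) g = res L inf_le_left (∑ z : F₀, t z • s z) := by
    rw [Finset.sum_smul]
    refine (Finset.sum_congr rfl fun z _ => ?_).trans (map_sum _ _ _).symm
    rw [mul_smul, hr z]
    exact (AmpleLib.res_smul L _ _ _).symm
  rw [genAt_coeff _ hg hsum hy (hyw.mem_open U.2 hwU)]
  refine hyw.mem_open (X.basicOpen _).2 ((X.mem_basicOpen _ w.1 (show w.1 ∈ W ⊓ U from ⟨hFW w.2, hwU⟩)).2 ?_)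
  rw [map_sum, ← Finset.add_sum_erase _ _ (Finset.mem_univ (⟨w, hw₀⟩ : F₀))]
  have hm : ∑ z ∈ Finset.univ.erase (⟨w, hw₀⟩ : F₀), X.presheaf.germ (W ⊓ U) w.1 ⟨hFW w.2, hwU⟩
      (X.presheaf.map (homOfLE (inf_le_left : W ⊓ U ≤ W)).op (t z) * r z) ∈
        IsLocalRing.maximalIdeal (X.presheaf.stalk w.1) :=
    Ideal.sum_mem _ fun z hz => by
      rw [map_mul, MeroLib.germ_res]
      exact Ideal.mul_mem_right _ _ (AssPointLib.germ_mem_maximal hW (hFW w.2)
        (ht' z ⟨w, hw₀⟩ (Finset.ne_of_mem_erase hz).symm))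
  have hu : IsUnit (X.presheaf.germ (W ⊓ U) w.1 ⟨hFW w.2, hwU⟩
      (X.presheaf.map (homOfLE (inf_le_left : W ⊓ U ≤ W)).op (t ⟨w, hw₀⟩) * r ⟨w, hw₀⟩)) := by
    rw [map_mul, MeroLib.germ_res]
    exact (AssPointLib.isUnit_germ hW _ (ht ⟨w, hw₀⟩)).mul
      ((X.mem_basicOpen _ _ _).1 ((genAt_coeff _ hg (hr ⟨w, hw₀⟩) (hFW w.2) hwU).1 (hs ⟨w, hw₀⟩)))
  by_contra h
  exact (show ¬ _ ∈ IsLocalRing.maximalIdeal (X.presheaf.stalk w.1) from fun h' => h' hu)
    ((Ideal.add_mem_iff_left _ hm).1 h)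


/-- Case a): let X be a locally Noetherian scheme such that the set of associated points of O_X (the
points x such that the maximal ideal of O_{X,x} is an associated prime of O_{X,x}) is contained in
an affine open subset of X. Then every invertible O_X-module is isomorphic to O_X(D) for some
divisor D on X; in other words the canonical homomorphism Div(X) → Pic(X) is surjective and Pic(X)
is the group of divisors modulo linear equivalence. -/
theorem result (X : Scheme.{u}) [IsLocallyNoetherian X]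
    (hX : ∃ W : X.Opens, IsAffineOpen W ∧ ∀ x : ↥X,
      IsAssociatedPrime (IsLocalRing.maximalIdeal ↑(X.presheaf.stalk x)) ↑(X.presheaf.stalk x) → x ∈ W)
    (L : X.Modules) (hL : PicF.IsInvertible L) :
    ∃ D : Mero.Divisor X, Nonempty (L ≅ Mero.divMod D) := by
  obtain ⟨W, hW, hWA⟩ := hX
  obtain ⟨σ, hσ⟩ := exists_gen hL hW (MeroLib.finiteWeak_of_locallyNoetherian W hW) fun y hy => hy.1
  obtain ⟨s, hs⟩ := MeroLib.hasRegularMero_of_gen MeroLib.finiteWeak_of_locallyNoetherian hL W σ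
    (fun y hy => hWA y (MeroLib.weak_iff_ass.1 hy)) (fun y hy hw => hσ y hy ⟨hy, hw⟩)
  exact MeroLib.exists_iso_of_regular hL hs


end Groth.Agent.S5088
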