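import Groth.Statements.S5090
import Mathlib.RingTheory.UniqueFactorizationDomain.Kaplansky
import Mathlib.RingTheory.Ideal.KrullsHeightTheorem

set_option autoImplicit false
universe u
open CategoryTheory CategoryTheory.Limits AlgebraicGeometry TopologicalSpace
open Div21

namespace Groth.Agent.S5090

open IsLocalRing

variable {X : Scheme.{u}}

theorem specializes_fromSpecStalk {x : X} (q : PrimeSpectrum (X.presheaf.stalk x)) :
    X.fromSpecStalk x q ⤳ x := by
  have : X.fromSpecStalk x q ∈ Set.range (X.fromSpecStalk x) := ⟨_, rfl⟩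
  rwa [Scheme.range_fromSpecStalk] at this

theorem coheight_fromSpecStalk {x : X} (q : PrimeSpectrum (X.presheaf.stalk x)) :
    Order.coheight (X.fromSpecStalk x q) = q.asIdeal.height := by
  obtain ⟨U, hU, hxU, -⟩ := exists_isAffineOpen_mem_and_subset (x := x) (U := ⊤) trivial
  have e : X.fromSpecStalk x q = hU.fromSpec (Spec.map (X.presheaf.germ U x hxU) q) :=
    (congrArg (fun φ : Spec (X.presheaf.stalk x) ⟶ X => φ q) (hU.fromSpecStalk_eq_fromSpecStalk hxU)).symm
  rw [e, coheight_eq_of_isOpenImmersion, ← idealHeight_eq_coheight]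
  let _hA := TopCat.Presheaf.algebra_section_stalk X.presheaf (⟨x, hxU⟩ : U)
  haveI := hU.isLocalization_stalk ⟨x, hxU⟩
  exact IsLocalization.height_under (hU.primeIdealOf ⟨x, hxU⟩).asIdeal.primeCompl q.asIdeal

/-- The prime of the local ring at `x` attached to a generization is the preimage of the maximal
ideal of the local ring of the generization. -/
theorem comap_stalkSpecializes {x : X} (q : PrimeSpectrum (X.presheaf.stalk x))
    (h : X.fromSpecStalk x q ⤳ x) :
    (maximalIdeal (X.presheaf.stalk (X.fromSpecStalk x q))).comap (X.presheaf.stalkSpecializes h).hom =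
      q.asIdeal := by
  have e : Spec.map (X.presheaf.stalkSpecializes h) (closedPoint _) = q := by
    refine (X.fromSpecStalk x).isEmbedding.injective ?_
    show (Spec.map (X.presheaf.stalkSpecializes h) ≫ X.fromSpecStalk x) (closedPoint _) = _
    rw [Scheme.SpecMap_stalkSpecializes_fromSpecStalk, Scheme.fromSpecStalk_closedPoint]
  exact congrArg PrimeSpectrum.asIdeal e

theorem height_eq_ringKrullDim {x : X} (q : PrimeSpectrum (X.presheaf.stalk x)) :
    ringKrullDim (X.presheaf.stalk (X.fromSpecStalk x q)) = (q.asIdeal.height : WithBot ℕ∞) := by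
  rw [ringKrullDim_stalk_eq_coheight, coheight_fromSpecStalk]

/-- The local algebra: height one primes principal and regular forces a factorial domain. -/
theorem ufd_of_height_one {A : Type*} [CommRing A] [IsLocalRing A] [IsNoetherianRing A]
    (hA : ∀ q : Ideal A, q.IsPrime → q.height = 1 → ∃ t ∈ nonZeroDivisors A, q = Ideal.span {t})
    (hpos : (maximalIdeal A).height ≠ 0) : ∃ _ : IsDomain A, UniqueFactorizationMonoid A := by
  obtain ⟨r, hr, hrmin⟩ : ∃ r ∈ maximalIdeal A, ∀ P ∈ minimalPrimes A, r ∉ P := by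
    by_contra hc
    push Not at hc
    have hsub : ((maximalIdeal A : Ideal A) : Set A) ⊆ ⋃ P ∈ ((minimalPrimes.finite_of_isNoetherianRing A).toFinset : Set (Ideal A)), (P : Set A) :=
      fun r hr => by
        obtain ⟨P, hP, hrP⟩ := hc r hr
        exact Set.mem_biUnion (by simpa using hP) hrP
    obtain ⟨P, hP, hle⟩ := (Ideal.subset_union_prime ⊥ ⊥ fun P hP _ _ =>
      ((Set.Finite.mem_toFinset _).1 hP).1.1).1 hsub
    have hP' := (Set.Finite.mem_toFinset _).1 hP
    haveI := hP'.1.1
    have e : P = maximalIdeal A := le_antisymm (le_maximalIdeal hP'.1.1.ne_top) hle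
    exact hpos (Ideal.height_eq_zero_iff.2 (e ▸ hP'))
  obtain ⟨p, hp, hple⟩ := Ideal.exists_minimalPrimes_le
    ((Ideal.span_singleton_le_iff_mem (maximalIdeal A)).2 hr)
  haveI : p.IsPrime := hp.1.1
  have hrp : r ∈ p := hp.1.2 (Ideal.mem_span_singleton_self r)
  have hp1 : p.height = 1 := by
    refine le_antisymm (Ideal.height_le_one_of_isPrincipal_of_mem_minimalPrimes (Ideal.span {r}) p hp) ?_
    rw [ENat.one_le_iff_ne_zero]
    exact fun h0 => hrmin p (Ideal.height_eq_zero_iff.1 h0) hrp
  obtain ⟨t, ht, hpt⟩ := hA p inferInstance hp1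
  obtain ⟨q, hq, hqp⟩ := Ideal.exists_minimalPrimes_le (bot_le (a := p))
  haveI : q.IsPrime := hq.1.1
  have htq : t ∉ q := fun h => by
    have : p ≤ q := hpt.trans_le ((Ideal.span_singleton_le_iff_mem q).2 h)
    exact hrmin q hq (this hrp)
  have hqbot : q = ⊥ := by
    refine Submodule.eq_bot_of_le_smul_of_le_jacobson_bot (Ideal.span {t}) q (IsNoetherian.noetherian q) ?_ ?_
    · intro a ha
      obtain ⟨b, rfl⟩ := Ideal.mem_span_singleton'.1 (hpt ▸ hqp ha)
      have hb : b ∈ q := (‹q.IsPrime›.mem_or_mem ha).resolve_right htq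
      rw [mul_comm]
      exact Submodule.smul_mem_smul (Ideal.mem_span_singleton_self t) hb
    · rw [IsLocalRing.jacobson_eq_maximalIdeal ⊥ bot_ne_top, ← hpt]
      exact hple
  haveI : (⊥ : Ideal A).IsPrime := hqbot ▸ inferInstance
  haveI hd : IsDomain A := (Ideal.Quotient.isDomain_iff_prime (⊥ : Ideal A)).2 inferInstance |>
    fun h => (RingEquiv.quotientBot A).symm.toMulEquiv.isDomain (A ⧸ (⊥ : Ideal A))
  refine ⟨hd, UniqueFactorizationMonoid.iff_exists_prime_mem_of_isPrime.2 fun P hP hPp => ?_⟩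
  obtain ⟨a, ha, ha0⟩ := Submodule.exists_mem_ne_zero_of_ne_bot hP
  obtain ⟨Q, hQ, hQle⟩ := Ideal.exists_minimalPrimes_le ((Ideal.span_singleton_le_iff_mem P).2 ha)
  haveI : Q.IsPrime := hQ.1.1
  have haQ : a ∈ Q := hQ.1.2 (Ideal.mem_span_singleton_self a)
  have hQ1 : Q.height = 1 := by
    refine le_antisymm (Ideal.height_le_one_of_isPrincipal_of_mem_minimalPrimes (Ideal.span {a}) Q hQ) ?_
    rw [ENat.one_le_iff_ne_zero]
    intro h0
    rw [Ideal.height_eq_zero_iff, IsDomain.minimalPrimes_eq_singleton_bot] at h0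
    exact ha0 (by rwa [Set.mem_singleton_iff.1 h0, Ideal.mem_bot] at haQ)
  obtain ⟨π, hπ, hQπ⟩ := hA Q inferInstance hQ1
  exact ⟨π, hQle (hQπ ▸ Ideal.mem_span_singleton_self π),
    (Ideal.span_singleton_prime (nonZeroDivisors.ne_zero hπ)).1 (hQπ ▸ inferInstance)⟩

/-- A maximal and minimal prime of a Noetherian ring is an isolated point of the spectrum. -/
theorem isOpen_singleton_of_maximal_minimal {R : Type*} [CommRing R] [IsNoetherianRing R]
    (p : PrimeSpectrum R) (hmax : p.asIdeal.IsMaximal) (hmin : p.asIdeal ∈ minimalPrimes R) :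
    IsOpen ({p} : Set (PrimeSpectrum R)) := by
  have hfin := (minimalPrimes.finite_of_isNoetherianRing R).subset (Set.sep_subset _ fun P => P ≠ p.asIdeal)
  let J : Ideal R := ∏ P ∈ hfin.toFinset, P
  have hJ : ¬ J ≤ p.asIdeal := by
    intro h
    obtain ⟨P, hP, hle⟩ := (p.isPrime.prod_le).1 h
    have hP' := hfin.mem_toFinset.1 hP
    exact hP'.2 (le_antisymm hle (hmin.2 hP'.1.1 hle))
  obtain ⟨f, hfJ, hfp⟩ := SetLike.not_le_iff_exists.1 hJ
  have e : ({p} : Set (PrimeSpectrum R)) = PrimeSpectrum.basicOpen f := by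
    ext q
    simp only [Set.mem_singleton_iff, SetLike.mem_coe, PrimeSpectrum.mem_basicOpen]
    refine ⟨fun h => h ▸ hfp, fun hfq => ?_⟩
    obtain ⟨P, hP, hPq⟩ := Ideal.exists_minimalPrimes_le (bot_le (a := q.asIdeal))
    by_cases hPp : P = p.asIdeal
    · exact PrimeSpectrum.ext (hmax.eq_of_le q.isPrime.ne_top (hPp ▸ hPq)).symm
    · exact absurd (hPq ((Ideal.prod_le_inf.trans (Finset.inf_le (f := fun P : Ideal R => P) (hfin.mem_toFinset.2 ⟨hP, hPp⟩))) hfJ)) hfq
  rw [e]
  exact (PrimeSpectrum.basicOpen f).2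

/-- Smaller primes of a domain localization give domain localizations. -/
theorem isDomain_atPrime_of_le {R : Type*} [CommRing R] (p m : Ideal R) [p.IsPrime] [m.IsPrime] (hpm : p ≤ m)
    (S T : Type*) [CommRing S] [Algebra R S] [IsLocalization.AtPrime S m] [IsDomain S]
    [CommRing T] [Algebra R T] [IsLocalization.AtPrime T p] : IsDomain T := by
  haveI : Nontrivial T := IsLocalization.AtPrime.nontrivial T p
  haveI : NoZeroDivisors T := ⟨fun {a b} hab => by
    obtain ⟨a, s, rfl⟩ := IsLocalization.exists_mk'_eq p.primeCompl a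
    obtain ⟨b, t, rfl⟩ := IsLocalization.exists_mk'_eq p.primeCompl b
    rw [← IsLocalization.mk'_mul, IsLocalization.mk'_eq_zero_iff] at hab
    obtain ⟨c, hc⟩ := hab
    have hc0 : algebraMap R S c ≠ 0 := fun h => by
      obtain ⟨d, hd⟩ := (IsLocalization.map_eq_zero_iff m.primeCompl S _).1 h
      exact ((‹p.IsPrime›.mem_or_mem (hd ▸ p.zero_mem : (d : R) * (c : R) ∈ p)).elim
        (fun h => d.2 (hpm h)) (fun h => c.2 h))
    have := congrArg (algebraMap R S) hc
    rw [map_mul, map_mul, map_zero, mul_eq_zero, mul_eq_zero] at this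
    rcases this.resolve_left hc0 with h | h
    · left
      obtain ⟨d, hd⟩ := (IsLocalization.map_eq_zero_iff m.primeCompl S _).1 h
      exact (IsLocalization.mk'_eq_zero_iff _ _).2 ⟨⟨d, fun h => d.2 (hpm h)⟩, hd⟩
    · right
      obtain ⟨d, hd⟩ := (IsLocalization.map_eq_zero_iff m.primeCompl S _).1 h
      exact (IsLocalization.mk'_eq_zero_iff _ _).2 ⟨⟨d, fun h => d.2 (hpm h)⟩, hd⟩⟩
  exact NoZeroDivisors.to_isDomain T

theorem ufd_stalk [IsLocallyNoetherian X]
    (hred : ∀ x : X, IsOpen ({x} : Set X) → IsReduced (X.presheaf.stalk x))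
    (H : ∀ ζ : X, ringKrullDim (X.presheaf.stalk ζ) = 1 → ∀ (x : X) (h : ζ ⤳ x),
        ∃ t : X.presheaf.stalk x, t ∈ nonZeroDivisors (X.presheaf.stalk x) ∧
          (maximalIdeal (X.presheaf.stalk ζ)).comap (X.presheaf.stalkSpecializes h).hom = Ideal.span {t})
    (x : X) : ∃ _ : IsDomain (X.presheaf.stalk x), UniqueFactorizationMonoid (X.presheaf.stalk x) := by
  have key : ∀ y : X, (maximalIdeal (X.presheaf.stalk y)).height ≠ 0 →
      ∃ _ : IsDomain (X.presheaf.stalk y), UniqueFactorizationMonoid (X.presheaf.stalk y) := fun y hy =>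
    ufd_of_height_one (fun q hq hq1 => by
      let Q : PrimeSpectrum (X.presheaf.stalk y) := ⟨q, hq⟩
      obtain ⟨t, ht, e⟩ := H _ (by rw [height_eq_ringKrullDim Q, hq1]; rfl) y (specializes_fromSpecStalk Q)
      exact ⟨t, ht, (comap_stalkSpecializes Q _).symm.trans e⟩) hy
  by_cases hx : (maximalIdeal (X.presheaf.stalk x)).height = 0
  swap
  · exact key x hx
  haveI : Ring.KrullDimLE 0 (X.presheaf.stalk x) := by
    rw [Ring.krullDimLE_iff, ← IsLocalRing.maximalIdeal_height_eq_ringKrullDim, hx]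
    rfl
  suffices h : IsReduced (X.presheaf.stalk x) by
    haveI : IsArtinianRing (X.presheaf.stalk x) := isArtinianRing_iff_isNoetherianRing_krullDimLE_zero.2 ⟨inferInstance, inferInstance⟩
    letI := (IsArtinianRing.isField_of_isReduced_of_isLocalRing (X.presheaf.stalk x)).toField
    exact ⟨inferInstance, inferInstance⟩
  obtain ⟨U, hU, hxU, -⟩ := exists_isAffineOpen_mem_and_subset (x := x) (U := ⊤) trivial
  haveI : IsNoetherianRing Γ(X, U) := IsLocallyNoetherian.component_noetherian ⟨U, hU⟩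
  letI := TopCat.Presheaf.algebra_section_stalk X.presheaf (⟨x, hxU⟩ : U)
  haveI hloc := hU.isLocalization_stalk ⟨x, hxU⟩
  let p := hU.primeIdealOf ⟨x, hxU⟩
  obtain ⟨m, hm, hpm⟩ := Ideal.exists_le_maximal p.asIdeal p.isPrime.ne_top
  have hpmin : p.asIdeal ∈ minimalPrimes Γ(X, U) := by
    rw [← Ideal.height_eq_zero_iff, ← hx]
    have := IsLocalization.height_under p.asIdeal.primeCompl (maximalIdeal (X.presheaf.stalk x))
    rwa [IsLocalization.AtPrime.comap_maximalIdeal (X.presheaf.stalk x) p.asIdeal] at this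
  by_cases hmp : m = p.asIdeal
  · refine hred x ?_
    have ho := isOpen_singleton_of_maximal_minimal p (hmp ▸ hm) hpmin
    have := hU.fromSpec.isOpenEmbedding.isOpenMap _ ho
    have e : hU.fromSpec '' ({p} : Set (PrimeSpectrum Γ(X, U))) = {x} := by
      ext z
      constructor
      · rintro ⟨w, rfl, rfl⟩; exact hU.fromSpec_primeIdealOf _
      · rintro rfl; exact ⟨p, rfl, hU.fromSpec_primeIdealOf _⟩
    exact e ▸ this
  · let y : X := hU.fromSpec ⟨m, hm.isPrime⟩
    have hyU : y ∈ U := hU.range_fromSpec.le ⟨_, rfl⟩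
    letI := TopCat.Presheaf.algebra_section_stalk X.presheaf (⟨y, hyU⟩ : U)
    haveI hlocy : IsLocalization.AtPrime (X.presheaf.stalk y) m :=
      hU.isLocalization_stalk' ⟨m, hm.isPrime⟩ hyU
    have hy : (maximalIdeal (X.presheaf.stalk y)).height ≠ 0 := by
      intro h0
      have := IsLocalization.height_under m.primeCompl (maximalIdeal (X.presheaf.stalk y))
      rw [IsLocalization.AtPrime.comap_maximalIdeal (X.presheaf.stalk y) m, h0, Ideal.height_eq_zero_iff] at this
      exact hmp (le_antisymm (this.2 hpmin.1 hpm) hpm)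
    obtain ⟨hd, -⟩ := key y hy
    haveI := hd
    haveI := isDomain_atPrime_of_le p.asIdeal m hpm (X.presheaf.stalk y) (X.presheaf.stalk x)
    infer_instance


/-- Equivalence of conditions a'') and c): let X be a locally Noetherian scheme which is reduced at each
of its isolated points (for every point x such that {x} is open, the local ring O_{X,x} is reduced).
Then the following are equivalent. (a'') Every integral closed subscheme of X of codimension 1 is
regularly immersed in X: for every point ζ whose local ring has dimension 1 and every specialization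
x of ζ, the ideal of O_{X,x} defining the closure of ζ with its reduced structure (the preimage of
the maximal ideal of O_{X,ζ} under the specialization map) is generated by one non-zero-divisor of
O_{X,x}. (c) X is locally factorial: every local ring of X is a unique factorisation domain. -/
theorem result (X : Scheme.{u}) [IsLocallyNoetherian X]
    (hred : ∀ x : ↥X, IsOpen ({x} : Set ↥X) → IsReduced ↑(X.presheaf.stalk x)) :
    (∀ ζ : ↥X, ringKrullDim ↑(X.presheaf.stalk ζ) = 1 → ∀ (x : ↥X) (h : ζ ⤳ x),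
        ∃ t : ↑(X.presheaf.stalk x), t ∈ nonZeroDivisors ↑(X.presheaf.stalk x) ∧
          (IsLocalRing.maximalIdeal ↑(X.presheaf.stalk ζ)).comap (X.presheaf.stalkSpecializes h).hom =
            Ideal.span {t}) ↔
      ∀ x : ↥X, ∃ _ : IsDomain ↑(X.presheaf.stalk x), UniqueFactorizationMonoid ↑(X.presheaf.stalk x) := by
  refine ⟨fun H x => ufd_stalk hred H x, fun h ζ hζ x hζx => ?_⟩
  obtain ⟨hd, hu⟩ := h x
  obtain ⟨q, rfl⟩ : ∃ q, X.fromSpecStalk x q = ζ := X.range_fromSpecStalk.ge hζx
  rw [height_eq_ringKrullDim q] at hζ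
  have hq1 : q.asIdeal.height = 1 := WithBot.coe_injective hζ
  rw [comap_stalkSpecializes q hζx]
  have hne : q.asIdeal ≠ ⊥ := fun e => by rw [e, Ideal.height_bot] at hq1; exact zero_ne_one hq1
  obtain ⟨t, htq, ht⟩ := UniqueFactorizationMonoid.iff_exists_prime_mem_of_isPrime.1 hu q.asIdeal hne q.isPrime
  refine ⟨t, mem_nonZeroDivisors_of_ne_zero ht.ne_zero, ?_⟩
  haveI : (Ideal.span {t}).IsPrime := (Ideal.span_singleton_prime ht.ne_zero).2 ht
  by_contra hc
  have hlt : Ideal.span {t} < q.asIdeal :=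
    lt_of_le_of_ne ((Ideal.span_singleton_le_iff_mem _).2 htq) (Ne.symm hc)
  have h2 := Ideal.height_strict_mono_of_isPrime hlt
  rw [hq1, ENat.lt_one_iff_eq_zero, Ideal.height_eq_zero_iff, IsDomain.minimalPrimes_eq_singleton_bot,
    Set.mem_singleton_iff, Ideal.span_singleton_eq_bot] at h2
  exact ht.ne_zero h2

end Groth.Agent.S5090
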