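import Groth.Statements.S5091
import Groth.Agent.MeroLib.Finite
import Groth.Agent.MeroLib.DepthTwo

-- import your own Groth.Agent.* helpers here

set_option autoImplicit false
universe u
open CategoryTheory CategoryTheory.Limits AlgebraicGeometry TopologicalSpace
open Div21

namespace Groth.Agent.S5091



/-- Let X be a locally Noetherian scheme, Y a closed subset and U = X − Y, with j : U → X the inclusion.
Then O_X → j_*O_U is injective — restriction of functions from every open V to V ∩ U is injective,
i.e. U is schematically dense in X — if and only if the local ring of X at every point of Y has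
depth at least 1. -/
theorem result (X : Scheme.{u}) [IsLocallyNoetherian X] (U : X.Opens) :
    CInt.IsSchematicallyDense U ↔
      ∀ x : ↥X, x ∉ U → (1 : ℕ∞) ≤ LocCoh.depth ↑(X.presheaf.stalk x) ↑(X.presheaf.stalk x) := by
  constructor
  · intro h x hx
    refine ZClosLib.depth_ge_one_iff.2 fun hass => hx ?_
    exact MeroLib.weak_mem_of_dense (U := ⊤) (MeroLib.finiteWeak_of_locallyNoetherian) (fun W _ => h W) trivial
      (MeroLib.weak_iff_ass.2 hass)
  · intro h V a b hab
    refine MeroLib.eq_of_weak a b fun y hy hw => ?_
    have hyU : y ∈ U := by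
      by_contra hyU
      exact (ZClosLib.depth_ge_one_iff.1 (h y hyU)) (MeroLib.weak_iff_ass.1 hw)
    rw [← MeroLib.germ_res (inf_le_left : V ⊓ U ≤ V) a y ⟨hy, hyU⟩, hab, MeroLib.germ_res]


end Groth.Agent.S5091
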