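import Groth.Statements.S5097
import Groth.Agent.MeroLib.DivMod

-- import your own Groth.Agent.* helpers here

set_option autoImplicit false
universe u
open CategoryTheory CategoryTheory.Limits AlgebraicGeometry TopologicalSpace
open Mero

namespace Groth.Agent.S5097



/-- Injectivity of the canonical homomorphism from divisors to invertible fractional ideals: let X be a
scheme and D, D' two divisors on X such that, over every open subset U, a section t of the sheaf of
meromorphic functions lies in O_X(D) (t_x · g ∈ O_{X,x} for a representative g of the germ of D at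
x, for all x in U) if and only if it lies in O_X(D'). Then D = D'. -/
theorem result (X : Scheme.{u}) (D D' : Mero.Divisor X)
    (h : ∀ (U : X.Opens) (t : Γ(Mero.kmod X, U)),
      (∀ x : ↥U, Mero.DivCond D x.1 (t.1 x)) ↔ (∀ x : ↥U, Mero.DivCond D' x.1 (t.1 x))) :
    D = D' := by
  refine Subtype.ext (funext fun x => ?_)
  obtain ⟨U, hx, f, hf⟩ := D.2 x
  obtain ⟨U', hx', f', hf'⟩ := D'.2 x
  have h1 := (h U (MeroLib.toKmod (MeroLib.gen f hf))).1
    (fun y => MeroLib.dcond (MeroLib.gen f hf) y.1 y.2) ⟨x, hx⟩ _ (hf' ⟨x, hx'⟩)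
  have h2 := (h U' (MeroLib.toKmod (MeroLib.gen f' hf'))).2
    (fun y => MeroLib.dcond (MeroLib.gen f' hf') y.1 y.2) ⟨x, hx'⟩ _ (hf ⟨x, hx⟩)
  obtain ⟨r, hr⟩ := h1
  obtain ⟨r', hr'⟩ := h2
  change D.1 x = D'.1 x
  rw [hf ⟨x, hx⟩, hf' ⟨x, hx'⟩]
  refine QuotientGroup.eq.2 ?_
  rw [← QuotientGroup.eq_one_iff, MeroLib.mk_eq_one_iff]
  have hrr : r * r' = 1 := by
    refine Mero.algebraMap_KStalk_injective x ?_
    rw [map_mul, hr, hr', map_one]
    change (MeroLib.val ((f⁻¹ : (Γ(Mero.kmod X, U))ˣ) : Γ(Mero.kmod X, U)) x hx * MeroLib.val (f' : Γ(Mero.kmod X, U')) x hx') *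
      (MeroLib.val ((f'⁻¹ : (Γ(Mero.kmod X, U'))ˣ) : Γ(Mero.kmod X, U')) x hx' * MeroLib.val (f : Γ(Mero.kmod X, U)) x hx) = 1
    rw [mul_assoc, ← mul_assoc (MeroLib.val (f' : Γ(Mero.kmod X, U')) x hx'), MeroLib.val_mul_inv, one_mul,
      mul_comm, MeroLib.val_mul_inv]
  exact ⟨⟨r, r', hrr, (mul_comm _ _).trans hrr⟩, hr⟩


end Groth.Agent.S5097
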