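import Groth.Statements.S5098
import Groth.Agent.MeroLib.DepthTwo

-- import your own Groth.Agent.* helpers here

set_option autoImplicit false
universe u
open CategoryTheory CategoryTheory.Limits AlgebraicGeometry TopologicalSpace
open Mero

namespace Groth.Agent.S5098




/-- General form, for divisors on a scheme that need not be integral: let X be a locally Noetherian
scheme and D a divisor on X. If the germ of D is effective (resp. trivial) at every point x whose
local ring O_{X,x} has depth 1, then D is effective (resp. D is the unit divisor, in the
multiplicative notation used here). -/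
theorem result (X : Scheme.{u}) [IsLocallyNoetherian X] (D : Mero.Divisor X) :
    ((∀ x : ↥X, LocCoh.depth ↑(X.presheaf.stalk x) ↑(X.presheaf.stalk x) = 1 → Mero.IsEffectiveAt D x) →
        Mero.IsEffective D) ∧
      ((∀ x : ↥X, LocCoh.depth ↑(X.presheaf.stalk x) ↑(X.presheaf.stalk x) = 1 → D.1 x = 1) → D = 1) := by
  refine ⟨MeroLib.isEffective_of_depth_one D, fun h => Subtype.ext (funext fun x₀ => by_contra fun hx₀ => ?_)⟩
  obtain ⟨x, -, hx, hmax⟩ := MeroLib.exists_maximal (S := {x | D.1 x ≠ 1}) hx₀
  exact hx (h x (MeroLib.depth_eq_one_of_maximal D hx fun z hz hzx => hmax z hz hzx))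


end Groth.Agent.S5098
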