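import Groth.Statements.S5102
import Groth.Agent.MeroLib.DivMod
import Groth.Agent.TwistLib.PullGen
import Groth.Agent.QCohLib.Modules

-- import your own Groth.Agent.* helpers here

set_option autoImplicit false
universe u
open CategoryTheory CategoryTheory.Limits AlgebraicGeometry TopologicalSpace
open Mero

namespace Groth.Agent.S5102

open MeroLib Opposite in
open AmpleLib (GenOn res) in
theorem app_res {X : Scheme.{u}} {M N : X.Modules} (φ : M ⟶ N) {U V : X.Opens} (h : V ≤ U) (x : Γ(M, U)) :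
    φ.app V (res M h x) = res N h (φ.app U x) :=
  ConcreteCategory.congr_hom (φ.mapPresheaf.naturality (homOfLE h).op) x

open MeroLib Opposite in
open AmpleLib (GenOn res) in
theorem app_smul_res {X : Scheme.{u}} {J : X.Modules} (ι : J ⟶ Mero.kmod X) {U V : X.Opens} (h : V ≤ U)
    (r : Γ(X, V)) (x : Γ(J, U)) :
    ι.app V (r • res J h x) = Mero.toK X V r * (Mero.kmod X).presheaf.map (homOfLE h).op (ι.app U x) := by
  rw [Scheme.Modules.Hom.app_smul, app_res, smul_eq_toK_mul]

open MeroLib Opposite in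
open AmpleLib (GenOn res) in
theorem of_gen {X : Scheme.{u}} (J : X.Modules) (ι : J ⟶ Mero.kmod X) [Mono ι] (x : X) (U : X.Opens)
    (e : Γ(J, U)) (hxU : x ∈ U) (he : GenOn J e) :
    ∃ (W : X.Opens) (_ : x ∈ W) (f : (Γ(Mero.kmod X, W))ˣ), ∀ (V : X.Opens) (hV : V ≤ W),
        Set.range ⇑(ι.val.app (op V)) =
          {t : Γ(Mero.kmod X, V) | ∃ r : Γ(X, V),
            t = Mero.toK X V r * (Mero.kmod X).presheaf.map (homOfLE hV).op (f : Γ(Mero.kmod X, W))} := by
  obtain ⟨W, hW, a, b, hxW, hab⟩ := exists_frac (ι.app U e) hxU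
  have hφ : (Mero.kmod X).presheaf.map (homOfLE hW).op (ι.app U e) = fracSec a b :=
    MeroLib.ext fun y hy => by rw [val_res, hab y hy, val_fracSec]
  have ha : a ∈ Mero.regSub X W := fun y => by
    refine mem_nonZeroDivisors_iff_right.2 fun c hc => ?_
    obtain ⟨O, hyO, c', rfl⟩ := X.presheaf.exists_germ_eq (x := y.1) c
    let O₁ := O ⊓ W
    have h₁ : y.1 ∈ O₁ := ⟨hyO, y.2⟩
    let p : Γ(X, O₁) := X.presheaf.map (homOfLE (inf_le_left : O₁ ≤ O)).op c' *
      X.presheaf.map (homOfLE (inf_le_right : O₁ ≤ W)).op a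
    obtain ⟨O₂, h₂, _, hyO₂, hz⟩ := exists_nhd_eq h₁ h₁ p 0
      (by rw [map_mul, MeroLib.germ_res, MeroLib.germ_res, map_zero]; exact hc)
    have hW' : O₂ ≤ W := h₂.trans inf_le_right
    let c₂ : Γ(X, O₂) := X.presheaf.map (homOfLE (h₂.trans inf_le_left : O₂ ≤ O)).op c'
    have h0 : c₂ • res J (hW'.trans hW) e = 0 := by
      refine QCohLib.app_injective_of_mono ι O₂ ?_
      rw [map_zero, app_smul_res ι (hW'.trans hW)]
      refine MeroLib.ext fun z hz' => ?_
      simp only [val, map_mul, map_zero]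
      change val (Mero.toK X O₂ c₂) z hz' * val (ι.app U e) z (hW (hW' hz')) = 0
      rw [hab z (hW' hz'), val_toK, frac, IsLocalization.mul_mk'_eq_mk'_of_mul]
      refine (frac_eq_zero_iff _ _).2 ?_
      have := hz z hz'
      rw [map_mul, MeroLib.germ_res, MeroLib.germ_res, map_zero] at this
      rw [MeroLib.germ_res]
      exact this
    have h3 : c₂ = 0 := (he O₂ (hW'.trans hW)).1 (h0.trans (zero_smul _ _).symm)
    have h4 := congrArg (X.presheaf.germ O₂ y.1 hyO₂) h3
    rw [MeroLib.germ_res, map_zero] at h4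
    exact h4
  have hu : IsUnit (fracSec a b) := by
    have := isUnit_toK (⟨a, ha⟩ : Mero.regSub X W)
    rw [← fracSec_mul a b] at this
    exact isUnit_of_mul_isUnit_left this
  refine ⟨W, hxW, hu.unit, fun V hV => ?_⟩
  have hval : ∀ r : Γ(X, V), ι.app V (r • res J (hV.trans hW) e) =
      Mero.toK X V r * (Mero.kmod X).presheaf.map (homOfLE hV).op (hu.unit : Γ(Mero.kmod X, W)) := fun r => by
    rw [app_smul_res, IsUnit.unit_spec, ← hφ]
    rfl
  refine Set.ext fun t => ⟨?_, ?_⟩
  · rintro ⟨s, rfl⟩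
    obtain ⟨r, hr⟩ := (he V (hV.trans hW)).2 s
    refine ⟨r, ?_⟩
    rw [← hval r, ← hr]
    rfl
  · rintro ⟨r, rfl⟩
    exact ⟨r • res J (hV.trans hW) e, hval r⟩

open MeroLib Opposite in
open AmpleLib (GenOn res) in
theorem to_gen {X : Scheme.{u}} (J : X.Modules) (ι : J ⟶ Mero.kmod X) [Mono ι] (U : X.Opens)
    (f : (Γ(Mero.kmod X, U))ˣ)
    (hf : ∀ (V : X.Opens) (hV : V ≤ U),
        Set.range ⇑(ι.val.app (op V)) =
          {t : Γ(Mero.kmod X, V) | ∃ r : Γ(X, V),
            t = Mero.toK X V r * (Mero.kmod X).presheaf.map (homOfLE hV).op (f : Γ(Mero.kmod X, U))}) :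
    ∃ e : Γ(J, U), GenOn J e := by
  have h1 : (f : Γ(Mero.kmod X, U)) ∈ Set.range ⇑(ι.val.app (op U)) := by
    rw [hf U le_rfl]
    exact ⟨1, by rw [map_one, one_mul]; exact (MeroLib.ext fun _ _ => rfl)⟩
  obtain ⟨e, he⟩ := h1
  refine ⟨e, fun V hV => ?_⟩
  have hval : ∀ r : Γ(X, V), ι.app V (r • res J hV e) =
      Mero.toK X V r * (Mero.kmod X).presheaf.map (homOfLE hV).op (f : Γ(Mero.kmod X, U)) := fun r => by
    rw [app_smul_res, ← he]
    rfl
  refine ⟨fun r r' h => toK_injective V ?_, fun t => ?_⟩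
  · have h2 := congrArg (ι.app V) h
    simp only [hval] at h2
    refine MeroLib.ext fun x hx => (f.isUnit.map (Mero.evalK X U ⟨x, hV hx⟩)).mul_left_injective ?_
    have h3 := congrArg (fun t => val t x hx) h2
    simp only [val, map_mul] at h3
    exact h3
  · have h2 : ι.app V t ∈ Set.range ⇑(ι.val.app (op V)) := ⟨t, rfl⟩
    rw [hf V hV] at h2
    obtain ⟨r, hr⟩ := h2
    exact ⟨r, QCohLib.app_injective_of_mono ι V ((hval r).trans hr.symm)⟩


/-- Let X be a scheme and J a fractional ideal, i.e. a sub-O_X-module of the sheaf of meromorphic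
functions K_X (given by a monomorphism J → K_X). Then J is an invertible O_X-module if and only if
every point of X has an open neighbourhood U together with a unit f of the ring Γ(U, K_X) such that
J|_U = O_U · f: over every open subset V of U, the sections of J are exactly the r · f|_V with r a
function on V. -/
theorem result (X : Scheme.{u}) (J : X.Modules)
    (ι : J ⟶ Mero.kmod X) [Mono ι] :
    PicF.IsInvertible J ↔ ∀ x : ↥X, ∃ (U : X.Opens) (_ : x ∈ U) (f : (Γ(Mero.kmod X, U))ˣ),
      ∀ (V : X.Opens) (hV : V ≤ U),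
        Set.range ⇑(ι.val.app (Opposite.op V)) =
          {t : Γ(Mero.kmod X, V) | ∃ r : Γ(X, V),
            t = Mero.toK X V r * (Mero.kmod X).presheaf.map (homOfLE hV).op (f : Γ(Mero.kmod X, U))} := by
  refine ⟨fun h x => ?_, fun h => ?_⟩
  · obtain ⟨U, e, hxU, he⟩ := TwistLib.exists_genOn h x
    exact of_gen J ι x U e hxU he
  · choose U hx f hf using h
    choose e he using fun x => to_gen J ι (U x) (f x) (hf x)
    exact TwistLib.isInvertible_of_genOn U (fun x => ⟨x, hx x⟩) e he


end Groth.Agent.S5102
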