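import Groth.Statements.S5107
import Groth.Agent.AssPointLib.Dense
import Groth.Agent.DivDescLib.Local
import Groth.Agent.CycLimLib.Basic
import Groth.Agent.RichLib.LimStalk
import Groth.Agent.S3844
-- import your own Groth.Agent.* helpers here

set_option autoImplicit false
set_option backward.isDefEq.respectTransparency false
set_option linter.all false
universe u
open CategoryTheory CategoryTheory.Limits AlgebraicGeometry TopologicalSpace
open Lim8

namespace Groth.Agent.S5107

open CategoryTheory CategoryTheory.Limits AlgebraicGeometry TopologicalSpace IsLocalRing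

/-- The maximal ideal of the local ring is associated to it. -/
abbrev IsAss {X : Scheme.{u}} (x : X) : Prop :=
  IsAssociatedPrime (maximalIdeal (X.presheaf.stalk x)) (X.presheaf.stalk x)

theorem finite_ass (X : Scheme.{u}) [IsNoetherian X] : {x : X | IsAss x}.Finite := by
  obtain ⟨S, hS⟩ := (isCompact_univ (X := X)).elim_finite_subcover
    (fun V : X.affineOpens => (V.1 : Set X)) (fun V => V.1.2) (fun x _ => by
      obtain ⟨V, hV, hxV, -⟩ := exists_isAffineOpen_mem_and_subset (x := x) (U := ⊤) (Set.mem_univ _)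
      exact Set.mem_iUnion.mpr ⟨⟨V, hV⟩, hxV⟩)
  have hsub : {x : X | IsAss x} ⊆ ⋃ V ∈ (S : Set X.affineOpens), {x : X | x ∈ V.1 ∧ IsAss x} := fun x hx => by
    obtain ⟨V, hV, hxV⟩ := Set.mem_iUnion₂.mp (hS (Set.mem_univ x))
    exact Set.mem_biUnion hV ⟨hxV, hx⟩
  refine (S.finite_toSet.biUnion fun V _ => ?_).subset hsub
  haveI := IsLocallyNoetherian.component_noetherian (X := X) V
  refine (((associatedPrimes.finite Γ(X, V.1) Γ(X, V.1)).preimage
    (f := PrimeSpectrum.asIdeal) (fun p _ q _ h => PrimeSpectrum.ext h)).image V.2.fromSpec).subset ?_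
  rintro x ⟨hxV, hx⟩
  exact ⟨V.2.primeIdealOf ⟨x, hxV⟩, (AssPointLib.assStalk_iff V.2 hxV).mp hx, V.2.fromSpec_primeIdealOf _⟩

/-- An associated point outside a dense open is not in the image of a flat morphism. -/
theorem not_dense_of_ass {X Y : Scheme.{u}} [IsLocallyNoetherian X] [IsLocallyNoetherian Y] (f : Y ⟶ X) [Flat f]
    (U : X.Opens) (hU : CInt.IsSchematicallyDense (f ⁻¹ᵁ U)) (x : Y) (ha : IsAss (f x)) : f x ∈ U := by
  by_contra hxU
  obtain ⟨V, hV, hxV⟩ := QCohLib.exists_affine_nhd (f x)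
  haveI := IsLocallyNoetherian.component_noetherian (X := X) ⟨V, hV⟩
  obtain ⟨hp, s, hs⟩ := isAssociatedPrime_iff.mp ((AssPointLib.assStalk_iff hV hxV).mp ha)
  have hmem : ∀ c, c ∈ (hV.primeIdealOf ⟨f x, hxV⟩).asIdeal ↔ c * s = 0 := fun c => by
    rw [hs, Submodule.mem_colon_singleton, Submodule.mem_bot, smul_eq_mul]
  have hsx : X.presheaf.germ V (f x) hxV s ≠ 0 := fun h0 => by
    obtain ⟨c, hc, hcs⟩ := (AssPointLib.germ_eq_zero_iff hV hxV s).mp h0
    exact hc ((hmem c).mpr hcs)
  obtain ⟨W, hW, hxW, hWV⟩ := exists_isAffineOpen_mem_and_subset (X := Y) (x := x) (U := f ⁻¹ᵁ V) hxV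
  let e := f.appLE V W hWV s
  have hg : ∀ (y : Y) (hy : y ∈ W), Y.presheaf.germ W y hy e = f.stalkMap y (X.presheaf.germ V (f y) (hWV hy) s) :=
    fun y hy => by
      rw [f.germ_stalkMap_apply V y (hWV hy)]
      exact TopCat.Presheaf.germ_res_apply Y.presheaf _ y hy _
  have hinj : Function.Injective (f.stalkMap x).hom := by
    algebraize [(f.stalkMap x).hom]
    haveI : Module.Flat (X.presheaf.stalk (f x)) (Y.presheaf.stalk x) := (Flat.iff_flat_stalkMap f).1 inferInstance x
    haveI : IsLocalHom (algebraMap (X.presheaf.stalk (f x)) (Y.presheaf.stalk x)) :=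
      inferInstanceAs (IsLocalHom (f.stalkMap x).hom)
    haveI := Module.FaithfullyFlat.of_flat_of_isLocalHom (A := X.presheaf.stalk (f x)) (B := Y.presheaf.stalk x)
    exact FaithfulSMul.algebraMap_injective (X.presheaf.stalk (f x)) (Y.presheaf.stalk x)
  have hex : (Y.presheaf.germ W x hxW).hom e ∉ (⊥ : Ideal Γ(Y, W)).map (Y.presheaf.germ W x hxW).hom := by
    rw [Ideal.map_bot, Ideal.mem_bot]
    intro h0
    exact hsx (hinj (((hg x hxW).symm.trans h0).trans (map_zero _).symm))
  obtain ⟨x', hx', hsp, hex', w, hw, hwm⟩ := DivDescLib.exists_assPoint ⟨W, hW⟩ ⊥ hxW e hex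
  rw [Ideal.map_bot] at hex' hw
  have hass : IsAss x' := by
    refine isAssociatedPrime_iff.mpr ⟨inferInstance, w, ?_⟩
    refine le_antisymm (fun b hb => ?_) (le_maximalIdeal fun htop => ?_)
    · rw [Submodule.mem_colon_singleton, Submodule.mem_bot, smul_eq_mul]
      have := hwm b hb
      rwa [Ideal.map_bot, Ideal.mem_bot] at this
    · rw [Ideal.eq_top_iff_one, Submodule.mem_colon_singleton, Submodule.mem_bot, one_smul] at htop
      exact hw (by rw [Ideal.mem_bot]; exact htop)
  have hx'U : f x' ∈ U := (AssPointLib.isSchematicallyDense_iff _).mp hU x' hass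
  have hne : ¬ (hV.primeIdealOf ⟨f x, hxV⟩).asIdeal ≤ (hV.primeIdealOf ⟨f x', hWV hx'⟩).asIdeal := fun hle => by
    have h1 : hV.fromSpec (hV.primeIdealOf ⟨f x, hxV⟩) ⤳ hV.fromSpec (hV.primeIdealOf ⟨f x', hWV hx'⟩) :=
      ((PrimeSpectrum.le_iff_specializes _ _).mp hle).map hV.fromSpec.continuous
    rw [hV.fromSpec_primeIdealOf, hV.fromSpec_primeIdealOf] at h1
    exact hxU (h1.mem_open U.2 hx'U)
  obtain ⟨c, hc, hc'⟩ := SetLike.not_le_iff_exists.mp hne
  apply hex'
  rw [Ideal.mem_bot]
  show Y.presheaf.germ W x' hx' e = 0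
  rw [hg x' hx', (AssPointLib.germ_eq_zero_iff hV (hWV hx') s).mpr ⟨c, hc', (hmem c).mp hc⟩]
  exact map_zero _

/-- Along a flat map, an associated point maps to an associated point. -/
theorem ass_map {X Y : Scheme.{u}} [IsLocallyNoetherian X] [IsLocallyNoetherian Y] (f : Y ⟶ X) [Flat f]
    (x : Y) (ha : IsAss x) : IsAss (f x) := by
  by_contra hna
  have hsub : ¬ ((maximalIdeal (X.presheaf.stalk (f x)) : Ideal _) : Set (X.presheaf.stalk (f x))) ⊆
      ⋃ P ∈ associatedPrimes (X.presheaf.stalk (f x)) (X.presheaf.stalk (f x)), (P : Set (X.presheaf.stalk (f x))) := by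
    intro hsub
    obtain ⟨P, hP, hle⟩ := (Ideal.subset_union_prime_finite (f := fun P : Ideal (X.presheaf.stalk (f x)) => P)
      (associatedPrimes.finite _ _) ⊥ ⊥ (fun P hP _ _ => hP.isPrime)).mp hsub
    apply hna
    show IsAssociatedPrime (maximalIdeal _) _
    rw [(IsLocalRing.maximalIdeal.isMaximal _).eq_of_le hP.isPrime.ne_top hle]
    exact hP
  obtain ⟨r, hr, hrP⟩ := Set.not_subset.mp hsub
  have hrnz : r ∈ nonZeroDivisors (X.presheaf.stalk (f x)) := by
    by_contra hc
    exact hrP ((biUnion_associatedPrimes_eq_compl_nonZeroDivisors (R := X.presheaf.stalk (f x))).symm ▸ hc)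
  algebraize [(f.stalkMap x).hom]
  haveI : Module.Flat (X.presheaf.stalk (f x)) (Y.presheaf.stalk x) := (Flat.iff_flat_stalkMap f).1 inferInstance x
  have h := Module.Flat.isSMulRegular_of_nonZeroDivisors (M := Y.presheaf.stalk x) hrnz
  obtain ⟨hm, w, hw⟩ := isAssociatedPrime_iff.mp ha
  have hrm : algebraMap _ (Y.presheaf.stalk x) r ∈ maximalIdeal (Y.presheaf.stalk x) := by
    rw [mem_maximalIdeal, mem_nonunits_iff]
    intro hu
    exact (mem_maximalIdeal r).mp hr (isUnit_of_map_unit (f.stalkMap x).hom r hu)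
  rw [hw, Submodule.mem_colon_singleton, Submodule.mem_bot, smul_eq_mul] at hrm
  have hw0 : w = 0 := h (by show r • w = r • (0 : Y.presheaf.stalk x); rw [smul_zero, Algebra.smul_def]; exact hrm)
  apply hm.ne_top
  rw [hw, hw0, Ideal.eq_top_iff_one, Submodule.mem_colon_singleton, smul_zero]
  exact zero_mem _

/-- Let (X_i) be a cofiltered system of Noetherian schemes with affine and flat transition morphisms, X
its limit, assumed Noetherian as well, and U₀ an open subset of X_{i₀}, with inverse images U_i in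
X_i (for i over i₀) and U in X. Then U is schematically dense in X if and only if there is an index
i over i₀ such that U_i is schematically dense in X_i (and then, the transition morphisms being
flat, U_j is schematically dense in X_j for every j over i). -/
theorem result {I : Type u} [SmallCategory I]
    [IsCofiltered I] (D : I ⥤ Scheme.{u}) (c : Limits.Cone D) (hc : Limits.IsLimit c)
    [∀ (i j : I) (g : i ⟶ j), IsAffineHom (D.map g)] [∀ (i j : I) (g : i ⟶ j), Flat (D.map g)]
    [∀ i : I, IsNoetherian (D.obj i)] [IsNoetherian c.pt] (i₀ : I) (U₀ : (D.obj i₀).Opens) :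
    CInt.IsSchematicallyDense ((c.π.app i₀) ⁻¹ᵁ U₀) ↔
      ∃ (i : I) (g : i ⟶ i₀), CInt.IsSchematicallyDense ((D.map g) ⁻¹ᵁ U₀) := by
  have hπ : ∀ i, Flat (c.π.app i) := fun i => RichLib.LimStalk.flat_π D c hc fun j φ => inferInstance
  constructor
  · intro hU
    let S : Set (D.obj i₀) := {a | IsAss a ∧ a ∉ U₀}
    haveI := hπ i₀
    obtain ⟨k, g, hk⟩ := CycLimLib.exists_stage_empty D c hc i₀ S ((finite_ass _).subset fun a ha => ha.1)
      (fun x hx => hx.2 (not_dense_of_ass (X := D.obj i₀) (Y := c.pt) (c.π.app i₀) U₀ hU x hx.1))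
    refine ⟨k, g, (AssPointLib.isSchematicallyDense_iff _).mpr fun b hb => ?_⟩
    by_contra hb'
    exact hk b ⟨ass_map (D.map g) b hb, hb'⟩
  · rintro ⟨i, g, hd⟩
    haveI := hπ i
    have h := Groth.Agent.S3844.result (c.π.app i) (D.map g ⁻¹ᵁ U₀) hd
    rwa [← Scheme.Hom.comp_preimage, c.w g] at h

end Groth.Agent.S5107
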