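import Groth.Statements.S5108
import Groth.Agent.PurWLib.Reduce

set_option autoImplicit false
set_option linter.style.haveILetI false
set_option backward.isDefEq.respectTransparency false
set_option backward.isDefEq.respectTransparency.types false

set_option autoImplicit false
universe u
open CategoryTheory CategoryTheory.Limits AlgebraicGeometry TopologicalSpace
open Pur21

namespace Groth.Agent.S5108

/-- Let X and Y be locally Noetherian schemes, g : X → Y a morphism, y a closed point of Y and Y' = Y −
{y}; suppose that the restriction g⁻¹(Y') → Y' of g is an open immersion and that the local ring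
O_{Y,y} satisfies condition (W): every open subset U of the punctured spectrum of O_{Y,y} which
contains no irreducible component of the punctured spectrum and whose inclusion into the punctured
spectrum is an affine morphism is itself affine. Then for every irreducible component Z of the fibre
g⁻¹(y), with generic point z (a point over y with no proper generization over y), either Z has
codimension ≤ 1 in X (dim O_{X,z} ≤ 1) or z is isolated in Z (some open neighbourhood of z contains
no other point of Z). The morphism g is not assumed locally of finite type. (The published statement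
adds that, when the component is locally of finite type over the residue field of y, the second
alternative forces it to be a single point; this row omits that clause.) -/
theorem result {X Y : Scheme.{u}}
    [IsLocallyNoetherian X] [IsLocallyNoetherian Y] (g : X ⟶ Y) (y : ↥Y) (Y' : Y.Opens)
    (hY' : (Y' : Set ↥Y) = {y}ᶜ) [IsOpenImmersion (g ∣_ Y')]
    (hW : (∀ U : (Spec (Y.presheaf.stalk y)).Opens, ∀ hU : U ≤ FEt.puncturedSpec ↑(Y.presheaf.stalk y),
        (∀ T ∈ irreducibleComponents ↥(FEt.puncturedSpec ↑(Y.presheaf.stalk y)), ¬ Subtype.val '' T ⊆ (U : Set _)) →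
        IsAffineHom ((Spec (Y.presheaf.stalk y)).homOfLE hU) → IsAffineOpen U))
    (z : ↥X) (hz : g z = y) (hmax : ∀ z' : ↥X, g z' = y → z' ⤳ z → z' = z) :
    ringKrullDim ↑(X.presheaf.stalk z) ≤ 1 ∨
      ∃ O : X.Opens, z ∈ O ∧ ∀ z' : ↥X, z' ∈ O → g z' = y → z ⤳ z' → z' = z := by
  by_cases h : ∃ O : X.Opens, z ∈ O ∧ ∀ z' : X, z' ∈ O → g z' = y → z ⤳ z' → z' = z
  · exact Or.inr h
  left
  push Not at h
  obtain ⟨V, hV, hyV, -⟩ := exists_isAffineOpen_mem_and_subset (x := y) (U := (⊤ : Y.Opens)) trivial
  obtain ⟨O, hO, hzO, hOV⟩ := exists_isAffineOpen_mem_and_subset (x := z) (U := g ⁻¹ᵁ V)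
    (show g z ∈ V from hz.symm ▸ hyV)
  obtain ⟨z', hz', hgz', hsp, hne⟩ := h O hzO
  haveI : IsOpenImmersion ((O ⊓ g ⁻¹ᵁ Y').ι ≫ g) := by
    rw [← Scheme.homOfLE_ι X (inf_le_right : O ⊓ g ⁻¹ᵁ Y' ≤ g ⁻¹ᵁ Y'), Category.assoc, ← morphismRestrict_ι]
    infer_instance
  refine PurWLib.dim_le_one g y Y' (fun p _ hne' => ?_) (fun hc => ?_) hO hV hOV hW z z' hzO hz' hz hgz' hsp
    (Ne.symm hne) hmax
  · rw [← SetLike.mem_coe, hY']
    exact hne'
  · rw [← SetLike.mem_coe, hY'] at hc
    exact hc rfl

end Groth.Agent.S5108
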