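import Groth.Statements.S5110
import Mathlib
import Groth.Agent.RichLib.LimMax
-- import your own Groth.Agent.* helpers here

set_option autoImplicit false
universe u
open CategoryTheory CategoryTheory.Limits AlgebraicGeometry TopologicalSpace
open Lim8

namespace Groth.Agent.S5110

/-- Let (S_i) be a cofiltered system of schemes with affine transition morphisms and S its limit, such
that every S_i has finitely many maximal points and the transition morphisms send maximal points to
maximal points; let S_{i₀} be quasi-compact and V₀ an open subset of S_{i₀}, with inverse images V_i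
in the S_i over i₀ and V in S. If V₀ is dense in S_{i₀} then every V_i and V are dense. Conversely,
if V is dense in S and S has only finitely many maximal points, then V_i is dense in S_i for some i
over i₀. -/
theorem result {I : Type u} [SmallCategory I] [IsCofiltered I]
    (D : I ⥤ Scheme.{u}) (c : Limits.Cone D) (hc : Limits.IsLimit c)
    [∀ (i j : I) (g : i ⟶ j), IsAffineHom (D.map g)]
    (hfin : ∀ i : I, {s : ↥(D.obj i) | ∀ z : ↥(D.obj i), z ⤳ s → z = s}.Finite)
    (hsys : ∀ (i j : I) (g : i ⟶ j) (s : ↥(D.obj i)), (∀ z : ↥(D.obj i), z ⤳ s → z = s) →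
      ∀ z : ↥(D.obj j), z ⤳ D.map g s → z = D.map g s)
    (i₀ : I) [CompactSpace ↥(D.obj i₀)] (V₀ : (D.obj i₀).Opens) :
    (Dense (V₀ : Set ↥(D.obj i₀)) →
        (∀ (i : I) (g : i ⟶ i₀), Dense (((D.map g) ⁻¹ᵁ V₀ : (D.obj i).Opens) : Set ↥(D.obj i))) ∧
          Dense (((c.π.app i₀) ⁻¹ᵁ V₀ : c.pt.Opens) : Set ↥c.pt)) ∧
      (Dense (((c.π.app i₀) ⁻¹ᵁ V₀ : c.pt.Opens) : Set ↥c.pt) →
        {s : ↥c.pt | ∀ z : ↥c.pt, z ⤳ s → z = s}.Finite →
          ∃ (i : I) (g : i ⟶ i₀), Dense (((D.map g) ⁻¹ᵁ V₀ : (D.obj i).Opens) : Set ↥(D.obj i))) := by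
  have hs' : ∀ (i j : I) (g : i ⟶ j) (s : D.obj i), s ∈ RichLib.LimMax.Max D i →
      D.map g s ∈ RichLib.LimMax.Max D j := fun i j g s hs => hsys i j g s hs
  refine ⟨fun hd => ⟨fun i g => RichLib.LimMax.dense_of_maximal fun m hm => ?_,
    RichLib.LimMax.dense_of_maximal fun m hm => ?_⟩, fun hd hfinS => ?_⟩
  · exact RichLib.LimMax.mem_of_dense (hfin i₀) V₀.2 hd (hs' i i₀ g m hm)
  · exact RichLib.LimMax.mem_of_dense (hfin i₀) V₀.2 hd
      ((RichLib.LimMax.maximal_iff D c hc hfin hs' m).mp hm i₀)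
  · by_contra hno
    push Not at hno
    obtain ⟨z, hz, hzP⟩ := RichLib.LimMax.exists_family D c hc hfin hs' i₀
      (fun φ => (⇑(D.map φ.hom) ⁻¹' (V₀ : Set (D.obj i₀)))ᶜ)
      (fun φ => by
        by_contra he
        exact hno φ.left φ.hom (RichLib.LimMax.dense_of_maximal fun m hm => by
          by_contra hmV
          exact he ⟨m, hmV, hm⟩))
      (fun {a b} e x hx hmem => hx (by
        show D.map a.hom x ∈ (V₀ : Set (D.obj i₀))
        rw [← Over.w e, RichLib.LimTop.map_comp_apply]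
        exact hmem))
    have hzV : z ∈ ((c.π.app i₀) ⁻¹ᵁ V₀ : c.pt.Opens) :=
      RichLib.LimMax.mem_of_dense hfinS (TopologicalSpace.Opens.isOpen _) hd
        (RichLib.LimMax.maximal_of_forall D c hc hz)
    refine hzP (Over.mk (𝟙 i₀)) ?_
    show D.map (𝟙 i₀) (c.π.app i₀ z) ∈ (V₀ : Set (D.obj i₀))
    rw [RichLib.LimTop.π_map_apply]
    exact hzV

end Groth.Agent.S5110
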