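import Groth.Statements.S5114
import Groth.Agent.SubmDescLib.QFRefine
import Groth.Agent.SubmDescLib.FiniteLocal
-- import your own Groth.Agent.* helpers here

set_option autoImplicit false
universe u
open SGA1

namespace Groth.Agent.S5114

open AlgebraicGeometry CategoryTheory CategoryTheory.Limits in
/-- Let A be a complete Noetherian local ring, S = Spec A, and g : S' ⟶ S a surjective morphism of
finite type whose fibre over the closed point s is finite. If every point of S' specialises to some
point of the fibre over s (equivalently: the disjoint union of the spectra of the local rings of S'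
at the points over s maps onto S'), then g is universally submersive. (The published statement
asserts an equivalence and does not mention surjectivity of g; the converse fails: for A a complete
discrete valuation ring with fraction field K, S' = S ⊔ Spec K ⟶ S has a section, hence is
universally submersive, while the isolated point Spec K specialises to no point over s. This row
states the implication the published proof establishes, with the surjectivity it uses.) -/
theorem result (A : Type u) [CommRing A]
    [IsNoetherianRing A] [IsLocalRing A] [IsAdicComplete (IsLocalRing.maximalIdeal A) A]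
    {S' : Scheme.{u}} (g : S' ⟶ Spec (CommRingCat.of A)) [LocallyOfFiniteType g] [QuasiCompact g]
    [Surjective g]
    (hfin : (g.base ⁻¹' {IsLocalRing.closedPoint A}).Finite)
    (hsp : ∀ t : S', ∃ s' : S', g.base s' = IsLocalRing.closedPoint A ∧ t ⤳ s') :
    SGA1.UnivSubmersive g := by
  classical
  let s : Spec (CommRingCat.of A) := IsLocalRing.closedPoint A
  haveI : HenselianLocalRing A := HenselLib.henselianLocalRing_of_henselianRing
  haveI : CompactSpace S' := QuasiCompact.compactSpace_of_compactSpace g
  -- every point is quasi-finite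
  have hlft : ∀ y, LocallyOfFiniteType (g.fiberToSpecResidueField y) := fun y =>
    MorphismProperty.pullback_snd (P := @LocallyOfFiniteType) _ _ ‹_›
  have hclosed : ∀ x : S', g x = s → g.QuasiFiniteAt x := by
    intro x hx
    rw [Scheme.Hom.quasiFiniteAt_iff_isOpen_singleton_asFiber]
    haveI : JacobsonSpace ↥(g.fiber (g x)) := LocallyOfFiniteType.jacobsonSpace (g.fiberToSpecResidueField (g x))
    haveI : Finite ↥(g ⁻¹' {g x}) := (show (g ⁻¹' {g x}).Finite from hx ▸ hfin).to_subtype
    haveI : Finite ↥(g.fiber (g x)) := Finite.of_equiv _ (g.fiberHomeo (g x)).toEquiv.symm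
    exact isOpen_discrete _
  have hall : ∀ x : S', g.QuasiFiniteAt x := fun t => by
    obtain ⟨z, hz, htz⟩ := hsp t
    exact htz.mem_open g.isOpen_quasiFiniteAt (hclosed z hz)
  haveI : LocallyQuasiFinite g := by
    refine LocallyQuasiFinite.of_finite_preimage_singleton _ fun y => ?_
    haveI : DiscreteTopology ↥(g.fiber y) := by
      haveI : JacobsonSpace ↥(g.fiber y) := LocallyOfFiniteType.jacobsonSpace (g.fiberToSpecResidueField y)
      refine discreteTopology_iff_isOpen_singleton.2 fun a => ?_
      obtain ⟨⟨x, rfl⟩, rfl⟩ := (g.fiberHomeo y).symm.surjective a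
      exact Scheme.Hom.quasiFiniteAt_iff_isOpen_singleton_asFiber.1 (hall x)
    haveI : Finite ↥(g.fiber y) := finite_of_compact_of_discrete
    exact Set.finite_coe_iff.1 (Finite.of_equiv _ (g.fiberHomeo y).toEquiv)
  haveI : Finite ↥(g ⁻¹' {s}) := hfin.to_subtype
  choose R iR b r hb hro hrb hrx using fun x : ↥(g ⁻¹' {s}) => SubmDescLib.exists_finite_nhd g x.1 x.2
  let Rc : ↥(g ⁻¹' {s}) → CommRingCat.{u} := fun x => CommRingCat.of (R x)
  let X' : Scheme.{u} := Spec (CommRingCat.of (∀ x, Rc x))
  let p' : X' ⟶ Spec (CommRingCat.of A) := Spec.map (CommRingCat.ofHom (RingHom.pi b))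
  let r' : X' ⟶ S' := inv (sigmaSpec Rc) ≫ Limits.Sigma.desc r
  have hp : r' ≫ g = p' := by
    rw [Category.assoc, IsIso.inv_comp_eq]
    refine Limits.Sigma.hom_ext _ _ fun x => ?_
    rw [← Category.assoc, Limits.Sigma.ι_desc, ι_sigmaSpec_assoc, hrb, ← Spec.map_comp]
    rfl
  haveI : IsFinite p' := by
    refine (IsFinite.SpecMap_iff _).2 ?_
    letI : ∀ x, Algebra A (Rc x) := fun x => (b x).toAlgebra
    haveI : ∀ x, Module.Finite A (Rc x) := hb
    exact (RingHom.finite_algebraMap (A := A) (B := ∀ x, Rc x)).2 inferInstance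
  haveI : Surjective r' := ⟨fun t => by
    obtain ⟨z, hz, htz⟩ := hsp t
    haveI := hro ⟨z, hz⟩
    obtain ⟨y, hy⟩ := htz.mem_open (r ⟨z, hz⟩).isOpenEmbedding.isOpen_range (hrx ⟨z, hz⟩)
    refine ⟨(Limits.Sigma.ι _ ⟨z, hz⟩ ≫ sigmaSpec Rc) y, ?_⟩
    rw [← Scheme.Hom.comp_apply]
    simp only [r', Category.assoc, IsIso.hom_inv_id_assoc]
    rw [Limits.Sigma.ι_desc]
    exact hy⟩
  have hp' : SGA1.UnivSubmersive (r' ≫ g) := by
    haveI : IsFinite (r' ≫ g) := hp ▸ inferInstance
    exact SubmDescLib.univSubmersive_of_universallyClosed_surjective _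
  intro X₁ Y₁ i₁ i₂ a sq
  have sq' : IsPullback (Limits.pullback.snd r' i₁ ≫ a) (Limits.pullback.fst r' i₁) i₂ (r' ≫ g) :=
    (IsPullback.of_hasPullback r' i₁).flip.paste_horiz sq
  exact Topology.IsQuotientMap.of_comp (Limits.pullback.snd r' i₁).continuous a.continuous (hp' _ _ _ sq')

end Groth.Agent.S5114
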