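import Groth.Statements.S5115
import Groth.Agent.UHomeoLib.FlatRad

set_option autoImplicit false
universe u
open EtBase

namespace Groth.Agent.S5115

open AlgebraicGeometry CategoryTheory CategoryTheory.Limits in
/-- Let g : S' ⟶ S be faithfully flat (flat and surjective), quasi-compact and radicial (universally
injective). Then base change along g is an equivalence from the category of schemes etale over S to
the category of schemes etale over S'. -/
theorem result {S S' : Scheme.{u}} (g : S' ⟶ S)
    [Flat g] [Surjective g] [QuasiCompact g] [UniversallyInjective g] :
    (EtCoh.bc g).IsEquivalence := by
  haveI := UHomeo.universallyClosed_of_flat_radicial g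
  exact EtInvLib.bc_isEquivalence g fun X₀ x₀ _ x => UHomeo.exists_liftData_flat g x₀ x

end Groth.Agent.S5115
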