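import Groth.Statements.S5117
import Groth.Agent.PiSepLib.Sections
import Groth.Agent.PiSepLib.GalImage
import Groth.Agent.S0268

set_option autoImplicit false
set_option backward.isDefEq.respectTransparency false
set_option backward.isDefEq.respectTransparency.types false
set_option maxRecDepth 8000
set_option maxHeartbeats 1000000
universe u
open Pi1

namespace Groth.Agent.S5117

open AlgebraicGeometry CategoryTheory CategoryTheory.Limits in
/-- (ii bis) ⇒ (i), over a field. Let k be a field with algebraic closure k̄, X a quasi-compact and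
quasi-separated k-scheme such that X ×_k k̄ is connected, and X' a connected finite etale cover of
X. If the induced cover X' ×_k k̄ → X ×_k k̄ admits a section, then X' is isomorphic over X to X ×_k
S' for some finite etale k-scheme S'. (The published statement allows the spectrum of an Artinian
local ring with residue field k as base and asks only that X be quasi-compact; this row takes a
field and X quasi-compact and quasi-separated.) -/
theorem result (k : Type u) [Field k] {X : Scheme.{u}}
    (f : X ⟶ Spec (CommRingCat.of k)) [CompactSpace X] [QuasiSeparatedSpace X]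
    [ConnectedSpace ↥(pullback f (Spec.map (CommRingCat.ofHom (algebraMap k (AlgebraicClosure k)))))]
    (X' : FEt.Cat X) [ConnectedSpace X'.left]
    (σ : pullback f (Spec.map (CommRingCat.ofHom (algebraMap k (AlgebraicClosure k)))) ⟶ X'.left)
    (hσ : σ ≫ X'.hom = pullback.fst f (Spec.map (CommRingCat.ofHom (algebraMap k (AlgebraicClosure k))))) :
    ∃ S' : FEt.Cat (Spec (CommRingCat.of k)), Nonempty ((FEt.restrict f).obj S' ≅ X') := by
  let sb := Spec.map (CommRingCat.ofHom (algebraMap k (AlgebraicClosure k)))
  obtain ⟨τ, hτ, -⟩ := PiSep.section_sep k f X' σ hσ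
  obtain ⟨L, _, t, π, ht, -⟩ := PiSep.exists_stage_sections k f X' (ι := PUnit.{u + 1}) (fun _ => τ) fun _ => hτ
  obtain ⟨_, _⟩ := PiSep.etale_finite_separable k L
  haveI : Surjective (pullback.fst f sb) := by
    haveI : Surjective sb := ⟨fun x => ⟨(⟨⊥, Ideal.isPrime_bot⟩ : PrimeSpectrum (AlgebraicClosure k)),
      @Subsingleton.elim (PrimeSpectrum k) _ _ _⟩⟩
    exact MorphismProperty.pullback_fst _ _ ‹Surjective sb›
  haveI : ConnectedSpace X := (pullback.fst f sb).surjective.connectedSpace (pullback.fst f sb).continuous
  haveI : ConnectedSpace ↥(Spec (CommRingCat.of k)) := inferInstanceAs (ConnectedSpace (PrimeSpectrum k))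
  let V : FEt.Cat (Spec (CommRingCat.of k)) := MorphismProperty.Over.mk ⊤ (PiSep.sp k L) ⟨inferInstance, inferInstance⟩
  let e : (FEt.restrict f).obj V ⟶ X' :=
    MorphismProperty.Over.homMk ((pullbackSymmetry (PiSep.sp k L) f).hom ≫ t PUnit.unit)
      ((Category.assoc _ _ _).trans ((congrArg ((pullbackSymmetry (PiSep.sp k L) f).hom ≫ ·) (ht PUnit.unit)).trans
        (pullbackSymmetry_hom_comp_fst _ _)))
  haveI : Nonempty ↥((FEt.restrict f).obj V).left :=
    ⟨(pullbackSymmetry (PiSep.sp k L) f).inv (π (PiSep.toSep k f (Classical.arbitrary _)))⟩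
  exact PiSep.essImage_of_hom f (Groth.Agent.S0268.result k f) X' V e

end Groth.Agent.S5117
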