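import Groth.Statements.S5118
import Mathlib.RingTheory.Etale.StandardEtale
import Mathlib.FieldTheory.Separable
import Mathlib.RingTheory.AdjoinRoot
import Mathlib.Algebra.DualNumber
import Mathlib.RingTheory.Nilpotent.Basic

set_option autoImplicit false
universe u
open SGA1t

namespace Groth.Agent.S5118

open Polynomial in
/-- The etaleness criterion for the Kummer group scheme: Let A be a commutative ring and n ≥ 1. The
group scheme μ_n over Spec A is the spectrum of A[t]/(t^n − 1), a free A-module of rank n; it is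
etale over A if and only if n is a unit of A (equivalently, n is prime to the characteristic of the
residue field at every point of Spec A). -/
theorem result (A : Type u) [CommRing A] (n : ℕ) (hn : 1 ≤ n) :
    Algebra.Etale A (AdjoinRoot ((X : A[X]) ^ n - 1)) ↔ IsUnit ((n : ℕ) : A) := by
  set f : A[X] := X ^ n - 1 with hf
  have hm : f.Monic := by
    rw [hf, ← map_one C]
    exact monic_X_pow_sub_C (1 : A) (by omega)
  constructor
  · intro het
    by_contra hn
    obtain ⟨m, hmax, hmem⟩ := Ideal.exists_le_maximal (Ideal.span {((n : ℕ) : A)})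
      (by rwa [Ne, Ideal.span_singleton_eq_top])
    let := Ideal.Quotient.field m
    have hn0 : ((n : ℕ) : A ⧸ m) = 0 := by
      rw [← map_natCast (Ideal.Quotient.mk m), Ideal.Quotient.eq_zero_iff_mem]
      exact hmem (Ideal.mem_span_singleton_self _)
    have hroot : ∀ t : A ⧸ m, aeval (1 + TrivSqZeroExt.inr t : DualNumber (A ⧸ m)) f = 0 := fun t => by
      have : ∀ k : ℕ, (1 + TrivSqZeroExt.inr t : DualNumber (A ⧸ m)) ^ k =
          1 + TrivSqZeroExt.inr (k • t) := fun k => by
        induction k with
        | zero => simp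
        | succ k ih =>
          rw [pow_succ, ih, add_mul, mul_add, mul_add, one_mul, one_mul, mul_one,
            TrivSqZeroExt.inr_mul_inr, add_zero, succ_nsmul, TrivSqZeroExt.inr_add]
          abel
      rw [hf, map_sub, map_pow, aeval_X, map_one, this n, nsmul_eq_mul, hn0, zero_mul, TrivSqZeroExt.inr_zero,
        add_zero, sub_self]
    let φ : (A ⧸ m) → (AdjoinRoot f →ₐ[A] DualNumber (A ⧸ m)) := fun t =>
      AdjoinRoot.liftAlgHom f (Algebra.ofId A _) (1 + TrivSqZeroExt.inr t) (hroot t)
    let I : Ideal (DualNumber (A ⧸ m)) := RingHom.ker (TrivSqZeroExt.fstHom A (A ⧸ m) (A ⧸ m))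
    have hI : IsNilpotent I := ⟨2, by
      rw [Submodule.zero_eq_bot, Submodule.pow_succ, Submodule.pow_one, eq_bot_iff, Ideal.mul_le]
      intro x hx y hy
      have hx' : x.fst = 0 := RingHom.mem_ker.1 hx
      have hy' : y.fst = 0 := RingHom.mem_ker.1 hy
      rw [Submodule.mem_bot]
      ext <;> simp [hx', hy']⟩
    have heq : φ 1 = φ 0 := Algebra.FormallyUnramified.ext I hI fun x => by
      obtain ⟨p, rfl⟩ := AdjoinRoot.mk_surjective x
      rw [Ideal.Quotient.eq]
      show TrivSqZeroExt.fstHom A (A ⧸ m) (A ⧸ m) _ = 0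
      rw [map_sub, sub_eq_zero]
      have h1 : ∀ t, TrivSqZeroExt.fstHom A (A ⧸ m) (A ⧸ m) (φ t (AdjoinRoot.mk f p)) =
          aeval (1 : A ⧸ m) p := fun t => by
        show TrivSqZeroExt.fstHom A (A ⧸ m) (A ⧸ m) (aeval (1 + TrivSqZeroExt.inr t) p) = _
        rw [← Polynomial.aeval_algHom_apply]
        simp
      rw [h1, h1]
    have h2 := congrArg TrivSqZeroExt.snd (AlgHom.congr_fun heq (AdjoinRoot.root f))
    simp [φ] at h2
  · intro hn
    have hs : f.Separable := by
      have := Polynomial.separable_X_pow_sub_C_unit (R := A) 1 hn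
      rwa [Units.val_one, map_one] at this
    obtain ⟨a, b, hab⟩ := hs
    let P : StandardEtalePair A := ⟨f, hm, 1, b, a, 0, by rw [pow_zero]; linear_combination hab⟩
    have hu : IsUnit (AdjoinRoot.mk P.f P.g) := by simp [P]
    let e : AdjoinRoot f ≃ₐ[A] P.Ring :=
      ((IsLocalization.atUnits (AdjoinRoot P.f) (Submonoid.powers (AdjoinRoot.mk P.f P.g))
        (S := Localization.Away (AdjoinRoot.mk P.f P.g))
        (by rintro _ ⟨k, rfl⟩; exact hu.pow k)).restrictScalars A).trans P.equivAwayAdjoinRoot.symm
    exact Algebra.Etale.of_equiv e.symm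

end Groth.Agent.S5118
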