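import Groth.Statements.S5119
import Mathlib.Algebra.Polynomial.Laurent
import Mathlib.Algebra.MonoidAlgebra.MapDomain

set_option autoImplicit false
universe u
open scoped LaurentPolynomial
open SGA1t

namespace Groth.Agent.S5119

/-- The computation behind the exactness of the Kummer sequence 0 → μ_n → G_m → G_m → 0, i.e. faithful
flatness of the n-th power map u_n of G_m: Let A be a commutative ring and n ≥ 1, and let u_n be the
ring endomorphism of A[t, t⁻¹] with u_n(t) = t^n (on monomials, t^k ↦ t^{nk}). Then A[t, t⁻¹] is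
free of rank n over itself via u_n, with basis 1, t, …, t^{n−1}: every Laurent polynomial q can be
written in exactly one way as Σ_{i<n} u_n(c_i) t^i. -/
theorem result (A : Type u) [CommRing A] (n : ℕ) (hn : 1 ≤ n) (q : A[T;T⁻¹]) :
    ∃! c : Fin n → A[T;T⁻¹],
      q = ∑ i : Fin n, (AddMonoidAlgebra.mapDomainRingHom A (AddMonoidHom.mulLeft (n : ℤ)) : A[T;T⁻¹] →+* A[T;T⁻¹]) (c i) *
        LaurentPolynomial.T (i : ℤ) := by
  classical
  have hn0 : (n : ℤ) ≠ 0 := by omega
  let Ψ : A[T;T⁻¹] →+* A[T;T⁻¹] := AddMonoidAlgebra.mapDomainRingHom A (AddMonoidHom.mulLeft (n : ℤ))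
  let Φ : (Fin n → A[T;T⁻¹]) → A[T;T⁻¹] := fun c => ∑ i : Fin n, Ψ (c i) * LaurentPolynomial.T (i : ℤ)
  have hinj : Function.Injective (fun k : ℤ => (n : ℤ) * k) := mul_right_injective₀ hn0
  have hterm : ∀ (x : A[T;T⁻¹]) (i j : Fin n) (k : ℤ),
      (Ψ x * LaurentPolynomial.T (i : ℤ)).coeff ((n : ℤ) * k + j) = if i = j then x.coeff k else 0 := by
    intro x i j k
    rw [LaurentPolynomial.T, AddMonoidAlgebra.coeff_mul_single_apply, mul_one]
    show (AddMonoidAlgebra.mapDomain (fun k : ℤ => (n : ℤ) * k) x).coeff _ = _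
    rw [AddMonoidAlgebra.coeff_mapDomain]
    by_cases h : i = j
    · subst h
      rw [if_pos rfl, show (n : ℤ) * k + (i : ℤ) + -(i : ℤ) = (n : ℤ) * k by ring, Finsupp.mapDomain_apply hinj]
    · rw [if_neg h]
      refine Finsupp.mapDomain_notin_range _ _ ?_
      rintro ⟨l, hl⟩
      refine h (Fin.ext ?_)
      simp only at hl
      have hj : ((j : ℕ) : ℤ) < n := by exact_mod_cast j.2
      have hi : ((i : ℕ) : ℤ) < n := by exact_mod_cast i.2
      rcases lt_trichotomy (l - k) 0 with h' | h' | h'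
      · have : (n : ℤ) * (l - k) ≤ (n : ℤ) * (-1) := mul_le_mul_of_nonneg_left (by omega) (by omega)
        linarith
      · have : (n : ℤ) * (l - k) = 0 := by rw [h', mul_zero]
        rw [mul_sub] at this
        omega
      · have : (n : ℤ) * 1 ≤ (n : ℤ) * (l - k) := mul_le_mul_of_nonneg_left (by omega) (by omega)
        linarith
  have hΦ : ∀ c j k, (Φ c).coeff ((n : ℤ) * k + (j : Fin n)) = (c j).coeff k := fun c j k => by
    simp only [Φ, AddMonoidAlgebra.coeff_sum, Finsupp.finsetSum_apply, hterm, Finset.sum_ite_eq',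
      Finset.mem_univ, if_true]
  have hdiv : ∀ m : ℤ, ∃ (j : Fin n) (k : ℤ), m = (n : ℤ) * k + j := fun m =>
    ⟨⟨(m % n).toNat, by have := Int.emod_lt_of_pos m (show (0 : ℤ) < n by omega); omega⟩, m / n, by
      simp [Int.toNat_of_nonneg (Int.emod_nonneg m hn0), Int.mul_ediv_add_emod]⟩
  let c₀ : Fin n → A[T;T⁻¹] := fun j => AddMonoidAlgebra.ofCoeff
    (Finsupp.comapDomain (fun k : ℤ => (n : ℤ) * k + (j : ℕ)) q.coeff
      ((add_left_injective _).comp hinj).injOn)
  have hext : ∀ x y : A[T;T⁻¹], (∀ m, x.coeff m = y.coeff m) → x = y := fun x y h =>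
    AddMonoidAlgebra.coeff_injective (Finsupp.ext h)
  have h0 : q = Φ c₀ := hext _ _ fun m => by
    obtain ⟨j, k, rfl⟩ := hdiv m
    rw [hΦ]
    rfl
  refine ⟨c₀, h0, fun c hc => funext fun j => hext _ _ fun k => ?_⟩
  rw [← hΦ c j k, show Φ c = q from hc.symm, h0, hΦ]

end Groth.Agent.S5119
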