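import Groth.Statements.S5120
import Mathlib.Algebra.Polynomial.Div
import Mathlib.Algebra.Polynomial.Monic
import Mathlib.Algebra.CharP.Basic
import Mathlib.Algebra.Polynomial.Inductions
import Mathlib.Algebra.Polynomial.AlgebraMap

set_option autoImplicit false
universe u
open SGA1t

namespace Groth.Agent.S5120

open Polynomial in
/-- The computation behind the exactness of the Artin-Schreier sequence 0 → Z/p → G_a → G_a → 0 in
characteristic p, i.e. faithful flatness of ℘ = id − F: Let p be a prime and A a ring of
characteristic p. Then A[t] is free of rank p over itself via the endomorphism t ↦ t − t^p, with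
basis 1, t, …, t^{p−1}: every polynomial q can be written in exactly one way as Σ_{i<p} c_i(t − t^p)
t^i. -/
theorem result (p : ℕ) [Fact p.Prime] (A : Type u) [CommRing A] [CharP A p]
    (q : A[X]) :
    ∃! c : Fin p → A[X], q = ∑ i : Fin p, aeval (X - X ^ p : A[X]) (c i) * X ^ (i : ℕ) := by
  classical
  have hp : 1 < p := (Fact.out : p.Prime).one_lt
  haveI : Nontrivial A := CharP.nontrivial_of_char_ne_one (R := A) (v := p) (by omega)
  set f : A[X] := X ^ p - X with hf
  have hm : f.Monic := monic_X_pow_sub (by rw [degree_X]; exact_mod_cast hp)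
  have hdeg : f.natDegree = p := by
    rw [hf, natDegree_sub_eq_left_of_natDegree_lt] <;> rw [natDegree_X_pow]
    rw [natDegree_X]
    exact hp
  have hfX : aeval (R := A) (X - X ^ p : A[X]) X = -f := by simp [hf]
  let Φ : (Fin p → A[X]) → A[X] := fun c => ∑ i : Fin p, aeval (X - X ^ p : A[X]) (c i) * X ^ (i : ℕ)
  -- a polynomial of degree < p is a combination of the powers
  have hconst : ∀ (c : Fin p → A[X]), ∃ r : A[X], Φ c = (∑ i : Fin p, C ((c i).coeff 0) * X ^ (i : ℕ)) + f * r ∧
      r = -Φ (fun i => (c i).divX) := by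
    intro c
    refine ⟨_, ?_, rfl⟩
    show ∑ i : Fin p, _ = _
    rw [mul_neg, ← sub_eq_add_neg, eq_sub_iff_add_eq, Finset.mul_sum, ← Finset.sum_add_distrib]
    refine Finset.sum_congr rfl fun i _ => ?_
    conv_lhs => arg 1; arg 1; rw [← X_mul_divX_add (c i)]
    rw [map_add, map_mul, hfX, aeval_C, ← C_eq_algebraMap]
    ring
  have hlow : ∀ a : Fin p → A, (∑ i : Fin p, C (a i) * X ^ (i : ℕ)).degree < f.degree := by
    intro a
    rw [degree_eq_natDegree hm.ne_zero, hdeg]
    refine (degree_sum_le _ _).trans_lt ?_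
    rw [Finset.sup_lt_iff (WithBot.bot_lt_coe _)]
    intro i _
    exact (degree_C_mul_X_pow_le _ _).trans_lt (WithBot.coe_lt_coe.2 i.2)
  have hexists : ∀ m : ℕ, ∀ g : A[X], g.natDegree ≤ m → ∃ c, g = Φ c := by
    intro m
    induction m using Nat.strong_induction_on with
    | _ m ih =>
      intro g hg
      set r := g %ₘ f with hr
      have hr' : r = ∑ i : Fin p, C (r.coeff i) * X ^ (i : ℕ) := by
        refine (as_sum_range' r p ?_).trans ?_
        · rw [hr, ← hdeg]
          exact natDegree_modByMonic_lt g hm (fun h => by rw [h, natDegree_one] at hdeg; omega)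
        · rw [Fin.sum_univ_eq_sum_range (fun i => C (r.coeff i) * X ^ i)]
          exact Finset.sum_congr rfl fun i _ => (C_mul_X_pow_eq_monomial).symm
      have hq : ∃ d, -(g /ₘ f) = Φ d := by
        by_cases h0 : g /ₘ f = 0
        · exact ⟨0, by simp [Φ, h0]⟩
        have h1 := natDegree_divByMonic g hm
        rw [hdeg] at h1
        have h2 : p ≤ g.natDegree := by
          by_contra h2
          exact h0 ((divByMonic_eq_zero_iff hm).2 (degree_lt_degree (by omega)))
        exact ih (g.natDegree - p) (by omega) _ (by rw [natDegree_neg, h1])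
      obtain ⟨d, hd⟩ := hq
      let c : Fin p → A[X] := fun i => X * d i + C (r.coeff i)
      refine ⟨c, ?_⟩
      obtain ⟨s, hs, hs'⟩ := hconst c
      rw [hs, hs']
      have hc1 : ∀ i, (c i).coeff 0 = r.coeff i := fun i => by simp [c]
      have hc2 : (fun i => (c i).divX) = d := funext fun i => Polynomial.ext fun k => by simp [c, coeff_divX, coeff_X_mul]
      rw [hc2, ← hd, neg_neg]
      simp only [hc1]
      rw [← hr', hr, modByMonic_add_div]
  have huniq : ∀ m : ℕ, ∀ c : Fin p → A[X], (∀ i, (c i).natDegree ≤ m) → Φ c = 0 → c = 0 := by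
    intro m
    induction m with
    | zero =>
      intro c hc h
      obtain ⟨s, hs, -⟩ := hconst c
      rw [h] at hs
      have h1 := (div_modByMonic_unique (f := (0 : A[X])) s _ hm ⟨hs.symm, hlow _⟩).2
      rw [zero_modByMonic] at h1
      funext i
      have h2 := congrArg (fun q => coeff q (i : ℕ)) h1
      simp [coeff_C_mul_X_pow, Fin.val_inj, eq_comm] at h2
      rw [eq_C_of_natDegree_le_zero (hc i)]
      simp [h2]
    | succ m ih =>
      intro c hc h
      obtain ⟨s, hs, hs'⟩ := hconst c
      rw [h] at hs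
      obtain ⟨h1, h1'⟩ := div_modByMonic_unique (f := (0 : A[X])) s _ hm ⟨hs.symm, hlow _⟩
      rw [zero_divByMonic] at h1
      rw [zero_modByMonic] at h1'
      rw [hs', eq_comm, neg_eq_zero] at h1
      have h3 := ih (fun i => (c i).divX) (fun i => by
        rw [natDegree_divX_eq_natDegree_tsub_one]; have := hc i; omega) h1
      funext i
      have h2 := congrArg (fun q => coeff q (i : ℕ)) h1'
      simp [coeff_C_mul_X_pow, Fin.val_inj, eq_comm] at h2
      rw [← X_mul_divX_add (c i), show (c i).divX = 0 from congrFun h3 i, mul_zero, zero_add]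
      simp [h2]
  obtain ⟨c, hc⟩ := hexists q.natDegree q le_rfl
  refine ⟨c, hc, fun c' hc' => ?_⟩
  have h0 : Φ (c' - c) = 0 := by
    have : Φ (c' - c) = Φ c' - Φ c := by simp [Φ, sub_mul, Finset.sum_sub_distrib]
    rw [this, ← hc]
    exact sub_eq_zero.2 hc'.symm
  exact sub_eq_zero.1 (huniq _ _ (fun i => Finset.le_sup (f := fun i => ((c' - c) i).natDegree) (Finset.mem_univ i)) h0)

end Groth.Agent.S5120
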