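import Groth.Statements.S5122
import Groth.Agent.SubmDescLib.Fpqc
import Groth.Agent.SubmDescLib.Bridge
-- import your own Groth.Agent.* helpers here

set_option autoImplicit false
universe u
open SGA1

namespace Groth.Agent.S5122

open AlgebraicGeometry CategoryTheory CategoryTheory.Limits in
/-- Let g : S' ⟶ S be universally submersive, D a descent datum relative to g (functor-of-points form,
for the one-member family g) whose underlying S'-scheme is etale, separated and of finite type over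
S', and p : S₁ ⟶ S faithfully flat and quasi-compact. Then D is effective in the fibred category of
etale separated finite-type schemes (isomorphic to the canonical datum of some etale, separated,
quasi-compact S-scheme) if and only if the descent datum obtained by base change along p, relative
to S' ×_S S₁ ⟶ S₁, is effective in the same sense over S₁. -/
theorem result {S S' S₁ : Scheme.{u}} (g : S' ⟶ S) (hg : SGA1.UnivSubmersive g)
    (D : Desc.SchDDFam (fun _ : PUnit.{1} => g))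
    [Etale (D.obj PUnit.unit).hom] [IsSeparated (D.obj PUnit.unit).hom] [QuasiCompact (D.obj PUnit.unit).hom]
    (p : S₁ ⟶ S) [Flat p] [Surjective p] [QuasiCompact p] :
    (∃ U : Over S, Etale U.hom ∧ IsSeparated U.hom ∧ QuasiCompact U.hom ∧ Nonempty ((Desc.toDDFam (fun _ : PUnit.{1} => g)).obj U ≅ D)) ↔
      (∃ U : Over S₁, Etale U.hom ∧ IsSeparated U.hom ∧ QuasiCompact U.hom ∧
        Nonempty ((Desc.toDDFam (fun _ : PUnit.{1} => pullback.snd g p)).obj U ≅
          (Desc.pullDDFam (f := fun _ : PUnit.{1} => g) (f' := fun _ : PUnit.{1} => pullback.snd g p)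
        (α := id) (p := p) (p' := fun _ => pullback.fst g p) (fun _ => pullback.condition)).obj D)) := by
  constructor
  · rintro ⟨U, h₁, h₂, h₃, i⟩
    obtain ⟨U', v, q, hv, hq⟩ := (SubmDescLib.effective_iff_qAt (D := D)
      (@Etale ⊓ @IsSeparated ⊓ @QuasiCompact)).1 ⟨U, ⟨⟨h₁, h₂⟩, h₃⟩, i⟩
    obtain ⟨q₂, hq₂, -⟩ := hq.exists_baseChange p p (Category.comp_id _) (IsPullback.of_hasPullback v p)
    obtain ⟨W, ⟨⟨a, b⟩, c⟩, j⟩ := (SubmDescLib.effective_pull_iff (@Etale ⊓ @IsSeparated ⊓ @QuasiCompact)).2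
      ⟨_, _, q₂, ⟨⟨MorphismProperty.pullback_snd (P := @Etale) _ _ hv.1.1,
        MorphismProperty.pullback_snd (P := @IsSeparated) _ _ hv.1.2⟩,
        MorphismProperty.pullback_snd (P := @QuasiCompact) _ _ hv.2⟩, hq₂⟩
    exact ⟨W, a, b, c, j⟩
  · rintro ⟨U₁, h₁, h₂, h₃, i⟩
    obtain ⟨U', v₁, q₁, hv₁, hq₁⟩ := (SubmDescLib.effective_pull_iff (D := D) (s := p)
      (@Etale ⊓ @IsSeparated ⊓ @QuasiCompact)).1 ⟨U₁, ⟨⟨h₁, h₂⟩, h₃⟩, i⟩
    haveI := hv₁.1.1; haveI := hv₁.1.2; haveI := hv₁.2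
    obtain ⟨U, v, q, ⟨e, s, c⟩, hq⟩ := SubmDescLib.exists_qAt_of_fpqc (SubmDescLib.sdd D) p hg hq₁
    obtain ⟨W, ⟨⟨a, b⟩, c'⟩, j⟩ := (SubmDescLib.effective_iff D (@Etale ⊓ @IsSeparated ⊓ @QuasiCompact)).2
      ⟨U, v, q, ⟨⟨e, s⟩, c⟩, hq⟩
    exact ⟨W, a, b, c', j⟩

end Groth.Agent.S5122
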