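import Groth.Statements.S5127
import Groth.Agent.SubmDescLib.Completion
import Groth.Agent.SubmDescLib.GlueOpen
import Groth.Agent.GonfLib.Residue
import Groth.Agent.AdicRingLib.Completion
-- import your own Groth.Agent.* helpers here

set_option autoImplicit false
universe u
open SGA1

namespace Groth.Agent.S5127

open AlgebraicGeometry CategoryTheory CategoryTheory.Limits in
/-- Let S be locally Noetherian, g : S' ⟶ S universally submersive and of finite presentation, and D a
descent datum relative to g (functor-of-points form, for the one-member family g) whose underlying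
S'-scheme is etale, separated and of finite presentation over S'. Then D is the canonical datum of
some etale S-scheme if and only if, for every complete Noetherian local ring B with algebraically
closed residue field and every morphism q : Spec B ⟶ S, the descent datum induced over Spec B
(relative to S' ×_S Spec B ⟶ Spec B) is the canonical datum of some etale B-scheme. -/
theorem result {S S' : Scheme.{u}} [IsLocallyNoetherian S]
    (g : S' ⟶ S) (hg : SGA1.UnivSubmersive g) [LocallyOfFinitePresentation g] [QuasiCompact g] [QuasiSeparated g]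
    (D : Desc.SchDDFam (fun _ : PUnit.{1} => g)) [Etale (D.obj PUnit.unit).hom]
    [QuasiCompact (D.obj PUnit.unit).hom] [IsSeparated (D.obj PUnit.unit).hom] :
    (∃ U : Over S, Etale U.hom ∧ Nonempty ((Desc.toDDFam (fun _ : PUnit.{1} => g)).obj U ≅ D)) ↔ ∀ (B : Type u) [CommRing B] [IsNoetherianRing B] [IsLocalRing B]
      [IsAdicComplete (IsLocalRing.maximalIdeal B) B] [IsAlgClosed (IsLocalRing.ResidueField B)]
      (q : Spec (CommRingCat.of B) ⟶ S), (∃ U : Over (Spec (CommRingCat.of B)), Etale U.hom ∧
        Nonempty ((Desc.toDDFam (fun _ : PUnit.{1} => pullback.snd g q)).obj U ≅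
          (Desc.pullDDFam (f := fun _ : PUnit.{1} => g) (f' := fun _ : PUnit.{1} => pullback.snd g q)
        (α := id) (p := q) (p' := fun _ => pullback.fst g q) (fun _ => pullback.condition)).obj D)) := by
  haveI : LocallyOfFinitePresentation (SubmDescLib.sdd D).obj.hom :=
    inferInstanceAs (LocallyOfFinitePresentation (D.obj PUnit.unit).hom)
  haveI : QuasiCompact (SubmDescLib.sdd D).obj.hom := inferInstanceAs (QuasiCompact (D.obj PUnit.unit).hom)
  haveI : IsSeparated (SubmDescLib.sdd D).obj.hom := inferInstanceAs (IsSeparated (D.obj PUnit.unit).hom)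
  rw [SubmDescLib.effective_iff_qAt @Etale]
  constructor
  · intro h B _ _ _ _ _ q
    exact (SubmDescLib.effective_pull_iff @Etale).2 (SubmDescLib.HasEt.comp
      (show SubmDescLib.HasEt (SubmDescLib.sdd D) (𝟙 S) from h) _ _ (Category.comp_id _))
  · intro h
    refine SubmDescLib.hasEt_of_open_cover (fun a => SubmDescLib.exists_open_of_hasEt_stalk hg ?_) hg
    let O := S.presheaf.stalk a
    let K := AlgebraicClosure (IsLocalRing.ResidueField O)
    obtain ⟨B, _, _, _, _, hflat, -, hN, e, -⟩ := GonfLib.exists_local_extension_residueField (A := O) K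
    haveI := hN inferInstance
    let C := AdicCompletion (IsLocalRing.maximalIdeal B) B
    haveI : IsNoetherianRing C := AdicRingLib.isNoetherianRing_adicCompletion _
    haveI : IsAlgClosed (IsLocalRing.ResidueField C) :=
      IsAlgClosed.of_ringEquiv K _
        (e.symm.trans (RingEquiv.ofBijective _ (AdicCompletion.residueField_map_bijective B)))
    haveI : Module.Flat B C := AdicCompletion.flat_of_isNoetherian _
    obtain ⟨hf₁, hs₁⟩ := SubmDescLib.flat_surjective_SpecMap (A := O) (B := B)
    obtain ⟨hf₂, hs₂⟩ := SubmDescLib.flat_surjective_SpecMap (A := B) (B := C)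
    let φ₁ : Spec (CommRingCat.of B) ⟶ Spec O := Spec.map (CommRingCat.ofHom (algebraMap O B))
    let φ₂ : Spec (CommRingCat.of C) ⟶ Spec (CommRingCat.of B) := Spec.map (CommRingCat.ofHom (algebraMap B C))
    haveI : Flat φ₁ := hf₁
    haveI : Surjective φ₁ := hs₁
    haveI : Flat φ₂ := hf₂
    haveI : Surjective φ₂ := hs₂
    haveI : QuasiCompact (φ₂ ≫ φ₁) := inferInstance
    exact SubmDescLib.hasEt_of_ff_extension (S.fromSpecStalk a) (φ₂ ≫ φ₁) rfl hg
      ((SubmDescLib.effective_pull_iff @Etale).1 (h C ((φ₂ ≫ φ₁) ≫ S.fromSpecStalk a)))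

end Groth.Agent.S5127
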