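import Groth.Statements.S5128
import Groth.Agent.FFDescLib.EtaleGraph

set_option autoImplicit false
universe u
open SGA1

namespace Groth.Agent.S5128

open AlgebraicGeometry CategoryTheory CategoryTheory.Limits in
/-- Let X and Y be S-schemes with Y etale over S. The map f ↦ Γ_f sending an S-morphism f : X ⟶ Y to the
subset of X ×_S Y underlying its graph is a bijection from Hom_S(X, Y) onto the set of open subsets
Γ of X ×_S Y for which the restriction Γ → X of the first projection is radicial (universally
injective) and surjective. Stated as: the graph of every S-morphism is an open immersion, and every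
such open Γ is the image of the graph of exactly one S-morphism. -/
theorem result {S X Y : Scheme.{u}} (p : X ⟶ S)
    (q : Y ⟶ S) [Etale q] :
    (∀ f : {f : X ⟶ Y // f ≫ q = p},
      IsOpenImmersion (pullback.lift (𝟙 X) f.1 ((Category.id_comp p).trans f.2.symm) : X ⟶ pullback p q)) ∧
    ∀ Γ : (pullback p q).Opens, UniversallyInjective (Γ.ι ≫ pullback.fst p q) → Surjective (Γ.ι ≫ pullback.fst p q) →
      ∃! f : {f : X ⟶ Y // f ≫ q = p},
        Set.range (pullback.lift (𝟙 X) f.1 ((Category.id_comp p).trans f.2.symm) : X ⟶ pullback p q).base =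
          (Γ : Set ↥(pullback p q)) := by
  refine ⟨fun f => FFDescLib.isOpenImmersion_of_section (pullback.fst p q) _ (pullback.lift_fst _ _ _),
    fun Γ _ _ => ?_⟩
  let h := Γ.ι ≫ pullback.fst p q
  haveI : IsIso h := FFDescLib.isIso_of_etale_univInjective_surjective h
  let t : X ⟶ pullback p q := inv h ≫ Γ.ι
  have ht : t ≫ pullback.fst p q = 𝟙 X := by simp only [t, Category.assoc]; exact IsIso.inv_hom_id h
  have hf : (t ≫ pullback.snd p q) ≫ q = p := by
    rw [Category.assoc, ← pullback.condition, reassoc_of% ht]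
  have hlift : pullback.lift (𝟙 X) (t ≫ pullback.snd p q) ((Category.id_comp p).trans hf.symm) = t := by
    apply pullback.hom_ext
    · rw [pullback.lift_fst, ht]
    · rw [pullback.lift_snd]
  refine ⟨⟨t ≫ pullback.snd p q, hf⟩, ?_, fun f' hf' => Subtype.ext ?_⟩
  · show Set.range (pullback.lift (𝟙 X) (t ≫ pullback.snd p q) ((Category.id_comp p).trans hf.symm)) = (Γ : Set ↥(pullback p q))
    rw [hlift]
    simp only [t, Scheme.Hom.comp_base, TopCat.coe_comp]
    rw [(Scheme.Hom.surjective (inv h)).range_comp, Scheme.Opens.range_ι]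
  · have hr : Set.range (pullback.lift (𝟙 X) f'.1 ((Category.id_comp p).trans f'.2.symm) : X ⟶ pullback p q) ⊆
        Set.range Γ.ι := by rw [Scheme.Opens.range_ι]; exact hf'.le
    let k := IsOpenImmersion.lift Γ.ι _ hr
    have hk : k ≫ Γ.ι = _ := IsOpenImmersion.lift_fac Γ.ι _ hr
    have hk' : k = inv h := IsIso.eq_inv_of_inv_hom_id (by
      show k ≫ Γ.ι ≫ pullback.fst p q = 𝟙 X
      rw [reassoc_of% hk, pullback.lift_fst])
    show f'.1 = t ≫ pullback.snd p q
    rw [← pullback.lift_snd (𝟙 X) f'.1 ((Category.id_comp p).trans f'.2.symm), ← hk, hk']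

end Groth.Agent.S5128
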