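import Groth.Statements.S5131
import Groth.Agent.FEtSplitLib.SteinNear
import Groth.Agent.S1297

set_option autoImplicit false
set_option backward.isDefEq.respectTransparency false
set_option backward.isDefEq.respectTransparency.types false
set_option maxRecDepth 8000
set_option maxHeartbeats 1000000
universe u
open SGA1

namespace Groth.Agent.S5131

open AlgebraicGeometry CategoryTheory CategoryTheory.Limits in
/-- Let f : X ⟶ S be a proper morphism of locally Noetherian schemes with f_* O_X = O_S (the maps O_S(U)
→ O_X(f⁻¹U) are bijective), X' a scheme proper over X via g, and X' → S' → S the Stein factorisation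
of g ≫ f (S' the normalisation of S in X'), with c : X' ⟶ X ×_S S' the canonical morphism. Let s be
a point of S, s' a point of S' over s, and F'₁ the open and closed part of the fibre X'_s consisting
of the points sent to s' (a connected component of X'_s). Then c is an isomorphism over some open
neighbourhood U' of s' with U' etale over S if and only if X' is etale over X at every point of F'₁
and F'₁ is a finite etale cover of the fibre X_s which splits completely after base change to an
algebraic closure of k(s). -/
theorem result {X X' S : Scheme.{u}} [IsLocallyNoetherian S]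
    [IsLocallyNoetherian X] (f : X ⟶ S) [IsProper f] (hO : ∀ U : S.Opens, Function.Bijective (f.app U).hom)
    (g : X' ⟶ X) [IsProper g]
    (c : X' ⟶ pullback f (g ≫ f).fromNormalization)
    (hc1 : c ≫ pullback.fst f (g ≫ f).fromNormalization = g)
    (hc2 : c ≫ pullback.snd f (g ≫ f).fromNormalization = (g ≫ f).toNormalization)
    (s : S) (s' : ↥((g ≫ f).normalization)) (hs' : (g ≫ f).fromNormalization.base s' = s)
    (C : (pullback (g ≫ f) (S.fromSpecResidueField s)).Opens)
    (hC : ∀ x : ↥(pullback (g ≫ f) (S.fromSpecResidueField s)),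
      x ∈ C ↔ (g ≫ f).toNormalization.base ((pullback.fst (g ≫ f) (S.fromSpecResidueField s)).base x) = s') :
    (∃ U' : ((g ≫ f).normalization).Opens, s' ∈ U' ∧ Etale (U'.ι ≫ (g ≫ f).fromNormalization) ∧
        IsIso (c ∣_ ((pullback.snd f (g ≫ f).fromNormalization) ⁻¹ᵁ U'))) ↔
      ((∀ x : C, (pullback.fst (g ≫ f) (S.fromSpecResidueField s)).base x.1 ∈ Pi1X.etaleLocus g) ∧
        ∃ (hF : IsFinite (C.ι ≫ pullback.map (g ≫ f) (S.fromSpecResidueField s) f (S.fromSpecResidueField s) g (𝟙 _) (𝟙 S)
        (Category.comp_id _) ((Category.comp_id _).trans (Category.id_comp _).symm)))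
          (hE : Etale (C.ι ≫ pullback.map (g ≫ f) (S.fromSpecResidueField s) f (S.fromSpecResidueField s) g (𝟙 _) (𝟙 S)
        (Category.comp_id _) ((Category.comp_id _).trans (Category.id_comp _).symm))),
          Pi1.IsSplit ((FEt.restrict (pullback.fst (pullback.snd f (S.fromSpecResidueField s))
            (Spec.map (CommRingCat.ofHom (algebraMap (S.residueField s) (AlgebraicClosure (S.residueField s))))))).obj
            (MorphismProperty.Over.mk ⊤ (C.ι ≫ pullback.map (g ≫ f) (S.fromSpecResidueField s) f (S.fromSpecResidueField s) g (𝟙 _) (𝟙 S)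
        (Category.comp_id _) ((Category.comp_id _).trans (Category.id_comp _).symm)) ⟨hF, hE⟩))) := by
  let h := (g ≫ f).toNormalization
  let ν := (g ≫ f).fromNormalization
  haveI : IsProper h := SteinLib.isProper_toNormalization (g ≫ f)
  haveI : IsFinite ν := Groth.Agent.S1297.result (g ≫ f)
  have hν : h ≫ ν = g ≫ f := (g ≫ f).toNormalization_fromNormalization
  have hb : ∀ U, Function.Bijective (h.app U).hom := fun U =>
    (ConcreteCategory.isIso_iff_bijective _).1 (SteinLib.isIso_toNormalization_app (g ≫ f) U)
  have hm : C.ι ≫ pullback.map (g ≫ f) (S.fromSpecResidueField s) f (S.fromSpecResidueField s) g (𝟙 _) (𝟙 S)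
      (Category.comp_id _) ((Category.comp_id _).trans (Category.id_comp _).symm) =
      C.ι ≫ FEtSplit.mW g f (S.fromSpecResidueField s) := by
    congr 1
  constructor
  · rintro ⟨U', hU', het, hiso⟩
    have sq := (FEtSplit.isIso_restrict_iff h hν c hc1 hc2 U').mp hiso
    obtain ⟨hloc, hF, hE, ι, hι, e, he⟩ := FEtSplit.fibre_split_of_isPullback h hν U' sq s s' hU' hs' C hC
    rw [← hm] at hF hE
    refine ⟨hloc, hF, hE, ι, hι, e, fun i => ?_⟩
    show _ ≫ e.inv ≫ pullback.snd (C.ι ≫ FEtSplit.mW g f (S.fromSpecResidueField s)) _ = _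
    rw [← he, e.inv_hom_id_assoc]
    exact Sigma.ι_desc _ _
  · rintro ⟨hloc, hF, hE, hsp⟩
    obtain ⟨ι, hι, hs⟩ := FEtSplit.exists_splits_of_isSplit hsp
    have hs₂ : FEtSplit.Splits ι (pullback.snd (C.ι ≫ FEtSplit.mW g f (S.fromSpecResidueField s))
        (pullback.fst (pullback.snd f (S.fromSpecResidueField s))
          (Spec.map (CommRingCat.ofHom (algebraMap (S.residueField s) (AlgebraicClosure (S.residueField s))))))) := by
      rw [← hm]
      exact hs
    obtain ⟨U', hU', het, sq⟩ := FEtSplit.exists_nhd_isPullback f g h ν hO hν hb s s' hs' C hC hloc ⟨ι, hι, hs₂⟩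
    exact ⟨U', hU', het, (FEtSplit.isIso_restrict_iff h hν c hc1 hc2 U').mpr sq⟩

end Groth.Agent.S5131
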