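import Groth.Statements.S5135


set_option autoImplicit false
universe u
open scoped TensorProduct
open SGA1

namespace Groth.Agent.S5135

/-- The affine case, in submodule form (descent of submodules, equivalently of quotient modules): for A
⟶ A' faithfully flat, M an A-module and N' an A'-submodule of A' ⊗ M whose two extensions to (A' ⊗
A') ⊗ M, along a ↦ a ⊗ 1 and a ↦ 1 ⊗ a, generate the same submodule, N' is the base change of the
submodule of M formed by the elements m with 1 ⊗ m in N'. -/
theorem result (A A' : Type u) [CommRing A] [CommRing A'] [Algebra A A']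
    [Module.FaithfullyFlat A A'] (M : Type u) [AddCommGroup M] [Module A M] (N' : Submodule A' (A' ⊗[A] M))
    (h : Submodule.span (A' ⊗[A] A')
          ((N'.restrictScalars A).map
            ((Algebra.TensorProduct.includeLeft : A' →ₐ[A] A' ⊗[A] A').toLinearMap.rTensor M) : Set ((A' ⊗[A] A') ⊗[A] M)) =
        Submodule.span (A' ⊗[A] A')
          ((N'.restrictScalars A).map
            ((Algebra.TensorProduct.includeRight : A' →ₐ[A] A' ⊗[A] A').toLinearMap.rTensor M) : Set ((A' ⊗[A] A') ⊗[A] M))) :
    ((N'.restrictScalars A).comap (TensorProduct.mk A A' M 1)).baseChange A' = N' := by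

  let Q := (A' ⊗[A] M) ⧸ N'
  let π : (A' ⊗[A] M) →ₗ[A] Q := N'.mkQ.restrictScalars A
  let e := TensorProduct.assoc A A' A' M
  let φ : (A' ⊗[A] A') ⊗[A] M →ₗ[A] A' ⊗[A] Q := (π.lTensor A').comp e.toLinearMap
  have hφsmul : ∀ (a b : A') (z : (A' ⊗[A] A') ⊗[A] M),
      φ ((a ⊗ₜ[A] b) • z) = a • ((Algebra.lsmul A A Q b).lTensor A' (φ z)) := by
    intro a b z
    induction z using TensorProduct.induction_on with
    | zero => simp
    | tmul w m =>
      induction w using TensorProduct.induction_on with
      | zero => simp
      | tmul c d =>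
        simp only [φ, π, e, LinearMap.comp_apply, LinearEquiv.coe_coe, TensorProduct.smul_tmul', smul_eq_mul,
          Algebra.TensorProduct.tmul_mul_tmul, TensorProduct.assoc_tmul, LinearMap.lTensor_tmul,
          LinearMap.restrictScalars_apply, Algebra.lsmul_coe]
        rw [show ((b * d) ⊗ₜ[A] m : A' ⊗[A] M) = b • (d ⊗ₜ[A] m) by rw [TensorProduct.smul_tmul', smul_eq_mul],
          map_smul]
      | add w w' hw hw' => simp only [TensorProduct.add_tmul, smul_add, map_add, hw, hw']
    | add z z' hz hz' => simp only [smul_add, map_add, hz, hz']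
  have hker : ∀ z ∈ Submodule.span (A' ⊗[A] A')
      ((N'.restrictScalars A).map
        ((Algebra.TensorProduct.includeRight : A' →ₐ[A] A' ⊗[A] A').toLinearMap.rTensor M) : Set ((A' ⊗[A] A') ⊗[A] M)),
      φ z = 0 := by
    intro z hz
    induction hz using Submodule.span_induction with
    | mem x hx =>
      obtain ⟨n, hn, rfl⟩ := hx
      have h1 : ∀ y : A' ⊗[A] M,
          φ ((Algebra.TensorProduct.includeRight : A' →ₐ[A] A' ⊗[A] A').toLinearMap.rTensor M y) = (1 : A') ⊗ₜ[A] π y := by
        intro y
        induction y using TensorProduct.induction_on with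
        | zero => simp
        | tmul c m => simp [φ, e]
        | add y y' hy hy' => simp only [map_add, hy, hy', TensorProduct.tmul_add]
      rw [h1, show π n = 0 from (Submodule.Quotient.mk_eq_zero N').mpr hn, TensorProduct.tmul_zero]
    | zero => simp
    | add x y _ _ hx hy => simp [hx, hy]
    | smul r x _ hx =>
      induction r using TensorProduct.induction_on with
      | zero => simp
      | tmul a b => rw [hφsmul, hx, map_zero, smul_zero]
      | add r r' hr hr' => rw [add_smul, map_add, hr, hr', add_zero]
  let g : M →ₗ[A] Q := π.comp (TensorProduct.mk A A' M 1)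
  have hN : LinearMap.ker g = (N'.restrictScalars A).comap (TensorProduct.mk A A' M 1) := by
    ext m
    simp [g, π, Q]
  refine le_antisymm ?_ ?_
  · rw [Submodule.baseChange_eq_span, Submodule.span_le]
    rintro _ ⟨m, hm, rfl⟩
    exact hm
  · intro x hx
    have h0 : g.lTensor A' x = 0 := by
      have h2 : ∀ y : A' ⊗[A] M, g.lTensor A' y =
          φ ((Algebra.TensorProduct.includeLeft : A' →ₐ[A] A' ⊗[A] A').toLinearMap.rTensor M y) := by
        intro y
        induction y using TensorProduct.induction_on with
        | zero => simp
        | tmul c m => simp [φ, e, g]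
        | add y y' hy hy' => simp only [map_add, hy, hy']
      rw [h2]
      refine hker _ ?_
      rw [← h]
      exact Submodule.subset_span ⟨x, hx, rfl⟩
    have hex : Function.Exact (LinearMap.ker g).subtype g := LinearMap.exact_subtype_ker_map g
    obtain ⟨w, hw⟩ := (Module.Flat.lTensor_exact A' hex x).mp h0
    rw [← hw]
    clear hw h0 hx x
    induction w using TensorProduct.induction_on with
    | zero => simp
    | tmul c n =>
      rw [LinearMap.lTensor_tmul]
      exact Submodule.tmul_mem_baseChange_of_mem c (hN ▸ n.2)
    | add w w' hw hw' => rw [map_add]; exact Submodule.add_mem _ hw hw' 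

end Groth.Agent.S5135
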