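import Groth.Statements.S5136
import Groth.Agent.DescLib.Main
import Groth.Agent.SubDescLib.Fpqc

set_option autoImplicit false
open CategoryTheory CategoryTheory.Limits AlgebraicGeometry
universe u
open SGA1

namespace Groth.Agent.S5136

theorem comap_eq_bot_iff {T X : Scheme.{u}} (J : X.IdealSheafData) (x : T ⟶ X) :
    J.comap x = ⊥ ↔ J ≤ x.ker := by
  rw [← le_bot_iff, ← Scheme.IdealSheafData.le_map_iff_comap_le, Scheme.IdealSheafData.map_bot]



/-- The existence half of the exactness of H(S) ⟶ H(S') ⇉ H(S'') for closed subschemes: for g : S' ⟶ S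
flat, surjective and quasi-compact, a quasi-coherent ideal sheaf on S' whose pullbacks along the two
projections of S' ×_S S' agree is the pullback of a quasi-coherent ideal sheaf on S. (Injectivity of
the pullback of ideal sheaves along g is the other half.) -/
theorem result {S S' : Scheme.{u}} (g : S' ⟶ S) [Flat g] [Surjective g]
    [QuasiCompact g] (J' : S'.IdealSheafData)
    (h : J'.comap (pullback.fst g g) = J'.comap (pullback.snd g g)) :
    ∃ J : S.IdealSheafData, J.comap g = J' := by

  haveI : DescLib.Fpqc g := inferInstance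
  have key : ∀ {T : Scheme.{u}} (x₀ x₁ : T ⟶ S'), x₀ ≫ g = x₁ ≫ g → J' ≤ x₀.ker → J' ≤ x₁.ker := by
    intro T x₀ x₁ hx h0
    rw [← comap_eq_bot_iff] at h0 ⊢
    rw [← pullback.lift_fst x₀ x₁ hx, Scheme.IdealSheafData.comap_comp] at h0
    rw [← pullback.lift_snd x₀ x₁ hx, Scheme.IdealSheafData.comap_comp, ← h]
    exact h0
  have toLe : ∀ {T : Scheme.{u}} {x : T ⟶ S'}, Desc.Lifts (Over.mk J'.subschemeι) x → J' ≤ x.ker := by
    rintro T x ⟨v, rfl⟩
    exact (Scheme.IdealSheafData.ker_subschemeι J').symm.le.trans (Scheme.Hom.le_ker_comp v _)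
  have hsub : ∀ {T : Scheme.{u}} {x : T ⟶ S'} (v w : Desc.Lifts (Over.mk J'.subschemeι) x), v = w :=
    fun v w => Subtype.ext ((cancel_mono J'.subschemeι).mp (v.2.trans w.2.symm))
  let toLift : ∀ {T : Scheme.{u}} {x : T ⟶ S'}, J' ≤ x.ker → Desc.Lifts (Over.mk J'.subschemeι) x :=
    fun {T x} hx => ⟨IsClosedImmersion.lift J'.subschemeι x ((Scheme.IdealSheafData.ker_subschemeι J').le.trans hx),
      IsClosedImmersion.lift_fac _ _ _⟩
  let D : Desc.SchDD g :=
    { obj := Over.mk J'.subschemeι
      φ := fun T x₀ x₁ hx =>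
        { toFun := fun v => toLift (key x₀ x₁ hx (toLe v))
          invFun := fun v => toLift (key x₁ x₀ hx.symm (toLe v))
          left_inv := fun v => hsub _ _
          right_inv := fun v => hsub _ _ }
      φ_natural := fun T T' c x₀ x₁ hx hx' v v' hv => by
        refine (cancel_mono J'.subschemeι).mp ?_
        exact (Subtype.prop (toLift (key _ _ hx' (toLe v')))).trans (((congrArg (c ≫ ·)
          (Subtype.prop (toLift (key x₀ x₁ hx (toLe v))))).symm).trans (Category.assoc _ _ _).symm)
      φ_self := fun T x v => hsub _ _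
      φ_comp := fun T x₀ x₁ x₂ h₁ h₂ v => hsub _ _ }
  haveI : IsAffineHom D.obj.hom := (inferInstance : IsAffineHom J'.subschemeι)
  obtain ⟨U, ⟨e⟩⟩ := DescLib.effective_of_isAffineHom (p := g) D
  let E : pullback g U.hom ⟶ J'.subscheme := e.hom.hom.left
  have hfwd : E ≫ J'.subschemeι = pullback.fst g U.hom := Over.w e.hom.hom
  have h1 : e.hom.hom.left ≫ e.inv.hom.left = 𝟙 _ := congrArg (fun t => t.hom.left) e.hom_inv_id
  have h2 : e.inv.hom.left ≫ e.hom.hom.left = 𝟙 _ := congrArg (fun t => t.hom.left) e.inv_hom_id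
  haveI : IsIso E := ⟨e.inv.hom.left, h1, h2⟩
  haveI : IsClosedImmersion (pullback.fst g U.hom) := by
    rw [← hfwd]; infer_instance
  haveI : IsClosedImmersion U.hom := by
    refine Groth.Agent.SubDesc.prop_of_fpqc @IsClosedImmersion g U.hom ?_
    rw [← pullbackSymmetry_hom_comp_fst]
    infer_instance
  refine ⟨U.hom.ker, ?_⟩
  rw [← Scheme.IdealSheafData.ker_fst_of_isClosedImmersion, ← hfwd, Scheme.Hom.ker_comp_of_isIso,
    Scheme.IdealSheafData.ker_subschemeι]

end Groth.Agent.S5136
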