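import Groth.Statements.S5138
import Groth.Agent.UnramGULib.CompEtale

set_option autoImplicit false
open CategoryTheory AlgebraicGeometry
universe u
open SGA1

namespace Groth.Agent.S5138

/-- For X ⟶ X' ⟶ Y locally of finite type over a locally Noetherian Y and a point x of X, if X ⟶ X' and
the composite X ⟶ Y are both etale near x then X' ⟶ Y is etale near the image of x; 'etale near a
point' is membership in the etale locus, the union of the opens on which the morphism is etale. (The
published statement takes the morphisms of finite type; quasi-compactness plays no role in this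
assertion about single points, so only local finiteness is assumed.) -/
theorem result {X X' Y : Scheme.{u}} (f : X ⟶ X') (g : X' ⟶ Y)
    [IsLocallyNoetherian Y] [LocallyOfFiniteType f] [LocallyOfFiniteType g] (x : X)
    (hf : x ∈ Pi1X.etaleLocus f) (hfg : x ∈ Pi1X.etaleLocus (f ≫ g)) : f.base x ∈ Pi1X.etaleLocus g := by

  obtain ⟨U₁, hU₁, hx₁⟩ := TopologicalSpace.Opens.mem_sSup.mp hf
  obtain ⟨U₂, hU₂, hx₂⟩ := TopologicalSpace.Opens.mem_sSup.mp hfg
  haveI : Etale ((Scheme.Opens.ι (U₁ ⊓ U₂)) ≫ f) := by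
    rw [← X.homOfLE_ι (inf_le_left : U₁ ⊓ U₂ ≤ U₁), Category.assoc]
    haveI : Etale (Scheme.Opens.ι U₁ ≫ f) := hU₁
    infer_instance
  haveI : Etale (((Scheme.Opens.ι (U₁ ⊓ U₂)) ≫ f) ≫ g) := by
    rw [← X.homOfLE_ι (inf_le_right : U₁ ⊓ U₂ ≤ U₂), Category.assoc, Category.assoc]
    haveI : Etale (Scheme.Opens.ι U₂ ≫ f ≫ g) := hU₂
    infer_instance
  obtain ⟨V, hV, hVet⟩ := UnramGULib.etale_nbhd_descends ((Scheme.Opens.ι (U₁ ⊓ U₂)) ≫ f) g ⟨x, hx₁, hx₂⟩
  exact TopologicalSpace.Opens.mem_sSup.mpr ⟨V, hVet, hV⟩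

end Groth.Agent.S5138
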