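import Groth.Statements.S5142
import Groth.Agent.FibLib.Fp

set_option autoImplicit false
open CategoryTheory
universe u v u₂ v₂
open FibCat

namespace Groth.Agent.S5142

/-- A morphism of the fibre product 𝒳 ×_C 𝒴 of two categories over C is cartesian if and only if its two
components are cartesian (each over its image in C). The fibre product is taken as the 2-fibre
product over C of the two structure functors, whose objects are pairs over one object of C together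
with an isomorphism of C lying over an identity. -/
theorem result {C : Type u} [Category.{v} C] {𝒳 𝒴 : BasedCategory.{v₂, u₂} C}
    {x y : (FibCat.fp (FibCat.toSelf 𝒳) (FibCat.toSelf 𝒴)).obj} (φ : x ⟶ y) :
    (FibCat.fp (FibCat.toSelf 𝒳) (FibCat.toSelf 𝒴)).p.IsCartesian
        ((FibCat.fp (FibCat.toSelf 𝒳) (FibCat.toSelf 𝒴)).p.map φ) φ ↔
      𝒳.p.IsCartesian (𝒳.p.map φ.hom.fst) φ.hom.fst ∧ 𝒴.p.IsCartesian (𝒴.p.map φ.hom.snd) φ.hom.snd := by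
  have key : ∀ {a b c e : C} {R S : C} (g : R ⟶ S) (p : a ⟶ b) (q : b ⟶ c) (p' : a ⟶ e) (q' : e ⟶ c),
      (FibCat.selfOver C).p.IsHomLift g p → (FibCat.selfOver C).p.IsHomLift (𝟙 S) q →
      (FibCat.selfOver C).p.IsHomLift (𝟙 R) p' → (FibCat.selfOver C).p.IsHomLift g q' → p ≫ q = p' ≫ q' :=
    fun g p q p' q' _ _ _ _ => (IsHomLift.fac' (FibCat.selfOver C).p g (p ≫ q)).trans
      (IsHomLift.fac' (FibCat.selfOver C).p g (p' ≫ q')).symm
  constructor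
  · intro hφ
    obtain ⟨f, hf⟩ : ∃ f, f = 𝒳.p.map φ.hom.fst := ⟨_, rfl⟩
    haveI hF : 𝒳.p.IsHomLift f φ.hom.fst := hf ▸ IsHomLift.map _ _
    haveI hS : 𝒴.p.IsHomLift f φ.hom.snd := hf ▸ (FibCat.fp_isHomLift_snd _ _ φ)
    haveI hφ' : (FibCat.fp (FibCat.toSelf 𝒳) (FibCat.toSelf 𝒴)).p.IsCartesian f φ := hf ▸ hφ
    refine ⟨hf ▸ ?_, (FibLib.isCartesian_map_iff 𝒴.p f φ.hom.snd).mpr ?_⟩
    · constructor
      intro z a ha
      have hz : 𝒳.p.obj z = 𝒳.p.obj x.obj.fst := IsHomLift.domain_eq 𝒳.p f a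
      let z' : (FibCat.fp (FibCat.toSelf 𝒳) (FibCat.toSelf 𝒴)).obj :=
        FibLib.fpObj z x.obj.snd (eqToIso (show (FibCat.toSelf 𝒳).obj z = (FibCat.toSelf 𝒴).obj x.obj.snd from hz.trans (FibLib.obj_snd_eq x).symm))
          (IsHomLift.eqToHom_domain_lift_id (p := (FibCat.selfOver C).p) (show (FibCat.toSelf 𝒳).obj z = (FibCat.toSelf 𝒴).obj x.obj.snd from hz.trans (FibLib.obj_snd_eq x).symm) rfl)
      let m : z' ⟶ y := FibLib.fpHom a φ.hom.snd (by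
        haveI hz' : (FibCat.selfOver C).p.IsHomLift (𝟙 (𝒳.p.obj x.obj.fst)) z'.obj.iso.hom := hz ▸ z'.property
        haveI hy' : (FibCat.selfOver C).p.IsHomLift (𝟙 (𝒳.p.obj y.obj.fst)) y.obj.iso.hom := y.property
        exact key f _ _ _ _ (@BasedFunctor.preserves_isHomLift _ _ _ _ (FibCat.toSelf 𝒳) _ _ _ _ f a ha) hy' hz'
          (@BasedFunctor.preserves_isHomLift _ _ _ _ (FibCat.toSelf 𝒴) _ _ _ _ f φ.hom.snd hS))
      haveI : 𝒳.p.IsHomLift f m.hom.fst := ha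
      haveI := FibLib.isHomLift_of_fst f m
      obtain ⟨χ, ⟨hχ, hχ'⟩, huniq⟩ := Functor.IsCartesian.universal_property (p := (FibCat.fp (FibCat.toSelf 𝒳) (FibCat.toSelf 𝒴)).p) (f := f) (φ := φ) m
      refine ⟨χ.hom.fst, ⟨FibLib.isHomLift_fst _ χ (h := hχ), congrArg (·.hom.fst) hχ'⟩, ?_⟩
      rintro k ⟨hk, hk'⟩
      let n : z' ⟶ x := FibLib.fpHom k (𝟙 _) (by
        haveI hz' : (FibCat.selfOver C).p.IsHomLift (𝟙 (𝒳.p.obj x.obj.fst)) z'.obj.iso.hom := hz ▸ z'.property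
        haveI hx' : (FibCat.selfOver C).p.IsHomLift (𝟙 (𝒳.p.obj x.obj.fst)) x.obj.iso.hom := x.property
        haveI : 𝒴.p.IsHomLift (𝟙 (𝒳.p.obj x.obj.fst)) (𝟙 x.obj.snd) := IsHomLift.id (FibLib.obj_snd_eq x)
        exact key (𝟙 (𝒳.p.obj x.obj.fst)) _ _ _ _ (@BasedFunctor.preserves_isHomLift _ _ _ _ (FibCat.toSelf 𝒳) _ _ _ _ _ k hk) hx' hz'
          (@BasedFunctor.preserves_isHomLift _ _ _ _ (FibCat.toSelf 𝒴) _ _ _ _ _ (𝟙 x.obj.snd) this))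
      haveI : 𝒳.p.IsHomLift (𝟙 _) n.hom.fst := hk
      exact congrArg (·.hom.fst) (huniq n ⟨FibLib.isHomLift_of_fst _ n,
        FibLib.fp_hom_ext hk' (Category.id_comp _)⟩)
    · constructor
      intro z b hb
      have hz : 𝒴.p.obj z = 𝒳.p.obj x.obj.fst := IsHomLift.domain_eq 𝒴.p f b
      let z' : (FibCat.fp (FibCat.toSelf 𝒳) (FibCat.toSelf 𝒴)).obj :=
        FibLib.fpObj x.obj.fst z (eqToIso (show (FibCat.toSelf 𝒳).obj x.obj.fst = (FibCat.toSelf 𝒴).obj z from hz.symm))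
          (IsHomLift.eqToHom_domain_lift_id (p := (FibCat.selfOver C).p) (show (FibCat.toSelf 𝒳).obj x.obj.fst = (FibCat.toSelf 𝒴).obj z from hz.symm) rfl)
      let m : z' ⟶ y := FibLib.fpHom φ.hom.fst b (by
        haveI hz' : (FibCat.selfOver C).p.IsHomLift (𝟙 (𝒳.p.obj x.obj.fst)) z'.obj.iso.hom := z'.property
        haveI hy' : (FibCat.selfOver C).p.IsHomLift (𝟙 (𝒳.p.obj y.obj.fst)) y.obj.iso.hom := y.property
        exact key f _ _ _ _ (@BasedFunctor.preserves_isHomLift _ _ _ _ (FibCat.toSelf 𝒳) _ _ _ _ f φ.hom.fst hF) hy' hz'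
          (@BasedFunctor.preserves_isHomLift _ _ _ _ (FibCat.toSelf 𝒴) _ _ _ _ f b hb))
      haveI : 𝒳.p.IsHomLift f m.hom.fst := hF
      haveI := FibLib.isHomLift_of_fst f m
      obtain ⟨χ, ⟨hχ, hχ'⟩, huniq⟩ := Functor.IsCartesian.universal_property (p := (FibCat.fp (FibCat.toSelf 𝒳) (FibCat.toSelf 𝒴)).p) (f := f) (φ := φ) m
      refine ⟨χ.hom.snd, ⟨FibLib.isHomLift_snd _ χ (h := hχ), congrArg (·.hom.snd) hχ'⟩, ?_⟩
      rintro k ⟨hk, hk'⟩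
      let n : z' ⟶ x := FibLib.fpHom (𝟙 _) k (by
        haveI hz' : (FibCat.selfOver C).p.IsHomLift (𝟙 (𝒳.p.obj x.obj.fst)) z'.obj.iso.hom := z'.property
        haveI hx' : (FibCat.selfOver C).p.IsHomLift (𝟙 (𝒳.p.obj x.obj.fst)) x.obj.iso.hom := x.property
        haveI : 𝒳.p.IsHomLift (𝟙 (𝒳.p.obj x.obj.fst)) (𝟙 x.obj.fst) := IsHomLift.id rfl
        exact key (𝟙 (𝒳.p.obj x.obj.fst)) _ _ _ _ (@BasedFunctor.preserves_isHomLift _ _ _ _ (FibCat.toSelf 𝒳) _ _ _ _ _ (𝟙 x.obj.fst) this) hx' hz'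
          (@BasedFunctor.preserves_isHomLift _ _ _ _ (FibCat.toSelf 𝒴) _ _ _ _ _ k hk))
      haveI : 𝒳.p.IsHomLift (𝟙 (𝒳.p.obj x.obj.fst)) n.hom.fst := IsHomLift.id rfl
      exact congrArg (·.hom.snd) (huniq n ⟨FibLib.isHomLift_of_fst _ n,
        FibLib.fp_hom_ext (Category.id_comp _) hk'⟩)
  · rintro ⟨hF, hS⟩
    haveI : 𝒳.p.IsCartesian (𝒳.p.map φ.hom.fst) φ.hom.fst := hF
    haveI : 𝒴.p.IsHomLift (𝒳.p.map φ.hom.fst) φ.hom.snd := FibCat.fp_isHomLift_snd _ _ φ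
    haveI := (FibLib.isCartesian_map_iff 𝒴.p (𝒳.p.map φ.hom.fst) φ.hom.snd).mp hS
    haveI : (FibCat.selfOver C).p.IsStronglyCartesian (𝒳.p.map φ.hom.fst) ((FibCat.toSelf 𝒴).map φ.hom.snd) := inferInstance
    exact FibLib.isCartesian_fp (𝒳.p.map φ.hom.fst) φ

end Groth.Agent.S5142
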