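import Groth.Statements.S5147
import Groth.Agent.GalFunLib.Whisker

set_option autoImplicit false
universe u v w
open CategoryTheory PreGaloisCategory
open Pi1

namespace Groth.Agent.S5147

open CategoryTheory.Limits in
/-- In the situation of the first assertion, the stabilizer U of a contains the normal subgroup
generated by the image of u (hence also its closure, U being open) if and only if H(X) is isomorphic
to a finite coproduct of copies of the final object of C'. -/
theorem result {C C' : Type u} [Category.{v} C] [Category.{v} C']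
    [GaloisCategory C] [GaloisCategory C'] (H : C ⥤ C') [PreservesFiniteLimits H] [PreservesFiniteColimits H]
    (F' : C' ⥤ FintypeCat.{w}) [FiberFunctor F'] [FiberFunctor (H ⋙ F')] (X : C) [IsConnected X]
    (a : (H ⋙ F').obj X) :
    Subgroup.normalClosure ((Pi1X.autWhisker H F').range : Set (Aut (H ⋙ F'))) ≤ MulAction.stabilizer (Aut (H ⋙ F')) a ↔
      ∃ n : ℕ, Nonempty (H.obj X ≅ ∐ fun _ : Fin n => ⊤_ C') := by
  rw [GalFunLib.exists_iso_coprod_iff F' (H.obj X)]
  constructor
  · intro h σ x
    obtain ⟨g, rfl⟩ := MulAction.exists_smul_eq (Aut (H ⋙ F')) a x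
    have hc := h (Subgroup.normalClosure_normal.conj_mem (Pi1X.autWhisker H F' σ)
      (Subgroup.subset_normalClosure (s := ((Pi1X.autWhisker H F').range : Set (Aut (H ⋙ F')))) ⟨σ, rfl⟩) g⁻¹)
    rw [inv_inv, MulAction.mem_stabilizer_iff, mul_smul, mul_smul, inv_smul_eq_iff] at hc
    exact hc
  · intro h
    refine (Subgroup.normalClosure_le_normal
      (N := (MulAction.toPermHom (Aut (H ⋙ F')) ((H ⋙ F').obj X)).ker) ?_).trans fun g hg => ?_
    · rintro _ ⟨σ, rfl⟩
      exact MonoidHom.mem_ker.2 (Equiv.ext fun x => h σ x)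
    · exact Equiv.congr_fun (MonoidHom.mem_ker.1 hg) a

end Groth.Agent.S5147
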