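import Groth.Statements.S5149
import Groth.Agent.GalFunLib.Whisker

set_option autoImplicit false
universe u v w
open CategoryTheory PreGaloisCategory
open Pi1

namespace Groth.Agent.S5149

open CategoryTheory.Limits in
/-- For exact functors H : C ⥤ C', H' : C' ⥤ C'' of Galois categories with compatible fibre functors and
induced homomorphisms u' and u of fundamental groups, the kernel of u is contained in the image of
u' if and only if every pointed connected object (X', a') of C' for which H'(X') has a section from
the final object through a' admits a morphism from a connected subobject of some H(X). (The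
published statement writes this inclusion as Ker u ⊇ Im u', which is the condition that u ∘ u' be
trivial; this row states Ker u ⊆ Im u', which is what the published argument establishes.) -/
theorem result {C C' C'' : Type u} [Category.{v} C] [Category.{v} C'] [Category.{v} C'']
    [GaloisCategory C] [GaloisCategory C'] [GaloisCategory C'']
    (H : C ⥤ C') [PreservesFiniteLimits H] [PreservesFiniteColimits H]
    (H' : C' ⥤ C'') [PreservesFiniteLimits H'] [PreservesFiniteColimits H']
    (F'' : C'' ⥤ FintypeCat.{w}) [FiberFunctor F''] [FiberFunctor (H' ⋙ F'')] [FiberFunctor (H ⋙ (H' ⋙ F''))] :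
    (Pi1X.autWhisker H (H' ⋙ F'')).ker ≤ (Pi1X.autWhisker H' F'').range ↔
      ∀ (X' : C') (a' : (H' ⋙ F'').obj X'), IsConnected X' →
        (∃ s : ⊤_ C'' ⟶ H'.obj X', ∀ t : F''.obj (⊤_ C''), F''.map s t = a') →
          ∃ (X : C) (Y' : C') (i : Y' ⟶ H.obj X) (q : Y' ⟶ X'), Mono i ∧ IsConnected Y' := by
  let G' := H' ⋙ F''
  let u := Pi1X.autWhisker H G'
  let u' := Pi1X.autWhisker H' F''
  have hfix : ∀ (X' : C') (a' : G'.obj X'),
      (∃ s : ⊤_ C'' ⟶ H'.obj X', ∀ t : F''.obj (⊤_ C''), F''.map s t = a') ↔
        u'.range ≤ MulAction.stabilizer (Aut G') a' := fun X' a' => by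
    rw [GalFunLib.exists_section_iff F'' (Y := H'.obj X') a']
    exact ⟨fun h => by rintro _ ⟨σ, rfl⟩; exact h σ, fun h σ => h ⟨σ, rfl⟩⟩
  constructor
  · intro hle X' a' hX' hs
    haveI := hX'
    exact (GalFunLib.ker_le_stabilizer_iff H G' X' a').1 (hle.trans ((hfix X' a').1 hs))
  · intro h σ hσ
    show σ ∈ (u'.range : Set (Aut G'))
    rw [← (GalFunLib.isClosed_range_autWhisker H' F'').closure_eq, mem_closure_iff_nhds]
    intro t ht
    have ht' : (fun τ => σ * τ) ⁻¹' t ∈ nhds (1 : Aut G') :=
      (continuous_const_mul σ).continuousAt.preimage_mem_nhds (by rwa [mul_one])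
    obtain ⟨A, -, hA⟩ := (nhds_one_has_basis_stabilizers G').mem_iff.1 ht'
    haveI : (MulAction.stabilizer (Aut G') A.pt).Normal := stabilizer_normal_of_isGalois G' A.obj A.pt
    obtain ⟨X', x, hX', hx⟩ := GalFunLib.exists_connected_stabilizer G'
      (u'.range ⊔ MulAction.stabilizer (Aut G') A.pt)
      (Subgroup.isOpen_mono le_sup_right (stabilizer_isOpen (Aut G') A.pt))
    haveI := hX'
    have hs := (hfix X' x).2 (le_sup_left.trans hx.ge)
    have hmem := (GalFunLib.ker_le_stabilizer_iff H G' X' x).2 (h X' x hX' hs) hσ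
    rw [hx, ← SetLike.mem_coe, Subgroup.mul_normal] at hmem
    obtain ⟨r, hr, s, hs, hrs⟩ := hmem
    refine ⟨r, ?_, hr⟩
    have hmem2 := hA ((MulAction.stabilizer (Aut G') A.pt).inv_mem hs)
    rw [Set.mem_preimage, ← hrs] at hmem2
    simpa using hmem2

end Groth.Agent.S5149
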