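import Groth.Statements.S5151
import Groth.Agent.DepthBasicLib.Ext

set_option autoImplicit false
universe u
open LocCoh

namespace Groth.Agent.S5151

open RingTheory.Sequence

variable {A : Type u} [CommRing A] [IsNoetherianRing A] {I : Ideal A}

theorem depth_add : ∀ (rs : List A) {M : Type u} [AddCommGroup M] [Module A M] [Module.Finite A M],
    IsWeaklyRegular M rs → (∀ r ∈ rs, r ∈ I) →
      (rs.length : ℕ∞) + LocCoh.idealDepth I (M ⧸ (Ideal.ofList rs • ⊤ : Submodule A M)) = LocCoh.idealDepth I M := by
  intro rs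
  induction rs with
  | nil =>
    intro M _ _ _ _ _
    rw [List.length_nil, Nat.cast_zero, zero_add]
    exact CommAlgDim.idealDepth_congr I
      (Submodule.quotEquivOfEqBot _ (by rw [Ideal.ofList_nil, Submodule.bot_smul]))
  | cons x rs ih =>
    intro M _ _ _ hreg hI
    rw [isWeaklyRegular_cons_iff] at hreg
    rw [← DepthBasic.idealDepth_quot_add_one I M x (hI x List.mem_cons_self) hreg.1,
      ← ih hreg.2 fun r hr => hI r (List.mem_cons_of_mem _ hr),
      CommAlgDim.idealDepth_congr I (Submodule.quotOfListConsSMulTopEquivQuotSMulTopInner M x rs),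
      List.length_cons, Nat.cast_succ]
    ring

theorem exists_max {M : Type u} [AddCommGroup M] [Module A M] [Module.Finite A M]
    (hIM : I • (⊤ : Submodule A M) ≠ ⊤) : ∀ (N : Submodule A M) (rs : List A),
    Ideal.ofList rs • (⊤ : Submodule A M) = N → IsWeaklyRegular M rs → (∀ r ∈ rs, r ∈ I) →
      ∃ rs' : List A, rs <+: rs' ∧ IsWeaklyRegular M rs' ∧ (∀ r ∈ rs', r ∈ I) ∧
        ∀ r ∈ I, ¬ IsWeaklyRegular M (rs' ++ [r]) := by
  intro N
  induction N using WellFoundedGT.induction with
  | ind N ih =>
    rintro rs rfl h1 h2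
    by_cases h : ∃ r ∈ I, IsWeaklyRegular M (rs ++ [r])
    · obtain ⟨r, hrI, hr⟩ := h
      have h2' : ∀ x ∈ rs ++ [r], x ∈ I := fun x hx => by
        rcases List.mem_append.1 hx with hx | hx
        · exact h2 x hx
        · rwa [List.mem_singleton.1 hx]
      have hlt : Ideal.ofList rs • (⊤ : Submodule A M) < Ideal.ofList (rs ++ [r]) • ⊤ := by
        refine lt_of_le_of_ne (Submodule.smul_mono_left (by rw [Ideal.ofList_append]; exact le_sup_left)) fun heq => ?_
        have hreg : IsSMulRegular (M ⧸ (Ideal.ofList rs • ⊤ : Submodule A M)) r :=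
          ((isWeaklyRegular_cons_iff _ r []).1 ((isWeaklyRegular_append_iff M rs [r]).1 hr).2).1
        refine hIM (eq_top_iff.2 (le_trans ?_ (Submodule.smul_mono_left (Ideal.span_le.2 h2))))
        intro m _
        refine (Submodule.Quotient.mk_eq_zero _).1 (hreg.right_eq_zero_of_smul ?_)
        rw [← Submodule.Quotient.mk_smul, Submodule.Quotient.mk_eq_zero]
        refine heq ▸ Submodule.smul_mem_smul ?_ Submodule.mem_top
        rw [Ideal.ofList_append, Ideal.ofList_singleton]
        exact Ideal.mem_sup_right (Ideal.mem_span_singleton_self r)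
      obtain ⟨rs', hp, h'⟩ := ih _ hlt (rs ++ [r]) rfl hr h2'
      exact ⟨rs', (List.prefix_append rs [r]).trans hp, h'⟩
    · exact ⟨rs, List.prefix_rfl, h1, h2, fun r hr hreg => h ⟨r, hr, hreg⟩⟩


/-- Let A be a Noetherian ring, I an ideal and M a finite A-module with IM ≠ M. Every weakly M-regular
sequence of elements of I can be extended to a maximal one (one after which no element of I is
M-regular on the quotient), and any maximal weakly M-regular sequence of elements of I has length
equal to the I-depth of M. (The published statement does not assume IM ≠ M; without it the first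
assertion fails: over ℤ with I = (2) and M = ℤ/3 the element 2 is M-regular with M/2M = 0, after
which every element of I is regular on the zero module, so no weakly M-regular sequence of elements
of I is maximal, while the I-depth is infinite. With IM ≠ M every weakly M-regular sequence in I is
M-regular and the I-depth is finite.) -/
theorem result (A : Type u) [CommRing A] [IsNoetherianRing A] (I : Ideal A) (M : Type u) [AddCommGroup M] [Module A M] [Module.Finite A M] (hIM : I • (⊤ : Submodule A M) ≠ ⊤) : (∀ rs : List A, RingTheory.Sequence.IsWeaklyRegular M rs → (∀ r ∈ rs, r ∈ I) → ∃ rs' : List A, rs <+: rs' ∧ RingTheory.Sequence.IsWeaklyRegular M rs' ∧ (∀ r ∈ rs', r ∈ I) ∧ ∀ r ∈ I, ¬ RingTheory.Sequence.IsWeaklyRegular M (rs' ++ [r])) ∧ (∀ rs : List A, RingTheory.Sequence.IsWeaklyRegular M rs → (∀ r ∈ rs, r ∈ I) → (∀ r ∈ I, ¬ RingTheory.Sequence.IsWeaklyRegular M (rs ++ [r])) → (rs.length : ℕ∞) = LocCoh.idealDepth I M) := by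
  refine ⟨fun rs h1 h2 => exists_max hIM _ rs rfl h1 h2, fun rs h1 h2 h3 => ?_⟩
  rw [← depth_add rs h1 h2]
  suffices h0 : LocCoh.idealDepth I (M ⧸ (Ideal.ofList rs • ⊤ : Submodule A M)) = 0 by rw [h0, add_zero]
  by_contra hne
  obtain ⟨rs', hl, hm, hr⟩ := (CommAlgDim.le_idealDepth_iff I 1).1
    (by exact_mod_cast ENat.one_le_iff_ne_zero.2 hne)
  obtain ⟨r, rfl⟩ := List.length_eq_one_iff.1 hl
  exact h3 r (hm r (List.mem_singleton_self r))
    ((RingTheory.Sequence.isWeaklyRegular_append_iff M rs [r]).2 ⟨h1, hr⟩)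

end Groth.Agent.S5151
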