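import Groth.Statements.S5155
import Groth.Agent.InjHullLib.Local
-- import your own Groth.Agent.* helpers here

set_option autoImplicit false
universe u
open Matlis

namespace Groth.Agent.S5155

/-- Let A be a Noetherian local ring with residue field k. An A-module E is an injective hull of k if
and only if E is injective, E is m-power torsion, and Hom_A(k, E) is simple (one-dimensional over
k). (The torsion condition is needed: for a prime p ≠ m the module E(k) ⊕ E(A/p) is injective with
Hom_A(k, −) simple, represents the same functor on modules of finite length, and is not an injective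
hull of k; the published definition of a dualizing module leaves this condition implicit and the
published proof uses it.) -/
theorem result (A : Type u) [CommRing A] [IsLocalRing A] [IsNoetherianRing A] (E : Type u) [AddCommGroup E] [Module A E] : (∃ f : IsLocalRing.ResidueField A →ₗ[A] E, InjHull.IsInjectiveHull f) ↔ (Module.Injective A E ∧ LocCoh.IsPowerTorsion (IsLocalRing.maximalIdeal A) E ∧ IsSimpleModule A (IsLocalRing.ResidueField A →ₗ[A] E)) := by
  constructor
  · rintro ⟨f, hf⟩
    refine ⟨hf.isInjective, InjHullLib.isPowerTorsion_hull_local hf, Module.length_eq_one_iff.1 ?_⟩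
    haveI : IsSimpleModule A (IsLocalRing.ResidueField A) :=
      isSimpleModule_iff_quot_maximal.2 ⟨IsLocalRing.maximalIdeal A, inferInstance, ⟨LinearEquiv.refl A _⟩⟩
    refine InjHullLib.length_hom_simple (m := IsLocalRing.maximalIdeal A) hf.toIsEssentialInj (n := 1) fun a ha x => ?_
    obtain ⟨x, rfl⟩ := IsLocalRing.residue_surjective x
    rw [pow_one] at ha
    rw [Algebra.smul_def, IsLocalRing.ResidueField.algebraMap_eq, (IsLocalRing.residue_eq_zero_iff a).2 ha, zero_mul]
  · rintro ⟨hinj, htors, hsimple⟩
    haveI := IsSimpleModule.nontrivial A (IsLocalRing.ResidueField A →ₗ[A] E)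
    obtain ⟨g, hg⟩ := exists_ne (0 : IsLocalRing.ResidueField A →ₗ[A] E)
    have hginj : Function.Injective g := by
      haveI : IsSimpleModule A (IsLocalRing.ResidueField A) :=
        isSimpleModule_iff_quot_maximal.2 ⟨IsLocalRing.maximalIdeal A, inferInstance, ⟨LinearEquiv.refl A _⟩⟩
      exact (g.injective_or_eq_zero).resolve_right hg
    refine ⟨g, ⟨InjHullLib.isEssentialInj_of_exists_smul hginj fun x hx => ?_, hinj⟩⟩
    obtain ⟨r, ⟨⟨y, hy⟩, hyr⟩, hr⟩ := InjHullLib.exists_smul_mem_of_essential (InjHullLib.socle_essential htors) hx
    refine ⟨r, ?_, hr⟩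
    let hd : IsLocalRing.ResidueField A →ₗ[A] E := Submodule.liftQ (IsLocalRing.maximalIdeal A) (LinearMap.toSpanSingleton A E y)
      (fun a ha => by simpa using InjHullLib.mem_torsionBy_iff.1 hy a ha)
    obtain ⟨c, hc⟩ := Submodule.mem_span_singleton.1
      ((IsSimpleModule.span_singleton_eq_top A hg).symm ▸ Submodule.mem_top : hd ∈ Submodule.span A {g})
    refine ⟨c • (1 : IsLocalRing.ResidueField A), ?_⟩
    rw [← hyr, map_smul]
    have h1 := LinearMap.congr_fun hc (Submodule.Quotient.mk (1 : A))
    change c • g (1 : IsLocalRing.ResidueField A) = (LinearMap.toSpanSingleton A E y) 1 at h1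
    rw [LinearMap.toSpanSingleton_apply, one_smul] at h1
    exact h1

end Groth.Agent.S5155
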