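import Groth.Statements.S5156
import Groth.Agent.InjHullLib.Coext
-- import your own Groth.Agent.* helpers here

set_option autoImplicit false
universe u
open Matlis

namespace Groth.Agent.S5156

/-- Let A and B be Noetherian local rings with B a finite A-algebra, and E an injective hull of the
residue field of A (a dualizing module for A). Then Hom_A(B, E), as a B-module through the action on
the source, is an injective hull of the residue field of B (a dualizing module for B). -/
theorem result (A B : Type u) [CommRing A] [IsLocalRing A] [IsNoetherianRing A] [CommRing B] [IsLocalRing B] [IsNoetherianRing B] [Algebra A B] [Module.Finite A B] (E : Type u) [AddCommGroup E] [Module A E] (f : IsLocalRing.ResidueField A →ₗ[A] E) (hf : InjHull.IsInjectiveHull f) : ∃ g : IsLocalRing.ResidueField B →ₗ[B] (ModuleCat.coextendScalars (algebraMap A B)).obj (ModuleCat.of A E), InjHull.IsInjectiveHull g := by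
  classical
  let mA := IsLocalRing.maximalIdeal A
  let mB := IsLocalRing.maximalIdeal B
  let J := mA.map (algebraMap A B)
  have hle : J ≤ mB := by
    refine IsLocalRing.le_maximalIdeal fun h => ?_
    have h1 : (⊤ : Submodule A B) = ⊥ := by
      refine Submodule.eq_bot_of_le_smul_of_le_jacobson_bot mA ⊤ Module.Finite.fg_top ?_ (IsLocalRing.maximalIdeal_le_jacobson ⊥)
      rw [Ideal.smul_top_eq_map, show Ideal.map (algebraMap A B) mA = ⊤ from h]
      exact fun x _ => trivial
    have : (1 : B) ∈ (⊤ : Submodule A B) := trivial
    rw [h1, Submodule.mem_bot] at this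
    exact one_ne_zero this
  have hkillJ : ∀ a ∈ mA, ∀ q : B ⧸ J, a • q = 0 := fun a ha q => by
    obtain ⟨q, rfl⟩ := Submodule.Quotient.mk_surjective _ q
    exact (Submodule.Quotient.mk_eq_zero _).2 (by show a • q ∈ _; rw [Algebra.smul_def]; exact Ideal.mul_mem_right _ _ (Ideal.mem_map_of_mem _ ha))
  haveI : Module.Finite A (B ⧸ J) := Module.Finite.of_surjective ((Submodule.mkQ J).restrictScalars A) (Submodule.mkQ_surjective J)
  haveI : Module.Finite A (B ⧸ mB) := Module.Finite.of_surjective ((Submodule.mkQ mB).restrictScalars A) (Submodule.mkQ_surjective mB)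
  obtain ⟨_, _⟩ := isFiniteLength_iff_isNoetherian_isArtinian.1 (Module.length_ne_top_iff.1 (InjHullLib.length_ne_top_of_killed hkillJ))
  haveI : IsArtinian B (B ⧸ J) := isArtinian_of_tower A inferInstance
  obtain ⟨c, hc⟩ := InjHullLib.exists_pow_smul_eq_zero (isFiniteLength_iff_isNoetherian_isArtinian.2
    ⟨(inferInstance : IsNoetherian B (B ⧸ J)), (inferInstance : IsArtinian B (B ⧸ J))⟩)
  have hcJ : mB ^ c ≤ J := fun b hb => by
    have h2 := hc b hb (Submodule.Quotient.mk 1)
    rwa [← Submodule.Quotient.mk_smul, smul_eq_mul, mul_one, Submodule.Quotient.mk_eq_zero] at h2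
  let H := (ModuleCat.coextendScalars (algebraMap A B)).obj (ModuleCat.of A E)
  have htors : LocCoh.IsPowerTorsion mB H := fun φ => by
    have key : ∀ b : B, ∃ n, ∀ a ∈ mA ^ n, a • InjHullLib.coextLin φ b = 0 := fun b => InjHullLib.isPowerTorsion_hull_local hf _
    choose n hn using key
    obtain ⟨s, hs⟩ := Module.Finite.fg_top (R := A) (M := B)
    refine ⟨c * s.sup n, fun r hr => ?_⟩
    have h3 : r ∈ (mA ^ s.sup n).map (algebraMap A B) := by
      rw [Ideal.map_pow]
      exact Ideal.pow_right_mono hcJ _ (by rwa [← pow_mul])
    clear hr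
    induction h3 using Submodule.span_induction with
    | zero => exact zero_smul B φ
    | add a b _ _ ha hb => rw [add_smul, ha, hb, add_zero]
    | smul t a _ ha => rw [smul_assoc, ha, smul_zero]
    | mem r hr =>
      obtain ⟨a, ha, rfl⟩ := hr
      refine InjHullLib.coext_ext fun x => ?_
      rw [InjHullLib.smul_coextend_apply, mul_comm, ← Algebra.smul_def]
      refine ((InjHullLib.coextLin φ).map_smul a x).trans ?_
      have h4 : x ∈ Submodule.span A (s : Set B) := hs.ge trivial
      induction h4 using Submodule.span_induction with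
      | mem y hy => exact hn y a (Ideal.pow_le_pow_right (Finset.le_sup hy) ha)
      | zero => rw [map_zero, smul_zero]; rfl
      | add y z _ _ hy hz => rw [map_add, smul_add, hy, hz]; exact zero_add _
      | smul t y _ hy => rw [map_smul, smul_comm, hy]; exact smul_zero t
  letI : Module A H := Module.compHom H (algebraMap A B)
  haveI : IsScalarTower A B H := IsScalarTower.of_algebraMap_smul fun _ _ => rfl
  have hkill : ∀ a ∈ mA, ∀ q : B ⧸ mB, a • q = 0 := fun a ha q => by
    obtain ⟨q, rfl⟩ := Submodule.Quotient.mk_surjective _ q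
    exact (Submodule.Quotient.mk_eq_zero _).2 (by show a • q ∈ _; rw [Algebra.smul_def]; exact Ideal.mul_mem_right _ _ (hle (Ideal.mem_map_of_mem _ ha)))
  have hfin := InjHullLib.length_ne_top_of_killed hkill
  exact InjHullLib.exists_hull_of_socle A (InjHullLib.injective_coextend (algebraMap A B) E hf.isInjective) htors hfin
    ((InjHullLib.length_socle_coext (A := A) (B := B) (E := E)).trans (InjHullLib.length_hom (m := mA) hf
      (Module.length_ne_top_iff.1 hfin) (n := 1) (fun a ha => hkill a (by rwa [pow_one] at ha))))

end Groth.Agent.S5156
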