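import Groth.Statements.S5157
import Groth.Agent.InjHullLib.Quotient
-- import your own Groth.Agent.* helpers here

set_option autoImplicit false
universe u
open Matlis

namespace Groth.Agent.S5157

/-- Let A be a Noetherian local ring, a an ideal with A/a local (i.e. a ≠ A) and E an injective hull of
the residue field of A. Then the annihilator of a in E, E[a] = {e | a e = 0}, is an injective hull
of the residue field of A/a over A/a. -/
theorem result (A : Type u) [CommRing A] [IsLocalRing A] [IsNoetherianRing A] (a : Ideal A) [IsLocalRing (A ⧸ a)] (E : Type u) [AddCommGroup E] [Module A E] (f : IsLocalRing.ResidueField A →ₗ[A] E) (hf : InjHull.IsInjectiveHull f) : ∃ g : IsLocalRing.ResidueField (A ⧸ a) →ₗ[A ⧸ a] (LocCoh.torsionBy a E), InjHull.IsInjectiveHull g := by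
  haveI : IsLocalHom (algebraMap A (A ⧸ a)) := IsLocalHom.of_surjective _ Ideal.Quotient.mk_surjective
  have hbij : Function.Bijective (IsLocalRing.ResidueField.map (algebraMap A (A ⧸ a))) := by
    refine ⟨RingHom.injective _, fun y => ?_⟩
    obtain ⟨y, rfl⟩ := IsLocalRing.residue_surjective y
    obtain ⟨x, rfl⟩ := Ideal.Quotient.mk_surjective y
    exact ⟨IsLocalRing.residue A x, rfl⟩
  let π : IsLocalRing.ResidueField A →ₗ[A] IsLocalRing.ResidueField (A ⧸ a) :=
    { toFun := IsLocalRing.ResidueField.map (algebraMap A (A ⧸ a))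
      map_add' := map_add _
      map_smul' := fun r x => by
        obtain ⟨x, rfl⟩ := IsLocalRing.residue_surjective x
        rw [Algebra.smul_def, Algebra.smul_def, map_mul]
        rfl }
  let e := (LinearEquiv.ofBijective π hbij).symm
  have h : InjHull.IsInjectiveHull (f ∘ₗ e.toLinearMap) :=
    ⟨InjHullLib.isEssentialInj_comp_equiv hf.toIsEssentialInj e, hf.isInjective⟩
  obtain ⟨g, hg, -⟩ := InjHullLib.exists_hull_torsionBy a h
  exact ⟨g, hg⟩

end Groth.Agent.S5157
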