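import Groth.Statements.S5163
import Mathlib


-- import your own Groth.Agent.* helpers here

set_option autoImplicit false
universe u
open LocCoh

namespace Groth.Agent.S5163

/-- For modules over a Noetherian ring. Let P be a finite A-module and H any A-module with Supp H ⊆ Supp
P. If Hom_A(P, H) = 0 then H = 0. (The published lemma is stated over an arbitrary prescheme; its
proof uses that a nonzero module has an associated prime, so the ring is taken Noetherian here.) -/
theorem result (A : Type u) [CommRing A] [IsNoetherianRing A] (P H : Type u) [AddCommGroup P] [Module A P] [Module.Finite A P] [AddCommGroup H] [Module A H] (hsupp : Module.support A H ⊆ Module.support A P) (hhom : Subsingleton (P →ₗ[A] H)) : Subsingleton H := by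
  by_contra hH
  rw [not_subsingleton_iff_nontrivial] at hH
  obtain ⟨p, hp⟩ := associatedPrimes.nonempty A H
  obtain ⟨hpp, y, hy⟩ := (isAssociatedPrime_iff_exists_injective_linearMap _ _).1 hp
  haveI := hpp
  set x : PrimeSpectrum A := ⟨p, hpp⟩
  have hx : x ∈ Module.support A H := by
    rw [Module.mem_support_iff_exists_annihilator]
    refine ⟨y (Submodule.Quotient.mk 1), fun a ha => ?_⟩
    rw [Submodule.mem_annihilator_span_singleton] at ha
    have : (Submodule.Quotient.mk (a * 1) : A ⧸ p) = 0 := hy (by
      rw [← smul_eq_mul, Submodule.Quotient.mk_smul, map_smul, ha, map_zero])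
    simpa [Submodule.Quotient.mk_eq_zero, Ideal.Quotient.eq_zero_iff_mem] using this
  -- a nonzero map from `P` to the domain `A ⧸ p`
  let Q := TensorProduct A (A ⧸ p) P
  let K := FractionRing (A ⧸ p)
  have hQn : Nontrivial (TensorProduct (A ⧸ p) K Q) := by
    by_contra hn
    rw [not_nontrivial_iff_subsingleton] at hn
    have hz : ∀ q : Q, ∃ s : nonZeroDivisors (A ⧸ p), s • q = 0 := fun q => by
      obtain ⟨s, hs⟩ := (IsLocalizedModule.eq_zero_iff (nonZeroDivisors (A ⧸ p)) (TensorProduct.mk (A ⧸ p) K Q 1)).1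
        (Subsingleton.elim _ _)
      exact ⟨s, hs⟩
    obtain ⟨s, hs⟩ : ∃ s : nonZeroDivisors (A ⧸ p), ∀ q : Q, s • q = 0 := by
      obtain ⟨t, ht⟩ := (Module.Finite.fg_top : (⊤ : Submodule (A ⧸ p) Q).FG)
      choose s hs using hz
      refine ⟨∏ q ∈ t, s q, fun q => ?_⟩
      have hq : q ∈ Submodule.span (A ⧸ p) (t : Set Q) := ht ▸ Submodule.mem_top
      induction hq using Submodule.span_induction with
      | mem q hq =>
        obtain ⟨c, hc⟩ := Finset.dvd_prod_of_mem s hq
        rw [hc, mul_comm, mul_smul, hs, smul_zero]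
      | zero => simp
      | add a b _ _ ha hb => rw [smul_add, ha, hb, add_zero]
      | smul c a _ ha => rw [smul_comm, ha, smul_zero]
    obtain ⟨a, ha⟩ := Ideal.Quotient.mk_surjective (s : A ⧸ p)
    have hap : a ∉ p := fun h => nonZeroDivisors.coe_ne_zero s (by rw [← ha, Ideal.Quotient.eq_zero_iff_mem.2 h])
    -- `a` maps `P` into `p P`
    have haP : ∀ q : P, a • q ∈ p • (⊤ : Submodule A P) := fun q => by
      have h0 := hs ((1 : A ⧸ p) ⊗ₜ[A] q)
      rw [Submonoid.smul_def, ← ha, TensorProduct.smul_tmul', smul_eq_mul, mul_one] at h0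
      have h1 := congrArg (TensorProduct.quotTensorEquivQuotSMul P p) h0
      rwa [TensorProduct.quotTensorEquivQuotSMul_mk_tmul, map_zero, Submodule.Quotient.mk_eq_zero] at h1
    obtain ⟨q, hqm, -, hq, hq0⟩ := LinearMap.exists_monic_and_natDegree_eq_and_coeff_mem_pow_and_aeval_eq_zero
      (R := A) (I := p) (f := algebraMap A (Module.End A P) a) (by rintro _ ⟨z, rfl⟩; exact haP z)
    rw [Polynomial.aeval_algebraMap_apply] at hq0
    have hann : Polynomial.aeval a q ∈ Module.annihilator A P := Module.mem_annihilator.2 fun z => by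
      simpa using LinearMap.congr_fun hq0 z
    have hmem : Polynomial.aeval a q ∈ p := Module.annihilator_le_of_mem_support (hsupp hx) hann
    rw [Polynomial.aeval_eq_sum_range, Finset.sum_range_succ, hqm.coeff_natDegree, one_smul] at hmem
    have hs' : ∑ i ∈ Finset.range q.natDegree, q.coeff i • a ^ i ∈ p := Ideal.sum_mem _ fun i hi => by
      rw [smul_eq_mul]
      refine Ideal.mul_mem_right _ _ (Ideal.pow_le_self ?_ (hq i))
      have := Finset.mem_range.1 hi
      omega
    exact hap (hpp.mem_of_pow_mem _ (by simpa using sub_mem hmem hs'))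
  obtain ⟨z, hz⟩ := exists_ne (0 : TensorProduct (A ⧸ p) K Q)
  obtain ⟨φ, hφ⟩ := Module.Projective.exists_dual_ne_zero K hz
  let ψ : P →ₗ[A] K :=
    ((φ.restrictScalars (A ⧸ p)) ∘ₗ (TensorProduct.mk (A ⧸ p) K Q 1)).restrictScalars A ∘ₗ
      TensorProduct.mk A (A ⧸ p) P 1
  obtain ⟨t, ht⟩ := (Module.Finite.fg_top : (⊤ : Submodule A P).FG)
  obtain ⟨d, hd⟩ := IsLocalization.exist_integer_multiples (nonZeroDivisors (A ⧸ p)) t (fun q => ψ q)
  have hrange : ∀ q : P, ((d : A ⧸ p)) • ψ q ∈ LinearMap.range ((Algebra.linearMap (A ⧸ p) K).restrictScalars A) := by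
    intro q
    have hq : q ∈ Submodule.span A (t : Set P) := ht ▸ Submodule.mem_top
    induction hq using Submodule.span_induction with
    | mem q hq => obtain ⟨w, hw⟩ := hd q hq; exact ⟨w, hw⟩
    | zero => simp
    | add a b _ _ ha hb => rw [map_add, smul_add]; exact add_mem ha hb
    | smul c a _ ha => rw [map_smul, smul_comm]; exact Submodule.smul_mem _ _ ha
  choose ω hω using hrange
  have hinjK : Function.Injective (algebraMap (A ⧸ p) K) := IsFractionRing.injective _ _
  let Ω : P →ₗ[A] A ⧸ p :=
    { toFun := ω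
      map_add' := fun a b => hinjK (by
        rw [map_add]; show (Algebra.linearMap (A ⧸ p) K).restrictScalars A _ = _
        rw [hω, map_add, smul_add, ← hω a, ← hω b]; rfl)
      map_smul' := fun c a => hinjK (by
        show (Algebra.linearMap (A ⧸ p) K).restrictScalars A _ = (Algebra.linearMap (A ⧸ p) K).restrictScalars A _
        rw [RingHom.id_apply, map_smul, hω, hω, map_smul, smul_comm]) }
  have hΩ : Ω ≠ 0 := by
    intro h0
    apply hφ
    have hψ0 : ∀ q, ψ q = 0 := fun q => by
      have := hω q
      rw [show ω q = 0 from LinearMap.congr_fun h0 q, map_zero] at this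
      exact (smul_eq_zero.1 this.symm).resolve_left (nonZeroDivisors.coe_ne_zero d)
    clear hz hφ
    induction z using TensorProduct.induction_on with
    | zero => simp
    | tmul k w =>
      induction w using TensorProduct.induction_on with
      | zero => simp
      | tmul b q =>
        rw [← mul_one k, ← smul_eq_mul, ← TensorProduct.smul_tmul', map_smul]
        obtain ⟨b, rfl⟩ := Ideal.Quotient.mk_surjective b
        have : (1 : K) ⊗ₜ[A ⧸ p] ((Ideal.Quotient.mk p b) ⊗ₜ[A] q) = (1 : K) ⊗ₜ[A ⧸ p] ((1 : A ⧸ p) ⊗ₜ[A] (b • q)) := by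
          rw [← TensorProduct.smul_tmul, Algebra.smul_def, mul_one, Ideal.Quotient.algebraMap_eq]
        rw [this]
        exact (congrArg (fun c => k • c) (hψ0 (b • q))).trans (smul_zero k)
      | add u v hu hv => rw [TensorProduct.tmul_add, map_add, hu, hv, add_zero]
    | add u v hu hv => rw [map_add, hu, hv, add_zero]
  obtain ⟨q, hq⟩ : ∃ q, Ω q ≠ 0 := by
    by_contra hc
    push Not at hc
    exact hΩ (LinearMap.ext hc)
  have := LinearMap.congr_fun (hhom.elim (y ∘ₗ Ω) 0) q
  exact hq (hy (by simpa using this))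

end Groth.Agent.S5163
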