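import Groth.Statements.S5168
import Groth.Agent.InjHullLib.Noetherian
-- import your own Groth.Agent.* helpers here

set_option autoImplicit false
universe u
open InjHull

namespace Groth.Agent.S5168

/-- Let A be a Noetherian ring, J an ideal and H a J-power torsion A-module. Then H is injective if and
only if Hom_A(−, H) is exact on finite A-modules killed by a power of J, i.e. every linear map to H
from a submodule of such a module M extends to M. -/
theorem result (A : Type u) [CommRing A] [IsNoetherianRing A] (J : Ideal A) (H : Type u) [AddCommGroup H] [Module A H] (hH : LocCoh.IsPowerTorsion J H) : Module.Injective A H ↔ ∀ (M : Type u) [AddCommGroup M] [Module A M], Module.Finite A M → (∃ k : ℕ, (J ^ k) • (⊤ : Submodule A M) = ⊥) → ∀ (N : Submodule A M) (g : N →ₗ[A] H), ∃ g' : M →ₗ[A] H, g'.comp N.subtype = g := by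
  constructor
  · intro hinj M _ _ _ _ N g
    exact InjHullLib.exists_extend hinj N.subtype (Submodule.injective_subtype N) g
  · intro h
    refine InjHullLib.injective_of_powerTorsion_extend hH fun a g k hg => ?_
    let π := (J ^ k : Submodule A A).mkQ
    let φ : a →ₗ[A] A ⧸ (J ^ k : Submodule A A) := π ∘ₗ Submodule.subtype a
    have hker : LinearMap.ker φ ≤ LinearMap.ker g := fun x hx => hg x ((Submodule.Quotient.mk_eq_zero _).1 hx)
    let g' : LinearMap.range φ →ₗ[A] H := (LinearMap.ker φ).liftQ g hker ∘ₗ φ.quotKerEquivRange.symm.toLinearMap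
    obtain ⟨h', hh'⟩ := h (A ⧸ (J ^ k : Submodule A A)) inferInstance ⟨k, by
      rw [Submodule.eq_bot_iff]
      intro y hy
      refine Submodule.smul_induction_on hy (fun r hr z _ => ?_) (fun x y hx hy => by rw [hx, hy, add_zero])
      obtain ⟨z, rfl⟩ := Submodule.mkQ_surjective _ z
      rw [Submodule.mkQ_apply, ← Submodule.Quotient.mk_smul, Submodule.Quotient.mk_eq_zero]
      exact Ideal.mul_mem_right z _ hr⟩ (LinearMap.range φ) g'
    refine ⟨h' ∘ₗ π, fun x => ?_⟩
    refine (LinearMap.congr_fun hh' ⟨φ x, LinearMap.mem_range_self φ x⟩).trans ?_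
    simp [g']

end Groth.Agent.S5168
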