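import Groth.Statements.S5172
import Groth.Agent.S11650

set_option autoImplicit false
universe u
open LocCoh

namespace Groth.Agent.S5172

/-- The height of a prime above `p` in the spectrum of `A ⧸ p`. -/
theorem height_map_eq {A : Type u} [CommRing A] (p r : PrimeSpectrum A) (h : p ≤ r) :
    (r.asIdeal.map (Ideal.Quotient.mk p.asIdeal)).height = Order.height (⟨r, h⟩ : Set.Ici p) := by
  have hker : RingHom.ker (Ideal.Quotient.mk p.asIdeal) ≤ r.asIdeal := by rw [Ideal.mk_ker]; exact h
  haveI := Ideal.map_isPrime_of_surjective Ideal.Quotient.mk_surjective hker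
  let c := PrimeSpectrum.comap (Ideal.Quotient.mk p.asIdeal)
  have hc : Topology.IsClosedEmbedding c :=
    PrimeSpectrum.isClosedEmbedding_comap_of_surjective _ _ Ideal.Quotient.mk_surjective
  have hrange : ∀ x, x ∈ Set.range c ↔ x ∈ Set.Ici p := fun x => by
    rw [range_comap_of_surjective _ _ Ideal.Quotient.mk_surjective, Ideal.mk_ker]
    rfl
  let e : PrimeSpectrum (A ⧸ p.asIdeal) ≃o Set.Ici p :=
    { toEquiv := Equiv.ofBijective (fun x => (⟨c x, (hrange _).1 ⟨x, rfl⟩⟩ : Set.Ici p))
        ⟨fun x y h => hc.injective (congrArg Subtype.val h),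
          fun y => ((hrange y.1).2 y.2).imp fun x hx => Subtype.ext hx⟩
      map_rel_iff' := fun {x y} => by
        show c x ≤ c y ↔ x ≤ y
        rw [PrimeSpectrum.le_iff_specializes, PrimeSpectrum.le_iff_specializes,
          hc.isInducing.specializes_iff] }
  let x : PrimeSpectrum (A ⧸ p.asIdeal) := ⟨r.asIdeal.map (Ideal.Quotient.mk p.asIdeal), inferInstance⟩
  have hx : e x = ⟨r, h⟩ := Subtype.ext (PrimeSpectrum.ext (by
    show (r.asIdeal.map (Ideal.Quotient.mk p.asIdeal)).comap (Ideal.Quotient.mk p.asIdeal) = r.asIdeal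
    rw [Ideal.comap_map_quotientMk]
    exact sup_eq_right.2 h))
  rw [← hx, Order.height_orderIso, PrimeSpectrum.height_eq_orderHeight x]


/-- Let A be a Noetherian ring which is a quotient of a regular ring, I an ideal, M a finite A-module
and n ≥ 0; c(p) = codim(V(p) ∩ V(I), V(p)). Then depth M_p > n − c(p) for all primes p ⊉ I if and
only if depth M_p ≥ n for all primes p ⊉ I with c(p) = 1. -/
theorem result (R : Type u) [CommRing R] [IsRegularRing R] (A : Type u) [CommRing A] [IsNoetherianRing A] (π : R →+* A) (hπ : Function.Surjective π) (I : Ideal A) (M : Type u) [AddCommGroup M] [Module A M] [Module.Finite A M] (n : ℕ) : (∀ p : PrimeSpectrum A, ¬ I ≤ p.asIdeal → (n : ℕ∞) < LocCoh.depth (Localization.AtPrime p.asIdeal) (LocalizedModule p.asIdeal.primeCompl M) + SGA2.relCodim I p) ↔ (∀ p : PrimeSpectrum A, ¬ I ≤ p.asIdeal → SGA2.relCodim I p = 1 → (n : ℕ∞) ≤ LocCoh.depth (Localization.AtPrime p.asIdeal) (LocalizedModule p.asIdeal.primeCompl M)) := by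
  constructor
  · intro h p hp hc
    have h1 := h p hp
    rw [hc] at h1
    exact Order.le_of_lt_add_one h1
  · intro h p hp
    by_cases htop : SGA2.relCodim I p = ⊤
    · rw [htop, add_top]; exact ENat.natCast_lt_top n
    obtain ⟨c, hc⟩ := ENat.ne_top_iff_exists.1 htop
    have hne : Nonempty {q : PrimeSpectrum A // p ≤ q ∧ I ≤ q.asIdeal} := by
      by_contra hne
      rw [not_nonempty_iff] at hne
      exact htop (by unfold SGA2.relCodim; rw [iInf_of_empty])
    obtain ⟨⟨q, hpq, hIq⟩, hq⟩ := ciInf_mem
      fun q : {q : PrimeSpectrum A // p ≤ q ∧ I ≤ q.asIdeal} => Order.height (⟨q.1, q.2.1⟩ : Set.Ici p)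
    have hqc : Order.height (⟨q, hpq⟩ : Set.Ici p) = c := hq.trans hc.symm
    obtain ⟨l, hl, hlc⟩ := Order.exists_series_of_height_eq_coe _ hqc
    match c, hqc, hlc, hc with
    | 0, hqc, _, _ =>
      exact absurd ((Order.height_eq_zero.1 hqc) (b := ⟨p, Set.self_mem_Ici⟩) hpq) fun hle => hp (hIq.trans hle)
    | m + 1, hqc, hlc, hc =>
      let k : Fin (l.length + 1) := ⟨m, by omega⟩
      let p' := (l k).1
      have hlt : l k < (⟨q, hpq⟩ : Set.Ici p) := hl ▸ l.strictMono (show k < Fin.last _ from by
        rw [Fin.lt_def, Fin.val_last]; show m < l.length; omega)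
      have hheight : Order.height (l k) ≤ (m : ℕ∞) := by
        have h1 : Order.height (l k) < ⊤ :=
          lt_of_le_of_lt (Order.height_mono hlt.le) (hqc ▸ ENat.natCast_lt_top _)
        have h2 := Order.height_strictMono hlt h1
        rw [hqc, Nat.cast_add, Nat.cast_one] at h2
        exact Order.le_of_lt_add_one h2
      have hp' : ¬ I ≤ p'.asIdeal := fun hI => by
        have h1 : SGA2.relCodim I p ≤ Order.height (l k) :=
          iInf_le _ (⟨p', (l k).2, hI⟩ : {q : PrimeSpectrum A // p ≤ q ∧ I ≤ q.asIdeal})
        rw [← hc] at h1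
        have := ENat.natCast_le_natCast.1 (h1.trans hheight)
        omega
      have hc' : SGA2.relCodim I p' = 1 := by
        refine le_antisymm ((iInf_le _ (⟨q, hlt.le, hIq⟩ : {r : PrimeSpectrum A // p' ≤ r ∧ I ≤ r.asIdeal})).trans ?_) ?_
        · refine Order.height_le fun s hs => ?_
          by_contra hlen
          rw [not_le] at hlen
          have hlen' : 1 < s.length := by exact_mod_cast hlen
          let f : Set.Ici p' → Set.Ici p := fun x => ⟨x.1, le_trans (show p ≤ p' from (l k).2) (show p' ≤ x.1 from x.2)⟩
          let s' := s.map f (fun _ _ h => h)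
          let l' := l.take k
          have hcon : l'.last ≤ s'.head := by
            rw [RelSeries.last_take, LTSeries.head_map]
            exact s.head.2
          rcases eq_or_lt_of_le hcon with he | he
          · have h1 := Order.length_le_height (p := l'.smash s' he) (x := ⟨q, hpq⟩) (by
              rw [RelSeries.last_smash, LTSeries.last_map, hs])
            rw [hqc, RelSeries.smash_length, ENat.natCast_le_natCast] at h1
            simp [l', s', k] at h1
            omega
          · have h1 := Order.length_le_height (p := l'.append s' he) (x := ⟨q, hpq⟩) (by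
              rw [RelSeries.last_append, LTSeries.last_map, hs])
            rw [hqc, RelSeries.append_length, ENat.natCast_le_natCast] at h1
            simp [l', s', k] at h1
            omega
        · refine le_iInf fun r => Order.one_le_iff_pos.2 (pos_iff_ne_zero.2 fun h0 => hp' ?_)
          exact r.2.2.trans ((Order.height_eq_zero.1 h0) (b := ⟨p', Set.self_mem_Ici⟩) r.2.1)
      have h1 := Groth.Agent.S11650.result A M p.asIdeal p'.asIdeal (l k).2
      rw [height_map_eq p p' (l k).2] at h1
      have h2 := ((h p' hp' hc').trans h1).trans (add_le_add_right hheight _)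
      rw [← hc]
      revert h2
      generalize LocCoh.depth (Localization.AtPrime p.asIdeal) (LocalizedModule p.asIdeal.primeCompl M) = D
      induction D using ENat.recTopCoe with
      | top => intro _; rw [top_add]; exact ENat.natCast_lt_top n
      | coe D =>
        intro h2
        rw [← Nat.cast_add, Nat.cast_le] at h2
        rw [← Nat.cast_add, Nat.cast_lt]
        omega

end Groth.Agent.S5172
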