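import Groth.Statements.S5175
import Groth.Agent.InjHullLib.Coext
-- import your own Groth.Agent.* helpers here

set_option autoImplicit false
universe u
open Matlis

namespace Groth.Agent.S5175

/-- Let k₀ be a field and A a Noetherian local k₀-algebra with [k : k₀] finite, k the residue field.
Then the topological dual A' = colim_n Hom_{k₀}(A/m^n, k₀), i.e. the submodule of Hom_{k₀}(A, k₀) of
forms killing some power of m (A acting through the source), is an injective hull of k (it is the
dualizing module of A). -/
theorem result (k₀ : Type u) [Field k₀] (A : Type u) [CommRing A] [IsLocalRing A] [IsNoetherianRing A] [Algebra k₀ A] [Module.Finite k₀ (A ⧸ IsLocalRing.maximalIdeal A)] : ∃ f : IsLocalRing.ResidueField A →ₗ[A] ↥(⨆ n : ℕ, Submodule.torsionBySet A ((ModuleCat.coextendScalars (algebraMap k₀ A)).obj (ModuleCat.of k₀ k₀)) ((IsLocalRing.maximalIdeal A ^ n : Ideal A) : Set A)), InjHull.IsInjectiveHull f := by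
  let C := (ModuleCat.coextendScalars (algebraMap k₀ A)).obj (ModuleCat.of k₀ k₀)
  letI : Module k₀ C := Module.compHom C (algebraMap k₀ A)
  haveI : IsScalarTower k₀ A C := IsScalarTower.of_algebraMap_smul fun _ _ => rfl
  have hk : Module.Injective k₀ k₀ := Module.injective_of_isSemisimpleRing k₀ k₀
  refine InjHullLib.exists_hull_torsionPart (R := k₀) (C := C)
    (InjHullLib.injective_coextend (algebraMap k₀ A) k₀ hk) ?_ ?_
  · rw [Module.length_eq_finrank]
    exact ENat.natCast_ne_top _
  · refine (InjHullLib.length_socle_coext (A := k₀) (B := A) (E := k₀)).trans ?_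
    rw [Module.length_eq_finrank, Module.length_eq_finrank]
    exact congrArg _ Subspace.dual_finrank_eq

end Groth.Agent.S5175
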