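import Groth.Statements.S5176
import Groth.Agent.EtSliceLib.Basic
import Groth.Agent.RDerLib.LeftExact
-- import your own Groth.Agent.* helpers here

set_option maxHeartbeats 1000000
set_option backward.isDefEq.respectTransparency false
set_option backward.isDefEq.respectTransparency.types false
set_option autoImplicit false
universe u
open CategoryTheory CategoryTheory.Limits AlgebraicGeometry Opposite
open EtDepth

namespace Groth.Agent.S5176

open CategoryTheory.Limits

variable {X U : Scheme.{u}} (j : U ⟶ X) [EtCoh.BCCont j]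

theorem secSupp_map_ι {A B : EtCoh.Ab X} (f : A ⟶ B) :
    (EtDual.secSupp j).map f ≫ kernel.ι (EtDual.unitApp j B) = kernel.ι (EtDual.unitApp j A) ≫ f :=
  kernel.lift_ι _ _ _

theorem preservesFiniteLimits_secSupp : PreservesFiniteLimits (EtDual.secSupp j) := by
  refine (((Functor.preservesFiniteLimits_tfae (EtDual.secSupp j)).out 0 3 :
    (∀ S : ShortComplex (EtCoh.Ab X), S.ShortExact → (S.map (EtDual.secSupp j)).Exact ∧ Mono ((EtDual.secSupp j).map S.f)) ↔
      PreservesFiniteLimits (EtDual.secSupp j))).1 fun S hS => ?_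
  haveI := hS.mono_f
  haveI : PreservesLimitsOfSize.{0, 0} (EtCoh.push j) := (EtCoh.pullPushAdj j).rightAdjoint_preservesLimits
  haveI : Mono ((EtDual.secSupp j).map S.f) := by
    haveI : Mono ((EtDual.secSupp j).map S.f ≫ kernel.ι (EtDual.unitApp j S.X₂)) := by
      rw [secSupp_map_ι]
      infer_instance
    exact mono_of_mono _ (kernel.ι (EtDual.unitApp j S.X₂))
  haveI : Mono ((EtCoh.pull j).map S.f) := inferInstance
  haveI : PreservesFiniteLimits (EtCoh.push j) := PreservesLimitsOfSize.preservesFiniteLimits _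
  haveI : Mono ((EtCoh.push j).map ((EtCoh.pull j).map S.f)) := inferInstance
  have hlift : ∀ {A : EtCoh.Ab X} (a : A ⟶ (EtDual.secSupp j).obj S.X₂), a ≫ (EtDual.secSupp j).map S.g = 0 →
      { l : A ⟶ (EtDual.secSupp j).obj S.X₁ // l ≫ (EtDual.secSupp j).map S.f = a } := fun {A} a ha => by
    have h0 : (a ≫ kernel.ι (EtDual.unitApp j S.X₂)) ≫ S.g = 0 := by
      rw [Category.assoc, ← secSupp_map_ι, ← Category.assoc, ha, zero_comp]
    let b := hS.exact.lift _ h0
    have hb : b ≫ S.f = a ≫ kernel.ι (EtDual.unitApp j S.X₂) := hS.exact.lift_f _ _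
    have hb0 : b ≫ EtDual.unitApp j S.X₁ = 0 := by
      rw [← cancel_mono ((EtCoh.push j).map ((EtCoh.pull j).map S.f)), zero_comp, Category.assoc]
      erw [← (EtCoh.pullPushAdj j).unit.naturality S.f]
      rw [← Category.assoc, Functor.id_map, hb, Category.assoc, kernel.condition, comp_zero]
    exact ⟨kernel.lift _ b hb0, by
      rw [← cancel_mono (kernel.ι (EtDual.unitApp j S.X₂)), Category.assoc, secSupp_map_ι, kernel.lift_ι_assoc, hb]⟩
  exact ⟨ShortComplex.exact_of_f_is_kernel _ (KernelFork.IsLimit.ofι _ _ (fun a ha => (hlift a ha).1)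
    (fun a ha => (hlift a ha).2) (fun a ha b hb => by
      rw [← cancel_mono ((EtDual.secSupp j).map S.f)]
      exact hb.trans (hlift a ha).2.symm)), inferInstance⟩

theorem mono_unit (F : EtCoh.Ab X) (h : IsZero ((EtDual.secSupp j).obj F)) : Mono (EtDual.unitApp j F) :=
  Preadditive.mono_of_kernel_zero (h.eq_of_src _ _)

theorem exists_unit_fac {V : Scheme.{u}} (l : U ⟶ V) (k : V ⟶ X) [EtCoh.BCCont k] (hl : l ≫ k = j)
    (G : EtCoh.Ab X) : ∃ z, EtDual.unitApp j G = EtDual.unitApp k G ≫ z := by
  subst hl
  let adj := ((EtCoh.pullPushAdj k).comp (EtCoh.pullPushAdj l))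
  let φ := EtCoh.pullPushAdj (l ≫ k)
  let e : EtCoh.pull (l ≫ k) ≅ EtCoh.pull k ⋙ EtCoh.pull l :=
    φ.leftAdjointUniq (adj.ofNatIsoRight (EtCoh.pushComp k l))
  refine ⟨(EtCoh.push k).map ((EtCoh.pullPushAdj l).unit.app _) ≫ (EtCoh.pushComp k l).hom.app _ ≫
    (EtCoh.push (l ≫ k)).map (e.inv.app G), ?_⟩
  have h1 := φ.unit_leftAdjointUniq_hom_app (adj.ofNatIsoRight (EtCoh.pushComp k l)) G
  have h2 : φ.unit.app G = (adj.ofNatIsoRight (EtCoh.pushComp k l)).unit.app G ≫
      (EtCoh.push (l ≫ k)).map (e.inv.app G) := by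
    rw [← h1, Category.assoc, ← Functor.map_comp, Iso.hom_inv_id_app, CategoryTheory.Functor.map_id]
    exact (Category.comp_id _).symm
  refine h2.trans ?_
  simp [adj, Adjunction.ofNatIsoRight, Adjunction.homEquiv_unit]

/-- For an abelian sheaf. Let X be a scheme, j : U → X and k : V → X open immersions with U ⊆ V, so that
the closed complement Z of V is contained in the closed complement Y of U, F an abelian sheaf on the
small étale site of X and n ≥ 0. If the Y-étale depth of F is ≥ n (the local cohomology sheaves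
H^p_Y(F) vanish for p < n), then the Z-étale depth of F is ≥ n. -/
theorem result {X U V : Scheme.{u}} (j : U ⟶ X) [IsOpenImmersion j] [EtCoh.BCCont j] (k : V ⟶ X) [IsOpenImmersion k] [EtCoh.BCCont k] (hUV : Set.range j.base ⊆ Set.range k.base) (F : EtCoh.Ab X) (n : ℕ) (h : EtDepth.DepthGE j F n) : EtDepth.DepthGE k F n := by
  revert h
  let l : U ⟶ V := IsOpenImmersion.lift k j hUV
  have hl : l ≫ k = j := IsOpenImmersion.lift_fac _ _ _
  haveI := preservesFiniteLimits_secSupp j
  haveI := preservesFiniteLimits_secSupp k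
  have h0 : ∀ G : EtCoh.Ab X, IsZero ((EtDual.secSupp j).obj G) → IsZero ((EtDual.secSupp k).obj G) := fun G hG => by
    have hm := mono_unit j G hG
    haveI : Mono (EtDual.unitApp k G) := by
      obtain ⟨z, hz⟩ := exists_unit_fac j l k hl G
      rw [hz] at hm
      exact mono_of_mono _ z
    exact isZero_kernel_of_mono _
  induction n generalizing F with
  | zero => exact fun _ p hp => absurd hp (Nat.not_lt_zero p)
  | succ n ih =>
    intro h p hp
    have hj0 : IsZero ((EtDual.secSupp j).obj F) :=
      (h 0 (by omega)).of_iso ((EtDual.secSupp j).rightDerivedZeroIsoSelf.app F).symm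
    rcases p with _ | p
    · exact (h0 F hj0).of_iso ((EtDual.secSupp k).rightDerivedZeroIsoSelf.app F)
    haveI := mono_unit j F hj0
    let ip := (EnoughInjectives.presentation ((EtCoh.pull j).obj F)).some
    haveI : PreservesLimitsOfSize.{0, 0} (EtCoh.push j) := (EtCoh.pullPushAdj j).rightAdjoint_preservesLimits
    haveI : PreservesFiniteLimits (EtCoh.push j) := PreservesLimitsOfSize.preservesFiniteLimits _
    haveI : (EtCoh.pull j).PreservesMonomorphisms := inferInstance
    haveI : Injective ip.J := ip.injective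
    haveI : Injective ((EtCoh.push j).obj ip.J) := Injective.injective_of_adjoint (EtCoh.pullPushAdj j) _
    let i : F ⟶ (EtCoh.push j).obj ip.J := EtDual.unitApp j F ≫ (EtCoh.push j).map ip.f
    haveI : Mono i := mono_comp _ _
    let S := ShortComplex.mk i (cokernel.π i) (cokernel.condition _)
    have hS : S.ShortExact := { exact := ShortComplex.exact_of_g_is_cokernel _ (cokernelIsCokernel _) }
    have hI : IsZero ((EtDual.secSupp j).obj S.X₂) := by
      haveI : Mono (EtDual.unitApp j S.X₂) := by
        have e := (EtCoh.pullPushAdj j).right_triangle_components ip.J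
        haveI : Mono (EtDual.unitApp j S.X₂ ≫ (EtCoh.push j).map ((EtCoh.pullPushAdj j).counit.app ip.J)) := by
          rw [show EtDual.unitApp j S.X₂ ≫ _ = 𝟙 _ from e]
          infer_instance
        exact mono_of_mono _ ((EtCoh.push j).map ((EtCoh.pullPushAdj j).counit.app ip.J))
      exact isZero_kernel_of_mono _
    have hjI : ∀ q, IsZero (((EtDual.secSupp j).rightDerived q).obj S.X₂) := by
      rintro (_ | q)
      · exact hI.of_iso ((EtDual.secSupp j).rightDerivedZeroIsoSelf.app _)
      · exact (EtDual.secSupp j).isZero_rightDerived_obj_injective_succ q _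
    have hC := ih S.X₃ (fun q hq => RDerLib.isZero_X₃ hS q (h (q + 1) (by omega)) (hjI q)) p (by omega)
    have hkI : IsZero (((EtDual.secSupp k).rightDerived (p + 1)).obj S.X₂) :=
      (EtDual.secSupp k).isZero_rightDerived_obj_injective_succ p _
    exact RDerLib.isZero_X₁_succ hS p hkI ⟨fun a b _ => IsZero.eq_of_src hC a b⟩

end Groth.Agent.S5176
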