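import Groth.Statements.S5178
import Groth.Agent.CIRingLib.Completion

set_option autoImplicit false
universe u
open CInt

namespace Groth.Agent.S5178

/-- Let A be a Noetherian local ring of dimension d, and let the completion of A be presented as B/I
with B a regular local ring of dimension e and I an ideal whose minimal number of generators is q,
so that e − q is the geometric depth of A (this number does not depend on the presentation). Then e
− q ≤ d, and equality holds if and only if A is a complete intersection, i.e. its completion is a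
regular local ring modulo an ideal generated by a regular sequence. -/
theorem result (A : Type u) [CommRing A] [IsLocalRing A] [IsNoetherianRing A] (B : Type u) [CommRing B] [IsRegularLocalRing B] (I : Ideal B) (hpres : Nonempty (AdicCompletion (IsLocalRing.maximalIdeal A) A ≃+* B ⧸ I)) (d e : ℕ) (hd : ringKrullDim A = (d : WithBot ℕ∞)) (he : ringKrullDim B = (e : WithBot ℕ∞)) : (e : ℤ) - (I.spanFinrank : ℤ) ≤ (d : ℤ) ∧ ((e : ℤ) - (I.spanFinrank : ℤ) = (d : ℤ) ↔ Pi1.IsCompleteIntersection A) := by
  obtain ⟨e'⟩ := hpres
  have hI : I ≠ ⊤ := fun h => by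
    haveI : Subsingleton (B ⧸ I) := Ideal.Quotient.subsingleton_iff.2 h
    haveI := e'.toEquiv.subsingleton
    exact false_of_nontrivial_of_subsingleton (AdicCompletion (IsLocalRing.maximalIdeal A) A)
  let π : B →+* CIRingLib.Cpl A := e'.symm.toRingHom.comp (Ideal.Quotient.mk I)
  have hπ : Function.Surjective π := e'.symm.surjective.comp Ideal.Quotient.mk_surjective
  have hker : RingHom.ker π = I := by
    rw [show RingHom.ker π = RingHom.ker (Ideal.Quotient.mk I) from RingHom.ker_equiv_comp _ e'.symm, Ideal.mk_ker]
  have hdA : ringKrullDim (CIRingLib.Cpl A) = (d : WithBot ℕ∞) := by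
    rw [CohenLib.ringKrullDim_adicCompletion A _ (IsLocalRing.maximalIdeal.isMaximal A).ne_top, hd]
  have h1 := ringKrullDim_le_ringKrullDim_quotient_add_spanFinrank I
    ((IsLocalRing.le_maximalIdeal hI).trans (IsLocalRing.ringJacobson_eq_maximalIdeal B).ge)
  rw [he, ← ringKrullDim_eq_of_ringEquiv e', hdA] at h1
  rw [CIRingLib.isCompleteIntersection_iff_cpl π hπ, TransLib.hasRegKer_iff hπ, hker, hdA, he]
  norm_cast at h1
  rw [← Nat.cast_add, Nat.cast_le]
  omega

end Groth.Agent.S5178
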