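import Groth.Statements.S5179
import Groth.Agent.KoszulH1Lib.Flat
import Groth.Agent.AdicRingLib.Completion

set_option autoImplicit false
set_option backward.isDefEq.respectTransparency false
set_option backward.isDefEq.respectTransparency.types false
universe u
open CInt

namespace Groth.Agent.S5179
/-- The presentation of a completion yields `dim B - spanFinrank I = n - h` for generators. -/
theorem pres_eq (R : Type u) [CommRing R] [IsLocalRing R] [IsNoetherianRing R] (B : Type u) [CommRing B]
    [IsRegularLocalRing B] (I : Ideal B) (e : R ≃+* B ⧸ I) (d : ℕ) (hd : ringKrullDim B = (d : WithBot ℕ∞))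
    {n : ℕ} (g : Fin n → R) (hg : Ideal.span (Set.range g) = IsLocalRing.maximalIdeal R) :
    (I.spanFinrank : ℕ∞) + n = KoszulH1Lib.h g + d := by
  letI : Algebra B R := (e.symm.toRingHom.comp (Ideal.Quotient.mk I)).toAlgebra
  have hs : Function.Surjective (algebraMap B R) := e.symm.surjective.comp Ideal.Quotient.mk_surjective
  have hker : RingHom.ker (algebraMap B R) = I := by
    ext b
    show e.symm (Ideal.Quotient.mk I b) = 0 ↔ b ∈ I
    rw [map_eq_zero_iff _ e.symm.injective, Ideal.Quotient.eq_zero_iff_mem]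
  obtain ⟨a, ha, hq⟩ := KoszulH1Lib.h_eq_spanFinrank (A := R) (B := B) hs hd
  rw [hker] at hq
  rw [← hq]
  exact KoszulH1Lib.h_add_card a g ha hg

theorem h_flat (A A' : Type u) [CommRing A] [IsLocalRing A] [IsNoetherianRing A] [CommRing A'] [IsLocalRing A']
    [IsNoetherianRing A'] [Algebra A A'] [Module.Flat A A']
    (hm : (IsLocalRing.maximalIdeal A).map (algebraMap A A') = IsLocalRing.maximalIdeal A') {n : ℕ} (g : Fin n → A)
    (hg : Ideal.span (Set.range g) = IsLocalRing.maximalIdeal A) :
    KoszulH1Lib.h (algebraMap A A' ∘ g) = KoszulH1Lib.h g ∧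
      Ideal.span (Set.range (algebraMap A A' ∘ g)) = IsLocalRing.maximalIdeal A' := by
  refine ⟨KoszulH1Lib.h_map hm g hg, ?_⟩
  rw [Set.range_comp, ← Ideal.map_span, hg, hm]

/-- Let A → A' be a flat local homomorphism of Noetherian local rings such that m_A A' is the maximal
ideal of A' and the residue field of A' is a separable extension of the residue field k of A
(separable in the sense that it is formally smooth over k; so A' ⊗_A k is a field separable over k).
Present the completions as Â ≅ B/I and Â' ≅ B'/I' with B, B' regular local rings of dimensions e,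
e'. Then e − μ(I) = e' − μ(I'), μ denoting the minimal number of generators: A and A' have the same
geometric depth. -/
theorem result (A A' : Type u) [CommRing A] [IsLocalRing A] [IsNoetherianRing A] [CommRing A'] [IsLocalRing A'] [IsNoetherianRing A'] [Algebra A A'] [IsLocalHom (algebraMap A A')] [Module.Flat A A'] (hmax : Ideal.map (algebraMap A A') (IsLocalRing.maximalIdeal A) = IsLocalRing.maximalIdeal A') (hsep : Algebra.FormallySmooth (IsLocalRing.ResidueField A) (IsLocalRing.ResidueField A')) (B B' : Type u) [CommRing B] [IsRegularLocalRing B] [CommRing B'] [IsRegularLocalRing B'] (I : Ideal B) (I' : Ideal B') (hpres : Nonempty (AdicCompletion (IsLocalRing.maximalIdeal A) A ≃+* B ⧸ I)) (hpres' : Nonempty (AdicCompletion (IsLocalRing.maximalIdeal A') A' ≃+* B' ⧸ I')) (e e' : ℕ) (he : ringKrullDim B = (e : WithBot ℕ∞)) (he' : ringKrullDim B' = (e' : WithBot ℕ∞)) : (e : ℤ) - (I.spanFinrank : ℤ) = (e' : ℤ) - (I'.spanFinrank : ℤ) := by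
  obtain ⟨n, g, hg⟩ := Submodule.fg_iff_exists_fin_generating_family.1
    (IsNoetherian.noetherian (IsLocalRing.maximalIdeal A))
  have hg' : Ideal.span (Set.range g) = IsLocalRing.maximalIdeal A := hg
  haveI := AdicRingLib.isNoetherianRing_adicCompletion (IsLocalRing.maximalIdeal A)
  haveI := AdicRingLib.isNoetherianRing_adicCompletion (IsLocalRing.maximalIdeal A')
  obtain ⟨h0, hgen0⟩ := h_flat A A' hmax g hg'
  obtain ⟨h1, hgen1⟩ := h_flat A (AdicCompletion (IsLocalRing.maximalIdeal A) A)
    AdicCompletion.maximalIdeal_eq_map.symm g hg'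
  obtain ⟨h2, hgen2⟩ := h_flat A' (AdicCompletion (IsLocalRing.maximalIdeal A') A')
    AdicCompletion.maximalIdeal_eq_map.symm _ hgen0
  obtain ⟨u⟩ := hpres
  obtain ⟨u'⟩ := hpres'
  have k1 := pres_eq _ B I u e he _ hgen1
  have k2 := pres_eq _ B' I' u' e' he' _ hgen2
  rw [h1] at k1
  rw [h2, h0] at k2
  obtain ⟨m, hm⟩ : ∃ m : ℕ, KoszulH1Lib.h g = m := by
    cases hh : KoszulH1Lib.h g with
    | top =>
      rw [hh, top_add] at k1
      exact absurd k1 (by norm_cast)
    | coe m => exact ⟨m, rfl⟩
  rw [hm] at k1 k2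
  norm_cast at k1 k2
  omega

end Groth.Agent.S5179
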