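import Groth.Statements.S5186
import Groth.Agent.AcycCxLib.RelExtCoh
import Groth.Agent.RpushLib.Flasque

open Groth.Agent.AcycCxLib

set_option autoImplicit false
set_option backward.isDefEq.respectTransparency false
set_option backward.isDefEq.respectTransparency.types false
universe u
open CategoryTheory AlgebraicGeometry
open Coherent TopologicalSpace CategoryTheory CategoryTheory.Limits AlgebraicGeometry
attribute [local instance] HasDerivedCategory.standard

namespace Groth.Agent.S5186

/-- Let f : X → S be a proper morphism of schemes with S locally Noetherian, U an open subset of X with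
inclusion g : U → X, h = f ∘ g : U → S, F an O_U-module and n ≥ 0. If the higher direct images R^i
g_*(F) are coherent O_X-modules for all i ≤ n, then the higher direct images R^i h_*(F) are coherent
O_S-modules for all i ≤ n. (The existence of injective resolutions in the module categories is
carried as instance arguments.) -/
theorem result {X S : Scheme.{u}} (f : X ⟶ S) [IsProper f] [IsLocallyNoetherian S] (U : X.Opens) [HasInjectiveResolutions (U : Scheme.{u}).Modules] [HasInjectiveResolutions X.Modules] (F : (U : Scheme.{u}).Modules) (n : ℕ) (hg : ∀ i : ℕ, i ≤ n → Coh.IsCoh ((Coh.Rpush U.ι i).obj F)) (i : ℕ) (hi : i ≤ n) : Coh.IsCoh ((Coh.Rpush (U.ι ≫ f) i).obj F) := by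
  haveI : IsLocallyNoetherian X := LocallyOfFiniteType.isLocallyNoetherian f
  haveI : PreservesFiniteLimits (Scheme.Modules.pushforward f) :=
    have : PreservesLimitsOfSize.{0, 0} (Scheme.Modules.pushforward f) :=
      (Scheme.Modules.pullbackPushforwardAdjunction f).rightAdjoint_preservesLimits
    PreservesLimitsOfSize.preservesFiniteLimits _
  let I := InjectiveResolution.of F
  let C : CochainComplex X.Modules ℕ := ((Scheme.Modules.pushforward U.ι).mapHomologicalComplex _).obj I.cocomplex
  have hK : ∀ m q, IsZero (((Scheme.Modules.pushforward f).rightDerived (q + 1)).obj (C.X m)) := fun m q => by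
    refine (SpSeqLib.isSAcyclic_iff _ _).1 (@RpushLib.isSAcyclic_pushforward X S f _ (C.X m) ?_) (q + 1) (Nat.succ_pos q)
    refine ⟨fun {A B} a => (AddCommGrpCat.epi_iff_surjective _).mpr fun t => ?_⟩
    obtain ⟨s, hs⟩ := (AddCommGrpCat.epi_iff_surjective _).1
      ((RpushLib.isFlasque_toAb_injective (I.cocomplex.X m)).epi ((Opens.map U.ι.base).map a.unop).op) t
    exact ⟨s, hs⟩
  have hH : ∀ m ≤ i, ∀ q, Coh.IsCoh (((Scheme.Modules.pushforward f).rightDerived q).obj (C.homology m)) := fun m hm q =>
    Groth.Agent.S0036.result f _ (QCohLib.isCoh_of_iso (I.isoRightDerivedObj (Scheme.Modules.pushforward U.ι) m)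
      (hg m (hm.trans hi))) q
  refine QCohLib.isCoh_of_iso ?_ (homology_mem (isWeakSerre_isCoh (Y := S)) (Scheme.Modules.pushforward f) hK hH i le_rfl)
  exact HomologicalComplex.homologyMapIso (HomologicalComplex.Hom.isoOfComponents
    (fun k => (Scheme.Modules.pushforwardComp U.ι f).app (I.cocomplex.X k))
    (fun a b _ => ((Scheme.Modules.pushforwardComp U.ι f).hom.naturality (I.cocomplex.d a b)).symm)) i ≪≫
      (I.isoRightDerivedObj (Scheme.Modules.pushforward (U.ι ≫ f)) i).symm


end Groth.Agent.S5186
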