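import Groth.Statements.S5192
import Groth.Agent.LefAlgzLib.Main

set_option autoImplicit false
set_option backward.isDefEq.respectTransparency false
set_option backward.isDefEq.respectTransparency.types false
set_option linter.style.haveILetI false
set_option maxHeartbeats 1000000
universe u
open CategoryTheory CategoryTheory.Limits AlgebraicGeometry
open LefX

namespace Groth.Agent.S5192

/-- Normal flatness assumed along all of X_0. Let A be a Noetherian ring which is a quotient of a
regular ring, J an ideal such that A is separated and complete for the J-adic topology, X = Spec A,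
X_0 = V(J), I an ideal with Y = V(I), U = X − Y (the union of the D(f), f ∈ I) and U_0 = U ∩ X_0.
Assume: (a) every J^n/J^(n+1) is flat over A/J (X normally flat along X_0); (b) for every prime p ⊇
I + J the local ring (A/J)_p has depth ≥ 3; (c) for every prime p ⊇ I not containing J, A_p has
depth ≥ 3. Then (1) for every finite locally free O_U-module D the map Hom(D, O_U) → lim_n Hom(D,
O_U/J^(n+1)O_U) is bijective (completion along U_0 is fully faithful on finite locally free
modules), and (2) every levelwise finite locally free system of coherent modules on the completion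
of U along U_0 is isomorphic to the completion of a coherent O_U-module. (The published statement
asks normal flatness only at the points of Y ∩ X_0; this row assumes it along all of X_0.) -/
theorem result (R : Type u) [CommRing R] [IsRegularRing R] (A : Type u) [CommRing A] [IsNoetherianRing A] (π : R →+* A) (hπ : Function.Surjective π) (J : Ideal A) [IsAdicComplete J A] (I : Ideal A) (ha : ∀ n : ℕ, Module.Flat (A ⧸ J) (↥(J ^ n) ⧸ (J • (⊤ : Submodule A ↥(J ^ n))))) (hb : ∀ p : Ideal A, ∀ _ : p.IsPrime, I ≤ p → J ≤ p → (3 : ℕ∞) ≤ LocCoh.depth (Localization.AtPrime p) (Localization.AtPrime p ⧸ J.map (algebraMap A (Localization.AtPrime p)))) (hc : ∀ p : Ideal A, ∀ _ : p.IsPrime, I ≤ p → ¬ J ≤ p → (3 : ℕ∞) ≤ LocCoh.depth (Localization.AtPrime p) (Localization.AtPrime p)) : (∀ D : (↑(⨆ f : ↥I, (Spec (CommRingCat.of A)).basicOpen ((Scheme.ΓSpecIso (CommRingCat.of A)).inv f.1)) : Scheme.{u}).Modules, FlatMod.IsFinLocFree D → Lef.HomToFormalBijective ((Spec.map (CommRingCat.ofHom (Ideal.Quotient.mk J))).ker.comap (⨆ f : ↥I,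 (Spec (CommRingCat.of A)).basicOpen ((Scheme.ΓSpecIso (CommRingCat.of A)).inv f.1)).ι) D) ∧ (∀ 𝔐 : FSch.ModSys (FSch.completionAlong (↑(⨆ f : ↥I, (Spec (CommRingCat.of A)).basicOpen ((Scheme.ΓSpecIso (CommRingCat.of A)).inv f.1)) : Scheme.{u}) ((Spec.map (CommRingCat.ofHom (Ideal.Quotient.mk J))).ker.comap (⨆ f : ↥I, (Spec (CommRingCat.of A)).basicOpen ((Scheme.ΓSpecIso (CommRingCat.of A)).inv f.1)).ι)), LefX.LevelwiseFinLocFree 𝔐 → ∃ F : (↑(⨆ f : ↥I, (Spec (CommRingCat.of A)).basicOpen ((Scheme.ΓSpecIso (CommRingCat.of A)).inv f.1)) : Scheme.{u}).Modules, Coh.IsCoh F ∧ Nonempty (FSch.completionMod ((Spec.map (CommRingCat.ofHom (Ideal.Quotient.mk J))).ker.comap (⨆ f : ↥I, (Spec (CommRingCat.of A)).basicOpen ((Scheme.ΓSpecIso (CommRingCat.of A)).inv f.1)).ι) F ≅ 𝔐)) := by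
  have hnf : EGA4.IsNormallyFlat J A := LefAlgzLib.isNormallyFlat_of_flat_gr ha
  refine LefAlgzLib.lef_and_algebraization hnf (𝔞 := I) ?_ _ (TopologicalSpace.Opens.ext (Set.ext fun x => ?_))
  · refine (CommAlgDim.hasSeqIn_iff_forall_localization I 3).2 fun p hp hle => ?_
    by_cases hJp : J ≤ p
    · let S := Localization.AtPrime p
      haveI := IsLocalizedModule.toLocalizedQuotient' (S := S) (p := p.primeCompl) (f := Algebra.linearMap A S) J
      let e : (S ⧸ Submodule.localized' S p.primeCompl (Algebra.linearMap A S) J) ≃ₗ[S] S ⧸ J.map (algebraMap A S) :=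
        Submodule.quotEquivOfEq _ _ (Ideal.localized'_eq_map S p.primeCompl J)
      haveI : IsLocalizedModule p.primeCompl ((e.restrictScalars A).toLinearMap ∘ₗ
          Submodule.toLocalizedQuotient' S p.primeCompl (Algebra.linearMap A S) J) :=
        IsLocalizedModule.of_linearEquiv _ _ _
      exact (LocSuppLib.le_depth_iff_localization p ((e.restrictScalars A).toLinearMap ∘ₗ
          Submodule.toLocalizedQuotient' S p.primeCompl (Algebra.linearMap A S) J) 3).1 (hb p hp hle hJp)
    · obtain ⟨a, ha', hap⟩ := SetLike.not_le_iff_exists.1 hJp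
      haveI : Subsingleton (LocalizedModule p.primeCompl (A ⧸ J)) := LocalizedModule.subsingleton_iff.2 fun m =>
        ⟨a, hap, by
          obtain ⟨b, rfl⟩ := Submodule.Quotient.mk_surjective _ m
          exact (Submodule.Quotient.mk_eq_zero _).2 (J.mul_mem_right b ha')⟩
      exact (CommAlgDim.le_depth_iff 3).2 (CommAlgDim.hasSeqIn_of_subsingleton _ 3)
  simp only [TopologicalSpace.Opens.coe_iSup, Set.mem_iUnion, SetLike.mem_coe, Subtype.exists]
  have key : ∀ a : A, (x ∈ (Spec (CommRingCat.of A)).basicOpen ((Scheme.ΓSpecIso (CommRingCat.of A)).inv a)) ↔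
      a ∉ x.asIdeal := fun a => by
    erw [AlgebraicGeometry.basicOpen_eq_of_affine (R := CommRingCat.of A) a]
    rfl
  refine ⟨fun ⟨a, ha', hx⟩ h => (key a).1 hx (h ha'), fun h => ?_⟩
  obtain ⟨a, ha', hx⟩ := Set.not_subset.1 h
  exact ⟨a, ha', (key a).2 hx⟩

end Groth.Agent.S5192
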