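import Groth.Statements.S5201
import Groth.Agent.EtLocCohLib.ConstDev

set_option backward.isDefEq.respectTransparency false
set_option backward.isDefEq.respectTransparency.types false
set_option synthInstance.maxHeartbeats 400000
set_option maxHeartbeats 1000000

set_option autoImplicit false
universe u
open CategoryTheory CategoryTheory.Limits AlgebraicGeometry Opposite
open EtDepth

namespace Groth.Agent.S5201

open Groth.Agent.EtShLib

theorem isLTorsion_restr {U X : Scheme.{u}} (j : U ⟶ X) [AlgebraicGeometry.Etale j] [EtShriek.JCont j] {ℓ : ℕ}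
    {F : EtCoh.Ab X} (hF : EtDepth.IsLTorsion ℓ F) : EtDepth.IsLTorsion ℓ ((EtShriek.restrAlong j).obj F) := by
  intro V s x
  obtain ⟨V', g, ⟨v, hv⟩, k, hk⟩ := hF ((EtShriek.compEtale j).obj V) s x
  have w : g.left ≫ V.hom ≫ j = V'.hom := MorphismProperty.Over.w g
  haveI : AlgebraicGeometry.Etale ((g.left ≫ V.hom) ≫ j) := by
    rw [Category.assoc, w]
    exact V'.prop
  haveI : AlgebraicGeometry.Etale (g.left ≫ V.hom) := AlgebraicGeometry.Etale.of_comp _ j
  let V₂ : U.Etale := Scheme.Etale.mk (g.left ≫ V.hom)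
  let g₂ : V₂ ⟶ V := MorphismProperty.Over.homMk g.left rfl
  let e : (EtShriek.compEtale j).obj V₂ ⟶ V' :=
    MorphismProperty.Over.homMk (𝟙 _) (by
      show 𝟙 _ ≫ V'.hom = (g.left ≫ V.hom) ≫ j
      rw [Category.id_comp, Category.assoc]
      exact w.symm)
  refine ⟨V₂, g₂, ⟨v, hv⟩, k, ?_⟩
  have h : ((EtShriek.restrAlong j).obj F).obj.map g₂.op s = F.obj.map e.op (F.obj.map g.op s) := by
    rw [← ConcreteCategory.comp_apply, ← Functor.map_comp, ← op_comp]
    have he : (EtShriek.compEtale j).map g₂ = e ≫ g := MorphismProperty.Over.Hom.ext (Category.id_comp _).symm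
    exact congrArg (fun t => F.obj.map t.op s) he
  rw [h]
  exact ((map_nsmul (F.obj.map e.op).hom _ (F.obj.map g.op s)).symm.trans
    ((congrArg (F.obj.map e.op) hk).trans (map_zero (F.obj.map e.op).hom)) :)

theorem isLTorsion_of_iso {X : Scheme.{u}} {ℓ : ℕ} {F G : EtCoh.Ab X} (e : F ≅ G)
    (hF : EtDepth.IsLTorsion ℓ F) : EtDepth.IsLTorsion ℓ G := by
  intro V s x
  obtain ⟨V', g, hv, k, hk⟩ := hF V (e.inv.hom.app (op V) s) x
  refine ⟨V', g, hv, k, ?_⟩
  rw [← NatTrans.naturality_apply e.inv.hom g.op s, ← map_nsmul] at hk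
  have h := congrArg (e.hom.hom.app (op V')) hk
  rw [map_zero (e.hom.hom.app (op V')).hom] at h
  have h2 : (e.inv ≫ e.hom).hom.app (op V') ((ℓ ^ k) • G.obj.map g.op s) = (ℓ ^ k) • G.obj.map g.op s := by
    rw [Iso.inv_hom_id]
    rfl
  exact h2.symm.trans h

/-- For a finite locally constant sheaf and a single prime ℓ. Let X be a scheme, j : U → X a
quasi-compact open immersion (U retrocompact in X) with closed complement Y, ℓ a prime and n ≥ 0,
and suppose the Y-étale depth of X for ℓ is ≥ n, i.e. the local cohomology sheaves H^p_Y(Z/ℓ) vanish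
for p < n. Then for every finite locally constant abelian sheaf F on the small étale site of X which
is ℓ-torsion (every section étale-locally killed by a power of ℓ), the Y-étale depth of F is ≥ n. -/
theorem result {X U : Scheme.{u}} (j : U ⟶ X) [IsOpenImmersion j] [QuasiCompact j] [EtCoh.BCCont j] (ℓ : ℕ) (hℓ : ℓ.Prime) (n : ℕ) (hX : EtDepth.DepthGE j (EtCoh.const X (ZMod ℓ)) n) (F : EtCoh.Ab X) (hFlc : EtCoh.IsFiniteLocallyConstant F) (hFt : EtDepth.IsLTorsion ℓ F) : EtDepth.DepthGE j F n := by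
  obtain ⟨ι, W, hW, hF⟩ := hFlc
  haveI : ∀ i, AlgebraicGeometry.Etale (W i).hom := fun i => (W i).prop
  haveI : ∀ i, IsOpenImmersion (pullback.snd j (W i).hom) := fun i => MorphismProperty.pullback_snd _ _ inferInstance
  have hU' : ∀ i, Set.range (pullback.snd j (W i).hom).base = (W i).hom.base ⁻¹' Set.range j.base := fun i =>
    Scheme.Pullback.range_snd j (W i).hom
  rw [EtLocCohLib.depthGE_iff_local j (fun i => (W i).hom) (fun i => pullback.snd j (W i).hom) hU'
    (fun x => hW x) n] at hX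
  rw [EtLocCohLib.depthGE_iff_local j (fun i => (W i).hom) (fun i => pullback.snd j (W i).hom) hU'
    (fun x => hW x) n]
  intro i
  obtain ⟨M, _, hM, ⟨e⟩⟩ := hF i
  obtain ⟨η, hη⟩ := exists_isCst_Ab e
  obtain ⟨φ⟩ := EtLocCohLib.nonempty_iso_cK_of_isCst ((hη.pull (f := (W i).hom)).map (EtSliceLib.diag (W i)))
  haveI := jCont (W i).hom
  haveI : IsIso ((restrTheta (W i).hom).app F) := NatIso.isIso_app_of_isIso (restrTheta (W i).hom) F
  have ht : EtDepth.IsLTorsion ℓ ((EtCoh.pull (W i).hom).obj F) :=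
    isLTorsion_of_iso (asIso ((restrTheta (W i).hom).app F)).symm (isLTorsion_restr (W i).hom hFt)
  exact EtLocCohLib.depthGE_of_iso _ φ (EtLocCohLib.depthGE_const_of_isLTorsion _ hℓ
    (EtLocCohLib.depthGE_of_iso _ (EtCore.pullConst (W i).hom (ZMod ℓ)) (hX i)) _ (isLTorsion_of_iso φ.symm ht))

end Groth.Agent.S5201
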