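import Groth.Statements.S5204
-- import your own Groth.Agent.* helpers here

set_option autoImplicit false
set_option linter.style.haveILetI false
open CategoryTheory CategoryTheory.Limits
universe w v₁ u₁
open DescCat

namespace Groth.Agent.S5204

/-- In a category with pullbacks: if `u` and `v` are effective epimorphisms and `v` is a universal
epimorphism (all its base changes are epimorphisms), then the composite `v ≫ u` is an effective
epimorphism. -/
theorem result {C : Type u₁} [Category.{v₁} C] [HasPullbacks C]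
    {U T S : C} (v : U ⟶ T) (u : T ⟶ S) [EffectiveEpi u] [EffectiveEpi v]
    (hv : MorphismProperty.universally (MorphismProperty.epimorphisms C) v) :
    EffectiveEpi (v ≫ u) := by
  have hcompat : ∀ {W : C} (e : U ⟶ W),
      (∀ {Z : C} (g₁ g₂ : Z ⟶ U), g₁ ≫ v ≫ u = g₂ ≫ v ≫ u → g₁ ≫ e = g₂ ≫ e) →
      ∀ {Z : C} (g₁ g₂ : Z ⟶ U), g₁ ≫ v = g₂ ≫ v → g₁ ≫ e = g₂ ≫ e :=
    fun e h Z g₁ g₂ eq => h g₁ g₂ (by rw [reassoc_of% eq])
  have hcompat' : ∀ {W : C} (e : U ⟶ W) (h : ∀ {Z : C} (g₁ g₂ : Z ⟶ U), g₁ ≫ v ≫ u = g₂ ≫ v ≫ u → g₁ ≫ e = g₂ ≫ e),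
      ∀ {Z : C} (g₁ g₂ : Z ⟶ T), g₁ ≫ u = g₂ ≫ u →
        g₁ ≫ EffectiveEpi.desc v e (hcompat e h) = g₂ ≫ EffectiveEpi.desc v e (hcompat e h) := by
    intro W e h Z g₁ g₂ eq
    haveI : Epi (pullback.fst g₁ v) := hv _ _ _ (IsPullback.of_hasPullback g₁ v)
    haveI : Epi (pullback.fst (pullback.fst g₁ v ≫ g₂) v) := hv _ _ _ (IsPullback.of_hasPullback _ v)
    rw [← cancel_epi (pullback.fst (pullback.fst g₁ v ≫ g₂) v ≫ pullback.fst g₁ v)]
    simp only [Category.assoc]
    rw [pullback.condition_assoc (f := g₁) (g := v),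
      ← Category.assoc (pullback.fst g₁ v) g₂, pullback.condition_assoc (f := pullback.fst g₁ v ≫ g₂) (g := v),
      EffectiveEpi.fac, ← Category.assoc]
    apply h
    simp only [Category.assoc]
    rw [← pullback.condition_assoc (f := g₁) (g := v), eq, ← Category.assoc (pullback.fst g₁ v) g₂,
      pullback.condition_assoc (f := pullback.fst g₁ v ≫ g₂) (g := v)]
  refine ⟨⟨⟨fun {W} e he => EffectiveEpi.desc u (EffectiveEpi.desc v e (hcompat e he)) (hcompat' e he),
    fun {W} e he => by rw [Category.assoc, EffectiveEpi.fac, EffectiveEpi.fac],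
    fun {W} e he m hm => EffectiveEpi.uniq u _ _ m (EffectiveEpi.uniq v _ _ _ ((Category.assoc _ _ _).symm.trans hm))⟩⟩⟩

end Groth.Agent.S5204
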