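import Groth.Statements.S5205
import Groth.Agent.DescLib.UEE
-- import your own Groth.Agent.* helpers here

set_option autoImplicit false
set_option linter.style.haveILetI false
open CategoryTheory CategoryTheory.Limits
universe w v₁ u₁
open DescCat

namespace Groth.Agent.S5205

/-- First assertion: in a category with pullbacks: universal effective epimorphisms (morphisms all of
whose base changes are effective epimorphisms) are stable under composition. -/
theorem result {C : Type u₁} [Category.{v₁} C] [HasPullbacks C]
    {U T S : C} (v : U ⟶ T) (u : T ⟶ S)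
    (hu : (MorphismProperty.universally (fun (A B : C) (p : A ⟶ B) => EffectiveEpi p)) u) (hv : (MorphismProperty.universally (fun (A B : C) (p : A ⟶ B) => EffectiveEpi p)) v) :
    (MorphismProperty.universally (fun (A B : C) (p : A ⟶ B) => EffectiveEpi p)) (v ≫ u) := by
  rw [DescLib.uee_iff] at hu hv ⊢
  refine (Sheaf.canonicalTopology C).transitive hu _ fun V w hw => ?_
  obtain ⟨a, rfl⟩ := (DescLib.mem_sv u w).1 hw
  refine (Sheaf.canonicalTopology C).superset_covering ?_ ((Sheaf.canonicalTopology C).pullback_stable a hv)
  intro Z z hz
  obtain ⟨b, hb⟩ := (DescLib.mem_sv v _).1 hz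
  exact (DescLib.mem_sv (v ≫ u) _).2 ⟨b, by rw [reassoc_of% hb]⟩

end Groth.Agent.S5205
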