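import Groth.Statements.S5207
import Groth.Agent.DescLib.UEE
-- import your own Groth.Agent.* helpers here

set_option autoImplicit false
set_option linter.style.haveILetI false
open CategoryTheory CategoryTheory.Limits
universe w v₁ u₁
open DescCat

namespace Groth.Agent.S5207

/-- In a category with pullbacks: being a universal effective epimorphism can be checked after base
change along a universal effective epimorphism `g : S' ⟶ S`. -/
theorem result {C : Type u₁} [Category.{v₁} C] [HasPullbacks C]
    {S' S T : C} (g : S' ⟶ S) (hg : (MorphismProperty.universally (fun (A B : C) (p : A ⟶ B) => EffectiveEpi p)) g) (u : T ⟶ S) :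
    (MorphismProperty.universally (fun (A B : C) (p : A ⟶ B) => EffectiveEpi p)) u ↔ (MorphismProperty.universally (fun (A B : C) (p : A ⟶ B) => EffectiveEpi p)) (pullback.snd u g) := by
  rw [DescLib.uee_iff] at hg
  rw [DescLib.uee_iff, DescLib.uee_iff, ← DescLib.sv_pullback]
  refine ⟨fun h => (Sheaf.canonicalTopology C).pullback_stable g h, fun h => ?_⟩
  refine (Sheaf.canonicalTopology C).transitive hg _ fun V w hw => ?_
  obtain ⟨a, rfl⟩ := (DescLib.mem_sv g w).1 hw
  rw [Sieve.pullback_comp]
  exact (Sheaf.canonicalTopology C).pullback_stable a h

end Groth.Agent.S5207
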