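import Groth.Statements.S5209
import Groth.Agent.DescLib.UEE
-- import your own Groth.Agent.* helpers here

set_option autoImplicit false
set_option linter.style.haveILetI false
open CategoryTheory CategoryTheory.Limits
universe w v₁ u₁
open DescCat

namespace Groth.Agent.S5209

/-- In a category with pullbacks, let `f : S' ⟶ S` be a universal effective epimorphism, that is, a
morphism all of whose base changes are effective epimorphisms. Then a morphism `g` over `S` is an
isomorphism (resp. a monomorphism) if and only if its base change along `f` is. -/
theorem result {C : Type u₁} [Category.{v₁} C] [HasPullbacks C]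
    {S' S : C} (f : S' ⟶ S) (hf : (MorphismProperty.universally (fun (A B : C) (p : A ⟶ B) => EffectiveEpi p)) f) {X Y : Over S} (g : X ⟶ Y) :
    (IsIso g ↔ IsIso ((Over.pullback f).map g)) ∧ (Mono g ↔ Mono ((Over.pullback f).map g)) := by
  rw [DescLib.uee_iff] at hf
  have hmono : Mono ((Over.pullback f).map g) → Mono g := fun hm => by
    haveI : Mono ((Over.pullback f).map g).left := inferInstance
    refine ⟨fun {W} a b e => ?_⟩
    ext1
    refine DescLib.hom_ext ((Sheaf.canonicalTopology C).pullback_stable W.hom hf) fun V v hv => ?_
    obtain ⟨s, hs⟩ := (DescLib.mem_sv f _).1 hv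
    have e' : a.left ≫ g.left = b.left ≫ g.left := congrArg CommaMorphism.left e
    let la : V ⟶ pullback X.hom f := pullback.lift (v ≫ a.left) s (by rw [Category.assoc, Over.w a]; exact hs.symm)
    let lb : V ⟶ pullback X.hom f := pullback.lift (v ≫ b.left) s (by rw [Category.assoc, Over.w b]; exact hs.symm)
    have : la = lb := by
      rw [← cancel_mono ((Over.pullback f).map g).left]
      apply pullback.hom_ext
      · simp only [Over.pullback_map_left, Category.assoc, pullback.lift_fst, la, lb, pullback.lift_fst_assoc, e']
      · simp only [Over.pullback_map_left, Category.assoc, pullback.lift_snd, la, lb]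
    exact (pullback.lift_fst _ _ _).symm.trans ((congrArg (· ≫ pullback.fst X.hom f) this).trans (pullback.lift_fst _ _ _))
  refine ⟨⟨fun h => inferInstance, fun h => ?_⟩, ⟨fun h => inferInstance, hmono⟩⟩
  haveI := hmono inferInstance
  haveI : IsIso ((Over.pullback f).map g).left :=
    inferInstanceAs (IsIso ((Over.forget S').map ((Over.pullback f).map g)))
  haveI : Mono g.left := inferInstance
  obtain ⟨t, ht⟩ := DescLib.exists_factor ((Sheaf.canonicalTopology C).pullback_stable Y.hom hf) g.left (𝟙 Y.left)
    (fun V v hv => by
      obtain ⟨s, hs⟩ := (DescLib.mem_sv f _).1 hv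
      refine ⟨pullback.lift v s hs.symm ≫ inv ((Over.pullback f).map g).left ≫ pullback.fst X.hom f, ?_⟩
      have hw : ((Over.pullback f).map g).left ≫ pullback.fst Y.hom f = pullback.fst X.hom f ≫ g.left :=
        pullback.lift_fst _ _ _
      simp only [Category.assoc, ← hw, IsIso.inv_hom_id_assoc, Category.comp_id]
      exact pullback.lift_fst _ _ _)
  haveI : IsIso ((Over.forget S).map g) := ⟨t, show g.left ≫ t = 𝟙 X.left by rw [← cancel_mono g.left, Category.assoc, ht]; simp, ht⟩
  exact isIso_of_reflects_iso g (Over.forget S)

end Groth.Agent.S5209
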