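import Groth.Statements.S5210
import Groth.Agent.DescLib.UEE
-- import your own Groth.Agent.* helpers here

set_option autoImplicit false
set_option linter.style.haveILetI false
open CategoryTheory CategoryTheory.Limits
universe w v₁ u₁
open DescCat

namespace Groth.Agent.S5210

/-- In a category with pullbacks, let `f : S' ⟶ S` be a universal effective epimorphism (all of its base
changes are effective epimorphisms) and `Y ⟶ S` a monomorphism. Then an object `X` over `S` admits a
morphism to `Y` over `S` if and only if it does so after base change along `f`. -/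
theorem result {C : Type u₁} [Category.{v₁} C] [HasPullbacks C]
    {S' S : C} (f : S' ⟶ S) (hf : (MorphismProperty.universally (fun (A B : C) (p : A ⟶ B) => EffectiveEpi p)) f) (X Y : Over S) [Mono Y.hom] :
    Nonempty (X ⟶ Y) ↔ Nonempty ((Over.pullback f).obj X ⟶ (Over.pullback f).obj Y) := by
  rw [DescLib.uee_iff] at hf
  refine ⟨fun ⟨h⟩ => ⟨(Over.pullback f).map h⟩, fun ⟨h⟩ => ?_⟩
  obtain ⟨t, ht⟩ := DescLib.exists_factor ((Sheaf.canonicalTopology C).pullback_stable X.hom hf) Y.hom X.hom
    (fun V v hv => by
      obtain ⟨a, ha⟩ := (DescLib.mem_sv f _).1 hv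
      let l : V ⟶ pullback X.hom f := pullback.lift v a ha.symm
      refine ⟨l ≫ h.left ≫ pullback.fst Y.hom f, ?_⟩
      have hw : h.left ≫ pullback.snd Y.hom f = pullback.snd X.hom f := Over.w h
      simp only [Category.assoc, pullback.condition, reassoc_of% hw]
      exact (pullback.lift_snd_assoc _ _ _ _).trans ha)
  exact ⟨Over.homMk t ht⟩

end Groth.Agent.S5210
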