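import Groth.Statements.S5211
import Mathlib


-- import your own Groth.Agent.* helpers here

set_option autoImplicit false
open CategoryTheory CategoryTheory.Limits
universe w v₁ u₁
open DescCat

namespace Groth.Agent.S5211

/-- In a category with pullbacks: if `f : S' ⟶ S` is a universal effective epimorphism and the canonical
map `S' ×_S S' ⟶ S' ×_T S'` induced by `g : S ⟶ T` is an isomorphism, then `g` is a monomorphism. -/
theorem result {C : Type u₁} [Category.{v₁} C] [HasPullbacks C]
    {S' S T : C} (f : S' ⟶ S) (hf : (MorphismProperty.universally (fun (A B : C) (p : A ⟶ B) => EffectiveEpi p)) f) (g : S ⟶ T)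
    [IsIso (pullback.mapDesc f f g)] : Mono g := by
  constructor
  intro Z a b hab
  have h1 := hf (pullback.snd f a |> fun _ => pullback.fst f a) a (pullback.snd f a)
    (IsPullback.of_hasPullback f a).flip
  let p := pullback.snd f a
  have h2 := hf (pullback.fst f (p ≫ b)) (p ≫ b) (pullback.snd f (p ≫ b))
    (IsPullback.of_hasPullback f (p ≫ b)).flip
  let q := pullback.snd f (p ≫ b)
  haveI : EffectiveEpi p := h1
  haveI : EffectiveEpi q := h2
  let s := q ≫ pullback.fst f a
  let t := pullback.fst f (p ≫ b)
  have hs : s ≫ f = q ≫ p ≫ a := by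
    simp only [s, p, Category.assoc, pullback.condition]
  have ht : t ≫ f = q ≫ p ≫ b := pullback.condition
  have hg : s ≫ f ≫ g = t ≫ f ≫ g := by
    rw [reassoc_of% hs, reassoc_of% ht, hab]
  let l := pullback.lift s t hg ≫ inv (pullback.mapDesc f f g)
  have e1 : l ≫ pullback.fst f f = s := by
    have : pullback.mapDesc f f g ≫ pullback.fst (f ≫ g) (f ≫ g) = pullback.fst f f := by
      dsimp [pullback.mapDesc, pullback.map]
      exact (pullback.lift_fst (f := f ≫ g) (g := f ≫ g) _ _ _).trans (Category.comp_id _)
    rw [← this, Category.assoc, IsIso.inv_hom_id_assoc]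
    first | exact pullback.lift_fst _ _ _ | exact pullback.lift_snd _ _ _
  have e2 : l ≫ pullback.snd f f = t := by
    have : pullback.mapDesc f f g ≫ pullback.snd (f ≫ g) (f ≫ g) = pullback.snd f f := by
      dsimp [pullback.mapDesc, pullback.map]
      exact (pullback.lift_snd (f := f ≫ g) (g := f ≫ g) _ _ _).trans (Category.comp_id _)
    rw [← this, Category.assoc, IsIso.inv_hom_id_assoc]
    first | exact pullback.lift_fst _ _ _ | exact pullback.lift_snd _ _ _
  have : q ≫ p ≫ a = q ≫ p ≫ b := by
    rw [← hs, ← ht, ← e1, Category.assoc, pullback.condition, ← Category.assoc, e2]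
  exact (cancel_epi p).1 ((cancel_epi q).1 this)

end Groth.Agent.S5211
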