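import Groth.Statements.S5212
import Mathlib.RingTheory.Norm.Basic
import Mathlib.RingTheory.LocalRing.ResidueField.Ideal
import Mathlib.LinearAlgebra.Charpoly.BaseChange
import Mathlib.RingTheory.TensorProduct.Finite
-- import your own Groth.Agent.* helpers here

set_option autoImplicit false
universe u
open GrpQ

namespace Groth.Agent.S5212

open TensorProduct


/-- For `A'` finite and free as an `A`-module, a prime `p` of `A` and `a ∈ A'`, the element `a` belongs
to some prime of `A'` lying over `p` if and only if its norm belongs to `p`. (The published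
statement allows `A'` projective of constant rank over `A`; this row takes `A'` free, where the norm
is the determinant of multiplication.) -/
theorem result {A A' : Type u} [CommRing A] [CommRing A'] [Algebra A A']
    [Module.Free A A'] [Module.Finite A A'] (p : Ideal A) [p.IsPrime] (a : A') :
    (∃ q : Ideal A', q.IsPrime ∧ q.LiesOver p ∧ a ∈ q) ↔ Algebra.norm A a ∈ p := by
  let K := p.ResidueField
  have hg : algebraMap A K (Algebra.norm A a) =
      LinearMap.det (LinearMap.mulLeft K ((1 : K) ⊗ₜ[A] a)) := by
    rw [Algebra.norm_apply, ← LinearMap.det_baseChange]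
    congr 1
    refine TensorProduct.AlgebraTensorModule.curry_injective (LinearMap.ext fun x =>
      LinearMap.ext fun c => ?_)
    simp [Algebra.TensorProduct.tmul_mul_tmul]
  rw [← Ideal.algebraMap_residueField_eq_zero, hg]
  let φ : A' →+* K ⊗[A] A' := (Algebra.TensorProduct.includeRight : A' →ₐ[A] K ⊗[A] A').toRingHom
  constructor
  · rintro ⟨q, hq, hqp, haq⟩
    by_contra h0
    have hker := not_not.mp (mt LinearMap.det_eq_zero_iff_ker_ne_bot.mpr h0)
    obtain ⟨z, hz⟩ := LinearMap.surjective_of_injective (LinearMap.ker_eq_bot.mp hker) 1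
    let ψ : K →ₐ[A] q.ResidueField := Ideal.ResidueField.mapₐ p q (Algebra.ofId A A') hqp.over
    let π : K ⊗[A] A' →ₐ[A] q.ResidueField :=
      Algebra.TensorProduct.lift ψ (IsScalarTower.toAlgHom A A' q.ResidueField)
        (fun _ _ => Commute.all _ _)
    refine ((IsUnit.of_mul_eq_one _ hz).map π).ne_zero ?_
    simp only [π, Algebra.TensorProduct.lift_tmul, map_one, one_mul, IsScalarTower.coe_toAlgHom']
    exact Ideal.algebraMap_residueField_eq_zero.mpr haq
  · intro h0
    have hnu : ¬ IsUnit (φ a) := fun hu => LinearMap.det_eq_zero_iff_ker_ne_bot.mp h0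
      (LinearMap.ker_eq_bot.mpr hu.mul_right_injective)
    obtain ⟨M, hM, haM⟩ := exists_max_ideal_of_mem_nonunits (a := φ a) hnu
    refine ⟨M.comap φ, Ideal.IsPrime.comap φ, ⟨?_⟩, haM⟩
    ext x
    rw [Ideal.under_def, Ideal.mem_comap, Ideal.mem_comap,
      show φ (algebraMap A A' x) = algebraMap K (K ⊗[A] A') (algebraMap A K x) from
        Algebra.TensorProduct.includeRight.commutes x]
    refine ⟨fun hx => ?_, fun h => ?_⟩
    · rw [Ideal.algebraMap_residueField_eq_zero.mpr hx, map_zero]
      exact M.zero_mem
    · by_contra hx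
      exact hM.ne_top (Ideal.eq_top_of_isUnit_mem _ h (IsUnit.map _
        (isUnit_iff_ne_zero.mpr fun h0 => hx (Ideal.algebraMap_residueField_eq_zero.mp h0))))

end Groth.Agent.S5212
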