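import Groth.Statements.S5213
import Groth.Agent.GrpdLib.Local
-- import your own Groth.Agent.* helpers here

set_option autoImplicit false
universe u
open GrpQ

namespace Groth.Agent.S5213


/-- Let `B` be a local ring with infinite residue field, `A` a semi-local ring, `B → A` a ring map
carrying the maximal ideal of `B` into the Jacobson radical of `A`, `M` a finite free `A`-module and
`N` a `B`-submodule of `M` generating `M` as an `A`-module. Then `N` contains a basis of `M` over
`A`. -/
theorem result {B A M : Type u} [CommRing B] [CommRing A]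
    [IsLocalRing B] [Infinite (IsLocalRing.ResidueField B)] [Algebra B A]
    [Finite (MaximalSpectrum A)]
    (hBA : (IsLocalRing.maximalIdeal B).map (algebraMap B A) ≤ (⊥ : Ideal A).jacobson)
    [AddCommGroup M] [Module A M] [Module B M] [IsScalarTower B A M]
    [Module.Free A M] [Module.Finite A M]
    (N : Submodule B M) (hN : Submodule.span A (N : Set M) = ⊤) :
    ∃ b : Module.Basis (Fin (Module.finrank A M)) A M, ∀ i, b i ∈ N := by
  classical
  have := Fintype.ofFinite (MaximalSpectrum A)
  let r := Module.finrank A M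
  cases subsingleton_or_nontrivial A with
  | inl h =>
    have : Subsingleton M := Module.subsingleton A M
    exact ⟨Module.Basis.ofEquivFun (LinearEquiv.ofSubsingleton M (Fin r → A)),
      fun i => by rw [Subsingleton.elim (Module.Basis.ofEquivFun (LinearEquiv.ofSubsingleton M (Fin r → A)) i) 0]; exact N.zero_mem⟩
  | inr h =>
  let b0 := Module.finBasis A M
  obtain ⟨G, hGsub, hG⟩ := (Submodule.fg_span_iff_fg_span_finset_subset (N : Set M)).mp
    ((congrArg Submodule.FG hN).mpr Module.Finite.fg_top)
  let k0 := IsLocalRing.ResidueField B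
  let K : MaximalSpectrum A → Type u := fun P => A ⧸ P.1
  let _ : ∀ P, Field (K P) := fun P => Ideal.Quotient.field P.1
  have hPm : ∀ P : MaximalSpectrum A, IsLocalRing.maximalIdeal B ≤ P.1.comap (algebraMap B A) :=
    fun P => Ideal.map_le_iff_le_comap.mp (hBA.trans (sInf_le ⟨bot_le, P.2⟩))
  let _ : ∀ P, Algebra k0 (K P) := fun P =>
    (Ideal.quotientMap P.1 (algebraMap B A) (hPm P)).toAlgebra
  let co : ∀ P : MaximalSpectrum A, G → Fin r → K P := fun P x i =>
    algebraMap A (K P) (b0.coord i x.1)
  let Mx : ∀ P : MaximalSpectrum A, Matrix (Fin r) (Fin r) (MvPolynomial (Fin r × G) (K P)) :=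
    fun P => Matrix.of fun i j => ∑ x : G, MvPolynomial.C (co P x i) * MvPolynomial.X (j, x)
  have hD : ∀ P, (Mx P).det ≠ 0 := by
    intro P h0
    have hb : ∀ j : Fin r, ∃ c : G → A, b0 j = ∑ x, c x • x.1 := by
      intro j
      have hj : b0 j ∈ Submodule.span A (G : Set M) := by rw [← hG, hN]; trivial
      obtain ⟨c, -, hc⟩ := Submodule.mem_span_finset.mp hj
      refine ⟨fun x => c x.1, ?_⟩
      rw [← hc, ← Finset.sum_coe_sort G]
    choose c hc using hb
    have h1 := congrArg (MvPolynomial.eval fun p : Fin r × G => algebraMap A (K P) (c p.1 p.2)) h0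
    rw [map_zero, RingHom.map_det, show (MvPolynomial.eval fun p : Fin r × G =>
      algebraMap A (K P) (c p.1 p.2)).mapMatrix (Mx P) = 1 by
        ext i j
        simp only [Mx, co, RingHom.mapMatrix_apply, Matrix.map_apply, Matrix.of_apply]
        rw [GrpdLib.EqvRel.eval_genMatrix (algebraMap A (K P)) (fun i (x : G) => b0.coord i x.1)]
        simp only [← map_mul, ← map_sum]
        rw [show ∑ x : G, (b0.coord i) x.1 * c j x = b0.coord i (b0 j) by
          rw [hc j, map_sum]
          exact Finset.sum_congr rfl fun x _ => by rw [map_smul, smul_eq_mul, mul_comm]]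
        by_cases h : i = j <;> simp [h, Matrix.one_apply],
      Matrix.det_one] at h1
    exact one_ne_zero h1
  obtain ⟨c, hc⟩ := GrpdLib.EqvRel.exists_eval_ne_zero (k := k0) K (fun P => (Mx P).det) hD
  choose c' hc' using fun p => IsLocalRing.residue_surjective (c p)
  let f : Fin r → M := fun j => ∑ x : G, c' (j, x) • x.1
  let Nm : Matrix (Fin r) (Fin r) A := Matrix.of fun i j => b0.coord i (f j)
  have hNm : IsUnit Nm.det := by
    by_contra hnu
    obtain ⟨J, hJ, hJN⟩ := exists_max_ideal_of_mem_nonunits (a := Nm.det) hnu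
    apply hc ⟨J, hJ⟩
    have h0 : algebraMap A (K ⟨J, hJ⟩) Nm.det = 0 := Ideal.Quotient.eq_zero_iff_mem.mpr hJN
    rw [RingHom.map_det] at h0 ⊢
    rw [← h0]
    congr 1
    ext i j
    simp only [Mx, co, Nm, f, RingHom.mapMatrix_apply, Matrix.map_apply, Matrix.of_apply]
    rw [GrpdLib.EqvRel.eval_genMatrix (algebraMap A (K ⟨J, hJ⟩))
      (fun i (x : G) => b0.coord i x.1)]
    simp only [map_sum]
    refine Finset.sum_congr rfl fun x _ => ?_
    rw [← IsScalarTower.algebraMap_smul A (c' (j, x)) x.1, map_smul, smul_eq_mul, map_mul,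
      ← hc' (j, x), mul_comm]
    rfl
  let e : (Fin r → A) ≃ₗ[A] M :=
    (Matrix.toLinearEquiv' Nm (Matrix.invertibleOfIsUnitDet Nm hNm)).trans b0.equivFun.symm
  refine ⟨Module.Basis.ofEquivFun e.symm, fun j => ?_⟩
  have hej : Module.Basis.ofEquivFun e.symm j = f j := by
    rw [Module.Basis.coe_ofEquivFun]
    show e (Pi.single j 1) = _
    apply b0.equivFun.injective
    ext i
    rw [show e (Pi.single j 1) = b0.equivFun.symm
      (Matrix.toLinearEquiv' Nm (Matrix.invertibleOfIsUnitDet Nm hNm) (Pi.single j 1)) from rfl,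
      LinearEquiv.apply_symm_apply]
    show Matrix.toLin' Nm (Pi.single j 1) i = _
    simp [Nm, Matrix.toLin'_apply, Matrix.mulVec_single]
  rw [hej]
  exact N.sum_mem fun x _ => N.smul_mem _ (hGsub x.2)

end Groth.Agent.S5213
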