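import Groth.Statements.S5214
import Groth.Agent.DescLib.UEE
-- import your own Groth.Agent.* helpers here

set_option autoImplicit false
set_option linter.style.haveILetI false
open CategoryTheory CategoryTheory.Limits
universe w v₁ u₁
open DescCat

namespace Groth.Agent.S5214

/-- In a category with pullbacks and binary products: the product `u × u'` of two universal effective
epimorphisms (morphisms all of whose base changes are effective epimorphisms) is a universal
effective epimorphism. -/
theorem result {C : Type u₁} [Category.{v₁} C] [HasPullbacks C] [HasBinaryProducts C]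
    {X Y X' Y' : C} (u : X ⟶ Y) (u' : X' ⟶ Y')
    (hu : (MorphismProperty.universally (fun (A B : C) (p : A ⟶ B) => EffectiveEpi p)) u) (hu' : (MorphismProperty.universally (fun (A B : C) (p : A ⟶ B) => EffectiveEpi p)) u') :
    (MorphismProperty.universally (fun (A B : C) (p : A ⟶ B) => EffectiveEpi p)) (prod.map u u') := by
  rw [DescLib.uee_iff] at hu hu' ⊢
  refine (Sheaf.canonicalTopology C).superset_covering ?_ ((Sheaf.canonicalTopology C).intersection_covering
    ((Sheaf.canonicalTopology C).pullback_stable prod.fst hu)
    ((Sheaf.canonicalTopology C).pullback_stable prod.snd hu'))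
  rintro Z z ⟨h₁, h₂⟩
  obtain ⟨a, ha⟩ := (DescLib.mem_sv u _).1 h₁
  obtain ⟨b, hb⟩ := (DescLib.mem_sv u' _).1 h₂
  exact (DescLib.mem_sv _ _).2 ⟨prod.lift a b, prod.hom_ext (by rw [Category.assoc, prod.map_fst, prod.lift_fst_assoc]; exact ha) (by rw [Category.assoc, prod.map_snd, prod.lift_snd_assoc]; exact hb)⟩

end Groth.Agent.S5214
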