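import Groth.Statements.S5215
import Groth.Agent.DescLib.UEE
-- import your own Groth.Agent.* helpers here

set_option autoImplicit false
set_option linter.style.haveILetI false
open CategoryTheory CategoryTheory.Limits
universe w v₁ u₁
open DescCat

namespace Groth.Agent.S5215

/-- In a category with pullbacks: for a universally effective equivalence relation `p₁, p₂ : R ⇉ X` with
quotient map `π : X ⟶ X/R` and a morphism `g` out of the quotient, `g` is a monomorphism if and only
if `R` is the kernel pair of `π ≫ g`. -/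
theorem result {C : Type u₁} [Category.{v₁} C] [HasPullbacks C]
    {R X Z : C} {p₁ p₂ : R ⟶ X} (e : UniversallyEffectiveEquivalenceRelation p₁ p₂)
    (f : X ⟶ Z) (g : e.B ⟶ Z) (hg : e.π ≫ g = f) :
    Mono g ↔ IsKernelPair f p₁ p₂ := by
  subst hg
  refine ⟨fun hm => e.isKernelPair.comp_of_mono, fun hk => ⟨fun {W} a b hab => ?_⟩⟩
  have hπ := (DescLib.uee_iff e.π).1 e.universally_effectiveEpi_π
  refine DescLib.hom_ext ((Sheaf.canonicalTopology C).intersection_covering
    ((Sheaf.canonicalTopology C).pullback_stable a hπ) ((Sheaf.canonicalTopology C).pullback_stable b hπ)) ?_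
  rintro V v ⟨h₁, h₂⟩
  obtain ⟨x, hx⟩ := (DescLib.mem_sv _ _).1 h₁
  obtain ⟨y, hy⟩ := (DescLib.mem_sv _ _).1 h₂
  obtain ⟨r, hr₁, hr₂⟩ := hk.lift' x y (by rw [reassoc_of% hx, reassoc_of% hy, hab])
  rw [← hx, ← hy, ← hr₁, ← hr₂, Category.assoc, Category.assoc, e.isKernelPair.w]

end Groth.Agent.S5215
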